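import Mathlib
import Cfsg.Statements.S0673

set_option autoImplicit false
set_option linter.unusedSectionVars false
open Cfsg

namespace Cfsg.Agent.S0673

open Polynomial

variable {p : ℕ} [Fact p.Prime] {K : Type*} [Field K] [CharP K p]

/-- the difference operator `(D f) j = f (j - 1) - f j` -/
def D (p : ℕ) (K : Type*) [Field K] : (ZMod p → K) →ₗ[K] (ZMod p → K) where
  toFun f j := f (j - 1) - f j
  map_add' f g := by funext j; simp only [Pi.add_apply]; ring
  map_smul' c f := by funext j; simp only [Pi.smul_apply, smul_eq_mul, RingHom.id_apply]; ring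

theorem D_apply (f : ZMod p → K) (j : ZMod p) : D p K f j = f (j - 1) - f j := rfl

/-- evaluation of polynomials at the points of `ZMod p` -/
def ev (p : ℕ) (K : Type*) [Field K] : K[X] →ₗ[K] (ZMod p → K) where
  toFun P j := P.eval (ZMod.cast j : K)
  map_add' P Q := by funext j; simp
  map_smul' c P := by funext j; simp

theorem ev_apply (P : K[X]) (j : ZMod p) : ev p K P j = P.eval (ZMod.cast j : K) := rfl

theorem cast_injective : Function.Injective (fun j : ZMod p => (ZMod.cast j : K)) := by
  intro a b h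
  exact ZMod.castHom_injective K h

/-- a polynomial of degree `< p` vanishing on `ZMod p` is zero -/
theorem eq_zero_of_ev_eq_zero (P : K[X]) (hdeg : P.degree < p) (h : ev p K P = 0) : P = 0 := by
  have : NeZero p := ⟨(Fact.out : p.Prime).ne_zero⟩
  by_cases hP : P = 0
  · exact hP
  · apply eq_zero_of_natDegree_lt_card_of_eval_eq_zero P (cast_injective (p := p) (K := K))
    · intro j
      exact congrFun h j
    · rw [ZMod.card]
      exact (natDegree_lt_iff_degree_lt hP).mpr hdeg

/-- the space of polynomial functions of degree `< r` -/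
noncomputable def Vr (p : ℕ) (K : Type*) [Field K] (r : ℕ) : Submodule K (ZMod p → K) :=
  LinearMap.range ((ev p K).domRestrict (degreeLT K r))

theorem mem_Vr (r : ℕ) (f : ZMod p → K) :
    f ∈ Vr p K r ↔ ∃ P : K[X], P.degree < r ∧ ∀ j : ZMod p, f j = P.eval (ZMod.cast j : K) := by
  constructor
  · rintro ⟨⟨P, hP⟩, rfl⟩
    exact ⟨P, mem_degreeLT.mp hP, fun j => rfl⟩
  · rintro ⟨P, hP, hf⟩
    refine ⟨⟨P, mem_degreeLT.mpr hP⟩, ?_⟩
    funext j
    exact (hf j).symm

theorem finrank_Vr (r : ℕ) (hr : r ≤ p) : Module.finrank K (Vr p K r) = r := by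
  have hinj : Function.Injective ((ev p K).domRestrict (degreeLT K r)) := by
    rw [injective_iff_map_eq_zero]
    rintro ⟨P, hP⟩ h
    apply Subtype.ext
    apply eq_zero_of_ev_eq_zero P _ h
    exact lt_of_lt_of_le (mem_degreeLT.mp hP) (by exact_mod_cast hr)
  rw [Vr, LinearMap.finrank_range_of_inj hinj, (degreeLTEquiv K r).finrank_eq]
  simp

/-- `D` lowers the degree -/
theorem D_Vr (r : ℕ) (f : ZMod p → K) (hf : f ∈ Vr p K (r + 1)) : D p K f ∈ Vr p K r := by
  rw [mem_Vr] at hf ⊢
  obtain ⟨P, hP, hf⟩ := hf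
  refine ⟨P.comp (X - C 1) - P, ?_, ?_⟩
  · by_cases hP0 : P = 0
    · rw [hP0, zero_comp, sub_zero, degree_zero]
      exact WithBot.bot_lt_coe _
    · have hPr : P.degree ≤ r := by
        have hnat : P.natDegree < r + 1 := (natDegree_lt_iff_degree_lt hP0).mpr hP
        exact degree_le_of_natDegree_le (Nat.lt_succ_iff.mp hnat)
      have hnd : (X - C (1 : K)).natDegree ≠ 0 := by rw [natDegree_X_sub_C]; exact one_ne_zero
      have hc0 : P.comp (X - C 1) ≠ 0 := by
        intro h
        have := congrArg natDegree h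
        rw [natDegree_comp, natDegree_X_sub_C, mul_one, natDegree_zero] at this
        have hlc : (P.comp (X - C 1)).leadingCoeff = P.leadingCoeff := by
          rw [leadingCoeff_comp hnd, leadingCoeff_X_sub_C, one_pow, mul_one]
        rw [h, leadingCoeff_zero] at hlc
        exact hP0 (leadingCoeff_eq_zero.mp hlc.symm)
      have hdeg : (P.comp (X - C 1)).degree = P.degree := by
        rw [degree_eq_natDegree hc0, degree_eq_natDegree hP0, natDegree_comp, natDegree_X_sub_C,
          mul_one]
      have hlc : (P.comp (X - C 1)).leadingCoeff = P.leadingCoeff := by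
        rw [leadingCoeff_comp hnd, leadingCoeff_X_sub_C, one_pow, mul_one]
      have := degree_sub_lt_right hdeg hP0 hlc
      exact lt_of_lt_of_le this hPr
  · intro j
    rw [D_apply, hf, hf, eval_sub, eval_comp, eval_sub, eval_X, eval_C, ZMod.cast_sub',
      ZMod.cast_one']

theorem Vr_zero : Vr p K 0 = ⊥ := by
  rw [eq_bot_iff]
  intro f hf
  rw [mem_Vr] at hf
  obtain ⟨P, hP, hf⟩ := hf
  have hP0 : P = 0 := by
    rw [← degree_eq_bot]
    have : P.degree < ((0 : ℕ) : WithBot ℕ) := hP
    exact Nat.WithBot.lt_zero_iff.mp (by exact_mod_cast this)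
  rw [Submodule.mem_bot]
  funext j
  rw [hf j, hP0, eval_zero]
  rfl

/-- (E) polynomial functions of degree `< r` are killed by `D ^ r` -/
theorem Vr_le_ker (r : ℕ) : Vr p K r ≤ LinearMap.ker ((D p K) ^ r) := by
  induction r with
  | zero => rw [Vr_zero]; exact bot_le
  | succ r ih =>
    intro f hf
    rw [LinearMap.mem_ker, pow_succ, Module.End.mul_apply]
    exact LinearMap.mem_ker.mp (ih (D_Vr r f hf))

/-- (1) the kernel of `D` consists of constant functions -/
theorem ker_D_le : LinearMap.ker (D p K) ≤ Vr p K 1 := by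
  intro f hf
  rw [LinearMap.mem_ker] at hf
  have hstep : ∀ j : ZMod p, f (j - 1) = f j := by
    intro j
    have := congrFun hf j
    rw [D_apply] at this
    exact sub_eq_zero.mp this
  have hnat : ∀ n : ℕ, f (n : ZMod p) = f 0 := by
    intro n
    induction n with
    | zero => simp
    | succ n ih =>
      rw [← ih, ← hstep ((n + 1 : ℕ) : ZMod p)]
      congr 1
      push_cast
      ring
  have hconst : ∀ j : ZMod p, f j = f 0 := by
    intro j
    have : NeZero p := ⟨(Fact.out : p.Prime).ne_zero⟩
    rw [← ZMod.natCast_zmod_val j]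
    exact hnat _
  rw [mem_Vr]
  refine ⟨C (f 0), ?_, fun j => ?_⟩
  · exact lt_of_le_of_lt degree_C_le (by exact_mod_cast zero_lt_one)
  · rw [eval_C, hconst j]

theorem finrank_ker_D_le : Module.finrank K (LinearMap.ker (D p K)) ≤ 1 := by
  have : NeZero p := ⟨(Fact.out : p.Prime).ne_zero⟩
  calc Module.finrank K (LinearMap.ker (D p K)) ≤ Module.finrank K (Vr p K 1) :=
        Submodule.finrank_mono ker_D_le
    _ = 1 := finrank_Vr 1 (Fact.out : p.Prime).one_lt.le

/-- (2) the kernel of `D ^ r` has dimension at most `r` -/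
theorem finrank_ker_pow_le (r : ℕ) : Module.finrank K (LinearMap.ker ((D p K) ^ r)) ≤ r := by
  have : NeZero p := ⟨(Fact.out : p.Prime).ne_zero⟩
  induction r with
  | zero =>
    rw [pow_zero, Module.End.one_eq_id, LinearMap.ker_id, finrank_bot]
  | succ r ih =>
    let A := LinearMap.ker ((D p K) ^ (r + 1))
    let φ : A →ₗ[K] (ZMod p → K) := ((D p K) ^ r).domRestrict A
    have h1 := LinearMap.finrank_range_add_finrank_ker φ
    have h2 : Module.finrank K (LinearMap.range φ) ≤ 1 := by
      refine le_trans (Submodule.finrank_mono ?_) finrank_ker_D_le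
      rintro _ ⟨a, rfl⟩
      rw [LinearMap.mem_ker]
      have ha : ((D p K) ^ (r + 1)) (a : ZMod p → K) = 0 := LinearMap.mem_ker.mp a.2
      rw [pow_succ', Module.End.mul_apply] at ha
      exact ha
    have h3 : Module.finrank K (LinearMap.ker φ) ≤
        Module.finrank K (LinearMap.ker ((D p K) ^ r)) := by
      let ψ : LinearMap.ker φ →ₗ[K] LinearMap.ker ((D p K) ^ r) :=
        { toFun := fun a => ⟨((a : A) : ZMod p → K), LinearMap.mem_ker.mpr
            (LinearMap.mem_ker.mp a.2)⟩
          map_add' := fun a b => rfl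
          map_smul' := fun c a => rfl }
      apply LinearMap.finrank_le_finrank_of_injective (f := ψ)
      intro a b hab
      apply Subtype.ext
      apply Subtype.ext
      have := congrArg Subtype.val hab
      exact this
    have h1' : Module.finrank K (LinearMap.range φ) + Module.finrank K (LinearMap.ker φ) =
        Module.finrank K (LinearMap.ker ((D p K) ^ (r + 1))) := h1
    omega

/-- Translation-invariant subspaces of the functions on `ZMod p`, main argument. -/
theorem key (W : Submodule K (ZMod p → K)) (hW : ∀ f ∈ W, (fun j => f (j - 1)) ∈ W) :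
    W = Vr p K (Module.finrank K W) ∧ Module.finrank K W ≤ p := by
  have : NeZero p := ⟨(Fact.out : p.Prime).ne_zero⟩
  have hrp : Module.finrank K W ≤ p := by
    have := Submodule.finrank_le W
    rwa [Module.finrank_fintype_fun_eq_card, ZMod.card] at this
  refine ⟨?_, hrp⟩
  set r := Module.finrank K W with hr
  have hW' : ∀ f ∈ W, D p K f ∈ W := by
    intro f hf
    have : D p K f = (fun j => f (j - 1)) - f := rfl
    rw [this]
    exact W.sub_mem (hW f hf) hf
  -- `D ^ p = 0`
  have hVp : Vr p K p = ⊤ := by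
    apply Submodule.eq_top_of_finrank_eq
    rw [finrank_Vr p le_rfl, Module.finrank_fintype_fun_eq_card, ZMod.card]
  have hDp : ∀ f : ZMod p → K, ((D p K) ^ p) f = 0 := by
    intro f
    have : f ∈ Vr p K p := by rw [hVp]; trivial
    exact LinearMap.mem_ker.mp (Vr_le_ker p this)
  -- `W ≤ ker (D ^ r)`
  let Dw : Module.End K W := (D p K).restrict hW'
  have hDw : ∀ (n : ℕ) (w : W), ((Dw ^ n) w : ZMod p → K) = ((D p K) ^ n) (w : ZMod p → K) := by
    intro n w
    rw [Module.End.pow_restrict]
    rfl
  have hker : LinearMap.ker (Dw ^ p) = ⊤ := by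
    rw [eq_top_iff]
    intro w _
    rw [LinearMap.mem_ker]
    apply Subtype.ext
    rw [hDw, hDp]
    rfl
  have hker' : LinearMap.ker (Dw ^ r) = ⊤ := by
    rw [eq_top_iff, ← hker]
    exact Module.End.ker_pow_le_ker_pow_finrank Dw p
  have hWle : W ≤ LinearMap.ker ((D p K) ^ r) := by
    intro w hw
    have : (⟨w, hw⟩ : W) ∈ LinearMap.ker (Dw ^ r) := by rw [hker']; trivial
    rw [LinearMap.mem_ker] at this ⊢
    have h2 := hDw r ⟨w, hw⟩
    rw [this] at h2
    exact h2.symm
  have hVeq : Vr p K r = LinearMap.ker ((D p K) ^ r) := by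
    apply Submodule.eq_of_le_of_finrank_le (Vr_le_ker r)
    rw [finrank_Vr r hrp]
    exact finrank_ker_pow_le r
  rw [← hVeq] at hWle
  apply Submodule.eq_of_le_of_finrank_le hWle
  rw [finrank_Vr r hrp]

/-- In characteristic `p`, the translation-invariant subspaces of the space of functions on `ZMod p` are exactly the spaces of polynomial functions of degree less than `r`, one for each `r ≤ p`, of dimension `r`. -/
theorem result {p : ℕ} [Fact p.Prime] {K : Type*} [Field K] [CharP K p] (W : Submodule K (ZMod p → K)) (hW : ∀ f ∈ W, (fun j => f (j - 1)) ∈ W) : ∃ r : ℕ, r ≤ p ∧ Module.finrank K W = r ∧ ∀ f : ZMod p → K, f ∈ W ↔ ∃ P : Polynomial K, P.degree < r ∧ ∀ j : ZMod p, f j = P.eval (ZMod.cast j : K) := by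
  obtain ⟨hWeq, hrp⟩ := key W hW
  refine ⟨Module.finrank K W, hrp, rfl, fun f => ?_⟩
  rw [← mem_Vr, ← hWeq]

end Cfsg.Agent.S0673
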