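import Mathlib
import Cfsg.Statements.S0672

set_option autoImplicit false
open Cfsg

namespace Cfsg.Agent.S0672

open MulAction

section flag

variable {G : Type*} [Group G] {Ω : Type*} [Fintype Ω] [DecidableEq Ω] [MulAction G Ω]

/-- a pair of distinct points as a 2-subset -/
def pair (y z : Ω) (h : y ≠ z) : Set.powersetCard Ω 2 :=
  ⟨{y, z}, by rw [Set.powersetCard.mem_iff]; exact Finset.card_pair h⟩

theorem coe_pair (y z : Ω) (h : y ≠ z) : ((pair y z h : Set.powersetCard Ω 2) : Finset Ω) = {y, z} :=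
  rfl

theorem smul_pair (g : G) (y z : Ω) (h : y ≠ z) :
    g • pair y z h = pair (g • y) (g • z) (fun h' => h (smul_left_cancel g h')) := by
  apply Subtype.ext
  rw [Set.powersetCard.coe_smul, coe_pair, coe_pair, Finset.smul_finset_insert,
    Finset.smul_finset_singleton]

theorem pair_eq_pair (u v b c : Ω) (huv : u ≠ v) (hbc : b ≠ c)
    (h : pair u v huv = pair b c hbc) : (u = b ∧ v = c) ∨ (u = c ∧ v = b) := by
  have h' : ({u, v} : Finset Ω) = {b, c} := congrArg Subtype.val h
  have hu : u ∈ ({b, c} : Finset Ω) := by rw [← h']; simp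
  have hv : v ∈ ({b, c} : Finset Ω) := by rw [← h']; simp
  simp only [Finset.mem_insert, Finset.mem_singleton] at hu hv
  rcases hu with rfl | rfl
  · rcases hv with rfl | rfl
    · exact absurd rfl huv
    · exact Or.inl ⟨rfl, rfl⟩
  · rcases hv with rfl | rfl
    · exact Or.inr ⟨rfl, rfl⟩
    · exact absurd rfl huv

theorem exists_pair (B : Set.powersetCard Ω 2) : ∃ (y z : Ω) (h : y ≠ z), B = pair y z h := by
  have hB : (B : Finset Ω).card = 2 := Set.powersetCard.mem_iff.mp B.2
  obtain ⟨y, z, hyz, hB'⟩ := Finset.card_eq_two.mp hB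
  exact ⟨y, z, hyz, Subtype.ext hB'⟩

/-- transitivity on (point, disjoint pair) flags gives triple transitivity when point stabilisers
have even order and the action is faithful -/
theorem three_trans_of_flag [Finite G] [FaithfulSMul G Ω]
    (heven : ∀ a : Ω, Even (Nat.card (stabilizer G a)))
    (hflag : ∀ (x x' : Ω) (B B' : Set.powersetCard Ω 2), x ∉ (B : Finset Ω) →
      x' ∉ (B' : Finset Ω) → ∃ g : G, g • x = x' ∧ g • B = B') :
    IsMultiplyPretransitive G Ω 3 := by
  -- swapping two points while fixing a third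
  have hswap : ∀ b1 b2 b3 : Ω, b1 ≠ b2 → b1 ≠ b3 → b2 ≠ b3 →
      ∃ t : G, t • b1 = b1 ∧ t • b2 = b3 ∧ t • b3 = b2 := by
    intro b1 b2 b3 h12 h13 h23
    obtain ⟨t0, ht0⟩ := exists_prime_orderOf_dvd_card' 2 (heven b1).two_dvd
    have ht0b : (t0 : G) • b1 = b1 := t0.2
    have ht0ord : orderOf (t0 : G) = 2 := by
      rw [← ht0]
      exact Subgroup.orderOf_coe t0
    have ht0ne : (t0 : G) ≠ 1 := by
      intro h
      rw [h, orderOf_one] at ht0ord
      omega
    have ht0sq : (t0 : G) * (t0 : G) = 1 := by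
      rw [← pow_two, ← ht0ord]
      exact pow_orderOf_eq_one _
    obtain ⟨y, hy⟩ : ∃ y : Ω, (t0 : G) • y ≠ y := by
      by_contra hcon
      push Not at hcon
      apply ht0ne
      apply FaithfulSMul.eq_of_smul_eq_smul (α := Ω)
      intro a
      rw [hcon a, one_smul]
    set z := (t0 : G) • y with hz
    have htz : (t0 : G) • z = y := by
      rw [hz, ← mul_smul, ht0sq, one_smul]
    have hyb : y ≠ b1 := by
      intro h
      apply hy
      rw [hz, h, ht0b]
    have hzb : z ≠ b1 := by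
      intro h
      apply hyb
      rw [← htz, h, ht0b]
    have hyz : y ≠ z := fun h => hy h.symm
    have hb1 : b1 ∉ ((pair y z hyz : Set.powersetCard Ω 2) : Finset Ω) := by
      rw [coe_pair]
      simp only [Finset.mem_insert, Finset.mem_singleton, not_or]
      exact ⟨Ne.symm hyb, Ne.symm hzb⟩
    have hb1' : b1 ∉ ((pair b2 b3 h23 : Set.powersetCard Ω 2) : Finset Ω) := by
      rw [coe_pair]
      simp only [Finset.mem_insert, Finset.mem_singleton, not_or]
      exact ⟨h12, h13⟩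
    obtain ⟨g1, hg1b, hg1p⟩ := hflag b1 b1 _ _ hb1 hb1'
    rw [smul_pair] at hg1p
    have hg1inv : g1⁻¹ • b1 = b1 := by
      rw [inv_smul_eq_iff, hg1b]
    refine ⟨g1 * t0 * g1⁻¹, ?_, ?_, ?_⟩
    · rw [mul_smul, mul_smul, hg1inv, ht0b, hg1b]
    · rcases pair_eq_pair _ _ _ _ _ _ hg1p with ⟨h1, h2⟩ | ⟨h1, h2⟩
      · rw [mul_smul, mul_smul, ← h1, inv_smul_smul, ← hz, h2]
      · rw [mul_smul, mul_smul, ← h2, inv_smul_smul, htz, h1]
    · rcases pair_eq_pair _ _ _ _ _ _ hg1p with ⟨h1, h2⟩ | ⟨h1, h2⟩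
      · rw [mul_smul, mul_smul, ← h2, inv_smul_smul, htz, h1]
      · rw [mul_smul, mul_smul, ← h1, inv_smul_smul, ← hz, h2]
  have key : ∀ a1 a2 a3 b1 b2 b3 : Ω, a1 ≠ a2 → a1 ≠ a3 → a2 ≠ a3 → b1 ≠ b2 → b1 ≠ b3 →
      b2 ≠ b3 → ∃ g : G, g • a1 = b1 ∧ g • a2 = b2 ∧ g • a3 = b3 := by
    intro a1 a2 a3 b1 b2 b3 ha12 ha13 ha23 hb12 hb13 hb23
    have ha1 : a1 ∉ ((pair a2 a3 ha23 : Set.powersetCard Ω 2) : Finset Ω) := by
      rw [coe_pair]
      simp only [Finset.mem_insert, Finset.mem_singleton, not_or]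
      exact ⟨ha12, ha13⟩
    have hb1 : b1 ∉ ((pair b2 b3 hb23 : Set.powersetCard Ω 2) : Finset Ω) := by
      rw [coe_pair]
      simp only [Finset.mem_insert, Finset.mem_singleton, not_or]
      exact ⟨hb12, hb13⟩
    obtain ⟨g0, hg0a, hg0p⟩ := hflag a1 b1 _ _ ha1 hb1
    rw [smul_pair] at hg0p
    rcases pair_eq_pair _ _ _ _ _ _ hg0p with ⟨h1, h2⟩ | ⟨h1, h2⟩
    · exact ⟨g0, hg0a, h1, h2⟩
    · obtain ⟨t, ht1, ht2, ht3⟩ := hswap b1 b2 b3 hb12 hb13 hb23
      refine ⟨t * g0, ?_, ?_, ?_⟩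
      · rw [mul_smul, hg0a, ht1]
      · rw [mul_smul, h1, ht3]
      · rw [mul_smul, h2, ht2]
  refine ⟨fun x y => ?_⟩
  obtain ⟨g, h0, h1, h2⟩ := key (x 0) (x 1) (x 2) (y 0) (y 1) (y 2)
    (x.injective.ne (by decide)) (x.injective.ne (by decide)) (x.injective.ne (by decide))
    (y.injective.ne (by decide)) (y.injective.ne (by decide)) (y.injective.ne (by decide))
  refine ⟨g, ?_⟩
  ext i
  rw [Function.Embedding.smul_apply]
  fin_cases i
  · exact h0
  · exact h1
  · exact h2

end flag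

section kernel

variable {G : Type*} [Group G] {K : Type*} [Field K] {Ω : Type*} [Fintype Ω] [DecidableEq Ω]
  [MulAction G Ω]

/-- the linear map with kernel `k` -/
noncomputable def kerMap (k : Ω → Set.powersetCard Ω 2 → K) :
    (Ω → K) →ₗ[K] (Set.powersetCard Ω 2 → K) where
  toFun v := fun B => ∑ x, k x B * v x
  map_add' v w := by
    funext B
    simp [mul_add, Finset.sum_add_distrib]
  map_smul' c v := by
    funext B
    simp [Finset.mul_sum, mul_left_comm]

theorem kerMap_apply (k : Ω → Set.powersetCard Ω 2 → K) (v : Ω → K)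
    (B : Set.powersetCard Ω 2) : kerMap k v B = ∑ x, k x B * v x := rfl

theorem kerMap_equivariant (k : Ω → Set.powersetCard Ω 2 → K)
    (hk : ∀ (g : G) x B, k (g • x) (g • B) = k x B) (g : G) (v : Ω → K) :
    kerMap k (Cfsg.permRep K G Ω g v) =
      Cfsg.permRep K G (Set.powersetCard Ω 2) g (kerMap k v) := by
  funext B
  show ∑ x, k x B * v (g⁻¹ • x) = ∑ x, k x (g⁻¹ • B) * v x
  rw [← Equiv.sum_comp (MulAction.toPerm g) (fun x => k x B * v (g⁻¹ • x))]
  apply Finset.sum_congr rfl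
  intro x _
  simp only [MulAction.toPerm_apply, inv_smul_smul]
  congr 1
  have := hk g⁻¹ (g • x) B
  rw [inv_smul_smul] at this
  exact this.symm

end kernel

/-- Let a finite group act faithfully and doubly transitively with point stabilisers of even order, and let `K` have characteristic `p` dividing the degree. If the heart of the permutation module admits no non-zero equivariant map to the permutation module on unordered pairs (phrased: every intertwining map from the sum-zero functions vanishing on the constants is zero), the action is triply transitive. -/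
theorem result {G : Type*} [Group G] [Finite G] {K : Type*} [Field K] {p : ℕ} [Fact p.Prime] [CharP K p] {Ω : Type*} [Fintype Ω] [DecidableEq Ω] [MulAction G Ω] [FaithfulSMul G Ω] (h2 : MulAction.IsMultiplyPretransitive G Ω 2) (hp : p ∣ Fintype.card Ω) (heven : ∀ a : Ω, Even (Nat.card (MulAction.stabilizer G a))) (h : ∀ f : Representation.IntertwiningMap (Cfsg.permSumZero K G Ω).toRepresentation (Cfsg.permRep K G (Set.powersetCard Ω 2)), (∀ v : (Cfsg.permSumZero K G Ω).toSubmodule, (v : Ω → K) ∈ (Cfsg.permConstants K G Ω).toSubmodule → f v = 0) → f = 0) : MulAction.IsMultiplyPretransitive G Ω 3 := by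
  classical
  by_cases hflag : ∀ (x x' : Ω) (B B' : Set.powersetCard Ω 2), x ∉ (B : Finset Ω) →
      x' ∉ (B' : Finset Ω) → ∃ g : G, g • x = x' ∧ g • B = B'
  · exact three_trans_of_flag heven hflag
  exfalso
  push Not at hflag
  obtain ⟨x1, x2, B1, B2, hx1, hx2, hno⟩ := hflag
  haveI : IsPretransitive G (Set.powersetCard Ω 2) :=
    Set.powersetCard.isPretransitive_of_isMultiplyPretransitive G h2
  let O : Ω → Set.powersetCard Ω 2 → Ω → Set.powersetCard Ω 2 → Prop :=
    fun x0 B0 x B => ∃ g : G, g • x0 = x ∧ g • B0 = B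
  have hOinv : ∀ x0 B0 (g : G) x B, O x0 B0 (g • x) (g • B) ↔ O x0 B0 x B := by
    intro x0 B0 g x B
    constructor
    · rintro ⟨g', h1, h2⟩
      exact ⟨g⁻¹ * g', by rw [mul_smul, h1, inv_smul_smul], by rw [mul_smul, h2, inv_smul_smul]⟩
    · rintro ⟨g', h1, h2⟩
      exact ⟨g * g', by rw [mul_smul, h1], by rw [mul_smul, h2]⟩
  have hOnot : ∀ (x0 : Ω) (B0 : Set.powersetCard Ω 2), x0 ∉ (B0 : Finset Ω) →
      ∀ (x : Ω) (B : Set.powersetCard Ω 2), O x0 B0 x B → x ∉ (B : Finset Ω) := by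
    rintro x0 B0 hx0 x B ⟨g, rfl, rfl⟩
    rw [Set.powersetCard.coe_smul, Finset.smul_mem_smul_finset_iff]
    exact hx0
  let k1 : Ω → Set.powersetCard Ω 2 → K := fun x B => if O x1 B1 x B then 1 else 0
  let k2 : Ω → Set.powersetCard Ω 2 → K := fun x B => if O x2 B2 x B then 1 else 0
  have hk1inv : ∀ (g : G) x B, k1 (g • x) (g • B) = k1 x B := by
    intro g x B
    simp only [k1, hOinv]
  have hk2inv : ∀ (g : G) x B, k2 (g • x) (g • B) = k2 x B := by
    intro g x B
    simp only [k2, hOinv]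
  have hnconst : ∀ (k : Ω → Set.powersetCard Ω 2 → K),
      (∀ (g : G) x B, k (g • x) (g • B) = k x B) → ∀ B B', ∑ x, k x B = ∑ x, k x B' := by
    intro k hk B B'
    obtain ⟨g, rfl⟩ := MulAction.exists_smul_eq G B B'
    rw [← Equiv.sum_comp (MulAction.toPerm g) (fun x => k x (g • B))]
    apply Finset.sum_congr rfl
    intro x _
    exact (hk g x B).symm
  set n1 : K := ∑ x, k1 x B1 with hn1
  set n2 : K := ∑ x, k2 x B1 with hn2
  obtain ⟨a1, a2, ha, hne⟩ : ∃ a1 a2 : K, a1 * n1 + a2 * n2 = 0 ∧ (a1 ≠ 0 ∨ a2 ≠ 0) := by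
    by_cases h0 : n1 = 0 ∧ n2 = 0
    · exact ⟨1, 0, by rw [h0.1]; ring, Or.inl one_ne_zero⟩
    · refine ⟨n2, -n1, by ring, ?_⟩
      by_contra hcon
      push Not at hcon
      exact h0 ⟨neg_eq_zero.mp hcon.2, hcon.1⟩
  let k : Ω → Set.powersetCard Ω 2 → K := fun x B => a1 * k1 x B + a2 * k2 x B
  have hkinv : ∀ (g : G) x B, k (g • x) (g • B) = k x B := by
    intro g x B
    simp only [k, hk1inv, hk2inv]
  have hksum : ∀ B, ∑ x, k x B = 0 := by
    intro B
    simp only [k, Finset.sum_add_distrib, ← Finset.mul_sum]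
    rw [hnconst k1 hk1inv B B1, hnconst k2 hk2inv B B1]
    exact ha
  have hkin : ∀ (y : Ω) (B : Set.powersetCard Ω 2), y ∈ (B : Finset Ω) → k y B = 0 := by
    intro y B hy
    have h1 : ¬ O x1 B1 y B := fun hO => hOnot x1 B1 hx1 y B hO hy
    have h2 : ¬ O x2 B2 y B := fun hO => hOnot x2 B2 hx2 y B hO hy
    simp only [k, k1, k2, if_neg h1, if_neg h2, mul_zero, add_zero]
  -- the intertwining map
  let φ : (Cfsg.permSumZero K G Ω).toSubmodule →ₗ[K] (Set.powersetCard Ω 2 → K) :=
    (kerMap k).comp (Cfsg.permSumZero K G Ω).toSubmodule.subtype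
  let f : Representation.IntertwiningMap (Cfsg.permSumZero K G Ω).toRepresentation
      (Cfsg.permRep K G (Set.powersetCard Ω 2)) :=
    ⟨φ, by
      intro g
      apply LinearMap.ext
      intro v
      exact kerMap_equivariant k hkinv g v.1⟩
  have hf0 : f = 0 := h f (by
    intro v hv
    have hv' : (v : Ω → K) ∈ Submodule.span K {(fun _ => 1 : Ω → K)} := hv
    rw [Submodule.mem_span_singleton] at hv'
    obtain ⟨c, hc⟩ := hv'
    funext B
    show ∑ x, k x B * (v : Ω → K) x = 0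
    rw [← hc]
    simp only [Pi.smul_apply, smul_eq_mul, mul_one]
    rw [← Finset.sum_mul, hksum, zero_mul])
  have hcontra : ∀ (x : Ω) (B : Set.powersetCard Ω 2), x ∉ (B : Finset Ω) → k x B = 0 := by
    intro x B hx
    obtain ⟨y, z, hyz, rfl⟩ := exists_pair B
    have hyB : y ∈ ((pair y z hyz : Set.powersetCard Ω 2) : Finset Ω) := by
      rw [coe_pair]
      simp
    have hxy : x ≠ y := fun h => hx (h ▸ hyB)
    let v : Ω → K := Pi.single x 1 - Pi.single y 1
    have hvS : v ∈ (Cfsg.permSumZero K G Ω).toSubmodule := by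
      show ∑ w, v w = 0
      simp only [v, Pi.sub_apply, Finset.sum_sub_distrib, Finset.sum_pi_single', Finset.mem_univ,
        if_true, sub_self]
    have h1 : f ⟨v, hvS⟩ = 0 := by
      rw [hf0]
      rfl
    have h2 : f ⟨v, hvS⟩ (pair y z hyz) = k x (pair y z hyz) - k y (pair y z hyz) := by
      show ∑ w, k w (pair y z hyz) * v w = _
      simp only [v, Pi.sub_apply, mul_sub, Finset.sum_sub_distrib, Pi.single_apply, mul_ite,
        mul_one, mul_zero, Finset.sum_ite_eq', Finset.mem_univ, if_true]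
    rw [h1, hkin y _ hyB, sub_zero] at h2
    exact h2.symm
  -- evaluate at the two flags
  have hO11 : O x1 B1 x1 B1 := ⟨1, one_smul _ _, one_smul _ _⟩
  have hO22 : O x2 B2 x2 B2 := ⟨1, one_smul _ _, one_smul _ _⟩
  have hO12 : ¬ O x1 B1 x2 B2 := by
    rintro ⟨g, h1, h2⟩
    exact hno g h1 h2
  have hO21 : ¬ O x2 B2 x1 B1 := by
    rintro ⟨g, h1, h2⟩
    apply hno g⁻¹
    · rw [← h1, inv_smul_smul]
    · rw [← h2, inv_smul_smul]
  have e1 := hcontra x1 B1 hx1
  have e2 := hcontra x2 B2 hx2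
  simp only [k, k1, k2, if_pos hO11, if_neg hO21, mul_one, mul_zero, add_zero] at e1
  simp only [k, k1, k2, if_pos hO22, if_neg hO12, mul_one, mul_zero, zero_add] at e2
  rcases hne with h | h
  · exact h e1
  · exact h e2

end Cfsg.Agent.S0672
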