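import Mathlib
import Cfsg.Statements.S0674
import Cfsg.Agent.Helper12.PrimeDegree

set_option autoImplicit false
open Cfsg

namespace Cfsg.Agent.S0674

open Cfsg.Agent.Helper12 Cfsg.Agent.Helper12.PrimeDeg

section general

variable {α : Type*} [Fintype α] [DecidableEq α] {K : Type*} [Field K]

/-- the orthogonal complement for the dot product -/
noncomputable def perp (U : Submodule K (α → K)) : Submodule K (α → K) :=
  (U.dualAnnihilator).map (dotProductEquiv K α).symm.toLinearMap

theorem mem_perp (U : Submodule K (α → K)) (h : α → K) :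
    h ∈ perp U ↔ ∀ f ∈ U, ∑ x, h x * f x = 0 := by
  unfold perp
  constructor
  · rintro ⟨φ, hφ, rfl⟩ f hf
    have h1 := (Submodule.mem_dualAnnihilator φ).mp hφ f hf
    have h2 : dotProductEquiv K α ((dotProductEquiv K α).symm φ) = φ :=
      LinearEquiv.apply_symm_apply _ _
    rw [← h2] at h1
    exact h1
  · intro hh
    refine ⟨dotProductEquiv K α h, ?_, LinearEquiv.symm_apply_apply _ _⟩
    show dotProductEquiv K α h ∈ U.dualAnnihilator
    rw [Submodule.mem_dualAnnihilator]
    intro f hf
    exact hh f hf

theorem finrank_perp (U : Submodule K (α → K)) :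
    Module.finrank K U + Module.finrank K (perp U) = Fintype.card α := by
  unfold perp
  rw [LinearEquiv.finrank_map_eq, Subspace.finrank_add_finrank_dualAnnihilator_eq,
    Module.finrank_fintype_fun_eq_card]

theorem finrank_constants {G : Type*} [Group G] [MulAction G α] [Nonempty α] :
    Module.finrank K (Cfsg.permConstants K G α).toSubmodule = 1 := by
  show Module.finrank K (Submodule.span K {(fun _ => 1 : α → K)}) = 1
  apply finrank_span_singleton
  intro h
  obtain ⟨a⟩ := ‹Nonempty α›
  have := congrFun h a
  simp at this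

theorem finrank_sumZero {G : Type*} [Group G] [MulAction G α] [Nonempty α] :
    Module.finrank K (Cfsg.permSumZero K G α).toSubmodule + 1 = Fintype.card α := by
  let φ : (α → K) →ₗ[K] K := ∑ x, LinearMap.proj x
  have hφ : ∀ f : α → K, φ f = ∑ x, f x := by
    intro f
    simp [φ, LinearMap.sum_apply]
  have hker : (Cfsg.permSumZero K G α).toSubmodule = LinearMap.ker φ := by
    ext f
    rw [LinearMap.mem_ker, hφ]
    rfl
  have hrange : LinearMap.range φ = ⊤ := by
    rw [eq_top_iff]
    intro c _
    obtain ⟨a⟩ := ‹Nonempty α›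
    refine ⟨Pi.single a c, ?_⟩
    rw [hφ]
    simp
  have := LinearMap.finrank_range_add_finrank_ker φ
  rw [hrange, finrank_top, Module.finrank_self, Module.finrank_fintype_fun_eq_card] at this
  rw [hker]
  omega

end general

theorem result {α : Type*} [Fintype α] [DecidableEq α] {p : ℕ} [Fact p.Prime] (hα : Fintype.card α = p) (G : Subgroup (Equiv.Perm α)) [MulAction.IsPretransitive G α] (hG : ¬ Group.IsSolvable G) {K : Type*} [Field K] [CharP K p] (W : Subrepresentation (Cfsg.permRep K G α)) (h₁ : (Cfsg.permConstants K G α).toSubmodule ≤ W.toSubmodule) (h₂ : W.toSubmodule ≤ (Cfsg.permSumZero K G α).toSubmodule) : W = Cfsg.permConstants K G α ∨ W = Cfsg.permSumZero K G α := by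
  by_contra hcon
  push Not at hcon
  obtain ⟨hWC, hWS⟩ := hcon
  apply hG
  have hpp : p.Prime := Fact.out
  have hne : Nonempty α := by
    rw [← Fintype.card_pos_iff, hα]
    exact hpp.pos
  set r := Module.finrank K W.toSubmodule with hr
  have hr1 : 1 < r := by
    have hlt : (Cfsg.permConstants K G α).toSubmodule < W.toSubmodule :=
      lt_of_le_of_ne h₁ (fun h => hWC (Subrepresentation.toSubmodule_injective h).symm)
    have := Submodule.finrank_lt_finrank_of_lt hlt
    rwa [finrank_constants] at this
  have hr2 : r + 1 < p := by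
    have hlt : W.toSubmodule < (Cfsg.permSumZero K G α).toSubmodule :=
      lt_of_le_of_ne h₂ (fun h => hWS (Subrepresentation.toSubmodule_injective h))
    have := Submodule.finrank_lt_finrank_of_lt hlt
    have h2 := finrank_sumZero (α := α) (K := K) (G := G)
    rw [hα] at h2
    omega
  -- an element of order p
  obtain ⟨a⟩ := hne
  have hdvd : p ∣ Nat.card G := by
    have := MulAction.index_stabilizer_of_transitive G a
    rw [Nat.card_eq_fintype_card, hα] at this
    rw [← this]
    exact Subgroup.index_dvd_card _
  obtain ⟨x, hx⟩ := exists_prime_orderOf_dvd_card' p hdvd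
  have hσ : orderOf x.1 = p := by
    rw [← hx]
    exact Subgroup.orderOf_coe x
  obtain ⟨e, he⟩ := exists_labelling hα x.1 hσ
  have hinvW : ∀ g ∈ G, ∀ f ∈ W.toSubmodule, (fun y => f (g y)) ∈ W.toSubmodule := by
    intro g hg f hf
    have := W.apply_mem_toSubmodule ((⟨g, hg⟩ : G)⁻¹) hf
    convert this using 1
    funext y
    show f (g y) = f (((⟨g, hg⟩ : G)⁻¹)⁻¹ • y)
    rw [inv_inv]
    rfl
  by_cases hsm : 2 * r ≤ p + 1
  · exact solvable_of_affine e G
      (affine_of_invariant e x.1 he G x.2 W.toSubmodule hinvW hr1 hsm)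
  · have hinvP : ∀ g ∈ G, ∀ h ∈ perp W.toSubmodule, (fun y => h (g y)) ∈ perp W.toSubmodule := by
      intro g hg h hh
      rw [mem_perp] at hh ⊢
      intro f hf
      have h0 := hh _ (hinvW g⁻¹ (G.inv_mem hg) f hf)
      rw [← h0, ← Equiv.sum_comp g (fun y => h y * f (g⁻¹ y))]
      apply Finset.sum_congr rfl
      intro y _
      simp
    have hfp := finrank_perp W.toSubmodule
    rw [hα] at hfp
    exact solvable_of_affine e G
      (affine_of_invariant e x.1 he G x.2 (perp W.toSubmodule) hinvP (by omega) (by omega))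

end Cfsg.Agent.S0674
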