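import Mathlib
import Cfsg.Statements.S0670
import Cfsg.Agent.Helper12.PGroupFixed

set_option autoImplicit false
open Cfsg

namespace Cfsg.Agent.S0670

open Cfsg.Agent.Helper12

/-- In characteristic `p`, the permutation module of a transitive action of degree `p ^ f` has the line of constant functions as its only irreducible submodule: every non-zero subrepresentation contains it. -/
theorem result {G : Type*} [Group G] [Finite G] {K : Type*} [Field K] {p f : ℕ} [Fact p.Prime] [CharP K p] {Ω : Type*} [Fintype Ω] [MulAction G Ω] [MulAction.IsPretransitive G Ω] (hf : 1 ≤ f) (hcard : Fintype.card Ω = p ^ f) (W : Subrepresentation (Cfsg.permRep K G Ω)) (hW : W.toSubmodule ≠ ⊥) : (Cfsg.permConstants K G Ω).toSubmodule ≤ W.toSubmodule := by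
  obtain ⟨P⟩ : Nonempty (Sylow p G) := inferInstance
  have hP : IsPGroup p (P : Subgroup G) := P.isPGroup'
  have hΩ : Nat.card Ω = p ^ f := by rw [Nat.card_eq_fintype_card, hcard]
  have htrans : ∀ ω : Ω, MulAction.orbit (P : Subgroup G) ω = Set.univ :=
    fun ω => sylow_orbit_eq_univ hΩ P ω
  -- the action of `P` on functions by additive maps
  let act : (P : Subgroup G) →* AddMonoid.End (Ω → K) :=
    { toFun := fun g => (Cfsg.permRep K G Ω (g : G)).toAddMonoidHom
      map_one' := by
        ext v x
        change Cfsg.permRep K G Ω ((1 : (P : Subgroup G)) : G) v x = v x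
        rw [Subgroup.coe_one, map_one]
        rfl
      map_mul' := by
        intro g h
        ext v x
        change Cfsg.permRep K G Ω ((g * h : (P : Subgroup G)) : G) v x =
          Cfsg.permRep K G Ω (g : G) (Cfsg.permRep K G Ω (h : G) v) x
        rw [Subgroup.coe_mul, map_mul]
        rfl }
  have hact : ∀ (g : (P : Subgroup G)) (v : Ω → K), act g v = Cfsg.permRep K G Ω (g : G) v :=
    fun _ _ => rfl
  have hM : ∀ x : Ω → K, p • x = 0 := by
    intro x
    funext y
    rw [Pi.smul_apply, nsmul_eq_mul, CharP.cast_eq_zero K p, zero_mul]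
    rfl
  obtain ⟨w, hwW, hw0⟩ := (Submodule.ne_bot_iff _).mp hW
  obtain ⟨v, hvS, hv0, hvfix⟩ := exists_fixed_ne_zero_closure hP hM act w hw0
  -- `v ∈ W`
  have hvW : v ∈ W.toSubmodule := by
    have hle : AddSubgroup.closure (Set.range fun g : (P : Subgroup G) => act g w) ≤
        W.toSubmodule.toAddSubgroup := by
      rw [AddSubgroup.closure_le]
      rintro _ ⟨g, rfl⟩
      exact W.apply_mem_toSubmodule (g : G) hwW
    exact hle hvS
  -- `v` is constant
  have hconst : ∀ x y : Ω, v x = v y := by
    intro x y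
    have hy : y ∈ MulAction.orbit (P : Subgroup G) x := by rw [htrans x]; trivial
    obtain ⟨g, hg⟩ := hy
    have h1 := congrFun (hvfix g) y
    rw [hact] at h1
    have h2 : Cfsg.permRep K G Ω (g : G) v y = v ((g : G)⁻¹ • y) := rfl
    rw [h2] at h1
    have h3 : (g : G)⁻¹ • y = x := by
      rw [← hg]
      change (g : G)⁻¹ • ((g : G) • x) = x
      rw [inv_smul_smul]
    rw [h3] at h1
    exact h1
  have hx0 : ∃ x0 : Ω, v x0 ≠ 0 := by
    by_contra hcon
    push Not at hcon
    exact hv0 (funext hcon)
  obtain ⟨x0, hx0⟩ := hx0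
  have hcs : (Cfsg.permConstants K G Ω).toSubmodule =
      Submodule.span K {fun _ => (1 : K)} := rfl
  rw [hcs, Submodule.span_singleton_le_iff_mem]
  have h1 : (fun _ => (1 : K)) = (v x0)⁻¹ • v := by
    funext y
    simp only [Pi.smul_apply, smul_eq_mul]
    rw [hconst y x0, inv_mul_cancel₀ hx0]
  rw [h1]
  exact W.toSubmodule.smul_mem _ hvW

end Cfsg.Agent.S0670
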