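import Mathlib
import Cfsg.Statements.S0671
import Cfsg.Agent.S0670
import Cfsg.Agent.S0674

set_option autoImplicit false
open Cfsg

namespace Cfsg.Agent.S0671

section general

variable {G : Type*} [Group G] {K : Type*} [Field K] {Ω : Type*} [Fintype Ω] [MulAction G Ω]

theorem rep_apply (g : G) (f : Ω → K) (x : Ω) : Cfsg.permRep K G Ω g f x = f (g⁻¹ • x) := rfl

/-- the orthogonal complement of a subrepresentation of the permutation module -/
noncomputable def perpRep [DecidableEq Ω] (U : Subrepresentation (Cfsg.permRep K G Ω)) :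
    Subrepresentation (Cfsg.permRep K G Ω) where
  toSubmodule := Cfsg.Agent.S0674.perp U.toSubmodule
  apply_mem_toSubmodule g h hh := by
    rw [Cfsg.Agent.S0674.mem_perp] at hh ⊢
    intro f hf
    have h0 := hh _ (U.apply_mem_toSubmodule g⁻¹ hf)
    rw [← h0]
    refine Fintype.sum_equiv (MulAction.toPerm g⁻¹) _ _ (fun x => ?_)
    simp [rep_apply]

/-- Locality: in characteristic `p`, a proper subrepresentation of the permutation module of a
transitive action of degree `p ^ f` lies in the sum-zero functions. -/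
theorem le_sumZero_of_ne_top [Finite G] [MulAction.IsPretransitive G Ω] {p f : ℕ}
    [Fact p.Prime] [CharP K p] (hf : 1 ≤ f) (hcard : Fintype.card Ω = p ^ f)
    (U : Subrepresentation (Cfsg.permRep K G Ω)) (hU : U.toSubmodule ≠ ⊤) :
    U.toSubmodule ≤ (Cfsg.permSumZero K G Ω).toSubmodule := by
  classical
  have hfin := Cfsg.Agent.S0674.finrank_perp U.toSubmodule
  have hlt : Module.finrank K U.toSubmodule < Module.finrank K (Ω → K) :=
    Submodule.finrank_lt hU
  rw [Module.finrank_fintype_fun_eq_card] at hlt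
  have hpos : 0 < Module.finrank K (Cfsg.Agent.S0674.perp U.toSubmodule) := by omega
  have hne : (perpRep U).toSubmodule ≠ ⊥ := by
    intro h0
    have h1 : Cfsg.Agent.S0674.perp U.toSubmodule = ⊥ := h0
    rw [h1, finrank_bot] at hpos
    exact lt_irrefl 0 hpos
  have hC := Cfsg.Agent.S0670.result hf hcard (perpRep U) hne
  have hone : (fun _ => 1 : Ω → K) ∈ (Cfsg.permConstants K G Ω).toSubmodule :=
    Submodule.subset_span rfl
  have h1 : (fun _ => 1 : Ω → K) ∈ Cfsg.Agent.S0674.perp U.toSubmodule := hC hone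
  rw [Cfsg.Agent.S0674.mem_perp] at h1
  intro u hu
  have := h1 u hu
  simp only [one_mul] at this
  exact this

/-- the Frobenius reciprocity map attached to a vector `s` and a transversal `τ` -/
noncomputable def frob (τ : Ω → G) (s : Ω → K) : (Ω → K) →ₗ[K] (Ω → K) :=
  ∑ x, (LinearMap.proj x : (Ω → K) →ₗ[K] K).smulRight (Cfsg.permRep K G Ω (τ x) s)

theorem frob_apply (τ : Ω → G) (s : Ω → K) (f : Ω → K) :
    frob τ s f = ∑ x, f x • Cfsg.permRep K G Ω (τ x) s := by
  simp [frob, LinearMap.sum_apply]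

theorem rep_eq_of_smul_eq (a : Ω) (s : Ω → K)
    (hs : ∀ g : G, g • a = a → Cfsg.permRep K G Ω g s = s) (g g' : G) (h : g • a = g' • a) :
    Cfsg.permRep K G Ω g s = Cfsg.permRep K G Ω g' s := by
  have h1 : (g'⁻¹ * g) • a = a := by rw [mul_smul, h, inv_smul_smul]
  have h2 := hs _ h1
  have h3 : Cfsg.permRep K G Ω g' (Cfsg.permRep K G Ω (g'⁻¹ * g) s) = Cfsg.permRep K G Ω g s := by
    rw [← Module.End.mul_apply, ← map_mul, mul_inv_cancel_left]
  rw [← h3, h2]

theorem frob_equivariant (a : Ω) (τ : Ω → G) (hτ : ∀ x, τ x • a = x) (s : Ω → K)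
    (hs : ∀ g : G, g • a = a → Cfsg.permRep K G Ω g s = s) (g : G) (f : Ω → K) :
    Cfsg.permRep K G Ω g (frob τ s f) = frob τ s (Cfsg.permRep K G Ω g f) := by
  rw [frob_apply, frob_apply, map_sum]
  refine Fintype.sum_equiv (MulAction.toPerm g) _ _ (fun x => ?_)
  rw [map_smul]
  have h1 : Cfsg.permRep K G Ω g (Cfsg.permRep K G Ω (τ x) s) =
      Cfsg.permRep K G Ω (τ (g • x)) s := by
    rw [← Module.End.mul_apply, ← map_mul]
    apply rep_eq_of_smul_eq a s hs
    rw [mul_smul, hτ, hτ]
  rw [h1]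
  simp [rep_apply]

end general

theorem result {G : Type*} [Group G] [Finite G] {K : Type*} [Field K] {p f : ℕ} [Fact p.Prime] [CharP K p] {Ω : Type*} [Fintype Ω] [MulAction G Ω] [MulAction.IsPretransitive G Ω] (hf : 1 ≤ f) (hcard : Fintype.card Ω = p ^ f) (h : ∀ W W' : Subrepresentation (Cfsg.permRep K G Ω), (Cfsg.permConstants K G Ω).toSubmodule ≤ W.toSubmodule → W.toSubmodule < W'.toSubmodule → W'.toSubmodule ≤ (Cfsg.permSumZero K G Ω).toSubmodule → ∃ g : G, ∃ v ∈ W'.toSubmodule, Cfsg.permRep K G Ω g v - v ∉ W.toSubmodule) : MulAction.IsMultiplyPretransitive G Ω 2 := by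
  classical
  rw [MulAction.is_two_pretransitive_iff]
  by_contra hnot
  push Not at hnot
  obtain ⟨a, b, c0, d0, hab, hcd, hno⟩ := hnot
  obtain ⟨t, ht⟩ := MulAction.exists_smul_eq G c0 a
  have hda : t • d0 ≠ a := by
    intro h1
    rw [← ht] at h1
    exact hcd (smul_left_cancel t h1).symm
  have hno' : ∀ g : G, g • a = a → g • b ≠ t • d0 := by
    intro g hga hgb
    apply hno (t⁻¹ * g)
    · rw [mul_smul, hga, ← ht, inv_smul_smul]
    · rw [mul_smul, hgb, inv_smul_smul]
  set d := t • d0 with hd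
  -- the suborbit
  let Δ : Finset Ω := Finset.univ.filter (fun y => ∃ g : G, g • a = a ∧ g • b = y)
  have hmemΔ : ∀ y, y ∈ Δ ↔ ∃ g : G, g • a = a ∧ g • b = y := by
    intro y
    simp [Δ]
  have hbΔ : b ∈ Δ := (hmemΔ b).mpr ⟨1, one_smul _ _, one_smul _ _⟩
  have hdΔ : d ∉ Δ := by
    rw [hmemΔ]
    rintro ⟨g, hga, hgb⟩
    exact hno' g hga hgb
  have haΔ : a ∉ Δ := by
    rw [hmemΔ]
    rintro ⟨g, hga, hgb⟩
    rw [← hga] at hgb
    exact hab (smul_left_cancel g hgb).symm
  have hΔinv : ∀ g : G, g • a = a → ∀ y, g⁻¹ • y ∈ Δ ↔ y ∈ Δ := by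
    intro g hga y
    rw [hmemΔ, hmemΔ]
    constructor
    · rintro ⟨k, hka, hkb⟩
      exact ⟨g * k, by rw [mul_smul, hka, hga], by rw [mul_smul, hkb, smul_inv_smul]⟩
    · rintro ⟨k, hka, hkb⟩
      refine ⟨g⁻¹ * k, ?_, by rw [mul_smul, hkb]⟩
      rw [mul_smul, hka]
      exact inv_smul_eq_iff.mpr hga.symm
  -- the vector s
  let s : Ω → K := fun y => (if y = a then (Δ.card : K) else 0) - (if y ∈ Δ then 1 else 0)
  have hs_def : ∀ y, s y = (if y = a then (Δ.card : K) else 0) - (if y ∈ Δ then 1 else 0) :=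
    fun y => rfl
  have hs_sum : ∑ y, s y = 0 := by
    simp only [hs_def, Finset.sum_sub_distrib, Finset.sum_ite_eq', Finset.mem_univ, if_true]
    rw [Finset.sum_boole]
    simp
  have hs_fix : ∀ g : G, g • a = a → Cfsg.permRep K G Ω g s = s := by
    intro g hga
    funext y
    rw [rep_apply, hs_def, hs_def]
    have h1 : g⁻¹ • y = a ↔ y = a := by
      rw [inv_smul_eq_iff, hga]
    have h2 := hΔinv g hga y
    simp only [h1, h2]
  have hsS : s ∈ (Cfsg.permSumZero K G Ω).toSubmodule := hs_sum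
  have hsb : s b = -1 := by
    rw [hs_def, if_neg (Ne.symm hab), if_pos hbΔ]
    ring
  have hsd : s d = 0 := by
    rw [hs_def, if_neg hda, if_neg hdΔ]
    ring
  have hsC : s ∉ (Cfsg.permConstants K G Ω).toSubmodule := by
    intro hmem
    have hmem' : s ∈ Submodule.span K {(fun _ => 1 : Ω → K)} := hmem
    rw [Submodule.mem_span_singleton] at hmem'
    obtain ⟨c, hc⟩ := hmem'
    have h1 := congrFun hc b
    have h2 := congrFun hc d
    rw [hsb] at h1
    rw [hsd] at h2
    simp only [Pi.smul_apply, smul_eq_mul, mul_one] at h1 h2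
    rw [h2] at h1
    exact one_ne_zero (neg_eq_zero.mp h1.symm)
  -- a transversal
  have hτex : ∀ x : Ω, ∃ g : G, g • a = x := fun x => MulAction.exists_smul_eq G a x
  choose τ hτ using hτex
  set φ := frob τ s with hφ
  have hφeq := frob_equivariant a τ hτ s hs_fix
  have hφa : φ (Pi.single a 1) = s := by
    rw [hφ, frob_apply, Finset.sum_eq_single a]
    · rw [Pi.single_eq_same, one_smul]
      exact hs_fix _ (hτ a)
    · intro x _ hxa
      rw [Pi.single_eq_of_ne hxa, zero_smul]
    · intro hh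
      exact absurd (Finset.mem_univ a) hh
  have hφS : ∀ f, φ f ∈ (Cfsg.permSumZero K G Ω).toSubmodule := by
    intro f
    rw [hφ, frob_apply]
    apply Submodule.sum_mem
    intro x _
    apply Submodule.smul_mem
    exact (Cfsg.permSumZero K G Ω).apply_mem_toSubmodule _ hsS
  -- constants are fixed and lie in the sum-zero functions
  have hCfix : ∀ g : G, ∀ c ∈ (Cfsg.permConstants K G Ω).toSubmodule,
      Cfsg.permRep K G Ω g c = c := by
    intro g c hc
    have hc' : c ∈ Submodule.span K {(fun _ => 1 : Ω → K)} := hc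
    rw [Submodule.mem_span_singleton] at hc'
    obtain ⟨l, rfl⟩ := hc'
    funext y
    rfl
  have hCS : (Cfsg.permConstants K G Ω).toSubmodule ≤ (Cfsg.permSumZero K G Ω).toSubmodule := by
    intro c hc
    have hc' : c ∈ Submodule.span K {(fun _ => 1 : Ω → K)} := hc
    rw [Submodule.mem_span_singleton] at hc'
    obtain ⟨l, rfl⟩ := hc'
    show ∑ x, (l • (fun _ => 1 : Ω → K)) x = 0
    simp only [Pi.smul_apply, smul_eq_mul, mul_one, Finset.sum_const, Finset.card_univ, hcard,
      nsmul_eq_mul]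
    have : ((p ^ f : ℕ) : K) = 0 := by
      rw [Nat.cast_pow, CharP.cast_eq_zero K p, zero_pow (by omega)]
    rw [this, zero_mul]
  -- the three subrepresentations
  let U : Subrepresentation (Cfsg.permRep K G Ω) :=
    { toSubmodule := (Cfsg.permConstants K G Ω).toSubmodule.comap φ
      apply_mem_toSubmodule := by
        intro g v hv
        show φ (Cfsg.permRep K G Ω g v) ∈ (Cfsg.permConstants K G Ω).toSubmodule
        rw [← hφeq]
        exact (Cfsg.permConstants K G Ω).apply_mem_toSubmodule g hv }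
  let W' : Subrepresentation (Cfsg.permRep K G Ω) :=
    { toSubmodule := (Cfsg.permConstants K G Ω).toSubmodule ⊔ LinearMap.range φ
      apply_mem_toSubmodule := by
        intro g v hv
        rw [Submodule.mem_sup] at hv ⊢
        obtain ⟨c, hc, w, ⟨f0, rfl⟩, rfl⟩ := hv
        refine ⟨c, hc, φ (Cfsg.permRep K G Ω g f0), ⟨_, rfl⟩, ?_⟩
        rw [map_add, hCfix g c hc, hφeq] }
  let W : Subrepresentation (Cfsg.permRep K G Ω) :=
    { toSubmodule := (Cfsg.permConstants K G Ω).toSubmodule ⊔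
        (Cfsg.permSumZero K G Ω).toSubmodule.map φ
      apply_mem_toSubmodule := by
        intro g v hv
        rw [Submodule.mem_sup] at hv ⊢
        obtain ⟨c, hc, w, ⟨f0, hf0, rfl⟩, rfl⟩ := hv
        refine ⟨c, hc, φ (Cfsg.permRep K G Ω g f0),
          ⟨_, (Cfsg.permSumZero K G Ω).apply_mem_toSubmodule g hf0, rfl⟩, ?_⟩
        rw [map_add, hCfix g c hc, hφeq] }
  by_cases hUtop : U.toSubmodule = ⊤
  · have : Pi.single a 1 ∈ U.toSubmodule := by rw [hUtop]; trivial
    have h1 : φ (Pi.single a 1) ∈ (Cfsg.permConstants K G Ω).toSubmodule := this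
    rw [hφa] at h1
    exact hsC h1
  · have hUS := le_sumZero_of_ne_top hf hcard U hUtop
    have hCW : (Cfsg.permConstants K G Ω).toSubmodule ≤ W.toSubmodule := le_sup_left
    have hWW' : W.toSubmodule ≤ W'.toSubmodule :=
      sup_le_sup_left (LinearMap.map_le_range) _
    have hW'S : W'.toSubmodule ≤ (Cfsg.permSumZero K G Ω).toSubmodule := by
      apply sup_le hCS
      rintro _ ⟨f0, rfl⟩
      exact hφS f0
    have hnotlt : ¬ W.toSubmodule < W'.toSubmodule := by
      intro hlt
      obtain ⟨g, v, hv, hnot⟩ := h W W' hCW hlt hW'S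
      apply hnot
      have hv' : v ∈ (Cfsg.permConstants K G Ω).toSubmodule ⊔ LinearMap.range φ := hv
      rw [Submodule.mem_sup] at hv'
      obtain ⟨c, hc, w, ⟨f0, rfl⟩, rfl⟩ := hv'
      have hcalc : Cfsg.permRep K G Ω g (c + φ f0) - (c + φ f0) =
          φ (Cfsg.permRep K G Ω g f0 - f0) := by
        rw [map_add, hCfix g c hc, hφeq, map_sub]
        abel
      rw [hcalc]
      apply Submodule.mem_sup_right
      refine ⟨_, ?_, rfl⟩
      show ∑ x, (Cfsg.permRep K G Ω g f0 - f0) x = 0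
      simp only [Pi.sub_apply, Finset.sum_sub_distrib]
      rw [sub_eq_zero]
      exact Fintype.sum_equiv (MulAction.toPerm g⁻¹) _ _ (fun x => rfl)
    have hW'W : W'.toSubmodule ≤ W.toSubmodule := by
      by_contra hcon
      exact hnotlt (lt_of_le_not_ge hWW' hcon)
    have hsW' : s ∈ W'.toSubmodule := by
      apply Submodule.mem_sup_right
      exact ⟨_, hφa⟩
    have hsW : s ∈ (Cfsg.permConstants K G Ω).toSubmodule ⊔
        (Cfsg.permSumZero K G Ω).toSubmodule.map φ := hW'W hsW'
    rw [Submodule.mem_sup] at hsW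
    obtain ⟨c, hc, w, ⟨f0, hf0, rfl⟩, hsum⟩ := hsW
    have hmemU : Pi.single a 1 - f0 ∈ U.toSubmodule := by
      show φ (Pi.single a 1 - f0) ∈ (Cfsg.permConstants K G Ω).toSubmodule
      rw [map_sub, hφa, ← hsum, add_sub_cancel_right]
      exact hc
    have h1 : ∑ x, (Pi.single a 1 - f0 : Ω → K) x = 0 := hUS hmemU
    have h2 : ∑ x, f0 x = 0 := hf0
    simp only [Pi.sub_apply, Finset.sum_sub_distrib, h2, sub_zero] at h1
    rw [Finset.sum_pi_single'] at h1
    simp at h1

end Cfsg.Agent.S0671
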