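import Cfsg.Statements.S4337
import Mathlib.GroupTheory.Solvable
import Mathlib.GroupTheory.NoncommCoprod
import Mathlib.GroupTheory.Perm.ViaEmbedding
import Mathlib.GroupTheory.Perm.Sign

set_option autoImplicit false
open Cfsg

namespace Cfsg.Agent.S4337

open Equiv

set_option maxRecDepth 100000 in
theorem fin4_comm_even : ∀ g h : Perm (Fin 4), Perm.sign g = 1 → Perm.sign h = 1 →
    (Perm.sign (g * h * g⁻¹ * h⁻¹) = 1 ∧ (g * h * g⁻¹ * h⁻¹) * (g * h * g⁻¹ * h⁻¹) = 1) := by
  decide +kernel

set_option maxRecDepth 100000 in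
theorem fin4_klein_comm : ∀ a b : Perm (Fin 4), (Perm.sign a = 1 ∧ a * a = 1) →
    (Perm.sign b = 1 ∧ b * b = 1) → a * b = b * a := by
  decide +kernel

theorem perm_fin4_solvable : Group.IsSolvable (Perm (Fin 4)) := by
  rw [Group.isSolvable_def]
  refine ⟨3, ?_⟩
  let X : Set (Perm (Fin 4)) := {σ | Perm.sign σ = 1 ∧ σ * σ = 1}
  have h1 : derivedSeries (Perm (Fin 4)) 1 ≤ (Perm.sign : Perm (Fin 4) →* ℤˣ).ker := by
    rw [derivedSeries_one]
    exact Abelianization.commutator_subset_ker _
  have h2 : derivedSeries (Perm (Fin 4)) 2 ≤ Subgroup.closure X := by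
    rw [derivedSeries_succ]
    refine (Subgroup.commutator_mono h1 h1).trans ?_
    rw [Subgroup.commutator_le]
    intro g hg h hh
    apply Subgroup.subset_closure
    rw [MonoidHom.mem_ker] at hg hh
    rw [commutatorElement_def]
    exact fin4_comm_even g h hg hh
  have hXc : ∀ a ∈ X, ∀ b ∈ X, a * b = b * a := fun a ha b hb => fin4_klein_comm a b ha hb
  have h3 : ⁅Subgroup.closure X, Subgroup.closure X⁆ = ⊥ := by
    rw [Subgroup.commutator_eq_bot_iff_le_centralizer]
    have hc := Subgroup.isMulCommutative_closure hXc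
    intro a ha
    rw [Subgroup.mem_centralizer_iff]
    intro b hb
    have := isMulCommutative_iff.1 hc ⟨b, hb⟩ ⟨a, ha⟩
    exact congrArg Subtype.val this
  rw [derivedSeries_succ]
  exact le_bot_iff.1 ((Subgroup.commutator_mono h2 h2).trans (le_of_eq h3))

theorem perm_solvable_of_card_le {α : Type*} [Fintype α] [DecidableEq α]
    (h : Fintype.card α ≤ 4) : Group.IsSolvable (Perm α) := by
  have hne : Nonempty (α ↪ Fin 4) := Function.Embedding.nonempty_of_card_le (by simpa using h)
  obtain ⟨ι⟩ := hne
  have := perm_fin4_solvable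
  exact Group.isSolvable_of_isSolvable_injective (Perm.viaEmbeddingHom_injective ι)

/-- A group generated by permutations all supported in a set of at most 4 points is solvable. -/
theorem closure_solvable_of_support {n : ℕ} (S : Finset (Fin n)) (hS : S.card ≤ 4)
    (X : Set (Perm (Fin n))) (hX : ∀ σ ∈ X, ∀ x, x ∉ S → σ x = x) :
    Group.IsSolvable (Subgroup.closure X) := by
  let f : Perm {x // x ∈ S} →* Perm (Fin n) := Perm.ofSubtype
  have hle : Subgroup.closure X ≤ f.range := by
    rw [Subgroup.closure_le]
    intro σ hσ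
    have h1 : ∀ x, σ x ∈ S ↔ x ∈ S := by
      intro x
      constructor
      · intro hx
        by_contra hxS
        rw [hX σ hσ x hxS] at hx
        exact hxS hx
      · intro hx
        by_contra hxS
        have h2 := hX σ hσ (σ x) hxS
        have h3 : σ x = x := σ.injective h2
        rw [h3] at hxS
        exact hxS hx
    have h2 : ∀ x, σ x ≠ x → x ∈ S := by
      intro x hx
      by_contra hxS
      exact hx (hX σ hσ x hxS)
    exact ⟨Perm.subtypePerm σ h1, Perm.ofSubtype_subtypePerm h1 h2⟩
  have : Group.IsSolvable (Perm {x // x ∈ S}) := perm_solvable_of_card_le (by rw [Fintype.card_coe]; exact hS)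
  have : Group.IsSolvable f.range := Group.isSolvable_of_surjective f.rangeRestrict_surjective
  exact Group.isSolvable_of_isSolvable_injective (Subgroup.inclusion_injective hle)

/-- If `a` commutes with `b` and `c` and `⟨b, c⟩` is solvable, then `⟨a, b, c⟩` is solvable. -/
theorem closure_solvable_of_central {G : Type*} [Group G] (a b c : G)
    (hab : a * b = b * a) (hac : a * c = c * a)
    (hD : Group.IsSolvable (Subgroup.closure ({b, c} : Set G))) :
    Group.IsSolvable (Subgroup.closure ({a, b, c} : Set G)) := by
  let Z : Subgroup G := Subgroup.zpowers a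
  let D : Subgroup G := Subgroup.closure ({b, c} : Set G)
  have hcomm : ∀ (z : Z) (d : D), Commute (Z.subtype z) (D.subtype d) := by
    rintro ⟨z, hz⟩ ⟨d, hd⟩
    show z * d = d * z
    obtain ⟨k, rfl⟩ := Subgroup.mem_zpowers_iff.1 hz
    have hd' : d ∈ Subgroup.centralizer ({a} : Set G) := by
      have hle : D ≤ Subgroup.centralizer ({a} : Set G) := by
        rw [Subgroup.closure_le]
        intro x hx
        rw [SetLike.mem_coe, Subgroup.mem_centralizer_iff]
        intro y hy
        rw [Set.mem_singleton_iff] at hy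
        subst hy
        rcases hx with rfl | rfl
        · exact hab
        · exact hac
      exact hle hd
    have h1 : a * d = d * a := (Subgroup.mem_centralizer_iff.1 hd') a rfl
    exact (Commute.zpow_left (show Commute a d from h1) k).eq
  let F : Z × D →* G := MonoidHom.noncommCoprod Z.subtype D.subtype hcomm
  have hle : Subgroup.closure ({a, b, c} : Set G) ≤ F.range := by
    rw [Subgroup.closure_le]
    intro x hx
    rcases hx with rfl | hx
    · exact ⟨(⟨x, Subgroup.mem_zpowers x⟩, 1), by simp [F]⟩
    · exact ⟨(1, ⟨x, Subgroup.subset_closure hx⟩), by simp [F]⟩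
  have : Group.IsSolvable Z := Group.isSolvable_of_comm (fun x y => by
    obtain ⟨x, hx⟩ := x
    obtain ⟨y, hy⟩ := y
    obtain ⟨i, rfl⟩ := Subgroup.mem_zpowers_iff.1 hx
    obtain ⟨j, rfl⟩ := Subgroup.mem_zpowers_iff.1 hy
    apply Subtype.ext
    show a ^ i * a ^ j = a ^ j * a ^ i
    rw [← zpow_add, ← zpow_add, add_comm])
  have : Group.IsSolvable D := hD
  have : Group.IsSolvable F.range := Group.isSolvable_of_surjective F.rangeRestrict_surjective
  exact Group.isSolvable_of_isSolvable_injective (Subgroup.inclusion_injective hle)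

theorem card_union_le_of_not_disjoint {α : Type*} [DecidableEq α] (X Y : Finset α)
    (h : ¬ Disjoint X Y) : (X ∪ Y).card + 1 ≤ X.card + Y.card := by
  have h1 := Finset.card_union_add_card_inter X Y
  have h2 : 0 < (X ∩ Y).card := by
    rw [Finset.card_pos]
    rw [Finset.not_disjoint_iff_nonempty_inter] at h
    exact h
  omega

/-- In a finite symmetric group, any three transpositions generate a solvable subgroup. -/
theorem result (n : ℕ) (a b c : Equiv.Perm (Fin n))
    (ha : a.IsSwap) (hb : b.IsSwap) (hc : c.IsSwap) :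
    Group.IsSolvable (Subgroup.closure ({a, b, c} : Set (Equiv.Perm (Fin n)))) := by
  obtain ⟨a1, a2, hane, rfl⟩ := ha
  obtain ⟨b1, b2, hbne, rfl⟩ := hb
  obtain ⟨c1, c2, hcne, rfl⟩ := hc
  set A : Finset (Fin n) := {a1, a2} with hA
  set B : Finset (Fin n) := {b1, b2} with hB
  set C : Finset (Fin n) := {c1, c2} with hC
  have hAc : A.card = 2 := Finset.card_pair hane
  have hBc : B.card = 2 := Finset.card_pair hbne
  have hCc : C.card = 2 := Finset.card_pair hcne
  -- a swap fixes everything outside its pair
  have hfix : ∀ (x y : Fin n) (T : Finset (Fin n)), x ∈ T → y ∈ T → ∀ z, z ∉ T → swap x y z = z := by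
    intro x y T hx hy z hz
    apply swap_apply_of_ne_of_ne
    · rintro rfl; exact hz hx
    · rintro rfl; exact hz hy
  -- disjoint pairs give commuting swaps
  have hdisj : ∀ (x y u v : Fin n), Disjoint ({x, y} : Finset (Fin n)) {u, v} →
      swap x y * swap u v = swap u v * swap x y := by
    intro x y u v h
    have hd : Perm.Disjoint (swap x y) (swap u v) := by
      intro z
      by_cases hz : z ∈ ({x, y} : Finset (Fin n))
      · right
        have hz' : z ∉ ({u, v} : Finset (Fin n)) := Finset.disjoint_left.1 h hz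
        exact hfix u v {u, v} (by simp) (by simp) z hz'
      · left
        exact hfix x y {x, y} (by simp) (by simp) z hz
    exact hd.commute.eq
  -- solvable subgroup generated by two swaps
  have hpair : ∀ (x y u v : Fin n), x ≠ y → u ≠ v →
      Group.IsSolvable (Subgroup.closure ({swap x y, swap u v} : Set (Perm (Fin n)))) := by
    intro x y u v hxy huv
    apply closure_solvable_of_support ({x, y} ∪ {u, v})
    · calc (({x, y} : Finset (Fin n)) ∪ {u, v}).card ≤ ({x, y} : Finset (Fin n)).card + ({u, v} : Finset (Fin n)).card :=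
          Finset.card_union_le _ _
        _ = 4 := by rw [Finset.card_pair hxy, Finset.card_pair huv]
    · intro σ hσ z hz
      rw [Finset.mem_union, not_or] at hz
      rcases hσ with rfl | rfl
      · exact hfix x y {x, y} (by simp) (by simp) z hz.1
      · exact hfix u v {u, v} (by simp) (by simp) z hz.2
  by_cases h1 : Disjoint A (B ∪ C)
  · rw [Finset.disjoint_union_right] at h1
    exact closure_solvable_of_central _ _ _ (hdisj _ _ _ _ h1.1) (hdisj _ _ _ _ h1.2)
      (hpair b1 b2 c1 c2 hbne hcne)
  by_cases h2 : Disjoint B (A ∪ C)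
  · rw [Finset.disjoint_union_right] at h2
    have hset : ({swap a1 a2, swap b1 b2, swap c1 c2} : Set (Perm (Fin n))) =
        {swap b1 b2, swap a1 a2, swap c1 c2} := Set.insert_comm _ _ _
    rw [hset]
    exact closure_solvable_of_central _ _ _ (hdisj _ _ _ _ h2.1) (hdisj _ _ _ _ h2.2)
      (hpair a1 a2 c1 c2 hane hcne)
  by_cases h3 : Disjoint C (A ∪ B)
  · rw [Finset.disjoint_union_right] at h3
    have hset : ({swap a1 a2, swap b1 b2, swap c1 c2} : Set (Perm (Fin n))) =
        {swap c1 c2, swap a1 a2, swap b1 b2} := by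
      ext σ
      simp only [Set.mem_insert_iff, Set.mem_singleton_iff]
      tauto
    rw [hset]
    exact closure_solvable_of_central _ _ _ (hdisj _ _ _ _ h3.1) (hdisj _ _ _ _ h3.2)
      (hpair a1 a2 b1 b2 hane hbne)
  -- all supports inside a set of at most 4 points
  apply closure_solvable_of_support (A ∪ B ∪ C)
  · by_cases hAB : Disjoint A B
    · have hAC : ¬ Disjoint A C := by
        intro h; exact h1 (Finset.disjoint_union_right.2 ⟨hAB, h⟩)
      have hBC : ¬ Disjoint B C := by
        intro h; exact h2 (Finset.disjoint_union_right.2 ⟨hAB.symm, h⟩)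
      have e1 := card_union_le_of_not_disjoint A C hAC
      have e2 := card_union_le_of_not_disjoint B (A ∪ C) h2
      have e3 : A ∪ B ∪ C = B ∪ (A ∪ C) := by
        ext z; simp only [Finset.mem_union]; tauto
      rw [e3]; omega
    · have e1 := card_union_le_of_not_disjoint A B hAB
      have e2 := card_union_le_of_not_disjoint C (A ∪ B) h3
      have e3 : A ∪ B ∪ C = C ∪ (A ∪ B) := by
        ext z; simp only [Finset.mem_union]; tauto
      rw [e3]; omega
  · intro σ hσ z hz
    simp only [Finset.mem_union, not_or] at hz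
    rcases hσ with rfl | rfl | rfl
    · exact hfix a1 a2 A (by simp [hA]) (by simp [hA]) z hz.1.1
    · exact hfix b1 b2 B (by simp [hB]) (by simp [hB]) z hz.1.2
    · exact hfix c1 c2 C (by simp [hC]) (by simp [hC]) z hz.2

end Cfsg.Agent.S4337
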