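import Mathlib
import Cfsg.Statements.S0675
import Cfsg.Agent.S0671
import Cfsg.Agent.S0674
import Cfsg.Agent.S4337

set_option autoImplicit false
open Cfsg

namespace Cfsg.Agent.S0675

theorem result {α : Type*} [Fintype α] [DecidableEq α] (hα : (Fintype.card α).Prime) (G : Subgroup (Equiv.Perm α)) [MulAction.IsPretransitive G α] : Group.IsSolvable G ∨ MulAction.IsMultiplyPretransitive G α 2 := by
  by_cases hsolv : Group.IsSolvable G
  · exact Or.inl hsolv
  right
  set p := Fintype.card α with hp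
  haveI : Fact p.Prime := ⟨hα⟩
  -- p ≥ 5
  have hp5 : 5 ≤ p := by
    by_contra hlt
    push Not at hlt
    apply hsolv
    haveI : Group.IsSolvable (Equiv.Perm α) :=
      Cfsg.Agent.S4337.perm_solvable_of_card_le (by omega)
    infer_instance
  apply Cfsg.Agent.S0671.result (K := ZMod p) (p := p) (f := 1) (le_refl 1) (by rw [pow_one])
  intro W W' hCW hlt hW'S
  have hW := Cfsg.Agent.S0674.result (p := p) rfl G hsolv (K := ZMod p) W hCW (le_trans hlt.le hW'S)
  have hW' := Cfsg.Agent.S0674.result (p := p) rfl G hsolv (K := ZMod p) W'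
    (le_trans hCW hlt.le) hW'S
  have hWC : W = Cfsg.permConstants (ZMod p) G α := by
    rcases hW with h | h
    · exact h
    · exfalso
      rw [h] at hlt
      exact absurd hlt (not_lt_of_ge hW'S)
  have hW'S' : W' = Cfsg.permSumZero (ZMod p) G α := by
    rcases hW' with h | h
    · exfalso
      rw [h] at hlt
      exact absurd hlt (not_lt_of_ge hCW)
    · exact h
  subst hWC
  subst hW'S'
  -- two distinct points
  have hcard2 : 1 < Fintype.card α := by omega
  obtain ⟨x, y, hxy⟩ := Fintype.exists_pair_of_one_lt_card hcard2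
  obtain ⟨g, hg⟩ := MulAction.exists_smul_eq G x y
  -- a point outside {x, y, g • y}
  obtain ⟨z, hz⟩ : ∃ z : α, z ∉ ({x, y, g • y} : Finset α) := by
    by_contra hcon
    push Not at hcon
    have : ({x, y, g • y} : Finset α) = Finset.univ := Finset.eq_univ_iff_forall.mpr hcon
    have h1 := Finset.card_le_three (a := x) (b := y) (c := g • y)
    rw [this, Finset.card_univ] at h1
    omega
  simp only [Finset.mem_insert, Finset.mem_singleton, not_or] at hz
  obtain ⟨hzx, hzy, hzgy⟩ := hz
  let v : α → ZMod p := Pi.single x 1 - Pi.single y 1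
  have hvS : v ∈ (Cfsg.permSumZero (ZMod p) G α).toSubmodule := by
    show ∑ w, v w = 0
    simp only [v, Pi.sub_apply, Finset.sum_sub_distrib, Finset.sum_pi_single', Finset.mem_univ,
      if_true, sub_self]
  refine ⟨g, v, hvS, ?_⟩
  intro hmem
  have hmem' : Cfsg.permRep (ZMod p) G α g v - v ∈
      Submodule.span (ZMod p) {(fun _ => 1 : α → ZMod p)} := hmem
  rw [Submodule.mem_span_singleton] at hmem'
  obtain ⟨c, hc⟩ := hmem'
  have hval : ∀ w : α, (Cfsg.permRep (ZMod p) G α g v - v) w =
      ((Pi.single x 1 : α → ZMod p) (g⁻¹ • w) - (Pi.single y 1 : α → ZMod p) (g⁻¹ • w)) -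
        ((Pi.single x 1 : α → ZMod p) w - (Pi.single y 1 : α → ZMod p) w) := fun w => rfl
  -- value at z is 0
  have hgz1 : g⁻¹ • z ≠ x := by
    intro h
    rw [inv_smul_eq_iff, hg] at h
    exact hzy h
  have hgz2 : g⁻¹ • z ≠ y := by
    intro h
    rw [inv_smul_eq_iff] at h
    exact hzgy h
  have hz0 := congrFun hc z
  rw [hval, Pi.single_eq_of_ne hgz1, Pi.single_eq_of_ne hgz2, Pi.single_eq_of_ne hzx,
    Pi.single_eq_of_ne hzy] at hz0
  simp only [Pi.smul_apply, smul_eq_mul, mul_one, sub_self] at hz0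
  -- value at y
  have hy0 := congrFun hc y
  have hgy1 : g⁻¹ • y = x := by
    rw [inv_smul_eq_iff, hg]
  rw [hval, hgy1, Pi.single_eq_same, Pi.single_eq_of_ne hxy, Pi.single_eq_of_ne (Ne.symm hxy),
    Pi.single_eq_same] at hy0
  simp only [Pi.smul_apply, smul_eq_mul, mul_one, hz0] at hy0
  -- 1 - 0 - (0 - 1) = 2 = 0 in ZMod p, impossible
  have h2 : (2 : ZMod p) = 0 := by
    have : (1 : ZMod p) - 0 - (0 - 1) = 2 := by ring
    rw [← this]
    exact hy0.symm
  have h2' : ((2 : ℕ) : ZMod p) = 0 := by exact_mod_cast h2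
  rw [ZMod.natCast_eq_zero_iff] at h2'
  have := Nat.le_of_dvd (by norm_num) h2'
  omega

end Cfsg.Agent.S0675
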