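import Mathlib
import Cfsg.Statements.S0676
import Cfsg.Agent.S0672
import Cfsg.Agent.S0674
import Cfsg.Agent.S0675
import Cfsg.Agent.Helper12.SylowInvol

set_option autoImplicit false
open Cfsg

namespace Cfsg.Agent.S0676

open Cfsg.Agent.Helper12 Cfsg.Agent.Helper12.PrimeDeg Cfsg.Agent.Helper12.IndexP
open Cfsg.Agent.S0672 (pair coe_pair smul_pair exists_pair)

/-- A function on pairs which is fixed by the translation and negated by a reflection vanishes. -/
theorem w_eq_zero {α : Type*} [Fintype α] [DecidableEq α] {p : ℕ} [Fact p.Prime]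
    {G : Type*} [Group G] [MulAction G α] (e : ZMod p ≃ α) (c : ZMod p) (σ τ : G)
    (hσe : ∀ t, σ • e t = e (t + 1)) (hτe : ∀ t, τ • e t = e (c - t)) (hτinv : τ⁻¹ = τ)
    (h2 : (2 : ZMod p) ≠ 0) (w : Set.powersetCard α 2 → ZMod p)
    (hwσ : Cfsg.permRep (ZMod p) G (Set.powersetCard α 2) σ w = w)
    (hwτ : Cfsg.permRep (ZMod p) G (Set.powersetCard α 2) τ w = (-1 : ZMod p) • w) : w = 0 := by
  have hpp : p.Prime := Fact.out
  haveI : NeZero p := ⟨hpp.ne_zero⟩
  -- the stabiliser of `w`
  let Hw : Subgroup G :=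
    { carrier := {g | Cfsg.permRep (ZMod p) G (Set.powersetCard α 2) g w = w}
      one_mem' := by
        show Cfsg.permRep (ZMod p) G (Set.powersetCard α 2) 1 w = w
        rw [map_one]
        rfl
      mul_mem' := by
        intro a b ha hb
        show Cfsg.permRep (ZMod p) G (Set.powersetCard α 2) (a * b) w = w
        rw [map_mul, Module.End.mul_apply, hb, ha]
      inv_mem' := by
        intro a ha
        show Cfsg.permRep (ZMod p) G (Set.powersetCard α 2) a⁻¹ w = w
        have ha' : Cfsg.permRep (ZMod p) G (Set.powersetCard α 2) a w = w := ha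
        nth_rewrite 1 [← ha']
        rw [← Module.End.mul_apply, ← map_mul, inv_mul_cancel, map_one]
        rfl }
  have hσHw : σ ∈ Hw := hwσ
  have hwinv : ∀ (n : ℕ) (B : Set.powersetCard α 2), w (σ ^ n • B) = w B := by
    intro n B
    have hmem : (σ ^ n)⁻¹ ∈ Hw := Hw.inv_mem (Hw.pow_mem hσHw n)
    have h1 : Cfsg.permRep (ZMod p) G (Set.powersetCard α 2) (σ ^ n)⁻¹ w = w := hmem
    have h3 := congrFun h1 B
    have h4 : Cfsg.permRep (ZMod p) G (Set.powersetCard α 2) (σ ^ n)⁻¹ w B =
        w (((σ ^ n)⁻¹)⁻¹ • B) := rfl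
    rw [h4, inv_inv] at h3
    exact h3
  have hσpow : ∀ (n : ℕ) (t : ZMod p), σ ^ n • e t = e (t + n) := by
    intro n
    induction n with
    | zero => intro t; simp
    | succ n ih =>
      intro t
      rw [pow_succ, mul_smul, hσe, ih]
      congr 1
      push_cast
      ring
  -- `τ` preserves the orbits of `σ` on pairs
  have hτB : ∀ B : Set.powersetCard α 2, ∃ n : ℕ, τ⁻¹ • B = σ ^ n • B := by
    intro B
    obtain ⟨y, z, hyz, rfl⟩ := exists_pair B
    obtain ⟨i, rfl⟩ := e.surjective y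
    obtain ⟨j, rfl⟩ := e.surjective z
    refine ⟨(c - i - j).val, ?_⟩
    rw [hτinv, smul_pair, smul_pair]
    apply Subtype.ext
    rw [coe_pair, coe_pair, hσpow, hσpow, hτe, hτe, ZMod.natCast_zmod_val]
    have e1 : i + (c - i - j) = c - j := by ring
    have e2 : j + (c - i - j) = c - i := by ring
    rw [e1, e2]
    exact Finset.pair_comm _ _
  have hwτ' : Cfsg.permRep (ZMod p) G (Set.powersetCard α 2) τ w = w := by
    funext B
    show w (τ⁻¹ • B) = w B
    obtain ⟨n, hn⟩ := hτB B
    rw [hn, hwinv]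
  rw [hwτ'] at hwτ
  have h3 : (2 : ZMod p) • w = 0 := by
    rw [two_smul]
    nth_rewrite 1 [hwτ]
    rw [neg_smul, one_smul, neg_add_cancel]
  rcases smul_eq_zero.mp h3 with h | h
  · exact absurd h h2
  · exact h

/-- A non-solvable transitive permutation group of prime degree `p` whose Sylow `p`-normaliser has even order is triply transitive. -/
theorem result {α : Type*} [Fintype α] [DecidableEq α] {p : ℕ} [Fact p.Prime] (hα : Fintype.card α = p) (G : Subgroup (Equiv.Perm α)) [MulAction.IsPretransitive G α] (hG : ¬ Group.IsSolvable G) (P : Sylow p G) (heven : Even (Nat.card (Subgroup.normalizer ((P : Subgroup G) : Set G)))) : MulAction.IsMultiplyPretransitive G α 3 := by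
  classical
  have hpp : p.Prime := Fact.out
  haveI : NeZero p := ⟨hpp.ne_zero⟩
  haveI : Fact (1 < p) := ⟨hpp.one_lt⟩
  have h2t : MulAction.IsMultiplyPretransitive G α 2 :=
    (Cfsg.Agent.S0675.result (hα ▸ hpp) G).resolve_left hG
  have hp5 : 5 ≤ p := by
    by_contra hlt
    push Not at hlt
    apply hG
    haveI : Group.IsSolvable (Equiv.Perm α) :=
      Cfsg.Agent.S4337.perm_solvable_of_card_le (by omega)
    infer_instance
  have hp2 : p ≠ 2 := by omega
  have h2 : (2 : ZMod p) ≠ 0 := by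
    intro h
    have h2' : ((2 : ℕ) : ZMod p) = 0 := by exact_mod_cast h
    rw [ZMod.natCast_eq_zero_iff] at h2'
    have := (Nat.prime_dvd_prime_iff_eq hpp Nat.prime_two).mp h2'
    exact hp2 this
  obtain ⟨σ, τ, hσ, hτ2, hτ1, k, hτσ⟩ := SylowInvol.sylow_invol hα G P heven
  have hσ' : orderOf σ.1 = p := by
    rw [← hσ]
    exact Subgroup.orderOf_coe σ
  have hτ2' : τ.1 * τ.1 = 1 := by
    rw [← Subgroup.coe_mul, hτ2, Subgroup.coe_one]
  have hτ1' : τ.1 ≠ 1 := fun h => hτ1 (Subtype.ext h)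
  have hτσ' : τ.1 * σ.1 * τ.1⁻¹ = σ.1 ^ k := by
    rw [← Subgroup.coe_inv, ← Subgroup.coe_mul, ← Subgroup.coe_mul, hτσ, Subgroup.coe_pow]
  obtain ⟨e, c, hσlab, hτlab⟩ :=
    SylowInvol.exists_label_invol hα hp2 σ.1 τ.1 hσ' hτ2' hτ1' k hτσ'
  have hτinv : τ⁻¹ = τ := inv_eq_of_mul_eq_one_left hτ2
  -- even point stabilisers
  have hevenstab : ∀ a : α, Even (Nat.card (MulAction.stabilizer G a)) := by
    intro a
    have h1 : (MulAction.stabilizer G a).index = p := by
      rw [MulAction.index_stabilizer_of_transitive, Nat.card_eq_fintype_card, hα]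
    have h3 : Nat.card (MulAction.stabilizer G a) * p = Nat.card G := by
      rw [← h1]
      exact Subgroup.card_mul_index _
    have h4 : 2 ∣ Nat.card G :=
      dvd_trans heven.two_dvd (Subgroup.card_subgroup_dvd_card _)
    rw [← h3] at h4
    have hcop : Nat.Coprime 2 p := (Nat.coprime_primes Nat.prime_two hpp).mpr (Ne.symm hp2)
    exact even_iff_two_dvd.mpr (hcop.dvd_of_dvd_mul_right h4)
  apply Cfsg.Agent.S0672.result (K := ZMod p) (p := p) h2t (by rw [hα]) hevenstab
  intro f hf
  by_contra hfne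
  -- the kernel of `f` as a subrepresentation
  have hcardK : (Fintype.card α : ZMod p) = 0 := by
    rw [hα]
    exact ZMod.natCast_self p
  have h1S : (fun _ => 1 : α → ZMod p) ∈ (Cfsg.permSumZero (ZMod p) G α).toSubmodule := by
    show ∑ _a : α, (1 : ZMod p) = 0
    rw [Finset.sum_const, Finset.card_univ, nsmul_eq_mul, mul_one, hcardK]
  have hCS : (Cfsg.permConstants (ZMod p) G α).toSubmodule ≤
      (Cfsg.permSumZero (ZMod p) G α).toSubmodule := by
    show Submodule.span (ZMod p) {(fun _ => 1 : α → ZMod p)} ≤ _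
    rw [Submodule.span_le, Set.singleton_subset_iff]
    exact h1S
  let W : Subrepresentation (Cfsg.permRep (ZMod p) G α) :=
    { toSubmodule := (LinearMap.ker f.toLinearMap).map
        (Cfsg.permSumZero (ZMod p) G α).toSubmodule.subtype
      apply_mem_toSubmodule := by
        rintro g v ⟨u, hu, rfl⟩
        refine ⟨(Cfsg.permSumZero (ZMod p) G α).toRepresentation g u, ?_, rfl⟩
        have hu' : f u = 0 := hu
        show f ((Cfsg.permSumZero (ZMod p) G α).toRepresentation g u) = 0
        rw [Representation.IntertwiningMap.isIntertwining _ _ f g u, hu', map_zero] }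
  have hmemW : ∀ v : α → ZMod p, v ∈ W.toSubmodule ↔
      ∃ hv : v ∈ (Cfsg.permSumZero (ZMod p) G α).toSubmodule, f ⟨v, hv⟩ = 0 := by
    intro v
    constructor
    · rintro ⟨u, hu, rfl⟩
      exact ⟨u.2, hu⟩
    · rintro ⟨hv, hfv⟩
      exact ⟨⟨v, hv⟩, hfv, rfl⟩
  have hCW : (Cfsg.permConstants (ZMod p) G α).toSubmodule ≤ W.toSubmodule := by
    intro v hv
    rw [hmemW]
    exact ⟨hCS hv, hf ⟨v, hCS hv⟩ hv⟩
  have hWS : W.toSubmodule ≤ (Cfsg.permSumZero (ZMod p) G α).toSubmodule := by
    intro v hv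
    obtain ⟨hv', _⟩ := (hmemW v).mp hv
    exact hv'
  have hWC : W = Cfsg.permConstants (ZMod p) G α := by
    rcases Cfsg.Agent.S0674.result hα G hG (K := ZMod p) W hCW hWS with h | h
    · exact h
    · exfalso
      apply hfne
      apply Representation.IntertwiningMap.ext
      apply LinearMap.ext
      intro v
      have hv : (v : α → ZMod p) ∈ W.toSubmodule := by
        rw [h]
        exact v.2
      obtain ⟨_, hfv⟩ := (hmemW _).mp hv
      exact hfv
  -- the coordinate function
  let x : α → ZMod p := fun a => e.symm a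
  have hxS : x ∈ (Cfsg.permSumZero (ZMod p) G α).toSubmodule := by
    show ∑ a, x a = 0
    have h1 : ∑ a, x a = ∑ j : ZMod p, j :=
      Equiv.sum_comp e.symm (fun j : ZMod p => j)
    have h3 : ∑ j : ZMod p, j = ∑ j : ZMod p, -j :=
      (Equiv.sum_comp (Equiv.neg (ZMod p)) (fun j : ZMod p => j)).symm
    rw [Finset.sum_neg_distrib] at h3
    have h4 : (2 : ZMod p) * ∑ j : ZMod p, j = 0 := by
      rw [two_mul]
      nth_rewrite 1 [h3]
      exact neg_add_cancel _
    rw [h1]
    rcases mul_eq_zero.mp h4 with h | h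
    · exact absurd h h2
    · exact h
  set w : Set.powersetCard α 2 → ZMod p :=
    f (⟨x, hxS⟩ : (Cfsg.permSumZero (ZMod p) G α).toSubmodule) with hw
  -- how elements acting affinely on `x` act on `w`
  have hgen : ∀ (g : G) (ε c0 : ZMod p), (∀ a, x (g⁻¹ • a) = ε * x a + c0) →
      Cfsg.permRep (ZMod p) G (Set.powersetCard α 2) g w = ε • w := by
    intro g ε c0 hg
    have h1 := Representation.IntertwiningMap.isIntertwining _ _ f g
      (⟨x, hxS⟩ : (Cfsg.permSumZero (ZMod p) G α).toSubmodule)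
    have h3 : (Cfsg.permSumZero (ZMod p) G α).toRepresentation g ⟨x, hxS⟩ =
        ε • (⟨x, hxS⟩ : (Cfsg.permSumZero (ZMod p) G α).toSubmodule) +
          c0 • (⟨fun _ => 1, h1S⟩ : (Cfsg.permSumZero (ZMod p) G α).toSubmodule) := by
      apply Subtype.ext
      funext a
      show x (g⁻¹ • a) = ε * x a + c0 * 1
      rw [hg a, mul_one]
    rw [h3, map_add, map_smul, map_smul] at h1
    have h4 : f ⟨fun _ => 1, h1S⟩ = 0 := hf _ (Submodule.subset_span rfl)
    rw [h4, smul_zero, add_zero] at h1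
    exact h1.symm
  -- the action of `σ` and `τ` on `x`
  have hxσ : ∀ a, x (σ⁻¹ • a) = 1 * x a + (-1) := by
    intro a
    show e.symm (σ⁻¹ • a) = 1 * e.symm a + (-1)
    have h1 : lab e σ.1 (e.symm (σ⁻¹ • a)) = e.symm a := by
      show e.symm (σ.1 (e (e.symm (σ⁻¹ • a)))) = e.symm a
      rw [Equiv.apply_symm_apply]
      congr 1
      show σ • (σ⁻¹ • a) = a
      rw [smul_inv_smul]
    rw [hσlab] at h1
    rw [← h1]
    ring
  have hxτ : ∀ a, x (τ⁻¹ • a) = (-1) * x a + c := by
    intro a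
    rw [hτinv]
    show e.symm (τ.1 a) = (-1) * e.symm a + c
    have h1 : lab e τ.1 (e.symm a) = e.symm (τ.1 a) := by
      show e.symm (τ.1 (e (e.symm a))) = _
      rw [Equiv.apply_symm_apply]
    rw [← h1, hτlab]
    ring
  have hwσ := hgen σ 1 (-1) hxσ
  have hwτ := hgen τ (-1) c hxτ
  rw [one_smul] at hwσ
  have hσe : ∀ t : ZMod p, σ • e t = e (t + 1) := by
    intro t
    show σ.1 (e t) = _
    rw [← e_lab, hσlab]
  have hτe : ∀ t : ZMod p, τ • e t = e (c - t) := by
    intro t
    show τ.1 (e t) = _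
    rw [← e_lab, hτlab]
  have hw0 : w = 0 := w_eq_zero e c σ τ hσe hτe hτinv h2 w hwσ hwτ
  -- hence `x` is constant: contradiction
  have hxW : x ∈ W.toSubmodule := (hmemW x).mpr ⟨hxS, hw0⟩
  rw [hWC] at hxW
  have hxC : x ∈ Submodule.span (ZMod p) {(fun _ => 1 : α → ZMod p)} := hxW
  rw [Submodule.mem_span_singleton] at hxC
  obtain ⟨c', hc'⟩ := hxC
  have h0 := congrFun hc' (e 0)
  have h1 := congrFun hc' (e 1)
  simp only [Pi.smul_apply, smul_eq_mul, mul_one, x, Equiv.symm_apply_apply] at h0 h1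
  rw [h0] at h1
  exact zero_ne_one h1

end Cfsg.Agent.S0676
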