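import Cfsg.Statements.S0680

set_option autoImplicit false
open Cfsg
set_option linter.unusedSectionVars false

namespace Cfsg.Agent.S0680

open MulAction

section Abstract

variable {G Ω : Type*} [Group G] [MulAction G Ω]

/-- uniqueness in a sharply 2-transitive group -/
theorem uniq (hF : ∀ g : G, g ≠ 1 → ∀ a b : Ω, g • a = a → g • b = b → a = b)
    {g h : G} {a b : Ω} (hab : a ≠ b) (ha : g • a = h • a) (hb : g • b = h • b) : g = h := by
  by_contra hne
  have h1 : h⁻¹ * g ≠ 1 := by
    intro h1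
    apply hne
    have := inv_mul_eq_one.mp h1
    exact this.symm
  apply hab
  apply hF (h⁻¹ * g) h1 a b
  · rw [mul_smul, ha, inv_smul_smul]
  · rw [mul_smul, hb, inv_smul_smul]

variable [Fintype G] [Fintype Ω] [DecidableEq Ω] [DecidableEq G]

/-- Key counting: exactly one derangement maps `a` to `b`. -/
theorem key (hT : ∀ a b c d : Ω, a ≠ b → c ≠ d → ∃ g : G, g • a = c ∧ g • b = d)
    (hF : ∀ g : G, g ≠ 1 → ∀ a b : Ω, g • a = a → g • b = b → a = b)
    (a b : Ω) (hab : a ≠ b) :
    ∃! g : G, g • a = b ∧ ∀ c : Ω, g • c ≠ c := by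
  classical
  -- S = {g | g a = b}
  set S : Finset G := Finset.univ.filter (fun g => g • a = b) with hS
  -- |S| = n - 1
  have hScard : S.card = Fintype.card Ω - 1 := by
    have : S.card = (Finset.univ.erase b : Finset Ω).card := by
      apply Finset.card_bij (fun g _ => g • b)
      · intro g hg
        rw [hS, Finset.mem_filter] at hg
        rw [Finset.mem_erase]
        refine ⟨?_, Finset.mem_univ _⟩
        intro h
        apply hab
        have : g • b = g • a := by rw [h, hg.2]
        exact (smul_left_cancel g this).symm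
      · intro g hg g' hg' h
        rw [hS, Finset.mem_filter] at hg hg'
        exact uniq hF hab (by rw [hg.2, hg'.2]) h
      · intro d hd
        rw [Finset.mem_erase] at hd
        obtain ⟨g, hg1, hg2⟩ := hT a b b d hab (Ne.symm hd.1)
        exact ⟨g, by rw [hS, Finset.mem_filter]; exact ⟨Finset.mem_univ _, hg1⟩, hg2⟩
    rw [this, Finset.card_erase_of_mem (Finset.mem_univ _), Finset.card_univ]
  -- elements of S with a fixed point: n - 2
  set S' : Finset G := S.filter (fun g => ∃ c : Ω, g • c = c) with hS'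
  have hS'card : S'.card = Fintype.card Ω - 2 := by
    have : S'.card = ((Finset.univ.erase a).erase b : Finset Ω).card := by
      symm
      choose! f hf using (fun c : Ω => fun (h : a ≠ c ∧ b ≠ c) => hT a c b c h.1 h.2)
      apply Finset.card_bij (fun c _ => f c)
      · intro c hc
        rw [Finset.mem_erase, Finset.mem_erase] at hc
        have := hf c ⟨Ne.symm hc.2.1, Ne.symm hc.1⟩
        rw [hS', Finset.mem_filter, hS, Finset.mem_filter]
        exact ⟨⟨Finset.mem_univ _, this.1⟩, c, this.2⟩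
      · intro c hc c' hc' h
        rw [Finset.mem_erase, Finset.mem_erase] at hc hc'
        have h1 := hf c ⟨Ne.symm hc.2.1, Ne.symm hc.1⟩
        have h2 := hf c' ⟨Ne.symm hc'.2.1, Ne.symm hc'.1⟩
        rw [← h] at h2
        have hne : f c ≠ 1 := by
          intro h1'
          rw [h1', one_smul] at h1
          exact hab h1.1
        exact hF (f c) hne c c' h1.2 h2.2
      · intro g hg
        rw [hS', Finset.mem_filter, hS, Finset.mem_filter] at hg
        obtain ⟨⟨_, hga⟩, c, hgc⟩ := hg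
        have hca : c ≠ a := by
          intro h; rw [h, hga] at hgc; exact hab hgc.symm
        have hcb : c ≠ b := by
          intro h
          rw [h] at hgc
          have : g • b = g • a := by rw [hgc, hga]
          exact hab (smul_left_cancel g this).symm
        refine ⟨c, ?_, ?_⟩
        · rw [Finset.mem_erase, Finset.mem_erase]
          exact ⟨hcb, hca, Finset.mem_univ _⟩
        · have := hf c ⟨Ne.symm hca, Ne.symm hcb⟩
          exact uniq hF (Ne.symm hca) (by rw [this.1, hga]) (by rw [this.2, hgc])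
    rw [this, Finset.card_erase_of_mem, Finset.card_erase_of_mem (Finset.mem_univ _),
      Finset.card_univ]
    · rfl
    · rw [Finset.mem_erase]; exact ⟨Ne.symm hab, Finset.mem_univ _⟩
  -- derangements in S
  have hn2 : 2 ≤ Fintype.card Ω := by
    have : ({a, b} : Finset Ω).card ≤ Fintype.card Ω := Finset.card_le_univ _
    rwa [Finset.card_pair hab] at this
  have hder : (S.filter (fun g => ¬ ∃ c : Ω, g • c = c)).card = 1 := by
    have := Finset.card_filter_add_card_filter_not (s := S) (fun g => ∃ c : Ω, g • c = c)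
    rw [← hS', hS'card, hScard] at this
    omega
  rw [Finset.card_eq_one] at hder
  obtain ⟨g, hg⟩ := hder
  have hgmem : g ∈ S.filter (fun g => ¬ ∃ c : Ω, g • c = c) := by rw [hg]; exact Finset.mem_singleton_self _
  rw [Finset.mem_filter, hS, Finset.mem_filter] at hgmem
  refine ⟨g, ⟨hgmem.1.2, fun c hc => hgmem.2 ⟨c, hc⟩⟩, ?_⟩
  intro g' hg'
  have : g' ∈ S.filter (fun g => ¬ ∃ c : Ω, g • c = c) := by
    rw [Finset.mem_filter, hS, Finset.mem_filter]
    exact ⟨⟨Finset.mem_univ _, hg'.1⟩, fun ⟨c, hc⟩ => hg'.2 c hc⟩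
  rw [hg] at this
  exact Finset.mem_singleton.mp this


/-- The Frobenius kernel of a sharply 2-transitive group as a subgroup. -/
def kernelSub (hT : ∀ a b c d : Ω, a ≠ b → c ≠ d → ∃ g : G, g • a = c ∧ g • b = d)
    (hF : ∀ g : G, g ≠ 1 → ∀ a b : Ω, g • a = a → g • b = b → a = b) : Subgroup G where
  carrier := {g | g = 1 ∨ ∀ c : Ω, g • c ≠ c}
  one_mem' := Or.inl rfl
  inv_mem' := by
    intro x hx
    rcases hx with rfl | hx
    · left; simp
    · right
      intro c hc
      apply hx c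
      rw [← hc, smul_inv_smul, hc]
  mul_mem' := by
    intro x y hx hy
    rcases hx with rfl | hx
    · simpa using hy
    rcases hy with rfl | hy
    · simpa using Or.inr hx
    by_cases h1 : x * y = 1
    · exact Or.inl h1
    right
    intro c hc
    apply h1
    -- y c = x⁻¹ c
    have hyc : y • c = x⁻¹ • c := by
      rw [eq_inv_smul_iff, ← mul_smul, hc]
    have hxinv : ∀ c : Ω, x⁻¹ • c ≠ c := by
      intro c hc
      apply hx c
      rw [← hc, smul_inv_smul, hc]
    obtain ⟨g, _, hguniq⟩ := key hT hF c (y • c) (Ne.symm (hy c))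
    have e1 := hguniq y ⟨rfl, hy⟩
    have e2 := hguniq x⁻¹ ⟨hyc.symm, hxinv⟩
    rw [e1, ← e2]
    simp

theorem mem_kernelSub (hT : ∀ a b c d : Ω, a ≠ b → c ≠ d → ∃ g : G, g • a = c ∧ g • b = d)
    (hF : ∀ g : G, g ≠ 1 → ∀ a b : Ω, g • a = a → g • b = b → a = b) (g : G) :
    g ∈ kernelSub hT hF ↔ g = 1 ∨ ∀ c : Ω, g • c ≠ c := Iff.rfl

theorem kernelSub_normal (hT : ∀ a b c d : Ω, a ≠ b → c ≠ d → ∃ g : G, g • a = c ∧ g • b = d)
    (hF : ∀ g : G, g ≠ 1 → ∀ a b : Ω, g • a = a → g • b = b → a = b) :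
    (kernelSub hT hF).Normal := by
  constructor
  intro n hn g
  rcases hn with rfl | hn
  · left; simp
  · right
    intro c hc
    apply hn (g⁻¹ • c)
    have : g⁻¹ • (g * n * g⁻¹) • c = g⁻¹ • c := by rw [hc]
    simpa [mul_smul] using this

/-- unique element of the kernel mapping `a` to `b` -/
theorem kernelSub_unique (hT : ∀ a b c d : Ω, a ≠ b → c ≠ d → ∃ g : G, g • a = c ∧ g • b = d)
    (hF : ∀ g : G, g ≠ 1 → ∀ a b : Ω, g • a = a → g • b = b → a = b)
    {k k' : G} (hk : k ∈ kernelSub hT hF) (hk' : k' ∈ kernelSub hT hF) {a : Ω}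
    (h : k • a = k' • a) : k = k' := by
  have hmem : k'⁻¹ * k ∈ kernelSub hT hF := (kernelSub hT hF).mul_mem ((kernelSub hT hF).inv_mem hk') hk
  rcases hmem with h1 | h1
  · have := inv_mul_eq_one.mp h1
    exact this.symm
  · exfalso
    apply h1 a
    rw [mul_smul, h, inv_smul_smul]

theorem kernelSub_transitive (hT : ∀ a b c d : Ω, a ≠ b → c ≠ d → ∃ g : G, g • a = c ∧ g • b = d)
    (hF : ∀ g : G, g ≠ 1 → ∀ a b : Ω, g • a = a → g • b = b → a = b) (a b : Ω) :
    ∃ k ∈ kernelSub hT hF, k • a = b := by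
  by_cases hab : a = b
  · exact ⟨1, (kernelSub hT hF).one_mem, by simp [hab]⟩
  · obtain ⟨g, hg, _⟩ := key hT hF a b hab
    exact ⟨g, Or.inr hg.2, hg.1⟩

/-- all non-identity elements of the kernel are conjugate -/
theorem kernelSub_conj (hT : ∀ a b c d : Ω, a ≠ b → c ≠ d → ∃ g : G, g • a = c ∧ g • b = d)
    (hF : ∀ g : G, g ≠ 1 → ∀ a b : Ω, g • a = a → g • b = b → a = b) [Nonempty Ω]
    {k k' : G} (hk : k ∈ kernelSub hT hF) (hk' : k' ∈ kernelSub hT hF) (hk1 : k ≠ 1) (hk1' : k' ≠ 1) :
    ∃ h : G, h * k * h⁻¹ = k' := by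
  obtain ⟨a⟩ := ‹Nonempty Ω›
  have hka : k • a ≠ a := by
    rcases hk with h | h
    · exact absurd h hk1
    · exact h a
  have hka' : k' • a ≠ a := by
    rcases hk' with h | h
    · exact absurd h hk1'
    · exact h a
  obtain ⟨h, hh1, hh2⟩ := hT a (k • a) a (k' • a) (Ne.symm hka) (Ne.symm hka')
  refine ⟨h, ?_⟩
  have hmem : h * k * h⁻¹ ∈ kernelSub hT hF := (kernelSub_normal hT hF).conj_mem k hk h
  apply kernelSub_unique hT hF hmem hk' (a := a)
  have hinv : h⁻¹ • a = a := by rw [inv_smul_eq_iff, hh1]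
  rw [mul_smul, mul_smul, hinv, hh2]


/-- structure of the kernel: prime power order, exponent `p`, abelian -/
theorem kernelSub_structure (hT : ∀ a b c d : Ω, a ≠ b → c ≠ d → ∃ g : G, g • a = c ∧ g • b = d)
    (hF : ∀ g : G, g ≠ 1 → ∀ a b : Ω, g • a = a → g • b = b → a = b) (h2 : 2 ≤ Fintype.card Ω) :
    ∃ p j : ℕ, p.Prime ∧ 1 ≤ j ∧ Fintype.card Ω = p ^ j ∧ Nat.card (kernelSub hT hF) = p ^ j ∧
      (∀ x ∈ kernelSub hT hF, x ^ p = 1) ∧
      (∀ x ∈ kernelSub hT hF, ∀ y ∈ kernelSub hT hF, x * y = y * x) := by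
  classical
  set K := kernelSub hT hF with hK
  have hne : Nonempty Ω := by
    rw [← Fintype.card_pos_iff]; omega
  have a₀ : Ω := hne.some
  have hKn : K.Normal := kernelSub_normal hT hF
  -- |K| = n
  have hcardK : Nat.card K = Fintype.card Ω := by
    rw [← Nat.card_eq_fintype_card]
    apply Nat.card_congr
    refine Equiv.ofBijective (fun k : K => (k : G) • a₀) ⟨?_, ?_⟩
    · intro k k' h
      exact Subtype.ext (kernelSub_unique hT hF k.2 k'.2 h)
    · intro b
      obtain ⟨k, hk, hkb⟩ := kernelSub_transitive hT hF a₀ b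
      exact ⟨⟨k, hk⟩, hkb⟩
  -- a prime dividing n
  obtain ⟨p, hp, hpn⟩ := Nat.exists_prime_and_dvd (show Fintype.card Ω ≠ 1 by omega)
  have : Fact p.Prime := ⟨hp⟩
  obtain ⟨k₀, hk₀⟩ := exists_prime_orderOf_dvd_card' (G := K) p (by rw [hcardK]; exact hpn)
  have hk₀1 : (k₀ : G) ≠ 1 := by
    intro h
    have : k₀ = 1 := Subtype.ext h
    rw [this, orderOf_one] at hk₀
    exact hp.ne_one hk₀.symm
  have hk₀' : orderOf (k₀ : G) = p := by rw [Subgroup.orderOf_coe]; exact hk₀
  have hord : ∀ x ∈ K, x ≠ 1 → orderOf x = p := by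
    intro x hx hx1
    obtain ⟨h, hh⟩ := kernelSub_conj hT hF k₀.2 hx hk₀1 hx1
    rw [← hh]
    have : h * (k₀ : G) * h⁻¹ = MulAut.conj h (k₀ : G) := by simp [MulAut.conj_apply]
    rw [this, MulEquiv.orderOf_eq, hk₀']
  have hexp : ∀ x ∈ K, x ^ p = 1 := by
    intro x hx
    by_cases hx1 : x = 1
    · rw [hx1, one_pow]
    · rw [← hord x hx hx1]; exact pow_orderOf_eq_one x
  have hpg : IsPGroup p K := by
    intro k
    refine ⟨1, ?_⟩
    rw [pow_one]
    apply Subtype.ext
    rw [Subgroup.coe_pow, Subgroup.coe_one]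
    exact hexp k k.2
  obtain ⟨j, hj⟩ := hpg.exists_card_eq
  have hj1 : 1 ≤ j := by
    by_contra h
    have : j = 0 := by omega
    rw [this, pow_zero, hcardK] at hj
    omega
  refine ⟨p, j, hp, hj1, by rw [← hcardK, hj], hj, hexp, ?_⟩
  -- commutativity via the centre
  have hKnt : Nontrivial K := ⟨⟨k₀, 1, fun h => hk₀1 (congrArg Subtype.val h)⟩⟩
  have hcnt : Nontrivial (Subgroup.center K) := hpg.center_nontrivial
  obtain ⟨z, hz1⟩ := exists_ne (1 : Subgroup.center K)
  have hzK : ((z : K) : G) ∈ K := (z : K).2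
  have hz1' : ((z : K) : G) ≠ 1 := by
    intro h
    apply hz1
    apply Subtype.ext
    apply Subtype.ext
    exact h
  have hzc : ∀ y ∈ K, ((z : K) : G) * y = y * ((z : K) : G) := by
    intro y hy
    have := Subgroup.mem_center_iff.mp z.2 ⟨y, hy⟩
    have h2 := congrArg Subtype.val this
    simpa using h2.symm
  intro x hx y hy
  by_cases hx1 : x = 1
  · rw [hx1]; simp
  obtain ⟨h, hh⟩ := kernelSub_conj hT hF hzK hx hz1' hx1
  have hyc : h⁻¹ * y * h ∈ K := by
    have := hKn.conj_mem y hy h⁻¹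
    simpa using this
  have hcomm := hzc _ hyc
  rw [← hh]
  calc h * ((z : K) : G) * h⁻¹ * y = h * (((z : K) : G) * (h⁻¹ * y * h)) * h⁻¹ := by group
    _ = h * ((h⁻¹ * y * h) * ((z : K) : G)) * h⁻¹ := by rw [hcomm]
    _ = y * (h * ((z : K) : G) * h⁻¹) := by group

end Abstract


/-- A finite sharply 2-transitive group has prime power degree; its Sylow `p`-subgroup is normal,
regular, elementary abelian and consists of the identity and the derangements. -/
theorem result {α : Type*} [Fintype α] [DecidableEq α] (G : Subgroup (Equiv.Perm α)) [MulAction.IsMultiplyPretransitive G α 2] (hsharp : ∀ x : Fin 2 ↪ α, MulAction.stabilizer G x = ⊥) (h2 : 2 ≤ Fintype.card α) : ∃ p j : ℕ, p.Prime ∧ 1 ≤ j ∧ Fintype.card α = p ^ j ∧ ∀ (hp : Fact p.Prime) (P : Sylow p G), (P : Subgroup G).Normal ∧ IsMulCommutative (P : Subgroup G) ∧ (∀ x ∈ (P : Subgroup G), x ^ p = 1) ∧ MulAction.IsPretransitive (P : Subgroup G) α ∧ (∀ a : α, MulAction.stabilizer (P : Subgroup G) a = ⊥) ∧ ∀ g : G, g ∈ (P : Subgroup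 G) ↔ g = 1 ∨ ∀ a : α, g • a ≠ a := by
  classical
  let _ : Fintype G := Fintype.ofFinite G
  have hT : ∀ a b c d : α, a ≠ b → c ≠ d → ∃ g : G, g • a = c ∧ g • b = d := by
    intro a b c d hab hcd
    exact (MulAction.is_two_pretransitive_iff (G := G) (α := α)).mp inferInstance hab hcd
  have hF : ∀ g : G, g ≠ 1 → ∀ a b : α, g • a = a → g • b = b → a = b := by
    intro g hg a b ha hb
    by_contra hab
    apply hg
    have : g ∈ MulAction.stabilizer G (Function.Embedding.embFinTwo hab) := by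
      rw [MulAction.mem_stabilizer_iff]
      ext i
      change g • (Function.Embedding.embFinTwo hab i) = _
      by_cases hi : i = 0
      · rw [hi, Function.Embedding.embFinTwo_apply_zero]; exact ha
      · rw [Fin.eq_one_of_ne_zero i hi, Function.Embedding.embFinTwo_apply_one]; exact hb
    rw [hsharp, Subgroup.mem_bot] at this
    exact this
  obtain ⟨p, j, hp, hj1, hcard, hcardK, hexp, hcomm⟩ := kernelSub_structure hT hF h2
  refine ⟨p, j, hp, hj1, hcard, ?_⟩
  intro hpf P
  set K := kernelSub hT hF with hK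
  have hKn : K.Normal := kernelSub_normal hT hF
  have hKp : IsPGroup p K := IsPGroup.of_card hcardK
  have hKP : K ≤ (P : Subgroup G) := hKp.le_sylow_of_normal P
  have hPK : (P : Subgroup G) ≤ K := by
    intro g hg
    by_contra hgK
    have hg1 : g ≠ 1 := fun h => hgK (by rw [h]; exact K.one_mem)
    have hfix : ∃ a : α, g • a = a := by
      by_contra hcon
      push Not at hcon
      exact hgK (Or.inr hcon)
    obtain ⟨a, ha⟩ := hfix
    obtain ⟨k, hk⟩ := P.isPGroup' ⟨g, hg⟩
    have hk' : (g : Equiv.Perm α) ^ p ^ k = 1 := by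
      have := congrArg (fun x : (P : Subgroup G) => ((x : G) : Equiv.Perm α)) hk
      simpa using this
    obtain ⟨b, hb, hba⟩ := Equiv.Perm.exists_fixed_point_of_prime' (p := p) (n := k)
      (by rw [hcard]; exact dvd_pow_self p (by omega)) hk' (a := a) ha
    exact hba (hF g hg1 b a hb ha)
  have hPeq : (P : Subgroup G) = K := le_antisymm hPK hKP
  rw [hPeq]
  refine ⟨hKn, ⟨⟨fun x y => Subtype.ext (hcomm x x.2 y y.2)⟩⟩, hexp, ?_, ?_, ?_⟩
  · constructor
    intro a b
    obtain ⟨k, hk, hkb⟩ := kernelSub_transitive hT hF a b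
    exact ⟨⟨k, hk⟩, hkb⟩
  · intro a
    rw [Subgroup.eq_bot_iff_forall]
    intro k hk
    have hk' : (k : G) • a = a := hk
    rcases k.2 with h | h
    · exact Subtype.ext h
    · exact absurd hk' (h a)
  · intro g
    exact mem_kernelSub hT hF g

end Cfsg.Agent.S0680
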