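import Mathlib
import Cfsg.Statements.S0266
import Cfsg.Agent.Helper5.PGL2Trans

set_option autoImplicit false
open Cfsg

namespace Cfsg.Agent.S0266

open Cfsg.Agent.Helper5

/-- PGL_2(F) is sharply 3-transitive on the projective line: it is 3-transitive and the stabiliser of three distinct points is trivial. -/
theorem result {F : Type*} [Field F] : MulAction.IsMultiplyPretransitive (Matrix.ProjGenLinGroup (Fin 2) F) (Projectivization F (Fin 2 → F)) 3 ∧ ∀ (g : Matrix.ProjGenLinGroup (Fin 2) F) (a b c : Projectivization F (Fin 2 → F)), a ≠ b → a ≠ c → b ≠ c → g • a = a → g • b = b → g • c = c → g = 1 := by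
  constructor
  · constructor
    intro x y
    obtain ⟨gx, hx0, hx1, hx2⟩ := exists_pgl_frame (x 0) (x 1) (x 2)
      (x.injective.ne (by decide)) (x.injective.ne (by decide)) (x.injective.ne (by decide))
    obtain ⟨gy, hy0, hy1, hy2⟩ := exists_pgl_frame (y 0) (y 1) (y 2)
      (y.injective.ne (by decide)) (y.injective.ne (by decide)) (y.injective.ne (by decide))
    refine ⟨gy * gx⁻¹, ?_⟩
    ext i
    fin_cases i
    · change (gy * gx⁻¹) • x 0 = y 0
      rw [← hx0, mul_smul, inv_smul_smul, hy0]
    · change (gy * gx⁻¹) • x 1 = y 1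
      rw [← hx1, mul_smul, inv_smul_smul, hy1]
    · change (gy * gx⁻¹) • x 2 = y 2
      rw [← hx2, mul_smul, inv_smul_smul, hy2]
  · intro g a b c hab hac hbc ha hb hc
    obtain ⟨h, h0, h1, h2⟩ := exists_pgl_frame a b c hab hac hbc
    have key : h⁻¹ * g * h = 1 := by
      apply pgl_eq_one_of_fix_frame
      · rw [mul_smul, mul_smul, h0, ha, ← h0, inv_smul_smul]
      · rw [mul_smul, mul_smul, h1, hb, ← h1, inv_smul_smul]
      · rw [mul_smul, mul_smul, h2, hc, ← h2, inv_smul_smul]
    have : g = h * (h⁻¹ * g * h) * h⁻¹ := by group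
    rw [this, key]; group

end Cfsg.Agent.S0266
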