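import Cfsg.Statements.S0728
-- import your own Cfsg.Agent.* helpers here

set_option autoImplicit false
open Cfsg

namespace Cfsg.Agent.S0728

section helpers

open MulAction

variable {Γ : Type*} [Group Γ] {Ω : Type*} [MulAction Γ Ω]

theorem injective_vec3 {a1 a2 a3 : Ω} (h12 : a1 ≠ a2) (h13 : a1 ≠ a3) (h23 : a2 ≠ a3) :
    Function.Injective ![a1, a2, a3] := by
  intro i j h
  fin_cases i <;> fin_cases j <;> simp_all

theorem exists_map3 (h3 : IsMultiplyPretransitive Γ Ω 3) {a1 a2 a3 b1 b2 b3 : Ω}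
    (h12 : a1 ≠ a2) (h13 : a1 ≠ a3) (h23 : a2 ≠ a3)
    (k12 : b1 ≠ b2) (k13 : b1 ≠ b3) (k23 : b2 ≠ b3) :
    ∃ g : Γ, g • a1 = b1 ∧ g • a2 = b2 ∧ g • a3 = b3 := by
  let a : Fin 3 ↪ Ω := ⟨![a1, a2, a3], injective_vec3 h12 h13 h23⟩
  let b : Fin 3 ↪ Ω := ⟨![b1, b2, b3], injective_vec3 k12 k13 k23⟩
  obtain ⟨g, hg⟩ := h3.exists_smul_eq a b
  refine ⟨g, ?_, ?_, ?_⟩
  · simpa [a, b] using DFunLike.congr_fun hg 0
  · simpa [a, b] using DFunLike.congr_fun hg 1
  · simpa [a, b] using DFunLike.congr_fun hg 2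

theorem eq_one_of_fix3 (hsharp : ∀ x : Fin 3 ↪ Ω, stabilizer Γ x = ⊥) {a1 a2 a3 : Ω}
    (h12 : a1 ≠ a2) (h13 : a1 ≠ a3) (h23 : a2 ≠ a3) {g : Γ}
    (g1 : g • a1 = a1) (g2 : g • a2 = a2) (g3 : g • a3 = a3) : g = 1 := by
  let a : Fin 3 ↪ Ω := ⟨![a1, a2, a3], injective_vec3 h12 h13 h23⟩
  have : g ∈ stabilizer Γ a := by
    rw [mem_stabilizer_iff]
    ext i
    fin_cases i <;> simp [a, g1, g2, g3]
  rw [hsharp a] at this
  exact Subgroup.mem_bot.mp this

/-- the orbit of a non-fixed point under an element of order three -/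
theorem orbit3_distinct {w : Γ} (hw3 : w ^ 3 = 1) {c : Ω} (hc : w • c ≠ c) :
    c ≠ w • c ∧ c ≠ w • w • c ∧ w • c ≠ w • w • c := by
  have h3 : w • w • w • c = c := by
    rw [← mul_smul, ← mul_smul, ← pow_two, ← pow_succ, hw3, one_smul]
  refine ⟨Ne.symm hc, ?_, ?_⟩
  · intro h
    apply hc
    have h' : w • c = w • w • w • c := congrArg (fun z => w • z) h
    rw [h3] at h'
    exact h'
  · intro h
    exact hc (MulAction.injective w h).symm

/-- two elements of order three with the same two fixed points are conjugate by an element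
fixing a given third point and preserving the pair of fixed points. -/
theorem exists_conj_of_order3 (h3 : IsMultiplyPretransitive Γ Ω 3)
    (hsharp : ∀ x : Fin 3 ↪ Ω, stabilizer Γ x = ⊥) {u w : Γ} (hu3 : u ^ 3 = 1) (hw3 : w ^ 3 = 1)
    (hw1 : w ≠ 1) {a b c : Ω} (hab : a ≠ b) (hca : c ≠ a) (hcb : c ≠ b)
    (ua : u • a = a) (ub : u • b = b) (wa : w • a = a) (wb : w • b = b) (huc : u • c ≠ c) :
    ∃ g : Γ, g * u * g⁻¹ = w ∧ g • c = c ∧
      ((g • a = a ∧ g • b = b) ∨ (g • a = b ∧ g • b = a)) := by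
  have hwc : w • c ≠ c := by
    intro h
    exact hw1 (eq_one_of_fix3 hsharp hab hca.symm hcb.symm wa wb h)
  obtain ⟨d1, d2, d3⟩ := orbit3_distinct hu3 huc
  obtain ⟨e1, e2, e3⟩ := orbit3_distinct hw3 hwc
  obtain ⟨g, g1, g2, g3⟩ := exists_map3 h3 d1 d2 d3 e1 e2 e3
  have hw3' : w • w • w • c = c := by
    rw [← mul_smul, ← mul_smul, ← pow_two, ← pow_succ, hw3, one_smul]
  have hu3' : u • u • u • c = c := by
    rw [← mul_smul, ← mul_smul, ← pow_two, ← pow_succ, hu3, one_smul]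
  have i1 : g⁻¹ • c = c := by rw [inv_smul_eq_iff, g1]
  have i2 : g⁻¹ • w • c = u • c := by rw [inv_smul_eq_iff, g2]
  have i3 : g⁻¹ • w • w • c = u • u • c := by rw [inv_smul_eq_iff, g3]
  have wi1 : w⁻¹ • w • c = c := inv_smul_smul w c
  have wi2 : w⁻¹ • w • w • c = w • c := inv_smul_smul w _
  have wi3 : w⁻¹ • c = w • w • c := by rw [inv_smul_eq_iff, hw3']
  have key : g * u * g⁻¹ * w⁻¹ = 1 := by
    apply eq_one_of_fix3 hsharp e1 e2 e3
    · rw [mul_smul, mul_smul, mul_smul, wi3, i3, hu3', g1]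
    · rw [mul_smul, mul_smul, mul_smul, wi1, i1, g2]
    · rw [mul_smul, mul_smul, mul_smul, wi2, i2, g3]
  have hconj : g * u * g⁻¹ = w := by
    rw [mul_inv_eq_one] at key
    exact key
  refine ⟨g, hconj, g1, ?_⟩
  -- g permutes the fixed points
  have hfix : ∀ p : Ω, u • p = p → w • (g • p) = g • p := by
    intro p hp
    rw [← hconj, mul_smul, mul_smul, inv_smul_smul, hp]
  have hwfix : ∀ p : Ω, w • p = p → p = a ∨ p = b := by
    intro p hp
    by_contra hcon
    push Not at hcon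
    exact hw1 (eq_one_of_fix3 hsharp hab (Ne.symm hcon.1) (Ne.symm hcon.2) wa wb hp)
  have hgab : g • a ≠ g • b := fun h => hab (MulAction.injective g h)
  rcases hwfix _ (hfix a ua) with ha | ha <;> rcases hwfix _ (hfix b ub) with hb | hb
  · exact absurd (ha.trans hb.symm) hgab
  · exact Or.inl ⟨ha, hb⟩
  · exact Or.inr ⟨ha, hb⟩
  · exact absurd (ha.trans hb.symm) hgab

/-- two elements of order three with the same two fixed points are equal or inverse. -/
theorem eq_or_eq_inv_of_order3 (h3 : IsMultiplyPretransitive Γ Ω 3)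
    (hsharp : ∀ x : Fin 3 ↪ Ω, stabilizer Γ x = ⊥) {u v : Γ} (hu3 : u ^ 3 = 1) (hv3 : v ^ 3 = 1)
    (hu1 : u ≠ 1) (hv1 : v ≠ 1) {a b c : Ω} (hab : a ≠ b) (hca : c ≠ a) (hcb : c ≠ b)
    (ua : u • a = a) (ub : u • b = b) (va : v • a = a) (vb : v • b = b) :
    v = u ∨ v = u⁻¹ := by
  have huc : u • c ≠ c := fun h => hu1 (eq_one_of_fix3 hsharp hab hca.symm hcb.symm ua ub h)
  have hui3 : u⁻¹ ^ 3 = 1 := by rw [inv_pow, hu3, inv_one]
  have hui1 : u⁻¹ ≠ 1 := fun h => hu1 (inv_eq_one.mp h)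
  have uia : u⁻¹ • a = a := by rw [inv_smul_eq_iff, ua]
  have uib : u⁻¹ • b = b := by rw [inv_smul_eq_iff, ub]
  obtain ⟨g, hg, gc, gab⟩ := exists_conj_of_order3 h3 hsharp hu3 hv3 hv1 hab hca hcb ua ub va vb huc
  obtain ⟨g', hg', gc', gab'⟩ :=
    exists_conj_of_order3 h3 hsharp hu3 hui3 hui1 hab hca hcb ua ub uia uib huc
  rcases gab with ⟨ga, gb⟩ | ⟨ga, gb⟩
  · left
    have : g = 1 := eq_one_of_fix3 hsharp hab hca.symm hcb.symm ga gb gc
    rw [← hg, this]; group
  · right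
    rcases gab' with ⟨ga', gb'⟩ | ⟨ga', gb'⟩
    · exfalso
      have : g' = 1 := eq_one_of_fix3 hsharp hab hca.symm hcb.symm ga' gb' gc'
      rw [this] at hg'
      have h1 : u = u⁻¹ := by rw [← hg']; group
      have h2 : u * u = 1 := by
        have := mul_inv_cancel u
        rwa [← h1] at this
      apply hu1
      calc u = u ^ 3 * (u * u)⁻¹ := by rw [pow_succ, pow_two]; group
        _ = 1 := by rw [hu3, h2]; group
    · have : g'⁻¹ * g = 1 := by
        apply eq_one_of_fix3 hsharp hab hca.symm hcb.symm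
        · rw [mul_smul, ga, inv_smul_eq_iff, ga']
        · rw [mul_smul, gb, inv_smul_eq_iff, gb']
        · rw [mul_smul, gc, inv_smul_eq_iff, gc']
      have hgg : g = g' := by
        rw [inv_mul_eq_one] at this
        exact this.symm
      rw [← hg, hgg, hg']

/-- a subgroup of order three is generated by any of its non-identity elements -/
theorem eq_zpowers_of_card_three (A : Subgroup Γ) (hA : Nat.card A = 3) {v : Γ} (hv : v ∈ A)
    (hv1 : v ≠ 1) : A = Subgroup.zpowers v := by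
  have hfin : Finite A := Nat.finite_of_card_ne_zero (by omega)
  have hv3 : v ^ 3 = 1 := by
    have := pow_card_eq_one' (G := A) (x := ⟨v, hv⟩)
    rw [hA] at this
    exact congrArg Subtype.val this
  have ho : orderOf v = 3 := orderOf_eq_prime hv3 hv1
  symm
  apply Subgroup.eq_of_le_of_card_ge
  · rw [Subgroup.zpowers_le]; exact hv
  · rw [Nat.card_zpowers, ho, hA]

theorem exists_ne_one_pow_three (A : Subgroup Γ) (hA : Nat.card A = 3) :
    ∃ u ∈ A, u ≠ 1 ∧ u ^ 3 = 1 := by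
  have hfin : Finite A := Nat.finite_of_card_ne_zero (by omega)
  have hne : A ≠ ⊥ := by
    intro h
    rw [h, Subgroup.card_bot] at hA
    omega
  obtain ⟨u', hu'⟩ := (Subgroup.ne_bot_iff_exists_ne_one).mp hne
  refine ⟨u', u'.2, fun h => hu' (Subtype.ext h), ?_⟩
  have := pow_card_eq_one' (G := A) (x := u')
  rw [hA] at this
  exact congrArg Subtype.val this

end helpers

open MulAction in
/-- In a sharply triply transitive group of even degree at least 6 (degree `q + 1`, `q` odd), a two-point stabiliser has at most one subgroup of order 3. -/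
theorem result {α : Type*} [Fintype α] [DecidableEq α] (heven : Even (Fintype.card α)) (h6 : 6 ≤ Fintype.card α) (G : Subgroup (Equiv.Perm α)) (h3 : MulAction.IsMultiplyPretransitive G α 3) (hsharp : ∀ x : Fin 3 ↪ α, MulAction.stabilizer G x = ⊥) {a b : α} (hab : a ≠ b) (A B : Subgroup G) (hA : A ≤ MulAction.stabilizer G a ⊓ MulAction.stabilizer G b) (hB : B ≤ MulAction.stabilizer G a ⊓ MulAction.stabilizer G b) (hA3 : Nat.card A = 3) (hB3 : Nat.card B = 3) : A = B := by
  have hlt : ({a, b} : Finset α).card < (Finset.univ : Finset α).card := by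
    have := Finset.card_le_two (a := a) (b := b)
    rw [Finset.card_univ]
    omega
  obtain ⟨c, -, hc⟩ := Finset.exists_mem_notMem_of_card_lt_card hlt
  simp only [Finset.mem_insert, Finset.mem_singleton, not_or] at hc
  obtain ⟨u, huA, hu1, hu3⟩ := exists_ne_one_pow_three A hA3
  obtain ⟨v, hvB, hv1, hv3⟩ := exists_ne_one_pow_three B hB3
  have hu := hA huA
  have hv := hB hvB
  simp only [Subgroup.mem_inf, mem_stabilizer_iff] at hu hv
  have hvA : v ∈ A := by
    rcases eq_or_eq_inv_of_order3 h3 hsharp hu3 hv3 hu1 hv1 hab hc.1 hc.2 hu.1 hu.2 hv.1 hv.2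
      with h | h
    · rw [h]; exact huA
    · rw [h]; exact inv_mem huA
  rw [eq_zpowers_of_card_three A hA3 hvA hv1, eq_zpowers_of_card_three B hB3 hvB hv1]

end Cfsg.Agent.S0728
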