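import Cfsg.Statements.S1227
import Cfsg.Agent.Helper21.CIT2

set_option autoImplicit false
open Cfsg

namespace Cfsg.Agent.S1227

open Cfsg.Agent.Helper21

/-- Let G be a finite group with a Sylow 2-subgroup T that is neither cyclic nor normal, such that the centralizer of every involution is an elementary abelian 2-group; put H = N_G(T), let u be an involution outside H and D = H ∩ uHu⁻¹. Then u inverts every element of D, |H| = |T|·(|T| − 1), and D is a complement to T in H. -/
theorem result {G : Type*} [Group G] [Finite G] (T : Sylow 2 G) (hnc : ¬ IsCyclic (T : Subgroup G)) (hnn : ¬ (T : Subgroup G).Normal) (hC : ∀ t : G, orderOf t = 2 → IsMulCommutative (Subgroup.centralizer ({t} : Set G)) ∧ ∀ c ∈ Subgroup.centralizer ({t} : Set G), c ^ 2 = 1) (u : G) (hu : orderOf u = 2) (huH : u ∉ Subgroup.normalizer ((T : Subgroup G) : Set G)) : (∀ d ∈ Subgroup.normalizer ((T : Subgroup G) : Set G) ⊓ (Subgroup.normalizer ((T : Subgroup G) : Set G)).map (MulAut.conj u).toMonoidHom, u * d * u⁻¹ = d⁻¹) ∧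 Nat.card (Subgroup.normalizer ((T : Subgroup G) : Set G)) = Nat.card T * (Nat.card T - 1) ∧ Subgroup.IsComplement' ((Subgroup.normalizer ((T : Subgroup G) : Set G) ⊓ (Subgroup.normalizer ((T : Subgroup G) : Set G)).map (MulAut.conj u).toMonoidHom).subgroupOf (Subgroup.normalizer ((T : Subgroup G) : Set G))) ((T : Subgroup G).subgroupOf (Subgroup.normalizer ((T : Subgroup G) : Set G))) := by
  have hC' : CITHyp G := hC
  obtain ⟨h1, h2, h3⟩ := CITHyp.structure hC' T hnc hnn hu huH
  have hdisj := fun d hd hdT => CITHyp.eq_one_of_mem_inf_of_mem hC' T hnc hnn huH (d := d) hd hdT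
  set N := Subgroup.normalizer ((T : Subgroup G) : Set G) with hN
  set D := N ⊓ N.map (MulAut.conj u).toMonoidHom with hD
  have hTN : (T : Subgroup G) ≤ N := Subgroup.le_normalizer
  have hDN : D ≤ N := inf_le_left
  have hcomp : Subgroup.IsComplement' (D.subgroupOf N) ((T : Subgroup G).subgroupOf N) := by
    apply Subgroup.isComplement'_of_disjoint_and_mul_eq_univ
    · rw [Subgroup.disjoint_def]
      intro x hxD hxT
      rw [Subgroup.mem_subgroupOf] at hxD hxT
      exact Subtype.ext (hdisj _ hxD hxT)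
    · rw [Set.eq_univ_iff_forall]
      rintro ⟨h, hh⟩
      obtain ⟨d, hdD, t, htT, rfl⟩ := h3 h hh
      rw [Set.mem_mul]
      refine ⟨⟨d, hDN hdD⟩, ?_, ⟨t, hTN htT⟩, ?_, rfl⟩
      · exact Subgroup.mem_subgroupOf.2 hdD
      · exact Subgroup.mem_subgroupOf.2 htT
  refine ⟨h1, ?_, hcomp⟩
  have hc := hcomp.card_mul_card
  rw [Nat.card_congr (Subgroup.subgroupOfEquivOfLe hDN).toEquiv,
    Nat.card_congr (Subgroup.subgroupOfEquivOfLe hTN).toEquiv, h2] at hc
  rw [← hc, mul_comm]

end Cfsg.Agent.S1227
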