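import Cfsg.Statements.S1230
import Cfsg.Agent.Helper21.CITAction
import Cfsg.Agent.Helper21.MoebiusTransport
import Cfsg.Agent.S1227

set_option autoImplicit false
set_option linter.style.haveILetI false
open Cfsg

namespace Cfsg.Agent.S1230

open Cfsg.Agent.Helper21 Cfsg.Agent.Helper4

/-- Let G be a finite group with a Sylow 2-subgroup T that is neither cyclic nor normal, such that the centralizer of every involution is an elementary abelian 2-group. Then G ≅ PSL(2,F) for a finite field F with |F| = |T|. -/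
theorem result {G : Type*} [Group G] [Finite G] (T : Sylow 2 G) (hnc : ¬ IsCyclic (T : Subgroup G)) (hnn : ¬ (T : Subgroup G).Normal) (hC : ∀ t : G, orderOf t = 2 → IsMulCommutative (Subgroup.centralizer ({t} : Set G)) ∧ ∀ c ∈ Subgroup.centralizer ({t} : Set G), c ^ 2 = 1) : ∃ (F : Type) (_ : Field F) (_ : Fintype F), Fintype.card F = Nat.card T ∧ Nonempty (G ≃* Matrix.ProjectiveSpecialLinearGroup (Fin 2) F) := by
  classical
  have hC' : CITHyp G := hC
  have hT := sylow_ne_bot_of_not_isCyclic T hnc
  have hH := CITHyp.isStronglyEmbedded hC' T hnc hnn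
  obtain ⟨u, hu, huH⟩ := IsStronglyEmbedded.exists_invol_not_mem hH
  obtain ⟨e, heT, he2, -⟩ := CITHyp.exists_centralizer_eq hC' T hT
  let c : CITData G := ⟨hC', T, hnc, hnn, u, hu, huH, e, heT, ne_one_of_orderOf_two he2⟩
  -- faithfulness
  have hfaith : ∀ g : G, (∀ x : G ⧸ c.N, g • x = x) → g = 1 := by
    intro g hg
    by_contra hne
    have hgD : g ∈ c.D := CITHyp.mem_inf_of_smul_eq c.T (hg _) (hg _)
    rcases CITHyp.eq_of_smul_eq c.hC c.T c.hnc c.hnn c.hu c.huH hgD hne _
      (hg (c.iota ((1 : c.F) : OnePoint c.F))) with h | h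
    · exact c.iota_coe_ne 1 h
    · have h0 : c.iota ((1 : c.F) : OnePoint c.F) = c.iota ((0 : c.F) : OnePoint c.F) := by
        rw [h, c.iota_coe, c.zero_val, one_mul]
      exact one_ne_zero (OnePoint.coe_injective (c.iota_injective h0))
  -- cardinalities
  have hq : Nat.card c.F = Nat.card (T : Subgroup G) := c.card_F
  have hqpos : 0 < Nat.card c.F := Nat.card_pos
  have hcardN : Nat.card c.N = Nat.card c.F * (Nat.card c.F - 1) := by
    rw [hq]
    exact (Cfsg.Agent.S1227.result T hnc hnn hC u hu huH).2.1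
  have hidx : c.N.index = Nat.card c.F + 1 := by
    have h1 : c.N.index = Nat.card (G ⧸ c.N) := rfl
    rw [h1, ← Nat.card_congr c.iotaEquiv]
    exact Finite.card_option
  have hcard : Nat.card G = Nat.card c.F * (Nat.card c.F ^ 2 - 1) := by
    rw [← c.N.card_mul_index, hcardN, hidx]
    obtain ⟨k, hk⟩ : ∃ k, Nat.card c.F = k + 1 := ⟨Nat.card c.F - 1, by omega⟩
    rw [hk]
    have h3 : (k + 1) ^ 2 - 1 = k * (k + 2) := by
      have : (k + 1) ^ 2 = k * (k + 2) + 1 := by ring
      rw [this]; simp
    rw [h3, Nat.add_sub_cancel]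
    ring
  -- transport to `Type`
  let e0 : Carrier (Nat.card c.F) ≃ c.F :=
    (Carrier.equivFin (Nat.card c.F)).trans (Finite.equivFin c.F).symm
  letI : Field (Carrier (Nat.card c.F)) := e0.field
  let φ : Carrier (Nat.card c.F) ≃+* c.F := e0.ringEquiv
  have h2 : (2 : Carrier (Nat.card c.F)) = 0 := by
    apply φ.injective
    rw [map_ofNat, map_zero]
    exact c.two_eq_zero
  have hstar := hstar_transport (G := G) φ c.iotaEquiv c.rel_all
  have hcard' : Nat.card G = Nat.card (Carrier (Nat.card c.F)) *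
      (Nat.card (Carrier (Nat.card c.F)) ^ 2 - 1) := by
    rw [Nat.card_eq_fintype_card (α := Carrier (Nat.card c.F)), card_carrier]
    exact hcard
  have hfin := nonempty_mulEquiv_PSL2 hfaith h2 ((onePointCongr φ.toEquiv).trans c.iotaEquiv)
    hstar hcard'
  refine ⟨Carrier (Nat.card c.F), inferInstance, inferInstance, ?_, hfin⟩
  rw [card_carrier, hq]

end Cfsg.Agent.S1230
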