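import Cfsg.Statements.S0727
import Cfsg.Agent.Helper21.Sharp3
import Cfsg.Agent.S1230
import Cfsg.Agent.S0728
import Cfsg.Agent.S0266
import Cfsg.Agent.S0265

set_option autoImplicit false
set_option linter.style.haveILetI false
open Cfsg

namespace Cfsg.Agent.S0727

open Cfsg.Agent.Helper21 MulAction

/-- `PSL(2,F) ≃* PGL(2,F)` for a finite field of even order -/
theorem nonempty_psl_equiv_pgl {F : Type*} [Field F] [Fintype F] (hF : Even (Fintype.card F)) :
    Nonempty (Matrix.ProjectiveSpecialLinearGroup (Fin 2) F ≃* Matrix.ProjGenLinGroup (Fin 2) F) := by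
  have h2 : (2 : F) = 0 := Cfsg.Agent.Helper5.two_eq_zero_of_even_card hF
  haveI : CharP F 2 := CharTwo.of_one_ne_zero_of_two_eq_zero one_ne_zero h2
  have hchar : ringChar F = 2 := ringChar.eq F 2
  refine ⟨MulEquiv.ofBijective Matrix.ProjectiveSpecialLinearGroup.toPGL
    ⟨Matrix.ProjectiveSpecialLinearGroup.toPGL_injective,
     Matrix.ProjectiveSpecialLinearGroup.toPGL_surj_of_roots ?_⟩⟩
  intro r
  obtain ⟨s, hs⟩ := FiniteField.isSquare_of_char_two hchar (r : F)
  have hs0 : s ≠ 0 := by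
    rintro rfl
    rw [mul_zero] at hs
    exact r.ne_zero hs
  refine ⟨Units.mk0 s hs0, ?_⟩
  apply Units.ext
  rw [Fintype.card_fin, Units.val_pow_eq_pow_val, Units.val_mk0, pow_two, hs]

/-- A sharply triply transitive permutation group of degree `2^f + 1` is isomorphic to the projective general linear group of degree 2 over the field with `2^f` elements. -/
theorem result {α : Type*} [Fintype α] [DecidableEq α] {f : ℕ} (hf : 1 ≤ f) (hα : Fintype.card α = 2 ^ f + 1) (G : Subgroup (Equiv.Perm α)) (h3 : MulAction.IsMultiplyPretransitive G α 3) (hsharp : ∀ x : Fin 3 ↪ α, MulAction.stabilizer G x = ⊥) : ∃ (F : Type) (_ : Field F) (_ : Fintype F), Fintype.card F = 2 ^ f ∧ Nonempty (G ≃* Matrix.ProjGenLinGroup (Fin 2) F) := by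
  classical
  have h3T : ∀ a1 a2 a3 b1 b2 b3 : α, a1 ≠ a2 → a1 ≠ a3 → a2 ≠ a3 → b1 ≠ b2 → b1 ≠ b3 → b2 ≠ b3 →
      ∃ g : G, g • a1 = b1 ∧ g • a2 = b2 ∧ g • a3 = b3 :=
    fun a1 a2 a3 b1 b2 b3 h12 h13 h23 k12 k13 k23 =>
      Cfsg.Agent.S0728.exists_map3 h3 h12 h13 h23 k12 k13 k23
  have h3S : ∀ (g : G) (a1 a2 a3 : α), a1 ≠ a2 → a1 ≠ a3 → a2 ≠ a3 → g • a1 = a1 → g • a2 = a2 →
      g • a3 = a3 → g = 1 :=
    fun g a1 a2 a3 h12 h13 h23 g1 g2 g3 =>
      Cfsg.Agent.S0728.eq_one_of_fix3 hsharp h12 h13 h23 g1 g2 g3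
  by_cases hf2 : 2 ≤ f
  · obtain ⟨T, hTcard, hnc, hnn, hC⟩ := sharp3_cit (Γ := G) (Ω := α) f hf2
      (by rw [Nat.card_eq_fintype_card, hα]) h3T h3S
    obtain ⟨F, instF, instFin, hFcard, ⟨e⟩⟩ := Cfsg.Agent.S1230.result T hnc hnn hC
    have hFcard' : Fintype.card F = 2 ^ f := by rw [hFcard, hTcard]
    have heven : Even (Fintype.card F) := by
      rw [hFcard']; exact (Nat.even_pow.2 ⟨even_two, by omega⟩)
    obtain ⟨e'⟩ := nonempty_psl_equiv_pgl heven
    exact ⟨F, instF, instFin, hFcard', ⟨e.trans e'⟩⟩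
  · have hf1 : f = 1 := by omega
    subst hf1
    have hα3 : Fintype.card α = 3 := by rw [hα]; norm_num
    refine ⟨ZMod 2, inferInstance, inferInstance, by simp [ZMod.card], ?_⟩
    -- G is everything
    obtain ⟨a, b, c, hab, hac, hbc⟩ := Fintype.two_lt_card_iff.1 (by rw [hα3]; norm_num : 2 < Fintype.card α)
    have hall : ∀ x : α, x = a ∨ x = b ∨ x = c := by
      intro x
      by_contra hcon
      push Not at hcon
      have h4 : 4 ≤ Fintype.card α := by
        have : ({a, b, c, x} : Finset α).card = 4 := by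
          rw [Finset.card_insert_of_notMem, Finset.card_insert_of_notMem,
            Finset.card_insert_of_notMem, Finset.card_singleton]
          · simp [Ne.symm hcon.2.2]
          · simp [hbc, Ne.symm hcon.2.1]
          · simp [hab, hac, Ne.symm hcon.1]
        rw [← this]
        exact Finset.card_le_univ _
      omega
    have htop : G = ⊤ := by
      rw [eq_top_iff]
      intro σ _
      obtain ⟨g, h1, h2, h3'⟩ := h3T a b c (σ a) (σ b) (σ c) hab hac hbc
        (fun h => hab (σ.injective h)) (fun h => hac (σ.injective h)) (fun h => hbc (σ.injective h))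
      have : (g : Equiv.Perm α) = σ := by
        ext x
        rcases hall x with rfl | rfl | rfl
        · exact h1
        · exact h2
        · exact h3'
      rw [← this]; exact g.2
    -- PGL(2, F₂) ≅ Perm of the projective line
    haveI : Fintype (Projectivization (ZMod 2) (Fin 2 → ZMod 2)) := Fintype.ofFinite _
    have hP3 : Fintype.card (Projectivization (ZMod 2) (Fin 2 → ZMod 2)) = 3 := by
      rw [← Nat.card_eq_fintype_card, Cfsg.Agent.Helper5.card_projLine, ZMod.card]
    obtain ⟨-, hPsharp⟩ := Cfsg.Agent.S0266.result (F := ZMod 2)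
    let ψ : Matrix.ProjGenLinGroup (Fin 2) (ZMod 2) →*
        Equiv.Perm (Projectivization (ZMod 2) (Fin 2 → ZMod 2)) := MulAction.toPermHom _ _
    obtain ⟨a', b', c', hab', hac', hbc'⟩ := Fintype.two_lt_card_iff.1
      (by rw [hP3]; norm_num : 2 < Fintype.card (Projectivization (ZMod 2) (Fin 2 → ZMod 2)))
    have hψinj : Function.Injective ψ := by
      rw [injective_iff_map_eq_one]
      intro g hg
      have hfix : ∀ x, g • x = x := fun x => by
        have := congrArg (fun p => p x) hg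
        simpa [ψ] using this
      exact hPsharp g a' b' c' hab' hac' hbc' (hfix a') (hfix b') (hfix c')
    have hcardPGL : Nat.card (Matrix.ProjGenLinGroup (Fin 2) (ZMod 2)) = 6 := by
      rw [Cfsg.Agent.S0265.result, Cfsg.Agent.Helper5.card_SL2, ZMod.card]; norm_num
    have hcardPerm : Nat.card (Equiv.Perm (Projectivization (ZMod 2) (Fin 2 → ZMod 2))) = 6 := by
      rw [Nat.card_eq_fintype_card, Fintype.card_perm, hP3]; rfl
    haveI : Finite (Matrix.ProjGenLinGroup (Fin 2) (ZMod 2)) :=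
      Nat.finite_of_card_ne_zero (by rw [hcardPGL]; norm_num)
    have hψbij : Function.Bijective ψ :=
      hψinj.bijective_of_nat_card_le (by rw [hcardPGL, hcardPerm])
    have e1 : Matrix.ProjGenLinGroup (Fin 2) (ZMod 2) ≃*
        Equiv.Perm (Projectivization (ZMod 2) (Fin 2 → ZMod 2)) := MulEquiv.ofBijective ψ hψbij
    have e2 : α ≃ Projectivization (ZMod 2) (Fin 2 → ZMod 2) :=
      Fintype.equivOfCardEq (by rw [hα3, hP3])
    have e3 : G ≃* Equiv.Perm α := by
      rw [htop]; exact Subgroup.topEquiv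
    exact ⟨e3.trans (e2.permCongrHom.trans e1.symm)⟩

end Cfsg.Agent.S0727
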