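import Cfsg.Statements.S2910
import Cfsg.Agent.Helper78.Frobenius
import Cfsg.Agent.Helper24.OddOmega

set_option autoImplicit false
open Cfsg

namespace Cfsg.Agent.S2910

/-- Let p be an odd prime dividing the order of the finite group G and P a Sylow p-subgroup of G. If Ω₁(P) (generated by the elements of order dividing p) is contained in the centre of G, then G has a normal p-complement. In particular, if G is quasisimple then Ω₁(P) is not central in G. -/
theorem result {G : Type*} [Group G] [Finite G] {p : ℕ} [Fact p.Prime] (hp : p ≠ 2) (hdiv : p ∣ Nat.card G) (P : Sylow p G) (hZ : Cfsg.omegaOne p (P : Subgroup G) ≤ Subgroup.center G) : Cfsg.HasNormalPComplement p G ∧ ¬ Cfsg.IsQuasisimple G := by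
  have hfrob : ∃ N : Subgroup G, N.Normal ∧ N.IsComplement' (P : Subgroup G) := by
    rw [Cfsg.Agent.Helper78.frobenius_normal_pComplement_iff P]
    intro Q hQ g hg hcop
    rw [Subgroup.mem_centralizer_iff]
    intro x hx
    have := Cfsg.Agent.Helper24.commute_of_commute_omega_odd hp hcop Q (P.2.to_le hQ) hg ?_ x hx
    · exact this.symm
    · intro y hy hyp
      have hy1 : y ∈ Cfsg.omegaOne p (P : Subgroup G) :=
        Subgroup.subset_closure ⟨hQ hy, hyp⟩
      exact (Subgroup.mem_center_iff.mp (hZ hy1) g)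
  obtain ⟨N, hNn, hN⟩ := hfrob
  refine ⟨⟨P, N, hNn, hN⟩, ?_⟩
  rintro ⟨hperf, -⟩
  have hidx : N.index = Nat.card (P : Subgroup G) := hN.symm.index_eq_card
  have hcard : Nat.card (G ⧸ N) = Nat.card (P : Subgroup G) := by
    rw [← hidx]; rfl
  obtain ⟨n, hn⟩ := IsPGroup.iff_card.mp P.2
  have hPG : IsPGroup p (G ⧸ N) := IsPGroup.of_card (hcard.trans hn)
  have hnil : Group.IsNilpotent (G ⧸ N) := hPG.isNilpotent
  have hnt : Nontrivial (G ⧸ N) := by
    rw [← Finite.one_lt_card_iff_nontrivial, hcard]
    have h1 : p ∣ Nat.card (P : Subgroup G) := P.dvd_card_of_dvd_card hdiv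
    have h2 : 0 < Nat.card (P : Subgroup G) := Nat.card_pos
    have h3 := Nat.le_of_dvd h2 h1
    have h4 := (Fact.out : p.Prime).one_lt
    omega
  exact Group.IsPerfect.not_isNilpotent (G ⧸ N) hnil

end Cfsg.Agent.S2910
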