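import Cfsg.Statements.S0106
import Cfsg.Agent.Helper2.SL23Rec
import Cfsg.Agent.Helper2.QuatAut
import Cfsg.Agent.Helper78.PNilpotent

set_option autoImplicit false
open Cfsg

namespace Cfsg.Agent.S0106

open Subgroup

/-- Assembly: elements `x, y, g` with the `SL(2,3)` relations modulo `g³` give a section
isomorphic to `SL(2,3)`. -/
theorem exists_section_sl23 {G : Type*} [Group G] (x y z g : G) (hz1 : z ≠ 1) (hz2 : z * z = 1)
    (hxx : x * x = z) (hyy : y * y = z) (hcomm : x * y * x⁻¹ * y⁻¹ = z)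
    (hgx : g * x * g⁻¹ = y) (hgy : g * y * g⁻¹ = x * y) (hodd : Odd (orderOf g)) :
    ∃ (H K : Subgroup G) (hK : (K.subgroupOf H).Normal),
      Nonempty ((H ⧸ K.subgroupOf H) ≃* Matrix.SpecialLinearGroup (Fin 2) (ZMod 3)) := by
  have hzx : z * x = x * z := by rw [← hxx, mul_assoc]
  have hzy : z * y = y * z := by rw [← hyy, mul_assoc]
  have hconj_mul : ∀ a b : G, g * (a * b) * g⁻¹ = (g * a * g⁻¹) * (g * b * g⁻¹) := by
    intro a b; group
  have hxy : x * y = z * (y * x) := by rw [← hcomm]; group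
  have hyx : y * x = z * (x * y) := by rw [hxy, ← mul_assoc, hz2, one_mul]
  have hyxy : y * (x * y) = x := by
    calc y * (x * y) = (y * x) * y := by rw [mul_assoc]
      _ = z * (x * y) * y := by rw [hyx]
      _ = z * x * (y * y) := by simp only [mul_assoc]
      _ = x * (z * z) := by rw [hyy, hzx, mul_assoc]
      _ = x := by rw [hz2, mul_one]
  have hg3 : ∀ w : G, g ^ 3 * w * (g ^ 3)⁻¹ = g * (g * (g * w * g⁻¹) * g⁻¹) * g⁻¹ := by
    intro w
    rw [show (3 : ℕ) = 1 + 1 + 1 from rfl, pow_add, pow_add, pow_one, mul_inv_rev, mul_inv_rev]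
    simp only [mul_assoc]
  have hg3x : Commute (g ^ 3) x := by
    apply Helper2.commute_of_conj_eq
    rw [hg3, hgx, hgy, hconj_mul x y, hgx, hgy, hyxy]
  have hg3y : Commute (g ^ 3) y := by
    apply Helper2.commute_of_conj_eq
    rw [hg3, hgy, hconj_mul x y, hgx, hgy, hyxy, hgx]
  have hg3g : Commute (g ^ 3) g := (Commute.refl g).pow_left 3
  obtain ⟨H, hH⟩ : ∃ H : Subgroup G, H = closure ({x, y, g} : Set G) := ⟨_, rfl⟩
  obtain ⟨K, hK⟩ : ∃ K : Subgroup G, K = zpowers (g ^ 3) := ⟨_, rfl⟩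
  have hcent : ∀ h ∈ H, Commute (g ^ 3) h := by
    have : H ≤ centralizer ({g ^ 3} : Set G) := by
      rw [hH, closure_le]
      intro s hs
      simp only [Set.mem_insert_iff, Set.mem_singleton_iff] at hs
      simp only [SetLike.mem_coe, mem_centralizer_iff, Set.mem_singleton_iff, forall_eq]
      rcases hs with rfl | rfl | rfl
      · exact hg3x.eq
      · exact hg3y.eq
      · exact hg3g.eq
    intro h hh
    have := this hh
    simp only [mem_centralizer_iff, Set.mem_singleton_iff, forall_eq] at this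
    exact this
  have hcentK : ∀ k ∈ K, ∀ h ∈ H, Commute k h := by
    intro k hk h hh
    rw [hK, mem_zpowers_iff] at hk
    obtain ⟨j, rfl⟩ := hk
    exact (hcent h hh).zpow_left j
  have hKn : (K.subgroupOf H).Normal := by
    refine ⟨fun k hk h => ?_⟩
    rw [mem_subgroupOf] at hk ⊢
    have h1 : Commute (k : G) (h : G) := hcentK _ hk _ h.2
    have h2 : ((h * k * h⁻¹ : H) : G) = k := by
      rw [Subgroup.coe_mul, Subgroup.coe_mul, Subgroup.coe_inv, ← h1.eq, mul_inv_cancel_right]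
    rw [h2]; exact hk
  refine ⟨H, K, hKn, ?_⟩
  have hxH : x ∈ H := hH ▸ subset_closure (by simp)
  have hyH : y ∈ H := hH ▸ subset_closure (by simp)
  have hgH : g ∈ H := hH ▸ subset_closure (by simp)
  obtain ⟨π, hπ⟩ : ∃ π : H →* H ⧸ K.subgroupOf H, π = QuotientGroup.mk' _ := ⟨_, rfl⟩
  have hπs : Function.Surjective π := hπ ▸ QuotientGroup.mk'_surjective _
  have hπ1 : ∀ w : H, π w = 1 ↔ (w : G) ∈ K := by
    intro w
    rw [hπ, QuotientGroup.mk'_apply, QuotientGroup.eq_one_iff, mem_subgroupOf]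
  have hzH : z ∈ H := hxx ▸ H.mul_mem hxH hxH
  have hcommH : (⟨x, hxH⟩ : H) * ⟨y, hyH⟩ * (⟨x, hxH⟩ : H)⁻¹ * (⟨y, hyH⟩ : H)⁻¹ = ⟨z, hzH⟩ :=
    Subtype.ext hcomm
  have hzK : z ∉ K := by
    intro hz
    rw [hK] at hz
    have h2 : orderOf z = 2 := orderOf_eq_prime (by rw [pow_two]; exact hz2) hz1
    have h3 : orderOf z ∣ orderOf (g ^ 3) := orderOf_dvd_of_mem_zpowers hz
    have h4 : orderOf (g ^ 3) ∣ orderOf g := orderOf_pow_dvd 3
    have h5 : 2 ∣ orderOf g := h2 ▸ h3.trans h4
    exact (Nat.not_even_iff_odd.mpr hodd) (even_iff_two_dvd.mpr h5)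
  have hgK : g ∉ K := by
    intro hg
    have h1 : Commute g x := hcentK g hg x hxH
    have h2 : y = x := by rw [← hgx]; exact Helper2.conj_eq_of_commute h1
    apply hz1
    rw [← hcomm, h2]; group
  apply Helper2.nonempty_mulEquiv_sl23 (π ⟨x, hxH⟩) (π ⟨y, hyH⟩) (π ⟨g, hgH⟩)
  · rw [← map_pow, ← map_inv, ← map_inv, ← map_mul, ← map_mul, ← map_mul, hcommH]
    congr 1
    exact Subtype.ext (by rw [Subgroup.coe_pow, pow_two]; exact hxx)
  · rw [← map_pow, ← map_inv, ← map_inv, ← map_mul, ← map_mul, ← map_mul, hcommH]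
    congr 1
    exact Subtype.ext (by rw [Subgroup.coe_pow, pow_two]; exact hyy)
  · rw [← map_inv, ← map_inv, ← map_mul, ← map_mul, ← map_mul, ← map_pow, hcommH]
    have : (⟨z, hzH⟩ : H) ^ 2 = 1 := Subtype.ext (by rw [Subgroup.coe_pow, pow_two]; exact hz2)
    rw [this, map_one]
  · rw [← map_inv, ← map_inv, ← map_mul, ← map_mul, ← map_mul, hcommH, Ne, hπ1]
    exact hzK
  · rw [← map_inv, ← map_mul, ← map_mul]
    congr 1
    exact Subtype.ext hgx
  · rw [← map_inv, ← map_mul, ← map_mul, ← map_mul]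
    congr 1
    exact Subtype.ext hgy
  · rw [← map_pow, hπ1, Subgroup.coe_pow, hK]
    exact mem_zpowers _
  · rw [Ne, hπ1]
    exact hgK
  · have h1 : closure ({⟨x, hxH⟩, ⟨y, hyH⟩, ⟨g, hgH⟩} : Set H) = ⊤ := by
      subst hH
      rw [eq_top_iff, ← Subgroup.closure_closure_coe_preimage]
      apply Subgroup.closure_mono
      intro w hw
      simp only [Set.mem_preimage, Set.mem_insert_iff, Set.mem_singleton_iff] at hw
      simp only [Set.mem_insert_iff, Set.mem_singleton_iff]
      rcases hw with h | h | h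
      · left; exact Subtype.ext h
      · right; left; exact Subtype.ext h
      · right; right; exact Subtype.ext h
    have h2 := congrArg (Subgroup.map π) h1
    rw [MonoidHom.map_closure, Subgroup.map_top_of_surjective π hπs] at h2
    rw [← h2]
    congr 1
    simp only [Set.image_insert_eq, Set.image_singleton]

/-- A finite group with generalized quaternion Sylow 2-subgroups either has a normal 2-complement or has a section isomorphic to SL(2,3). -/
theorem result {G : Type*} [Group G] [Finite G] (T : Sylow 2 G) (n : ℕ) (hn : 1 ≤ n) (hT : Nonempty ((T : Subgroup G) ≃* QuaternionGroup (2 ^ n))) : Cfsg.HasNormalPComplement 2 G ∨ ∃ (H K : Subgroup G) (hK : (K.subgroupOf H).Normal), Nonempty ((H ⧸ K.subgroupOf H) ≃* Matrix.SpecialLinearGroup (Fin 2) (ZMod 3)) := by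
  classical
  by_cases h : Cfsg.HasNormalPComplement 2 G
  · exact Or.inl h
  · right
    haveI : Fact (Nat.Prime 2) := ⟨Nat.prime_two⟩
    rw [Helper78.hasNormalPComplement_iff_frobHyp] at h
    have h' : ¬ ∀ Q : Subgroup G, Q ≤ (T : Subgroup G) → ∀ g ∈ normalizer (Q : Set G),
        (orderOf g).Coprime 2 → g ∈ centralizer (Q : Set G) :=
      fun hh => h (Helper78.FrobHyp.of_sylow T hh)
    push Not at h'
    obtain ⟨Q, hQT, g, hgN, hcop, hgC⟩ := h'
    obtain ⟨ψ⟩ := hT
    haveI : NeZero (2 ^ n) := ⟨pow_ne_zero _ two_ne_zero⟩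
    have hodd : Odd (orderOf g) := Nat.coprime_two_right.mp hcop
    let ι : Q →* QuaternionGroup (2 ^ n) := ψ.toMonoidHom.comp (Subgroup.inclusion hQT)
    have hι : Function.Injective ι := ψ.injective.comp (Subgroup.inclusion_injective hQT)
    obtain ⟨x, y, z, hz1, hz2, hxx, hyy, hcomm, hgx, hgy⟩ :=
      Helper2.quaternion_aut_embed Q (T.2.to_le hQT) ι hι g hgN hodd hgC
    exact exists_section_sl23 x y z g hz1 hz2 hxx hyy hcomm hgx hgy hodd

end Cfsg.Agent.S0106
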