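import Cfsg.Statements.S0219
import Mathlib


set_option autoImplicit false
open Cfsg

namespace Cfsg.Agent.S0219

/-- a cyclic group of even order has a subgroup of index 2 -/
theorem exists_index_two_of_cyclic {C : Type*} [Group C] [Finite C] [hC : IsCyclic C]
    (heven : Even (Nat.card C)) : ∃ S : Subgroup C, S.index = 2 := by
  let _ : CommGroup C := IsCyclic.commGroup
  refine ⟨(powMonoidHom 2 : C →* C).range, ?_⟩
  rw [IsCyclic.index_powMonoidHom_range]
  obtain ⟨k, hk⟩ := heven
  rw [hk, ← two_mul]
  simp

/-- If a finite group has even order and a cyclic Sylow 2-subgroup, then it has a subgroup of index 2 (consider the parity of permutations in the regular representation). -/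
theorem result {G : Type*} [Group G] [Finite G] (heven : Even (Nat.card G)) (T : Sylow 2 G) (hT : IsCyclic (T : Subgroup G)) : ∃ H : Subgroup G, H.index = 2 := by
  have : Fact (Nat.Prime 2) := ⟨Nat.prime_two⟩
  have hmin : (Nat.card G).minFac = 2 := by
    rw [Nat.minFac_eq_two_iff]
    exact even_iff_two_dvd.mp heven
  have hNC := hT.normalizer_le_centralizer hmin
  have hcomp := MonoidHom.ker_transferSylow_isComplement' T hNC
  set φ := MonoidHom.transferSylow T hNC with hφ
  -- φ is surjective
  have hsurj : Function.Surjective φ := by
    rw [← MonoidHom.range_eq_top]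
    apply Subgroup.eq_top_of_card_eq
    have h1 := hcomp.card_mul_card
    have h2 := Subgroup.card_mul_index φ.ker
    rw [Subgroup.index_ker] at h2
    have hpos : 0 < Nat.card φ.ker := Nat.card_pos
    have : Nat.card φ.ker * Nat.card φ.range = Nat.card φ.ker * Nat.card (T : Subgroup G) := by
      rw [h1, h2]
    exact Nat.eq_of_mul_eq_mul_left hpos this
  -- T has even order
  have hTeven : Even (Nat.card (T : Subgroup G)) := by
    have h2 : 2 ∣ Nat.card G := even_iff_two_dvd.mp heven
    have := T.dvd_card_of_dvd_card h2
    exact even_iff_two_dvd.mpr this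
  obtain ⟨S, hS⟩ := exists_index_two_of_cyclic (C := (T : Subgroup G)) hTeven
  refine ⟨S.comap φ, ?_⟩
  rw [Subgroup.index_comap_of_surjective S hsurj, hS]

end Cfsg.Agent.S0219
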