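import Cfsg.Statements.S0307


set_option autoImplicit false
open Cfsg

namespace Cfsg.Agent.S0307

/-- PSL_n(q) is normal in PGL_n(q) with cyclic quotient of order gcd(n, q-1): the image of the natural map PSL_n → PGL_n is the kernel of a surjective homomorphism onto the cyclic group of that order. -/
theorem result {F : Type*} [Field F] [Fintype F] {q : ℕ} (hF : Fintype.card F = q) (n : ℕ) (hn : 1 ≤ n) : ∃ g : Matrix.ProjGenLinGroup (Fin n) F →* Multiplicative (ZMod (Nat.gcd n (q - 1))), Function.Surjective g ∧ g.ker = (Matrix.ProjectiveSpecialLinearGroup.toPGL : Matrix.ProjectiveSpecialLinearGroup (Fin n) F →* Matrix.ProjGenLinGroup (Fin n) F).range := by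
  classical
  subst hF
  have : Nonempty (Fin n) := ⟨⟨0, by omega⟩⟩
  set d := Nat.gcd n (Fintype.card F - 1) with hd
  have hd0 : d ≠ 0 := Nat.gcd_ne_zero_left (by omega)
  have : NeZero d := ⟨hd0⟩
  let R : Subgroup Fˣ := (powMonoidHom n : Fˣ →* Fˣ).range
  have hidx : R.index = d := by
    rw [IsCyclic.index_powMonoidHom_range, Nat.card_eq_fintype_card, Fintype.card_units,
      Nat.gcd_comm]
  have hcard : Nat.card (Fˣ ⧸ R) = Nat.card (Multiplicative (ZMod d)) := by
    rw [← Subgroup.index_eq_card, hidx, Nat.card_eq_fintype_card]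
    simp [ZMod.card]
  have hcyc : IsCyclic (Fˣ ⧸ R) :=
    isCyclic_of_surjective (QuotientGroup.mk' R) (QuotientGroup.mk'_surjective R)
  let e : (Fˣ ⧸ R) ≃* Multiplicative (ZMod d) := mulEquivOfCyclicCardEq hcard
  let χ : Fˣ →* Multiplicative (ZMod d) := e.toMonoidHom.comp (QuotientGroup.mk' R)
  have hχ_surj : Function.Surjective χ :=
    e.surjective.comp (QuotientGroup.mk'_surjective R)
  have hχ_ker : ∀ u : Fˣ, χ u = 1 ↔ u ∈ R := by
    intro u
    show e (QuotientGroup.mk' R u) = 1 ↔ u ∈ R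
    rw [MulEquiv.map_eq_one_iff, QuotientGroup.mk'_apply, QuotientGroup.eq_one_iff]
  let φ : GL (Fin n) F →* Multiplicative (ZMod d) := χ.comp Matrix.GeneralLinearGroup.det
  have hφ : φ.comp (Matrix.GeneralLinearGroup.scalar (Fin n)) = 1 := by
    apply MonoidHom.ext
    intro u
    show χ (Matrix.GeneralLinearGroup.det (Matrix.GeneralLinearGroup.scalar (Fin n) u)) = 1
    rw [hχ_ker, Matrix.GeneralLinearGroup.det_scalar, Fintype.card_fin]
    exact ⟨u, rfl⟩
  refine ⟨Matrix.ProjGenLinGroup.lift φ hφ, ?_, ?_⟩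
  · intro y
    obtain ⟨u, rfl⟩ := hχ_surj y
    obtain ⟨A, rfl⟩ := Matrix.GeneralLinearGroup.det_surjective (n := Fin n) u
    exact ⟨Matrix.ProjGenLinGroup.mk A, rfl⟩
  · ext x
    induction x using Matrix.ProjGenLinGroup.induction_on with | mk A =>
    rw [MonoidHom.mem_ker, Matrix.ProjGenLinGroup.lift_mk]
    show χ (Matrix.GeneralLinearGroup.det A) = 1 ↔ _
    rw [hχ_ker]
    constructor
    · rintro ⟨v, hv⟩
      have hv' : v ^ n = Matrix.GeneralLinearGroup.det A := hv
      have hr : (v⁻¹) ^ Fintype.card (Fin n) * Matrix.GeneralLinearGroup.det A = 1 := by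
        rw [Fintype.card_fin, ← hv', inv_pow, inv_mul_cancel]
      simp only [Units.ext_iff, Units.val_mul, Units.val_pow_eq_pow_val,
        Matrix.GeneralLinearGroup.val_det_apply, ← Matrix.det_smul A.1 (v⁻¹).1, Units.val_one] at hr
      let X : Matrix.SpecialLinearGroup (Fin n) F := ⟨(v⁻¹).1 • A.1, hr⟩
      refine ⟨QuotientGroup.mk X, ?_⟩
      simp only [Matrix.ProjectiveSpecialLinearGroup.toPGL_mk, Matrix.ProjGenLinGroup.mk_eq_mk_iff]
      refine ⟨v, Units.ext ?_⟩
      simp only [Units.val_mul, Matrix.SpecialLinearGroup.coe_GL_coe_matrix,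
        Matrix.GeneralLinearGroup.coe_scalar]
      have hX : (X : Matrix (Fin n) (Fin n) F) = ((v⁻¹ : Fˣ) : F) • (A : Matrix (Fin n) (Fin n) F) := rfl
      have hdiag : Matrix.scalar (Fin n) (v : F) =
          (v : F) • (1 : Matrix (Fin n) (Fin n) F) := by
        rw [Matrix.smul_one_eq_diagonal]; rfl
      rw [hX, hdiag, Matrix.mul_smul, Matrix.mul_one, smul_smul, ← Units.val_mul, mul_inv_cancel,
        Units.val_one, one_smul]
    · rintro ⟨X, hX⟩
      induction X using QuotientGroup.induction_on with | H X =>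
      obtain ⟨u, hu⟩ : ∃ u, Matrix.SpecialLinearGroup.toGL X *
          (Matrix.GeneralLinearGroup.scalar (Fin n)) u = A := by
        simpa [Matrix.ProjGenLinGroup.mk_eq_mk_iff] using hX
      refine ⟨u, ?_⟩
      have := congrArg Matrix.GeneralLinearGroup.det hu
      simpa using this

end Cfsg.Agent.S0307
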