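import Cfsg.Statements.S0856
import Cfsg.Agent.Helper15.CliffordCorr

set_option autoImplicit false
set_option linter.unusedSectionVars false
open Cfsg

namespace Cfsg.Agent.S0856

open Cfsg.Agent.Helper15
open scoped ComplexConjugate

universe u

variable {G : Type u} [Group G] [Fintype G]

/-- Two irreducible characters with nonzero inner product are equal. -/
theorem irr_eq_of_inner_ne_zero {α β : G → ℂ} (hα : IsIrrCharacter G α) (hβ : IsIrrCharacter G β)
    (h : classInner α β ≠ 0) : α = β := by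
  by_contra hne
  exact h (Helper74.irr_inner_ne (χ := ⟨α, hα⟩) (ψ := ⟨β, hβ⟩)
    (fun h' => hne (congrArg Subtype.val h')))

/-- The norm of a character that does not vanish at `1` is a positive natural number. -/
theorem norm_pos_of_character {v : G → ℂ} (hv : IsCharacter G v) (h1 : v 1 ≠ 0) :
    ∃ c : ℕ, 0 < c ∧ classInner v v = c := by
  obtain ⟨c, hc⟩ := isCharacter_inner_nat hv hv
  refine ⟨c, Nat.pos_of_ne_zero ?_, hc⟩
  intro h0
  rw [h0] at hc
  have := Helper74.classInner_self_eq_zero (by simpa using hc)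
  apply h1
  rw [this]; rfl

/-- Let N be a normal subgroup of the finite group G and φ, ϑ irreducible characters of N that are invariant under conjugation by G, such that the pointwise product φ * ϑ is irreducible and ϑ is the restriction of an irreducible character χ of G. Then multiplication by χ is a bijection from the set of irreducible characters of G having nonzero inner product with the function induced from φ onto the set of those having nonzero inner product with the function induced from φ * ϑ. -/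
theorem result {G : Type*} [Group G] [Fintype G] (N : Subgroup G) [hN : N.Normal] (φ ϑ : N → ℂ) (hφ : Cfsg.IsIrrCharacter N φ) (hϑ : Cfsg.IsIrrCharacter N ϑ) (hφinv : ∀ (g : G) (n : N), φ ⟨g * n * g⁻¹, hN.conj_mem (n : G) n.2 g⟩ = φ n) (hϑinv : ∀ (g : G) (n : N), ϑ ⟨g * n * g⁻¹, hN.conj_mem (n : G) n.2 g⟩ = ϑ n) (hprod : Cfsg.IsIrrCharacter N (φ * ϑ)) (χ : G → ℂ) (hχ : Cfsg.IsIrrCharacter G χ) (hext : ∀ n : N, χ n = ϑ n) : Set.BijOn (fun β : G → ℂ => β * χ) {β : G → ℂ | Cfsg.IsIrrCharacter G β ∧ Cfsg.classInner (Cfsg.indFun N φ) β ≠ 0} {ψ : G → ℂ | Cfsg.IsIrrCharacter G ψ ∧ Cfsg.classInner (Cfsg.indFun N (φ * ϑ)) ψ ≠ 0} := by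
  classical
  let _ : Fintype N := Fintype.ofFinite N
  let _ := Helper74.irrFintype G
  have hχc : IsCharacter G χ := Helper74.isCharacter_of_isIrr hχ
  have hχcf : IsClassFunction G χ := Helper74.isClassFunction_of_isCharacter hχc
  have hφc : IsCharacter N φ := Helper74.isCharacter_of_isIrr hφ
  have hφinv' : ∀ g : G, conjFun N g φ = φ := fun g => funext (hφinv g)
  have hresχ : (fun n : N => χ n) = ϑ := funext hext
  -- `Ψ = Φ χ`
  have hΨ : indFun N (φ * ϑ) = indFun N φ * χ := by
    rw [← hresχ]; exact indFun_mul_restrict N φ χ hχcf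
  have hΦc : IsCharacter G (indFun N φ) := isCharacter_indFun N hφc
  have hΦdec := Helper74.isCharacter_eq_sum_irr hΦc
  choose M hM using fun β : IrrCharacter G => Helper74.isCharacter_inner_irr_nat hΦc β
  -- `Ψ = ∑ M_β (β χ)`
  have hΨdec : indFun N (φ * ϑ) = ∑ β : IrrCharacter G, (M β : ℂ) • ((β : G → ℂ) * χ) := by
    rw [hΨ]
    conv_lhs => rw [hΦdec]
    rw [Finset.sum_mul]
    apply Finset.sum_congr rfl
    intro β _
    rw [hM β, smul_mul_assoc]
  have hvc : ∀ β : IrrCharacter G, IsCharacter G ((β : G → ℂ) * χ) :=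
    fun β => Helper74.isCharacter_mul (Helper74.irr_isCharacter β) hχc
  choose c hc using fun β β' : IrrCharacter G => isCharacter_inner_nat (hvc β) (hvc β')
  -- key facts for members of the source set
  have key : ∀ β : IrrCharacter G, M β ≠ 0 →
      (c β β = 1 ∧ ∀ β' : IrrCharacter G, β' ≠ β → M β' ≠ 0 → c β' β = 0) := by
    intro β hMβ
    have hβcf : IsClassFunction G (β : G → ℂ) := Helper74.irr_isClassFunction β
    -- `β_N = M_β φ`
    have hinner : classInner (fun n : N => (β : G → ℂ) n) φ = M β := by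
      rw [← frobenius_reciprocity' N φ (β : G → ℂ) hβcf, ← classInner_conj_symm, hM β]
      simp
    have hne : classInner (fun n : N => (β : G → ℂ) n) φ ≠ 0 := by
      rw [hinner]; exact_mod_cast hMβ
    have hres := restrict_eq_smul_of_invariant N β.2 hφ hne hφinv'
    rw [hinner] at hres
    -- `(β χ)_N = M_β φ ϑ`
    have hvres : (fun n : N => ((β : G → ℂ) * χ) n) = (M β : ℂ) • (φ * ϑ) := by
      funext n
      have h1 := congrFun hres n
      simp only [Pi.smul_apply, smul_eq_mul] at h1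
      simp only [Pi.mul_apply, Pi.smul_apply, smul_eq_mul]
      rw [h1, hext n]; ring
    -- `⟨Ψ, β χ⟩ = M_β`
    have h3 : classInner (indFun N (φ * ϑ)) ((β : G → ℂ) * χ) = M β := by
      rw [frobenius_reciprocity N (φ * ϑ) _
        (Helper74.isClassFunction_of_isCharacter (hvc β)), hvres, classInner_smul_right,
        Helper74.irr_inner_self ⟨φ * ϑ, hprod⟩]
      simp
    -- expand with the decomposition of `Ψ`
    have h4 : (M β : ℂ) = ((∑ β' : IrrCharacter G, M β' * c β' β : ℕ) : ℂ) := by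
      rw [← h3]
      conv_lhs => rw [hΨdec]
      rw [classInner_finset_sum_left]
      push_cast
      apply Finset.sum_congr rfl
      intro β' _
      rw [classInner_smul_left, hc β' β]
    have h4' : M β = ∑ β' : IrrCharacter G, M β' * c β' β := by exact_mod_cast h4
    have hsplit : ∑ β' : IrrCharacter G, M β' * c β' β
        = M β * c β β + ∑ β' ∈ Finset.univ.erase β, M β' * c β' β :=
      (Finset.add_sum_erase Finset.univ (fun β' => M β' * c β' β) (Finset.mem_univ β)).symm
    -- the diagonal term is at least `M β`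
    have hv1 : ((β : G → ℂ) * χ) 1 ≠ 0 := by
      rw [Pi.mul_apply]
      exact mul_ne_zero (Helper80.IsIrrCharacter.map_one_ne_zero β.2)
        (Helper80.IsIrrCharacter.map_one_ne_zero hχ)
    obtain ⟨c0, hc0pos, hc0⟩ := norm_pos_of_character (hvc β) hv1
    have hcββ : c β β = c0 := by
      have := hc β β
      rw [hc0] at this
      exact_mod_cast this.symm
    have hge : M β ≤ M β * c β β := by
      rw [hcββ]; exact Nat.le_mul_of_pos_right _ hc0pos
    have hrest : ∑ β' ∈ Finset.univ.erase β, M β' * c β' β = 0 := by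
      rw [hsplit] at h4'
      omega
    have hdiag : M β * c β β = M β := by
      rw [hsplit, hrest, add_zero] at h4'
      exact h4'.symm
    refine ⟨?_, ?_⟩
    · have : M β * c β β = M β * 1 := by rw [hdiag, mul_one]
      exact Nat.eq_of_mul_eq_mul_left (Nat.pos_of_ne_zero hMβ) this
    · intro β' hne' hMβ'
      have := (Finset.sum_eq_zero_iff.mp hrest) β' (Finset.mem_erase.mpr ⟨hne', Finset.mem_univ _⟩)
      rcases Nat.mul_eq_zero.mp this with h | h
      · exact absurd h hMβ'
      · exact h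
  -- membership in the source set in terms of `M`
  have hsrc : ∀ β : IrrCharacter G, classInner (indFun N φ) (β : G → ℂ) ≠ 0 ↔ M β ≠ 0 := by
    intro β
    rw [hM β]
    exact Nat.cast_ne_zero
  have hirr : ∀ β : IrrCharacter G, M β ≠ 0 → IsIrrCharacter G ((β : G → ℂ) * χ) := by
    intro β hMβ
    apply isIrrCharacter_of_inner_self_eq_one (hvc β)
    rw [hc β β, (key β hMβ).1]; simp
  refine ⟨?_, ?_, ?_⟩
  · -- maps to
    rintro β ⟨hβ, hβcon⟩
    have hMβ : M ⟨β, hβ⟩ ≠ 0 := (hsrc ⟨β, hβ⟩).mp hβcon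
    refine ⟨hirr ⟨β, hβ⟩ hMβ, ?_⟩
    -- `⟨Ψ, βχ⟩ = ∑ M_β' c β' β = M β c β β + … ≠ 0`
    show classInner (indFun N (φ * ϑ)) (β * χ) ≠ 0
    have h4 : classInner (indFun N (φ * ϑ)) (β * χ)
        = ((∑ β' : IrrCharacter G, M β' * c β' ⟨β, hβ⟩ : ℕ) : ℂ) := by
      conv_lhs => rw [hΨdec]
      rw [classInner_finset_sum_left]
      push_cast
      apply Finset.sum_congr rfl
      intro β' _
      rw [classInner_smul_left]
      have := hc β' ⟨β, hβ⟩
      simp only at this
      rw [this]
    rw [h4]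
    have hpos : 0 < ∑ β' : IrrCharacter G, M β' * c β' ⟨β, hβ⟩ := by
      apply Finset.sum_pos'
      · intro _ _; exact Nat.zero_le _
      · refine ⟨⟨β, hβ⟩, Finset.mem_univ _, ?_⟩
        rw [(key ⟨β, hβ⟩ hMβ).1, mul_one]
        exact Nat.pos_of_ne_zero hMβ
    exact_mod_cast hpos.ne'
  · -- injective
    rintro β ⟨hβ, hβcon⟩ β' ⟨hβ', hβ'con⟩ heq
    by_contra hne
    have hMβ : M ⟨β, hβ⟩ ≠ 0 := (hsrc ⟨β, hβ⟩).mp hβcon
    have hMβ' : M ⟨β', hβ'⟩ ≠ 0 := (hsrc ⟨β', hβ'⟩).mp hβ'con
    have hne' : (⟨β', hβ'⟩ : IrrCharacter G) ≠ ⟨β, hβ⟩ :=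
      fun h => hne (congrArg Subtype.val h).symm
    have h0 := (key ⟨β, hβ⟩ hMβ).2 ⟨β', hβ'⟩ hne' hMβ'
    have h1 := (key ⟨β, hβ⟩ hMβ).1
    have e0 := hc ⟨β', hβ'⟩ ⟨β, hβ⟩
    have e1 := hc ⟨β, hβ⟩ ⟨β, hβ⟩
    simp only at e0 e1 heq
    rw [← heq, e1, h1] at e0
    rw [h0] at e0
    simp at e0
  · -- surjective
    rintro ψ ⟨hψ, hψcon⟩
    have h4 : classInner (indFun N (φ * ϑ)) ψ
        = ∑ β' : IrrCharacter G, (M β' : ℂ) * classInner ((β' : G → ℂ) * χ) ψ := by
      conv_lhs => rw [hΨdec]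
      rw [classInner_finset_sum_left]
      apply Finset.sum_congr rfl
      intro β' _
      rw [classInner_smul_left]
    rw [h4] at hψcon
    obtain ⟨β, -, hβne⟩ := Finset.exists_ne_zero_of_sum_ne_zero hψcon
    have hMβ : M β ≠ 0 := by
      intro h0; apply hβne; rw [h0]; simp
    have hinner : classInner ((β : G → ℂ) * χ) ψ ≠ 0 := by
      intro h0; apply hβne; rw [h0]; simp
    refine ⟨(β : G → ℂ), ⟨β.2, (hsrc β).mpr hMβ⟩, ?_⟩
    exact irr_eq_of_inner_ne_zero (hirr β hMβ) hψ hinner

end Cfsg.Agent.S0856
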