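import Cfsg.Statements.S4808
import Mathlib
import Cfsg.Agent.Helper80.Linear
import Cfsg.Agent.Helper79.CharComplete

set_option autoImplicit false
open Cfsg

namespace Cfsg.Agent.S4808

open Cfsg.Agent.Helper80 Cfsg.Agent.Helper79

universe u

/-- The intersection of two normal subgroups of index prime to `p` has index prime to `p`. -/
theorem not_dvd_index_inf {G : Type*} [Group G] [Finite G] (p : ℕ) (hp : p.Prime)
    (N K : Subgroup G) [N.Normal] [K.Normal] (hN : ¬ p ∣ N.index) (hK : ¬ p ∣ K.index) :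
    ¬ p ∣ (N ⊓ K).index := by
  rw [← Subgroup.relIndex_mul_index (inf_le_left : N ⊓ K ≤ N), Subgroup.inf_relIndex_left]
  intro h
  rcases (Nat.Prime.dvd_mul hp).mp h with h1 | h1
  · exact hK (h1.trans (Subgroup.relIndex_dvd_index_of_normal K N))
  · exact hN h1

/-- There is a smallest normal subgroup of index prime to `p`. -/
theorem exists_min_normal_pprime_index {G : Type*} [Group G] [Finite G] (p : ℕ) (hp : p.Prime) :
    ∃ N : Subgroup G, N.Normal ∧ ¬ p ∣ N.index ∧
      ∀ K : Subgroup G, K.Normal → ¬ p ∣ K.index → N ≤ K := by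
  classical
  let S : Set (Subgroup G) := {N | N.Normal ∧ ¬ p ∣ N.index}
  have hS : S.Nonempty := ⟨⊤, inferInstance, by
    rw [Subgroup.index_top]; exact hp.one_lt.ne' ∘ Nat.dvd_one.mp⟩
  obtain ⟨N, hNS, hmin⟩ := WellFounded.has_min (measure fun N : Subgroup G => Nat.card N).wf S hS
  refine ⟨N, hNS.1, hNS.2, fun K hKn hKp => ?_⟩
  have := hNS.1
  have := hKn
  have hinf : N ⊓ K ∈ S := ⟨inferInstance, not_dvd_index_inf p hp N K hNS.2 hKp⟩
  have h1 := hmin (N ⊓ K) hinf
  simp only [InvImage, WellFoundedRelation.rel, not_lt] at h1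
  have h2 : N ⊓ K = N := by
    apply Subgroup.eq_of_le_of_card_ge inf_le_left h1
  rw [← h2]
  exact inf_le_right


/-- Sum of squared degrees over the irreducible characters with `N` in the kernel. -/
theorem sum_sq_filter_ker {G : Type u} [Group G] [Fintype G] [Fintype (IrrCharacter G)]
    (N : Subgroup G) [N.Normal]
    [DecidablePred fun χ : IrrCharacter G => ∀ n ∈ N, (χ : G → ℂ) n = (χ : G → ℂ) 1] :
    ∑ χ ∈ Finset.univ.filter (fun χ : IrrCharacter G => ∀ n ∈ N, (χ : G → ℂ) n = (χ : G → ℂ) 1),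
      charDegree (χ : G → ℂ) ^ 2 = N.index := by
  classical
  have : Fintype (G ⧸ N) := Fintype.ofFinite _
  have : Finite (IrrCharacter (G ⧸ N)) := irr_finite'
  have : Fintype (IrrCharacter (G ⧸ N)) := Fintype.ofFinite _
  rw [Subgroup.index_eq_card, ← sum_charDegree_sq (G := G ⧸ N)]
  rw [Finset.sum_subtype (Finset.univ.filter
    (fun χ : IrrCharacter G => ∀ n ∈ N, (χ : G → ℂ) n = (χ : G → ℂ) 1))
    (p := fun χ : IrrCharacter G => ∀ n ∈ N, (χ : G → ℂ) n = (χ : G → ℂ) 1) (by simp)
    (fun χ => charDegree (χ : G → ℂ) ^ 2)]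
  refine (Fintype.sum_equiv (irrQuotientEquiv N) _ _ fun ψ => ?_).symm
  have h1 : ((irrQuotientEquiv N ψ).1 : G → ℂ) 1 = (ψ : G ⧸ N → ℂ) 1 := by
    rw [irrQuotientEquiv_apply]; rfl
  simp only [charDegree, h1]

/-- The codegree of an irreducible complex character χ of a finite group G is [G : ker χ] / χ(1), where ker χ is the set of elements at which χ takes the value χ(1). A prime divides the order of G if and only if it divides the codegree of some irreducible complex character of G. -/
theorem result {G : Type*} [Group G] [Finite G] (p : ℕ) (hp : p.Prime) : p ∣ Nat.card G ↔ ∃ χ : Cfsg.IrrCharacter G, p ∣ (Nat.card G / (Nat.card {g : G // (χ : G → ℂ) g = (χ : G → ℂ) 1} * Cfsg.charDegree (χ : G → ℂ))) := by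
  classical
  have := Fintype.ofFinite G
  have : Finite (IrrCharacter G) := irr_finite'
  have := Fintype.ofFinite (IrrCharacter G)
  constructor
  · intro hpG
    obtain ⟨N, hNn, hNp, hNmin⟩ := exists_min_normal_pprime_index (G := G) p hp
    have hpN : p ∣ Nat.card N := by
      have h1 := Subgroup.card_mul_index N
      rw [← h1] at hpG
      exact ((Nat.Prime.dvd_mul hp).mp hpG).resolve_right hNp
    -- some character not containing N in its kernel has degree prime to p
    have hex : ∃ χ : IrrCharacter G, (¬ ∀ n ∈ N, (χ : G → ℂ) n = (χ : G → ℂ) 1) ∧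
        ¬ p ∣ Cfsg.charDegree (χ : G → ℂ) := by
      by_contra hcon
      push Not at hcon
      have hsum := sum_charDegree_sq (G := G)
      rw [← Finset.sum_filter_add_sum_filter_not Finset.univ
        (fun χ : IrrCharacter G => ∀ n ∈ N, (χ : G → ℂ) n = (χ : G → ℂ) 1),
        sum_sq_filter_ker N] at hsum
      have h2 : p ∣ ∑ χ ∈ Finset.univ.filter
          (fun χ : IrrCharacter G => ¬ ∀ n ∈ N, (χ : G → ℂ) n = (χ : G → ℂ) 1),
          Cfsg.charDegree (χ : G → ℂ) ^ 2 := by
        refine Finset.dvd_sum fun χ hχ => ?_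
        exact dvd_pow (hcon χ (by
          have := (Finset.mem_filter.mp hχ).2
          push Not at this
          exact this)) two_ne_zero
      have h3 : p ∣ N.index := by
        have h4 : p ∣ N.index + ∑ χ ∈ Finset.univ.filter
          (fun χ : IrrCharacter G => ¬ ∀ n ∈ N, (χ : G → ℂ) n = (χ : G → ℂ) 1),
          Cfsg.charDegree (χ : G → ℂ) ^ 2 := by rw [hsum]; exact hpG
        exact (Nat.dvd_add_left h2).mp h4
      exact hNp h3
    obtain ⟨χ, hχN, hχp⟩ := hex
    refine ⟨χ, ?_⟩
    have hirr := χ.2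
    have hc := IsIrrCharacter.isCharacter hirr
    set K := kerChar (χ : G → ℂ) hc with hK
    have hcardK : Nat.card {g : G // (χ : G → ℂ) g = (χ : G → ℂ) 1} = Nat.card K :=
      Nat.card_congr (Equiv.subtypeEquivRight fun g => (mem_kerChar hc g).symm)
    have hpK : p ∣ K.index := by
      by_contra hnp
      have hle := hNmin K inferInstance hnp
      apply hχN
      intro n hn
      exact (mem_kerChar hc n).mp (hle hn)
    have hdvd := IsIrrCharacter.card_ker_mul_charDegree_dvd hirr
    rw [hcardK] at hdvd ⊢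
    obtain ⟨c, hc2⟩ := hdvd
    have hKpos : 0 < Nat.card K := Nat.card_pos
    have hdpos : 0 < Cfsg.charDegree (χ : G → ℂ) := IsIrrCharacter.charDegree_pos hirr
    rw [hc2, Nat.mul_div_cancel_left _ (Nat.mul_pos hKpos hdpos)]
    have h5 : K.index = Cfsg.charDegree (χ : G → ℂ) * c := by
      have h6 := Subgroup.card_mul_index K
      rw [hc2, mul_assoc] at h6
      exact Nat.eq_of_mul_eq_mul_left hKpos h6
    rw [h5] at hpK
    exact ((Nat.Prime.dvd_mul hp).mp hpK).resolve_left hχp
  · rintro ⟨χ, hχ⟩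
    exact hχ.trans (Nat.div_dvd_of_dvd (IsIrrCharacter.card_ker_mul_charDegree_dvd χ.2))

end Cfsg.Agent.S4808
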