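import Cfsg.Statements.S4835
import Mathlib
import Cfsg.Agent.Helper80.TwoClasses

set_option autoImplicit false
open Cfsg

namespace Cfsg.Agent.S4835

open Cfsg.Agent.Helper80 Cfsg.Agent.Helper79

/-- Let G be a finite group of order greater than 2 with an irreducible character χ that is nonzero on exactly two conjugacy classes. Then G has a unique minimal normal subgroup N; N is an elementary abelian p-group for some prime p; χ is nonzero exactly at the elements of N; and any two nonidentity elements of N are conjugate in G. -/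
theorem result {G : Type*} [Group G] [Finite G] (hG : 2 < Nat.card G) (χ : Cfsg.IrrCharacter G) (hχ : Nat.card {C : ConjClasses G // ∃ g ∈ C.carrier, (χ : G → ℂ) g ≠ 0} = 2) :
    ∃ N : Subgroup G, N.Normal ∧ N ≠ ⊥ ∧ (∀ K : Subgroup G, K.Normal → K ≠ ⊥ → N ≤ K) ∧
      (∃ p : ℕ, p.Prime ∧ Cfsg.IsElementaryAbelian p N) ∧
      (∀ g : G, (χ : G → ℂ) g ≠ 0 ↔ g ∈ N) ∧
      (∀ x ∈ N, ∀ y ∈ N, x ≠ 1 → y ≠ 1 → ∃ g : G, g * x * g⁻¹ = y) := by
  classical
  obtain ⟨g, hg1, hg0, hgne, hsupp, hother, hmin, hN⟩ := two_classes_core hG χ hχ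
  have hχc := IsIrrCharacter.isCharacter χ.2
  have hNn : (Subgroup.normalClosure ({g} : Set G)).Normal := Subgroup.normalClosure_normal
  have hgN : g ∈ Subgroup.normalClosure ({g} : Set G) :=
    Subgroup.subset_normalClosure (Set.mem_singleton g)
  have hconjN : ∀ x, IsConj g x → x ∈ Subgroup.normalClosure ({g} : Set G) := by
    intro x hx
    obtain ⟨c, hc⟩ := isConj_iff.mp hx
    rw [← hc]; exact hNn.conj_mem g hgN c
  have hmin' : ∀ K : Subgroup G, K.Normal → K ≠ ⊥ → Subgroup.normalClosure ({g} : Set G) ≤ K := by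
    intro K hK hKb
    haveI := hK
    apply Subgroup.normalClosure_le_normal
    intro x hx
    rw [Set.mem_singleton_iff.mp hx]
    exact hmin K hK hKb
  have hNb : Subgroup.normalClosure ({g} : Set G) ≠ ⊥ := by
    intro h
    rw [h, Subgroup.mem_bot] at hgN
    exact hg1 hgN
  refine ⟨Subgroup.normalClosure ({g} : Set G), hNn, hNb, hmin', ?_, ?_, ?_⟩
  · -- elementary abelian
    have hNcard : Nat.card (Subgroup.normalClosure ({g} : Set G)) ≠ 1 := fun h =>
      hNb (Subgroup.card_eq_one.mp h)
    obtain ⟨p, hp, hpd⟩ := Nat.exists_prime_and_dvd hNcard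
    haveI : Fact p.Prime := ⟨hp⟩
    obtain ⟨x, hx⟩ := exists_prime_orderOf_dvd_card' p hpd
    have hx1 : (x : G) ≠ 1 := by
      intro h
      have h2 : x = 1 := Subtype.ext h
      rw [h2, orderOf_one] at hx
      exact hp.one_lt.ne hx
    have hgx : IsConj g (x : G) := (hN x x.2).resolve_left hx1
    have hxp : (x : G) ^ p = 1 := by
      have h2 := pow_orderOf_eq_one x
      rw [hx] at h2
      exact_mod_cast congrArg Subtype.val h2
    have hgp : g ^ p = 1 := by
      obtain ⟨c, hc⟩ := isConj_iff.mp hgx.symm
      rw [← hc, conj_pow, hxp, mul_one, mul_inv_cancel]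
    have hall : ∀ a ∈ Subgroup.normalClosure ({g} : Set G), a ^ p = 1 := by
      intro a ha
      rcases hN a ha with rfl | h
      · exact one_pow p
      · obtain ⟨c, hc⟩ := isConj_iff.mp h
        rw [← hc, conj_pow, hgp, mul_one, mul_inv_cancel]
    refine ⟨p, hp, ?_, hall⟩
    have hpg : IsPGroup p (Subgroup.normalClosure ({g} : Set G)) := by
      intro a
      refine ⟨1, ?_⟩
      rw [pow_one]
      exact Subtype.ext (hall a a.2)
    have hnt : Nontrivial (Subgroup.normalClosure ({g} : Set G)) :=
      ⟨⟨⟨g, hgN⟩, 1, fun h => hg1 (congrArg Subtype.val h)⟩⟩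
    have hcen : Nontrivial (Subgroup.center (Subgroup.normalClosure ({g} : Set G))) :=
      hpg.center_nontrivial
    have hZn : ((Subgroup.center (Subgroup.normalClosure ({g} : Set G))).map
        (Subgroup.normalClosure ({g} : Set G)).subtype).Normal :=
      ConjAct.normal_of_characteristic_of_normal
    have hZb : (Subgroup.center (Subgroup.normalClosure ({g} : Set G))).map
        (Subgroup.normalClosure ({g} : Set G)).subtype ≠ ⊥ := by
      intro h
      obtain ⟨z, hz⟩ := exists_ne (1 : Subgroup.center (Subgroup.normalClosure ({g} : Set G)))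
      have h2 : ((z : Subgroup.normalClosure ({g} : Set G)) : G) ∈
          (Subgroup.center (Subgroup.normalClosure ({g} : Set G))).map
            (Subgroup.normalClosure ({g} : Set G)).subtype :=
        Subgroup.mem_map.mpr ⟨z, z.2, rfl⟩
      rw [h, Subgroup.mem_bot] at h2
      exact hz (Subtype.ext (Subtype.ext h2))
    have hle := hmin' _ hZn hZb
    rw [isMulCommutative_iff]
    intro a b
    have h2 : (a : G) ∈ (Subgroup.center (Subgroup.normalClosure ({g} : Set G))).map
        (Subgroup.normalClosure ({g} : Set G)).subtype := hle a.2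
    obtain ⟨z, hz, hza⟩ := Subgroup.mem_map.mp h2
    have h3 : z = a := Subtype.ext hza
    rw [← h3]
    exact (Subgroup.mem_center_iff.mp hz b).symm
  · intro x
    constructor
    · intro hx
      rcases hsupp x hx with rfl | h
      · exact Subgroup.one_mem _
      · exact hconjN x h
    · intro hx
      rcases hN x hx with rfl | h
      · exact irr_one_ne_zero χ
      · rw [← IsCharacter.eq_of_isConj hχc h]; exact hg0
  · intro x hx y hy hx1 hy1
    have h1 : IsConj g x := (hN x hx).resolve_left hx1
    have h2 : IsConj g y := (hN y hy).resolve_left hy1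
    exact isConj_iff.mp (h1.symm.trans h2)

end Cfsg.Agent.S4835
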