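import Cfsg.Statements.S4464
import Mathlib
import Cfsg.Agent.Helper80.ItoConv
import Cfsg.Agent.Helper80.Induced
import Cfsg.Agent.Helper80.OneChar
import Cfsg.Agent.Helper15.Gallagher

set_option autoImplicit false
open Cfsg

namespace Cfsg.Agent.S4464

open Cfsg.Agent.Helper80

universe u

section sub

variable {G : Type u} [Group G] [Fintype G]

/-- A constituent of the restriction has degree at most that of the character. -/
theorem charDegree_le_of_constituent (H : Subgroup G) [Fintype H] {χ : G → ℂ}
    (hχ : IsCharacter G χ) (ψ : IrrCharacter H)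
    (hne : classInner (fun h : H => χ h) (ψ : H → ℂ) ≠ 0) :
    charDegree (ψ : H → ℂ) ≤ charDegree χ := by
  classical
  let _ : Fintype (IrrCharacter H) := Helper74.irrFintype H
  have hres : IsCharacter H (fun h : H => χ h) := IsCharacter.comp_hom hχ H.subtype
  have hdeg := charDegree_eq_sum_mult _ hres
  have h1 : charDegree (fun h : H => χ h) = charDegree χ := rfl
  have hm : (mult _ hres ψ : ℂ) ≠ 0 := by rw [← mult_spec]; exact hne
  have hm1 : 1 ≤ mult _ hres ψ := Nat.one_le_iff_ne_zero.mpr (by exact_mod_cast hm)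
  rw [← h1, hdeg]
  calc charDegree (ψ : H → ℂ) = 1 * charDegree (ψ : H → ℂ) := by rw [one_mul]
    _ ≤ mult _ hres ψ * charDegree (ψ : H → ℂ) := Nat.mul_le_mul_right _ hm1
    _ ≤ _ := Finset.single_le_sum (f := fun ψ' : IrrCharacter H =>
        mult _ hres ψ' * charDegree (ψ' : H → ℂ)) (fun _ _ => Nat.zero_le _) (Finset.mem_univ ψ)

end sub

/-- The bound on degrees passes to subgroups. -/
theorem degrees_subgroup {G : Type u} [Group G] [Finite G] (p : ℕ)
    (h : ∀ χ : G → ℂ, IsIrrCharacter G χ → charDegree χ < p) (H : Subgroup G) :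
    ∀ ψ : H → ℂ, IsIrrCharacter H ψ → charDegree ψ < p := by
  intro ψ hψ
  classical
  have := Fintype.ofFinite G
  have := Fintype.ofFinite H
  have hind : IsCharacter G (indFun H ψ) :=
    Helper15.isCharacter_indFun H (IsIrrCharacter.isCharacter hψ)
  have h1 : indFun H ψ 1 ≠ 0 := by
    rw [Helper15.indFun_apply_one]
    refine mul_ne_zero ?_ (IsIrrCharacter.map_one_ne_zero hψ)
    exact_mod_cast H.index_ne_zero_of_finite
  obtain ⟨χ, hχ⟩ := Helper81.exists_irr_constituent hind h1
  rw [Helper15.frobenius_reciprocity H ψ χ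
    (IsCharacter.isClassFunction (IsIrrCharacter.isCharacter χ.2))] at hχ
  have hne : classInner (fun h : H => (χ : G → ℂ) h) ψ ≠ 0 := by
    intro h0; apply hχ; rw [← Helper15.classInner_conj_symm, h0, map_zero]
  exact lt_of_le_of_lt
    (charDegree_le_of_constituent H (IsIrrCharacter.isCharacter χ.2) ⟨ψ, hψ⟩ hne) (h χ χ.2)

/-- The bound on degrees passes to quotients. -/
theorem degrees_quotient_lt {G : Type u} [Group G] (p : ℕ) (N : Subgroup G) [N.Normal]
    (h : ∀ χ : G → ℂ, IsIrrCharacter G χ → charDegree χ < p) :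
    ∀ ψ : G ⧸ N → ℂ, IsIrrCharacter (G ⧸ N) ψ → charDegree ψ < p := by
  intro ψ hψ
  have h1 := IsIrrCharacter.comp_surjective hψ (QuotientGroup.mk' N)
    (QuotientGroup.mk'_surjective N)
  have h2 := h _ h1
  have h3 : charDegree (fun g : G => ψ (QuotientGroup.mk' N g)) = charDegree ψ := by
    unfold charDegree
    show ⌊(ψ ((QuotientGroup.mk' N) 1)).re⌋₊ = ⌊(ψ 1).re⌋₊
    rw [map_one]
  rwa [h3] at h2

/-- `p`-subgroups are commutative when all degrees are below `p`. -/
theorem comm_of_pGroup {G : Type u} [Group G] [Finite G] (p : ℕ) [Fact p.Prime]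
    (h : ∀ χ : G → ℂ, IsIrrCharacter G χ → charDegree χ < p) (P : Subgroup G)
    (hP : IsPGroup p P) : IsMulCommutative P := by
  have hp : p.Prime := Fact.out
  by_contra hnc
  obtain ⟨φ, hφ⟩ := exists_irr_charDegree_ne_one hnc
  have h1 : charDegree (φ : P → ℂ) ∣ Nat.card P := IsIrrCharacter.charDegree_dvd_card φ.2
  obtain ⟨k, hk⟩ := IsPGroup.iff_card.1 hP
  rw [hk] at h1
  obtain ⟨j, _, hj⟩ := (Nat.dvd_prime_pow hp).1 h1
  have hj0 : j ≠ 0 := by
    rintro rfl
    exact hφ (by simpa using hj)
  have hlt := degrees_subgroup p h P φ φ.2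
  rw [hj] at hlt
  have hle : p ≤ p ^ j := by
    calc p = p ^ 1 := (pow_one p).symm
      _ ≤ p ^ j := Nat.pow_le_pow_right hp.pos (Nat.one_le_iff_ne_zero.mpr hj0)
  omega

section TI

open scoped ComplexConjugate

/-- The sum of a character over a finite group mapping to its domain is a natural multiple of
the order. -/
theorem sum_comp_eq_card_mul {K : Type u} [Group K] {Q : Type u} [Group Q] [Fintype Q]
    (f : Q →* K) {θ : K → ℂ} (hθ : IsCharacter K θ) :
    ∃ a : ℕ, ∑ x : Q, θ (f x) = (Nat.card Q : ℂ) * (a : ℂ) := by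
  classical
  have hres : IsCharacter Q (fun x : Q => θ (f x)) := IsCharacter.comp_hom hθ f
  obtain ⟨a, ha⟩ := Helper74.isCharacter_inner_irr_nat hres
    ⟨fun _ => 1, Helper15.isIrrCharacter_one Q⟩
  refine ⟨a, ?_⟩
  rw [Helper15.classInner_apply] at ha
  have hQ : (Nat.card Q : ℂ) ≠ 0 := by
    have : Nat.card Q ≠ 0 := Nat.card_pos.ne'
    exact_mod_cast this
  have h2 : ∑ x : Q, θ (f x) = ∑ x : Q, θ (f x) * conj ((1 : ℂ)) := by
    refine Finset.sum_congr rfl fun x _ => ?_
    rw [map_one, mul_one]
  rw [h2, ← ha]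
  field_simp
  refine Finset.sum_congr rfl fun x _ => ?_
  rw [mul_comm]

variable {G : Type u} [Group G] [Fintype G]

theorem ti_key (p : ℕ) [Fact p.Prime]
    (hdeg : ∀ χ : G → ℂ, IsIrrCharacter G χ → charDegree χ < p) (P : Sylow p G)
    (hTI : ∀ g : G, ∀ x ∈ (P : Subgroup G), x ≠ 1 → g⁻¹ * x * g ∈ (P : Subgroup G) →
      g ∈ Subgroup.normalizer ((P : Subgroup G) : Set G)) :
    (P : Subgroup G).Normal := by
  classical
  have hp : p.Prime := Fact.out
  by_cases hP1 : (P : Subgroup G) = ⊥
  · rw [hP1]; infer_instance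
  obtain ⟨N, hN⟩ : ∃ N : Subgroup G, N = Subgroup.normalizer ((P : Subgroup G) : Set G) := ⟨_, rfl⟩
  have hPN : (P : Subgroup G) ≤ N := hN ▸ Subgroup.le_normalizer
  let _ : Fintype (IrrCharacter G) := Helper74.irrFintype G
  let _ : Fintype (IrrCharacter N) := Helper74.irrFintype N
  -- `p ≤ |P|`
  have hPcard : p ≤ Nat.card (P : Subgroup G) := by
    obtain ⟨k, hk⟩ := IsPGroup.iff_card.1 P.2
    have hk0 : k ≠ 0 := by
      rintro rfl
      rw [pow_zero] at hk
      exact hP1 ((Subgroup.card_eq_one).1 hk)
    rw [hk]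
    calc p = p ^ 1 := (pow_one p).symm
      _ ≤ p ^ k := Nat.pow_le_pow_right hp.pos (Nat.one_le_iff_ne_zero.mpr hk0)
  set one : N → ℂ := fun _ => 1 with hone
  have hone_c : IsCharacter N one := IsIrrCharacter.isCharacter (Helper15.isIrrCharacter_one N)
  set I : G → ℂ := indFun N one with hIdef
  have hI : IsCharacter G I := Helper15.isCharacter_indFun N hone_c
  -- values of `I` on `P`
  have hIx : ∀ x ∈ (P : Subgroup G), x ≠ 1 → I x = 1 := by
    intro x hx hx1
    have hmemN : ∀ y : G, y⁻¹ * x * y ∈ N → y ∈ N := by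
      intro y hy
      set z := y⁻¹ * x * y with hz
      obtain ⟨k, hk⟩ := P.2 ⟨x, hx⟩
      have hxk : x ^ (p ^ k) = 1 := by
        have := congrArg Subtype.val hk
        simpa using this
      have hzk : z ^ (p ^ k) = 1 := by
        have : z ^ (p ^ k) = y⁻¹ * x ^ (p ^ k) * y := by
          rw [hz]
          have := conj_pow (a := y⁻¹) (b := x) (i := p ^ k)
          simpa using this
        rw [this, hxk]; group
      have hzp : IsPGroup p (Subgroup.zpowers z) := by
        have hdvd : orderOf z ∣ p ^ k := orderOf_dvd_of_pow_eq_one hzk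
        obtain ⟨j, _, hj⟩ := (Nat.dvd_prime_pow hp).1 hdvd
        apply IsPGroup.of_card (n := j)
        rw [Nat.card_zpowers, hj]
      have h1 := hzp.inf_normalizer_sylow P
      have hzmem : z ∈ Subgroup.zpowers z ⊓ Subgroup.normalizer ((P : Subgroup G) : Set G) :=
        ⟨Subgroup.mem_zpowers z, hN ▸ hy⟩
      have hzmem2 : z ∈ Subgroup.zpowers z ⊓ (P : Subgroup G) := by
        rw [← h1]; exact hzmem
      rw [hN]
      exact hTI y x hx hx1 hzmem2.2
    have key : ∀ y : G, extendByZero N one (y⁻¹ * x * y) = if y ∈ N then 1 else 0 := by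
      intro y
      by_cases hy : y ∈ N
      · rw [if_pos hy, Helper15.extendByZero_of_mem N one
          (N.mul_mem (N.mul_mem (N.inv_mem hy) (hPN hx)) hy)]
      · rw [if_neg hy, Helper15.extendByZero_of_not_mem]
        intro hmem
        exact hy (hmemN y hmem)
    rw [hIdef, Helper15.indFun_apply]
    simp only [key]
    rw [Finset.sum_boole]
    have hc : (Finset.univ.filter fun y : G => y ∈ N).card = Nat.card N := by
      rw [Nat.card_eq_fintype_card, Fintype.card_subtype]
    rw [hc]
    have hNne : (Nat.card N : ℂ) ≠ 0 := by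
      have : Nat.card N ≠ 0 := Nat.card_pos.ne'
      exact_mod_cast this
    field_simp
  have hI1 : I 1 = (N.index : ℂ) := by
    rw [hIdef, Helper15.indFun_apply_one]; simp [hone]
  -- sum of `I` over `P`
  have hsumI : ∑ x : (P : Subgroup G), I x = (N.index : ℂ) + ((Nat.card (P : Subgroup G) : ℂ) - 1) := by
    rw [← Finset.add_sum_erase Finset.univ (fun x : (P : Subgroup G) => I x) (Finset.mem_univ 1)]
    have h1 : ∀ x ∈ Finset.univ.erase (1 : (P : Subgroup G)), I x = 1 := by
      intro x hx
      have hx1 : x ≠ 1 := (Finset.mem_erase.1 hx).1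
      exact hIx x x.2 (fun h => hx1 (Subtype.ext h))
    rw [Finset.sum_congr rfl h1, Finset.sum_const, Finset.card_erase_of_mem (Finset.mem_univ _),
      Finset.card_univ, ← Nat.card_eq_fintype_card]
    simp only [Subgroup.coe_one, hI1, nsmul_eq_mul, mul_one]
    have : 1 ≤ Nat.card (P : Subgroup G) := Nat.card_pos
    push_cast [Nat.cast_sub this]
    ring
  -- decomposition of `I`
  set m : IrrCharacter G → ℕ := fun X => mult I hI X with hm
  have hdecomp : I = ∑ X : IrrCharacter G, (m X : ℂ) • (X : G → ℂ) := eq_sum_mult I hI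
  have hS1 : N.index = ∑ X : IrrCharacter G, m X * charDegree (X : G → ℂ) := by
    have h0 := charDegree_eq_sum_mult I hI
    have h2 : charDegree I = N.index * charDegree one := charDegree_indFun N hone_c
    have h1 : charDegree one = 1 := by
      unfold charDegree; simp [hone]
    rw [h2, h1, mul_one] at h0; exact h0
  have hex : ∀ X : IrrCharacter G, ∃ a : ℕ, ∑ x : (P : Subgroup G), (X : G → ℂ) x
      = (Nat.card (P : Subgroup G) : ℂ) * a := fun X =>
    sum_comp_eq_card_mul (P : Subgroup G).subtype (IsIrrCharacter.isCharacter X.2)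
  choose a ha using hex
  have hS2 : (N.index : ℂ) + ((Nat.card (P : Subgroup G) : ℂ) - 1)
      = ∑ X : IrrCharacter G, (m X : ℂ) * ((Nat.card (P : Subgroup G) : ℂ) * a X) := by
    rw [← hsumI]
    have h1 : ∀ x : (P : Subgroup G), I x = ∑ X : IrrCharacter G, (m X : ℂ) * (X : G → ℂ) x := by
      intro x
      have := congrFun hdecomp x
      simp only [Finset.sum_apply, Pi.smul_apply, smul_eq_mul] at this
      exact this
    simp only [h1]
    rw [Finset.sum_comm]
    refine Finset.sum_congr rfl fun X _ => ?_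
    rw [← Finset.mul_sum, ha X]
  have hPpos : 1 ≤ Nat.card (P : Subgroup G) := Nat.card_pos
  have hS2' : N.index + (Nat.card (P : Subgroup G) - 1)
      = ∑ X : IrrCharacter G, m X * (Nat.card (P : Subgroup G) * a X) := by
    have : ((N.index + (Nat.card (P : Subgroup G) - 1) : ℕ) : ℂ)
        = ((∑ X : IrrCharacter G, m X * (Nat.card (P : Subgroup G) * a X) : ℕ) : ℂ) := by
      push_cast [Nat.cast_sub hPpos]; exact hS2
    exact_mod_cast this
  set trivN : IrrCharacter N := ⟨one, Helper15.isIrrCharacter_one N⟩ with htrivN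
  -- `m X ≤ a X`
  have hav : ∀ X : IrrCharacter G, m X ≤ a X := by
    intro X
    have hXc := IsIrrCharacter.isCharacter X.2
    have hXcf := IsCharacter.isClassFunction hXc
    set Y : N → ℂ := fun n => (X : G → ℂ) n with hY
    have hYc : IsCharacter N Y := IsCharacter.comp_hom hXc N.subtype
    set c : IrrCharacter N → ℕ := fun η => mult Y hYc η with hc
    have hYdec : Y = ∑ η : IrrCharacter N, (c η : ℂ) • (η : N → ℂ) := eq_sum_mult Y hYc
    have hcm : c trivN = m X := by
      have h1 : (m X : ℂ) = classInner I (X : G → ℂ) := (mult_spec I hI X).symm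
      have h2 : (c trivN : ℂ) = classInner Y one := (mult_spec Y hYc trivN).symm
      rw [hIdef, Helper15.frobenius_reciprocity N one (X : G → ℂ) hXcf] at h1
      have h3 : classInner Y one = conj (classInner one Y) :=
        (Helper15.classInner_conj_symm one Y).symm
      have : (c trivN : ℂ) = (m X : ℂ) := by
        rw [h2, h3]
        have h4 : classInner one Y = (m X : ℂ) := h1.symm
        rw [h4, Complex.conj_natCast]
      exact_mod_cast this
    have hexb : ∀ η : IrrCharacter N, ∃ b : ℕ,
        ∑ x : (P : Subgroup G), (η : N → ℂ) (Subgroup.inclusion hPN x)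
          = (Nat.card (P : Subgroup G) : ℂ) * b := fun η =>
      sum_comp_eq_card_mul (Subgroup.inclusion hPN) (IsIrrCharacter.isCharacter η.2)
    choose b hb using hexb
    have hP0 : (Nat.card (P : Subgroup G) : ℂ) ≠ 0 := by
      have : Nat.card (P : Subgroup G) ≠ 0 := Nat.card_pos.ne'
      exact_mod_cast this
    have hbtriv : b trivN = 1 := by
      have h1 := hb trivN
      have h2 : ∑ x : (P : Subgroup G), (trivN : N → ℂ) (Subgroup.inclusion hPN x)
          = (Nat.card (P : Subgroup G) : ℂ) := by
        show ∑ x : (P : Subgroup G), (1 : ℂ) = _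
        rw [Finset.sum_const, Finset.card_univ, ← Nat.card_eq_fintype_card, nsmul_eq_mul, mul_one]
      rw [h2] at h1
      have h3 : (b trivN : ℂ) = 1 := by
        have := mul_left_cancel₀ hP0 (show (Nat.card (P : Subgroup G) : ℂ) * (b trivN : ℂ)
          = (Nat.card (P : Subgroup G) : ℂ) * 1 by rw [mul_one]; exact h1.symm)
        exact this
      exact_mod_cast h3
    have hsum : (Nat.card (P : Subgroup G) : ℂ) * a X
        = ∑ η : IrrCharacter N, (c η : ℂ) * ((Nat.card (P : Subgroup G) : ℂ) * b η) := by
      rw [← ha X]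
      have h1 : ∀ x : (P : Subgroup G), (X : G → ℂ) x
          = ∑ η : IrrCharacter N, (c η : ℂ) * (η : N → ℂ) (Subgroup.inclusion hPN x) := by
        intro x
        have := congrFun hYdec (Subgroup.inclusion hPN x)
        simp only [Finset.sum_apply, Pi.smul_apply, smul_eq_mul] at this
        exact this
      simp only [h1]
      rw [Finset.sum_comm]
      refine Finset.sum_congr rfl fun η _ => ?_
      rw [← Finset.mul_sum, hb η]
    have hsum' : Nat.card (P : Subgroup G) * a X
        = ∑ η : IrrCharacter N, c η * (Nat.card (P : Subgroup G) * b η) := by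
      exact_mod_cast hsum
    have hge : c trivN * (Nat.card (P : Subgroup G) * b trivN)
        ≤ ∑ η : IrrCharacter N, c η * (Nat.card (P : Subgroup G) * b η) :=
      Finset.single_le_sum (f := fun η : IrrCharacter N =>
        c η * (Nat.card (P : Subgroup G) * b η)) (fun _ _ => Nat.zero_le _) (Finset.mem_univ trivN)
    rw [← hsum', hbtriv, mul_one, hcm] at hge
    rw [mul_comm] at hge
    exact Nat.le_of_mul_le_mul_left hge (by omega)
  set triv : IrrCharacter G := ⟨fun _ => 1, Helper15.isIrrCharacter_one G⟩ with htriv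
  have hmtriv : m triv = 1 := by
    have h1 : (m triv : ℂ) = classInner I (triv : G → ℂ) := (mult_spec I hI triv).symm
    rw [hIdef, Helper15.frobenius_reciprocity N one (triv : G → ℂ)
      (IsCharacter.isClassFunction (IsIrrCharacter.isCharacter triv.2))] at h1
    have h2 : classInner one (fun h : N => (triv : G → ℂ) h) = 1 :=
      Helper79.classInner_irr_self trivN
    rw [h2] at h1
    exact_mod_cast h1
  have hdtriv : charDegree (triv : G → ℂ) = 1 := by
    unfold charDegree; simp [htriv]
  have hdlt : ∀ X : IrrCharacter G, charDegree (X : G → ℂ) < Nat.card (P : Subgroup G) :=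
    fun X => lt_of_lt_of_le (hdeg X X.2) hPcard
  have hkey : ∀ X : IrrCharacter G, 1 ≤ m X →
      m X * charDegree (X : G → ℂ) + m X ≤ m X * (Nat.card (P : Subgroup G) * a X) := by
    intro X h1
    have ha1 : 1 ≤ a X := le_trans h1 (hav X)
    have h2 : charDegree (X : G → ℂ) + 1 ≤ Nat.card (P : Subgroup G) * a X := by
      calc charDegree (X : G → ℂ) + 1 ≤ Nat.card (P : Subgroup G) := hdlt X
        _ = Nat.card (P : Subgroup G) * 1 := (mul_one _).symm
        _ ≤ Nat.card (P : Subgroup G) * a X := Nat.mul_le_mul_left _ ha1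
    calc m X * charDegree (X : G → ℂ) + m X = m X * (charDegree (X : G → ℂ) + 1) := by ring
      _ ≤ _ := Nat.mul_le_mul_left _ h2
  have hpt0 : ∀ X : IrrCharacter G, m X * charDegree (X : G → ℂ)
      ≤ m X * (Nat.card (P : Subgroup G) * a X) := by
    intro X
    rcases Nat.eq_zero_or_pos (m X) with h0 | h0
    · rw [h0]; simp
    · have := hkey X h0; omega
  have hzero : ∀ X : IrrCharacter G, X ≠ triv → m X = 0 := by
    intro X₀ hX₀
    by_contra hne
    have hm1 : 1 ≤ m X₀ := Nat.one_le_iff_ne_zero.mpr hne
    have hle : ∑ X : IrrCharacter G, (m X * charDegree (X : G → ℂ)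
        + ((if X = triv then Nat.card (P : Subgroup G) - 1 else 0) + (if X = X₀ then 1 else 0)))
        ≤ ∑ X : IrrCharacter G, m X * (Nat.card (P : Subgroup G) * a X) := by
      apply Finset.sum_le_sum
      intro X _
      by_cases h1 : X = triv
      · rw [h1, if_pos rfl, if_neg (Ne.symm hX₀), hmtriv, hdtriv]
        have ha1 : 1 ≤ a triv := by
          have := hav triv
          rw [hmtriv] at this; exact this
        have : Nat.card (P : Subgroup G) * 1 ≤ Nat.card (P : Subgroup G) * a triv :=
          Nat.mul_le_mul_left _ ha1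
        omega
      · rw [if_neg h1]
        by_cases h2 : X = X₀
        · rw [h2, if_pos rfl]
          have := hkey X₀ hm1
          omega
        · rw [if_neg h2]
          have := hpt0 X
          omega
    rw [Finset.sum_add_distrib, Finset.sum_add_distrib, Finset.sum_ite_eq', Finset.sum_ite_eq',
      if_pos (Finset.mem_univ _), if_pos (Finset.mem_univ _), ← hS1, ← hS2'] at hle
    omega
  have hidx : N.index = 1 := by
    rw [hS1, Finset.sum_eq_single triv]
    · rw [hmtriv, hdtriv]
    · intro X _ hX
      rw [hzero X hX, zero_mul]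
    · intro h; exact absurd (Finset.mem_univ _) h
  have hNtop : N = ⊤ := Subgroup.index_eq_one.1 hidx
  rw [hN] at hNtop
  exact Subgroup.normalizer_eq_top_iff.1 hNtop

end TI

section main

theorem mem_smul_sylow_iff {G : Type u} [Group G] {p : ℕ} (g x : G) (P : Sylow p G) :
    x ∈ ((g • P : Sylow p G) : Subgroup G) ↔ g⁻¹ * x * g ∈ (P : Subgroup G) := by
  rw [Sylow.smul_def, Sylow.pointwise_smul_def, Subgroup.mem_pointwise_smul_iff_inv_smul_mem]
  simp [MulAut.smul_def]

theorem sylow_normal_aux (p : ℕ) [Fact p.Prime] : ∀ (n : ℕ) (G : Type u) [Group G] [Finite G],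
    Nat.card G = n → (∀ χ : G → ℂ, IsIrrCharacter G χ → charDegree χ < p) →
    ∀ P : Sylow p G, (P : Subgroup G).Normal := by
  intro n
  induction n using Nat.strong_induction_on with
  | _ n ih =>
    intro G _ _ hn hdeg P
    classical
    have := Fintype.ofFinite G
    by_cases hK : ∃ K : Subgroup G, K.Normal ∧ IsPGroup p K ∧ K ≠ ⊥
    · obtain ⟨K, hKn, hKp, hK1⟩ := hK
      haveI := hKn
      refine sylow_normal_of_quotient_pGroup p K hKp ?_ P
      intro Q
      refine ih (Nat.card (G ⧸ K)) ?_ (G ⧸ K) rfl (degrees_quotient_lt p K hdeg) Q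
      rw [← hn, ← Subgroup.index_eq_card, ← Subgroup.index_mul_card K]
      have h1 : 1 < Nat.card K := by
        rw [Finite.one_lt_card_iff_nontrivial]
        exact (Subgroup.nontrivial_iff_ne_bot K).2 hK1
      have h2 : 0 < K.index := Nat.pos_of_ne_zero K.index_ne_zero_of_finite
      calc K.index = K.index * 1 := (mul_one _).symm
        _ < K.index * Nat.card K := Nat.mul_lt_mul_of_pos_left h1 h2
    · apply ti_key p hdeg P
      intro g x hx hx1 hgx
      by_contra hgN
      obtain ⟨Q, hQ⟩ : ∃ Q : Sylow p G, Q = g • P := ⟨_, rfl⟩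
      have hQP : Q ≠ P := fun h => hgN (Sylow.smul_eq_iff_mem_normalizer.1 (hQ ▸ h))
      have hxQ : x ∈ (Q : Subgroup G) := by
        rw [hQ, mem_smul_sylow_iff]; exact hgx
      obtain ⟨H, hH⟩ : ∃ H : Subgroup G, H = (P : Subgroup G) ⊔ (Q : Subgroup G) := ⟨_, rfl⟩
      have hPH : (P : Subgroup G) ≤ H := hH ▸ le_sup_left
      have hQH : (Q : Subgroup G) ≤ H := hH ▸ le_sup_right
      by_cases hHtop : H = ⊤
      · -- `x` is central
        have hPc := comm_of_pGroup p hdeg (P : Subgroup G) P.2
        have hQc := comm_of_pGroup p hdeg (Q : Subgroup G) Q.2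
        have hPcen : (P : Subgroup G) ≤ Subgroup.centralizer ({x} : Set G) := by
          intro y hy
          rw [Subgroup.mem_centralizer_iff]
          intro z hz
          rw [Set.mem_singleton_iff] at hz
          rw [hz]
          have := hPc.is_comm.comm (⟨x, hx⟩ : (P : Subgroup G)) ⟨y, hy⟩
          exact congrArg Subtype.val this
        have hQcen : (Q : Subgroup G) ≤ Subgroup.centralizer ({x} : Set G) := by
          intro y hy
          rw [Subgroup.mem_centralizer_iff]
          intro z hz
          rw [Set.mem_singleton_iff] at hz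
          rw [hz]
          have := hQc.is_comm.comm (⟨x, hxQ⟩ : (Q : Subgroup G)) ⟨y, hy⟩
          exact congrArg Subtype.val this
        have hall : ∀ y : G, x * y = y * x := by
          intro y
          have hy : y ∈ Subgroup.centralizer ({x} : Set G) := by
            have : H ≤ Subgroup.centralizer ({x} : Set G) := hH ▸ sup_le hPcen hQcen
            exact this (hHtop ▸ Subgroup.mem_top y)
          rw [Subgroup.mem_centralizer_iff] at hy
          exact hy x rfl
        have hpow : ∀ z ∈ Subgroup.zpowers x, ∀ y : G, z * y = y * z := by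
          intro z hz y
          obtain ⟨k, rfl⟩ := Subgroup.mem_zpowers_iff.1 hz
          have : Commute x y := hall y
          exact (this.zpow_left k).eq
        apply hK
        refine ⟨Subgroup.zpowers x, ⟨fun z hz y => ?_⟩, ?_, ?_⟩
        · have := hpow z hz y
          rw [← this]; simpa using hz
        · exact IsPGroup.to_le P.2 (Subgroup.zpowers_le.2 hx)
        · exact Subgroup.zpowers_ne_bot.2 hx1
      · -- `H` is a proper subgroup
        have hcard : Nat.card H < n := by
          rw [← hn]
          have h1 : Nat.card H ≤ Nat.card G := Subgroup.card_le_card_group H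
          have h2 : Nat.card H ≠ Nat.card G := fun h => hHtop (Subgroup.eq_top_of_card_eq H h)
          omega
        have hnorm := ih (Nat.card H) hcard H rfl (degrees_subgroup p hdeg H)
        have hP' := hnorm (P.subtype hPH)
        have : Unique (Sylow p H) := Sylow.unique_of_normal _ hP'
        have heq : P.subtype hPH = Q.subtype hQH := Subsingleton.elim _ _
        exact hQP (Sylow.subtype_injective heq).symm

end main

/-- Let p be a prime and G a finite group all of whose irreducible character degrees are less than p. Then G has a normal abelian Sylow p-subgroup. -/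
theorem result {G : Type*} [Group G] [Finite G] (p : ℕ) (hp : p.Prime) (hb : ∀ χ : Cfsg.IrrCharacter G, Cfsg.charDegree (χ : G → ℂ) < p) : ∃ P : Subgroup G, P.Normal ∧ (∀ x ∈ P, ∀ y ∈ P, x * y = y * x) ∧ IsPGroup p P ∧ ¬ p ∣ P.index := by
  haveI : Fact p.Prime := ⟨hp⟩
  have hdeg : ∀ χ : G → ℂ, IsIrrCharacter G χ → charDegree χ < p := fun χ hχ => hb ⟨χ, hχ⟩
  obtain ⟨P⟩ : Nonempty (Sylow p G) := inferInstance
  refine ⟨P, sylow_normal_aux p _ G rfl hdeg P, ?_, P.2, P.not_dvd_index⟩
  intro x hx y hy
  have hc := comm_of_pGroup p hdeg (P : Subgroup G) P.2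
  have := hc.is_comm.comm (⟨x, hx⟩ : (P : Subgroup G)) ⟨y, hy⟩
  exact congrArg Subtype.val this

end Cfsg.Agent.S4464
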