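import Cfsg.Statements.S0932
import Mathlib.Algebra.BigOperators.Field

set_option autoImplicit false
open Cfsg

namespace Cfsg.Agent.S0932

open Classical in
/-- Summing a function over all conjugates `x⁻¹ g x`, `x : G`, counts each element of the class
`|C_G(g)|` times. -/
theorem sum_conj_eq {G : Type*} [Group G] [Fintype G] (g : G) (f : G → ℂ) :
    ∑ x : G, f (x⁻¹ * g * x) =
      (Nat.card (Subgroup.centralizer ({g} : Set G)) : ℂ) *
        ∑ c ∈ Finset.univ.filter (fun c => IsConj g c), f c := by
  have hmaps : ∀ x ∈ (Finset.univ : Finset G), x⁻¹ * g * x ∈ Finset.univ.filter (fun c => IsConj g c) := by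
    intro x _
    simp only [Finset.mem_filter, Finset.mem_univ, true_and]
    rw [isConj_iff]
    exact ⟨x⁻¹, by simp⟩
  rw [← Finset.sum_fiberwise_of_maps_to hmaps, Finset.mul_sum]
  refine Finset.sum_congr rfl ?_
  intro c hc
  simp only [Finset.mem_filter, Finset.mem_univ, true_and] at hc
  rw [isConj_iff] at hc
  obtain ⟨y, hy⟩ := hc
  have hsum : ∑ x ∈ Finset.univ.filter (fun x => x⁻¹ * g * x = c), f (x⁻¹ * g * x)
      = ∑ x ∈ Finset.univ.filter (fun x => x⁻¹ * g * x = c), f c := by
    refine Finset.sum_congr rfl ?_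
    intro x hx
    simp only [Finset.mem_filter, Finset.mem_univ, true_and] at hx
    rw [hx]
  rw [hsum, Finset.sum_const, nsmul_eq_mul]
  congr 1
  norm_cast
  rw [Nat.card_eq_fintype_card, ← Fintype.card_subtype]
  refine Fintype.card_congr ?_
  refine ⟨fun x => ⟨x.1 * y, ?_⟩, fun z => ⟨z.1 * y⁻¹, ?_⟩, ?_, ?_⟩
  · rw [Subgroup.mem_centralizer_singleton_iff]
    have hx : (x.1)⁻¹ * g * x.1 = y * g * y⁻¹ := x.2.trans hy.symm
    have : g * (x.1 * y) = x.1 * y * g := by
      have h2 : x.1 * ((x.1)⁻¹ * g * x.1) * y = x.1 * (y * g * y⁻¹) * y := by rw [hx]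
      simpa [mul_assoc] using h2
    exact this.symm
  · have hz := z.2
    rw [Subgroup.mem_centralizer_singleton_iff] at hz
    show (z.1 * y⁻¹)⁻¹ * g * (z.1 * y⁻¹) = c
    rw [← hy]
    have : (z.1 * y⁻¹)⁻¹ * g * (z.1 * y⁻¹) = y * (z.1⁻¹ * (g * z.1)) * y⁻¹ := by
      simp [mul_assoc]
    rw [this, ← hz]
    simp [mul_assoc]
  · intro x
    ext
    simp
  · intro z
    ext
    simp

open Classical in
theorem sum_extend_eq {G : Type*} [Group G] [Fintype G] (H : Subgroup G) (ξ : H → ℂ) (g : G) :
    ∑ c ∈ Finset.univ.filter (fun c => IsConj g c), Cfsg.extendByZero H ξ c =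
      ∑ h ∈ (Finset.univ : Finset H).filter (fun h : H => IsConj g (h : G)), ξ h := by
  have hinj : Function.Injective (Subtype.val : H → G) := Subtype.val_injective
  have h1 : ∑ h ∈ (Finset.univ : Finset H).filter (fun h : H => IsConj g (h : G)), ξ h =
      ∑ h ∈ (Finset.univ : Finset H).filter (fun h : H => IsConj g (h : G)),
        Cfsg.extendByZero H ξ (h : G) := by
    refine Finset.sum_congr rfl ?_
    intro h _
    unfold Cfsg.extendByZero
    rw [hinj.extend_apply]
  rw [h1]
  have h2 : ∑ h ∈ (Finset.univ : Finset H).filter (fun h : H => IsConj g (h : G)),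
        Cfsg.extendByZero H ξ (h : G) =
      ∑ c ∈ ((Finset.univ : Finset H).filter (fun h : H => IsConj g (h : G))).map
        ⟨Subtype.val, hinj⟩, Cfsg.extendByZero H ξ c := by
    rw [Finset.sum_map]
    rfl
  rw [h2]
  symm
  refine Finset.sum_subset ?_ ?_
  · intro c hc
    simp only [Finset.mem_map, Finset.mem_filter, Finset.mem_univ, true_and,
      Function.Embedding.coeFn_mk] at hc ⊢
    obtain ⟨h, hh, rfl⟩ := hc
    exact hh
  · intro c hc hnc
    simp only [Finset.mem_map, Finset.mem_filter, Finset.mem_univ, true_and,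
      Function.Embedding.coeFn_mk] at hc hnc
    unfold Cfsg.extendByZero
    rw [Function.extend_apply']
    · rfl
    · rintro ⟨h, rfl⟩
      exact hnc ⟨h, hc, rfl⟩

/-- For a character ξ of a subgroup H of a finite group G, the induced central character of ξ is the central character of the induced class function: at every g, the sum of ξ h / ξ 1 over the elements h of H conjugate in G to g equals the index of the centralizer of g times (ξ induced to G) g divided by (ξ induced to G) 1. -/
theorem result {G : Type*} [Group G] [Fintype G] (H : Subgroup G) (ξ : H → ℂ) (hξ : Cfsg.IsCharacter H ξ) (g : G) : Cfsg.inducedCentralChar H ξ g = Cfsg.centralChar (Cfsg.indFun H ξ) g := by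
  classical
  unfold Cfsg.inducedCentralChar Cfsg.centralChar Cfsg.indFun
  have hfin : ({h : H | IsConj g (h : G)} : Set H).Finite := Set.toFinite _
  rw [finsum_mem_eq_finite_toFinset_sum _ hfin]
  have hset : hfin.toFinset = (Finset.univ : Finset H).filter (fun h : H => IsConj g (h : G)) := by
    ext h
    simp
  rw [hset, ← Finset.sum_div _ _ _, ← sum_extend_eq H ξ g]
  rw [sum_conj_eq g (Cfsg.extendByZero H ξ)]
  -- the value at 1
  have h1 : ∑ x : G, Cfsg.extendByZero H ξ (x⁻¹ * 1 * x) = (Nat.card G : ℂ) * ξ 1 := by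
    have : ∀ x : G, Cfsg.extendByZero H ξ (x⁻¹ * 1 * x) = ξ 1 := by
      intro x
      have : x⁻¹ * 1 * x = ((1 : H) : G) := by simp
      rw [this]
      unfold Cfsg.extendByZero
      rw [Subtype.val_injective.extend_apply]
    simp only [this, Finset.sum_const, Finset.card_univ, nsmul_eq_mul, Nat.card_eq_fintype_card]
  rw [h1]
  set S := ∑ c ∈ Finset.univ.filter (fun c => IsConj g c), Cfsg.extendByZero H ξ c with hS
  have hidx : ((Subgroup.centralizer ({g} : Set G)).index : ℂ) *
      (Nat.card (Subgroup.centralizer ({g} : Set G)) : ℂ) = (Nat.card G : ℂ) := by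
    norm_cast
    rw [mul_comm]
    exact Subgroup.card_mul_index _
  have hG : (Nat.card G : ℂ) ≠ 0 := by
    norm_cast
    exact Nat.card_pos.ne'
  have hH : (Nat.card H : ℂ) ≠ 0 := by
    norm_cast
    exact Nat.card_pos.ne'
  by_cases hξ1 : ξ 1 = 0
  · rw [hξ1]
    simp
  · have hi : ((Subgroup.centralizer ({g} : Set G)).index : ℂ) ≠ 0 := by
      intro h0
      rw [h0, zero_mul] at hidx
      exact hG hidx.symm
    have hc : (Nat.card (Subgroup.centralizer ({g} : Set G)) : ℂ) ≠ 0 := by
      intro h0
      rw [h0, mul_zero] at hidx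
      exact hG hidx.symm
    rw [← hidx]
    field_simp

end Cfsg.Agent.S0932
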