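import Cfsg.Statements.S0914
import Cfsg.Agent.Helper77.BlockOrth
import Cfsg.Agent.Helper16.Idempotent
import Cfsg.Agent.Helper79.Counting

set_option autoImplicit false
open scoped ComplexConjugate
open Cfsg

namespace Cfsg.Agent.S0914

open Cfsg.Agent.Helper16

/-- Forward direction: defect zero characters are alone in their block. -/
theorem forward {G : Type*} [Group G] [Fintype G] (p : ℕ) (M : Ideal AlgInt)
    (hM : IsPModular p M) (χ ψ : IrrCharacter G)
    (hd : ¬ p ∣ Nat.card G / charDegree (χ : G → ℂ))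
    (h : SameBlock M (χ : G → ℂ) (ψ : G → ℂ)) : ψ = χ := by
  classical
  haveI hMp : M.IsPrime := IsPModular.isPrime hM
  by_contra hne
  set d := charDegree (χ : G → ℂ) with hddef
  set m := Nat.card G / d with hmdef
  have hdvd : d ∣ Nat.card G := Helper80.IsIrrCharacter.charDegree_dvd_card χ.2
  have hGm : Nat.card G = d * m := (Nat.mul_div_cancel' hdvd).symm
  have hd1 : ((d : ℕ) : ℂ) = (χ : G → ℂ) 1 :=
    Helper80.IsCharacter.charDegree_cast (Helper79.irr_isCharacter χ)
  have hχ1 : (χ : G → ℂ) 1 ≠ 0 := irr_one_ne_zero χ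
  have hψ1 : (ψ : G → ℂ) 1 ≠ 0 := irr_one_ne_zero ψ
  have hcard : (Nat.card G : ℂ) ≠ 0 := Helper79.card_ne_zero_complex
  have hm0 : (m : ℂ) ≠ 0 := by
    intro h0
    apply hcard
    rw [hGm]
    push_cast
    rw [h0, mul_zero]
  let s : G → ℂ := fun g => (m : ℂ)⁻¹ * conj ((χ : G → ℂ) g)
  have hs : IsClassFunction G s := by
    intro g x
    show (m : ℂ)⁻¹ * conj ((χ : G → ℂ) (x * g * x⁻¹)) = (m : ℂ)⁻¹ * conj ((χ : G → ℂ) g)
    rw [irr_isClassFunction χ g x]
  have hsS : ∀ g, MemLocalRing M (s g) := by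
    intro g
    refine memLocalRing_mul (memLocalRing_inv_natCast hM hd) (memLocalRing_of_isIntegral ?_)
    have h1 : IsIntegral ℤ ((χ : G → ℂ) g) :=
      Helper80.IsCharacter.isIntegral (Helper79.irr_isCharacter χ) g
    exact map_isIntegral_int (starRingEnd ℂ) h1
  have hsub := omega_sub_memLocalIdeal h hs hsS
  have hom : ∀ η : IrrCharacter G, omega (η : G → ℂ) s =
      (m : ℂ)⁻¹ * ((Nat.card G : ℂ) * classInner (η : G → ℂ) (χ : G → ℂ)) / (η : G → ℂ) 1 := by
    intro η
    unfold omega classInner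
    rw [← mul_assoc (Nat.card G : ℂ), mul_inv_cancel₀ hcard, one_mul, Finset.mul_sum]
    congr 1
    refine Finset.sum_congr rfl (fun x _ => ?_)
    show (m : ℂ)⁻¹ * conj ((χ : G → ℂ) x) * (η : G → ℂ) x = _
    ring
  rw [hom χ, hom ψ, Helper79.classInner_irr_self, Helper79.classInner_irr_ne hne] at hsub
  have h1 : (m : ℂ)⁻¹ * ((Nat.card G : ℂ) * 1) / (χ : G → ℂ) 1 -
      (m : ℂ)⁻¹ * ((Nat.card G : ℂ) * 0) / (ψ : G → ℂ) 1 = 1 := by
    rw [← hd1, hGm]
    push_cast
    have hd0 : (d : ℂ) ≠ 0 := by rw [hd1]; exact hχ1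
    field_simp
    ring
  rw [h1] at hsub
  exact not_memLocalIdeal_one hsub

/-- Backward direction: a character alone in its block vanishes on `p`-singular elements. -/
theorem vanish {G : Type*} [Group G] [Fintype G] (p : ℕ) (M : Ideal AlgInt)
    (hM : IsPModular p M) (χ : IrrCharacter G)
    (hB : blockOf M (χ : G → ℂ) = {χ}) (y : G) (hy : p ∣ orderOf y) : (χ : G → ℂ) y = 0 := by
  have h := Helper77.blockCoeff_eq_zero_of_dvd_orderOf hM (B := blockOf M (χ : G → ℂ)) ⟨χ, rfl⟩ y hy
  rw [hB] at h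
  unfold blockCoeff at h
  rw [finsum_mem_singleton] at h
  have hcard : (Nat.card G : ℂ) ≠ 0 := Helper79.card_ne_zero_complex
  have hχ1 : (χ : G → ℂ) 1 ≠ 0 := irr_one_ne_zero χ
  rcases mul_eq_zero.mp h with h0 | h0
  · exact absurd (inv_eq_zero.mp h0) hcard
  · rcases mul_eq_zero.mp h0 with h1 | h1
    · exact absurd h1 hχ1
    · have := congrArg conj h1
      simpa using this

theorem backward {G : Type*} [Group G] [Fintype G] (p : ℕ) [hp : Fact p.Prime] (M : Ideal AlgInt)
    (hM : IsPModular p M) (χ : IrrCharacter G)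
    (hB : blockOf M (χ : G → ℂ) = {χ}) : ¬ p ∣ Nat.card G / charDegree (χ : G → ℂ) := by
  classical
  set d := charDegree (χ : G → ℂ) with hddef
  have hdvd : d ∣ Nat.card G := Helper80.IsIrrCharacter.charDegree_dvd_card χ.2
  have hd1 : ((d : ℕ) : ℂ) = (χ : G → ℂ) 1 :=
    Helper80.IsCharacter.charDegree_cast (Helper79.irr_isCharacter χ)
  have hχ1 : (χ : G → ℂ) 1 ≠ 0 := irr_one_ne_zero χ
  have hd0 : d ≠ 0 := by
    intro h0
    apply hχ1
    rw [← hd1, h0]
    simp
  obtain P : Sylow p G := default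
  obtain ⟨m, hm⟩ := Helper79.sum_subgroup_char (Helper79.irr_isCharacter χ) (P : Subgroup G)
  have hsum : ∑ z : (P : Subgroup G), (χ : G → ℂ) z = (χ : G → ℂ) 1 := by
    rw [Finset.sum_eq_single (1 : (P : Subgroup G))]
    · rfl
    · intro z _ hz
      apply vanish p M hM χ hB
      obtain ⟨k, hk⟩ := (IsPGroup.iff_orderOf.mp P.isPGroup') z
      have hk' : orderOf (z : G) = p ^ k := by rw [← hk, Subgroup.orderOf_coe]
      rw [hk']
      rcases Nat.eq_zero_or_pos k with h0 | h0
      · exfalso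
        apply hz
        rw [h0, pow_zero] at hk
        exact orderOf_eq_one_iff.mp hk
      · exact dvd_pow_self p h0.ne'
    · intro h
      exact absurd (Finset.mem_univ _) h
  rw [hsum, ← hd1] at hm
  have hdm : d = Nat.card (P : Subgroup G) * m := by exact_mod_cast hm
  -- |G| = |P| * r with p ∤ r
  have hidx : ¬ p ∣ (P : Subgroup G).index := P.not_dvd_index
  have hGr : Nat.card G = Nat.card (P : Subgroup G) * (P : Subgroup G).index :=
    ((P : Subgroup G).card_mul_index).symm
  have hP0 : Nat.card (P : Subgroup G) ≠ 0 := Nat.card_pos.ne'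
  have hm0 : m ≠ 0 := by
    intro h0
    apply hd0
    rw [hdm, h0, mul_zero]
  -- |G| / d = index / m
  have hmr : m ∣ (P : Subgroup G).index := by
    have : Nat.card (P : Subgroup G) * m ∣ Nat.card (P : Subgroup G) * (P : Subgroup G).index := by
      rw [← hGr, ← hdm]; exact hdvd
    exact (Nat.mul_dvd_mul_iff_left (Nat.pos_of_ne_zero hP0)).mp this
  have hquot : Nat.card G / d = (P : Subgroup G).index / m := by
    rw [hGr, hdm]
    exact Nat.mul_div_mul_left _ _ (Nat.pos_of_ne_zero hP0)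
  rw [hquot]
  intro hdiv
  apply hidx
  exact dvd_trans hdiv (Nat.div_dvd_of_dvd hmr)

/-- Let G be a finite group, p a prime, M a maximal ideal of the algebraic integers containing p, and χ an irreducible character of G. Then the block of χ consists of χ alone if and only if p does not divide |G| / χ(1). -/
theorem result {G : Type*} [Group G] [Finite G] (p : ℕ) [Fact p.Prime] (M : Ideal Cfsg.AlgInt) (hM : Cfsg.IsPModular p M) (χ : Cfsg.IrrCharacter G) : ¬ p ∣ Nat.card G / Cfsg.charDegree (χ : G → ℂ) ↔ Cfsg.blockOf M (χ : G → ℂ) = {χ} := by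
  classical
  have := Fintype.ofFinite G
  haveI hMp : M.IsPrime := IsPModular.isPrime hM
  constructor
  · intro hd
    ext ψ
    constructor
    · intro hψ
      exact forward p M hM χ ψ hd hψ
    · intro hψ
      rw [Set.mem_singleton_iff] at hψ
      rw [hψ]
      exact sameBlock_refl _
  · intro hB
    exact backward p M hM χ hB

end Cfsg.Agent.S0914
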