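import Cfsg.Statements.S0966
import Cfsg.Agent.Helper16.Covering3
import Cfsg.Agent.Helper77.BlockOrth
import Cfsg.Agent.Helper78.BlockBasic

set_option autoImplicit false
open Cfsg

namespace Cfsg.Agent.S0966

open Cfsg.Agent.Helper16 Cfsg.Agent.Helper15

/-- Outside a normal subgroup of `p`-power index every element is `p`-singular. -/
theorem dvd_orderOf_of_not_mem {G : Type*} [Group G] [Finite G] {p : ℕ} [hp : Fact p.Prime]
    (N : Subgroup G) [N.Normal] (hidx : ∃ k : ℕ, N.index = p ^ k) {x : G} (hx : x ∉ N) :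
    p ∣ orderOf x := by
  obtain ⟨k, hk⟩ := hidx
  have hcard : Nat.card (G ⧸ N) = p ^ k := by rw [← hk]; rfl
  have h1 : orderOf (QuotientGroup.mk x : G ⧸ N) ∣ p ^ k := by
    rw [← hcard]
    exact orderOf_dvd_natCard _
  obtain ⟨j, _, hj⟩ := (Nat.dvd_prime_pow hp.out).mp h1
  have hne : (QuotientGroup.mk x : G ⧸ N) ≠ 1 := by
    intro h
    exact hx ((QuotientGroup.eq_one_iff x).mp h)
  have hj0 : j ≠ 0 := by
    intro h0
    rw [h0, pow_zero] at hj
    exact hne (orderOf_eq_one_iff.mp hj)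
  have h2 : p ∣ orderOf (QuotientGroup.mk x : G ⧸ N) := by
    rw [hj]
    exact dvd_pow_self p hj0
  exact dvd_trans h2 (orderOf_map_dvd (QuotientGroup.mk' N) x)

/-- Let N be a normal subgroup of p-power index in the finite group G and b a block of N relative to a maximal ideal M of the algebraic integers containing p. Then there is exactly one block B of G containing a character whose restriction to N has a constituent in b. -/
theorem result {G : Type*} [Group G] [Fintype G] (p : ℕ) [Fact p.Prime] (M : Ideal Cfsg.AlgInt) (hM : Cfsg.IsPModular p M) (N : Subgroup G) [N.Normal] [Fintype N] (hidx : ∃ k : ℕ, N.index = p ^ k) (b : Set (Cfsg.IrrCharacter N)) (hb : Cfsg.IsPBlock M b) : ∃! B : Set (Cfsg.IrrCharacter G), Cfsg.IsPBlock M B ∧ ∃ χ ∈ B, ∃ θ ∈ b, Cfsg.classInner (fun n : N => (χ : G → ℂ) n) (θ : N → ℂ) ≠ 0 := by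
  classical
  haveI hMp : M.IsPrime := IsPModular.isPrime hM
  obtain ⟨θ, hθ⟩ := Helper78.isPBlock_nonempty hMp hb
  obtain ⟨χ, hχθ⟩ := exists_irr_over N θ
  refine ⟨blockOf M (χ : G → ℂ), ⟨⟨χ, rfl⟩, χ, Helper78.mem_blockOf_self hMp χ, θ, hθ, hχθ⟩, ?_⟩
  rintro B' ⟨hB', χ', hχ', θ', hθ', hχ'θ'⟩
  -- the block idempotent of the block of χ
  obtain ⟨hcf, hR, hom⟩ := osima_strong (M := M) χ
  set e : G → ℂ := blockCoeff (blockOf M (χ : G → ℂ)) with he
  have hsupp : ∀ x : G, x ∉ N → e x = 0 := by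
    intro x hx
    exact Helper77.blockCoeff_eq_zero_of_dvd_orderOf hM ⟨χ, rfl⟩ x
      (dvd_orderOf_of_not_mem N hidx hx)
  have h1 := omega_eq_omega_restrict_of_constituent N χ θ hχθ hcf hsupp
  have h2 := omega_eq_omega_restrict_of_constituent N χ' θ' hχ'θ' hcf hsupp
  rw [hom χ, if_pos (sameBlock_refl _)] at h1
  rw [hom χ'] at h2
  have hsame : SameBlock M (θ : N → ℂ) (θ' : N → ℂ) :=
    Helper78.sameBlock_of_mem_of_mem hMp hb hθ hθ'
  have hsub := omega_sub_memLocalIdeal hsame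
    (isClassFunction_restrict N hcf) (fun n : N => hR (n : G))
  rw [← h1, ← h2] at hsub
  have hχχ' : SameBlock M (χ : G → ℂ) (χ' : G → ℂ) := by
    by_contra hns
    rw [if_neg hns, sub_zero] at hsub
    exact not_memLocalIdeal_one hsub
  have hχ'mem : χ' ∈ blockOf M (χ : G → ℂ) := hχχ'
  exact Helper78.isPBlock_eq_of_mem_of_mem hMp hB' ⟨χ, rfl⟩ hχ' hχ'mem

end Cfsg.Agent.S0966
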