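import Cfsg.Statements.S0941
import Cfsg.Agent.Helper16.Quotient
import Cfsg.Agent.S0966
import Cfsg.Agent.Helper79.Counting
import Cfsg.Agent.Helper80.NormalSum

set_option autoImplicit false
open Cfsg

namespace Cfsg.Agent.S0941

open Cfsg.Agent.Helper16
open scoped ComplexConjugate

/-- A `p`-regular element of a quotient lifts to a `p`-regular element. -/
theorem exists_pRegular_lift {G : Type*} [Group G] [Finite G] (p : ℕ) [hp : Fact p.Prime]
    (N : Subgroup G) [N.Normal] (q : G ⧸ N) (hq : ¬ p ∣ orderOf q) :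
    ∃ x : G, (QuotientGroup.mk x : G ⧸ N) = q ∧ ¬ p ∣ orderOf x := by
  obtain ⟨y, rfl⟩ := QuotientGroup.mk_surjective q
  have hy0 : orderOf y ≠ 0 := (orderOf_pos y).ne'
  obtain ⟨k, m, hm, hkm⟩ := Nat.exists_eq_pow_mul_and_not_dvd hy0 p hp.out.ne_one
  have hcop : (p ^ k).Coprime (orderOf (QuotientGroup.mk y : G ⧸ N)) := by
    apply Nat.Coprime.pow_left
    exact (Nat.Prime.coprime_iff_not_dvd hp.out).mpr hq
  obtain ⟨t, ht⟩ := exists_pow_eq_self_of_coprime hcop
  refine ⟨(y ^ p ^ k) ^ t, ?_, ?_⟩
  · rw [QuotientGroup.mk_pow, QuotientGroup.mk_pow]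
    exact ht
  · intro hdvd
    have h1 : orderOf ((y ^ p ^ k) ^ t) ∣ orderOf (y ^ p ^ k) := orderOf_pow_dvd t
    have h2 : orderOf (y ^ p ^ k) = m := by
      rw [orderOf_pow, hkm, Nat.gcd_mul_right_left]
      exact Nat.mul_div_cancel_left m (pow_pos hp.out.pos k)
    rw [h2] at h1
    exact hm (dvd_trans hdvd h1)

/-- For a `p`-regular element centralizing the normal `p`-subgroup `P`, the class sizes in `G` and
in `G ⧸ P` agree. -/
theorem index_centralizer_mk {G : Type*} [Group G] [Finite G] (p : ℕ) [hp : Fact p.Prime]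
    (P : Subgroup G) [P.Normal] (hP : IsPGroup p P) (x : G)
    (hxP : x ∈ Subgroup.centralizer (P : Set G)) (hx : ¬ p ∣ orderOf x) :
    (Subgroup.centralizer ({(QuotientGroup.mk x : G ⧸ P)} : Set (G ⧸ P))).index =
      (Subgroup.centralizer ({x} : Set G)).index := by
  have hcomap : (Subgroup.centralizer ({(QuotientGroup.mk x : G ⧸ P)} : Set (G ⧸ P))).comap
      (QuotientGroup.mk' P) = Subgroup.centralizer ({x} : Set G) := by
    ext y
    rw [Subgroup.mem_comap, Subgroup.mem_centralizer_singleton_iff,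
      Subgroup.mem_centralizer_singleton_iff]
    constructor
    · intro h
      -- u = x⁻¹ y⁻¹ x y ∈ P
      have h' : (QuotientGroup.mk (y * x) : G ⧸ P) = QuotientGroup.mk (x * y) := by
        have h1 : (QuotientGroup.mk' P y) = (QuotientGroup.mk y : G ⧸ P) := rfl
        rw [h1] at h
        rw [QuotientGroup.mk_mul, QuotientGroup.mk_mul]
        first
        | exact h
        | exact h.symm
      rw [QuotientGroup.eq] at h'
      set u := (y * x)⁻¹ * (x * y) with hu
      have hconj : y⁻¹ * x * y = x * u := by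
        rw [hu]; group
      have hcomm : Commute x u := by
        have := hxP u h'
        exact this.symm
      have hord : orderOf (x * u) = orderOf x := by
        rw [← hconj]
        have hsc : SemiconjBy y⁻¹ x (y⁻¹ * x * y) := by
          unfold SemiconjBy
          group
        exact (SemiconjBy.orderOf_eq y⁻¹ hsc).symm
      have hpow : u ^ orderOf x = 1 := by
        have h1 : (x * u) ^ orderOf x = 1 := by
          rw [← hord]; exact pow_orderOf_eq_one _
        rw [hcomm.mul_pow, pow_orderOf_eq_one, one_mul] at h1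
        exact h1
      obtain ⟨j, hj⟩ := (IsPGroup.iff_orderOf.mp hP) ⟨u, h'⟩
      have hj' : orderOf u = p ^ j := by
        rw [← hj, Subgroup.orderOf_mk]
      have hdvd : p ^ j ∣ orderOf x := by
        rw [← hj']; exact orderOf_dvd_of_pow_eq_one hpow
      have hj0 : j = 0 := by
        by_contra hne
        exact hx (dvd_trans (dvd_pow_self p hne) hdvd)
      rw [hj0, pow_zero, orderOf_eq_one_iff] at hj'
      rw [hj', mul_one] at hconj
      have : x * y = y * x := by
        calc x * y = y * (y⁻¹ * x * y) := by group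
          _ = y * x := by rw [hconj]
      first
      | exact this
      | exact this.symm
    · intro h
      have h1 : (QuotientGroup.mk' P y) = (QuotientGroup.mk y : G ⧸ P) := rfl
      rw [h1, ← QuotientGroup.mk_mul, ← QuotientGroup.mk_mul, h]
  rw [← hcomap, Subgroup.index_comap_of_surjective _ (QuotientGroup.mk'_surjective P)]

/-- Every block contains a character with a given normal `p`-subgroup in its kernel. -/
theorem exists_mem_block_ker {G : Type*} [Group G] [Fintype G] (p : ℕ) [hp : Fact p.Prime]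
    (M : Ideal AlgInt) (hM : IsPModular p M) (P : Subgroup G) [P.Normal] (hP : IsPGroup p P)
    (B : Set (IrrCharacter G)) (hB : IsPBlock M B) :
    ∃ θ ∈ B, ∀ u ∈ P, (θ : G → ℂ) u = (θ : G → ℂ) 1 := by
  classical
  haveI hMp : M.IsPrime := IsPModular.isPrime hM
  haveI : Fintype P := Fintype.ofFinite P
  by_contra hcon
  have hcon' : ∀ θ ∈ B, ∑ u : P, (θ : G → ℂ) (u : G) = 0 := by
    intro θ hθ
    have hex : ∃ n ∈ P, (θ : G → ℂ) n ≠ (θ : G → ℂ) 1 := by
      by_contra hne
      apply hcon
      refine ⟨θ, hθ, fun u hu => ?_⟩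
      by_contra h1
      exact hne ⟨u, hu, h1⟩
    have := Helper80.IsIrrCharacter.sum_mul_normal_eq_zero θ.2 P hex 1
    simpa using this
  -- sum of the block idempotent over P
  have hsum : ∑ u : P, blockCoeff B (u : G) = blockCoeff B 1 := by
    rw [Finset.sum_eq_single (1 : P)]
    · rfl
    · intro u _ hu
      apply Helper77.blockCoeff_eq_zero_of_dvd_orderOf hM hB
      obtain ⟨k, hk⟩ := (IsPGroup.iff_orderOf.mp hP) u
      have hk' : orderOf (u : G) = p ^ k := by rw [← hk, Subgroup.orderOf_coe]
      rw [hk']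
      rcases Nat.eq_zero_or_pos k with h0 | h0
      · exfalso
        apply hu
        rw [h0, pow_zero] at hk
        exact orderOf_eq_one_iff.mp hk
      · exact dvd_pow_self p h0.ne'
    · intro h
      exact absurd (Finset.mem_univ _) h
  have hzero : ∑ u : P, blockCoeff B (u : G) = 0 := by
    simp_rw [blockCoeff_eq_sum]
    rw [← Finset.mul_sum, Finset.sum_comm]
    have : ∀ χ : IrrCharacter G, ∑ u : P, (if χ ∈ B then (1 : ℂ) else 0) * (χ : G → ℂ) 1 *
        conj ((χ : G → ℂ) (u : G)) = 0 := by
      intro χ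
      by_cases hχ : χ ∈ B
      · rw [← Finset.mul_sum, ← map_sum, hcon' χ hχ, map_zero, mul_zero]
      · simp [hχ]
    rw [Finset.sum_congr rfl (fun χ _ => this χ), Finset.sum_const_zero, mul_zero]
  -- but the coefficient at 1 is positive
  have hone : blockCoeff B 1 ≠ 0 := by
    rw [blockCoeff_eq_sum]
    apply mul_ne_zero (inv_ne_zero card_ne_zero')
    have hterm : ∀ χ : IrrCharacter G, (if χ ∈ B then (1 : ℂ) else 0) * (χ : G → ℂ) 1 *
        conj ((χ : G → ℂ) 1) =
        (((if χ ∈ B then charDegree (χ : G → ℂ) ^ 2 else 0 : ℕ)) : ℂ) := by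
      intro χ
      have hd : ((charDegree (χ : G → ℂ) : ℕ) : ℂ) = (χ : G → ℂ) 1 :=
        Helper80.IsCharacter.charDegree_cast (Helper79.irr_isCharacter χ)
      by_cases hχ : χ ∈ B
      · rw [if_pos hχ, if_pos hχ, ← hd]
        simp [sq]
      · rw [if_neg hχ, if_neg hχ]
        simp
    rw [Finset.sum_congr rfl (fun χ _ => hterm χ), ← Nat.cast_sum]
    obtain ⟨χ₀, hχ₀⟩ : B.Nonempty := by
      obtain ⟨χ₀, rfl⟩ := hB
      exact ⟨χ₀, sameBlock_refl _⟩
    have hpos : 0 < ∑ χ : IrrCharacter G, (if χ ∈ B then charDegree (χ : G → ℂ) ^ 2 else 0 : ℕ) := by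
      apply Finset.sum_pos' (fun _ _ => Nat.zero_le _)
      refine ⟨χ₀, Finset.mem_univ _, ?_⟩
      rw [if_pos hχ₀]
      have hd : ((charDegree (χ₀ : G → ℂ) : ℕ) : ℂ) = (χ₀ : G → ℂ) 1 :=
        Helper80.IsCharacter.charDegree_cast (Helper79.irr_isCharacter χ₀)
      have : charDegree (χ₀ : G → ℂ) ≠ 0 := by
        intro h0
        apply irr_one_ne_zero χ₀
        rw [← hd, h0]
        simp
      positivity
    exact_mod_cast hpos.ne'
  exact hone (hsum ▸ hzero)

/-- Let P be a normal p-subgroup of the finite group G such that G/C_G(P) is a p-group, and fix a maximal ideal M of the algebraic integers containing p. Then two irreducible characters of G/P lie in the same block of G/P relative to M exactly when their inflations to G lie in the same block of G, and every block of G contains the inflation of some irreducible character of G/P. -/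
theorem result {G : Type*} [Group G] [Finite G] (p : ℕ) [Fact p.Prime] (M : Ideal Cfsg.AlgInt) (hM : Cfsg.IsPModular p M) (P : Subgroup G) [P.Normal] (hP : IsPGroup p P) (hC : ∃ k : ℕ, (Subgroup.centralizer (P : Set G)).index = p ^ k) : (∀ χ ψ : Cfsg.IrrCharacter (G ⧸ P), Cfsg.SameBlock M (χ : G ⧸ P → ℂ) (ψ : G ⧸ P → ℂ) ↔ Cfsg.SameBlock M ((χ : G ⧸ P → ℂ) ∘ QuotientGroup.mk) ((ψ : G ⧸ P → ℂ) ∘ QuotientGroup.mk)) ∧ ∀ B : Set (Cfsg.IrrCharacter G), Cfsg.IsPBlock M B → ∃ χ : Cfsg.IrrCharacter (G ⧸ P), ∃ θ ∈ B, (θ : G → ℂ) = (χ : G ⧸ P → ℂ) ∘ QuotientGroup.mk := by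
  classical
  haveI : Fintype G := Fintype.ofFinite G
  haveI : Fintype (G ⧸ P) := Fintype.ofFinite _
  haveI hMp : M.IsPrime := IsPModular.isPrime hM
  constructor
  · intro χ ψ
    constructor
    · intro h
      exact sameBlock_comp_mk P h
    · intro h
      apply sameBlock_of_forall_pRegular hM
      intro q hq
      obtain ⟨x, rfl, hx⟩ := exists_pRegular_lift p P q hq
      have hxC : x ∈ Subgroup.centralizer (P : Set G) := by
        by_contra hnot
        exact hx (Cfsg.Agent.S0966.dvd_orderOf_of_not_mem (Subgroup.centralizer (P : Set G)) hC hnot)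
      have hidx := index_centralizer_mk p P hP x hxC hx
      have hval : ∀ η : IrrCharacter (G ⧸ P),
          centralChar ((η : G ⧸ P → ℂ) ∘ QuotientGroup.mk) x =
            centralChar (η : G ⧸ P → ℂ) (QuotientGroup.mk x) := by
        intro η
        unfold centralChar
        rw [hidx]
        rfl
      have := h x
      rwa [hval χ, hval ψ] at this
  · intro B hB
    obtain ⟨θ, hθB, hθ⟩ := exists_mem_block_ker p M hM P hP B hB
    obtain ⟨θ', hθ'irr, hθ'⟩ := Cfsg.Agent.Helper80.IsIrrCharacter.exists_descend θ.2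
      (QuotientGroup.mk' P) (QuotientGroup.mk'_surjective P) (by
        intro g hg
        have hgP : g ∈ P := by
          rw [← QuotientGroup.eq_one_iff]; exact hg
        exact hθ g hgP)
    refine ⟨⟨θ', hθ'irr⟩, θ, hθB, ?_⟩
    funext g
    exact hθ' g

end Cfsg.Agent.S0941
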