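import Cfsg.Statements.S0912
-- import your own Cfsg.Agent.* helpers here
import Cfsg.Agent.Helper77.SupportOn
import Cfsg.Agent.Lib.Cores

set_option autoImplicit false
open Cfsg

namespace Cfsg.Agent.S0912

/-- Let B be a block of the finite group G relative to a maximal ideal M of the algebraic integers containing the prime p. Every defect group of B contains the largest normal p-subgroup O_p(G). -/
theorem result {G : Type*} [Group G] [Finite G] (p : ℕ) [Fact p.Prime] (M : Ideal Cfsg.AlgInt) (hM : Cfsg.IsPModular p M) (B : Set (Cfsg.IrrCharacter G)) (hB : Cfsg.IsPBlock M B) (D : Subgroup G) (hD : Cfsg.IsDefectGroup p M B D) : Cfsg.pCore p G ≤ D := by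
  classical
  have : Fintype G := Fintype.ofFinite G
  have hMp : M.IsPrime := Helper77.isPrime_of_isPModular hM
  obtain ⟨g, ⟨_, hnI, _⟩, P, rfl⟩ := hD
  set O : Subgroup G := Cfsg.pCore p G with hO
  have hOc : O.Characteristic := Cfsg.Agent.Lib.pCore_characteristic p
  have hOn : O.Normal := inferInstance
  have hOp : IsPGroup p O := Cfsg.Agent.Lib.isPGroup_pCore p
  -- `g` centralizes `O`
  have hg : g ∈ Subgroup.centralizer (O : Set G) := by
    by_contra hg
    apply hnI
    rw [Helper77.blockCoeff_eq_zero_of_not_mem_centralizer hM O hOp hB g hg]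
    exact Helper77.memLocalIdeal_zero M
  have hOle : O ≤ Subgroup.centralizer ({g} : Set G) := by
    intro u hu
    rw [Subgroup.mem_centralizer_singleton_iff]
    exact (Subgroup.mem_centralizer_iff.mp hg) u hu
  -- `O ∩ C(g)` is a normal `p`-subgroup of `C(g)`
  have hn' : (O.subgroupOf (Subgroup.centralizer ({g} : Set G))).Normal := inferInstance
  have hp' : IsPGroup p (O.subgroupOf (Subgroup.centralizer ({g} : Set G))) := hOp.comap_subtype
  have hle := Cfsg.Agent.Lib.normal_pGroup_le_sylow hn' hp' P
  intro u hu
  exact ⟨⟨u, hOle hu⟩, hle (Subgroup.mem_subgroupOf.mpr hu), rfl⟩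

end Cfsg.Agent.S0912
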