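import Cfsg.Statements.S0916
import Cfsg.Agent.Helper16.SylowIn

set_option autoImplicit false
open Cfsg

namespace Cfsg.Agent.S0916

open Cfsg.Agent.Helper16

theorem le_centralizer_singleton_iff {G : Type*} [Group G] (P : Subgroup G) (c : G) :
    P ≤ Subgroup.centralizer ({c} : Set G) ↔ c ∈ Subgroup.centralizer (P : Set G) := by
  constructor
  · intro h
    rw [Subgroup.mem_centralizer_iff]
    intro x hx
    have := h hx
    rw [Subgroup.mem_centralizer_singleton_iff] at this
    exact this
  · intro h x hx
    rw [Subgroup.mem_centralizer_iff] at h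
    rw [Subgroup.mem_centralizer_singleton_iff]
    exact h x hx

/-- Let P be a p-subgroup of the finite group G, with centralizer C and normalizer N. (i) If P is a Sylow p-subgroup of the centralizer of g, then the class of g meets C, and any two elements of the class of g lying in C are conjugate under N. (ii) If c ∈ C and P is a Sylow p-subgroup of C_N(c), then P is a Sylow p-subgroup of C_G(c). -/
theorem result {G : Type*} [Group G] [Finite G] (p : ℕ) [Fact p.Prime] (P : Subgroup G) (hP : IsPGroup p P) : (∀ g : G, (∃ S : Sylow p (Subgroup.centralizer ({g} : Set G)), (S : Subgroup (Subgroup.centralizer ({g} : Set G))).map (Subgroup.centralizer ({g} : Set G)).subtype = P) → (∃ c : G, IsConj g c ∧ c ∈ Subgroup.centralizer (P : Set G)) ∧ (∀ c₁ c₂ : G, IsConj g c₁ → IsConj g c₂ → c₁ ∈ Subgroup.centralizer (P : Set G) → c₂ ∈ Subgroup.centralizer (P : Set G) → ∃ n ∈ Subgroup.normalizer (P : Set G), n * c₁ * n⁻¹ = c₂)) ∧ (∀ c : G, c ∈ Subgroup.centralizer (P : Set G) → (∃ S : Sylow p (Subgroup.centralizer ({c} : Set G) ⊓ Subgroup.normalizer (P : Set G)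 : Subgroup G), (S : Subgroup ↥(Subgroup.centralizer ({c} : Set G) ⊓ Subgroup.normalizer (P : Set G))).map (Subgroup.centralizer ({c} : Set G) ⊓ Subgroup.normalizer (P : Set G)).subtype = P) → ∃ S : Sylow p (Subgroup.centralizer ({c} : Set G)), (S : Subgroup (Subgroup.centralizer ({c} : Set G))).map (Subgroup.centralizer ({c} : Set G)).subtype = P) := by
  have hp : p.Prime := Fact.out
  constructor
  · intro g hS
    rw [sylowIn_iff] at hS
    obtain ⟨hle, hcard⟩ := hS
    constructor
    · exact ⟨g, IsConj.refl g, (le_centralizer_singleton_iff P g).mp hle⟩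
    · intro c₁ c₂ h1 h2 hc1 hc2
      -- c₂ = x c₁ x⁻¹
      obtain ⟨x, hx⟩ := isConj_iff.mp (h1.symm.trans h2)
      have hP2 : P ≤ Subgroup.centralizer ({c₂} : Set G) := (le_centralizer_singleton_iff P c₂).mpr hc2
      have hP1 : P ≤ Subgroup.centralizer ({c₁} : Set G) := (le_centralizer_singleton_iff P c₁).mpr hc1
      have hcard2 : Nat.card P = p ^ (Nat.card (Subgroup.centralizer ({c₂} : Set G))).factorization p := by
        rw [card_centralizer_of_isConj h2]; exact hcard
      -- the conjugate of P by x
      have hQ : P.map (MulAut.conj x).toMonoidHom ≤ Subgroup.centralizer ({c₂} : Set G) := by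
        rintro _ ⟨u, hu, rfl⟩
        have hu1 := hP1 hu
        rw [Subgroup.mem_centralizer_singleton_iff] at hu1 ⊢
        rw [← hx]
        show x * u * x⁻¹ * (x * c₁ * x⁻¹) = x * c₁ * x⁻¹ * (x * u * x⁻¹)
        have : x * (u * c₁) * x⁻¹ = x * (c₁ * u) * x⁻¹ := by rw [hu1]
        simpa [mul_assoc] using this
      have hcardQ : Nat.card (P.map (MulAut.conj x).toMonoidHom) =
          p ^ (Nat.card (Subgroup.centralizer ({c₂} : Set G))).factorization p := by
        rw [Subgroup.card_map_of_injective (MulAut.conj x).injective]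
        exact hcard2
      obtain ⟨t, ht, htP⟩ := exists_conj_of_card p _ P _ hP2 hQ hcard2 hcardQ
      refine ⟨t * x, ?_, ?_⟩
      · -- t x normalizes P
        have hmap : P.map (MulAut.conj (t * x)).toMonoidHom = P := by
          calc P.map (MulAut.conj (t * x)).toMonoidHom
              = (P.map (MulAut.conj x).toMonoidHom).map (MulAut.conj t).toMonoidHom := by
                rw [Subgroup.map_map]
                congr 1
                ext u
                simp [mul_assoc]
            _ = P := htP
        rw [Subgroup.mem_normalizer_iff]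
        intro u
        constructor
        · intro hu
          rw [← hmap]
          exact ⟨u, hu, rfl⟩
        · intro hu
          rw [← hmap] at hu
          obtain ⟨v, hv, hvu⟩ := hu
          have : v = u := (MulAut.conj (t * x)).injective hvu
          rw [← this]
          exact hv
      · rw [Subgroup.mem_centralizer_singleton_iff] at ht
        calc t * x * c₁ * (t * x)⁻¹ = t * (x * c₁ * x⁻¹) * t⁻¹ := by simp [mul_assoc]
          _ = t * c₂ * t⁻¹ := by rw [hx]
          _ = c₂ := by rw [ht]; simp
  · intro c hc hS
    rw [sylowIn_iff] at hS ⊢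
    obtain ⟨hle, hcard⟩ := hS
    have hPc : P ≤ Subgroup.centralizer ({c} : Set G) := (le_centralizer_singleton_iff P c).mpr hc
    refine ⟨hPc, ?_⟩
    -- a Sylow subgroup of the centralizer containing P
    have hPsub : IsPGroup p (P.subgroupOf (Subgroup.centralizer ({c} : Set G))) :=
      hP.comap_subtype
    obtain ⟨Q, hQ⟩ := hPsub.exists_le_sylow
    set Q' : Subgroup G := (Q : Subgroup (Subgroup.centralizer ({c} : Set G))).map
      (Subgroup.centralizer ({c} : Set G)).subtype with hQ'
    have hQ'card : Nat.card Q' = p ^ (Nat.card (Subgroup.centralizer ({c} : Set G))).factorization p :=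
      ((sylowIn_iff p _ Q').mp ⟨Q, rfl⟩).2
    have hQ'le : Q' ≤ Subgroup.centralizer ({c} : Set G) := Subgroup.map_subtype_le _
    have hPQ' : P ≤ Q' := by
      intro u hu
      exact ⟨⟨u, hPc hu⟩, hQ (Subgroup.mem_subgroupOf.mpr hu), rfl⟩
    have hQ'p : IsPGroup p Q' := Q.isPGroup'.map _
    by_cases heq : P = Q'
    · rw [heq]; exact hQ'card
    · exfalso
      have hlt : P < Q' := lt_of_le_of_ne hPQ' heq
      obtain ⟨x, hxQ, hxP, hxN⟩ := exists_normalizing_not_mem p P Q' hQ'p hlt
      -- R = ⟨P, x⟩ is a p-subgroup of C(c) ⊓ N(P) strictly containing P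
      set L := Subgroup.centralizer ({c} : Set G) ⊓ Subgroup.normalizer (P : Set G) with hL
      set R := (P ⊔ Subgroup.zpowers x) with hR
      have hRQ : R ≤ Q' := sup_le hPQ' (by rw [Subgroup.zpowers_le]; exact hxQ)
      have hRL : R ≤ L := by
        refine sup_le hle ?_
        rw [Subgroup.zpowers_le]
        exact ⟨hQ'le hxQ, hxN⟩
      have hRp : IsPGroup p R := hQ'p.to_le hRQ
      obtain ⟨k, hk⟩ := IsPGroup.iff_card.mp hRp
      have hLne : Nat.card L ≠ 0 := Nat.card_pos.ne'
      have h1 : Nat.card R ∣ Nat.card L := Subgroup.card_dvd_of_le hRL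
      rw [hk] at h1
      have h2 : p ^ k ∣ Nat.card P := by
        rw [hcard]
        exact (hp.pow_dvd_iff_dvd_ordProj hLne).mp h1
      have h3 : Nat.card R ≤ Nat.card P := by
        rw [hk]
        exact Nat.le_of_dvd Nat.card_pos h2
      have hPR : P < R := by
        refine lt_of_le_of_ne le_sup_left ?_
        intro h
        apply hxP
        rw [h]
        exact (le_sup_right : Subgroup.zpowers x ≤ R) (Subgroup.mem_zpowers x)
      have h4 : Nat.card P < Nat.card R := by
        have := Subgroup.card_le_of_le hPR.le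
        refine lt_of_le_of_ne this ?_
        intro hcardeq
        exact hPR.ne (Subgroup.eq_of_le_of_card_ge hPR.le hcardeq.ge)
      omega

end Cfsg.Agent.S0916
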