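import Cfsg.Statements.S0920
import Cfsg.Agent.Helper78.FirstMain
import Cfsg.Agent.Helper78.BlockBasic

set_option autoImplicit false
open Cfsg

namespace Cfsg.Agent.S0920

open Cfsg.Agent.Helper78 in
/-- Part (i). -/
theorem part_one {G : Type*} [Group G] [Finite G] (p : ℕ) [Fact p.Prime] (M : Ideal Cfsg.AlgInt)
    (hM : Cfsg.IsPModular p M) (D : Subgroup G) (hD : IsPGroup p D)
    (b : Set (Cfsg.IrrCharacter (Subgroup.normalizer (D : Set G)))) (hb : Cfsg.IsPBlock M b)
    (hDb : Cfsg.IsDefectGroup p M b (D.subgroupOf (Subgroup.normalizer (D : Set G)))) :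
    ∃ B : Set (Cfsg.IrrCharacter G), Cfsg.IsPBlock M B ∧ Cfsg.IsDefectGroup p M B D ∧
      Cfsg.IsInducedBlock M (Subgroup.normalizer (D : Set G)) b B := by
  classical
  haveI : Fintype G := Fintype.ofFinite G
  have hMp : M.IsPrime := isPrime_of_isPModular hM
  haveI : Fintype (Subgroup.normalizer (D : Set G)) := Fintype.ofFinite _
  have hDN : D ≤ Subgroup.normalizer (D : Set G) := Subgroup.le_normalizer
  have hCN : Subgroup.centralizer (D : Set G) ≤ Subgroup.normalizer (D : Set G) :=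
    Subgroup.centralizer_le_normalizer _
  have hnorm : (D.subgroupOf (Subgroup.normalizer (D : Set G))).Normal :=
    Subgroup.normal_in_normalizer
  obtain ⟨B, hind⟩ := inducedBlockDefined_of_le_normalizer hM hD hDN hCN le_rfl b hb
  refine ⟨B, hind.2.1, ?_, hind⟩
  obtain ⟨χ₀, hχ₀⟩ := hind.2.1
  subst hχ₀
  obtain ⟨l, hl, -, -⟩ := id hDb
  obtain ⟨hle, hcard⟩ := sylow_of_blockCoeff_not_mem hM D hD _ hDN hnorm b hb hDb l hl.2.1
  have hcardG := card_eq_pow_centralizer_of_sylow D hD l hle hcard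
  obtain ⟨ξ₀, hξ₀⟩ := id hb
  have hξ₀b : ξ₀ ∈ b := by
    rw [hξ₀]; exact Cfsg.Agent.Helper16.sameBlock_refl (M := M) _
  have hχ₀B : χ₀ ∈ blockOf M (χ₀ : G → ℂ) := Cfsg.Agent.Helper16.sameBlock_refl (M := M) _
  have h1 := (isInducedBlock_iff_brauerCentralChar hM hD hDN le_rfl b hb _ hind.2.1).mp hind
    ξ₀ hξ₀b χ₀ hχ₀B (l : G)
  rw [brauerCentralChar_eq_centralChar_of_sylow D hD l hle hcard _
    (Cfsg.Agent.Helper16.irr_isClassFunction ξ₀)] at h1
  have h2 : ¬ MemLocalIdeal M (centralChar (χ₀ : G → ℂ) (l : G)) := by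
    intro hc
    have := Cfsg.Agent.Helper16.memLocalIdeal_sub h1 (Cfsg.Agent.Helper16.memLocalIdeal_neg hc)
    rw [sub_neg_eq_add, sub_add_cancel] at this
    exact hl.2.2 ξ₀ hξ₀b this
  obtain ⟨PB, hPB⟩ := Cfsg.Agent.Helper16.exists_defectGroup (M := M) p χ₀
  obtain ⟨g, hg, R, hR⟩ := id hPB
  obtain ⟨x, Q', hQ'⟩ := (Cfsg.Agent.S0911.result p M hM _ ⟨χ₀, rfl⟩ g hg R (l : G)).2
    ⟨χ₀, hχ₀B, h2⟩
  have hc1 : Nat.card PB ≤ Nat.card D := by
    rw [hcardG, ← Q'.card_eq_multiplicity]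
    have h3 := Subgroup.card_le_of_le hQ'
    rw [Subgroup.card_map_of_injective (Subgroup.subtype_injective _),
      Subgroup.card_map_of_injective (MulAut.conj x).injective, ← hR] at h3
    exact h3
  obtain ⟨x', hx'⟩ := defectGroup_le_of_induced hM _ b _ hind _ hDb PB hPB
  rw [Subgroup.map_subgroupOf_eq_of_le hDN] at hx'
  have heq : D.map (MulAut.conj x').toMonoidHom = PB := by
    apply Subgroup.eq_of_le_of_card_ge hx'
    rw [Subgroup.card_map_of_injective (MulAut.conj x').injective]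
    exact hc1
  have hD2 : PB.map (MulAut.conj x'⁻¹).toMonoidHom = D := by
    rw [← heq, Subgroup.map_map]
    ext u
    simp only [Subgroup.mem_map, MonoidHom.coe_comp, MulEquiv.coe_toMonoidHom, Function.comp_apply,
      MulAut.conj_apply]
    constructor
    · rintro ⟨v, hv, rfl⟩
      have : x'⁻¹ * (x' * v * x'⁻¹) * x'⁻¹⁻¹ = v := by group
      rw [this]; exact hv
    · intro hu
      exact ⟨u, hu, by group⟩
  rw [← hD2]
  exact isDefectGroup_map_conj χ₀ hPB x'⁻¹

open Cfsg.Agent.Helper78 in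
/-- Part (ii), existence. -/
theorem part_two_exists {G : Type*} [Group G] [Finite G] (p : ℕ) [Fact p.Prime]
    (M : Ideal Cfsg.AlgInt) (hM : Cfsg.IsPModular p M) (D : Subgroup G) (hD : IsPGroup p D)
    (B : Set (Cfsg.IrrCharacter G)) (hB : Cfsg.IsPBlock M B) (hDB : Cfsg.IsDefectGroup p M B D) :
    ∃ b : Set (Cfsg.IrrCharacter (Subgroup.normalizer (D : Set G))), Cfsg.IsPBlock M b ∧
      Cfsg.IsDefectGroup p M b (D.subgroupOf (Subgroup.normalizer (D : Set G))) ∧
      Cfsg.IsInducedBlock M (Subgroup.normalizer (D : Set G)) b B := by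
  classical
  haveI : Fintype G := Fintype.ofFinite G
  have hMp : M.IsPrime := isPrime_of_isPModular hM
  haveI : Fintype (Subgroup.normalizer (D : Set G)) := Fintype.ofFinite _
  have hDN : D ≤ Subgroup.normalizer (D : Set G) := Subgroup.le_normalizer
  have hCN : Subgroup.centralizer (D : Set G) ≤ Subgroup.normalizer (D : Set G) :=
    Subgroup.centralizer_le_normalizer _
  have hnorm : (D.subgroupOf (Subgroup.normalizer (D : Set G))).Normal :=
    Subgroup.normal_in_normalizer
  obtain ⟨g, hg, Q, hQ⟩ := id hDB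
  obtain ⟨χ₀, rfl⟩ := hB
  have hgD : g ∈ Subgroup.centralizer (D : Set G) := by
    intro u hu
    rw [hQ] at hu
    obtain ⟨v, -, rfl⟩ := hu
    have := v.2
    rw [Subgroup.mem_centralizer_singleton_iff] at this
    exact this
  obtain ⟨b, hind⟩ := exists_induced_of_blockCoeff_not_mem hM hD hDN hCN le_rfl χ₀ g hgD hg.2.1
  refine ⟨b, hind.1, ?_, hind⟩
  obtain ⟨ξ₀, hξ₀⟩ := hind.1
  obtain ⟨Db, hDb⟩ := Cfsg.Agent.Helper16.exists_defectGroup (M := M) p ξ₀
  rw [← hξ₀] at hDb
  have h1 : Cfsg.pCore p (Subgroup.normalizer (D : Set G)) ≤ Db :=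
    Cfsg.Agent.S0912.result p M hM b hind.1 Db hDb
  obtain ⟨x, hx⟩ := defectGroup_le_of_induced hM _ b _ hind Db hDb D hDB
  have hc2 : Nat.card ((Db.map (Subgroup.normalizer (D : Set G)).subtype).map
      (MulAut.conj x).toMonoidHom) = Nat.card Db := by
    rw [Subgroup.card_map_of_injective (MulAut.conj x).injective,
      Subgroup.card_map_of_injective (Subgroup.subtype_injective _)]
  have hc3 : Nat.card Db ≤ Nat.card D := by
    rw [← hc2]; exact Subgroup.card_le_of_le hx
  have h2 : D.subgroupOf (Subgroup.normalizer (D : Set G)) ≤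
      Cfsg.pCore p (Subgroup.normalizer (D : Set G)) :=
    Cfsg.Agent.Lib.le_pCore hnorm hD.comap_subtype
  have hc4 : Nat.card (D.subgroupOf (Subgroup.normalizer (D : Set G))) = Nat.card D :=
    Nat.card_congr (Subgroup.subgroupOfEquivOfLe hDN).toEquiv
  have h3 : D.subgroupOf (Subgroup.normalizer (D : Set G)) = Db := by
    apply Subgroup.eq_of_le_of_card_ge (h2.trans h1)
    rw [hc4]
    exact hc3
  rw [h3]
  exact hDb

open Cfsg.Agent.Helper78 in
/-- Part (ii), uniqueness. -/
theorem part_two_unique {G : Type*} [Group G] [Finite G] (p : ℕ) [Fact p.Prime]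
    (M : Ideal Cfsg.AlgInt) (hM : Cfsg.IsPModular p M) (D : Subgroup G) (hD : IsPGroup p D)
    (B : Set (Cfsg.IrrCharacter G)) (hB : Cfsg.IsPBlock M B)
    (b b' : Set (Cfsg.IrrCharacter (Subgroup.normalizer (D : Set G))))
    (hb : Cfsg.IsPBlock M b)
    (hDb : Cfsg.IsDefectGroup p M b (D.subgroupOf (Subgroup.normalizer (D : Set G))))
    (hind : Cfsg.IsInducedBlock M (Subgroup.normalizer (D : Set G)) b B)
    (hb' : Cfsg.IsPBlock M b')
    (hind' : Cfsg.IsInducedBlock M (Subgroup.normalizer (D : Set G)) b' B) : b' = b := by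
  classical
  haveI : Fintype G := Fintype.ofFinite G
  have hMp : M.IsPrime := isPrime_of_isPModular hM
  haveI : Fintype (Subgroup.normalizer (D : Set G)) := Fintype.ofFinite _
  have hDN : D ≤ Subgroup.normalizer (D : Set G) := Subgroup.le_normalizer
  have hnorm : (D.subgroupOf (Subgroup.normalizer (D : Set G))).Normal :=
    Subgroup.normal_in_normalizer
  obtain ⟨ξ₀, hξ₀⟩ := id hb
  obtain ⟨ξ₁, hξ₁⟩ := id hb'
  obtain ⟨χ₀, hχ₀⟩ := id hB
  have hξ₀b : ξ₀ ∈ b := by
    rw [hξ₀]; exact Cfsg.Agent.Helper16.sameBlock_refl (M := M) _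
  have hξ₁b' : ξ₁ ∈ b' := by
    rw [hξ₁]; exact Cfsg.Agent.Helper16.sameBlock_refl (M := M) _
  have hχ₀B : χ₀ ∈ B := by
    rw [hχ₀]; exact Cfsg.Agent.Helper16.sameBlock_refl (M := M) _
  have key : ∀ l : Subgroup.normalizer (D : Set G), MemLocalIdeal M (blockCoeff b l *
      (centralChar (ξ₁ : Subgroup.normalizer (D : Set G) → ℂ) l -
        centralChar (ξ₀ : Subgroup.normalizer (D : Set G) → ℂ) l)) := by
    intro l
    by_cases hl : MemLocalIdeal M (blockCoeff b l)
    · exact Cfsg.Agent.Helper16.memLocalIdeal_mul_right hl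
        (Cfsg.Agent.Helper16.memLocalRing_sub (Cfsg.Agent.Helper16.centralChar_memLocalRing ξ₁ l)
          (Cfsg.Agent.Helper16.centralChar_memLocalRing ξ₀ l))
    · obtain ⟨hle, hcard⟩ := sylow_of_blockCoeff_not_mem hM D hD _ hDN hnorm b hb hDb l hl
      have e0 := brauerCentralChar_eq_centralChar_of_sylow D hD l hle hcard _
        (Cfsg.Agent.Helper16.irr_isClassFunction ξ₀)
      have e1 := brauerCentralChar_eq_centralChar_of_sylow D hD l hle hcard _
        (Cfsg.Agent.Helper16.irr_isClassFunction ξ₁)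
      have a0 := (isInducedBlock_iff_brauerCentralChar hM hD hDN le_rfl b hb B hB).mp hind
        ξ₀ hξ₀b χ₀ hχ₀B (l : G)
      have a1 := (isInducedBlock_iff_brauerCentralChar hM hD hDN le_rfl b' hb' B hB).mp hind'
        ξ₁ hξ₁b' χ₀ hχ₀B (l : G)
      rw [e0] at a0
      rw [e1] at a1
      have h3 := Cfsg.Agent.Helper16.memLocalIdeal_sub a1 a0
      have e : centralChar (ξ₁ : Subgroup.normalizer (D : Set G) → ℂ) l -
          centralChar (χ₀ : G → ℂ) (l : G) -
          (centralChar (ξ₀ : Subgroup.normalizer (D : Set G) → ℂ) l -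
            centralChar (χ₀ : G → ℂ) (l : G)) =
          centralChar (ξ₁ : Subgroup.normalizer (D : Set G) → ℂ) l -
            centralChar (ξ₀ : Subgroup.normalizer (D : Set G) → ℂ) l := by ring
      rw [e] at h3
      exact Cfsg.Agent.Helper16.memLocalIdeal_mul_left (Cfsg.Agent.Helper16.osima hb l) h3
  have hcl := Cfsg.Agent.Helper16.isClassFunction_blockCoeff b
  have h1 : MemLocalIdeal M
      (Cfsg.Agent.Helper16.omega (ξ₁ : Subgroup.normalizer (D : Set G) → ℂ) (blockCoeff b) -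
        Cfsg.Agent.Helper16.omega (ξ₀ : Subgroup.normalizer (D : Set G) → ℂ) (blockCoeff b)) := by
    rw [Cfsg.Agent.Helper16.omega_eq_sum_classes _ _
        (Cfsg.Agent.Helper16.irr_isClassFunction ξ₁) hcl,
      Cfsg.Agent.Helper16.omega_eq_sum_classes _ _
        (Cfsg.Agent.Helper16.irr_isClassFunction ξ₀) hcl, ← Finset.sum_sub_distrib]
    refine Cfsg.Agent.Helper16.memLocalIdeal_sum _ _ (fun C _ => ?_)
    have := key (Cfsg.Agent.Helper16.classRep C)
    rwa [mul_sub] at this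
  rw [Cfsg.Agent.Helper16.omega_blockCoeff, Cfsg.Agent.Helper16.omega_blockCoeff,
    if_pos hξ₀b] at h1
  by_contra hne
  have hξ₁b : ξ₁ ∉ b := fun h => hne (isPBlock_eq_of_mem_of_mem hMp hb' hb hξ₁b' h)
  rw [if_neg hξ₁b, zero_sub] at h1
  have := Cfsg.Agent.Helper16.memLocalIdeal_neg h1
  rw [neg_neg] at this
  exact Cfsg.Agent.Helper16.not_memLocalIdeal_one this

/-- Brauer's First Main Theorem. Let D be a p-subgroup of the finite group G with normalizer N, and fix a maximal ideal M of the algebraic integers containing p. Then (i) every block b of N having D as a defect group induces some block B of G having D as a defect group; (ii) every block of G with defect group D is induced by exactly one block of N with defect group D. -/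
theorem result {G : Type*} [Group G] [Finite G] (p : ℕ) [Fact p.Prime] (M : Ideal Cfsg.AlgInt) (hM : Cfsg.IsPModular p M) (D : Subgroup G) (hD : IsPGroup p D) : (∀ b : Set (Cfsg.IrrCharacter (Subgroup.normalizer (D : Set G))), Cfsg.IsPBlock M b → Cfsg.IsDefectGroup p M b (D.subgroupOf (Subgroup.normalizer (D : Set G))) → ∃ B : Set (Cfsg.IrrCharacter G), Cfsg.IsPBlock M B ∧ Cfsg.IsDefectGroup p M B D ∧ Cfsg.IsInducedBlock M (Subgroup.normalizer (D : Set G)) b B) ∧ (∀ B : Set (Cfsg.IrrCharacter G), Cfsg.IsPBlock M B → Cfsg.IsDefectGroup p M B D → ∃! b : Set (Cfsg.IrrCharacter (Subgroup.normalizer (D : Set G))), Cfsg.IsPBlock M b ∧ Cfsg.IsDefectGroup p M b (D.subgroupOf (Subgroup.normalizer (D : Set G))) ∧ Cfsg.IsInducedBlock M (Subgroup.normalizer (D : Set G)) b B) := by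
  refine ⟨fun b hb hDb => part_one p M hM D hD b hb hDb, fun B hB hDB => ?_⟩
  obtain ⟨b, hb, hDb, hind⟩ := part_two_exists p M hM D hD B hB hDB
  refine ⟨b, ⟨hb, hDb, hind⟩, ?_⟩
  rintro b' ⟨hb', -, hind'⟩
  exact part_two_unique p M hM D hD B hB b b' hb hDb hind hb' hind'

end Cfsg.Agent.S0920
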