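import Cfsg.Statements.S0936
import Cfsg.Agent.Helper16.ThirdMain
import Cfsg.Agent.Helper78.BlockBasic

set_option autoImplicit false
open Cfsg

namespace Cfsg.Agent.S0936

open Cfsg.Agent.Helper16 in
/-- Brauer's Third Main Theorem. Let H be a subgroup of the finite group G and b a block of H (relative to a maximal ideal M of the algebraic integers containing the prime p) whose induced block in G is defined. Then b induces the principal block of G if and only if b is the principal block of H. -/
theorem result {G : Type*} [Group G] [Finite G] (p : ℕ) [Fact p.Prime] (M : Ideal Cfsg.AlgInt) (hM : Cfsg.IsPModular p M) (H : Subgroup G) (b : Set (Cfsg.IrrCharacter H)) (hdef : Cfsg.InducedBlockDefined M H b) : Cfsg.IsInducedBlock M H b (Cfsg.principalBlock M G) ↔ b = Cfsg.principalBlock M H := by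
  classical
  haveI : Fintype G := Fintype.ofFinite G
  haveI : Fintype H := Fintype.ofFinite H
  haveI hMp : M.IsPrime := IsPModular.isPrime hM
  -- the key congruence
  have key : ∀ {B : Set (IrrCharacter G)}, IsInducedBlock M H b B → ∀ ξ ∈ b, ∀ χ ∈ B,
      MemLocalIdeal M (omega (ξ : H → ℂ) (pReg p : H → ℂ) - omega (χ : G → ℂ) (pReg p : G → ℂ)) := by
    intro B hind ξ hξ χ hχ
    have h := omega_restrict_sub_memLocalIdeal (M := M) H hind hξ hχ
      (isClassFunction_pReg (G := G) p) (pReg_memLocalRing (M := M) p)
    rw [pReg_restrict] at h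
    exact h
  constructor
  · intro hind
    obtain ⟨ξ, hξ⟩ := Helper78.isPBlock_nonempty hMp hind.1
    have hχ := Helper78.principalIrr_mem_principalBlock M hMp G
    have h1 := key hind ξ hξ _ hχ
    have h2 : ξ ∈ principalBlock M H := by
      by_contra hcon
      rw [omega_pReg_eq_zero hM ξ hcon, zero_sub] at h1
      exact omega_pReg_not_memLocalIdeal hM _ hχ (by simpa using memLocalIdeal_neg h1)
    exact Helper78.isPBlock_eq_of_mem_of_mem hMp hind.1 (Helper78.isPBlock_principalBlock M H) hξ h2
  · intro hb
    obtain ⟨B, hind⟩ := hdef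
    obtain ⟨χ, hχ⟩ := Helper78.isPBlock_nonempty hMp hind.2.1
    have hξ : Helper79.principalIrr H ∈ b := by
      rw [hb]; exact Helper78.principalIrr_mem_principalBlock M hMp H
    have h1 := key hind _ hξ χ hχ
    have h2 : χ ∈ principalBlock M G := by
      by_contra hcon
      rw [omega_pReg_eq_zero hM χ hcon, sub_zero] at h1
      exact omega_pReg_not_memLocalIdeal hM _
        (Helper78.principalIrr_mem_principalBlock M hMp H) h1
    have hB : B = principalBlock M G :=
      Helper78.isPBlock_eq_of_mem_of_mem hMp hind.2.1 (Helper78.isPBlock_principalBlock M G) hχ h2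
    rw [← hB]
    exact hind

end Cfsg.Agent.S0936
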