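import Cfsg.Statements.S3742
import Mathlib

set_option autoImplicit false
open Cfsg

namespace Cfsg.Agent.S3742

open QuaternionGroup

/-- The quaternion group of order 8. -/
abbrev Q := QuaternionGroup 2

/-- The pairs `(x, y)` that are images of the standard generators under an automorphism. -/
abbrev Good (x y : Q) : Prop := x ^ 4 = 1 ∧ x ^ 2 ≠ 1 ∧ y ^ 2 = x ^ 2 ∧ y * x * y⁻¹ = x⁻¹

/-- The endomorphism determined by the images `x, y` of the standard generators. -/
def mk (x y : Q) : Q → Q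
  | a i => x ^ i.val
  | xa i => y * x ^ i.val

theorem eval_eq (φ : MulAut Q) (u : Q) : φ u = mk (φ (a 1)) (φ (xa 0)) u := by
  cases u with
  | a i =>
    have h : (a i : Q) = (a 1) ^ i.val := by
      rw [a_one_pow]; congr 1; exact (ZMod.natCast_zmod_val i).symm
    simp only [mk]
    rw [h, map_pow]
  | xa i =>
    have h : (a i : Q) = (a 1) ^ i.val := by
      rw [a_one_pow]; congr 1; exact (ZMod.natCast_zmod_val i).symm
    have h2 : (xa i : Q) = xa 0 * a i := by simp
    simp only [mk]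
    rw [h2, map_mul, h, map_pow]

theorem good_std : Good (a 1) (xa 0) := by decide

theorem good_ev (φ : MulAut Q) : Good (φ (a 1)) (φ (xa 0)) := by
  obtain ⟨h1, h2, h3, h4⟩ := good_std
  refine ⟨?_, ?_, ?_, ?_⟩
  · rw [← map_pow, h1, map_one]
  · intro h
    rw [← map_pow] at h
    exact h2 (φ.injective (by rw [h, map_one]))
  · rw [← map_pow, ← map_pow, h3]
  · rw [← map_inv, ← map_inv, ← map_mul, ← map_mul, h4]

theorem mk_mul : ∀ x y : Q, Good x y → ∀ u v : Q, mk x y (u * v) = mk x y u * mk x y v := by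
  decide

theorem mk_bij : ∀ x y : Q, Good x y → Function.Bijective (mk x y) := by
  decide

theorem mk_gen : ∀ x y : Q, mk x y (a 1) = x ∧ mk x y (xa 0) = y := by
  decide

/-- The automorphism determined by a good pair. -/
noncomputable def toAut (p : {p : Q × Q // Good p.1 p.2}) : MulAut Q :=
  MulEquiv.ofBijective (MonoidHom.mk' (mk p.1.1 p.1.2) (mk_mul p.1.1 p.1.2 p.2))
    (mk_bij p.1.1 p.1.2 p.2)

theorem toAut_apply (p : {p : Q × Q // Good p.1 p.2}) (u : Q) :
    toAut p u = mk p.1.1 p.1.2 u := rfl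

theorem toAut_injective : Function.Injective toAut := by
  intro p q h
  have h1 : toAut p (a 1) = toAut q (a 1) := by rw [h]
  have h2 : toAut p (xa 0) = toAut q (xa 0) := by rw [h]
  rw [toAut_apply, toAut_apply, (mk_gen _ _).1, (mk_gen _ _).1] at h1
  rw [toAut_apply, toAut_apply, (mk_gen _ _).2, (mk_gen _ _).2] at h2
  exact Subtype.ext (Prod.ext h1 h2)

theorem card_good : Fintype.card {p : Q × Q // Good p.1 p.2} = 24 := by decide

def T1 : Fin 4 → Fin 4 → Fin 4 → Fin 4 :=
  ![![![0, 1, 2, 3], ![0, 1, 2, 3], ![0, 1, 2, 3], ![0, 1, 2, 3]],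
    ![![0, 1, 2, 3], ![1, 3, 0, 2], ![3, 2, 1, 0], ![2, 0, 3, 1]],
    ![![0, 1, 2, 3], ![0, 1, 2, 3], ![0, 1, 2, 3], ![0, 1, 2, 3]],
    ![![2, 3, 0, 1], ![0, 2, 1, 3], ![1, 0, 3, 2], ![3, 1, 2, 0]]]
def T2 : Fin 4 → Fin 4 → Fin 4 → Fin 4 :=
  ![![![0, 1, 2, 3], ![1, 0, 2, 3], ![0, 1, 2, 3], ![3, 2, 0, 1]],
    ![![0, 1, 2, 3], ![3, 1, 0, 2], ![0, 1, 2, 3], ![2, 0, 1, 3]],
    ![![0, 1, 2, 3], ![2, 3, 1, 0], ![0, 1, 2, 3], ![0, 1, 3, 2]],
    ![![0, 1, 2, 3], ![0, 2, 3, 1], ![0, 1, 2, 3], ![1, 3, 2, 0]]]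
def T3 : Fin 4 → Fin 4 → Fin 4 → Fin 4 :=
  ![![![0, 1, 2, 3], ![2, 1, 3, 0], ![0, 1, 2, 3], ![0, 3, 1, 2]],
    ![![1, 2, 3, 0], ![0, 1, 2, 3], ![0, 3, 2, 1], ![0, 1, 2, 3]],
    ![![0, 1, 2, 3], ![3, 0, 2, 1], ![0, 1, 2, 3], ![1, 2, 0, 3]],
    ![![3, 0, 1, 2], ![0, 1, 2, 3], ![2, 1, 0, 3], ![0, 1, 2, 3]]]

/-- The action of the automorphism with generator images `x, y` on the four diagonals of the cube
whose faces are the six elements of order four. -/
def actFun : Q → Q → Fin 4 → Fin 4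
  | a _, a _ => id
  | a i, xa j => T1 i j
  | xa i, a j => T2 i j
  | xa i, xa j => T3 i j

theorem act_bij : ∀ x y : Q, Good x y → Function.Bijective (actFun x y) := by decide

theorem act_comp : ∀ x y x' y' : Q, Good x y → Good x' y' → ∀ t : Fin 4,
    actFun (mk x y x') (mk x y y') t = actFun x y (actFun x' y' t) := by decide

theorem act_id : ∀ x y : Q, Good x y → (∀ t : Fin 4, actFun x y t = t) → x = a 1 ∧ y = xa 0 := by
  decide

theorem act_std : ∀ t : Fin 4, actFun (a 1) (xa 0) t = t := by decide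

/-- The action of `Aut(Q₈)` on the four diagonals, as a homomorphism to `S₄`. -/
noncomputable def Φ : MulAut Q →* Equiv.Perm (Fin 4) where
  toFun φ := Equiv.ofBijective (actFun (φ (a 1)) (φ (xa 0))) (act_bij _ _ (good_ev φ))
  map_one' := by
    ext t
    simp [act_std]
  map_mul' φ ψ := by
    ext t
    simp only [MulAut.mul_apply, Equiv.Perm.coe_mul, Function.comp_apply, Equiv.ofBijective_apply]
    rw [eval_eq φ (ψ (a 1)), eval_eq φ (ψ (xa 0))]
    rw [act_comp _ _ _ _ (good_ev φ) (good_ev ψ)]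

theorem Φ_injective : Function.Injective Φ := by
  rw [injective_iff_map_eq_one]
  intro φ h
  have h' : ∀ t : Fin 4, actFun (φ (a 1)) (φ (xa 0)) t = t := by
    intro t
    have := congrArg (fun σ : Equiv.Perm (Fin 4) => σ t) h
    simpa [Φ] using this
  obtain ⟨e1, e2⟩ := act_id _ _ (good_ev φ) h'
  ext u
  rw [eval_eq φ u, e1, e2, MulAut.one_apply]
  have := eval_eq (1 : MulAut Q) u
  simpa using this.symm

/-- The automorphism group of the quaternion group of order 8 is isomorphic to the symmetric group of degree 4. -/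
theorem result : Nonempty (MulAut (QuaternionGroup 2) ≃* Equiv.Perm (Fin 4)) := by
  have : Finite (MulAut Q) := Finite.of_injective _ Φ_injective
  have hcard : Nat.card (Equiv.Perm (Fin 4)) ≤ Nat.card (MulAut Q) := by
    have h1 : Nat.card {p : Q × Q // Good p.1 p.2} ≤ Nat.card (MulAut Q) :=
      Nat.card_le_card_of_injective _ toAut_injective
    rw [Nat.card_eq_fintype_card, card_good] at h1
    rw [Nat.card_eq_fintype_card, Fintype.card_perm, Fintype.card_fin]
    exact h1
  have hbij : Function.Bijective Φ :=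
    Function.Injective.bijective_of_nat_card_le Φ_injective hcard
  exact ⟨MulEquiv.ofBijective Φ hbij⟩

end Cfsg.Agent.S3742
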