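import Cfsg.Statements.S0002

set_option autoImplicit false
open Pointwise
open Cfsg

namespace Cfsg.Agent.S0002

open MulOpposite MulAction Subgroup

/-- The class of a complement, as an element of `QuotientDiff`. -/
noncomputable def cls {G : Type*} [Group G] [Finite G] (A : Subgroup G) [A.Normal] [IsMulCommutative A]
    (K : Subgroup G) (hK : Subgroup.IsComplement' A K) : A.QuotientDiff :=
  Quotient.mk'' (⟨(K : Set G), hK.symm⟩ : A.LeftTransversal)

/-- A complement `K` of the abelian normal subgroup `A` is the stabilizer of its own class. -/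
theorem stab_eq {G : Type*} [Group G] [Finite G] (A : Subgroup G) [A.Normal] [IsMulCommutative A]
    (hA : (Nat.card A).Coprime A.index) (K : Subgroup G) (hK : Subgroup.IsComplement' A K) :
    stabilizer G (cls A K hK) = K := by
  have hle : K ≤ stabilizer G (cls A K hK) := by
    intro k hk
    rw [mem_stabilizer_iff]
    change Quotient.mk'' _ = Quotient.mk'' _
    congr 1
    apply Subtype.ext
    change (op k⁻¹ • (K : Set G)) = (K : Set G)
    ext x
    rw [Set.mem_smul_set]
    constructor
    · rintro ⟨y, hy, rfl⟩
      exact K.mul_mem hy (K.inv_mem hk)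
    · intro hx
      exact ⟨x * k, K.mul_mem hx hk, by simp⟩
  have hc : IsComplement' A (stabilizer G (cls A K hK)) := isComplement'_stabilizer_of_coprime hA
  have h1 := hc.card_mul_card
  have h2 := hK.card_mul_card
  have hcard : Nat.card (stabilizer G (cls A K hK)) = Nat.card K := by
    have hpos : 0 < Nat.card A := Nat.card_pos
    exact Nat.eq_of_mul_eq_mul_left hpos (h1.trans h2.symm)
  exact (Subgroup.eq_of_le_of_card_ge hle hcard.le).symm

/-- Schur's Theorem, conjugacy part, for an abelian normal subgroup of coprime order and index: any two complements are conjugate by an element of the normal subgroup. -/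
theorem result {G : Type*} [Group G] [Finite G] (A : Subgroup G) [A.Normal] [IsMulCommutative A]
    (hA : (Nat.card A).Coprime A.index)
    (H K : Subgroup G) (hH : Subgroup.IsComplement' A H) (hK : Subgroup.IsComplement' A K) :
    ∃ a ∈ A, MulAut.conj a • H = K := by
  obtain ⟨a, ha⟩ := exists_smul_eq hA (cls A H hH) (cls A K hK)
  refine ⟨a, a.2, ?_⟩
  rw [Subgroup.smul_def] at ha
  rw [← stab_eq A hA H hH, ← stab_eq A hA K hK, ← ha, stabilizer_smul_eq_stabilizer_map_conj]
  rfl

end Cfsg.Agent.S0002
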