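import Cfsg.Statements.S0043
import Mathlib

set_option autoImplicit false
open Pointwise
open Cfsg

namespace Cfsg.Agent.S0043

/-- A minimal normal subgroup of a finite solvable group is abelian, and for some prime p all of its elements have order dividing p. -/
theorem result {G : Type*} [Group G] [Finite G] [Group.IsSolvable G]
    (N : Subgroup G) [N.Normal] (hN : N ≠ ⊥) (hmin : ∀ M : Subgroup G, M.Normal → M ≤ N → M = ⊥ ∨ M = N) :
    IsMulCommutative N ∧ ∃ p : ℕ, p.Prime ∧ ∀ x ∈ N, x ^ p = 1 := by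
  classical
  -- Step 1: `⁅N, N⁆ = ⊥`
  have hcomm : ⁅N, N⁆ = ⊥ := by
    rcases hmin ⁅N, N⁆ inferInstance (Subgroup.commutator_le_left N N) with h | h
    · exact h
    · exfalso
      haveI : Nontrivial N := (Subgroup.nontrivial_iff_ne_bot N).mpr hN
      have hlt : commutator N < ⊤ := IsSolvable.commutator_lt_top_of_nontrivial N
      have hmap : (commutator N).map N.subtype = ⁅N, N⁆ := by
        rw [commutator_def, Subgroup.map_commutator, ← MonoidHom.range_eq_map, Subgroup.range_subtype]
      rw [h] at hmap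
      have : commutator N = ⊤ := by
        apply Subgroup.map_injective (Subgroup.subtype_injective N)
        rw [hmap, ← MonoidHom.range_eq_map, Subgroup.range_subtype]
      exact hlt.ne this
  have hcent : N ≤ Subgroup.centralizer (N : Set G) :=
    Subgroup.commutator_eq_bot_iff_le_centralizer.mp hcomm
  have hcommG : ∀ a ∈ N, ∀ b ∈ N, a * b = b * a := by
    intro a ha b hb
    exact (Subgroup.mem_centralizer_iff.mp (hcent ha) b hb).symm
  refine ⟨⟨⟨fun a b => Subtype.ext (hcommG a a.2 b b.2)⟩⟩, ?_⟩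
  -- Step 2: pick a prime dividing `|N|`
  have hcard : Nat.card N ≠ 1 := by
    intro h
    exact hN (Subgroup.card_eq_one.mp h)
  obtain ⟨p, hp, hpd⟩ := Nat.exists_prime_and_dvd hcard
  haveI : Fact p.Prime := ⟨hp⟩
  obtain ⟨x, hx⟩ := exists_prime_orderOf_dvd_card' p hpd
  refine ⟨p, hp, ?_⟩
  -- the subgroup of elements of `N` killed by `p`
  let M : Subgroup G :=
    { carrier := {y | y ∈ N ∧ y ^ p = 1}
      one_mem' := ⟨N.one_mem, one_pow p⟩
      mul_mem' := by
        rintro a b ⟨ha, ha'⟩ ⟨hb, hb'⟩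
        refine ⟨N.mul_mem ha hb, ?_⟩
        have hc : Commute a b := hcommG a ha b hb
        rw [hc.mul_pow, ha', hb', one_mul]
      inv_mem' := by
        rintro a ⟨ha, ha'⟩
        exact ⟨N.inv_mem ha, by rw [inv_pow, ha', inv_one]⟩ }
  have hMn : M.Normal := by
    refine ⟨fun y hy g => ?_⟩
    obtain ⟨hy1, hy2⟩ := hy
    refine ⟨Subgroup.Normal.conj_mem inferInstance y hy1 g, ?_⟩
    rw [conj_pow, hy2, mul_one, mul_inv_cancel]
  have hMle : M ≤ N := fun y hy => hy.1
  rcases hmin M hMn hMle with h | h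
  · exfalso
    have hxM : (x : G) ∈ M := by
      refine ⟨x.2, ?_⟩
      have := pow_orderOf_eq_one x
      rw [hx] at this
      exact_mod_cast congrArg Subtype.val this
    rw [h, Subgroup.mem_bot] at hxM
    have hx1 : x = 1 := Subtype.ext hxM
    rw [hx1, orderOf_one] at hx
    exact hp.one_lt.ne hx
  · intro y hy
    have : y ∈ M := h ▸ hy
    exact this.2

end Cfsg.Agent.S0043
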