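import Cfsg.Statements.S0120
import Cfsg.Agent.Helper24.OddOmega
import Mathlib.GroupTheory.SemidirectProduct

set_option autoImplicit false
open Cfsg

namespace Cfsg.Agent.S0120

open Cfsg.Agent.Helper24 in
/-- For odd p, an automorphism of order prime to p of a finite p-group G that fixes every element of order p is the identity. -/
theorem result {G : Type*} [Group G] [Finite G] {p : ℕ} [Fact p.Prime] (hp : p ≠ 2) (hG : IsPGroup p G) (a : MulAut G) (ha : Nat.Coprime (orderOf a) p) (h : ∀ x : G, x ^ p = 1 → a x = x) : a = 1 := by
  -- work in the holomorph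
  let φ : MulAut G →* MulAut G := MonoidHom.id _
  let X := G ⋊[φ] MulAut G
  have : Finite X := Finite.of_equiv _ (SemidirectProduct.equivProd (φ := φ)).symm
  let inl : G →* X := SemidirectProduct.inl
  let inr : MulAut G →* X := SemidirectProduct.inr
  set P : Subgroup X := inl.range with hPdef
  have hP : IsPGroup p P := by
    have : Function.Surjective inl.rangeRestrict := inl.rangeRestrict_surjective
    exact hG.of_surjective inl.rangeRestrict this
  set α : X := inr a with hα
  have hconj : ∀ (b : MulAut G) (n : G), inr b * inl n * (inr b)⁻¹ = inl (b n) := by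
    intro b n
    have := SemidirectProduct.inl_aut (φ := φ) b n
    rw [map_inv] at this
    exact this.symm
  have hαP : α ∈ Subgroup.normalizer (P : Set X) := by
    apply mem_normalizer_of_forall_conj_mem
    · rintro y ⟨n, rfl⟩
      exact ⟨a n, (hconj a n).symm⟩
    · rintro y ⟨n, rfl⟩
      refine ⟨a⁻¹ n, ?_⟩
      have := hconj a⁻¹ n
      rw [map_inv, inv_inv] at this
      exact this.symm
  have hord : orderOf α = orderOf a := orderOf_injective inr SemidirectProduct.inr_injective a
  have hcop : (orderOf α).Coprime p := by rw [hord]; exact ha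
  have hΩ : ∀ y ∈ P, y ^ p = 1 → α * y = y * α := by
    rintro y ⟨n, rfl⟩ hy
    have hn : n ^ p = 1 := by
      apply SemidirectProduct.inl_injective (φ := φ)
      rw [map_pow, map_one]; exact hy
    have h1 := hconj a n
    rw [h n hn] at h1
    calc α * inl n = (inr a * inl n * (inr a)⁻¹) * inr a := (inv_mul_cancel_right _ _).symm
      _ = inl n * α := by rw [h1]
  have key := commute_of_commute_omega_odd hp hcop P hP hαP hΩ
  ext n
  have h1 := key (inl n) ⟨n, rfl⟩
  have h2 := hconj a n
  have h3 : inr a * inl n * (inr a)⁻¹ = inl n := by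
    calc inr a * inl n * (inr a)⁻¹ = (α * inl n) * (inr a)⁻¹ := rfl
      _ = (inl n * α) * (inr a)⁻¹ := by rw [h1]
      _ = inl n := mul_inv_cancel_right _ _
  rw [h3] at h2
  have := SemidirectProduct.inl_injective (φ := φ) h2
  simpa using this.symm

end Cfsg.Agent.S0120
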