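-- Statement S5185: an essential subgroup of order p^2 is elementary abelian and its automizer contains SL_2(p).
import Mathlib
import Cfsg.Statements.S5185

set_option autoImplicit false
universe u
open Cfsg

namespace Cfsg.Agent.S5185

open Matrix

variable {K : Type*} [Field K]

/-- A nontrivial finite `p`-subgroup does not have `p`-rank `≤ 0`. -/
theorem not_pRankLE_zero {X : Type*} [Group X] [Finite X] {p : ℕ} [hp : Fact p.Prime] (Q : Subgroup X)
    (hQ : p ∣ Nat.card Q) : ¬ PRankLE p (1 - 1) Q := by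
  intro h
  obtain ⟨g, hg⟩ := exists_prime_orderOf_dvd_card' (G := Q) p hQ
  have h1 := h (Subgroup.zpowers g) inferInstance (by
    rintro _ ⟨k, rfl⟩
    rw [← zpow_natCast, ← _root_.zpow_mul, mul_comm, _root_.zpow_mul, zpow_natCast, ← hg, pow_orderOf_eq_one, _root_.one_zpow])
  rw [Nat.card_zpowers, hg] at h1
  simp at h1
  exact absurd h1 (by have := hp.out.two_le; omega)

/-- A strongly `p`-embedded subgroup forces the Sylow `p`-subgroups to be non-normal. -/
theorem sylow_not_normal_of_stronglyPEmbedded {X : Type*} [Group X] [Finite X] {p : ℕ} [hp : Fact p.Prime]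
    (E : Subgroup X) (hE : IsStronglyPEmbedded p E) :
    p ∣ Nat.card X ∧ ∃ P : Sylow p X, ¬ (P : Subgroup X).Normal := by
  obtain ⟨hdvd, hEtop, P, hP⟩ := hE
  refine ⟨hdvd, P, fun hnormal => hEtop ?_⟩
  have hPcard : p ∣ Nat.card (P : Subgroup X) := P.dvd_card_of_dvd_card hdvd
  have h1 : Subgroup.normalizer ((P : Subgroup X) : Set X) ≤ kGeneratedCore p 1 (P : Subgroup X) := by
    unfold kGeneratedCore
    exact le_iSup (fun Q : {Q : Subgroup X // Q ≤ (P : Subgroup X) ∧ ¬ PRankLE p (1 - 1) Q} =>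
      Subgroup.normalizer ((Q : Subgroup X) : Set X)) ⟨(P : Subgroup X), le_rfl, not_pRankLE_zero _ hPcard⟩
  rw [Subgroup.normalizer_eq_top] at h1
  exact top_le_iff.mp (h1.trans hP)

/-- In a commutative group every Sylow subgroup is normal. -/
theorem sylow_normal_of_comm {X : Type*} [Group X] {p : ℕ} (hc : ∀ a b : X, a * b = b * a)
    (P : Sylow p X) : (P : Subgroup X).Normal :=
  ⟨fun n hn g => by rw [hc g n, mul_inv_cancel_right]; exact hn⟩

theorem orderOf_conj_eq {X : Type*} [Group X] (g x : X) : orderOf (g * x * g⁻¹) = orderOf x := by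
  have := orderOf_injective (MulAut.conj g).toMonoidHom (MulAut.conj g).injective x
  simpa [MulAut.conj_apply] using this

/-- If `p ∣ |X|`, `p² ∤ |X|` and a Sylow `p`-subgroup is not normal, then there are two elements of order `p`
generating different subgroups. -/
theorem exists_two_order_p {X : Type*} [Group X] [Finite X] {p : ℕ} [hp : Fact p.Prime]
    (hdvd : p ∣ Nat.card X) (hsq : ¬ p ^ 2 ∣ Nat.card X) (P : Sylow p X) (hP : ¬ (P : Subgroup X).Normal) :
    ∃ x y : X, orderOf x = p ∧ orderOf y = p ∧ y ∉ Subgroup.zpowers x := by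
  classical
  -- |P| = p
  have hPcard : Nat.card (P : Subgroup X) = p := by
    rw [Sylow.card_eq_multiplicity]
    have h1 : (Nat.card X).factorization p = 1 := by
      have hX : Nat.card X ≠ 0 := Nat.card_pos.ne'
      have hle : 1 ≤ (Nat.card X).factorization p :=
        (hp.out.dvd_iff_one_le_factorization hX).mp hdvd
      have hlt : ¬ 2 ≤ (Nat.card X).factorization p := by
        intro h2
        exact hsq ((hp.out.pow_dvd_iff_le_factorization hX).mpr h2)
      omega
    rw [h1, pow_one]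
  obtain ⟨x0, hx0P, hx0⟩ : ∃ x0 : X, x0 ∈ (P : Subgroup X) ∧ orderOf x0 = p := by
    obtain ⟨x, hx⟩ := exists_prime_orderOf_dvd_card' (G := (P : Subgroup X)) p (by rw [hPcard])
    exact ⟨(x : X), x.2, by rw [Subgroup.orderOf_coe, hx]⟩
  -- another Sylow
  have hex : ∃ g : X, g • P ≠ P := by
    by_contra hcon
    push Not at hcon
    apply hP
    have : Subgroup.normalizer ((P : Subgroup X) : Set X) = ⊤ := by
      rw [eq_top_iff]
      intro g _
      exact Sylow.smul_eq_iff_mem_normalizer.mp (hcon g)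
    exact Subgroup.normalizer_eq_top_iff.mp this
  obtain ⟨g, hg⟩ := hex
  refine ⟨x0, g * x0 * g⁻¹, hx0, ?_, ?_⟩
  · rw [orderOf_conj_eq, hx0]
  · intro hmem
    apply hg
    -- zpowers x = P
    have hzx : Subgroup.zpowers x0 = (P : Subgroup X) := by
      apply Subgroup.eq_of_le_of_card_ge
      · rw [Subgroup.zpowers_le]; exact hx0P
      · rw [Nat.card_zpowers, hx0, hPcard]
    have hgx : g * x0 * g⁻¹ ∈ ((g • P : Sylow p X) : Subgroup X) := by
      rw [Sylow.coe_subgroup_smul]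
      have := Subgroup.smul_mem_pointwise_smul x0 (MulAut.conj g) (P : Subgroup X) hx0P
      simpa [MulAut.smul_def] using this
    have hcard2 : Nat.card ((g • P : Sylow p X) : Subgroup X) = p := by
      rw [Sylow.card_eq_multiplicity]
      rw [Sylow.card_eq_multiplicity] at hPcard
      exact hPcard
    have hz2 : Subgroup.zpowers (g * x0 * g⁻¹) = ((g • P : Sylow p X) : Subgroup X) := by
      apply Subgroup.eq_of_le_of_card_ge
      · rw [Subgroup.zpowers_le]; exact hgx
      · rw [Nat.card_zpowers, orderOf_conj_eq, hx0, hcard2]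
    have hle : ((g • P : Sylow p X) : Subgroup X) ≤ (P : Subgroup X) := by
      rw [← hz2, Subgroup.zpowers_le, ← hzx]; exact hmem
    apply Sylow.ext
    exact Subgroup.eq_of_le_of_card_ge hle (by rw [hPcard, hcard2])

/-- version with the module structure given as an instance -/
theorem exists_embedding_GL2_aux {A : Type*} [CommGroup A] [Finite A] (p : ℕ) [hp : Fact p.Prime]
    [Module (ZMod p) (Additive A)] (hcard : Nat.card A = p ^ 2) :
    ∃ Θ : MulAut A →* GL (Fin 2) (ZMod p), Function.Injective Θ := by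
  classical
  have : Finite (Additive A) := inferInstanceAs (Finite A)
  have : Module.Finite (ZMod p) (Additive A) := Module.Finite.of_finite
  have hfin : Module.finrank (ZMod p) (Additive A) = 2 := by
    have h1 : Nat.card (Additive A) = Nat.card (ZMod p) ^ Module.finrank (ZMod p) (Additive A) :=
      Module.natCard_eq_pow_finrank (K := ZMod p) (V := Additive A)
    have h2 : Nat.card (Additive A) = p ^ 2 := hcard
    rw [h2, Nat.card_eq_fintype_card, ZMod.card] at h1
    exact (Nat.pow_right_injective hp.out.two_le h1).symm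
  let b : Module.Basis (Fin 2) (ZMod p) (Additive A) :=
    Module.finBasisOfFinrankEq (ZMod p) (Additive A) hfin
  let f1 : MulAut A →* Module.End (ZMod p) (Additive A) :=
    { toFun := fun α => (MulEquiv.toAdditive α : Additive A ≃+ Additive A).toAddMonoidHom.toZModLinearMap p
      map_one' := LinearMap.ext fun x => rfl
      map_mul' := fun α β => LinearMap.ext fun x => rfl }
  have hf1 : Function.Injective f1 := by
    intro α β h
    ext a
    exact LinearMap.congr_fun h (Additive.ofMul a)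
  let f2 : MulAut A →* (Module.End (ZMod p) (Additive A))ˣ := f1.toHomUnits
  have hf2 : Function.Injective f2 := by
    intro α β h
    apply hf1
    have := congrArg Units.val h
    simpa [f2] using this
  let e3 : (Module.End (ZMod p) (Additive A))ˣ ≃* (Matrix (Fin 2) (Fin 2) (ZMod p))ˣ :=
    Units.mapEquiv (LinearMap.toMatrixAlgEquiv b).toMulEquiv
  exact ⟨e3.toMonoidHom.comp f2, e3.injective.comp hf2⟩

/-- An elementary abelian group of order `p^2`: its automorphism group embeds in `GL₂(𝔽_p)`. -/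
theorem exists_embedding_GL2 {A : Type*} [CommGroup A] [Finite A] (p : ℕ) [hp : Fact p.Prime]
    (hexp : ∀ a : A, a ^ p = 1) (hcard : Nat.card A = p ^ 2) :
    ∃ Θ : MulAut A →* GL (Fin 2) (ZMod p), Function.Injective Θ := by
  have hV : ∀ x : Additive A, p • x = 0 := fun x => hexp (Additive.toMul x)
  exact @exists_embedding_GL2_aux A _ _ p hp (AddCommGroup.zmodModule hV) hcard

/-- upper unitriangular element of `SL₂` -/
def sU (x : K) : SpecialLinearGroup (Fin 2) K := ⟨!![1, x; 0, 1], by simp [det_fin_two_of]⟩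

/-- lower unitriangular element of `SL₂` -/
def sL (y : K) : SpecialLinearGroup (Fin 2) K := ⟨!![1, 0; y, 1], by simp [det_fin_two_of]⟩

@[simp] theorem sU_val (x : K) : (sU x : Matrix (Fin 2) (Fin 2) K) = !![1, x; 0, 1] := rfl

@[simp] theorem sL_val (x : K) : (sL x : Matrix (Fin 2) (Fin 2) K) = !![1, 0; x, 1] := rfl

theorem sU_mul (x y : K) : sU x * sU y = sU (x + y) := by
  ext i j
  simp only [Matrix.SpecialLinearGroup.coe_mul]
  fin_cases i <;> fin_cases j <;> simp [Matrix.mul_apply, Fin.sum_univ_two, add_comm]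

theorem sL_mul (x y : K) : sL x * sL y = sL (x + y) := by
  ext i j
  simp only [Matrix.SpecialLinearGroup.coe_mul]
  fin_cases i <;> fin_cases j <;> simp [Matrix.mul_apply, Fin.sum_univ_two, add_comm]

theorem sU_zero : sU (0 : K) = 1 := by
  ext i j
  fin_cases i <;> fin_cases j <;> simp

theorem sL_zero : sL (0 : K) = 1 := by
  ext i j
  fin_cases i <;> fin_cases j <;> simp

theorem sU_pow (x : K) (n : ℕ) : sU x ^ n = sU (n * x) := by
  induction n with
  | zero => simp [sU_zero]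
  | succ n ih => rw [pow_succ, ih, sU_mul]; congr 1; push_cast; ring

theorem sL_pow (x : K) (n : ℕ) : sL x ^ n = sL (n * x) := by
  induction n with
  | zero => simp [sL_zero]
  | succ n ih => rw [pow_succ, ih, sL_mul]; congr 1; push_cast; ring

theorem sl2_decomp (M : SpecialLinearGroup (Fin 2) K) (hc : (M : Matrix (Fin 2) (Fin 2) K) 1 0 ≠ 0) :
    M = sU (((M : Matrix (Fin 2) (Fin 2) K) 0 0 - 1) / (M : Matrix (Fin 2) (Fin 2) K) 1 0) *
      sL ((M : Matrix (Fin 2) (Fin 2) K) 1 0) *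
      sU (((M : Matrix (Fin 2) (Fin 2) K) 1 1 - 1) / (M : Matrix (Fin 2) (Fin 2) K) 1 0) := by
  have hdet := M.det_coe
  rw [det_fin_two] at hdet
  ext i j
  simp only [Matrix.SpecialLinearGroup.coe_mul]
  generalize (M : Matrix (Fin 2) (Fin 2) K) = N at *
  fin_cases i <;> fin_cases j <;>
    simp [Matrix.mul_apply, Fin.sum_univ_two] <;> field_simp
  all_goals first | ring1 | linear_combination -hdet | linear_combination hdet

/-- `SL₂(K)` is generated by the upper and lower unitriangular matrices. -/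
theorem sl2_generated (M : SpecialLinearGroup (Fin 2) K) :
    M ∈ Subgroup.closure (Set.range (sU : K → SpecialLinearGroup (Fin 2) K) ∪ Set.range sL) := by
  have hU : ∀ x : K, sU x ∈ Subgroup.closure (Set.range (sU : K → SpecialLinearGroup (Fin 2) K) ∪ Set.range sL) :=
    fun x => Subgroup.subset_closure (Or.inl ⟨x, rfl⟩)
  have hL : ∀ x : K, sL x ∈ Subgroup.closure (Set.range (sU : K → SpecialLinearGroup (Fin 2) K) ∪ Set.range sL) :=
    fun x => Subgroup.subset_closure (Or.inr ⟨x, rfl⟩)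
  have key : ∀ M : SpecialLinearGroup (Fin 2) K, (M : Matrix (Fin 2) (Fin 2) K) 1 0 ≠ 0 →
      M ∈ Subgroup.closure (Set.range (sU : K → SpecialLinearGroup (Fin 2) K) ∪ Set.range sL) := by
    intro M hc
    rw [sl2_decomp M hc]
    exact Subgroup.mul_mem _ (Subgroup.mul_mem _ (hU _) (hL _)) (hU _)
  by_cases hc : (M : Matrix (Fin 2) (Fin 2) K) 1 0 = 0
  · -- then the (0,0) entry is nonzero; multiply by sL 1
    have hdet := M.det_coe
    rw [det_fin_two, hc, mul_zero, sub_zero] at hdet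
    have ha : (M : Matrix (Fin 2) (Fin 2) K) 0 0 ≠ 0 := by
      intro h0; rw [h0, zero_mul] at hdet; exact zero_ne_one hdet
    have h1 : ((sL 1 * M : SpecialLinearGroup (Fin 2) K) : Matrix (Fin 2) (Fin 2) K) 1 0 ≠ 0 := by
      simp only [Matrix.SpecialLinearGroup.coe_mul]
      simp [Matrix.mul_apply, Fin.sum_univ_two, hc, ha]
    have h2 := key (sL 1 * M) h1
    have h3 : M = (sL 1)⁻¹ * (sL 1 * M) := by group
    rw [h3]
    exact Subgroup.mul_mem _ (Subgroup.inv_mem _ (hL 1)) h2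
  · exact key M hc

/-- `det [u | w]` for vectors in `K²`. -/
def det2 (u w : Fin 2 → K) : K := u 0 * w 1 - w 0 * u 1

theorem exists_smul_of_det2_eq_zero (u w : Fin 2 → K) (hu : u ≠ 0) (h : det2 u w = 0) :
    ∃ t : K, w = t • u := by
  unfold det2 at h
  by_cases h0 : u 0 = 0
  · have h1 : u 1 ≠ 0 := by
      intro h1; apply hu; funext i; fin_cases i <;> simp [h0, h1]
    refine ⟨w 1 / u 1, ?_⟩
    funext i
    fin_cases i
    · simp only [Fin.zero_eta, Pi.smul_apply, smul_eq_mul, h0, mul_zero]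
      rw [h0, zero_mul, zero_sub, neg_eq_zero] at h
      rcases mul_eq_zero.mp h with h | h
      · exact h
      · exact absurd h h1
    · simp only [Fin.mk_one, Pi.smul_apply, smul_eq_mul]; field_simp
  · refine ⟨w 0 / u 0, ?_⟩
    funext i
    fin_cases i
    · simp only [Fin.zero_eta, Pi.smul_apply, smul_eq_mul]; field_simp
    · simp only [Fin.mk_one, Pi.smul_apply, smul_eq_mul]; field_simp; linear_combination h

theorem eq_zero_of_mulVec_eq_zero_of_det2 (N : Matrix (Fin 2) (Fin 2) K) (u w : Fin 2 → K)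
    (hu : N *ᵥ u = 0) (hw : N *ᵥ w = 0) (h : det2 u w ≠ 0) : N = 0 := by
  unfold det2 at h
  have hu0 := congrFun hu 0
  have hu1 := congrFun hu 1
  have hw0 := congrFun hw 0
  have hw1 := congrFun hw 1
  simp only [mulVec, dotProduct, Fin.sum_univ_two, Pi.zero_apply] at hu0 hu1 hw0 hw1
  ext i j
  fin_cases i <;> fin_cases j <;> simp only [Fin.zero_eta, Fin.mk_one, Matrix.zero_apply]
  · have : N 0 0 * (u 0 * w 1 - w 0 * u 1) = 0 := by linear_combination w 1 * hu0 - u 1 * hw0
    exact (mul_eq_zero.mp this).resolve_right h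
  · have : N 0 1 * (u 0 * w 1 - w 0 * u 1) = 0 := by linear_combination u 0 * hw0 - w 0 * hu0
    exact (mul_eq_zero.mp this).resolve_right h
  · have : N 1 0 * (u 0 * w 1 - w 0 * u 1) = 0 := by linear_combination w 1 * hu1 - u 1 * hw1
    exact (mul_eq_zero.mp this).resolve_right h
  · have : N 1 1 * (u 0 * w 1 - w 0 * u 1) = 0 := by linear_combination u 0 * hw1 - w 0 * hu1
    exact (mul_eq_zero.mp this).resolve_right h

/-- 2×2 Cayley–Hamilton -/
theorem sq_eq_fin_two {K : Type*} [Field K] (N : Matrix (Fin 2) (Fin 2) K) :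
    N * N = (N 0 0 + N 1 1) • N - (N 0 0 * N 1 1 - N 0 1 * N 1 0) • (1 : Matrix (Fin 2) (Fin 2) K) := by
  ext i j
  fin_cases i <;> fin_cases j <;>
    simp [Matrix.mul_apply, Fin.sum_univ_two] <;> ring

/-- A nilpotent 2×2 matrix over a field squares to zero. -/
theorem sq_eq_zero_of_pow_eq_zero {K : Type*} [Field K] (N : Matrix (Fin 2) (Fin 2) K) (m : ℕ)
    (h : N ^ m = 0) : N * N = 0 := by
  by_cases hN : N = 0
  · rw [hN, mul_zero]
  have hdet : N 0 0 * N 1 1 - N 0 1 * N 1 0 = 0 := by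
    have h1 : (N ^ m).det = 0 := by rw [h, det_zero]
    rw [det_pow] at h1
    have hm0 : m ≠ 0 := by
      rintro rfl; rw [pow_zero] at h; exact one_ne_zero h
    have h2 := (pow_eq_zero_iff hm0).mp h1
    rwa [det_fin_two] at h2
  have hsq : N * N = (N 0 0 + N 1 1) • N := by
    rw [sq_eq_fin_two, hdet, zero_smul, sub_zero]
  -- powers
  have hpow : ∀ n : ℕ, N ^ (n + 1) = (N 0 0 + N 1 1) ^ n • N := by
    intro n
    induction n with
    | zero => simp
    | succ n ih => rw [pow_succ, ih, smul_mul_assoc, hsq, smul_smul, pow_succ]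
  have hm : m ≠ 0 := by
    rintro rfl; rw [pow_zero] at h; exact one_ne_zero h
  obtain ⟨n, rfl⟩ := Nat.exists_eq_succ_of_ne_zero hm
  rw [Nat.succ_eq_add_one, hpow n] at h
  have htr : (N 0 0 + N 1 1) ^ n = 0 := (smul_eq_zero.mp h).resolve_right hN
  rcases Nat.eq_zero_or_pos n with h0 | h0
  · subst h0; rw [pow_zero] at htr; exact absurd htr one_ne_zero
  · have := (pow_eq_zero_iff h0.ne').mp htr
    rw [hsq, this, zero_smul]

/-- An element of `GL₂(𝔽_p)` of order dividing `p`: `(g - 1)^2 = 0`. -/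
theorem sub_one_sq_eq_zero (p : ℕ) [hp : Fact p.Prime] (g : GL (Fin 2) (ZMod p)) (hg : g ^ p = 1) :
    ((g : Matrix (Fin 2) (Fin 2) (ZMod p)) - 1) * ((g : Matrix (Fin 2) (Fin 2) (ZMod p)) - 1) = 0 := by
  apply sq_eq_zero_of_pow_eq_zero _ p
  have hc : Commute (g : Matrix (Fin 2) (Fin 2) (ZMod p)) 1 := Commute.one_right _
  rw [sub_pow_char_of_commute p hc, one_pow, ← Units.val_pow_eq_pow_val, hg, Units.val_one, sub_self]

/-- `(1 + N)^m = 1 + m N` when `N² = 0`. -/
theorem one_add_pow_of_sq_zero {R : Type*} [Ring R] (N : R) (h : N * N = 0) (m : ℕ) :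
    (1 + N) ^ m = 1 + m • N := by
  induction m with
  | zero => simp
  | succ m ih =>
    rw [pow_succ, ih, mul_add, mul_one, add_mul, one_mul, smul_mul_assoc, h, smul_zero, add_zero,
      succ_nsmul]
    abel

/-- A nonzero matrix moves some vector. -/
theorem exists_mulVec_ne_zero (N : Matrix (Fin 2) (Fin 2) K) (hN : N ≠ 0) : ∃ w : Fin 2 → K, N *ᵥ w ≠ 0 := by
  by_contra hcon
  push Not at hcon
  apply hN
  apply eq_zero_of_mulVec_eq_zero_of_det2 N ![1, 0] ![0, 1] (hcon _) (hcon _)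
  simp [det2]

/-- image of a square-zero nonzero 2×2 matrix is the line spanned by any nonzero kernel vector -/
theorem mulVec_mem_line (N : Matrix (Fin 2) (Fin 2) K) (hsq : N * N = 0) (hN : N ≠ 0) (v : Fin 2 → K)
    (hv : v ≠ 0) (hNv : N *ᵥ v = 0) (x : Fin 2 → K) : ∃ t : K, N *ᵥ x = t • v := by
  apply exists_smul_of_det2_eq_zero v (N *ᵥ x) hv
  by_contra hdet
  apply hN
  apply eq_zero_of_mulVec_eq_zero_of_det2 N v (N *ᵥ x) hNv _ hdet
  rw [mulVec_mulVec, hsq, zero_mulVec]

/-- Two elements of order `p` of `GL₂(𝔽_p)` generating different subgroups are simultaneously conjugate to an upper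
and a lower unitriangular matrix. -/
theorem exists_adapted_basis (p : ℕ) [hp : Fact p.Prime] (g₁ g₂ : GL (Fin 2) (ZMod p))
    (h1 : g₁ ^ p = 1) (h2 : g₂ ^ p = 1) (h1' : g₁ ≠ 1) (h2' : g₂ ≠ 1)
    (hne : g₂ ∉ Subgroup.zpowers g₁) :
    ∃ (B : GL (Fin 2) (ZMod p)) (a b : ZMod p), a ≠ 0 ∧ b ≠ 0 ∧
      g₁ * B = B * SpecialLinearGroup.toGL (sU a) ∧ g₂ * B = B * SpecialLinearGroup.toGL (sL b) := by
  classical
  set G1 : Matrix (Fin 2) (Fin 2) (ZMod p) := (g₁ : Matrix (Fin 2) (Fin 2) (ZMod p)) with hG1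
  set G2 : Matrix (Fin 2) (Fin 2) (ZMod p) := (g₂ : Matrix (Fin 2) (Fin 2) (ZMod p)) with hG2
  set N₁ := G1 - 1 with hN₁
  set N₂ := G2 - 1 with hN₂
  have hsq1 : N₁ * N₁ = 0 := sub_one_sq_eq_zero p g₁ h1
  have hsq2 : N₂ * N₂ = 0 := sub_one_sq_eq_zero p g₂ h2
  have hG1' : G1 = 1 + N₁ := by rw [hN₁]; abel
  have hG2' : G2 = 1 + N₂ := by rw [hN₂]; abel
  have hN1ne : N₁ ≠ 0 := by
    intro h
    apply h1'
    apply Units.ext
    rw [Units.val_one]
    exact sub_eq_zero.mp h
  have hN2ne : N₂ ≠ 0 := by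
    intro h
    apply h2'
    apply Units.ext
    rw [Units.val_one]
    exact sub_eq_zero.mp h
  obtain ⟨w₁, hw₁⟩ := exists_mulVec_ne_zero N₁ hN1ne
  obtain ⟨w₂, hw₂⟩ := exists_mulVec_ne_zero N₂ hN2ne
  set v₁ := N₁ *ᵥ w₁ with hv₁
  set v₂ := N₂ *ᵥ w₂ with hv₂
  have hNv1 : N₁ *ᵥ v₁ = 0 := by rw [hv₁, mulVec_mulVec, hsq1, zero_mulVec]
  have hNv2 : N₂ *ᵥ v₂ = 0 := by rw [hv₂, mulVec_mulVec, hsq2, zero_mulVec]
  -- independence
  have hdet : det2 v₁ v₂ ≠ 0 := by
    intro hd
    obtain ⟨t, ht⟩ := exists_smul_of_det2_eq_zero v₁ v₂ hw₁ hd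
    have ht0 : t ≠ 0 := by
      rintro rfl; rw [zero_smul] at ht; exact hw₂ ht
    have hN2v1 : N₂ *ᵥ v₁ = 0 := by
      have : N₂ *ᵥ (t • v₁) = 0 := by rw [← ht]; exact hNv2
      rw [mulVec_smul] at this
      exact (smul_eq_zero.mp this).resolve_left ht0
    have hdet1 : det2 v₁ w₁ ≠ 0 := by
      intro hd1
      obtain ⟨s, hs⟩ := exists_smul_of_det2_eq_zero v₁ w₁ hw₁ hd1
      apply hw₁
      show N₁ *ᵥ w₁ = 0
      rw [hs, mulVec_smul, hNv1, smul_zero]
    obtain ⟨r, hr⟩ := mulVec_mem_line N₂ hsq2 hN2ne v₁ hw₁ hN2v1 w₁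
    have hN2 : N₂ = r • N₁ := by
      have : N₂ - r • N₁ = 0 := by
        apply eq_zero_of_mulVec_eq_zero_of_det2 _ v₁ w₁ _ _ hdet1
        · rw [sub_mulVec, smul_mulVec, hN2v1, hNv1, smul_zero, sub_zero]
        · rw [sub_mulVec, smul_mulVec, hr, sub_self]
      exact sub_eq_zero.mp this
    apply hne
    refine ⟨(r.val : ℤ), ?_⟩
    apply Units.ext
    show ((g₁ ^ (r.val : ℤ) : GL (Fin 2) (ZMod p)) : Matrix (Fin 2) (Fin 2) (ZMod p)) = G2
    rw [zpow_natCast, Units.val_pow_eq_pow_val]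
    show G1 ^ r.val = G2
    rw [hG1', hG2', one_add_pow_of_sq_zero N₁ hsq1, hN2, ← Nat.cast_smul_eq_nsmul (ZMod p),
      ZMod.natCast_zmod_val]
  obtain ⟨a, ha⟩ := mulVec_mem_line N₁ hsq1 hN1ne v₁ hw₁ hNv1 v₂
  obtain ⟨b, hb⟩ := mulVec_mem_line N₂ hsq2 hN2ne v₂ hw₂ hNv2 v₁
  have ha0 : a ≠ 0 := by
    rintro rfl
    rw [zero_smul] at ha
    exact hN1ne (eq_zero_of_mulVec_eq_zero_of_det2 N₁ v₁ v₂ hNv1 ha hdet)
  have hb0 : b ≠ 0 := by
    rintro rfl
    rw [zero_smul] at hb
    exact hN2ne (eq_zero_of_mulVec_eq_zero_of_det2 N₂ v₁ v₂ hb hNv2 hdet)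
  let Bm : Matrix (Fin 2) (Fin 2) (ZMod p) := !![v₁ 0, v₂ 0; v₁ 1, v₂ 1]
  have hBdet : Bm.det ≠ 0 := by
    rw [det_fin_two_of]
    unfold det2 at hdet
    intro h; apply hdet; linear_combination h
  refine ⟨GeneralLinearGroup.mkOfDetNeZero Bm hBdet, a, b, ha0, hb0, ?_, ?_⟩
  · apply Units.ext
    show G1 * Bm = Bm * !![1, a; 0, 1]
    have e1 : G1 *ᵥ v₁ = v₁ := by rw [hG1', add_mulVec, one_mulVec, hNv1, add_zero]
    have e2 : G1 *ᵥ v₂ = v₂ + a • v₁ := by rw [hG1', add_mulVec, one_mulVec, ha]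
    have e10 := congrFun e1 0
    have e11 := congrFun e1 1
    have e20 := congrFun e2 0
    have e21 := congrFun e2 1
    simp only [mulVec, dotProduct, Fin.sum_univ_two, Pi.add_apply, Pi.smul_apply, smul_eq_mul] at e10 e11 e20 e21
    ext i j
    fin_cases i <;> fin_cases j <;>
      simp [Bm, Matrix.mul_apply, Fin.sum_univ_two]
    · exact e10
    · rw [e20]; ring
    · exact e11
    · rw [e21]; ring
  · apply Units.ext
    show G2 * Bm = Bm * !![1, 0; b, 1]
    have e1 : G2 *ᵥ v₁ = v₁ + b • v₂ := by rw [hG2', add_mulVec, one_mulVec, hb]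
    have e2 : G2 *ᵥ v₂ = v₂ := by rw [hG2', add_mulVec, one_mulVec, hNv2, add_zero]
    have e10 := congrFun e1 0
    have e11 := congrFun e1 1
    have e20 := congrFun e2 0
    have e21 := congrFun e2 1
    simp only [mulVec, dotProduct, Fin.sum_univ_two, Pi.add_apply, Pi.smul_apply, smul_eq_mul] at e10 e11 e20 e21
    ext i j
    fin_cases i <;> fin_cases j <;>
      simp [Bm, Matrix.mul_apply, Fin.sum_univ_two]
    · rw [e10]; ring
    · exact e20
    · rw [e11]; ring
    · exact e21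

theorem sl2_le_of_adapted (p : ℕ) [hp : Fact p.Prime] (G₀ : Subgroup (GL (Fin 2) (ZMod p)))
    (g₁ g₂ B : GL (Fin 2) (ZMod p)) (a b : ZMod p) (ha : a ≠ 0) (hb : b ≠ 0)
    (hg₁ : g₁ ∈ G₀) (hg₂ : g₂ ∈ G₀)
    (e1 : g₁ * B = B * SpecialLinearGroup.toGL (sU a))
    (e2 : g₂ * B = B * SpecialLinearGroup.toGL (sL b)) :
    (SpecialLinearGroup.toGL : SpecialLinearGroup (Fin 2) (ZMod p) →* GL (Fin 2) (ZMod p)).range ≤ G₀ := by
  let ψ : SpecialLinearGroup (Fin 2) (ZMod p) →* GL (Fin 2) (ZMod p) :=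
    (MulAut.conj B).toMonoidHom.comp SpecialLinearGroup.toGL
  have hψ : ∀ M, ψ M = B * SpecialLinearGroup.toGL M * B⁻¹ := fun M => rfl
  have hUa : sU a ∈ G₀.comap ψ := by
    rw [Subgroup.mem_comap, hψ, ← e1, mul_inv_cancel_right]; exact hg₁
  have hLb : sL b ∈ G₀.comap ψ := by
    rw [Subgroup.mem_comap, hψ, ← e2, mul_inv_cancel_right]; exact hg₂
  have hU : ∀ x : ZMod p, sU x ∈ G₀.comap ψ := by
    intro x
    have : sU x = sU a ^ (x / a).val := by
      rw [sU_pow, ZMod.natCast_zmod_val, div_mul_cancel₀ x ha]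
    rw [this]
    exact Subgroup.pow_mem _ hUa _
  have hL : ∀ x : ZMod p, sL x ∈ G₀.comap ψ := by
    intro x
    have : sL x = sL b ^ (x / b).val := by
      rw [sL_pow, ZMod.natCast_zmod_val, div_mul_cancel₀ x hb]
    rw [this]
    exact Subgroup.pow_mem _ hLb _
  have htop : ∀ M, M ∈ G₀.comap ψ := by
    intro M
    have hcl : Subgroup.closure (Set.range (sU : ZMod p → SpecialLinearGroup (Fin 2) (ZMod p)) ∪ Set.range sL)
        ≤ G₀.comap ψ := by
      rw [Subgroup.closure_le]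
      rintro _ (⟨x, rfl⟩ | ⟨x, rfl⟩)
      · exact hU x
      · exact hL x
    exact hcl (sl2_generated M)
  rintro _ ⟨M, rfl⟩
  -- M' = B⁻¹ M B
  have hdet : ((B⁻¹ * SpecialLinearGroup.toGL M * B : GL (Fin 2) (ZMod p)) : Matrix (Fin 2) (Fin 2) (ZMod p)).det = 1 := by
    have h1 : GeneralLinearGroup.det (B⁻¹ * SpecialLinearGroup.toGL M * B) = GeneralLinearGroup.det (SpecialLinearGroup.toGL M) := by
      rw [map_mul, map_mul, map_inv, mul_comm, ← mul_assoc, mul_inv_cancel, one_mul]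
    have h2 := congrArg Units.val h1
    rw [GeneralLinearGroup.val_det_apply, GeneralLinearGroup.val_det_apply] at h2
    rw [h2]
    exact M.det_coe
  let M' : SpecialLinearGroup (Fin 2) (ZMod p) := ⟨_, hdet⟩
  have hM' : ψ M' = SpecialLinearGroup.toGL M := by
    rw [hψ]
    have : SpecialLinearGroup.toGL M' = B⁻¹ * SpecialLinearGroup.toGL M * B := by
      apply Units.ext
      rfl
    rw [this]; group
  rw [← hM']
  exact htop M'

/-- restriction of an injective hom to the preimage of a subgroup of its range -/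
theorem nonempty_comap_equiv {G G' : Type*} [Group G] [Group G'] (ψ : G →* G') (hψ : Function.Injective ψ)
    (R : Subgroup G') (hR : R ≤ ψ.range) : Nonempty (R.comap ψ ≃* R) := by
  refine ⟨MulEquiv.ofBijective (ψ.subgroupComap R) ⟨?_, ?_⟩⟩
  · intro a b h
    apply Subtype.ext
    apply hψ
    exact congrArg Subtype.val h
  · rintro ⟨r, hr⟩
    obtain ⟨a, rfl⟩ := hR hr
    exact ⟨⟨a, hr⟩, rfl⟩

/-- `p²` does not divide `|GL₂(𝔽_p)|`. -/
theorem not_sq_dvd_card_GL2 (p : ℕ) [hp : Fact p.Prime] : ¬ p ^ 2 ∣ Nat.card (GL (Fin 2) (ZMod p)) := by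
  rw [Matrix.card_GL_field, Fin.prod_univ_two, ZMod.card]
  simp only [Fin.val_zero, pow_zero, Fin.val_one, pow_one]
  intro h
  have hp2 := hp.out.two_le
  have h1 : p ^ 2 - p = p * (p - 1) := by
    rw [Nat.mul_sub, mul_one, pow_two]
  have h0 : (p ^ 2 - 1) * (p ^ 2 - p) = p * ((p ^ 2 - 1) * (p - 1)) := by
    rw [h1]; ring
  rw [h0] at h
  have h' : p * p ∣ p * ((p ^ 2 - 1) * (p - 1)) := (pow_two p) ▸ h
  have h2 : p ∣ (p ^ 2 - 1) * (p - 1) := Nat.dvd_of_mul_dvd_mul_left hp.out.pos h'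
  rcases (Nat.Prime.dvd_mul hp.out).mp h2 with h3 | h3
  · have h4 : p ∣ p ^ 2 := dvd_pow_self p two_ne_zero
    have h5 : p ∣ p ^ 2 - (p ^ 2 - 1) := Nat.dvd_sub h4 h3
    have h6 : p ^ 2 - (p ^ 2 - 1) = 1 := by
      have : 1 ≤ p ^ 2 := Nat.one_le_pow _ _ hp.out.pos
      omega
    rw [h6] at h5
    exact hp.out.one_lt.ne' (Nat.dvd_one.mp h5)
  · have h5 : p ≤ p - 1 := Nat.le_of_dvd (by omega) h3
    omega

/-- The automorphism group of a cyclic group is commutative. -/
theorem mulAut_comm_of_isCyclic {H : Type*} [Group H] [IsCyclic H] (α β : MulAut H) : α * β = β * α := by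
  apply (IsCyclic.mulAutMulEquiv H).injective
  rw [map_mul, map_mul, mul_comm]

/-- group-theoretic core: a subgroup `A` of `Aut(H)`, `|H| = p²`, such that `A / (Inn H ∩ A)` has a strongly
`p`-embedded subgroup. -/
theorem core {H : Type*} [Group H] (p : ℕ) [hp : Fact p.Prime] (hcard : Nat.card H = p ^ 2)
    (A : Subgroup (MulAut H)) [hn : ((Inn H).subgroupOf A).Normal]
    (E : Subgroup (A ⧸ (Inn H).subgroupOf A)) (hE : IsStronglyPEmbedded p E) :
    (∀ a : H, a ^ p = 1) ∧ ∃ K : Subgroup A, Nonempty (K ≃* SpecialLinearGroup (Fin 2) (ZMod p)) := by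
  classical
  have hfin : Finite H := Nat.finite_of_card_ne_zero (by rw [hcard]; exact pow_ne_zero 2 hp.out.ne_zero)
  have hcomm : ∀ a b : H, a * b = b * a := (isMulCommutative_iff.mp (IsPGroup.isMulCommutative_of_card_eq_prime_sq hcard))
  -- I = ⊥
  have hI : (Inn H).subgroupOf A = ⊥ := by
    rw [eq_bot_iff]
    rintro x hx
    rw [Subgroup.mem_subgroupOf] at hx
    obtain ⟨g, hg⟩ := hx
    rw [Subgroup.mem_bot]
    apply Subtype.ext
    rw [← hg]
    ext h
    simp [MulAut.conj_apply, hcomm g h]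
  set I := (Inn H).subgroupOf A with hIdef
  let f : A →* A ⧸ I := QuotientGroup.mk' I
  have hfinj : Function.Injective f := by
    rw [← MonoidHom.ker_eq_bot_iff, QuotientGroup.ker_mk', hI]
  have hfsurj : Function.Surjective f := QuotientGroup.mk'_surjective I
  let e : A ≃* A ⧸ I := MulEquiv.ofBijective f ⟨hfinj, hfsurj⟩
  obtain ⟨hdvd, P, hP⟩ := sylow_not_normal_of_stronglyPEmbedded E hE
  -- exponent p
  have hexp : ∀ a : H, a ^ p = 1 := by
    by_contra hcon
    push Not at hcon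
    obtain ⟨h, hh⟩ := hcon
    have hord : orderOf h ∣ p ^ 2 := by rw [← hcard]; exact orderOf_dvd_natCard h
    obtain ⟨m, hm, hm2⟩ := (Nat.dvd_prime_pow hp.out).1 hord
    have hm' : m = 2 := by
      interval_cases m
      · exfalso; apply hh; rw [pow_zero, orderOf_eq_one_iff] at hm2; rw [hm2, one_pow]
      · exfalso; apply hh; rw [pow_one] at hm2; rw [← hm2, pow_orderOf_eq_one]
      · rfl
    subst hm'
    have hcyc : IsCyclic H := isCyclic_of_orderOf_eq_card h (by rw [hm2, hcard])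
    apply hP
    apply sylow_normal_of_comm
    intro a b
    obtain ⟨a, rfl⟩ := hfsurj a
    obtain ⟨b, rfl⟩ := hfsurj b
    rw [← map_mul, ← map_mul]
    congr 1
    apply Subtype.ext
    exact mulAut_comm_of_isCyclic (a : MulAut H) (b : MulAut H)
  refine ⟨hexp, ?_⟩
  let _ : CommGroup H := { (inferInstance : Group H) with mul_comm := hcomm }
  obtain ⟨Θ, hΘ⟩ := exists_embedding_GL2 (A := H) p hexp hcard
  -- p² ∤ |X|
  have hsq : ¬ p ^ 2 ∣ Nat.card (A ⧸ I) := by
    intro h
    apply not_sq_dvd_card_GL2 p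
    have h1 : Nat.card (A ⧸ I) = Nat.card A := (Nat.card_congr e.toEquiv).symm
    have h2 : Nat.card A ∣ Nat.card (MulAut H) := Subgroup.card_subgroup_dvd_card A
    have h3 : Nat.card (MulAut H) ∣ Nat.card (GL (Fin 2) (ZMod p)) := Subgroup.card_dvd_of_injective Θ hΘ
    exact (h.trans (h1 ▸ h2)).trans h3
  obtain ⟨x, y, hx, hy, hxy⟩ := exists_two_order_p hdvd hsq P hP
  let α₁ : A := e.symm x
  let α₂ : A := e.symm y
  have hα₁ : orderOf α₁ = p := by rw [MulEquiv.orderOf_eq, hx]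
  have hα₂ : orderOf α₂ = p := by rw [MulEquiv.orderOf_eq, hy]
  have hα : α₂ ∉ Subgroup.zpowers α₁ := by
    rintro ⟨k, hk⟩
    apply hxy
    refine ⟨k, ?_⟩
    have := congrArg e hk
    simpa [α₁, α₂, map_zpow] using this
  let ψ : A →* GL (Fin 2) (ZMod p) := Θ.comp A.subtype
  have hψ : Function.Injective ψ := hΘ.comp Subtype.coe_injective
  have hg₁ : orderOf (ψ α₁) = p := by rw [orderOf_injective ψ hψ, hα₁]
  have hg₂ : orderOf (ψ α₂) = p := by rw [orderOf_injective ψ hψ, hα₂]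
  have hg : ψ α₂ ∉ Subgroup.zpowers (ψ α₁) := by
    rintro ⟨k, hk⟩
    apply hα
    refine ⟨k, ?_⟩
    apply hψ
    rw [map_zpow]; exact hk
  have hp1 : p ≠ 1 := hp.out.one_lt.ne'
  obtain ⟨B, a, b, ha, hb, e1, e2⟩ := exists_adapted_basis p (ψ α₁) (ψ α₂)
    (by have := pow_orderOf_eq_one (ψ α₁); rwa [hg₁] at this)
    (by have := pow_orderOf_eq_one (ψ α₂); rwa [hg₂] at this)
    (by intro h; rw [h, orderOf_one] at hg₁; exact hp1 hg₁.symm)
    (by intro h; rw [h, orderOf_one] at hg₂; exact hp1 hg₂.symm) hg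
  have hle := sl2_le_of_adapted p ψ.range (ψ α₁) (ψ α₂) B a b ha hb ⟨α₁, rfl⟩ ⟨α₂, rfl⟩ e1 e2
  obtain ⟨e2⟩ := nonempty_comap_equiv ψ hψ _ hle
  exact ⟨_, ⟨e2.trans (MonoidHom.ofInjective SpecialLinearGroup.toGL_injective).symm⟩⟩

/-- Let F be a saturated fusion system over a finite p-group S and H an essential subgroup of order p². Then H is elementary abelian (isomorphic to C_p × C_p) and its F-automorphism group contains a subgroup isomorphic to SL(2,p). -/
theorem result {Ω : Type u} [Group Ω] {S : Subgroup Ω} [Finite S] (p : ℕ) [Fact p.Prime] (hS : IsPGroup p S)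
    (F : Cfsg.FusionSystem S) (hF : F.IsSaturated p) (H : Subgroup Ω) (hH : F.IsEssential p H) (hcard : Nat.card H = p ^ 2) :
    Cfsg.IsElementaryAbelian p H ∧
      ∃ K : Subgroup ↥(F.autGroup H), Nonempty (↥K ≃* Matrix.SpecialLinearGroup (Fin 2) (ZMod p)) := by
  have _ := hS
  have _ := hF
  obtain ⟨-, -, hnorm, E, hE⟩ := hH
  obtain ⟨hexp, hK⟩ := core p hcard (F.autGroup H) E hE
  refine ⟨⟨IsPGroup.isMulCommutative_of_card_eq_prime_sq hcard, ?_⟩, hK⟩
  intro a ha
  exact congrArg Subtype.val (hexp ⟨a, ha⟩)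

end Cfsg.Agent.S5185
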