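import Cfsg.Statements.S0093
import Cfsg.Agent.Helper47.Frattini
import Cfsg.Agent.Lib.Nilpotent

set_option autoImplicit false
open Cfsg
open scoped commutatorElement

namespace Cfsg.Agent.S0093

theorem mul_pow_mem_of_comm_mem {P : Type*} [Group P] (p : ℕ) (M : Subgroup P) [hM : M.Normal]
    (x y : P) (hxy : ⁅x, y⁆ ∈ M) (hx : x ^ p ∈ M) (hy : y ^ p ∈ M) : (x * y) ^ p ∈ M := by
  rw [← QuotientGroup.eq_one_iff (N := M)] at hxy hx hy ⊢
  rw [QuotientGroup.mk_pow] at hx hy ⊢
  rw [QuotientGroup.mk_mul]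
  have hc : Commute (x : P ⧸ M) (y : P ⧸ M) := by
    rw [← commutatorElement_eq_one_iff_commute]
    rw [← hxy]
    simp [commutatorElement_def]
  rw [hc.mul_pow, hx, hy, one_mul]

/-- the candidate critical subgroup attached to a normal subgroup `M`: elements of `C_P(M)` which are
central of order dividing `p` modulo `M`. -/
def crit {P : Type*} [Group P] (p : ℕ) (M : Subgroup P) [hM : M.Normal] : Subgroup P where
  carrier := {x | x ∈ Subgroup.centralizer (M : Set P) ∧ (∀ g : P, ⁅x, g⁆ ∈ M) ∧ x ^ p ∈ M}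
  one_mem' := by
    refine ⟨Subgroup.one_mem _, fun g => ?_, ?_⟩
    · rw [commutatorElement_one_left]; exact M.one_mem
    · rw [one_pow]; exact M.one_mem
  mul_mem' := by
    rintro x y ⟨hx1, hx2, hx3⟩ ⟨hy1, hy2, hy3⟩
    refine ⟨Subgroup.mul_mem _ hx1 hy1, fun g => ?_, ?_⟩
    · rw [commutatorElement_mul_left_eq_conj_mul]
      exact M.mul_mem (hM.conj_mem _ (hy2 g) x) (hx2 g)
    · exact mul_pow_mem_of_comm_mem p M x y (hx2 y) hx3 hy3
  inv_mem' := by
    rintro x ⟨hx1, hx2, hx3⟩
    refine ⟨Subgroup.inv_mem _ hx1, fun g => ?_, ?_⟩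
    · rw [commutatorElement_inv_left]
      have h1 : ⁅g, x⁆ ∈ M := by rw [← commutatorElement_inv]; exact M.inv_mem (hx2 g)
      have := hM.conj_mem _ h1 x⁻¹
      rwa [inv_inv] at this
    · rw [inv_pow]; exact M.inv_mem hx3

theorem mem_crit {P : Type*} [Group P] (p : ℕ) (M : Subgroup P) [hM : M.Normal] (x : P) :
    x ∈ crit p M ↔ x ∈ Subgroup.centralizer (M : Set P) ∧ (∀ g : P, ⁅x, g⁆ ∈ M) ∧ x ^ p ∈ M :=
  Iff.rfl

theorem crit_characteristic {P : Type*} [Group P] (p : ℕ) (M : Subgroup P) [hM : M.Normal]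
    (hMc : M.Characteristic) : (crit p M).Characteristic := by
  have hK : (Subgroup.centralizer (M : Set P)).Characteristic := inferInstance
  rw [Subgroup.characteristic_iff_le_comap]
  intro φ x hx
  rw [mem_crit] at hx
  obtain ⟨hx1, hx2, hx3⟩ := hx
  rw [Subgroup.mem_comap, mem_crit]
  have hMφ : ∀ m ∈ M, φ m ∈ M := fun m hm => Subgroup.characteristic_iff_le_comap.mp hMc φ hm
  refine ⟨Subgroup.characteristic_iff_le_comap.mp hK φ hx1, fun g => ?_, ?_⟩
  · have : ⁅(φ.toMonoidHom x), g⁆ = φ ⁅x, φ.symm g⁆ := by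
      rw [map_commutatorElement]; simp
    rw [this]
    exact hMφ _ (hx2 _)
  · have : (φ.toMonoidHom x) ^ p = φ (x ^ p) := by simp
    rw [this]
    exact hMφ _ hx3

theorem le_crit {P : Type*} [Group P] (p : ℕ) (M : Subgroup P) [hM : M.Normal]
    (hab : ∀ a ∈ M, ∀ b ∈ M, a * b = b * a) : M ≤ crit p M := by
  intro m hm
  rw [mem_crit]
  refine ⟨?_, fun g => ?_, M.pow_mem hm p⟩
  · rw [Subgroup.mem_centralizer_iff]
    intro h hh
    exact hab h hh m hm
  · rw [commutatorElement_def]
    have : m * g * m⁻¹ * g⁻¹ = m * (g * m⁻¹ * g⁻¹) := by group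
    rw [this]
    exact M.mul_mem hm (hM.conj_mem _ (M.inv_mem hm) g)

/-- If the centre of `crit p M` lies in `M`, then `crit p M` is self-centralizing. -/
theorem centralizer_crit_le {P : Type*} [Group P] [Finite P] {p : ℕ} [Fact p.Prime]
    (hP : IsPGroup p P) (M : Subgroup P) [hM : M.Normal] [hHn : (crit p M).Normal]
    (hMH : M ≤ crit p M)
    (hZM : crit p M ⊓ Subgroup.centralizer (crit p M : Set P) ≤ M) :
    Subgroup.centralizer (crit p M : Set P) ≤ crit p M := by
  classical
  by_contra hQH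
  set H := crit p M with hH
  set Q := Subgroup.centralizer (H : Set P) with hQ
  have hQn : Q.Normal := inferInstance
  have hQK : Q ≤ Subgroup.centralizer (M : Set P) := Subgroup.centralizer_le hMH
  have hQM : ¬ Q ≤ M := fun h => hQH (h.trans hMH)
  -- pass to the quotient
  have hPq : IsPGroup p (P ⧸ M) := hP.to_quotient M
  have : Group.IsNilpotent (P ⧸ M) := hPq.isNilpotent
  have hQ'n : (Q.map (QuotientGroup.mk' M)).Normal :=
    Subgroup.Normal.map hQn _ (QuotientGroup.mk'_surjective M)
  have hQ'ne : Q.map (QuotientGroup.mk' M) ≠ ⊥ := by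
    intro h
    apply hQM
    intro x hx
    have : (QuotientGroup.mk' M) x ∈ Q.map (QuotientGroup.mk' M) := Subgroup.mem_map_of_mem _ hx
    rw [h, Subgroup.mem_bot, QuotientGroup.mk'_apply, QuotientGroup.eq_one_iff] at this
    exact this
  have hne := Cfsg.Agent.Lib.normal_inf_center_ne_bot (Q.map (QuotientGroup.mk' M)) hQ'ne
  obtain ⟨⟨z, hz⟩, hz1⟩ := Subgroup.ne_bot_iff_exists_ne_one.mp hne
  have hz1' : z ≠ 1 := fun h => hz1 (Subtype.ext h)
  -- an element of order p in the intersection
  have hex : ∃ k, z ^ (p ^ k) = 1 := hPq z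
  have hk0 : Nat.find hex ≠ 0 := by
    intro h0
    have := Nat.find_spec hex
    rw [h0, pow_zero, pow_one] at this
    exact hz1' this
  obtain ⟨k, hk⟩ := Nat.exists_eq_succ_of_ne_zero hk0
  have hw1 : z ^ (p ^ k) ≠ 1 := Nat.find_min hex (by rw [hk]; exact Nat.lt_succ_self k)
  have hwp : (z ^ (p ^ k)) ^ p = 1 := by
    have := Nat.find_spec hex
    rw [hk, Nat.succ_eq_add_one, pow_succ, pow_mul] at this
    exact this
  have hw : z ^ (p ^ k) ∈ Q.map (QuotientGroup.mk' M) ⊓ Subgroup.center (P ⧸ M) :=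
    Subgroup.pow_mem _ hz _
  obtain ⟨x, hxQ, hxw⟩ := Subgroup.mem_map.mp (Subgroup.mem_inf.mp hw).1
  have hwc := (Subgroup.mem_inf.mp hw).2
  rw [← hxw] at hw1 hwp hwc
  have hxM : x ∉ M := by
    intro h
    apply hw1
    rw [QuotientGroup.mk'_apply, QuotientGroup.eq_one_iff]
    exact h
  have hxH : x ∈ H := by
    rw [hH, mem_crit]
    refine ⟨hQK hxQ, fun g => ?_, ?_⟩
    · rw [← QuotientGroup.eq_one_iff (N := M), ← QuotientGroup.mk'_apply, map_commutatorElement,
        commutatorElement_eq_one_iff_mul_comm]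
      exact ((Subgroup.mem_center_iff.mp hwc) _).symm
    · rw [← QuotientGroup.eq_one_iff (N := M), ← QuotientGroup.mk'_apply, map_pow]
      exact hwp
  exact hxM (hZM (Subgroup.mem_inf.mpr ⟨hxH, hxQ⟩))

/-- the Frattini subgroup of `crit p M` lies in `M`. -/
theorem frattini_crit_le {P : Type*} [Group P] [Finite P] {p : ℕ} [Fact p.Prime]
    (M : Subgroup P) [hM : M.Normal] :
    (frattini (crit p M)).map (crit p M).subtype ≤ M := by
  have hfr : frattini (crit p M) ≤ M.subgroupOf (crit p M) := by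
    apply Cfsg.Agent.Helper47.frattini_le_of_commutator_pow_mem (p := p)
    · intro a b
      rw [Subgroup.mem_subgroupOf]
      have := ((mem_crit p M a).mp a.2).2.1 b
      have e : ((⁅a, b⁆ : crit p M) : P) = ⁅(a : P), (b : P)⁆ := by simp [commutatorElement_def]
      rw [e]; exact this
    · intro a
      rw [Subgroup.mem_subgroupOf]
      have := ((mem_crit p M a).mp a.2).2.2
      simpa using this
  intro x hx
  obtain ⟨y, hy, rfl⟩ := Subgroup.mem_map.mp hx
  exact Subgroup.mem_subgroupOf.mp (hfr hy)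

end Cfsg.Agent.S0093

namespace Cfsg.Agent.S0093

/-- Every finite p-group has a critical subgroup: a characteristic subgroup H whose Frattini subgroup and whose commutator with the whole group lie in the centre of H, and whose centralizer is contained in H. -/
theorem result {P : Type*} [Group P] [Finite P] {p : ℕ} [Fact p.Prime] (hP : IsPGroup p P) : ∃ H : Subgroup P, H.Characteristic ∧ (frattini H).map H.subtype ≤ Subgroup.centralizer (H : Set P) ∧ ⁅H, (⊤ : Subgroup P)⁆ ≤ H ⊓ Subgroup.centralizer (H : Set P) ∧ Subgroup.centralizer (H : Set P) ≤ H := by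
  classical
  have hpp : p.Prime := Fact.out
  -- a maximal characteristic abelian subgroup
  obtain ⟨M, -, hMmax⟩ := Finite.exists_le_maximal
    (p := fun M : Subgroup P => M.Characteristic ∧ ∀ a ∈ M, ∀ b ∈ M, a * b = b * a)
    (a := ⊥) ⟨Subgroup.botCharacteristic, by
      intro a ha b hb
      rw [Subgroup.mem_bot] at ha hb
      rw [ha, hb]⟩
  obtain ⟨⟨hMc, hMab⟩, hMmax'⟩ := hMmax
  have hMn : M.Normal := inferInstance
  have hMK : M ≤ Subgroup.centralizer (M : Set P) := by
    intro m hm
    rw [Subgroup.mem_centralizer_iff]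
    intro h hh
    exact hMab h hh m hm
  by_cases hKM : Subgroup.centralizer (M : Set P) ≤ M
  · -- M is self-centralizing
    refine ⟨M, hMc, ?_, ?_, hKM⟩
    · intro x hx
      obtain ⟨y, -, rfl⟩ := Subgroup.mem_map.mp hx
      exact hMK y.2
    · have h1 : ⁅M, (⊤ : Subgroup P)⁆ ≤ M := Subgroup.commutator_le_left M ⊤
      exact le_inf h1 (h1.trans hMK)
  · -- the critical subgroup
    set H := crit p M with hH
    have hHc : H.Characteristic := crit_characteristic p M hMc
    have hHn : H.Normal := inferInstance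
    have hMH : M ≤ H := le_crit p M hMab
    have hHK : H ≤ Subgroup.centralizer (M : Set P) := fun x hx => ((mem_crit p M x).mp hx).1
    have hMCH : M ≤ Subgroup.centralizer (H : Set P) := by
      intro m hm
      rw [Subgroup.mem_centralizer_iff]
      intro h hh
      have := hHK hh
      rw [Subgroup.mem_centralizer_iff] at this
      exact (this m hm).symm
    -- the centre of H is M
    have hCHc : (Subgroup.centralizer (H : Set P)).Characteristic := inferInstance
    have hZc : (H ⊓ Subgroup.centralizer (H : Set P)).Characteristic := inferInstance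
    have hZab : ∀ a ∈ H ⊓ Subgroup.centralizer (H : Set P),
        ∀ b ∈ H ⊓ Subgroup.centralizer (H : Set P), a * b = b * a := by
      intro a ha b hb
      have h1 := (Subgroup.mem_inf.mp hb).2
      rw [Subgroup.mem_centralizer_iff] at h1
      exact h1 a (Subgroup.mem_inf.mp ha).1
    have hZM : H ⊓ Subgroup.centralizer (H : Set P) ≤ M :=
      hMmax' ⟨hZc, hZab⟩ (le_inf hMH hMCH)
    have hcomm : ⁅H, (⊤ : Subgroup P)⁆ ≤ M := by
      rw [Subgroup.commutator_le]
      intro x hx g _
      exact ((mem_crit p M x).mp hx).2.1 g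
    exact ⟨H, hHc, (frattini_crit_le M).trans hMCH, hcomm.trans (le_inf hMH hMCH),
      centralizer_crit_le hP M hMH hZM⟩

end Cfsg.Agent.S0093
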