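import Cfsg.Statements.S0121

set_option autoImplicit false
open Cfsg

namespace Cfsg.Agent.S0121

/-- A p'-automorphism of a p-group acting trivially on a critical subgroup is trivial. -/
theorem result {G : Type*} [Group G] [Finite G] {p : ℕ} [Fact p.Prime] (hG : IsPGroup p G) (H : Subgroup G) (hH : H.Characteristic) (h1 : (frattini H).map H.subtype ≤ Subgroup.centralizer (H : Set G)) (h2 : ⁅H, (⊤ : Subgroup G)⁆ ≤ H ⊓ Subgroup.centralizer (H : Set G)) (h3 : Subgroup.centralizer (H : Set G) ≤ H) (a : MulAut G) (ha : Nat.Coprime (orderOf a) p) (h : ∀ x ∈ H, a x = x) : a = 1 := by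
  have hHn : H.Normal := inferInstance
  -- key: g⁻¹ * a g ∈ centralizer H ≤ H
  have key : ∀ g : G, g⁻¹ * a g ∈ H := by
    intro g
    apply h3
    rw [Subgroup.mem_centralizer_iff]
    intro x hx
    -- a g * x * (a g)⁻¹ = g * x * g⁻¹
    have hx' : a⁻¹ x = x := by
      have := h x hx
      calc a⁻¹ x = a⁻¹ (a x) := by rw [this]
        _ = x := by simp
    have e1 : a (g * x * g⁻¹) = g * x * g⁻¹ := h _ (hHn.conj_mem x hx g)
    have e2 : a (g * x * g⁻¹) = a g * x * (a g)⁻¹ := by
      rw [map_mul, map_mul, map_inv, h x hx]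
    have e3 : a g * x * (a g)⁻¹ = g * x * g⁻¹ := by rw [← e2, e1]
    -- x * (g⁻¹ * a g) = (g⁻¹ * a g) * x
    have : g⁻¹ * (a g * x * (a g)⁻¹) * a g = g⁻¹ * (g * x * g⁻¹) * a g := by rw [e3]
    simp only [mul_assoc, inv_mul_cancel, mul_one, inv_mul_cancel_left] at this
    -- this : g⁻¹ * (a g * x) = x * (g⁻¹ * a g)
    rw [mul_assoc, this]
  -- a^k g = g * (g⁻¹ * a g)^k
  have hpow : ∀ (k : ℕ) (g : G), (a ^ k) g = g * (g⁻¹ * a g) ^ k := by
    intro k
    induction k with
    | zero => intro g; simp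
    | succ k ih =>
      intro g
      rw [pow_succ', MulAut.mul_apply, ih, map_mul, map_pow, h _ (key g), pow_succ']
      simp [mul_assoc]
  have hfin : a ^ Nat.card G = 1 := by
    ext g
    rw [hpow, pow_card_eq_one']
    simp
  have hdvd : orderOf a ∣ Nat.card G := orderOf_dvd_of_pow_eq_one hfin
  obtain ⟨n, hn⟩ := IsPGroup.iff_card.mp hG
  rw [hn] at hdvd
  have : orderOf a = 1 := by
    have hc : Nat.Coprime (orderOf a) (p ^ n) := Nat.Coprime.pow_right n ha
    exact Nat.Coprime.eq_one_of_dvd hc hdvd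
  exact orderOf_eq_one_iff.mp this

end Cfsg.Agent.S0121
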