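import Cfsg.Statements.S5080
import Cfsg.Agent.Lib.Cores
import Cfsg.Agent.Helper48.PCore
import Cfsg.Agent.Helper48.StronglyEmbedded

set_option autoImplicit false
open Cfsg

namespace Cfsg.Agent.S5080

/-- In a saturated fusion system over a finite p-group, every essential subgroup is radical (it is centric and fully normalized by definition, so it is centric-radical and fully normalized). -/
theorem result {Ω : Type*} [Group Ω] {S : Subgroup Ω} [Finite S] (p : ℕ) [Fact p.Prime] (hS : IsPGroup p S) (F : Cfsg.FusionSystem S) (hF : F.IsSaturated p) (P : Subgroup Ω) (hP : F.IsEssential p P) : F.IsRadical p P := by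
  obtain ⟨hcen, hfn, hnorm, E, hE⟩ := hP
  have hPS : P ≤ S := hcen.1
  refine ⟨hPS, ?_⟩
  -- finiteness
  haveI : Finite P := Finite.of_injective (Subgroup.inclusion hPS) (Subgroup.inclusion_injective _)
  haveI : Finite (MulAut P) := MulEquiv.finite_left
  obtain ⟨hdvd, hEtop, R, hR⟩ := hE
  -- Step 1: O_p(Out_F(P)) = 1
  have h1 : pCore p (F.autGroup P ⧸ (Inn P).subgroupOf (F.autGroup P)) = ⊥ := by
    by_contra hne
    have hQR : pCore p (F.autGroup P ⧸ (Inn P).subgroupOf (F.autGroup P)) ≤ R :=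
      Cfsg.Agent.Lib.pCore_le_sylow R
    have hQp : IsPGroup p (pCore p (F.autGroup P ⧸ (Inn P).subgroupOf (F.autGroup P))) :=
      Cfsg.Agent.Lib.isPGroup_pCore p
    have hN := Cfsg.Agent.Helper48.normalizer_le_kGeneratedCore hQR hQp hne
    haveI hnorm' : (pCore p (F.autGroup P ⧸ (Inn P).subgroupOf (F.autGroup P))).Normal :=
      Cfsg.Agent.Helper48.pCore_normal p _
    rw [Subgroup.normalizer_eq_top] at hN
    exact hEtop (top_le_iff.mp (hN.trans hR))
  -- Step 2: O_p(Aut_F(P)) ≤ Inn(P)
  have h2 : pCore p (F.autGroup P) ≤ (Inn P).subgroupOf (F.autGroup P) := by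
    have hn : (pCore p (F.autGroup P)).Normal := Cfsg.Agent.Helper48.pCore_normal p _
    have hp : IsPGroup p (pCore p (F.autGroup P)) := Cfsg.Agent.Lib.isPGroup_pCore p
    have h3 : (pCore p (F.autGroup P)).map (QuotientGroup.mk' ((Inn P).subgroupOf (F.autGroup P))) ≤
        pCore p (F.autGroup P ⧸ (Inn P).subgroupOf (F.autGroup P)) :=
      Cfsg.Agent.Lib.le_pCore (hn.map _ (QuotientGroup.mk'_surjective _)) (hp.map _)
    rw [h1, le_bot_iff] at h3
    have h4 := (Subgroup.map_eq_bot_iff _).mp h3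
    rwa [QuotientGroup.ker_mk'] at h4
  -- Step 3: Inn(P) is a normal p-subgroup of Aut_F(P)
  have hPp : IsPGroup p P := hS.to_le hPS
  have hInnp : IsPGroup p (Inn P) :=
    hPp.of_surjective (MulAut.conj : P →* MulAut P).rangeRestrict
      (MonoidHom.rangeRestrict_surjective _)
  have hIp : IsPGroup p ((Inn P).subgroupOf (F.autGroup P)) := hInnp.comap_subtype
  have h4 : (Inn P).subgroupOf (F.autGroup P) ≤ pCore p (F.autGroup P) :=
    Cfsg.Agent.Lib.le_pCore hnorm hIp
  -- Step 4: Inn(P) ≤ Aut_F(P)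
  have hInnA : Inn P ≤ F.autGroup P := by
    rintro _ ⟨g, rfl⟩
    apply Subgroup.subset_closure
    show P.subtype.comp (MulAut.conj g).toMonoidHom ∈ F.Hom P
    have : P.subtype.comp (MulAut.conj g).toMonoidHom = conjHom P (g : Ω) := by
      ext x; simp [conjHom]
    rw [this]
    exact F.conj_mem hPS (hPS g.2)
  have h5 : pCore p (F.autGroup P) = (Inn P).subgroupOf (F.autGroup P) := le_antisymm h2 h4
  rw [h5, Subgroup.subgroupOf_map_subtype]
  exact inf_eq_left.mpr hInnA

end Cfsg.Agent.S5080
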