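import Cfsg.Statements.S5085
-- import your own Cfsg.Agent.* helpers here

set_option autoImplicit false
open Cfsg

namespace Cfsg.Agent.S5085

/-- In any fusion system, a characteristic subgroup of a subgroup that is normal in the system is itself normal in the system. -/
theorem result {Ω : Type*} [Group Ω] {S : Subgroup Ω} (F : Cfsg.FusionSystem S) (Q U : Subgroup Ω) (hQ : F.IsNormal Q) (hUQ : U ≤ Q) (hU : (U.subgroupOf Q).Characteristic) : F.IsNormal U := by
  obtain ⟨hQS, hext⟩ := hQ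
  refine ⟨hUQ.trans hQS, ?_⟩
  intro P φ hφ
  obtain ⟨ψ, hψ, hψP, hψQ⟩ := hext P φ hφ
  have hPS : P ≤ S := (F.le_of_mem hφ).1
  have hRS : P ⊔ U ≤ S := sup_le hPS (hUQ.trans hQS)
  have hR : P ⊔ U ≤ P ⊔ Q := sup_le_sup_left hUQ P
  have hι : conjHom (P ⊔ U) 1 ∈ F.Hom (P ⊔ U) := F.conj_mem hRS S.one_mem
  have hιx : ∀ x : ↥(P ⊔ U), conjHom (P ⊔ U) 1 x = (x : Ω) := by
    intro x
    simp [conjHom]
  have h : ∀ x : ↥(P ⊔ U), conjHom (P ⊔ U) 1 x ∈ P ⊔ Q := by
    intro x
    rw [hιx]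
    exact hR x.2
  have hψ' := F.comp_mem hι hψ h
  have hψ'x : ∀ x : ↥(P ⊔ U), (ψ.comp ((conjHom (P ⊔ U) 1).codRestrict (P ⊔ Q) h)) x = ψ ⟨x, hR x.2⟩ := by
    intro x
    simp only [MonoidHom.comp_apply]
    congr 1
    apply Subtype.ext
    simp [hιx]
  have hψinj : Function.Injective ψ := F.injective_of_mem hψ
  -- the automorphism of Q induced by ψ
  have hmemQ : ∀ q : Q, ψ (Subgroup.inclusion le_sup_right q) ∈ Q := by
    intro q
    have h0 : ψ (Subgroup.inclusion le_sup_right q) ∈ (Q.subgroupOf (P ⊔ Q)).map ψ := by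
      refine ⟨Subgroup.inclusion le_sup_right q, ?_, rfl⟩
      simp [Subgroup.mem_subgroupOf]
    rwa [hψQ] at h0
  let α₀ : Q →* Q :=
    { toFun := fun q => ⟨ψ (Subgroup.inclusion le_sup_right q), hmemQ q⟩
      map_one' := by
        apply Subtype.ext
        simp
      map_mul' := by
        intro a b
        apply Subtype.ext
        simp }
  have hα₀inj : Function.Injective α₀ := by
    intro a b hab
    have h1 : ψ (Subgroup.inclusion le_sup_right a) = ψ (Subgroup.inclusion le_sup_right b) := by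
      have := congrArg Subtype.val hab
      exact this
    have h2 := hψinj h1
    exact Subgroup.inclusion_injective _ h2
  have hα₀surj : Function.Surjective α₀ := by
    intro y
    have hy : (y : Ω) ∈ (Q.subgroupOf (P ⊔ Q)).map ψ := by
      rw [hψQ]; exact y.2
    obtain ⟨x, hx, hxy⟩ := hy
    have hxQ : (x : Ω) ∈ Q := by simpa [Subgroup.mem_subgroupOf] using hx
    refine ⟨⟨x, hxQ⟩, ?_⟩
    apply Subtype.ext
    show ψ (Subgroup.inclusion le_sup_right ⟨x, hxQ⟩) = y
    rw [← hxy]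
    congr 1
  let α : Q ≃* Q := MulEquiv.ofBijective α₀ ⟨hα₀inj, hα₀surj⟩
  have hαU : (U.subgroupOf Q).map α.toMonoidHom = U.subgroupOf Q :=
    Subgroup.characteristic_iff_map_eq.mp hU α
  have hαx : ∀ q : Q, ((α q : Q) : Ω) = ψ (Subgroup.inclusion le_sup_right q) := fun q => rfl
  refine ⟨_, hψ', ?_, ?_⟩
  · intro x
    rw [hψ'x, ← hψP x]
    congr 1
  · apply le_antisymm
    · rintro y ⟨x, hx, rfl⟩
      have hxU : (x : Ω) ∈ U := by simpa [Subgroup.mem_subgroupOf] using hx
      rw [hψ'x]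
      have h3 : α ⟨x, hUQ hxU⟩ ∈ U.subgroupOf Q := by
        rw [← hαU]
        refine ⟨⟨x, hUQ hxU⟩, ?_, rfl⟩
        simpa [Subgroup.mem_subgroupOf] using hxU
      have h4 : ((α ⟨x, hUQ hxU⟩ : Q) : Ω) ∈ U := by
        simpa [Subgroup.mem_subgroupOf] using h3
      rw [hαx] at h4
      exact h4
    · intro y hy
      have h3 : (⟨y, hUQ hy⟩ : Q) ∈ (U.subgroupOf Q).map α.toMonoidHom := by
        rw [hαU]
        simpa [Subgroup.mem_subgroupOf] using hy
      obtain ⟨q, hq, hqy⟩ := h3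
      have hqU : (q : Ω) ∈ U := by simpa [Subgroup.mem_subgroupOf] using hq
      refine ⟨⟨q, (le_sup_right : U ≤ P ⊔ U) hqU⟩, ?_, ?_⟩
      · simpa [Subgroup.mem_subgroupOf] using hqU
      · rw [hψ'x]
        have := congrArg Subtype.val hqy
        simp only [MulEquiv.coe_toMonoidHom] at this
        rw [hαx] at this
        exact this

end Cfsg.Agent.S5085
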