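-- Statement S5236: for p odd, a strongly closed P is normal iff Ω₁(P) has a strongly closed P-central series.
import Cfsg.Statements.S5236
import Cfsg.Agent.S0120
import Cfsg.Agent.S5085
import Cfsg.Agent.Helper87.FusionSeries
import Cfsg.Agent.Helper87.FusionRadical
import Cfsg.Agent.Helper87.FusionNormal

set_option autoImplicit false
open Cfsg

namespace Cfsg.Agent.S5236

open Cfsg.FusionSystem Cfsg.Agent.Helper87
open scoped commutatorElement

section aut

variable {U : Type*} [Group U]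

/-- If `γ` fixes `z = x⁻¹ γ(x)`, then `γ^k x = x z^k`. -/
theorem pow_apply_of_fixed (γ : MulAut U) (x : U) (hz : γ (x⁻¹ * γ x) = x⁻¹ * γ x) (k : ℕ) :
    (γ ^ k) x = x * (x⁻¹ * γ x) ^ k := by
  induction k with
  | zero => simp
  | succ k ih =>
    have h1 : (γ ^ (k + 1)) x = γ ((γ ^ k) x) := by
      rw [pow_succ', MulAut.mul_apply]
    rw [h1, ih, map_mul, map_pow, hz]
    have h2 : (x⁻¹ * γ x) ^ (k + 1) = (x⁻¹ * γ x) * (x⁻¹ * γ x) ^ k := pow_succ' _ _
    rw [h2, ← mul_assoc]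
    congr 1
    group

/-- The coprime step: an automorphism `γ` with `γ^r = 1`, `r` prime to `p`, fixing the `p`-element `x⁻¹ γ(x)`, fixes `x`. -/
theorem apply_eq_of_fixed {p : ℕ} (γ : MulAut U) {r : ℕ} (hr : γ ^ r = 1) (hcop : r.Coprime p)
    (x : U) (hz : γ (x⁻¹ * γ x) = x⁻¹ * γ x) (hzp : ∃ b : ℕ, (x⁻¹ * γ x) ^ (p ^ b) = 1) : γ x = x := by
  have h1 := pow_apply_of_fixed γ x hz r
  rw [hr, MulAut.one_apply] at h1
  have h2 : (x⁻¹ * γ x) ^ r = 1 := by
    have h := mul_left_cancel (a := x) (b := 1) (c := (x⁻¹ * γ x) ^ r) (by rw [mul_one]; exact h1)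
    exact h.symm
  obtain ⟨b, hb⟩ := hzp
  have h3 : x⁻¹ * γ x = 1 := by
    have hd1 : orderOf (x⁻¹ * γ x) ∣ r := orderOf_dvd_of_pow_eq_one h2
    have hd2 : orderOf (x⁻¹ * γ x) ∣ p ^ b := orderOf_dvd_of_pow_eq_one hb
    have hc : r.Coprime (p ^ b) := hcop.pow_right b
    exact orderOf_eq_one_iff.mp (Nat.eq_one_of_dvd_coprimes hc hd1 hd2)
  calc γ x = x * (x⁻¹ * γ x) := by group
    _ = x := by rw [h3, mul_one]

/-- Restriction of an automorphism to an invariant subgroup. -/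
def resAut (γ : MulAut U) (V : Subgroup U) (h : ∀ x : U, γ x ∈ V ↔ x ∈ V) : MulAut V where
  toFun x := ⟨γ x, (h x).2 x.2⟩
  invFun x := ⟨γ⁻¹ x, (h _).1 (by rw [MulAut.apply_inv_self]; exact x.2)⟩
  left_inv x := by apply Subtype.ext; simp
  right_inv x := by apply Subtype.ext; simp
  map_mul' x y := by apply Subtype.ext; simp

theorem resAut_pow_apply (γ : MulAut U) (V : Subgroup U) (h : ∀ x : U, γ x ∈ V ↔ x ∈ V) (k : ℕ) (x : V) :
    ((((resAut γ V h) ^ k) x : V) : U) = (γ ^ k) (x : U) := by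
  induction k generalizing x with
  | zero => simp
  | succ k ih =>
    rw [pow_succ', pow_succ', MulAut.mul_apply, MulAut.mul_apply]
    show γ ((((resAut γ V h) ^ k) x : V) : U) = γ ((γ ^ k) (x : U))
    rw [ih]

end aut

variable {Ω : Type*} [Group Ω]

/-- The automorphisms in `A ≤ Aut(U)` acting trivially on `X` modulo `Y` (with `X` invariant under `A`). -/
def pairStab (U : Subgroup Ω) (A : Subgroup (MulAut U)) (X Y : Subgroup Ω)
    (hX : ∀ β ∈ A, ∀ x : U, (x : Ω) ∈ X → ((β x : U) : Ω) ∈ X) : Subgroup A where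
  carrier := {β | ∀ x : U, (x : Ω) ∈ X → (x : Ω)⁻¹ * (((β : MulAut U) x : U) : Ω) ∈ Y}
  one_mem' := by
    intro x _
    show (x : Ω)⁻¹ * (x : Ω) ∈ Y
    rw [inv_mul_cancel]
    exact Y.one_mem
  mul_mem' := by
    intro β γ hβ hγ x hx
    show (x : Ω)⁻¹ * (((β : MulAut U) ((γ : MulAut U) x) : U) : Ω) ∈ Y
    have h1 := hγ x hx
    have h2 := hβ ((γ : MulAut U) x) (hX _ γ.2 x hx)
    have e : (x : Ω)⁻¹ * (((β : MulAut U) ((γ : MulAut U) x) : U) : Ω) =
        ((x : Ω)⁻¹ * (((γ : MulAut U) x : U) : Ω)) *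
          ((((γ : MulAut U) x : U) : Ω)⁻¹ * (((β : MulAut U) ((γ : MulAut U) x) : U) : Ω)) := by group
    rw [e]
    exact Y.mul_mem h1 h2
  inv_mem' := by
    intro β hβ x hx
    show (x : Ω)⁻¹ * ((((β : MulAut U)⁻¹) x : U) : Ω) ∈ Y
    have hy : ((((β : MulAut U)⁻¹) x : U) : Ω) ∈ X := hX _ (β⁻¹).2 x hx
    have h1 := hβ (((β : MulAut U)⁻¹) x) hy
    rw [MulAut.apply_inv_self] at h1
    have e : (x : Ω)⁻¹ * ((((β : MulAut U)⁻¹) x : U) : Ω) =
        (((((β : MulAut U)⁻¹) x : U) : Ω)⁻¹ * (x : Ω))⁻¹ := by group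
    rw [e]
    exact Y.inv_mem h1

theorem mem_pairStab_iff (U : Subgroup Ω) (A : Subgroup (MulAut U)) (X Y : Subgroup Ω)
    (hX : ∀ β ∈ A, ∀ x : U, (x : Ω) ∈ X → ((β x : U) : Ω) ∈ X) (β : A) :
    β ∈ pairStab U A X Y hX ↔ ∀ x : U, (x : Ω) ∈ X → (x : Ω)⁻¹ * (((β : MulAut U) x : U) : Ω) ∈ Y := Iff.rfl

theorem pairStab_normal (U : Subgroup Ω) (A : Subgroup (MulAut U)) (X Y : Subgroup Ω)
    (hX : ∀ β ∈ A, ∀ x : U, (x : Ω) ∈ X → ((β x : U) : Ω) ∈ X)
    (hY : ∀ β ∈ A, ∀ x : U, (x : Ω) ∈ Y → ((β x : U) : Ω) ∈ Y) : (pairStab U A X Y hX).Normal := by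
  constructor
  intro β hβ g x hx
  show (x : Ω)⁻¹ * (((g : MulAut U) ((β : MulAut U) ((g : MulAut U)⁻¹ x)) : U) : Ω) ∈ Y
  set y : U := (g : MulAut U)⁻¹ x with hy
  have hxy : x = (g : MulAut U) y := by rw [hy, MulAut.apply_inv_self]
  have hyX : (y : Ω) ∈ X := hX _ (g⁻¹).2 x hx
  have h1 := hβ y hyX
  have hwU : (y : Ω)⁻¹ * (((β : MulAut U) y : U) : Ω) = ((y⁻¹ * (β : MulAut U) y : U) : Ω) := rfl
  rw [hwU] at h1
  have h2 := hY _ g.2 _ h1
  rw [map_mul, map_inv] at h2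
  rw [hxy]
  exact h2

section main

variable {S : Subgroup Ω}

/-- The key coprime-action argument: an automorphism of order prime to `p` (`p` odd) of the `p`-group `U` stabilizing the
series `Q` of `Ω₁(P)` and acting trivially on `U` modulo `P` is trivial. -/
theorem eq_one_of_stabilizes {p : ℕ} [Fact p.Prime] (hp : p ≠ 2) (U : Subgroup Ω) [Finite U] (hU : IsPGroup p U)
    (P : Subgroup Ω) {n : ℕ} (Q : Fin (n + 1) → Subgroup Ω) (h0 : Q 0 = ⊥) (hn : Q (Fin.last n) = omegaOne p P)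
    (γ : MulAut U) {r : ℕ} (hr : γ ^ r = 1) (hcop : r.Coprime p)
    (c1 : ∀ x : U, (x : Ω)⁻¹ * ((γ x : U) : Ω) ∈ P)
    (c2 : ∀ i : Fin n, ∀ x : U, (x : Ω) ∈ Q i.succ → (x : Ω)⁻¹ * ((γ x : U) : Ω) ∈ Q i.castSucc) : γ = 1 := by
  -- (a) `γ` fixes every `Q i` pointwise
  have ha : ∀ i : Fin (n + 1), ∀ x : U, (x : Ω) ∈ Q i → γ x = x := by
    intro i
    induction i using Fin.induction with
    | zero =>
      intro x hx
      rw [h0, Subgroup.mem_bot] at hx
      have hx1 : x = 1 := Subtype.ext hx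
      rw [hx1, map_one]
    | succ i ih =>
      intro x hx
      have hz : (((x⁻¹ * γ x : U)) : Ω) ∈ Q i.castSucc := c2 i x hx
      exact apply_eq_of_fixed γ hr hcop x (ih _ hz) (hU _)
  -- (b) `γ` fixes `U ∩ P` pointwise
  have hiff : ∀ x : U, γ x ∈ P.subgroupOf U ↔ x ∈ P.subgroupOf U := by
    intro x
    rw [Subgroup.mem_subgroupOf, Subgroup.mem_subgroupOf]
    have h1 := c1 x
    constructor
    · intro h
      have e : (x : Ω) = ((γ x : U) : Ω) * ((x : Ω)⁻¹ * ((γ x : U) : Ω))⁻¹ := by group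
      rw [e]
      exact P.mul_mem h (P.inv_mem h1)
    · intro h
      have e : ((γ x : U) : Ω) = (x : Ω) * ((x : Ω)⁻¹ * ((γ x : U) : Ω)) := by group
      rw [e]
      exact P.mul_mem h h1
  have hb : ∀ x : U, (x : Ω) ∈ P → γ x = x := by
    have hres : resAut γ (P.subgroupOf U) hiff = 1 := by
      apply Cfsg.Agent.S0120.result hp (hU.to_subgroup _)
      · have h1 : (resAut γ (P.subgroupOf U) hiff) ^ r = 1 := by
          ext x
          rw [resAut_pow_apply, hr]
          rfl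
        exact Nat.Coprime.coprime_dvd_left (orderOf_dvd_of_pow_eq_one h1) hcop
      · intro x hx
        apply Subtype.ext
        show γ (x : U) = (x : U)
        apply ha (Fin.last n)
        rw [hn]
        apply Subgroup.subset_closure
        refine ⟨x.2, ?_⟩
        have := congrArg (fun v : P.subgroupOf U => ((v : U) : Ω)) hx
        simpa using this
    intro x hx
    have := congrArg (fun a : MulAut (P.subgroupOf U) => ((a ⟨x, hx⟩ : P.subgroupOf U) : U)) hres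
    exact this
  -- (c) `γ` fixes `U` pointwise
  ext x
  have hz : (((x⁻¹ * γ x : U)) : Ω) ∈ P := c1 x
  have := apply_eq_of_fixed γ hr hcop x (hb _ hz) (hU _)
  rw [this]
  rfl

end main

/-- Let p be an odd prime, F a saturated fusion system over a finite p-group S and P a subgroup of S strongly closed in F. Then P is normal in F if and only if Ω₁(P) (the subgroup generated by the elements of order p of P) has a chain of subgroups 1 = Q₀ ≤ Q₁ ≤ ⋯ ≤ Qₙ = Ω₁(P), each strongly closed in F, with [Qᵢ₊₁, P] ≤ Qᵢ for all i. -/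
theorem result {Ω : Type*} [Group Ω] {S : Subgroup Ω} [Finite S] (p : ℕ) [Fact p.Prime] (hS : IsPGroup p S) (F : Cfsg.FusionSystem S) (hF : F.IsSaturated p) (hp : p ≠ 2) (P : Subgroup Ω) (hP : F.StronglyClosed P) : F.IsNormal P ↔ ∃ (n : ℕ) (Q : Fin (n + 1) → Subgroup Ω), Q 0 = ⊥ ∧ Q (Fin.last n) = Cfsg.omegaOne p P ∧ Monotone Q ∧ (∀ i : Fin (n + 1), F.StronglyClosed (Q i)) ∧ ∀ i : Fin n, ⁅Q i.succ, P⁆ ≤ Q i.castSucc := by
  have hPS : P ≤ S := hP.1
  have hSP : S ≤ Subgroup.normalizer (P : Set Ω) := le_normalizer_of_stronglyClosed F hP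
  constructor
  · -- forward: the series `Ω₁(P) ∩ Z_i(P)`
    intro hN
    haveI : Finite P := finite_of_le hPS
    have hnil : Group.IsNilpotent P := (hS.to_le hPS).isNilpotent
    obtain ⟨n, hn⟩ := hnil.nilpotent
    let Vw : Subgroup P := Subgroup.closure {x : P | x ^ p = 1}
    have hVw : Vw.Characteristic := by
      rw [Subgroup.characteristic_iff_map_le]
      intro ϕ
      rw [MonoidHom.map_closure, Subgroup.closure_le]
      rintro _ ⟨x, hx, rfl⟩
      apply Subgroup.subset_closure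
      show (ϕ x) ^ p = 1
      have hx' : x ^ p = 1 := hx
      rw [← map_pow, hx', map_one]
    refine ⟨n, fun i => (Vw ⊓ Subgroup.upperCentralSeries P (i : ℕ)).map P.subtype, ?_, ?_, ?_, ?_, ?_⟩
    · show (Vw ⊓ Subgroup.upperCentralSeries P ((0 : Fin (n + 1)) : ℕ)).map P.subtype = ⊥
      rw [Fin.val_zero, Subgroup.upperCentralSeries_zero, inf_bot_eq, Subgroup.map_bot]
    · show (Vw ⊓ Subgroup.upperCentralSeries P ((Fin.last n : Fin (n + 1)) : ℕ)).map P.subtype = omegaOne p P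
      rw [Fin.val_last, hn, inf_top_eq, MonoidHom.map_closure]
      unfold omegaOne
      congr 1
      ext y
      constructor
      · rintro ⟨x, hx, rfl⟩
        have hx' : x ^ p = 1 := hx
        refine ⟨x.2, ?_⟩
        have := congrArg (fun v : P => (v : Ω)) hx'
        simpa using this
      · rintro ⟨hy, hyp⟩
        exact ⟨⟨y, hy⟩, Subtype.ext (by simpa using hyp), rfl⟩
    · intro i j hij
      apply Subgroup.map_mono
      exact inf_le_inf_left _ (Subgroup.upperCentralSeries_mono P hij)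
    · intro i
      apply stronglyClosed_of_isNormal
      apply Cfsg.Agent.S5085.result F P _ hN (Subgroup.map_subtype_le _)
      have : ((Vw ⊓ Subgroup.upperCentralSeries P (i : ℕ)).map P.subtype).subgroupOf P = Vw ⊓ Subgroup.upperCentralSeries P (i : ℕ) :=
        Subgroup.comap_map_eq_self_of_injective (Subgroup.subtype_injective P) _
      rw [this]
      infer_instance
    · intro i
      rw [Subgroup.commutator_le]
      rintro _ ⟨x, hx, rfl⟩ g hg
      have hxV : x ∈ Vw := hx.1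
      have hxZ : x ∈ Subgroup.upperCentralSeries P ((i : ℕ) + 1) := by
        have := hx.2
        rwa [Fin.val_succ] at this
      refine ⟨⁅x, (⟨g, hg⟩ : P)⁆, ⟨?_, ?_⟩, rfl⟩
      · have hVn : Vw.Normal := inferInstance
        have h1 : (⟨g, hg⟩ : P) * x⁻¹ * (⟨g, hg⟩ : P)⁻¹ ∈ Vw := hVn.conj_mem _ (Vw.inv_mem hxV) _
        have e : ⁅x, (⟨g, hg⟩ : P)⁆ = x * ((⟨g, hg⟩ : P) * x⁻¹ * (⟨g, hg⟩ : P)⁻¹) := by
          rw [commutatorElement_def]; group
        rw [e]
        exact Vw.mul_mem hxV h1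
      · show ⁅x, (⟨g, hg⟩ : P)⁆ ∈ Subgroup.upperCentralSeries P ((i.castSucc : Fin (n + 1)) : ℕ)
        rw [Fin.val_castSucc, commutatorElement_def]
        exact Subgroup.mem_upperCentralSeries_succ_iff.mp hxZ _
  · -- backward
    rintro ⟨n, Q, h0, hn, hmono, hsc, hcomm⟩
    rw [isNormal_iff_stronglyClosed_centric_radical hS F hF]
    refine ⟨hP, fun U hUc hUr => ?_⟩
    have hUS : U ≤ S := hUc.1
    haveI : Finite U := finite_of_le hUS
    have hUp : IsPGroup p U := hS.to_le hUS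
    have hinvP : ∀ β ∈ F.autGroup U, ∀ x : U, (x : Ω) ∈ P → ((β x : U) : Ω) ∈ P :=
      fun β hβ x hx => aut_mem_of_stronglyClosed F hP hUS hβ x hx
    have hinvQ : ∀ i, ∀ β ∈ F.autGroup U, ∀ x : U, (x : Ω) ∈ Q i → ((β x : U) : Ω) ∈ Q i :=
      fun i β hβ x hx => aut_mem_of_stronglyClosed F (hsc i) hUS hβ x hx
    have hinvT : ∀ β ∈ F.autGroup U, ∀ x : U, (x : Ω) ∈ (⊤ : Subgroup Ω) → ((β x : U) : Ω) ∈ (⊤ : Subgroup Ω) :=
      fun _ _ _ _ => Subgroup.mem_top _
    let K : Subgroup (F.autGroup U) := pairStab U (F.autGroup U) ⊤ P hinvT ⊓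
      ⨅ i : Fin n, pairStab U (F.autGroup U) (Q i.succ) (Q i.castSucc) (hinvQ i.succ)
    have hKn : K.Normal := by
      haveI := pairStab_normal U (F.autGroup U) ⊤ P hinvT hinvP
      haveI : (⨅ i : Fin n, pairStab U (F.autGroup U) (Q i.succ) (Q i.castSucc) (hinvQ i.succ)).Normal :=
        Subgroup.normal_iInf_normal (fun i => pairStab_normal U (F.autGroup U) _ _ (hinvQ i.succ) (hinvQ i.castSucc))
      exact Subgroup.normal_inf_normal _ _
    have hKp : IsPGroup p K := by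
      intro β
      haveI : Finite (MulAut U) := finite_mulAut_of_le hUS
      have hm : orderOf (((β : F.autGroup U) : MulAut U)) ≠ 0 := (orderOf_pos _).ne'
      obtain ⟨e, r, hr, hmr⟩ := Nat.exists_eq_pow_mul_and_not_dvd hm p (Fact.out : p.Prime).ne_one
      refine ⟨e, ?_⟩
      have hγ := (β ^ p ^ e).2
      have hcoe : (((β ^ p ^ e : K) : F.autGroup U) : MulAut U) = (((β : F.autGroup U) : MulAut U)) ^ p ^ e := rfl
      have hγr : ((((β ^ p ^ e : K) : F.autGroup U) : MulAut U)) ^ r = 1 := by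
        rw [hcoe, ← pow_mul, ← hmr, pow_orderOf_eq_one]
      have hcop : r.Coprime p := ((Nat.Prime.coprime_iff_not_dvd (Fact.out : p.Prime)).2 hr).symm
      have h1 := eq_one_of_stabilizes hp U hUp P Q h0 hn _ hγr hcop
        (fun x => (Subgroup.mem_inf.mp hγ).1 x (Subgroup.mem_top _))
        (fun i x hx => (Subgroup.mem_iInf.mp (Subgroup.mem_inf.mp hγ).2 i) x hx)
      apply Subtype.ext
      apply Subtype.ext
      exact h1
    have hK : ∀ c ∈ P, ∀ (hcN : c ∈ Subgroup.normalizer (U : Set Ω)) (hβA : conjAut U c hcN ∈ F.autGroup U),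
        (⟨conjAut U c hcN, hβA⟩ : F.autGroup U) ∈ K := by
      intro c hc hcN hβA
      refine Subgroup.mem_inf.mpr ⟨?_, Subgroup.mem_iInf.mpr (fun i => ?_)⟩
      · intro x _
        show (x : Ω)⁻¹ * ((conjAut U c hcN x : U) : Ω) ∈ P
        rw [conjAut_apply]
        have h1 : (x : Ω)⁻¹ * c * ((x : Ω)⁻¹)⁻¹ ∈ P :=
          conj_mem_of_stronglyClosed F hP (S.inv_mem (hUS x.2)) hc
        have e : (x : Ω)⁻¹ * (c * x * c⁻¹) = ((x : Ω)⁻¹ * c * ((x : Ω)⁻¹)⁻¹) * c⁻¹ := by group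
        rw [e]
        exact P.mul_mem h1 (P.inv_mem hc)
      · intro x hx
        show (x : Ω)⁻¹ * ((conjAut U c hcN x : U) : Ω) ∈ Q i.castSucc
        rw [conjAut_apply]
        have h1 : ⁅(x : Ω)⁻¹, c⁆ ∈ ⁅Q i.succ, P⁆ :=
          Subgroup.commutator_mem_commutator ((Q i.succ).inv_mem hx) hc
        have e : (x : Ω)⁻¹ * (c * x * c⁻¹) = ⁅(x : Ω)⁻¹, c⁆ := by
          rw [commutatorElement_def]; group
        rw [e]
        exact hcomm i h1
    exact le_of_centric_radical_of_normal_pGroup hS F hUc hUr hPS hSP K hKn hKp hK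

end Cfsg.Agent.S5236
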