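-- Statement S5234: for p odd, a metacyclic strongly closed subgroup of a saturated fusion system is normal in it.
import Cfsg.Statements.S5234
import Cfsg.Agent.S5236
import Cfsg.Agent.Helper86.Metacyclic
import Cfsg.Agent.Helper86.InvAut
import Cfsg.Agent.Helper76.PGroup
import Cfsg.Agent.Helper87.FusionSeries
import Cfsg.Agent.Helper87.FusionRS
import Cfsg.Agent.Helper87.FusionNormal
import Cfsg.Agent.Helper87.FusionClosed

set_option autoImplicit false
open Cfsg

namespace Cfsg.Agent.S5234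

open Cfsg.FusionSystem Cfsg.Agent.Helper87 Cfsg.Agent.Helper86
open scoped commutatorElement

section grp

/-- A `p`-group of order at most `p ^ 2` is abelian. -/
theorem comm_of_card_le_sq {V : Type*} [Group V] [Finite V] {p : ℕ} [hp : Fact p.Prime] (hV : IsPGroup p V)
    (hc : Nat.card V ≤ p ^ 2) : ∀ a b : V, a * b = b * a := by
  obtain ⟨a, ha⟩ := IsPGroup.iff_card.mp hV
  have ha2 : a ≤ 2 := by
    rw [ha] at hc
    exact (Nat.pow_le_pow_iff_right hp.out.one_lt).mp hc
  interval_cases a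
  · intro x y
    have : Subsingleton V := (Nat.card_eq_one_iff_unique.mp (by simpa using ha)).1
    exact congrArg (fun z => z) (Subsingleton.elim _ _)
  · have : IsCyclic V := isCyclic_of_prime_card (p := p) (by simpa using ha)
    intro x y
    exact mul_comm' x y
  · have : IsMulCommutative V := IsPGroup.isMulCommutative_of_card_eq_prime_sq ha
    intro x y
    exact mul_comm' x y

/-- In a group of order `p ^ 2`, a subgroup properly containing a subgroup of order `p` is everything. -/
theorem eq_top_of_lt_of_card {V : Type*} [Group V] [Finite V] {p : ℕ} [hp : Fact p.Prime] (hV : Nat.card V = p ^ 2)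
    (D Fx : Subgroup V) (hD : Nat.card D = p) (hle : D ≤ Fx) (y : V) (hy : y ∈ Fx) (hyD : y ∉ D) : Fx = ⊤ := by
  have hlt : D < Fx := lt_of_le_of_ne hle (fun h => hyD (h ▸ hy))
  have h1 : Nat.card D < Nat.card Fx := card_lt_card_of_lt hlt
  have h2 : Nat.card Fx ∣ p ^ 2 := hV ▸ Subgroup.card_subgroup_dvd_card Fx
  obtain ⟨c, hc, hcc⟩ := (Nat.dvd_prime_pow hp.out).1 h2
  have hc2 : c = 2 := by
    rw [hD, hcc] at h1
    have : 1 < c := by
      by_contra h
      push Not at h
      have h3 := Nat.pow_le_pow_right hp.out.pos h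
      rw [pow_one] at h3
      omega
    omega
  apply Subgroup.eq_top_of_card_eq
  rw [hcc, hc2, hV]

end grp

section fusion

variable {Ω : Type*} [Group Ω] {S : Subgroup Ω}

/-- The elements of order dividing `p` of a strongly closed subgroup, when they form a subgroup, form a strongly closed
subgroup. -/
theorem stronglyClosed_of_mem_iff (F : FusionSystem S) {p : ℕ} {P W : Subgroup Ω} (hP : F.StronglyClosed P)
    (hW : ∀ x : Ω, x ∈ W ↔ x ∈ P ∧ x ^ p = 1) : F.StronglyClosed W := by
  have hWP : W ≤ P := fun x hx => ((hW x).1 hx).1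
  refine ⟨hWP.trans hP.1, fun R hR φ hφ x => ?_⟩
  rw [hW]
  refine ⟨hP.2 R (hR.trans hWP) φ hφ x, ?_⟩
  have hx : (x : Ω) ^ p = 1 := ((hW _).1 (hR x.2)).2
  have hx' : x ^ p = 1 := Subtype.ext hx
  rw [← map_pow, hx', map_one]

/-- An abelian strongly closed subgroup of a saturated fusion system is normal in it. -/
theorem isNormal_of_comm_stronglyClosed [Finite S] {p : ℕ} [Fact p.Prime] (hS : IsPGroup p S)
    (F : FusionSystem S) (hF : F.IsSaturated p) {W : Subgroup Ω} (hW : F.StronglyClosed W)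
    (hcomm : ∀ a ∈ W, ∀ b ∈ W, a * b = b * a) : F.IsNormal W := by
  apply isNormal_of_weaklyClosed_series_nat hS F hF hW 1 (fun j => if j = 0 then ⊥ else W)
  · simp
  · simp
  · intro i j hij
    dsimp only
    split_ifs with h1 h2 h2
    · exact le_rfl
    · exact bot_le
    · omega
    · exact le_rfl
  · intro j hj
    have hj0 : j = 0 := by omega
    subst hj0
    simp only [zero_add, one_ne_zero, if_false, if_true]
    rw [Subgroup.commutator_le]
    intro a ha b hb
    rw [Subgroup.mem_bot, commutatorElement_def, hcomm a ha b hb]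
    group
  · intro j hj
    have hj0 : j = 0 := by omega
    subst hj0
    simp only [if_true]
    exact weaklyClosed_of_stronglyClosed F (stronglyClosed_bot F)

/-- A map of the system between subgroups of a subgroup `W` normal in the system is induced by an automorphism of the
system of `W`. -/
theorem exists_aut_extending (F : FusionSystem S) {W : Subgroup Ω} (hWN : F.IsNormal W) {R : Subgroup Ω} (hR : R ≤ W)
    {φ : R →* Ω} (hφ : φ ∈ F.Hom R) :
    ∃ β ∈ F.autGroup W, ∀ x : R, ((β ⟨x, hR x.2⟩ : W) : Ω) = φ x := by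
  obtain ⟨ψ, hψ, hψx, -⟩ := hWN.2 R φ hφ
  have hψ' := restrict_mem F hψ (le_sup_right : W ≤ R ⊔ W)
  have hwc := weaklyClosed_of_isNormal F hWN
  have hrange := hwc.2 _ hψ'
  refine ⟨isoOfRange F hψ' hrange, (mem_autGroup_iff F hWN.1 _).mpr (isIso_isoOfRange F hψ' hrange), fun x => ?_⟩
  rw [isoOfRange_apply, ← hψx x]
  rfl

/-- An automorphism of the system of a weakly closed subgroup `W` that commutes with the conjugations by the elements of `S`
extends to a map of the system defined on `S`. -/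
theorem exists_extension_of_aut [Finite S] {p : ℕ} [Fact p.Prime] (hS : IsPGroup p S) (F : FusionSystem S)
    (hF : F.IsSaturated p) {W : Subgroup Ω} (hWwc : F.WeaklyClosed W) (hSW : S ≤ Subgroup.normalizer (W : Set Ω))
    (α : MulAut W) (hα : α ∈ F.autGroup W)
    (hcomm : ∀ g ∈ S, ∀ (x : W) (hx : g * (x : Ω) * g⁻¹ ∈ W),
      ((α ⟨g * (x : Ω) * g⁻¹, hx⟩ : W) : Ω) = g * ((α x : W) : Ω) * g⁻¹) :
    ∃ ψ ∈ F.Hom S, ∀ (x : Ω) (hx : x ∈ W) (hxS : x ∈ S), ψ ⟨x, hxS⟩ = ((α ⟨x, hx⟩ : W) : Ω) := by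
  have hWS : W ≤ S := hWwc.1
  have hfn : F.IsFullyNormalized W := by
    refine ⟨hWS, fun Q hQ => ?_⟩
    obtain ⟨φ, hφ, rfl⟩ := hQ
    rw [hWwc.2 φ hφ]
  obtain ⟨hfc, -⟩ := fullyAutomized_fullyCentralized_of_fullyNormalized hS F hF hfn
  have hrec := receptive_of_fullyCentralized hS F hF hfc
  have hφ : W.subtype.comp (α : W ≃* W).toMonoidHom ∈ F.Hom W := (mem_autGroup_iff F hWS α).mp hα
  have hrange := hWwc.2 _ hφ
  obtain ⟨ψ, hψ, hψx⟩ := hrec.2 W _ hφ hrange
  have hle : S ≤ extender S W (W.subtype.comp (α : W ≃* W).toMonoidHom) := by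
    intro g hg
    rw [mem_extender_iff]
    exact ⟨hg, hSW hg, g, hg, fun x hx => hcomm g hg x hx⟩
  refine ⟨_, restrict_mem F hψ hle, fun x hx hxS => ?_⟩
  exact hψx x hx (hle hxS)

/-- If the inversion of `W = Ω₁(P)` is an automorphism of the system, then `P` is abelian. -/
theorem comm_of_invAut_mem [Finite S] {p : ℕ} [Fact p.Prime] (hp2 : p ≠ 2) (hS : IsPGroup p S) (F : FusionSystem S)
    (hF : F.IsSaturated p) {P W : Subgroup Ω} (hP : F.StronglyClosed P)
    (hWmem : ∀ x : Ω, x ∈ W ↔ x ∈ P ∧ x ^ p = 1) (hcomm : ∀ a b : W, a * b = b * a)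
    (hι : invAut hcomm ∈ F.autGroup W) : ∀ a ∈ P, ∀ b ∈ P, a * b = b * a := by
  have hW := stronglyClosed_of_mem_iff F hP hWmem
  have hWwc := weaklyClosed_of_stronglyClosed F hW
  have hPwc := weaklyClosed_of_stronglyClosed F hP
  have hSW := le_normalizer_of_stronglyClosed F hW
  obtain ⟨ψ, hψ, hψx⟩ := exists_extension_of_aut hS F hF hWwc hSW (invAut hcomm) hι (by
    intro g hg x hx
    show (g * (x : Ω) * g⁻¹)⁻¹ = g * (x : Ω)⁻¹ * g⁻¹
    group)
  have hψP := restrict_mem F hψ hP.1
  have hrange := hPwc.2 _ hψP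
  haveI : Finite P := finite_of_le hP.1
  have hcommP := comm_of_aut_inverts_omega hp2 (hS.to_le hP.1) (isoOfRange F hψP hrange : MulAut P) (by
    intro x hx
    apply Subtype.ext
    have hx' : (x : Ω) ^ p = 1 := by
      have := congrArg (fun v : P => (v : Ω)) hx
      simpa using this
    have hxW : (x : Ω) ∈ W := (hWmem _).2 ⟨x.2, hx'⟩
    have h1 := hψx (x : Ω) hxW (hP.1 x.2)
    exact h1)
  intro a ha b hb
  exact congrArg Subtype.val (hcommP ⟨a, ha⟩ ⟨b, hb⟩)

/-- The key step: if the inversion of `W` is not an automorphism of the system and `W` is not central in `P`, then every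
`P`-invariant subgroup of `W` is strongly closed. -/
theorem stronglyClosed_of_invariant [Finite S] {p : ℕ} [hp : Fact p.Prime] (hS : IsPGroup p S) (F : FusionSystem S)
    {P W : Subgroup Ω} (hP : F.StronglyClosed P) (hW : F.StronglyClosed W) (hWN : F.IsNormal W) (hWP : W ≤ P)
    (hcomm : ∀ a b : W, a * b = b * a) (hexp : ∀ a : W, a ^ p = 1) (hcardW : Nat.card W ≤ p ^ 2)
    (hι : invAut hcomm ∉ F.autGroup W)
    {g w : Ω} (hg : g ∈ P) (hw : w ∈ W) (hgw : g * w ≠ w * g)
    {D : Subgroup Ω} (hDW : D ≤ W) (hDn : ∀ c ∈ P, ∀ d ∈ D, c * d * c⁻¹ ∈ D) : F.StronglyClosed D := by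
  have hWS : W ≤ S := hW.1
  have hPS : P ≤ S := hP.1
  have : Finite W := finite_of_le hWS
  have : Finite P := finite_of_le hPS
  have : Finite D := finite_of_le (hDW.trans hWS)
  have hWp : IsPGroup p W := hS.to_le hWS
  refine ⟨hDW.trans hWS, ?_⟩
  by_contra hcon
  push Not at hcon
  obtain ⟨R, hRD, φ, hφ, x, hx⟩ := hcon
  obtain ⟨β, hβ, hβx⟩ := exists_aut_extending F hWN (hRD.trans hDW) hφ
  -- the orders of `D` and `W`
  have hDlt : D < W := by
    refine lt_of_le_of_ne hDW (fun h => hx ?_)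
    rw [h]
    exact hW.2 R (hRD.trans hDW) φ hφ x
  have hDne : D ≠ ⊥ := by
    intro h
    apply hx
    have hx1 : (x : Ω) = 1 := by
      have := hRD x.2
      rwa [h, Subgroup.mem_bot] at this
    have : x = 1 := Subtype.ext hx1
    rw [this, map_one]
    exact D.one_mem
  obtain ⟨a, ha⟩ := IsPGroup.iff_card.mp hWp
  obtain ⟨b, hb⟩ := IsPGroup.iff_card.mp (hS.to_le (hDW.trans hWS))
  have ha2 : a ≤ 2 := by
    rw [ha] at hcardW
    exact (Nat.pow_le_pow_iff_right hp.out.one_lt).mp hcardW
  have hba : b < a := by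
    have := card_lt_card_of_lt hDlt
    rw [ha, hb] at this
    exact (Nat.pow_lt_pow_iff_right hp.out.one_lt).mp this
  have hb0 : b ≠ 0 := by
    intro h0
    rw [h0, pow_zero] at hb
    exact hDne (Subgroup.card_eq_one.mp hb)
  have hb1 : b = 1 := by omega
  have ha2' : a = 2 := by omega
  rw [hb1, pow_one] at hb
  rw [ha2'] at ha
  -- `D` is central in `P`
  have hDcen : ∀ c ∈ P, ∀ d ∈ D, c * d = d * c := by
    have : (D.subgroupOf P).Normal := by
      constructor
      intro n hn c
      rw [Subgroup.mem_subgroupOf] at hn ⊢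
      exact hDn c c.2 n hn
    have hcard : Nat.card (D.subgroupOf P) = p := by
      rw [← hb]
      exact Nat.card_congr (Subgroup.subgroupOfEquivOfLe (hDW.trans hWP)).toEquiv
    have hle := Helper76.normal_le_center_of_card_prime (hS.to_le hPS) (D.subgroupOf P) hcard
    intro c hc d hd
    have hd' : (⟨d, (hDW.trans hWP) hd⟩ : P) ∈ D.subgroupOf P := by
      rw [Subgroup.mem_subgroupOf]
      exact hd
    have := Subgroup.mem_center_iff.mp (hle hd') ⟨c, hc⟩
    exact congrArg Subtype.val this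
  -- the automorphisms `t` and `t'`
  have hSW := le_normalizer_of_stronglyClosed F hW
  have hgN : g ∈ Subgroup.normalizer (W : Set Ω) := hSW (hPS hg)
  set t : MulAut W := conjAut W g hgN with ht
  have htA : t ∈ F.autGroup W := (mem_autGroup_iff F hWS t).mpr (isIso_conjAut F hWS (hPS hg) hgN)
  set t' : MulAut W := β * t * β⁻¹ with ht'
  have ht'A : t' ∈ F.autGroup W := mul_mem (mul_mem hβ htA) (inv_mem hβ)
  obtain ⟨k, hk⟩ := hS ⟨g, hPS hg⟩
  have hgk : g ^ p ^ k = 1 := by
    have := congrArg (fun v : S => (v : Ω)) hk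
    simpa using this
  have htk : t ^ p ^ k = 1 := by
    rw [ht, conjAut_pow]
    ext y
    rw [conjAut_apply]
    simp [hgk]
  have ht'k : t' ^ p ^ k = 1 := by
    rw [ht', conj_pow, htk]
    simp
  have ht1 : t ≠ 1 := by
    intro h
    apply hgw
    have h1 := congrArg (fun α : MulAut W => ((α ⟨w, hw⟩ : W) : Ω)) h
    simp only [ht, conjAut_apply, MulAut.one_apply] at h1
    calc g * w = (g * w * g⁻¹) * g := by group
      _ = w * g := by rw [h1]
  have ht'1 : t' ≠ 1 := by
    intro h
    apply ht1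
    have h1 : t = β⁻¹ * t' * β := by rw [ht']; group
    rw [h1, h]
    group
  have htfix : ∀ d : W, (d : Ω) ∈ D → t d = d := by
    intro d hd
    apply Subtype.ext
    rw [ht, conjAut_apply, hDcen g hg d hd]
    group
  have hne : t' ∉ Subgroup.zpowers t := by
    intro hmem
    have h1 : ∀ d : W, (d : Ω) ∈ D → t' d = d := by
      intro d hd
      have hle : Subgroup.zpowers t ≤ MulAction.stabilizer (MulAut W) d := by
        rw [Subgroup.zpowers_le]
        exact htfix d hd
      exact hle hmem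
    have hxD : ((⟨x, hDW (hRD x.2)⟩ : W) : Ω) ∈ D := hRD x.2
    have h2 : t' (β ⟨x, hDW (hRD x.2)⟩) = β ⟨x, hDW (hRD x.2)⟩ := by
      rw [ht']
      simp only [MulAut.mul_apply, MulAut.inv_apply_self]
      rw [htfix _ hxD]
    have hcardD : Nat.card (D.subgroupOf W) = p := by
      rw [← hb]
      exact Nat.card_congr (Subgroup.subgroupOfEquivOfLe hDW).toEquiv
    have htop := eq_top_of_lt_of_card ha (D.subgroupOf W)
      (MonoidHom.eqLocus (t' : W ≃* W).toMonoidHom (MonoidHom.id W)) hcardD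
      (fun d hd => h1 d (Subgroup.mem_subgroupOf.mp hd)) (β ⟨x, hDW (hRD x.2)⟩) h2
      (by
        rw [Subgroup.mem_subgroupOf, hβx]
        exact hx)
    apply ht'1
    ext y
    have hy : y ∈ MonoidHom.eqLocus (t' : W ≃* W).toMonoidHom (MonoidHom.id W) := by
      rw [htop]
      trivial
    exact congrArg Subtype.val hy
  exact hι (inv_mem_of_two_subgroups hcomm hexp ha (F.autGroup W) t t' htA ht'A k htk ht'k ht1 ht'1 hne)

end fusion

/-- Let p be an odd prime, F a saturated fusion system over a finite p-group S and P a metacyclic subgroup of S strongly closed in F. Then P is normal in F. -/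
theorem result {Ω : Type*} [Group Ω] {S : Subgroup Ω} [Finite S] (p : ℕ) [Fact p.Prime] (hS : IsPGroup p S) (F : Cfsg.FusionSystem S) (hF : F.IsSaturated p) (P : Subgroup Ω) (hP : F.StronglyClosed P) (hp : p ≠ 2) (hm : Cfsg.IsMetacyclic ↥P) : F.IsNormal P := by
  have hPS : P ≤ S := hP.1
  have : Finite P := finite_of_le hPS
  have hPp : IsPGroup p P := hS.to_le hPS
  obtain ⟨N, hNn, hNc, hQc⟩ := hm
  obtain ⟨W', hW', hcard'⟩ := exists_omega_subgroup hp hPp N hNc hQc
  have hWmem : ∀ x : Ω, x ∈ W'.map P.subtype ↔ x ∈ P ∧ x ^ p = 1 := by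
    intro x
    constructor
    · rintro ⟨y, hy, rfl⟩
      refine ⟨y.2, ?_⟩
      have h1 := (hW' y).1 hy
      have h2 := congrArg (fun v : P => (v : Ω)) h1
      simpa using h2
    · rintro ⟨hx, hxp⟩
      exact ⟨⟨x, hx⟩, (hW' _).2 (Subtype.ext (by simpa using hxp)), rfl⟩
  generalize hWdef : W'.map P.subtype = W at hWmem
  have hWP : W ≤ P := fun x hx => ((hWmem x).1 hx).1
  have hW : F.StronglyClosed W := stronglyClosed_of_mem_iff F hP hWmem
  have hWS : W ≤ S := hW.1
  have : Finite W := finite_of_le hWS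
  have hcardW : Nat.card W ≤ p ^ 2 := by
    have h1 : Nat.card W = Nat.card W' := by
      rw [← hWdef]
      exact Nat.card_congr (W'.equivMapOfInjective P.subtype P.subtype_injective).symm.toEquiv
    rw [h1]
    exact hcard'
  have hcomm : ∀ a b : W, a * b = b * a := comm_of_card_le_sq (hS.to_le hWS) hcardW
  have hexp : ∀ a : W, a ^ p = 1 := fun a => Subtype.ext ((hWmem _).1 a.2).2
  have hWN : F.IsNormal W := isNormal_of_comm_stronglyClosed hS F hF hW
    (fun a ha b hb => congrArg Subtype.val (hcomm ⟨a, ha⟩ ⟨b, hb⟩))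
  have hom : omegaOne p P = W := by
    unfold omegaOne
    apply le_antisymm
    · rw [Subgroup.closure_le]
      intro x hx
      exact (hWmem x).2 hx
    · intro x hx
      exact Subgroup.subset_closure ((hWmem x).1 hx)
  rw [S5236.result p hS F hF hp P hP]
  by_cases hcen : ∀ g ∈ P, ∀ w ∈ W, g * w = w * g
  · refine ⟨1, ![⊥, W], rfl, ?_, ?_, ?_, ?_⟩
    · rw [hom]
      rfl
    · intro i j hij
      fin_cases i <;> fin_cases j
      · exact le_rfl
      · exact bot_le
      · exact absurd hij (by decide)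
      · exact le_rfl
    · intro i
      fin_cases i
      · exact stronglyClosed_bot F
      · exact hW
    · intro i
      fin_cases i
      show ⁅W, P⁆ ≤ ⊥
      rw [Subgroup.commutator_le]
      intro a ha b hb
      rw [Subgroup.mem_bot, commutatorElement_def, ← hcen b hb a ha]
      group
  · push Not at hcen
    obtain ⟨g, hg, w, hw, hgw⟩ := hcen
    have hι : invAut hcomm ∉ F.autGroup W := by
      intro h
      exact hgw (comm_of_invAut_mem hp hS F hF hP hWmem hcomm h g hg w (hWP hw))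
    have key : ∀ D : Subgroup Ω, D ≤ W → (∀ c ∈ P, ∀ d ∈ D, c * d * c⁻¹ ∈ D) → F.StronglyClosed D :=
      fun D hDW hDn => stronglyClosed_of_invariant hS F hP hW hWN hWP hcomm hexp hcardW hι hg hw hgw hDW hDn
    have hW'n : W'.Normal := by
      constructor
      intro x hx c
      rw [hW'] at hx ⊢
      rw [conj_pow, hx]
      simp
    have hnil : Group.IsNilpotent P := hPp.isNilpotent
    obtain ⟨n, hn⟩ := hnil.nilpotent
    refine ⟨n, fun i => (W' ⊓ Subgroup.upperCentralSeries P (i : ℕ)).map P.subtype, ?_, ?_, ?_, ?_, ?_⟩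
    · show (W' ⊓ Subgroup.upperCentralSeries P ((0 : Fin (n + 1)) : ℕ)).map P.subtype = ⊥
      rw [Fin.val_zero, Subgroup.upperCentralSeries_zero, inf_bot_eq, Subgroup.map_bot]
    · show (W' ⊓ Subgroup.upperCentralSeries P ((Fin.last n : Fin (n + 1)) : ℕ)).map P.subtype = omegaOne p P
      rw [Fin.val_last, hn, inf_top_eq, hom, hWdef]
    · intro i j hij
      apply Subgroup.map_mono
      exact inf_le_inf_left _ (Subgroup.upperCentralSeries_mono P hij)
    · intro i
      apply key
      · rw [← hWdef]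
        exact Subgroup.map_mono inf_le_left
      · rintro c hc _ ⟨y, hy, rfl⟩
        have hnorm : (W' ⊓ Subgroup.upperCentralSeries P (i : ℕ)).Normal := Subgroup.normal_inf_normal _ _
        exact ⟨(⟨c, hc⟩ : P) * y * (⟨c, hc⟩ : P)⁻¹, hnorm.conj_mem y hy _, rfl⟩
    · intro i
      rw [Subgroup.commutator_le]
      rintro _ ⟨x, hx, rfl⟩ c hc
      have hxV : x ∈ W' := hx.1
      have hxZ : x ∈ Subgroup.upperCentralSeries P ((i : ℕ) + 1) := by
        have := hx.2
        rwa [Fin.val_succ] at this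
      refine ⟨⁅x, (⟨c, hc⟩ : P)⁆, ⟨?_, ?_⟩, rfl⟩
      · have h1 : (⟨c, hc⟩ : P) * x⁻¹ * (⟨c, hc⟩ : P)⁻¹ ∈ W' := hW'n.conj_mem _ (W'.inv_mem hxV) _
        have e : ⁅x, (⟨c, hc⟩ : P)⁆ = x * ((⟨c, hc⟩ : P) * x⁻¹ * (⟨c, hc⟩ : P)⁻¹) := by
          rw [commutatorElement_def]; group
        rw [e]
        exact W'.mul_mem hxV h1
      · show ⁅x, (⟨c, hc⟩ : P)⁆ ∈ Subgroup.upperCentralSeries P ((i.castSucc : Fin (n + 1)) : ℕ)
        rw [Fin.val_castSucc, commutatorElement_def]
        exact Subgroup.mem_upperCentralSeries_succ_iff.mp hxZ _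

end Cfsg.Agent.S5234
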