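-- Statement S0640: for odd p, primes q ≠ p dividing |Aut(R)|, R a p-group of rank ≤ 2, divide p² - 1 and are < p.
import Cfsg.Statements.S0640
import Cfsg.Agent.S0093
import Cfsg.Agent.S0120
import Cfsg.Agent.S0121
import Cfsg.Agent.S5236
import Cfsg.Agent.S5234
import Cfsg.Agent.Helper86.InvAut
import Cfsg.Agent.Helper24.OddOmega

set_option autoImplicit false
open Cfsg

namespace Cfsg.Agent.S0640

open scoped commutatorElement
open Cfsg.Agent.Helper86 Cfsg.Agent.Helper24

section arith

/-- A prime `q ≠ p` dividing `|GL₂(p)|` divides `p² - 1`. -/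
theorem dvd_sq_sub_one_of_dvd_card_GL2 {p q : ℕ} [hp : Fact p.Prime] (hq : q.Prime) (hqp : q ≠ p)
    (h : q ∣ Nat.card (GL (Fin 2) (ZMod p))) : q ∣ p ^ 2 - 1 := by
  rw [Matrix.card_GL_field, Fin.prod_univ_two, ZMod.card] at h
  simp only [Fin.val_zero, pow_zero, Fin.val_one, pow_one] at h
  have hp2 := hp.out.two_le
  have h1 : p ^ 2 - p = p * (p - 1) := by
    rw [Nat.mul_sub, mul_one, pow_two]
  have h2 : p ^ 2 - 1 = (p - 1) * (p + 1) := by
    obtain ⟨k, rfl⟩ : ∃ k, p = k + 1 := ⟨p - 1, by omega⟩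
    simp only [Nat.add_sub_cancel]
    have : (k + 1) ^ 2 = k * (k + 1 + 1) + 1 := by ring
    rw [this, Nat.add_sub_cancel]
  rw [h1] at h
  rcases (Nat.Prime.dvd_mul hq).mp h with h3 | h3
  · exact h3
  · rcases (Nat.Prime.dvd_mul hq).mp h3 with h4 | h4
    · exact absurd ((Nat.prime_dvd_prime_iff_eq hq hp.out).mp h4) hqp
    · rw [h2]
      exact h4.mul_right _

/-- A prime `q ≠ p` dividing `p² - 1` with `p` odd is less than `p`. -/
theorem lt_of_dvd_sq_sub_one {p q : ℕ} (hp : p.Prime) (hp2 : p ≠ 2) (hq : q.Prime) (hqp : q ≠ p)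
    (h : q ∣ p ^ 2 - 1) : q < p := by
  have hp3 : 3 ≤ p := by
    have := hp.two_le
    omega
  have h2 : p ^ 2 - 1 = (p - 1) * (p + 1) := by
    obtain ⟨k, rfl⟩ : ∃ k, p = k + 1 := ⟨p - 1, by omega⟩
    simp only [Nat.add_sub_cancel]
    have : (k + 1) ^ 2 = k * (k + 1 + 1) + 1 := by ring
    rw [this, Nat.add_sub_cancel]
  rw [h2] at h
  rcases (Nat.Prime.dvd_mul hq).mp h with h3 | h3
  · have := Nat.le_of_dvd (by omega) h3
    omega
  · have hle := Nat.le_of_dvd (by omega) h3
    have hne : q ≠ p + 1 := by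
      intro heq
      have hodd : Odd p := hp.odd_of_ne_two hp2
      have heven : Even (p + 1) := hodd.add_one
      rw [← heq] at heven
      have : q = 2 := (Nat.Prime.even_iff hq).mp heven
      omega
    omega

end arith

section elem

/-- An automorphism of prime order `q ≠ p` of an elementary abelian group of order `p ^ 2`: `q ∣ p ^ 2 - 1`. -/
theorem dvd_of_aut_card_sq {V : Type*} [Group V] [Finite V] {p : ℕ} [hp : Fact p.Prime]
    (hcomm : ∀ a b : V, a * b = b * a) (hexp : ∀ a : V, a ^ p = 1) (hcard : Nat.card V = p ^ 2)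
    (β : MulAut V) {q : ℕ} (hq : q.Prime) (hqp : q ≠ p) (hβ : orderOf β = q) : q ∣ p ^ 2 - 1 := by
  classical
  let _ : CommGroup V := { (inferInstance : Group V) with mul_comm := hcomm }
  obtain ⟨Θ, hΘ, -⟩ := exists_embedding_GL2_inv (A := V) p hexp hcard
  have h1 : orderOf (Θ β) = q := by rw [orderOf_injective Θ hΘ, hβ]
  have h2 : q ∣ Nat.card (GL (Fin 2) (ZMod p)) := h1 ▸ orderOf_dvd_natCard _
  exact dvd_sq_sub_one_of_dvd_card_GL2 hq hqp h2

/-- An automorphism of prime order `q` of a group of order `p`: `q ∣ p ^ 2 - 1`. -/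
theorem dvd_of_aut_card_prime {V : Type*} [Group V] [Finite V] {p : ℕ} [hp : Fact p.Prime]
    (hcard : Nat.card V = p) (β : MulAut V) {q : ℕ} (hβ : orderOf β = q) : q ∣ p ^ 2 - 1 := by
  have : IsCyclic V := isCyclic_of_prime_card hcard
  have h1 : Nat.card (MulAut V) = p - 1 := by
    rw [IsCyclic.card_mulAut, hcard, Nat.totient_prime hp.out]
  have : Finite (MulAut V) := MulEquiv.finite_left
  have h2 : q ∣ p - 1 := by
    rw [← h1, ← hβ]
    exact orderOf_dvd_natCard _
  have hp2 := hp.out.two_le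
  have h3 : p ^ 2 - 1 = (p - 1) * (p + 1) := by
    obtain ⟨k, rfl⟩ : ∃ k, p = k + 1 := ⟨p - 1, by omega⟩
    simp only [Nat.add_sub_cancel]
    have : (k + 1) ^ 2 = k * (k + 1 + 1) + 1 := by ring
    rw [this, Nat.add_sub_cancel]
  rw [h3]
  exact h2.mul_right _

end elem

section core

variable {D : Type*} [Group D] [Finite D]

omit [Finite D] in
/-- Multiplying by central elements does not change a commutator. -/
theorem commutator_mul_central (x y c c' : D) (hc : c ∈ Subgroup.center D) (hc' : c' ∈ Subgroup.center D) :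
    ⁅x * c, y * c'⁆ = ⁅x, y⁆ := by
  have hcg : ∀ g : D, c * g * c⁻¹ = g := fun g => by
    rw [← Subgroup.mem_center_iff.mp hc g]; group
  have hcg' : ∀ g : D, c' * g * c'⁻¹ = g := fun g => by
    rw [← Subgroup.mem_center_iff.mp hc' g]; group
  rw [commutatorElement_def, commutatorElement_def]
  calc x * c * (y * c') * (x * c)⁻¹ * (y * c')⁻¹
      = x * (c * (y * c') * c⁻¹) * x⁻¹ * (y * c')⁻¹ := by group
    _ = x * (y * c') * x⁻¹ * (y * c')⁻¹ := by rw [hcg]
    _ = x * y * (c' * x⁻¹ * c'⁻¹) * y⁻¹ := by group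
    _ = x * y * x⁻¹ * y⁻¹ := by rw [hcg']

/-- The map `d ↦ ⁅d, x⁆` is a homomorphism when commutators are central. -/
def commHom (hcen : ∀ x y : D, ⁅x, y⁆ ∈ Subgroup.center D) (x : D) : D →* D :=
  MonoidHom.mk' (fun d => ⁅d, x⁆) (by
    intro d₁ d₂
    have h2 := hcen d₂ x
    have e : ⁅d₁ * d₂, x⁆ = d₁ * ⁅d₂, x⁆ * d₁⁻¹ * ⁅d₁, x⁆ := by
      simp only [commutatorElement_def]; group
    rw [e, Subgroup.mem_center_iff.mp h2 d₁]
    have h3 : ⁅d₂, x⁆ * d₁ * d₁⁻¹ * ⁅d₁, x⁆ = ⁅d₂, x⁆ * ⁅d₁, x⁆ := by group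
    rw [h3]
    exact (Subgroup.mem_center_iff.mp h2 ⁅d₁, x⁆).symm)

theorem commHom_apply (hcen : ∀ x y : D, ⁅x, y⁆ ∈ Subgroup.center D) (x d : D) :
    commHom hcen x d = ⁅d, x⁆ := rfl

/-- The induced automorphism on the quotient by the centre. -/
noncomputable def quotAut (β : MulAut D) : MulAut (D ⧸ Subgroup.center D) :=
  QuotientGroup.congr (Subgroup.center D) (Subgroup.center D) β
    (Subgroup.characteristic_iff_map_eq.mp Subgroup.centerCharacteristic β)

theorem quotAut_mk (β : MulAut D) (a : D) :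
    quotAut β (QuotientGroup.mk a) = QuotientGroup.mk (β a) := rfl

theorem quotAut_pow_mk (β : MulAut D) (n : ℕ) (a : D) :
    ((quotAut β) ^ n) (QuotientGroup.mk a) = QuotientGroup.mk ((β ^ n) a) := by
  induction n generalizing a with
  | zero => simp
  | succ n ih =>
    rw [pow_succ', pow_succ', MulAut.mul_apply, MulAut.mul_apply, ih, quotAut_mk]

/-- The core case: a group of exponent `p`, class at most two and rank at most two. -/
theorem dvd_of_aut_exp_p {p : ℕ} [hp : Fact p.Prime] (hexp : ∀ x : D, x ^ p = 1)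
    (hcen : ∀ x y : D, ⁅x, y⁆ ∈ Subgroup.center D) (hrk : Cfsg.PRankLE p 2 D)
    (β : MulAut D) {q : ℕ} (hq : q.Prime) (hqp : q ≠ p) (hβ1 : β ≠ 1) (hβq : β ^ q = 1) : q ∣ p ^ 2 - 1 := by
  classical
  haveI := Fact.mk hq
  have hord : orderOf β = q := orderOf_eq_prime hβq hβ1
  have hDp : IsPGroup p D := fun x => ⟨1, by rw [pow_one]; exact hexp x⟩
  have hcop : q.Coprime p := (Nat.coprime_primes hq hp.out).mpr hqp
  by_cases hcomm : ∀ a b : D, a * b = b * a
  · -- commutative case
    have hle : Nat.card D ≤ p ^ 2 := by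
      have h1 := hrk ⊤ ⟨⟨fun a b => Subtype.ext (hcomm a b)⟩⟩ (fun a _ => hexp a)
      rwa [Subgroup.card_top] at h1
    obtain ⟨k, hk⟩ := IsPGroup.iff_card.mp hDp
    have hk2 : k ≤ 2 := by
      rw [hk] at hle
      exact (Nat.pow_le_pow_iff_right hp.out.one_lt).mp hle
    interval_cases k
    · exfalso
      apply hβ1
      have : Subsingleton D := (Nat.card_eq_one_iff_unique.mp (by simpa using hk)).1
      ext x
      exact Subsingleton.elim _ _
    · exact dvd_of_aut_card_prime (by simpa using hk) β hord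
    · exact dvd_of_aut_card_sq hcomm hexp hk β hq hqp hord
  · -- noncommutative case
    push Not at hcomm
    obtain ⟨x, y, hxy⟩ := hcomm
    set Z : Subgroup D := Subgroup.center D with hZdef
    have hxZ : x ∉ Z := by
      intro h
      exact hxy ((Subgroup.mem_center_iff.mp h y).symm)
    haveI : Nontrivial D := ⟨⟨x * y, y * x, hxy⟩⟩
    have hZbot : Z ≠ ⊥ := (hDp.bot_lt_center).ne'
    -- the subgroup generated by `Z` and `x`
    have hcommS : ∀ w : D, w * x = x * w →
        ∀ a ∈ ((Z : Set D) ∪ {x, w}), ∀ b ∈ ((Z : Set D) ∪ {x, w}), a * b = b * a := by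
      intro w hw a ha b hb
      rcases ha with ha | ha
      · exact (Subgroup.mem_center_iff.mp ha b).symm
      · rcases hb with hb | hb
        · exact Subgroup.mem_center_iff.mp hb a
        · rcases ha with rfl | rfl <;> rcases hb with rfl | rfl
          · rfl
          · exact hw.symm
          · exact hw
          · rfl
    set Bx : Subgroup D := Subgroup.closure ((Z : Set D) ∪ {x, x}) with hBx
    have hBxc : IsMulCommutative Bx := Subgroup.isMulCommutative_closure (hcommS x rfl)
    have hZBx : Z ≤ Bx := fun u hu => Subgroup.subset_closure (Or.inl hu)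
    have hxBx : x ∈ Bx := Subgroup.subset_closure (Or.inr (Or.inl rfl))
    have hZlt : Z < Bx := lt_of_le_of_ne hZBx (fun h => hxZ (h ▸ hxBx))
    have hBxle : Nat.card Bx ≤ p ^ 2 := hrk Bx hBxc (fun a _ => hexp a)
    obtain ⟨a, ha⟩ := IsPGroup.iff_card.mp (hDp.to_subgroup Z)
    obtain ⟨b, hb⟩ := IsPGroup.iff_card.mp (hDp.to_subgroup Bx)
    have hb2 : b ≤ 2 := by
      rw [hb] at hBxle
      exact (Nat.pow_le_pow_iff_right hp.out.one_lt).mp hBxle
    have hab : a < b := by
      have := card_lt_of_lt hZlt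
      rw [ha, hb] at this
      exact (Nat.pow_lt_pow_iff_right hp.out.one_lt).mp this
    have ha0 : a ≠ 0 := by
      intro h0
      rw [h0, pow_zero] at ha
      exact hZbot (Subgroup.card_eq_one.mp ha)
    have ha1 : a = 1 := by omega
    have hb2' : b = 2 := by omega
    rw [ha1, pow_one] at ha
    rw [hb2'] at hb
    -- the centralizer of `x` is `Bx`
    have hcentx : ∀ w : D, w * x = x * w → w ∈ Bx := by
      intro w hw
      set Bw : Subgroup D := Subgroup.closure ((Z : Set D) ∪ {x, w}) with hBw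
      have hBwc : IsMulCommutative Bw := Subgroup.isMulCommutative_closure (hcommS w hw)
      have hBwle : Nat.card Bw ≤ p ^ 2 := hrk Bw hBwc (fun a _ => hexp a)
      have hle : Bx ≤ Bw := by
        apply Subgroup.closure_mono
        rintro u (hu | hu)
        · exact Or.inl hu
        · rcases hu with rfl | rfl
          · exact Or.inr (Or.inl rfl)
          · exact Or.inr (Or.inl rfl)
      have heq : Bx = Bw := Subgroup.eq_of_le_of_card_ge hle (by rw [hb]; exact hBwle)
      rw [heq]
      exact Subgroup.subset_closure (Or.inr (Or.inr rfl))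
    -- the order of `D`
    have hker : (commHom hcen x).ker = Bx := by
      ext d
      rw [MonoidHom.mem_ker, commHom_apply, commutatorElement_eq_one_iff_mul_comm]
      constructor
      · intro h
        exact hcentx d h
      · intro h
        have := hBxc.is_comm.comm ⟨d, h⟩ ⟨x, hxBx⟩
        exact congrArg Subtype.val this
    have hrange : (commHom hcen x).range ≤ Z := by
      rintro _ ⟨d, rfl⟩
      exact hcen d x
    have hcardD : Nat.card D ≤ p ^ 3 := by
      have h1 : Nat.card D = Nat.card (D ⧸ (commHom hcen x).ker) * Nat.card (commHom hcen x).ker :=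
        Subgroup.card_eq_card_quotient_mul_card_subgroup _
      have h2 : Nat.card (D ⧸ (commHom hcen x).ker) = Nat.card (commHom hcen x).range :=
        Nat.card_congr (QuotientGroup.quotientKerEquivRange (commHom hcen x)).toEquiv
      have h3 : Nat.card (commHom hcen x).range ≤ p := ha ▸ Subgroup.card_le_of_le hrange
      rw [h1, h2, hker, hb]
      calc Nat.card (commHom hcen x).range * p ^ 2 ≤ p * p ^ 2 := Nat.mul_le_mul_right _ h3
        _ = p ^ 3 := by ring
    have hyBx : y ∉ Bx := by
      intro h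
      have := hBxc.is_comm.comm ⟨x, hxBx⟩ ⟨y, h⟩
      exact hxy (congrArg Subtype.val this)
    obtain ⟨k, hk⟩ := IsPGroup.iff_card.mp hDp
    have hk3 : k = 3 := by
      have h1 : k ≤ 3 := by
        rw [hk] at hcardD
        exact (Nat.pow_le_pow_iff_right hp.out.one_lt).mp hcardD
      have h2 : 2 < k := by
        have hlt : Bx < ⊤ := lt_of_le_of_ne le_top (fun h => hyBx (h ▸ Subgroup.mem_top y))
        have := card_lt_of_lt hlt
        rw [hb, Subgroup.card_top, hk] at this
        exact (Nat.pow_lt_pow_iff_right hp.out.one_lt).mp this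
      omega
    rw [hk3] at hk
    -- the quotient by the centre
    have hcardV : Nat.card (D ⧸ Z) = p ^ 2 := by
      have h1 : Nat.card D = Nat.card (D ⧸ Z) * Nat.card Z :=
        Subgroup.card_eq_card_quotient_mul_card_subgroup _
      rw [hk, ha] at h1
      have h2 : p ^ 3 = p ^ 2 * p := by ring
      rw [h2] at h1
      exact (Nat.eq_of_mul_eq_mul_right hp.out.pos h1).symm
    have hcommV : ∀ u v : D ⧸ Z, u * v = v * u := by
      intro u v
      induction u using QuotientGroup.induction_on with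
      | H u =>
        induction v using QuotientGroup.induction_on with
        | H v =>
          rw [← QuotientGroup.mk_mul, ← QuotientGroup.mk_mul, QuotientGroup.eq]
          have h1 := hcen v⁻¹ u⁻¹
          have e : (u * v)⁻¹ * (v * u) = ⁅v⁻¹, u⁻¹⁆ := by
            rw [commutatorElement_def]; group
          rw [e]
          exact h1
    have hexpV : ∀ u : D ⧸ Z, u ^ p = 1 := by
      intro u
      induction u using QuotientGroup.induction_on with
      | H u =>
        rw [← QuotientGroup.mk_pow, hexp u]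
        rfl
    have hq1 : (quotAut β) ^ q = 1 := by
      ext u
      induction u using QuotientGroup.induction_on with
      | H u =>
        rw [quotAut_pow_mk, hβq]
        rfl
    have hq2 : quotAut β ≠ 1 := by
      intro h1
      apply hβ1
      have hmod : ∀ d : D, d⁻¹ * β d ∈ Z := by
        intro d
        have h2 : quotAut β (QuotientGroup.mk d) = QuotientGroup.mk d := by
          rw [h1]
          rfl
        rw [quotAut_mk] at h2
        exact QuotientGroup.eq.mp h2.symm
      -- `β` fixes `z = ⁅x, y⁆`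
      set z : D := ⁅x, y⁆ with hz
      have hz1 : z ≠ 1 := by
        intro h
        rw [hz, commutatorElement_eq_one_iff_mul_comm] at h
        exact hxy h
      have hzZ : z ∈ Z := hcen x y
      have hβz : β z = z := by
        have ex : β x = x * (x⁻¹ * β x) := by group
        have ey : β y = y * (y⁻¹ * β y) := by group
        rw [hz, map_commutatorElement, ex, ey]
        exact commutator_mul_central x y _ _ (hmod x) (hmod y)
      have hZz : Z = Subgroup.zpowers z := by
        symm
        apply Subgroup.eq_of_le_of_card_ge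
        · rw [Subgroup.zpowers_le]
          exact hzZ
        · rw [ha, Nat.card_zpowers, orderOf_eq_prime (hexp z) hz1]
      have hβZ : ∀ u ∈ Z, β u = u := by
        intro u hu
        rw [hZz] at hu
        obtain ⟨i, rfl⟩ := Subgroup.mem_zpowers_iff.mp hu
        rw [map_zpow, hβz]
      ext d
      have := Cfsg.Agent.S5236.apply_eq_of_fixed (p := p) β hβq hcop d (hβZ _ (hmod d)) ⟨1, by rw [pow_one]; exact hexp _⟩
      rw [this]
      rfl
    exact dvd_of_aut_card_sq hcommV hexpV hcardV (quotAut β) hq hqp (orderOf_eq_prime hq1 hq2)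

end core

section main

variable {R : Type*} [Group R]

/-- In a subgroup `H` whose commutators with everything centralize `H`, the elements of `H` of order dividing `p`
(`p` odd) form a subgroup. -/
def omegaSub {p : ℕ} (hp : p.Prime) (hp2 : p ≠ 2) (H : Subgroup R)
    (h2 : ⁅H, (⊤ : Subgroup R)⁆ ≤ H ⊓ Subgroup.centralizer (H : Set R)) : Subgroup R where
  carrier := {x | x ∈ H ∧ x ^ p = 1}
  one_mem' := ⟨H.one_mem, one_pow p⟩
  inv_mem' := by
    rintro x ⟨hx, hxp⟩
    exact ⟨H.inv_mem hx, by rw [inv_pow, hxp, inv_one]⟩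
  mul_mem' := by
    rintro x y ⟨hx, hxp⟩ ⟨hy, hyp⟩
    refine ⟨H.mul_mem hx hy, ?_⟩
    have hc : ⁅y, x⁆ ∈ Subgroup.centralizer (H : Set R) :=
      (h2 (Subgroup.commutator_mem_commutator hy (Subgroup.mem_top x))).2
    have hcx : Commute ⁅y, x⁆ x := (Subgroup.mem_centralizer_iff.mp hc x hx).symm
    have hcy : Commute ⁅y, x⁆ y := (Subgroup.mem_centralizer_iff.mp hc y hy).symm
    have h : y * x = ⁅y, x⁆ * x * y := by rw [commutatorElement_def]; group
    have h1 := pow_mul_of_central h hcy p
    rw [hyp, one_mul, mul_one] at h1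
    have hcp : ⁅y, x⁆ ^ p = 1 := by
      have := mul_right_cancel (b := x) (a := 1) (c := ⁅y, x⁆ ^ p) (by rw [one_mul]; exact h1)
      exact this.symm
    rw [mul_pow_of_central h hcx hcy p, hxp, hyp, one_mul, one_mul]
    obtain ⟨k, hk⟩ := prime_dvd_sum_range hp hp2
    rw [hk, pow_mul, hcp, one_pow]

theorem mem_omegaSub {p : ℕ} (hp : p.Prime) (hp2 : p ≠ 2) (H : Subgroup R)
    (h2 : ⁅H, (⊤ : Subgroup R)⁆ ≤ H ⊓ Subgroup.centralizer (H : Set R)) (x : R) :
    x ∈ omegaSub hp hp2 H h2 ↔ x ∈ H ∧ x ^ p = 1 := Iff.rfl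

end main

/-- For odd p, a prime q ≠ p dividing the order of the automorphism group of a p-group of rank at most 2 divides p² - 1 and is less than p. -/
theorem result {R : Type*} [Group R] [Finite R] {p : ℕ} [Fact p.Prime] (hp : p ≠ 2) (hR : IsPGroup p R) (hrk : Cfsg.PRankLE p 2 R) (q : ℕ) (hq : q.Prime) (hqp : q ≠ p) (hdvd : q ∣ Nat.card (MulAut R)) : q ∣ p ^ 2 - 1 ∧ q < p := by
  have hpp : p.Prime := Fact.out
  suffices h : q ∣ p ^ 2 - 1 from ⟨h, lt_of_dvd_sq_sub_one hpp hp hq hqp h⟩
  haveI := Fact.mk hq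
  haveI : Finite (MulAut R) := MulEquiv.finite_left
  obtain ⟨α, hα⟩ := exists_prime_orderOf_dvd_card' q hdvd
  have hαq : α ^ q = 1 := by rw [← hα]; exact pow_orderOf_eq_one α
  have hα1 : α ≠ 1 := by
    intro h
    rw [h, orderOf_one] at hα
    exact hq.one_lt.ne hα
  have hcopq : q.Coprime p := (Nat.coprime_primes hq hpp).mpr hqp
  have hcop : Nat.Coprime (orderOf α) p := by rw [hα]; exact hcopq
  obtain ⟨H, hHc, h1, h2, h3⟩ := Cfsg.Agent.S0093.result hR
  have hαH : ∀ x : R, α x ∈ H ↔ x ∈ H := by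
    intro x
    have hmap := Subgroup.characteristic_iff_map_eq.mp hHc α
    constructor
    · intro hx
      rw [← hmap] at hx
      obtain ⟨y, hy, hyx⟩ := hx
      have : y = x := α.injective hyx
      exact this ▸ hy
    · intro hx
      rw [← hmap]
      exact ⟨x, hx, rfl⟩
  set D : Subgroup R := omegaSub hpp hp H h2 with hD
  have hαD : ∀ x : R, α x ∈ D ↔ x ∈ D := by
    intro x
    rw [hD, mem_omegaSub, mem_omegaSub, hαH x, ← map_pow]
    constructor
    · rintro ⟨hx, hxp⟩
      refine ⟨hx, ?_⟩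
      apply α.injective
      rw [hxp, map_one]
    · rintro ⟨hx, hxp⟩
      exact ⟨hx, by rw [hxp, map_one]⟩
  have hDH : D ≤ H := fun x hx => hx.1
  -- `α` acts nontrivially on `D`
  have hαD1 : Cfsg.Agent.S5236.resAut α D hαD ≠ 1 := by
    intro hres
    apply hα1
    have hfixD : ∀ x ∈ D, α x = x := by
      intro x hx
      have := congrArg (fun γ : MulAut D => ((γ ⟨x, hx⟩ : D) : R)) hres
      exact this
    have hHq : (Cfsg.Agent.S5236.resAut α H hαH) ^ q = 1 := by
      ext x
      rw [Cfsg.Agent.S5236.resAut_pow_apply, hαq]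
      rfl
    have hH1 : Cfsg.Agent.S5236.resAut α H hαH = 1 := by
      apply Cfsg.Agent.S0120.result hp (hR.to_subgroup H)
      · exact Nat.Coprime.coprime_dvd_left (orderOf_dvd_of_pow_eq_one hHq) hcopq
      · intro x hx
        apply Subtype.ext
        show α (x : R) = (x : R)
        apply hfixD
        refine ⟨x.2, ?_⟩
        have := congrArg (fun v : H => (v : R)) hx
        simpa using this
    apply Cfsg.Agent.S0121.result hR H hHc h1 h2 h3 α hcop
    intro x hx
    have := congrArg (fun γ : MulAut H => ((γ ⟨x, hx⟩ : H) : R)) hH1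
    exact this
  have hαDq : (Cfsg.Agent.S5236.resAut α D hαD) ^ q = 1 := by
    ext x
    rw [Cfsg.Agent.S5236.resAut_pow_apply, hαq]
    rfl
  -- properties of `D`
  have hexp : ∀ x : D, x ^ p = 1 := by
    intro x
    apply Subtype.ext
    exact x.2.2
  have hcen : ∀ x y : D, ⁅x, y⁆ ∈ Subgroup.center D := by
    intro x y
    rw [Subgroup.mem_center_iff]
    intro w
    apply Subtype.ext
    have hc : ⁅(x : R), (y : R)⁆ ∈ Subgroup.centralizer (H : Set R) :=
      (h2 (Subgroup.commutator_mem_commutator (hDH x.2) (Subgroup.mem_top _))).2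
    exact Subgroup.mem_centralizer_iff.mp hc w (hDH w.2)
  have hrkD : Cfsg.PRankLE p 2 D := by
    intro A hA hAexp
    have hcard : Nat.card (A.map D.subtype) = Nat.card A :=
      Nat.card_congr (A.equivMapOfInjective D.subtype D.subtype_injective).symm.toEquiv
    rw [← hcard]
    apply hrk
    · refine ⟨⟨?_⟩⟩
      rintro ⟨_, ⟨a, ha, rfl⟩⟩ ⟨_, ⟨b, hb, rfl⟩⟩
      apply Subtype.ext
      have := hA.is_comm.comm ⟨a, ha⟩ ⟨b, hb⟩
      have h2 := congrArg (fun v : A => ((v : D) : R)) this
      exact h2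
    · rintro _ ⟨a, ha, rfl⟩
      have := hAexp a ha
      have h2 := congrArg (fun v : D => (v : R)) this
      simpa using h2
  exact dvd_of_aut_exp_p hexp hcen hrkD _ hq hqp hαD1 hαDq

end Cfsg.Agent.S0640
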