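import Cfsg.Statements.S0044
import Cfsg.Agent.Lib.Cores

set_option autoImplicit false
open Pointwise
open Cfsg

namespace Cfsg.Agent.S0044

open Cfsg.Agent.Lib

/-- Iterated commutators of a subgroup, computed in the ambient group. -/
def dser {G : Type*} [Group G] (C : Subgroup G) : ℕ → Subgroup G
  | 0 => C
  | n + 1 => ⁅dser C n, dser C n⁆

theorem dser_normal {G : Type*} [Group G] (C : Subgroup G) [C.Normal] (n : ℕ) : (dser C n).Normal := by
  induction n with
  | zero => exact (inferInstance : C.Normal)
  | succ n ih =>
    have := ih
    exact (inferInstance : (⁅dser C n, dser C n⁆).Normal)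

theorem dser_le_derivedSeries {G : Type*} [Group G] (C : Subgroup G) (n : ℕ) :
    dser C n ≤ derivedSeries G n := by
  induction n with
  | zero => exact le_top
  | succ n ih => exact Subgroup.commutator_mono ih ih

theorem dser_le {G : Type*} [Group G] (C : Subgroup G) [C.Normal] (n : ℕ) : dser C n ≤ C := by
  induction n with
  | zero => exact le_rfl
  | succ n ih =>
    have := dser_normal C n
    exact (Subgroup.commutator_le_left _ _).trans ih

/-- In a finite solvable group, the centraliser of the Fitting subgroup is contained in the Fitting subgroup. -/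
theorem result {G : Type*} [Group G] [Finite G] [Group.IsSolvable G] :
    Subgroup.centralizer (Cfsg.fittingSubgroup G : Set G) ≤ Cfsg.fittingSubgroup G := by
  classical
  set F := Cfsg.fittingSubgroup G with hF
  set C := Subgroup.centralizer (F : Set G) with hC
  have hFn : F.Normal := fittingSubgroup_normal
  have hCn : C.Normal := Subgroup.normal_centralizer (H := F)  
  by_contra hcon
  obtain ⟨N, hN⟩ := (Group.isSolvable_def G).mp inferInstance
  have hex : ∃ n, dser C n ≤ F := ⟨N, (dser_le_derivedSeries C N).trans (hN ▸ bot_le)⟩
  have hn0 : Nat.find hex ≠ 0 := by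
    intro h0
    have := Nat.find_spec hex
    rw [h0] at this
    exact hcon this
  obtain ⟨k, hk⟩ := Nat.exists_eq_succ_of_ne_zero hn0
  have hA1 : ¬ dser C k ≤ F := Nat.find_min hex (by rw [hk]; exact Nat.lt_succ_self k)
  have hA2 : ⁅dser C k, dser C k⁆ ≤ F := by
    have := Nat.find_spec hex
    rw [hk] at this
    exact this
  set A := dser C k with hA
  have hAn : A.Normal := dser_normal C k
  have hAC : A ≤ C := dser_le C k
  -- `A` is nilpotent of class at most 2
  have hnil : Group.IsNilpotent A := by
    apply Subgroup.isNilpotent_of_lowerCentralSeries_eq_bot (n := 2)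
    rw [Subgroup.lowerCentralSeries_succ, Subgroup.lowerCentralSeries_succ,
      Subgroup.lowerCentralSeries_zero, Subgroup.commutator_eq_bot_iff_le_centralizer]
    refine hA2.trans ?_
    -- `F ≤ C_G(A)` since `A ≤ C_G(F)`
    intro f hf
    rw [Subgroup.mem_centralizer_iff]
    intro a ha
    have := (Subgroup.mem_centralizer_iff.mp (hAC ha)) f hf
    exact this.symm
  exact hA1 (le_fittingSubgroup hAn hnil)

end Cfsg.Agent.S0044
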