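import Cfsg.Statements.S1451
import Cfsg.Agent.Helper4.RankTwoSolv2

set_option autoImplicit false
open Cfsg

namespace Cfsg.Agent.S1451

open scoped commutatorElement
open Cfsg.Agent.Helper4

theorem result {G : Type*} [Group G] [Finite G] [Group.IsSolvable G] (hodd : Odd (Nat.card G)) (hr : Cfsg.RankLE 2 G ∨ Cfsg.RankLE 2 (Cfsg.fittingSubgroup G)) :
    Group.IsNilpotent ↥(commutator G) ∧
      (∀ (q : ℕ) [Fact q.Prime] (S : Sylow q G) (T : Subgroup ↥(S : Subgroup G)), T.Characteristic → T.map (S : Subgroup G).subtype ≤ ⁅(S : Subgroup G), (S : Subgroup G)⁆ →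
        (T.map (S : Subgroup G).subtype).Normal) ∧
      ∀ p : ℕ, ∃ N : Subgroup G, N.Characteristic ∧ Cfsg.IsPiHall {q | q.Prime ∧ p < q} N := by
  classical
  have hr' : ∀ p : ℕ, p.Prime → Cfsg.PRankLE p 2 ↥(Cfsg.pCore p G) := by
    intro p hp
    rcases hr with h | h
    · exact Cfsg.Agent.Lib.pRankLE_subgroup (h p hp) _
    · haveI := Fact.mk hp
      exact pRankLE_of_le (Cfsg.Agent.Lib.pCore_le_fittingSubgroup p) (h p hp)
  have hNF := commutator_le_fittingSubgroup hodd hr'
  have hnil : Group.IsNilpotent ↥(commutator G) := by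
    haveI : Group.IsNilpotent ↥(Cfsg.fittingSubgroup G) := Cfsg.Agent.Lib.isNilpotent_fittingSubgroup
    exact Group.nilpotent_of_mulEquiv (Subgroup.subgroupOfEquivOfLe hNF)
  refine ⟨hnil, ?_, ?_⟩
  · intro q _ S T hT hTS
    exact normal_of_char_le_commutator hnil q S T hT hTS
  · intro p
    exact exists_char_hall_gt hodd hr' hNF p

end Cfsg.Agent.S1451
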