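import Cfsg.Statements.S0026
import Cfsg.Agent.S0022

set_option autoImplicit false
open Cfsg

namespace Cfsg.Agent.S0026

open scoped commutatorElement

/-- Under coprime action the acted-on group factorises as the commutator with A times the fixed points: K = [K, A] C_K(A). -/
theorem result {G : Type*} [Group G] [Finite G] (A K : Subgroup G) (hAK : A ≤ Subgroup.normalizer (K : Set G))
    (hcop : (Nat.card A).Coprime (Nat.card K)) (hsolv : Group.IsSolvable A ∨ Group.IsSolvable K) :
    ⁅K, A⁆ ⊔ (K ⊓ Subgroup.centralizer (A : Set G)) = K := by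
  have hle : ⁅K, A⁆ ≤ K := Subgroup.le_normalizer_iff_commutator_le_left.mp hAK
  apply le_antisymm (sup_le hle inf_le_left)
  intro k hk
  obtain ⟨c, hc, hkc⟩ := Cfsg.Agent.S0022.result A K hAK hcop hsolv ⁅K, A⁆ hle
    (Subgroup.normalizer_commutator_ge_left K A) (Subgroup.normalizer_commutator_ge_right K A) k hk
    (by
      intro a ha
      have : ⁅a, k⁆ ∈ ⁅A, K⁆ := Subgroup.commutator_mem_commutator ha hk
      rw [Subgroup.commutator_comm] at this
      exact this)
  -- use normality of `⁅K, A⁆` in `K` to swap the factors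
  have h3 : c * (k⁻¹ * c)⁻¹ * c⁻¹ ∈ ⁅K, A⁆ := by
    have hcK : c ∈ K := (Subgroup.mem_inf.mp hc).1
    exact (Subgroup.mem_normalizer_iff.mp (Subgroup.normalizer_commutator_ge_left K A hcK) _).mp
      (Subgroup.inv_mem _ hkc)
  have h4 : k = (c * (k⁻¹ * c)⁻¹ * c⁻¹) * c := by simp [mul_assoc]
  rw [h4]
  exact Subgroup.mul_mem_sup h3 hc

end Cfsg.Agent.S0026
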