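import Cfsg.Statements.S1280
import Mathlib
import Cfsg.Agent.Helper22.Coprime
import Cfsg.Agent.Helper22.Sup

set_option autoImplicit false
open Cfsg
open scoped Pointwise

namespace Cfsg.Agent.S1280

open Cfsg.Agent.Helper22

theorem result {G : Type*} [Group G] [Finite G] (p : ℕ) [Fact p.Prime] (A : Subgroup G) (hA : Cfsg.IsElementaryAbelian p A) (hA2 : p ^ 2 ≤ Nat.card ↥A) (θ : G → Subgroup G) (hθ : Cfsg.IsSolvableSignalizerFunctor p A θ) (X Y : Subgroup G) (hX : X ∈ Cfsg.signalizerFamily p A θ) (hY : Y ∈ Cfsg.signalizerFamily p A θ) (hn : Y ≤ Subgroup.normalizer (X : Set G)) : X ⊔ Y ∈ Cfsg.signalizerFamily p A θ := by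
  obtain ⟨hXs, hXp, hXA, hXθ⟩ := hX
  obtain ⟨hYs, hYp, hYA, hYθ⟩ := hY
  have hp : p.Prime := Fact.out
  refine ⟨?_, ?_, ?_, ?_⟩
  · rw [sup_comm]; exact sup_solvable_of_le_normalizer Y X hn hYs hXs
  · rw [sup_comm]; exact not_dvd_card_sup_of_le_normalizer p hp Y X hn hYp hXp
  · intro b hb u hu
    have h1 : (MulAut.conj b).toMonoidHom u ∈ (X ⊔ Y).map (MulAut.conj b).toMonoidHom :=
      Subgroup.mem_map_of_mem _ hu
    have h2 : (X ⊔ Y).map (MulAut.conj b).toMonoidHom ≤ X ⊔ Y := by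
      rw [Subgroup.map_sup]
      apply sup_le_sup
      · rintro _ ⟨x, hx, rfl⟩
        exact hXA b hb x hx
      · rintro _ ⟨y, hy, rfl⟩
        exact hYA b hb y hy
    exact h2 h1
  · intro a ha ha1 g hg
    obtain ⟨hg1, hg2⟩ := Subgroup.mem_inf.mp hg
    rw [Subgroup.mem_centralizer_iff] at hg2
    have hag : a * g = g * a := hg2 a rfl
    have hset := Subgroup.coe_mul_of_right_le_normalizer_left X Y hn
    have hg1' : g ∈ ((X ⊔ Y : Subgroup G) : Set G) := hg1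
    rw [hset] at hg1'
    obtain ⟨x₀, hx₀, y₀, hy₀, hxy⟩ := hg1'
    replace hxy : x₀ * y₀ = g := hxy
    subst hxy
    have hx₀ : x₀ ∈ X := hx₀
    have hy₀ : y₀ ∈ Y := hy₀
    have hzA : ∀ z ∈ Subgroup.zpowers a, z ∈ A := fun z hz => (Subgroup.zpowers_le.mpr ha) hz
    have hH : ¬ p ∣ Nat.card ↥(X ⊓ Y) := not_dvd_card_of_le inf_le_left hXp
    obtain ⟨h, hh, hfix⟩ := exists_fixed_in_coset_elt p a (hA.2 a ha) (X ⊓ Y) hH x₀ (by
      intro z hz h hh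
      have hzg : z * (x₀ * y₀) = (x₀ * y₀) * z := commute_zpowers hz hag
      have hx' : z * (x₀ * h) * z⁻¹ ∈ X := hXA z (hzA z hz) _ (X.mul_mem hx₀ hh.1)
      refine Subgroup.mem_inf.mpr ⟨X.mul_mem (X.inv_mem hx₀) hx', ?_⟩
      -- x₀⁻¹ x' = y₀ * (z (h⁻¹ y₀) z⁻¹)⁻¹
      have hy' : z * (h⁻¹ * y₀) * z⁻¹ ∈ Y := hYA z (hzA z hz) _ (Y.mul_mem (Y.inv_mem hh.2) hy₀)
      have e : x₀⁻¹ * (z * (x₀ * h) * z⁻¹) = y₀ * (z * (h⁻¹ * y₀) * z⁻¹)⁻¹ := by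
        have e1 : z * (x₀ * h) * z⁻¹ = (z * (x₀ * y₀)) * (y₀⁻¹ * h) * z⁻¹ := by group
        rw [e1, hzg]
        group
      rw [e]
      exact Y.mul_mem hy₀ (Y.inv_mem hy'))
    -- x₁ = x₀ h is fixed by a; y₁ = h⁻¹ y₀
    have hx₁ : x₀ * h ∈ X := X.mul_mem hx₀ hh.1
    have hy₁ : h⁻¹ * y₀ ∈ Y := Y.mul_mem (Y.inv_mem hh.2) hy₀
    have hax₁ : a * (x₀ * h) = (x₀ * h) * a := by
      calc a * (x₀ * h) = (a * (x₀ * h) * a⁻¹) * a := by group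
        _ = (x₀ * h) * a := by rw [hfix]
    have hay₁ : a * (h⁻¹ * y₀) = (h⁻¹ * y₀) * a := by
      have c1 : Commute a (x₀ * h) := hax₁
      have c2 : Commute a (x₀ * y₀) := hag
      have c3 : Commute a ((x₀ * h)⁻¹ * (x₀ * y₀)) := (c1.inv_right).mul_right c2
      have e : (x₀ * h)⁻¹ * (x₀ * y₀) = h⁻¹ * y₀ := by group
      rw [e] at c3
      exact c3.eq
    have m1 : x₀ * h ∈ θ a := hXθ a ha ha1 (Subgroup.mem_inf.mpr ⟨hx₁, by
      rw [Subgroup.mem_centralizer_iff]; intro y hy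
      rw [Set.mem_singleton_iff] at hy; subst hy; exact hax₁⟩)
    have m2 : h⁻¹ * y₀ ∈ θ a := hYθ a ha ha1 (Subgroup.mem_inf.mpr ⟨hy₁, by
      rw [Subgroup.mem_centralizer_iff]; intro y hy
      rw [Set.mem_singleton_iff] at hy; subst hy; exact hay₁⟩)
    have : x₀ * y₀ = (x₀ * h) * (h⁻¹ * y₀) := by group
    rw [this]
    exact (θ a).mul_mem m1 m2

end Cfsg.Agent.S1280
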