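-- Statement S1282: a common element of A with fixed points on both N_{Q_i}(D)/D.
import Cfsg.Statements.S1282
import Cfsg.Agent.Helper31.CoprimeHypRel
import Cfsg.Agent.Helper31.CharPChain
import Cfsg.Agent.Lib.Cores

set_option autoImplicit false
open Cfsg
open Cfsg.Agent.Helper31

namespace Cfsg.Agent.S1282

theorem normalizer_inf_le {G : Type*} [Group G] (H K : Subgroup G) :
    Subgroup.normalizer (H : Set G) ⊓ Subgroup.normalizer (K : Set G) ≤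
      Subgroup.normalizer ((H ⊓ K : Subgroup G) : Set G) := by
  intro x hx
  have hxH : x ∈ Subgroup.normalizer (H : Set G) := hx.1
  have hxK : x ∈ Subgroup.normalizer (K : Set G) := hx.2
  rw [Subgroup.mem_normalizer_iff] at hxH hxK ⊢
  intro y
  rw [Subgroup.mem_inf, Subgroup.mem_inf, ← hxH y, ← hxK y]

theorem not_dvd_card_of_isPGroup {G : Type*} [Group G] [Finite G] {p q : ℕ} [Fact p.Prime] [Fact q.Prime]
    (hqp : q ≠ p) {N : Subgroup G} (hN : IsPGroup q ↥N) : ¬ p ∣ Nat.card ↥N := by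
  obtain ⟨n, hn⟩ := IsPGroup.iff_card.mp hN
  rw [hn]
  intro h
  have hp : p.Prime := Fact.out
  have hq : q.Prime := Fact.out
  have := hp.dvd_of_dvd_pow h
  exact hqp ((Nat.prime_dvd_prime_iff_eq hp hq).mp this).symm

/-- Let A be an elementary abelian p-subgroup of rank at least 3 of the finite group G, q ≠ p a prime, and Q₁, Q₂ q-subgroups normalized by A with D = Q₁ ∩ Q₂ different from both. Then there is a non-identity a ∈ A such that, for i = 1 and i = 2, N_{Q_i}(D) ∩ C_G(a) is not contained in D. -/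
theorem result {G : Type*} [Group G] [Finite G] (p : ℕ) [Fact p.Prime] (A : Subgroup G) (hA : Cfsg.IsElementaryAbelian p A) (hA3 : p ^ 3 ≤ Nat.card ↥A) (q : ℕ) [Fact q.Prime] (hqp : q ≠ p) (Q₁ Q₂ : Subgroup G) (h₁ : IsPGroup q ↥Q₁) (h₂ : IsPGroup q ↥Q₂) (hA₁ : A ≤ Subgroup.normalizer (Q₁ : Set G)) (hA₂ : A ≤ Subgroup.normalizer (Q₂ : Set G)) (hD₁ : Q₁ ⊓ Q₂ ≠ Q₁) (hD₂ : Q₁ ⊓ Q₂ ≠ Q₂) : ∃ a ∈ A, a ≠ 1 ∧ ¬ (Subgroup.normalizer ((Q₁ ⊓ Q₂ : Subgroup G) : Set G) ⊓ Q₁ ⊓ Subgroup.centralizer {a} ≤ Q₁ ⊓ Q₂) ∧ ¬ (Subgroup.normalizer ((Q₁ ⊓ Q₂ : Subgroup G) : Set G) ⊓ Q₂ ⊓ Subgroup.centralizer {a} ≤ Q₁ ⊓ Q₂) := by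
  have hp : p.Prime := Fact.out
  set D : Subgroup G := Q₁ ⊓ Q₂ with hD
  have hcomm : ∀ x ∈ A, ∀ y ∈ A, x * y = y * x := fun x hx y hy =>
    Cfsg.Agent.Lib.isElementaryAbelian_commute hA hx hy
  have hA2 : p ^ 2 ≤ Nat.card ↥A := by
    refine le_trans ?_ hA3
    exact Nat.pow_le_pow_right hp.pos (by omega)
  have hAD : A ≤ Subgroup.normalizer (D : Set G) := fun a ha =>
    normalizer_inf_le Q₁ Q₂ ⟨hA₁ ha, hA₂ ha⟩
  -- the two normalizers
  have key : ∀ Q : Subgroup G, IsPGroup q ↥Q → A ≤ Subgroup.normalizer (Q : Set G) → D ≤ Q → D ≠ Q →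
      ∃ F : Subgroup G, F ≤ A ∧ Nat.card ↥F * p = Nat.card ↥A ∧
        ¬ (Subgroup.normalizer (D : Set G) ⊓ Q) ⊓ Subgroup.centralizer (F : Set G) ≤ D := by
    intro Q hQ hAQ hDQ hne
    have hNp : IsPGroup q ↥(Subgroup.normalizer (D : Set G) ⊓ Q) := hQ.to_le inf_le_right
    have hAN : A ≤ Subgroup.normalizer ((Subgroup.normalizer (D : Set G) ⊓ Q : Subgroup G) : Set G) :=
      fun a ha => normalizer_inf_le _ Q ⟨Subgroup.le_normalizer (hAD ha), hAQ ha⟩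
    have hnot : ¬ Subgroup.normalizer (D : Set G) ⊓ Q ≤ D := by
      obtain ⟨x, hx1, hx2⟩ := exists_mem_normalizer_not_mem' hQ hDQ hne
      intro hle
      exact hx2 (hle ⟨hx1.2, hx1.1⟩)
    exact exists_hyperplane_not_le _ A D (not_dvd_card_of_isPGroup hqp hNp) hAN hcomm hA.2 hA2 hnot
  obtain ⟨F₁, hF₁A, hF₁c, hF₁⟩ := key Q₁ h₁ hA₁ inf_le_left hD₁
  obtain ⟨F₂, hF₂A, hF₂c, hF₂⟩ := key Q₂ h₂ hA₂ inf_le_right hD₂
  obtain ⟨a, ha₁, ha₂, ha1⟩ := exists_mem_inf_hyperplanes A F₁ F₂ hcomm hA3 hF₁A hF₂A hF₁c hF₂c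
  refine ⟨a, hF₁A ha₁, ha1, ?_, ?_⟩
  · intro hle
    apply hF₁
    refine le_trans ?_ hle
    exact inf_le_inf_left _ (Subgroup.centralizer_le (Set.singleton_subset_iff.mpr ha₁))
  · intro hle
    apply hF₂
    refine le_trans ?_ hle
    exact inf_le_inf_left _ (Subgroup.centralizer_le (Set.singleton_subset_iff.mpr ha₂))

end Cfsg.Agent.S1282
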