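import Cfsg.Statements.S0025
import Cfsg.Agent.Helper1.CoprimeSylow
import Mathlib.GroupTheory.Nilpotent

set_option autoImplicit false
open Cfsg

namespace Cfsg.Agent.S0025

open Cfsg.Agent.Helper1 Subgroup

/-- Under coprime action (A normalising K, coprime orders, A or K solvable), an A-invariant p-subgroup of K is contained in an A-invariant Sylow p-subgroup of K. -/
theorem result {G : Type*} [Group G] [Finite G] (A K : Subgroup G) (hAK : A ≤ Subgroup.normalizer (K : Set G))
    (hcop : (Nat.card A).Coprime (Nat.card K)) (hsolv : Group.IsSolvable A ∨ Group.IsSolvable K)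
    (p : ℕ) [Fact p.Prime] (U : Subgroup G) (hUK : U ≤ K) (hU : IsPGroup p U) (hUA : A ≤ Subgroup.normalizer (U : Set G)) :
    ∃ P : Sylow p K, U ≤ (P : Subgroup K).map K.subtype ∧ A ≤ Subgroup.normalizer ((P : Subgroup K).map K.subtype : Set G) := by
  -- Step 1: a maximal `A`-invariant `p`-subgroup `V` of `K` containing `U`
  obtain ⟨V, hUV, hVmax⟩ := Finite.exists_le_maximal
    (p := fun V : Subgroup G => V ≤ K ∧ IsPGroup p V ∧ A ≤ Subgroup.normalizer (V : Set G))
    (a := U) ⟨hUK, hU, hUA⟩
  obtain ⟨hVK, hVp, hVA⟩ := hVmax.prop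
  -- Step 2: `N = N_K(V)`
  set N : Subgroup G := K ⊓ Subgroup.normalizer (V : Set G) with hN
  have hNK : N ≤ K := inf_le_left
  have hVN : V ≤ N := le_inf hVK Subgroup.le_normalizer
  have hAN : A ≤ Subgroup.normalizer (N : Set G) := by
    intro a ha
    have h1 := hAK ha
    have h2 : a ∈ Subgroup.normalizer ((Subgroup.normalizer (V : Set G) : Subgroup G) : Set G) :=
      Subgroup.le_normalizer (hVA ha)
    rw [Subgroup.mem_normalizer_iff] at h1 h2 ⊢
    intro x
    rw [hN, Subgroup.mem_inf, Subgroup.mem_inf]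
    exact and_congr (h1 x) (h2 x)
  have hcopN : (Nat.card A).Coprime (Nat.card N) :=
    Nat.Coprime.coprime_dvd_right (Subgroup.card_dvd_of_le hNK) hcop
  have hsolvN : Group.IsSolvable A ∨ Group.IsSolvable N := by
    rcases hsolv with h | h
    · exact Or.inl h
    · exact Or.inr (Group.isSolvable_of_isSolvable_injective (Subgroup.inclusion_injective hNK))
  -- Step 3: an `A`-invariant Sylow subgroup `W` of `N`
  obtain ⟨W₀, hW₀A⟩ := exists_invariant_sylow A N hAN hcopN hsolvN p
  set W : Subgroup G := (W₀ : Subgroup N).map N.subtype with hW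
  have hWN : W ≤ N := Subgroup.map_subtype_le _
  have hWp : IsPGroup p W := W₀.2.map N.subtype
  -- Step 4: `V ≤ W`
  have hVW : V ≤ W := by
    haveI : (V.subgroupOf N).Normal :=
      (Subgroup.normal_subgroupOf_iff_le_normalizer hVN).mpr inf_le_right
    have hp' : IsPGroup p (V.subgroupOf N) :=
      hVp.comap_of_injective N.subtype (Subgroup.subtype_injective N)
    have h1 : V.subgroupOf N ≤ W₀ := hp'.le_sylow_of_normal W₀
    have h2 := Subgroup.map_mono (f := N.subtype) h1
    rwa [Subgroup.subgroupOf_map_subtype, inf_eq_left.mpr hVN] at h2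
  -- Step 5: `W = V`
  have hWV : W = V := le_antisymm (hVmax.le_of_ge ⟨hWN.trans hNK, hWp, hW₀A⟩ hVW) hVW
  -- Step 6: `V` is a Sylow subgroup of `K`
  obtain ⟨P, hP⟩ := (hVp.comap_of_injective K.subtype (Subgroup.subtype_injective K)).exists_le_sylow
  set P' : Subgroup G := (P : Subgroup K).map K.subtype with hP'
  have hP'K : P' ≤ K := Subgroup.map_subtype_le _
  have hP'p : IsPGroup p P' := P.2.map K.subtype
  have hVP' : V ≤ P' := by
    have h2 := Subgroup.map_mono (f := K.subtype) hP
    have h3 : (V.comap K.subtype).map K.subtype = V := by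
      have := Subgroup.subgroupOf_map_subtype V K
      rw [inf_eq_left.mpr hVK] at this
      exact this
    rwa [h3] at h2
  -- the normalizer of `V` in `P'` is `V`
  have hnorm : P' ⊓ Subgroup.normalizer (V : Set G) ≤ V := by
    set V₂ : Subgroup G := P' ⊓ Subgroup.normalizer (V : Set G) with hV₂
    have hV₂N : V₂ ≤ N := le_inf (inf_le_left.trans hP'K) inf_le_right
    have hV₂p : IsPGroup p V₂ := hP'p.to_le inf_le_left
    have hVV₂ : V ≤ V₂ := le_inf hVP' Subgroup.le_normalizer
    have h1 : (W₀ : Subgroup N) ≤ V₂.subgroupOf N := by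
      intro x hx
      rw [Subgroup.mem_subgroupOf]
      apply hVV₂
      rw [← hWV]
      exact ⟨x, hx, rfl⟩
    have h2 := W₀.is_maximal' (hV₂p.comap_of_injective N.subtype (Subgroup.subtype_injective N)) h1
    have h3 : (V₂.subgroupOf N).map N.subtype = (W₀ : Subgroup N).map N.subtype :=
      congrArg (Subgroup.map N.subtype) h2
    rw [Subgroup.subgroupOf_map_subtype, inf_eq_left.mpr hV₂N] at h3
    rw [h3, ← hW, hWV]
  have hP'V : P' ≤ V := by
    haveI : Group.IsNilpotent P' := hP'p.isNilpotent
    have hnc := (normalizerCondition_iff_only_full_group_self_normalizing (G := P')).mp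
      Group.normalizerCondition_of_isNilpotent (V.subgroupOf P') (by
        rw [← Subgroup.subgroupOf_normalizer_eq hVP']
        apply le_antisymm
        · intro x hx
          rw [Subgroup.mem_subgroupOf] at hx ⊢
          exact hnorm (Subgroup.mem_inf.mpr ⟨x.2, hx⟩)
        · intro x hx
          rw [Subgroup.mem_subgroupOf] at hx ⊢
          exact Subgroup.le_normalizer hx)
    exact Subgroup.subgroupOf_eq_top.mp hnc
  have hfin : P' = V := le_antisymm hP'V hVP'
  exact ⟨P, by rw [← hP', hfin]; exact hUV, by rw [← hP', hfin]; exact hVA⟩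

end Cfsg.Agent.S0025
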