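import Cfsg.Statements.S1279
import Cfsg.Agent.Helper54.PConstrained3

set_option autoImplicit false
open Cfsg

namespace Cfsg.Agent.S1279

open Cfsg.Agent.Helper54

variable {G : Type*} [Group G]

/-- `O_{p'}(C_G(a))` is invariant under conjugation by `C_G(a)`. -/
theorem conj_mem_centralizerPPrimeCore (p : ℕ) {a g x : G}
    (hg : g ∈ Subgroup.centralizer ({a} : Set G)) (hx : x ∈ centralizerPPrimeCore p a) :
    g * x * g⁻¹ ∈ centralizerPPrimeCore p a := by
  obtain ⟨y, hy, rfl⟩ := hx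
  have hn : (pPrimeCore p ↥(Subgroup.centralizer ({a} : Set G))).Normal := inferInstance
  exact ⟨⟨g, hg⟩ * y * ⟨g, hg⟩⁻¹, hn.conj_mem y hy ⟨g, hg⟩, rfl⟩

theorem card_centralizerPPrimeCore_coprime [Finite G] (p : ℕ) [Fact p.Prime] (a : G) :
    (Nat.card ↥(centralizerPPrimeCore p a)).Coprime p := by
  unfold centralizerPPrimeCore
  rw [Subgroup.card_map_of_injective (Subgroup.subtype_injective _)]
  exact Cfsg.Agent.Lib.card_pPrimeCore_coprime p

/-- The balance property. -/
theorem balance [Finite G] (p : ℕ) [hp : Fact p.Prime] {a b : G} (hab : a * b = b * a)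
    (ha : a ^ p = 1) (hb : Group.IsSolvable ↥(Subgroup.centralizer ({b} : Set G))) :
    centralizerPPrimeCore p a ⊓ Subgroup.centralizer ({b} : Set G) ≤ centralizerPPrimeCore p b := by
  intro x hx
  obtain ⟨hxa, hxb⟩ := Subgroup.mem_inf.mp hx
  have hxCa : x ∈ Subgroup.centralizer ({a} : Set G) := by
    obtain ⟨y, _, rfl⟩ := hxa
    exact y.2
  -- work in `H = C_G(b)`
  have haH : a ∈ Subgroup.centralizer ({b} : Set G) := by
    rw [Subgroup.mem_centralizer_singleton_iff]; exact hab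
  obtain ⟨H, hH⟩ : ∃ H : Subgroup G, H = Subgroup.centralizer ({b} : Set G) := ⟨_, rfl⟩
  rw [← hH] at hb haH hxb
  have hcons : IsPConstrained p ↥H := isPConstrained_of_isSolvable
  have hzp : IsPGroup p (Subgroup.zpowers (⟨a, haH⟩ : ↥H)) := by
    have ha' : (⟨a, haH⟩ : ↥H) ^ p = 1 := Subtype.ext (by simpa using ha)
    rintro ⟨_, k, rfl⟩
    refine ⟨1, ?_⟩
    apply Subtype.ext
    show ((⟨a, haH⟩ : ↥H) ^ k) ^ p ^ 1 = 1
    rw [pow_one, ← zpow_natCast, ← zpow_mul, mul_comm, zpow_mul, zpow_natCast, ha', one_zpow]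
  have hkey := map_pPrimeCore_centralizer hcons (⟨a, haH⟩ : ↥H) hzp
  -- the element `x` as an element of `C_H(a)`
  have hx2 : (⟨x, hxb⟩ : ↥H) ∈ Subgroup.centralizer ({(⟨a, haH⟩ : ↥H)} : Set ↥H) := by
    rw [Subgroup.mem_centralizer_singleton_iff]
    apply Subtype.ext
    exact Subgroup.mem_centralizer_singleton_iff.mp hxCa
  -- the subgroup of `C_H(a)` of elements lying in `θ(a)`
  set f : ↥(Subgroup.centralizer ({(⟨a, haH⟩ : ↥H)} : Set ↥H)) →* G :=
    H.subtype.comp (Subgroup.centralizer ({(⟨a, haH⟩ : ↥H)} : Set ↥H)).subtype with hf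
  have hfinj : Function.Injective f :=
    (Subgroup.subtype_injective _).comp (Subgroup.subtype_injective _)
  set N := (centralizerPPrimeCore p a).comap f with hN
  have hNn : N.Normal := by
    constructor
    intro n hn g
    rw [hN, Subgroup.mem_comap] at hn ⊢
    rw [map_mul, map_mul, map_inv]
    apply conj_mem_centralizerPPrimeCore p _ hn
    rw [Subgroup.mem_centralizer_singleton_iff]
    have := Subgroup.mem_centralizer_singleton_iff.mp g.2
    exact congrArg Subtype.val this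
  have hNc : (Nat.card N).Coprime p := by
    have h1 : Nat.card N = Nat.card (N.map f) := (Subgroup.card_map_of_injective hfinj).symm
    have h2 : Nat.card (N.map f) ∣ Nat.card (centralizerPPrimeCore p a) :=
      Subgroup.card_dvd_of_le (Subgroup.map_comap_le _ _)
    rw [h1]
    exact Nat.Coprime.coprime_dvd_left h2 (card_centralizerPPrimeCore_coprime p a)
  have hNle := Cfsg.Agent.Lib.le_pPrimeCore hNn hNc
  have hx3 : (⟨⟨x, hxb⟩, hx2⟩ : ↥(Subgroup.centralizer ({(⟨a, haH⟩ : ↥H)} : Set ↥H))) ∈ N := by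
    rw [hN, Subgroup.mem_comap]
    exact hxa
  have hx4 : (⟨x, hxb⟩ : ↥H) ∈ (pPrimeCore p ↥(Subgroup.centralizer
      ({(⟨a, haH⟩ : ↥H)} : Set ↥H))).map (Subgroup.centralizer
      ({(⟨a, haH⟩ : ↥H)} : Set ↥H)).subtype := ⟨_, hNle hx3, rfl⟩
  rw [hkey] at hx4
  have hx5 : (⟨x, hxb⟩ : ↥H) ∈ pPrimeCore p ↥H := (Subgroup.mem_inf.mp hx4).1
  subst hH
  exact ⟨_, hx5, rfl⟩

/-- Let A be a noncyclic elementary abelian p-subgroup of the finite group G such that C_G(a) is solvable for every non-identity a ∈ A. Then a ↦ O_{p'}(C_G(a)) is a solvable A-signalizer functor on G. -/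
theorem result {G : Type*} [Group G] [Finite G] (p : ℕ) [Fact p.Prime] (A : Subgroup G) (hA : Cfsg.IsElementaryAbelian p A) (hA2 : p ^ 2 ≤ Nat.card ↥A) (hsolv : ∀ a ∈ A, a ≠ 1 → Group.IsSolvable ↥(Subgroup.centralizer ({a} : Set G))) : Cfsg.IsSolvableSignalizerFunctor p A (fun a => Cfsg.centralizerPPrimeCore p a) := by
  have hp : p.Prime := Fact.out
  have hcomm : ∀ a ∈ A, ∀ b ∈ A, a * b = b * a := by
    intro a ha b hb
    have := hA.1
    have h1 : (⟨a, ha⟩ : ↥A) * ⟨b, hb⟩ = ⟨b, hb⟩ * ⟨a, ha⟩ := mul_comm' _ _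
    exact congrArg Subtype.val h1
  refine ⟨⟨?_, ?_, ?_, ?_⟩, ?_⟩
  · intro a _ _
    exact Subgroup.map_subtype_le _
  · intro a _ _ hdvd
    have h1 := card_centralizerPPrimeCore_coprime (G := G) p a
    exact hp.one_lt.ne' (Nat.eq_one_of_dvd_coprimes h1.symm dvd_rfl hdvd)
  · intro a ha _ b hb x hx
    apply conj_mem_centralizerPPrimeCore p _ hx
    rw [Subgroup.mem_centralizer_singleton_iff]
    exact hcomm b hb a ha
  · intro a ha _ b hb hb1
    exact balance p (hcomm a ha b hb) (hA.2 a ha) (hsolv b hb hb1)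
  · intro a ha ha1
    have := hsolv a ha ha1
    have e : ↥(pPrimeCore p ↥(Subgroup.centralizer ({a} : Set G))) ≃*
        ↥((pPrimeCore p ↥(Subgroup.centralizer ({a} : Set G))).map
          (Subgroup.centralizer ({a} : Set G)).subtype) :=
      Subgroup.equivMapOfInjective _ _ (Subgroup.subtype_injective _)
    exact Group.isSolvable_of_isSolvable_injective (f := e.symm.toMonoidHom) e.symm.injective

end Cfsg.Agent.S1279
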