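import Cfsg.Statements.S1480
import Cfsg.Agent.Helper54.Transit
import Cfsg.Agent.Helper54.ThompsonB
import Cfsg.Agent.S1279

set_option autoImplicit false
set_option linter.style.haveILetI false
set_option linter.unusedVariables false
open Cfsg

namespace Cfsg.Agent.S1480

open Cfsg.Agent.Helper31 Cfsg.Agent.Helper54 Cfsg.Agent.Helper54.TT

/-- Burnside: `p'`-elements of `C_G(E)` lie in `O_{p'}(C_G(E))` when `E` is an abelian `p`-subgroup
containing every `p`-element of its centralizer. -/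
theorem inf_centralizer_le_piCoreOf {G : Type*} [Group G] [Finite G] (p : ℕ) [hp : Fact p.Prime]
    (E : Subgroup G) (hEp : IsPGroup p E) (hEc : ∀ x ∈ E, ∀ y ∈ E, x * y = y * x)
    (hEfull : ∀ x ∈ Subgroup.centralizer (E : Set G), IsPGroup p (Subgroup.zpowers x) → x ∈ E)
    (H : Subgroup G) (hH : (Nat.card H).Coprime p) :
    H ⊓ Subgroup.centralizer (E : Set G) ≤
      Cfsg.piCoreOf (Cfsg.primesNotDvd p) (Subgroup.centralizer (E : Set G)) := by
  set C := Subgroup.centralizer (E : Set G) with hC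
  have hEC : E ≤ C := by
    intro e he
    rw [hC, Subgroup.mem_centralizer_iff]
    intro x hx
    exact hEc x hx e he
  set E' : Subgroup ↥C := E.subgroupOf C with hE'
  have hE'p : IsPGroup p E' := hEp.comap_subtype
  obtain ⟨P, hP⟩ := hE'p.exists_le_sylow
  have hPE : (P : Subgroup ↥C) ≤ E' := by
    intro x hx
    rw [hE', Subgroup.mem_subgroupOf]
    apply hEfull _ x.2
    obtain ⟨k, hk⟩ := P.isPGroup' ⟨x, hx⟩
    apply Cfsg.Agent.Helper54.TB.isPGroup_zpowers_of_pow (k := k)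
    have := congrArg Subtype.val (congrArg Subtype.val hk)
    simpa using this
  have hcentral : ∀ (t : ↥C) (x : ↥C), x ∈ (P : Subgroup ↥C) → x * t = t * x := by
    intro t x hx
    have hxE : (x : G) ∈ E := hPE hx
    have ht : (t : G) ∈ Subgroup.centralizer (E : Set G) := t.2
    rw [Subgroup.mem_centralizer_iff] at ht
    exact Subtype.ext (ht _ hxE)
  have hPN : Subgroup.normalizer ((P : Subgroup ↥C) : Set ↥C) ≤
      Subgroup.centralizer ((P : Subgroup ↥C) : Set ↥C) := by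
    intro t _
    rw [Subgroup.mem_centralizer_iff]
    intro x hx
    exact hcentral t x hx
  set N := (MonoidHom.transferSylow P hPN).ker with hN
  have hc := MonoidHom.ker_transferSylow_isComplement' P hPN
  have hnd := MonoidHom.not_dvd_card_ker_transferSylow P hPN
  have hNle : N ≤ Cfsg.piCore (Cfsg.primesNotDvd p) ↥C := by
    apply le_sSup
    refine ⟨MonoidHom.normal_ker _, ?_⟩
    intro r hr hrd
    refine ⟨hr, ?_⟩
    intro hrp
    have : r = p := (Nat.prime_dvd_prime_iff_eq hr hp.out).mp hrp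
    subst this
    exact hnd hrd
  have hindex : N.index = Nat.card (P : Subgroup ↥C) := hc.symm.index_eq_card
  intro x hx
  obtain ⟨hxH, hxC⟩ := Subgroup.mem_inf.mp hx
  have hxN : (⟨x, hxC⟩ : ↥C) ∈ N := by
    obtain ⟨k, hk⟩ := P.isPGroup'.exists_card_eq
    have h1 : (⟨x, hxC⟩ : ↥C) ^ N.index ∈ N := Subgroup.pow_index_mem N _
    rw [hindex, hk] at h1
    have h2 : (⟨x, hxC⟩ : ↥C) ^ (orderOf x) ∈ N := by
      have : (⟨x, hxC⟩ : ↥C) ^ (orderOf x) = 1 := Subtype.ext (by simp [pow_orderOf_eq_one])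
      rw [this]; exact N.one_mem
    have hcop : Nat.Coprime (p ^ k) (orderOf x) := by
      apply Nat.Coprime.pow_left
      exact (Nat.Coprime.coprime_dvd_left (Subgroup.orderOf_dvd_natCard H hxH) hH).symm
    exact Cfsg.Agent.Helper54.FA.mem_of_pow_mem_coprime hcop h1 h2
  exact ⟨⟨x, hxC⟩, hNle hxN, rfl⟩

/-- Members of `И*_G(E; q)` are maximal `E`-invariant `q`-subgroups. -/
theorem isMaxInv_of_mem {G : Type*} [Group G] [Finite G] (q : ℕ) [hq : Fact q.Prime] (E Q : Subgroup G)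
    (hQ : Q ∈ Cfsg.maxInvSubgroups ⊤ E {q}) : IsMaxInv E q Q := by
  obtain ⟨⟨-, hQq, hQE⟩, hmax⟩ := hQ
  refine ⟨?_, fun b hb u hu => Cfsg.Agent.Helper24.conj_mem_of_mem_normalizer (hQE hb) hu, ?_⟩
  · have h0 : Nat.card Q ≠ 0 := Nat.card_pos.ne'
    have h1 := Nat.eq_prime_pow_of_unique_prime_dvd h0
      (fun {d} hd hdvd => Set.mem_singleton_iff.mp (hQq d hd hdvd))
    exact IsPGroup.of_card h1
  · intro R hRq hR hQR
    apply hmax R _ hQR
    refine ⟨le_top, ?_, hR.le_normalizer⟩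
    intro r hr hrd
    obtain ⟨k, hk⟩ := hRq.exists_card_eq
    rw [hk] at hrd
    exact Set.mem_singleton_iff.mpr ((Nat.prime_dvd_prime_iff_eq hr hq.out).mp (hr.dvd_of_dvd_pow hrd))

/-- Let G be a finite group and p a prime such that the normalizer of every nontrivial p-subgroup of G is p-constrained; if p = 2 assume also that the Sylow 2-subgroups of G have nilpotency class at most 2. Let E be an abelian p-subgroup containing an elementary abelian subgroup of order p ^ 3 and containing every element of p-power order of C_G(E). Then for every prime q ≠ p, any two maximal E-invariant q-subgroups of G are conjugate by an element of O_{p'}(C_G(E)). -/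
theorem result {G : Type*} [Group G] [Finite G] (p : ℕ) [Fact p.Prime]
    (hloc : ∀ T : Subgroup G, IsPGroup p T → T ≠ ⊥ → Cfsg.IsPConstrained p ↥(Subgroup.normalizer (T : Set G)))
    (h2 : p = 2 → ∀ S : Sylow p G, Group.IsNilpotent (S : Subgroup G) ∧ Group.nilpotencyClass (S : Subgroup G) ≤ 2)
    (E : Subgroup G) (hEp : IsPGroup p E) (hEc : IsMulCommutative E) (hE3 : ¬ Cfsg.PRankLE p 2 E)
    (hEfull : ∀ x ∈ Subgroup.centralizer (E : Set G), IsPGroup p (Subgroup.zpowers x) → x ∈ E)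
    (q : ℕ) [Fact q.Prime] (hqp : q ≠ p) :
    ∀ Q₁ ∈ Cfsg.maxInvSubgroups ⊤ E {q}, ∀ Q₂ ∈ Cfsg.maxInvSubgroups ⊤ E {q},
        ∃ k ∈ Cfsg.piCoreOf (Cfsg.primesNotDvd p) (Subgroup.centralizer (E : Set G)), Q₂ = Q₁.map (MulAut.conj k).toMonoidHom := by
  intro Q₁ hQ₁ Q₂ hQ₂
  have hp : p.Prime := Fact.out
  have hEc' : ∀ x ∈ E, ∀ y ∈ E, x * y = y * x := by
    intro x hx y hy
    have := hEc.is_comm.comm (⟨x, hx⟩ : ↥E) ⟨y, hy⟩
    exact congrArg Subtype.val this
  -- an elementary abelian subgroup of order at least `p ^ 3`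
  obtain ⟨E₀, hE₀, hE₀3, hE₀E⟩ : ∃ E₀ : Subgroup G, Cfsg.IsElementaryAbelian p E₀ ∧
      p ^ 3 ≤ Nat.card ↥E₀ ∧ E₀ ≤ E := by
    unfold Cfsg.PRankLE at hE3
    push Not at hE3
    obtain ⟨A, hAc, hAp, hAcard⟩ := hE3
    refine ⟨A.map E.subtype, ⟨?_, ?_⟩, ?_, Subgroup.map_subtype_le A⟩
    · refine ⟨⟨?_⟩⟩
      rintro ⟨_, x, hx, rfl⟩ ⟨_, y, hy, rfl⟩
      apply Subtype.ext
      have := hAc.is_comm.comm (⟨x, hx⟩ : ↥A) ⟨y, hy⟩
      have h3 := congrArg Subtype.val this
      show E.subtype x * E.subtype y = E.subtype y * E.subtype x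
      rw [← map_mul, ← map_mul]
      exact congrArg E.subtype h3
    · rintro _ ⟨x, hx, rfl⟩
      rw [← map_pow, hAp x hx, map_one]
    · rw [Subgroup.card_map_of_injective (Subgroup.subtype_injective E)]
      have hAP : IsPGroup p A := hEp.to_subgroup A
      obtain ⟨k, hk⟩ := hAP.exists_card_eq
      rw [hk] at hAcard ⊢
      have hk3 : 2 < k := (Nat.pow_lt_pow_iff_right hp.one_lt).mp hAcard
      exact Nat.pow_le_pow_right hp.pos hk3
  have hK := fun (H : Subgroup G) (hH : (Nat.card ↥H).Coprime p) (_ : AInv E H) =>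
    inf_centralizer_le_piCoreOf p E hEp hEc' hEfull H hH
  have hE₀ne : ∀ a ∈ E₀, a ∈ E := fun a ha => hE₀E ha
  obtain ⟨c, hcK, hc⟩ := transit p q hqp E hEp hEc' E₀ hE₀ hE₀3 hE₀E
    (fun a => Cfsg.centralizerPPrimeCore p a)
    (fun a _ _ => Cfsg.Agent.S1279.card_centralizerPPrimeCore_coprime p a)
    (fun a ha _ b hb u hu => by
      apply Cfsg.Agent.S1279.conj_mem_centralizerPPrimeCore p _ hu
      rw [Subgroup.mem_centralizer_singleton_iff]
      exact hEc' b hb a (hE₀E ha))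
    (fun a ha ha1 X hXq hX hXa =>
      Cfsg.Agent.Helper54.TB.le_theta_of_invariant hqp hloc h2 E hEp hEc' hEfull (hE₀E ha) ha1 X hXq
        hX.le_normalizer hXa)
    _ hK (isMaxInv_of_mem q E Q₁ hQ₁) (isMaxInv_of_mem q E Q₂ hQ₂)
  exact ⟨c, hcK, hc.symm⟩

end Cfsg.Agent.S1480
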