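import Cfsg.Statements.S0522
import Cfsg.Agent.S1480
import Cfsg.Agent.Helper54.PConstrained3
import Cfsg.Agent.Helper65.Cover

set_option autoImplicit false
set_option linter.style.haveILetI false
set_option linter.unusedVariables false
open Cfsg

namespace Cfsg.Agent.S0522

open Cfsg.Agent.Helper54

/-- If `B ≤ P` is normal in the Sylow `p`-subgroup `P` and `C_P(B) = B`, then `B` contains every `p`-element
of `C_G(B)`. -/
theorem mem_of_centralizes {X : Type*} [Group X] [Finite X] (p : ℕ) [Fact p.Prime] (P : Sylow p X)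
    (B : Subgroup X) (hBP : B ≤ (P : Subgroup X))
    (hBn : ∀ x ∈ (P : Subgroup X), ∀ b ∈ B, x * b * x⁻¹ ∈ B)
    (hBc : (P : Subgroup X) ⊓ Subgroup.centralizer (B : Set X) = B)
    {x : X} (hx : x ∈ Subgroup.centralizer (B : Set X)) (hxp : IsPGroup p (Subgroup.zpowers x)) :
    x ∈ B := by
  set M := Subgroup.normalizer (B : Set X) with hM
  have hPM : (P : Subgroup X) ≤ M := by
    intro g hg
    apply Subgroup.mem_normalizer_fintype
    intro b hb
    exact hBn g hg b hb
  have hxM : x ∈ M := (Subgroup.centralizer_le_normalizer _) hx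
  set PM : Sylow p ↥M := P.subtype hPM with hPMdef
  -- the `p`-subgroup `⟨x⟩` of `M`
  set R' : Subgroup ↥M := (Subgroup.zpowers x).subgroupOf M with hR'
  have hR'p : IsPGroup p R' := hxp.comap_subtype
  obtain ⟨Q, hQ⟩ := hR'p.exists_le_sylow
  obtain ⟨m, hm⟩ := MulAction.exists_smul_eq ↥M PM Q
  have hxQ : (⟨x, hxM⟩ : ↥M) ∈ (Q : Subgroup ↥M) := by
    apply hQ
    rw [hR', Subgroup.mem_subgroupOf]
    exact Subgroup.mem_zpowers x
  rw [← hm, Cfsg.Agent.Helper65.mem_smul_sylow_iff] at hxQ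
  have h1 : (m : X)⁻¹ * x * (m : X) ∈ (P : Subgroup X) := by
    have : m⁻¹ * (⟨x, hxM⟩ : ↥M) * m ∈ (P : Subgroup X).subgroupOf M := by
      rw [← Sylow.coe_subtype]; exact hxQ
    rw [Subgroup.mem_subgroupOf] at this
    simpa using this
  -- `m⁻¹ x m` centralizes `B`
  have h2 : (m : X)⁻¹ * x * (m : X) ∈ Subgroup.centralizer (B : Set X) := by
    rw [Subgroup.mem_centralizer_iff] at hx ⊢
    intro b hb
    have hb' : (m : X) * b * (m : X)⁻¹ ∈ B :=
      Cfsg.Agent.Helper24.conj_mem_of_mem_normalizer m.2 hb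
    have h3 := hx _ hb'
    calc b * ((m : X)⁻¹ * x * (m : X))
        = (m : X)⁻¹ * (((m : X) * b * (m : X)⁻¹) * x) * (m : X) := by group
      _ = (m : X)⁻¹ * (x * ((m : X) * b * (m : X)⁻¹)) * (m : X) := by rw [h3]
      _ = (m : X)⁻¹ * x * (m : X) * b := by group
  have h4 : (m : X)⁻¹ * x * (m : X) ∈ B := by
    rw [← hBc]; exact ⟨h1, h2⟩
  have h5 := Cfsg.Agent.Helper24.conj_mem_of_mem_normalizer m.2 h4
  have e : (m : X) * ((m : X)⁻¹ * x * (m : X)) * (m : X)⁻¹ = x := by group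
  rwa [e] at h5

/-- Transitivity Theorem (odd-order setting). Let X be a finite group of odd order in which the normalizer of every
nontrivial p-subgroup is solvable, P a Sylow p-subgroup, and B an abelian subgroup of P, normalized by P, with
C_P(B) = B and containing an elementary abelian subgroup of order p^3. Then for every prime q ≠ p, any two q-subgroups
that are maximal among the q-subgroups normalized by B are conjugate by an element of the centralizer of B. -/
theorem result {X : Type*} [Group X] [Finite X] (hX : Odd (Nat.card X)) (p : ℕ)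
    [Fact p.Prime] (hloc : ∀ T : Subgroup X, IsPGroup p T → T ≠ ⊥ → Group.IsSolvable (Subgroup.normalizer (T : Set X)))
    (P : Sylow p X) (B : Subgroup X) (hBP : B ≤ (P : Subgroup X))
    (hBn : ∀ x ∈ (P : Subgroup X), ∀ b ∈ B, x * b * x⁻¹ ∈ B) (hBa : IsMulCommutative B)
    (hBc : (P : Subgroup X) ⊓ Subgroup.centralizer (B : Set X) = B)
    (hB3 : ∃ E : Subgroup X, E ≤ B ∧ (∀ e ∈ E, e ^ p = 1) ∧ p ^ 3 ≤ Nat.card E)
    (q : ℕ) [Fact q.Prime] (hqp : q ≠ p) (Q₁ Q₂ : Subgroup X)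
    (h₁ : IsPGroup q Q₁ ∧ B ≤ Subgroup.normalizer (Q₁ : Set X) ∧
      ∀ R : Subgroup X, IsPGroup q R → B ≤ Subgroup.normalizer (R : Set X) → Q₁ ≤ R → R = Q₁)
    (h₂ : IsPGroup q Q₂ ∧ B ≤ Subgroup.normalizer (Q₂ : Set X) ∧
      ∀ R : Subgroup X, IsPGroup q R → B ≤ Subgroup.normalizer (R : Set X) → Q₂ ≤ R → R = Q₂) :
    ∃ c ∈ Subgroup.centralizer (B : Set X), Q₂ = Q₁.map (MulAut.conj c).toMonoidHom := by
  have hp : p.Prime := Fact.out
  have hq : q.Prime := Fact.out
  have hBp : IsPGroup p B := P.isPGroup'.to_le hBP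
  have hloc' : ∀ T : Subgroup X, IsPGroup p T → T ≠ ⊥ →
      Cfsg.IsPConstrained p ↥(Subgroup.normalizer (T : Set X)) := by
    intro T hT hTne
    haveI := hloc T hT hTne
    exact isPConstrained_of_isSolvable
  have h2 : p = 2 → ∀ S : Sylow p X, Group.IsNilpotent (S : Subgroup X) ∧
      Group.nilpotencyClass (S : Subgroup X) ≤ 2 := by
    intro hp2 S
    haveI : Group.IsNilpotent (S : Subgroup X) := S.isPGroup'.isNilpotent
    refine ⟨inferInstance, ?_⟩
    obtain ⟨k, hk⟩ := S.isPGroup'.exists_card_eq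
    have hdvd : Nat.card (S : Subgroup X) ∣ Nat.card X := Subgroup.card_subgroup_dvd_card _
    have hk0 : k = 0 := by
      by_contra hk0
      have h2dvd : 2 ∣ Nat.card X := by
        refine dvd_trans ?_ hdvd
        rw [hk, hp2]
        exact dvd_pow_self 2 hk0
      exact (Nat.not_even_iff_odd.mpr hX) (even_iff_two_dvd.mpr h2dvd)
    rw [hk0, pow_zero] at hk
    haveI : Subsingleton (S : Subgroup X) := (Nat.card_eq_one_iff_unique.mp hk).1
    have : Group.nilpotencyClass (S : Subgroup X) = 0 := Group.nilpotencyClass_zero_iff_subsingleton.mpr inferInstance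
    omega
  have hE3 : ¬ Cfsg.PRankLE p 2 B := by
    obtain ⟨E, hEB, hEp, hEcard⟩ := hB3
    intro hrank
    have h1 := hrank (E.subgroupOf B)
      ⟨⟨fun a b => Subtype.ext (hBa.is_comm.comm (a : ↥B) (b : ↥B))⟩⟩
      (fun a ha => by
        rw [Subgroup.mem_subgroupOf] at ha
        exact Subtype.ext (by simpa using hEp _ ha))
    have h3 : Nat.card (E.subgroupOf B) = Nat.card E :=
      Nat.card_congr (Subgroup.subgroupOfEquivOfLe hEB).toEquiv
    rw [h3] at h1
    have : p ^ 2 < p ^ 3 := Nat.pow_lt_pow_right hp.one_lt (by norm_num)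
    omega
  have hmem : ∀ Q : Subgroup X, (IsPGroup q Q ∧ B ≤ Subgroup.normalizer (Q : Set X) ∧
      ∀ R : Subgroup X, IsPGroup q R → B ≤ Subgroup.normalizer (R : Set X) → Q ≤ R → R = Q) →
      Q ∈ Cfsg.maxInvSubgroups ⊤ B {q} := by
    rintro Q ⟨hQq, hQB, hQmax⟩
    refine ⟨⟨le_top, ?_, hQB⟩, ?_⟩
    · intro r hr hrd
      obtain ⟨k, hk⟩ := hQq.exists_card_eq
      rw [hk] at hrd
      exact Set.mem_singleton_iff.mpr ((Nat.prime_dvd_prime_iff_eq hr hq).mp (hr.dvd_of_dvd_pow hrd))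
    · rintro R ⟨-, hRq, hRB⟩ hQR
      apply hQmax R _ hRB hQR
      have h0 : Nat.card R ≠ 0 := Nat.card_pos.ne'
      have h1 := Nat.eq_prime_pow_of_unique_prime_dvd h0
        (fun {d} hd hdvd => Set.mem_singleton_iff.mp (hRq d hd hdvd))
      exact IsPGroup.of_card h1
  obtain ⟨k, hk, hkeq⟩ := Cfsg.Agent.S1480.result p hloc' h2 B hBp hBa hE3
    (fun x hx hxp => mem_of_centralizes p P B hBP hBn hBc hx hxp) q hqp Q₁ (hmem Q₁ h₁) Q₂ (hmem Q₂ h₂)
  refine ⟨k, ?_, hkeq⟩
  obtain ⟨y, -, rfl⟩ := hk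
  exact y.2

end Cfsg.Agent.S0522
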