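import Cfsg.Statements.S1396
import Cfsg.Agent.Helper54.ThompsonC
import Cfsg.Agent.Helper54.PConstrained3
import Cfsg.Agent.S0522

set_option autoImplicit false
set_option linter.style.haveILetI false
set_option linter.unusedVariables false
open Cfsg

namespace Cfsg.Agent.S1396

open Cfsg.Agent.Helper54

/-- Let G be a minimal simple group of odd order, p a prime dividing the order of G and A an abelian p-subgroup. Suppose either (1) A consists exactly of the elements x of C_G(A) with x^p = 1, and every proper subgroup of G has p-length at most one, or (2) A is normal and self-centralizing in some Sylow p-subgroup of G and has rank at least 2. Then A satisfies the transitivity hypothesis. -/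
theorem result {G : Type*} [Group G] [Finite G] (hG : Cfsg.IsMinSimpleOddOrder G)
    (p : ℕ) [Fact p.Prime] (hp : p ∣ Nat.card G) (A : Subgroup G) (hAp : IsPGroup p A) (hAc : IsMulCommutative A)
    (h : (∀ x ∈ Subgroup.centralizer (A : Set G), x ^ p = 1 ↔ x ∈ A) ∧ (∀ H : Subgroup G, H ≠ ⊤ → Cfsg.PLengthLE p 1 H) ∨
      ∃ P : Sylow p G, Cfsg.IsSCN (P : Subgroup G) A ∧ ¬ Cfsg.PRankLE p 1 A) :
    Cfsg.TransitivityHypothesis A := by
  obtain ⟨hodd, hsimple, hnonab, hsolv⟩ := hG
  have hpp : p.Prime := Fact.out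
  have hp2 : p ≠ 2 := by
    rintro rfl
    exact (Nat.not_even_iff_odd.mpr hodd) (even_iff_two_dvd.mpr hp)
  have hAc' : ∀ x ∈ A, ∀ y ∈ A, x * y = y * x := by
    intro x hx y hy
    exact congrArg Subtype.val (hAc.is_comm.comm (⟨x, hx⟩ : ↥A) ⟨y, hy⟩)
  have hAtop : A ≠ ⊤ := by
    rintro rfl
    apply hnonab
    exact ⟨⟨fun a b => hAc' a (Subgroup.mem_top a) b (Subgroup.mem_top b)⟩⟩
  have hAbot : A ≠ ⊥ := by
    rcases h with ⟨h1, -⟩ | ⟨P, -, hrank⟩
    · rintro rfl
      obtain ⟨g, hg⟩ := exists_prime_orderOf_dvd_card' p hp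
      have hgC : g ∈ Subgroup.centralizer (((⊥ : Subgroup G) : Subgroup G) : Set G) := by
        rw [Subgroup.mem_centralizer_iff]
        intro x hx
        rw [SetLike.mem_coe, Subgroup.mem_bot] at hx
        rw [hx, one_mul, mul_one]
      have h2 : g ∈ (⊥ : Subgroup G) := (h1 g hgC).mp (by rw [← hg, pow_orderOf_eq_one])
      rw [Subgroup.mem_bot] at h2
      rw [h2, orderOf_one] at hg
      exact hpp.one_lt.ne hg
    · rintro rfl
      apply hrank
      intro B _ _
      have h1 : Nat.card B ≤ Nat.card (⊥ : Subgroup G) := Subgroup.card_le_card_group B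
      rw [Subgroup.card_bot] at h1
      have := hpp.one_lt
      rw [pow_one]; omega
  refine ⟨hAbot, hAtop, ?_⟩
  intro X hX hAX
  -- `#A = p ^ k`, `k ≥ 1`
  obtain ⟨k, hk⟩ := hAp.exists_card_eq
  have hk0 : k ≠ 0 := by
    rintro rfl
    rw [pow_zero] at hk
    exact hAbot ((Subgroup.card_eq_one).mp hk)
  have hπ : ∀ r : ℕ, r ∈ Cfsg.primesNotDvd (Nat.card A) ↔ r.Prime ∧ r ≠ p := by
    intro r
    unfold Cfsg.primesNotDvd
    rw [Set.mem_ofPred_eq, hk]
    constructor
    · rintro ⟨hr, hnd⟩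
      refine ⟨hr, ?_⟩
      rintro rfl
      exact hnd (dvd_pow_self r hk0)
    · rintro ⟨hr, hne⟩
      refine ⟨hr, fun hd => hne ?_⟩
      exact (Nat.prime_dvd_prime_iff_eq hr hpp).mp (hr.dvd_of_dvd_pow hd)
  have hcopiff : ∀ n : ℕ, n ≠ 0 → ((∀ r : ℕ, r.Prime → r ∣ n → r ∈ Cfsg.primesNotDvd (Nat.card A)) ↔
      n.Coprime p) := by
    intro n hn
    constructor
    · intro hall
      rw [Nat.coprime_comm, hpp.coprime_iff_not_dvd]
      intro hd
      exact ((hπ p).mp (hall p hpp hd)).2 rfl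
    · intro hcop r hr hd
      rw [hπ]
      refine ⟨hr, ?_⟩
      rintro rfl
      exact (hr.coprime_iff_not_dvd.mp hcop.symm) hd
  haveI : Group.IsSolvable ↥X := hsolv X hX
  have hL : Cfsg.IsPConstrained p ↥X := isPConstrained_of_isSolvable
  have hcore : Cfsg.piCore (Cfsg.primesNotDvd (Nat.card A)) ↥X = Cfsg.pPrimeCore p ↥X := by
    unfold Cfsg.piCore Cfsg.pPrimeCore
    congr 1
    ext N
    simp only [Set.mem_ofPred_eq]
    constructor
    · rintro ⟨hN, h1⟩
      exact ⟨hN, (hcopiff _ Nat.card_pos.ne').mp h1⟩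
    · rintro ⟨hN, h1⟩
      exact ⟨hN, (hcopiff _ Nat.card_pos.ne').mpr h1⟩
  -- the key inclusion
  have hkey : ∀ Y ∈ Cfsg.invSubgroups X A (Cfsg.primesNotDvd (Nat.card A)),
      Y ≤ (Cfsg.pPrimeCore p ↥X).map X.subtype := by
    rintro Y ⟨hYX, hYπ, hAY⟩
    have hYcop : (Nat.card Y).Coprime p := (hcopiff _ Nat.card_pos.ne').mp hYπ
    have hY'cop : (Nat.card (Y.subgroupOf X)).Coprime p := by
      rw [Nat.card_congr (Subgroup.subgroupOfEquivOfLe hYX).toEquiv]; exact hYcop
    have hAY' : A.subgroupOf X ≤ Subgroup.normalizer ((Y.subgroupOf X : Subgroup ↥X) : Set ↥X) := by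
      intro e he
      rw [Subgroup.mem_subgroupOf] at he
      have h1 := hAY he
      rw [Subgroup.mem_normalizer_iff] at h1 ⊢
      intro y
      rw [Subgroup.mem_subgroupOf, Subgroup.mem_subgroupOf]
      have := h1 (y : G)
      simpa using this
    have hcent : ∀ z : ↥X, z ∈ Subgroup.centralizer ((A.subgroupOf X : Subgroup ↥X) : Set ↥X) →
        (z : G) ∈ Subgroup.centralizer (A : Set G) := by
      intro z hz
      rw [Subgroup.mem_centralizer_iff] at hz ⊢
      intro e he
      have := hz ⟨e, hAX he⟩ (show (⟨e, hAX he⟩ : ↥X) ∈ A.subgroupOf X from he)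
      exact congrArg Subtype.val this
    have hle : Y.subgroupOf X ≤ Cfsg.pPrimeCore p ↥X := by
      rcases h with ⟨h1, hlen⟩ | ⟨P, hSCN, -⟩
      · apply TC.le_pPrimeCore_of_invariant_omega hp2 hL (hlen X hX) (A.subgroupOf X)
          hAp.comap_subtype _ _ hY'cop hAY'
        intro z hz hzp
        rw [Subgroup.mem_subgroupOf]
        apply (h1 (z : G) (hcent z hz)).mp
        have := congrArg Subtype.val hzp
        simpa using this
      · obtain ⟨hAP, hPA, hPC⟩ := hSCN
        apply TC.le_pPrimeCore_of_invariant_coprime hL (A.subgroupOf X) hAp.comap_subtype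
          (fun x hx y hy => Subtype.ext (hAc' x hx y hy)) _ (fun h2 => absurd h2 hp2) _ hY'cop hAY'
        intro z hz hzp
        obtain ⟨j, hj⟩ := hzp
        rw [Subgroup.mem_subgroupOf]
        apply Cfsg.Agent.S0522.mem_of_centralizes p P A hAP
          (fun x hx b hb => Cfsg.Agent.Helper24.conj_mem_of_mem_normalizer (hPA hx) hb) hPC
          (hcent z hz)
        apply TB.isPGroup_zpowers_of_pow (k := j)
        have := congrArg Subtype.val hj
        simpa using this
    intro y hy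
    exact ⟨⟨y, hYX hy⟩, hle (show (⟨y, hYX hy⟩ : ↥X) ∈ Y.subgroupOf X from hy), rfl⟩
  unfold Cfsg.piCoreOf
  rw [hcore]
  apply le_antisymm
  · exact sSup_le hkey
  · apply le_sSup
    refine ⟨Subgroup.map_subtype_le _, ?_, ?_⟩
    · apply (hcopiff _ Nat.card_pos.ne').mpr
      rw [Subgroup.card_map_of_injective (Subgroup.subtype_injective X)]
      exact Cfsg.Agent.Lib.card_pPrimeCore_coprime p
    · intro a ha
      apply Subgroup.mem_normalizer_fintype
      rintro _ ⟨m, hm, rfl⟩
      have hN : (Cfsg.pPrimeCore p ↥X).Normal := inferInstance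
      exact ⟨⟨a, hAX ha⟩ * m * ⟨a, hAX ha⟩⁻¹, hN.conj_mem m hm _, rfl⟩

end Cfsg.Agent.S1396
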