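import Cfsg.Statements.S1461
import Cfsg.Agent.Helper54.PLength
import Cfsg.Agent.Helper22.Coprime
import Cfsg.Agent.Helper65.Cover

set_option autoImplicit false
open Cfsg

namespace Cfsg.Agent.S1461

open Cfsg.Agent.Helper54

variable {G : Type*} [Group G]

/-- `k ∈ K` (a normal `p'`-subgroup) conjugating `y ∈ S` into the `p`-subgroup `S` commutes with `y`. -/
theorem commute_of_conj_mem [Finite G] {p : ℕ} [hp : Fact p.Prime] {K S : Subgroup G} [hK : K.Normal]
    (hKc : (Nat.card K).Coprime p) (hS : IsPGroup p S) {k y : G} (hk : k ∈ K) (hy : y ∈ S)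
    (hky : k * y * k⁻¹ ∈ S) : k * y = y * k := by
  have h1 : k * y * k⁻¹ * y⁻¹ ∈ K := by
    have h2 : y * k⁻¹ * y⁻¹ ∈ K := hK.conj_mem _ (K.inv_mem hk) y
    have h3 := K.mul_mem hk h2
    have h4 : k * (y * k⁻¹ * y⁻¹) = k * y * k⁻¹ * y⁻¹ := by group
    rw [h4] at h3; exact h3
  have h2 : k * y * k⁻¹ * y⁻¹ ∈ S := S.mul_mem hky (S.inv_mem hy)
  have h3 : k * y * k⁻¹ * y⁻¹ = 1 :=
    Cfsg.Agent.Helper49.eq_one_of_mem_pGroup_of_coprime hS h2 (orderOf_coprime_of_mem hKc h1)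
  have h4 := mul_inv_eq_one.mp h3
  exact mul_inv_eq_iff_eq_mul.mp h4

/-- Let G be a finite solvable group, p a prime with G = O_{p',p,p'}(G), and S a Sylow p-subgroup. Then: if S ≤ G' then S ≤ [N_G(S), N_G(S)]; if Y ⊆ S and xYx⁻¹ ⊆ S then x = g c for some g ∈ N_G(S) and c centralizing Y; and for every p-subgroup Q there is x ∈ C_G(Q ∩ S) with xQx⁻¹ ≤ S. -/
theorem result {G : Type*} [Group G] [Finite G] [Group.IsSolvable G] (p : ℕ) [Fact p.Prime] (hpl : Cfsg.PLengthLE p 1 G) (S : Sylow p G) :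
    ((S : Subgroup G) ≤ commutator G → (S : Subgroup G) ≤ ⁅Subgroup.normalizer ((S : Subgroup G) : Set G), Subgroup.normalizer ((S : Subgroup G) : Set G)⁆) ∧
      (∀ (Y : Set G) (x : G), Y ⊆ (S : Subgroup G) → (fun y => x * y * x⁻¹) '' Y ⊆ (S : Subgroup G) →
        ∃ g ∈ Subgroup.normalizer ((S : Subgroup G) : Set G), ∃ c ∈ Subgroup.centralizer Y, g * c = x) ∧
      ∀ Q : Subgroup G, IsPGroup p Q → ∃ x ∈ Subgroup.centralizer ((Q ⊓ (S : Subgroup G) : Subgroup G) : Set G), Q.map (MulAut.conj x).toMonoidHom ≤ (S : Subgroup G) := by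
  have hKc : (Nat.card (pPrimeCore p G)).Coprime p := Cfsg.Agent.Lib.card_pPrimeCore_coprime p
  have hKn : (pPrimeCore p G).Normal := inferInstance
  have hSp : IsPGroup p (S : Subgroup G) := S.isPGroup'
  have hNS : ∀ n ∈ Subgroup.normalizer ((S : Subgroup G) : Set G), ∀ y : G,
      y ∈ (S : Subgroup G) ↔ n * y * n⁻¹ ∈ (S : Subgroup G) :=
    fun n hn y => Subgroup.mem_normalizer_iff.mp hn y
  refine ⟨?_, ?_, ?_⟩
  · -- (a)
    intro hSG s hs
    have hsG : s ∈ commutator G := hSG hs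
    -- `π(G') = π(N')`
    have hmap : (commutator G).map (QuotientGroup.mk' (pPrimeCore p G)) =
        (⁅Subgroup.normalizer ((S : Subgroup G) : Set G),
          Subgroup.normalizer ((S : Subgroup G) : Set G)⁆).map
          (QuotientGroup.mk' (pPrimeCore p G)) := by
      have h1 : (Subgroup.normalizer ((S : Subgroup G) : Set G)).map
          (QuotientGroup.mk' (pPrimeCore p G)) = (⊤ : Subgroup G).map
          (QuotientGroup.mk' (pPrimeCore p G)) := by
        rw [← normalizer_sup_pPrimeCore_eq_top hpl S, Subgroup.map_sup]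
        have h2 : (pPrimeCore p G).map (QuotientGroup.mk' (pPrimeCore p G)) = ⊥ := by
          rw [Subgroup.map_eq_bot_iff, QuotientGroup.ker_mk']
        rw [h2, sup_bot_eq]
      rw [commutator_def, Subgroup.map_commutator, Subgroup.map_commutator, h1]
    have h3 : QuotientGroup.mk' (pPrimeCore p G) s ∈
        (⁅Subgroup.normalizer ((S : Subgroup G) : Set G),
          Subgroup.normalizer ((S : Subgroup G) : Set G)⁆).map
          (QuotientGroup.mk' (pPrimeCore p G)) := by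
      rw [← hmap]; exact Subgroup.mem_map_of_mem _ hsG
    obtain ⟨n', hn', hn's⟩ := h3
    have hn'N : n' ∈ Subgroup.normalizer ((S : Subgroup G) : Set G) := by
      have hle : ⁅Subgroup.normalizer ((S : Subgroup G) : Set G),
          Subgroup.normalizer ((S : Subgroup G) : Set G)⁆ ≤
          Subgroup.normalizer ((S : Subgroup G) : Set G) := by
        rw [Subgroup.commutator_le]
        intro a ha b hb
        exact Subgroup.mul_mem _ (Subgroup.mul_mem _ (Subgroup.mul_mem _ ha hb)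
          (Subgroup.inv_mem _ ha)) (Subgroup.inv_mem _ hb)
      exact hle hn'
    -- `k = n'⁻¹ s ∈ K ∩ N`
    obtain ⟨k, hkdef⟩ : ∃ k : G, k = n'⁻¹ * s := ⟨_, rfl⟩
    have hkK : k ∈ pPrimeCore p G := by
      have : QuotientGroup.mk' (pPrimeCore p G) k = 1 := by
        rw [hkdef, map_mul, map_inv, hn's, inv_mul_cancel]
      rwa [QuotientGroup.mk'_apply, QuotientGroup.eq_one_iff] at this
    have hsN : s ∈ Subgroup.normalizer ((S : Subgroup G) : Set G) := Subgroup.le_normalizer hs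
    have hkN : k ∈ Subgroup.normalizer ((S : Subgroup G) : Set G) := by
      rw [hkdef]
      exact Subgroup.mul_mem _ (Subgroup.inv_mem _ hn'N) hsN
    -- `k` commutes with `s`
    have hks : k * s = s * k :=
      commute_of_conj_mem hKc hSp hkK hs ((hNS _ hkN s).mp hs)
    -- hence with `n' = s k⁻¹`
    have hn'eq : n' = s * k⁻¹ := by rw [hkdef]; group
    have hkn : Commute n' k := by
      have h5 : Commute s k := hks.symm
      rw [hn'eq]
      exact (h5.mul_left (Commute.refl k).inv_left)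
    -- `s ^ m = n' ^ m`
    have hsm : s ^ Nat.card (pPrimeCore p G) = n' ^ Nat.card (pPrimeCore p G) := by
      have h4 : s = n' * k := by rw [hkdef]; group
      conv_lhs => rw [h4]
      rw [hkn.mul_pow]
      have h5 : k ^ Nat.card (pPrimeCore p G) = 1 := by
        have := pow_card_eq_one' (G := ↥(pPrimeCore p G)) (x := ⟨k, hkK⟩)
        exact congrArg Subtype.val this
      rw [h5, mul_one]
    have hcop : (Nat.card (pPrimeCore p G)).Coprime (orderOf s) := by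
      obtain ⟨j, hj⟩ := hSp ⟨s, hs⟩
      have h6 : s ^ p ^ j = 1 := by
        have := congrArg Subtype.val hj
        simpa using this
      have h7 : orderOf s ∣ p ^ j := orderOf_dvd_of_pow_eq_one h6
      exact Nat.Coprime.coprime_dvd_right h7 (Nat.Coprime.pow_right j hKc)
    obtain ⟨j, hj⟩ := exists_pow_eq_self_of_coprime hcop
    rw [← hj, hsm]
    exact Subgroup.pow_mem _ (Subgroup.pow_mem _ hn' _) _
  · -- (b)
    intro Y x hY hxY
    obtain ⟨n, hn, k, hk, rfl⟩ := exists_mul_of_pLengthLE_one' hpl S x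
    refine ⟨n, hn, k, ?_, rfl⟩
    rw [Subgroup.mem_centralizer_iff]
    intro y hy
    have h1 : n * k * y * (n * k)⁻¹ ∈ (S : Subgroup G) := hxY ⟨y, hy, rfl⟩
    have h2 : n * (k * y * k⁻¹) * n⁻¹ ∈ (S : Subgroup G) := by
      have : n * (k * y * k⁻¹) * n⁻¹ = n * k * y * (n * k)⁻¹ := by group
      rw [this]; exact h1
    have h3 : k * y * k⁻¹ ∈ (S : Subgroup G) := (hNS n hn _).mpr h2
    exact (commute_of_conj_mem hKc hSp hk (hY hy) h3).symm
  · -- (c)
    intro Q hQ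
    -- Sylow: `Q ≤ g S g⁻¹`, and `g = k n`
    obtain ⟨P, hQP⟩ := hQ.exists_le_sylow
    obtain ⟨g, hg⟩ := MulAction.exists_smul_eq G S P
    obtain ⟨k, hk, n, hn, rfl⟩ := exists_mul_of_pLengthLE_one hpl S g
    have hk0 : ∀ q ∈ Q, k⁻¹ * q * k ∈ (S : Subgroup G) := by
      intro q hq
      have h1 : q ∈ (((k * n) • S : Sylow p G) : Subgroup G) := by rw [hg]; exact hQP hq
      rw [Cfsg.Agent.Helper65.mem_smul_sylow_iff] at h1
      have h2 : n⁻¹ * (k⁻¹ * q * k) * n⁻¹⁻¹ ∈ (S : Subgroup G) := by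
        have : n⁻¹ * (k⁻¹ * q * k) * n⁻¹⁻¹ = (k * n)⁻¹ * q * (k * n) := by group
        rw [this]; exact h1
      exact (hNS n⁻¹ (Subgroup.inv_mem _ hn) _).mpr h2
    obtain ⟨k₀, hk₀K, hk₀⟩ : ∃ k₀ ∈ pPrimeCore p G, ∀ q ∈ Q, k₀ * q * k₀⁻¹ ∈ (S : Subgroup G) := by
      refine ⟨k⁻¹, Subgroup.inv_mem _ hk, ?_⟩
      intro q hq
      rw [inv_inv]; exact hk0 q hq
    have hH : ¬ p ∣ Nat.card ↥(pPrimeCore p G ⊓ Subgroup.centralizer (Q : Set G)) := by
      intro hdvd
      have h1 : p ∣ Nat.card ↥(pPrimeCore p G) :=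
        hdvd.trans (Subgroup.card_dvd_of_le inf_le_left)
      have hp : p.Prime := Fact.out
      exact hp.one_lt.ne' (Nat.eq_one_of_dvd_coprimes hKc.symm dvd_rfl h1)
    have hR : IsPGroup p ↥(Q ⊓ (S : Subgroup G)) := hQ.to_inf_left
    have hinv : ∀ z ∈ Q ⊓ (S : Subgroup G),
        ∀ h ∈ pPrimeCore p G ⊓ Subgroup.centralizer (Q : Set G),
        k₀⁻¹ * (z * (k₀ * h) * z⁻¹) ∈ pPrimeCore p G ⊓ Subgroup.centralizer (Q : Set G) := by
      intro z hz h hh
      obtain ⟨hzQ, hzS⟩ := Subgroup.mem_inf.mp hz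
      obtain ⟨hhK, hhQ⟩ := Subgroup.mem_inf.mp hh
      obtain ⟨k', hk'def⟩ : ∃ k' : G, k' = z * (k₀ * h) * z⁻¹ := ⟨_, rfl⟩
      rw [← hk'def]
      have hk'K : k' ∈ pPrimeCore p G := by
        rw [hk'def]
        exact hKn.conj_mem _ (Subgroup.mul_mem _ hk₀K hhK) z
      have hk'q : ∀ q ∈ Q, k' * q * k'⁻¹ ∈ (S : Subgroup G) := by
        intro q hq
        have hq' : z⁻¹ * q * z ∈ Q := Q.mul_mem (Q.mul_mem (Q.inv_mem hzQ) hq) hzQ
        have h1 : (z⁻¹ * q * z) * h = h * (z⁻¹ * q * z) :=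
          (Subgroup.mem_centralizer_iff.mp hhQ) _ hq'
        have h2 : h * (z⁻¹ * q * z) * h⁻¹ = z⁻¹ * q * z := by
          rw [← h1]; group
        have h3 : k' * q * k'⁻¹ = z * (k₀ * (h * (z⁻¹ * q * z) * h⁻¹) * k₀⁻¹) * z⁻¹ := by
          rw [hk'def]; group
        rw [h3, h2]
        have h4 := hk₀ _ hq'
        exact Subgroup.mul_mem _ (Subgroup.mul_mem _ hzS h4) (Subgroup.inv_mem _ hzS)
      refine Subgroup.mem_inf.mpr ⟨Subgroup.mul_mem _ (Subgroup.inv_mem _ hk₀K) hk'K, ?_⟩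
      rw [Subgroup.mem_centralizer_iff]
      intro q hq
      have hw : k' * k₀⁻¹ ∈ pPrimeCore p G := Subgroup.mul_mem _ hk'K (Subgroup.inv_mem _ hk₀K)
      have hy : k₀ * q * k₀⁻¹ ∈ (S : Subgroup G) := hk₀ q hq
      have hwy : (k' * k₀⁻¹) * (k₀ * q * k₀⁻¹) * (k' * k₀⁻¹)⁻¹ ∈ (S : Subgroup G) := by
        have : (k' * k₀⁻¹) * (k₀ * q * k₀⁻¹) * (k' * k₀⁻¹)⁻¹ = k' * q * k'⁻¹ := by group
        rw [this]; exact hk'q q hq
      have hc := commute_of_conj_mem hKc hSp hw hy hwy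
      -- `k' k₀⁻¹ (k₀ q k₀⁻¹) = (k₀ q k₀⁻¹) k' k₀⁻¹`
      calc q * (k₀⁻¹ * k') = k₀⁻¹ * ((k₀ * q * k₀⁻¹) * (k' * k₀⁻¹)) * k₀ := by group
        _ = k₀⁻¹ * ((k' * k₀⁻¹) * (k₀ * q * k₀⁻¹)) * k₀ := by rw [hc]
        _ = k₀⁻¹ * k' * q := by group
    obtain ⟨h, hh, hfix⟩ := Cfsg.Agent.Helper22.exists_fixed_in_coset p (Q ⊓ (S : Subgroup G))
      (pPrimeCore p G ⊓ Subgroup.centralizer (Q : Set G)) hR hH k₀ hinv
    obtain ⟨_, hhQ⟩ := Subgroup.mem_inf.mp hh
    refine ⟨k₀ * h, ?_, ?_⟩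
    · rw [Subgroup.mem_centralizer_iff]
      intro z hz
      have h1 := hfix z hz
      calc z * (k₀ * h) = (z * (k₀ * h) * z⁻¹) * z := by group
        _ = k₀ * h * z := by rw [h1]
    · rintro _ ⟨q, hq, rfl⟩
      show (k₀ * h) * q * (k₀ * h)⁻¹ ∈ (S : Subgroup G)
      have h1 : q * h = h * q := (Subgroup.mem_centralizer_iff.mp hhQ) q hq
      have h2 : (k₀ * h) * q * (k₀ * h)⁻¹ = k₀ * (h * q * h⁻¹) * k₀⁻¹ := by group
      have h3 : h * q * h⁻¹ = q := by rw [← h1]; group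
      rw [h2, h3]
      exact hk₀ q hq

end Cfsg.Agent.S1461
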