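-- S0130: Alperin's theorem on maximal normal abelian subgroups of exponent dividing p^n (helper52).
import Cfsg.Statements.S0130
import Cfsg.Agent.Helper52.PGroupLemmas
import Cfsg.Agent.Helper52.ClassTwo

set_option autoImplicit false
open Cfsg

namespace Cfsg.Agent.S0130

open Cfsg.Agent.Helper52
open scoped commutatorElement

/-- `p ∣ C(p^n, 2)` unless `p^n ∈ {1, 2}`. -/
theorem prime_dvd_choose_two {p : ℕ} (hp : p.Prime) {n : ℕ} (hn1 : 1 ≤ n) (hn : p ^ n ≠ 2) :
    p ∣ p ^ n * (p ^ n - 1) / 2 := by
  rcases eq_or_ne p 2 with rfl | hp2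
  · have hn2 : 2 ≤ n := by
      rcases Nat.lt_or_ge n 2 with h | h
      · interval_cases n; simp at hn
      · exact h
    obtain ⟨m, rfl⟩ : ∃ m, n = m + 2 := ⟨n - 2, by omega⟩
    have h2 : 2 ^ (m + 2) * (2 ^ (m + 2) - 1) / 2 = 2 * (2 ^ m * (2 ^ (m + 2) - 1)) := by
      have : 2 ^ (m + 2) * (2 ^ (m + 2) - 1) = 2 * (2 * (2 ^ m * (2 ^ (m + 2) - 1))) := by
        rw [pow_add]; ring
      rw [this, Nat.mul_div_cancel_left _ (by norm_num)]
    rw [h2]; exact dvd_mul_right _ _
  · have hodd : Odd p := hp.odd_of_ne_two hp2
    have hodd' : Odd (p ^ n) := hodd.pow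
    obtain ⟨k, hk⟩ := hodd'
    have h1 : p ^ n - 1 = 2 * k := by omega
    rw [h1, ← mul_assoc, mul_comm (p ^ n) 2, mul_assoc, Nat.mul_div_cancel_left _ (by norm_num)]
    exact Dvd.dvd.mul_right (dvd_pow_self p (by omega)) _

/-- If `x` centralizes `A`, has `x^N = 1`, and is central modulo `A`, then maximality forces `x ∈ A`. -/
theorem mem_of_central_image {G : Type*} [Group G] {N : ℕ} (A : Subgroup G) [A.Normal]
    (hA : IsMulCommutative A) (hAe : ∀ a ∈ A, a ^ N = 1)
    (hmax : ∀ B : Subgroup G, B.Normal → IsMulCommutative B → (∀ b ∈ B, b ^ N = 1) → A ≤ B → B = A)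
    (x : G) (hx : x ∈ Subgroup.centralizer (A : Set G)) (hxn : x ^ N = 1)
    (hxc : QuotientGroup.mk' A x ∈ Subgroup.center (G ⧸ A)) : x ∈ A := by
  classical
  let π := QuotientGroup.mk' A
  have hZn : (Subgroup.zpowers (π x)).Normal :=
    normal_of_le_center (by rw [Subgroup.zpowers_le]; exact hxc)
  set B' : Subgroup G := (Subgroup.zpowers (π x)).comap π with hB'
  have hB'n : B'.Normal := hZn.comap π
  have hAB' : A ≤ B' := by
    intro b hb
    rw [hB', Subgroup.mem_comap]
    have : π b = 1 := (QuotientGroup.eq_one_iff b).mpr hb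
    rw [this]; exact one_mem _
  have hdecomp : ∀ y ∈ B', ∃ a ∈ A, ∃ k : ℤ, y = a * x ^ k := by
    intro y hy
    rw [hB', Subgroup.mem_comap] at hy
    obtain ⟨k, hk⟩ := Subgroup.mem_zpowers_iff.mp hy
    refine ⟨y * (x ^ k)⁻¹, ?_, k, by group⟩
    rw [← QuotientGroup.eq_one_iff (N := A)]
    change π (y * (x ^ k)⁻¹) = 1
    rw [map_mul, map_inv, map_zpow, hk]; group
  have hccomm : ∀ a ∈ A, a * x = x * a := fun a ha => (Subgroup.mem_centralizer_iff.mp hx) a ha
  have hak : ∀ (a : G), a ∈ A → ∀ k : ℤ, a * x ^ k = x ^ k * a := by
    intro a ha k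
    exact ((Commute.zpow_right (hccomm a ha) k)).eq
  have hB'comm : IsMulCommutative B' := by
    apply isMulCommutative_of_comm
    intro u hu v hv
    obtain ⟨a, ha, k, rfl⟩ := hdecomp u hu
    obtain ⟨b, hb, l, rfl⟩ := hdecomp v hv
    have hab : a * b = b * a := comm_of_mem hA ha hb
    calc a * x ^ k * (b * x ^ l) = a * (x ^ k * b) * x ^ l := by group
      _ = a * (b * x ^ k) * x ^ l := by rw [hak b hb k]
      _ = (a * b) * (x ^ k * x ^ l) := by group
      _ = (b * a) * (x ^ l * x ^ k) := by rw [hab, ← zpow_add, ← zpow_add, add_comm]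
      _ = b * (a * x ^ l) * x ^ k := by group
      _ = b * (x ^ l * a) * x ^ k := by rw [hak a ha l]
      _ = b * x ^ l * (a * x ^ k) := by group
  have hB'e : ∀ b ∈ B', b ^ N = 1 := by
    intro b hb
    obtain ⟨a, ha, k, rfl⟩ := hdecomp b hb
    have hc : Commute a (x ^ k) := hak a ha k
    rw [hc.mul_pow, hAe a ha, one_mul, ← zpow_natCast, ← zpow_mul, mul_comm, zpow_mul, zpow_natCast, hxn,
      one_zpow]
  have hBA := hmax B' hB'n hB'comm hB'e hAB'
  have hxB' : x ∈ B' := by
    rw [hB', Subgroup.mem_comap]; exact Subgroup.mem_zpowers (π x)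
  rwa [hBA] at hxB'

/-- If A is maximal among the normal abelian subgroups of exponent dividing p^n of a p-group (p^n ≠ 2), then A contains every element of order dividing p^n in its centralizer. -/
theorem result {G : Type*} [Group G] [Finite G] {p : ℕ} [Fact p.Prime] (hG : IsPGroup p G) (n : ℕ) (hn : p ^ n ≠ 2) (A : Subgroup G) [A.Normal] (hA : IsMulCommutative A) (hAe : ∀ a ∈ A, a ^ p ^ n = 1) (hmax : ∀ B : Subgroup G, B.Normal → IsMulCommutative B → (∀ b ∈ B, b ^ p ^ n = 1) → A ≤ B → B = A) (x : G) (hx : x ∈ Subgroup.centralizer (A : Set G)) (hxn : x ^ p ^ n = 1) : x ∈ A := by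
  classical
  rcases Nat.eq_zero_or_pos n with rfl | hn1
  · simp at hxn; rw [hxn]; exact one_mem _
  have hpp : p.Prime := Fact.out
  have hAn : A.Normal := inferInstance
  have hdvd : p ∣ p ^ n * (p ^ n - 1) / 2 := prime_dvd_choose_two hpp hn1 hn
  set N := p ^ n with hN
  set C : Subgroup G := Subgroup.centralizer (A : Set G) with hC
  have hCn : C.Normal := Subgroup.normal_centralizer
  let π := QuotientGroup.mk' A
  have hπ1 : ∀ g, π g = 1 ↔ g ∈ A := fun g => QuotientGroup.eq_one_iff g
  have hnil : Group.IsNilpotent (G ⧸ A) := (hG.to_quotient A).isNilpotent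
  obtain ⟨r, hr⟩ := hnil.nilpotent'
  have claim : ∀ i : ℕ, ∀ y ∈ C, y ^ N = 1 →
      π y ∈ Subgroup.upperCentralSeries (G ⧸ A) i → y ∈ A := by
    intro i
    induction i using Nat.strong_induction_on with
    | _ i IH =>
      cases i with
      | zero =>
        intro y _ _ hyU
        rw [Subgroup.upperCentralSeries_zero, Subgroup.mem_bot] at hyU
        exact (hπ1 y).mp hyU
      | succ k =>
        have Q : ∀ m : ℕ, m ≤ n → ∀ y ∈ C, y ^ p ^ m = 1 →
            π y ∈ Subgroup.upperCentralSeries (G ⧸ A) (k + 1) → y ∈ A := by
          intro m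
          induction m with
          | zero =>
            intro _ y _ hy _
            simp at hy; rw [hy]; exact one_mem _
          | succ m ihm =>
            intro hmn y hyC hym hyU
            have hypA : y ^ p ∈ A := by
              apply ihm (by omega) (y ^ p) (C.pow_mem hyC p)
              · rw [← pow_mul, ← pow_succ']; exact hym
              · rw [map_pow]; exact Subgroup.pow_mem _ hyU p
            have hyN : y ^ N = 1 := by
              obtain ⟨d, hd⟩ := Nat.exists_eq_add_of_le hmn
              rw [hN, hd, pow_add, pow_mul, hym, one_pow]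
            -- the inner induction
            have P : ∀ j, j ≤ k → ∀ g : G,
                π (y⁻¹ * (g * y * g⁻¹)) ∈ Subgroup.upperCentralSeries (G ⧸ A) j →
                y⁻¹ * (g * y * g⁻¹) ∈ A := by
              intro j
              induction j with
              | zero =>
                intro _ g hg
                rw [Subgroup.upperCentralSeries_zero, Subgroup.mem_bot] at hg
                exact (hπ1 _).mp hg
              | succ j ihj =>
                intro hjk g hg
                set z := y⁻¹ * (g * y * g⁻¹) with hz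
                have hzC : z ∈ C := C.mul_mem (C.inv_mem hyC) (hCn.conj_mem y hyC g)
                have h1 : ⁅π z, π y⁆ ∈ Subgroup.upperCentralSeries (G ⧸ A) j :=
                  (Subgroup.mem_upperCentralSeries_succ_iff).mp hg (π y)
                have h2 : π (y⁻¹ * (z * y * z⁻¹)) ∈ Subgroup.upperCentralSeries (G ⧸ A) j := by
                  have e : π (y⁻¹ * (z * y * z⁻¹)) = (π y)⁻¹ * ⁅π z, π y⁆ * (π y)⁻¹⁻¹ := by
                    rw [commutatorElement_def]
                    simp only [map_mul, map_inv]
                    group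
                  rw [e]
                  exact (inferInstance : (Subgroup.upperCentralSeries (G ⧸ A) j).Normal).conj_mem _ h1 _
                have hcA : y⁻¹ * (z * y * z⁻¹) ∈ A := ihj (by omega) z h2
                have hc'A : z * y * z⁻¹ * y⁻¹ ∈ A := by
                  have e : z * y * z⁻¹ * y⁻¹ = y * (y⁻¹ * (z * y * z⁻¹)) * y⁻¹ := by group
                  rw [e]; exact hAn.conj_mem _ hcA _
                set c := z * y * z⁻¹ * y⁻¹ with hc
                have hcy : Commute c y := Subgroup.mem_centralizer_iff.mp hyC c hc'A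
                have hcz : Commute c z := Subgroup.mem_centralizer_iff.mp hzC c hc'A
                have hcp : c ^ p = 1 := by
                  have e1 : z * y ^ p * z⁻¹ = y ^ p := by
                    have := Subgroup.mem_centralizer_iff.mp hzC (y ^ p) hypA
                    rw [← this]; group
                  have e2 : z * y ^ p * z⁻¹ = (z * y * z⁻¹) ^ p := by rw [conj_pow]
                  have e3 : z * y * z⁻¹ = c * y := by rw [hc]; group
                  rw [e2, e3, hcy.mul_pow] at e1
                  exact mul_right_cancel (e1.trans (one_mul _).symm)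
                have hpow := mul_pow_of_commutator_central y z hcy hcz N
                have hcN : c ^ (N * (N - 1) / 2) = 1 := by
                  obtain ⟨t, ht⟩ := hdvd
                  rw [ht, pow_mul, hcp, one_pow]
                have hyz : y * z = g * y * g⁻¹ := by rw [hz]; group
                have hzN : z ^ N = 1 := by
                  rw [hcN, mul_one, hyN, one_mul, hyz, conj_pow, hyN] at hpow
                  simpa using hpow.symm
                exact IH (j + 1) (by omega) z hzC hzN hg
            have hall : ∀ g, y⁻¹ * (g * y * g⁻¹) ∈ A := by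
              intro g
              apply P k le_rfl g
              have hyinv : π y⁻¹ ∈ Subgroup.upperCentralSeries (G ⧸ A) (k + 1) := by
                rw [map_inv]; exact Subgroup.inv_mem _ hyU
              have h3 := (Subgroup.mem_upperCentralSeries_succ_iff).mp hyinv (π g)
              have e : π (y⁻¹ * (g * y * g⁻¹)) = ⁅π y⁻¹, π g⁆ := by
                rw [commutatorElement_def]
                simp only [map_mul, map_inv]
                group
              rw [e]; exact h3
            have hcent : π y ∈ Subgroup.center (G ⧸ A) := by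
              rw [Subgroup.mem_center_iff]
              intro q
              obtain ⟨g, rfl⟩ := QuotientGroup.mk'_surjective A q
              have h4 := (hπ1 _).mpr (hall g)
              simp only [map_mul, map_inv] at h4
              have h5 : π g * π y * (π g)⁻¹ = π y := by
                have := congrArg (fun t => π y * t) h4
                simpa [mul_assoc] using this
              calc π g * π y = (π g * π y * (π g)⁻¹) * π g := by group
                _ = π y * π g := by rw [h5]
            exact mem_of_central_image A hA hAe hmax y hyC hyN hcent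
        exact Q n le_rfl
  exact claim r x hx hxn (by rw [hr]; trivial)

end Cfsg.Agent.S0130
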