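-- S0100: for odd p, a p-group without normal elementary abelian subgroups of order p^3 has p-rank ≤ 2 (helper52).
import Cfsg.Statements.S0100
import Cfsg.Agent.Helper52.PGroupLemmas
import Cfsg.Agent.S0130

set_option autoImplicit false
open Cfsg

namespace Cfsg.Agent.S0100

open Cfsg.Agent.Helper52

/-- In a finite `p`-group, a normal subgroup of order `p ^ k` contains normal subgroups of the whole group of
every order `p ^ j`, `j ≤ k`. -/
theorem exists_normal_le_card_eq {G : Type*} [Group G] [Finite G] {p : ℕ} [Fact p.Prime]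
    (hG : IsPGroup p G) (d : ℕ) : ∀ (N : Subgroup G), N.Normal → ∀ j : ℕ, Nat.card N = p ^ (j + d) →
    ∃ B : Subgroup G, B.Normal ∧ B ≤ N ∧ Nat.card B = p ^ j := by
  have hp : p.Prime := Fact.out
  induction d with
  | zero => intro N hN j hc; exact ⟨N, hN, le_rfl, by simpa using hc⟩
  | succ d ih =>
    intro N hN j hc
    have hN1 : N ≠ ⊥ := by
      intro h
      rw [h, Subgroup.card_bot] at hc
      have : 1 < p ^ (j + (d + 1)) := Nat.one_lt_pow (by omega) hp.one_lt
      omega
    obtain ⟨B, hBn, hBN, hidx, -⟩ := exists_normal_relIndex_prime hG N hN1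
    have hBcard : Nat.card B = p ^ (j + d) := by
      have := relIndex_mul_card_of_le hBN
      rw [hidx, hc, ← add_assoc, pow_succ'] at this
      exact Nat.eq_of_mul_eq_mul_left hp.pos this
    obtain ⟨B', hB'n, hB'B, hB'c⟩ := ih B hBn j hBcard
    exact ⟨B', hB'n, hB'B.trans hBN, hB'c⟩

/-- For odd p, a p-group without normal elementary abelian subgroups of order p^3 has p-rank at most 2. -/
theorem result {P : Type*} [Group P] [Finite P] {p : ℕ} [Fact p.Prime] (hp : p ≠ 2) (hP : IsPGroup p P) (h : ∀ A : Subgroup P, A.Normal → IsMulCommutative A → (∀ a ∈ A, a ^ p = 1) → Nat.card A ≠ p ^ 3) (E : Subgroup P) (hE : IsMulCommutative E) (hEe : ∀ e ∈ E, e ^ p = 1) : Nat.card E ≤ p ^ 2 := by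
  classical
  have hpp : p.Prime := Fact.out
  -- a maximal normal elementary abelian subgroup
  let S : Set (Subgroup P) := {A | A.Normal ∧ IsMulCommutative A ∧ ∀ a ∈ A, a ^ p = 1}
  have hSne : S.Nonempty := by
    refine ⟨⊥, Subgroup.normal_bot, isMulCommutative_of_comm ?_, ?_⟩
    · intro a ha b hb
      rw [Subgroup.mem_bot] at ha hb; rw [ha, hb]
    · intro a ha
      rw [Subgroup.mem_bot] at ha; rw [ha, one_pow]
  obtain ⟨N, ⟨hNn, hNc, hNe⟩, hNmax⟩ := wellFounded_gt.has_min S hSne
  haveI := hNn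
  have hmax : ∀ B : Subgroup P, B.Normal → IsMulCommutative B → (∀ b ∈ B, b ^ p ^ 1 = 1) → N ≤ B → B = N := by
    intro B hBn hBc hBe hNB
    by_contra hne
    exact hNmax B ⟨hBn, hBc, fun b hb => by simpa using hBe b hb⟩ (lt_of_le_of_ne hNB (Ne.symm hne))
  have hp1 : p ^ 1 ≠ 2 := by simpa using hp
  have hOmega : ∀ x ∈ Subgroup.centralizer (N : Set P), x ^ p = 1 → x ∈ N := by
    intro x hx hxp
    exact Cfsg.Agent.S0130.result hP 1 hp1 N hNc (fun a ha => by simpa using hNe a ha) hmax x hx
      (by simpa using hxp)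
  obtain ⟨k, hk⟩ := (hP.to_subgroup N).exists_card_eq
  -- k ≤ 2
  have hk2 : k ≤ 2 := by
    by_contra hcon
    have hk3 : k = 3 + (k - 3) := by omega
    rw [hk3] at hk
    obtain ⟨B, hBn, hBN, hBc⟩ := exists_normal_le_card_eq hP (k - 3) N hNn 3 hk
    refine h B hBn (isMulCommutative_of_comm ?_) (fun b hb => hNe b (hBN hb)) hBc
    intro a ha b hb
    exact comm_of_mem hNc (hBN ha) (hBN hb)
  set C : Subgroup P := Subgroup.centralizer (N : Set P) with hC
  have hCn : C.Normal := Subgroup.normal_centralizer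
  have hidx : C.index ≤ p ^ (k * (k - 1) / 2) := index_centralizer_le k hP N hNn hNc hk
  by_cases hNE : N ≤ E
  · -- E ≤ C, hence E ≤ N
    have hEC : E ≤ C := by
      intro e he
      rw [hC, Subgroup.mem_centralizer_iff]
      intro a ha
      exact comm_of_mem hE (hNE ha) he
    have hEN : E ≤ N := fun e he => hOmega e (hEC he) (hEe e he)
    calc Nat.card E ≤ Nat.card N := Subgroup.card_le_of_le hEN
      _ = p ^ k := hk
      _ ≤ p ^ 2 := Nat.pow_le_pow_right hpp.pos hk2
  · have hECN : E ⊓ C ≤ N := fun e he => hOmega e he.2 (hEe e he.1)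
    have hne : E ⊓ C ≠ N := by
      intro heq
      apply hNE
      rw [← heq]; exact inf_le_left
    have hk1 : 1 ≤ k := by
      by_contra hcon
      have hk0 : k = 0 := by omega
      rw [hk0, pow_zero] at hk
      have : N = ⊥ := Subgroup.card_eq_one.mp hk
      exact hNE (this ▸ bot_le)
    have hcardEC : Nat.card (E ⊓ C : Subgroup P) ≤ p ^ (k - 1) := by
      have hdvd : Nat.card (E ⊓ C : Subgroup P) ∣ p ^ k := hk ▸ Subgroup.card_dvd_of_le hECN
      obtain ⟨j, hjk, hj⟩ := (Nat.dvd_prime_pow hpp).mp hdvd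
      have hjne : j ≠ k := by
        intro hjk'
        apply hne
        apply Subgroup.eq_of_le_of_card_ge hECN
        rw [hk, hj, hjk']
      rw [hj]
      exact Nat.pow_le_pow_right hpp.pos (by omega)
    have hrel : C.relIndex E ≤ p ^ (k * (k - 1) / 2) := by
      refine le_trans (Nat.le_of_dvd ?_ (Subgroup.relIndex_dvd_index_of_normal C E)) hidx
      exact Nat.pos_of_ne_zero (Subgroup.index_ne_zero_of_finite)
    have hmul := relIndex_mul_card_of_le (inf_le_left : E ⊓ C ≤ E)
    rw [Subgroup.inf_relIndex_left] at hmul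
    rw [← hmul]
    have hk12 : k = 1 ∨ k = 2 := by omega
    rcases hk12 with rfl | rfl
    · simp only [Nat.sub_self, mul_zero, Nat.zero_div, pow_zero] at hrel hcardEC
      calc C.relIndex E * Nat.card (E ⊓ C : Subgroup P) ≤ 1 * 1 := Nat.mul_le_mul hrel hcardEC
        _ ≤ p ^ 2 := by
          have := Nat.one_le_pow 2 p hpp.pos
          omega
    · have e1 : 2 * (2 - 1) / 2 = 1 := by norm_num
      rw [e1] at hrel
      have e2 : 2 - 1 = 1 := by norm_num
      rw [e2] at hcardEC
      calc C.relIndex E * Nat.card (E ⊓ C : Subgroup P) ≤ p ^ 1 * p ^ 1 := Nat.mul_le_mul hrel hcardEC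
        _ = p ^ 2 := by ring

end Cfsg.Agent.S0100
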