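-- S1452: a normal E_{p^2} of a p-group of rank ≥ 3 (p odd) lies in a normal self-centralizing subgroup of
-- rank ≥ 3 (helper52).
import Cfsg.Statements.S1452
import Cfsg.Agent.Helper52.PGroupLemmas
import Cfsg.Agent.S0100

set_option autoImplicit false
open Cfsg

namespace Cfsg.Agent.S1452

open Cfsg.Agent.Helper52
open scoped Pointwise

/-- For odd `p`, a `p`-group of rank at least 3 has a normal elementary abelian subgroup of order `p ^ 3`. -/
theorem exists_normal_elementaryAbelian_cube {R : Type*} [Group R] [Finite R] {p : ℕ} [Fact p.Prime]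
    (hp : p ≠ 2) (hR : IsPGroup p R) (hr : ¬ Cfsg.PRankLE p 2 R) :
    ∃ F : Subgroup R, F.Normal ∧ IsMulCommutative F ∧ (∀ a ∈ F, a ^ p = 1) ∧ Nat.card F = p ^ 3 := by
  by_contra hcon
  push Not at hcon
  apply hr
  intro A hA hAe
  exact S0100.result hp hR (fun A hAn hAc hAe hc => hcon A hAn hAc hAe hc) A hA hAe

/-- A normal elementary abelian subgroup of order `p ^ 2` in a `p`-group of rank ≥ 3 (p odd) lies in a normal
elementary abelian subgroup of larger order. -/
theorem exists_normal_elementaryAbelian_gt {R : Type*} [Group R] [Finite R] {p : ℕ} [Fact p.Prime]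
    (hp : p ≠ 2) (hR : IsPGroup p R) (hr : ¬ Cfsg.PRankLE p 2 R)
    (E : Subgroup R) [hEn : E.Normal] (hE : Cfsg.IsElementaryAbelian p E) (hE2 : Nat.card E = p ^ 2) :
    ∃ B : Subgroup R, E ≤ B ∧ B.Normal ∧ IsMulCommutative B ∧ (∀ a ∈ B, a ^ p = 1) ∧ p ^ 2 < Nat.card B := by
  classical
  have hpp : p.Prime := Fact.out
  obtain ⟨hEc, hEe⟩ := hE
  obtain ⟨F, hFn, hFc, hFe, hF3⟩ := exists_normal_elementaryAbelian_cube hp hR hr
  set C : Subgroup R := Subgroup.centralizer (E : Set R) with hC
  have hCn : C.Normal := Subgroup.normal_centralizer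
  have hidx : C.index ≤ p ^ (2 * (2 - 1) / 2) := index_centralizer_le 2 hR E hEn hEc hE2
  have e1 : 2 * (2 - 1) / 2 = 1 := by norm_num
  rw [e1, pow_one] at hidx
  set D : Subgroup R := F ⊓ C with hD
  have hDn : D.Normal := Subgroup.normal_inf_normal F C
  -- |D| ≥ p^2
  have hDcard : p ^ 2 ≤ Nat.card D := by
    have hrel : C.relIndex F ≤ p := by
      refine le_trans (Nat.le_of_dvd ?_ (Subgroup.relIndex_dvd_index_of_normal C F)) hidx
      exact Nat.pos_of_ne_zero (Subgroup.index_ne_zero_of_finite)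
    have hmul := relIndex_mul_card_of_le (inf_le_left : F ⊓ C ≤ F)
    rw [Subgroup.inf_relIndex_left, hF3] at hmul
    have h1 : p ^ 3 ≤ p * Nat.card D := by
      rw [← hmul]; exact Nat.mul_le_mul_right _ hrel
    have h2 : p ^ 3 = p * p ^ 2 := by ring
    rw [h2] at h1
    exact Nat.le_of_mul_le_mul_left h1 hpp.pos
  -- D is not contained in E
  have hDE : ¬ D ≤ E := by
    intro hle
    have hDeq : D = E := by
      apply Subgroup.eq_of_le_of_card_ge hle
      rw [hE2]; exact hDcard
    have hEF : E ≤ F := by rw [← hDeq]; exact inf_le_left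
    have hFC : F ≤ C := by
      intro f hf
      rw [hC, Subgroup.mem_centralizer_iff]
      intro a ha
      exact comm_of_mem hFc (hEF ha) hf
    have hDF : D = F := by rw [hD]; exact inf_eq_left.mpr hFC
    have : Nat.card E = p ^ 3 := by rw [← hDeq, hDF, hF3]
    rw [hE2] at this
    exact absurd (Nat.pow_right_injective hpp.two_le this) (by norm_num)
  -- B = E ⊔ D
  have hmem : ∀ x, x ∈ E ⊔ D ↔ ∃ e ∈ E, ∃ d ∈ D, e * d = x := by
    intro x
    rw [← SetLike.mem_coe, Subgroup.normal_mul, Set.mem_mul]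
    simp only [SetLike.mem_coe]
  have hED : ∀ e ∈ E, ∀ d ∈ D, e * d = d * e := by
    intro e he d hd
    exact Subgroup.mem_centralizer_iff.mp hd.2 e he
  refine ⟨E ⊔ D, le_sup_left, inferInstance, ?_, ?_, ?_⟩
  · apply isMulCommutative_of_comm
    intro x hx y hy
    obtain ⟨e, he, d, hd, rfl⟩ := (hmem x).mp hx
    obtain ⟨e', he', d', hd', rfl⟩ := (hmem y).mp hy
    have h1 : e * e' = e' * e := comm_of_mem hEc he he'
    have h2 : d * d' = d' * d := comm_of_mem hFc hd.1 hd'.1
    have h3 : d * e' = e' * d := (hED e' he' d hd).symm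
    have h4 : e * d' = d' * e := hED e he d' hd'
    calc e * d * (e' * d') = e * (d * e') * d' := by group
      _ = e * (e' * d) * d' := by rw [h3]
      _ = (e * e') * (d * d') := by group
      _ = (e' * e) * (d' * d) := by rw [h1, h2]
      _ = e' * (e * d') * d := by group
      _ = e' * (d' * e) * d := by rw [h4]
      _ = e' * d' * (e * d) := by group
  · intro x hx
    obtain ⟨e, he, d, hd, rfl⟩ := (hmem x).mp hx
    have hc : Commute e d := hED e he d hd
    rw [hc.mul_pow, hEe e he, hFe d hd.1, one_mul]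
  · have hlt : E < E ⊔ D := by
      refine lt_of_le_of_ne le_sup_left ?_
      intro heq
      apply hDE
      rw [heq]; exact le_sup_right
    rw [← hE2]
    by_contra hnot
    exact hlt.ne (Subgroup.eq_of_le_of_card_ge hlt.le (not_lt.mp hnot))

/-- Let p be an odd prime and R a finite p-group containing an elementary abelian subgroup of order p ^ 3. If E is a normal elementary abelian subgroup of R of order p ^ 2, then E ≤ A for some normal subgroup A of R with C_R(A) = A that contains an elementary abelian subgroup of order p ^ 3. -/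
theorem result {R : Type*} [Group R] [Finite R] (p : ℕ) [Fact p.Prime] (hp : p ≠ 2) (hR : IsPGroup p R) (hr : ¬ Cfsg.PRankLE p 2 R)
    (E : Subgroup R) [E.Normal] (hE : Cfsg.IsElementaryAbelian p E) (hE2 : Nat.card E = p ^ 2) :
    ∃ A : Subgroup R, E ≤ A ∧ A.Normal ∧ Subgroup.centralizer (A : Set R) = A ∧ ¬ Cfsg.PRankLE p 2 A := by
  classical
  obtain ⟨B, hEB, hBn, hBc, hBe, hBcard⟩ := exists_normal_elementaryAbelian_gt hp hR hr E hE hE2
  -- a maximal normal abelian subgroup containing B
  let S : Set (Subgroup R) := {A | A.Normal ∧ IsMulCommutative A ∧ B ≤ A}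
  have hSne : S.Nonempty := ⟨B, hBn, hBc, le_rfl⟩
  obtain ⟨A, ⟨hAn, hAc, hBA⟩, hAmax⟩ := wellFounded_gt.has_min S hSne
  haveI := hAn
  have hmax : ∀ B' : Subgroup R, B'.Normal → IsMulCommutative B' → A ≤ B' → B' = A := by
    intro B' hB'n hB'c hAB'
    by_contra hne
    exact hAmax B' ⟨hB'n, hB'c, hBA.trans hAB'⟩ (lt_of_le_of_ne hAB' (Ne.symm hne))
  have hCA : Subgroup.centralizer (A : Set R) ≤ A :=
    centralizer_le_of_maximal_normal_abelian hR A hAc hmax
  have hAC : A ≤ Subgroup.centralizer (A : Set R) := by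
    intro a ha
    rw [Subgroup.mem_centralizer_iff]
    intro b hb
    exact comm_of_mem hAc hb ha
  refine ⟨A, hEB.trans hBA, hAn, le_antisymm hCA hAC, ?_⟩
  intro hrk
  have h1 := hrk (B.subgroupOf A) ?_ ?_
  · rw [Nat.card_congr (Subgroup.subgroupOfEquivOfLe hBA).toEquiv] at h1
    omega
  · apply isMulCommutative_of_comm
    intro x hx y hy
    rw [Subgroup.mem_subgroupOf] at hx hy
    apply Subtype.ext
    rw [Subgroup.coe_mul, Subgroup.coe_mul]
    exact comm_of_mem hBc hx hy
  · intro x hx
    rw [Subgroup.mem_subgroupOf] at hx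
    apply Subtype.ext
    rw [Subgroup.coe_pow, Subgroup.coe_one]
    exact hBe _ hx

end Cfsg.Agent.S1452
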