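import Cfsg.Statements.S1450
import Cfsg.Agent.Helper4.RankTwoSolv
import Cfsg.Agent.S0640

set_option autoImplicit false
open Cfsg

namespace Cfsg.Agent.S1450

open scoped commutatorElement
open Cfsg.Agent.Helper4

theorem result {G : Type*} [Group G] [Finite G] [Group.IsSolvable G] (hodd : Odd (Nat.card G)) (p : ℕ) [Fact p.Prime] (hpG : p ∣ Nat.card G) (hr : Cfsg.PRankLE p 2 G) :
    (∀ q : ℕ, q.Prime → q ∣ (Cfsg.pPrimeCore p G).index → q ≤ p) ∧
      ((p = 3 ∨ ∀ q : ℕ, q.Prime → q ∣ Nat.card G → p ≤ q) → Cfsg.HasNormalPComplement p G) ∧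
      Cfsg.HasNormalPComplement p ↥(commutator G) ∧
      (∀ L : Subgroup ↥(commutator G), (Nat.card L).Coprime p → L ≤ Cfsg.pPrimeCore p ↥(commutator G)) ∧
      commutator G ≤ Cfsg.pPrimePCore p G ∧ ((Cfsg.pPrimePCore p G).index).Coprime p := by
  classical
  have hpp : p.Prime := Fact.out
  have hp2 : p ≠ 2 := by
    rintro rfl
    exact (Nat.not_even_iff_odd.mpr hodd) (even_iff_two_dvd.mpr hpG)
  obtain ⟨hcommP, hrq, hCR⟩ := isPGroup_commutator_quotient_pPrimeCore hodd p hp2 hr
  set K := Cfsg.pPrimeCore p G with hK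
  have hKc : (Nat.card K).Coprime p := Cfsg.Agent.Lib.card_pPrimeCore_coprime p
  set π := QuotientGroup.mk' K with hπ
  have hπs : Function.Surjective π := QuotientGroup.mk'_surjective K
  set R := Cfsg.pCore p (G ⧸ K) with hR
  have hRp : IsPGroup p R := Cfsg.Agent.Lib.isPGroup_pCore p
  have hrR : Cfsg.PRankLE p 2 R := Cfsg.Agent.Lib.pRankLE_subgroup hrq R
  have hcommR : commutator (G ⧸ K) ≤ R :=
    Cfsg.Agent.Lib.le_pCore inferInstance hcommP
  have hcomm_map : ∀ x ∈ commutator G, π x ∈ commutator (G ⧸ K) := by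
    intro x hx
    have h1 : π x ∈ (commutator G).map π := Subgroup.mem_map_of_mem π hx
    rw [commutator_def, Subgroup.map_commutator] at h1
    rw [commutator_def]
    exact Subgroup.commutator_mono le_top le_top h1
  -- (1) primes of the quotient
  have h1 : ∀ q : ℕ, q.Prime → q ∣ Nat.card (G ⧸ K) → q ≤ p := by
    intro q hq hqd
    by_cases hqp : q = p
    · exact hqp.le
    haveI := Fact.mk hq
    obtain ⟨x, hx⟩ := exists_prime_orderOf_dvd_card' q hqd
    set c : (G ⧸ K) →* MulAut ↥R := MulAut.conjNormal with hc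
    have hcx1 : c x ≠ 1 := by
      intro h1
      have hxC : x ∈ Subgroup.centralizer (R : Set (G ⧸ K)) := by
        rw [Subgroup.mem_centralizer_iff]
        intro y hy
        have h2 : c x ⟨y, hy⟩ = ⟨y, hy⟩ := by rw [h1]; rfl
        have h3 : x * y * x⁻¹ = y := by
          have := congrArg Subtype.val h2
          simpa [hc] using this
        calc y * x = (x * y * x⁻¹) * x := by rw [h3]
          _ = x * y := by group
      obtain ⟨j, hj⟩ := hRp ⟨x, hCR hxC⟩
      have hj' : x ^ p ^ j = 1 := by simpa using congrArg Subtype.val hj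
      have h4 : q ∣ p ^ j := hx ▸ orderOf_dvd_of_pow_eq_one hj'
      exact hqp ((Nat.prime_dvd_prime_iff_eq hq hpp).mp (hq.dvd_of_dvd_pow h4))
    have hcxq : (c x) ^ q = 1 := by rw [← map_pow, ← hx, pow_orderOf_eq_one, map_one]
    have hord : orderOf (c x) = q := orderOf_eq_prime hcxq hcx1
    haveI : Finite (MulAut ↥R) := MulEquiv.finite_left
    have hdvd : q ∣ Nat.card (MulAut ↥R) := hord ▸ orderOf_dvd_natCard _
    exact (Cfsg.Agent.S0640.result hp2 hRp hrR q hq hqp hdvd).2.le
  have hidx : K.index = Nat.card (G ⧸ K) := Subgroup.index_eq_card K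
  -- the derived subgroup modulo `K`
  set X := commutator G with hX
  set N : Subgroup X := K.subgroupOf X with hN
  have hNn : N.Normal := Subgroup.normal_subgroupOf
  have hNc : (Nat.card N).Coprime p := by
    apply Cfsg.Agent.Helper54.card_coprime_of_forall_orderOf_ne
    intro g hg hgp
    have hgK : (g : G) ∈ K := Subgroup.mem_subgroupOf.mp hg
    have h2 : orderOf (g : G) ∣ Nat.card K := by
      have : orderOf (⟨(g : G), hgK⟩ : K) = orderOf (g : G) := Subgroup.orderOf_mk _ hgK
      rw [← this]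
      exact orderOf_dvd_natCard _
    rw [Subgroup.orderOf_coe, hgp] at h2
    exact (Nat.Prime.coprime_iff_not_dvd hpp).mp hKc.symm h2
  have hpowN : ∀ x : X, ∃ j : ℕ, x ^ p ^ j ∈ N := by
    intro x
    obtain ⟨j, hj⟩ := hcommP ⟨π x, hcomm_map x x.2⟩
    have hj' : (π (x : G)) ^ p ^ j = 1 := by simpa using congrArg Subtype.val hj
    refine ⟨j, ?_⟩
    rw [hN, Subgroup.mem_subgroupOf]
    have : π ((x : G) ^ p ^ j) = 1 := by rw [map_pow, hj']
    rw [hπ, QuotientGroup.mk'_apply, QuotientGroup.eq_one_iff] at this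
    simpa using this
  have hXNp : IsPGroup p (X ⧸ N) := by
    intro y
    induction y using QuotientGroup.induction_on with
    | H x =>
      obtain ⟨j, hj⟩ := hpowN x
      refine ⟨j, ?_⟩
      rw [← QuotientGroup.mk_pow]
      exact (QuotientGroup.eq_one_iff _).mpr hj
  obtain ⟨m, hm⟩ := IsPGroup.iff_card.mp hXNp
  have hNidx : N.index = p ^ m := by rw [Subgroup.index_eq_card, hm]
  refine ⟨?_, ?_, ?_, ?_, ?_, ?_⟩
  · intro q hq hqd
    rw [hidx] at hqd
    exact h1 q hq hqd
  · intro hcase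
    have hall : ∀ {d : ℕ}, d.Prime → d ∣ Nat.card (G ⧸ K) → d = p := by
      intro d hd hdd
      have hle := h1 d hd hdd
      have hdG : d ∣ Nat.card G := hdd.trans (Subgroup.card_quotient_dvd_card K)
      rcases hcase with h3 | hmin
      · have hd2 : d ≠ 2 := by
          rintro rfl
          exact (Nat.not_even_iff_odd.mpr hodd) (even_iff_two_dvd.mpr hdG)
        have := hd.two_le
        omega
      · exact le_antisymm hle (hmin d hd hdG)
    have hpow := Nat.eq_prime_pow_of_unique_prime_dvd (Nat.card_pos.ne') hall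
    exact hasNormalPComplement_of_coprime_of_index p K hKc _ (hidx.trans hpow)
  · exact hasNormalPComplement_of_coprime_of_index p N hNc m hNidx
  · intro L hL
    have hLN : L ≤ N := by
      intro l hl
      obtain ⟨j, hj⟩ := hpowN l
      have hcop : (p ^ j).Coprime (orderOf l) := by
        apply Nat.Coprime.pow_left
        have h2 : orderOf (⟨l, hl⟩ : L) ∣ Nat.card L := orderOf_dvd_natCard _
        rw [Subgroup.orderOf_mk] at h2
        exact (Nat.Coprime.coprime_dvd_left h2 hL).symm
      obtain ⟨k, hk⟩ := exists_pow_eq_self_of_coprime hcop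
      rw [← hk]
      exact N.pow_mem hj k
    exact hLN.trans (Cfsg.Agent.Lib.le_pPrimeCore hNn hNc)
  · intro x hx
    show x ∈ (Cfsg.pCore p (G ⧸ Cfsg.pPrimeCore p G)).comap
      (QuotientGroup.mk' (Cfsg.pPrimeCore p G))
    rw [Subgroup.mem_comap]
    exact hcommR (hcomm_map x hx)
  · have hidx2 : (Cfsg.pPrimePCore p G).index = R.index := by
      show ((Cfsg.pCore p (G ⧸ Cfsg.pPrimeCore p G)).comap
        (QuotientGroup.mk' (Cfsg.pPrimeCore p G))).index = R.index
      exact Subgroup.index_comap_of_surjective _ hπs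
    rw [hidx2]
    obtain ⟨P⟩ : Nonempty (Sylow p (G ⧸ K)) := inferInstance
    have hRP : R ≤ P := Cfsg.Agent.Lib.pCore_le_sylow P
    have hPn : (P : Subgroup (G ⧸ K)).Normal :=
      Subgroup.Normal.of_commutator_le (G ⧸ K) (hcommR.trans hRP)
    have hRP' : R = P := Cfsg.Agent.Lib.pCore_eq_of_normal_sylow P hPn
    rw [hRP', Nat.coprime_comm, Nat.Prime.coprime_iff_not_dvd hpp]
    exact P.not_dvd_index

end Cfsg.Agent.S1450
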