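import Cfsg.Statements.S1465
import Cfsg.Agent.Helper64.OddStable
import Cfsg.Agent.Helper11.PSolvable
import Cfsg.Agent.Helper70.PSolvable

set_option autoImplicit false
open Cfsg

namespace Cfsg.Agent.S1465

open Subgroup
open scoped commutatorElement

/-- elements of an abelian subgroup `B` normalized by `P` act quadratically on `P` -/
theorem quadratic_of_normalized {G : Type*} [Group G] (P B : Subgroup G) (hBc : IsMulCommutative B)
    (hPB : P ≤ normalizer (B : Set G)) {b : G} (hb : b ∈ B) :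
    ⁅⁅P, zpowers b⁆, zpowers b⁆ = ⊥ := by
  have hz : zpowers b ≤ B := by rw [zpowers_le]; exact hb
  have h1 : ⁅P, zpowers b⁆ ≤ B := by
    rw [Subgroup.commutator_le]
    intro u hu z hz'
    have hzB : z ∈ B := hz hz'
    have hn := (mem_normalizer_iff.mp (hPB hu)) z
    rw [commutatorElement_def]
    exact B.mul_mem (hn.mp hzB) (B.inv_mem hzB)
  rw [eq_bot_iff]
  calc ⁅⁅P, zpowers b⁆, zpowers b⁆ ≤ ⁅B, B⁆ := Subgroup.commutator_mono h1 hz
    _ = ⊥ := by
        rw [Subgroup.commutator_eq_bot_iff_le_centralizer, Subgroup.le_centralizer_iff]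
        intro x hx y hy
        exact congrArg Subtype.val (hBc.is_comm.comm ⟨y, hy⟩ ⟨x, hx⟩)

/-- If `O_{p'}(G) = 1` and `O_p(G) ∩ C ≤ P` for a normal subgroup `C` centralizing `P`, then `C` is a
`p`-group (`G` finite solvable). -/
theorem isPGroup_of_centralizes {G : Type*} [Group G] [Finite G] [Group.IsSolvable G] (p : ℕ)
    [hp : Fact p.Prime] (P C : Subgroup G) [hCn : C.Normal]
    (hCP : C ≤ centralizer (P : Set G)) (hO : Cfsg.pPrimeCore p G = ⊥)
    (hle : Cfsg.pCore p G ⊓ C ≤ P) : IsPGroup p C := by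
  have hinj : Function.Injective C.subtype := Subgroup.subtype_injective C
  -- `O_{p'}(C) = 1`
  have h1 : Cfsg.pPrimeCore p C = ⊥ := by
    have hc : (Cfsg.pPrimeCore p C).Characteristic := Cfsg.Agent.Lib.pPrimeCore_characteristic p
    have hn : ((Cfsg.pPrimeCore p C).map C.subtype).Normal := inferInstance
    have hcard : (Nat.card ((Cfsg.pPrimeCore p C).map C.subtype)).Coprime p := by
      rw [Subgroup.card_map_of_injective hinj]
      exact Cfsg.Agent.Lib.card_pPrimeCore_coprime p
    have := Cfsg.Agent.Lib.le_pPrimeCore hn hcard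
    rw [hO, le_bot_iff] at this
    exact (Subgroup.map_eq_bot_iff_of_injective _ hinj).mp this
  have hsol : Cfsg.IsPSolvable p C := Cfsg.Agent.Helper70.isPSolvable_of_isSolvable p
  have h2 := Cfsg.Agent.Helper11.centralizer_pCore_le_of_isPSolvable hsol h1
  -- `O_p(C) ≤ P`
  have h3 : (Cfsg.pCore p C).map C.subtype ≤ P := by
    have hc : (Cfsg.pCore p C).Characteristic := Cfsg.Agent.Lib.pCore_characteristic p
    have hn : ((Cfsg.pCore p C).map C.subtype).Normal := inferInstance
    have hpg : IsPGroup p ((Cfsg.pCore p C).map C.subtype) :=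
      (Cfsg.Agent.Lib.isPGroup_pCore p).map _
    refine le_trans (le_inf (Cfsg.Agent.Lib.le_pCore hn hpg) ?_) hle
    rintro _ ⟨x, -, rfl⟩
    exact x.2
  -- so `C` centralizes `O_p(C)`
  have h4 : (⊤ : Subgroup C) ≤ centralizer (Cfsg.pCore p C : Set C) := by
    intro c _
    rw [mem_centralizer_iff]
    intro x hx
    apply Subtype.ext
    have hxP : (x : G) ∈ P := h3 ⟨x, hx, rfl⟩
    have := (mem_centralizer_iff.mp (hCP c.2)) (x : G) hxP
    exact this
  have h5 : Cfsg.pCore p C = ⊤ := top_le_iff.mp (h4.trans h2)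
  have h6 : IsPGroup p (Cfsg.pCore p C) := Cfsg.Agent.Lib.isPGroup_pCore p
  rw [h5] at h6
  intro c
  obtain ⟨k, hk⟩ := h6 ⟨c, Subgroup.mem_top c⟩
  exact ⟨k, by simpa using congrArg Subtype.val hk⟩

/-- Let p be an odd prime, G a solvable group of odd order, P a normal p-subgroup of G, and X the subgroup generated by a family of abelian p-subgroups of G each normalized by P. Then the image of X in G/C_G(P) lies in O_p(G/C_G(P)); and if O_{p'}(G) = 1 and O_p(G) ∩ C_G(P) ≤ P then X ≤ O_p(G). -/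
theorem result {G : Type*} [Group G] [Finite G] [Group.IsSolvable G] (hodd : Odd (Nat.card G)) (p : ℕ) [Fact p.Prime] (hp : p ≠ 2) (P : Subgroup G) [P.Normal] (hP : IsPGroup p P)
    (S : Set (Subgroup G)) (hS : ∀ B ∈ S, IsMulCommutative B ∧ IsPGroup p B ∧ P ≤ Subgroup.normalizer (B : Set G)) :
    (sSup S).map (QuotientGroup.mk' (Subgroup.centralizer (P : Set G))) ≤ Cfsg.pCore p (G ⧸ Subgroup.centralizer (P : Set G)) ∧
      (Cfsg.pPrimeCore p G = ⊥ → Cfsg.pCore p G ⊓ Subgroup.centralizer (P : Set G) ≤ P → sSup S ≤ Cfsg.pCore p G) := by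
  have part1 : (sSup S).map (QuotientGroup.mk' (Subgroup.centralizer (P : Set G))) ≤
      Cfsg.pCore p (G ⧸ Subgroup.centralizer (P : Set G)) := by
    rw [Subgroup.map_le_iff_le_comap]
    apply sSup_le
    intro B hB b hb
    obtain ⟨hBc, -, hPB⟩ := hS B hB
    rw [Subgroup.mem_comap]
    exact Cfsg.Agent.Helper64.isPStableOn_of_odd_solvable hodd P hP b
      (quadratic_of_normalized P B hBc hPB hb)
  refine ⟨part1, fun hO hle => ?_⟩
  set C := Subgroup.centralizer (P : Set G) with hC
  have hCp : IsPGroup p C := isPGroup_of_centralizes p P C le_rfl hO hle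
  set T := (Cfsg.pCore p (G ⧸ C)).comap (QuotientGroup.mk' C) with hT
  have hn : (Cfsg.pCore p (G ⧸ C)).Normal := by
    have := Cfsg.Agent.Lib.pCore_characteristic (G := G ⧸ C) p
    infer_instance
  have hTn : T.Normal := hn.comap _
  have hTp : IsPGroup p T := by
    rintro ⟨t, ht⟩
    obtain ⟨k, hk⟩ := (Cfsg.Agent.Lib.isPGroup_pCore (G := G ⧸ C) p) ⟨_, ht⟩
    have hk' : (QuotientGroup.mk' C t) ^ p ^ k = 1 := by
      have := congrArg Subtype.val hk
      simpa using this
    rw [← map_pow, QuotientGroup.mk'_apply, QuotientGroup.eq_one_iff] at hk'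
    obtain ⟨j, hj⟩ := hCp ⟨_, hk'⟩
    have hj' : (t ^ p ^ k) ^ p ^ j = 1 := by
      have := congrArg Subtype.val hj
      simpa using this
    refine ⟨k + j, ?_⟩
    apply Subtype.ext
    rw [Subgroup.coe_pow, Subgroup.coe_one, pow_add, pow_mul]
    exact hj'
  have hTle : T ≤ Cfsg.pCore p G := Cfsg.Agent.Lib.le_pCore hTn hTp
  refine le_trans ?_ hTle
  rw [hT, ← Subgroup.map_le_iff_le_comap]
  exact part1

end Cfsg.Agent.S1465
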