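import Cfsg.Statements.S1457
import Cfsg.Agent.S1465
import Cfsg.Agent.Helper54.PConstrained

set_option autoImplicit false
open Cfsg

namespace Cfsg.Agent.S1457

open Subgroup

/-- Let G be a solvable group of odd order, p a prime, S a Sylow p-subgroup of G and A an abelian subgroup of S normal in S. Then A ≤ O_{p',p}(G). -/
theorem result {G : Type*} [Group G] [Finite G] [Group.IsSolvable G] (hodd : Odd (Nat.card G)) (p : ℕ) [Fact p.Prime] (S : Sylow p G) (A : Subgroup G) (hA : A ≤ (S : Subgroup G)) (hAc : IsMulCommutative A)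
    (hAn : (S : Subgroup G) ≤ Subgroup.normalizer (A : Set G)) :
    A ≤ Cfsg.pPrimePCore p G := by
  by_cases hp2 : p = 2
  · -- the Sylow 2-subgroup of a group of odd order is trivial
    have hS : (S : Subgroup G) = ⊥ := by
      by_contra hne
      exact Cfsg.Agent.Helper64.prime_ne_two_of_odd hodd (S : Subgroup G) S.2 hne hp2
    intro a ha
    have h1 := hA ha
    rw [hS, Subgroup.mem_bot] at h1
    rw [h1]
    exact Subgroup.one_mem _
  · set K := Cfsg.pPrimeCore p G with hK
    have hKn : K.Normal := by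
      have := Cfsg.Agent.Lib.pPrimeCore_characteristic (G := G) p
      infer_instance
    set π := QuotientGroup.mk' K with hπ
    have hπs : Function.Surjective π := QuotientGroup.mk'_surjective K
    have hodd' : Odd (Nat.card (G ⧸ K)) := Odd.of_dvd_nat hodd (Subgroup.card_quotient_dvd_card K)
    have hPn : (Cfsg.pCore p (G ⧸ K)).Normal := by
      have := Cfsg.Agent.Lib.pCore_characteristic (G := G ⧸ K) p
      infer_instance
    have hPp : IsPGroup p (Cfsg.pCore p (G ⧸ K)) := Cfsg.Agent.Lib.isPGroup_pCore p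
    have hAbar : IsMulCommutative (A.map π) := by
      refine ⟨⟨?_⟩⟩
      rintro ⟨_, a, ha, rfl⟩ ⟨_, b, hb, rfl⟩
      apply Subtype.ext
      show π a * π b = π b * π a
      rw [← map_mul, ← map_mul]
      exact congrArg π (congrArg Subtype.val (hAc.is_comm.comm ⟨a, ha⟩ ⟨b, hb⟩))
    have hAp : IsPGroup p (A.map π) := (S.2.to_le hA).map π
    have hle : Cfsg.pCore p (G ⧸ K) ≤ (S : Subgroup G).map π := by
      have := Cfsg.Agent.Lib.pCore_le_sylow (S.mapSurjective hπs)
      exact this
    have hnorm : Cfsg.pCore p (G ⧸ K) ≤ normalizer ((A.map π : Subgroup (G ⧸ K)) : Set (G ⧸ K)) :=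
      hle.trans ((Subgroup.map_mono hAn).trans (Subgroup.le_normalizer_map π))
    have key := (Cfsg.Agent.S1465.result hodd' p hp2 (Cfsg.pCore p (G ⧸ K)) hPp {A.map π}
      (by
        intro B hB
        rw [Set.mem_singleton_iff] at hB
        subst hB
        exact ⟨hAbar, hAp, hnorm⟩)).2 Cfsg.Agent.Helper54.pPrimeCore_quotient_eq_bot inf_le_left
    rw [sSup_singleton] at key
    intro a ha
    show a ∈ (Cfsg.pCore p (G ⧸ K)).comap (QuotientGroup.mk' K)
    rw [Subgroup.mem_comap]
    exact key ⟨a, ha, rfl⟩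

end Cfsg.Agent.S1457
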