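import Cfsg.Statements.S1398
import Cfsg.Agent.Helper54.BGUnique2
import Cfsg.Agent.Helper48.CoprimeGen

set_option autoImplicit false
open Cfsg

namespace Cfsg.Agent.S1398

/-- Let G be a minimal simple group of odd order, M a maximal subgroup, p a prime, and B a noncyclic elementary abelian p-subgroup of M. If C_G(b) ≤ M for every non-identity b ∈ B, or if every subgroup of G of order coprime to p normalized by B is contained in M, then M is the only maximal subgroup of G containing B. -/
theorem result {G : Type*} [Group G] [Finite G] (hG : Cfsg.IsMinSimpleOddOrder G)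
    (M : Subgroup G) (hM : IsCoatom M) (p : ℕ) [Fact p.Prime] (B : Subgroup G) (hBM : B ≤ M)
    (hBe : Cfsg.IsElementaryAbelian p B) (hBnc : ¬ IsCyclic B)
    (h : (∀ b ∈ B, b ≠ 1 → Subgroup.centralizer ({b} : Set G) ≤ M) ∨
      ∀ Y ∈ Cfsg.invSubgroups ⊤ B (Cfsg.primesNotDvd p), Y ≤ M) :
    Cfsg.InUniqueMaximal B := by
  have hpp : p.Prime := Fact.out
  have hBp : IsPGroup p B := by
    intro x
    exact ⟨1, Subtype.ext (by simpa using hBe.2 x x.2)⟩
  have hB1 : B ≠ ⊥ := by
    rintro rfl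
    apply hBnc
    exact isCyclic_of_subsingleton
  have hcomm : ∀ x ∈ B, ∀ y ∈ B, x * y = y * x := by
    intro x hx y hy
    exact congrArg Subtype.val (hBe.1.is_comm.comm (⟨x, hx⟩ : ↥B) ⟨y, hy⟩)
  have hcard : p ^ 2 ≤ Nat.card B := by
    obtain ⟨k, hk⟩ := IsPGroup.iff_card.mp hBp
    rw [hk]
    apply Nat.pow_le_pow_right hpp.pos
    by_contra hlt
    have hk1 : k = 0 ∨ k = 1 := by omega
    rcases hk1 with rfl | rfl
    · rw [pow_zero] at hk
      exact hB1 ((Subgroup.card_eq_one).mp hk)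
    · rw [pow_one] at hk
      exact hBnc (isCyclic_of_prime_card hk)
  apply Cfsg.Agent.Helper54.BGU.inUniqueMaximal_of_invariant_le hG M hM B hBp hB1 hBM
  rcases h with h | h
  · intro Y hY
    rw [Cfsg.Agent.Helper54.BGU.mem_invSubgroups_iff] at hY
    obtain ⟨hYcop, hBY⟩ := hY
    have hpY : ¬ p ∣ Nat.card Y := fun hd => (hpp.coprime_iff_not_dvd.mp hYcop.symm) hd
    refine (Cfsg.Agent.Helper48.le_cgen_of_le_card Y B hpY hBY hcomm hBe.2 hcard).trans ?_
    unfold Cfsg.Agent.Helper48.cgen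
    apply iSup_le
    rintro ⟨b, hb, hb1⟩
    exact inf_le_right.trans (h b hb hb1)
  · exact h

end Cfsg.Agent.S1398
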