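import Cfsg.Statements.S1399
import Cfsg.Agent.S1398

set_option autoImplicit false
set_option linter.style.haveILetI false
open Cfsg

namespace Cfsg.Agent.S1399

/-- Let G be a minimal simple group of odd order, L a subgroup contained in exactly one maximal subgroup of G, and K a subgroup of C_G(L) having, for some prime p, an elementary abelian subgroup of order p ^ 2. Then K is contained in exactly one maximal subgroup of G. -/
theorem result {G : Type*} [Group G] [Finite G] (hG : Cfsg.IsMinSimpleOddOrder G)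
    (L K : Subgroup G) (hL : Cfsg.InUniqueMaximal L) (hK : K ≤ Subgroup.centralizer (L : Set G)) (hKr : ¬ Cfsg.RankLE 1 K) :
    Cfsg.InUniqueMaximal K := by
  haveI hs : IsSimpleGroup G := hG.2.1
  obtain ⟨M, ⟨hM, hLM⟩, hMuniq⟩ := hL
  -- every element of `K` lies in `M`
  have hcent : ∀ x : G, x ≠ 1 → L ≤ Subgroup.centralizer ({x} : Set G) →
      Subgroup.centralizer ({x} : Set G) ≤ M := by
    intro x hx1 hLx
    have hne := Cfsg.Agent.Helper31.centralizer_singleton_ne_top_of_simple hG.2.2.1 hx1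
    obtain ⟨M', hM', hle⟩ := (eq_top_or_exists_le_coatom _).resolve_left hne
    have : M' = M := hMuniq M' ⟨hM', hLx.trans hle⟩
    rw [← this]
    exact hle
  have hKx : ∀ x ∈ K, L ≤ Subgroup.centralizer ({x} : Set G) := by
    intro x hx l hl
    rw [Subgroup.mem_centralizer_singleton_iff]
    exact ((Subgroup.mem_centralizer_iff.mp (hK hx)) l hl)
  have hKM : K ≤ M := by
    intro x hx
    by_cases hx1 : x = 1
    · rw [hx1]; exact M.one_mem
    · apply hcent x hx1 (hKx x hx)
      rw [Subgroup.mem_centralizer_singleton_iff]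
  -- a noncyclic elementary abelian subgroup of `K`
  unfold Cfsg.RankLE at hKr
  push Not at hKr
  obtain ⟨p, hp, hrk⟩ := hKr
  haveI : Fact p.Prime := ⟨hp⟩
  rw [Cfsg.Agent.Helper21.not_prankLE_iff] at hrk
  obtain ⟨B, hBK, hBc, hBe, hBcard⟩ := hrk
  rw [pow_one] at hBcard
  have hBea : Cfsg.IsElementaryAbelian p B :=
    ⟨⟨⟨fun a b => Subtype.ext (hBc a a.2 b b.2)⟩⟩, hBe⟩
  have hBnc : ¬ IsCyclic B := by
    intro hcyc
    obtain ⟨g, hg⟩ := hcyc.exists_generator
    have h1 : orderOf g = Nat.card B := orderOf_eq_card_of_forall_mem_zpowers hg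
    have h2 : orderOf g ∣ p := by
      apply orderOf_dvd_of_pow_eq_one
      apply Subtype.ext
      simpa using hBe g g.2
    have h3 := Nat.le_of_dvd hp.pos h2
    omega
  have hBU := Cfsg.Agent.S1398.result hG M hM p B (hBK.trans hKM) hBea hBnc
    (Or.inl (fun b hb hb1 => hcent b hb1 (hKx b (hBK hb))))
  obtain ⟨M₁, ⟨hM₁, hBM₁⟩, hM₁uniq⟩ := hBU
  have hMM₁ : M = M₁ := hM₁uniq M ⟨hM, hBK.trans hKM⟩
  refine ⟨M, ⟨hM, hKM⟩, ?_⟩
  rintro M' ⟨hM', hKM'⟩
  rw [hMM₁]
  exact hM₁uniq M' ⟨hM', hBK.trans hKM'⟩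

end Cfsg.Agent.S1399
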