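-- Statement S0127: p odd, R a non-cyclic p-group with a cyclic subgroup of index p: Ω₁(R) is elementary abelian
-- of order p².
import Cfsg.Statements.S0127
import Cfsg.Agent.Helper52.CyclicMax

set_option autoImplicit false
open Cfsg

namespace Cfsg.Agent.S0127

open Cfsg.Agent.Helper52

/-- The subgroup `Ω = {y | y ^ p = 1}` (it is a subgroup) has order `p ^ 2`. -/
theorem omega_data {R : Type*} [Group R] [Finite R] {p : ℕ} [hp : Fact p.Prime] (hp2 : p ≠ 2) (hR : IsPGroup p R)
    (hnc : ¬ IsCyclic R) (C : Subgroup R) (hC : IsCyclic C) (hCi : C.index = p) :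
    ∃ Ω : Subgroup R, (Ω : Set R) = {x : R | x ^ p = 1} ∧ Nat.card Ω = p ^ 2 := by
  classical
  have hpp : p.Prime := hp.out
  obtain ⟨m, c, x, hCeq, hord, hcardR, hx, hgen, hxp, hCn, _⟩ :=
    cyclic_index_prime_data hp2 hR C hC hCi
  have hdivp : ∀ j : ℕ, 1 ≤ j → p ^ j / p = p ^ (j - 1) := by
    intro j hj
    obtain ⟨i, rfl⟩ : ∃ i, j = i + 1 := ⟨j - 1, by omega⟩
    rw [pow_succ, Nat.mul_div_cancel _ hpp.pos]; simp
  have hm1 : 1 ≤ m := by
    rcases Nat.eq_zero_or_pos m with h0 | h0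
    · exfalso
      subst h0
      exact hnc (isCyclic_of_prime_card (p := p) (by simpa using hcardR))
    · exact h0
  let φ : R →* R :=
    { toFun := fun y => y ^ p
      map_one' := one_pow p
      map_mul' := mul_pow_prime_of_cyclic_index_prime hp2 hR C hC hCi }
  have hφ : ∀ y, φ y = y ^ p := fun _ => rfl
  refine ⟨φ.ker, ?_, ?_⟩
  · ext y
    simp [MonoidHom.mem_ker, hφ]
  -- x^p = c^s with p ∣ s
  have hxp' : x ^ p ∈ Subgroup.zpowers c := (SetLike.ext_iff.mp hCeq _).mp hxp
  obtain ⟨s, hs⟩ := (mem_powers_iff_mem_zpowers.mpr hxp')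
  have hs' : c ^ s = x ^ p := hs
  have hps : p ∣ s := by
    by_contra hnd
    have hs0 : s ≠ 0 := by
      rintro rfl; exact hnd (dvd_zero p)
    have hcop : Nat.Coprime (p ^ m) s :=
      Nat.Coprime.pow_left m ((Nat.Prime.coprime_iff_not_dvd hpp).mpr hnd)
    have ho1 : orderOf (x ^ p) = p ^ m := by
      rw [← hs', orderOf_pow' c hs0, hord, hcop.gcd_eq_one, Nat.div_one]
    obtain ⟨j, hj⟩ := (IsPGroup.iff_orderOf.mp hR) x
    have hj1 : 1 ≤ j := by
      rcases Nat.eq_zero_or_pos j with h0 | h0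
      · exfalso
        subst h0
        rw [pow_zero, orderOf_eq_one_iff] at hj
        rw [hj] at hx
        exact hx (one_mem C)
      · exact h0
    have ho2 : orderOf (x ^ p) = p ^ (j - 1) := by
      rw [orderOf_pow' x hpp.ne_zero, hj, Nat.gcd_eq_right (dvd_pow_self p (by omega))]
      exact hdivp j hj1
    rw [ho1] at ho2
    have hmj : m = j - 1 := Nat.pow_right_injective hpp.two_le ho2
    have : orderOf x = Nat.card R := by
      rw [hj, hcardR]; congr 1; omega
    exact hnc (isCyclic_of_orderOf_eq_card x this)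
  -- the range of φ
  have hrange : φ.range = Subgroup.zpowers (c ^ p) := by
    rw [MonoidHom.range_eq_map, ← hgen, MonoidHom.map_closure]
    apply le_antisymm
    · rw [Subgroup.closure_le]
      rintro _ ⟨y, hy, rfl⟩
      rcases hy with rfl | hy
      · exact Subgroup.mem_zpowers _
      · rw [Set.mem_singleton_iff] at hy; subst hy
        obtain ⟨t, rfl⟩ := hps
        rw [SetLike.mem_coe, hφ, ← hs', pow_mul]
        exact Subgroup.pow_mem _ (Subgroup.mem_zpowers _) _
    · rw [Subgroup.zpowers_le]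
      exact Subgroup.subset_closure ⟨c, by simp, rfl⟩
  have hcardrange : Nat.card φ.range = p ^ (m - 1) := by
    rw [hrange, Nat.card_zpowers, orderOf_pow' c hpp.ne_zero, hord,
      Nat.gcd_eq_right (dvd_pow_self p (by omega))]
    exact hdivp m hm1
  have h1 := Subgroup.card_mul_index φ.ker
  rw [Subgroup.index_ker, hcardrange, hcardR] at h1
  have h2 : p ^ (m + 1) = p ^ 2 * p ^ (m - 1) := by
    rw [← pow_add]; congr 1; omega
  rw [h2] at h1
  exact Nat.eq_of_mul_eq_mul_right (pow_pos hpp.pos _) h1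

theorem result {R : Type*} [Group R] [Finite R] {p : ℕ} [Fact p.Prime] (hp : p ≠ 2) (hR : IsPGroup p R) (hnc : ¬ IsCyclic R) (C : Subgroup R) (hC : IsCyclic C) (hCi : C.index = p) : Cfsg.IsElementaryAbelian p (Subgroup.closure {x : R | x ^ p = 1}) ∧ Nat.card (Subgroup.closure {x : R | x ^ p = 1}) = p ^ 2 := by
  obtain ⟨Ω, hΩ, hcard⟩ := omega_data hp hR hnc C hC hCi
  have hcl : Subgroup.closure {x : R | x ^ p = 1} = Ω := by
    rw [← hΩ]; exact Subgroup.closure_eq Ω
  rw [hcl]
  refine ⟨⟨IsPGroup.isMulCommutative_of_card_eq_prime_sq hcard, ?_⟩, hcard⟩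
  intro a ha
  have : a ∈ (Ω : Set R) := ha
  rw [hΩ] at this
  exact this

end Cfsg.Agent.S0127
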