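-- S1453: Bender-Glauberman: p-groups of rank ≥ 3 with a maximal elementary abelian subgroup of order p^2
-- (helper52).
import Cfsg.Statements.S1453
import Cfsg.Agent.Helper52.PGroupLemmas
import Cfsg.Agent.Helper52.ClassTwo
import Cfsg.Agent.S0100
import Cfsg.Agent.S1452

set_option autoImplicit false
open Cfsg

namespace Cfsg.Agent.S1453

open Cfsg.Agent.Helper52
open scoped commutatorElement

/-- If `c = y x y⁻¹ x⁻¹` commutes with `y` and `y ^ n = 1`, then `c ^ n = 1`. -/
theorem commutator_pow_eq_one_left {G : Type*} [Group G] (x y : G) (n : ℕ)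
    (hcy : Commute (y * x * y⁻¹ * x⁻¹) y) (hy : y ^ n = 1) : (y * x * y⁻¹ * x⁻¹) ^ n = 1 := by
  set c := y * x * y⁻¹ * x⁻¹ with hc
  have e1 : x * y⁻¹ * x⁻¹ = y⁻¹ * c := by rw [hc]; group
  have e2 : (x * y⁻¹ * x⁻¹) ^ n = 1 := by
    rw [conj_pow, inv_pow, hy]; group
  have hc' : Commute y⁻¹ c := hcy.symm.inv_left
  rw [e1, hc'.mul_pow, inv_pow, hy, inv_one, one_mul] at e2
  exact e2

/-- If `c = y x y⁻¹ x⁻¹` commutes with `x` and `x ^ n = 1`, then `c ^ n = 1`. -/
theorem commutator_pow_eq_one_right {G : Type*} [Group G] (x y : G) (n : ℕ)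
    (hcx : Commute (y * x * y⁻¹ * x⁻¹) x) (hx : x ^ n = 1) : (y * x * y⁻¹ * x⁻¹) ^ n = 1 := by
  set c := y * x * y⁻¹ * x⁻¹ with hc
  have e1 : y * x * y⁻¹ = c * x := by rw [hc]; group
  have e2 : (y * x * y⁻¹) ^ n = 1 := by
    rw [conj_pow, hx]; group
  rw [e1, hcx.mul_pow, hx, mul_one] at e2
  exact e2

/-- In a finite `p`-group a normal subgroup of order `p` is central. -/
theorem le_center_of_normal_card_prime {G : Type*} [Group G] [Finite G] {p : ℕ} [Fact p.Prime]
    (hG : IsPGroup p G) (V : Subgroup G) [hVn : V.Normal] (hV : Nat.card V = p) :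
    V ≤ Subgroup.center G := by
  have hpp : p.Prime := Fact.out
  have hV1 : V ≠ ⊥ := by
    intro h
    rw [h, Subgroup.card_bot] at hV
    exact hpp.one_lt.ne hV
  obtain ⟨B, hBn, hBV, hidx, hcomm⟩ := exists_normal_relIndex_prime hG V hV1
  have hB : B = ⊥ := by
    have := relIndex_mul_card_of_le hBV
    rw [hidx, hV] at this
    have h1 : Nat.card B = 1 := by
      have : p * Nat.card B = p * 1 := by rw [this, mul_one]
      exact Nat.eq_of_mul_eq_mul_left hpp.pos this
    exact Subgroup.card_eq_one.mp h1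
  intro x hx
  rw [Subgroup.mem_center_iff]
  intro g
  have := hcomm g x hx
  rw [hB, Subgroup.mem_bot] at this
  calc g * x = (g * x * g⁻¹ * x⁻¹) * (x * g) := by group
    _ = x * g := by rw [this, one_mul]

/-- In a finite `p`-group a normal subgroup of order `p ^ 2` lies in the second centre. -/
theorem le_upperCentralSeries_two_of_normal_card_sq {G : Type*} [Group G] [Finite G] {p : ℕ}
    [Fact p.Prime] (hG : IsPGroup p G) (V : Subgroup G) [hVn : V.Normal] (hV : Nat.card V = p ^ 2) :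
    V ≤ Subgroup.upperCentralSeries G 2 := by
  have hpp : p.Prime := Fact.out
  have hV1 : V ≠ ⊥ := by
    intro h
    rw [h, Subgroup.card_bot] at hV
    have : 1 < p ^ 2 := Nat.one_lt_pow (by norm_num) hpp.one_lt
    omega
  obtain ⟨B, hBn, hBV, hidx, hcomm⟩ := exists_normal_relIndex_prime hG V hV1
  haveI := hBn
  have hB : Nat.card B = p := by
    have := relIndex_mul_card_of_le hBV
    rw [hidx, hV, pow_two] at this
    exact Nat.eq_of_mul_eq_mul_left hpp.pos this
  have hBc : B ≤ Subgroup.center G := le_center_of_normal_card_prime hG B hB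
  intro x hx
  rw [Subgroup.mem_upperCentralSeries_succ_iff]
  intro g
  rw [Subgroup.upperCentralSeries_one, commutatorElement_def]
  have h1 : g * x * g⁻¹ * x⁻¹ ∈ Subgroup.center G := hBc (hcomm g x hx)
  have e : x * g * x⁻¹ * g⁻¹ = (g * x * g⁻¹ * x⁻¹)⁻¹ := by group
  rw [e]
  exact Subgroup.inv_mem _ h1

/-- Counting lemma: if all `x e x⁻¹ e⁻¹`, `x ∈ X`, lie in a central subgroup `Z`, then
`|X| ≤ |Z| * |C_X(e)|`. -/
theorem card_le_card_mul_card_inf_centralizer {G : Type*} [Group G] [Finite G] (X Z : Subgroup G) (e : G)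
    (hZ : Z ≤ Subgroup.center G) (h : ∀ x ∈ X, x * e * x⁻¹ * e⁻¹ ∈ Z) :
    Nat.card X ≤ Nat.card Z * Nat.card (X ⊓ Subgroup.centralizer ({e} : Set G) : Subgroup G) := by
  classical
  let ψ : X →* Z :=
    { toFun := fun x => ⟨(x : G) * e * (x : G)⁻¹ * e⁻¹, h x x.2⟩
      map_one' := by ext; simp
      map_mul' := by
        intro x₁ x₂
        ext
        have hc : ∀ g : G, g * ((x₂ : G) * e * (x₂ : G)⁻¹ * e⁻¹) = ((x₂ : G) * e * (x₂ : G)⁻¹ * e⁻¹) * g :=
          fun g => Subgroup.mem_center_iff.mp (hZ (h x₂ x₂.2)) g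
        simp only [Subgroup.coe_mul]
        calc (x₁ : G) * (x₂ : G) * e * ((x₁ : G) * (x₂ : G))⁻¹ * e⁻¹
            = ((x₁ : G) * ((x₂ : G) * e * (x₂ : G)⁻¹ * e⁻¹)) * e * (x₁ : G)⁻¹ * e⁻¹ := by group
          _ = (((x₂ : G) * e * (x₂ : G)⁻¹ * e⁻¹) * (x₁ : G)) * e * (x₁ : G)⁻¹ * e⁻¹ := by rw [hc]
          _ = ((x₂ : G) * e * (x₂ : G)⁻¹ * e⁻¹) * ((x₁ : G) * e * (x₁ : G)⁻¹ * e⁻¹) := by group
          _ = ((x₁ : G) * e * (x₁ : G)⁻¹ * e⁻¹) * ((x₂ : G) * e * (x₂ : G)⁻¹ * e⁻¹) := (hc _).symm }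
  have hker : ψ.ker = (Subgroup.centralizer ({e} : Set G)).subgroupOf X := by
    ext x
    rw [MonoidHom.mem_ker, Subgroup.mem_subgroupOf, Subgroup.mem_centralizer_iff]
    constructor
    · intro hx y hy
      rw [Set.mem_singleton_iff] at hy; subst hy
      have := congrArg Subtype.val hx
      simp only [ψ, MonoidHom.coe_mk, OneHom.coe_mk, Subgroup.coe_one] at this
      calc y * (x : G) = ((x : G) * y * (x : G)⁻¹ * y⁻¹)⁻¹ * ((x : G) * y) := by group
        _ = (x : G) * y := by rw [this]; group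
    · intro hx
      have := hx e (Set.mem_singleton e)
      apply Subtype.ext
      simp only [ψ, MonoidHom.coe_mk, OneHom.coe_mk, Subgroup.coe_one]
      calc (x : G) * e * (x : G)⁻¹ * e⁻¹ = (e * (x : G)) * (x : G)⁻¹ * e⁻¹ := by rw [this]
        _ = 1 := by group
  have hrel : (Subgroup.centralizer ({e} : Set G)).relIndex X ≤ Nat.card Z := by
    rw [Subgroup.relIndex, ← hker, Subgroup.index_ker]
    exact Nat.card_le_card_of_injective (fun y => (y : Z)) Subtype.val_injective
  have hmul := relIndex_mul_card_of_le (inf_le_left : X ⊓ Subgroup.centralizer ({e} : Set G) ≤ X)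
  rw [Subgroup.inf_relIndex_left] at hmul
  rw [← hmul]
  exact Nat.mul_le_mul_right _ hrel


theorem card_lt_card_of_lt' {G : Type*} [Group G] [Finite G] {H K : Subgroup G} (h : H < K) :
    Nat.card H < Nat.card K := by
  by_contra hnot
  exact h.ne (Subgroup.eq_of_le_of_card_ge h.le (not_lt.mp hnot))

theorem mem_upperCentralSeries_two_iff {R : Type*} [Group R] (x : R) :
    x ∈ Subgroup.upperCentralSeries R 2 ↔ ∀ g, x * g * x⁻¹ * g⁻¹ ∈ Subgroup.center R := by
  rw [Subgroup.mem_upperCentralSeries_succ_iff]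
  simp only [Subgroup.upperCentralSeries_one, commutatorElement_def]

/-- `Ω₁(Z(R))` as a subgroup. -/
def omegaCenter (p : ℕ) (R : Type*) [Group R] : Subgroup R where
  carrier := {x | x ∈ Subgroup.center R ∧ x ^ p = 1}
  one_mem' := ⟨Subgroup.one_mem _, one_pow _⟩
  mul_mem' := by
    rintro a b ⟨ha, hap⟩ ⟨hb, hbp⟩
    refine ⟨Subgroup.mul_mem _ ha hb, ?_⟩
    have hc : Commute a b := (Subgroup.mem_center_iff.mp ha b).symm
    rw [hc.mul_pow, hap, hbp, one_mul]
  inv_mem' := by
    rintro a ⟨ha, hap⟩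
    exact ⟨Subgroup.inv_mem _ ha, by rw [inv_pow, hap, inv_one]⟩

theorem closure_omegaCenter (p : ℕ) (R : Type*) [Group R] :
    Subgroup.closure {x : R | x ∈ Subgroup.center R ∧ x ^ p = 1} = omegaCenter p R :=
  Subgroup.closure_eq (omegaCenter p R)

/-- `Ω₁(Z₂(R))` as a subgroup, `p` odd. -/
def omegaZ2 {p : ℕ} (hpp : p.Prime) (hp : p ≠ 2) (R : Type*) [Group R] : Subgroup R where
  carrier := {x | x ∈ Subgroup.upperCentralSeries R 2 ∧ x ^ p = 1}
  one_mem' := ⟨Subgroup.one_mem _, one_pow _⟩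
  mul_mem' := by
    rintro a b ⟨ha, hap⟩ ⟨hb, hbp⟩
    refine ⟨Subgroup.mul_mem _ ha hb, ?_⟩
    have hcc : b * a * b⁻¹ * a⁻¹ ∈ Subgroup.center R := (mem_upperCentralSeries_two_iff b).mp hb a
    have hca : Commute (b * a * b⁻¹ * a⁻¹) a := (Subgroup.mem_center_iff.mp hcc a).symm
    have hcb : Commute (b * a * b⁻¹ * a⁻¹) b := (Subgroup.mem_center_iff.mp hcc b).symm
    have hcp : (b * a * b⁻¹ * a⁻¹) ^ p = 1 := commutator_pow_eq_one_left a b p hcb hbp
    rw [mul_pow_prime_of_commutator_central hpp hp a b hca hcb hcp, hap, hbp, one_mul]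
  inv_mem' := by
    rintro a ⟨ha, hap⟩
    exact ⟨Subgroup.inv_mem _ ha, by rw [inv_pow, hap, inv_one]⟩

theorem closure_omegaZ2 {p : ℕ} (hpp : p.Prime) (hp : p ≠ 2) (R : Type*) [Group R] :
    Subgroup.closure {x : R | x ∈ Subgroup.upperCentralSeries R 2 ∧ x ^ p = 1} = omegaZ2 hpp hp R :=
  Subgroup.closure_eq (omegaZ2 hpp hp R)

/-- Let p be an odd prime and R a finite p-group with an elementary abelian subgroup of order p ^ 3 and an elementary abelian subgroup E of order p ^ 2 contained in no larger elementary abelian subgroup. Let Z₂ be the second centre of R, W the subgroup generated by the elements of Z₂ of order dividing p, and T = C_R(W). Then E is not contained in T; the elements of order dividing p of the centre of R generate a group of order p; W is elementary abelian of order p ^ 2; and T is characteristic in R of index p. -/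
theorem result {R : Type*} [Group R] [Finite R] (p : ℕ) [Fact p.Prime] (hp : p ≠ 2) (hR : IsPGroup p R) (hr : ¬ Cfsg.PRankLE p 2 R)
    (E : Subgroup R) (hE : Cfsg.IsElementaryAbelian p E) (hE2 : Nat.card E = p ^ 2)
    (hEmax : ∀ B : Subgroup R, Cfsg.IsElementaryAbelian p B → E ≤ B → B = E) :
    ¬ E ≤ Subgroup.centralizer ((Subgroup.closure {x : R | x ∈ Subgroup.upperCentralSeries R 2 ∧ x ^ p = 1} : Subgroup R) : Set R) ∧
      Nat.card ↥(Subgroup.closure {x : R | x ∈ Subgroup.center R ∧ x ^ p = 1}) = p ∧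
      (Cfsg.IsElementaryAbelian p (Subgroup.closure {x : R | x ∈ Subgroup.upperCentralSeries R 2 ∧ x ^ p = 1}) ∧
        Nat.card ↥(Subgroup.closure {x : R | x ∈ Subgroup.upperCentralSeries R 2 ∧ x ^ p = 1}) = p ^ 2) ∧
      (Subgroup.centralizer ((Subgroup.closure {x : R | x ∈ Subgroup.upperCentralSeries R 2 ∧ x ^ p = 1} : Subgroup R) : Set R)).Characteristic ∧
      (Subgroup.centralizer ((Subgroup.closure {x : R | x ∈ Subgroup.upperCentralSeries R 2 ∧ x ^ p = 1} : Subgroup R) : Set R)).index = p := by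
  classical
  have hpp : p.Prime := Fact.out
  obtain ⟨hEc, hEe⟩ := hE
  rw [closure_omegaCenter, closure_omegaZ2 hpp hp]
  set Zs := omegaCenter p R with hZs
  set Ws := omegaZ2 hpp hp R with hWs
  -- Step B
  have hΩ : ∀ x : R, x ^ p = 1 → (∀ a ∈ E, a * x = x * a) → x ∈ E := by
    intro x hxp hxE
    set B' := Subgroup.closure ((E : Set R) ∪ {x}) with hB'
    have hcomm : ∀ a ∈ (E : Set R) ∪ {x}, ∀ b ∈ (E : Set R) ∪ {x}, a * b = b * a := by
      rintro a (ha | ha) b (hb | hb)
      · exact comm_of_mem hEc ha hb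
      · rw [Set.mem_singleton_iff] at hb; subst hb; exact hxE a ha
      · rw [Set.mem_singleton_iff] at ha; subst ha; exact (hxE b hb).symm
      · rw [Set.mem_singleton_iff] at ha hb; subst ha; subst hb; rfl
    have hB'c : IsMulCommutative B' := Subgroup.isMulCommutative_closure hcomm
    have hB'e : ∀ b ∈ B', b ^ p = 1 := by
      intro b hb
      induction hb using Subgroup.closure_induction with
      | mem y hy =>
        rcases hy with hy | hy
        · exact hEe y hy
        · rw [Set.mem_singleton_iff] at hy; rw [hy]; exact hxp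
      | one => exact one_pow _
      | mul a b ha hb iha ihb =>
        have hc : Commute a b := comm_of_mem hB'c ha hb
        rw [hc.mul_pow, iha, ihb, one_mul]
      | inv a ha iha => rw [inv_pow, iha, inv_one]
    have hEB' : E ≤ B' := fun a ha => Subgroup.subset_closure (Or.inl ha)
    have := hEmax B' ⟨hB'c, hB'e⟩ hEB'
    rw [← this]
    exact Subgroup.subset_closure (Or.inr rfl)
  -- Step C
  have hZc : Zs ≤ Subgroup.center R := fun z hz => hz.1
  have hZE : Zs ≤ E := by
    intro z hz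
    apply hΩ z hz.2
    intro a _
    exact Subgroup.mem_center_iff.mp hz.1 a
  have hZne : Zs ≠ ⊥ := by
    have htop : (⊤ : Subgroup R) ≠ ⊥ := by
      intro h
      have hEb : E = ⊥ := le_bot_iff.mp (h ▸ le_top)
      rw [hEb, Subgroup.card_bot] at hE2
      have : 1 < p ^ 2 := Nat.one_lt_pow (by norm_num) hpp.one_lt
      omega
    obtain ⟨z, -, hzc, hzo⟩ := exists_central_orderOf_eq_prime hR ⊤ htop
    intro h
    have hz : z ∈ Zs := ⟨hzc, by rw [← hzo]; exact pow_orderOf_eq_one z⟩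
    rw [h, Subgroup.mem_bot] at hz
    rw [hz, orderOf_one] at hzo
    exact hpp.one_lt.ne hzo
  have hZcard : Nat.card Zs = p := by
    have hdvd : Nat.card Zs ∣ p ^ 2 := hE2 ▸ Subgroup.card_dvd_of_le hZE
    obtain ⟨j, hj2, hj⟩ := (Nat.dvd_prime_pow hpp).mp hdvd
    interval_cases j
    · exfalso; exact hZne (Subgroup.card_eq_one.mp (by simpa using hj))
    · simpa using hj
    · exfalso
      have hZsE : Zs = E := Subgroup.eq_of_le_of_card_ge hZE (by rw [hE2, hj])
      apply hr
      intro A hAc hAe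
      have hAE : A ≤ E := by
        intro a ha
        apply hΩ a (hAe a ha)
        intro b hb
        have hbc : b ∈ Subgroup.center R := hZc (hZsE ▸ hb)
        exact (Subgroup.mem_center_iff.mp hbc a).symm
      calc Nat.card A ≤ Nat.card E := Subgroup.card_le_of_le hAE
        _ = p ^ 2 := hE2
  -- Step D
  obtain ⟨F, hFn, hFc, hFe, hF3⟩ := S1452.exists_normal_elementaryAbelian_cube hp hR hr
  obtain ⟨V, hVn, hVF, hV2⟩ := S0100.exists_normal_le_card_eq hR 1 F hFn 2 (by rw [hF3])
  haveI := hVn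
  have hVZ2 : V ≤ Subgroup.upperCentralSeries R 2 :=
    le_upperCentralSeries_two_of_normal_card_sq hR V hV2
  have hVW : V ≤ Ws := fun v hv => ⟨hVZ2 hv, hFe v (hVF hv)⟩
  -- Step E
  have hWR : ∀ w ∈ Ws, ∀ r : R, w * r * w⁻¹ * r⁻¹ ∈ Zs := by
    intro w hw r
    have hcc : w * r * w⁻¹ * r⁻¹ ∈ Subgroup.center R := (mem_upperCentralSeries_two_iff w).mp hw.1 r
    exact ⟨hcc, commutator_pow_eq_one_left r w p ((Subgroup.mem_center_iff.mp hcc w).symm) hw.2⟩
  -- Step F
  obtain ⟨e, heE, heZ⟩ : ∃ e ∈ E, e ∉ Zs := by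
    by_contra hcon
    push Not at hcon
    have : Nat.card E ≤ Nat.card Zs := Subgroup.card_le_of_le hcon
    rw [hE2, hZcard] at this
    nlinarith [hpp.one_lt]
  have hEgen : Zs ⊔ Subgroup.zpowers e = E := by
    have hle : Zs ⊔ Subgroup.zpowers e ≤ E := sup_le hZE (Subgroup.zpowers_le.mpr heE)
    apply Subgroup.eq_of_le_of_card_ge hle
    have hlt : Zs < Zs ⊔ Subgroup.zpowers e := by
      refine lt_of_le_of_ne le_sup_left ?_
      intro h
      apply heZ
      rw [h]
      exact (le_sup_right : Subgroup.zpowers e ≤ _) (Subgroup.mem_zpowers e)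
    have hdvd : Nat.card (Zs ⊔ Subgroup.zpowers e : Subgroup R) ∣ p ^ 2 :=
      hE2 ▸ Subgroup.card_dvd_of_le hle
    obtain ⟨j, hj2, hj⟩ := (Nat.dvd_prime_pow hpp).mp hdvd
    have hcl := card_lt_card_of_lt' hlt
    rw [hZcard, hj] at hcl
    rw [hE2, hj]
    have hj1 : 1 < j := by
      have : p ^ 1 < p ^ j := by simpa using hcl
      exact (Nat.pow_lt_pow_iff_right hpp.one_lt).mp this
    exact Nat.pow_le_pow_right hpp.pos (by omega)
  have hΩe : ∀ x : R, x ^ p = 1 → x * e = e * x → x ∈ E := by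
    intro x hxp hxe
    apply hΩ x hxp
    intro a ha
    have hle : E ≤ Subgroup.centralizer ({x} : Set R) := by
      rw [← hEgen]
      apply sup_le
      · intro z hz
        rw [Subgroup.mem_centralizer_iff]
        intro y hy
        rw [Set.mem_singleton_iff] at hy; subst hy
        exact Subgroup.mem_center_iff.mp (hZc hz) y
      · rw [Subgroup.zpowers_le, Subgroup.mem_centralizer_iff]
        intro y hy
        rw [Set.mem_singleton_iff] at hy; subst hy
        exact hxe
    exact (Subgroup.mem_centralizer_iff.mp (hle ha) x (Set.mem_singleton x)).symm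
  -- Step H
  have hEW : ¬ E ≤ Ws := by
    intro hEWs
    have heW : e ∈ Ws := hEWs heE
    have hFZ : ∀ f ∈ F, f * e * f⁻¹ * e⁻¹ ∈ Zs := by
      intro f _
      have := hWR e heW f
      have e1 : f * e * f⁻¹ * e⁻¹ = (e * f * e⁻¹ * f⁻¹)⁻¹ := by group
      rw [e1]; exact Zs.inv_mem this
    have hcnt := card_le_card_mul_card_inf_centralizer F Zs e hZc hFZ
    rw [hF3, hZcard] at hcnt
    have hle : F ⊓ Subgroup.centralizer ({e} : Set R) ≤ E := by
      intro x hx
      apply hΩe x (hFe x hx.1)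
      exact (Subgroup.mem_centralizer_iff.mp hx.2 e (Set.mem_singleton e)).symm
    have hcard2 : p ^ 2 ≤ Nat.card (F ⊓ Subgroup.centralizer ({e} : Set R) : Subgroup R) := by
      have h2 : p ^ 3 = p * p ^ 2 := by ring
      rw [h2] at hcnt
      exact Nat.le_of_mul_le_mul_left hcnt hpp.pos
    have heq : F ⊓ Subgroup.centralizer ({e} : Set R) = E :=
      Subgroup.eq_of_le_of_card_ge hle (by rw [hE2]; exact hcard2)
    have hEF : E ≤ F := heq ▸ inf_le_left
    have hFE := hEmax F ⟨hFc, hFe⟩ hEF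
    rw [hFE, hE2] at hF3
    exact absurd (Nat.pow_right_injective hpp.two_le hF3) (by norm_num)
  -- Step I
  have hWcard : Nat.card Ws ≤ p ^ 2 := by
    have hWZ : ∀ w ∈ Ws, w * e * w⁻¹ * e⁻¹ ∈ Zs := fun w hw => hWR w hw e
    have hcnt := card_le_card_mul_card_inf_centralizer Ws Zs e hZc hWZ
    rw [hZcard] at hcnt
    have hle : Ws ⊓ Subgroup.centralizer ({e} : Set R) ≤ E ⊓ Ws := by
      intro x hx
      refine ⟨hΩe x hx.1.2 ?_, hx.1⟩
      exact (Subgroup.mem_centralizer_iff.mp hx.2 e (Set.mem_singleton e)).symm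
    have hlt : E ⊓ Ws < E := lt_of_le_of_ne inf_le_left (fun h => hEW (h ▸ inf_le_right))
    have hc1 : Nat.card (E ⊓ Ws : Subgroup R) ≤ p := by
      have hdvd : Nat.card (E ⊓ Ws : Subgroup R) ∣ p ^ 2 := hE2 ▸ Subgroup.card_dvd_of_le inf_le_left
      obtain ⟨j, hj2, hj⟩ := (Nat.dvd_prime_pow hpp).mp hdvd
      have hcl := card_lt_card_of_lt' hlt
      rw [hj, hE2] at hcl
      have hj1 : j < 2 := (Nat.pow_lt_pow_iff_right hpp.one_lt).mp hcl
      rw [hj]
      calc p ^ j ≤ p ^ 1 := Nat.pow_le_pow_right hpp.pos (by omega)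
        _ = p := pow_one p
    calc Nat.card Ws ≤ p * Nat.card (Ws ⊓ Subgroup.centralizer ({e} : Set R) : Subgroup R) := hcnt
      _ ≤ p * Nat.card (E ⊓ Ws : Subgroup R) := Nat.mul_le_mul_left _ (Subgroup.card_le_of_le hle)
      _ ≤ p * p := Nat.mul_le_mul_left _ hc1
      _ = p ^ 2 := (pow_two p).symm
  have hVWeq : V = Ws := Subgroup.eq_of_le_of_card_ge hVW (by rw [hV2]; exact hWcard)
  -- Step J
  have hWn : Ws.Normal := hVWeq ▸ hVn
  have hWc : IsMulCommutative Ws :=
    isMulCommutative_of_comm (fun a ha b hb =>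
      comm_of_mem hFc (hVF (hVWeq ▸ ha)) (hVF (hVWeq ▸ hb)))
  have hW2 : Nat.card Ws = p ^ 2 := hVWeq ▸ hV2
  have hTidx : (Subgroup.centralizer (Ws : Set R)).index = p := by
    have h1 : (Subgroup.centralizer (Ws : Set R)).index ≤ p ^ (2 * (2 - 1) / 2) :=
      index_centralizer_le 2 hR Ws hWn hWc hW2
    have e1 : 2 * (2 - 1) / 2 = 1 := by norm_num
    rw [e1, pow_one] at h1
    obtain ⟨k, hk⟩ := hR.index (Subgroup.centralizer (Ws : Set R))
    have hk1 : (Subgroup.centralizer (Ws : Set R)).index ≠ 1 := by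
      intro h
      have hTtop : Subgroup.centralizer (Ws : Set R) = ⊤ := Subgroup.index_eq_one.mp h
      have hWZs : Ws ≤ Zs := by
        intro w hw
        refine ⟨?_, hw.2⟩
        rw [Subgroup.mem_center_iff]
        intro g
        have hg : g ∈ Subgroup.centralizer (Ws : Set R) := hTtop ▸ Subgroup.mem_top g
        exact (Subgroup.mem_centralizer_iff.mp hg w hw).symm
      have := Subgroup.card_le_of_le hWZs
      rw [hW2, hZcard] at this
      nlinarith [hpp.one_lt]
    rw [hk] at h1 hk1 ⊢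
    have hk' : k = 1 := by
      rcases k with _ | _ | k
      · simp at hk1
      · rfl
      · exfalso
        have : p ^ 2 ≤ p ^ (k + 1 + 1) := Nat.pow_le_pow_right hpp.pos (by omega)
        nlinarith [hpp.one_lt]
    rw [hk', pow_one]
  refine ⟨?_, hZcard, ⟨⟨hWc, fun a ha => ha.2⟩, hW2⟩, ?_, hTidx⟩
  · intro hET
    apply hEW
    have hWE : Ws ≤ E := by
      intro w hw
      apply hΩ w hw.2
      intro a ha
      exact (Subgroup.mem_centralizer_iff.mp (hET ha) w hw).symm
    have : Ws = E := Subgroup.eq_of_le_of_card_ge hWE (by rw [hE2, hW2])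
    rw [this]
  · haveI : Ws.Characteristic := by
      rw [Subgroup.characteristic_iff_le_comap]
      intro φ x hx
      rw [Subgroup.mem_comap]
      refine ⟨?_, ?_⟩
      · exact Subgroup.characteristic_iff_le_comap.mp inferInstance φ hx.1
      · show (φ x) ^ p = 1
        rw [← map_pow, hx.2, map_one]
    exact Subgroup.characteristic_centralizer

end Cfsg.Agent.S1453
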