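import Cfsg.Statements.S1400
import Cfsg.Agent.S1399
import Cfsg.Agent.Helper54.BGUnique3

set_option autoImplicit false
set_option linter.style.haveILetI false
set_option linter.unusedVariables false
open Cfsg
open scoped Pointwise

namespace Cfsg.Agent.S1400

open Cfsg.Agent.Helper54.BGU in
/-- A `p`-subgroup `P` containing an abelian subgroup `A` of rank at least three lying in a unique maximal
subgroup has a normal elementary abelian subgroup of order `p ^ 2` lying in a unique maximal subgroup. -/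
theorem exists_normal_sq_unique {G : Type*} [Group G] [Finite G] (hG : Cfsg.IsMinSimpleOddOrder G)
    {p : ℕ} [hp : Fact p.Prime] (hp2 : p ≠ 2) {P A : Subgroup G} (hP : IsPGroup p P) (hAP : A ≤ P)
    (hAc : ∀ a ∈ A, ∀ b ∈ A, a * b = b * a) (hA3 : ¬ Cfsg.PRankLE p 2 ↥A)
    (hAU : Cfsg.InUniqueMaximal A) :
    ∃ V : Subgroup G, V ≤ P ∧
      (∀ a ∈ V, ∀ b ∈ V, a * b = b * a) ∧ (∀ a ∈ V, a ^ p = 1) ∧ Nat.card V = p ^ 2 ∧
      (∀ X : Subgroup G, X ≤ P →
        Nat.card X ≤ p * Nat.card (X ⊓ Subgroup.centralizer (V : Set G) : Subgroup G)) ∧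
      Cfsg.InUniqueMaximal V := by
  have hpp : p.Prime := hp.out
  rw [Cfsg.Agent.Helper21.not_prankLE_iff] at hA3
  obtain ⟨A₁, hA₁A, hA₁c, hA₁e, hA₁card⟩ := hA3
  have hA₁3 : p ^ 3 ≤ Nat.card A₁ := pow_succ_le_card_of_lt hA₁e hA₁card
  have hp_lt_sq : p < p ^ 2 := by
    have := hpp.one_lt
    nlinarith
  have hPnc : ¬ IsCyclic P :=
    not_isCyclic_of_exp_le (hA₁A.trans hAP) hA₁e (hp_lt_sq.trans hA₁card)
  obtain ⟨V, hVP, -, hVc, hVe, hVcard, hVX⟩ := exists_normal_sq hp2 hP hPnc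
  refine ⟨V, hVP, hVc, hVe, hVcard, hVX, ?_⟩
  set K₁ : Subgroup G := A₁ ⊓ Subgroup.centralizer (V : Set G) with hK₁
  have hK₁card : p < Nat.card K₁ := by
    have h1 := hVX A₁ (hA₁A.trans hAP)
    have h2 : p ^ 3 ≤ p * Nat.card K₁ := hA₁3.trans h1
    have h3 : p * p ^ 2 ≤ p * Nat.card K₁ := by
      have : p ^ 3 = p * p ^ 2 := by ring
      rwa [this] at h2
    have h4 := Nat.le_of_mul_le_mul_left h3 hpp.pos
    omega
  have hK₁A₁ : K₁ ≤ A₁ := inf_le_left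
  have hK₁CA : K₁ ≤ Subgroup.centralizer (A : Set G) := by
    intro x hx
    rw [Subgroup.mem_centralizer_iff]
    intro a ha
    exact hAc a ha x (hA₁A (hK₁A₁ hx))
  have hK₁r : ¬ Cfsg.RankLE 1 ↥K₁ :=
    not_rankLE_one_of_elemAb le_rfl (fun a ha b hb => hA₁c a (hK₁A₁ ha) b (hK₁A₁ hb))
      (fun a ha => hA₁e a (hK₁A₁ ha)) hK₁card
  have hK₁U : Cfsg.InUniqueMaximal K₁ := Cfsg.Agent.S1399.result hG A K₁ hAU hK₁CA hK₁r
  have hVCK : V ≤ Subgroup.centralizer (K₁ : Set G) := by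
    intro v hv
    rw [Subgroup.mem_centralizer_iff]
    intro k hk
    exact ((Subgroup.mem_centralizer_iff.mp hk.2) v hv).symm
  have hVr : ¬ Cfsg.RankLE 1 ↥V :=
    not_rankLE_one_of_elemAb le_rfl hVc hVe (by rw [hVcard]; exact hp_lt_sq)
  exact Cfsg.Agent.S1399.result hG K₁ V hK₁U hVCK hVr

open Cfsg.Agent.Helper54.BGU in
/-- Let G be a minimal simple group of odd order, p a prime, A an abelian p-subgroup containing an elementary abelian subgroup of order p ^ 3 and lying in exactly one maximal subgroup, and B a noncyclic p-subgroup whose centralizer contains an elementary abelian subgroup of order p ^ 3. Then B lies in exactly one maximal subgroup of G. -/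
theorem result {G : Type*} [Group G] [Finite G] (hG : Cfsg.IsMinSimpleOddOrder G)
    (p : ℕ) [Fact p.Prime] (A B : Subgroup G) (hAp : IsPGroup p A) (hAc : IsMulCommutative A) (hA3 : ¬ Cfsg.PRankLE p 2 ↥A)
    (hAU : Cfsg.InUniqueMaximal A) (hBp : IsPGroup p B) (hBnc : ¬ IsCyclic B) (hB3 : ¬ Cfsg.PRankLE p 2 ↥(Subgroup.centralizer (B : Set G))) :
    Cfsg.InUniqueMaximal B := by
  have hpp : p.Prime := Fact.out
  -- `p` is odd
  have hp2 : p ≠ 2 := by
    rintro rfl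
    obtain ⟨k, hk⟩ := hBp.exists_card_eq
    have hk0 : k ≠ 0 := by
      rintro rfl
      rw [pow_zero] at hk
      apply hBnc
      have : B = ⊥ := Subgroup.card_eq_one.mp hk
      rw [this]
      infer_instance
    have h2 : 2 ∣ Nat.card B := by
      rw [hk]
      exact dvd_pow_self 2 hk0
    have h3 : 2 ∣ Nat.card G := h2.trans (Subgroup.card_subgroup_dvd_card B)
    have hodd : Odd (Nat.card G) := hG.1
    rw [Nat.odd_iff] at hodd
    omega
  have hp_lt_sq : p < p ^ 2 := by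
    have := hpp.one_lt
    nlinarith
  have hAcomm : ∀ a ∈ A, ∀ b ∈ A, a * b = b * a := fun a ha b hb =>
    Cfsg.Agent.Helper52.comm_of_mem hAc ha hb
  -- an elementary abelian subgroup of order `≥ p ^ 3` centralizing `B`
  rw [Cfsg.Agent.Helper21.not_prankLE_iff] at hB3
  obtain ⟨E₁, hE₁C, hE₁c, hE₁e, hE₁card⟩ := hB3
  have hE₁3 : p ^ 3 ≤ Nat.card E₁ := pow_succ_le_card_of_lt hE₁e hE₁card
  have hE₁p : IsPGroup p E₁ := isPGroup_of_exp hE₁e
  have hBE₁ : IsPGroup p (B ⊔ E₁ : Subgroup G) := by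
    apply IsPGroup.to_sup_of_normal_right' hBp hE₁p
    intro b hb
    apply Subgroup.mem_normalizer_fintype
    intro e he
    have h1 := (Subgroup.mem_centralizer_iff.mp (hE₁C he)) b hb
    -- `b * e = e * b`
    have : b * e * b⁻¹ = e := by rw [h1]; group
    rw [this]
    exact he
  obtain ⟨P₂, hP₂⟩ := hBE₁.exists_le_sylow
  obtain ⟨P₁, hP₁⟩ := hAp.exists_le_sylow
  obtain ⟨g, hg⟩ := MulAction.exists_smul_eq G P₁ P₂
  set A₂ : Subgroup G := A.map (MulAut.conj g).toMonoidHom with hA₂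
  have hA₂P : A₂ ≤ (P₂ : Subgroup G) := by
    rintro _ ⟨x, hx, rfl⟩
    have h1 : (P₂ : Subgroup G) = MulAut.conj g • (P₁ : Subgroup G) := by
      rw [← hg]; rfl
    rw [h1]
    exact Subgroup.smul_mem_pointwise_smul _ _ _ (hP₁ hx)
  have hA₂c : ∀ a ∈ A₂, ∀ b ∈ A₂, a * b = b * a := by
    rintro _ ⟨a, ha, rfl⟩ _ ⟨b, hb, rfl⟩
    rw [← map_mul, ← map_mul, hAcomm a ha b hb]
  have hA₂3 : ¬ Cfsg.PRankLE p 2 ↥A₂ := by
    rw [Cfsg.Agent.Helper21.not_prankLE_iff]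
    rw [Cfsg.Agent.Helper21.not_prankLE_iff] at hA3
    exact hA3.map_conj g
  have hA₂U : Cfsg.InUniqueMaximal A₂ := inUniqueMaximal_map_conj hAU g
  obtain ⟨V₂, hV₂P, hV₂c, hV₂e, hV₂card, hV₂X, hV₂U⟩ :=
    exists_normal_sq_unique hG hp2 P₂.2 hA₂P hA₂c hA₂3 hA₂U
  -- `K₂ = C_{E₁}(V₂)`
  set K₂ : Subgroup G := E₁ ⊓ Subgroup.centralizer (V₂ : Set G) with hK₂
  have hE₁P : E₁ ≤ (P₂ : Subgroup G) := le_sup_right.trans hP₂
  have hK₂card : p < Nat.card K₂ := by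
    have h1 := hV₂X E₁ hE₁P
    have h2 : p ^ 3 ≤ p * Nat.card K₂ := hE₁3.trans h1
    have h3 : p * p ^ 2 ≤ p * Nat.card K₂ := by
      have : p ^ 3 = p * p ^ 2 := by ring
      rwa [this] at h2
    have h4 := Nat.le_of_mul_le_mul_left h3 hpp.pos
    omega
  have hK₂E₁ : K₂ ≤ E₁ := inf_le_left
  have hK₂r : ¬ Cfsg.RankLE 1 ↥K₂ :=
    not_rankLE_one_of_elemAb le_rfl (fun a ha b hb => hE₁c a (hK₂E₁ ha) b (hK₂E₁ hb))
      (fun a ha => hE₁e a (hK₂E₁ ha)) hK₂card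
  have hK₂U : Cfsg.InUniqueMaximal K₂ :=
    Cfsg.Agent.S1399.result hG V₂ K₂ hV₂U inf_le_right hK₂r
  -- `E₁ ≤ C_G(K₂)`
  have hE₁CK : E₁ ≤ Subgroup.centralizer (K₂ : Set G) := by
    intro e he
    rw [Subgroup.mem_centralizer_iff]
    intro k hk
    exact hE₁c k (hK₂E₁ hk) e he
  have hE₁r : ¬ Cfsg.RankLE 1 ↥E₁ :=
    not_rankLE_one_of_elemAb le_rfl hE₁c hE₁e (hp_lt_sq.trans hE₁card)
  have hE₁U : Cfsg.InUniqueMaximal E₁ := Cfsg.Agent.S1399.result hG K₂ E₁ hK₂U hE₁CK hE₁r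
  -- `B ≤ C_G(E₁)`
  have hBCE : B ≤ Subgroup.centralizer (E₁ : Set G) := by
    intro b hb
    rw [Subgroup.mem_centralizer_iff]
    intro e he
    exact ((Subgroup.mem_centralizer_iff.mp (hE₁C he)) b hb).symm
  have hBr : ¬ Cfsg.RankLE 1 ↥B := not_rankLE_one_of_not_isCyclic hp2 hBp hBnc
  exact Cfsg.Agent.S1399.result hG E₁ B hE₁U hBCE hBr

end Cfsg.Agent.S1400
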