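import Cfsg.Statements.S1401
import Cfsg.Agent.S1397
import Cfsg.Agent.S1400

set_option autoImplicit false
set_option linter.style.haveILetI false
set_option linter.unusedVariables false
open Cfsg

namespace Cfsg.Agent.S1401

open Cfsg.Agent.Helper54.BGU in
/-- If the Fitting subgroup of the maximal subgroup `M` has `p`-rank at least three, some abelian
`p`-subgroup of rank at least three lies in a unique maximal subgroup. -/
theorem exists_abelian_rank_three_unique {G : Type*} [Group G] [Finite G]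
    (hG : Cfsg.IsMinSimpleOddOrder G) (M : Subgroup G) (hM : IsCoatom M) (p : ℕ) [hp : Fact p.Prime]
    (hF : ¬ Cfsg.PRankLE p 2 ↥(Cfsg.fittingOf M)) :
    ∃ A : Subgroup G, IsPGroup p A ∧ IsMulCommutative A ∧ ¬ Cfsg.PRankLE p 2 ↥A ∧
      Cfsg.InUniqueMaximal A := by
  classical
  have hpp : p.Prime := hp.out
  have hFM : Cfsg.fittingOf M ≤ M := Subgroup.map_subtype_le _
  rw [Cfsg.Agent.Helper21.not_prankLE_iff] at hF
  obtain ⟨E, hEF, hEc, hEe, hEcard⟩ := hF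
  have hEea : Cfsg.IsElementaryAbelian p E :=
    ⟨⟨⟨fun a b => Subtype.ext (hEc a a.2 b b.2)⟩⟩, hEe⟩
  -- a maximal elementary abelian subgroup of `F(M)` containing `E`
  let S := {B : Subgroup G // B ≤ Cfsg.fittingOf M ∧ Cfsg.IsElementaryAbelian p B ∧ E ≤ B}
  haveI : Nonempty S := ⟨⟨E, hEF, hEea, le_rfl⟩⟩
  obtain ⟨⟨A₀, hA₀F, hA₀e, hEA₀⟩, hmax⟩ := Finite.exists_max (fun B : S => Nat.card (B.1 : Subgroup G))
  have hA₀max : ∀ B : Subgroup G, B ≤ Cfsg.fittingOf M → Cfsg.IsElementaryAbelian p B → A₀ ≤ B →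
      B = A₀ := by
    intro B hBF hBe hA₀B
    have := hmax ⟨B, hBF, hBe, hEA₀.trans hA₀B⟩
    exact (Subgroup.eq_of_le_of_card_ge hA₀B this).symm
  have hA₀lt : p ^ 2 < Nat.card A₀ := lt_of_lt_of_le hEcard (Subgroup.card_le_of_le hEA₀)
  have hA₀3 : p ^ 3 ≤ Nat.card A₀ := pow_succ_le_card_of_lt hA₀e.2 hA₀lt
  have hA₀p : IsPGroup p A₀ := isPGroup_of_exp hA₀e.2
  have hA₀comm : ∀ a ∈ A₀, ∀ b ∈ A₀, a * b = b * a := fun a ha b hb =>
    Cfsg.Agent.Helper52.comm_of_mem hA₀e.1 ha hb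
  have hA₀r3 : ¬ Cfsg.PRankLE p 2 ↥A₀ := by
    rw [Cfsg.Agent.Helper21.not_prankLE_iff]
    exact ⟨A₀, le_rfl, hA₀comm, hA₀e.2, hA₀lt⟩
  have hp_lt_sq : p < p ^ 2 := by
    have := hpp.one_lt
    nlinarith
  -- `p` is odd
  have hp2 : p ≠ 2 := by
    rintro rfl
    have h2 : 2 ∣ Nat.card A₀ := by
      obtain ⟨k, hk⟩ := hA₀p.exists_card_eq
      have hk0 : k ≠ 0 := by
        rintro rfl
        rw [pow_zero] at hk
        omega
      rw [hk]
      exact dvd_pow_self 2 hk0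
    have h3 : 2 ∣ Nat.card G := h2.trans (Subgroup.card_subgroup_dvd_card A₀)
    have hodd : Odd (Nat.card G) := hG.1
    rw [Nat.odd_iff] at hodd
    omega
  have h97 := Cfsg.Agent.S1397.result hG M hM p A₀ hA₀F hA₀e hA₀3 hA₀max
  by_cases hFp : IsPGroup p ↥(Cfsg.fittingOf M)
  · -- `F(M)` is a `p`-group
    have hA₀M : A₀ ≤ M := hA₀F.trans hFM
    have hsub : IsPGroup p (A₀.subgroupOf M) :=
      hA₀p.of_equiv (Subgroup.subgroupOfEquivOfLe hA₀M).symm
    obtain ⟨P, hP⟩ := hsub.exists_le_sylow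
    set P' : Subgroup G := (P : Subgroup M).map M.subtype with hP'
    have hA₀P' : A₀ ≤ P' := by
      intro a ha
      exact ⟨⟨a, hA₀M ha⟩, hP (Subgroup.mem_subgroupOf.mpr ha), rfl⟩
    have hP'p : IsPGroup p P' := P.2.map M.subtype
    have hP'3 : ¬ Cfsg.PRankLE p 2 ↥P' := by
      rw [Cfsg.Agent.Helper21.not_prankLE_iff]
      exact ⟨A₀, hA₀P', hA₀comm, hA₀e.2, hA₀lt⟩
    obtain ⟨A', hSCN, hA'3⟩ := exists_scn3 hp2 P' hP'p hP'3
    obtain ⟨-, hA'U⟩ := (h97.2 hFp P).2 A' hSCN hA'3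
    refine ⟨A', hP'p.to_le hSCN.1, ?_, hA'3, hA'U⟩
    refine ⟨⟨fun a b => Subtype.ext ?_⟩⟩
    have h1 : (a : G) ∈ P' ⊓ Subgroup.centralizer (A' : Set G) := by
      rw [hSCN.2.2]; exact a.2
    exact ((Subgroup.mem_centralizer_iff.mp h1.2) b b.2).symm
  · -- `F(M)` is not a `p`-group
    have hXU := h97.1 hFp
    have hA₀CX : A₀ ≤ Subgroup.centralizer
        ((Cfsg.fittingOf M ⊓ Subgroup.centralizer (A₀ : Set G) : Subgroup G) : Set G) := by
      intro a ha
      rw [Subgroup.mem_centralizer_iff]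
      intro x hx
      exact ((Subgroup.mem_centralizer_iff.mp hx.2) a ha).symm
    have hA₀r : ¬ Cfsg.RankLE 1 ↥A₀ :=
      not_rankLE_one_of_elemAb le_rfl hA₀comm hA₀e.2 (hp_lt_sq.trans hA₀lt)
    have hA₀U := Cfsg.Agent.S1399.result hG _ A₀ hXU hA₀CX hA₀r
    exact ⟨A₀, hA₀p, hA₀e.1, hA₀r3, hA₀U⟩

open Cfsg.Agent.Helper54.BGU in
/-- Let G be a minimal simple group of odd order, p a prime, and M a maximal subgroup whose Fitting subgroup contains an elementary abelian subgroup of order p ^ 3. Then every abelian p-subgroup of G containing an elementary abelian subgroup of order p ^ 3 lies in exactly one maximal subgroup of G. -/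
theorem result {G : Type*} [Group G] [Finite G] (hG : Cfsg.IsMinSimpleOddOrder G)
    (M : Subgroup G) (hM : IsCoatom M) (p : ℕ) [Fact p.Prime] (hF : ¬ Cfsg.PRankLE p 2 ↥(Cfsg.fittingOf M))
    (A : Subgroup G) (hAp : IsPGroup p A) (hAc : IsMulCommutative A) (hA3 : ¬ Cfsg.PRankLE p 2 ↥A) :
    Cfsg.InUniqueMaximal A := by
  have hpp : p.Prime := Fact.out
  obtain ⟨A', hA'p, hA'c, hA'3, hA'U⟩ := exists_abelian_rank_three_unique hG M hM p hF
  have hA3' := hA3
  rw [Cfsg.Agent.Helper21.not_prankLE_iff] at hA3'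
  have hp_lt_sq : p < p ^ 2 := by
    have := hpp.one_lt
    nlinarith
  have hAnc : ¬ IsCyclic A := by
    obtain ⟨E, hEA, hEc, hEe, hEcard⟩ := hA3'
    exact not_isCyclic_of_exp_le hEA hEe (hp_lt_sq.trans hEcard)
  have hACA : A ≤ Subgroup.centralizer (A : Set G) := by
    intro a ha
    rw [Subgroup.mem_centralizer_iff]
    intro b hb
    exact Cfsg.Agent.Helper52.comm_of_mem hAc hb ha
  have hC3 : ¬ Cfsg.PRankLE p 2 ↥(Subgroup.centralizer (A : Set G)) := by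
    rw [Cfsg.Agent.Helper21.not_prankLE_iff]
    exact hA3'.mono hACA
  exact Cfsg.Agent.S1400.result hG p A' A hA'p hA'c hA'3 hA'U hAp hAnc hC3

end Cfsg.Agent.S1401
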