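import Cfsg.Statements.S0607
import Cfsg.Agent.Helper51.Card
import Cfsg.Agent.Helper51.Timmesfeld
import Cfsg.Agent.Helper51.NilAct
import Cfsg.Agent.Helper51.ElemAb

set_option autoImplicit false
open Cfsg

namespace Cfsg.Agent.S0607

open Subgroup Cfsg.Agent.Helper51
open scoped commutatorElement

/-- The replacement Theorem for the Thompson subgroup: from A of maximal order among elementary abelian p-subgroups one obtains A₀ = [V, A] C_A([V, A]) of the same kind, quadratic on V and nontrivial on V when A is. -/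
theorem result {G : Type*} [Group G] [Finite G] {p : ℕ} [Fact p.Prime] (V : Subgroup G) [V.Normal] (hV : Cfsg.IsElementaryAbelian p V) (A : Subgroup G) (hA : A ∈ Cfsg.maxElementaryAbelianSubgroups p G) : (⁅V, A⁆ ⊔ (A ⊓ Subgroup.centralizer ((⁅V, A⁆ : Subgroup G) : Set G))) ∈ Cfsg.maxElementaryAbelianSubgroups p G ∧ ⁅⁅V, ⁅V, A⁆ ⊔ (A ⊓ Subgroup.centralizer ((⁅V, A⁆ : Subgroup G) : Set G))⁆, ⁅V, A⁆ ⊔ (A ⊓ Subgroup.centralizer ((⁅V, A⁆ : Subgroup G) : Set G))⁆ = ⊥ ∧ (⁅V, A⁆ ≠ ⊥ → ⁅V, ⁅V, A⁆ ⊔ (A ⊓ Subgroup.centralizer ((⁅V, A⁆ : Subgroup G) : Set G))⁆ ≠ ⊥) := by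
  obtain ⟨hAe, hAmax⟩ := hA
  have hVc : V ≤ centralizer (V : Set G) := le_centralizer_iff_isMulCommutative.mpr hV.1
  have hAc : A ≤ centralizer (A : Set G) := le_centralizer_iff_isMulCommutative.mpr hAe.1
  have hAV : A ≤ normalizer (V : Set G) := by
    rw [normalizer_eq_top]; exact le_top
  have hab : ⁅A, A⁆ ≤ centralizer (V : Set G) := by
    rw [(commutator_eq_bot_iff_le_centralizer).mpr hAc]; exact bot_le
  -- A ⊓ V ≤ C_V(A)
  have hAVc : A ⊓ V ≤ cD V A := le_inf inf_le_right (inf_le_left.trans hAc)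
  -- A is a best offender
  have hBO : ∀ B : Subgroup G, B ≤ A → mu V B ≤ mu V A := by
    intro B hBA
    have hBe : Cfsg.IsElementaryAbelian p B := isElementaryAbelian_of_le hAe hBA
    have hCe : Cfsg.IsElementaryAbelian p (cD V B) := isElementaryAbelian_of_le hV inf_le_left
    have hcomm : cD V B ≤ centralizer (B : Set G) := inf_le_right
    have hsup : Cfsg.IsElementaryAbelian p (B ⊔ cD V B) := by
      rw [sup_comm]; exact isElementaryAbelian_sup hCe hBe hcomm
    have h1 : Nat.card ↥(B ⊔ cD V B) ≤ Nat.card A := hAmax _ hsup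
    have h2 := card_mul_card_le_sup_mul_inf B (cD V B)
    have h3 : B ⊓ cD V B ≤ cD V A :=
      (le_inf (inf_le_left.trans hBA) (inf_le_right.trans inf_le_left)).trans hAVc
    have h4 : Nat.card ↥(B ⊓ cD V B) ≤ Nat.card ↥(cD V A) := Subgroup.card_le_of_le h3
    calc Nat.card B * Nat.card (cD V B) ≤ Nat.card ↥(B ⊔ cD V B) * Nat.card ↥(B ⊓ cD V B) := h2
      _ ≤ Nat.card A * Nat.card (cD V A) := Nat.mul_le_mul h1 h4
  obtain ⟨hmu, hcD⟩ := timmesfeld_replacement V A hV.1 hAV hab hBO V le_rfl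
  set W : Subgroup G := ⁅V, A⁆ with hW
  set As : Subgroup G := A ⊓ centralizer (W : Set G) with hAs
  have hWV : W ≤ V := by
    rw [hW]; exact commutator_le_left V A
  have hWe : Cfsg.IsElementaryAbelian p W := isElementaryAbelian_of_le hV hWV
  have hAse : Cfsg.IsElementaryAbelian p As := isElementaryAbelian_of_le hAe inf_le_left
  have hWAs : W ≤ centralizer (As : Set G) := le_centralizer_iff.mp inf_le_right
  have hA0e : Cfsg.IsElementaryAbelian p (W ⊔ As) := isElementaryAbelian_sup hWe hAse hWAs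
  -- C_V(A) ≤ A
  have hCA : cD V A ≤ A := by
    have hCe : Cfsg.IsElementaryAbelian p (cD V A) := isElementaryAbelian_of_le hV inf_le_left
    have hsup : Cfsg.IsElementaryAbelian p (cD V A ⊔ A) :=
      isElementaryAbelian_sup hCe hAe inf_le_right
    have h1 : Nat.card ↥(cD V A ⊔ A) ≤ Nat.card A := hAmax _ hsup
    have h2 : A = cD V A ⊔ A := Subgroup.eq_of_le_of_card_ge le_sup_right h1
    exact le_sup_left.trans h2.symm.le
  have hCAs : cD V A ≤ As := le_inf hCA (inf_le_left.trans (hVc.trans (centralizer_le hWV)))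
  have hA0 : W ⊔ As = As ⊔ cD V As := by
    rw [hcD]
    apply le_antisymm
    · exact sup_le (le_sup_left.trans le_sup_right) le_sup_left
    · exact sup_le le_sup_right (sup_le le_sup_left (hCAs.trans le_sup_right))
  have hcard : Nat.card A ≤ Nat.card ↥(W ⊔ As) := by
    have h2 := card_mul_card_le_sup_mul_inf As (cD V As)
    have h3 : As ⊓ cD V As ≤ cD V A :=
      (le_inf (inf_le_left.trans inf_le_left) (inf_le_right.trans inf_le_left)).trans hAVc
    have h4 : Nat.card ↥(As ⊓ cD V As) ≤ Nat.card ↥(cD V A) := Subgroup.card_le_of_le h3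
    have h5 : Nat.card A * Nat.card (cD V A) ≤ Nat.card ↥(W ⊔ As) * Nat.card (cD V A) := by
      calc Nat.card A * Nat.card (cD V A) = Nat.card As * Nat.card (cD V As) := hmu.symm
        _ ≤ Nat.card ↥(As ⊔ cD V As) * Nat.card ↥(As ⊓ cD V As) := h2
        _ ≤ Nat.card ↥(W ⊔ As) * Nat.card (cD V A) := by
          rw [← hA0]; exact Nat.mul_le_mul le_rfl h4
    exact Nat.le_of_mul_le_mul_right h5 Nat.card_pos
  -- [V, A₀] ≤ W
  have hVA0 : ⁅V, W ⊔ As⁆ ≤ W := by
    rw [sup_comm]
    have hAsN : As ≤ normalizer (W : Set G) := inf_le_right.trans (centralizer_le_normalizer _)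
    rw [commutator_sup_centralizer_eq (le_refl V) (hWV.trans hVc) hAsN]
    exact commutator_mono le_rfl inf_le_left
  refine ⟨⟨hA0e, fun B hB => (hAmax B hB).trans hcard⟩, ?_, ?_⟩
  · apply le_bot_iff.mp
    have h1 : ⁅W, W ⊔ As⁆ = ⊥ := by
      rw [commutator_eq_bot_iff_le_centralizer, centralizer_sup]
      exact le_inf (hWV.trans (hVc.trans (centralizer_le hWV))) hWAs
    rw [← h1]
    exact commutator_mono hVA0 le_rfl
  · intro hne hbot
    apply hne
    have hVcent : V ≤ centralizer ((W ⊔ As : Subgroup G) : Set G) :=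
      commutator_eq_bot_iff_le_centralizer.mp hbot
    have hVle : V ≤ cD V As := le_inf le_rfl (hVcent.trans (centralizer_le (by exact_mod_cast le_sup_right)))
    rw [hcD] at hVle
    exact commutator_eq_bot_of_le_sup' hV.1 hAV
      (exists_iterComm_eq_bot_of_isPGroup (isPGroup_of_isElementaryAbelian hV)
        (isPGroup_of_isElementaryAbelian hAe) hAV) hVle

end Cfsg.Agent.S0607
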