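import Cfsg.Statements.S0031

set_option autoImplicit false
open Cfsg

namespace Cfsg.Agent.S0031

open Pointwise

/-- A fixed-point-free automorphism of a finite group maps some Sylow p-subgroup to itself. -/
theorem result {G : Type*} [Group G] [Finite G] (φ : G ≃* G)
    (hφ : MonoidHom.FixedPointFree (φ : G →* G)) (p : ℕ) [Fact p.Prime] :
    ∃ P : Sylow p G, (P : Subgroup G).map (φ : G →* G) = P := by
  obtain ⟨P⟩ : Nonempty (Sylow p G) := inferInstance
  let Φ : MulAut G := φ
  obtain ⟨g, hg⟩ := MulAction.exists_smul_eq G P (Φ • P)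
  obtain ⟨y, hy⟩ := MonoidHom.FixedPointFree.commutatorMap_surjective hφ g⁻¹
  simp only [MonoidHom.commutatorMap_apply, MonoidHom.coe_coe] at hy
  have hx : φ y⁻¹ * g = y⁻¹ := by
    have : g = φ y * y⁻¹ := by
      have h1 : g⁻¹ = y / φ y := hy.symm
      rw [div_eq_mul_inv] at h1
      have h2 : g = (y * (φ y)⁻¹)⁻¹ := by rw [← h1, inv_inv]
      rw [h2]; group
    rw [this, map_inv]; group
  refine ⟨y⁻¹ • P, ?_⟩
  have h1 : Φ • (y⁻¹ • P) = y⁻¹ • P := by
    rw [Sylow.smul_def, ← mul_smul]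
    have h2 : Φ * MulAut.conj y⁻¹ = MulAut.conj (φ y⁻¹) * Φ := by
      ext z
      simp [Φ, MulAut.conj_apply]
    rw [h2, mul_smul, ← hg, Sylow.smul_def, ← mul_smul, ← map_mul, hx]
  have h3 := congrArg (fun Q : Sylow p G => (Q : Subgroup G)) h1
  simp only [Sylow.pointwise_smul_def] at h3
  rw [← Sylow.pointwise_smul_def] at h3
  exact h3

end Cfsg.Agent.S0031
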