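-- S0132: Ito's lemma: a minimal non-p-nilpotent group is minimal non-nilpotent with a normal Sylow p (helper52).
import Cfsg.Statements.S0132
import Cfsg.Agent.Helper78.PNilpotent

set_option autoImplicit false
open Cfsg

namespace Cfsg.Agent.S0132

open scoped commutatorElement

/-- The join of two elementwise commuting nilpotent subgroups is nilpotent. -/
theorem isNilpotent_sup_of_commute {G : Type*} [Group G] {M T : Subgroup G} (hM : Group.IsNilpotent ↥M)
    (hT : Group.IsNilpotent ↥T) (hc : ∀ m ∈ M, ∀ t ∈ T, Commute m t) :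
    Group.IsNilpotent ↥(M ⊔ T) := by
  have hcomm : ∀ (m : M) (t : T), Commute (M.subtype m) (T.subtype t) :=
    fun m t => hc m m.2 t t.2
  have hr : (MonoidHom.noncommCoprod M.subtype T.subtype hcomm).range = M ⊔ T := by
    rw [MonoidHom.noncommCoprod_range]; simp
  have h1 : Group.IsNilpotent ↥(MonoidHom.noncommCoprod M.subtype T.subtype hcomm).range :=
    Group.nilpotent_of_surjective _
      (MonoidHom.noncommCoprod M.subtype T.subtype hcomm).rangeRestrict_surjective
  exact hr ▸ h1

/-- In a nilpotent group, an element of order prime to `p` centralizes every normal `p`-subgroup. -/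
theorem commute_of_nilpotent_coprime {G : Type*} [Group G] [Finite G] (hnil : Group.IsNilpotent G)
    {p : ℕ} [Fact p.Prime] (Q : Subgroup G) [hQn : Q.Normal] (hQ : IsPGroup p Q) (g : G)
    (hg : (orderOf g).Coprime p) : ∀ x ∈ Q, x * g = g * x := by
  obtain ⟨r, hr⟩ := hnil.nilpotent'
  have claim : ∀ i : ℕ, ∀ x ∈ Q, x ∈ Subgroup.upperCentralSeries G i → x * g = g * x := by
    intro i
    induction i with
    | zero =>
      intro x _ hx
      rw [Subgroup.upperCentralSeries_zero, Subgroup.mem_bot] at hx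
      rw [hx, one_mul, mul_one]
    | succ i ih =>
      intro x hxQ hx
      have hc : ⁅x, g⁆ ∈ Subgroup.upperCentralSeries G i :=
        Subgroup.mem_upperCentralSeries_succ_iff.mp hx g
      rw [commutatorElement_def] at hc
      set c := x * g * x⁻¹ * g⁻¹ with hcdef
      have hcQ : c ∈ Q := by
        have e : c = x * (g * x⁻¹ * g⁻¹) := by rw [hcdef]; group
        rw [e]
        exact Q.mul_mem hxQ (hQn.conj_mem _ (Q.inv_mem hxQ) g)
      have hcg : Commute c g := ih c hcQ hc
      have e1 : x * g * x⁻¹ = c * g := by rw [hcdef]; group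
      have e2 : (x * g * x⁻¹) ^ orderOf g = 1 := by
        rw [conj_pow, pow_orderOf_eq_one]; group
      rw [e1, hcg.mul_pow, pow_orderOf_eq_one, mul_one] at e2
      obtain ⟨k, hk⟩ := hQ ⟨c, hcQ⟩
      have hk' : c ^ p ^ k = 1 := by
        have := congrArg Subtype.val hk
        simpa using this
      have h1 : orderOf c ∣ p ^ k := orderOf_dvd_of_pow_eq_one hk'
      have h2 : orderOf c ∣ orderOf g := orderOf_dvd_of_pow_eq_one e2
      have h3 : orderOf c = 1 :=
        Nat.Coprime.eq_one_of_dvd (Nat.Coprime.coprime_dvd_left h1 (Nat.Coprime.pow_left k hg.symm)) h2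
      have hc1 : c = 1 := orderOf_eq_one_iff.mp h3
      have : x * g = c * g * x := by rw [hcdef]; group
      rw [this, hc1, one_mul]
  intro x hx
  exact claim r x hx (by rw [hr]; trivial)

/-- A minimal non-p-nilpotent finite group is a minimal non-nilpotent group with a normal Sylow p-subgroup. -/
theorem result {G : Type*} [Group G] [Finite G] {p : ℕ} [Fact p.Prime] (h1 : ¬ Cfsg.HasNormalPComplement p G) (h2 : ∀ H : Subgroup G, H ≠ ⊤ → Cfsg.HasNormalPComplement p H) : (∀ H : Subgroup G, H ≠ ⊤ → Group.IsNilpotent H) ∧ ¬ Group.IsNilpotent G ∧ ∀ P : Sylow p G, (P : Subgroup G).Normal := by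
  classical
  have hpp : p.Prime := Fact.out
  -- (a) a p-subgroup Q and a p'-element g normalizing but not centralizing it
  have hnF : ¬ Helper78.FrobHyp p G :=
    fun hF => h1 (Helper78.hasNormalPComplement_iff_frobHyp.mpr hF)
  unfold Helper78.FrobHyp at hnF
  push Not at hnF
  obtain ⟨Q, hQ, g, hgN, hgcop, hgC⟩ := hnF
  -- (b) Q ⊔ ⟨g⟩ = ⊤
  have htop : Q ⊔ Subgroup.zpowers g = ⊤ := by
    by_contra hne
    have hF := Helper78.hasNormalPComplement_iff_frobHyp.mp (h2 _ hne)
    set H := Q ⊔ Subgroup.zpowers g with hHdef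
    have hQH : Q ≤ H := le_sup_left
    have hgH : g ∈ H := (le_sup_right : Subgroup.zpowers g ≤ H) (Subgroup.mem_zpowers g)
    have hQ' : IsPGroup p (Q.subgroupOf H) := hQ.comap_subtype
    have hgN' : (⟨g, hgH⟩ : H) ∈ Subgroup.normalizer ((Q.subgroupOf H : Subgroup H) : Set H) := by
      rw [Subgroup.mem_normalizer_iff]
      intro h
      rw [Subgroup.mem_subgroupOf, Subgroup.mem_subgroupOf]
      exact Subgroup.mem_normalizer_iff.mp hgN (h : G)
    have hcop' : (orderOf (⟨g, hgH⟩ : H)).Coprime p := by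
      rw [Subgroup.orderOf_mk]; exact hgcop
    have hcen := hF (Q.subgroupOf H) hQ' ⟨g, hgH⟩ hgN' hcop'
    apply hgC
    rw [Subgroup.mem_centralizer_iff]
    intro x hx
    have hx' : (⟨x, hQH hx⟩ : H) ∈ Q.subgroupOf H := by
      rw [Subgroup.mem_subgroupOf]; exact hx
    have := Subgroup.mem_centralizer_iff.mp hcen ⟨x, hQH hx⟩ hx'
    exact congrArg Subtype.val this
  -- (c) Q is normal
  have hQn : Q.Normal := by
    rw [← Subgroup.normalizer_eq_top_iff, eq_top_iff, ← htop]
    exact sup_le Subgroup.le_normalizer (Subgroup.zpowers_le.mpr hgN)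
  -- (d) G/Q is cyclic of order prime to p
  let π := QuotientGroup.mk' Q
  have hπ : Function.Surjective π := QuotientGroup.mk'_surjective Q
  have hcyc : Subgroup.zpowers (π g) = ⊤ := by
    have h := congrArg (Subgroup.map π) htop
    rw [Subgroup.map_sup, Subgroup.map_top_of_surjective π hπ, MonoidHom.map_zpowers] at h
    have hQbot : Q.map π = ⊥ := by
      rw [Subgroup.map_eq_bot_iff, QuotientGroup.ker_mk']
    rw [hQbot, bot_sup_eq] at h
    exact h
  have hidx : Q.index = orderOf (π g) := by
    rw [Subgroup.index_eq_card, ← Nat.card_zpowers, hcyc, Subgroup.card_top]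
  have hidxcop : Q.index.Coprime p :=
    Nat.Coprime.coprime_dvd_left (hidx ▸ orderOf_map_dvd π g) hgcop
  have hcomm : commutator G ≤ Q := by
    haveI : IsCyclic (G ⧸ Q) := ⟨⟨π g, fun x => by
      have : x ∈ Subgroup.zpowers (π g) := hcyc ▸ Subgroup.mem_top x
      exact this⟩⟩
    exact Subgroup.Normal.quotient_commutative_iff_commutator_le.mp inferInstance
  -- every p-element lies in Q
  have hpel : ∀ z : G, ∀ k : ℕ, z ^ p ^ k = 1 → z ∈ Q := by
    intro z k hz
    have e1 : orderOf (π z) ∣ p ^ k :=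
      orderOf_dvd_of_pow_eq_one (by rw [← map_pow, hz, map_one])
    have e2 : orderOf (π z) ∣ Q.index := by
      rw [Subgroup.index_eq_card]; exact orderOf_dvd_natCard _
    have e3 : orderOf (π z) = 1 :=
      Nat.Coprime.eq_one_of_dvd
        (Nat.Coprime.coprime_dvd_left e1 (Nat.Coprime.pow_left k hidxcop.symm)) e2
    exact (QuotientGroup.eq_one_iff z).mp (orderOf_eq_one_iff.mp e3)
  refine ⟨?_, ?_, ?_⟩
  · -- (f) proper subgroups are nilpotent
    intro H hH
    obtain ⟨P, N, hNn, hNP⟩ := h2 H hH
    have hNcop : (Nat.card N).Coprime p := by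
      have e1 : ¬ p ∣ (P : Subgroup H).index := P.not_dvd_index
      rw [hNP.index_eq_card] at e1
      exact ((Nat.Prime.coprime_iff_not_dvd hpp).mpr e1).symm
    have key : ∀ z : H, z ∈ N → (z : G) ∈ Q → z = 1 := by
      intro z hzN hzQ
      obtain ⟨k, hk⟩ := hQ ⟨(z : G), hzQ⟩
      have hk' : z ^ p ^ k = 1 := by
        have := congrArg Subtype.val hk
        apply Subtype.ext
        simpa using this
      have e1 : orderOf z ∣ p ^ k := orderOf_dvd_of_pow_eq_one hk'
      have e2 : orderOf z ∣ Nat.card N := by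
        have := orderOf_dvd_natCard (⟨z, hzN⟩ : N)
        rwa [Subgroup.orderOf_mk] at this
      have e3 : orderOf z = 1 :=
        Nat.Coprime.eq_one_of_dvd
          (Nat.Coprime.coprime_dvd_left e1 (Nat.Coprime.pow_left k hNcop.symm)) e2
      exact orderOf_eq_one_iff.mp e3
    have hcommQ : ∀ a b : H, ((a * b * a⁻¹ * b⁻¹ : H) : G) ∈ Q := by
      intro a b
      apply hcomm
      have : ((a * b * a⁻¹ * b⁻¹ : H) : G) = ⁅(a : G), (b : G)⁆ := by
        rw [commutatorElement_def]; simp
      rw [this, commutator_def]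
      exact Subgroup.commutator_mem_commutator (Subgroup.mem_top _) (Subgroup.mem_top _)
    have hNnil : Group.IsNilpotent N := by
      have hNc : IsMulCommutative N := by
        refine ⟨⟨fun a b => ?_⟩⟩
        have hmem : (a : H) * b * (a : H)⁻¹ * (b : H)⁻¹ ∈ N :=
          N.mul_mem (N.mul_mem (N.mul_mem a.2 b.2) (N.inv_mem a.2)) (N.inv_mem b.2)
        have := key _ hmem (hcommQ a b)
        apply Subtype.ext
        have e : (a : H) * b = ((a : H) * b * (a : H)⁻¹ * (b : H)⁻¹) * (b * a) := by group
        rw [Subgroup.coe_mul, Subgroup.coe_mul, e, this, one_mul]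
      exact ⟨⟨1, Subgroup.upperCentralSeries_one_eq_top_iff.mpr hNc⟩⟩
    have hPnil : Group.IsNilpotent (P : Subgroup H) := P.2.isNilpotent
    have hNPcomm : ∀ a ∈ N, ∀ x ∈ (P : Subgroup H), Commute a x := by
      intro a ha x hx
      have hmem : a * x * a⁻¹ * x⁻¹ ∈ N := by
        have e : a * x * a⁻¹ * x⁻¹ = a * (x * a⁻¹ * x⁻¹) := by group
        rw [e]
        exact N.mul_mem ha (hNn.conj_mem _ (N.inv_mem ha) x)
      have := key _ hmem (hcommQ a x)
      have e : a * x = (a * x * a⁻¹ * x⁻¹) * (x * a) := by group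
      change a * x = x * a
      rw [e, this, one_mul]
    have hsup := isNilpotent_sup_of_commute hNnil hPnil hNPcomm
    rw [hNP.sup_eq_top] at hsup
    exact Group.nilpotent_of_mulEquiv (Subgroup.topEquiv : (⊤ : Subgroup H) ≃* H)
  · -- (e) G is not nilpotent
    intro hnil
    apply hgC
    rw [Subgroup.mem_centralizer_iff]
    intro x hx
    exact commute_of_nilpotent_coprime hnil Q hQ g hgcop x hx
  · -- Sylow p-subgroups are normal
    intro P
    have hPQ : (P : Subgroup G) ≤ Q := by
      intro z hz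
      obtain ⟨k, hk⟩ := P.2 ⟨z, hz⟩
      have hk' : z ^ p ^ k = 1 := by
        have := congrArg Subtype.val hk
        simpa using this
      exact hpel z k hk'
    have : Q = (P : Subgroup G) := P.is_maximal' hQ hPQ
    rw [← this]; exact hQn

end Cfsg.Agent.S0132
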