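import Cfsg.Statements.S0055
import Cfsg.Agent.Helper88.CoprimeAbelian

set_option autoImplicit false
open Cfsg
open scoped commutatorElement

namespace Cfsg.Agent.S0055

/-- If A normalises an abelian subgroup V of coprime order, then V is the internal direct product of its A-fixed points and its commutator with A: the two meet trivially and generate V. -/
theorem result {G : Type*} [Group G] [Finite G] (A V : Subgroup G) [IsMulCommutative V]
    (hAV : A ≤ Subgroup.normalizer (V : Set G)) (hcop : (Nat.card A).Coprime (Nat.card V)) :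
    (V ⊓ Subgroup.centralizer (A : Set G)) ⊓ ⁅V, A⁆ = ⊥ ∧ (V ⊓ Subgroup.centralizer (A : Set G)) ⊔ ⁅V, A⁆ = V := by
  classical
  -- the action hom
  let φ : A →* MulAut V := V.normalizerMonoidHom.comp (Subgroup.inclusion hAV)
  have hφ : ∀ (a : A) (v : V), ((φ a v : V) : G) = (a : G) * (v : G) * (a : G)⁻¹ := by
    intro a v; rfl
  set A' : Subgroup (MulAut V) := φ.range with hA'
  have hcop' : (Nat.card A').Coprime (Nat.card V) :=
    Nat.Coprime.coprime_dvd_left (Subgroup.card_range_dvd φ) hcop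
  set Fix' : Subgroup V := (V ⊓ Subgroup.centralizer (A : Set G)).subgroupOf V with hFix'
  set S' : Set V := {y : V | ∃ α ∈ A', ∃ g : V, y = g⁻¹ * α g} with hS'
  set Comm' : Subgroup V := Subgroup.closure S' with hComm'
  have hc : ∀ a b : V, a * b = b * a := fun a b => mul_comm' a b
  have hFix : ∀ g : V, g ∈ Fix' ↔ ∀ α ∈ A', α g = g := by
    intro g
    rw [hFix', Subgroup.mem_subgroupOf, Subgroup.mem_inf, Subgroup.mem_centralizer_iff]
    constructor
    · rintro ⟨_, h⟩ α ⟨a, rfl⟩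
      apply Subtype.ext
      rw [hφ]
      have := h (a : G) a.2
      rw [this]; group
    · intro h
      refine ⟨g.2, fun a ha => ?_⟩
      have h1 := h (φ ⟨a, ha⟩) ⟨⟨a, ha⟩, rfl⟩
      have h2 := congrArg (fun x : V => (x : G)) h1
      simp only [hφ] at h2
      calc a * (g : G) = (a * (g : G) * a⁻¹) * a := by group
        _ = (g : G) * a := by rw [h2]
  obtain ⟨h1, h2⟩ := Cfsg.Agent.Helper88.coprime_action_abelian hc A' hcop' Fix' Comm' hFix rfl
  -- transport to G
  have hmapFix : Fix'.map V.subtype = V ⊓ Subgroup.centralizer (A : Set G) := by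
    rw [hFix']; exact Subgroup.map_subgroupOf_eq_of_le inf_le_left
  have hmapComm : Comm'.map V.subtype = ⁅V, A⁆ := by
    rw [hComm', MonoidHom.map_closure, Subgroup.commutator_def]
    congr 1
    ext y
    constructor
    · rintro ⟨_, ⟨α, ⟨a, rfl⟩, g, rfl⟩, rfl⟩
      refine ⟨(g : G)⁻¹, V.inv_mem g.2, (a : G), a.2, ?_⟩
      simp only [Subgroup.coe_subtype, Subgroup.coe_mul, Subgroup.coe_inv, hφ, commutatorElement_def]
      group
    · rintro ⟨v, hv, a, ha, rfl⟩
      refine ⟨(⟨v, hv⟩ : V)⁻¹⁻¹ * φ ⟨a, ha⟩ (⟨v, hv⟩ : V)⁻¹, ⟨φ ⟨a, ha⟩, ⟨⟨a, ha⟩, rfl⟩, (⟨v, hv⟩ : V)⁻¹, rfl⟩, ?_⟩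
      simp only [Subgroup.coe_subtype, Subgroup.coe_mul, Subgroup.coe_inv, hφ, commutatorElement_def]
      group
  constructor
  · rw [← hmapFix, ← hmapComm, ← Subgroup.map_inf_eq _ _ _ V.subtype_injective, h1, Subgroup.map_bot]
  · rw [← hmapFix, ← hmapComm, ← Subgroup.map_sup, h2, ← MonoidHom.range_eq_map, Subgroup.range_subtype]

end Cfsg.Agent.S0055
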