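import Cfsg.Statements.S1459
import Cfsg.Agent.Helper30.Conj
import Cfsg.Agent.Helper1.PGroup
import Cfsg.Agent.Helper1.Carter
import Cfsg.Agent.Lib.Cores

set_option autoImplicit false
open Cfsg

namespace Cfsg.Agent.S1459

open scoped commutatorElement

section general
variable {G : Type*} [Group G]

/-- In a solvable group, a subgroup `H` with `H ≤ [H,H] M` for a normal subgroup `M` lies in `M`. -/
theorem le_of_le_commutator_sup [Group.IsSolvable G] (M : Subgroup G) [M.Normal] (H : Subgroup G)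
    (h : H ≤ ⁅H, H⁆ ⊔ M) : H ≤ M := by
  have h1 : H.map (QuotientGroup.mk' M) ≤ ⁅H.map (QuotientGroup.mk' M), H.map (QuotientGroup.mk' M)⁆ := by
    have := Subgroup.map_mono (f := QuotientGroup.mk' M) h
    rwa [Subgroup.map_sup, Subgroup.map_commutator, QuotientGroup.map_mk'_self, sup_bot_eq] at this
  have h2 : H.map (QuotientGroup.mk' M) = ⊥ := by
    by_contra hne
    exact absurd h1 (not_le_of_gt (Group.IsSolvable.commutator_lt_of_ne_bot hne))
  have h3 := (Subgroup.map_eq_bot_iff H).mp h2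
  rwa [QuotientGroup.ker_mk'] at h3

/-- `[H,K]` is normalized by `H` (for `H` normal) -/
theorem conj_commutator_mem {H K : Subgroup G} [H.Normal] {x : G} (hx : x ∈ H ∨ x ∈ K) :
    (⁅H, K⁆).map (MulAut.conj x).toMonoidHom ≤ ⁅H, K⁆ := by
  rw [Subgroup.map_le_iff_le_comap, Subgroup.commutator_le]
  intro a ha b hb
  rw [Subgroup.mem_comap]
  simp only [MulEquiv.coe_toMonoidHom, MulAut.conj_apply]
  rcases hx with hx | hx
  · have : x * ⁅a, b⁆ * x⁻¹ = ⁅x * a, b⁆ * ⁅x, b⁆⁻¹ := by
      simp only [commutatorElement_def]; group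
    rw [this]
    exact mul_mem (Subgroup.commutator_mem_commutator (mul_mem hx ha) hb)
      (inv_mem (Subgroup.commutator_mem_commutator hx hb))
  · have : x * ⁅a, b⁆ * x⁻¹ = ⁅x * a * x⁻¹, x * b * x⁻¹⁆ := by
      simp only [commutatorElement_def]; group
    rw [this]
    exact Subgroup.commutator_mem_commutator (Subgroup.Normal.conj_mem inferInstance a ha x)
      (mul_mem (mul_mem hx hb) (inv_mem hx))

theorem commutator_normal_of_sup_eq_top [Finite G] {H K : Subgroup G} [H.Normal]
    (hHK : H ⊔ K = ⊤) : (⁅H, K⁆).Normal := by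
  rw [← Subgroup.normalizer_eq_top_iff, eq_top_iff, ← hHK, sup_le_iff]
  constructor
  · intro x hx
    rw [← Cfsg.Agent.Helper30.cj_eq_self_iff]
    exact Subgroup.eq_of_le_of_card_ge (conj_commutator_mem (Or.inl hx))
      (by rw [Cfsg.Agent.Helper30.card_cj])
  · intro x hx
    rw [← Cfsg.Agent.Helper30.cj_eq_self_iff]
    exact Subgroup.eq_of_le_of_card_ge (conj_commutator_mem (Or.inr hx))
      (by rw [Cfsg.Agent.Helper30.card_cj])

end general


section partA
variable {G : Type*} [Group G] [Finite G]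

theorem map_conj_le_of_normal (N : Subgroup G) [hN : N.Normal] (x : G) :
    N.map (MulAut.conj x).toMonoidHom ≤ N := by
  rintro _ ⟨n, hn, rfl⟩
  simp only [MulEquiv.coe_toMonoidHom, MulAut.conj_apply]
  exact hN.conj_mem n hn x

/-- first half of (a): `H = [H,K]` -/
theorem eq_commutator_of_complement [Group.IsSolvable G] (H K : Subgroup G) [hHn : H.Normal]
    (hc : Subgroup.IsComplement' H K) (hle : H ≤ commutator G) : H = ⁅H, K⁆ := by
  have hsup : H ⊔ K = ⊤ := hc.sup_eq_top
  have hdisj : H ⊓ K = ⊥ := hc.disjoint.eq_bot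
  have hMn : (⁅H, K⁆).Normal := commutator_normal_of_sup_eq_top hsup
  have hMH : ⁅H, K⁆ ≤ H := Subgroup.commutator_le_left H K
  have hHHn : (⁅H, H⁆).Normal := Subgroup.commutator_normal H H
  have hN₁n : (⁅H, H⁆ ⊔ ⁅H, K⁆).Normal := Subgroup.sup_normal _ _
  have hN₁H : ⁅H, H⁆ ⊔ ⁅H, K⁆ ≤ H := sup_le (Subgroup.commutator_le_left H H) hMH
  -- L = N₁ K is normal
  have hLn : ((⁅H, H⁆ ⊔ ⁅H, K⁆) ⊔ K).Normal := by
    rw [← Subgroup.normalizer_eq_top_iff, eq_top_iff, ← hsup, sup_le_iff]
    constructor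
    · intro x hx
      rw [← Cfsg.Agent.Helper30.cj_eq_self_iff]
      refine Subgroup.eq_of_le_of_card_ge ?_ (by rw [Cfsg.Agent.Helper30.card_cj])
      rw [Subgroup.map_sup]
      refine sup_le ((map_conj_le_of_normal _ x).trans le_sup_left) ?_
      rintro _ ⟨k, hk, rfl⟩
      simp only [MulEquiv.coe_toMonoidHom, MulAut.conj_apply]
      have : x * k * x⁻¹ = ⁅x, k⁆ * k := by simp only [commutatorElement_def]; group
      rw [this]
      exact mul_mem (le_sup_left (a := ⁅H, H⁆ ⊔ ⁅H, K⁆) (b := K)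
        (le_sup_right (a := ⁅H, H⁆) (Subgroup.commutator_mem_commutator hx hk)))
        (le_sup_right (a := ⁅H, H⁆ ⊔ ⁅H, K⁆) hk)
    · exact le_sup_right.trans Subgroup.le_normalizer
  -- G' ≤ L
  have hG' : commutator G ≤ (⁅H, H⁆ ⊔ ⁅H, K⁆) ⊔ K := by
    rw [commutator_def, Subgroup.commutator_le]
    intro g₁ _ g₂ _
    have hdec : ∀ g : G, ∃ h ∈ H, (QuotientGroup.mk' ((⁅H, H⁆ ⊔ ⁅H, K⁆) ⊔ K)) g =
        (QuotientGroup.mk' ((⁅H, H⁆ ⊔ ⁅H, K⁆) ⊔ K)) h := by
      intro g
      have hg : g ∈ H ⊔ K := by rw [hsup]; trivial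
      obtain ⟨h, hh, k, hk, rfl⟩ := Subgroup.mem_sup_of_normal_left.mp hg
      refine ⟨h, hh, ?_⟩
      rw [map_mul]
      have : (QuotientGroup.mk' ((⁅H, H⁆ ⊔ ⁅H, K⁆) ⊔ K)) k = 1 := by
        rw [QuotientGroup.mk'_apply, QuotientGroup.eq_one_iff]
        exact le_sup_right (a := ⁅H, H⁆ ⊔ ⁅H, K⁆) hk
      rw [this, mul_one]
    obtain ⟨h₁, hh₁, e₁⟩ := hdec g₁
    obtain ⟨h₂, hh₂, e₂⟩ := hdec g₂
    rw [← QuotientGroup.eq_one_iff, ← QuotientGroup.mk'_apply, map_commutatorElement, e₁, e₂,
      ← map_commutatorElement, QuotientGroup.mk'_apply, QuotientGroup.eq_one_iff]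
    exact le_sup_left (a := ⁅H, H⁆ ⊔ ⁅H, K⁆) (b := K)
      (le_sup_left (a := ⁅H, H⁆) (Subgroup.commutator_mem_commutator hh₁ hh₂))
  -- H ≤ N₁
  have hHN₁ : H ≤ ⁅H, H⁆ ⊔ ⁅H, K⁆ := by
    intro x hx
    have hxL := hG' (hle hx)
    obtain ⟨n, hn, k, hk, hnk⟩ := Subgroup.mem_sup_of_normal_left.mp hxL
    have hkH : k ∈ H := by
      have : k = n⁻¹ * x := by rw [← hnk]; group
      rw [this]
      exact mul_mem (inv_mem (hN₁H hn)) hx
    have hk1 : k = 1 := by
      have : k ∈ H ⊓ K := ⟨hkH, hk⟩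
      rwa [hdisj, Subgroup.mem_bot] at this
    rw [← hnk, hk1, mul_one]
    exact hn
  exact le_antisymm (le_of_le_commutator_sup ⁅H, K⁆ H hHN₁) hMH

end partA


section partA2
variable {G : Type*} [Group G] [Finite G]

/-- the norm map `H → H/H'`, `h ↦ ∏_{k ∈ K} (k h k⁻¹) H'` -/
noncomputable def normHom (H K : Subgroup G) [H.Normal] : ↥H →* Abelianization ↥H :=
  letI : Fintype ↥K := Fintype.ofFinite _
  ∏ k : ↥K, (Abelianization.of).comp (MulAut.conjNormal (H := H) (k : G)).toMonoidHom

theorem normHom_apply (H K : Subgroup G) [H.Normal] (h : ↥H) :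
    letI : Fintype ↥K := Fintype.ofFinite _
    normHom H K h = ∏ k : ↥K, Abelianization.of (MulAut.conjNormal (H := H) (k : G) h) := by
  unfold normHom
  rw [MonoidHom.finsetProd_apply]
  rfl

theorem normHom_conj (H K : Subgroup G) [H.Normal] (k₀ : ↥K) (h : ↥H) :
    normHom H K (MulAut.conjNormal (H := H) (k₀ : G) h) = normHom H K h := by
  let _ : Fintype ↥K := Fintype.ofFinite _
  rw [normHom_apply, normHom_apply]
  refine Fintype.prod_equiv (Equiv.mulRight k₀) _ _ ?_
  intro k
  simp only [Equiv.coe_mulRight, Subgroup.coe_mul, map_mul, MulAut.mul_apply]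

theorem normHom_fixed (H K : Subgroup G) [H.Normal] (h : ↥H)
    (hfix : ∀ k ∈ K, k * (h : G) * k⁻¹ = h) :
    normHom H K h = (Abelianization.of h) ^ Nat.card ↥K := by
  let _ : Fintype ↥K := Fintype.ofFinite _
  rw [normHom_apply]
  have : ∀ k : ↥K, Abelianization.of (MulAut.conjNormal (H := H) (k : G) h) = Abelianization.of h := by
    intro k
    congr 1
    apply Subtype.ext
    rw [MulAut.conjNormal_apply]
    exact hfix k k.2
  rw [Finset.prod_congr rfl (fun k _ => this k), Finset.prod_const, Finset.card_univ,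
    Nat.card_eq_fintype_card]

/-- second half of (a) -/
theorem inf_centralizer_le_commutator (H K : Subgroup G) [hHn : H.Normal]
    (hcop : (Nat.card H).Coprime (Nat.card K)) (hHK : H = ⁅H, K⁆) :
    H ⊓ Subgroup.centralizer (K : Set G) ≤ ⁅H, H⁆ := by
  -- the norm map kills `[H,K] = H`
  have hker : H ≤ (normHom H K).ker.map H.subtype := by
    conv_lhs => rw [hHK]
    rw [Subgroup.commutator_le]
    intro a ha b hb
    have hmem : ⁅a, b⁆ ∈ H := by
      rw [hHK]; exact Subgroup.commutator_mem_commutator ha hb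
    refine ⟨⟨⁅a, b⁆, hmem⟩, ?_, rfl⟩
    rw [SetLike.mem_coe, MonoidHom.mem_ker]
    have : (⟨⁅a, b⁆, hmem⟩ : ↥H) = ⟨a, ha⟩ * MulAut.conjNormal (H := H) b (⟨a, ha⟩⁻¹) := by
      apply Subtype.ext
      rw [Subgroup.coe_mul, MulAut.conjNormal_apply]
      simp only [commutatorElement_def, Subgroup.coe_inv]
      group
    rw [this, map_mul, normHom_conj H K ⟨b, hb⟩, ← map_mul, mul_inv_cancel, map_one]
  intro x hx
  obtain ⟨hxH, hxC⟩ := Subgroup.mem_inf.mp hx
  obtain ⟨x', hx'ker, hx'⟩ := hker hxH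
  rw [SetLike.mem_coe, MonoidHom.mem_ker] at hx'ker
  have hx'val : (x' : G) = x := hx'
  have hfix : ∀ k ∈ K, k * (x' : G) * k⁻¹ = x' := by
    intro k hk
    rw [hx'val]
    have := (Subgroup.mem_centralizer_iff.mp hxC) k hk
    rw [this, mul_inv_cancel_right]
  have h1 : (Abelianization.of x') ^ Nat.card ↥K = 1 := by
    rw [← normHom_fixed H K x' hfix, hx'ker]
  have h2 : (Abelianization.of x') ^ Nat.card ↥H = 1 := by
    rw [← map_pow, pow_card_eq_one', map_one]
  have h3 : orderOf (Abelianization.of x') = 1 :=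
    Nat.eq_one_of_dvd_coprimes hcop (orderOf_dvd_of_pow_eq_one h2) (orderOf_dvd_of_pow_eq_one h1)
  have h4 : Abelianization.of x' = 1 := orderOf_eq_one_iff.mp h3
  have h5 : x' ∈ commutator ↥H := by
    rw [← Abelianization.ker_of, MonoidHom.mem_ker]; exact h4
  rw [← Subgroup.map_subtype_commutator]
  exact ⟨x', h5, hx'⟩

end partA2


section partB

/-- a finite `q`-group whose derived subgroup has index `q` is abelian -/
theorem commutator_eq_bot_of_index_prime {Γ : Type*} [Group Γ] [Finite Γ] {q : ℕ} [hq : Fact q.Prime]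
    (hΓ : IsPGroup q Γ) (hidx : (commutator Γ).index = q) : commutator Γ = ⊥ := by
  have hne : commutator Γ ≠ ⊤ := by
    intro h
    rw [h, Subgroup.index_top] at hidx
    exact hq.out.one_lt.ne hidx
  obtain ⟨x, hx⟩ : ∃ x : Γ, x ∉ commutator Γ := by
    by_contra h
    push Not at h
    exact hne (eq_top_iff.mpr fun y _ => h y)
  have htop : Subgroup.zpowers x = ⊤ := by
    by_contra hnt
    obtain ⟨M, hM, hxM⟩ := (eq_top_or_exists_le_coatom (Subgroup.zpowers x)).resolve_left hnt
    obtain ⟨-, hMidx⟩ := Cfsg.Agent.Helper1.coatom_normal_index hΓ M hM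
    have hle := Cfsg.Agent.Helper1.commutator_le_coatom hΓ M hM
    have h1 := Subgroup.relIndex_mul_index hle
    rw [hMidx, hidx] at h1
    have h2 : (commutator Γ).relIndex M = 1 := by
      have hqpos := hq.out.pos
      nlinarith [Nat.eq_of_mul_eq_mul_right hqpos (by rw [h1, one_mul] : (commutator Γ).relIndex M * q = 1 * q)]
    rw [Subgroup.relIndex_eq_one] at h2
    exact hx (h2 (hxM (Subgroup.mem_zpowers x)))
  have hcomm : ∀ a b : Γ, a * b = b * a := by
    intro a b
    obtain ⟨m, rfl⟩ := Subgroup.mem_zpowers_iff.mp (htop ▸ Subgroup.mem_top a : a ∈ Subgroup.zpowers x)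
    obtain ⟨n, rfl⟩ := Subgroup.mem_zpowers_iff.mp (htop ▸ Subgroup.mem_top b : b ∈ Subgroup.zpowers x)
    rw [← zpow_add, add_comm, zpow_add]
  rw [commutator_def, Subgroup.commutator_eq_bot_iff_le_centralizer]
  intro a _
  rw [Subgroup.mem_centralizer_iff]
  intro b _
  exact hcomm b a

variable {G : Type*} [Group G] [Finite G]

/-- (b1): coprimality -/
theorem coprime_card_commutator_index (hnil : Group.IsNilpotent ↥(commutator G))
    (hidx : (commutator G).index.Prime) :
    (Nat.card ↥(commutator G)).Coprime (commutator G).index := by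
  set q := (commutator G).index with hq
  have hqf : Fact q.Prime := ⟨hidx⟩
  set N := commutator G with hN
  -- R = O^q(G) ≤ G'
  have hR1 : Cfsg.pResidual q G ≤ N := by
    apply Cfsg.Agent.Lib.pResidual_le_of_isPGroup_quotient
    apply IsPGroup.of_card (n := 1)
    rw [pow_one, ← Subgroup.index_eq_card]
  -- G' ≤ R
  have hR2 : N ≤ Cfsg.pResidual q G := by
    have hΓ := Cfsg.Agent.Lib.isPGroup_quotient_pResidual (G := G) q
    have hcomm : commutator (G ⧸ Cfsg.pResidual q G) = N.map (QuotientGroup.mk' (Cfsg.pResidual q G)) := by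
      rw [hN, commutator_def, commutator_def, Subgroup.map_commutator,
        Subgroup.map_top_of_surjective _ (QuotientGroup.mk'_surjective _)]
    have hidx' : (commutator (G ⧸ Cfsg.pResidual q G)).index = q := by
      rw [hcomm, Subgroup.index_map, QuotientGroup.ker_mk', sup_of_le_left hR1,
        MonoidHom.range_eq_top.mpr (QuotientGroup.mk'_surjective _), Subgroup.index_top, mul_one]
    have h0 := commutator_eq_bot_of_index_prime hΓ hidx'
    rw [hcomm] at h0
    have := (Subgroup.map_eq_bot_iff N).mp h0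
    rwa [QuotientGroup.ker_mk'] at this
  -- Sylow q-subgroup of N and its normal complement
  obtain ⟨P⟩ : Nonempty (Sylow q ↥N) := inferInstance
  have h03 := (Group.isNilpotent_of_finite_tfae (G := ↥N)).out 0 3
  have hPn : (P : Subgroup ↥N).Normal := (h03.mp hnil) q hqf P
  have hPcop : (Nat.card (P : Subgroup ↥N)).Coprime (P : Subgroup ↥N).index := P.card_coprime_index
  obtain ⟨T, hT⟩ := Subgroup.exists_right_complement'_of_coprime hPcop
  have hTcard : Nat.card ↥T = (P : Subgroup ↥N).index := hT.symm.index_eq_card.symm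
  have hTidx : T.index = Nat.card (P : Subgroup ↥N) := hT.index_eq_card
  have hThall : (Nat.card ↥T).Coprime T.index := by
    rw [hTcard, hTidx]; exact hPcop.symm
  have hTn : T.Normal := Cfsg.Agent.Helper1.normal_of_hall_of_isNilpotent T hThall
  -- every q'-element of G lies in T
  have hmem : Cfsg.pResidual q G ≤ T.map N.subtype := by
    unfold Cfsg.pResidual
    rw [Subgroup.closure_le]
    intro x hx
    have hxc : (orderOf x).Coprime q := hx
    have hxN : x ∈ N := hR1 (Cfsg.Agent.Lib.mem_pResidual_of_coprime hxc)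
    refine ⟨⟨x, hxN⟩, ?_, rfl⟩
    rw [SetLike.mem_coe, ← QuotientGroup.eq_one_iff]
    have h1 : orderOf ((⟨x, hxN⟩ : ↥N) : ↥N ⧸ T) ∣ orderOf x := by
      apply orderOf_dvd_of_pow_eq_one
      rw [← QuotientGroup.mk_pow]
      have : (⟨x, hxN⟩ : ↥N) ^ orderOf x = 1 := by
        apply Subtype.ext
        simp [pow_orderOf_eq_one]
      rw [this]; rfl
    have h2 : orderOf ((⟨x, hxN⟩ : ↥N) : ↥N ⧸ T) ∣ Nat.card (P : Subgroup ↥N) := by
      rw [← hTidx, Subgroup.index_eq_card]
      exact orderOf_dvd_natCard _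
    obtain ⟨k, hk⟩ := IsPGroup.iff_card.mp P.2
    rw [hk] at h2
    have h3 : (orderOf ((⟨x, hxN⟩ : ↥N) : ↥N ⧸ T)).Coprime (q ^ k) :=
      (Nat.Coprime.coprime_dvd_left h1 hxc).pow_right k
    exact orderOf_eq_one_iff.mp (Nat.Coprime.eq_one_of_dvd h3 h2)
  have hTtop : T = ⊤ := by
    rw [eq_top_iff]
    intro y _
    obtain ⟨t, ht, hty⟩ := hmem (hR2 y.2)
    have : t = y := Subtype.ext hty
    rwa [← this]
  have hcard : Nat.card ↥N = (P : Subgroup ↥N).index := by
    rw [← hTcard, hTtop]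
    exact (Nat.card_congr (Subgroup.topEquiv (G := ↥N)).toEquiv).symm
  rw [hcard]
  exact (Nat.Prime.coprime_iff_not_dvd hidx).mpr P.not_dvd_index |>.symm

end partB


section partB2
variable {G : Type*} [Group G] [Finite G]

/-- (b2): `G' = [G,K]` for every complement `K` of `G'` -/
theorem commutator_eq_commutator_top [Group.IsSolvable G] (K : Subgroup G)
    (hc : Subgroup.IsComplement' (commutator G) K) : commutator G = ⁅(⊤ : Subgroup G), K⁆ := by
  have hsup : commutator G ⊔ K = ⊤ := hc.sup_eq_top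
  have hNn : (⁅(⊤ : Subgroup G), K⁆).Normal :=
    commutator_normal_of_sup_eq_top (H := ⊤) (K := K) (by simp)
  have hNle : ⁅(⊤ : Subgroup G), K⁆ ≤ commutator G := by
    rw [commutator_def]; exact Subgroup.commutator_mono le_rfl le_top
  have hDn : (⁅commutator G, commutator G⁆).Normal := Subgroup.commutator_normal _ _
  have hN'n : (⁅commutator G, commutator G⁆ ⊔ ⁅(⊤ : Subgroup G), K⁆).Normal := Subgroup.sup_normal _ _
  have hle : commutator G ≤ ⁅commutator G, commutator G⁆ ⊔ ⁅(⊤ : Subgroup G), K⁆ := by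
    conv_lhs => rw [commutator_def]
    rw [Subgroup.commutator_le]
    intro g₁ _ g₂ _
    set π := QuotientGroup.mk' (⁅commutator G, commutator G⁆ ⊔ ⁅(⊤ : Subgroup G), K⁆) with hπ
    have hK : ∀ k ∈ K, ∀ g : G, Commute (π g) (π k) := by
      intro k hk g
      have h1 : ⁅g, k⁆ ∈ ⁅commutator G, commutator G⁆ ⊔ ⁅(⊤ : Subgroup G), K⁆ :=
        le_sup_right (a := ⁅commutator G, commutator G⁆)
          (Subgroup.commutator_mem_commutator (Subgroup.mem_top g) hk)
      have h2 : π ⁅g, k⁆ = 1 := by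
        rw [hπ, QuotientGroup.mk'_apply, QuotientGroup.eq_one_iff]; exact h1
      rw [map_commutatorElement, commutatorElement_eq_one_iff_commute] at h2
      exact h2
    have hA : ∀ a ∈ commutator G, ∀ b ∈ commutator G, Commute (π a) (π b) := by
      intro a ha b hb
      have h1 : ⁅a, b⁆ ∈ ⁅commutator G, commutator G⁆ ⊔ ⁅(⊤ : Subgroup G), K⁆ :=
        le_sup_left (b := ⁅(⊤ : Subgroup G), K⁆) (Subgroup.commutator_mem_commutator ha hb)
      have h2 : π ⁅a, b⁆ = 1 := by
        rw [hπ, QuotientGroup.mk'_apply, QuotientGroup.eq_one_iff]; exact h1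
      rw [map_commutatorElement, commutatorElement_eq_one_iff_commute] at h2
      exact h2
    have hg₁ : g₁ ∈ commutator G ⊔ K := by rw [hsup]; trivial
    have hg₂ : g₂ ∈ commutator G ⊔ K := by rw [hsup]; trivial
    obtain ⟨a₁, ha₁, k₁, hk₁, rfl⟩ := Subgroup.mem_sup_of_normal_left.mp hg₁
    obtain ⟨a₂, ha₂, k₂, hk₂, rfl⟩ := Subgroup.mem_sup_of_normal_left.mp hg₂
    have hcomm : Commute (π (a₁ * k₁)) (π (a₂ * k₂)) := by
      rw [map_mul, map_mul]
      refine Commute.mul_left ?_ ?_
      · exact Commute.mul_right (hA a₁ ha₁ a₂ ha₂) (hK k₂ hk₂ a₁)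
      · rw [← map_mul]
        exact (hK k₁ hk₁ (a₂ * k₂)).symm
    have h3 : π ⁅a₁ * k₁, a₂ * k₂⁆ = 1 := by
      rw [map_commutatorElement, commutatorElement_eq_one_iff_commute]; exact hcomm
    rw [hπ, QuotientGroup.mk'_apply, QuotientGroup.eq_one_iff] at h3
    exact h3
  exact le_antisymm (le_of_le_commutator_sup _ _ hle) hNle

end partB2

/-- Let G be a finite solvable group. (a) If H is a normal subgroup of order coprime to its index, K is a complement to H, and H ≤ G', then H = [H, K] and H ∩ C_G(K) ≤ [H, H]. (b) If G' is nilpotent and has prime index in G, then the order of G' is coprime to its index and G' = [G, K] (the subgroup generated by commutators of elements of G with elements of K) for every complement K of G'. -/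
theorem result {G : Type*} [Group G] [Finite G] [Group.IsSolvable G] :
    (∀ (H K : Subgroup G), H.Normal → (Nat.card H).Coprime H.index → Subgroup.IsComplement' H K → H ≤ commutator G →
        H = ⁅H, K⁆ ∧ H ⊓ Subgroup.centralizer (K : Set G) ≤ ⁅H, H⁆) ∧
      (Group.IsNilpotent ↥(commutator G) → (commutator G).index.Prime →
        (Nat.card ↥(commutator G)).Coprime (commutator G).index ∧
        ∀ K : Subgroup G, Subgroup.IsComplement' (commutator G) K → commutator G = ⁅(⊤ : Subgroup G), K⁆) := by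
  constructor
  · intro H K hHn hcop hc hle
    have hHK := eq_commutator_of_complement H K hc hle
    refine ⟨hHK, ?_⟩
    have hcop' : (Nat.card ↥H).Coprime (Nat.card ↥K) := by
      rw [← hc.symm.index_eq_card]; exact hcop
    exact inf_centralizer_le_commutator H K hcop' hHK
  · intro hnil hidx
    exact ⟨coprime_card_commutator_index hnil hidx, fun K hc => commutator_eq_commutator_top K hc⟩

end Cfsg.Agent.S1459
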