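-- Statement S1324: coprime generation by centralizers of subgroups of index at most p.
import Cfsg.Statements.S1324
import Cfsg.Agent.Helper31.CoprimeHypRel
import Cfsg.Agent.Lib.Cores

set_option autoImplicit false
open Cfsg
open Cfsg.Agent.Helper31

namespace Cfsg.Agent.S1324

/-- Let A be a noncyclic elementary abelian p-subgroup of a finite group H normalizing a subgroup X of order prime to p. Then X is generated by the subgroups X ∩ C_H(B), B ranging over the subgroups of A of index at most p. -/
theorem result {H : Type*} [Group H] [Finite H] (p : ℕ) [Fact p.Prime] (A X : Subgroup H) (hA : Cfsg.IsElementaryAbelian p A) (hA2 : p ^ 2 ≤ Nat.card ↥A) (hX : ¬ p ∣ Nat.card ↥X) (hAX : A ≤ Subgroup.normalizer (X : Set H)) : X = ⨆ B : {B : Subgroup H // B ≤ A ∧ B.relIndex A ≤ p}, X ⊓ Subgroup.centralizer ((B : Subgroup H) : Set H) := by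
  apply le_antisymm
  · refine (le_iSup_hyperplane_relIndex X A hX hAX
      (fun x hx y hy => Cfsg.Agent.Lib.isElementaryAbelian_commute hA hx hy) hA.2 hA2).trans ?_
    apply iSup_le
    rintro ⟨F, hFA, hF⟩
    exact le_iSup (fun B : {B : Subgroup H // B ≤ A ∧ B.relIndex A ≤ p} =>
      X ⊓ Subgroup.centralizer ((B : Subgroup H) : Set H)) ⟨F, hFA, hF.le⟩
  · apply iSup_le
    intro B
    exact inf_le_left

end Cfsg.Agent.S1324
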