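import Cfsg.Statements.S0027
import Cfsg.Agent.S0026

set_option autoImplicit false
open Cfsg

namespace Cfsg.Agent.S0027

open scoped commutatorElement

/-- Under coprime action the commutator subgroup with A is stable: taking the commutator with A twice gives the same subgroup as once. -/
theorem result {G : Type*} [Group G] [Finite G] (A K : Subgroup G) (hAK : A ≤ Subgroup.normalizer (K : Set G))
    (hcop : (Nat.card A).Coprime (Nat.card K)) (hsolv : Group.IsSolvable A ∨ Group.IsSolvable K) :
    ⁅⁅K, A⁆, A⁆ = ⁅K, A⁆ := by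
  have hle : ⁅K, A⁆ ≤ K := Subgroup.le_normalizer_iff_commutator_le_left.mp hAK
  apply le_antisymm (Subgroup.commutator_mono hle le_rfl)
  rw [Subgroup.commutator_le]
  intro k hk a ha
  have h26 := Cfsg.Agent.S0026.result A K hAK hcop hsolv
  have hk' : k ∈ (↑(⁅K, A⁆ ⊔ (K ⊓ Subgroup.centralizer (A : Set G))) : Set G) := by
    rw [h26]; exact hk
  rw [Subgroup.coe_mul_of_right_le_normalizer_left _ _
    (inf_le_left.trans (Subgroup.normalizer_commutator_ge_left K A))] at hk'
  obtain ⟨m, hm, c, hc, rfl⟩ := hk'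
  have hca : c * a = a * c := by
    have := (Subgroup.mem_centralizer_iff.mp (Subgroup.mem_inf.mp hc).2) a ha
    exact this.symm
  have h1 : ⁅m * c, a⁆ = ⁅m, a⁆ := by
    rw [commutatorElement_def, commutatorElement_def]
    calc m * c * a * (m * c)⁻¹ * a⁻¹ = m * (c * a) * c⁻¹ * m⁻¹ * a⁻¹ := by simp [mul_assoc]
      _ = m * (a * c) * c⁻¹ * m⁻¹ * a⁻¹ := by rw [hca]
      _ = m * a * m⁻¹ * a⁻¹ := by simp [mul_assoc]
  rw [h1]
  exact Subgroup.commutator_mem_commutator hm ha

end Cfsg.Agent.S0027
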