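import Cfsg.Statements.S0058
import Cfsg.Agent.Helper48.CoprimeGen
import Cfsg.Agent.Helper48.NoncyclicAbelian

set_option autoImplicit false
open Cfsg

namespace Cfsg.Agent.S0058

open Cfsg.Agent.Helper48

/-- Generation by centralisers: when a noncyclic abelian group A normalises K with coprime orders, K is generated by the fixed-point subgroups of the nonidentity elements of A. -/
theorem result {G : Type*} [Group G] [Finite G] (A K : Subgroup G)
    [IsMulCommutative A] (hA : ¬ IsCyclic A) (hAK : A ≤ Subgroup.normalizer (K : Set G)) (hcop : (Nat.card A).Coprime (Nat.card K)) :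
    (⨆ a ∈ {a : G | a ∈ A ∧ a ≠ 1}, K ⊓ Subgroup.centralizer {a}) = K := by
  apply le_antisymm
  · exact iSup₂_le (fun _ _ => inf_le_left)
  · let _ : CommGroup A := { (inferInstance : Group A) with mul_comm := fun u v => mul_comm' u v }
    obtain ⟨p, hp, hcard⟩ := exists_prime_sq_le_card_torsion hA
    have : Fact p.Prime := ⟨hp⟩
    set T : Subgroup A := (powMonoidHom p : A →* A).ker with hT
    set A₁ : Subgroup G := T.map A.subtype with hA₁
    have hA₁A : A₁ ≤ A := by rintro _ ⟨x, -, rfl⟩; exact x.2
    have hcomm : ∀ x ∈ A₁, ∀ y ∈ A₁, x * y = y * x := by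
      rintro _ ⟨x, -, rfl⟩ _ ⟨y, -, rfl⟩
      have := mul_comm' x y
      exact congrArg Subtype.val this
    have hexp : ∀ a ∈ A₁, a ^ p = 1 := by
      rintro _ ⟨x, hx, rfl⟩
      have hx' : x ∈ (powMonoidHom p : A →* A).ker := hx
      rw [MonoidHom.mem_ker, powMonoidHom_apply] at hx'
      rw [← map_pow, hx', map_one]
    have hcard₁ : p ^ 2 ≤ Nat.card A₁ := by
      rw [hA₁, Subgroup.card_map_of_injective A.subtype_injective]; exact hcard
    -- p divides card A, hence not card K
    have hpK : ¬ p ∣ Nat.card K := by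
      intro hdvd
      have hpA : p ∣ Nat.card A := by
        have h1 : p ∣ Nat.card A₁ := by
          have hpg : IsPGroup p A₁ := by
            intro a
            exact ⟨1, Subtype.ext (by simpa using hexp a a.2)⟩
          obtain ⟨k, hk⟩ := IsPGroup.iff_card.mp hpg
          have hk0 : k ≠ 0 := by
            rintro rfl
            rw [hk, pow_zero] at hcard₁
            have := hp.one_lt
            nlinarith
          rw [hk]; exact dvd_pow_self p hk0
        exact h1.trans (Subgroup.card_dvd_of_le hA₁A)
      have := Nat.dvd_gcd hpA hdvd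
      rw [hcop] at this
      exact hp.one_lt.ne' (Nat.dvd_one.mp this)
    refine (le_cgen_of_le_card K A₁ hpK (hA₁A.trans hAK) hcomm hexp hcard₁).trans ?_
    unfold cgen
    apply iSup_le
    rintro ⟨a, haA, ha1⟩
    exact le_iSup₂ (f := fun a (_ : a ∈ {a : G | a ∈ A ∧ a ≠ 1}) => K ⊓ Subgroup.centralizer {a}) a ⟨hA₁A haA, ha1⟩

end Cfsg.Agent.S0058
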