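import Mathlib
import Cfsg.Statements.S3754
import Cfsg.Agent.Helper62.MinPair
import Cfsg.Agent.Helper63.Frattini
-- import your own Cfsg.Agent.* helpers here

set_option autoImplicit false
open Cfsg
open scoped commutatorElement

namespace Cfsg.Agent.S3754


/-- In a finite `p`-group the derived subgroup lies in the Frattini subgroup. -/
theorem commutator_le_frattini_of_isPGroup {G : Type*} [Group G] [Finite G] {p : ℕ} [Fact p.Prime]
    (hG : IsPGroup p G) : commutator G ≤ frattini G := by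
  unfold frattini Order.radical
  simp only [le_iInf_iff]
  intro K hK
  haveI hn : K.Normal := Cfsg.Agent.Helper63.normal_of_isCoatom_of_isPGroup hG K hK
  have hidx : K.index = p := Cfsg.Agent.Helper63.index_of_isCoatom_of_isPGroup hG K hK
  have hcard : Nat.card (G ⧸ K) = p := by rw [← Subgroup.index_eq_card]; exact hidx
  haveI : IsCyclic (G ⧸ K) := isCyclic_of_prime_card hcard
  have hcomm : IsMulCommutative (G ⧸ K) := ⟨⟨IsCyclic.commGroup.mul_comm⟩⟩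
  exact Subgroup.Normal.quotient_commutative_iff_commutator_le.mp hcomm

/-- Let M be a finite p-soluble group and A a p-subgroup of M with Φ(A) ≤ O_p(M) but A ≰ O_p(M). Then there is x ∈ O_{p,p'}(M) such that L = ⟨A, xAx⁻¹⟩ satisfies: x ∈ O^p(L) and O^p(L) ≤ O_{p,p'}(M); [O^p(L), A] = O^p(L); A ∩ O_p(L) has index p in A; and [A ∩ O_p(L), L] ≤ O_p(M). Here O^p(L) is the subgroup generated by the p'-elements of L and O_{p,p'}(M) the preimage of O_{p'}(M/O_p(M)). -/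
theorem result {M : Type*} [Group M] [Finite M] {p : ℕ} [Fact p.Prime] (hM : Cfsg.IsPSolvable p M) (A : Subgroup M) (hA : IsPGroup p A) (hΦ : (frattini ↥A).map A.subtype ≤ Cfsg.pCore p M) (hnot : ¬ A ≤ Cfsg.pCore p M) : ∃ x ∈ (Cfsg.pPrimeCore p (M ⧸ Cfsg.pCore p M)).comap (QuotientGroup.mk' (Cfsg.pCore p M)), x ∈ (Cfsg.pResidual p ↥(A ⊔ A.map (MulAut.conj x).toMonoidHom)).map (A ⊔ A.map (MulAut.conj x).toMonoidHom).subtype ∧ (Cfsg.pResidual p ↥(A ⊔ A.map (MulAut.conj x).toMonoidHom)).map (A ⊔ A.map (MulAut.conj x).toMonoidHom).subtype ≤ (Cfsg.pPrimeCore p (M ⧸ Cfsg.pCore p M)).comap (QuotientGroup.mk' (Cfsg.pCore p M)) ∧ ⁅(Cfsg.pResidual p ↥(A ⊔ A.map (MulAut.conj x).toMonoidHom)).map (A ⊔ A.map (MulAut.conj x).toMonoidHom).subtype, A⁆ = (Cfsg.pResidual p ↥(A ⊔ A.map (MulAut.conj x).toMonoidHom)).map (A ⊔ A.map (MulAut.conj x).toMonoidHom).subtype ∧ (A ⊓ (Cfsg.pCore p ↥(A ⊔ A.map (MulAut.conj x).toMonoidHom)).map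 (A ⊔ A.map (MulAut.conj x).toMonoidHom).subtype).relIndex A = p ∧ ⁅A ⊓ (Cfsg.pCore p ↥(A ⊔ A.map (MulAut.conj x).toMonoidHom)).map (A ⊔ A.map (MulAut.conj x).toMonoidHom).subtype, A ⊔ A.map (MulAut.conj x).toMonoidHom⁆ ≤ Cfsg.pCore p M := by
  classical
  obtain ⟨W, hW⟩ : ∃ W, W = Cfsg.pCore p M := ⟨_, rfl⟩
  haveI hWchar : (Cfsg.pCore p M).Characteristic := Cfsg.Agent.Lib.pCore_characteristic p
  haveI hWn : (Cfsg.pCore p M).Normal := Subgroup.normal_of_characteristic _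
  haveI hKchar : (Cfsg.pPrimeCore p (M ⧸ Cfsg.pCore p M)).Characteristic :=
    Cfsg.Agent.Lib.pPrimeCore_characteristic p
  haveI hKn : (Cfsg.pPrimeCore p (M ⧸ Cfsg.pCore p M)).Normal := Subgroup.normal_of_characteristic _
  have hker : (QuotientGroup.mk' (Cfsg.pCore p M)).ker = Cfsg.pCore p M := QuotientGroup.ker_mk' _
  have hkerp : IsPGroup p (QuotientGroup.mk' (Cfsg.pCore p M)).ker := by
    rw [hker]; exact Cfsg.Agent.Lib.isPGroup_pCore p
  have hKb : (Nat.card (Cfsg.pPrimeCore p (M ⧸ Cfsg.pCore p M))).Coprime p :=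
    Cfsg.Agent.Lib.card_pPrimeCore_coprime p
  have hcen := Cfsg.Agent.Helper62.centralizer_pPrimeCore_le_of_isPSolvable
    (Cfsg.Agent.Helper11.isPSolvable_quotient (Cfsg.pCore p M) hM)
    (Cfsg.Agent.Helper62.pCore_quotient_pCore_eq_bot p)
  haveI : Group.IsNilpotent ↥A := hA.isNilpotent
  have hab : ∀ a ∈ A, ∀ b ∈ A, (QuotientGroup.mk' (Cfsg.pCore p M)) a *
      (QuotientGroup.mk' (Cfsg.pCore p M)) b =
      (QuotientGroup.mk' (Cfsg.pCore p M)) b * (QuotientGroup.mk' (Cfsg.pCore p M)) a := by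
    intro a ha b hb
    have h1 : (⁅(⟨a, ha⟩ : ↥A), (⟨b, hb⟩ : ↥A)⁆ : ↥A) ∈ frattini ↥A :=
      commutator_le_frattini_of_isPGroup hA
        (Subgroup.commutator_mem_commutator (Subgroup.mem_top _) (Subgroup.mem_top _))
    have h2 : ⁅a, b⁆ ∈ Cfsg.pCore p M := hΦ ⟨_, h1, rfl⟩
    have h3 : (QuotientGroup.mk' (Cfsg.pCore p M)) ⁅a, b⁆ = 1 := by
      rw [QuotientGroup.mk'_apply, QuotientGroup.eq_one_iff]; exact h2
    rw [map_commutatorElement, commutatorElement_eq_one_iff_mul_comm] at h3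
    exact h3
  have hexp : ∀ a ∈ A, (QuotientGroup.mk' (Cfsg.pCore p M)) a ^ p = 1 := by
    intro a ha
    have h1 : (⟨a, ha⟩ : ↥A) ^ p ∈ frattini ↥A :=
      Cfsg.Agent.Helper63.pow_prime_mem_frattini hA _
    have h2 : a ^ p ∈ Cfsg.pCore p M := hΦ ⟨_, h1, rfl⟩
    rw [← map_pow, QuotientGroup.mk'_apply, QuotientGroup.eq_one_iff]
    exact h2
  have hnot' : ¬ A ≤ (QuotientGroup.mk' (Cfsg.pCore p M)).ker := by rw [hker]; exact hnot
  obtain ⟨x, hxK, h2, h3, h4, h5, h6⟩ := Cfsg.Agent.Helper62.exists_pair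
    (QuotientGroup.mk' (Cfsg.pCore p M)) (QuotientGroup.mk'_surjective _) hkerp
    (Cfsg.pPrimeCore p (M ⧸ Cfsg.pCore p M)) hKb hcen A hA hab hexp hnot'
  refine ⟨x, hxK, h2, Subgroup.map_le_iff_le_comap.mp h3, h4, h5, ?_⟩
  rw [hker] at h6
  exact h6

end Cfsg.Agent.S3754
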