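import Cfsg.Statements.S0095
import Mathlib
import Cfsg.Agent.Helper63.Class2
import Cfsg.Agent.Helper63.Extraspecial

set_option autoImplicit false
open Cfsg

namespace Cfsg.Agent.S0095

open Cfsg.Agent.Helper63

/-- Core induction: in a group with centre of prime order `p` and central commutators, every subgroup `W ⊇ Z(E)`
whose centre is `Z(E)` has order `p ^ (2m+1)`. -/
theorem card_of_nondeg {E : Type*} [Group E] [Finite E] {p : ℕ} (hp : p.Prime)
    (hc : ∀ a b : E, a * b * a⁻¹ * b⁻¹ ∈ Subgroup.center E) (hZ : Nat.card (Subgroup.center E) = p) :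
    ∀ (n : ℕ) (W : Subgroup E), Nat.card W = n → Subgroup.center E ≤ W →
      (∀ w ∈ W, (∀ w' ∈ W, w * w' = w' * w) → w ∈ Subgroup.center E) →
      ∃ m : ℕ, Nat.card W = p ^ (2 * m + 1) := by
  intro n
  induction' n using Nat.strong_induction_on with n ih
  intro W hn hZW hnd
  by_cases hW : W ≤ Subgroup.center E
  · refine ⟨0, ?_⟩
    rw [le_antisymm hW hZW, hZ]
    simp
  · obtain ⟨x, hxW, hxZ⟩ := SetLike.not_le_iff_exists.mp hW
    have hy : ∃ y ∈ W, x * y ≠ y * x := by
      by_contra hcon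
      push Not at hcon
      exact hxZ (hnd x hxW hcon)
    obtain ⟨y, hyW, hxy⟩ := hy
    have hyx : y * x ≠ x * y := fun h => hxy h.symm
    set Wx : Subgroup E := W ⊓ Subgroup.centralizer {x} with hWx
    set W₁ : Subgroup E := Wx ⊓ Subgroup.centralizer {y} with hW₁
    have hxWx : x ∈ Wx := by
      refine Subgroup.mem_inf.mpr ⟨hxW, ?_⟩
      rw [Subgroup.mem_centralizer_iff]
      intro z hz
      rw [Set.mem_singleton_iff] at hz
      rw [hz]
    have h1 : Nat.card W = Nat.card Wx * p :=
      card_eq_card_centralizer_mul hp hc hZ W x ⟨y, hyW, hyx⟩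
    have h2 : Nat.card Wx = Nat.card W₁ * p :=
      card_eq_card_centralizer_mul hp hc hZ Wx y ⟨x, hxWx, hxy⟩
    have hZW₁ : Subgroup.center E ≤ W₁ := by
      refine le_inf (le_inf hZW ?_) ?_
      · exact Subgroup.center_le_centralizer _
      · exact Subgroup.center_le_centralizer _
    have hmemW₁ : ∀ v : E, v ∈ W₁ ↔ v ∈ W ∧ v * x = x * v ∧ v * y = y * v := by
      intro v
      rw [hW₁, hWx, Subgroup.mem_inf, Subgroup.mem_inf, Subgroup.mem_centralizer_iff,
        Subgroup.mem_centralizer_iff]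
      constructor
      · rintro ⟨⟨h1, h2⟩, h3⟩
        exact ⟨h1, (h2 x rfl).symm, (h3 y rfl).symm⟩
      · rintro ⟨h1, h2, h3⟩
        refine ⟨⟨h1, ?_⟩, ?_⟩
        · intro z hz
          rw [Set.mem_singleton_iff] at hz
          rw [hz]; exact h2.symm
        · intro z hz
          rw [Set.mem_singleton_iff] at hz
          rw [hz]; exact h3.symm
    have hnd₁ : ∀ w ∈ W₁, (∀ w' ∈ W₁, w * w' = w' * w) → w ∈ Subgroup.center E := by
      intro w hw hcomm
      obtain ⟨hwW, hwx, hwy⟩ := (hmemW₁ w).mp hw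
      apply hnd w hwW
      intro w' hw'
      obtain ⟨j, hj⟩ := exists_pow_commute hp hc hZ x y hyx w'
      obtain ⟨i, hi⟩ := exists_pow_commute hp hc hZ y x hxy (w' * y ^ j)
      set v := w' * y ^ j * x ^ i with hv
      have hvW : v ∈ W := W.mul_mem (W.mul_mem hw' (W.pow_mem hyW j)) (W.pow_mem hxW i)
      have hvx : v * x = x * v := by
        have c1 : Commute (w' * y ^ j) x := hj
        have c2 : Commute (x ^ i) x := (Commute.refl x).pow_left i
        exact (c1.mul_left c2)
      have hvW₁ : v ∈ W₁ := (hmemW₁ v).mpr ⟨hvW, hvx, hi⟩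
      have cwv : Commute w v := hcomm v hvW₁
      have cwx : Commute w x := hwx
      have cwy : Commute w y := hwy
      have hw'eq : w' = v * (x ^ i)⁻¹ * (y ^ j)⁻¹ := by
        rw [hv]; group
      have : Commute w w' := by
        rw [hw'eq]
        exact (cwv.mul_right (cwx.pow_right i).inv_right).mul_right (cwy.pow_right j).inv_right
      exact this
    have hlt : Nat.card W₁ < n := by
      rw [← hn, h1, h2]
      have hpos : 0 < Nat.card W₁ := Nat.card_pos
      have h2p : 2 ≤ p := hp.two_le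
      nlinarith
    obtain ⟨m, hm⟩ := ih _ hlt W₁ rfl hZW₁ hnd₁
    refine ⟨m + 1, ?_⟩
    rw [h1, h2, hm]
    ring

/-- The order of an extraspecial p-group is an odd power p^(2n+1) of p with n ≥ 1. -/
theorem result {P : Type*} [Group P] [Finite P] {p : ℕ} [Fact p.Prime] (h : Cfsg.IsExtraspecial p P) : ∃ n : ℕ, 1 ≤ n ∧ Nat.card P = p ^ (2 * n + 1) := by
  have hp : p.Prime := Fact.out
  obtain ⟨m, hm⟩ := card_of_nondeg hp (es_comm_mem_center h) (es_card_center h) _ ⊤ rfl le_top
    (fun w _ hw => Subgroup.mem_center_iff.mpr (fun g => (hw g (Subgroup.mem_top g)).symm))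
  rw [Subgroup.card_top] at hm
  refine ⟨m, ?_, hm⟩
  have h3 := es_pow_three_le_card h
  rw [hm] at h3
  have := (Nat.pow_le_pow_iff_right hp.one_lt).mp h3
  omega

end Cfsg.Agent.S0095
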