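-- Statement S3736 (row 3736): the Hall–Higman reduction for a minimal non-trivial action.
import Cfsg.Statements.S3736
import Cfsg.Agent.S0027
import Cfsg.Agent.Helper97.MinimalAction
import Cfsg.Agent.Helper63.Frattini
import Cfsg.Agent.Helper2.Basic

set_option autoImplicit false
open Cfsg

namespace Cfsg.Agent.S3736

open Cfsg.Agent.Helper97
open scoped commutatorElement

/-- The Hall–Higman reduction for a minimal non-trivial action. Let B, A and P be subgroups of a finite group with P a p-group, B normalizing P, and A a normal subgroup of B of order prime to p. Suppose A does not centralize P but centralizes every proper B-invariant subgroup of P. Then [P, A] = P; P is elementary abelian or special; B acts irreducibly on P/Φ(P), that is, the only B-invariant subgroups of P containing Φ(P) are Φ(P) and P; and if p is odd then every element of P has order dividing p. -/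
theorem result {X : Type*} [Group X] [Finite X] {p : ℕ} [Fact p.Prime] (B A P : Subgroup X) (hP : IsPGroup p P) (hBP : B ≤ Subgroup.normalizer (P : Set X)) (hAB : A ≤ B) (hAn : B ≤ Subgroup.normalizer (A : Set X)) (hAp : (Nat.card A).Coprime p) (hnt : ⁅P, A⁆ ≠ ⊥) (hmin : ∀ U : Subgroup X, U < P → B ≤ Subgroup.normalizer (U : Set X) → ⁅U, A⁆ = ⊥) : ⁅P, A⁆ = P ∧ (Cfsg.IsElementaryAbelian p P ∨ Cfsg.IsSpecial p ↥P) ∧ (∀ U : Subgroup X, (frattini ↥P).map P.subtype ≤ U → U ≤ P → B ≤ Subgroup.normalizer (U : Set X) → U = (frattini ↥P).map P.subtype ∨ U = P) ∧ (p ≠ 2 → ∀ x ∈ P, x ^ p = 1) := by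
  classical
  have hpp : p.Prime := Fact.out
  have hAP : A ≤ Subgroup.normalizer (P : Set X) := hAB.trans hBP
  obtain ⟨k, hk⟩ := (IsPGroup.iff_card).mp hP
  have hcop : (Nat.card A).Coprime (Nat.card P) := by
    rw [hk]; exact Nat.Coprime.pow_right k hAp
  have hnilP : Group.IsNilpotent ↥P := hP.isNilpotent
  have hsolvP : Group.IsSolvable ↥P := inferInstance
  -- (1) `[P, A] = P`
  have hle : ⁅P, A⁆ ≤ P := Subgroup.le_normalizer_iff_commutator_le_left.mp hAP
  have hBcomm : B ≤ Subgroup.normalizer ((⁅P, A⁆ : Subgroup X) : Set X) :=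
    fun b hb => mem_normalizer_commutator (hBP hb) (hAn hb)
  have h1 : ⁅P, A⁆ = P := by
    by_contra hne
    have hlt : ⁅P, A⁆ < P := lt_of_le_of_ne hle hne
    have h0 := hmin _ hlt hBcomm
    rw [Cfsg.Agent.S0027.result A P hAP hcop (Or.inr hsolvP)] at h0
    exact hnt h0
  -- proper `B`-invariant subgroups lie in `P'`
  have hF2 : ∀ U : Subgroup X, U < P → B ≤ Subgroup.normalizer (U : Set X) → U ≤ ⁅P, P⁆ := by
    intro U hU hBU
    have h0 := hmin U hU hBU
    rw [Subgroup.commutator_eq_bot_iff_le_centralizer] at h0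
    exact (le_inf hU.le h0).trans (inf_centralizer_le_commutator_of_commutator_eq hAP hcop h1)
  have hPne : P ≠ ⊥ := by
    rintro rfl
    exact hnt (Subgroup.commutator_bot_left A)
  have hBchar : ∀ K : Subgroup ↥P, K.Characteristic →
      B ≤ Subgroup.normalizer ((K.map P.subtype : Subgroup X) : Set X) :=
    fun K hK => hBP.trans (Cfsg.Agent.Helper53.char_map_normalizer_le P K hK)
  have hmapinj : Function.Injective (Subgroup.map P.subtype) :=
    Subgroup.map_injective P.subtype_injective
  have hmaptop : (⊤ : Subgroup ↥P).map P.subtype = P := by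
    rw [← MonoidHom.range_eq_map, Subgroup.range_subtype]
  -- the Frattini subgroup
  have hΦlt : (frattini ↥P).map P.subtype < P := by
    refine lt_of_le_of_ne (Subgroup.map_subtype_le _) ?_
    intro h
    have htop : frattini ↥P = ⊤ := by
      apply hmapinj
      rw [h, hmaptop]
    have hbt : (⊥ : Subgroup ↥P) = ⊤ := frattini_nongenerating (by rw [htop]; simp)
    apply hPne
    rw [eq_bot_iff]
    intro x hx
    have hx' : (⟨x, hx⟩ : ↥P) ∈ (⊥ : Subgroup ↥P) := by rw [hbt]; trivial
    rw [Subgroup.mem_bot] at hx' ⊢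
    exact congrArg Subtype.val hx'
  have hP'Φ : ⁅P, P⁆ ≤ (frattini ↥P).map P.subtype := by
    rw [← Subgroup.map_subtype_commutator]
    exact Subgroup.map_mono Cfsg.Agent.Helper2.commutator_le_frattini
  have hΦP' : (frattini ↥P).map P.subtype ≤ ⁅P, P⁆ :=
    hF2 _ hΦlt (hBchar _ inferInstance)
  have hΦeq : (frattini ↥P).map P.subtype = ⁅P, P⁆ := le_antisymm hΦP' hP'Φ
  -- (3) irreducibility
  have h3 : ∀ U : Subgroup X, (frattini ↥P).map P.subtype ≤ U → U ≤ P →
      B ≤ Subgroup.normalizer (U : Set X) → U = (frattini ↥P).map P.subtype ∨ U = P := by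
    intro U hΦU hUP hBU
    by_cases hUP' : U = P
    · exact Or.inr hUP'
    · left
      exact le_antisymm ((hF2 U (lt_of_le_of_ne hUP hUP') hBU).trans hP'Φ) hΦU
  -- `p`-th powers lie in `P'`
  have hpow : ∀ x ∈ P, x ^ p ∈ ⁅P, P⁆ := by
    intro x hx
    rw [← hΦeq]
    exact ⟨(⟨x, hx⟩ : ↥P) ^ p, Cfsg.Agent.Helper63.pow_prime_mem_frattini hP ⟨x, hx⟩, rfl⟩
  by_cases hab : ⁅P, P⁆ = ⊥
  · -- elementary abelian case
    have hcomm : IsMulCommutative ↥P := by
      refine ⟨⟨fun x y => ?_⟩⟩
      have hc := Subgroup.commutator_eq_bot_iff_le_centralizer.mp hab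
      have := (Subgroup.mem_centralizer_iff.mp (hc x.2)) y y.2
      exact Subtype.ext this.symm
    have hexp : ∀ x ∈ P, x ^ p = 1 := by
      intro x hx
      have := hpow x hx
      rwa [hab, Subgroup.mem_bot] at this
    exact ⟨h1, Or.inl ⟨hcomm, hexp⟩, h3, fun _ => hexp⟩
  · -- special case
    have hP'lt : ⁅P, P⁆ < P := hΦeq ▸ hΦlt
    have hBP' : B ≤ Subgroup.normalizer ((⁅P, P⁆ : Subgroup X) : Set X) :=
      fun b hb => mem_normalizer_commutator (hBP hb) (hBP hb)
    have hAP' : ⁅⁅P, P⁆, A⁆ = ⊥ := hmin _ hP'lt hBP'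
    have hP'A : ⁅P, P⁆ ≤ Subgroup.centralizer (A : Set X) :=
      Subgroup.commutator_eq_bot_iff_le_centralizer.mp hAP'
    -- class two by the three subgroups lemma
    have hclass : ⁅⁅P, P⁆, P⁆ = ⊥ := by
      have t1 : ⁅⁅A, ⁅P, P⁆⁆, P⁆ = ⊥ := by
        rw [Subgroup.commutator_comm A, hAP', Subgroup.commutator_bot_left]
      have t2 : ⁅⁅⁅P, P⁆, P⁆, A⁆ = ⊥ := by
        rw [eq_bot_iff, ← hAP']
        exact Subgroup.commutator_mono (Subgroup.commutator_mono hP'lt.le le_rfl) le_rfl
      have t3 := Subgroup.commutator_commutator_eq_bot_of_rotate t1 t2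
      rw [h1, Subgroup.commutator_comm] at t3
      exact t3
    have hP'cent : ⁅P, P⁆ ≤ Subgroup.centralizer (P : Set X) :=
      Subgroup.commutator_eq_bot_iff_le_centralizer.mp hclass
    have hP'Z : ⁅P, P⁆ ≤ (Subgroup.center ↥P).map P.subtype := by
      intro x hx
      refine ⟨⟨x, hP'lt.le hx⟩, ?_, rfl⟩
      rw [SetLike.mem_coe, Subgroup.mem_center_iff]
      intro g
      exact Subtype.ext ((Subgroup.mem_centralizer_iff.mp (hP'cent hx)) g g.2)
    have hZlt : (Subgroup.center ↥P).map P.subtype < P := by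
      refine lt_of_le_of_ne (Subgroup.map_subtype_le _) ?_
      intro h
      apply hab
      rw [Subgroup.commutator_eq_bot_iff_le_centralizer]
      intro x hx
      rw [Subgroup.mem_centralizer_iff]
      intro y hy
      have hxZ : x ∈ (Subgroup.center ↥P).map P.subtype := by rw [h]; exact hx
      obtain ⟨z, hz, rfl⟩ := hxZ
      have := (Subgroup.mem_center_iff.mp hz) ⟨y, hy⟩
      exact congrArg Subtype.val this
    have hZP' : (Subgroup.center ↥P).map P.subtype ≤ ⁅P, P⁆ :=
      hF2 _ hZlt (hBchar _ inferInstance)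
    have hZeq : (Subgroup.center ↥P).map P.subtype = ⁅P, P⁆ := le_antisymm hZP' hP'Z
    have hspecial : Cfsg.IsSpecial p ↥P := by
      refine ⟨hP, ?_, ?_⟩
      · apply hmapinj
        rw [hΦeq, hZeq]
      · apply hmapinj
        rw [Subgroup.map_subtype_commutator, hZeq]
    refine ⟨h1, Or.inr hspecial, h3, ?_⟩
    intro hp2
    -- commutators have order dividing `p`
    have hcommpow : ∀ x ∈ P, ∀ y ∈ P, (y * x * y⁻¹ * x⁻¹) ^ p = 1 := by
      intro x hx y hy
      have hc : y * x * y⁻¹ * x⁻¹ ∈ ⁅P, P⁆ := by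
        have := Subgroup.commutator_mem_commutator hy hx
        rwa [commutatorElement_def] at this
      have hcy : Commute (y * x * y⁻¹ * x⁻¹) y :=
        ((Subgroup.mem_centralizer_iff.mp (hP'cent hc)) y hy).symm
      have h := Cfsg.Agent.Helper24.pow_mul_of_central (u := x) (v := y)
        (c := y * x * y⁻¹ * x⁻¹) (by group) hcy p
      have hyp : y ^ p * x = x * y ^ p :=
        ((Subgroup.mem_centralizer_iff.mp (hP'cent (hpow y hy))) x hx).symm
      rw [hyp] at h
      have h' : 1 * (x * y ^ p) = (y * x * y⁻¹ * x⁻¹) ^ p * (x * y ^ p) := by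
        rw [one_mul, ← mul_assoc]; exact h
      exact (mul_right_cancel h').symm
    have hmulpow : ∀ x ∈ P, ∀ y ∈ P, (x * y) ^ p = x ^ p * y ^ p := by
      intro x hx y hy
      have hc : y * x * y⁻¹ * x⁻¹ ∈ ⁅P, P⁆ := by
        have := Subgroup.commutator_mem_commutator hy hx
        rwa [commutatorElement_def] at this
      have hcx : Commute (y * x * y⁻¹ * x⁻¹) x :=
        ((Subgroup.mem_centralizer_iff.mp (hP'cent hc)) x hx).symm
      have hcy : Commute (y * x * y⁻¹ * x⁻¹) y :=
        ((Subgroup.mem_centralizer_iff.mp (hP'cent hc)) y hy).symm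
      have h := Cfsg.Agent.Helper24.mul_pow_of_central (u := x) (v := y)
        (c := y * x * y⁻¹ * x⁻¹) (by group) hcx hcy p
      obtain ⟨m, hm⟩ := Cfsg.Agent.Helper24.prime_dvd_sum_range hpp hp2
      rw [hm, pow_mul, hcommpow x hx y hy, one_pow, mul_one] at h
      exact h
    -- the subgroup of elements of order dividing `p`
    let Ω : Subgroup X :=
      { carrier := {x | x ∈ P ∧ x ^ p = 1}
        one_mem' := ⟨P.one_mem, one_pow p⟩
        mul_mem' := by
          rintro x y ⟨hx, hxp⟩ ⟨hy, hyp⟩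
          exact ⟨P.mul_mem hx hy, by rw [hmulpow x hx y hy, hxp, hyp, one_mul]⟩
        inv_mem' := by
          rintro x ⟨hx, hxp⟩
          exact ⟨P.inv_mem hx, by rw [inv_pow, hxp, inv_one]⟩ }
    have hΩP : Ω ≤ P := fun x hx => hx.1
    have hBΩ : B ≤ Subgroup.normalizer (Ω : Set X) := by
      intro b hb
      have key : ∀ c : X, c ∈ Subgroup.normalizer (P : Set X) → ∀ y ∈ (Ω : Set X),
          c * y * c⁻¹ ∈ (Ω : Set X) := by
        intro c hc y hy
        refine ⟨Cfsg.Agent.Helper24.conj_mem_of_mem_normalizer hc hy.1, ?_⟩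
        rw [conj_pow, hy.2]; group
      apply Cfsg.Agent.Helper24.mem_normalizer_of_forall_conj_mem
      · exact key b (hBP hb)
      · intro y hy
        have := key b⁻¹ (Subgroup.inv_mem _ (hBP hb)) y hy
        simpa using this
    by_cases hΩ : Ω = P
    · intro x hx
      have : x ∈ Ω := by rw [hΩ]; exact hx
      exact this.2
    · exfalso
      have hΩA : Ω ≤ Subgroup.centralizer (A : Set X) :=
        Subgroup.commutator_eq_bot_iff_le_centralizer.mp
          (hmin Ω (lt_of_le_of_ne hΩP hΩ) hBΩ)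
      apply hnt
      rw [Subgroup.commutator_eq_bot_iff_le_centralizer]
      intro x hx
      rw [Subgroup.mem_centralizer_iff]
      intro a ha
      have haP := hAP ha
      have hcP : a * x * a⁻¹ ∈ P := Cfsg.Agent.Helper24.conj_mem_of_mem_normalizer haP hx
      have hc : a * x * a⁻¹ * x⁻¹ ∈ Ω := by
        refine ⟨P.mul_mem hcP (P.inv_mem hx), ?_⟩
        rw [hmulpow _ hcP _ (P.inv_mem hx), conj_pow, inv_pow]
        have hax : a * x ^ p = x ^ p * a :=
          (Subgroup.mem_centralizer_iff.mp (hP'A (hpow x hx))) a ha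
        rw [hax]; group
      have hac : a * (a * x * a⁻¹ * x⁻¹) = (a * x * a⁻¹ * x⁻¹) * a :=
        (Subgroup.mem_centralizer_iff.mp (hΩA hc)) a ha
      have hcop' : (orderOf a).Coprime (orderOf (a * x * a⁻¹ * x⁻¹)) :=
        Nat.Coprime.coprime_dvd_left (Cfsg.Agent.Helper24.orderOf_dvd_card_of_mem ha)
          (Nat.Coprime.coprime_dvd_right (Cfsg.Agent.Helper24.orderOf_dvd_card_of_mem hc.1) hcop)
      exact Cfsg.Agent.Helper24.commute_of_commute_commutator a x hac hcop'

end Cfsg.Agent.S3736
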