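-- Statement S3765 (row 3765): prime order action on a q-group has module fixed points.
import Cfsg.Statements.S3765
import Cfsg.Agent.S3736
import Cfsg.Agent.Helper71.ShultQuot

set_option autoImplicit false
open Cfsg

namespace Cfsg.Agent.S3765

open Subgroup Cfsg.Agent.Helper71.Shult
open scoped commutatorElement

/-- Let p, q, r be distinct primes and let X, Q, V be subgroups of a finite group with X of order r normalizing the q-group Q and acting faithfully on it (X ∩ C(Q) = 1), and V a nontrivial elementary abelian p-group normalized by X and Q on which XQ acts faithfully. If q = 2 and r has the form 2^n + 1, assume in addition that Q is abelian. Then C_V(X) ≠ 1. -/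
theorem result {G : Type*} [Group G] [Finite G] {p q r : ℕ} (hp : p.Prime) (hq : q.Prime) (hr : r.Prime) (hpq : p ≠ q) (hpr : p ≠ r) (hqr : q ≠ r) (X Q V : Subgroup G) (hX : Nat.card X = r) (hQ : IsPGroup q Q) (hXQ : X ≤ Subgroup.normalizer (Q : Set G)) (hXfaith : X ⊓ Subgroup.centralizer (Q : Set G) = ⊥) (hV : Cfsg.IsElementaryAbelian p V) (hV1 : V ≠ ⊥) (hXV : X ≤ Subgroup.normalizer (V : Set G)) (hQV : Q ≤ Subgroup.normalizer (V : Set G)) (hfaith : (X ⊔ Q) ⊓ Subgroup.centralizer (V : Set G) = ⊥) (hexc : q = 2 → (∃ n : ℕ, r = 2 ^ n + 1) → IsMulCommutative Q) : V ⊓ Subgroup.centralizer (X : Set G) ≠ ⊥ := by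
  intro hCV
  haveI : Fact q.Prime := ⟨hq⟩
  have hnt : ⁅Q, X⁆ ≠ ⊥ := by
    intro h
    have h1 : X ≤ centralizer (Q : Set G) :=
      le_centralizer_symm (commutator_eq_bot_iff_le_centralizer.mp h)
    have h2 : X ≤ X ⊓ centralizer (Q : Set G) := le_inf le_rfl h1
    rw [hXfaith] at h2
    exact ne_bot_of_prime_card hr hX (eq_bot_iff.mpr h2)
  obtain ⟨Q₁, hQ₁Q, hXQ₁, hnt₁, hmin⟩ :=
    exists_min_action X Q (fun U => ⁅U, X⁆ ≠ ⊥) hnt hXQ
  have hmin' : ∀ U : Subgroup G, U < Q₁ → X ≤ normalizer (U : Set G) → ⁅U, X⁆ = ⊥ :=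
    fun U hU hXU => not_not.mp (hmin U hU hXU)
  have hQ₁ : IsPGroup q Q₁ := hQ.to_le hQ₁Q
  have hXcop : (Nat.card X).Coprime q := by
    rw [hX]; exact (Nat.coprime_primes hr hq).mpr hqr.symm
  obtain ⟨hcomm, hstruct, hirr, -⟩ :=
    Cfsg.Agent.S3736.result X X Q₁ hQ₁ hXQ₁ le_rfl le_normalizer hXcop hnt₁ hmin'
  have hQ₁V : Q₁ ≤ normalizer (V : Set G) := hQ₁Q.trans hQV
  have hfaith₁ : (X ⊔ Q₁) ⊓ centralizer (V : Set G) = ⊥ := by
    rw [eq_bot_iff, ← hfaith]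
    exact inf_le_inf_right _ (sup_le_sup_left hQ₁Q X)
  rcases hstruct with hab | hsp
  · have h1 := abelian_case hp hq hr hpq hpr hqr X Q₁ V hX hQ₁ hXQ₁ hab.1 hcomm hV hXV hQ₁V hCV
    have h2 : Q₁ ≤ (X ⊔ Q₁) ⊓ centralizer (V : Set G) := le_inf le_sup_right h1
    rw [hfaith₁] at h2
    apply hnt₁
    rw [eq_bot_iff.mpr h2]
    exact commutator_bot_left X
  · obtain ⟨hZne, hZ1, hXZ, hZpow⟩ := zOf_facts hq hsp hXQ₁ hnt₁ hmin'
    have hHZ : X ⊔ Q₁ ≤ centralizer (zOf Q₁ : Set G) := sup_le hXZ (le_centralizer_zOf Q₁)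
    obtain ⟨V₁, hV₁V, hV₁ne, hHV₁, u, hu, huC, hgen⟩ :=
      exists_module_and_generator hp hq hpq ((zOf_le Q₁).trans le_sup_right) hHZ hZpow hZ1 hV
        (sup_le hXV hQ₁V) hfaith₁
    have hXV₁ : X ≤ normalizer (V₁ : Set G) := le_sup_left.trans hHV₁
    have hQV₁ : Q₁ ≤ normalizer (V₁ : Set G) := le_sup_right.trans hHV₁
    have hV₁X : ¬ V₁ ≤ centralizer (X : Set G) := by
      intro h
      have h1 : V₁ ≤ V ⊓ centralizer (X : Set G) := le_inf hV₁V h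
      rw [hCV] at h1
      exact hV₁ne (eq_bot_iff.mpr h1)
    obtain ⟨-, fb, fc, fd⟩ :=
      special_facts hq hr hqr hX hQ₁ hsp hXQ₁ hnt₁ hirr hXZ hXV₁ hQV₁ hV₁X hu huC
    have hCV₁ : V₁ ⊓ centralizer (X : Set G) = ⊥ := by
      rw [eq_bot_iff, ← hCV]
      exact inf_le_inf_right _ hV₁V
    have hXK₀ : X ≤ centralizer ((zOf Q₁ ⊓ centralizer (V₁ : Set G) : Subgroup G) : Set G) :=
      hXZ.trans (centralizer_le (by exact_mod_cast (inf_le_left : zOf Q₁ ⊓ centralizer (V₁ : Set G) ≤ zOf Q₁)))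
    obtain ⟨hq2, hn⟩ := fermat_of_config hp hq hr hpq hpr hqr
      (K₀ := zOf Q₁ ⊓ centralizer (V₁ : Set G)) hX hQ₁ hsp hXQ₁
      (isElementaryAbelian_of_le hV hV₁V) hXV₁ hQV₁ inf_le_left inf_le_right hXK₀ hu
      (fun h => huC h.2)
      (fun z hz => by
        obtain ⟨i, hi⟩ := hgen z hz
        exact ⟨i, ⟨(zOf Q₁).mul_mem ((zOf Q₁).pow_mem hu i) hz, hi⟩⟩)
      fc fb fd hCV₁
    have hQab : IsMulCommutative ↥Q := hexc hq2 hn
    apply hZne
    apply le_antisymm (zOf_le Q₁)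
    intro a ha
    rw [mem_zOf_iff]
    refine ⟨ha, fun b hb => ?_⟩
    have := mul_comm' (⟨b, hQ₁Q hb⟩ : ↥Q) ⟨a, hQ₁Q ha⟩
    exact congrArg Subtype.val this

end Cfsg.Agent.S3765
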