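-- Statement S3769 (row 3769): odd Hall extension, fixed-point-free complement: [R, K] centralizes V.
import Cfsg.Statements.S3769
import Cfsg.Agent.S0023
import Cfsg.Agent.S3765
import Cfsg.Agent.Helper71.ShultHall
import Cfsg.Agent.Helper71.QuotImage

set_option autoImplicit false
open Cfsg

namespace Cfsg.Agent.S3769

open Subgroup Cfsg.Agent.Helper71.Shult Cfsg.Agent.Helper71
open scoped commutatorElement

/-- Let G and V be subgroups of a finite group with G solvable of odd order normalizing V, V an elementary abelian ℓ-group for a prime ℓ not dividing the order of G, and suppose G has a normal Hall subgroup K with a complement R of prime order. If C_V(R) = 1, then [R, K] centralizes V. -/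
theorem result {X : Type*} [Group X] [Finite X] (G : Subgroup X) (hsolv : Group.IsSolvable G) (hodd : Odd (Nat.card G)) (V : Subgroup X) {ℓ : ℕ} (hℓ : ℓ.Prime) (hV : Cfsg.IsElementaryAbelian ℓ V) (hℓG : ¬ ℓ ∣ Nat.card G) (hGV : G ≤ Subgroup.normalizer (V : Set X)) (K R : Subgroup X) (hKG : K ≤ G) (hKn : G ≤ Subgroup.normalizer (K : Set X)) (hHall : (Nat.card K).Coprime (K.relIndex G)) (hRG : R ≤ G) (hR : (Nat.card R).Prime) (hKR : K ⊓ R = ⊥) (hKRG : K ⊔ R = G) (hCV : V ⊓ Subgroup.centralizer (R : Set X) = ⊥) : ⁅R, K⁆ ≤ Subgroup.centralizer (V : Set X) := by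
  by_cases hV1 : V = ⊥
  · subst hV1
    intro g _
    rw [mem_centralizer_iff]
    intro v hv
    have hv1 : v = 1 := by simpa using hv
    subst hv1
    simp
  by_contra hcon
  have hRK : R ≤ normalizer (K : Set X) := hRG.trans hKn
  have hrel : K.relIndex G = Nat.card R := by
    rw [← hKRG]; exact relIndex_sup_eq_card hRK hKR
  rw [hrel] at hHall
  have hGC : G ≤ normalizer ((centralizer (V : Set X) : Subgroup X) : Set X) :=
    le_normalizer_centralizer hGV
  have hRC : ¬ R ≤ centralizer (V : Set X) := by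
    intro h
    have h1 : V ≤ V ⊓ centralizer (R : Set X) := le_inf le_rfl (le_centralizer_symm h)
    rw [hCV] at h1
    exact hV1 (eq_bot_iff.mpr h1)
  have hsolvK : Group.IsSolvable ↥K :=
    solvable_of_solvable_injective (Subgroup.inclusion_injective hKG)
  -- an `R`-invariant Sylow subgroup of `K` on which `[R, ·]` does not centralize `V`
  have hex : ∃ q : ℕ, q.Prime ∧ ∃ P : Sylow q ↥K,
      R ≤ normalizer (((P : Subgroup ↥K).map K.subtype : Subgroup X) : Set X) ∧
        ¬ ⁅R, (P : Subgroup ↥K).map K.subtype⁆ ≤ centralizer (V : Set X) := by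
    by_contra hno
    push_neg at hno
    apply hcon
    have hD : commIn R K (centralizer (V : Set X)) (hKG.trans hGC) = K := by
      apply eq_of_contains_sylows (fun g hg => (mem_commIn.mp hg).1)
      intro q hq
      haveI : Fact q.Prime := ⟨hq⟩
      obtain ⟨P, hP⟩ := Cfsg.Agent.S0023.result R K hRK hHall.symm (Or.inr hsolvK) q
      refine ⟨P, ?_⟩
      intro g hg
      have h1 := hno q hq P hP
      exact ⟨map_subtype_le _ hg, fun x hx => h1 (commutator_mem_commutator hx hg)⟩
    rw [commutator_le]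
    intro x hx k hk
    rw [← hD] at hk
    exact hk.2 x hx
  obtain ⟨q, hq, P, hRQ, hnot⟩ := hex
  haveI : Fact q.Prime := ⟨hq⟩
  have hQK : (P : Subgroup ↥K).map K.subtype ≤ K := map_subtype_le _
  have hQq : IsPGroup q ((P : Subgroup ↥K).map K.subtype : Subgroup X) := P.isPGroup'.map _
  have hQG : (P : Subgroup ↥K).map K.subtype ≤ G := hQK.trans hKG
  -- arithmetic
  have hqK : q ∣ Nat.card K := by
    obtain ⟨k, hk⟩ := (IsPGroup.iff_card).mp hQq
    have hk0 : k ≠ 0 := by
      rintro rfl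
      rw [pow_zero] at hk
      have hbot : (P : Subgroup ↥K).map K.subtype = ⊥ := Subgroup.card_eq_one.mp hk
      apply hnot
      rw [hbot, commutator_bot_right]
      exact bot_le
    have h1 : q ∣ Nat.card ((P : Subgroup ↥K).map K.subtype : Subgroup X) := by
      rw [hk]; exact dvd_pow_self q hk0
    exact dvd_trans h1 (Subgroup.card_dvd_of_le hQK)
  have hqG : q ∣ Nat.card G := dvd_trans hqK (Subgroup.card_dvd_of_le hKG)
  have hrG : Nat.card R ∣ Nat.card G := Subgroup.card_dvd_of_le hRG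
  have hqr : q ≠ Nat.card R := by
    intro h
    have h1 : q ∣ Nat.gcd (Nat.card K) (Nat.card R) := Nat.dvd_gcd hqK (h ▸ dvd_rfl)
    rw [hHall] at h1
    exact hq.one_lt.ne' (Nat.dvd_one.mp h1)
  have hℓq : ℓ ≠ q := fun h => hℓG (h ▸ hqG)
  have hℓr : ℓ ≠ Nat.card R := fun h => hℓG (h ▸ hrG)
  have hq2 : q ≠ 2 := by
    rintro rfl
    exact (Nat.not_even_iff_odd.mpr hodd) (even_iff_two_dvd.mpr hqG)
  -- the quotient
  set Q : Subgroup X := (P : Subgroup ↥K).map K.subtype with hQdef
  set N : Subgroup X := (R ⊔ Q) ⊓ centralizer (V : Set X) with hNdef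
  have hHG : R ⊔ Q ≤ G := sup_le hRG hQG
  have hHV : R ⊔ Q ≤ normalizer (V : Set X) := hHG.trans hGV
  have hHn : R ⊔ Q ≤ normalizer (N : Set X) :=
    inf_le_normalizer le_normalizer (hHG.trans hGC)
  have hRn : R ≤ normalizer (N : Set X) := le_sup_left.trans hHn
  have hQn : Q ≤ normalizer (N : Set X) := le_sup_right.trans hHn
  have hVn : V ≤ normalizer (N : Set X) :=
    le_normalizer_of_le_centralizer (le_centralizer_symm inf_le_right)
  have hVN : V ⊓ N = ⊥ := by
    apply inf_eq_bot_of_coprime_card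
    haveI : Fact ℓ.Prime := ⟨hℓ⟩
    obtain ⟨a, ha⟩ := (IsPGroup.iff_card).mp (isPGroup_of_isElementaryAbelian hV)
    rw [ha]
    apply Nat.Coprime.pow_left
    rw [Nat.Prime.coprime_iff_not_dvd hℓ]
    intro h
    exact hℓG (dvd_trans h (Subgroup.card_dvd_of_le (inf_le_left.trans hHG)))
  have hRN : R ⊓ N = ⊥ := by
    rw [eq_bot_iff, ← inf_centralizer_eq_bot_of_prime_card hR rfl hRC]
    exact inf_le_inf_left _ inf_le_right
  have h1 : Nat.card (QI.img N R) = Nat.card R := QI.card_img hRn hRN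
  have h4 : QI.img N R ⊓ centralizer ((QI.img N Q : Subgroup (QI.Quo N)) : Set (QI.Quo N)) = ⊥ := by
    apply inf_centralizer_eq_bot_of_prime_card hR h1
    intro h
    apply hnot
    rw [commutator_le]
    intro x hx a ha
    have hx' : QI.proj N ⟨x⁻¹, hRn (R.inv_mem hx)⟩ ∈ QI.img N R :=
      QI.mem_img.mpr ⟨x⁻¹, _, R.inv_mem hx, rfl⟩
    have ha' : QI.proj N ⟨a⁻¹, hQn (Q.inv_mem ha)⟩ ∈ QI.img N Q :=
      QI.mem_img.mpr ⟨a⁻¹, _, Q.inv_mem ha, rfl⟩
    have h2 := mem_centralizer_iff.mp (h hx') _ ha'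
    rw [← map_mul, ← map_mul, QI.proj_eq_proj_iff] at h2
    have h3 : ⁅x, a⁆ ∈ N := by
      have e : ⁅x, a⁆ = (a⁻¹ * x⁻¹)⁻¹ * (x⁻¹ * a⁻¹) := by
        simp only [commutatorElement_def]; group
      rw [e]
      exact h2
    exact h3.2
  have h6 : QI.img N V ≠ ⊥ := by
    intro h
    have h2 : V ≤ V ⊓ N := le_inf le_rfl (QI.le_of_img_eq_bot hVn h)
    rw [hVN] at h2
    exact hV1 (eq_bot_iff.mpr h2)
  have h9 : (QI.img N R ⊔ QI.img N Q) ⊓
      centralizer ((QI.img N V : Subgroup (QI.Quo N)) : Set (QI.Quo N)) = ⊥ := by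
    rw [← QI.img_sup hRn hQn, QI.img_inf_centralizer_of_right hVn hHV hVN]
    exact QI.img_eq_bot_of_le le_rfl
  have key := Cfsg.Agent.S3765.result (G := QI.Quo N) hℓ hq hR hℓq hℓr hqr (QI.img N R)
    (QI.img N Q) (QI.img N V) h1 (QI.isPGroup_img hQq) (QI.img_le_normalizer hRQ) h4
    (QI.isElementaryAbelian_img hV) h6 (QI.img_le_normalizer (hRG.trans hGV))
    (QI.img_le_normalizer (hQG.trans hGV)) h9 (fun h => absurd h hq2)
  apply key
  rw [QI.img_inf_centralizer_of_left hRn (hRG.trans hGV) hVN, hCV]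
  exact QI.img_eq_bot_of_le bot_le

end Cfsg.Agent.S3769
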