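import Cfsg.Statements.S0029
import Cfsg.Agent.Helper24.OddOmega
import Cfsg.Agent.Helper25.TwistedConj

set_option autoImplicit false
open Cfsg

namespace Cfsg.Agent.S0029

open Cfsg.Agent.Helper24 in
/-- If A normalises K, has order coprime to that of Φ(K), and acts trivially on K/Φ(K), then A centralises K. -/
theorem result {G : Type*} [Group G] [Finite G] (A K : Subgroup G)
    (hAK : A ≤ Subgroup.normalizer (K : Set G))
    (hcop : (Nat.card A).Coprime (Nat.card (frattini K)))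
    (htriv : ∀ a ∈ A, ∀ k ∈ K, a * k * a⁻¹ * k⁻¹ ∈ (frattini K).map K.subtype) :
    A ≤ Subgroup.centralizer (K : Set G) := by
  intro a ha
  set Φ : Subgroup G := (frattini K).map K.subtype with hΦ
  have hΦK : Φ ≤ K := Subgroup.map_subtype_le _
  have hcardΦ : Nat.card Φ = Nat.card (frattini K) :=
    Subgroup.card_map_of_injective K.subtype_injective
  have haK : a ∈ Subgroup.normalizer (K : Set G) := hAK ha
  -- `a` normalizes Φ (it is characteristic in K)
  have hconjΦ : ∀ b : G, b ∈ Subgroup.normalizer (K : Set G) → ∀ y ∈ Φ, b * y * b⁻¹ ∈ Φ := by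
    intro b hb y hy
    obtain ⟨g, hg, rfl⟩ := hy
    set ψ : MulAut K := K.normalizerMonoidHom ⟨b, hb⟩ with hψ
    have hchar : (frattini K).Characteristic := inferInstance
    have h1 : ψ g ∈ frattini K := by
      have := Subgroup.characteristic_iff_le_comap.mp hchar ψ
      exact this hg
    refine ⟨ψ g, h1, ?_⟩
    rfl
  have haΦ : a ∈ Subgroup.normalizer (Φ : Set G) := by
    apply Cfsg.Agent.Helper24.mem_normalizer_of_forall_conj_mem
    · exact hconjΦ a haK
    · intro y hy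
      have := hconjΦ a⁻¹ (Subgroup.inv_mem _ haK) y hy
      simpa using this
  have hcopa : (orderOf a).Coprime (Nat.card Φ) := by
    rw [hcardΦ]
    exact Nat.Coprime.coprime_dvd_left (orderOf_dvd_card_of_mem ha) hcop
  -- every k ∈ K is in C_K(a) Φ
  set C : Subgroup K := (K ⊓ Subgroup.centralizer ({a} : Set G)).subgroupOf K with hC
  have hsup : C ⊔ frattini K = ⊤ := by
    rw [eq_top_iff]
    intro k _
    -- h = k⁻¹ a k a⁻¹ ∈ Φ
    have hh : (k : G)⁻¹ * a * (k : G) * a⁻¹ ∈ Φ := by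
      have := htriv a ha (k : G)⁻¹ (K.inv_mem k.2)
      have h2 := Φ.inv_mem this
      have e : (a * (k : G)⁻¹ * a⁻¹ * ((k : G)⁻¹)⁻¹)⁻¹ = (k : G)⁻¹ * a * (k : G) * a⁻¹ := by group
      rwa [e] at h2
    obtain ⟨x, hx, c, hc, hca, hconj⟩ :=
      Cfsg.Agent.Helper25.exists_conj_eq_centralizer_mul (orderOf a) Φ a rfl haΦ hcopa _ hh
    -- c = 1
    have hy : (x * (k : G)⁻¹) * a * (x * (k : G)⁻¹)⁻¹ = c * a := by
      rw [← hconj]; group
    have hc1 : c = 1 := by
      have hpow : (c * a) ^ orderOf a = c ^ orderOf a := by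
        rw [(show Commute c a from hca).mul_pow, pow_orderOf_eq_one, mul_one]
      have hpow' : (c * a) ^ orderOf a = 1 := by
        rw [← hy, conj_pow, pow_orderOf_eq_one]; group
      have hco : orderOf c ∣ orderOf a := orderOf_dvd_of_pow_eq_one (hpow ▸ hpow')
      have hco' : orderOf c ∣ Nat.card Φ := orderOf_dvd_card_of_mem hc
      exact orderOf_eq_one_iff.mp (Nat.eq_one_of_dvd_coprimes hcopa hco hco')
    rw [hc1, one_mul] at hy
    -- so k x⁻¹ commutes with a
    have hxK : x ∈ K := hΦK hx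
    have hkx : (k : G) * x⁻¹ ∈ K ⊓ Subgroup.centralizer ({a} : Set G) := by
      refine Subgroup.mem_inf.mpr ⟨K.mul_mem k.2 (K.inv_mem hxK), ?_⟩
      rw [Subgroup.mem_centralizer_iff]
      intro b hb
      rw [Set.mem_singleton_iff.mp hb]
      -- a * (k x⁻¹) = (k x⁻¹) * a
      have e : (k : G) * x⁻¹ = (x * (k : G)⁻¹)⁻¹ := by group
      rw [e]
      calc a * (x * (k : G)⁻¹)⁻¹
          = (x * (k : G)⁻¹)⁻¹ * ((x * (k : G)⁻¹) * a * (x * (k : G)⁻¹)⁻¹) := by group
        _ = (x * (k : G)⁻¹)⁻¹ * a := by rw [hy]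
    have hx' : (⟨x, hxK⟩ : K) ∈ frattini K := by
      obtain ⟨g, hg, hgx⟩ := hx
      have : g = ⟨x, hxK⟩ := Subtype.ext hgx
      rwa [← this]
    have hk1 : (k * (⟨x, hxK⟩ : K)⁻¹) ∈ C := by
      rw [hC, Subgroup.mem_subgroupOf]
      exact hkx
    have : k = (k * (⟨x, hxK⟩ : K)⁻¹) * ⟨x, hxK⟩ := by group
    rw [this]
    exact Subgroup.mul_mem_sup hk1 hx'
  have hCtop : C = ⊤ := frattini_nongenerating hsup
  rw [Subgroup.mem_centralizer_iff]
  intro k hk
  have : (⟨k, hk⟩ : K) ∈ C := by rw [hCtop]; trivial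
  rw [hC, Subgroup.mem_subgroupOf] at this
  have h2 := (Subgroup.mem_inf.mp this).2
  rw [Subgroup.mem_centralizer_iff] at h2
  exact (h2 a rfl).symm

end Cfsg.Agent.S0029
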