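import Cfsg.Statements.S1949
import Cfsg.Agent.S0093
import Cfsg.Agent.Helper24.AutAct
import Cfsg.Agent.Lib.Cores

set_option autoImplicit false
open Cfsg
open scoped commutatorElement

namespace Cfsg.Agent.S1949

open Cfsg.Agent.Helper24 Cfsg.Agent.S0093

/-- Relative version of `S0093.centralizer_crit_le`: inside a normal subgroup `R`. -/
theorem rel_centralizer_crit_le {P : Type*} [Group P] [Finite P] {p : ℕ} [Fact p.Prime]
    (hP : IsPGroup p P) (R M : Subgroup P) [hR : R.Normal] [hM : M.Normal]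
    (hHn : (crit p M ⊓ R).Normal)
    (hMH : M ≤ crit p M ⊓ R)
    (hZM : (crit p M ⊓ R) ⊓ Subgroup.centralizer ((crit p M ⊓ R : Subgroup P) : Set P) ≤ M) :
    R ⊓ Subgroup.centralizer ((crit p M ⊓ R : Subgroup P) : Set P) ≤ crit p M ⊓ R := by
  classical
  by_contra hQH
  set H := crit p M ⊓ R with hH
  set Q := R ⊓ Subgroup.centralizer (H : Set P) with hQ
  have hCn : (Subgroup.centralizer (H : Set P)).Normal := inferInstance
  have hQn : Q.Normal := inferInstance
  have hQK : Q ≤ Subgroup.centralizer (M : Set P) :=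
    inf_le_right.trans (Subgroup.centralizer_le hMH)
  have hQM : ¬ Q ≤ M := fun h => hQH (h.trans hMH)
  -- pass to the quotient
  have hPq : IsPGroup p (P ⧸ M) := hP.to_quotient M
  have : Group.IsNilpotent (P ⧸ M) := hPq.isNilpotent
  have hQ'n : (Q.map (QuotientGroup.mk' M)).Normal :=
    Subgroup.Normal.map hQn _ (QuotientGroup.mk'_surjective M)
  have hQ'ne : Q.map (QuotientGroup.mk' M) ≠ ⊥ := by
    intro h
    apply hQM
    intro x hx
    have : (QuotientGroup.mk' M) x ∈ Q.map (QuotientGroup.mk' M) := Subgroup.mem_map_of_mem _ hx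
    rw [h, Subgroup.mem_bot, QuotientGroup.mk'_apply, QuotientGroup.eq_one_iff] at this
    exact this
  have hne := Cfsg.Agent.Lib.normal_inf_center_ne_bot (Q.map (QuotientGroup.mk' M)) hQ'ne
  obtain ⟨⟨z, hz⟩, hz1⟩ := Subgroup.ne_bot_iff_exists_ne_one.mp hne
  have hz1' : z ≠ 1 := fun h => hz1 (Subtype.ext h)
  -- an element of order p in the intersection
  have hex : ∃ k, z ^ (p ^ k) = 1 := hPq z
  have hk0 : Nat.find hex ≠ 0 := by
    intro h0
    have := Nat.find_spec hex
    rw [h0, pow_zero, pow_one] at this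
    exact hz1' this
  obtain ⟨k, hk⟩ := Nat.exists_eq_succ_of_ne_zero hk0
  have hw1 : z ^ (p ^ k) ≠ 1 := Nat.find_min hex (by rw [hk]; exact Nat.lt_succ_self k)
  have hwp : (z ^ (p ^ k)) ^ p = 1 := by
    have := Nat.find_spec hex
    rw [hk, Nat.succ_eq_add_one, pow_succ, pow_mul] at this
    exact this
  have hw : z ^ (p ^ k) ∈ Q.map (QuotientGroup.mk' M) ⊓ Subgroup.center (P ⧸ M) :=
    Subgroup.pow_mem _ hz _
  obtain ⟨x, hxQ, hxw⟩ := Subgroup.mem_map.mp (Subgroup.mem_inf.mp hw).1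
  have hwc := (Subgroup.mem_inf.mp hw).2
  rw [← hxw] at hw1 hwp hwc
  have hxM : x ∉ M := by
    intro h
    apply hw1
    rw [QuotientGroup.mk'_apply, QuotientGroup.eq_one_iff]
    exact h
  have hxH : x ∈ H := by
    rw [hH]
    refine Subgroup.mem_inf.mpr ⟨?_, (Subgroup.mem_inf.mp hxQ).1⟩
    rw [mem_crit]
    refine ⟨hQK hxQ, fun g => ?_, ?_⟩
    · rw [← QuotientGroup.eq_one_iff (N := M), ← QuotientGroup.mk'_apply, map_commutatorElement,
        commutatorElement_eq_one_iff_mul_comm]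
      exact ((Subgroup.mem_center_iff.mp hwc) _).symm
    · rw [← QuotientGroup.eq_one_iff (N := M), ← QuotientGroup.mk'_apply, map_pow]
      exact hwp
  exact hxM (hZM (Subgroup.mem_inf.mpr ⟨hxH, (Subgroup.mem_inf.mp hxQ).2⟩))

/-- The elements of the closure of a set of pairwise commuting elements commute. -/
theorem commute_of_mem_closure {G : Type*} [Group G] {S : Set G}
    (hS : ∀ a ∈ S, ∀ b ∈ S, a * b = b * a) :
    ∀ a ∈ Subgroup.closure S, ∀ b ∈ Subgroup.closure S, a * b = b * a := by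
  have h1 : Subgroup.closure S ≤ Subgroup.centralizer S := by
    rw [Subgroup.closure_le]
    intro a ha
    rw [SetLike.mem_coe, Subgroup.mem_centralizer_iff]
    intro b hb
    exact hS b hb a ha
  have h2 : Subgroup.closure S ≤ Subgroup.centralizer (Subgroup.closure S : Set G) := by
    rw [Subgroup.closure_le]
    intro a ha
    rw [SetLike.mem_coe, Subgroup.mem_centralizer_iff]
    intro b hb
    have := Subgroup.mem_centralizer_iff.mp (h1 hb) a ha
    exact this.symm
  intro a ha b hb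
  exact (Subgroup.mem_centralizer_iff.mp (h2 hb) a ha)

/-- Power of a class-two commutator: if `c = ⁅y, x⁆` commutes with `y`, then `c ^ n = ⁅y ^ n, x⁆`;
in particular `c ^ n = 1` when `y ^ n` commutes with `x`. -/
theorem comm_pow_eq_one {G : Type*} [Group G] {x y : G} (n : ℕ)
    (hcy : Commute ⁅y, x⁆ y) (hn : y ^ n * x = x * y ^ n) : ⁅y, x⁆ ^ n = 1 := by
  have h : y * x = ⁅y, x⁆ * x * y := by rw [commutatorElement_def]; group
  have h1 := pow_mul_of_central h hcy n
  rw [hn] at h1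
  have h2 : 1 * (x * y ^ n) = ⁅y, x⁆ ^ n * (x * y ^ n) := by
    rw [one_mul, ← mul_assoc]; exact h1
  exact (mul_right_cancel h2).symm

end Cfsg.Agent.S1949

namespace Cfsg.Agent.S1949

open Cfsg.Agent.Helper24 Cfsg.Agent.S0093 in
/-- Let P be a finite p-group and G a group of automorphisms of P containing the inner automorphisms. Then there is a G-invariant subgroup D of P, contained in the subgroup generated by the elements x⁻¹α(x) with x in P and α in O^p(G), of exponent dividing p when p is odd and dividing 4 when p = 2, with [D, P] ≤ Z(D), such that every automorphism in G of order prime to p that fixes D elementwise is the identity; moreover every maximal abelian subgroup A of D is normal in P and every automorphism in G fixing A elementwise has p-power order. -/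
theorem result {P : Type*} [Group P] [Finite P] {p : ℕ} [Fact p.Prime] (hP : IsPGroup p P)
    (G : Subgroup (MulAut P)) (hG : Cfsg.Inn P ≤ G) :
    ∃ D : Subgroup P,
      (∀ α ∈ G, D.map α.toMonoidHom = D) ∧
      D ≤ Subgroup.closure {y : P | ∃ α ∈ Cfsg.pResidual p ↥G, ∃ x : P, y = x⁻¹ * (α : MulAut P) x} ∧
      (∀ d ∈ D, d ^ p = 1 ∨ (p = 2 ∧ d ^ 4 = 1)) ∧
      ⁅D, (⊤ : Subgroup P)⁆ ≤ D ⊓ Subgroup.centralizer (D : Set P) ∧
      (∀ α ∈ G, (orderOf α).Coprime p → (∀ d ∈ D, α d = d) → α = 1) ∧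
      ∀ A : Subgroup P, A ≤ D → IsMulCommutative ↥A →
        (∀ B : Subgroup P, A ≤ B → B ≤ D → IsMulCommutative ↥B → B = A) →
        A.Normal ∧ ∀ α ∈ G, (∀ a ∈ A, α a = a) → ∃ k : ℕ, orderOf α = p ^ k := by
  classical
  have hpp : p.Prime := Fact.out
  set S : Set P := {y : P | ∃ α ∈ Cfsg.pResidual p ↥G, ∃ x : P, y = x⁻¹ * (α : MulAut P) x} with hS
  set R : Subgroup P := Subgroup.closure S with hR
  have hOn : (Cfsg.pResidual p ↥G).Normal := Cfsg.Agent.Lib.pResidual_normal p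
  -- `R` is `G`-invariant
  have hRinv : ∀ β ∈ G, ∀ x ∈ R, β x ∈ R := by
    intro β hβ x hx
    have hle : R ≤ R.comap β.toMonoidHom := by
      rw [hR, Subgroup.closure_le]
      rintro y ⟨α, hα, x, rfl⟩
      rw [SetLike.mem_coe, Subgroup.mem_comap]
      have hconj : (⟨β, hβ⟩ : ↥G) * α * (⟨β, hβ⟩ : ↥G)⁻¹ ∈ Cfsg.pResidual p ↥G :=
        hOn.conj_mem α hα _
      apply Subgroup.subset_closure
      refine ⟨_, hconj, β x, ?_⟩
      simp [map_mul, map_inv]
    exact hle hx
  -- `p'`-elements of `G` act faithfully on `R`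
  have hfaithR : ∀ α ∈ G, (orderOf α).Coprime p → (∀ x ∈ R, α x = x) → α = 1 := by
    intro α hα hcop hfix
    apply aut_eq_one_of_fix_comm hP α hcop
    intro x
    apply hfix
    apply Subgroup.subset_closure
    refine ⟨⟨α, hα⟩, ?_, x, rfl⟩
    apply Subgroup.subset_closure
    show Nat.Coprime (orderOf (⟨α, hα⟩ : ↥G)) p
    rw [← Subgroup.orderOf_coe]
    exact hcop
  -- `G`-invariant subgroups are normal
  have hnormal_of_inv : ∀ K : Subgroup P, (∀ β ∈ G, ∀ x ∈ K, β x ∈ K) → K.Normal := by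
    intro K hK
    refine ⟨fun n hn g => ?_⟩
    have := hK (MulAut.conj g) (hG ⟨g, rfl⟩) n hn
    simpa [MulAut.conj_apply] using this
  have hinvG : ∀ β ∈ G, β⁻¹ ∈ G := fun β hβ => G.inv_mem hβ
  -- a maximal `G`-invariant abelian subgroup of `R`
  obtain ⟨M, -, hMmax⟩ := Finite.exists_le_maximal
    (p := fun M : Subgroup P => (∀ β ∈ G, ∀ x ∈ M, β x ∈ M) ∧ M ≤ R ∧
      ∀ a ∈ M, ∀ b ∈ M, a * b = b * a)
    (a := ⊥) ⟨by
      intro β _ x hx
      rw [Subgroup.mem_bot] at hx ⊢
      rw [hx, map_one], bot_le, by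
      intro a ha b hb
      rw [Subgroup.mem_bot] at ha hb
      rw [ha, hb]⟩
  obtain ⟨⟨hMinv, hMR, hMab⟩, hMmax'⟩ := hMmax
  have hMn : M.Normal := hnormal_of_inv M hMinv
  have hRn : R.Normal := hnormal_of_inv R hRinv
  set D₀ : Subgroup P := crit p M ⊓ R with hD₀
  -- `crit p M` is `G`-invariant
  have hcritinv : ∀ β ∈ G, ∀ x ∈ crit p M, β x ∈ crit p M := by
    intro β hβ x hx
    rw [mem_crit] at hx ⊢
    obtain ⟨hx1, hx2, hx3⟩ := hx
    refine ⟨?_, fun g => ?_, ?_⟩
    · rw [Subgroup.mem_centralizer_iff] at hx1 ⊢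
      intro m hm
      have hm' : β⁻¹ m ∈ M := hMinv β⁻¹ (hinvG β hβ) m hm
      have h1 := hx1 _ hm'
      have h2 : β (β⁻¹ m * x) = β (x * β⁻¹ m) := by rw [h1]
      simpa [map_mul] using h2
    · have h1 : ⁅β x, g⁆ = β ⁅x, β⁻¹ g⁆ := by
        rw [map_commutatorElement]; simp
      rw [h1]
      exact hMinv β hβ _ (hx2 _)
    · have h1 : (β x) ^ p = β (x ^ p) := by simp
      rw [h1]
      exact hMinv β hβ _ hx3
  have hD₀inv : ∀ β ∈ G, ∀ x ∈ D₀, β x ∈ D₀ := by
    intro β hβ x hx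
    exact Subgroup.mem_inf.mpr ⟨hcritinv β hβ x (Subgroup.mem_inf.mp hx).1,
      hRinv β hβ x (Subgroup.mem_inf.mp hx).2⟩
  have hD₀n : D₀.Normal := hnormal_of_inv D₀ hD₀inv
  have hMD₀ : M ≤ D₀ := le_inf (le_crit p M hMab) hMR
  have hD₀R : D₀ ≤ R := inf_le_right
  have hD₀cM : ∀ d ∈ D₀, ∀ m ∈ M, m * d = d * m := by
    intro d hd m hm
    have := ((mem_crit p M d).mp (Subgroup.mem_inf.mp hd).1).1
    exact Subgroup.mem_centralizer_iff.mp this m hm
  have hD₀comm : ∀ d ∈ D₀, ∀ g : P, ⁅d, g⁆ ∈ M := by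
    intro d hd g
    exact ((mem_crit p M d).mp (Subgroup.mem_inf.mp hd).1).2.1 g
  have hD₀pow : ∀ d ∈ D₀, d ^ p ∈ M := by
    intro d hd
    exact ((mem_crit p M d).mp (Subgroup.mem_inf.mp hd).1).2.2
  -- `Z(D₀) = M`
  have hZ : D₀ ⊓ Subgroup.centralizer (D₀ : Set P) ≤ M := by
    apply hMmax' ⟨?_, inf_le_left.trans hD₀R, ?_⟩ ?_
    · intro β hβ x hx
      obtain ⟨hx1, hx2⟩ := Subgroup.mem_inf.mp hx
      refine Subgroup.mem_inf.mpr ⟨hD₀inv β hβ x hx1, ?_⟩
      rw [Subgroup.mem_centralizer_iff] at hx2 ⊢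
      intro d hd
      have hd' : β⁻¹ d ∈ D₀ := hD₀inv β⁻¹ (hinvG β hβ) d hd
      have h1 := hx2 _ hd'
      have h2 : β (β⁻¹ d * x) = β (x * β⁻¹ d) := by rw [h1]
      simpa [map_mul] using h2
    · intro a ha b hb
      exact (Subgroup.mem_centralizer_iff.mp (Subgroup.mem_inf.mp hb).2 a (Subgroup.mem_inf.mp ha).1)
    · intro m hm
      refine Subgroup.mem_inf.mpr ⟨hMD₀ hm, ?_⟩
      rw [Subgroup.mem_centralizer_iff]
      intro d hd
      exact (hD₀cM d hd m hm).symm
  have hCR : R ⊓ Subgroup.centralizer (D₀ : Set P) ≤ D₀ :=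
    rel_centralizer_crit_le hP R M hD₀n hMD₀ hZ
  -- the exponent
  set m : ℕ := if p = 2 then 4 else p with hm
  obtain ⟨hm1, hm2⟩ := omega_exponent_ok hpp
  rw [← hm] at hm1 hm2
  have hmcases : ∀ x : P, (x ^ p = 1 ∨ (p = 2 ∧ x ^ 4 = 1)) ↔ x ^ m = 1 := by
    intro x
    by_cases h2 : p = 2
    · have hm4 : m = 4 := by rw [hm, if_pos h2]
      rw [hm4]
      constructor
      · rintro (h | ⟨-, h⟩)
        · rw [h2] at h
          have : x ^ 4 = (x ^ 2) ^ 2 := by rw [← pow_mul]
          rw [this, h, one_pow]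
        · exact h
      · intro h; exact Or.inr ⟨h2, h⟩
    · have hmp : m = p := by rw [hm, if_neg h2]
      rw [hmp]
      constructor
      · rintro (h | ⟨h, -⟩)
        · exact h
        · exact absurd h h2
      · intro h; exact Or.inl h
  -- `D = Ω_m(D₀)` is a subgroup
  have hmul : ∀ x ∈ D₀, ∀ y ∈ D₀, x ^ m = 1 → y ^ m = 1 → (x * y) ^ m = 1 := by
    intro x hx y hy hxm hym
    have hcM : ⁅y, x⁆ ∈ M := hD₀comm y hy x
    have h : y * x = ⁅y, x⁆ * x * y := by rw [commutatorElement_def]; group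
    have hcx : Commute ⁅y, x⁆ x := hD₀cM x hx _ hcM
    have hcy : Commute ⁅y, x⁆ y := hD₀cM y hy _ hcM
    have h1 := mul_pow_of_central h hcx hcy m
    have hcp : ⁅y, x⁆ ^ p = 1 := comm_pow_eq_one p hcy (hD₀cM x hx _ (hD₀pow y hy))
    obtain ⟨t, ht⟩ := hm2
    rw [h1, hxm, hym, ht, pow_mul, hcp, one_pow, one_mul, one_mul]
  let D : Subgroup P :=
    { carrier := {x | x ∈ D₀ ∧ x ^ m = 1}
      one_mem' := ⟨D₀.one_mem, one_pow _⟩
      mul_mem' := by
        rintro x y ⟨hx, hxm⟩ ⟨hy, hym⟩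
        exact ⟨D₀.mul_mem hx hy, hmul x hx y hy hxm hym⟩
      inv_mem' := by
        rintro x ⟨hx, hxm⟩
        exact ⟨D₀.inv_mem hx, by rw [inv_pow, hxm, inv_one]⟩ }
  have hDmem : ∀ x, x ∈ D ↔ x ∈ D₀ ∧ x ^ m = 1 := fun x => Iff.rfl
  have hDD₀ : D ≤ D₀ := fun x hx => ((hDmem x).mp hx).1
  have hDinv : ∀ β ∈ G, ∀ x ∈ D, β x ∈ D := by
    intro β hβ x hx
    rw [hDmem] at hx ⊢
    refine ⟨hD₀inv β hβ x hx.1, ?_⟩
    rw [← map_pow, hx.2, map_one]
  have hDn : D.Normal := hnormal_of_inv D hDinv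
  -- (4)
  have h4 : ∀ d ∈ D, ∀ g : P, ⁅d, g⁆ ∈ D ⊓ Subgroup.centralizer (D : Set P) := by
    intro d hd g
    refine Subgroup.mem_inf.mpr ⟨?_, ?_⟩
    · have h1 : ⁅d, g⁆ = d * (g * d⁻¹ * g⁻¹) := by rw [commutatorElement_def]; group
      rw [h1]
      exact D.mul_mem hd (hDn.conj_mem _ (D.inv_mem hd) g)
    · rw [Subgroup.mem_centralizer_iff]
      intro e he
      exact (hD₀cM e (hDD₀ he) _ (hD₀comm d (hDD₀ hd) g)).symm
  -- (5)
  have h5 : ∀ α ∈ G, (orderOf α).Coprime p → (∀ d ∈ D, α d = d) → α = 1 := by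
    intro α hα hcop hfix
    have hfixD₀ : ∀ x ∈ D₀, α x = x := by
      apply aut_fix_of_fix_omega hP α hcop D₀ (hD₀inv α hα)
      intro x hx hxx
      exact hfix x ((hDmem x).mpr ⟨hx, (hmcases x).mp hxx⟩)
    have hfixR : ∀ x ∈ R, α x = x := by
      apply aut_fix_of_fix_centralizer hP α hcop R D₀ (hRinv α hα) ?_ hfixD₀
      · intro u hu hub
        apply hfixD₀
        apply hCR
        refine Subgroup.mem_inf.mpr ⟨hu, ?_⟩
        rw [Subgroup.mem_centralizer_iff]
        intro b hb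
        exact hub b hb
      · rw [Subgroup.normalizer_eq_top_iff.mpr hRn]
        exact le_top
    exact hfaithR α hα hcop hfixR
  refine ⟨D, ?_, hDD₀.trans hD₀R, ?_, ?_, h5, ?_⟩
  · intro α hα
    apply le_antisymm
    · intro y hy
      obtain ⟨x, hx, rfl⟩ := Subgroup.mem_map.mp hy
      exact hDinv α hα x hx
    · intro y hy
      refine Subgroup.mem_map.mpr ⟨α⁻¹ y, hDinv α⁻¹ (hinvG α hα) y hy, ?_⟩
      simp
  · intro d hd
    exact (hmcases d).mpr ((hDmem d).mp hd).2
  · rw [Subgroup.commutator_le]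
    intro d hd g _
    exact h4 d hd g
  · intro A hAD hAab hAmax
    -- elements of `D` centralizing `A` lie in `A`
    have hCA : ∀ x ∈ D, (∀ a ∈ A, a * x = x * a) → x ∈ A := by
      intro x hx hxa
      set T : Set P := (A : Set P) ∪ {x} with hT
      have hTcomm : ∀ a ∈ T, ∀ b ∈ T, a * b = b * a := by
        intro a ha b hb
        rcases ha with ha | ha <;> rcases hb with hb | hb
        · exact setLike_mul_comm ha hb
        · rw [Set.mem_singleton_iff.mp hb]; exact hxa a ha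
        · rw [Set.mem_singleton_iff.mp ha]; exact (hxa b hb).symm
        · rw [Set.mem_singleton_iff.mp ha, Set.mem_singleton_iff.mp hb]
      have hB := commute_of_mem_closure hTcomm
      have hAB : A ≤ Subgroup.closure T := by
        intro a ha
        exact Subgroup.subset_closure (Or.inl ha)
      have hBD : Subgroup.closure T ≤ D := by
        rw [Subgroup.closure_le]
        intro a ha
        rcases ha with ha | ha
        · exact hAD ha
        · rw [Set.mem_singleton_iff.mp ha]; exact hx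
      have hBab : IsMulCommutative ↥(Subgroup.closure T) :=
        ⟨⟨fun a b => Subtype.ext (hB a a.2 b b.2)⟩⟩
      have := hAmax _ hAB hBD hBab
      rw [← this]
      exact Subgroup.subset_closure (Or.inr rfl)
    have hZA : ∀ z ∈ D ⊓ Subgroup.centralizer (D : Set P), z ∈ A := by
      intro z hz
      obtain ⟨hz1, hz2⟩ := Subgroup.mem_inf.mp hz
      apply hCA z hz1
      intro a ha
      exact Subgroup.mem_centralizer_iff.mp hz2 a (hAD ha)
    refine ⟨⟨fun a ha g => ?_⟩, ?_⟩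
    · have h1 : g * a * g⁻¹ = (⁅a, g⁆)⁻¹ * a := by rw [commutatorElement_def]; group
      rw [h1]
      exact A.mul_mem (A.inv_mem (hZA _ (h4 a (hAD ha) g))) ha
    · intro α hα hfixA
      have hn0 : orderOf α ≠ 0 := (orderOf_pos α).ne'
      obtain ⟨k, n', hn', hn⟩ := Nat.exists_eq_pow_mul_and_not_dvd hn0 p hpp.ne_one
      refine ⟨k, ?_⟩
      set β : MulAut P := α ^ (p ^ k) with hβ
      have hβG : β ∈ G := G.pow_mem hα _
      have hpk : p ^ k ≠ 0 := pow_ne_zero _ hpp.ne_zero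
      have hordβ : orderOf β = n' := by
        rw [hβ, orderOf_pow_of_dvd hpk ⟨n', hn⟩, hn, Nat.mul_div_cancel_left _ (Nat.pos_of_ne_zero hpk)]
      have hcopβ : (orderOf β).Coprime p := by
        rw [hordβ]
        exact ((Nat.Prime.coprime_iff_not_dvd hpp).mpr hn').symm
      have hfixAβ : ∀ a ∈ A, β a = a := by
        intro a ha
        have : ∀ j : ℕ, (α ^ j) a = a := by
          intro j
          induction j with
          | zero => simp
          | succ j ih => rw [pow_succ, MulAut.mul_apply, hfixA a ha, ih]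
        exact this _
      have hfixDβ : ∀ d ∈ D, β d = d := by
        apply aut_fix_of_fix_centralizer hP β hcopβ D A (hDinv β hβG) ?_ hfixAβ
        · intro u hu hub
          exact hfixAβ u (hCA u hu hub)
        · rw [Subgroup.normalizer_eq_top_iff.mpr hDn]
          exact le_top
      have hβ1 : β = 1 := h5 β hβG hcopβ hfixDβ
      rw [hβ1, orderOf_one] at hordβ
      rw [hn, ← hordβ, mul_one]

end Cfsg.Agent.S1949
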