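-- Statement S0126: for odd p a non-cyclic finite p-group has a normal elementary abelian subgroup of order p².
import Cfsg.Statements.S0126
import Cfsg.Agent.Helper52.NormalRankTwo

set_option autoImplicit false
open Cfsg

namespace Cfsg.Agent.S0126

theorem result {R : Type*} [Group R] [Finite R] {p : ℕ} [Fact p.Prime] (hp : p ≠ 2) (hR : IsPGroup p R) (hnc : ¬ IsCyclic R) : ∃ A : Subgroup R, A.Normal ∧ Cfsg.IsElementaryAbelian p A ∧ Nat.card A = p ^ 2 := by
  have htop : ¬ IsCyclic (⊤ : Subgroup R) := fun h => hnc ((Subgroup.topEquiv (G := R)).isCyclic.mp h)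
  obtain ⟨A, _, hAn, hAe, hAc⟩ :=
    Cfsg.Agent.Helper52.exists_normal_elementaryAbelian_sq hp hR (⊤ : Subgroup R) htop
  exact ⟨A, hAn, hAe, hAc⟩

end Cfsg.Agent.S0126
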