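import Mathlib
import Cfsg.Statements.S0684
import Cfsg.Agent.Helper1.FpfCyclic

set_option autoImplicit false
open Cfsg

namespace Cfsg.Agent.S0684

section aux

variable {p : ℕ} [Fact p.Prime] {V : Type*} [AddCommGroup V] [Module (ZMod p) V]

/-- linear automorphisms act on the multiplicative version of `V` -/
def actHom : (V ≃ₗ[ZMod p] V) →* MulAut (Multiplicative V) where
  toFun g := AddEquiv.toMultiplicative g.toAddEquiv
  map_one' := by ext v; rfl
  map_mul' g h := by ext v; rfl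

theorem actHom_apply (g : V ≃ₗ[ZMod p] V) (v : Multiplicative V) :
    actHom g v = Multiplicative.ofAdd (g (Multiplicative.toAdd v)) := rfl

/-- a regular linear group is fixed-point-free -/
theorem fpf_of_reg (H : Subgroup (V ≃ₗ[ZMod p] V))
    (hreg : ∀ v w : V, v ≠ 0 → w ≠ 0 → ∃! h : H, (h : V ≃ₗ[ZMod p] V) v = w)
    (h : H) (v : V) (hv : v ≠ 0) (hfix : (h : V ≃ₗ[ZMod p] V) v = v) : h = 1 := by
  obtain ⟨h0, _, huniq⟩ := hreg v v hv hv
  have h1 := huniq h hfix
  have h2 := huniq 1 (by simp)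
  rw [h1, h2]

end aux

/-- Point stabiliser of a sharply doubly transitive group not of semilinear type: a maximal normal abelian subgroup `A` of a linear group `H` that is regular on non-zero vectors and has no irreducible cyclic normal subgroup is cyclic and reducible, and the order of `A` divides `p ^ k - 1` for `k` the dimension of a minimal `A`-invariant subspace. -/
theorem result {p : ℕ} [Fact p.Prime] {V : Type*} [AddCommGroup V] [Module (ZMod p) V] [Finite V] (H : Subgroup (V ≃ₗ[ZMod p] V)) (hreg : ∀ v w : V, v ≠ 0 → w ≠ 0 → ∃! h : H, (h : V ≃ₗ[ZMod p] V) v = w) (hI : ∀ A : Subgroup H, A.Normal → IsCyclic A → ∃ W : Submodule (ZMod p) V, W ≠ ⊥ ∧ W ≠ ⊤ ∧ ∀ a ∈ A, ∀ v ∈ W, ((a : H) : V ≃ₗ[ZMod p] V) v ∈ W) (A : Subgroup H) (hAn : A.Normal) (hAc : IsMulCommutative A) (hAmax : ∀ B : Subgroup H, B.Normal → IsMulCommutative B → A ≤ B → B = A) : IsCyclic A ∧ ∃ W : Submodule (ZMod p) V, W ≠ ⊥ ∧ W ≠ ⊤ ∧ (∀ a ∈ A, ∀ v ∈ W, ((a : H) : V ≃ₗ[ZMod p] V) v ∈ W) ∧ (∀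 W' : Submodule (ZMod p) V, W' ≤ W → (∀ a ∈ A, ∀ v ∈ W', ((a : H) : V ≃ₗ[ZMod p] V) v ∈ W') → W' = ⊥ ∨ W' = W) ∧ Nat.card A ∣ p ^ Module.finrank (ZMod p) W - 1 := by
  classical
  have hpp : p.Prime := Fact.out
  -- `V` is nontrivial
  have hVnt : Nontrivial V := by
    obtain ⟨W, hW, _, _⟩ := hI ⊥ inferInstance inferInstance
    obtain ⟨w, _, hw0⟩ := (Submodule.ne_bot_iff W).mp hW
    exact ⟨⟨w, 0, hw0⟩⟩
  haveI : Finite (V ≃ₗ[ZMod p] V) := Finite.of_injective (fun g => (g : V → V))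
    (fun g h hgh => LinearEquiv.ext (congrFun hgh))
  -- cyclic
  have hcyc : IsCyclic A := by
    let φ : A →* MulAut (Multiplicative V) := actHom.comp (H.subtype.comp A.subtype)
    apply Cfsg.Agent.Helper1.isCyclic_of_fpf_of_comm φ
    intro a ha v hv
    by_contra hv1
    apply ha
    have hv0 : Multiplicative.toAdd v ≠ 0 := fun h => hv1 (by
      rw [← ofAdd_toAdd v, h]; rfl)
    have hfix : ((a : H) : V ≃ₗ[ZMod p] V) (Multiplicative.toAdd v) = Multiplicative.toAdd v := by
      have := congrArg Multiplicative.toAdd hv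
      exact this
    have := fpf_of_reg H hreg (a : H) _ hv0 hfix
    exact Subtype.ext this
  refine ⟨hcyc, ?_⟩
  obtain ⟨W0, hW0bot, hW0top, hW0inv⟩ := hI A hAn hcyc
  -- a minimal invariant subspace inside `W0`
  let Pred : Submodule (ZMod p) V → Prop := fun W =>
    W ≠ ⊥ ∧ W ≤ W0 ∧ ∀ a ∈ A, ∀ v ∈ W, ((a : H) : V ≃ₗ[ZMod p] V) v ∈ W
  haveI : Finite (Submodule (ZMod p) V) :=
    Finite.of_injective (fun W => (W : Set V)) SetLike.coe_injective
  obtain ⟨W, hWmin⟩ := exists_minimal_of_wellFoundedLT Pred ⟨W0, hW0bot, le_refl _, hW0inv⟩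
  obtain ⟨⟨hWbot, hWle, hWinv⟩, hWmin'⟩ := hWmin
  refine ⟨W, hWbot, ?_, hWinv, ?_, ?_⟩
  · intro h
    apply hW0top
    rw [eq_top_iff, ← h]
    exact hWle
  · intro W' hW'le hW'inv
    by_cases hW'bot : W' = ⊥
    · exact Or.inl hW'bot
    · right
      exact le_antisymm hW'le (hWmin' ⟨hW'bot, le_trans hW'le hWle, hW'inv⟩ hW'le)
  · -- free action on `W \ {0}`
    let X : SubMulAction A V :=
      { carrier := {v | v ∈ W ∧ v ≠ 0}
        smul_mem' := by
          intro a v hv
          refine ⟨hWinv a.1 a.2 v hv.1, ?_⟩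
          intro h0
          apply hv.2
          have : ((a : H) : V ≃ₗ[ZMod p] V) v = 0 := h0
          exact (LinearEquiv.map_eq_zero_iff _).mp this }
    have hfree : ∀ x : X, MulAction.stabilizer A x = ⊥ := by
      intro x
      rw [eq_bot_iff]
      intro a ha
      rw [MulAction.mem_stabilizer_iff] at ha
      have hfix : ((a : H) : V ≃ₗ[ZMod p] V) x.1 = x.1 := congrArg Subtype.val ha
      have := fpf_of_reg H hreg (a : H) x.1 x.2.2 hfix
      rw [Subgroup.mem_bot]
      exact Subtype.ext this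
    have hcardX : Nat.card X = Nat.card (Quotient (MulAction.orbitRel A X)) * Nat.card A := by
      rw [← Nat.card_prod]
      exact Nat.card_congr (MulAction.selfEquivOrbitsQuotientProd hfree)
    have hcardW : Nat.card W = p ^ Module.finrank (ZMod p) W := by
      rw [Module.natCard_eq_pow_finrank (K := ZMod p) (V := W), Nat.card_eq_fintype_card,
        ZMod.card]
    have hcardX' : Nat.card X = Nat.card W - 1 := by
      have h1 : Nat.card X = ({v | v ∈ W ∧ v ≠ 0} : Set V).ncard := by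
        rw [← Nat.card_coe_set_eq]
        rfl
      have h2 : ({v | v ∈ W ∧ v ≠ 0} : Set V) = (W : Set V) \ {0} := by
        ext v
        simp
      rw [h1, h2, Set.ncard_sdiff_singleton_of_mem (W.zero_mem)]
      rfl
    rw [← hcardW, ← hcardX', hcardX]
    exact dvd_mul_left _ _

end Cfsg.Agent.S0684
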