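import Mathlib
import Cfsg.Statements.S0685
import Cfsg.Agent.S0684

set_option autoImplicit false
open Cfsg

namespace Cfsg.Agent.S0685

open Cfsg.Agent.S0684 (fpf_of_reg)

/-- the automorphism group of a finite cyclic group is no larger than the group -/
theorem card_mulAut_le {A : Type*} [Group A] [Finite A] [IsCyclic A] :
    Nat.card (MulAut A) ≤ Nat.card A := by
  obtain ⟨g, hg⟩ := IsCyclic.exists_generator (α := A)
  apply Nat.card_le_card_of_injective (fun φ : MulAut A => φ g)
  intro φ ψ h
  apply MulEquiv.ext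
  intro x
  obtain ⟨n, rfl⟩ := Subgroup.mem_zpowers_iff.mp (hg x)
  have h' : φ g = ψ g := h
  rw [map_zpow, map_zpow, h']

/-- In a linear group over the prime field that is regular on non-zero vectors and has no irreducible cyclic normal subgroup, a maximal normal abelian subgroup is properly contained in its centraliser, which is non-abelian. -/
theorem result {p : ℕ} [Fact p.Prime] {V : Type*} [AddCommGroup V] [Module (ZMod p) V] [Finite V] (H : Subgroup (V ≃ₗ[ZMod p] V)) (hreg : ∀ v w : V, v ≠ 0 → w ≠ 0 → ∃! h : H, (h : V ≃ₗ[ZMod p] V) v = w) (hI : ∀ A : Subgroup H, A.Normal → IsCyclic A → ∃ W : Submodule (ZMod p) V, W ≠ ⊥ ∧ W ≠ ⊤ ∧ ∀ a ∈ A, ∀ v ∈ W, ((a : H) : V ≃ₗ[ZMod p] V) v ∈ W) (A : Subgroup H) (hAn : A.Normal) (hAc : IsMulCommutative A) (hAmax : ∀ B : Subgroup H, B.Normal → IsMulCommutative B → A ≤ B → B = A) : A < Subgroup.centralizer (A : Set H) ∧ ¬ IsMulCommutative (Subgroup.centralizer (A : Set H)) := by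
  classical
  have hpp : p.Prime := Fact.out
  haveI : Finite (V ≃ₗ[ZMod p] V) := Finite.of_injective (fun g => (g : V → V))
    (fun g h hgh => LinearEquiv.ext (congrFun hgh))
  have hAle : A ≤ Subgroup.centralizer (A : Set H) := by
    intro a ha
    rw [Subgroup.mem_centralizer_iff]
    intro b hb
    have := mul_comm' (⟨b, hb⟩ : A) ⟨a, ha⟩
    exact congrArg Subtype.val this
  have hlt : A < Subgroup.centralizer (A : Set H) := by
    refine lt_of_le_of_ne hAle ?_
    intro hAC
    obtain ⟨hcyc, W, hWbot, hWtop, hWinv, hWmin, hdvd⟩ :=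
      Cfsg.Agent.S0684.result H hreg hI A hAn hAc hAmax
    set k := Module.finrank (ZMod p) W with hk
    set q := p ^ k with hq
    -- a vector in `W` and one outside
    obtain ⟨w, hwW, hw0⟩ := (Submodule.ne_bot_iff W).mp hWbot
    obtain ⟨v, hvW⟩ : ∃ v : V, v ∉ W := by
      by_contra hcon
      push Not at hcon
      exact hWtop (eq_top_iff.mpr fun x _ => hcon x)
    have hv0 : v ≠ 0 := fun h => hvW (h ▸ W.zero_mem)
    obtain ⟨h, hhw, _⟩ := hreg w v hw0 hv0
    -- the translate of `W`
    set W' : Submodule (ZMod p) V := W.map ((h : V ≃ₗ[ZMod p] V) : V →ₗ[ZMod p] V) with hW'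
    have hvW' : v ∈ W' := ⟨w, hwW, hhw⟩
    have hW'inv : ∀ a ∈ A, ∀ x ∈ W', ((a : H) : V ≃ₗ[ZMod p] V) x ∈ W' := by
      rintro a ha x ⟨y, hy, rfl⟩
      have hconj : h⁻¹ * a * h ∈ A := by
        have := hAn.conj_mem a ha h⁻¹
        rwa [inv_inv] at this
      refine ⟨((h⁻¹ * a * h : H) : V ≃ₗ[ZMod p] V) y, hWinv _ hconj y hy, ?_⟩
      show (h : V ≃ₗ[ZMod p] V) (((h⁻¹ * a * h : H) : V ≃ₗ[ZMod p] V) y) =
        (a : V ≃ₗ[ZMod p] V) ((h : V ≃ₗ[ZMod p] V) y)
      have e1 : ((h * (h⁻¹ * a * h) : H) : V ≃ₗ[ZMod p] V) y = ((a * h : H) : V ≃ₗ[ZMod p] V) y := by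
        congr 2
        group
      exact e1
    have hfrW' : Module.finrank (ZMod p) W' = k := by
      rw [hW', hk]
      exact LinearEquiv.finrank_map_eq (h : V ≃ₗ[ZMod p] V) W
    have hinf : W ⊓ W' = ⊥ := by
      rcases hWmin (W ⊓ W') inf_le_left (by
        intro a ha x hx
        exact ⟨hWinv a ha x hx.1, hW'inv a ha x hx.2⟩) with h0 | h0
      · exact h0
      · exfalso
        have hle : W ≤ W' := by
          rw [← h0]
          exact inf_le_right
        have heq : W = W' := Submodule.eq_of_le_of_finrank_le hle (by rw [hfrW'])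
        apply hvW
        rw [heq]
        exact hvW'
    have hdim : 2 * k ≤ Module.finrank (ZMod p) V := by
      have h1 := Submodule.finrank_sup_add_finrank_inf_eq W W'
      rw [hinf, finrank_bot, add_zero, hfrW', ← hk] at h1
      have h3 := Submodule.finrank_le (W ⊔ W')
      omega
    have hcardV : Nat.card V = p ^ Module.finrank (ZMod p) V := by
      rw [Module.natCard_eq_pow_finrank (K := ZMod p) (V := V), Nat.card_eq_fintype_card,
        ZMod.card]
    have hVq : q ^ 2 ≤ Nat.card V := by
      rw [hcardV, hq, ← pow_mul, mul_comm]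
      exact Nat.pow_le_pow_right hpp.pos hdim
    -- `|H| = |V| - 1`
    have hcardH : Nat.card H + 1 = Nat.card V := by
      have hbij : Function.Bijective (fun g : H => (⟨(g : V ≃ₗ[ZMod p] V) w, by
          intro h0
          exact hw0 ((LinearEquiv.map_eq_zero_iff _).mp h0)⟩ : {x : V // x ≠ 0})) := by
        constructor
        · intro g g' hgg
          have h1 : (g : V ≃ₗ[ZMod p] V) w = (g' : V ≃ₗ[ZMod p] V) w := congrArg Subtype.val hgg
          have hne : (g' : V ≃ₗ[ZMod p] V) w ≠ 0 := fun h0 =>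
            hw0 ((LinearEquiv.map_eq_zero_iff _).mp h0)
          obtain ⟨g0, _, huniq⟩ := hreg w _ hw0 hne
          rw [huniq g h1, huniq g' rfl]
        · rintro ⟨x, hx⟩
          obtain ⟨g, hg, _⟩ := hreg w x hw0 hx
          exact ⟨g, Subtype.ext hg⟩
      have h1 : Nat.card H = Nat.card {x : V // x ≠ 0} := Nat.card_congr (Equiv.ofBijective _ hbij)
      have h3 : Nat.card {x : V // x ≠ 0} = ({x : V | x ≠ 0} : Set V).ncard := by
        rw [← Nat.card_coe_set_eq]
        rfl
      have h4 : ({x : V | x ≠ 0} : Set V) = (Set.univ : Set V) \ {0} := by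
        ext x
        simp
      rw [h1, h3, h4, Set.ncard_sdiff_singleton_of_mem (Set.mem_univ _), Set.ncard_univ]
      have : 0 < Nat.card V := Nat.card_pos
      omega
    -- `|H| ≤ |A|^2`
    have hHA : Nat.card H ≤ Nat.card A * Nat.card A := by
      haveI := hAn
      let ψ : H →* MulAut A := MulAut.conjNormal
      have hker : ψ.ker = A := by
        refine Eq.trans ?_ hAC.symm
        ext g
        rw [MonoidHom.mem_ker, Subgroup.mem_centralizer_iff]
        constructor
        · intro hg b hb
          have h1 := congrArg (fun φ : MulAut A => ((φ ⟨b, hb⟩ : A) : H)) hg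
          simp only [MulAut.one_apply] at h1
          have h3 : ((ψ g ⟨b, hb⟩ : A) : H) = g * b * g⁻¹ := MulAut.conjNormal_apply g ⟨b, hb⟩
          rw [h3] at h1
          nth_rewrite 1 [← h1]
          group
        · intro hg
          apply MulEquiv.ext
          intro b
          apply Subtype.ext
          have h3 : ((ψ g b : A) : H) = g * b * g⁻¹ := MulAut.conjNormal_apply g b
          rw [h3, MulAut.one_apply, ← hg b.1 b.2]
          group
      haveI : Finite (MulAut A) := Finite.of_injective (fun φ => (φ : A → A))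
        (fun φ φ' hφ => MulEquiv.ext (congrFun hφ))
      have h1 := Subgroup.card_eq_card_quotient_mul_card_subgroup ψ.ker
      have h3 : Nat.card (H ⧸ ψ.ker) ≤ Nat.card (MulAut A) :=
        Nat.card_le_card_of_injective _ (QuotientGroup.kerLift_injective ψ)
      have h4 : Nat.card (MulAut A) ≤ Nat.card A := card_mulAut_le
      have h5 : Nat.card ψ.ker = Nat.card A := by rw [hker]
      rw [h1, h5]
      exact Nat.mul_le_mul_right _ (le_trans h3 h4)
    -- arithmetic
    have hkpos : 0 < k := by
      rw [hk]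
      have : Nontrivial W := by
        refine ⟨⟨⟨w, hwW⟩, 0, ?_⟩⟩
        intro h0
        exact hw0 (congrArg Subtype.val h0)
      exact Module.finrank_pos
    have hq2 : 2 ≤ q := by
      rw [hq]
      calc 2 ≤ p := hpp.two_le
      _ = p ^ 1 := (pow_one p).symm
      _ ≤ p ^ k := Nat.pow_le_pow_right hpp.pos hkpos
    have haq : Nat.card A ≤ q - 1 := Nat.le_of_dvd (by omega) hdvd
    have h6 : Nat.card A * Nat.card A ≤ (q - 1) * (q - 1) := Nat.mul_le_mul haq haq
    obtain ⟨r, hr⟩ : ∃ r, q = r + 1 := ⟨q - 1, by omega⟩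
    rw [hr] at hVq h6
    simp only [Nat.add_sub_cancel] at h6
    nlinarith
  refine ⟨hlt, ?_⟩
  intro hcomm
  have hCn : (Subgroup.centralizer (A : Set H)).Normal := by
    haveI := hAn
    infer_instance
  have := hAmax _ hCn hcomm hAle
  exact absurd this.symm (ne_of_lt hlt)

end Cfsg.Agent.S0685
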