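import Cfsg.Statements.S0648
import Cfsg.Agent.Helper51.Glauberman

set_option autoImplicit false
open Cfsg

namespace Cfsg.Agent.S0648

open Subgroup Cfsg.Agent.Helper51
open scoped commutatorElement

theorem closure_gen_eq {G : Type*} [Group G] (A : Subgroup G) (b : G) :
    Subgroup.closure {g : G | ∃ a ∈ A, g = b⁻¹ * a * b * a⁻¹} =
      Subgroup.closure {g : G | ∃ a ∈ A, g = ⁅a, b⁻¹⁆} := by
  apply le_antisymm
  · rw [closure_le]
    rintro g ⟨a, ha, rfl⟩
    have e : b⁻¹ * a * b * a⁻¹ = (⁅a, b⁻¹⁆)⁻¹ := by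
      simp only [commutatorElement_def]; group
    rw [e]
    exact inv_mem (subset_closure ⟨a, ha, rfl⟩)
  · rw [closure_le]
    rintro g ⟨a, ha, rfl⟩
    have e : ⁅a, b⁻¹⁆ = (b⁻¹ * a * b * a⁻¹)⁻¹ := by
      simp only [commutatorElement_def]; group
    rw [e]
    exact inv_mem (subset_closure ⟨a, ha, rfl⟩)

/-- Let A normalize B and centralize [B,B]. Then the derived subgroup of [B,A] is central in B; and if A is abelian and b ∈ B has [[b,A],A,A] = 1, where [b,A] is generated by the commutators of b with elements of A, then every element of the derived subgroup of [b,A] has square 1. -/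
theorem result {G : Type*} [Group G] [Finite G] (A B : Subgroup G) (hAB : A ≤ Subgroup.normalizer (B : Set G)) (hc : ⁅⁅B, B⁆, A⁆ = ⊥) : ⁅⁅B, A⁆, ⁅B, A⁆⁆ ≤ B ⊓ Subgroup.centralizer (B : Set G) ∧ (IsMulCommutative A → ∀ b ∈ B, ⁅⁅(Subgroup.closure {g : G | ∃ a ∈ A, g = b⁻¹ * a * b * a⁻¹}), A⁆, A⁆ = ⊥ → ∀ w ∈ ⁅(Subgroup.closure {g : G | ∃ a ∈ A, g = b⁻¹ * a * b * a⁻¹}), (Subgroup.closure {g : G | ∃ a ∈ A, g = b⁻¹ * a * b * a⁻¹})⁆, w ^ 2 = 1) := by
  refine ⟨derived_commutator_le_center hAB hc, ?_⟩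
  intro hA b hb
  rw [closure_gen_eq]
  intro hq
  set S : Set G := {g : G | ∃ a ∈ A, g = ⁅a, b⁻¹⁆} with hS
  have hβ : b⁻¹ ∈ B := B.inv_mem hb
  have hKB : ⁅B, A⁆ ≤ B := le_normalizer_iff_commutator_le_left.mp hAB
  have hXK : closure S ≤ ⁅B, A⁆ := by
    rw [closure_le]
    rintro g ⟨a, ha, rfl⟩
    rw [commutator_comm]; exact commutator_mem_commutator ha hβ
  have hcen := derived_commutator_le_center hAB hc
  have hZc : IsMulCommutative ↥(B ⊓ centralizer (B : Set G)) := by
    apply le_centralizer_iff_isMulCommutative.mp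
    exact inf_le_right.trans (centralizer_le (by exact_mod_cast inf_le_left))
  have F3 : ∀ t ∈ ⁅closure S, A⁆, ∀ g ∈ A, g * t = t * g := by
    intro t ht g hg
    exact mem_centralizer_iff.mp (commutator_eq_bot_iff_le_centralizer.mp hq ht) g hg
  have hle : ⁅closure S, closure S⁆ ≤ sqTorsion _ hZc := by
    apply commutator_closure_le_of_central
    · refine ((commutator_mono hXK hXK).trans hcen).trans (inf_le_right.trans ?_)
      exact centralizer_le (by exact_mod_cast hXK.trans hKB)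
    · rintro s ⟨c, hcA, rfl⟩ s' ⟨a, ha, rfl⟩
      rw [mem_sqTorsion]
      refine ⟨hcen (commutator_mem_commutator (hXK (subset_closure ⟨c, hcA, rfl⟩))
        (hXK (subset_closure ⟨a, ha, rfl⟩))), ?_⟩
      apply sq_comm_gen_eq_one hAB hc hβ ha hcA (comm_of_mem' hA ha hcA)
      · intro g hg
        apply F3 _ _ g hg
        rw [commutator_comm]
        exact commutator_mem_commutator ha (subset_closure ⟨c, hcA, rfl⟩)
      · intro g hg
        apply F3 _ _ g hg
        rw [commutator_comm]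
        exact commutator_mem_commutator hcA (subset_closure ⟨a, ha, rfl⟩)
  intro w hw
  exact (mem_sqTorsion.mp (hle hw)).2

end Cfsg.Agent.S0648
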