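import Cfsg.Statements.S1443
import Cfsg.Agent.Helper24.OddOmega

set_option autoImplicit false
open Cfsg

namespace Cfsg.Agent.S1443

open Cfsg.Agent.Helper24 in
/-- Let G be a finite group, p an odd prime, H a p-subgroup, E an elementary abelian subgroup of H, and A a subgroup of order coprime to p normalizing H. If A centralizes every element of order p in H ∩ C_G(E), then A centralizes H. -/
theorem result {G : Type*} [Group G] [Finite G] (p : ℕ) [Fact p.Prime] (hp : p ≠ 2) (H E A : Subgroup G) (hH : IsPGroup p H) (hE : E ≤ H) (hEe : Cfsg.IsElementaryAbelian p E)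
    (hA : (A ≤ Subgroup.normalizer (H : Set G))) (hcop : (Nat.card A).Coprime p)
    (hfix : ∀ x ∈ (H ⊓ Subgroup.centralizer (E : Set G)), orderOf x = p → A ≤ Subgroup.centralizer ({x} : Set G)) :
    A ≤ Subgroup.centralizer (H : Set G) := by
  have hpp : p.Prime := Fact.out
  intro a ha
  have hcopa : (orderOf a).Coprime p :=
    Nat.Coprime.coprime_dvd_left (orderOf_dvd_card_of_mem ha) hcop
  have haH : a ∈ Subgroup.normalizer (H : Set G) := hA ha
  -- `a` commutes with the elements of `C_H(E)` of order dividing `p`
  have hfix' : ∀ x ∈ (H ⊓ Subgroup.centralizer (E : Set G)), x ^ p = 1 → a * x = x * a := by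
    intro x hx hxp
    by_cases hx1 : x = 1
    · subst hx1; simp
    have hord : orderOf x = p := by
      rcases (Nat.dvd_prime hpp).mp (orderOf_dvd_of_pow_eq_one hxp) with h | h
      · exact absurd (orderOf_eq_one_iff.mp h) hx1
      · exact h
    have := hfix x hx hord ha
    rw [Subgroup.mem_centralizer_iff] at this
    exact (this x rfl).symm
  -- `a` commutes with `E`
  have hEcomm : ∀ x ∈ E, ∀ y ∈ E, x * y = y * x := by
    intro x hx y hy
    have := hEe.1
    have := mul_comm' (⟨x, hx⟩ : E) ⟨y, hy⟩
    exact congrArg Subtype.val this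
  have haE : ∀ e ∈ E, a * e = e * a := by
    intro e he
    apply hfix' e _ (hEe.2 e he)
    refine Subgroup.mem_inf.mpr ⟨hE he, ?_⟩
    rw [Subgroup.mem_centralizer_iff]
    intro y hy
    exact hEcomm y hy e he
  -- `a` normalizes `C_H(E)` and hence centralizes it
  have haQ := mem_normalizer_inf_centralizer haH haE
  have hQ : IsPGroup p ↥(H ⊓ Subgroup.centralizer (E : Set G)) := hH.to_le inf_le_left
  have hCQ := commute_of_commute_omega_odd hp hcopa _ hQ haQ hfix'
  -- Thompson's lemma
  have hfin : ∀ u ∈ H, a * u = u * a := by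
    apply thompson_PxQ hH (hH.to_le hE) (le_trans hE Subgroup.le_normalizer) haH hcopa haE
    intro u hu hub
    apply hCQ
    refine Subgroup.mem_inf.mpr ⟨hu, ?_⟩
    rw [Subgroup.mem_centralizer_iff]
    exact hub
  rw [Subgroup.mem_centralizer_iff]
  intro u hu
  exact (hfin u hu).symm

end Cfsg.Agent.S1443
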