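import Cfsg.Statements.S0110
import Cfsg.Agent.Helper29.ExtraspecialP

set_option autoImplicit false
open Cfsg

namespace Cfsg.Agent.S0110

open Cfsg.Agent.Helper29

/-- In a p-group G, an extraspecial subgroup E with [G, E] ≤ Z(E) satisfies G = E C_G(E). -/
theorem result {G : Type*} [Group G] [Finite G] {p : ℕ} [Fact p.Prime] (hG : IsPGroup p G) (E : Subgroup G) (hE : Cfsg.IsExtraspecial p E) (h : ⁅(⊤ : Subgroup G), E⁆ ≤ E ⊓ Subgroup.centralizer (E : Set G)) : E ⊔ Subgroup.centralizer (E : Set G) = ⊤ := by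
  obtain ⟨⟨_, _, hcomm⟩, hcard⟩ := hE
  rw [eq_top_iff]
  intro g _
  -- the commutator map e ↦ [g, e] into the centre of E
  have hmem : ∀ e : E, g * e * g⁻¹ * (e : G)⁻¹ ∈ E ⊓ Subgroup.centralizer (E : Set G) := fun e =>
    h (Subgroup.commutator_mem_commutator (Subgroup.mem_top g) e.2)
  have hcen : ∀ e : E, (⟨g * e * g⁻¹ * (e : G)⁻¹, (hmem e).1⟩ : E) ∈ Subgroup.center E := by
    intro e
    rw [Subgroup.mem_center_iff]
    intro y
    apply Subtype.ext
    have := (Subgroup.mem_centralizer_iff.mp (hmem e).2) y y.2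
    exact this
  let l : E →* Subgroup.center E :=
    { toFun := fun e => ⟨⟨g * e * g⁻¹ * (e : G)⁻¹, (hmem e).1⟩, hcen e⟩
      map_one' := by
        apply Subtype.ext
        apply Subtype.ext
        simp
      map_mul' := by
        intro a b
        apply Subtype.ext
        apply Subtype.ext
        have hb := (Subgroup.mem_centralizer_iff.mp (hmem b).2) a⁻¹ (E.inv_mem a.2)
        show g * (a * b : G) * g⁻¹ * (a * b : G)⁻¹ =
          (g * a * g⁻¹ * (a : G)⁻¹) * (g * b * g⁻¹ * (b : G)⁻¹)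
        calc g * (a * b : G) * g⁻¹ * (a * b : G)⁻¹
            = g * a * g⁻¹ * ((g * b * g⁻¹ * (b : G)⁻¹) * (a : G)⁻¹) := by group
          _ = g * a * g⁻¹ * ((a : G)⁻¹ * (g * b * g⁻¹ * (b : G)⁻¹)) := by rw [← hb]
          _ = (g * a * g⁻¹ * (a : G)⁻¹) * (g * b * g⁻¹ * (b : G)⁻¹) := by group }
  obtain ⟨q, hq⟩ := exists_inner_of_central_hom p hcomm hcard l
  have hcent : (q : G)⁻¹ * g ∈ Subgroup.centralizer (E : Set G) := by
    rw [Subgroup.mem_centralizer_iff]
    intro y hy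
    have h1 := congrArg Subtype.val (hq ⟨y, hy⟩)
    have h2 : g * y * g⁻¹ * y⁻¹ = q * y * (q : G)⁻¹ * y⁻¹ := h1
    have h3 : g * y * g⁻¹ = q * y * (q : G)⁻¹ := mul_right_cancel h2
    calc y * ((q : G)⁻¹ * g) = (q : G)⁻¹ * (q * y * (q : G)⁻¹) * g := by group
      _ = (q : G)⁻¹ * (g * y * g⁻¹) * g := by rw [h3]
      _ = (q : G)⁻¹ * g * y := by group
  have : g = (q : G) * ((q : G)⁻¹ * g) := by group
  rw [this]
  exact Subgroup.mul_mem_sup q.2 hcent

end Cfsg.Agent.S0110
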