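-- Statement S0129: a maximal abelian normal subgroup of order p^a in a p-group G forces |G| ≤ p^(a(a+1)/2).
import Cfsg.Statements.S0129
import Cfsg.Agent.Helper52.PGroupLemmas

set_option autoImplicit false
open Cfsg

namespace Cfsg.Agent.S0129

theorem result {G : Type*} [Group G] [Finite G] {p : ℕ} [Fact p.Prime] (hG : IsPGroup p G) (A : Subgroup G) [A.Normal] (hA : IsMulCommutative A) (hmax : ∀ B : Subgroup G, B.Normal → IsMulCommutative B → A ≤ B → B = A) (a : ℕ) (ha : Nat.card A = p ^ a) : Nat.card G ≤ p ^ (a * (a + 1) / 2) := by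
  have hp : p.Prime := Fact.out
  have hCA : Subgroup.centralizer (A : Set G) = A :=
    le_antisymm (Cfsg.Agent.Helper52.centralizer_le_of_maximal_normal_abelian hG A hA hmax)
      (Subgroup.le_centralizer A)
  have hidx := Cfsg.Agent.Helper52.index_centralizer_le (p := p) a hG A inferInstance hA ha
  rw [hCA] at hidx
  have hcard := Subgroup.card_mul_index A
  rw [← hcard, ha]
  calc p ^ a * A.index ≤ p ^ a * p ^ (a * (a - 1) / 2) := Nat.mul_le_mul_left _ hidx
    _ = p ^ (a * (a + 1) / 2) := by
      rw [← pow_add]
      congr 1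
      have h2 : ∀ n : ℕ, n + n * (n - 1) / 2 = n * (n + 1) / 2 := by
        intro n
        induction n with
        | zero => simp
        | succ m _ =>
          have : (m + 1) * (m + 1 + 1) = 2 * (m + 1) + (m + 1) * m := by ring
          rw [this, Nat.mul_add_div (by norm_num)]
          simp
      exact h2 a

end Cfsg.Agent.S0129
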