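-- S0646: nonabelian 2-groups with a cyclic maximal subgroup (helper52).
import Cfsg.Statements.S0646

set_option autoImplicit false
open Cfsg

namespace Cfsg.Agent.S0646

/-- Square roots of `1` modulo `2 ^ (k + 2)` are `≡ ±1` modulo `2 ^ (k + 1)`. -/
theorem sq_modEq_one_two_pow (k ρ : ℕ) (h : ρ * ρ ≡ 1 [MOD 2 ^ (k + 2)]) :
    (∃ t, ρ = 1 + 2 ^ (k + 1) * t) ∨ (∃ t, ρ + 1 = 2 ^ (k + 1) * t) := by
  have hodd : Odd ρ := by
    by_contra hev
    rw [Nat.not_odd_iff_even] at hev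
    obtain ⟨j, rfl⟩ := hev
    have h2 : (j + j) * (j + j) ≡ 1 [MOD 2] := h.of_dvd (dvd_pow_self 2 (by omega))
    have h3 : (j + j) * (j + j) % 2 = 0 := by
      have : (j + j) * (j + j) = 2 * (2 * j * j) := by ring
      rw [this]; exact Nat.mul_mod_right 2 _
    unfold Nat.ModEq at h2
    omega
  obtain ⟨j, rfl⟩ := hodd
  have hdvd : 2 ^ (k + 2) ∣ (2 * j + 1) * (2 * j + 1) - 1 :=
    (Nat.modEq_iff_dvd' (by nlinarith)).mp h.symm
  have e : (2 * j + 1) * (2 * j + 1) - 1 = 4 * (j * (j + 1)) := by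
    have : (2 * j + 1) * (2 * j + 1) = 4 * (j * (j + 1)) + 1 := by ring
    omega
  rw [e, pow_add] at hdvd
  have hdvd' : 2 ^ k ∣ j * (j + 1) := by
    have h4 : 4 * 2 ^ k ∣ 4 * (j * (j + 1)) := by
      rw [mul_comm 4 (2 ^ k)]; simpa using hdvd
    exact Nat.dvd_of_mul_dvd_mul_left (by norm_num) h4
  have hcop : Nat.Coprime j (j + 1) := by simp
  have hor : 2 ^ k ∣ j ∨ 2 ^ k ∣ j + 1 := by
    rcases Nat.eq_zero_or_pos k with rfl | hk
    · left; simp
    · exact (Nat.Coprime.isPrimePow_dvd_mul hcop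
        ((isPrimePow_pow_iff hk.ne').mpr Nat.prime_two.isPrimePow)).mp hdvd'
  rcases hor with ⟨t, ht⟩ | ⟨t, ht⟩
  · left
    exact ⟨t, by rw [pow_succ, ht]; ring⟩
  · right
    refine ⟨t, ?_⟩
    have : 2 * j + 1 + 1 = 2 * (j + 1) := by ring
    rw [this, ht, pow_succ]; ring

section ZModFacts

variable (k : ℕ)

/-- `h = 2^(k+1)` in `ZMod (2^(k+2))`. -/
theorem two_mul_half : (2 : ZMod (2 ^ (k + 2))) * ((2 ^ (k + 1) : ℕ) : ZMod (2 ^ (k + 2))) = 0 := by
  have : ((2 * 2 ^ (k + 1) : ℕ) : ZMod (2 ^ (k + 2))) = 0 := by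
    have e : 2 * 2 ^ (k + 1) = 2 ^ (k + 2) := by ring
    rw [e]; exact ZMod.natCast_self _
  push_cast at this ⊢
  exact this

theorem half_eq : ((2 ^ (k + 1) : ℕ) : ZMod (2 ^ (k + 2))) = 2 * ((2 ^ k : ℕ) : ZMod (2 ^ (k + 2))) := by
  push_cast; ring

/-- `2 q^2 = 0` when `q = 2^k`, `k ≥ 1`. -/
theorem two_mul_q_sq (hk : 1 ≤ k) :
    (2 : ZMod (2 ^ (k + 2))) * ((2 ^ k : ℕ) : ZMod (2 ^ (k + 2))) * ((2 ^ k : ℕ) : ZMod (2 ^ (k + 2))) = 0 := by
  obtain ⟨j, rfl⟩ : ∃ j, k = j + 1 := ⟨k - 1, by omega⟩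
  have : ((2 ^ (j + 1 + 2) * 2 ^ j : ℕ) : ZMod (2 ^ (j + 1 + 2))) = 0 := by
    rw [Nat.cast_mul, ZMod.natCast_self, zero_mul]
  have e : 2 ^ (j + 1 + 2) * 2 ^ j = 2 * 2 ^ (j + 1) * 2 ^ (j + 1) := by ring
  rw [e] at this
  push_cast at this ⊢
  exact this

/-- `2 z = 0` in `ZMod (2^(k+2))` forces `z = 0` or `z = 2^(k+1)`. -/
theorem eq_zero_or_half_of_two_mul (z : ZMod (2 ^ (k + 2))) (hz : 2 * z = 0) :
    z = 0 ∨ z = ((2 ^ (k + 1) : ℕ) : ZMod (2 ^ (k + 2))) := by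
  haveI : NeZero (2 ^ (k + 2)) := ⟨by positivity⟩
  have hv : ((2 * z.val : ℕ) : ZMod (2 ^ (k + 2))) = 0 := by
    push_cast; rw [ZMod.natCast_zmod_val]; exact hz
  rw [ZMod.natCast_eq_zero_iff] at hv
  have hlt : z.val < 2 ^ (k + 2) := ZMod.val_lt z
  have h2 : 2 ^ (k + 1) ∣ z.val := by
    have hd : 2 * 2 ^ (k + 1) ∣ 2 ^ (k + 2) := ⟨1, by ring⟩
    exact Nat.dvd_of_mul_dvd_mul_left (by norm_num) (hd.trans hv)
  obtain ⟨t, ht⟩ := h2
  have ht2 : t < 2 := by
    by_contra hcon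
    have : 2 ^ (k + 1) * 2 ≤ 2 ^ (k + 1) * t := Nat.mul_le_mul_left _ (by omega)
    have e : 2 ^ (k + 2) = 2 ^ (k + 1) * 2 := by ring
    omega
  have hz' : z = ((z.val : ℕ) : ZMod (2 ^ (k + 2))) := (ZMod.natCast_zmod_val z).symm
  interval_cases t
  · left; rw [hz', ht]; simp
  · right; rw [hz', ht]; simp

/-- `s * 2^(k+1) = 0` in `ZMod (2^(k+2))` forces `s` even. -/
theorem exists_two_mul_of_mul_half (s : ZMod (2 ^ (k + 2)))
    (hs : s * ((2 ^ (k + 1) : ℕ) : ZMod (2 ^ (k + 2))) = 0) : ∃ t : ZMod (2 ^ (k + 2)), s = 2 * t := by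
  haveI : NeZero (2 ^ (k + 2)) := ⟨by positivity⟩
  have hv : ((s.val * 2 ^ (k + 1) : ℕ) : ZMod (2 ^ (k + 2))) = 0 := by
    push_cast; rw [ZMod.natCast_zmod_val]; exact_mod_cast hs
  rw [ZMod.natCast_eq_zero_iff] at hv
  have h2 : 2 ∣ s.val := by
    have hd : 2 ^ (k + 1) * 2 ∣ 2 ^ (k + 2) := ⟨1, by ring⟩
    have hv' : 2 ^ (k + 1) * 2 ∣ 2 ^ (k + 1) * s.val := by
      rw [mul_comm (2 ^ (k + 1)) s.val]; exact hd.trans hv
    exact Nat.dvd_of_mul_dvd_mul_left (by positivity) hv'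
  obtain ⟨t, ht⟩ := h2
  refine ⟨(t : ZMod (2 ^ (k + 2))), ?_⟩
  have hs' : s = ((s.val : ℕ) : ZMod (2 ^ (k + 2))) := (ZMod.natCast_zmod_val s).symm
  rw [hs', ht]; push_cast; ring

/-- Square roots of one in `ZMod (2^(k+2))`. -/
theorem sq_eq_one_cases (r : ZMod (2 ^ (k + 2))) (hr : r * r = 1) :
    r = 1 ∨ r = -1 ∨ r = 1 + ((2 ^ (k + 1) : ℕ) : ZMod (2 ^ (k + 2))) ∨
      r = -1 + ((2 ^ (k + 1) : ℕ) : ZMod (2 ^ (k + 2))) := by
  haveI : NeZero (2 ^ (k + 2)) := ⟨by positivity⟩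
  have hr' : r = ((r.val : ℕ) : ZMod (2 ^ (k + 2))) := (ZMod.natCast_zmod_val r).symm
  have hv : ((r.val * r.val : ℕ) : ZMod (2 ^ (k + 2))) = ((1 : ℕ) : ZMod (2 ^ (k + 2))) := by
    push_cast; rw [ZMod.natCast_zmod_val]; exact hr
  rw [ZMod.natCast_eq_natCast_iff] at hv
  have hpar : ∀ t : ℕ, ((2 ^ (k + 1) * t : ℕ) : ZMod (2 ^ (k + 2))) = 0 ∨
      ((2 ^ (k + 1) * t : ℕ) : ZMod (2 ^ (k + 2))) = ((2 ^ (k + 1) : ℕ) : ZMod (2 ^ (k + 2))) := by
    intro t
    rcases Nat.even_or_odd' t with ⟨u, rfl | rfl⟩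
    · left
      have e : 2 ^ (k + 1) * (2 * u) = 2 ^ (k + 2) * u := by ring
      rw [e, Nat.cast_mul, ZMod.natCast_self, zero_mul]
    · right
      have e : 2 ^ (k + 1) * (2 * u + 1) = 2 ^ (k + 2) * u + 2 ^ (k + 1) := by ring
      rw [e, Nat.cast_add, Nat.cast_mul, ZMod.natCast_self, zero_mul, zero_add]
  rcases sq_modEq_one_two_pow k r.val hv with ⟨t, ht⟩ | ⟨t, ht⟩
  · have e : r = 1 + ((2 ^ (k + 1) * t : ℕ) : ZMod (2 ^ (k + 2))) := by
      rw [hr', ht]; push_cast; ring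
    rcases hpar t with h0 | h1
    · left; rw [e, h0, add_zero]
    · right; right; left; rw [e, h1]
  · have e : r = -1 + ((2 ^ (k + 1) * t : ℕ) : ZMod (2 ^ (k + 2))) := by
      have h1 : r + 1 = ((2 ^ (k + 1) * t : ℕ) : ZMod (2 ^ (k + 2))) := by
        rw [← ht]; push_cast; rw [ZMod.natCast_zmod_val]
      rw [← h1]; ring
    rcases hpar t with h0 | h1
    · right; left; rw [e, h0, add_zero]
    · right; right; right; rw [e, h1]

end ZModFacts


section GroupPart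

variable {G : Type*} [Group G]

/-- power with exponent in `ZMod N`. -/
def zp (a : G) {N : ℕ} (z : ZMod N) : G := a ^ z.val

theorem pow_eq_zp {a : G} {N : ℕ} [NeZero N] (ha : orderOf a = N) (j : ℕ) :
    a ^ j = zp a (j : ZMod N) := by
  unfold zp
  rw [ZMod.val_natCast]
  have h := pow_mod_orderOf a j
  rw [ha] at h
  exact h.symm

theorem zp_add {a : G} {N : ℕ} [NeZero N] (ha : orderOf a = N) (x y : ZMod N) :
    zp a (x + y) = zp a x * zp a y := by
  have h : zp a x * zp a y = a ^ (x.val + y.val) := by unfold zp; rw [pow_add]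
  rw [h, pow_eq_zp ha]
  congr 1
  push_cast
  rw [ZMod.natCast_zmod_val, ZMod.natCast_zmod_val]

theorem zp_zero (a : G) {N : ℕ} : zp a (0 : ZMod N) = 1 := by
  unfold zp; rw [ZMod.val_zero, pow_zero]

theorem zp_neg {a : G} {N : ℕ} [NeZero N] (ha : orderOf a = N) (x : ZMod N) :
    zp a (-x) = (zp a x)⁻¹ :=
  eq_inv_of_mul_eq_one_left (by rw [← zp_add ha, neg_add_cancel, zp_zero])

theorem zp_one {a : G} {N : ℕ} [NeZero N] (ha : orderOf a = N) : zp a (1 : ZMod N) = a := by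
  have := pow_eq_zp ha 1
  simpa using this.symm

theorem zp_injective {a : G} {N : ℕ} [NeZero N] (ha : orderOf a = N) :
    Function.Injective (fun z : ZMod N => zp a z) := by
  intro x y h
  simp only [zp] at h
  rw [pow_eq_pow_iff_modEq, ha] at h
  apply ZMod.val_injective
  exact Nat.ModEq.eq_of_lt_of_lt h (ZMod.val_lt x) (ZMod.val_lt y)

theorem zp_mem_zpowers (a : G) {N : ℕ} (z : ZMod N) : zp a z ∈ Subgroup.zpowers a :=
  Subgroup.pow_mem _ (Subgroup.mem_zpowers a) _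

theorem exists_zp_of_mem_zpowers {a : G} {N : ℕ} [NeZero N] (ha : orderOf a = N) {x : G}
    (hx : x ∈ Subgroup.zpowers a) : ∃ z : ZMod N, x = zp a z := by
  have hpos : 0 < orderOf a := by rw [ha]; exact Nat.pos_of_ne_zero (NeZero.ne N)
  have hfin : IsOfFinOrder a := orderOf_pos_iff.1 hpos
  obtain ⟨j, hj⟩ := (Submonoid.mem_powers_iff _ _).1 (hfin.mem_powers_iff_mem_zpowers.2 hx)
  exact ⟨(j : ZMod N), by rw [← hj, pow_eq_zp ha]⟩

theorem conj_zp {a : G} {N : ℕ} [NeZero N] (ha : orderOf a = N) {b : G} {r : ZMod N}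
    (h : b * a * b⁻¹ = zp a r) (z : ZMod N) : b * zp a z * b⁻¹ = zp a (r * z) := by
  have e1 : b * zp a z * b⁻¹ = (b * a * b⁻¹) ^ z.val := by unfold zp; rw [conj_pow]
  rw [e1, h]
  have e2 : (zp a r) ^ z.val = a ^ (r.val * z.val) := by unfold zp; rw [← pow_mul]
  rw [e2, pow_eq_zp ha]
  congr 1
  push_cast
  rw [ZMod.natCast_zmod_val, ZMod.natCast_zmod_val]

end GroupPart

/-- Classification of non-abelian 2-groups with a cyclic maximal subgroup: dihedral, generalized quaternion, and for order at least 16 the modular group and the semidihedral group, each given by generators a (of index 2) and b with the stated relations. -/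
theorem result {G : Type*} [Group G] [Finite G] (n : ℕ) (hn : 3 ≤ n) (hG : Nat.card G = 2 ^ n) (C : Subgroup G) (hC : IsCyclic C) (hCi : C.index = 2) (hna : ∃ x y : G, x * y ≠ y * x) : ∃ a b : G, orderOf a = 2 ^ (n - 1) ∧ b ∉ Subgroup.zpowers a ∧ ((b ^ 2 = 1 ∧ b * a * b⁻¹ = a⁻¹) ∨ (b ^ 2 = a ^ (2 ^ (n - 2)) ∧ b * a * b⁻¹ = a⁻¹) ∨ (4 ≤ n ∧ b ^ 2 = 1 ∧ b * a * b⁻¹ = a ^ (1 + 2 ^ (n - 2))) ∨ (4 ≤ n ∧ b ^ 2 = 1 ∧ b * a * b⁻¹ = a ^ (2 ^ (n - 2) - 1))) := by
  classical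
  obtain ⟨k, rfl⟩ : ∃ k, n = k + 3 := ⟨n - 3, by omega⟩
  have e1 : k + 3 - 1 = k + 2 := by omega
  have e2 : k + 3 - 2 = k + 1 := by omega
  rw [e1, e2]
  haveI : NeZero (2 ^ (k + 2)) := ⟨by positivity⟩
  have hCcard : Nat.card C = 2 ^ (k + 2) := by
    have h := C.card_mul_index
    rw [hCi, hG] at h
    have e : 2 ^ (k + 3) = 2 ^ (k + 2) * 2 := by ring
    rw [e] at h
    exact Nat.eq_of_mul_eq_mul_right (by norm_num) h
  haveI := hC
  obtain ⟨g, hg⟩ := IsCyclic.exists_generator (α := C)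
  set a : G := (g : G) with ha_def
  have hao : orderOf a = 2 ^ (k + 2) := by
    rw [ha_def, Subgroup.orderOf_coe, orderOf_eq_card_of_forall_mem_zpowers hg, hCcard]
  have hCa : Subgroup.zpowers a = C := by
    ext x
    constructor
    · intro hx
      obtain ⟨j, rfl⟩ := Subgroup.mem_zpowers_iff.mp hx
      exact C.zpow_mem g.2 j
    · intro hx
      obtain ⟨j, hj⟩ := Subgroup.mem_zpowers_iff.mp (hg ⟨x, hx⟩)
      rw [Subgroup.mem_zpowers_iff]
      refine ⟨j, ?_⟩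
      have := congrArg Subtype.val hj
      simpa using this
  have hCn : C.Normal := Subgroup.normal_of_index_eq_two hCi
  have haC : a ∈ C := g.2
  obtain ⟨b0, hb0⟩ : ∃ b0 : G, b0 ∉ C := by
    by_contra hcon
    push Not at hcon
    have : C = ⊤ := eq_top_iff.mpr (fun x _ => hcon x)
    rw [this, Subgroup.index_top] at hCi
    norm_num at hCi
  have h1 : b0 * a * b0⁻¹ ∈ Subgroup.zpowers a := by
    rw [hCa]; exact hCn.conj_mem a haC b0
  obtain ⟨r, hr⟩ := exists_zp_of_mem_zpowers hao h1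
  have h2 : b0 ^ 2 ∈ Subgroup.zpowers a := by
    rw [hCa]; exact Subgroup.sq_mem_of_index_two hCi b0
  obtain ⟨s, hs⟩ := exists_zp_of_mem_zpowers hao h2
  have hconj := conj_zp hao hr
  have hrr : r * r = 1 := by
    apply zp_injective hao
    show zp a (r * r) = zp a (1 : ZMod (2 ^ (k + 2)))
    have e3 : zp a (r * r) = b0 * (b0 * zp a (1 : ZMod (2 ^ (k + 2))) * b0⁻¹) * b0⁻¹ := by
      rw [hconj 1, mul_one, hconj r]
    rw [e3, zp_one hao]
    have e4 : b0 * (b0 * a * b0⁻¹) * b0⁻¹ = b0 ^ 2 * a * (b0 ^ 2)⁻¹ := by rw [pow_two]; group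
    rw [e4, hs]
    have hc : Commute (zp a s) a := (Commute.refl a).pow_left _
    rw [hc.eq]; group
  have hrs : r * s = s := by
    apply zp_injective hao
    show zp a (r * s) = zp a s
    rw [← hconj s, ← hs]; group
  have hform : ∀ x : G, (∃ z : ZMod (2 ^ (k + 2)), x = zp a z) ∨
      (∃ z : ZMod (2 ^ (k + 2)), x = zp a z * b0) := by
    intro x
    by_cases hx : x ∈ C
    · left; exact exists_zp_of_mem_zpowers hao (hCa ▸ hx)
    · right
      have hxb : x * b0⁻¹ ∈ C := by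
        rw [Subgroup.mul_mem_iff_of_index_two hCi]
        constructor <;> intro h'
        · exact absurd h' hx
        · exact absurd (by simpa using C.inv_mem h') hb0
      obtain ⟨z, hz⟩ := exists_zp_of_mem_zpowers hao (hCa ▸ hxb)
      exact ⟨z, by rw [← hz]; group⟩
  have hr1 : r ≠ 1 := by
    intro h
    obtain ⟨x, y, hxy⟩ := hna
    apply hxy
    have hb0z : ∀ z : ZMod (2 ^ (k + 2)), b0 * zp a z = zp a z * b0 := by
      intro z
      have h3 := hconj z
      rw [h, one_mul] at h3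
      calc b0 * zp a z = (b0 * zp a z * b0⁻¹) * b0 := by group
        _ = zp a z * b0 := by rw [h3]
    have hzz : ∀ z w : ZMod (2 ^ (k + 2)), zp a z * zp a w = zp a w * zp a z := by
      intro z w; rw [← zp_add hao, ← zp_add hao, add_comm z w]
    rcases hform x with ⟨z, rfl⟩ | ⟨z, rfl⟩ <;> rcases hform y with ⟨w, rfl⟩ | ⟨w, rfl⟩
    · exact hzz z w
    · calc zp a z * (zp a w * b0) = (zp a z * zp a w) * b0 := by group
        _ = (zp a w * zp a z) * b0 := by rw [hzz]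
        _ = zp a w * (zp a z * b0) := by group
        _ = zp a w * (b0 * zp a z) := by rw [hb0z]
        _ = zp a w * b0 * zp a z := by group
    · calc zp a z * b0 * zp a w = zp a z * (b0 * zp a w) := by group
        _ = zp a z * (zp a w * b0) := by rw [hb0z]
        _ = (zp a z * zp a w) * b0 := by group
        _ = (zp a w * zp a z) * b0 := by rw [hzz]
        _ = zp a w * (zp a z * b0) := by group
    · calc zp a z * b0 * (zp a w * b0) = zp a z * (b0 * zp a w) * b0 := by group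
        _ = zp a z * (zp a w * b0) * b0 := by rw [hb0z]
        _ = (zp a z * zp a w) * b0 * b0 := by group
        _ = (zp a w * zp a z) * b0 * b0 := by rw [hzz]
        _ = zp a w * (zp a z * b0) * b0 := by group
        _ = zp a w * (b0 * zp a z) * b0 := by rw [hb0z]
        _ = zp a w * b0 * (zp a z * b0) := by group
  have hbi : ∀ i : ZMod (2 ^ (k + 2)), (zp a i * b0) ∉ Subgroup.zpowers a ∧
      (zp a i * b0) ^ 2 = zp a (i + r * i + s) ∧
      (zp a i * b0) * a * (zp a i * b0)⁻¹ = zp a r := by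
    intro i
    refine ⟨?_, ?_, ?_⟩
    · rw [hCa]
      intro hmem
      apply hb0
      have hzi : zp a i ∈ C := hCa ▸ zp_mem_zpowers a i
      have e : b0 = (zp a i)⁻¹ * (zp a i * b0) := by group
      rw [e]; exact C.mul_mem (C.inv_mem hzi) hmem
    · calc (zp a i * b0) ^ 2 = zp a i * (b0 * zp a i * b0⁻¹) * b0 ^ 2 := by
            rw [pow_two, pow_two]; group
        _ = zp a i * zp a (r * i) * zp a s := by rw [hconj, hs]
        _ = zp a (i + r * i + s) := by rw [zp_add hao, zp_add hao]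
    · calc (zp a i * b0) * a * (zp a i * b0)⁻¹ = zp a i * (b0 * a * b0⁻¹) * (zp a i)⁻¹ := by group
        _ = zp a i * zp a r * (zp a i)⁻¹ := by rw [hr]
        _ = zp a r := by
          rw [← zp_neg hao, ← zp_add hao, ← zp_add hao]; congr 1; ring
  -- notation
  set H : ZMod (2 ^ (k + 2)) := ((2 ^ (k + 1) : ℕ) : ZMod (2 ^ (k + 2))) with hH
  set Q : ZMod (2 ^ (k + 2)) := ((2 ^ k : ℕ) : ZMod (2 ^ (k + 2))) with hQ
  have hHQ : H = 2 * Q := half_eq k
  have h2H : 2 * H = 0 := two_mul_half k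
  have hzneg : zp a (-1 : ZMod (2 ^ (k + 2))) = a⁻¹ := by rw [zp_neg hao, zp_one hao]
  have hzH : zp a H = a ^ (2 ^ (k + 1)) := (pow_eq_zp hao _).symm
  have hz1H : zp a (1 + H) = a ^ (1 + 2 ^ (k + 1)) := by
    have e : ((1 + 2 ^ (k + 1) : ℕ) : ZMod (2 ^ (k + 2))) = 1 + H := by
      rw [hH]; push_cast; ring
    rw [pow_eq_zp hao, e]
  have hzH1 : zp a (-1 + H) = a ^ (2 ^ (k + 1) - 1) := by
    have e : ((2 ^ (k + 1) - 1 : ℕ) : ZMod (2 ^ (k + 2))) = -1 + H := by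
      rw [Nat.cast_sub Nat.one_le_two_pow, hH]; push_cast; ring
    rw [pow_eq_zp hao, e]
  have hk_of : r ≠ -1 → (r = 1 + H ∨ r = -1 + H) → 1 ≤ k := by
    intro hneg hor
    by_contra hk0
    have hk0' : k = 0 := by omega
    subst hk0'
    have hH2 : H = 2 := by rw [hH]; norm_num
    have h4 : (4 : ZMod (2 ^ (0 + 2))) = 0 := by
      have := ZMod.natCast_self (2 ^ (0 + 2))
      norm_num at this ⊢
      exact this
    rcases hor with h | h
    · apply hneg; rw [h, hH2]; linear_combination h4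
    · apply hr1; rw [h, hH2]; ring
  by_cases hneg : r = -1
  · -- dihedral / quaternion
    have h2s : 2 * s = 0 := by
      have := hrs; rw [hneg] at this
      linear_combination (-1 : ZMod (2 ^ (k + 2))) * this
    obtain ⟨hb1, hb2, hb3⟩ := hbi 0
    have hb2' : (zp a (0 : ZMod (2 ^ (k + 2))) * b0) ^ 2 = zp a s := by
      rw [hb2]; congr 1; ring
    rw [hneg, hzneg] at hb3
    have hs_cases : s = 0 ∨ s = H := eq_zero_or_half_of_two_mul k s h2s
    rcases hs_cases with hs0 | hsH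
    · refine ⟨a, zp a (0 : ZMod (2 ^ (k + 2))) * b0, hao, hb1, Or.inl ⟨?_, hb3⟩⟩
      rw [hb2', hs0, zp_zero]
    · refine ⟨a, zp a (0 : ZMod (2 ^ (k + 2))) * b0, hao, hb1, Or.inr (Or.inl ⟨?_, hb3⟩)⟩
      rw [hb2', hsH]; exact hzH
  · have hcases : r = 1 ∨ r = -1 ∨ r = 1 + H ∨ r = -1 + H := sq_eq_one_cases k r hrr
    rcases hcases with h | h | h | h
    · exact absurd h hr1
    · exact absurd h hneg
    · -- modular
      have hk : 1 ≤ k := hk_of hneg (Or.inl h)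
      have hQQ : 2 * Q * Q = 0 := two_mul_q_sq k hk
      have hsH : s * H = 0 := by
        have := hrs; rw [h] at this
        linear_combination this
      obtain ⟨t, ht⟩ := exists_two_mul_of_mul_half k s hsH
      obtain ⟨hb1, hb2, hb3⟩ := hbi (t * (Q - 1))
      refine ⟨a, zp a (t * (Q - 1)) * b0, hao, hb1, Or.inr (Or.inr (Or.inl ⟨by omega, ?_, ?_⟩))⟩
      · rw [hb2]
        have : t * (Q - 1) + r * (t * (Q - 1)) + s = 0 := by
          rw [h, ht, hHQ]
          linear_combination t * hQQ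
        rw [this, zp_zero]
      · rw [hb3, h]; exact hz1H
    · -- semidihedral
      have hk : 1 ≤ k := hk_of hneg (Or.inr h)
      have hQQ : 2 * Q * Q = 0 := two_mul_q_sq k hk
      have h2s : 2 * s = 0 := by
        have := hrs; rw [h, hHQ] at this
        linear_combination s * hQQ - (Q + 1) * this
      have hs_cases : s = 0 ∨ s = H := eq_zero_or_half_of_two_mul k s h2s
      rcases hs_cases with hs0 | hsH
      · obtain ⟨hb1, hb2, hb3⟩ := hbi 0
        refine ⟨a, zp a (0 : ZMod (2 ^ (k + 2))) * b0, hao, hb1,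
          Or.inr (Or.inr (Or.inr ⟨by omega, ?_, ?_⟩))⟩
        · rw [hb2]
          have : (0 : ZMod (2 ^ (k + 2))) + r * 0 + s = 0 := by rw [hs0]; ring
          rw [this, zp_zero]
        · rw [hb3, h]; exact hzH1
      · obtain ⟨hb1, hb2, hb3⟩ := hbi 1
        refine ⟨a, zp a (1 : ZMod (2 ^ (k + 2))) * b0, hao, hb1,
          Or.inr (Or.inr (Or.inr ⟨by omega, ?_, ?_⟩))⟩
        · rw [hb2]
          have : (1 : ZMod (2 ^ (k + 2))) + r * 1 + s = 0 := by
            rw [h, hsH]; linear_combination h2H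
          rw [this, zp_zero]
        · rw [hb3, h]; exact hzH1

end Cfsg.Agent.S0646
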