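import Cfsg.Statements.S4370
import Mathlib
import Cfsg.Agent.Helper73.PGroupCyclic
import Cfsg.Agent.Lib.Nilpotent
import Cfsg.Agent.Helper65.Nilpotent

set_option autoImplicit false
open Cfsg

namespace Cfsg.Agent.S4370

open Subgroup

/-- a non-commutative group has a non-central element. -/
theorem exists_not_mem_center {G : Type*} [Group G] (hna : ¬ IsMulCommutative G) :
    ∃ x : G, x ∉ center G := by
  by_contra h
  push Not at h
  exact hna ⟨⟨fun a b => (mem_center_iff.1 (h b) a)⟩⟩

/-- in a finite cyclic group, two elements of the same order generate the same subgroup. -/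
theorem mem_zpowers_of_isCyclic {C : Type*} [Group C] [Finite C] [IsCyclic C] {a b : C} {n : ℕ}
    (hn : 0 < n) (ha : orderOf a = n) (hb : orderOf b = n) : b ∈ zpowers a := by
  classical
  have := Fintype.ofFinite C
  have hle := IsCyclic.card_pow_eq_one_le (α := C) hn
  let T : Finset C := (Finset.range n).image (fun k => a ^ k)
  have hTcard : T.card = n := by
    rw [Finset.card_image_of_injOn, Finset.card_range]
    intro k hk l hl hkl
    apply pow_injOn_Iio_orderOf (x := a)
    · rw [ha]; simpa using hk
    · rw [ha]; simpa using hl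
    · exact hkl
  have hTS : T ⊆ Finset.univ.filter (fun c : C => c ^ n = 1) := by
    intro c hc
    obtain ⟨k, -, rfl⟩ := Finset.mem_image.1 hc
    rw [Finset.mem_filter]
    refine ⟨Finset.mem_univ _, ?_⟩
    rw [← pow_mul, mul_comm, pow_mul, ← ha, pow_orderOf_eq_one, one_pow]
  have hEq := Finset.eq_of_subset_of_card_le hTS (by rw [hTcard]; exact hle)
  have hbS : b ∈ Finset.univ.filter (fun c : C => c ^ n = 1) := by
    rw [Finset.mem_filter]
    exact ⟨Finset.mem_univ _, by rw [← hb, pow_orderOf_eq_one]⟩
  rw [← hEq] at hbS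
  obtain ⟨k, -, rfl⟩ := Finset.mem_image.1 hbS
  exact pow_mem (mem_zpowers a) k

/-- nilpotent, non-abelian, cyclic non-central centralizers: the subgroup of order `p` is unique. -/
theorem uniqueOrderP_of_cyclic_centralizers {G : Type*} [Group G] [Finite G] [Group.IsNilpotent G]
    (hna : ¬ IsMulCommutative G)
    (H : ∀ x : G, x ∉ center G → IsCyclic (centralizer ({x} : Set G))) (p : ℕ) [hp : Fact p.Prime] :
    Cfsg.Agent.Helper73.UniqueOrderP p G := by
  intro y z hy hz
  obtain ⟨x0, hx0⟩ := exists_not_mem_center hna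
  have hnc : NormalizerCondition G := Group.normalizerCondition_of_isNilpotent
  have hyp : IsPGroup p (zpowers y) := by
    apply IsPGroup.of_card (n := 1); rw [Nat.card_zpowers, hy, pow_one]
  obtain ⟨P, hyP⟩ := hyp.exists_le_sylow
  have hPn : (P : Subgroup G).Normal := Sylow.normal_of_normalizerCondition hnc P
  have hy1 : y ≠ 1 := by
    rintro rfl
    rw [orderOf_one] at hy
    exact hp.out.one_lt.ne hy
  have hPne : (P : Subgroup G) ≠ ⊥ := by
    intro h
    have : y ∈ (P : Subgroup G) := hyP (mem_zpowers y)
    rw [h, mem_bot] at this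
    exact hy1 this
  have hne := Cfsg.Agent.Lib.normal_inf_center_ne_bot (P : Subgroup G) hPne
  obtain ⟨⟨w, hw⟩, hw1⟩ := (Subgroup.ne_bot_iff_exists_ne_one).1 hne
  have hw1' : w ≠ 1 := fun h => hw1 (Subtype.ext h)
  obtain ⟨j, hj⟩ := (IsPGroup.iff_orderOf.1 P.isPGroup') ⟨w, hw.1⟩
  rw [Subgroup.orderOf_mk] at hj
  have hj1 : 1 ≤ j := by
    by_contra h0
    have : j = 0 := by omega
    rw [this, pow_zero, orderOf_eq_one_iff] at hj
    exact hw1' hj
  have hw0 := Cfsg.Agent.Helper73.orderOf_pow_pred hj hj1
  have hw0c : w ^ p ^ (j - 1) ∈ center G := pow_mem hw.2 _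
  set w0 := w ^ p ^ (j - 1) with hw0def
  -- every element of order p lies in ⟨w0⟩
  have hclaim : ∀ v : G, orderOf v = p → v ∈ zpowers w0 := by
    intro v hv
    obtain ⟨x, hx, hvx⟩ : ∃ x, x ∉ center G ∧ v ∈ centralizer ({x} : Set G) := by
      by_cases hvc : v ∈ center G
      · refine ⟨x0, hx0, ?_⟩
        rw [mem_centralizer_singleton_iff]
        exact (mem_center_iff.1 hvc x0).symm
      · exact ⟨v, hvc, by rw [mem_centralizer_singleton_iff]⟩
    have := H x hx
    have hw0x : w0 ∈ centralizer ({x} : Set G) := by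
      rw [mem_centralizer_singleton_iff]
      exact (mem_center_iff.1 hw0c x).symm
    have h1 := mem_zpowers_of_isCyclic (C := centralizer ({x} : Set G)) hp.out.pos
      (a := ⟨w0, hw0x⟩) (b := ⟨v, hvx⟩) (by rw [Subgroup.orderOf_mk]; exact hw0)
      (by rw [Subgroup.orderOf_mk]; exact hv)
    obtain ⟨k, hk⟩ := mem_zpowers_iff.1 h1
    exact mem_zpowers_iff.2 ⟨k, by simpa using congrArg Subtype.val hk⟩
  have hyw : zpowers y = zpowers w0 := by
    apply Subgroup.eq_of_le_of_card_ge (zpowers_le.2 (hclaim y hy))
    rw [Nat.card_zpowers, Nat.card_zpowers, hy, hw0]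
  rw [hyw]
  exact hclaim z hz

/-- a finite nilpotent non-commutative group has a non-commutative Sylow subgroup. -/
theorem exists_noncomm_sylow {G : Type*} [Group G] [Finite G] [Group.IsNilpotent G]
    (hna : ¬ IsMulCommutative G) :
    ∃ (p : ℕ) (_ : Fact p.Prime) (P : Sylow p G), ¬ (∀ a b : P, a * b = b * a) := by
  have hnc : NormalizerCondition G := Group.normalizerCondition_of_isNilpotent
  by_contra hall
  push Not at hall
  apply hna
  let e := Sylow.directProductOfNormal (G := G)
    (fun {p} _ P => Sylow.normal_of_normalizerCondition hnc P)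
  refine ⟨⟨fun x y => ?_⟩⟩
  have h : e.symm x * e.symm y = e.symm y * e.symm x := by
    funext p
    funext P
    have : Fact (p : ℕ).Prime := ⟨Nat.prime_of_mem_primeFactors p.2⟩
    exact hall p this P _ _
  calc x * y = e (e.symm x * e.symm y) := by simp
    _ = e (e.symm y * e.symm x) := by rw [h]
    _ = y * x := by simp

/-- forward direction. -/
theorem forward {G : Type*} [Group G] [Finite G] (hG : Group.IsNilpotent G)
    (hna : ¬ IsMulCommutative G)
    (H : ∀ x : G, x ∉ center G → IsCyclic (centralizer ({x} : Set G))) :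
    ∃ (k m : ℕ), 1 ≤ k ∧ Odd m ∧
      Nonempty (G ≃* QuaternionGroup (2 ^ k) × Multiplicative (ZMod m)) := by
  have hnc : NormalizerCondition G := Group.normalizerCondition_of_isNilpotent
  obtain ⟨p, hp, P, hPnc⟩ := exists_noncomm_sylow hna
  have hu := uniqueOrderP_of_cyclic_centralizers hna H p
  rcases Cfsg.Agent.Helper73.cyclic_or_quaternion P.isPGroup' (hu.subgroup P) with
    hcyc | ⟨hp2, k, hk, ⟨eQ⟩⟩
  · exfalso
    apply hPnc
    intro a b
    exact (IsCyclic.isMulCommutative (α := P)).is_comm.comm a b
  subst hp2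
  have hPn : (P : Subgroup G).Normal := Sylow.normal_of_normalizerCondition hnc P
  obtain ⟨C, hC⟩ := Subgroup.exists_right_complement'_of_coprime P.card_coprime_index
  have hcardC : Nat.card C = (P : Subgroup G).index := (hC.symm.index_eq_card).symm
  have hcop : (Nat.card (P : Subgroup G)).Coprime (Nat.card C) := by
    rw [hcardC]; exact P.card_coprime_index
  have hcomm : ∀ (q : ↥(P : Subgroup G)) (c : ↥C), Commute ((P : Subgroup G).subtype q) (C.subtype c) := by
    intro q c
    apply Cfsg.Agent.Helper65.commute_of_coprime_orderOf G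
    exact Nat.Coprime.of_dvd ((P : Subgroup G).orderOf_dvd_natCard q.2) (C.orderOf_dvd_natCard c.2) hcop
  let f : ↥(P : Subgroup G) × ↥C →* G :=
    MonoidHom.noncommCoprod (P : Subgroup G).subtype C.subtype hcomm
  have hbij : Function.Bijective f := hC
  let eG : G ≃* ↥(P : Subgroup G) × ↥C := (MulEquiv.ofBijective f hbij).symm
  -- a non-central element of `P`
  obtain ⟨a, ha⟩ : ∃ a : P, (a : G) ∉ center G := by
    by_contra h
    push Not at h
    apply hPnc
    intro a b
    apply Subtype.ext
    exact mem_center_iff.1 (h b) a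
  have hCcyc : IsCyclic C := by
    have := H a ha
    apply Subgroup.isCyclic_of_le (H' := centralizer ({(a : G)} : Set G))
    intro c hc
    rw [mem_centralizer_singleton_iff]
    exact ((hcomm a ⟨c, hc⟩).eq).symm
  let eC := zmodCyclicMulEquiv hCcyc
  refine ⟨k, Nat.card C, hk, ?_, ⟨eG.trans (MulEquiv.prodCongr eQ eC.symm)⟩⟩
  rw [hcardC, ← Nat.not_even_iff_odd, even_iff_two_dvd]
  exact P.not_dvd_index

section Backward

open QuaternionGroup

theorem two_mul_eq_zero_cases {n : ℕ} [NeZero n] (j : ZMod (2 * n)) (h : 2 * j = 0) :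
    j = 0 ∨ j = (n : ZMod (2 * n)) := by
  have hn : 0 < n := NeZero.pos n
  have : NeZero (2 * n) := ⟨by omega⟩
  have hj : ((j.val : ℕ) : ZMod (2 * n)) = j := ZMod.natCast_zmod_val j
  have h1 : ((2 * j.val : ℕ) : ZMod (2 * n)) = 0 := by
    push_cast
    rw [hj]; exact h
  rw [ZMod.natCast_eq_zero_iff] at h1
  have h2 : n ∣ j.val := (Nat.mul_dvd_mul_iff_left (by norm_num)).1 h1
  have h3 : j.val < 2 * n := ZMod.val_lt j
  obtain ⟨t, ht⟩ := h2
  have ht' : t = 0 ∨ t = 1 := by
    have : n * t < n * 2 := by rw [← ht]; omega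
    have := Nat.lt_of_mul_lt_mul_left this
    omega
  rcases ht' with rfl | rfl
  · left
    rw [← hj, ht]; simp
  · right
    rw [← hj, ht]; simp

theorem a_mem_center {n : ℕ} (i : ZMod (2 * n)) (h : 2 * i = 0) :
    (a i : QuaternionGroup n) ∈ center (QuaternionGroup n) := by
  rw [mem_center_iff]
  have hi : i = -i := by linear_combination h
  rintro (j | j)
  · rw [a_mul_a, a_mul_a, add_comm]
  · rw [xa_mul_a, a_mul_xa, sub_eq_add_neg, ← hi]

theorem quaternion_centralizer_isCyclic {n : ℕ} [NeZero n] (q : QuaternionGroup n)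
    (hq : q ∉ center (QuaternionGroup n)) :
    IsCyclic (centralizer ({q} : Set (QuaternionGroup n))) := by
  have hn : 0 < n := NeZero.pos n
  have : NeZero (2 * n) := ⟨by omega⟩
  rcases q with i | i
  · have hi : 2 * i ≠ 0 := fun h => hq (a_mem_center i h)
    apply Subgroup.isCyclic_of_le (H' := zpowers (a 1 : QuaternionGroup n))
    rintro (j | j) hg
    · rw [← ZMod.natCast_zmod_val j, ← a_one_pow]
      exact pow_mem (mem_zpowers _) _
    · exfalso
      rw [mem_centralizer_singleton_iff, xa_mul_a, a_mul_xa] at hg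
      apply hi
      have h1 : j + i = j - i := xa.inj hg
      linear_combination h1
  · apply Subgroup.isCyclic_of_le (H' := zpowers (xa i : QuaternionGroup n))
    rintro (j | j) hg
    · rw [mem_centralizer_singleton_iff, a_mul_xa, xa_mul_a] at hg
      have h1 : i - j = i + j := xa.inj hg
      have h2 : 2 * j = 0 := by linear_combination (-1 : ZMod (2 * n)) * h1
      rcases two_mul_eq_zero_cases j h2 with rfl | rfl
      · rw [a_zero]; exact one_mem _
      · rw [← xa_sq i]; exact pow_mem (mem_zpowers _) _
    · rw [mem_centralizer_singleton_iff, xa_mul_xa, xa_mul_xa] at hg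
      have h1 : (n : ZMod (2 * n)) + i - j = n + j - i := a.inj hg
      have h2 : 2 * (j - i) = 0 := by linear_combination (-1 : ZMod (2 * n)) * h1
      rcases two_mul_eq_zero_cases (j - i) h2 with h | h
      · have : j = i := sub_eq_zero.1 h
        rw [this]; exact mem_zpowers _
      · have : j = i + n := by rw [← h]; ring
        rw [this, ← xa_mul_a, ← xa_sq i]
        exact mul_mem (mem_zpowers _) (pow_mem (mem_zpowers _) _)

theorem prod_centralizer_isCyclic {n m : ℕ} [NeZero n] (hn : ∃ k, 4 * n = 2 ^ k) (hm : Odd m)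
    (x : QuaternionGroup n × Multiplicative (ZMod m))
    (hx : x ∉ center (QuaternionGroup n × Multiplicative (ZMod m))) :
    IsCyclic (centralizer ({x} : Set (QuaternionGroup n × Multiplicative (ZMod m)))) := by
  obtain ⟨q, c⟩ := x
  have hq : q ∉ center (QuaternionGroup n) := by
    intro hq
    apply hx
    rw [mem_center_iff]
    rintro ⟨g1, g2⟩
    ext
    · exact mem_center_iff.1 hq g1
    · show g2 * c = c * g2
      exact mul_comm g2 c
  have hcyc := quaternion_centralizer_isCyclic q hq
  let ψ : centralizer ({(q, c)} : Set (QuaternionGroup n × Multiplicative (ZMod m))) →*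
      centralizer ({q} : Set (QuaternionGroup n)) × Multiplicative (ZMod m) :=
    { toFun := fun g => (⟨g.1.1, by
          have := mem_centralizer_singleton_iff.1 g.2
          rw [mem_centralizer_singleton_iff]
          exact congrArg Prod.fst this⟩, g.1.2)
      map_one' := rfl
      map_mul' := fun g h => rfl }
  have hψ : Function.Injective ψ := by
    intro g h hgh
    apply Subtype.ext
    have h1 : (g.1.1 : QuaternionGroup n) = h.1.1 :=
      congrArg (fun t => ((t.1 : centralizer ({q} : Set (QuaternionGroup n))) : QuaternionGroup n)) hgh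
    have h2 : g.1.2 = h.1.2 :=
      congrArg (fun t : centralizer ({q} : Set (QuaternionGroup n)) × Multiplicative (ZMod m) => t.2) hgh
    exact Prod.ext h1 h2
  have : IsCyclic (centralizer ({q} : Set (QuaternionGroup n)) × Multiplicative (ZMod m)) := by
    rw [Group.isCyclic_prod_iff]
    refine ⟨hcyc, inferInstance, ?_⟩
    have h1 : Nat.card (centralizer ({q} : Set (QuaternionGroup n))) ∣ 4 * n := by
      have := Subgroup.card_subgroup_dvd_card (centralizer ({q} : Set (QuaternionGroup n)))
      rwa [Nat.card_eq_fintype_card (α := QuaternionGroup n), QuaternionGroup.card] at this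
    have h2 : Nat.card (Multiplicative (ZMod m)) = m := by
      rw [Nat.card_congr Multiplicative.toAdd, Nat.card_zmod]
    rw [h2]
    obtain ⟨k, hk⟩ := hn
    rw [hk] at h1
    exact Nat.Coprime.coprime_dvd_left h1 (Nat.Coprime.pow_left k (Nat.coprime_two_left.2 hm))
  exact isCyclic_of_injective ψ hψ

theorem transport {G : Type*} [Group G] {Q : Type*} [Group Q] (e : G ≃* Q) (x : G)
    (h : ∀ y : Q, y ∉ center Q → IsCyclic (centralizer ({y} : Set Q))) (hx : x ∉ center G) :
    IsCyclic (centralizer ({x} : Set G)) := by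
  have hex : e x ∉ center Q := by
    intro hc
    apply hx
    rw [mem_center_iff]
    intro g
    apply e.injective
    rw [map_mul, map_mul]
    exact mem_center_iff.1 hc (e g)
  have := h (e x) hex
  let χ : centralizer ({x} : Set G) →* centralizer ({e x} : Set Q) :=
    { toFun := fun g => ⟨e g.1, by
        rw [mem_centralizer_singleton_iff, ← map_mul, ← map_mul, mem_centralizer_singleton_iff.1 g.2]⟩
      map_one' := Subtype.ext (map_one e)
      map_mul' := fun g h => Subtype.ext (map_mul e _ _) }
  exact isCyclic_of_injective χ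
    (fun g h hgh => Subtype.ext (e.injective (congrArg Subtype.val hgh)))

end Backward

/-- Let G be a finite non-abelian nilpotent group. Then the centralizer of every non-central element of G is cyclic if and only if G is isomorphic to the direct product of a generalized quaternion group and a cyclic group of odd order. -/
theorem result {G : Type*} [Group G] [Finite G] (hG : Group.IsNilpotent G)
    (hna : ¬ IsMulCommutative G) :
    (∀ x : G, x ∉ Subgroup.center G → IsCyclic (Subgroup.centralizer ({x} : Set G))) ↔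
      ∃ (k m : ℕ), 1 ≤ k ∧ Odd m ∧ Nonempty (G ≃* QuaternionGroup (2 ^ k) × Multiplicative (ZMod m)) := by
  constructor
  · exact forward hG hna
  · rintro ⟨k, m, -, hm, ⟨e⟩⟩ x hx
    exact transport e x (fun y hy => prod_centralizer_isCyclic ⟨k + 2, by ring⟩ hm y hy) hx

end Cfsg.Agent.S4370
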