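-- Statement S1447: coprime action on a metacyclic p-group, p odd (helper86).
import Cfsg.Statements.S1447
import Cfsg.Agent.Helper86.MetaCoprime
import Cfsg.Agent.Helper22.PComponent
import Cfsg.Agent.S0026
import Cfsg.Agent.S0027
import Cfsg.Agent.S0055
import Cfsg.Agent.S0126

set_option autoImplicit false
open Cfsg

namespace Cfsg.Agent.S1447

open scoped commutatorElement
open Cfsg.Agent.Helper86

/-- In a metacyclic `p`-group, `p` odd, a subgroup meeting a nontrivial subgroup trivially is cyclic. -/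
theorem isCyclic_of_inf_eq_bot {R : Type*} [Group R] [Finite R] {p : ℕ} [hp : Fact p.Prime] (hp2 : p ≠ 2)
    (hR : IsPGroup p R) (hm : Cfsg.IsMetacyclic R) (X Y : Subgroup R) (hXY : X ⊓ Y = ⊥) (hY : Y ≠ ⊥) :
    IsCyclic X := by
  by_contra hnc
  obtain ⟨N, hN, hNc, hQc⟩ := id hm
  haveI := hN
  obtain ⟨W, hW, hWcard⟩ := exists_omega_subgroup hp2 hR N hNc hQc
  obtain ⟨E, -, ⟨-, hEexp⟩, hEcard⟩ := Cfsg.Agent.S0126.result (R := X) hp2 (hR.to_subgroup X) hnc
  have hE'card : Nat.card (E.map X.subtype) = p ^ 2 := by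
    rw [Subgroup.card_map_of_injective X.subtype_injective, hEcard]
  have hE'W : E.map X.subtype ≤ W := by
    rintro _ ⟨e, he, rfl⟩
    rw [hW]
    have h1 := hEexp e he
    simpa using congrArg Subtype.val h1
  have hEW : E.map X.subtype = W := Subgroup.eq_of_le_of_card_ge hE'W (by rw [hE'card]; exact hWcard)
  have hWX : W ≤ X := by
    rw [← hEW]
    exact Subgroup.map_subtype_le E
  -- an element of order `p` in `Y`
  have hYp : IsPGroup p Y := hR.to_subgroup Y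
  obtain ⟨k, hk⟩ := IsPGroup.iff_card.mp hYp
  have hk0 : k ≠ 0 := by
    rintro rfl
    rw [pow_zero, Subgroup.card_eq_one] at hk
    exact hY hk
  have hdvd : p ∣ Nat.card Y := by
    rw [hk]
    exact dvd_pow_self p hk0
  obtain ⟨y, hy⟩ := exists_prime_orderOf_dvd_card' p hdvd
  have hyW : (y : R) ∈ W := by
    rw [hW, ← hy, ← Subgroup.coe_pow, pow_orderOf_eq_one]
    rfl
  have hy1 : (y : R) ∈ X ⊓ Y := ⟨hWX hyW, y.2⟩
  rw [hXY, Subgroup.mem_bot] at hy1
  have hy2 : y = 1 := Subtype.ext hy1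
  rw [hy2, orderOf_one] at hy
  exact hp.out.ne_one hy.symm

theorem result {G : Type*} [Group G] [Finite G] (p : ℕ) [Fact p.Prime] (hp : p ≠ 2) (R A : Subgroup G) (hR : IsPGroup p R) (hRm : Cfsg.IsMetacyclic R)
    (hA : (A ≤ Subgroup.normalizer (R : Set G))) (hcop : (Nat.card A).Coprime p) :
    IsMulCommutative ↥⁅R, A⁆ ∧ ⁅R, A⁆ ⊔ (R ⊓ Subgroup.centralizer (A : Set G)) = R ∧ ⁅R, A⁆ ⊓ (R ⊓ Subgroup.centralizer (A : Set G)) = ⊥ ∧
      (¬ IsMulCommutative R → ¬ A ≤ Subgroup.centralizer (R : Set G) →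
        ⁅R, A⁆ ≠ ⊥ ∧ IsCyclic ↥⁅R, A⁆ ∧ (R ⊓ Subgroup.centralizer (A : Set G)) ≠ ⊥ ∧ IsCyclic ↥(R ⊓ Subgroup.centralizer (A : Set G)) ∧ ⁅R, R⁆ ≤ ⁅R, A⁆) := by
  classical
  have hpp : p.Prime := Fact.out
  -- basic facts
  have hKR : ⁅R, A⁆ ≤ R := by
    rw [Subgroup.commutator_le]
    intro r hr a ha
    have h1 : a * r⁻¹ * a⁻¹ ∈ R := by
      have := (Subgroup.mem_normalizer_iff.mp (hA ha)) r⁻¹
      exact this.mp (R.inv_mem hr)
    have e : ⁅r, a⁆ = r * (a * r⁻¹ * a⁻¹) := by rw [commutatorElement_def]; group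
    rw [e]
    exact R.mul_mem hr h1
  have hAK : A ≤ Subgroup.normalizer ((⁅R, A⁆ : Subgroup G) : Set G) := by
    have := Cfsg.Agent.Helper22.le_normalizer_commutator A R
    rwa [Subgroup.commutator_comm] at this
  have hRK : R ≤ Subgroup.normalizer ((⁅R, A⁆ : Subgroup G) : Set G) :=
    Cfsg.Agent.Helper22.le_normalizer_commutator R A
  obtain ⟨m, hm⟩ := IsPGroup.iff_card.mp hR
  have hcopR : (Nat.card A).Coprime (Nat.card R) := by
    rw [hm]
    exact Nat.Coprime.pow_right m hcop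
  have hcopK : (Nat.card A).Coprime (Nat.card (⁅R, A⁆ : Subgroup G)) :=
    Nat.Coprime.coprime_dvd_right (Subgroup.card_dvd_of_le hKR) hcopR
  haveI : Group.IsNilpotent R := hR.isNilpotent
  have hsolvR : Group.IsSolvable R := IsNilpotent.to_isSolvable
  have hKp : IsPGroup p (⁅R, A⁆ : Subgroup G) := hR.to_le hKR
  haveI : Group.IsNilpotent (⁅R, A⁆ : Subgroup G) := hKp.isNilpotent
  have hsolvK : Group.IsSolvable (⁅R, A⁆ : Subgroup G) := IsNilpotent.to_isSolvable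
  have h26 := Cfsg.Agent.S0026.result A R hA hcopR (Or.inr hsolvR)
  have h27 := Cfsg.Agent.S0027.result A R hA hcopR (Or.inr hsolvR)
  -- `[R, A]` is metacyclic
  have hKm : Cfsg.IsMetacyclic (⁅R, A⁆ : Subgroup G) := by
    have h1 := Cfsg.Agent.Helper65.isMetacyclic_subgroup hRm ((⁅R, A⁆ : Subgroup G).subgroupOf R)
    exact isMetacyclic_of_surjective (Subgroup.subgroupOfEquivOfLe hKR).toMonoidHom
      (Subgroup.subgroupOfEquivOfLe hKR).surjective h1
  -- the action of `A` on `[R, A]`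
  let f : A →* MulAut (⁅R, A⁆ : Subgroup G) :=
    (Subgroup.normalizerMonoidHom (⁅R, A⁆ : Subgroup G)).comp (Subgroup.inclusion hAK)
  have hf : ∀ (a : A) (k : (⁅R, A⁆ : Subgroup G)), ((f a k : (⁅R, A⁆ : Subgroup G)) : G) = a * k * (a : G)⁻¹ :=
    fun a k => rfl
  have hgen : Subgroup.closure {x : (⁅R, A⁆ : Subgroup G) | ∃ (a : A) (r : (⁅R, A⁆ : Subgroup G)),
      x = f a r * r⁻¹} = ⊤ := by
    rw [eq_top_iff]
    intro x _
    have h1 : ⁅⁅R, A⁆, A⁆ ≤ (Subgroup.closure {x : (⁅R, A⁆ : Subgroup G) |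
        ∃ (a : A) (r : (⁅R, A⁆ : Subgroup G)), x = f a r * r⁻¹}).map (⁅R, A⁆ : Subgroup G).subtype := by
      rw [Subgroup.commutator_le]
      intro k hk a ha
      refine ⟨(f ⟨a, ha⟩ ⟨k, hk⟩ * (⟨k, hk⟩ : (⁅R, A⁆ : Subgroup G))⁻¹)⁻¹, ?_, ?_⟩
      · exact Subgroup.inv_mem _ (Subgroup.subset_closure ⟨⟨a, ha⟩, ⟨k, hk⟩, rfl⟩)
      · simp only [Subgroup.subtype_apply, Subgroup.coe_inv, Subgroup.coe_mul, hf]
        rw [commutatorElement_def]
        group
    have h2 : (x : G) ∈ ⁅⁅R, A⁆, A⁆ := by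
      rw [h27]
      exact x.2
    obtain ⟨y, hy, hyx⟩ := h1 h2
    have : y = x := Subtype.ext hyx
    rw [← this]
    exact hy
  have hKcomm := commutative_of_generated hp hKp hKm f hcop hgen
  haveI hKc : IsMulCommutative (⁅R, A⁆ : Subgroup G) := ⟨⟨fun a b => hKcomm a b⟩⟩
  have h55 := (Cfsg.Agent.S0055.result A (⁅R, A⁆ : Subgroup G) hAK hcopK).1
  rw [h27] at h55
  have h3 : ⁅R, A⁆ ⊓ (R ⊓ Subgroup.centralizer (A : Set G)) = ⊥ := by
    rw [← inf_assoc, inf_of_le_left hKR]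
    rw [inf_comm, ← inf_assoc, inf_idem] at h55
    exact h55
  refine ⟨hKc, h26, h3, ?_⟩
  intro hnc hnA
  have hK1 : ⁅R, A⁆ ≠ ⊥ := by
    intro h
    rw [Subgroup.commutator_comm, Subgroup.commutator_eq_bot_iff_le_centralizer] at h
    exact hnA h
  have hC1 : R ⊓ Subgroup.centralizer (A : Set G) ≠ ⊥ := by
    intro h
    rw [h, sup_bot_eq] at h26
    apply hnc
    rw [← h26]
    exact hKc
  have hCR : R ⊓ Subgroup.centralizer (A : Set G) ≤ R := inf_le_left
  -- transfer to the type `R`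
  have hinf : (⁅R, A⁆ : Subgroup G).subgroupOf R ⊓ (R ⊓ Subgroup.centralizer (A : Set G)).subgroupOf R = ⊥ := by
    have : ((⁅R, A⁆ : Subgroup G) ⊓ (R ⊓ Subgroup.centralizer (A : Set G))).subgroupOf R = ⊥ := by
      rw [h3, Subgroup.bot_subgroupOf]
    rw [← this]
    rfl
  have hne_of : ∀ X : Subgroup G, X ≤ R → X ≠ ⊥ → X.subgroupOf R ≠ ⊥ := by
    intro X hX hX1 h
    rw [Subgroup.subgroupOf_eq_bot, disjoint_iff, inf_of_le_left hX] at h
    exact hX1 h
  have hKcyc : IsCyclic (⁅R, A⁆ : Subgroup G) := by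
    have h1 := isCyclic_of_inf_eq_bot hp hR hRm _ _ hinf (hne_of _ hCR hC1)
    exact (Subgroup.subgroupOfEquivOfLe hKR).isCyclic.mp h1
  have hCcyc : IsCyclic (R ⊓ Subgroup.centralizer (A : Set G) : Subgroup G) := by
    rw [inf_comm] at hinf
    have h1 := isCyclic_of_inf_eq_bot hp hR hRm _ _ hinf (hne_of _ hKR hK1)
    exact (Subgroup.subgroupOfEquivOfLe hCR).isCyclic.mp h1
  refine ⟨hK1, hKcyc, hC1, hCcyc, ?_⟩
  -- `R' ≤ [R, A]`
  haveI hnorm : ((⁅R, A⁆ : Subgroup G).subgroupOf R).Normal :=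
    (Subgroup.normal_subgroupOf_iff_le_normalizer hKR).mpr hRK
  have hsup : (⁅R, A⁆ : Subgroup G).subgroupOf R ⊔ (R ⊓ Subgroup.centralizer (A : Set G)).subgroupOf R = ⊤ := by
    rw [← Subgroup.subgroupOf_sup hKR hCR, h26, Subgroup.subgroupOf_self]
  have hCcomm : IsMulCommutative ((R ⊓ Subgroup.centralizer (A : Set G)).subgroupOf R) := by
    haveI := hCcyc
    have h1 : IsMulCommutative (R ⊓ Subgroup.centralizer (A : Set G) : Subgroup G) := IsCyclic.isMulCommutative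
    refine ⟨⟨fun x y => ?_⟩⟩
    have h2 := mul_comm' (⟨((x : R) : G), x.2⟩ : (R ⊓ Subgroup.centralizer (A : Set G) : Subgroup G))
      ⟨((y : R) : G), y.2⟩
    have h4 := congrArg Subtype.val h2
    apply Subtype.ext
    apply Subtype.ext
    exact h4
  have hle := hnorm.commutator_le_of_self_sup_commutative_eq_top hsup hCcomm
  rw [← Subgroup.map_subtype_commutator R]
  calc (commutator R).map R.subtype ≤ ((⁅R, A⁆ : Subgroup G).subgroupOf R).map R.subtype :=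
        Subgroup.map_mono hle
    _ = ⁅R, A⁆ := Subgroup.map_subgroupOf_eq_of_le hKR

end Cfsg.Agent.S1447
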