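-- Statement S1448 (helper62): BG 4.18(b) — rank two `p`-group `R = [R, A]` with `A` an odd `p'`-group.
import Cfsg.Statements.S1448
import Cfsg.Agent.Helper62.RankTwoBad
import Cfsg.Agent.S0128
import Cfsg.Agent.S3771
import Cfsg.Agent.S0639
import Cfsg.Agent.S0640
import Cfsg.Agent.S1447

set_option autoImplicit false
open Cfsg

namespace Cfsg.Agent.S1448

open scoped commutatorElement
open Cfsg.Agent.Helper62.RankTwoBad

/-- Let G be a finite group, p an odd prime, R a nontrivial p-subgroup with no elementary abelian subgroup of order p ^ 3, and A a subgroup of odd order coprime to p normalizing R with [R, A] = R. Then 3 < p, and either R is abelian or R is generated by two elementwise-commuting subgroups R₁, R₂ with R₁ non-abelian of order p ^ 3 and exponent p, R₂ cyclic, and the elements of R₂ of order dividing p generating exactly [R₁, R₁]. -/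
theorem result {G : Type*} [Group G] [Finite G] (p : ℕ) [Fact p.Prime] (hp : p ≠ 2) (R A : Subgroup G) (hR : IsPGroup p R) (hR1 : R ≠ ⊥) (hr : Cfsg.PRankLE p 2 R)
    (hA : (A ≤ Subgroup.normalizer (R : Set G))) (hcop : (Nat.card A).Coprime p) (hAodd : Odd (Nat.card A)) (hRA : ⁅R, A⁆ = R) :
    3 < p ∧ (IsMulCommutative R ∨ ∃ R₁ R₂ : Subgroup G, R₁ ⊔ R₂ = R ∧ (∀ a ∈ R₁, ∀ b ∈ R₂, a * b = b * a) ∧
        ¬ IsMulCommutative R₁ ∧ Nat.card R₁ = p ^ 3 ∧ Monoid.exponent R₁ = p ∧ IsCyclic R₂ ∧
        Subgroup.closure {x : G | x ∈ R₂ ∧ x ^ p = 1} = ⁅R₁, R₁⁆) := by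
  classical
  have hpp : p.Prime := Fact.out
  -- the action of `A` on `R`
  let φ : A →* MulAut R := (Subgroup.normalizerMonoidHom R).comp (Subgroup.inclusion hA)
  have hφ : ∀ (a : A) (r : R), ((φ a r : R) : G) = a * r * (a : G)⁻¹ := fun _ _ => rfl
  -- `3 < p`
  have hp3 : 3 < p := by
    by_contra hle
    push Not at hle
    have hp3 : p = 3 := by
      have h2 := hpp.two_le
      interval_cases p
      · exact absurd rfl hp
      · rfl
    apply hR1
    rw [← hRA, Subgroup.commutator_comm, Subgroup.commutator_eq_bot_iff_le_centralizer]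
    intro a ha
    have hφa : φ ⟨a, ha⟩ = 1 := by
      by_contra hne
      have hord : orderOf (φ ⟨a, ha⟩) ≠ 1 := fun h => hne (orderOf_eq_one_iff.mp h)
      obtain ⟨q, hq, hqd⟩ := Nat.exists_prime_and_dvd hord
      have hqA : q ∣ Nat.card A :=
        (hqd.trans (orderOf_map_dvd φ _)).trans (orderOf_dvd_natCard _)
      have hqp : q ≠ p := by
        rintro rfl
        have := Nat.Coprime.eq_one_of_dvd hcop.symm hqA
        exact hq.one_lt.ne' this
      have h640 := Cfsg.Agent.S0640.result hp hR hr q hq hqp (hqd.trans (orderOf_dvd_natCard _))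
      have hq2 : q = 2 := by
        have h1 := h640.2
        have h2 := hq.two_le
        omega
      rw [hq2] at hqA
      exact (Nat.not_even_iff_odd.mpr hAodd) (even_iff_two_dvd.mpr hqA)
    rw [Subgroup.mem_centralizer_iff]
    intro r hr'
    have h1 : ((φ ⟨a, ha⟩ ⟨r, hr'⟩ : R) : G) = r := by rw [hφa]; rfl
    rw [hφ] at h1
    calc r * a = (a * r * a⁻¹) * a := by rw [show ((⟨a, ha⟩ : A) : G) = a from rfl] at h1; rw [h1]
      _ = a * r := by group
  refine ⟨hp3, ?_⟩
  -- `T = Ω₁(R)` has exponent `p` and order at most `p³`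
  have hTexp : ∀ t ∈ om p R, t ^ p = 1 := by
    intro t ht
    exact Cfsg.Agent.S0128.result hp3 hR (fun E hE => hr E hE.1 hE.2) t ht
  have hrT : Cfsg.PRankLE p 2 ↥(om p R) := by
    intro B hB hBe
    have h1 := hr (B.map (om p R).subtype) (Subgroup.map_isMulCommutative B _) (by
      rintro _ ⟨b, hb, rfl⟩
      have := hBe b hb
      simpa using congrArg Subtype.val this)
    rwa [Subgroup.card_map_of_injective (Subgroup.subtype_injective _)] at h1
  have hTcard : Nat.card (om p R) ≤ p ^ 3 :=
    Cfsg.Agent.S3771.result (hR.to_subgroup _) hrT (fun x => Subtype.ext (by simpa using hTexp x x.2))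
  by_cases hsmall : Nat.card (om p R) ≤ p ^ 2
  · -- metacyclic case
    left
    have hom : Cfsg.omegaOne p (⊤ : Subgroup R) = om p R := by
      unfold Cfsg.omegaOne om
      congr 1
      ext x
      simp
    have hm : Cfsg.IsMetacyclic R := Cfsg.Agent.S0639.result hp3 hR (by rw [hom]; exact hsmall)
    have h1 := (Cfsg.Agent.S1447.result p hp R A hR hm hA hcop).1
    rw [hRA] at h1
    exact h1
  · right
    push Not at hsmall
    obtain ⟨k, hk⟩ := IsPGroup.iff_card.mp (hR.to_subgroup (om p R))
    have hk3 : k = 3 := by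
      rw [hk] at hsmall hTcard
      have h1 : 2 < k := (Nat.pow_lt_pow_iff_right hpp.one_lt).mp hsmall
      have h2 : k ≤ 3 := (Nat.pow_le_pow_iff_right hpp.one_lt).mp hTcard
      omega
    rw [hk3] at hk
    have hnonab : ∃ x ∈ om p R, ∃ y ∈ om p R, x * y ≠ y * x := by
      by_contra hcon
      push Not at hcon
      have hc : IsMulCommutative ↥(om p R) :=
        ⟨⟨fun a b => Subtype.ext (hcon a a.2 b b.2)⟩⟩
      have := hr (om p R) hc hTexp
      rw [hk] at this
      have : p ^ 2 < p ^ 3 := Nat.pow_lt_pow_right hpp.one_lt (by norm_num)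
      omega
    have hbase : Base p R := ⟨hR, hp, hTexp, hk, hnonab⟩
    by_cases hgood : om p R ⊔ cc p R = ⊤
    · -- the central product
      refine ⟨(om p R).map R.subtype, (cc p R).map R.subtype, ?_, ?_, ?_, ?_, ?_, ?_, ?_⟩
      · rw [← Subgroup.map_sup, hgood, ← MonoidHom.range_eq_map, Subgroup.range_subtype]
      · rintro _ ⟨t, ht, rfl⟩ _ ⟨c, hc, rfl⟩
        have := (mem_cc_iff.mp hc) t ht
        exact congrArg Subtype.val this
      · intro hc
        obtain ⟨x, hx, y, hy, hxy⟩ := hnonab
        apply hxy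
        have h1 := hc.is_comm.comm ⟨(x : G), ⟨x, hx, rfl⟩⟩ ⟨(y : G), ⟨y, hy, rfl⟩⟩
        apply Subtype.ext
        have h2 := congrArg Subtype.val h1
        simpa using h2
      · rw [Subgroup.card_map_of_injective (Subgroup.subtype_injective _), hk]
      · have hdvd : Monoid.exponent ↥((om p R).map R.subtype) ∣ p := by
          apply Monoid.exponent_dvd_of_forall_pow_eq_one
          rintro ⟨_, ⟨t, ht, rfl⟩⟩
          apply Subtype.ext
          have := hTexp t ht
          simpa using congrArg Subtype.val this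
        rcases (Nat.dvd_prime hpp).mp hdvd with h1 | h1
        · exfalso
          rw [Monoid.exp_eq_one_iff] at h1
          have h2 : Nat.card ↥((om p R).map R.subtype) = 1 := Nat.card_unique
          rw [Subgroup.card_map_of_injective (Subgroup.subtype_injective _), hk] at h2
          have : 1 < p ^ 3 := Nat.one_lt_pow (by norm_num) hpp.one_lt
          omega
        · exact h1
      · have hcyc := hbase.cc_cyclic
        exact ((cc p R).equivMapOfInjective R.subtype (Subgroup.subtype_injective _)).isCyclic.mp hcyc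
      · rw [← Subgroup.map_commutator, hbase.comm_om_eq_zz]
        apply le_antisymm
        · rw [Subgroup.closure_le]
          rintro x ⟨⟨c, hc, rfl⟩, hxp⟩
          refine ⟨c, ⟨mem_om_of_pow ?_, hc⟩, rfl⟩
          apply Subtype.ext
          simpa using hxp
        · rintro _ ⟨z, hz, rfl⟩
          apply Subgroup.subset_closure
          refine ⟨⟨z, zz_le_cc hz, rfl⟩, ?_⟩
          have := hTexp z (zz_le_om hz)
          simpa using congrArg Subtype.val this
    · -- the exceptional case is impossible
      exfalso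
      have hbad : Bad p R := ⟨hbase, hgood⟩
      obtain ⟨hMtop, hM⟩ := hbad.main
      apply hMtop
      have hle : ⁅R, A⁆ ≤ (mm p R).map R.subtype := by
        rw [Subgroup.commutator_le]
        intro r hr' a ha
        -- `a` is a square in `A`
        have hodd : Odd (orderOf a) := by
          have h1 : orderOf a ∣ Nat.card A := by
            have := orderOf_dvd_natCard (⟨a, ha⟩ : A)
            rwa [Subgroup.orderOf_mk] at this
          exact Odd.of_dvd_nat hAodd h1
        obtain ⟨n, hn⟩ := hodd
        set β : A := ⟨a, ha⟩ ^ (n + 1) with hβ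
        have hββ : β * β = ⟨a, ha⟩ := by
          apply Subtype.ext
          rw [hβ]
          simp only [Subgroup.coe_mul, Subgroup.coe_pow]
          rw [← pow_add, show n + 1 + (n + 1) = orderOf a + 1 by omega, pow_succ, pow_orderOf_eq_one, one_mul]
        have h1 := hM (φ β) ⟨r⁻¹, R.inv_mem hr'⟩
        refine ⟨_, h1, ?_⟩
        have h2 : φ β (φ β ⟨r⁻¹, R.inv_mem hr'⟩) = φ ⟨a, ha⟩ ⟨r⁻¹, R.inv_mem hr'⟩ := by
          rw [← hββ, map_mul]
          rfl
        rw [h2]
        simp only [Subgroup.subtype_apply, Subgroup.coe_mul, Subgroup.coe_inv, hφ, inv_inv]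
        rw [commutatorElement_def]
        group
      rw [hRA] at hle
      rw [eq_top_iff]
      intro x _
      obtain ⟨m, hm, hmx⟩ := hle x.2
      have : m = x := Subtype.ext hmx
      rw [← this]
      exact hm

end Cfsg.Agent.S1448
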