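import Cfsg.Statements.S4143
import Mathlib

set_option autoImplicit false
open Cfsg

namespace Cfsg.Agent.S4143

open Subgroup

universe u

/-- In a finite `p`-group, a proper inclusion of subgroups multiplies the order by at least `p`. -/
theorem p_mul_card_le_of_lt {G : Type*} [Group G] [Finite G] {p : ℕ} [Fact p.Prime]
    (hG : IsPGroup p G) {H K : Subgroup G} (hlt : H < K) : p * Nat.card H ≤ Nat.card K := by
  have hp := (Fact.out : p.Prime)
  obtain ⟨a, ha⟩ := (hG.to_subgroup H).exists_card_eq
  obtain ⟨b, hb⟩ := (hG.to_subgroup K).exists_card_eq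
  have hdvd : Nat.card H ∣ Nat.card K := Subgroup.card_dvd_of_le hlt.le
  rw [ha, hb] at hdvd ⊢
  have hab : a ≤ b := (Nat.pow_dvd_pow_iff_le_right hp.one_lt).1 hdvd
  have hne : a ≠ b := by
    intro h
    have : H = K := Subgroup.eq_of_le_of_card_ge hlt.le (by rw [ha, hb, h])
    exact hlt.ne this
  have : a + 1 ≤ b := by omega
  calc p * p ^ a = p ^ (a + 1) := by ring
    _ ≤ p ^ b := Nat.pow_le_pow_right hp.pos this

/-- The centre of a nonabelian group of order `p ^ 3` has order at most `p`. -/
theorem card_center_le {G : Type*} [Group G] [Finite G] {p : ℕ} [Fact p.Prime]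
    (hG : Nat.card G = p ^ 3) (hna : ¬ IsMulCommutative G) : Nat.card (center G) ≤ p := by
  have hp := (Fact.out : p.Prime)
  obtain ⟨k, hk3, hk⟩ := (Nat.dvd_prime_pow hp).1 (hG ▸ Subgroup.card_subgroup_dvd_card (center G))
  have hidx : (center G).index * p ^ k = p ^ 3 := by
    rw [← hk, ← hG]; exact Subgroup.index_mul_card _
  interval_cases k
  · rw [hk]; simpa using hp.one_le
  · rw [hk]; simp
  · exfalso
    have hi : (center G).index = p := by
      have : (center G).index * p ^ 2 = p * p ^ 2 := by rw [hidx]; ring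
      exact Nat.eq_of_mul_eq_mul_right (pow_pos hp.pos 2) this
    have hc : Nat.card (G ⧸ center G) = p := hi
    have : IsCyclic (G ⧸ center G) := isCyclic_of_prime_card hc
    exact hna (MonoidHom.isMulCommutative_of_isCyclic_of_ker_le_center
      (QuotientGroup.mk' (center G)) (by simp))
  · exfalso
    have htop : center G = ⊤ := (Subgroup.card_eq_iff_eq_top _).1 (by rw [hk, hG])
    apply hna
    refine ⟨⟨fun a b => ?_⟩⟩
    have ha : a ∈ center G := by rw [htop]; trivial
    exact (Subgroup.mem_center_iff.1 ha b).symm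

/-- If all commutators `[x, b]` (`x ∈ D`) lie in a central subgroup `Z`, then the centralizer
of `b` has relative index at most `|Z|` in `D`. -/
theorem relIndex_centralizer_le {X : Type*} [Group X] [Finite X] (Z : Subgroup X)
    (hZc : Z ≤ center X) (D : Subgroup X) (b : X)
    (h : ∀ x ∈ D, x * b * x⁻¹ * b⁻¹ ∈ Z) :
    (centralizer ({b} : Set X)).relIndex D ≤ Nat.card Z := by
  let φ : D →* Z := MonoidHom.mk' (fun x => ⟨(x : X) * b * (x : X)⁻¹ * b⁻¹, h x x.2⟩) (by
    intro x y
    apply Subtype.ext
    have hc : ∀ g : X, g * ((y : X) * b * (y : X)⁻¹ * b⁻¹) = ((y : X) * b * (y : X)⁻¹ * b⁻¹) * g :=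
      fun g => (Subgroup.mem_center_iff.1 (hZc (h y y.2)) g)
    show ((x : X) * (y : X)) * b * ((x : X) * (y : X))⁻¹ * b⁻¹ =
      ((x : X) * b * (x : X)⁻¹ * b⁻¹) * ((y : X) * b * (y : X)⁻¹ * b⁻¹)
    calc ((x : X) * (y : X)) * b * ((x : X) * (y : X))⁻¹ * b⁻¹
        = ((x : X) * ((y : X) * b * (y : X)⁻¹ * b⁻¹)) * (b * (x : X)⁻¹ * b⁻¹) := by group
      _ = (((y : X) * b * (y : X)⁻¹ * b⁻¹) * (x : X)) * (b * (x : X)⁻¹ * b⁻¹) := by rw [hc]
      _ = ((y : X) * b * (y : X)⁻¹ * b⁻¹) * ((x : X) * b * (x : X)⁻¹ * b⁻¹) := by group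
      _ = ((x : X) * b * (x : X)⁻¹ * b⁻¹) * ((y : X) * b * (y : X)⁻¹ * b⁻¹) := (hc _).symm)
  have hker : φ.ker = (centralizer ({b} : Set X)).subgroupOf D := by
    ext x
    rw [MonoidHom.mem_ker, Subgroup.mem_subgroupOf, Subgroup.mem_centralizer_singleton_iff]
    constructor
    · intro hx
      have h1 : (x : X) * b * (x : X)⁻¹ * b⁻¹ = 1 := congrArg Subtype.val hx
      calc (x : X) * b = ((x : X) * b * (x : X)⁻¹ * b⁻¹) * (b * (x : X)) := by group
        _ = b * (x : X) := by rw [h1, one_mul]
    · intro hx
      apply Subtype.ext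
      show (x : X) * b * (x : X)⁻¹ * b⁻¹ = 1
      rw [hx]; group
  rw [Subgroup.relIndex, ← hker, Subgroup.index_ker]
  exact Subgroup.card_le_card_group _

/-- Core step: if `B` is a nonabelian self-centralizing subgroup of order `p ^ 3` and `Z` is the
centre (of order `p`, equal to `C_X(B)`), then every `x` with `[x, B] ≤ Z` lies in `B`. -/
theorem card_D_le {X : Type*} [Group X] [Finite X] {p : ℕ} [Fact p.Prime] (hXp : IsPGroup p X)
    (B : Subgroup X) (hB : Nat.card B = p ^ 3)
    (hZcard : Nat.card (center X) = p) (hZC : centralizer (B : Set X) = center X)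
    (hZB : center X ≤ B)
    (D : Subgroup X) (hD : ∀ x ∈ D, ∀ b ∈ B, x * b * x⁻¹ * b⁻¹ ∈ center X) :
    Nat.card D ≤ p ^ 3 := by
  have hp := (Fact.out : p.Prime)
  -- pick b1 ∈ B \ Z
  have hZltB : center X < B := by
    refine lt_of_le_of_ne hZB ?_
    intro h
    have : Nat.card (center X) = p ^ 3 := by rw [h]; exact hB
    rw [hZcard] at this
    have h1 : p ^ 1 = p ^ 3 := by simpa using this
    have := Nat.pow_right_injective hp.two_le h1
    omega
  obtain ⟨b1, hb1B, hb1Z⟩ := SetLike.exists_of_lt hZltB
  -- A1 = C_B(b1) is a proper subgroup of B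
  set A1 : Subgroup X := B ⊓ centralizer ({b1} : Set X) with hA1
  have hA1lt : A1 < B := by
    refine lt_of_le_of_ne inf_le_left ?_
    intro h
    apply hb1Z
    rw [← hZC, Subgroup.mem_centralizer_iff]
    intro y hy
    have : y ∈ A1 := by rw [h]; exact hy
    exact (Subgroup.mem_centralizer_singleton_iff.1 this.2)
  obtain ⟨b2, hb2B, hb2A⟩ := SetLike.exists_of_lt hA1lt
  -- E = C_D(b1) ∩ C_D(b2) ≤ Z
  set F : Subgroup X := centralizer ({b1} : Set X) ⊓ centralizer ({b2} : Set X) with hF
  have hEZ : F ⊓ D ≤ center X := by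
    intro e he
    rw [← hZC, Subgroup.mem_centralizer_iff]
    -- T = C_B(e)
    set T : Subgroup X := B ⊓ centralizer ({e} : Set X) with hT
    have heb1 : e * b1 = b1 * e := Subgroup.mem_centralizer_singleton_iff.1 he.1.1
    have heb2 : e * b2 = b2 * e := Subgroup.mem_centralizer_singleton_iff.1 he.1.2
    have hb1T : b1 ∈ T := ⟨hb1B, Subgroup.mem_centralizer_singleton_iff.2 heb1.symm⟩
    have hb2T : b2 ∈ T := ⟨hb2B, Subgroup.mem_centralizer_singleton_iff.2 heb2.symm⟩
    have hZT : center X ≤ T := le_inf hZB (Subgroup.center_le_centralizer _)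
    have hZA1 : center X ≤ A1 := le_inf hZB (Subgroup.center_le_centralizer _)
    have hb1A1 : b1 ∈ A1 := ⟨hb1B, Subgroup.mem_centralizer_singleton_iff.2 rfl⟩
    have h1 : center X < T ⊓ A1 := by
      refine lt_of_le_of_ne (le_inf hZT hZA1) ?_
      intro h
      apply hb1Z
      rw [h]; exact ⟨hb1T, hb1A1⟩
    have h2 : T ⊓ A1 < T := by
      refine lt_of_le_of_ne inf_le_left ?_
      intro h
      apply hb2A
      have : b2 ∈ T ⊓ A1 := by rw [h]; exact hb2T
      exact this.2
    have c1 := p_mul_card_le_of_lt hXp h1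
    have c2 := p_mul_card_le_of_lt hXp h2
    have hTB : T = B := by
      apply Subgroup.eq_of_le_of_card_ge inf_le_left
      rw [hB]
      calc p ^ 3 = p * (p * p) := by ring
        _ = p * (p * Nat.card (center X)) := by rw [hZcard]
        _ ≤ p * Nat.card (T ⊓ A1 : Subgroup X) := Nat.mul_le_mul_left _ c1
        _ ≤ Nat.card T := c2
    intro y hy
    have : y ∈ T := by rw [hTB]; exact hy
    exact (Subgroup.mem_centralizer_singleton_iff.1 this.2)
  have r1 := relIndex_centralizer_le (center X) le_rfl D b1 (fun x hx => hD x hx b1 hb1B)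
  have r2 := relIndex_centralizer_le (center X) le_rfl D b2 (fun x hx => hD x hx b2 hb2B)
  rw [hZcard] at r1 r2
  have r3 : F.relIndex D ≤ p * p :=
    (Subgroup.relIndex_inf_le).trans (Nat.mul_le_mul r1 r2)
  have r4 : Nat.card (F ⊓ D : Subgroup X) ≤ p := by
    rw [← hZcard]; exact Subgroup.card_le_of_le hEZ
  have r5 : Nat.card (F ⊓ D : Subgroup X) * (F ⊓ D).relIndex D = Nat.card D := by
    have := Subgroup.relIndex_mul_relIndex ⊥ (F ⊓ D) D bot_le inf_le_right
    rwa [Subgroup.relIndex_bot_left, Subgroup.relIndex_bot_left] at this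
  rw [Subgroup.inf_relIndex_right] at r5
  calc Nat.card D = Nat.card (F ⊓ D : Subgroup X) * F.relIndex D := r5.symm
    _ ≤ p * (p * p) := Nat.mul_le_mul r4 r3
    _ = p ^ 3 := by ring

theorem main {p : ℕ} [Fact p.Prime] (n : ℕ) : ∀ (X : Type u) [Group X] [Finite X],
    Nat.card X = p ^ n → ∀ B : Subgroup X, Nat.card B = p ^ 3 → ¬ IsMulCommutative B →
    centralizer (B : Set X) ≤ B → Group.nilpotencyClass X = n - 1 := by
  have hp := (Fact.out : p.Prime)
  induction n with
  | zero =>
    intro X _ _ hX B hB _ _
    exfalso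
    have := Subgroup.card_subgroup_dvd_card B
    rw [hX, hB] at this
    have := (Nat.pow_dvd_pow_iff_le_right hp.one_lt).1 this
    omega
  | succ n ih =>
    intro X _ _ hX B hB hBna hC
    have hXp : IsPGroup p X := IsPGroup.of_card hX
    have hnil : Group.IsNilpotent X := hXp.isNilpotent
    have hnt : Nontrivial X := by
      apply (Finite.one_lt_card_iff_nontrivial).1
      rw [hX]; exact Nat.one_lt_pow (Nat.succ_ne_zero n) hp.one_lt
    have h3 : 3 ≤ n + 1 := by
      have := Subgroup.card_subgroup_dvd_card B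
      rw [hX, hB] at this
      exact (Nat.pow_dvd_pow_iff_le_right hp.one_lt).1 this
    -- C = C_X(B) has order ≤ p
    have hZC : center X ≤ centralizer (B : Set X) := Subgroup.center_le_centralizer _
    have hCcard : Nat.card (centralizer (B : Set X)) ≤ p := by
      have h1 : (centralizer (B : Set X)).subgroupOf B ≤ center B := by
        intro x hx
        rw [Subgroup.mem_center_iff]
        intro y
        rw [Subgroup.mem_subgroupOf, Subgroup.mem_centralizer_iff] at hx
        exact Subtype.ext (hx y.1 y.2)
      have h2 : Nat.card ((centralizer (B : Set X)).subgroupOf B)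
          = Nat.card (centralizer (B : Set X)) :=
        Nat.card_congr (Subgroup.subgroupOfEquivOfLe hC).toEquiv
      calc Nat.card (centralizer (B : Set X))
          = Nat.card ((centralizer (B : Set X)).subgroupOf B) := h2.symm
        _ ≤ Nat.card (center B) := Subgroup.card_le_of_le h1
        _ ≤ p := card_center_le hB hBna
    have hZne : center X ≠ ⊥ := Group.IsNilpotent.center_ne_bot X
    have hZcard : Nat.card (center X) = p := by
      apply le_antisymm ((Subgroup.card_le_of_le hZC).trans hCcard)
      have h1 := p_mul_card_le_of_lt hXp (bot_lt_iff_ne_bot.2 hZne)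
      simpa using h1
    have hZC' : centralizer (B : Set X) = center X :=
      (Subgroup.eq_of_le_of_card_ge hZC (by rw [hZcard]; exact hCcard)).symm
    have hZB : center X ≤ B := hZC.trans hC
    rw [Group.nilpotencyClass_eq_quotient_center_plus_one]
    have hQcard : Nat.card (X ⧸ center X) = p ^ n := by
      have := Subgroup.card_eq_card_quotient_mul_card_subgroup (center X)
      rw [hX, hZcard, pow_succ] at this
      exact (Nat.eq_of_mul_eq_mul_right hp.pos this).symm
    rcases Nat.lt_or_ge 3 (n + 1) with h4 | h4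
    swap
    · -- n = 2
      have hn : n = 2 := by omega
      subst hn
      have hcomm : IsMulCommutative (X ⧸ center X) :=
        IsPGroup.isMulCommutative_of_card_eq_prime_sq hQcard
      have hle : Group.nilpotencyClass (X ⧸ center X) ≤ 1 :=
        Group.IsNilpotent.nilpotencyClass_le_one_iff.2 hcomm
      have hne : Group.nilpotencyClass (X ⧸ center X) ≠ 0 := by
        intro h0
        have hss := Group.nilpotencyClass_zero_iff_subsingleton.1 h0
        have : Nat.card (X ⧸ center X) = 1 := Nat.card_eq_one_iff_unique.2 ⟨hss, ⟨1⟩⟩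
        rw [hQcard] at this
        have h1 : p ^ 2 = p ^ 0 := by simpa using this
        have := Nat.pow_right_injective hp.two_le h1
        omega
      omega
    · -- n ≥ 3 : induction
      set π := QuotientGroup.mk' (center X) with hπ
      have hπs : Function.Surjective π := QuotientGroup.mk'_surjective _
      set Bb : Subgroup (X ⧸ center X) := B.map π with hBb
      have hBbcard : Nat.card Bb = p ^ 2 := by
        have e1 := Subgroup.relIndex_map_map π ⊥ B
        rw [Subgroup.map_bot, Subgroup.relIndex_bot_left, QuotientGroup.ker_mk', bot_sup_eq,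
          sup_eq_left.2 hZB] at e1
        have e2 := Subgroup.relIndex_mul_relIndex ⊥ (center X) B bot_le hZB
        rw [Subgroup.relIndex_bot_left, Subgroup.relIndex_bot_left, hZcard, hB, ← e1] at e2
        have : p * Nat.card Bb = p * p ^ 2 := by rw [e2]; ring
        exact Nat.eq_of_mul_eq_mul_left hp.pos this
      have hBbcomm : IsMulCommutative Bb := IsPGroup.isMulCommutative_of_card_eq_prime_sq hBbcard
      -- D = preimage of the centralizer of Bb
      set D : Subgroup X := (centralizer (Bb : Set (X ⧸ center X))).comap π with hD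
      have hDprop : ∀ x ∈ D, ∀ b ∈ B, x * b * x⁻¹ * b⁻¹ ∈ center X := by
        intro x hx b hb
        have hx' : π x ∈ centralizer (Bb : Set (X ⧸ center X)) := hx
        rw [Subgroup.mem_centralizer_iff] at hx'
        have hc := hx' (π b) (Subgroup.mem_map_of_mem π hb)
        rw [← QuotientGroup.eq_one_iff]
        show π (x * b * x⁻¹ * b⁻¹) = 1
        rw [map_mul, map_mul, map_mul, map_inv, map_inv, ← hc]
        group
      have hBD : B ≤ D := by
        intro x hx
        show π x ∈ centralizer (Bb : Set (X ⧸ center X))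
        rw [Subgroup.mem_centralizer_iff]
        intro y hy
        have hxB : π x ∈ Bb := Subgroup.mem_map_of_mem π hx
        have := hBbcomm.is_comm.comm (⟨y, hy⟩ : Bb) ⟨π x, hxB⟩
        exact congrArg Subtype.val this
      have hDcard : Nat.card D ≤ p ^ 3 := card_D_le hXp B hB hZcard hZC' hZB D hDprop
      have hDB : B = D := Subgroup.eq_of_le_of_card_ge hBD (by rw [hB]; exact hDcard)
      have hcentBb : centralizer (Bb : Set (X ⧸ center X)) ≤ Bb := by
        intro y hy
        obtain ⟨x, rfl⟩ := hπs y
        have : x ∈ D := hy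
        rw [← hDB] at this
        exact Subgroup.mem_map_of_mem π this
      -- K of order p^3 containing Bb
      have hdvd : p ^ (2 + 1) ∣ Nat.card (X ⧸ center X) := by
        rw [hQcard]; exact pow_dvd_pow p (by omega)
      obtain ⟨K, hK, hBK⟩ := Sylow.exists_subgroup_card_pow_succ hdvd hBbcard
      have hKC : centralizer (K : Set (X ⧸ center X)) ≤ K :=
        ((Subgroup.centralizer_le (by exact_mod_cast hBK)).trans hcentBb).trans hBK
      have hKna : ¬ IsMulCommutative K := by
        intro hcomm
        have hKle : K ≤ centralizer (K : Set (X ⧸ center X)) := by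
          intro x hx
          rw [Subgroup.mem_centralizer_iff]
          intro y hy
          have := hcomm.is_comm.comm (⟨y, hy⟩ : K) ⟨x, hx⟩
          exact congrArg Subtype.val this
        have hle : K ≤ Bb :=
          (hKle.trans (Subgroup.centralizer_le (by exact_mod_cast hBK))).trans hcentBb
        have := Subgroup.card_le_of_le hle
        rw [hK, hBbcard] at this
        have := (Nat.pow_le_pow_iff_right hp.one_lt).1 this
        omega
      have := ih (X ⧸ center X) hQcard K hK hKna hKC
      rw [this]; omega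

/-- Let X be a finite p-group of order p^n containing a non-abelian subgroup B of order p³ with C_X(B) ≤ B. Then X has nilpotency class n − 1 (maximal class). -/
theorem result {X : Type*} [Group X] [Finite X] {p : ℕ} [Fact p.Prime] (n : ℕ) (hX : Nat.card X = p ^ n)
    (B : Subgroup X) (hB : Nat.card B = p ^ 3) (hBna : ¬ IsMulCommutative B) (hC : Subgroup.centralizer (B : Set X) ≤ B) :
    Group.nilpotencyClass X = n - 1 :=
  main n X hX B hB hBna hC

end Cfsg.Agent.S4143
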