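-- S1455: Bender–Glauberman 5.6: solvable odd-order G with a narrow Sylow p-subgroup (helper32).
-- Rank ≤ 2: helper4's S1450. Narrow of rank ≥ 3 with p-length one: Helper32/Narrow lemmas; the
-- bookkeeping at the end follows helper4's proof of S1450.
import Cfsg.Statements.S1455
import Cfsg.Agent.S1450
import Cfsg.Agent.Helper32.Narrow3
import Cfsg.Agent.Helper54.PLength

set_option autoImplicit false
open Cfsg

namespace Cfsg.Agent.S1455

open scoped commutatorElement
open Cfsg.Agent.Helper4 Cfsg.Agent.Helper32.Narrow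

/-- Let G be a solvable group of odd order, p a prime dividing its order, and S a Sylow p-subgroup of G that is narrow; if S has an elementary abelian subgroup of order p ^ 3 assume also G = O_{p',p,p'}(G). Then every prime dividing the index of O_{p'}(G) is at most p; if p = 3 or p is the smallest prime divisor of #G then G has a normal p-complement; G' has a normal p-complement; every subgroup of G' of order coprime to p lies in O_{p'}(G'); and G' ≤ O_{p',p}(G) with the index of O_{p',p}(G) coprime to p. -/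
theorem result {G : Type*} [Group G] [Finite G] [Group.IsSolvable G] (hodd : Odd (Nat.card G)) (p : ℕ) [Fact p.Prime] (hpG : p ∣ Nat.card G) (S : Sylow p G) (hS : Cfsg.IsNarrow p ↥(S : Subgroup G))
    (hpl : ¬ Cfsg.PRankLE p 2 ↥(S : Subgroup G) → Cfsg.PLengthLE p 1 G) :
    (∀ q : ℕ, q.Prime → q ∣ (Cfsg.pPrimeCore p G).index → q ≤ p) ∧
      ((p = 3 ∨ ∀ q : ℕ, q.Prime → q ∣ Nat.card G → p ≤ q) → Cfsg.HasNormalPComplement p G) ∧
      Cfsg.HasNormalPComplement p ↥(commutator G) ∧
      (∀ L : Subgroup ↥(commutator G), (Nat.card L).Coprime p → L ≤ Cfsg.pPrimeCore p ↥(commutator G)) ∧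
      commutator G ≤ Cfsg.pPrimePCore p G ∧ ((Cfsg.pPrimePCore p G).index).Coprime p := by
  classical
  have hpp : p.Prime := Fact.out
  have hp2 : p ≠ 2 := by
    rintro rfl
    exact (Nat.not_even_iff_odd.mpr hodd) (even_iff_two_dvd.mpr hpG)
  by_cases hrk : Cfsg.PRankLE p 2 ↥(S : Subgroup G)
  · exact Cfsg.Agent.S1450.result hodd p hpG (pRankLE_of_sylow S hrk)
  have hpl1 := hpl hrk
  set K := Cfsg.pPrimeCore p G with hK
  have hKc : (Nat.card K).Coprime p := Cfsg.Agent.Lib.card_pPrimeCore_coprime p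
  set π := QuotientGroup.mk' K with hπ
  have hπs : Function.Surjective π := QuotientGroup.mk'_surjective K
  have hsolv : Group.IsSolvable (G ⧸ K) :=
    Group.isSolvable_of_surjective (QuotientGroup.mk'_surjective K)
  have hcore : Cfsg.pPrimeCore p (G ⧸ K) = ⊥ := Cfsg.Agent.Helper54.pPrimeCore_quotient_eq_bot
  have hCR := Cfsg.Agent.Helper55.centralizer_pCore_le (G := G ⧸ K) p hcore
  set R := Cfsg.pCore p (G ⧸ K) with hR
  have hRp : IsPGroup p R := Cfsg.Agent.Lib.isPGroup_pCore p
  -- the image of `S` is `R`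
  have hSU : (S : Subgroup G) ≤ Cfsg.pPrimePCore p G :=
    Cfsg.Agent.Helper54.le_pPrimePCore_of_pLengthLE_one hpl1 S S.isPGroup'
  have hSR : (S : Subgroup G).map π = R := by
    have h1 := Cfsg.Agent.Helper54.map_sylow_pPrimePCore (S.subtype hSU)
    rw [Sylow.coe_subtype, Subgroup.subgroupOf_map_subtype, inf_of_le_left hSU] at h1
    exact h1
  set φ : ↥(S : Subgroup G) →* G ⧸ K := π.comp (S : Subgroup G).subtype with hφ
  have hφinj : Function.Injective φ := by
    rw [injective_iff_map_eq_one]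
    intro s hs
    have hsK : (s : G) ∈ K := by
      have : π (s : G) = 1 := hs
      rwa [hπ, QuotientGroup.mk'_apply, QuotientGroup.eq_one_iff] at this
    obtain ⟨j, hj⟩ := S.isPGroup' s
    have hj' : (s : G) ^ p ^ j = 1 := by simpa using congrArg Subtype.val hj
    have h2 : orderOf (s : G) ∣ Nat.card K := by
      have : orderOf (⟨(s : G), hsK⟩ : K) = orderOf (s : G) := Subgroup.orderOf_mk _ hsK
      rw [← this]; exact orderOf_dvd_natCard _
    have h3 : orderOf (s : G) ∣ p ^ j := orderOf_dvd_of_pow_eq_one hj'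
    have h4 : orderOf (s : G) = 1 := Nat.eq_one_of_dvd_coprimes (hKc.pow_right j) h2 h3
    exact Subtype.ext (orderOf_eq_one_iff.mp h4)
  have hrange : φ.range = R := by
    rw [hφ, MonoidHom.range_comp, Subgroup.range_subtype]
    exact hSR
  set e : ↥(S : Subgroup G) ≃* ↥R :=
    (MonoidHom.ofInjective hφinj).trans (MulEquiv.subgroupCongr hrange) with he
  -- the narrow hypotheses for `R`
  obtain ⟨E, hE, hCE⟩ := exists_of_isNarrow hS hrk
  obtain ⟨hE', hCE'⟩ := narrow_hyp_equiv e E hE hCE
  have hrkR : ¬ Cfsg.PRankLE p 2 ↥R :=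
    fun h => hrk ((Cfsg.Agent.Helper23.pRankLE_of_mulEquiv p 2 e).mpr h)
  have hcomm_aut := narrow_commutator_aut p hp2 hRp hrkR _ hE' hCE'
  have hpow_aut := narrow_coprime_aut_pow p hp2 hRp hrkR _ hE' hCE'
  set c : (G ⧸ K) →* MulAut ↥R := MulAut.conjNormal with hc
  have hker : ∀ x : G ⧸ K, c x = 1 → x ∈ R := by
    intro x h1
    apply hCR
    rw [Subgroup.mem_centralizer_iff]
    intro y hy
    have h2 : c x ⟨y, hy⟩ = ⟨y, hy⟩ := by rw [h1]; rfl
    have h3 : x * y * x⁻¹ = y := by
      have := congrArg Subtype.val h2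
      simpa [hc] using this
    calc y * x = (x * y * x⁻¹) * x := by rw [h3]
      _ = x * y := by group
  have hcommP : IsPGroup p (commutator (G ⧸ K)) := by
    rintro ⟨y, hy⟩
    have hcy : c y ∈ commutator (MulAut ↥R) := by
      have h1 : c y ∈ (commutator (G ⧸ K)).map c := Subgroup.mem_map_of_mem c hy
      rw [commutator_def, Subgroup.map_commutator] at h1
      rw [commutator_def]
      exact Subgroup.commutator_mono le_top le_top h1
    obtain ⟨i, hi⟩ := hcomm_aut (c y) hcy
    rw [← map_pow] at hi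
    obtain ⟨j, hj⟩ := hRp ⟨y ^ p ^ i, hker _ hi⟩
    have hj' : (y ^ p ^ i) ^ p ^ j = 1 := by simpa using congrArg Subtype.val hj
    refine ⟨i + j, Subtype.ext ?_⟩
    show y ^ p ^ (i + j) = 1
    rw [pow_add, pow_mul]
    exact hj'
  have hcommR : commutator (G ⧸ K) ≤ R :=
    Cfsg.Agent.Lib.le_pCore inferInstance hcommP
  have hcomm_map : ∀ x ∈ commutator G, π x ∈ commutator (G ⧸ K) := by
    intro x hx
    have h1 : π x ∈ (commutator G).map π := Subgroup.mem_map_of_mem π hx
    rw [commutator_def, Subgroup.map_commutator] at h1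
    rw [commutator_def]
    exact Subgroup.commutator_mono le_top le_top h1
  -- (1) primes of the quotient
  have h1 : ∀ q : ℕ, q.Prime → q ∣ Nat.card (G ⧸ K) → q ≤ p := by
    intro q hq hqd
    by_cases hqp : q = p
    · exact hqp.le
    haveI := Fact.mk hq
    obtain ⟨x, hx⟩ := exists_prime_orderOf_dvd_card' q hqd
    have hcx1 : c x ≠ 1 := by
      intro h1
      obtain ⟨j, hj⟩ := hRp ⟨x, hker x h1⟩
      have hj' : x ^ p ^ j = 1 := by simpa using congrArg Subtype.val hj
      have h4 : q ∣ p ^ j := hx ▸ orderOf_dvd_of_pow_eq_one hj'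
      exact hqp ((Nat.prime_dvd_prime_iff_eq hq hpp).mp (hq.dvd_of_dvd_pow h4))
    have hcxq : (c x) ^ q = 1 := by rw [← map_pow, ← hx, pow_orderOf_eq_one, map_one]
    have hord : orderOf (c x) = q := orderOf_eq_prime hcxq hcx1
    have hcop : (orderOf (c x)).Coprime p := by
      rw [hord]
      exact (Nat.coprime_primes hq hpp).mpr hqp
    have h5 := hpow_aut (c x) hcop
    have h6 : q ∣ p - 1 := hord ▸ orderOf_dvd_of_pow_eq_one h5
    have h7 : q ≤ p - 1 := Nat.le_of_dvd (Nat.sub_pos_of_lt hpp.one_lt) h6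
    omega
  have hidx : K.index = Nat.card (G ⧸ K) := Subgroup.index_eq_card K
  -- the derived subgroup modulo `K`
  set X := commutator G with hX
  set N : Subgroup X := K.subgroupOf X with hN
  have hNn : N.Normal := Subgroup.normal_subgroupOf
  have hNc : (Nat.card N).Coprime p := by
    apply Cfsg.Agent.Helper54.card_coprime_of_forall_orderOf_ne
    intro g hg hgp
    have hgK : (g : G) ∈ K := Subgroup.mem_subgroupOf.mp hg
    have h2 : orderOf (g : G) ∣ Nat.card K := by
      have : orderOf (⟨(g : G), hgK⟩ : K) = orderOf (g : G) := Subgroup.orderOf_mk _ hgK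
      rw [← this]
      exact orderOf_dvd_natCard _
    rw [Subgroup.orderOf_coe, hgp] at h2
    exact (Nat.Prime.coprime_iff_not_dvd hpp).mp hKc.symm h2
  have hpowN : ∀ x : X, ∃ j : ℕ, x ^ p ^ j ∈ N := by
    intro x
    obtain ⟨j, hj⟩ := hcommP ⟨π x, hcomm_map x x.2⟩
    have hj' : (π (x : G)) ^ p ^ j = 1 := by simpa using congrArg Subtype.val hj
    refine ⟨j, ?_⟩
    rw [hN, Subgroup.mem_subgroupOf]
    have : π ((x : G) ^ p ^ j) = 1 := by rw [map_pow, hj']
    rw [hπ, QuotientGroup.mk'_apply, QuotientGroup.eq_one_iff] at this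
    simpa using this
  have hXNp : IsPGroup p (X ⧸ N) := by
    intro y
    induction y using QuotientGroup.induction_on with
    | H x =>
      obtain ⟨j, hj⟩ := hpowN x
      refine ⟨j, ?_⟩
      rw [← QuotientGroup.mk_pow]
      exact (QuotientGroup.eq_one_iff _).mpr hj
  obtain ⟨m, hm⟩ := IsPGroup.iff_card.mp hXNp
  have hNidx : N.index = p ^ m := by rw [Subgroup.index_eq_card, hm]
  refine ⟨?_, ?_, ?_, ?_, ?_, ?_⟩
  · intro q hq hqd
    rw [hidx] at hqd
    exact h1 q hq hqd
  · intro hcase
    have hall : ∀ {d : ℕ}, d.Prime → d ∣ Nat.card (G ⧸ K) → d = p := by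
      intro d hd hdd
      have hle := h1 d hd hdd
      have hdG : d ∣ Nat.card G := hdd.trans (Subgroup.card_quotient_dvd_card K)
      rcases hcase with h3 | hmin
      · have hd2 : d ≠ 2 := by
          rintro rfl
          exact (Nat.not_even_iff_odd.mpr hodd) (even_iff_two_dvd.mpr hdG)
        have := hd.two_le
        omega
      · exact le_antisymm hle (hmin d hd hdG)
    have hpow := Nat.eq_prime_pow_of_unique_prime_dvd (Nat.card_pos.ne') hall
    exact hasNormalPComplement_of_coprime_of_index p K hKc _ (hidx.trans hpow)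
  · exact hasNormalPComplement_of_coprime_of_index p N hNc m hNidx
  · intro L hL
    have hLN : L ≤ N := by
      intro l hl
      obtain ⟨j, hj⟩ := hpowN l
      have hcop : (p ^ j).Coprime (orderOf l) := by
        apply Nat.Coprime.pow_left
        have h2 : orderOf (⟨l, hl⟩ : L) ∣ Nat.card L := orderOf_dvd_natCard _
        rw [Subgroup.orderOf_mk] at h2
        exact (Nat.Coprime.coprime_dvd_left h2 hL).symm
      obtain ⟨k, hk⟩ := exists_pow_eq_self_of_coprime hcop
      rw [← hk]
      exact N.pow_mem hj k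
    exact hLN.trans (Cfsg.Agent.Lib.le_pPrimeCore hNn hNc)
  · intro x hx
    show x ∈ (Cfsg.pCore p (G ⧸ Cfsg.pPrimeCore p G)).comap
      (QuotientGroup.mk' (Cfsg.pPrimeCore p G))
    rw [Subgroup.mem_comap]
    exact hcommR (hcomm_map x hx)
  · have hidx2 : (Cfsg.pPrimePCore p G).index = R.index := by
      show ((Cfsg.pCore p (G ⧸ Cfsg.pPrimeCore p G)).comap
        (QuotientGroup.mk' (Cfsg.pPrimeCore p G))).index = R.index
      exact Subgroup.index_comap_of_surjective _ hπs
    rw [hidx2]
    obtain ⟨P⟩ : Nonempty (Sylow p (G ⧸ K)) := inferInstance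
    have hRP : R ≤ P := Cfsg.Agent.Lib.pCore_le_sylow P
    have hPn : (P : Subgroup (G ⧸ K)).Normal :=
      Subgroup.Normal.of_commutator_le (G ⧸ K) (hcommR.trans hRP)
    have hRP' : R = P := Cfsg.Agent.Lib.pCore_eq_of_normal_sylow P hPn
    rw [hRP', Nat.coprime_comm, Nat.Prime.coprime_iff_not_dvd hpp]
    exact P.not_dvd_index

end Cfsg.Agent.S1455
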