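-- Statement S5088: normality via a chain of strongly closed subgroups.
import Cfsg.Statements.S5088
import Cfsg.Agent.Helper87.FusionSeries
import Cfsg.Agent.S5085

set_option autoImplicit false
open Cfsg

namespace Cfsg.Agent.S5088

open Cfsg.Agent.Helper87 Cfsg.FusionSystem

/-- In a saturated fusion system over a finite p-group, a subgroup Q is normal in the system if and only if there is a chain of subgroups 1 = Q₀ ≤ Q₁ ≤ ⋯ ≤ Qₙ = Q such that each Qᵢ with i ≥ 1 is strongly closed in the system and [Q, Qᵢ] ≤ Qᵢ₋₁. -/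
theorem result {Ω : Type*} [Group Ω] {S : Subgroup Ω} [Finite S] (p : ℕ) [Fact p.Prime] (hS : IsPGroup p S) (F : Cfsg.FusionSystem S) (hF : F.IsSaturated p) (Q : Subgroup Ω) : F.IsNormal Q ↔ ∃ (n : ℕ) (Qs : Fin (n + 1) → Subgroup Ω), Qs 0 = ⊥ ∧ Qs (Fin.last n) = Q ∧ Monotone Qs ∧ ∀ i : Fin n, F.StronglyClosed (Qs i.succ) ∧ ⁅Q, Qs i.succ⁆ ≤ Qs (Fin.castSucc i) := by
  constructor
  · intro hQ
    have hQS : Q ≤ S := hQ.1
    have hfin : Finite Q := finite_of_le hQS
    have hnil : Group.IsNilpotent Q := (hS.to_le hQS).isNilpotent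
    obtain ⟨c, hc⟩ := (Subgroup.isNilpotent_iff_lowerCentralSeries Q).mp hnil
    have hLn := isNormal_lowerCentralSeries F hQ (fun U hU hchar => Cfsg.Agent.S5085.result F Q U hQ hU hchar)
    refine ⟨c, fun i => Q.lowerCentralSeries (c - i), ?_, ?_, ?_, ?_⟩
    · show Q.lowerCentralSeries (c - 0) = ⊥
      rw [Nat.sub_zero, hc]
    · show Q.lowerCentralSeries (c - c) = Q
      rw [Nat.sub_self]; rfl
    · intro i j hij
      exact Subgroup.lowerCentralSeries_antitone Q (Nat.sub_le_sub_left (Fin.le_def.mp hij) c)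
    · intro i
      refine ⟨stronglyClosed_of_isNormal F (hLn _), ?_⟩
      show ⁅Q, Q.lowerCentralSeries (c - (i + 1))⁆ ≤ Q.lowerCentralSeries (c - i)
      have hi : (i : ℕ) < c := i.2
      have : c - i = (c - (i + 1)) + 1 := by omega
      rw [this, Subgroup.lowerCentralSeries_succ, Subgroup.commutator_comm]
  · rintro ⟨n, Qs, h0, hn, hmono, hstep⟩
    have hQ : F.StronglyClosed Q := by
      rcases Nat.eq_zero_or_pos n with rfl | hpos
      · have : Q = ⊥ := by rw [← hn, ← h0]; rfl
        rw [this]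
        exact stronglyClosed_bot F
      · have h1 := (hstep ⟨n - 1, by omega⟩).1
        have h2 : (⟨n - 1, by omega⟩ : Fin n).succ = Fin.last n := Fin.ext (by simp; omega)
        rw [h2, hn] at h1
        exact h1
    apply isNormal_of_weaklyClosed_series_fin hS F hF hQ n Qs h0 hn hmono
    · intro i
      rw [Subgroup.commutator_comm]
      exact (hstep i).2
    · intro i
      rcases Nat.eq_zero_or_pos (i : ℕ) with hz | hpos
      · have : i.castSucc = 0 := Fin.ext (by simpa using hz)
        rw [this, h0]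
        exact weaklyClosed_of_stronglyClosed F (stronglyClosed_bot F)
      · have h1 := (hstep ⟨(i : ℕ) - 1, by omega⟩).1
        have h2 : (⟨(i : ℕ) - 1, by omega⟩ : Fin n).succ = i.castSucc := Fin.ext (by simp; omega)
        rw [h2] at h1
        exact weaklyClosed_of_stronglyClosed F h1

end Cfsg.Agent.S5088
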