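-- Statement S5145: the core O_p(F) of a fusion system over a finite group is normal in the system.
import Cfsg.Statements.S5145
import Cfsg.Agent.Helper85.Basic

set_option autoImplicit false
open Cfsg

namespace Cfsg.Agent.S5145

open Cfsg.Agent.Helper85 Cfsg.FusionSystem

variable {Ω : Type*} [Group Ω] {S : Subgroup Ω}

theorem isNormal_bot (F : FusionSystem S) : F.IsNormal ⊥ := by
  refine ⟨bot_le, fun P φ hφ => ?_⟩
  have h : P ⊔ ⊥ ≤ P := sup_le le_rfl bot_le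
  refine ⟨φ.comp (Subgroup.inclusion h), restrict_mem F hφ h, fun x => ?_, ?_⟩
  · show φ _ = φ x
    congr 1
  · rw [Subgroup.bot_subgroupOf, Subgroup.map_bot]

/-- membership in the image of `Q ∩ B` under a map defined on `B` -/
theorem mem_img {B Q : Subgroup Ω} (ψ : B →* Ω) (y : Ω) :
    y ∈ (Q.subgroupOf B).map ψ ↔ ∃ x : B, (x : Ω) ∈ Q ∧ ψ x = y := by
  simp [Subgroup.mem_map, Subgroup.mem_subgroupOf]

theorem isNormal_sup (F : FusionSystem S) {Q₁ Q₂ : Subgroup Ω} (h₁ : F.IsNormal Q₁) (h₂ : F.IsNormal Q₂) :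
    F.IsNormal (Q₁ ⊔ Q₂) := by
  refine ⟨sup_le h₁.1 h₂.1, fun P φ hφ => ?_⟩
  obtain ⟨ψ₁, hψ₁, hext₁, himg₁⟩ := h₁.2 P φ hφ
  obtain ⟨ψ₂, hψ₂, hext₂, himg₂⟩ := h₂.2 (P ⊔ Q₁) ψ₁ hψ₁
  have h : P ⊔ (Q₁ ⊔ Q₂) ≤ (P ⊔ Q₁) ⊔ Q₂ := le_of_eq (sup_assoc _ _ _).symm
  have h' : (P ⊔ Q₁) ⊔ Q₂ ≤ P ⊔ (Q₁ ⊔ Q₂) := le_of_eq (sup_assoc _ _ _)
  refine ⟨ψ₂.comp (Subgroup.inclusion h), restrict_mem F hψ₂ h, fun x => ?_, ?_⟩
  · rw [← hext₁ x, ← hext₂]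
    show ψ₂ _ = ψ₂ _
    congr 1
  · -- image of Q₁ under ψ₂ is Q₁
    have himg₁' : (Q₁.subgroupOf ((P ⊔ Q₁) ⊔ Q₂)).map ψ₂ = Q₁ := by
      ext y
      rw [mem_img]
      constructor
      · rintro ⟨x, hx, rfl⟩
        have hx' : (x : Ω) ∈ P ⊔ Q₁ := (le_sup_right : Q₁ ≤ P ⊔ Q₁) hx
        have : x = Subgroup.inclusion le_sup_left (⟨x, hx'⟩ : ↥(P ⊔ Q₁)) := Subtype.ext rfl
        rw [this, hext₂]
        have hmem : ψ₁ ⟨x, hx'⟩ ∈ (Q₁.subgroupOf (P ⊔ Q₁)).map ψ₁ := (mem_img ψ₁ _).2 ⟨⟨x, hx'⟩, hx, rfl⟩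
        rwa [himg₁] at hmem
      · intro hy
        have hy' : y ∈ (Q₁.subgroupOf (P ⊔ Q₁)).map ψ₁ := by rw [himg₁]; exact hy
        rw [mem_img] at hy'
        obtain ⟨x, hx, rfl⟩ := hy'
        exact ⟨Subgroup.inclusion le_sup_left x, hx, hext₂ x⟩
    -- now compute the image of the join
    have hsub : ((Q₁ ⊔ Q₂).subgroupOf (P ⊔ (Q₁ ⊔ Q₂))).map (ψ₂.comp (Subgroup.inclusion h)) =
        ((Q₁ ⊔ Q₂).subgroupOf ((P ⊔ Q₁) ⊔ Q₂)).map ψ₂ := by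
      ext y
      rw [mem_img, mem_img]
      constructor
      · rintro ⟨x, hx, rfl⟩
        exact ⟨Subgroup.inclusion h x, hx, rfl⟩
      · rintro ⟨x, hx, rfl⟩
        refine ⟨Subgroup.inclusion h' x, hx, ?_⟩
        show ψ₂ _ = ψ₂ x
        congr 1
    rw [hsub]
    have hQ₁ : Q₁ ≤ (P ⊔ Q₁) ⊔ Q₂ := le_sup_right.trans le_sup_left
    have hQ₂ : Q₂ ≤ (P ⊔ Q₁) ⊔ Q₂ := le_sup_right
    rw [Subgroup.subgroupOf_sup hQ₁ hQ₂, Subgroup.map_sup, himg₁', himg₂]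

/-- For a fusion system over a finite subgroup S, the subgroup generated by all subgroups normal in the system is itself normal in the system, hence its largest normal subgroup. -/
theorem result {Ω : Type*} [Group Ω] {S : Subgroup Ω} [Finite S] (F : Cfsg.FusionSystem S) : F.IsNormal F.core := by
  exact sSup_mem_of_sup_closed (S := S) {Q | F.IsNormal Q} (isNormal_bot F)
    (fun A hA B hB => isNormal_sup F hA hB) (fun A hA => hA.1)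

end Cfsg.Agent.S5145
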