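import Cfsg.Statements.S0028
import Cfsg.Agent.Helper24.Coprime

set_option autoImplicit false
open Cfsg

namespace Cfsg.Agent.S0028

/-- Thompson's P × Q Lemma: let a p-subgroup P and a subgroup Q of order prime to p centralise each other and normalise a p-subgroup U; if every element of U fixed by P is fixed by Q, then Q centralises U. -/
theorem result {G : Type*} [Group G] [Finite G] (p : ℕ) [Fact p.Prime]
    (P Q U : Subgroup G) (hP : IsPGroup p P) (hQ : (Nat.card Q).Coprime p) (hU : IsPGroup p U)
    (hPQ : P ≤ Subgroup.centralizer (Q : Set G))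
    (hPU : P ≤ Subgroup.normalizer (U : Set G)) (hQU : Q ≤ Subgroup.normalizer (U : Set G))
    (hC : U ⊓ Subgroup.centralizer (P : Set G) ≤ Subgroup.centralizer (Q : Set G)) :
    Q ≤ Subgroup.centralizer (U : Set G) := by
  intro a ha
  rw [Subgroup.mem_centralizer_iff]
  intro u hu
  have hoa : orderOf a ∣ Nat.card Q := by
    have : orderOf (⟨a, ha⟩ : Q) ∣ Nat.card Q := orderOf_dvd_natCard _
    rwa [Subgroup.orderOf_mk] at this
  have hcop : (orderOf a).Coprime p := Nat.Coprime.coprime_dvd_left hoa hQ
  have haP : ∀ b ∈ P, a * b = b * a := by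
    intro b hb
    have := hPQ hb
    rw [Subgroup.mem_centralizer_iff] at this
    exact this a ha
  have hC' : ∀ u ∈ U, (∀ b ∈ P, b * u = u * b) → a * u = u * a := by
    intro u hu hub
    have h1 : u ∈ U ⊓ Subgroup.centralizer (P : Set G) := by
      refine Subgroup.mem_inf.mpr ⟨hu, ?_⟩
      rw [Subgroup.mem_centralizer_iff]
      exact hub
    have h2 := hC h1
    rw [Subgroup.mem_centralizer_iff] at h2
    exact h2 a ha
  exact (Cfsg.Agent.Helper24.thompson_PxQ hU hP hPU (hQU ha) hcop haP hC' u hu).symm

end Cfsg.Agent.S0028
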