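import Cfsg.Statements.S0436

set_option autoImplicit false
open Cfsg

namespace Cfsg.Agent.S0436

/-- an involution squares to one -/
theorem sq_of_order_two {G : Type*} [Group G] {a : G} (h : orderOf a = 2) : a * a = 1 := by
  have := pow_orderOf_eq_one a
  rw [h, pow_two] at this
  exact this

/-- For two involutions whose product squares or cubes to the identity: either they commute, or
the braid relation holds. -/
theorem commute_or_braid {G : Type*} [Group G] {d e : G} (hd : d * d = 1) (he : e * e = 1)
    (h : (d * e) ^ 2 = 1 ∨ (d * e) ^ 3 = 1) : Commute d e ∨ d * e * d = e * d * e := by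
  rcases h with h | h
  · left
    -- d e d e = 1 → d e = e d
    have h1 : d * e * (d * e) = 1 := by rw [← pow_two]; exact h
    have : d * e = e * d := by
      calc d * e = d * e * (d * e) * (e * d) := by
            have : (d * e) * (e * d) = 1 := by
              calc d * e * (e * d) = d * (e * e) * d := by group
                _ = 1 := by rw [he, mul_one, hd]
            rw [mul_assoc (d * e) (d * e), this, mul_one]
        _ = e * d := by rw [h1, one_mul]
    exact this
  · right
    have h1 : d * e * (d * e) * (d * e) = 1 := by
      rw [← h]; simp [pow_succ]
    -- d e d e d e = 1 → d e d = (e d e)⁻¹ ... = e d e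
    have h2 : (e * d * e) * (e * d * e) = 1 := by
      calc e * d * e * (e * d * e) = e * d * (e * e) * d * e := by group
        _ = e * (d * d) * e := by rw [he]; group
        _ = 1 := by rw [hd, mul_one, he]
    calc d * e * d = d * e * d * ((e * d * e) * (e * d * e)) := by rw [h2, mul_one]
      _ = (d * e * (d * e) * (d * e)) * (e * d * e) := by group
      _ = e * d * e := by rw [h1, one_mul]

/-- For distinct commuting members a, b of a set of 3-transpositions E, a member e of E centralises the product a * b if and only if it centralises both a and b. -/
theorem result {G : Type*} [Group G] {E : Set G} (hE : Cfsg.IsThreeTranspositionSet E) {a b e : G} (ha : a ∈ E) (hb : b ∈ E) (he : e ∈ E) (hab : a ≠ b) (hcomm : Commute a b) : Commute e (a * b) ↔ (Commute e a ∧ Commute e b) := by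
  constructor
  · intro h
    have ha2 := sq_of_order_two (hE.1 a ha)
    have hb2 := sq_of_order_two (hE.1 b hb)
    have he2 := sq_of_order_two (hE.1 e he)
    -- a e a = b e b
    have hconj : a * e * a = b * e * b := by
      have h1 : e * (a * b) = (a * b) * e := h
      have hba : a * b = b * a := hcomm
      calc a * e * a = a * (e * (a * b)) * b := by
            rw [← mul_assoc e a b]
            calc a * e * a = a * e * a * (b * b) := by rw [hb2, mul_one]
              _ = a * (e * a * b) * b := by group
        _ = a * ((a * b) * e) * b := by rw [h1]
        _ = (a * a) * b * e * b := by group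
        _ = b * e * b := by rw [ha2, one_mul]
    have key : ∀ {a b : G}, a * a = 1 → b * b = 1 → a * e * a = b * e * b → Commute e b → Commute e a := by
      intro a b ha2 hb2 hconj hcb
      have : b * e * b = e := by
        have : e * b = b * e := hcb
        calc b * e * b = b * (e * b) := by group
          _ = b * (b * e) := by rw [this]
          _ = (b * b) * e := by group
          _ = e := by rw [hb2, one_mul]
      rw [this] at hconj
      show e * a = a * e
      calc e * a = (a * e * a) * a := by rw [hconj]
        _ = a * e * (a * a) := by group
        _ = a * e := by rw [ha2, mul_one]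
    rcases commute_or_braid he2 ha2 (hE.2 e he a ha) with hca | hbra
    · rcases commute_or_braid he2 hb2 (hE.2 e he b hb) with hcb | hbrb
      · exact ⟨hca, hcb⟩
      · exact ⟨hca, key hb2 ha2 hconj.symm hca⟩
    · rcases commute_or_braid he2 hb2 (hE.2 e he b hb) with hcb | hbrb
      · exact ⟨key ha2 hb2 hconj hcb, hcb⟩
      · exfalso
        apply hab
        -- e a e = a e a = b e b = e b e → a = b
        have h3 : e * a * e = e * b * e := by
          calc e * a * e = (a * e * a)⁻¹⁻¹ := by
                rw [inv_inv]
                -- braid: e a e = a e a
                exact hbra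
            _ = a * e * a := by rw [inv_inv]
            _ = b * e * b := hconj
            _ = e * b * e := hbrb.symm
        have h4 : e * a = e * b := mul_right_cancel h3
        exact mul_left_cancel h4
  · rintro ⟨h1, h2⟩
    exact h1.mul_right h2

end Cfsg.Agent.S0436
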