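import Cfsg.Statements.S0444
import Cfsg.Agent.S0436

set_option autoImplicit false
open Cfsg

namespace Cfsg.Agent.S0444

/-- multiplication table of the symmetric group on three letters, elements listed as
`1, s, t, st, ts, sts`. -/
def tbl : Fin 6 → Fin 6 → Fin 6 :=
  ![![0, 1, 2, 3, 4, 5], ![1, 0, 3, 2, 5, 4], ![2, 4, 0, 5, 1, 3], ![3, 5, 1, 4, 0, 2],
    ![4, 2, 5, 0, 3, 1], ![5, 3, 4, 1, 2, 0]]

/-- the six words in two involutions -/
def elt {G : Type*} [Group G] (d e : G) : Fin 6 → G := ![1, d, e, d * e, e * d, d * e * d]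

/-- the six permutations -/
def prm : Fin 6 → Equiv.Perm (Fin 3) :=
  ![1, Equiv.swap 0 1, Equiv.swap 1 2, Equiv.swap 0 1 * Equiv.swap 1 2,
    Equiv.swap 1 2 * Equiv.swap 0 1, Equiv.swap 0 1 * Equiv.swap 1 2 * Equiv.swap 0 1]

theorem prm_mul : ∀ i j, prm (tbl i j) = prm i * prm j := by decide

theorem prm_bij : Function.Bijective prm := by decide

theorem elt_mul {G : Type*} [Group G] {d e : G} (hd : d * d = 1) (he : e * e = 1)
    (hbr : d * e * d = e * d * e) : ∀ i j, elt d e (tbl i j) = elt d e i * elt d e j := by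
  have r1 : ∀ x, d * (d * x) = x := fun x => by rw [← mul_assoc, hd, one_mul]
  have r2 : ∀ x, e * (e * x) = x := fun x => by rw [← mul_assoc, he, one_mul]
  have r3 : e * (d * e) = d * (e * d) := by rw [← mul_assoc, ← mul_assoc, hbr]
  have r3' : ∀ x, e * (d * (e * x)) = d * (e * (d * x)) := fun x => by
    rw [← mul_assoc, ← mul_assoc, ← mul_assoc, ← mul_assoc, hbr]
  intro i j
  fin_cases i <;> fin_cases j <;>
    simp [elt, tbl, mul_assoc, hd, he, r1, r2, r3, r3']

/-- the equivalence of `Fin 6` with the symmetric group -/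
noncomputable def prmEquiv : Fin 6 ≃ Equiv.Perm (Fin 3) := Equiv.ofBijective prm prm_bij

theorem prm_symm (σ : Equiv.Perm (Fin 3)) : prm (prmEquiv.symm σ) = σ :=
  prmEquiv.apply_symm_apply σ

theorem prmEquiv_symm_mul (σ τ : Equiv.Perm (Fin 3)) :
    prmEquiv.symm (σ * τ) = tbl (prmEquiv.symm σ) (prmEquiv.symm τ) := by
  apply prm_bij.1
  rw [prm_symm, prm_mul, prm_symm, prm_symm]

/-- the homomorphism from the symmetric group -/
noncomputable def hom {G : Type*} [Group G] {d e : G} (hd : d * d = 1) (he : e * e = 1)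
    (hbr : d * e * d = e * d * e) : Equiv.Perm (Fin 3) →* G where
  toFun σ := elt d e (prmEquiv.symm σ)
  map_one' := by
    have : prmEquiv.symm 1 = 0 := by
      apply prmEquiv.injective
      rw [Equiv.apply_symm_apply]; rfl
    rw [this]; rfl
  map_mul' σ τ := by
    rw [prmEquiv_symm_mul, elt_mul hd he hbr]

/-- Two members of a set of 3-transpositions which do not commute generate a subgroup isomorphic to the symmetric group on three letters. -/
theorem result {G : Type*} [Group G] {E : Set G} (hE : Cfsg.IsThreeTranspositionSet E) {d e : G} (hd : d ∈ E) (he : e ∈ E) (h : ¬ Commute d e) : Nonempty (Subgroup.closure ({d, e} : Set G) ≃* Equiv.Perm (Fin 3)) := by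
  have hd2 := S0436.sq_of_order_two (hE.1 d hd)
  have he2 := S0436.sq_of_order_two (hE.1 e he)
  have hbr : d * e * d = e * d * e := by
    rcases S0436.commute_or_braid hd2 he2 (hE.2 d hd e he) with hc | hbr
    · exact absurd hc h
    · exact hbr
  have hd1 : d ≠ 1 := by
    rintro rfl
    exact h (Commute.one_left e)
  have he1 : e ≠ 1 := by
    rintro rfl
    exact h (Commute.one_right d)
  have hdinv : d⁻¹ = d := by rw [inv_eq_iff_mul_eq_one]; exact hd2
  have heinv : e⁻¹ = e := by rw [inv_eq_iff_mul_eq_one]; exact he2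
  have hde : d ≠ e := by
    rintro rfl
    exact h (Commute.refl d)
  set F := hom hd2 he2 hbr with hF
  -- injectivity
  have hker : ∀ i : Fin 6, elt d e i = 1 → i = 0 := by
    intro i hi
    fin_cases i
    · rfl
    · exact absurd hi hd1
    · exact absurd hi he1
    · exfalso
      apply hde
      have : d * e = 1 := hi
      rw [← heinv]; exact eq_inv_of_mul_eq_one_left this
    · exfalso
      apply hde
      have : e * d = 1 := hi
      rw [← hdinv]; exact (eq_inv_of_mul_eq_one_left this).symm
    · exfalso
      apply he1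
      have : d * e * d = 1 := hi
      calc e = d * (d * e * d) * d := by rw [mul_assoc d e d, ← mul_assoc d d, hd2, one_mul, mul_assoc, hd2, mul_one]
        _ = 1 := by rw [this, mul_one, hd2]
  have hinj : Function.Injective F := by
    rw [injective_iff_map_eq_one]
    intro σ hσ
    have h0 : prmEquiv.symm σ = 0 := hker _ hσ
    have : σ = prmEquiv 0 := by rw [← h0, Equiv.apply_symm_apply]
    rw [this]; rfl
  -- range
  have hrange : F.range = Subgroup.closure ({d, e} : Set G) := by
    apply le_antisymm
    · rintro x ⟨σ, rfl⟩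
      show elt d e (prmEquiv.symm σ) ∈ _
      have hdm : d ∈ Subgroup.closure ({d, e} : Set G) := Subgroup.subset_closure (by simp)
      have hem : e ∈ Subgroup.closure ({d, e} : Set G) := Subgroup.subset_closure (by simp)
      generalize prmEquiv.symm σ = i
      fin_cases i
      · exact Subgroup.one_mem _
      · exact hdm
      · exact hem
      · exact Subgroup.mul_mem _ hdm hem
      · exact Subgroup.mul_mem _ hem hdm
      · exact Subgroup.mul_mem _ (Subgroup.mul_mem _ hdm hem) hdm
    · rw [Subgroup.closure_le]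
      intro x hx
      rcases hx with rfl | rfl
      · refine ⟨prmEquiv 1, ?_⟩
        show elt x e (prmEquiv.symm (prmEquiv 1)) = x
        rw [Equiv.symm_apply_apply]; rfl
      · refine ⟨prmEquiv 2, ?_⟩
        show elt d x (prmEquiv.symm (prmEquiv 2)) = x
        rw [Equiv.symm_apply_apply]; rfl
  exact ⟨((MonoidHom.ofInjective hinj).trans (MulEquiv.subgroupCongr hrange)).symm⟩

end Cfsg.Agent.S0444
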