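import Mathlib
import Cfsg.Statements.S0602
import Cfsg.Agent.Helper10.Thompson

set_option autoImplicit false
open Cfsg

open Subgroup
open Cfsg.Agent

namespace Cfsg.Agent.S0602


/-- The Thompson subgroup is characteristic, and nontrivial as soon as p divides the group order. -/
theorem result {G : Type*} [Group G] [Finite G] {p : ℕ} [Fact p.Prime] : (Cfsg.thompsonSubgroup p G).Characteristic ∧ (p ∣ Nat.card G → Cfsg.thompsonSubgroup p G ≠ ⊥) := by
  have hp : p.Prime := Fact.out
  constructor
  · rw [Subgroup.characteristic_iff_map_le]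
    intro φ
    unfold Cfsg.thompsonSubgroup
    rw [Subgroup.map_le_iff_le_comap]
    apply sSup_le
    intro A hA
    rw [← Subgroup.map_le_iff_le_comap]
    exact le_sSup (Helper10.map_mem_maxElementaryAbelian φ hA)
  · intro hdvd hbot
    obtain ⟨x, hx⟩ := exists_prime_orderOf_dvd_card' p hdvd
    have hxp : x ^ p = 1 := by rw [← hx]; exact pow_orderOf_eq_one x
    have hZ := Helper10.isElementaryAbelian_zpowers hxp
    obtain ⟨A, hA⟩ := Helper10.exists_maxElementaryAbelian (G := G) p
    have hAJ := Helper10.le_thompsonSubgroup hA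
    rw [hbot, le_bot_iff] at hAJ
    have hcard := hA.2 _ hZ
    rw [hAJ, Nat.card_zpowers, hx, Subgroup.card_bot] at hcard
    exact absurd hcard (not_le.mpr hp.one_lt)

end Cfsg.Agent.S0602
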