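import Mathlib
import Cfsg.Statements.S0606
import Cfsg.Agent.Helper10.Thompson
import Cfsg.Agent.Helper10.Card

set_option autoImplicit false
open Cfsg

open Subgroup
open Cfsg.Agent

namespace Cfsg.Agent.S0606


/-- Elementary abelian p-subgroups of maximal order are best offenders on any normal elementary abelian p-subgroup. -/
theorem result {G : Type*} [Group G] [Finite G] {p : ℕ} [Fact p.Prime] (V : Subgroup G) [V.Normal] (hV : Cfsg.IsElementaryAbelian p V) (A : Subgroup G) (hA : A ∈ Cfsg.maxElementaryAbelianSubgroups p G) : Cfsg.IsBestOffenderOn p V A := by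
  have hAab : IsMulCommutative A := hA.1.1
  have hAC : A ≤ centralizer (A : Set G) := Subgroup.le_centralizer_iff_isMulCommutative.mpr hAab
  refine ⟨?_, ?_, ?_⟩
  · intro B hBA
    set W := V ⊓ centralizer (B : Set G) with hW
    have hWel : Cfsg.IsElementaryAbelian p W := Helper10.isElementaryAbelian_mono hV inf_le_left
    have hBel : Cfsg.IsElementaryAbelian p B := Helper10.isElementaryAbelian_mono hA.1 hBA
    have hcomm : ∀ w ∈ W, ∀ b ∈ B, w * b = b * w := by
      intro w hw b hb
      exact (Subgroup.mem_centralizer_iff.mp hw.2 b hb).symm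
    have hsup := Helper10.isElementaryAbelian_sup hWel hBel hcomm
    have h1 := hA.2 _ hsup
    have hWN : W ≤ normalizer (B : Set G) :=
      le_trans inf_le_right (Subgroup.centralizer_le_normalizer _)
    have h2 := Helper10.card_sup_mul_card_inf W B hWN
    have h3 : W ⊓ B ≤ V ⊓ centralizer (A : Set G) := by
      intro x hx
      exact ⟨hx.1.1, hAC (hBA hx.2)⟩
    have h4 := Subgroup.card_le_of_le h3
    calc Nat.card B * Nat.card W = Nat.card W * Nat.card B := mul_comm _ _
      _ = Nat.card (W ⊔ B : Subgroup G) * Nat.card (W ⊓ B : Subgroup G) := h2.symm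
      _ ≤ Nat.card A * Nat.card (V ⊓ centralizer (A : Set G) : Subgroup G) := Nat.mul_le_mul h1 h4
  · have : ⁅A, A⁆ = ⊥ := Subgroup.commutator_eq_bot_iff_le_centralizer.mpr hAC
    rw [this]; exact bot_le
  · intro a ha
    rw [hA.1.2 a ha]
    exact Subgroup.one_mem _

end Cfsg.Agent.S0606
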