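import Mathlib
import Cfsg.Statements.S0600
import Cfsg.Agent.Lib.Cores

set_option autoImplicit false
open Cfsg

open Cfsg

namespace Cfsg.Agent.S0600


/-- A normal elementary abelian p-subgroup generated by the fixed points of the Sylow p-subgroups admits no nontrivial normal p-subgroup of G modulo its centralizer. -/
theorem result {G : Type*} [Group G] [Finite G] {p : ℕ} [Fact p.Prime] (V : Subgroup G) [V.Normal] (hV : Cfsg.IsElementaryAbelian p V) (hgen : V = ⨆ S : Sylow p G, V ⊓ Subgroup.centralizer ((S : Subgroup G) : Set G)) : Cfsg.pCore p (G ⧸ Subgroup.centralizer (V : Set G)) = ⊥ := by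
  set C := Subgroup.centralizer (V : Set G) with hC
  set π := QuotientGroup.mk' C with hπ
  have hπs : Function.Surjective π := QuotientGroup.mk'_surjective C
  rw [eq_bot_iff]
  intro x hx
  obtain ⟨d, rfl⟩ := hπs x
  rw [Subgroup.mem_bot, hπ, QuotientGroup.mk'_apply, QuotientGroup.eq_one_iff, hC,
    Subgroup.mem_centralizer_iff]
  -- V ≤ centralizer {d}
  have key : V ≤ Subgroup.centralizer {d} := by
    rw [hgen]
    apply iSup_le
    intro S v hv
    rw [Subgroup.mem_centralizer_iff]
    intro d' hd'
    rw [Set.mem_singleton_iff] at hd'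
    subst hd'
    -- π d ∈ π(S)
    have h1 : π d' ∈ ((S.mapSurjective hπs : Sylow p (G ⧸ C)) : Subgroup (G ⧸ C)) :=
      Cfsg.Agent.Lib.pCore_le_sylow _ hx
    obtain ⟨s, hs, hsd⟩ := h1
    have h2 : s⁻¹ * d' ∈ C := by
      rw [← QuotientGroup.eq]
      exact hsd
    have hvS := (Subgroup.mem_centralizer_iff.mp hv.2) s hs
    have hvC := (Subgroup.mem_centralizer_iff.mp h2) v hv.1
    -- d' = s * (s⁻¹ * d')
    calc d' * v = s * ((s⁻¹ * d') * v) := by group
      _ = s * (v * (s⁻¹ * d')) := by rw [hvC]
      _ = (s * v) * (s⁻¹ * d') := by group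
      _ = (v * s) * (s⁻¹ * d') := by rw [hvS]
      _ = v * d' := by group
  intro v hv
  have := Subgroup.mem_centralizer_iff.mp (key hv) d rfl
  exact this.symm

end Cfsg.Agent.S0600
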