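import Mathlib
import Cfsg.Statements.S0601
import Cfsg.Agent.Lib.Cores
import Cfsg.Agent.S0600

set_option autoImplicit false
open Cfsg

open Cfsg

namespace Cfsg.Agent.S0601

/-- The closure of a set of pairwise commuting elements of exponent `p` is elementary abelian. -/
theorem isElementaryAbelian_closure {G : Type*} [Group G] (p : ℕ) (T : Set G)
    (hc : ∀ x ∈ T, ∀ y ∈ T, x * y = y * x) (hp : ∀ x ∈ T, x ^ p = 1) :
    Cfsg.IsElementaryAbelian p (Subgroup.closure T) := by
  have h1 : Subgroup.closure T ≤ Subgroup.centralizer T := by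
    rw [Subgroup.closure_le]
    intro x hx
    rw [SetLike.mem_coe, Subgroup.mem_centralizer_iff]
    intro y hy
    exact hc y hy x hx
  have h2 : Subgroup.closure T ≤ Subgroup.centralizer (Subgroup.closure T : Set G) := by
    rw [Subgroup.closure_le]
    intro x hx
    rw [SetLike.mem_coe, Subgroup.mem_centralizer_iff]
    intro y hy
    exact ((Subgroup.mem_centralizer_iff.mp (h1 hy)) x hx).symm
  have hcomm : ∀ x ∈ Subgroup.closure T, ∀ y ∈ Subgroup.closure T, x * y = y * x := by
    intro x hx y hy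
    exact ((Subgroup.mem_centralizer_iff.mp (h2 hy)) x hx)
  refine ⟨⟨⟨fun a b => Subtype.ext (hcomm a a.2 b b.2)⟩⟩, ?_⟩
  intro a ha
  induction ha using Subgroup.closure_induction with
  | mem x hx => exact hp x hx
  | one => exact one_pow p
  | mul x y hx hy hx' hy' =>
    have : Commute x y := hcomm x hx y hy
    rw [this.mul_pow, hx', hy', one_mul]
  | inv x hx hx' => rw [inv_pow, hx', inv_one]

/-- When O_p(G) contains its centralizer, the normal closure of Ω₁(Z(S)) is elementary abelian and G has no nontrivial normal p-subgroup modulo its centralizer. -/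
theorem result {G : Type*} [Group G] [Finite G] {p : ℕ} [Fact p.Prime] (hc : Subgroup.centralizer (Cfsg.pCore p G : Set G) ≤ Cfsg.pCore p G) : (⨆ S : Sylow p G, Cfsg.omegaOne p (((S : Subgroup G)) ⊓ Subgroup.centralizer ((S : Subgroup G) : Set G))).Normal ∧ Cfsg.IsElementaryAbelian p (⨆ S : Sylow p G, Cfsg.omegaOne p (((S : Subgroup G)) ⊓ Subgroup.centralizer ((S : Subgroup G) : Set G))) ∧ ∀ D : Subgroup G, D.Normal → Subgroup.centralizer ((⨆ S : Sylow p G, Cfsg.omegaOne p (((S : Subgroup G)) ⊓ Subgroup.centralizer ((S : Subgroup G) : Set G)) : Subgroup G) : Set G) ≤ D → (∃ k : ℕ, (Subgroup.centralizer ((⨆ S : Sylow p G, Cfsg.omegaOne p (((S : Subgroup G)) ⊓ Subgroup.centralizer ((S : Subgroup G) : Set G)) : Subgroup G) : Set G)).relIndex D = p ^ k) → D = Subgroup.centralizer ((⨆ S : Sylow p G, Cfsg.omegaOne p (((S : Subgroup G)) ⊓ Subgroup.centralizer ((S : Subgroup G) : Set G)) : Subgroup G) : Set G) := by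
  set T : Set G := {x | ∃ S : Sylow p G, x ∈ (S : Subgroup G) ⊓ Subgroup.centralizer ((S : Subgroup G) : Set G) ∧ x ^ p = 1} with hT
  have hWT : (⨆ S : Sylow p G, Cfsg.omegaOne p (((S : Subgroup G)) ⊓ Subgroup.centralizer ((S : Subgroup G) : Set G))) = Subgroup.closure T := by
    unfold Cfsg.omegaOne
    rw [← Subgroup.closure_iUnion]
    congr 1
    ext x
    simp only [Set.mem_iUnion, Set.mem_ofPred_eq, hT]
  have hgenle : ∀ S : Sylow p G, Cfsg.omegaOne p (((S : Subgroup G)) ⊓ Subgroup.centralizer ((S : Subgroup G) : Set G)) ≤ Subgroup.centralizer ((S : Subgroup G) : Set G) := by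
    intro S
    unfold Cfsg.omegaOne
    rw [Subgroup.closure_le]
    intro x hx
    exact hx.1.2
  generalize hW : (⨆ S : Sylow p G, Cfsg.omegaOne p (((S : Subgroup G)) ⊓ Subgroup.centralizer ((S : Subgroup G) : Set G))) = W at *
  have hnormal : W.Normal := by
    constructor
    intro n hn g
    rw [hWT] at hn ⊢
    induction hn using Subgroup.closure_induction with
    | mem x hx =>
      apply Subgroup.subset_closure
      obtain ⟨S, hxS, hxp⟩ := hx
      refine ⟨g • S, Subgroup.mem_inf.mpr ⟨?_, ?_⟩, ?_⟩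
      · rw [Sylow.coe_subgroup_smul, Subgroup.mem_pointwise_smul_iff_inv_smul_mem]
        simp only [MulAut.smul_def, ← map_inv, MulAut.conj_apply, inv_inv]
        have h0 : g⁻¹ * (g * x * g⁻¹) * g = x := by group
        rw [h0]
        exact (Subgroup.mem_inf.mp hxS).1
      · rw [Subgroup.mem_centralizer_iff]
        intro y hy
        rw [SetLike.mem_coe, Sylow.coe_subgroup_smul, Subgroup.mem_pointwise_smul_iff_inv_smul_mem] at hy
        simp only [MulAut.smul_def, ← map_inv, MulAut.conj_apply, inv_inv] at hy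
        have := (Subgroup.mem_centralizer_iff.mp (Subgroup.mem_inf.mp hxS).2) _ hy
        calc y * (g * x * g⁻¹) = g * ((g⁻¹ * y * g) * x) * g⁻¹ := by group
          _ = g * (x * (g⁻¹ * y * g)) * g⁻¹ := by rw [this]
          _ = g * x * g⁻¹ * y := by group
      · rw [conj_pow, hxp]; group
    | one => simp
    | mul x y hx hy hx' hy' =>
      have : g * (x * y) * g⁻¹ = (g * x * g⁻¹) * (g * y * g⁻¹) := by group
      rw [this]
      exact Subgroup.mul_mem _ hx' hy'
    | inv x hx hx' =>
      have : g * x⁻¹ * g⁻¹ = (g * x * g⁻¹)⁻¹ := by group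
      rw [this]
      exact Subgroup.inv_mem _ hx'
  have helem : Cfsg.IsElementaryAbelian p W := by
    rw [hWT]
    apply isElementaryAbelian_closure
    · rintro x ⟨S₁, hx, _⟩ y ⟨S₂, hy, _⟩
      have hy1 : y ∈ Subgroup.centralizer (Cfsg.pCore p G : Set G) :=
        Subgroup.centralizer_le (Cfsg.Agent.Lib.pCore_le_sylow S₂) hy.2
      have hy2 : y ∈ (S₁ : Subgroup G) := Cfsg.Agent.Lib.pCore_le_sylow S₁ (hc hy1)
      exact ((Subgroup.mem_centralizer_iff.mp hx.2) y hy2).symm
    · rintro x ⟨S, _, hxp⟩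
      exact hxp
  refine ⟨hnormal, helem, ?_⟩
  intro D hDn hCD hk
  obtain ⟨k, hk⟩ := hk
  apply le_antisymm _ hCD
  have hgen : W = ⨆ S : Sylow p G, W ⊓ Subgroup.centralizer ((S : Subgroup G) : Set G) := by
    apply le_antisymm
    · conv_lhs => rw [← hW]
      apply iSup_mono
      intro S
      apply le_inf _ (hgenle S)
      rw [← hW]
      exact le_iSup (fun S : Sylow p G => Cfsg.omegaOne p (((S : Subgroup G)) ⊓ Subgroup.centralizer ((S : Subgroup G) : Set G))) S
    · exact iSup_le fun S => inf_le_left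
  have h600 := Cfsg.Agent.S0600.result W helem hgen
  set C := Subgroup.centralizer (W : Set G) with hC
  -- D.map π is a normal p-subgroup
  have hmapn : (D.map (QuotientGroup.mk' C)).Normal := hDn.map _ (QuotientGroup.mk'_surjective C)
  have hmapp : IsPGroup p (D.map (QuotientGroup.mk' C)) := by
    rintro ⟨_, d, hd, rfl⟩
    refine ⟨k, ?_⟩
    apply Subtype.ext
    simp only [SubgroupClass.coe_pow, Subgroup.coe_one]
    rw [← map_pow, QuotientGroup.mk'_apply, QuotientGroup.eq_one_iff]
    have : (C.subgroupOf D).Normal := Subgroup.Normal.subgroupOf (inferInstance) D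
    have h1 := Subgroup.pow_index_mem (C.subgroupOf D) (⟨d, hd⟩ : D)
    rw [← Subgroup.relIndex, hk, Subgroup.mem_subgroupOf] at h1
    simpa using h1
  have hle := Cfsg.Agent.Lib.le_pCore hmapn hmapp
  rw [h600] at hle
  intro d hd
  rw [← QuotientGroup.eq_one_iff (N := C), ← QuotientGroup.mk'_apply]
  exact Subgroup.mem_bot.mp (hle ⟨d, hd, rfl⟩)

end Cfsg.Agent.S0601
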