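import Mathlib
import Cfsg.Statements.S0604
import Cfsg.Agent.Helper10.ThompsonOf

set_option autoImplicit false
open Cfsg

open Subgroup
open Cfsg.Agent

namespace Cfsg.Agent.S0604


/-- The Thompson subgroup of G is the join of the Thompson subgroups of its Sylow p-subgroups. -/
theorem result {G : Type*} [Group G] [Finite G] {p : ℕ} [Fact p.Prime] : Cfsg.thompsonSubgroup p G = ⨆ S : Sylow p G, Cfsg.thompsonSubgroupOf p (S : Subgroup G) := by
  obtain ⟨A₁, hA₁⟩ := Helper10.exists_maxElementaryAbelian (G := G) p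
  obtain ⟨S₁, hS₁⟩ := (Helper10.isElementaryAbelian_isPGroup hA₁.1).exists_le_sylow
  -- each Sylow contains a maximal elementary abelian subgroup
  have hex : ∀ S : Sylow p G, ∃ A₀ ∈ Cfsg.maxElementaryAbelianSubgroups p G, A₀ ≤ (S : Subgroup G) := by
    intro S
    obtain ⟨g, hg⟩ := MulAction.exists_smul_eq G S₁ S
    refine ⟨A₁.map (MulAut.conj g).toMonoidHom, Helper10.map_mem_maxElementaryAbelian _ hA₁, ?_⟩
    rw [← hg, Sylow.coe_subgroup_smul]
    rintro _ ⟨a, ha, rfl⟩
    rw [Subgroup.mem_pointwise_smul_iff_inv_smul_mem]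
    simp only [MulAut.smul_def, ← map_inv, MulAut.conj_apply, inv_inv, MulEquiv.coe_toMonoidHom]
    have : g⁻¹ * (g * a * g⁻¹) * g = a := by group
    rw [this]
    exact hS₁ ha
  apply le_antisymm
  · unfold Cfsg.thompsonSubgroup
    apply sSup_le
    intro A hA
    obtain ⟨S, hS⟩ := (Helper10.isElementaryAbelian_isPGroup hA.1).exists_le_sylow
    refine le_trans ?_ (le_iSup _ S)
    rw [Helper10.thompsonSubgroupOf_eq_sSup hA hS]
    exact le_sSup ⟨hA, hS⟩
  · apply iSup_le
    intro S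
    obtain ⟨A₀, hA₀, hA₀S⟩ := hex S
    rw [Helper10.thompsonSubgroupOf_eq_sSup hA₀ hA₀S]
    apply sSup_le
    rintro A ⟨hA, _⟩
    exact Helper10.le_thompsonSubgroup hA

end Cfsg.Agent.S0604
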