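import Cfsg.Statements.S0608
import Cfsg.Agent.Helper11.ThompsonFact

set_option autoImplicit false
open Cfsg

namespace Cfsg.Agent.S0608

open Cfsg.Agent.Helper11 in
/-- With trivial p'-core, Thompson factorizability is equivalent to J(G) centralizing the subgroup generated by all Ω₁(Z(S)), S Sylow. -/
theorem result {G : Type*} [Group G] [Finite G] {p : ℕ} [Fact p.Prime] (hO : Cfsg.pPrimeCore p G = ⊥) : Cfsg.IsThompsonFactorizable p G ↔ Cfsg.thompsonSubgroup p G ≤ Subgroup.centralizer ((⨆ S : Sylow p G, Cfsg.omegaOne p (((S : Subgroup G)) ⊓ Subgroup.centralizer ((S : Subgroup G) : Set G)) : Subgroup G) : Set G) := by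
  constructor
  · intro hTF
    -- key elementwise statement
    have key : ∀ S T : Sylow p G, ∀ y ∈ Cfsg.thompsonSubgroupOf p (S : Subgroup G),
        ∀ w ∈ (T : Subgroup G) ⊓ Subgroup.centralizer ((T : Subgroup G) : Set G), w ^ p = 1 →
        y * w = w * y := by
      intro S T y hy w hw hwp
      obtain ⟨g, hg⟩ := MulAction.exists_smul_eq G S T
      obtain ⟨x, hx, c, hc, n, hn, hgx⟩ := hTF S g⁻¹
      rw [hO, Subgroup.mem_bot] at hx
      subst hx
      rw [one_mul] at hgx
      have hg' : g = n⁻¹ * c⁻¹ := by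
        have : g = (g⁻¹)⁻¹ := by simp
        rw [this, hgx]; group
      rw [Subgroup.mem_inf] at hw
      obtain ⟨hwT, hwC⟩ := hw
      rw [← hg, mem_smul_sylow_iff] at hwT
      -- w' = g⁻¹ w g ∈ Ω₁Z(S)
      have hw'Z : g⁻¹ * w * g ∈ Subgroup.centralizer ((S : Subgroup G) : Set G) := by
        rw [Subgroup.mem_centralizer_iff]
        intro s hs
        have hgs : g * s * g⁻¹ ∈ ((T : Subgroup G) : Set G) := by
          rw [SetLike.mem_coe, ← hg, mem_smul_sylow_iff]
          have : g⁻¹ * (g * s * g⁻¹) * g = s := by group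
          rw [this]; exact hs
        have h1 := Subgroup.mem_centralizer_iff.mp hwC _ hgs
        have h2 : s * (g⁻¹ * w * g) = g⁻¹ * ((g * s * g⁻¹) * w) * g := by group
        rw [h2, h1]; group
      have hw'O : g⁻¹ * w * g ∈ Cfsg.omegaOne p ((S : Subgroup G) ⊓ Subgroup.centralizer ((S : Subgroup G) : Set G)) := by
        apply Subgroup.subset_closure
        refine ⟨Subgroup.mem_inf.mpr ⟨hwT, hw'Z⟩, ?_⟩
        have := conj_pow (a := g⁻¹) (b := w) (i := p)
        rw [inv_inv] at this
        rw [this, hwp]; group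
      have hcw := Subgroup.mem_centralizer_iff.mp hc _ hw'O
      -- n y n⁻¹ ∈ J(S) ≤ S commutes with w'
      have hny : n * y * n⁻¹ ∈ Cfsg.thompsonSubgroupOf p (S : Subgroup G) :=
        (Subgroup.mem_normalizer_iff.mp hn y).mp hy
      have hnyS : n * y * n⁻¹ ∈ ((S : Subgroup G) : Set G) := thompsonSubgroupOf_le p _ hny
      have h3 := Subgroup.mem_centralizer_iff.mp hw'Z _ hnyS
      -- w = n⁻¹ w' n
      have hw_eq : w = n⁻¹ * (g⁻¹ * w * g) * n := by
        have h4 : c⁻¹ * (g⁻¹ * w * g) * c = g⁻¹ * w * g := by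
          rw [mul_assoc, hcw]; group
        have h5 : w = g * (g⁻¹ * w * g) * g⁻¹ := by group
        have h6 : g * (g⁻¹ * w * g) * g⁻¹ = n⁻¹ * (c⁻¹ * (g⁻¹ * w * g) * c) * n := by
          rw [hg']; group
        rw [h4] at h6
        rw [← h6]; exact h5
      have h7 : y * (n⁻¹ * (g⁻¹ * w * g) * n) = n⁻¹ * ((n * y * n⁻¹) * (g⁻¹ * w * g)) * n := by group
      have h8 : n⁻¹ * (g⁻¹ * w * g) * n * y = n⁻¹ * ((g⁻¹ * w * g) * (n * y * n⁻¹)) * n := by group
      rw [hw_eq, h7, h8, h3]
    rw [Cfsg.Agent.S0604.result, Subgroup.le_centralizer_iff]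
    apply iSup_le
    intro T
    unfold Cfsg.omegaOne
    rw [Subgroup.closure_le]
    rintro w ⟨hw, hwp⟩
    rw [SetLike.mem_coe, Subgroup.mem_centralizer_iff]
    intro y hy
    rw [SetLike.mem_coe] at hy
    -- y in the iSup of J(S): use induction
    have hle : (⨆ S : Sylow p G, Cfsg.thompsonSubgroupOf p (S : Subgroup G)) ≤
        Subgroup.centralizer ({w} : Set G) := by
      apply iSup_le
      intro S y hy
      rw [Subgroup.mem_centralizer_iff]
      intro z hz
      rw [Set.mem_singleton_iff] at hz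
      subst hz
      exact (key S T y hy z hw hwp).symm
    have := Subgroup.mem_centralizer_iff.mp (hle hy) w (Set.mem_singleton w)
    exact this.symm
  · intro hJ S g
    have hVn : (⨆ S : Sylow p G, omegaZ p (S : Subgroup G) : Subgroup G).Normal := iSup_omegaZ_normal
    obtain ⟨K, hK⟩ : ∃ K : Subgroup G, K = Subgroup.centralizer
      ((⨆ S : Sylow p G, omegaZ p (S : Subgroup G) : Subgroup G) : Set G) := ⟨_, rfl⟩
    have hKn : K.Normal := by rw [hK]; infer_instance
    have hJK : Cfsg.thompsonSubgroup p G ≤ K := by rw [hK]; exact hJ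
    -- Frattini
    have hfr := Sylow.normalizer_sup_eq_top (Cfsg.Agent.Helper53.sylowInfNormal S K)
    rw [Cfsg.Agent.Helper53.coe_sylowInfNormal, Subgroup.subgroupOf_map_subtype, sup_comm] at hfr
    have hg : g ∈ K ⊔ Subgroup.normalizer (((S : Subgroup G) ⊓ K : Subgroup G) : Set G) := by
      rw [hfr]; exact Subgroup.mem_top g
    rw [← SetLike.mem_coe, Subgroup.normal_mul, Set.mem_mul] at hg
    obtain ⟨k, hk, n, hn, hkn⟩ := hg
    refine ⟨1, Subgroup.one_mem _, k, ?_, n, ?_, by rw [one_mul, hkn]⟩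
    · -- k centralizes Ω₁Z(S)
      rw [SetLike.mem_coe, hK] at hk
      refine Subgroup.centralizer_le ?_ hk
      exact le_iSup (fun S : Sylow p G => omegaZ p (S : Subgroup G)) S
    · -- n normalizes J(S)
      obtain ⟨A₀, hA₀, hA₀S⟩ := exists_maxElAb_le_sylow S
      rw [Cfsg.Agent.Helper10.thompsonSubgroupOf_eq_sSup hA₀ hA₀S]
      apply mem_normalizer_of_conj_mem
      have hle : sSup {A : Subgroup G | A ∈ Cfsg.maxElementaryAbelianSubgroups p G ∧ A ≤ (S : Subgroup G)} ≤
          (sSup {A : Subgroup G | A ∈ Cfsg.maxElementaryAbelianSubgroups p G ∧ A ≤ (S : Subgroup G)}).comap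
            (MulAut.conj n).toMonoidHom := by
        apply sSup_le
        rintro A ⟨hA, hAS⟩
        rw [← Subgroup.map_le_iff_le_comap]
        apply le_sSup
        refine ⟨Cfsg.Agent.Helper10.map_mem_maxElementaryAbelian _ hA, ?_⟩
        rintro _ ⟨a, ha, rfl⟩
        have haK : a ∈ K := hJK (Cfsg.Agent.Helper10.le_thompsonSubgroup hA ha)
        have h1 : a ∈ (S : Subgroup G) ⊓ K := Subgroup.mem_inf.mpr ⟨hAS ha, haK⟩
        have h2 := (Subgroup.mem_normalizer_iff.mp hn a).mp h1
        exact (Subgroup.mem_inf.mp h2).1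
      intro x hx
      exact hle hx

end Cfsg.Agent.S0608
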