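import Cfsg.Statements.S3806
import Cfsg.Agent.Helper63.MCFive

set_option autoImplicit false
open Cfsg

namespace Cfsg.Agent.S3806

open Subgroup Cfsg.Agent.Helper63.MC
open scoped commutatorElement

/-- an elementary abelian section of order `> p^k` contradicts sectional rank `≤ k`. -/
theorem not_sectionalPRankLE_of_section {S : Type*} [Group S] [Finite S] {p k : ℕ}
    (A M : Subgroup S) [hMn : (M.subgroupOf A).Normal]
    (hcomm : ∀ a ∈ A, ∀ b ∈ A, ⁅a, b⁆ ∈ M) (hexp : ∀ a ∈ A, a ^ p ∈ M)
    (hcard : p ^ k < (M.subgroupOf A).index) : ¬ Cfsg.SectionalPRankLE p k S := by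
  intro h
  have h1 := h A (M.subgroupOf A) ⊤ ?_ ?_
  · rw [Subgroup.card_top, ← Subgroup.index_eq_card] at h1
    omega
  · refine ⟨⟨fun x y => ?_⟩⟩
    obtain ⟨x, hx⟩ := x
    obtain ⟨y, hy⟩ := y
    apply Subtype.ext
    show x * y = y * x
    induction x using QuotientGroup.induction_on with | _ a => ?_
    induction y using QuotientGroup.induction_on with | _ b => ?_
    rw [← QuotientGroup.mk_mul, ← QuotientGroup.mk_mul, QuotientGroup.eq, Subgroup.mem_subgroupOf]
    have := hcomm (b : S)⁻¹ (inv_mem b.2) (a : S)⁻¹ (inv_mem a.2)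
    have e : (((a * b)⁻¹ * (b * a) : ↥A) : S) = ⁅(b : S)⁻¹, (a : S)⁻¹⁆ := by
      simp only [commutatorElement_def, Subgroup.coe_mul, Subgroup.coe_inv]; group
    rw [e]; exact this
  · intro x _
    induction x using QuotientGroup.induction_on with | _ a => ?_
    rw [← QuotientGroup.mk_pow, QuotientGroup.eq_one_iff, Subgroup.mem_subgroupOf]
    simpa using hexp a a.2

/-- `Commute (X^c W) (X^d W')` when `W, W'` commute with `X` and with each other. -/
theorem commute_aux {Q : Type*} [Group Q] {X W W' : Q} (h1 : Commute W X) (h2 : Commute W' X)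
    (h3 : Commute W W') (c d : ℤ) : Commute (X ^ c * W) (X ^ d * W') := by
  have a1 : Commute (X ^ c) (X ^ d) := (Commute.refl X).zpow_zpow c d
  have a2 : Commute (X ^ c) W' := (h2.zpow_right c).symm
  have a3 : Commute W (X ^ d) := h1.zpow_right d
  exact (a1.mul_right a2).mul_left (a3.mul_right h3)

/-- in a group of maximal class `γ_k` is abelian modulo `γ_{2k+1}`. -/
theorem comm_mem {S : Type*} [Group S] [Finite S] {p : ℕ} [hp : Fact p.Prime] {n : ℕ}
    (hcard : Nat.card S = p ^ n) (hcl : Group.nilpotencyClass S = n - 1) (hn : 3 ≤ n)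
    (k : ℕ) (hk : 2 ≤ k) (hkn : 2 * k + 1 ≤ n) :
    ∀ a ∈ L S (k - 1), ∀ b ∈ L S (k - 1), ⁅a, b⁆ ∈ L S (2 * k) := by
  -- pick x in L (k-1) outside L k
  have hne := L_succ_ne hcard hcl hn (by omega : 1 ≤ k - 1) (by omega : k - 1 + 1 ≤ n - 1)
  obtain ⟨x, hx, hx'⟩ := Set.not_subset.mp hne
  have hL := L_eq_sup_zpowers hcard hcl hn (by omega : 1 ≤ k - 1) (by omega : k - 1 + 1 ≤ n - 1)
    hx hx'
  have hk1 : k - 1 + 1 = k := by omega
  rw [hk1] at hL
  -- elements of L k commute with elements of L (k-1) modulo L (2k)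
  have hcen : ∀ w ∈ L S k, ∀ y ∈ L S (k - 1),
      Commute (QuotientGroup.mk w : S ⧸ L S (2 * k)) (QuotientGroup.mk y) := by
    intro w hw y hy
    rw [← commutatorElement_eq_one_iff_commute]
    have : (⁅(QuotientGroup.mk w : S ⧸ L S (2 * k)), (QuotientGroup.mk y : S ⧸ L S (2 * k))⁆)
        = QuotientGroup.mk ⁅w, y⁆ := by
      simp only [commutatorElement_def, QuotientGroup.mk_mul, QuotientGroup.mk_inv]
    rw [this, QuotientGroup.eq_one_iff]
    have h1 := L_comm (T := S) k (k - 1) (Subgroup.commutator_mem_commutator hw hy)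
    have h2 : k + (k - 1) + 1 = 2 * k := by omega
    rwa [h2] at h1
  intro a ha b hb
  rw [hL] at ha hb
  have ha' : a ∈ ((zpowers x ⊔ L S k : Subgroup S) : Set S) := ha
  have hb' : b ∈ ((zpowers x ⊔ L S k : Subgroup S) : Set S) := hb
  rw [Subgroup.mul_normal] at ha' hb'
  obtain ⟨u, hu, w, hw, rfl⟩ := Set.mem_mul.mp ha'
  obtain ⟨v, hv, w', hw', rfl⟩ := Set.mem_mul.mp hb'
  obtain ⟨c, rfl⟩ := mem_zpowers_iff.mp hu
  obtain ⟨d, rfl⟩ := mem_zpowers_iff.mp hv
  rw [← QuotientGroup.eq_one_iff]
  have : (QuotientGroup.mk ⁅x ^ c * w, x ^ d * w'⁆ : S ⧸ L S (2 * k))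
      = ⁅(QuotientGroup.mk x : S ⧸ L S (2 * k)) ^ c * QuotientGroup.mk w,
          (QuotientGroup.mk x : S ⧸ L S (2 * k)) ^ d * QuotientGroup.mk w'⁆ := by
    simp only [commutatorElement_def, QuotientGroup.mk_mul, QuotientGroup.mk_inv,
      QuotientGroup.mk_zpow]
  rw [this, commutatorElement_eq_one_iff_commute]
  have hw1 : w' ∈ L S (k - 1) := L_anti (by omega) hw'
  exact commute_aux (hcen w hw x hx) (hcen w' hw' x hx) (hcen w hw w' hw1) c d

/-- the lower central series of a quotient -/
theorem map_L {S : Type*} [Group S] (N : Subgroup S) [N.Normal] (j : ℕ) :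
    (L S j).map (QuotientGroup.mk' N) = L (S ⧸ N) j := by
  rw [Subgroup.map_lowerCentralSeries, Subgroup.map_top_of_surjective _ (QuotientGroup.mk'_surjective N)]

/-- Let p be a prime and S a finite p-group of order pⁿ (n ≥ 2) of maximal nilpotency class n − 1 whose sectional p-rank is exactly k (every section has p-rank at most k, and some section has p-rank k). If p ≥ k + 2 then the order of S is at most p^(2k). -/
theorem result {S : Type*} [Group S] [Finite S] (p : ℕ) [Fact p.Prime] (hS : IsPGroup p S) [Group.IsNilpotent S]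
    (n : ℕ) (hn : 2 ≤ n) (hcard : Nat.card S = p ^ n) (hmax : Group.nilpotencyClass S = n - 1)
    (k : ℕ) (hk : 1 ≤ k) (hsr : Cfsg.SectionalPRankLE p k S ∧ ¬ Cfsg.SectionalPRankLE p (k - 1) S)
    (hpk : k + 2 ≤ p) : Nat.card S ≤ p ^ (2 * k) := by
  have hp : p.Prime := Fact.out
  by_contra hnot
  push Not at hnot
  rw [hcard] at hnot
  have hkn : 2 * k + 1 ≤ n := by
    have := (Nat.pow_lt_pow_iff_right hp.one_lt).mp hnot
    omega
  have hn3 : 3 ≤ n := by omega
  rcases Nat.lt_or_ge k 2 with hk2 | hk2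
  · -- k = 1 : the abelianization has rank two
    have hk1 : k = 1 := by omega
    subst hk1
    refine not_sectionalPRankLE_of_section (⊤ : Subgroup S) (L S 1) ?_ ?_ ?_ hsr.1
    · intro a _ b _
      exact Subgroup.commutator_mem_commutator (Subgroup.mem_top a) (Subgroup.mem_top b)
    · intro a _
      exact pow_p_mem_L_one hcard hmax hn3 a
    · have hidx : (L S 1).index = p ^ 2 :=
        Cfsg.Agent.S0662.index_lcs n hcard hmax hn3 1 le_rfl (by omega)
      have : ((L S 1).subgroupOf ⊤).index = (L S 1).index := by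
        rw [← Subgroup.relIndex, Subgroup.relIndex_top_right]
      rw [this, hidx]
      exact Nat.pow_lt_pow_right hp.one_lt (by omega)
  · -- k ≥ 2
    have hidx : (L S (2 * k)).index = p ^ (2 * k + 1) :=
      Cfsg.Agent.S0662.index_lcs n hcard hmax hn3 (2 * k) (by omega) (by omega)
    have hcardT : Nat.card (S ⧸ L S (2 * k)) = p ^ (2 * k + 1) := by
      rw [← Subgroup.index_eq_card]; exact hidx
    have hpT : IsPGroup p (S ⧸ L S (2 * k)) := IsPGroup.of_card hcardT
    have _ : Group.IsNilpotent (S ⧸ L S (2 * k)) := hpT.isNilpotent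
    have hclT : Group.nilpotencyClass (S ⧸ L S (2 * k)) = 2 * k := by
      apply le_antisymm
      · rw [← Subgroup.lowerCentralSeries_eq_bot_iff_nilpotencyClass_le]
        show L (S ⧸ L S (2 * k)) (2 * k) = ⊥
        rw [← map_L, QuotientGroup.map_mk'_self]
      · by_contra hlt
        push Not at hlt
        have h1 : Group.nilpotencyClass (S ⧸ L S (2 * k)) ≤ 2 * k - 1 := by omega
        rw [← Subgroup.lowerCentralSeries_eq_bot_iff_nilpotencyClass_le] at h1
        have h2 : (L S (2 * k - 1)).map (QuotientGroup.mk' (L S (2 * k))) = ⊥ := by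
          rw [map_L]; exact h1
        rw [← le_bot_iff, Subgroup.map_le_iff_le_comap, MonoidHom.comap_bot,
          QuotientGroup.ker_mk'] at h2
        have h3 := L_succ_ne hcard hmax hn3 (by omega : 1 ≤ 2 * k - 1)
          (by omega : 2 * k - 1 + 1 ≤ n - 1)
        have h4 : 2 * k - 1 + 1 = 2 * k := by omega
        rw [h4] at h3
        exact h3 h2
    -- exponent p modulo L (2k)
    have hexpT : ∀ a ∈ L (S ⧸ L S (2 * k)) (k - 1), a ^ p = 1 := by
      rcases Nat.lt_or_ge k 3 with hk3 | hk3
      · have hk' : k = 2 := by omega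
        subst hk'
        have hp5 : 5 ≤ p := by
          have h4 : p ≠ 4 := by
            intro h
            rw [h] at hp
            exact absurd hp (by decide)
          omega
        exact pow_eq_one_of_five hp5 hcardT hclT
      · exact pow_eq_one_of_three_le k hk3 hpk hcardT hclT
    have hexp : ∀ a ∈ L S (k - 1), a ^ p ∈ L S (2 * k) := by
      intro a ha
      have h1 : (QuotientGroup.mk' (L S (2 * k))) a ∈ L (S ⧸ L S (2 * k)) (k - 1) := by
        rw [← map_L]; exact Subgroup.mem_map_of_mem _ ha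
      have h2 := hexpT _ h1
      rw [← map_pow] at h2
      exact (QuotientGroup.eq_one_iff _).mp h2
    refine not_sectionalPRankLE_of_section (L S (k - 1)) (L S (2 * k))
      (comm_mem hcard hmax hn3 k hk2 hkn) hexp ?_ hsr.1
    have hle : L S (2 * k) ≤ L S (k - 1) := L_anti (by omega)
    have hrel : ((L S (2 * k)).subgroupOf (L S (k - 1))).index * (L S (k - 1)).index
        = (L S (2 * k)).index := Subgroup.relIndex_mul_index hle
    have hidx2 : (L S (k - 1)).index = p ^ k := by
      have := Cfsg.Agent.S0662.index_lcs n hcard hmax hn3 (k - 1) (by omega) (by omega)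
      rwa [show k - 1 + 1 = k by omega] at this
    rw [hidx, hidx2] at hrel
    have : ((L S (2 * k)).subgroupOf (L S (k - 1))).index = p ^ (k + 1) := by
      have h1 : p ^ (2 * k + 1) = p ^ (k + 1) * p ^ k := by rw [← pow_add]; congr 1; omega
      rw [h1] at hrel
      exact Nat.eq_of_mul_eq_mul_right (pow_pos hp.pos k) hrel
    rw [this]
    exact Nat.pow_lt_pow_right hp.one_lt (by omega)

end Cfsg.Agent.S3806
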