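import Mathlib
import Cfsg.Statements.S0262
import Cfsg.Agent.Helper5.ProjLine
import Cfsg.Agent.Helper5.SylowCyclic
import Cfsg.Agent.Helper41.PSL2Orders

set_option autoImplicit false
open Cfsg

namespace Cfsg.Agent.S0262

open Cfsg.Agent.Helper5 Cfsg.Agent.Helper41

/-- For an odd prime r different from the characteristic, the Sylow r-subgroups of SL_2(q) are cyclic. -/
theorem result {F : Type*} [Field F] [Fintype F] (p : ℕ) [Fact p.Prime] [CharP F p] (r : ℕ) [Fact r.Prime] (hr : r ≠ 2) (hrp : r ≠ p) (R : Sylow r (Matrix.SpecialLinearGroup (Fin 2) F)) : IsCyclic (R : Subgroup (Matrix.SpecialLinearGroup (Fin 2) F)) := by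
  classical
  have hrprime : r.Prime := Fact.out
  have hpprime : p.Prime := Fact.out
  set q := Fintype.card F with hqdef
  have hq1 : 1 < q := Fintype.one_lt_card
  have hcard : Nat.card (Matrix.SpecialLinearGroup (Fin 2) F) = q * (q ^ 2 - 1) := card_SL2
  obtain ⟨a, ha⟩ := (IsPGroup.iff_card.1 R.isPGroup')
  have hdvd : r ^ a ∣ q * (q ^ 2 - 1) := by
    rw [← ha, ← hcard]
    exact Subgroup.card_subgroup_dvd_card _
  have hfac : q ^ 2 - 1 = (q - 1) * (q + 1) := by
    obtain ⟨k, hk⟩ : ∃ k, q = k + 1 := ⟨q - 1, by omega⟩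
    rw [hk]
    have : (k + 1) ^ 2 = (k + 1 - 1) * (k + 1 + 1) + 1 := by
      simp only [Nat.add_sub_cancel]; ring
    omega
  -- r is coprime to q
  have hcopq : Nat.Coprime (r ^ a) q := by
    obtain ⟨⟨f, hfpos⟩, -, hf⟩ := FiniteField.card F p
    rw [hqdef, hf]
    apply Nat.Coprime.pow
    exact (Nat.coprime_primes hrprime hpprime).2 hrp
  have hdvd2 : r ^ a ∣ (q - 1) * (q + 1) := by
    rw [← hfac]
    exact hcopq.dvd_of_dvd_mul_left hdvd
  have hcop2 : Nat.Coprime (r ^ a) 2 := by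
    apply Nat.Coprime.pow_left
    exact (Nat.coprime_primes hrprime Nat.prime_two).2 hr
  -- r^a divides q-1 or q+1
  have hsplit : r ^ a ∣ (q - 1) ∨ r ^ a ∣ (q + 1) := by
    by_cases h1 : r ∣ q - 1
    · left
      have hnd : ¬ r ∣ q + 1 := by
        intro h2
        have : r ∣ (q + 1) - (q - 1) := Nat.dvd_sub h2 h1
        have h2' : (q + 1) - (q - 1) = 2 := by omega
        rw [h2'] at this
        exact hr ((Nat.prime_dvd_prime_iff_eq hrprime Nat.prime_two).1 this)
      have : Nat.Coprime (r ^ a) (q + 1) :=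
        Nat.Coprime.pow_left _ ((Nat.Prime.coprime_iff_not_dvd hrprime).2 hnd)
      exact this.dvd_of_dvd_mul_right hdvd2
    · right
      have : Nat.Coprime (r ^ a) (q - 1) :=
        Nat.Coprime.pow_left _ ((Nat.Prime.coprime_iff_not_dvd hrprime).2 h1)
      exact this.dvd_of_dvd_mul_left hdvd2
  -- the gcd d
  set d := Nat.gcd 2 (q - 1) with hd
  have hd1 : d ∣ q - 1 := Nat.gcd_dvd_right _ _
  have hd2 : d ∣ q + 1 := by
    rcases card_field_gcd_two (F := F) p with ⟨-, hd'⟩ | ⟨-, -, hd', hodd, -⟩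
    · rw [← hqdef] at hd'
      rw [hd, hd']; exact one_dvd _
    · rw [← hqdef] at hd' hodd
      rw [hd, hd']
      rcases hodd with ⟨k, hk⟩
      exact ⟨k + 1, by omega⟩
  have hcopd : Nat.Coprime (r ^ a) d :=
    Nat.Coprime.coprime_dvd_right (Nat.gcd_dvd_left _ _) hcop2
  have key : ∀ n, d ∣ n → r ^ a ∣ n → r ^ a ∣ n / d := by
    intro n hdn hn
    obtain ⟨k, hk⟩ := hdn
    have hdpos : 0 < d := Nat.gcd_pos_of_pos_left _ (by norm_num)
    rw [hk, Nat.mul_div_cancel_left _ hdpos]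
    rw [hk] at hn
    exact hcopd.dvd_of_dvd_mul_left hn
  -- an element of PSL₂ of order divisible by r^a
  obtain ⟨g, hg⟩ : ∃ g : Matrix.ProjectiveSpecialLinearGroup (Fin 2) F, r ^ a ∣ orderOf g := by
    rcases hsplit with h | h
    · obtain ⟨g, hg⟩ := psl2_exists_orderOf_eq_split (F := F)
      exact ⟨g, by rw [hg]; exact key _ hd1 h⟩
    · obtain ⟨g, hg⟩ := psl2_exists_orderOf_eq_nonsplit (F := F) p
      exact ⟨g, by rw [hg]; exact key _ hd2 h⟩
  obtain ⟨A, rfl⟩ := QuotientGroup.mk_surjective g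
  apply sylow_isCyclic_of_card_dvd_orderOf R A
  rw [ha]
  refine hg.trans ?_
  exact orderOf_map_dvd (QuotientGroup.mk' _) A

end Cfsg.Agent.S0262
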