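-- Statement S5016 (row 5016).
import Cfsg.Statements.S5016
import Cfsg.Agent.Helper83.RankOne2

set_option autoImplicit false
open Cfsg

namespace Cfsg.Agent.S5016

open Cfsg.Agent.Helper83 Matrix

variable {k : Type*} [Field k]

local notation "SL2" => Matrix.SpecialLinearGroup (Fin 2) k

/-- First basis vector. -/
def e0 : Fin 2 → k := Pi.single 0 1
/-- Second basis vector. -/
def e1 : Fin 2 → k := Pi.single 1 1

/-- Upper unitriangular element. -/
def U (c : k) : SL2 := SpecialLinearGroup.transvection (zero_ne_one : (0 : Fin 2) ≠ 1) c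
/-- Lower unitriangular element. -/
def L (c : k) : SL2 := SpecialLinearGroup.transvection (one_ne_zero : (1 : Fin 2) ≠ 0) c

theorem smul_e0 (g : SL2) : g • (e0 : Fin 2 → k) = ![g 0 0, g 1 0] := by
  rw [Matrix.SpecialLinearGroup.smul_def]
  ext i
  fin_cases i <;> simp [e0, Matrix.mulVec, dotProduct, Fin.sum_univ_two]

theorem smul_e1 (g : SL2) : g • (e1 : Fin 2 → k) = ![g 0 1, g 1 1] := by
  rw [Matrix.SpecialLinearGroup.smul_def]
  ext i
  fin_cases i <;> simp [e1, Matrix.mulVec, dotProduct, Fin.sum_univ_two]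

theorem e0_eq : (e0 : Fin 2 → k) = ![1, 0] := by
  ext i; fin_cases i <;> simp [e0]

theorem e1_eq : (e1 : Fin 2 → k) = ![0, 1] := by
  ext i; fin_cases i <;> simp [e1]

theorem det_eq (g : SL2) : g 0 0 * g 1 1 - g 0 1 * g 1 0 = 1 := by
  have := g.det_coe
  rwa [Matrix.det_fin_two] at this

theorem mem_stab_e1 (g : SL2) : g ∈ MulAction.stabilizer SL2 (e1 : Fin 2 → k) ↔
    g 0 1 = 0 ∧ g 0 0 = 1 ∧ g 1 1 = 1 := by
  rw [MulAction.mem_stabilizer_iff, smul_e1, e1_eq]
  constructor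
  · intro h
    have h0 : g 0 1 = 0 := by simpa using congrFun h 0
    have h1 : g 1 1 = 1 := by simpa using congrFun h 1
    refine ⟨h0, ?_, h1⟩
    have := det_eq g
    rw [h0, h1] at this
    simpa using this
  · rintro ⟨h0, _, h1⟩
    rw [h0, h1]

theorem mem_stab_e0 (g : SL2) : g ∈ MulAction.stabilizer SL2 (e0 : Fin 2 → k) ↔
    g 1 0 = 0 ∧ g 0 0 = 1 ∧ g 1 1 = 1 := by
  rw [MulAction.mem_stabilizer_iff, smul_e0, e0_eq]
  constructor
  · intro h
    have h0 : g 0 0 = 1 := by simpa using congrFun h 0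
    have h1 : g 1 0 = 0 := by simpa using congrFun h 1
    refine ⟨h1, h0, ?_⟩
    have := det_eq g
    rw [h0, h1] at this
    simpa using this
  · rintro ⟨h1, h0, _⟩
    rw [h0, h1]

theorem lower_eq : Cfsg.lowerUnipotentSL2 k = MulAction.stabilizer SL2 (e1 : Fin 2 → k) := by
  unfold Cfsg.lowerUnipotentSL2
  have : {g : SL2 | (g : Matrix (Fin 2) (Fin 2) k) 0 1 = 0 ∧ (g : Matrix (Fin 2) (Fin 2) k) 0 0 = 1 ∧
      (g : Matrix (Fin 2) (Fin 2) k) 1 1 = 1} = (MulAction.stabilizer SL2 (e1 : Fin 2 → k) : Set SL2) := by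
    ext g
    exact (mem_stab_e1 g).symm
  rw [this, Subgroup.closure_eq]

theorem upper_eq : Cfsg.upperUnipotentSL2 k = MulAction.stabilizer SL2 (e0 : Fin 2 → k) := by
  unfold Cfsg.upperUnipotentSL2
  have : {g : SL2 | (g : Matrix (Fin 2) (Fin 2) k) 1 0 = 0 ∧ (g : Matrix (Fin 2) (Fin 2) k) 0 0 = 1 ∧
      (g : Matrix (Fin 2) (Fin 2) k) 1 1 = 1} = (MulAction.stabilizer SL2 (e0 : Fin 2 → k) : Set SL2) := by
    ext g
    exact (mem_stab_e0 g).symm
  rw [this, Subgroup.closure_eq]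

theorem conjBy_stab (g : SL2) (v : Fin 2 → k) :
    Cfsg.conjBy (MulAction.stabilizer SL2 v) g = MulAction.stabilizer SL2 (g • v) :=
  (MulAction.stabilizer_smul_eq_stabilizer_map_conj g v).symm

theorem stab_smul {c : k} (hc : c ≠ 0) (v : Fin 2 → k) :
    MulAction.stabilizer SL2 (c • v) = MulAction.stabilizer SL2 v := by
  ext g
  rw [MulAction.mem_stabilizer_iff, MulAction.mem_stabilizer_iff, smul_comm]
  constructor
  · intro h
    have := congrArg (fun w => c⁻¹ • w) h
    simpa [smul_smul, inv_mul_cancel₀ hc] using this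
  · intro h; rw [h]

theorem U_apply (c : k) : ((U c : SL2) : Matrix (Fin 2) (Fin 2) k) = !![1, c; 0, 1] := by
  unfold U
  rw [SpecialLinearGroup.transvection_coe]
  ext i j; fin_cases i <;> fin_cases j <;> simp [Matrix.single]

theorem L_apply (c : k) : ((L c : SL2) : Matrix (Fin 2) (Fin 2) k) = !![1, 0; c, 1] := by
  unfold L
  rw [SpecialLinearGroup.transvection_coe]
  ext i j; fin_cases i <;> fin_cases j <;> simp [Matrix.single]

theorem U_inv (c : k) : (U c : SL2)⁻¹ = U (-c) := SpecialLinearGroup.transvection_inv _ c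
theorem L_inv (c : k) : (L c : SL2)⁻¹ = L (-c) := SpecialLinearGroup.transvection_inv _ c

theorem U_mem (c : k) : (U c : SL2) ∈ Cfsg.upperUnipotentSL2 k := by
  rw [upper_eq, mem_stab_e0, U_apply]; simp

theorem L_mem (c : k) : (L c : SL2) ∈ Cfsg.lowerUnipotentSL2 k := by
  rw [lower_eq, mem_stab_e1, L_apply]; simp

theorem eq_U_of_mem {g : SL2} (hg : g ∈ Cfsg.upperUnipotentSL2 k) : g = U (g 0 1) := by
  rw [upper_eq, mem_stab_e0] at hg
  obtain ⟨h1, h2, h3⟩ := hg
  apply Matrix.SpecialLinearGroup.ext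
  intro i j
  rw [U_apply]
  fin_cases i <;> fin_cases j <;> simp [h1, h2, h3]

theorem eq_L_of_mem {g : SL2} (hg : g ∈ Cfsg.lowerUnipotentSL2 k) : g = L (g 1 0) := by
  rw [lower_eq, mem_stab_e1] at hg
  obtain ⟨h1, h2, h3⟩ := hg
  apply Matrix.SpecialLinearGroup.ext
  intro i j
  rw [L_apply]
  fin_cases i <;> fin_cases j <;> simp [h1, h2, h3]

theorem U_zero : (U 0 : SL2) = 1 := SpecialLinearGroup.transvection_coeff_zero _
theorem L_zero : (L 0 : SL2) = 1 := SpecialLinearGroup.transvection_coeff_zero _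

theorem U_smul_e1 (c : k) : (U c : SL2) • (e1 : Fin 2 → k) = ![c, 1] := by
  rw [smul_e1, U_apply]; simp

theorem L_smul_e0 (c : k) : (L c : SL2) • (e0 : Fin 2 → k) = ![1, c] := by
  rw [smul_e0, L_apply]; simp

/-- The key conjugation identity. -/
theorem key_conj {s t : k} (hst : s * t = 1) :
    Cfsg.conjBy (Cfsg.lowerUnipotentSL2 k) (U s)⁻¹ = Cfsg.conjBy (Cfsg.upperUnipotentSL2 k) (L t)⁻¹ := by
  rw [lower_eq, upper_eq, conjBy_stab, conjBy_stab, U_inv, L_inv, U_smul_e1, L_smul_e0]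
  have hs : -s ≠ 0 := by
    intro h
    rw [neg_eq_zero] at h
    rw [h, zero_mul] at hst
    exact zero_ne_one hst
  rw [← stab_smul hs ![1, -t]]
  congr 1
  ext i
  fin_cases i
  · simp
  · simp [hst]

theorem U_ne_one {s : k} (hs : s ≠ 0) : (U s : SL2) ≠ 1 := by
  intro h
  have := congrArg (fun g : SL2 => (g : Matrix (Fin 2) (Fin 2) k) 0 1) h
  simp only [U_apply] at this
  simp at this
  exact hs this

theorem L_ne_one {s : k} (hs : s ≠ 0) : (L s : SL2) ≠ 1 := by
  intro h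
  have := congrArg (fun g : SL2 => (g : Matrix (Fin 2) (Fin 2) k) 1 0) h
  simp only [L_apply] at this
  simp at this
  exact hs this

theorem comm_lower : IsMulCommutative ↥(Cfsg.lowerUnipotentSL2 k) := by
  refine ⟨⟨?_⟩⟩
  rintro ⟨a, ha⟩ ⟨b, hb⟩
  apply Subtype.ext
  change a * b = b * a
  rw [eq_L_of_mem ha, eq_L_of_mem hb]
  unfold L
  rw [← SpecialLinearGroup.transvection_add, ← SpecialLinearGroup.transvection_add, add_comm]

theorem comm_upper : IsMulCommutative ↥(Cfsg.upperUnipotentSL2 k) := by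
  refine ⟨⟨?_⟩⟩
  rintro ⟨a, ha⟩ ⟨b, hb⟩
  apply Subtype.ext
  change a * b = b * a
  rw [eq_U_of_mem ha, eq_U_of_mem hb]
  unfold U
  rw [← SpecialLinearGroup.transvection_add, ← SpecialLinearGroup.transvection_add, add_comm]

theorem nilpotent_of_comm {G : Type*} [Group G] (A : Subgroup G) (h : IsMulCommutative ↥A) :
    Group.IsNilpotent ↥A := by
  let _ : CommGroup ↥A := { (inferInstance : Group ↥A) with mul_comm := fun a b => h.is_comm.comm a b }
  exact CommGroup.isNilpotent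

theorem pair : Cfsg.IsRankOnePair (Cfsg.lowerUnipotentSL2 k) (Cfsg.upperUnipotentSL2 k) where
  ne := by
    intro h
    have h1 : (L 1 : SL2) ∈ Cfsg.upperUnipotentSL2 k := h ▸ L_mem 1
    rw [upper_eq, mem_stab_e0, L_apply] at h1
    simp at h1
  nilpotent_left := nilpotent_of_comm _ comm_lower
  nilpotent_right := nilpotent_of_comm _ comm_upper
  cond_left := by
    intro a ha ha1
    rw [eq_L_of_mem ha] at ha1 ⊢
    have ht : a 1 0 ≠ 0 := by
      intro h; rw [h, L_zero] at ha1; exact ha1 rfl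
    refine ⟨U (a 1 0)⁻¹, U_mem _, U_ne_one (inv_ne_zero ht), key_conj (inv_mul_cancel₀ ht)⟩
  cond_right := by
    intro b hb hb1
    rw [eq_U_of_mem hb] at hb1 ⊢
    have ht : b 0 1 ≠ 0 := by
      intro h; rw [h, U_zero] at hb1; exact hb1 rfl
    refine ⟨L (b 0 1)⁻¹, L_mem _, L_ne_one (inv_ne_zero ht), (key_conj (mul_inv_cancel₀ ht)).symm⟩

theorem sup_eq_top : Cfsg.lowerUnipotentSL2 k ⊔ Cfsg.upperUnipotentSL2 k = ⊤ := by
  rw [eq_top_iff]
  intro g _
  refine Matrix.SL2.transvection_induction (fun g => g ∈ Cfsg.lowerUnipotentSL2 k ⊔ Cfsg.upperUnipotentSL2 k)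
    ?_ (fun A B hA hB => Subgroup.mul_mem _ hA hB) g
  intro i j hij c
  fin_cases i <;> fin_cases j
  · exact absurd rfl hij
  · exact Subgroup.mem_sup_right (U_mem c)
  · exact Subgroup.mem_sup_left (L_mem c)
  · exact absurd rfl hij

theorem special_identity {s t : k} (hst : s * t = 1) :
    (U s : SL2)⁻¹ * L t * U s = (L t)⁻¹ * (U s)⁻¹ * L t := by
  rw [U_inv, L_inv]
  apply Matrix.SpecialLinearGroup.ext
  intro i j
  simp only [Matrix.SpecialLinearGroup.coe_mul, U_apply, L_apply]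
  simp only [Matrix.mul_fin_two]
  fin_cases i <;> fin_cases j
  · simp
  · simp only [Fin.zero_eta, Fin.mk_one, Matrix.of_apply, Matrix.cons_val_zero, Matrix.cons_val_one]
    linear_combination (-s) * hst
  · simp only [Fin.zero_eta, Fin.mk_one, Matrix.of_apply, Matrix.cons_val_zero, Matrix.cons_val_one]
    linear_combination (-t) * hst
  · simp

/-- For any field k, the special linear group SL₂(k) is a special rank one group with abelian unipotent subgroups, the unipotent subgroups being the group of lower unitriangular matrices and the group of upper unitriangular matrices. -/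
theorem result (k : Type*) [Field k] :
    Cfsg.IsRankOneGroup (Matrix.SpecialLinearGroup (Fin 2) k) (Cfsg.lowerUnipotentSL2 k) (Cfsg.upperUnipotentSL2 k) ∧
    Cfsg.IsSpecialRankOnePair (Cfsg.lowerUnipotentSL2 k) (Cfsg.upperUnipotentSL2 k) ∧
    Cfsg.HasAbelianUnipotents (Cfsg.lowerUnipotentSL2 k) (Cfsg.upperUnipotentSL2 k) := by
  refine ⟨⟨sup_eq_top, pair⟩, ⟨pair, ?_⟩, comm_lower, comm_upper⟩
  intro a ha ha1 b hb hb1 hconj
  obtain ⟨t, rfl⟩ : ∃ t, a = L t := ⟨_, eq_L_of_mem ha⟩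
  have ht : t ≠ 0 := by
    intro h; rw [h, L_zero] at ha1; exact ha1 rfl
  -- b is the unique element with this property
  have h0 := key_conj (inv_mul_cancel₀ ht)
  have hbb : b⁻¹ = (U t⁻¹)⁻¹ :=
    rankOne_conj_inj (Cfsg.RankOnePair_symm pair) (Subgroup.inv_mem _ hb) (Subgroup.inv_mem _ (U_mem _))
      (hconj.trans h0.symm)
  have hb' : b = U t⁻¹ := inv_injective hbb
  rw [hb']
  exact special_identity (inv_mul_cancel₀ ht)

end Cfsg.Agent.S5016
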