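import Cfsg.Statements.S5035
-- import your own Cfsg.Agent.* helpers here

set_option autoImplicit false
open Cfsg

namespace Cfsg.Agent.S5035

theorem mem_conjBy {G : Type*} [Group G] (A : Subgroup G) (g x : G) :
    x ∈ conjBy A g ↔ g⁻¹ * x * g ∈ A := by
  unfold conjBy
  constructor
  · rintro ⟨a, ha, rfl⟩
    simpa [mul_assoc] using ha
  · intro h
    exact ⟨g⁻¹ * x * g, h, by simp [mul_assoc]⟩

theorem conjBy_map {G H : Type*} [Group G] [Group H] (f : G →* H) (A : Subgroup G) (g : G) :
    (conjBy A g).map f = conjBy (A.map f) (f g) := by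
  unfold conjBy
  rw [Subgroup.map_map, Subgroup.map_map]
  congr 1
  ext x
  simp

theorem conjBy_bot {G : Type*} [Group G] (g : G) : conjBy (⊥ : Subgroup G) g = ⊥ := by
  unfold conjBy
  simp

theorem conjBy_eq_bot {G : Type*} [Group G] {A : Subgroup G} {g : G} (h : conjBy A g = ⊥) : A = ⊥ := by
  rw [eq_bot_iff]
  intro x hx
  have h1 : g * x * g⁻¹ ∈ conjBy A g := by
    rw [mem_conjBy]
    simpa [mul_assoc] using hx
  rw [h, Subgroup.mem_bot] at h1
  rw [Subgroup.mem_bot]
  have h2 : x = g⁻¹ * (g * x * g⁻¹) * g := by group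
  rw [h2, h1]
  simp

theorem conjBy_one {G : Type*} [Group G] (A : Subgroup G) : conjBy A 1 = A := by
  ext x
  rw [mem_conjBy]
  simp

theorem conjBy_of_mem {G : Type*} [Group G] {A : Subgroup G} {g : G} (hg : g ∈ A) : conjBy A g = A := by
  ext x
  rw [mem_conjBy]
  constructor
  · intro h
    have h2 : x = g * (g⁻¹ * x * g) * g⁻¹ := by group
    rw [h2]
    exact A.mul_mem (A.mul_mem hg h) (A.inv_mem hg)
  · intro h
    exact A.mul_mem (A.mul_mem (A.inv_mem hg) h) hg

theorem conjBy_eq_symm {G : Type*} [Group G] {A B : Subgroup G} {g : G} (h : A = conjBy B g⁻¹) :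
    B = conjBy A g := by
  ext x
  rw [mem_conjBy, h, mem_conjBy]
  constructor
  · intro hx
    simpa [mul_assoc] using hx
  · intro hx
    simpa [mul_assoc] using hx

/-- images of a rank-one pair with distinct images form a rank-one pair -/
theorem rankOneCondition_map {G H : Type*} [Group G] [Group H] (f : G →* H) {A B : Subgroup G}
    (h : RankOneCondition A B) (hne : A.map f ≠ B.map f) : RankOneCondition (A.map f) (B.map f) := by
  rintro a' ⟨a, ha, rfl⟩ ha1
  have ha1' : a ≠ 1 := by
    rintro rfl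
    exact ha1 (map_one f)
  obtain ⟨b, hb, hb1, hab⟩ := h a ha ha1'
  have hab' := congrArg (Subgroup.map f) hab
  rw [conjBy_map, conjBy_map, map_inv, map_inv] at hab'
  refine ⟨f b, ⟨b, hb, rfl⟩, ?_, hab'⟩
  intro hfb
  rw [hfb, inv_one, conjBy_one] at hab'
  have h2 := conjBy_eq_symm hab'
  rw [conjBy_of_mem (Subgroup.mem_map_of_mem f ha)] at h2
  exact hne h2.symm

theorem isNilpotent_map {G H : Type*} [Group G] [Group H] (f : G →* H) (A : Subgroup G)
    (hA : Group.IsNilpotent A) : Group.IsNilpotent (A.map f) :=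
  Group.nilpotent_of_surjective (f.subgroupMap A) (f.subgroupMap_surjective A)

theorem isRankOnePair_map {G H : Type*} [Group G] [Group H] (f : G →* H) {A B : Subgroup G}
    (h : IsRankOnePair A B) (hne : A.map f ≠ B.map f) : IsRankOnePair (A.map f) (B.map f) :=
  ⟨hne, isNilpotent_map f A h.nilpotent_left, isNilpotent_map f B h.nilpotent_right,
    rankOneCondition_map f h.cond_left hne, rankOneCondition_map f h.cond_right (Ne.symm hne)⟩

theorem rootCommutatorCase_map {G H : Type*} [Group G] [Group H] (f : G →* H) {S : Set (Subgroup G)}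
    {A B : Subgroup G} (h : RootCommutatorCase S A B) :
    RootCommutatorCase ((fun A : Subgroup G => A.map f) '' S) (A.map f) (B.map f) := by
  obtain ⟨h1, h2, h3, h4⟩ := h
  have hcomm : ⁅A.map f, B.map f⁆ = (⁅A, B⁆).map f := (Subgroup.map_commutator A B f).symm
  refine ⟨?_, ?_, ?_, ?_⟩
  · rw [hcomm]
    exact ⟨_, h1, rfl⟩
  · rw [hcomm, ← Subgroup.map_sup]
    rintro c ⟨c0, hc0, rfl⟩ x ⟨x0, hx0, rfl⟩
    rw [← map_mul, ← map_mul, h2 c0 hc0 x0 hx0]
  · rintro a' ⟨a, ha, rfl⟩ ha1
    have ha1' : a ≠ 1 := by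
      rintro rfl
      exact ha1 (map_one f)
    rw [hcomm, ← h3 a ha ha1', MonoidHom.map_closure]
    congr 1
    ext y
    constructor
    · rintro ⟨b', ⟨b, hb, rfl⟩, rfl⟩
      exact ⟨_, ⟨b, hb, rfl⟩, by simp⟩
    · rintro ⟨_, ⟨b, hb, rfl⟩, rfl⟩
      exact ⟨f b, ⟨b, hb, rfl⟩, by simp⟩
  · rintro b' ⟨b, hb, rfl⟩ hb1
    have hb1' : b ≠ 1 := by
      rintro rfl
      exact hb1 (map_one f)
    rw [hcomm, ← h4 b hb hb1', MonoidHom.map_closure]
    congr 1
    ext y
    constructor
    · rintro ⟨a', ⟨a, ha, rfl⟩, rfl⟩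
      exact ⟨_, ⟨a, ha, rfl⟩, by simp⟩
    · rintro ⟨_, ⟨a, ha, rfl⟩, rfl⟩
      exact ⟨f a, ⟨a, ha, rfl⟩, by simp⟩

/-- if one member of a rank one pair maps to the trivial group, so does the other -/
theorem map_eq_bot_of_rankOnePair {G H : Type*} [Group G] [Group H] (f : G →* H) {A B : Subgroup G}
    (hA : A ≠ ⊥) (h : IsRankOnePair A B) (hAf : A.map f = ⊥) : B.map f = ⊥ := by
  obtain ⟨a, ha1⟩ := (Subgroup.ne_bot_iff_exists_ne_one.mp hA)
  have ha' : (a : G) ∈ A := a.2
  have ha1' : (a : G) ≠ 1 := fun h => ha1 (Subtype.ext h)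
  obtain ⟨b, hb, hb1, hab⟩ := h.cond_left a ha' ha1'
  have hab' := congrArg (Subgroup.map f) hab
  rw [conjBy_map, conjBy_map, hAf, conjBy_bot] at hab'
  exact conjBy_eq_bot hab'.symm


/-- Let S be a set of abstract root subgroups of G whose graph of rank one pairs is connected, and f a homomorphism from G onto a group H. Then either the images of the members of S form a set of abstract root subgroups of H whose graph of rank one pairs is again connected, or H equals the image of a member of S. -/
theorem result {G H : Type*} [Group G] [Group H] {S : Set (Subgroup G)} (hS : Cfsg.IsRootSubgroupSet S)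
    (hc : Cfsg.IsConnectedFamily (Cfsg.FAdj S) S) (f : G →* H) (hf : Function.Surjective f) :
    (Cfsg.IsRootSubgroupSet ((fun A : Subgroup G => A.map f) '' S) ∧
      Cfsg.IsConnectedFamily (Cfsg.FAdj ((fun A : Subgroup G => A.map f) '' S)) ((fun A : Subgroup G => A.map f) '' S)) ∨
    ∃ A ∈ S, A.map f = ⊤ := by
  by_cases hbot : ∃ A ∈ S, A.map f = ⊥
  · -- then everything maps to ⊥ and H is trivial
    right
    obtain ⟨A, hA, hAf⟩ := hbot
    have hall' : ∀ B, Relation.ReflTransGen (FAdj S) A B → B.map f = ⊥ := by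
      intro B hpath
      induction hpath with
      | refl => exact hAf
      | tail _ hXY ih =>
        obtain ⟨hX, hY, hpair⟩ := hXY
        exact map_eq_bot_of_rankOnePair f (hS.ne_bot _ hX) hpair ih
    have hall : ∀ B ∈ S, B.map f = ⊥ := fun B hB => hall' B (hc A hA B hB)
    have htop : (⊤ : Subgroup H) = ⊥ := by
      have h1 : (⊤ : Subgroup H) = (⨆ A ∈ S, A).map f := by
        rw [hS.generates, Subgroup.map_top_of_surjective f hf]
      rw [h1, Subgroup.map_iSup]
      simp only [Subgroup.map_iSup]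
      rw [eq_bot_iff]
      apply iSup_le
      intro B
      apply iSup_le
      intro hB
      rw [hall B hB]
    exact ⟨A, hA, by rw [hAf, htop]⟩
  · left
    push Not at hbot
    have hcommS : ∀ A ∈ S, IsMulCommutative (A.map f) := by
      intro A hA
      have := hS.commutative A hA
      infer_instance
    constructor
    · refine ⟨?_, ?_, ?_, ?_, ?_⟩
      · rintro _ ⟨A, hA, rfl⟩
        exact hcommS A hA
      · rintro _ ⟨A, hA, rfl⟩
        exact hbot A hA
      · rw [iSup_image]
        have h1 : (⊤ : Subgroup H) = (⨆ A ∈ S, A).map f := by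
          rw [hS.generates, Subgroup.map_top_of_surjective f hf]
        rw [h1, Subgroup.map_iSup]
        simp only [Subgroup.map_iSup]
      · rintro _ ⟨A, hA, rfl⟩ h
        obtain ⟨g, rfl⟩ := hf h
        exact ⟨conjBy A g, hS.conj_mem A hA g, conjBy_map f A g⟩
      · rintro _ ⟨A, hA, rfl⟩ _ ⟨B, hB, rfl⟩
        rcases hS.pair A hA B hB with h | h | h
        · left
          show ⁅A.map f, B.map f⁆ = ⊥
          rw [← Subgroup.map_commutator, h, Subgroup.map_bot]
        · by_cases hne : A.map f = B.map f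
          · left
            show ⁅A.map f, B.map f⁆ = ⊥
            rw [← hne]
            have := hcommS A hA
            rw [Subgroup.commutator_eq_bot_iff_le_centralizer]
            intro x hx y hy
            have := (hcommS A hA).is_comm.comm (⟨y, hy⟩ : A.map f) ⟨x, hx⟩
            exact congrArg Subtype.val this
          · right; left
            exact isRankOnePair_map f h hne
        · right; right
          exact rootCommutatorCase_map f h
    · rintro _ ⟨A, hA, rfl⟩ _ ⟨B, hB, rfl⟩
      have hpath := hc A hA B hB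
      refine Relation.ReflTransGen.lift' (fun A : Subgroup G => A.map f) ?_ _ _ hpath
      rintro X Y ⟨hX, hY, hpair⟩
      by_cases hne : X.map f = Y.map f
      · show Relation.ReflTransGen _ (X.map f) (Y.map f)
        rw [hne]
      · exact Relation.ReflTransGen.single ⟨⟨X, hX, rfl⟩, ⟨Y, hY, rfl⟩, isRankOnePair_map f hpair hne⟩

end Cfsg.Agent.S5035
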