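import Mathlib
import Cfsg.Statements.S0246
import Cfsg.Agent.Helper13.SympTrans
import Cfsg.Agent.Helper5.PSL2

set_option autoImplicit false
open Cfsg

namespace Cfsg.Agent.S0246

open Matrix Cfsg.Agent.Helper13

variable {F : Type*} [Field F] {m : ℕ}

local notation "Vec" => (Fin m ⊕ Fin m → F)
local notation "Mat" => Matrix (Fin m ⊕ Fin m) (Fin m ⊕ Fin m) F

/-- the element `-1` of the symplectic group -/
def negOne (m : ℕ) (F : Type*) [Field F] : Matrix.symplecticGroup (Fin m) F :=
  ⟨-1, SymplecticGroup.neg_mem (Submonoid.one_mem _)⟩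

theorem negOne_mem_center : negOne m F ∈ Subgroup.center (Matrix.symplecticGroup (Fin m) F) := by
  rw [Subgroup.mem_center_iff]
  intro g
  apply Subtype.ext
  change (g : Mat) * (-1) = (-1) * (g : Mat)
  simp

/-- a central element maps every vector to a multiple of itself -/
theorem central_eigen (Z : Matrix.symplecticGroup (Fin m) F)
    (hZ : Z ∈ Subgroup.center (Matrix.symplecticGroup (Fin m) F)) (v : Vec) :
    ∃ a : F, (Z : Mat) *ᵥ v = a • v := by
  by_cases hv : v = 0
  · exact ⟨0, by simp [hv]⟩
  obtain ⟨x, hx⟩ := sympForm_nondeg_left hv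
  have hcomm := (Subgroup.mem_center_iff.1 hZ) (sympTransvectionElt v 1)
  have hcomm' : Cfsg.sympTransvection m v 1 * (Z : Mat) = (Z : Mat) * Cfsg.sympTransvection m v 1 := by
    have := congrArg (fun g : Matrix.symplecticGroup (Fin m) F => (g : Mat)) hcomm
    exact this
  have h1 := congrArg (fun M : Mat => M *ᵥ x) hcomm'
  simp only [← Matrix.mulVec_mulVec, sympTransvection_mulVec, one_mul, Matrix.mulVec_add,
    Matrix.mulVec_smul] at h1
  have h2 : Cfsg.sympForm m F ((Z : Mat) *ᵥ x) v • v = Cfsg.sympForm m F x v • ((Z : Mat) *ᵥ v) :=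
    add_left_cancel h1
  refine ⟨(Cfsg.sympForm m F x v)⁻¹ * Cfsg.sympForm m F ((Z : Mat) *ᵥ x) v, ?_⟩
  rw [mul_smul, h2, smul_smul, inv_mul_cancel₀ hx, one_smul]

theorem central_scalar (Z : Matrix.symplecticGroup (Fin m) F)
    (hZ : Z ∈ Subgroup.center (Matrix.symplecticGroup (Fin m) F)) :
    ∃ a : F, (Z : Mat) = a • (1 : Mat) := by
  obtain ⟨a, ha⟩ := LinearMap.exists_eq_smul_id_of_forall_notLinearIndependent
    (f := Matrix.toLin' (Z : Mat)) (by
      intro v
      obtain ⟨a, ha⟩ := central_eigen Z hZ v
      rw [LinearIndependent.pair_iff]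
      intro h
      have := h a (-1) (by rw [Matrix.toLin'_apply, ha]; simp)
      exact one_ne_zero (neg_eq_zero.1 this.2))
  refine ⟨a, ?_⟩
  have := congrArg LinearMap.toMatrix' ha
  rw [LinearMap.toMatrix'_toLin'] at this
  rw [this]
  simp [LinearMap.toMatrix'_one]

theorem mem_center_iff (hm : 1 ≤ m) (Z : Matrix.symplecticGroup (Fin m) F) :
    Z ∈ Subgroup.center (Matrix.symplecticGroup (Fin m) F) ↔ Z = 1 ∨ Z = negOne m F := by
  constructor
  · intro hZ
    obtain ⟨a, ha⟩ := central_scalar Z hZ
    have hpres := (mem_symplecticGroup_iff_preserves (Z : Mat)).1 Z.2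
    -- find u v with form 1
    let i0 : Fin m := ⟨0, hm⟩
    have hv : (Pi.single (Sum.inl i0) 1 : Vec) ≠ 0 := by
      intro h
      have := congrFun h (Sum.inl i0)
      simp at this
    obtain ⟨x, hx⟩ := sympForm_nondeg_left hv
    have h1 := hpres x (Pi.single (Sum.inl i0) 1)
    rw [ha] at h1
    simp only [Matrix.smul_mulVec, Matrix.one_mulVec, sympForm_smul_left, sympForm_smul_right] at h1
    have h2 : a * a = 1 := by
      have : (a * a - 1) * Cfsg.sympForm m F x (Pi.single (Sum.inl i0) 1) = 0 := by
        linear_combination h1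
      rcases mul_eq_zero.1 this with h | h
      · linear_combination h
      · exact absurd h hx
    have h3 : (a - 1) * (a + 1) = 0 := by linear_combination h2
    rcases mul_eq_zero.1 h3 with h | h
    · left
      apply Subtype.ext
      rw [ha, show a = 1 by linear_combination h]
      simp
    · right
      apply Subtype.ext
      rw [ha, show a = -1 by linear_combination h]
      simp [negOne]
  · rintro (rfl | rfl)
    · exact Subgroup.one_mem _
    · exact negOne_mem_center

/-- The centre of Sp_{2m}(q), m at least 1, is {1, -1}: it has order gcd(2, q-1). -/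
theorem result {F : Type*} [Field F] [Fintype F] {q : ℕ} (hF : Fintype.card F = q) (m : ℕ) (hm : 1 ≤ m) : Nat.card (Subgroup.center (Matrix.symplecticGroup (Fin m) F)) = Nat.gcd 2 (q - 1) := by
  have hset : ((Subgroup.center (Matrix.symplecticGroup (Fin m) F) : Subgroup _) : Set (Matrix.symplecticGroup (Fin m) F)) = {1, negOne m F} := by
    ext Z
    simp only [SetLike.mem_coe, Set.mem_insert_iff, Set.mem_singleton_iff]
    exact mem_center_iff hm Z
  have hcard : Nat.card (Subgroup.center (Matrix.symplecticGroup (Fin m) F)) =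
      ({1, negOne m F} : Set (Matrix.symplecticGroup (Fin m) F)).ncard := by
    rw [← hset]; rfl
  rw [hcard]
  have hq1 : 1 ≤ q := by rw [← hF]; exact Fintype.card_pos
  rcases Nat.even_or_odd q with he | ho
  · have h2 : (2 : F) = 0 := Cfsg.Agent.Helper5.two_eq_zero_of_even_card (by rw [hF]; exact he)
    have heq : negOne m F = 1 := by
      apply Subtype.ext
      change (-1 : Matrix (Fin m ⊕ Fin m) (Fin m ⊕ Fin m) F) = 1
      have : (-1 : F) = 1 := by linear_combination -h2
      ext i j
      by_cases hij : i = j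
      · subst hij; simp [this]
      · simp [hij]
    rw [heq]
    simp only [Set.pair_eq_singleton, Set.ncard_singleton]
    obtain ⟨k, hk⟩ := he
    have hodd : Odd (q - 1) := ⟨k - 1, by omega⟩
    have : Nat.Coprime 2 (q - 1) := Nat.coprime_two_left.2 hodd
    exact (Nat.Coprime.gcd_eq_one this).symm
  · have h2 : (2 : F) ≠ 0 := Cfsg.Agent.Helper5.two_ne_zero_of_odd_card (by rw [hF]; exact ho)
    have hne : (1 : Matrix.symplecticGroup (Fin m) F) ≠ negOne m F := by
      intro h
      have := congrArg (fun g : Matrix.symplecticGroup (Fin m) F => (g : Matrix (Fin m ⊕ Fin m) (Fin m ⊕ Fin m) F) (Sum.inl ⟨0, hm⟩) (Sum.inl ⟨0, hm⟩)) h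
      simp [negOne] at this
      apply h2
      linear_combination this
    rw [Set.ncard_pair hne]
    obtain ⟨k, hk⟩ := ho
    have : q - 1 = 2 * k := by omega
    rw [this]
    simp

end Cfsg.Agent.S0246
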