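import Cfsg.Statements.S5076
import Cfsg.Agent.Helper48.StronglyEmbedded2
import Cfsg.Agent.Helper87.FusionExtend

set_option autoImplicit false
open Cfsg

namespace Cfsg.Agent.S5076

open Cfsg.FusionSystem Cfsg.Agent.Helper48 Cfsg.Agent.Helper87

variable {G : Type*} [Group G]

/-- the `p`-part bound: a `p`-subgroup `R ≤ N` has order at most `p ^ v_p(|N|)`. -/
theorem card_le_of_isPGroup [Finite G] {p : ℕ} [Fact p.Prime] {R N : Subgroup G} (hR : IsPGroup p R) (hRN : R ≤ N) :
    Nat.card R ≤ p ^ (Nat.card N).factorization p := by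
  obtain ⟨k, hk⟩ := IsPGroup.iff_card.mp hR
  have hdvd : Nat.card R ∣ Nat.card N := Subgroup.card_dvd_of_le hRN
  rw [hk] at hdvd ⊢
  have hN0 : Nat.card N ≠ 0 := Nat.card_pos.ne'
  have hp : p.Prime := Fact.out
  have := (hp.pow_dvd_iff_le_factorization hN0).mp hdvd
  exact Nat.pow_le_pow_right hp.pos this

/-- Choice of a good conjugate: every `P ≤ S` has a conjugate `Q = gPg⁻¹ ≤ S` with `N_S(Q)` a Sylow
`p`-subgroup of `N_G(Q)` (expressed by its order). -/
theorem exists_good_conj [Finite G] {p : ℕ} [Fact p.Prime] (S : Sylow p G) (P : Subgroup G)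
    (hP : P ≤ (S : Subgroup G)) :
    ∃ g : G, conjSub g P ≤ (S : Subgroup G) ∧
      Nat.card ((S : Subgroup G) ⊓ Subgroup.normalizer ((conjSub g P : Subgroup G) : Set G) : Subgroup G) =
        p ^ (Nat.card (Subgroup.normalizer ((conjSub g P : Subgroup G) : Set G))).factorization p := by
  set N := Subgroup.normalizer (P : Set G) with hN
  obtain ⟨T⟩ : Nonempty (Sylow p N) := inferInstance
  set T' : Subgroup G := (T : Subgroup N).map N.subtype with hT'
  have hT'p : IsPGroup p T' := T.2.map _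
  have hT'N : T' ≤ N := by
    rintro _ ⟨x, _, rfl⟩
    exact x.2
  obtain ⟨g, hg⟩ := exists_conj_mem_sylow_of_isPGroup S T' hT'p
  have hgT' : conjSub g T' ≤ (S : Subgroup G) := by
    rintro _ ⟨x, hx, rfl⟩
    exact hg x hx
  -- P ≤ T'
  have hPp : IsPGroup p P := S.2.to_le hP
  have hPN : P ≤ N := Subgroup.le_normalizer
  have hPT : P ≤ T' := by
    have : (P.subgroupOf N).Normal := by
      rw [hN]
      infer_instance
    have hPp' : IsPGroup p (P.subgroupOf N) := hPp.comap_subtype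
    have h1 : P.subgroupOf N ≤ T := hPp'.le_sylow_of_normal T
    intro x hx
    exact ⟨⟨x, hPN hx⟩, h1 (by simpa [Subgroup.mem_subgroupOf] using hx), rfl⟩
  refine ⟨g, ?_, ?_⟩
  · exact (Subgroup.map_mono hPT).trans hgT'
  · rw [normalizer_conjSub]
    have hcardN : Nat.card (conjSub g N) = Nat.card N := card_conjSub g N
    have hcardT : Nat.card (conjSub g T') = p ^ (Nat.card N).factorization p := by
      rw [card_conjSub, hT', Subgroup.card_map_of_injective (Subgroup.subtype_injective _)]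
      exact T.card_eq_multiplicity
    rw [hcardN]
    apply le_antisymm
    · have h2 : Nat.card ((S : Subgroup G) ⊓ conjSub g N : Subgroup G) ≤
          p ^ (Nat.card (conjSub g N)).factorization p :=
        card_le_of_isPGroup (S.2.to_le inf_le_left) inf_le_right
      rwa [hcardN] at h2
    · rw [← hcardT]
      apply Subgroup.card_le_of_le
      exact le_inf hgT' (Subgroup.map_mono hT'N)

/-- conjugation by an element of `N_G(Q)` is an element of `Aut_F(Q)` for `F = F_S(G)`. -/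
theorem normalizerMonoidHom_mem_autGroup {S Q : Subgroup G} (hQ : Q ≤ S)
    (n : Subgroup.normalizer (Q : Set G)) :
    Q.normalizerMonoidHom n ∈ (groupFusionSystem S).autGroup Q := by
  apply Subgroup.subset_closure
  show Q.subtype.comp (Q.normalizerMonoidHom n).toMonoidHom ∈ (groupFusionSystem S).Hom Q
  refine ⟨hQ, fun x => hQ ?_, n, fun x => rfl⟩
  exact (Q.normalizerMonoidHom n x).2

/-- The homomorphism `N_G(Q) → Aut_F(Q)`. -/
def normToAut {S Q : Subgroup G} (hQ : Q ≤ S) :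
    Subgroup.normalizer (Q : Set G) →* (groupFusionSystem S).autGroup Q :=
  (Q.normalizerMonoidHom).codRestrict _ (normalizerMonoidHom_mem_autGroup hQ)

theorem normToAut_apply {S Q : Subgroup G} (hQ : Q ≤ S) (n : Subgroup.normalizer (Q : Set G)) (x : Q) :
    (((normToAut hQ n : (groupFusionSystem S).autGroup Q) : MulAut Q) x : G) = n * x * (n : G)⁻¹ := rfl

/-- Every element of `Aut_F(Q)` is conjugation by some element of `G`. -/
theorem exists_conj_of_mem_autGroup {S Q : Subgroup G} (hQ : Q ≤ S) (α : MulAut Q)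
    (hα : α ∈ (groupFusionSystem S).autGroup Q) : ∃ g : G, ∀ x : Q, ((α x : Q) : G) = g * x * g⁻¹ := by
  have h := (mem_autGroup_iff (groupFusionSystem S) hQ α).mp hα
  obtain ⟨-, -, g, hg⟩ := h
  exact ⟨g, fun x => hg x⟩

theorem normToAut_surjective {S Q : Subgroup G} (hQ : Q ≤ S) : Function.Surjective (normToAut (S := S) hQ) := by
  rintro ⟨α, hα⟩
  obtain ⟨g, hg⟩ := exists_conj_of_mem_autGroup hQ α hα
  refine ⟨⟨g, mem_normalizer_of_conj_eq α g hg⟩, ?_⟩
  apply Subtype.ext
  ext x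
  rw [hg x]
  rfl

/-- If `N_S(Q)` is a Sylow `p`-subgroup of `N_G(Q)` (by order), then `Q` is fully automized in `F_S(G)`. -/
theorem isFullyAutomized_of_card [Finite G] {p : ℕ} [Fact p.Prime] {S Q : Subgroup G} (hQ : Q ≤ S)
    (hcard : Nat.card (S ⊓ Subgroup.normalizer (Q : Set G) : Subgroup G) =
      p ^ (Nat.card (Subgroup.normalizer (Q : Set G))).factorization p) :
    (groupFusionSystem S).IsFullyAutomized p Q := by
  refine ⟨hQ, ?_⟩
  set N := Subgroup.normalizer (Q : Set G) with hN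
  have hcard' : Nat.card ((S ⊓ N).subgroupOf N) = p ^ (Nat.card N).factorization p := by
    rw [← hcard]
    exact Nat.card_congr (Subgroup.subgroupOfEquivOfLe (inf_le_right : S ⊓ N ≤ N)).toEquiv
  let R : Sylow p N := Sylow.ofCard _ hcard'
  refine ⟨R.mapSurjective (normToAut_surjective hQ), ?_⟩
  rw [Sylow.coe_mapSurjective]
  ext α
  rw [Subgroup.mem_subgroupOf, mem_autInducedBy_iff]
  constructor
  · rintro ⟨n, hn, rfl⟩
    have hnS : (n : G) ∈ S := by
      have : n ∈ (S ⊓ N).subgroupOf N := hn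
      rw [Subgroup.mem_subgroupOf] at this
      exact this.1
    exact ⟨n, hnS, fun x => rfl⟩
  · rintro ⟨g, hgS, hg⟩
    have hgN : g ∈ N := mem_normalizer_of_conj_eq (α : MulAut Q) g hg
    refine ⟨⟨g, hgN⟩, ?_, ?_⟩
    · show (⟨g, hgN⟩ : N) ∈ (S ⊓ N).subgroupOf N
      rw [Subgroup.mem_subgroupOf]
      exact ⟨hgS, hgN⟩
    · apply Subtype.ext
      ext x
      rw [hg x]
      rfl

theorem factorization_eq_of_dvd_of_dvd {p a b c : ℕ} (hp : p.Prime) (hb : b ≠ 0) (hc : c ≠ 0)
    (ha : a = p ^ c.factorization p) (hab : a ∣ b) (hbc : b ∣ c) :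
    b.factorization p = c.factorization p := by
  apply le_antisymm
  · exact (Nat.factorization_le_iff_dvd hb hc).mpr hbc p
  · rw [ha] at hab
    exact (hp.pow_dvd_iff_le_factorization hb).mp hab

/-- If `N_S(Q)` is a Sylow `p`-subgroup of `N_G(Q)` (by order), then `Q` is receptive in `F_S(G)`. -/
theorem isReceptive_of_card [Finite G] {p : ℕ} [Fact p.Prime] (S : Sylow p G) {Q : Subgroup G}
    (hQ : Q ≤ (S : Subgroup G))
    (hcard : Nat.card ((S : Subgroup G) ⊓ Subgroup.normalizer (Q : Set G) : Subgroup G) =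
      p ^ (Nat.card (Subgroup.normalizer (Q : Set G))).factorization p) :
    (groupFusionSystem (S : Subgroup G)).IsReceptive Q := by
  refine ⟨hQ, ?_⟩
  intro P φ hφ hrange
  obtain ⟨hPS, hφS, g, hg⟩ := hφ
  have hp : p.Prime := Fact.out
  set N := Subgroup.normalizer (Q : Set G) with hN
  -- K: elements of N inducing on Q an automorphism induced by S
  set K : Subgroup G := ((autInducedBy (S : Subgroup G) Q).comap Q.normalizerMonoidHom).map N.subtype with hK
  have hK_mem : ∀ k, k ∈ K ↔ k ∈ N ∧ ∃ s ∈ (S : Subgroup G), ∀ y : Q, k * y * k⁻¹ = s * y * s⁻¹ := by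
    intro k
    constructor
    · rintro ⟨n, hn, rfl⟩
      rw [SetLike.mem_coe, Subgroup.mem_comap, mem_autInducedBy_iff] at hn
      obtain ⟨s, hs, hsx⟩ := hn
      exact ⟨n.2, s, hs, fun y => hsx y⟩
    · rintro ⟨hkN, s, hs, hsx⟩
      refine ⟨⟨k, hkN⟩, ?_, rfl⟩
      rw [SetLike.mem_coe, Subgroup.mem_comap, mem_autInducedBy_iff]
      exact ⟨s, hs, fun y => hsx y⟩
  have hKN : K ≤ N := fun k hk => ((hK_mem k).mp hk).1
  have hRK : (S : Subgroup G) ⊓ N ≤ K := by
    intro k hk
    exact (hK_mem k).mpr ⟨hk.2, k, hk.1, fun y => rfl⟩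
  have hQconj : conjSub g P = Q := by
    rw [← hrange]
    ext y
    constructor
    · rintro ⟨x, hx, rfl⟩
      exact ⟨⟨x, hx⟩, by rw [hg]; rfl⟩
    · rintro ⟨x, rfl⟩
      exact ⟨x, x.2, by rw [hg]; rfl⟩
  have hE_le : extender (S : Subgroup G) P φ ≤ (S : Subgroup G) := by
    intro x hx
    exact ((mem_extender_iff _ _ _ _).mp hx).1
  have hEK : conjSub g (extender (S : Subgroup G) P φ) ≤ K := by
    rintro _ ⟨x, hx, rfl⟩
    obtain ⟨hxS, hxN, h, hhS, hh⟩ := (mem_extender_iff _ _ _ _).mp hx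
    rw [hK_mem]
    constructor
    · rw [hN, ← hQconj, normalizer_conjSub]
      exact conj_mem_conjSub hxN
    · refine ⟨h, hhS, ?_⟩
      intro y'
      have hy' : (y' : G) ∈ conjSub g P := by rw [hQconj]; exact y'.2
      rw [mem_conjSub] at hy'
      have hxy : x * (g⁻¹ * (y' : G) * g) * x⁻¹ ∈ P := (hxN _).mp hy'
      have h1 := hh ⟨g⁻¹ * (y' : G) * g, hy'⟩ hxy
      rw [hg, hg] at h1
      simp only at h1
      have e1 : g * (g⁻¹ * (y' : G) * g) * g⁻¹ = y' := by group
      rw [e1] at h1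
      rw [← h1]
      show (MulAut.conj g x) * y' * (MulAut.conj g x)⁻¹ = _
      simp only [MulAut.conj_apply]
      group
  -- the Sylow subgroup R = N_S(Q) of K
  have hcardK : Nat.card (((S : Subgroup G) ⊓ N).subgroupOf K) = p ^ (Nat.card K).factorization p := by
    have h1 : Nat.card (((S : Subgroup G) ⊓ N).subgroupOf K) = Nat.card ((S : Subgroup G) ⊓ N : Subgroup G) :=
      Nat.card_congr (Subgroup.subgroupOfEquivOfLe hRK).toEquiv
    rw [h1, hcard]
    congr 1
    exact (factorization_eq_of_dvd_of_dvd hp Nat.card_pos.ne' Nat.card_pos.ne' hcard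
      (Subgroup.card_dvd_of_le hRK) (Subgroup.card_dvd_of_le hKN)).symm
  let RK : Sylow p K := Sylow.ofCard _ hcardK
  have hEp : IsPGroup p (conjSub g (extender (S : Subgroup G) P φ)) := isPGroup_conjSub (S.2.to_le hE_le)
  obtain ⟨k, hkK, hk⟩ := exists_conj_le_sylow' RK hEK hEp
  have hRKmap : (RK : Subgroup K).map K.subtype = (S : Subgroup G) ⊓ N := by
    show (((S : Subgroup G) ⊓ N).subgroupOf K).map K.subtype = (S : Subgroup G) ⊓ N
    rw [Subgroup.subgroupOf_map_subtype]
    exact inf_eq_left.mpr hRK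
  rw [hRKmap] at hk
  obtain ⟨hkN, s, hsS, hs⟩ := (hK_mem k).mp hkK
  have hsN : s ∈ N :=
    mem_normalizer_of_conj_eq (Q.normalizerMonoidHom ⟨k, hkN⟩) s (fun y => hs y)
  have hc : ∀ y ∈ Q, (s⁻¹ * k) * y * (s⁻¹ * k)⁻¹ = y := by
    intro y hy
    have h1 := hs ⟨y, hy⟩
    simp only at h1
    have e1 : (s⁻¹ * k) * y * (s⁻¹ * k)⁻¹ = s⁻¹ * (k * y * k⁻¹) * s := by group
    rw [e1, h1]
    group
  have hcE : conjSub (s⁻¹ * k * g) (extender (S : Subgroup G) P φ) ≤ (S : Subgroup G) ⊓ N := by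
    have h1 : conjSub (s⁻¹ * k * g) (extender (S : Subgroup G) P φ) =
        conjSub s⁻¹ (conjSub k (conjSub g (extender (S : Subgroup G) P φ))) := by
      rw [conjSub_conjSub, conjSub_conjSub, mul_assoc]
    rw [h1]
    have hsR : s⁻¹ ∈ (S : Subgroup G) ⊓ N := Subgroup.inv_mem _ ⟨hsS, hsN⟩
    exact (Subgroup.map_mono hk).trans (conjSub_le_of_mem le_rfl hsR)
  refine ⟨conjHom (extender (S : Subgroup G) P φ) (s⁻¹ * k * g), ⟨hE_le, fun x => ?_, s⁻¹ * k * g, fun x => rfl⟩, ?_⟩
  · exact (hcE (conj_mem_conjSub x.2)).1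
  · intro x hxP hxN
    show (s⁻¹ * k * g) * x * (s⁻¹ * k * g)⁻¹ = φ ⟨x, hxP⟩
    have hφQ : φ ⟨x, hxP⟩ ∈ Q := by
      rw [← hrange]
      exact ⟨⟨x, hxP⟩, rfl⟩
    have h1 := hc _ hφQ
    rw [hg] at h1 ⊢
    simp only at h1 ⊢
    rw [← h1]
    group

/-- The fusion system of a finite group on a Sylow p-subgroup is saturated: every subgroup of the Sylow subgroup is conjugate in the system to one that is fully automized and receptive. -/
theorem result {G : Type*} [Group G] [Finite G] (p : ℕ) [Fact p.Prime] (S : Sylow p G) : (Cfsg.groupFusionSystem (S : Subgroup G)).IsSaturated p := by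
  intro P hP
  obtain ⟨g, hgS, hcard⟩ := exists_good_conj S P hP
  refine ⟨conjSub g P, ?_, isFullyAutomized_of_card hgS hcard, isReceptive_of_card S hgS hcard⟩
  refine ⟨conjHom P g, ⟨hP, fun x => hgS (conj_mem_conjSub x.2), g, fun x => rfl⟩, ?_⟩
  ext y
  constructor
  · rintro ⟨x, rfl⟩
    exact conj_mem_conjSub x.2
  · rintro ⟨x, hx, rfl⟩
    exact ⟨⟨x, hx⟩, rfl⟩

end Cfsg.Agent.S5076
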