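-- Statement S5160: a criterion for the fusion system of a finite group to be simple.
import Cfsg.Statements.S5160
import Cfsg.Agent.S5076
import Cfsg.Agent.Helper87.FusionRS

set_option autoImplicit false
open Cfsg

namespace Cfsg.Agent.S5160

open Cfsg.FusionSystem Cfsg.Agent.Helper48 Cfsg.Agent.Helper87

section abstract

variable {Ω : Type*} [Group Ω] {S : Subgroup Ω}

/-- Conjugation by `g` on `P` is a map of the system `E`. -/
def Ind (E : FusionSystem S) (g : Ω) (P : Subgroup Ω) : Prop := conjHom P g ∈ E.Hom P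

theorem ind_of_mem (E : FusionSystem S) {P : Subgroup Ω} {s : Ω} (hP : P ≤ S) (hs : s ∈ S) : Ind E s P :=
  E.conj_mem hP hs

theorem Ind.congr {E : FusionSystem S} {g g' : Ω} {P : Subgroup Ω} (h : Ind E g P)
    (hgg : ∀ x ∈ P, g' * x * g'⁻¹ = g * x * g⁻¹) : Ind E g' P :=
  mem_of_eq E h (fun x => hgg x x.2)

theorem Ind.le {E : FusionSystem S} {g : Ω} {P : Subgroup Ω} (h : Ind E g P) : P ≤ S := (E.le_of_mem h).1

theorem Ind.conj_le {E : FusionSystem S} {g : Ω} {P : Subgroup Ω} (h : Ind E g P) : conjSub g P ≤ S := by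
  rintro _ ⟨x, hx, rfl⟩
  exact (E.le_of_mem h).2 ⟨x, hx⟩

theorem Ind.mul {E : FusionSystem S} {g h : Ω} {P Q : Subgroup Ω} (hg : Ind E g P) (hh : Ind E h Q)
    (hle : conjSub g P ≤ Q) : Ind E (h * g) P := by
  have hval : ∀ x : P, conjHom P g x ∈ Q := fun x => hle (conj_mem_conjSub x.2)
  have := E.comp_mem hg hh hval
  refine mem_of_eq E this (fun x => ?_)
  show h * g * x * (h * g)⁻¹ = h * (g * x * g⁻¹) * h⁻¹
  group

theorem Ind.restrict {E : FusionSystem S} {g : Ω} {P R : Subgroup Ω} (hg : Ind E g P) (hR : R ≤ P) :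
    Ind E g R :=
  mem_of_eq E (restrict_mem E hg hR) (fun _ => rfl)

theorem Ind.inv {E : FusionSystem S} {g : Ω} {P : Subgroup Ω} (hg : Ind E g P) :
    Ind E g⁻¹ (conjSub g P) := by
  let e : P ≃* conjSub g P := (MulAut.conj g).subgroupMap P
  have he : IsIso E e := mem_of_eq E hg (fun x => rfl)
  have := he.symm
  refine mem_of_eq E this (fun y => ?_)
  have hy : ((e (e.symm y) : conjSub g P) : Ω) = g * (e.symm y : P) * g⁻¹ := rfl
  rw [MulEquiv.apply_symm_apply] at hy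
  show g⁻¹ * (y : Ω) * g⁻¹⁻¹ = ((e.symm y : P) : Ω)
  rw [hy]; group

end abstract

section abstract2

variable {Ω : Type*} [Group Ω] {S : Subgroup Ω}

/-- A subgroup centric in `F` is fully centralized in every subsystem `E` of `F` over the same `S`. -/
theorem isFullyCentralized_of_isCentric [Finite S] (E F : FusionSystem S) (hsub : E.IsSubsystemOf F)
    {P : Subgroup Ω} (hP : F.IsCentric P) : E.IsFullyCentralized P := by
  refine ⟨hP.1, fun Q hQ => ?_⟩
  have hQF : F.IsConj P Q := by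
    obtain ⟨φ, hφ, hr⟩ := hQ
    exact ⟨φ, hsub P hφ, hr⟩
  have hle : centralizerIn S Q ≤ Q := hP.2 Q hQF
  obtain ⟨e, he⟩ := (isConj_iff E P Q).mp hQ
  have : Finite (centralizerIn S P) := finite_of_le inf_le_left
  have hmem : ∀ y : centralizerIn S Q, ((e.symm ⟨(y : Ω), hle y.2⟩ : P) : Ω) ∈ centralizerIn S P := by
    intro y
    refine ⟨hP.1 (e.symm ⟨(y : Ω), hle y.2⟩).2, ?_⟩
    show _ ∈ Subgroup.centralizer (P : Set Ω)
    rw [Subgroup.mem_centralizer_iff]
    intro w hw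
    have hy2 : (y : Ω) ∈ Subgroup.centralizer (Q : Set Ω) := y.2.2
    have h1 : ((e ⟨w, hw⟩ : Q) : Ω) * (y : Ω) = (y : Ω) * ((e ⟨w, hw⟩ : Q) : Ω) :=
      Subgroup.mem_centralizer_iff.mp hy2 _ (e ⟨w, hw⟩).2
    have h2 : e ⟨w, hw⟩ * ⟨(y : Ω), hle y.2⟩ = ⟨(y : Ω), hle y.2⟩ * e ⟨w, hw⟩ := Subtype.ext h1
    have h3 := congrArg e.symm h2
    rw [map_mul, map_mul, MulEquiv.symm_apply_apply] at h3
    exact congrArg Subtype.val h3
  apply Nat.card_le_card_of_injective (fun y => (⟨_, hmem y⟩ : centralizerIn S P))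
  intro y y' hyy
  have h1 : ((e.symm ⟨(y : Ω), hle y.2⟩ : P) : Ω) = ((e.symm ⟨(y' : Ω), hle y'.2⟩ : P) : Ω) :=
    congrArg (fun t : centralizerIn S P => (t : Ω)) hyy
  have h2 := e.symm.injective (Subtype.ext h1)
  exact Subtype.ext (congrArg (fun t : Q => (t : Ω)) h2)

/-- A subgroup of `S` containing a centric subgroup is centric. -/
theorem isCentric_of_le (F : FusionSystem S) {P Q : Subgroup Ω} (hP : F.IsCentric P) (hPQ : P ≤ Q)
    (hQ : Q ≤ S) : F.IsCentric Q := by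
  refine ⟨hQ, ?_⟩
  rintro Q' ⟨φ, hφ, hr⟩
  have hφP := restrict_mem F hφ hPQ
  have h1 := hP.2 _ ⟨_, hφP, rfl⟩
  have h2 : (φ.comp (Subgroup.inclusion hPQ)).range ≤ Q' := by
    rw [← hr]
    rintro _ ⟨x, rfl⟩
    exact ⟨Subgroup.inclusion hPQ x, rfl⟩
  intro y hy
  apply h2
  apply h1
  exact ⟨hy.1, Subgroup.centralizer_le (by exact_mod_cast h2) hy.2⟩

end abstract2

section grouptheory

variable {G : Type*} [Group G]

/-- A `p'`-element centralizing the `p`-group `P` and normalizing `N ≤ N(P)` with `C_N(P) ≤ P` centralizes `N`. -/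
theorem centralizes_of_coprime {p : ℕ} [Fact p.Prime] {P N : Subgroup G} (hPp : IsPGroup p P)
    (hNP : N ≤ Subgroup.normalizer (P : Set G))
    (hcen : N ⊓ Subgroup.centralizer (P : Set G) ≤ P)
    {d : G} (hdP : d ∈ Subgroup.centralizer (P : Set G)) (hdN : d ∈ Subgroup.normalizer (N : Set G))
    (hd : (orderOf d).Coprime p) : d ∈ Subgroup.centralizer (N : Set G) := by
  rw [Subgroup.mem_centralizer_iff]
  intro x hx
  set w := x⁻¹ * (d * x * d⁻¹) with hw
  have hdx : d * x * d⁻¹ ∈ N := (Subgroup.mem_normalizer_iff.mp hdN x).mp hx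
  have hwN : w ∈ N := N.mul_mem (N.inv_mem hx) hdx
  have hdc : ∀ y ∈ P, y * d = d * y := fun y hy => Subgroup.mem_centralizer_iff.mp hdP y hy
  have hwC : w ∈ Subgroup.centralizer (P : Set G) := by
    rw [Subgroup.mem_centralizer_iff]
    intro y hy
    have hy' : x * y * x⁻¹ ∈ P := (Subgroup.mem_normalizer_iff.mp (hNP hx) y).mp hy
    have h1 : d⁻¹ * y * d = y := by rw [mul_assoc, hdc y hy]; group
    have h2 : d * (x * y * x⁻¹) * d⁻¹ = x * y * x⁻¹ := by rw [← hdc _ hy']; group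
    have h3 : w * y * w⁻¹ = y := by
      calc w * y * w⁻¹ = x⁻¹ * d * x * (d⁻¹ * y * d) * x⁻¹ * d⁻¹ * x := by rw [hw]; group
        _ = x⁻¹ * (d * (x * y * x⁻¹) * d⁻¹) * x := by rw [h1]; group
        _ = y := by rw [h2]; group
    calc y * w = (w * y * w⁻¹) * w := by rw [h3]
      _ = w * y := by group
  have hwP : w ∈ P := hcen ⟨hwN, hwC⟩
  have hdw : Commute d w := (hdc w hwP).symm
  have hpow : ∀ k : ℕ, d ^ k * x * (d ^ k)⁻¹ = x * w ^ k := by
    intro k
    induction k with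
    | zero => simp
    | succ k ih =>
      have hdwk : d * w ^ k * d⁻¹ = w ^ k := by
        rw [(hdw.pow_right k).eq]; group
      calc d ^ (k+1) * x * (d ^ (k+1))⁻¹ = d * (d ^ k * x * (d ^ k)⁻¹) * d⁻¹ := by rw [pow_succ']; group
        _ = d * (x * w ^ k) * d⁻¹ := by rw [ih]
        _ = (d * x * d⁻¹) * (d * w ^ k * d⁻¹) := by group
        _ = x * w * w ^ k := by rw [hdwk, hw]; group
        _ = x * w ^ (k+1) := by rw [pow_succ']; group
  have h1 := hpow (orderOf d)
  rw [pow_orderOf_eq_one] at h1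
  have h2 : w ^ orderOf d = 1 := by simpa using h1.symm
  have h3 : orderOf w ∣ orderOf d := orderOf_dvd_of_pow_eq_one h2
  obtain ⟨k, hk⟩ := hPp ⟨w, hwP⟩
  have h4 : w ^ p ^ k = 1 := by
    have := congrArg Subtype.val hk
    simpa using this
  have h5 : orderOf w ∣ p ^ k := orderOf_dvd_of_pow_eq_one h4
  have h6 : orderOf w ∣ 1 := by
    have := Nat.dvd_gcd h3 h5
    rwa [(hd.pow_right k : Nat.Coprime (orderOf d) (p ^ k))] at this
  have h7 : w = 1 := orderOf_eq_one_iff.mp (Nat.dvd_one.mp h6)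
  have h8 : d * x * d⁻¹ = x := by
    have : x * w = x := by rw [h7, mul_one]
    rw [hw] at this
    simpa [mul_assoc] using this
  calc x * d = (d * x * d⁻¹) * d := by rw [h8]
    _ = d * x := by group

/-- A `p`-element centralizing a `p`-centric subgroup `P` lies in `P`. -/
theorem mem_of_centralizes_of_pElement [Finite G] {p : ℕ} [Fact p.Prime] (S : Sylow p G) {P : Subgroup G}
    (hP : P ≤ (S : Subgroup G))
    (hcen : ∀ x : G, conjSub x P ≤ (S : Subgroup G) →
      (S : Subgroup G) ⊓ Subgroup.centralizer ((conjSub x P : Subgroup G) : Set G) ≤ conjSub x P)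
    {z : G} (hzP : z ∈ Subgroup.centralizer (P : Set G)) (hz : IsPGroup p (Subgroup.zpowers z)) : z ∈ P := by
  have hPp : IsPGroup p P := S.2.to_le hP
  have hle : Subgroup.zpowers z ≤ Subgroup.normalizer (P : Set G) := by
    rw [Subgroup.zpowers_le]; exact Subgroup.centralizer_le_normalizer _ hzP
  have hB := hz.to_sup_of_normal_right' hPp hle
  obtain ⟨x, hx⟩ := exists_conj_mem_sylow_of_isPGroup S _ hB
  have hxP : conjSub x P ≤ (S : Subgroup G) := by
    rintro _ ⟨y, hy, rfl⟩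
    exact hx y ((le_sup_right : P ≤ Subgroup.zpowers z ⊔ P) hy)
  have hxz : x * z * x⁻¹ ∈ (S : Subgroup G) :=
    hx z ((le_sup_left : Subgroup.zpowers z ≤ Subgroup.zpowers z ⊔ P) (Subgroup.mem_zpowers z))
  have hxzc : x * z * x⁻¹ ∈ Subgroup.centralizer ((conjSub x P : Subgroup G) : Set G) := by
    rw [Subgroup.mem_centralizer_iff]
    rintro _ ⟨y, hy, rfl⟩
    have := Subgroup.mem_centralizer_iff.mp hzP y hy
    show x * y * x⁻¹ * (x * z * x⁻¹) = x * z * x⁻¹ * (x * y * x⁻¹)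
    calc x * y * x⁻¹ * (x * z * x⁻¹) = x * (y * z) * x⁻¹ := by group
      _ = x * (z * y) * x⁻¹ := by rw [this]
      _ = x * z * x⁻¹ * (x * y * x⁻¹) := by group
  have := hcen x hxP ⟨hxz, hxzc⟩
  rw [mem_conjSub] at this
  convert this using 1; group

/-- An element centralizing the `p`-centric subgroup `P` and normalizing `N`, `P ≤ N ≤ N_S(P)`, acts on `N` as
an element of `P`. -/
theorem exists_conj_eq_on [Finite G] {p : ℕ} [Fact p.Prime] (S : Sylow p G) {P N : Subgroup G}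
    (hNS : N ≤ (S : Subgroup G)) (hPN : P ≤ N) (hNP : N ≤ Subgroup.normalizer (P : Set G))
    (hcen : ∀ x : G, conjSub x P ≤ (S : Subgroup G) →
      (S : Subgroup G) ⊓ Subgroup.centralizer ((conjSub x P : Subgroup G) : Set G) ≤ conjSub x P)
    {c : G} (hcP : c ∈ Subgroup.centralizer (P : Set G)) (hcN : c ∈ Subgroup.normalizer (N : Set G)) :
    ∃ z ∈ P, ∀ x ∈ N, c * x * c⁻¹ = z * x * z⁻¹ := by
  have hp : p.Prime := Fact.out
  have hPS : P ≤ (S : Subgroup G) := hPN.trans hNS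
  have hPp : IsPGroup p P := S.2.to_le hPS
  have hcen1 : N ⊓ Subgroup.centralizer (P : Set G) ≤ P := by
    have h1 := hcen 1 (by rw [conjSub_one]; exact hPS)
    rw [conjSub_one] at h1
    exact (inf_le_inf_right _ hNS).trans h1
  have hn0 : orderOf c ≠ 0 := (orderOf_pos c).ne'
  obtain ⟨a, m, hm, hn⟩ := Nat.exists_eq_pow_mul_and_not_dvd hn0 p hp.ne_one
  have hcop : Nat.Coprime m p := ((Nat.Prime.coprime_iff_not_dvd hp).mpr hm).symm
  -- the `p`-part and the `p'`-part
  have hzpow : (c ^ m) ^ p ^ a = 1 := by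
    rw [← pow_mul, mul_comm, ← hn, pow_orderOf_eq_one]
  have hdpow : (c ^ p ^ a) ^ m = 1 := by
    rw [← pow_mul, ← hn, pow_orderOf_eq_one]
  have hzP : c ^ m ∈ P := by
    apply mem_of_centralizes_of_pElement S hPS hcen (Subgroup.pow_mem _ hcP m)
    apply IsPGroup.of_card (n := (Nat.dvd_prime_pow hp).mp (orderOf_dvd_of_pow_eq_one hzpow) |>.choose)
    rw [Nat.card_zpowers]
    exact ((Nat.dvd_prime_pow hp).mp (orderOf_dvd_of_pow_eq_one hzpow)).choose_spec.2
  have hdC : c ^ p ^ a ∈ Subgroup.centralizer (N : Set G) := by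
    apply centralizes_of_coprime hPp hNP hcen1 (Subgroup.pow_mem _ hcP _) (Subgroup.pow_mem _ hcN _)
    exact Nat.Coprime.coprime_dvd_left (orderOf_dvd_of_pow_eq_one hdpow) hcop
  -- Bezout
  have hbez : (1 : ℤ) = (m : ℤ) * Nat.gcdA m (p ^ a) + ((p ^ a : ℕ) : ℤ) * Nat.gcdB m (p ^ a) := by
    have := Nat.gcd_eq_gcd_ab m (p ^ a)
    rw [(hcop.pow_right a : Nat.Coprime m (p ^ a))] at this
    simpa using this
  have hc : c = (c ^ m) ^ (Nat.gcdA m (p ^ a)) * (c ^ p ^ a) ^ (Nat.gcdB m (p ^ a)) := by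
    rw [← zpow_natCast c m, ← zpow_natCast c (p ^ a), ← _root_.zpow_mul, ← _root_.zpow_mul, ← zpow_add, ← hbez, zpow_one]
  refine ⟨(c ^ m) ^ (Nat.gcdA m (p ^ a)), Subgroup.zpow_mem _ hzP _, fun x hx => ?_⟩
  have hd := Subgroup.mem_centralizer_iff.mp (Subgroup.zpow_mem _ hdC (Nat.gcdB m (p ^ a))) x hx
  set z := (c ^ m) ^ (Nat.gcdA m (p ^ a)) with hz
  set d := (c ^ p ^ a) ^ (Nat.gcdB m (p ^ a)) with hd'
  calc c * x * c⁻¹ = z * (d * x * d⁻¹) * z⁻¹ := by rw [hc]; group
    _ = z * x * z⁻¹ := by rw [← hd]; group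

end grouptheory

section group

variable {G : Type*} [Group G] {S : Subgroup G}

/-- The Frattini condition, in terms of elements. -/
theorem frattini' (E : FusionSystem S)
    (hfrat : ∀ (P : Subgroup G), P ≤ S → ∀ (φ : P →* G), φ ∈ (groupFusionSystem S).Hom P →
      ∃ α ∈ (groupFusionSystem S).autGroup S, ∃ φ₀ ∈ E.Hom P,
        ∀ (x : P) (hx : φ₀ x ∈ S), φ x = ((α ⟨φ₀ x, hx⟩ : S) : G))
    {P : Subgroup G} {g : G} (hP : P ≤ S) (hgP : conjSub g P ≤ S) :
    ∃ n ∈ Subgroup.normalizer (S : Set G), Ind E (n⁻¹ * g) P := by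
  have hφ : conjHom P g ∈ (groupFusionSystem S).Hom P :=
    ⟨hP, fun x => hgP (conj_mem_conjSub x.2), g, fun x => rfl⟩
  obtain ⟨α, hα, φ₀, hφ₀, h⟩ := hfrat P hP _ hφ
  obtain ⟨n, hn⟩ := S5076.exists_conj_of_mem_autGroup le_rfl α hα
  refine ⟨n, mem_normalizer_of_conj_eq α n hn, mem_of_eq E hφ₀ (fun x => ?_)⟩
  have h1 := h x ((E.le_of_mem hφ₀).2 x)
  rw [hn] at h1
  have h2 : (conjHom P g) x = g * x * g⁻¹ := rfl
  rw [h2] at h1
  show n⁻¹ * g * x * (n⁻¹ * g)⁻¹ = φ₀ x
  have h3 : n⁻¹ * g * x * (n⁻¹ * g)⁻¹ = n⁻¹ * (g * x * g⁻¹) * n := by group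
  rw [h3, h1]
  show n⁻¹ * (n * φ₀ x * n⁻¹) * n = φ₀ x
  group

/-- The invariance condition, in terms of elements. -/
theorem invariance' (E : FusionSystem S)
    (hinv : ∀ (P : Subgroup G) (hPT : P ≤ S) (φ : P →* G), φ ∈ E.Hom P →
      ∀ α ∈ (groupFusionSystem S).autGroup S,
      ∃ χ ∈ E.Hom ((P.subgroupOf S).map (S.subtype.comp α.toMonoidHom)),
        ∀ (x : P) (hφx : φ x ∈ S)
          (hαx : ((α ⟨x, hPT x.2⟩ : S) : G) ∈ (P.subgroupOf S).map (S.subtype.comp α.toMonoidHom)),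
          χ ⟨(α ⟨x, hPT x.2⟩ : S), hαx⟩ = ((α ⟨φ x, hφx⟩ : S) : G))
    {P : Subgroup G} {h n : G} (hh : Ind E h P) (hn : n ∈ Subgroup.normalizer (S : Set G)) :
    Ind E (n * h * n⁻¹) (conjSub n P) := by
  have hPS := hh.le
  have hαF : conjAut S n hn ∈ (groupFusionSystem S).autGroup S :=
    S5076.normalizerMonoidHom_mem_autGroup le_rfl ⟨n, hn⟩
  obtain ⟨χ, hχ, hχx⟩ := hinv P hPS _ hh _ hαF
  have hQ : (P.subgroupOf S).map (S.subtype.comp (conjAut S n hn).toMonoidHom) = conjSub n P := by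
    ext y
    constructor
    · rintro ⟨x, hx, rfl⟩
      exact conj_mem_conjSub (Subgroup.mem_subgroupOf.mp hx)
    · rintro ⟨x, hx, rfl⟩
      exact ⟨⟨x, hPS hx⟩, Subgroup.mem_subgroupOf.mpr hx, rfl⟩
  unfold Ind
  rw [← hQ]
  refine mem_of_eq E hχ ?_
  intro y
  obtain ⟨x, hx, hxy⟩ := y.2
  have hxP : (x : G) ∈ P := Subgroup.mem_subgroupOf.mp hx
  have hy' : ((conjAut S n hn ⟨(x : G), hPS hxP⟩ : S) : G) ∈
      (P.subgroupOf S).map (S.subtype.comp (conjAut S n hn).toMonoidHom) := ⟨x, hx, rfl⟩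
  have h1 := hχx ⟨x, hxP⟩ ((E.le_of_mem hh).2 _) hy'
  have hy2 : y = ⟨_, hy'⟩ := Subtype.ext hxy.symm
  rw [hy2, h1]
  show n * h * n⁻¹ * (n * (x : G) * n⁻¹) * (n * h * n⁻¹)⁻¹ = n * (h * (x : G) * h⁻¹) * n⁻¹
  group

end group

section main

variable {G : Type*} [Group G]

theorem conjSub_eq_of_mem_normalizer {g : G} {P : Subgroup G} (hg : g ∈ Subgroup.normalizer (P : Set G)) :
    conjSub g P = P := by
  ext x
  rw [mem_conjSub, Subgroup.mem_normalizer_iff.mp hg (g⁻¹ * x * g)]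
  have : g * (g⁻¹ * x * g) * g⁻¹ = x := by group
  rw [this]

theorem range_conjHom (P : Subgroup G) (g : G) : (conjHom P g).range = conjSub g P := by
  ext y
  constructor
  · rintro ⟨x, rfl⟩
    exact conj_mem_conjSub x.2
  · rintro ⟨x, hx, rfl⟩
    exact ⟨⟨x, hx⟩, rfl⟩

/-- The properties of an invariant subsystem `E` of `F_S(G)` over `S` itself, in terms of elements of `G`. -/
structure Good (S : Subgroup G) (E : FusionSystem S) : Prop where
  sub : E.IsSubsystemOf (groupFusionSystem S)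
  inv : ∀ {P : Subgroup G} {h n : G}, Ind E h P → n ∈ Subgroup.normalizer (S : Set G) →
    Ind E (n * h * n⁻¹) (conjSub n P)
  frat : ∀ {P : Subgroup G} {g : G}, P ≤ S → conjSub g P ≤ S →
    ∃ n ∈ Subgroup.normalizer (S : Set G), Ind E (n⁻¹ * g) P

theorem hom_subset_of_forall_normalizer {S : Subgroup G} {E : FusionSystem S} (hE : Good S E)
    (h : ∀ n ∈ Subgroup.normalizer (S : Set G), Ind E n S) (P : Subgroup G) :
    (groupFusionSystem S).Hom P ⊆ E.Hom P := by
  rintro φ ⟨hP, hφS, g, hg⟩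
  have hgP : conjSub g P ≤ S := by
    rintro _ ⟨x, hx, rfl⟩
    have := hφS ⟨x, hx⟩
    rw [hg] at this
    exact this
  obtain ⟨n, hn, h1⟩ := hE.frat hP hgP
  have h2 := h1.mul (h n hn) h1.conj_le
  rw [mul_inv_cancel_left] at h2
  exact mem_of_eq E h2 (fun x => hg x)

theorem ind_conj_of_mem_normalizer {S : Subgroup G} {E : FusionSystem S} (hE : Good S E) {R : Subgroup G}
    {g h : G} (hR : R ≤ S) (hg : g ∈ Subgroup.normalizer (R : Set G)) (hh : Ind E h R)
    (hhR : h ∈ Subgroup.normalizer (R : Set G)) : Ind E (g * h * g⁻¹) R := by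
  have hgR : conjSub g R = R := conjSub_eq_of_mem_normalizer hg
  have hhR' : conjSub h R = R := conjSub_eq_of_mem_normalizer hhR
  obtain ⟨n, hn, h0⟩ := hE.frat hR (hgR.le.trans hR)
  have h1 : Ind E (n⁻¹ * g)⁻¹ (conjSub (n⁻¹ * g) R) := h0.inv
  have h2 : Ind E (h * (n⁻¹ * g)⁻¹) (conjSub (n⁻¹ * g) R) :=
    h1.mul hh (by rw [conjSub_conjSub, inv_mul_cancel, conjSub_one])
  have h3 : Ind E ((n⁻¹ * g) * (h * (n⁻¹ * g)⁻¹)) (conjSub (n⁻¹ * g) R) :=
    h2.mul h0 (by rw [conjSub_conjSub, mul_assoc, inv_mul_cancel, mul_one, hhR'])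
  have h4 := hE.inv h3 hn
  rw [conjSub_conjSub, mul_inv_cancel_left, hgR] at h4
  have h5 : n * (n⁻¹ * g * (h * (n⁻¹ * g)⁻¹)) * n⁻¹ = g * h * g⁻¹ := by group
  rwa [h5] at h4

variable [Finite G] {p : ℕ} [Fact p.Prime]

theorem exists_conj_mem_of_card {N T : Subgroup G} (hTN : T ≤ N)
    (hcard : Nat.card T = p ^ (Nat.card N).factorization p) {x : G} (hxN : x ∈ N)
    (hx : ∃ k : ℕ, orderOf x = p ^ k) : ∃ m ∈ N, m * x * m⁻¹ ∈ T := by
  have hcard' : Nat.card (T.subgroupOf N) = p ^ (Nat.card N).factorization p := by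
    rw [← hcard]
    exact Nat.card_congr (Subgroup.subgroupOfEquivOfLe hTN).toEquiv
  let T' : Sylow p N := Sylow.ofCard _ hcard'
  obtain ⟨k, hk⟩ := hx
  have hB : IsPGroup p (Subgroup.zpowers (⟨x, hxN⟩ : N)) := by
    apply IsPGroup.of_card (n := k)
    rw [Nat.card_zpowers, Subgroup.orderOf_mk, hk]
  obtain ⟨a, ha⟩ := exists_conj_mem_sylow_of_isPGroup T' _ hB
  refine ⟨a, a.2, ?_⟩
  have := ha ⟨x, hxN⟩ (Subgroup.mem_zpowers _)
  exact Subgroup.mem_subgroupOf.mp this

theorem card_normalizerIn_of_fullyNormalized (S : Sylow p G) {R : Subgroup G}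
    (hR : (groupFusionSystem (S : Subgroup G)).IsFullyNormalized R) :
    Nat.card (normalizerIn (S : Subgroup G) R) =
      p ^ (Nat.card (Subgroup.normalizer (R : Set G))).factorization p := by
  obtain ⟨g, hgS, hcard⟩ := S5076.exists_good_conj S R hR.1
  have hconj : (groupFusionSystem (S : Subgroup G)).IsConj R (conjSub g R) :=
    ⟨conjHom R g, ⟨hR.1, fun x => hgS (conj_mem_conjSub x.2), g, fun x => rfl⟩, range_conjHom R g⟩
  have h1 := hR.2 _ hconj
  have h2 : Nat.card (Subgroup.normalizer ((conjSub g R : Subgroup G) : Set G)) =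
      Nat.card (Subgroup.normalizer (R : Set G)) := by
    rw [normalizer_conjSub, card_conjSub]
  apply le_antisymm
  · exact S5076.card_le_of_isPGroup (S.2.to_le inf_le_left) inf_le_right
  · rw [← h2, ← hcard]
    exact h1

/-- `O^{p'}(N_G(R))` acts on a fully normalized `R` through maps of `E`. -/
theorem ind_of_mem_closure (S : Sylow p G) {E : FusionSystem (S : Subgroup G)} (hE : Good (S : Subgroup G) E)
    {R : Subgroup G} (hR : (groupFusionSystem (S : Subgroup G)).IsFullyNormalized R) {g : G}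
    (hg : g ∈ Subgroup.closure {g : G | g ∈ Subgroup.normalizer (R : Set G) ∧ ∃ k : ℕ, orderOf g = p ^ k}) :
    g ∈ Subgroup.normalizer (R : Set G) ∧ Ind E g R := by
  have hRS : R ≤ (S : Subgroup G) := hR.1
  let Y : Subgroup G :=
    { carrier := {g | g ∈ Subgroup.normalizer (R : Set G) ∧ Ind E g R}
      one_mem' := ⟨Subgroup.one_mem _, ind_of_mem E hRS (Subgroup.one_mem _)⟩
      mul_mem' := by
        rintro a b ⟨ha, ha'⟩ ⟨hb, hb'⟩
        exact ⟨Subgroup.mul_mem _ ha hb, hb'.mul ha' (conjSub_eq_of_mem_normalizer hb).le⟩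
      inv_mem' := by
        rintro a ⟨ha, ha'⟩
        refine ⟨Subgroup.inv_mem _ ha, ?_⟩
        have := ha'.inv
        rwa [conjSub_eq_of_mem_normalizer ha] at this }
  have hle : Subgroup.closure {g : G | g ∈ Subgroup.normalizer (R : Set G) ∧ ∃ k : ℕ, orderOf g = p ^ k} ≤ Y := by
    rw [Subgroup.closure_le]
    rintro x ⟨hxN, hx⟩
    obtain ⟨m, hm, hmx⟩ := exists_conj_mem_of_card (inf_le_right : normalizerIn (S : Subgroup G) R ≤ _)
      (card_normalizerIn_of_fullyNormalized S hR) hxN hx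
    have h1 : Ind E (m * x * m⁻¹) R := ind_of_mem E hRS hmx.1
    have h2 := ind_conj_of_mem_normalizer hE hRS (Subgroup.inv_mem _ hm) h1 hmx.2
    have h3 : m⁻¹ * (m * x * m⁻¹) * m⁻¹⁻¹ = x := by group
    rw [h3] at h2
    exact ⟨hxN, h2⟩
  exact hle hg

/-- One step up the normalizer tower. -/
theorem ind_normalizerIn (S : Sylow p G) {E : FusionSystem (S : Subgroup G)} (hE : Good (S : Subgroup G) E)
    (hEsat : E.IsSaturated p) {P : Subgroup G} (hP : (groupFusionSystem (S : Subgroup G)).IsCentric P) {g : G}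
    (hgS : g ∈ Subgroup.normalizer ((S : Subgroup G) : Set G)) (hgP : g ∈ Subgroup.normalizer (P : Set G))
    (hg : Ind E g P) : Ind E g (normalizerIn (S : Subgroup G) P) ∧
      g ∈ Subgroup.normalizer ((normalizerIn (S : Subgroup G) P : Subgroup G) : Set G) := by
  set N := normalizerIn (S : Subgroup G) P with hN
  have hPS : P ≤ (S : Subgroup G) := hP.1
  have hNS : N ≤ (S : Subgroup G) := inf_le_left
  have hPN : P ≤ N := le_inf hPS Subgroup.le_normalizer
  have hNP : N ≤ Subgroup.normalizer (P : Set G) := inf_le_right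
  have hSp : IsPGroup p (S : Subgroup G) := S.2
  have hPc : E.IsFullyCentralized P := isFullyCentralized_of_isCentric E _ hE.sub hP
  have hPr : E.IsReceptive P := receptive_of_fullyCentralized hSp E hEsat hPc
  have hgPeq : conjSub g P = P := conjSub_eq_of_mem_normalizer hgP
  have hrange : (conjHom P g).range = P := by rw [range_conjHom, hgPeq]
  obtain ⟨ψ, hψ, hψx⟩ := hPr.2 P (conjHom P g) hg hrange
  have hNle : N ≤ extender (S : Subgroup G) P (conjHom P g) := by
    intro x hx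
    rw [mem_extender_iff]
    refine ⟨hx.1, hx.2, g * x * g⁻¹, ?_, fun y hy => ?_⟩
    · exact (Subgroup.mem_normalizer_iff.mp hgS x).mp hx.1
    · show g * (x * y * x⁻¹) * g⁻¹ = g * x * g⁻¹ * (g * y * g⁻¹) * (g * x * g⁻¹)⁻¹
      group
  have hψN := restrict_mem E hψ hNle
  obtain ⟨-, -, h, hh⟩ := hE.sub N hψN
  have hhN : Ind E h N := mem_of_eq E hψN (fun x => (hh x).symm)
  have hhP : ∀ y ∈ P, h * y * h⁻¹ = g * y * g⁻¹ := by
    intro y hy
    have h1 := hh ⟨y, hPN hy⟩
    have h2 := hψx y hy (hNle (hPN hy))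
    rw [← h1]
    exact h2
  -- `h` and `g` normalize `P` and `N`
  have hhPn : h ∈ Subgroup.normalizer (P : Set G) := by
    apply mem_normalizer_of_conjSub_le
    rintro _ ⟨y, hy, rfl⟩
    show h * y * h⁻¹ ∈ P
    rw [hhP y hy]
    exact (Subgroup.mem_normalizer_iff.mp hgP y).mp hy
  have hhNn : h ∈ Subgroup.normalizer (N : Set G) := by
    apply mem_normalizer_of_conjSub_le
    intro y hy
    refine ⟨hhN.conj_le hy, ?_⟩
    obtain ⟨x, hx, rfl⟩ := hy
    exact Subgroup.mul_mem _ (Subgroup.mul_mem _ hhPn (hNP hx)) (Subgroup.inv_mem _ hhPn)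
  have hgNn : g ∈ Subgroup.normalizer (N : Set G) := by
    apply mem_normalizer_of_conjSub_le
    rintro _ ⟨x, hx, rfl⟩
    refine ⟨(Subgroup.mem_normalizer_iff.mp hgS x).mp hx.1, ?_⟩
    exact Subgroup.mul_mem _ (Subgroup.mul_mem _ hgP (hNP hx)) (Subgroup.inv_mem _ hgP)
  refine ⟨?_, hgNn⟩
  have hcN : h⁻¹ * g ∈ Subgroup.normalizer (N : Set G) := Subgroup.mul_mem _ (Subgroup.inv_mem _ hhNn) hgNn
  have hcP : h⁻¹ * g ∈ Subgroup.centralizer (P : Set G) := by
    rw [Subgroup.mem_centralizer_iff]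
    intro y hy
    have h1 : (h⁻¹ * g) * y * (h⁻¹ * g)⁻¹ = y := by
      calc (h⁻¹ * g) * y * (h⁻¹ * g)⁻¹ = h⁻¹ * (g * y * g⁻¹) * h := by group
        _ = h⁻¹ * (h * y * h⁻¹) * h := by rw [hhP y hy]
        _ = y := by group
    calc y * (h⁻¹ * g) = ((h⁻¹ * g) * y * (h⁻¹ * g)⁻¹) * (h⁻¹ * g) := by rw [h1]
      _ = (h⁻¹ * g) * y := by group
  have hcen : ∀ x : G, conjSub x P ≤ (S : Subgroup G) →
      (S : Subgroup G) ⊓ Subgroup.centralizer ((conjSub x P : Subgroup G) : Set G) ≤ conjSub x P := by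
    intro x hx
    exact hP.2 (conjSub x P)
      ⟨conjHom P x, ⟨hPS, fun y => hx (conj_mem_conjSub y.2), x, fun _ => rfl⟩, range_conjHom P x⟩
  obtain ⟨z, hzP, hz⟩ := exists_conj_eq_on S hNS hPN hNP hcen hcP hcN
  have hcI : Ind E (h⁻¹ * g) N := (ind_of_mem E hNS (hPS hzP)).congr (fun x hx => hz x hx)
  have := hcI.mul hhN (conjSub_eq_of_mem_normalizer hcN).le
  rwa [mul_inv_cancel_left] at this

/-- Up the normalizer tower, to `S`. -/
theorem ind_top (S : Sylow p G) {E : FusionSystem (S : Subgroup G)} (hE : Good (S : Subgroup G) E)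
    (hEsat : E.IsSaturated p) {g : G} (hgS : g ∈ Subgroup.normalizer ((S : Subgroup G) : Set G)) :
    ∀ (n : ℕ) (P : Subgroup G), Nat.card (S : Subgroup G) - Nat.card P = n →
      (groupFusionSystem (S : Subgroup G)).IsCentric P → g ∈ Subgroup.normalizer (P : Set G) → Ind E g P →
      Ind E g (S : Subgroup G) := by
  intro n
  induction n using Nat.strong_induction_on with
  | _ n ih =>
    intro P hn hP hgP hg
    have hPS : P ≤ (S : Subgroup G) := hP.1
    by_cases hPeq : P = (S : Subgroup G)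
    · rw [hPeq] at hg
      exact hg
    have hlt : P < (S : Subgroup G) := lt_of_le_of_ne hPS hPeq
    have hlt' := lt_normalizerIn (p := p) S.2 hlt
    obtain ⟨h1, h2⟩ := ind_normalizerIn S hE hEsat hP hgS hgP hg
    have hNS : normalizerIn (S : Subgroup G) P ≤ (S : Subgroup G) := inf_le_left
    have hcen := isCentric_of_le _ hP hlt'.le hNS
    have : Finite (normalizerIn (S : Subgroup G) P) := finite_of_le hNS
    have hc1 : Nat.card P < Nat.card (normalizerIn (S : Subgroup G) P) := card_lt_card_of_lt hlt'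
    have hc2 : Nat.card (normalizerIn (S : Subgroup G) P) ≤ Nat.card (S : Subgroup G) :=
      Subgroup.card_le_of_le hNS
    exact ih (Nat.card (S : Subgroup G) - Nat.card (normalizerIn (S : Subgroup G) P)) (by omega) _ rfl
      hcen h2 h1

end main

/-- Let G be a finite group with nontrivial Sylow p-subgroup S and F its fusion system on S. Suppose (a) no nontrivial proper subgroup of S is strongly closed in F, and (b) the automorphisms of S induced by G are generated by those induced, for R running over the fully normalized radical centric subgroups of F, by the subgroup of N_G(R) generated by its elements of p-power order. Then F is simple. -/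
theorem result {G : Type*} [Group G] [Finite G] (p : ℕ) [Fact p.Prime] (S : Sylow p G) (hS1 : (S : Subgroup G) ≠ ⊥) (ha : ∀ T : Subgroup G, (Cfsg.groupFusionSystem (S : Subgroup G)).StronglyClosed T → T = ⊥ ∨ T = (S : Subgroup G)) (hb : Cfsg.autInducedBy ⊤ (S : Subgroup G) = ⨆ (R : Subgroup G) (_ : (Cfsg.groupFusionSystem (S : Subgroup G)).IsFullyNormalized R ∧ (Cfsg.groupFusionSystem (S : Subgroup G)).IsRadical p R ∧ (Cfsg.groupFusionSystem (S : Subgroup G)).IsCentric R), Cfsg.autInducedBy (Subgroup.closure {g : G | g ∈ Subgroup.normalizer (R : Set G) ∧ ∃ k : ℕ, orderOf g = p ^ k}) (S : Subgroup G)) : (Cfsg.groupFusionSystem (S : Subgroup G)).IsSimple p := by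
  have hFsat : (groupFusionSystem (S : Subgroup G)).IsSaturated p := S5076.result p S
  refine ⟨hFsat, hS1, ?_⟩
  intro T E hEn
  obtain ⟨⟨hEsat, -, hsub, hsc, hinv, hfrat⟩, -⟩ := hEn
  rcases ha T hsc with h | h
  · left; exact h
  right
  refine ⟨h, ?_⟩
  subst h
  have hE : Good (S : Subgroup G) E :=
    ⟨hsub, fun hh hn => invariance' E hinv hh hn, fun hP hgP => frattini' E hfrat hP hgP⟩
  intro P
  apply Set.Subset.antisymm (hsub P)
  apply hom_subset_of_forall_normalizer hE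
  intro n hn
  have h1 : conjAut (S : Subgroup G) n hn ∈ autInducedBy ⊤ (S : Subgroup G) :=
    Subgroup.subset_closure ⟨n, Subgroup.mem_top n, fun x => rfl⟩
  rw [hb] at h1
  have h2 : (⨆ (R : Subgroup G) (_ : (Cfsg.groupFusionSystem (S : Subgroup G)).IsFullyNormalized R ∧ (Cfsg.groupFusionSystem (S : Subgroup G)).IsRadical p R ∧ (Cfsg.groupFusionSystem (S : Subgroup G)).IsCentric R), Cfsg.autInducedBy (Subgroup.closure {g : G | g ∈ Subgroup.normalizer (R : Set G) ∧ ∃ k : ℕ, orderOf g = p ^ k}) (S : Subgroup G)) ≤ E.autGroup (S : Subgroup G) := by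
    apply iSup_le
    intro R
    apply iSup_le
    intro hR
    unfold autInducedBy
    rw [Subgroup.closure_le]
    rintro α ⟨g, hg, hα⟩
    have hgS : g ∈ Subgroup.normalizer ((S : Subgroup G) : Set G) := mem_normalizer_of_conj_eq α g hα
    obtain ⟨hgR, hgI⟩ := ind_of_mem_closure S hE hR.1 hg
    have hgtop := ind_top S hE hEsat hgS _ R rfl hR.2.2 hgR hgI
    apply Subgroup.subset_closure
    exact mem_of_eq E hgtop (fun x => hα x)
  have h3 := h2 h1
  rw [mem_autGroup_iff E le_rfl] at h3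
  exact mem_of_eq E h3 (fun x => rfl)

end Cfsg.Agent.S5160
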