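import Mathlib
import Cfsg.Statements.S1012
import Cfsg.Agent.Helper17.SylowKit
import Cfsg.Agent.Helper17.FixedCosets

set_option autoImplicit false
open Cfsg

namespace Cfsg.Agent.S1012

open Subgroup MulAction Cfsg.Agent.Helper17

section Aux

variable {G : Type*} [Group G] [Finite G]

/-- an involution commuting with an element of order 3 gives an element of order 6 -/
theorem order_six_of_commute {t y : G} (ht : orderOf t = 2) (hy : orderOf y = 3)
    (hc : Commute t y) : orderOf (t * y) = 6 := by
  rw [hc.orderOf_mul_eq_mul_orderOf_of_coprime (by rw [ht, hy]; norm_num), ht, hy]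

theorem card3 (h : Nat.card G = 24) : Nat.card G = 3 ^ 1 * 8 := by rw [h]; norm_num

theorem card_sylow3 (h : Nat.card G = 24) (P : Sylow 3 G) : Nat.card (P : Subgroup G) = 3 := by
  simpa using card_sylow_subgroup_of_card_eq (card3 h) (by norm_num) P

/-- the centralizer of a Sylow 3-subgroup has odd order (else an element of order 6) -/
theorem card_centralizer_odd (h : Nat.card G = 24) (h6 : ∀ g : G, orderOf g ≠ 6) (P : Sylow 3 G) :
    ¬ 2 ∣ Nat.card (centralizer ((P : Subgroup G) : Set G)) := by
  intro h2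
  obtain ⟨t, ht⟩ := exists_prime_orderOf_dvd_card' (G := centralizer ((P : Subgroup G) : Set G)) 2 h2
  have ht' : orderOf (t : G) = 2 := by rw [Subgroup.orderOf_coe]; exact ht
  obtain ⟨y, hy⟩ := exists_prime_orderOf_dvd_card' (G := (P : Subgroup G)) 3 (by rw [card_sylow3 h P])
  have hy' : orderOf (y : G) = 3 := by rw [Subgroup.orderOf_coe]; exact hy
  have hc : Commute (t : G) (y : G) := (mem_centralizer_iff.mp t.2 y y.2).symm
  exact h6 _ (order_six_of_commute ht' hy' hc)

theorem n3_eq (h : Nat.card G = 24) (h6 : ∀ g : G, orderOf g ≠ 6) : Nat.card (Sylow 3 G) = 4 := by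
  have hdvd : Nat.card (Sylow 3 G) ∣ 8 := card_sylow_dvd_of_card_eq (card3 h) (by norm_num)
  have hmod : Nat.card (Sylow 3 G) ≡ 1 [MOD 3] := card_sylow_modEq_one 3 G
  have hne1 : Nat.card (Sylow 3 G) ≠ 1 := by
    intro h1
    obtain ⟨P⟩ : Nonempty (Sylow 3 G) := inferInstance
    have hN := card_normalizer_mul_card_sylow P
    rw [h1, h, mul_one] at hN
    obtain ⟨hd1, -⟩ := relIndex_dvd_of_card_sylow_prime P (card_sylow3 h P)
    have hmul := card_centralizer_mul_relIndex (P : Subgroup G)
    rw [hN] at hmul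
    have hodd := card_centralizer_odd h h6 P
    set d := (centralizer ((P : Subgroup G) : Set G)).relIndex (normalizer ((P : Subgroup G) : Set G))
    have hd2 : d ∣ 2 := by simpa using hd1
    rcases (Nat.dvd_prime Nat.prime_two).mp hd2 with hd | hd
    · rw [hd, mul_one] at hmul
      exact hodd (by rw [hmul]; norm_num)
    · rw [hd] at hmul
      have : Nat.card (centralizer ((P : Subgroup G) : Set G)) = 12 := by omega
      exact hodd (by rw [this]; norm_num)
  have hmem : Nat.card (Sylow 3 G) ∈ Nat.divisors 8 := Nat.mem_divisors.mpr ⟨hdvd, by norm_num⟩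
  have key : ∀ n ∈ Nat.divisors 8, n % 3 = 1 → n ≠ 1 → n = 4 := by decide
  exact key _ hmem hmod hne1

theorem card_normalizer3 (h : Nat.card G = 24) (h6 : ∀ g : G, orderOf g ≠ 6) (P : Sylow 3 G) :
    Nat.card (normalizer ((P : Subgroup G) : Set G)) = 6 := by
  have := card_normalizer_mul_card_sylow P
  rw [n3_eq h h6, h] at this
  omega

theorem toPermHom_injective (h : Nat.card G = 24) (h6 : ∀ g : G, orderOf g ≠ 6) :
    Function.Injective (MulAction.toPermHom G (Sylow 3 G)) := by
  rw [← MonoidHom.ker_eq_bot_iff]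
  set K := (MulAction.toPermHom G (Sylow 3 G)).ker with hK
  have hKN : ∀ g ∈ K, ∀ P : Sylow 3 G, g ∈ normalizer ((P : Subgroup G) : Set G) := by
    intro g hg P
    have : MulAction.toPermHom G (Sylow 3 G) g = 1 := hg
    have h1 : g • P = P := by
      have := congrArg (fun σ => σ P) this
      simpa using this
    exact Sylow.smul_eq_iff_mem_normalizer.mp h1
  obtain ⟨P⟩ : Nonempty (Sylow 3 G) := inferInstance
  -- there is a second Sylow subgroup
  obtain ⟨P', hP'⟩ : ∃ P' : Sylow 3 G, P' ≠ P := by
    by_contra hcon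
    push Not at hcon
    have : Subsingleton (Sylow 3 G) := ⟨fun a b => (hcon a).trans (hcon b).symm⟩
    have : Nat.card (Sylow 3 G) ≤ 1 := Finite.card_le_one_iff_subsingleton.mpr this
    rw [n3_eq h h6] at this
    omega
  have hK2 : ∀ g ∈ K, g ^ 2 = 1 := by
    intro g hg
    have hdvd : orderOf g ∣ 6 := by
      have := orderOf_dvd_natCard (⟨g, hKN g hg P⟩ : normalizer ((P : Subgroup G) : Set G))
      rwa [card_normalizer3 h h6 P, Subgroup.orderOf_mk] at this
    have hne6 := h6 g
    have hne3 : orderOf g ≠ 3 := by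
      intro h3
      have h1 : g ∈ (P : Subgroup G) :=
        mem_sylow_of_mem_normalizer_of_orderOf P (hKN g hg P) ⟨1, by rw [h3]; norm_num⟩
      have h2 : g ∈ (P' : Subgroup G) :=
        mem_sylow_of_mem_normalizer_of_orderOf P' (hKN g hg P') ⟨1, by rw [h3]; norm_num⟩
      have h3' : g ∈ (P' : Subgroup G) ⊓ (P : Subgroup G) := mem_inf.mpr ⟨h2, h1⟩
      rw [sylow_inf_eq_bot_of_ne P P' (card_sylow3 h P) hP', mem_bot] at h3'
      rw [h3', orderOf_one] at h3
      omega
    have hmem : orderOf g ∈ Nat.divisors 6 := Nat.mem_divisors.mpr ⟨hdvd, by norm_num⟩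
    have key : ∀ n ∈ Nat.divisors 6, n ≠ 6 → n ≠ 3 → n ∣ 2 := by decide
    exact orderOf_dvd_iff_pow_eq_one.mp (key _ hmem hne6 hne3)
  have hKp : IsPGroup 2 K := fun g => ⟨1, by
    rw [pow_one]; exact Subtype.ext (hK2 g.1 g.2)⟩
  obtain ⟨j, hj⟩ := hKp.exists_card_eq
  have hKle : K ≤ normalizer ((P : Subgroup G) : Set G) := fun g hg => hKN g hg P
  have hK6 : Nat.card K ∣ 6 := by
    have := Subgroup.card_dvd_of_le hKle
    rwa [card_normalizer3 h h6 P] at this
  have hj1 : j ≤ 1 := by
    by_contra hlt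
    push Not at hlt
    have h4 : 2 ^ 2 ∣ 2 ^ j := pow_dvd_pow 2 hlt
    rw [← hj] at h4
    have := h4.trans hK6
    norm_num at this
  rcases Nat.le_one_iff_eq_zero_or_eq_one.mp hj1 with h0 | h1
  · rw [h0, pow_zero] at hj
    exact Subgroup.card_eq_one.mp hj
  · exfalso
    rw [h1, pow_one] at hj
    obtain ⟨⟨t, htK⟩, ht1, htu⟩ := (Nat.card_eq_two_iff' (1 : K)).mp hj
    have ht1' : t ≠ 1 := fun h => ht1 (Subtype.ext h)
    have hot : orderOf t = 2 := orderOf_eq_prime (hK2 t htK) ht1'
    obtain ⟨y, hy⟩ := exists_prime_orderOf_dvd_card' (G := (P : Subgroup G)) 3 (by rw [card_sylow3 h P])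
    have hy' : orderOf (y : G) = 3 := by rw [Subgroup.orderOf_coe]; exact hy
    have hKnormal : K.Normal := MonoidHom.normal_ker _
    have hconj : (y : G) * t * (y : G)⁻¹ = t := by
      have hmem : (y : G) * t * (y : G)⁻¹ ∈ K := hKnormal.conj_mem t htK y
      have hne : (⟨(y : G) * t * (y : G)⁻¹, hmem⟩ : K) ≠ 1 := by
        intro h
        have h' : (y : G) * t * (y : G)⁻¹ = 1 := congrArg Subtype.val h
        apply ht1'
        have := congrArg (fun s => (y : G)⁻¹ * s * (y : G)) h'
        simpa [mul_assoc] using this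
      exact congrArg Subtype.val (htu _ hne)
    have hc : Commute t (y : G) := by
      have : (y : G) * t = t * (y : G) := by
        calc (y : G) * t = ((y : G) * t * (y : G)⁻¹) * (y : G) := by group
          _ = t * (y : G) := by rw [hconj]
      exact this.symm
    exact h6 _ (order_six_of_commute hot hy' hc)

theorem result' (h : Nat.card G = 24) (h6 : ∀ g : G, orderOf g ≠ 6) :
    Nonempty (G ≃* Equiv.Perm (Fin 4)) := by
  classical
  have hinj := toPermHom_injective h h6
  have hn3 := n3_eq h h6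
  haveI : Fintype (Sylow 3 G) := Fintype.ofFinite _
  have hcard : Fintype.card (Sylow 3 G) = Fintype.card (Fin 4) := by
    rw [Fintype.card_fin, ← Nat.card_eq_fintype_card, hn3]
  let e : Sylow 3 G ≃ Fin 4 := Fintype.equivOfCardEq hcard
  have hbij : Function.Bijective (MulAction.toPermHom G (Sylow 3 G)) := by
    rw [Nat.bijective_iff_injective_and_card]
    refine ⟨hinj, ?_⟩
    rw [h, Nat.card_perm, hn3]
    rfl
  exact ⟨(MulEquiv.ofBijective _ hbij).trans e.permCongrHom⟩

end Aux

/-- A group of order 24 containing no element of order 6 is isomorphic to the symmetric group of degree 4. -/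
theorem result {G : Type*} [Group G] [Finite G] (h : Nat.card G = 24) (h6 : ∀ g : G, orderOf g ≠ 6) : Nonempty (G ≃* Equiv.Perm (Fin 4)) := by
  exact result' h h6

end Cfsg.Agent.S1012
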