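-- Statement S3766: F(N) is the intersection of the centralizers in N of the chief factors of G
-- (G finite solvable, N normal in G).
import Cfsg.Statements.S3766
import Cfsg.Agent.Helper63.ChiefCent

set_option autoImplicit false
open Cfsg

namespace Cfsg.Agent.S3766

open Cfsg.Agent.Helper63

/-- The elements of `N` centralizing all chief factors of `G` below `F`. -/
def chiefCent {G : Type*} [Group G] (N F : Subgroup G) : Subgroup G where
  carrier := {g | g ∈ N ∧ ∀ U V : Subgroup G, IsChiefFactor U V → U ≤ F →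
    ∀ u ∈ U, u * g * u⁻¹ * g⁻¹ ∈ V}
  one_mem' := by
    refine ⟨N.one_mem, ?_⟩
    intro U V hUV _ u _
    have : u * 1 * u⁻¹ * 1⁻¹ = 1 := by group
    rw [this]; exact V.one_mem
  mul_mem' := by
    rintro a b ⟨haN, ha⟩ ⟨hbN, hb⟩
    refine ⟨N.mul_mem haN hbN, ?_⟩
    intro U V hUV hUF u hu
    have hV : V.Normal := hUV.2.1
    have h1 := ha U V hUV hUF u hu
    have h2 := hb U V hUV hUF u hu
    have : u * (a * b) * u⁻¹ * (a * b)⁻¹ =
        (u * a * u⁻¹ * a⁻¹) * (a * (u * b * u⁻¹ * b⁻¹) * a⁻¹) := by group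
    rw [this]
    exact V.mul_mem h1 (hV.conj_mem _ h2 a)
  inv_mem' := by
    rintro a ⟨haN, ha⟩
    refine ⟨N.inv_mem haN, ?_⟩
    intro U V hUV hUF u hu
    have hV : V.Normal := hUV.2.1
    have h1 := ha U V hUV hUF u hu
    have : u * a⁻¹ * u⁻¹ * a⁻¹⁻¹ = a⁻¹ * (u * a * u⁻¹ * a⁻¹)⁻¹ * a⁻¹⁻¹ := by group
    rw [this]
    exact hV.conj_mem _ (V.inv_mem h1) a⁻¹

theorem chiefCent_normal {G : Type*} [Group G] (N F : Subgroup G) [hN : N.Normal] :
    (chiefCent N F).Normal := by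
  constructor
  rintro a ⟨haN, ha⟩ x
  refine ⟨hN.conj_mem a haN x, ?_⟩
  intro U V hUV hUF u hu
  have hU : U.Normal := hUV.1
  have hV : V.Normal := hUV.2.1
  have hu' : x⁻¹ * u * x⁻¹⁻¹ ∈ U := hU.conj_mem u hu x⁻¹
  have h1 := ha U V hUV hUF _ hu'
  have : u * (x * a * x⁻¹) * u⁻¹ * (x * a * x⁻¹)⁻¹ =
      x * ((x⁻¹ * u * x⁻¹⁻¹) * a * (x⁻¹ * u * x⁻¹⁻¹)⁻¹ * a⁻¹) * x⁻¹ := by group
  rw [this]
  exact hV.conj_mem _ h1 x

/-- Let G be a finite solvable group and N a normal subgroup of G. Call a pair V < U of normal subgroups of G a chief factor of G when no normal subgroup of G lies strictly between them; an element g centralizes the chief factor U/V when u g u⁻¹ g⁻¹ ∈ V for all u ∈ U. Then an element of G lies in the Fitting subgroup F(N) if and only if it lies in N and centralizes every chief factor of G; and also if and only if it lies in N and centralizes every chief factor U/V of G with U ≤ F(N). -/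
theorem result {G : Type*} [Group G] [Finite G] (hG : Group.IsSolvable G) (N : Subgroup G) [N.Normal] (g : G) : (g ∈ (Cfsg.fittingSubgroup ↥N).map N.subtype ↔ g ∈ N ∧ ∀ U V : Subgroup G, (U.Normal ∧ V.Normal ∧ V < U ∧ ∀ W : Subgroup G, W.Normal → V ≤ W → W ≤ U → W = V ∨ W = U) → ∀ u ∈ U, u * g * u⁻¹ * g⁻¹ ∈ V) ∧ (g ∈ (Cfsg.fittingSubgroup ↥N).map N.subtype ↔ g ∈ N ∧ ∀ U V : Subgroup G, (U.Normal ∧ V.Normal ∧ V < U ∧ ∀ W : Subgroup G, W.Normal → V ≤ W → W ≤ U → W = V ∨ W = U) → U ≤ (Cfsg.fittingSubgroup ↥N).map N.subtype → ∀ u ∈ U, u * g * u⁻¹ * g⁻¹ ∈ V) := by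
  have := hG
  set F := (Cfsg.fittingSubgroup ↥N).map N.subtype with hF
  have hFN : F ≤ N := Subgroup.map_subtype_le _
  have hFn : F.Normal := by
    have : (Cfsg.fittingSubgroup N).Characteristic :=
      Cfsg.Agent.Lib.fittingSubgroup_characteristic
    rw [hF]; infer_instance
  have hFnil : Group.IsNilpotent F := by
    have h1 : Group.IsNilpotent (Cfsg.fittingSubgroup N) :=
      Cfsg.Agent.Lib.isNilpotent_fittingSubgroup
    exact (Group.isNilpotent_congr
      ((Cfsg.fittingSubgroup N).equivMapOfInjective N.subtype N.subtype_injective)).mp h1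
  -- forward direction: `F(N)` centralizes all chief factors
  have hfwd : ∀ x ∈ F, ∀ U V : Subgroup G, IsChiefFactor U V →
      ∀ u ∈ U, u * x * u⁻¹ * x⁻¹ ∈ V :=
    fun x hx U V hUV u hu => centralizes_chief_of_nilpotent hFnil hUV x hx u hu
  -- backward direction
  have hCn : (chiefCent N F).Normal := chiefCent_normal N F
  have hCN : chiefCent N F ≤ N := fun x hx => hx.1
  have hFC : F ≤ chiefCent N F := fun x hx => ⟨hFN hx, fun U V hUV _ u hu => hfwd x hx U V hUV u hu⟩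
  have hback : chiefCent N F ≤ F :=
    le_fittingMap_of_centralizes_chief N (chiefCent N F) hCN hFC
      (fun U V hUV hUF c hc u hu => hc.2 U V hUV hUF u hu)
  refine ⟨⟨fun hg => ⟨hFN hg, fun U V hUV u hu => hfwd g hg U V hUV u hu⟩, ?_⟩,
    ⟨fun hg => ⟨hFN hg, fun U V hUV _ u hu => hfwd g hg U V hUV u hu⟩, ?_⟩⟩
  · rintro ⟨hgN, h⟩
    exact hback ⟨hgN, fun U V hUV _ u hu => h U V hUV u hu⟩
  · rintro ⟨hgN, h⟩
    exact hback ⟨hgN, fun U V hUV hUF u hu => h U V hUV hUF u hu⟩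

end Cfsg.Agent.S3766
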