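import Mathlib
import Cfsg.Statements.S0284
import Cfsg.Agent.Helper5.HermCount

set_option autoImplicit false
open Cfsg

namespace Cfsg.Agent.S0284

open Cfsg.Agent.Helper5

/-- The standard Hermitian form on F^n, |F| = q^2, has exactly q^(n-1) (q^n - (-1)^n) vectors of norm 1. -/
theorem result {F : Type*} [Field F] [Fintype F] {q : ℕ} (hF : Fintype.card F = q ^ 2) (n : ℕ) : Nat.card {v : Fin n → F // Cfsg.hermForm n F q v v = 1} = (if Even n then q ^ (n - 1) * (q ^ n - 1) else q ^ (n - 1) * (q ^ n + 1)) := by
  classical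
  rw [card_hermForm_eq]
  have hq := herm_q_pos hF
  have hint := hermCnt_one_int hF n
  rcases n with _ | m
  · simp [hermCnt_zero_one]
  · simp only [Nat.add_sub_cancel]
    have hpow : 1 ≤ q ^ (m + 1) := Nat.one_le_pow _ _ (by omega)
    apply Nat.eq_of_mul_eq_mul_right (by omega : 0 < q)
    zify
    rw [hint]
    split_ifs with he
    · rw [he.neg_one_pow]
      push_cast [Nat.cast_sub hpow]
      ring
    · rw [(Nat.not_even_iff_odd.1 he).neg_one_pow]
      ring

end Cfsg.Agent.S0284
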