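import Cfsg.Statements.S0754

set_option autoImplicit false
open Cfsg

namespace Cfsg.Agent.S0754

/-- In a field F with q^2 elements, every non-zero μ with μ^q = μ (that is, μ in the subfield of order q) has exactly q + 1 solutions λ of λ^(q+1) = μ. -/
theorem result {F : Type*} [Field F] [Fintype F] {q : ℕ} (hF : Fintype.card F = q ^ 2) (μ : F) (hμ : μ ≠ 0) (hμq : μ ^ q = μ) : Nat.card {x : F // x ^ (q + 1) = μ} = q + 1 := by
  classical
  have hq : 2 ≤ q := by
    have h1 : 1 < Fintype.card F := Fintype.one_lt_card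
    rw [hF] at h1
    by_contra hcon
    have : q = 0 ∨ q = 1 := by omega
    rcases this with rfl | rfl <;> simp at h1
  have hcard : Nat.card Fˣ = q ^ 2 - 1 := by
    rw [Nat.card_units, Nat.card_eq_fintype_card, hF]
  have hfac : q ^ 2 - 1 = (q - 1) * (q + 1) := by
    obtain ⟨k, rfl⟩ : ∃ k, q = k + 2 := ⟨q - 2, by omega⟩
    have : (k + 2) ^ 2 = (k + 2 - 1) * (k + 2 + 1) + 1 := by
      simp only [show k + 2 - 1 = k + 1 by omega]
      ring
    omega
  have hgcd1 : (q ^ 2 - 1).gcd (q + 1) = q + 1 := by
    rw [hfac]; exact Nat.gcd_eq_right (Dvd.intro_left _ rfl)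
  have hgcd2 : (q ^ 2 - 1).gcd (q - 1) = q - 1 := by
    rw [hfac]; exact Nat.gcd_eq_right (Dvd.intro _ rfl)
  -- the norm map on units
  set f : Fˣ →* Fˣ := powMonoidHom (q + 1) with hf
  set g : Fˣ →* Fˣ := powMonoidHom (q - 1) with hg
  have hker : Nat.card f.ker = q + 1 := by
    rw [hf, IsCyclic.card_powMonoidHom_ker, hcard, hgcd1]
  have hrange : Nat.card f.range = q - 1 := by
    rw [hf, IsCyclic.card_powMonoidHom_range, hcard, hgcd1, hfac]
    exact Nat.mul_div_cancel _ (by omega)
  have hgker : Nat.card g.ker = q - 1 := by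
    rw [hg, IsCyclic.card_powMonoidHom_ker, hcard, hgcd2]
  have hle : f.range ≤ g.ker := by
    rintro _ ⟨x, rfl⟩
    rw [MonoidHom.mem_ker, hf, hg, powMonoidHom_apply, powMonoidHom_apply, ← pow_mul,
      mul_comm, ← hfac, ← hcard]
    exact pow_card_eq_one'
  have heq : f.range = g.ker := Subgroup.eq_of_le_of_card_ge hle (by rw [hgker, hrange])
  -- μ as a unit
  set μ' : Fˣ := Units.mk0 μ hμ
  have hμ' : μ' ∈ f.range := by
    rw [heq, MonoidHom.mem_ker, hg, powMonoidHom_apply]
    apply Units.ext
    rw [Units.val_pow_eq_pow_val, Units.val_one, Units.val_mk0]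
    have : μ ^ (q - 1) * μ = μ := by
      rw [← pow_succ, show q - 1 + 1 = q by omega, hμq]
    exact mul_right_cancel₀ hμ (by rw [this, one_mul])
  obtain ⟨x0, hx0⟩ := hμ'
  -- the fibre is a coset of the kernel
  have e1 : {x : F // x ^ (q + 1) = μ} ≃ {x : Fˣ // f x = μ'} :=
    { toFun := fun x => ⟨Units.mk0 x.1 (by
          intro h0
          have := x.2
          rw [h0, zero_pow (by omega)] at this
          exact hμ this.symm), by
          apply Units.ext
          rw [hf, powMonoidHom_apply, Units.val_pow_eq_pow_val, Units.val_mk0, Units.val_mk0]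
          exact x.2⟩
      invFun := fun x => ⟨(x.1 : F), by
          have := congrArg Units.val x.2
          simpa [f, μ'] using this⟩
      left_inv := fun x => by simp
      right_inv := fun x => by
        apply Subtype.ext
        apply Units.ext
        simp }
  have e2 : {x : Fˣ // f x = μ'} ≃ f.ker :=
    { toFun := fun x => ⟨x0⁻¹ * x.1, by
          rw [MonoidHom.mem_ker, map_mul, map_inv, hx0, x.2, inv_mul_cancel]⟩
      invFun := fun k => ⟨x0 * k.1, by
          rw [map_mul, hx0, MonoidHom.mem_ker.mp k.2, mul_one]⟩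
      left_inv := fun x => by simp
      right_inv := fun k => by simp }
  rw [Nat.card_congr e1, Nat.card_congr e2, hker]

end Cfsg.Agent.S0754
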