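import Cfsg.Statements.S0751
import Cfsg.Agent.Helper13.Involution

set_option autoImplicit false
open Cfsg

namespace Cfsg.Agent.S0751

open Cfsg.Agent.Helper13

variable {F V : Type*} [Field F] [Finite F] [AddCommGroup V] [Module F V] [FiniteDimensional F V]
  {σ : F →+* F} (B : V →ₛₗ[σ] V →ₗ[F] F)

theorem sym_apply (hS : B.IsSymm) (x y : V) : σ (B x y) = B y x := hS.eq x y

theorem sym_zero (hS : B.IsSymm) {x y : V} (h : B x y = 0) : B y x = 0 := by
  rw [← sym_apply B hS, h, map_zero]

theorem self_fixed (hS : B.IsSymm) (x : V) : σ (B x x) = B x x := sym_apply B hS x x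

/-- Riesz representation: every functional is `B w`. -/
theorem riesz (hB : B.SeparatingLeft) (lam : Module.Dual F V) : ∃ w, B w = lam := by
  have : Finite V := Module.finite_of_finite F
  have : Finite (Module.Dual F V) := Module.finite_of_finite F
  have hinj : Function.Injective (fun w => B w) := by
    intro w w' h
    have h1 : B (w - w') = 0 := by rw [map_sub]; exact sub_eq_zero.mpr h
    have := hB (w - w') (fun y => by rw [h1]; rfl)
    exact sub_eq_zero.mp this
  have hcard : Nat.card (Module.Dual F V) ≤ Nat.card V := by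
    rw [Module.natCard_eq_pow_finrank (K := F) (V := V),
      Module.natCard_eq_pow_finrank (K := F) (V := Module.Dual F V), Subspace.dual_finrank_eq]
  exact (hinj.bijective_of_nat_card_le hcard).2 lam

/-- dimension of the orthogonal complement -/
theorem finrank_orth (hS : B.IsSymm) (hB : B.SeparatingLeft) (X : Submodule F V) :
    Module.finrank F (X.orthogonalBilin B) + Module.finrank F X = Module.finrank F V := by
  have : Finite V := Module.finite_of_finite F
  let ρ : V →+ Module.Dual F X :=
    { toFun := fun w => (B w).comp X.subtype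
      map_zero' := by simp
      map_add' := fun a b => by rw [map_add, LinearMap.add_comp] }
  have hsurj : Function.Surjective ρ := by
    intro μ
    obtain ⟨lam, hlam⟩ := LinearMap.exists_extend μ
    obtain ⟨w, hw⟩ := riesz B hB lam
    refine ⟨w, ?_⟩
    show (B w).comp X.subtype = μ
    rw [hw, hlam]
  have hker : ∀ w, w ∈ ρ.ker ↔ w ∈ X.orthogonalBilin B := by
    intro w
    rw [AddMonoidHom.mem_ker, Submodule.mem_orthogonalBilin_iff]
    constructor
    · intro h x hx
      apply sym_zero B hS
      have := LinearMap.congr_fun h ⟨x, hx⟩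
      simpa [ρ] using this
    · intro h
      apply LinearMap.ext
      intro x
      show B w x = 0
      exact sym_zero B hS (h x x.2)
  have h1 : Nat.card ρ.ker * ρ.ker.index = Nat.card V := AddSubgroup.card_mul_index _
  have h2 : ρ.ker.index = Nat.card (Module.Dual F X) := by
    rw [AddSubgroup.index_ker]
    exact Nat.card_congr (Equiv.subtypeUnivEquiv (fun μ => hsurj μ))
  have h3 : Nat.card ρ.ker = Nat.card (X.orthogonalBilin B) :=
    Nat.card_congr (Equiv.subtypeEquivRight hker)
  rw [h2, h3, Module.natCard_eq_pow_finrank (K := F) (V := V),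
    Module.natCard_eq_pow_finrank (K := F) (V := Module.Dual F X),
    Module.natCard_eq_pow_finrank (K := F) (V := X.orthogonalBilin B), Subspace.dual_finrank_eq,
    ← pow_add] at h1
  have hq : 2 ≤ Nat.card F := by
    have : Fintype F := Fintype.ofFinite F
    rw [Nat.card_eq_fintype_card]
    exact Fintype.one_lt_card
  exact Nat.pow_right_injective hq h1

theorem orth_orth (hS : B.IsSymm) (hB : B.SeparatingLeft) (X : Submodule F V) :
    (X.orthogonalBilin B).orthogonalBilin B = X := by
  symm
  apply Submodule.eq_of_le_of_finrank_le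
  · intro x hx y hy
    exact sym_zero B hS (hy x hx)
  · have h1 := finrank_orth B hS hB X
    have h2 := finrank_orth B hS hB (X.orthogonalBilin B)
    omega

theorem finrank_map_eq_of_injOn (X : Submodule F V) (f : V →ₗ[F] V)
    (hinj : ∀ x ∈ X, f x = 0 → x = 0) : Module.finrank F (X.map f) = Module.finrank F X := by
  have h1 : LinearMap.range (f.domRestrict X) = X.map f := LinearMap.range_domRestrict X f
  rw [← h1]
  apply LinearMap.finrank_range_of_inj
  intro a b hab
  have : f ((a - b : X) : V) = 0 := by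
    have h := hab
    simp only [LinearMap.domRestrict_apply] at h
    simp [map_sub, h]
  have := hinj _ (a - b).2 this
  exact Subtype.ext (sub_eq_zero.mp (by simpa using this))

theorem radical_transfer (hS : B.IsSymm) (hB : B.SeparatingLeft)
    (X : Submodule F V) (f : V →ₗ[F] V)
    (hiso : ∀ x ∈ X, ∀ x' ∈ X, B (f x) (f x') = B x x') (hinj : ∀ x ∈ X, f x = 0 → x = 0)
    (hY : (X.map f).orthogonalBilin B ≤ X.map f) : X.orthogonalBilin B ≤ X := by
  set R : Submodule F V := ((X.map f).orthogonalBilin B).comap f ⊓ X with hR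
  have hR1 : R ≤ X ⊓ X.orthogonalBilin B := by
    rintro x ⟨hx1, hx2⟩
    refine ⟨hx2, ?_⟩
    intro x' hx'
    rw [← hiso x' hx' x hx2]
    exact hx1 (f x') (Submodule.mem_map_of_mem hx')
  have hR2 : (X.map f).orthogonalBilin B ≤ R.map f := by
    intro z hz
    obtain ⟨x, hx, rfl⟩ := hY hz
    exact Submodule.mem_map_of_mem ⟨hz, hx⟩
  have h1 := Submodule.finrank_mono hR2
  have h2 : Module.finrank F (R.map f) ≤ Module.finrank F R := Submodule.finrank_map_le f R
  have h3 := Submodule.finrank_mono hR1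
  have h4 := finrank_orth B hS hB X
  have h5 := finrank_orth B hS hB (X.map f)
  have h6 := finrank_map_eq_of_injOn X f hinj
  have h7 : X ⊓ X.orthogonalBilin B = X.orthogonalBilin B :=
    Submodule.eq_of_le_of_finrank_le inf_le_right (by omega)
  rw [← h7]
  exact inf_le_left

/-- a subspace that is not totally isotropic contains a non-isotropic vector -/
theorem exists_nonisotropic (hσ : σ ≠ RingHom.id F) (hσ2 : ∀ a : F, σ (σ a) = a)
    (hS : B.IsSymm) (U : Submodule F V) (hU : ¬ U ≤ U.orthogonalBilin B) :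
    ∃ u ∈ U, B u u ≠ 0 := by
  have : Fintype F := Fintype.ofFinite F
  by_contra hcon
  push Not at hcon
  obtain ⟨u', hu', hu'2⟩ := Set.not_subset.mp hU
  rw [SetLike.mem_coe, Submodule.mem_orthogonalBilin_iff] at hu'2
  push Not at hu'2
  obtain ⟨u, hu, he⟩ := hu'2
  obtain ⟨c, hc⟩ := exists_trace_eq σ hσ hσ2 (a := 1) (map_one σ)
  have h1 := hcon (u + (c / B u u') • u') (U.add_mem hu (U.smul_mem _ hu'))
  simp only [map_add, LinearMap.add_apply, LinearMap.map_smulₛₗ, LinearMap.smul_apply, map_smul,
    smul_eq_mul, hcon u hu, hcon u' hu', mul_zero, add_zero, zero_add] at h1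
  rw [← sym_apply B hS u u', ← map_mul, div_mul_cancel₀ _ he] at h1
  exact one_ne_zero (by rw [← hc]; linear_combination h1)

/-- the key step: a pair of new vectors -/
theorem exists_pair (hσ : σ ≠ RingHom.id F) (hσ2 : ∀ a : F, σ (σ a) = a)
    (hS : B.IsSymm) (hB : B.SeparatingLeft)
    (X : Submodule F V) (f : V →ₗ[F] V)
    (hiso : ∀ x ∈ X, ∀ x' ∈ X, B (f x) (f x') = B x x') (hinj : ∀ x ∈ X, f x = 0 → x = 0)
    (hX : X ≠ ⊤) :
    ∃ v w : V, v ∉ X ∧ w ∉ X.map f ∧ (∀ x ∈ X, B w (f x) = B v x) ∧ B w w = B v v := by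
  have : Fintype F := Fintype.ofFinite F
  -- the restriction of `f` to `X` is injective
  have hker : LinearMap.ker (f.domRestrict X) = ⊥ := by
    rw [LinearMap.ker_eq_bot]
    intro a b hab
    have : f ((a - b : X) : V) = 0 := by
      have h := hab
      simp only [LinearMap.domRestrict_apply] at h
      simp [map_sub, h]
    have := hinj _ (a - b).2 this
    exact Subtype.ext (sub_eq_zero.mp (by simpa using this))
  obtain ⟨g, hg⟩ := (f.domRestrict X).exists_leftInverse_of_injective hker
  have hgf : ∀ x : X, g (f x) = x := fun x => by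
    have := LinearMap.congr_fun hg x
    simpa using this
  by_cases hXX : X.orthogonalBilin B ≤ X
  · -- Case 2: `X^⊥ ≤ X`
    have hYY : (X.map f).orthogonalBilin B ≤ X.map f := by
      have hmap : (X.map f).map (X.subtype.comp g) = X := by
        ext z
        constructor
        · rintro ⟨y, ⟨x, hx, rfl⟩, rfl⟩
          simp only [LinearMap.comp_apply, Submodule.subtype_apply]
          rw [hgf ⟨x, hx⟩]
          exact hx
        · intro hz
          refine ⟨f z, Submodule.mem_map_of_mem hz, ?_⟩
          simp only [LinearMap.comp_apply, Submodule.subtype_apply]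
          rw [hgf ⟨z, hz⟩]
      apply radical_transfer B hS hB (X.map f) (X.subtype.comp g)
      · rintro y ⟨x, hx, rfl⟩ y' ⟨x', hx', rfl⟩
        simp only [LinearMap.comp_apply, Submodule.subtype_apply]
        rw [hgf ⟨x, hx⟩, hgf ⟨x', hx'⟩, hiso x hx x' hx']
      · rintro y ⟨x, hx, rfl⟩ h0
        simp only [LinearMap.comp_apply, Submodule.subtype_apply] at h0
        rw [hgf ⟨x, hx⟩] at h0
        simp only at h0
        rw [h0, map_zero]
      · rw [hmap]
        exact hXX
    obtain ⟨v, hv⟩ : ∃ v, v ∉ X := by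
      by_contra hcon
      push Not at hcon
      exact hX (eq_top_iff.mpr fun x _ => hcon x)
    obtain ⟨w0, hw0⟩ := riesz B hB ((B v).comp (X.subtype.comp g))
    have hw0' : ∀ x ∈ X, B w0 (f x) = B v x := by
      intro x hx
      rw [hw0]
      simp only [LinearMap.comp_apply, Submodule.subtype_apply]
      rw [hgf ⟨x, hx⟩]
    have hw0Y : w0 ∉ X.map f := by
      rintro ⟨x0, hx0, hfx0⟩
      apply hv
      have : x0 - v ∈ X.orthogonalBilin B := by
        intro x hx
        apply sym_zero B hS
        rw [map_sub, LinearMap.sub_apply, ← hw0' x hx, ← hfx0, hiso x0 hx0 x hx, sub_self]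
      have h2 := X.sub_mem hx0 (hXX this)
      simpa using h2
    obtain ⟨r1, hr1, he⟩ : ∃ r1 ∈ (X.map f).orthogonalBilin B, B w0 r1 ≠ 0 := by
      by_contra hcon
      push Not at hcon
      apply hw0Y
      rw [← orth_orth B hS hB (X.map f)]
      intro r hr
      exact sym_zero B hS (hcon r hr)
    have hd : σ (B v v - B w0 w0) = B v v - B w0 w0 := by
      rw [map_sub, self_fixed B hS, self_fixed B hS]
    obtain ⟨s, hs⟩ := exists_trace_eq σ hσ hσ2 hd
    set r : V := (s / B w0 r1) • r1 with hr
    have hrY : r ∈ (X.map f).orthogonalBilin B := Submodule.smul_mem _ _ hr1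
    have hrr : B r r = 0 := hrY r (hYY hrY)
    have hw0r : B w0 r = s := by
      rw [hr, map_smul, smul_eq_mul, div_mul_cancel₀ _ he]
    have hrw0 : B r w0 = σ s := by
      rw [← hw0r, sym_apply B hS]
    refine ⟨v, w0 + r, hv, ?_, ?_, ?_⟩
    · intro h
      apply hw0Y
      have := (X.map f).sub_mem h (hYY hrY)
      simpa using this
    · intro x hx
      rw [map_add, LinearMap.add_apply, hw0' x hx,
        sym_zero B hS (hrY (f x) (Submodule.mem_map_of_mem hx)), add_zero]
    · simp only [map_add, LinearMap.add_apply, hrr, hw0r, hrw0, add_zero]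
      linear_combination hs
  · -- Case 1: `X^⊥` is not contained in `X`
    have hYY : ¬ (X.map f).orthogonalBilin B ≤ X.map f := fun h =>
      hXX (radical_transfer B hS hB X f hiso hinj h)
    have hX1 : ¬ X.orthogonalBilin B ≤ (X.orthogonalBilin B).orthogonalBilin B := by
      rw [orth_orth B hS hB]; exact hXX
    have hY1 : ¬ (X.map f).orthogonalBilin B ≤
        ((X.map f).orthogonalBilin B).orthogonalBilin B := by
      rw [orth_orth B hS hB]; exact hYY
    obtain ⟨v, hv, hvv⟩ := exists_nonisotropic B hσ hσ2 hS _ hX1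
    obtain ⟨w1, hw1, hww⟩ := exists_nonisotropic B hσ hσ2 hS _ hY1
    have hfix : σ (B v v / B w1 w1) = B v v / B w1 w1 := by
      rw [map_div₀, self_fixed B hS, self_fixed B hS]
    obtain ⟨c, hc⟩ := exists_norm_eq σ hσ hσ2 hfix (div_ne_zero hvv hww)
    have hcw : B (c • w1) (c • w1) = B v v := by
      simp only [LinearMap.map_smulₛₗ, LinearMap.smul_apply, map_smul, smul_eq_mul,
        RingHom.id_apply]
      rw [← mul_assoc, mul_comm c, hc, div_mul_cancel₀ _ hww]
    refine ⟨v, c • w1, ?_, ?_, ?_, hcw⟩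
    · intro h
      exact hvv (hv v h)
    · intro h
      have h2 : c • w1 ∈ (X.map f).orthogonalBilin B := Submodule.smul_mem _ _ hw1
      have h3 := h2 _ h
      rw [hcw] at h3
      exact hvv h3
    · intro x hx
      have h2 : c • w1 ∈ (X.map f).orthogonalBilin B := Submodule.smul_mem _ _ hw1
      rw [sym_zero B hS (h2 (f x) (Submodule.mem_map_of_mem hx)), sym_zero B hS (hv x hx)]

theorem extend_step (hσ : σ ≠ RingHom.id F) (hσ2 : ∀ a : F, σ (σ a) = a)
    (hS : B.IsSymm) (hB : B.SeparatingLeft)
    (X : Submodule F V) (f : V →ₗ[F] V)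
    (hiso : ∀ x ∈ X, ∀ x' ∈ X, B (f x) (f x') = B x x') (hinj : ∀ x ∈ X, f x = 0 → x = 0)
    (hX : X ≠ ⊤) :
    ∃ (X' : Submodule F V) (f' : V →ₗ[F] V), X < X' ∧
      (∀ x ∈ X', ∀ x' ∈ X', B (f' x) (f' x') = B x x') ∧ (∀ x ∈ X', f' x = 0 → x = 0) ∧
      ∀ x ∈ X, f' x = f x := by
  obtain ⟨v, w, hv, hw2, hw1, hww⟩ := exists_pair B hσ hσ2 hS hB X f hiso hinj hX
  -- extend `f` by `v ↦ w`
  obtain ⟨f', hf'1, hf'2⟩ := LinearMap.exists_extend_of_notMem (f.comp X.subtype) hv w
  have hf'X : ∀ x ∈ X, f' x = f x := fun x hx => by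
    have := LinearMap.congr_fun hf'1 ⟨x, hx⟩
    simpa using this
  refine ⟨X ⊔ Submodule.span F {v}, f', ?_, ?_, ?_, hf'X⟩
  · refine lt_of_le_of_ne le_sup_left ?_
    intro h
    apply hv
    rw [h]
    exact Submodule.mem_sup_right (Submodule.mem_span_singleton_self v)
  · intro a ha b hb
    obtain ⟨x, hx, z, hz, rfl⟩ := Submodule.mem_sup.mp ha
    obtain ⟨c, rfl⟩ := Submodule.mem_span_singleton.mp hz
    obtain ⟨x', hx', z', hz', rfl⟩ := Submodule.mem_sup.mp hb
    obtain ⟨c', rfl⟩ := Submodule.mem_span_singleton.mp hz'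
    simp only [map_add, map_smul, LinearMap.map_smulₛₗ, LinearMap.add_apply, LinearMap.smul_apply,
      smul_eq_mul, hf'X x hx, hf'X x' hx', hf'2, hiso x hx x' hx', hw1 x' hx', hww]
    rw [← sym_apply B hS w (f x), hw1 x hx, sym_apply B hS v x]
  · intro a ha h0
    obtain ⟨x, hx, z, hz, rfl⟩ := Submodule.mem_sup.mp ha
    obtain ⟨c, rfl⟩ := Submodule.mem_span_singleton.mp hz
    rw [map_add, map_smul, hf'X x hx, hf'2] at h0
    have hc : c = 0 := by
      by_contra hc
      apply hw2
      have : w = f (-(c⁻¹ • x)) := by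
        rw [map_neg, map_smul]
        have h1 : c • w = - f x := eq_neg_of_add_eq_zero_right h0
        calc w = c⁻¹ • (c • w) := by rw [smul_smul, inv_mul_cancel₀ hc, one_smul]
          _ = -(c⁻¹ • f x) := by rw [h1, smul_neg]
      rw [this]
      exact Submodule.mem_map_of_mem (X.neg_mem (X.smul_mem _ hx))
    rw [hc, zero_smul, add_zero] at h0 ⊢
    exact hinj x hx h0

theorem extend_all (hσ : σ ≠ RingHom.id F) (hσ2 : ∀ a : F, σ (σ a) = a)
    (hS : B.IsSymm) (hB : B.SeparatingLeft) :
    ∀ (k : ℕ) (X : Submodule F V) (f : V →ₗ[F] V),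
      Module.finrank F V - Module.finrank F X = k →
      (∀ x ∈ X, ∀ x' ∈ X, B (f x) (f x') = B x x') → (∀ x ∈ X, f x = 0 → x = 0) →
      ∃ f' : V →ₗ[F] V, (∀ x x', B (f' x) (f' x') = B x x') ∧ (∀ x, f' x = 0 → x = 0) ∧
        ∀ x ∈ X, f' x = f x := by
  intro k
  induction k using Nat.strong_induction_on with
  | _ k ih =>
    intro X f hk hiso hinj
    by_cases hX : X = ⊤
    · subst hX
      exact ⟨f, fun x x' => hiso x trivial x' trivial, fun x => hinj x trivial, fun _ _ => rfl⟩
    · obtain ⟨X', f', hlt, hiso', hinj', hext⟩ := extend_step B hσ hσ2 hS hB X f hiso hinj hX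
      have h1 := Submodule.finrank_lt_finrank_of_lt hlt
      have h2 := Submodule.finrank_le X'
      obtain ⟨f'', h3, h4, h5⟩ := ih (Module.finrank F V - Module.finrank F X') (by omega) X' f' rfl
        hiso' hinj'
      exact ⟨f'', h3, h4, fun x hx => (h5 x (hlt.le hx)).trans (hext x hx)⟩

/-- Witt's Lemma for Hermitian forms. Let σ be a non-identity involutive automorphism of a finite field F and B a non-degenerate σ-sesquilinear form on a finite-dimensional F-space V which is conjugate-symmetric (σ (B x y) = B y x). Then every linear equivalence between subspaces X, Y of V preserving B extends to a B-preserving linear automorphism of V. -/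
theorem result {F V : Type*} [Field F] [Finite F] [AddCommGroup V] [Module F V] [FiniteDimensional F V] (σ : F →+* F) (hσ : σ ≠ RingHom.id F) (hσ2 : ∀ a : F, σ (σ a) = a) (B : V →ₛₗ[σ] V →ₗ[F] F) (hS : B.IsSymm) (hB : B.Nondegenerate) (X Y : Submodule F V) (φ : X ≃ₗ[F] Y) (hφ : ∀ x x' : X, B (φ x : V) (φ x' : V) = B (x : V) (x' : V)) : ∃ g : V ≃ₗ[F] V, (∀ u v : V, B (g u) (g v) = B u v) ∧ ∀ x : X, g (x : V) = (φ x : V) := by
  obtain ⟨f, hf⟩ := LinearMap.exists_extend (Y.subtype.comp φ.toLinearMap)
  have hfX : ∀ x : X, f x = φ x := fun x => by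
    have := LinearMap.congr_fun hf x
    simpa using this
  obtain ⟨f', h1, h2, h3⟩ := extend_all B hσ hσ2 hS hB.1 _ X f rfl
    (fun x hx x' hx' => by
      have := hφ ⟨x, hx⟩ ⟨x', hx'⟩
      rw [← hfX ⟨x, hx⟩, ← hfX ⟨x', hx'⟩] at this
      exact this)
    (fun x hx h0 => by
      have h := hfX ⟨x, hx⟩
      rw [Subtype.coe_mk, h0] at h
      have : φ ⟨x, hx⟩ = 0 := Subtype.ext h.symm
      have := φ.map_eq_zero_iff.mp this
      exact congrArg Subtype.val this)
  have hinj : Function.Injective f' := by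
    rw [← LinearMap.ker_eq_bot, LinearMap.ker_eq_bot']
    exact h2
  refine ⟨LinearEquiv.ofInjectiveEndo f' hinj, ?_, ?_⟩
  · intro u v
    simpa using h1 u v
  · intro x
    rw [LinearEquiv.coe_ofInjectiveEndo, h3 x x.2, hfX]

end Cfsg.Agent.S0751
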