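import Cfsg.Statements.S2677
import Cfsg.Agent.S0277
import Cfsg.Agent.Helper45.GUBasic
import Cfsg.Agent.Helper73.FixedFieldNorm

set_option autoImplicit false
set_option linter.unusedSectionVars false
open Cfsg

namespace Cfsg.Agent.S2677

open Matrix Cfsg.Agent.Helper73.FixedFieldNorm Cfsg.Agent.Helper45.GU

/-- Matrix characterisation of `GU`. -/
theorem mem_GU_iff_matrix {F : Type*} [Field F] {q : ℕ} (n : ℕ) (bar : F →+* F)
    (hbar : ∀ x, bar x = x ^ q) (g : GL (Fin n) F) :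
    g ∈ Cfsg.GU n F q ↔
      ((g : Matrix (Fin n) (Fin n) F))ᵀ * (g : Matrix (Fin n) (Fin n) F).map bar = 1 := by
  constructor
  · intro hg
    exact unitary_of_herm bar _ ((mem_GU_iff n bar hbar g).1 hg)
  · intro h
    rw [mem_GU_iff n bar hbar g]
    intro u v
    rw [herm_mulVec, h, one_mulVec]
    rfl

/-- fixed elements: `y^(q₀^r) = y^q₀` when `y^(q₀^2) = y` and `r` is odd. -/
theorem pow_pow_odd_eq {K : Type*} [Monoid K] (y : K) (q₀ r : ℕ) (hy : y ^ (q₀ ^ 2) = y)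
    (hr : Odd r) : y ^ (q₀ ^ r) = y ^ q₀ := by
  obtain ⟨k, rfl⟩ := hr
  have h : ∀ k : ℕ, y ^ ((q₀ ^ 2) ^ k) = y := by
    intro k
    induction k with
    | zero => simp
    | succ k ih => rw [pow_succ, pow_mul, ih, hy]
  rw [pow_succ, pow_mul, pow_mul, h k]

section Scal
variable {F : Type*} [Field F] {q n : ℕ}

theorem scalar_coe_mul (μ : Fˣ) (g : GL (Fin n) F) :
    ((Matrix.GeneralLinearGroup.scalar (Fin n) μ * g : GL (Fin n) F) : Matrix (Fin n) (Fin n) F)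
      = (μ : F) • (g : Matrix (Fin n) (Fin n) F) := by
  rw [Units.val_mul, Matrix.GeneralLinearGroup.coe_scalar, Matrix.scalar_apply,
    ← Matrix.smul_eq_diagonal_mul]

theorem scalar_mem_GU (bar : F →+* F) (hbar : ∀ x, bar x = x ^ q) (μ : Fˣ)
    (hμ : (μ : F) ^ (q + 1) = 1) :
    Matrix.GeneralLinearGroup.scalar (Fin n) μ ∈ Cfsg.GU n F q := by
  have hU : μ ∈ U1 F q := by
    show (powMonoidHom (q + 1) : Fˣ →* Fˣ) μ = 1
    rw [powMonoidHom_apply, Units.ext_iff]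
    simpa using hμ
  have h := dgGL_mem n bar hbar (fun _ => μ) (fun _ => hU)
  have e : Matrix.GeneralLinearGroup.scalar (Fin n) μ = dgGL n (fun _ => μ) := by
    apply Units.ext
    rw [Matrix.GeneralLinearGroup.coe_scalar, Matrix.scalar_apply, dgGL_coe]
  rw [e]
  exact h

end Scal

section Main
variable {K : Type*} [Field K] [Fintype K] {q₀ q n : ℕ}

/-- the embedding `GL_n(F₀) → GL_n(K)` -/
noncomputable abbrev iota (σ : K ≃+* K) (n : ℕ) : GL (Fin n) (F0 σ) →* GL (Fin n) K :=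
  Matrix.GeneralLinearGroup.map (F0 σ).subtype

theorem iota_coe (σ : K ≃+* K) (h : GL (Fin n) (F0 σ)) :
    ((iota σ n h : GL (Fin n) K) : Matrix (Fin n) (Fin n) K)
      = (h : Matrix (Fin n) (Fin n) (F0 σ)).map (F0 σ).subtype := by
  ext i j
  exact Matrix.GeneralLinearGroup.map_apply _ i j h

theorem iota_injective (σ : K ≃+* K) : Function.Injective (iota σ n) := by
  intro a b hab
  apply Units.ext
  have := congrArg (fun g : GL (Fin n) K => (g : Matrix (Fin n) (Fin n) K)) hab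
  simp only [iota_coe] at this
  exact Matrix.map_injective (Subtype.val_injective) this

theorem iota_mem_GU_iff (σ : K ≃+* K) (bar : K →+* K) (hbar : ∀ x, bar x = x ^ q)
    (bar₀ : F0 σ →+* F0 σ) (hbar₀ : ∀ x, bar₀ x = x ^ q₀)
    (hqq : ∀ y : K, σ y = y → y ^ q = y ^ q₀) (h : GL (Fin n) (F0 σ)) :
    iota σ n h ∈ Cfsg.GU n K q ↔ h ∈ Cfsg.GU n (F0 σ) q₀ := by
  rw [mem_GU_iff_matrix n bar hbar, mem_GU_iff_matrix n bar₀ hbar₀, iota_coe]
  have e2 : ((h : Matrix (Fin n) (Fin n) (F0 σ)).map (F0 σ).subtype).map bar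
      = ((h : Matrix (Fin n) (Fin n) (F0 σ)).map bar₀).map (F0 σ).subtype := by
    ext i j
    simp only [Matrix.map_apply, hbar, hbar₀]
    rw [map_pow]
    exact hqq _ ((mem_F0 σ _).1 (Subtype.property _))
  rw [e2, ← transpose_map, ← Matrix.map_mul]
  constructor
  · intro hh
    apply Matrix.map_injective (f := (F0 σ).subtype) Subtype.val_injective
    simp only
    rw [hh, Matrix.map_one _ (map_zero _) (map_one _)]
  · intro hh
    rw [hh, Matrix.map_one _ (map_zero _) (map_one _)]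

theorem iota_map_sigma (σ : K ≃+* K) (h : GL (Fin n) (F0 σ)) :
    ((iota σ n h : GL (Fin n) K) : Matrix (Fin n) (Fin n) K).map σ
      = ((iota σ n h : GL (Fin n) K) : Matrix (Fin n) (Fin n) K) := by
  rw [iota_coe]
  ext i j
  simp only [Matrix.map_apply]
  exact (mem_F0 σ _).1 (Subtype.property _)

/-- easy direction -/
theorem mem_of_eq_scalar_mul (σ : K ≃+* K) (bar : K →+* K) (hbar : ∀ x, bar x = x ^ q)
    (bar₀ : F0 σ →+* F0 σ) (hbar₀ : ∀ x, bar₀ x = x ^ q₀)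
    (hqq : ∀ y : K, σ y = y → y ^ q = y ^ q₀) (μ : Kˣ) (hμ : (μ : K) ^ (q + 1) = 1)
    (h : GL (Fin n) (F0 σ)) (hh : h ∈ Cfsg.GU n (F0 σ) q₀) :
    Matrix.GeneralLinearGroup.scalar (Fin n) μ * iota σ n h ∈ Cfsg.GU n K q ∧
    ∃ c : K, c ≠ 0 ∧
      ((Matrix.GeneralLinearGroup.scalar (Fin n) μ * iota σ n h : GL (Fin n) K) :
        Matrix (Fin n) (Fin n) K).map σ
      = c • ((Matrix.GeneralLinearGroup.scalar (Fin n) μ * iota σ n h : GL (Fin n) K) :
        Matrix (Fin n) (Fin n) K) := by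
  refine ⟨mul_mem (scalar_mem_GU bar hbar μ hμ)
    ((iota_mem_GU_iff σ bar hbar bar₀ hbar₀ hqq h).2 hh), σ (μ : K) / (μ : K), ?_, ?_⟩
  · exact div_ne_zero ((map_ne_zero σ).2 (Units.ne_zero μ)) (Units.ne_zero μ)
  · rw [scalar_coe_mul, Matrix.map_smul' _ _ _ (map_mul σ), iota_map_sigma, smul_smul,
      div_mul_cancel₀ _ (Units.ne_zero μ)]

theorem iter_map (σ : K ≃+* K) (M : Matrix (Fin n) (Fin n) K) (c : K)
    (hM : M.map σ = c • M) (i : ℕ) :
    M.map (σ ^ i : K ≃+* K) = (nrm σ i c) • M := by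
  induction i with
  | zero =>
    simp only [pow_zero, nrm, Finset.range_zero, Finset.prod_empty, one_smul]
    ext a b
    simp
  | succ i ih =>
    have e : M.map (σ ^ (i + 1) : K ≃+* K) = (M.map (σ ^ i : K ≃+* K)).map σ := by
      ext a b
      simp only [Matrix.map_apply, pow_succ', RingAut.mul_apply]
    rw [e, ih, Matrix.map_smul' _ _ _ (map_mul σ), hM, smul_smul]
    congr 1
    simp only [nrm]
    rw [Finset.prod_range_succ', map_prod]
    simp only [pow_zero, RingAut.one_apply]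
    congr 1
    refine Finset.prod_congr rfl (fun k _ => ?_)
    rw [pow_succ', RingAut.mul_apply]

theorem one_ne_zero_matrix (hn : 1 ≤ n) : (1 : Matrix (Fin n) (Fin n) K) ≠ 0 := by
  intro h
  have := congrFun (congrFun h ⟨0, hn⟩) ⟨0, hn⟩
  simp at this

/-- hard direction -/
theorem exists_of_mem {r : ℕ} (hn : 1 ≤ n) (σ : K ≃+* K) (hσ : orderOf σ = r)
    (hcardK : Fintype.card K = q ^ 2) (hcardF : Nat.card (F0 σ) = q₀ ^ 2) (hq₀ : 2 ≤ q₀)
    (hq : 1 ≤ q)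
    (bar : K →+* K) (hbar : ∀ x, bar x = x ^ q)
    (bar₀ : F0 σ →+* F0 σ) (hbar₀ : ∀ x, bar₀ x = x ^ q₀)
    (hqq : ∀ y : K, σ y = y → y ^ q = y ^ q₀)
    (g : GL (Fin n) K) (hg : g ∈ Cfsg.GU n K q) (c : K)
    (hgc : (g : Matrix (Fin n) (Fin n) K).map σ = c • (g : Matrix (Fin n) (Fin n) K)) :
    ∃ μ : Kˣ, (μ : K) ^ (q + 1) = 1 ∧ ∃ h : GL (Fin n) (F0 σ), h ∈ Cfsg.GU n (F0 σ) q₀ ∧
      g = Matrix.GeneralLinearGroup.scalar (Fin n) μ * iota σ n h := by
  set M : Matrix (Fin n) (Fin n) K := (g : Matrix (Fin n) (Fin n) K) with hMdef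
  have hM : Mᵀ * M.map bar = 1 := (mem_GU_iff_matrix n bar hbar g).1 hg
  have hM0 : M ≠ 0 := by
    intro h0
    rw [h0] at hM
    simp only [transpose_zero, Matrix.zero_mul] at hM
    exact one_ne_zero_matrix hn hM.symm
  -- c ^ (q+1) = 1
  have hc : c ^ (q + 1) = 1 := by
    have h1 : (Mᵀ * M.map bar).map σ = 1 := by
      rw [hM, Matrix.map_one _ (map_zero _) (map_one _)]
    have h2 : (M.map bar).map σ = (M.map σ).map bar := by
      ext a b
      simp only [Matrix.map_apply, hbar, map_pow]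
    rw [Matrix.map_mul, transpose_map, h2, hgc, Matrix.map_smul' _ _ _ (map_mul bar),
      transpose_smul, Matrix.smul_mul, Matrix.mul_smul, smul_smul, hM] at h1
    have := congrFun (congrFun h1 ⟨0, hn⟩) ⟨0, hn⟩
    simp only [Matrix.smul_apply, Matrix.one_apply_eq, smul_eq_mul, mul_one, hbar] at this
    rw [pow_succ']
    exact this
  -- norm of c is one
  have hN : nrm σ r c = 1 := by
    have h1 := iter_map σ M c hgc r
    have h2 : (σ ^ r : K ≃+* K) = 1 := by rw [← hσ]; exact pow_orderOf_eq_one σ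
    rw [h2] at h1
    have h3 : M.map (1 : K ≃+* K) = M := by
      ext a b; simp
    rw [h3] at h1
    by_contra hne
    have h4 : (1 - nrm σ r c) • M = 0 := by
      rw [sub_smul, one_smul, ← h1, sub_self]
    rcases smul_eq_zero.1 h4 with h5 | h5
    · exact hne (sub_eq_zero.1 h5).symm
    · exact hM0 h5
  obtain ⟨μ, hμ1, hμ2⟩ := hilbert90_torus σ hσ hcardK hcardF hq₀ hq hqq c hc hN
  have hμ0 : μ ≠ 0 := by
    rintro rfl
    simp at hμ1
  have hc0 : c ≠ 0 := by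
    rintro rfl
    simp at hc
  let μu : Kˣ := Units.mk0 μ hμ0
  have hμinv : ((μu⁻¹ : Kˣ) : K) ^ (q + 1) = 1 := by
    rw [Units.val_inv_eq_inv_val, inv_pow]
    show (μ ^ (q + 1))⁻¹ = 1
    rw [hμ1, inv_one]
  set g₁ : GL (Fin n) K := Matrix.GeneralLinearGroup.scalar (Fin n) μu⁻¹ * g with hg₁
  have hg₁GU : g₁ ∈ Cfsg.GU n K q := mul_mem (scalar_mem_GU bar hbar _ hμinv) hg
  have hg₁coe : (g₁ : Matrix (Fin n) (Fin n) K) = μ⁻¹ • M := by
    rw [hg₁, scalar_coe_mul, Units.val_inv_eq_inv_val]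
    rfl
  have hg₁σ : (g₁ : Matrix (Fin n) (Fin n) K).map σ = (g₁ : Matrix (Fin n) (Fin n) K) := by
    rw [hg₁coe, Matrix.map_smul' _ _ _ (map_mul σ), hgc, smul_smul, map_inv₀, hμ2]
    congr 1
    field_simp
  let N₀ : Matrix (Fin n) (Fin n) (F0 σ) := fun i j =>
    ⟨(g₁ : Matrix (Fin n) (Fin n) K) i j, (mem_F0 σ _).2 (by
      have := congrFun (congrFun hg₁σ i) j
      simpa only [Matrix.map_apply] using this)⟩
  have hN₀ : N₀.map (F0 σ).subtype = (g₁ : Matrix (Fin n) (Fin n) K) := by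
    ext i j; rfl
  have hdet : N₀.det ≠ 0 := by
    intro h0
    have h1 : (F0 σ).subtype N₀.det = 0 := by rw [h0, map_zero]
    rw [RingHom.map_det, RingHom.mapMatrix_apply, hN₀] at h1
    have := Matrix.GeneralLinearGroup.val_det_apply g₁
    rw [h1] at this
    exact Units.ne_zero _ this
  let h : GL (Fin n) (F0 σ) := Matrix.GeneralLinearGroup.mkOfDetNeZero N₀ hdet
  have hι : iota σ n h = g₁ := by
    apply Units.ext
    rw [iota_coe]
    exact hN₀
  refine ⟨μu, hμ1, h, ?_, ?_⟩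
  · rw [← iota_mem_GU_iff σ bar hbar bar₀ hbar₀ hqq, hι]
    exact hg₁GU
  · rw [hι, hg₁, ← mul_assoc, ← map_mul, mul_inv_cancel, map_one, one_mul]

/-- the product map `C × GU_n(F₀) → GL_n(K)` -/
noncomputable def Phi (σ : K ≃+* K) (n q q₀ : ℕ) :
    ↥(U1 K q) × ↥(Cfsg.GU n (F0 σ) q₀) →* GL (Fin n) K :=
  MonoidHom.noncommCoprod
    ((Matrix.GeneralLinearGroup.scalar (Fin n)).comp (U1 K q).subtype)
    ((iota σ n).comp (Cfsg.GU n (F0 σ) q₀).subtype)
    (fun _ _ => Matrix.GeneralLinearGroup.scalar_commute _ _)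

theorem Phi_apply (σ : K ≃+* K) (x : ↥(U1 K q) × ↥(Cfsg.GU n (F0 σ) q₀)) :
    Phi σ n q q₀ x = Matrix.GeneralLinearGroup.scalar (Fin n) (x.1 : Kˣ)
      * iota σ n (x.2 : GL (Fin n) (F0 σ)) := rfl

theorem mem_U1_iff' {F : Type*} [Field F] (q : ℕ) (u : Fˣ) : u ∈ U1 F q ↔ (u : F) ^ (q + 1) = 1 := by
  show (powMonoidHom (q + 1) : Fˣ →* Fˣ) u = 1 ↔ _
  rw [powMonoidHom_apply, Units.ext_iff]
  simp

theorem card_U1 {F : Type*} [Field F] [Finite F] (q : ℕ) (hq : 1 ≤ q)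
    (hF : Nat.card F = q ^ 2) : Nat.card (U1 F q) = q + 1 := by
  have hcu : Nat.card Fˣ = (q - 1) * (q + 1) := by
    rw [Nat.card_units, hF]
    obtain ⟨k, rfl⟩ : ∃ k, q = k + 1 := ⟨q - 1, by omega⟩
    simp only [Nat.add_sub_cancel]
    have : (k + 1) ^ 2 = k * (k + 1 + 1) + 1 := by ring
    omega
  show Nat.card (powMonoidHom (q + 1) : Fˣ →* Fˣ).ker = q + 1
  rw [IsCyclic.card_powMonoidHom_ker, hcu, Nat.gcd_mul_left_left]

theorem card_ker_Phi (hn : 1 ≤ n) (σ : K ≃+* K) (hcardF : Nat.card (F0 σ) = q₀ ^ 2)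
    (hq₀ : 2 ≤ q₀) (bar₀ : F0 σ →+* F0 σ) (hbar₀ : ∀ x, bar₀ x = x ^ q₀)
    (hqq : ∀ y : K, σ y = y → y ^ q = y ^ q₀) :
    Nat.card (Phi σ n q q₀).ker = q₀ + 1 := by
  rw [← card_U1 (F := F0 σ) q₀ (by omega) hcardF]
  symm
  -- the map `λ ↦ (λ⁻¹, scalar λ)`
  have pf1 : ∀ l : ↥(U1 (F0 σ) q₀), Units.map ((F0 σ).subtype : F0 σ →* K) (l : (F0 σ)ˣ)⁻¹ ∈ U1 K q := by
    intro l
    rw [mem_U1_iff']
    have h1 : (((l : (F0 σ)ˣ) : F0 σ) : K) ^ (q₀ + 1) = 1 := by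
      have := (mem_U1_iff' q₀ _).1 l.2
      have := congrArg (fun z : F0 σ => (z : K)) this
      simpa using this
    have hfix : σ (((l : (F0 σ)ˣ) : F0 σ) : K) = (((l : (F0 σ)ˣ) : F0 σ) : K) :=
      (mem_F0 σ _).1 (Subtype.property _)
    have h2 : (((l : (F0 σ)ˣ) : F0 σ) : K) ^ (q + 1) = 1 := by
      rw [pow_succ, hqq _ hfix, ← pow_succ, h1]
    have h3 : ((Units.map ((F0 σ).subtype : F0 σ →* K) (l : (F0 σ)ˣ)⁻¹ : Kˣ) : K)
        = ((((l : (F0 σ)ˣ) : F0 σ) : K))⁻¹ := by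
      rw [map_inv, Units.val_inv_eq_inv_val]
      rfl
    rw [h3, inv_pow, h2, inv_one]
  have pf2 : ∀ l : ↥(U1 (F0 σ) q₀),
      Matrix.GeneralLinearGroup.scalar (Fin n) (l : (F0 σ)ˣ) ∈ Cfsg.GU n (F0 σ) q₀ := by
    intro l
    exact scalar_mem_GU bar₀ hbar₀ _ ((mem_U1_iff' q₀ _).1 l.2)
  have pf3 : ∀ l : ↥(U1 (F0 σ) q₀),
      ((⟨_, pf1 l⟩, ⟨_, pf2 l⟩) : ↥(U1 K q) × ↥(Cfsg.GU n (F0 σ) q₀)) ∈ (Phi σ n q q₀).ker := by
    intro l
    rw [MonoidHom.mem_ker, Phi_apply]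
    show Matrix.GeneralLinearGroup.scalar (Fin n) (Units.map ((F0 σ).subtype : F0 σ →* K) (l : (F0 σ)ˣ)⁻¹)
      * iota σ n (Matrix.GeneralLinearGroup.scalar (Fin n) (l : (F0 σ)ˣ)) = 1
    rw [iota, Matrix.GeneralLinearGroup.map_scalar, ← map_mul]
    have : Units.map ((F0 σ).subtype : F0 σ →* K) (l : (F0 σ)ˣ)⁻¹
        * Units.map (((F0 σ).subtype : F0 σ →+* K) : F0 σ →* K) (l : (F0 σ)ˣ) = 1 := by
      rw [map_inv]
      exact inv_mul_cancel _
    rw [this, map_one]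
  refine Nat.card_eq_of_bijective (fun l => ⟨_, pf3 l⟩) ⟨?_, ?_⟩
  · intro l l' hll
    have h1 := congrArg (fun z : (Phi σ n q q₀).ker => ((z.1.1 : ↥(U1 K q)) : Kˣ)) hll
    simp only at h1
    have h2 := Units.map_injective (f := ((F0 σ).subtype : F0 σ →* K)) Subtype.val_injective h1
    exact Subtype.ext (inv_injective h2)
  · rintro ⟨⟨a, b⟩, hx⟩
    rw [MonoidHom.mem_ker, Phi_apply] at hx
    simp only at hx
    -- iota b = scalar a⁻¹
    have hb : iota σ n (b : GL (Fin n) (F0 σ)) = Matrix.GeneralLinearGroup.scalar (Fin n) (a : Kˣ)⁻¹ := by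
      rw [map_inv]
      exact eq_inv_of_mul_eq_one_right hx
    let i0 : Fin n := ⟨0, hn⟩
    have hentry : ((((b : GL (Fin n) (F0 σ)) : Matrix (Fin n) (Fin n) (F0 σ)) i0 i0 : F0 σ) : K)
        = (((a : Kˣ)⁻¹ : Kˣ) : K) := by
      have := congrArg (fun g : GL (Fin n) K => (g : Matrix (Fin n) (Fin n) K) i0 i0) hb
      simp only [iota_coe, Matrix.map_apply, Matrix.GeneralLinearGroup.coe_scalar,
        Matrix.scalar_apply, Matrix.diagonal_apply_eq] at this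
      exact this
    have hne : (((b : GL (Fin n) (F0 σ)) : Matrix (Fin n) (Fin n) (F0 σ)) i0 i0 : F0 σ) ≠ 0 := by
      intro h0
      rw [h0] at hentry
      exact Units.ne_zero _ hentry.symm
    let l : (F0 σ)ˣ := Units.mk0 _ hne
    have hlK : Units.map ((F0 σ).subtype : F0 σ →* K) l = (a : Kˣ)⁻¹ := by
      apply Units.ext
      exact hentry
    have hl : l ∈ U1 (F0 σ) q₀ := by
      rw [mem_U1_iff']
      apply Subtype.val_injective
      show ((l : F0 σ) : K) ^ (q₀ + 1) = 1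
      have hfix : σ ((l : F0 σ) : K) = ((l : F0 σ) : K) := (mem_F0 σ _).1 (Subtype.property _)
      rw [pow_succ, ← hqq _ hfix, ← pow_succ]
      show ((((b : GL (Fin n) (F0 σ)) : Matrix (Fin n) (Fin n) (F0 σ)) i0 i0 : F0 σ) : K) ^ (q + 1) = 1
      rw [hentry, Units.val_inv_eq_inv_val, inv_pow, (mem_U1_iff' q _).1 a.2, inv_one]
    refine ⟨⟨l, hl⟩, ?_⟩
    apply Subtype.ext
    apply Prod.ext
    · apply Subtype.ext
      show Units.map ((F0 σ).subtype : F0 σ →* K) l⁻¹ = (a : Kˣ)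
      rw [map_inv, hlK, inv_inv]
    · apply Subtype.ext
      apply iota_injective σ
      show iota σ n (Matrix.GeneralLinearGroup.scalar (Fin n) l) = iota σ n (b : GL (Fin n) (F0 σ))
      rw [hb, iota, Matrix.GeneralLinearGroup.map_scalar]
      congr 1

theorem cast_card_formula (q₀ n : ℕ) (hq₀ : 1 ≤ q₀) :
    ((q₀ ^ (n * (n - 1) / 2) * ∏ i ∈ Finset.range n,
      (if Even i then q₀ ^ (i + 1) + 1 else q₀ ^ (i + 1) - 1) : ℕ) : ℤ)
    = (q₀ : ℤ) ^ (n * (n - 1) / 2) * ∏ i : Fin n, ((q₀ : ℤ) ^ ((i : ℕ) + 1) - (-1) ^ ((i : ℕ) + 1)) := by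
  rw [Nat.cast_mul, Nat.cast_pow, Nat.cast_prod,
    Fin.prod_univ_eq_prod_range (fun i : ℕ => ((q₀ : ℤ) ^ (i + 1) - (-1) ^ (i + 1))) n]
  congr 1
  refine Finset.prod_congr rfl (fun i _ => ?_)
  have h1 : 1 ≤ q₀ ^ (i + 1) := Nat.one_le_pow _ _ hq₀
  by_cases hi : Even i
  · rw [if_pos hi, pow_succ (-1 : ℤ), hi.neg_one_pow]
    push_cast
    ring
  · rw [if_neg hi]
    have ho : Even (i + 1) := by
      rw [Nat.even_add_one]; exact hi
    rw [ho.neg_one_pow, Nat.cast_sub h1]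
    push_cast
    ring

end Main

/-- Centraliser of a field automorphism of odd prime order in PGU_n(q): let q = q₀^r with r an odd prime, K the field with q² elements and σ a field automorphism of K of order r (fixed field of order q₀²). The elements g of GU_n(q) whose entrywise image under σ is a scalar multiple of g — those whose coset modulo the q + 1 unitary scalars is fixed by σ — number (q + 1)/(q₀ + 1) · |GU_n(q₀)|; equivalently the centraliser in PGU_n(q) of the induced automorphism has the order of PGU_n(q₀). -/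
theorem result {K : Type*} [Field K] [Fintype K] {q₀ q r n : ℕ} (hr : r.Prime) (hr2 : r ≠ 2) (hn : 1 ≤ n) (hq : q = q₀ ^ r) (hK : Fintype.card K = q ^ 2) (σ : K ≃+* K) (hσ : orderOf σ = r) : (Nat.card {g : ↥(Cfsg.GU n K q) // ∃ c : K, c ≠ 0 ∧ ((g : GL (Fin n) K) : Matrix (Fin n) (Fin n) K).map σ = c • ((g : GL (Fin n) K) : Matrix (Fin n) (Fin n) K)} : ℤ) = ((q + 1) / (q₀ + 1) : ℕ) * ((q₀ : ℤ) ^ (n * (n - 1) / 2) * ∏ i : Fin n, ((q₀ : ℤ) ^ ((i : ℕ) + 1) - (-1) ^ ((i : ℕ) + 1))) := by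
  classical
  have hr0 : r ≠ 0 := hr.ne_zero
  have hodd : Odd r := hr.odd_of_ne_two hr2
  -- q₀ ≥ 2
  have hq₀ : 2 ≤ q₀ := by
    by_contra hlt
    have h01 : q₀ = 0 ∨ q₀ = 1 := by omega
    have hc : 1 < Fintype.card K := Fintype.one_lt_card
    rcases h01 with h0 | h1
    · rw [hK, hq, h0, zero_pow hr0] at hc
      simp at hc
    · rw [hK, hq, h1, one_pow] at hc
      simp at hc
  have hq1 : 1 ≤ q := by
    rw [hq]; exact Nat.one_le_pow _ _ (by omega)
  have hK' : Fintype.card K = (q₀ ^ 2) ^ r := by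
    rw [hK, hq, ← pow_mul, ← pow_mul, Nat.mul_comm]
  have hcardF : Nat.card (F0 σ) = q₀ ^ 2 := card_F0 σ hr0 hσ hK'
  have hFin : Fintype (F0 σ) := Fintype.ofFinite _
  have hcardF' : Fintype.card (F0 σ) = q₀ ^ 2 := by
    rw [Fintype.card_eq_nat_card]; exact hcardF
  have hqq : ∀ y : K, σ y = y → y ^ q = y ^ q₀ := by
    intro y hy
    rw [hq]
    apply pow_pow_odd_eq y q₀ r _ hodd
    have h := FiniteField.pow_card (⟨y, (mem_F0 σ y).2 hy⟩ : F0 σ)
    rw [hcardF'] at h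
    exact congrArg (fun z : F0 σ => (z : K)) h
  obtain ⟨bar, hbar⟩ := exists_bar hK
  obtain ⟨bar₀, hbar₀⟩ := exists_bar hcardF'
  -- the range of Phi
  have hrange : ∀ g : GL (Fin n) K, g ∈ (Phi σ n q q₀).range ↔
      (g ∈ Cfsg.GU n K q ∧ ∃ c : K, c ≠ 0 ∧
        (g : Matrix (Fin n) (Fin n) K).map σ = c • (g : Matrix (Fin n) (Fin n) K)) := by
    intro g
    constructor
    · rintro ⟨⟨a, b⟩, rfl⟩
      rw [Phi_apply]
      exact mem_of_eq_scalar_mul σ bar hbar bar₀ hbar₀ hqq (a : Kˣ) ((mem_U1_iff' q _).1 a.2)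
        (b : GL (Fin n) (F0 σ)) b.2
    · rintro ⟨hg, c, -, hgc⟩
      obtain ⟨μ, hμ, h, hh, rfl⟩ := exists_of_mem hn σ hσ hK hcardF hq₀ hq1 bar hbar bar₀ hbar₀
        hqq g hg c hgc
      exact ⟨(⟨μ, (mem_U1_iff' q μ).2 hμ⟩, ⟨h, hh⟩), rfl⟩
  -- cardinality of the set in terms of the range
  have hcard1 : Nat.card {g : ↥(Cfsg.GU n K q) // ∃ c : K, c ≠ 0 ∧
      ((g : GL (Fin n) K) : Matrix (Fin n) (Fin n) K).map σ
        = c • ((g : GL (Fin n) K) : Matrix (Fin n) (Fin n) K)} = Nat.card (Phi σ n q q₀).range := by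
    refine Nat.card_congr
      { toFun := fun x => ⟨(x.1 : GL (Fin n) K), (hrange _).2 ⟨x.1.2, x.2⟩⟩
        invFun := fun y => ⟨⟨y.1, ((hrange _).1 y.2).1⟩, ((hrange _).1 y.2).2⟩
        left_inv := fun x => rfl
        right_inv := fun y => rfl }
  -- first isomorphism theorem count
  have hcard2 : Nat.card (Phi σ n q q₀).ker * Nat.card (Phi σ n q q₀).range
      = (q + 1) * Nat.card (Cfsg.GU n (F0 σ) q₀) := by
    rw [← Subgroup.index_ker, Subgroup.card_mul_index, Nat.card_prod,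
      card_U1 (F := K) q hq1 (by rw [← Fintype.card_eq_nat_card]; exact hK)]
  rw [card_ker_Phi hn σ hcardF hq₀ bar₀ hbar₀ hqq] at hcard2
  have hdvd : (q₀ + 1) ∣ (q + 1) := by
    have := Odd.nat_add_dvd_pow_add_pow q₀ 1 hodd
    rwa [one_pow, ← hq] at this
  obtain ⟨t, ht⟩ := hdvd
  have hcard3 : Nat.card (Phi σ n q q₀).range = t * Nat.card (Cfsg.GU n (F0 σ) q₀) := by
    rw [ht, Nat.mul_assoc] at hcard2
    exact Nat.eq_of_mul_eq_mul_left (by omega) hcard2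
  have hdiv : (q + 1) / (q₀ + 1) = t := by
    rw [ht]; exact Nat.mul_div_cancel_left t (by omega)
  have hGU := Cfsg.Agent.S0277.result hcardF' n
  rw [hcard1, hcard3, hdiv, hGU, Nat.cast_mul, cast_card_formula q₀ n (by omega)]

end Cfsg.Agent.S2677
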