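import Cfsg.Statements.S3867
import Cfsg.Agent.Helper64.Basic

set_option autoImplicit false
open Cfsg

namespace Cfsg.Agent.S3867

open Cfsg.Agent.Helper64

/-- Frattini: `N_G(PK) = N_G(P) K` for `P` Sylow and `K` normal. -/
lemma normalizer_sup_normal {G : Type*} [Group G] [Finite G] {p : ℕ} [Fact p.Prime]
    (P : Sylow p G) (K : Subgroup G) [K.Normal] :
    Subgroup.normalizer ((((P : Subgroup G) ⊔ K : Subgroup G)) : Set G)
      = Subgroup.normalizer ((P : Subgroup G) : Set G) ⊔ K := by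
  apply le_antisymm
  · set L := Subgroup.normalizer ((((P : Subgroup G) ⊔ K : Subgroup G)) : Set G) with hL
    have hPKL : (P : Subgroup G) ⊔ K ≤ L := Subgroup.le_normalizer
    have hPL : (P : Subgroup G) ≤ L := le_sup_left.trans hPKL
    have hn : (((P : Subgroup G) ⊔ K).subgroupOf L).Normal := Subgroup.normal_in_normalizer
    have hle : ((P.subtype hPL : Sylow p L) : Subgroup L) ≤ ((P : Subgroup G) ⊔ K).subgroupOf L := by
      rw [Sylow.coe_subtype]
      intro x hx
      rw [Subgroup.mem_subgroupOf] at hx ⊢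
      exact le_sup_left (a := (P : Subgroup G)) hx
    have hfr : Subgroup.normalizer ((((P : Subgroup G).subgroupOf L : Subgroup L)) : Set L) ⊔
        ((P : Subgroup G) ⊔ K).subgroupOf L = ⊤ :=
      Sylow.normalizer_sup_eq_top' (P.subtype hPL) hle
    rw [← Subgroup.subgroupOf_normalizer_eq hPL] at hfr
    have h2 := congrArg (Subgroup.map L.subtype) hfr
    rw [Subgroup.map_sup, Subgroup.subgroupOf_map_subtype, Subgroup.subgroupOf_map_subtype,
      ← MonoidHom.range_eq_map, Subgroup.range_subtype] at h2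
    rw [← h2]
    refine sup_le (inf_le_left.trans le_sup_left) (inf_le_left.trans ?_)
    exact sup_le (Subgroup.le_normalizer.trans le_sup_left) le_sup_right
  · refine sup_le ?_ (le_sup_right.trans Subgroup.le_normalizer)
    have := Subgroup.normalizer_inf_normalizer_le_normalizer_sup (P : Subgroup G) K
    have hK : Subgroup.normalizer (K : Set G) = ⊤ := Subgroup.normalizer_eq_top_iff.mpr inferInstance
    rwa [hK, inf_top_eq] at this

/-- The number of Sylow subgroups of a quotient. -/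
lemma card_sylow_quotient {G : Type*} [Group G] [Finite G] {p : ℕ} [Fact p.Prime]
    (P : Sylow p G) (K : Subgroup G) [K.Normal] :
    Nat.card (Sylow p (G ⧸ K)) = (Subgroup.normalizer ((P : Subgroup G) : Set G) ⊔ K).index := by
  have hsurj := QuotientGroup.mk'_surjective K
  have h1 : Nat.card (Sylow p (G ⧸ K)) = (Subgroup.normalizer
      (((P : Subgroup G).map (QuotientGroup.mk' K) : Subgroup (G ⧸ K)) : Set (G ⧸ K))).index :=
    Sylow.card_eq_index_normalizer (P.mapSurjective hsurj)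
  rw [h1, ← Subgroup.index_comap_of_surjective _ hsurj,
    Subgroup.comap_normalizer_eq_of_surjective _ hsurj, Subgroup.comap_map_eq,
    QuotientGroup.ker_mk', normalizer_sup_normal]

/-- If `x ∈ P ⊔ M` with `M` normal then some `p`-power of `x` lies in `M`. -/
lemma exists_pow_mem {G : Type*} [Group G] {p : ℕ} [Fact p.Prime]
    (P : Subgroup G) (hP : IsPGroup p P) (M : Subgroup G) [M.Normal] (x : G) (hx : x ∈ P ⊔ M) :
    ∃ k : ℕ, x ^ p ^ k ∈ M := by
  have h1 : QuotientGroup.mk' M x ∈ (P ⊔ M).map (QuotientGroup.mk' M) := Subgroup.mem_map_of_mem _ hx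
  rw [Subgroup.map_sup, QuotientGroup.map_mk'_self, sup_bot_eq] at h1
  obtain ⟨a, ha, hax⟩ := h1
  obtain ⟨k, hk⟩ := hP ⟨a, ha⟩
  refine ⟨k, ?_⟩
  have hk' : a ^ p ^ k = 1 := by
    have := congrArg Subtype.val hk
    simpa using this
  rw [← QuotientGroup.eq_one_iff]
  change (QuotientGroup.mk' M x) ^ p ^ k = 1
  rw [← hax, ← map_pow, hk', map_one]

lemma isPGroup_inf {G : Type*} [Group G] {p : ℕ} [Fact p.Prime]
    (P : Subgroup G) (hP : IsPGroup p P) (M N : Subgroup G) [M.Normal] [N.Normal] (hMN : M ⊓ N = ⊥) :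
    IsPGroup p ((P ⊔ M) ⊓ (P ⊔ N) : Subgroup G) := by
  rintro ⟨x, hx⟩
  obtain ⟨k, hk⟩ := exists_pow_mem P hP M x hx.1
  obtain ⟨l, hl⟩ := exists_pow_mem P hP N x hx.2
  refine ⟨k + l, ?_⟩
  apply Subtype.ext
  simp only [Subgroup.coe_pow, Subgroup.coe_one]
  have h1 : x ^ p ^ (k + l) ∈ M := by
    rw [pow_add, pow_mul]; exact M.pow_mem hk _
  have h2 : x ^ p ^ (k + l) ∈ N := by
    rw [pow_add, mul_comm, pow_mul]; exact N.pow_mem hl _
  have : x ^ p ^ (k + l) ∈ M ⊓ N := ⟨h1, h2⟩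
  rw [hMN] at this
  exact this

lemma key_inf {G : Type*} [Group G] [Finite G] {p : ℕ} [Fact p.Prime]
    (P : Sylow p G) (M N : Subgroup G) [M.Normal] [N.Normal] (hMN : M ⊓ N = ⊥) :
    (Subgroup.normalizer ((P : Subgroup G) : Set G) ⊔ N) ⊓ M ≤ Subgroup.normalizer ((P : Subgroup G) : Set G) := by
  rintro m ⟨hm1, hm2⟩
  rw [← normalizer_sup_normal] at hm1
  -- D is a p-group containing P, hence equal to P
  have hD := isPGroup_inf (P : Subgroup G) P.2 M N hMN
  have hDP : ((P : Subgroup G) ⊔ M) ⊓ ((P : Subgroup G) ⊔ N) = P :=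
    P.is_maximal' hD (le_inf le_sup_left le_sup_left)
  -- m • P ≤ D
  have hle : ((m • P : Sylow p G) : Subgroup G) ≤ ((P : Subgroup G) ⊔ M) ⊓ ((P : Subgroup G) ⊔ N) := by
    intro y hy
    rw [Sylow.coe_subgroup_smul, Subgroup.mem_pointwise_smul_iff_inv_smul_mem] at hy
    have hy' : m⁻¹ * y * m ∈ (P : Subgroup G) := by simpa [MulAut.smul_def, mul_assoc] using hy
    have e : y = m * (m⁻¹ * y * m) * m⁻¹ := by simp [mul_assoc]
    constructor
    · rw [e]
      have hmM : m ∈ (P : Subgroup G) ⊔ M := le_sup_right (a := (P : Subgroup G)) hm2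
      exact Subgroup.mul_mem _ (Subgroup.mul_mem _ hmM (le_sup_left (b := M) hy')) (Subgroup.inv_mem _ hmM)
    · rw [e]
      exact (Subgroup.mem_normalizer_iff.mp hm1 _).mp (le_sup_left (b := N) hy')
  have h3 : ((P : Subgroup G) ⊔ M) ⊓ ((P : Subgroup G) ⊔ N) = ((m • P : Sylow p G) : Subgroup G) :=
    (m • P).is_maximal' hD hle
  have : m • P = P := Sylow.ext (h3.symm.trans hDP)
  exact Sylow.smul_eq_iff_mem_normalizer.mp this

theorem result {G : Type*} [Group G] [Finite G] (p : ℕ) [Fact p.Prime] (M N : Subgroup G) [M.Normal] [N.Normal] (hM : M ≠ ⊥) (hN : N ≠ ⊥) (hMN : M ⊓ N = ⊥) : Nat.card (Sylow p G) * Nat.card (Sylow p (G ⧸ (M ⊔ N))) = Nat.card (Sylow p (G ⧸ M)) * Nat.card (Sylow p (G ⧸ N)) := by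
  let P : Sylow p G := default
  set A := Subgroup.normalizer ((P : Subgroup G) : Set G) with hA
  have h0 : Nat.card (Sylow p G) = A.index := Sylow.card_eq_index_normalizer P
  rw [card_sylow_quotient P (M ⊔ N), card_sylow_quotient P M, card_sylow_quotient P N, h0, ← hA]
  have e1 : A.relIndex (A ⊔ M) * (A ⊔ M).index = A.index := Subgroup.relIndex_mul_index le_sup_left
  have e2 : (A ⊔ N).relIndex ((A ⊔ N) ⊔ M) * ((A ⊔ N) ⊔ M).index = (A ⊔ N).index :=
    Subgroup.relIndex_mul_index le_sup_left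
  have e3 : A.relIndex M = A.relIndex (A ⊔ M) := relIndex_eq_relIndex_sup_of_normal A M
  have e4 : (A ⊔ N).relIndex M = (A ⊔ N).relIndex ((A ⊔ N) ⊔ M) := relIndex_eq_relIndex_sup_of_normal (A ⊔ N) M
  have e5 : A.relIndex M = (A ⊔ N).relIndex M := by
    rw [← Subgroup.inf_relIndex_right A M, ← Subgroup.inf_relIndex_right (A ⊔ N) M]
    congr 1
    apply le_antisymm
    · exact inf_le_inf_right _ le_sup_left
    · exact le_inf (key_inf P M N hMN) inf_le_right
  have e6 : (A ⊔ N) ⊔ M = A ⊔ (M ⊔ N) := by rw [sup_assoc, sup_comm N M]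
  rw [← e1, ← e2, ← e3, ← e4, e5, e6]
  ring

end Cfsg.Agent.S3867
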