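import Cfsg.Statements.S0069
import Cfsg.Agent.Helper71.FrobMeta
import Cfsg.Agent.Helper71.FrobSylow
import Cfsg.Agent.Helper1.Frobenius

set_option autoImplicit false
open Cfsg

namespace Cfsg.Agent.S0069

open Cfsg.Agent.Helper71

/-- the hypotheses make `H` a Frobenius complement -/
theorem isFrobeniusComplement_of_fpf {G : Type*} [Group G] (K H : Subgroup G) [hKn : K.Normal]
    (hc : Subgroup.IsComplement' K H) (hK : K ≠ ⊥) (hH : H ≠ ⊥)
    (hfpf : ∀ h ∈ H, h ≠ 1 → K ⊓ Subgroup.centralizer {h} = ⊥) :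
    Cfsg.IsFrobeniusComplement H := by
  rw [isFrobeniusComplement_iff]
  refine ⟨hH, ?_, ?_⟩
  · intro htop
    apply hK
    rw [htop] at hc
    exact Subgroup.isComplement'_top_right.mp hc
  · intro g hg x hx hgx
    by_contra hx1
    obtain ⟨⟨k, h⟩, hkh, -⟩ := Subgroup.IsComplement.existsUnique hc g
    simp only at hkh
    have hk1 : (k : G) ≠ 1 := by
      intro hk
      apply hg
      rw [← hkh, hk, one_mul]
      exact h.2
    -- k⁻¹ x k ∈ H
    have h1 : (k : G)⁻¹ * x * k ∈ H := by
      have e : (k : G)⁻¹ * x * k = h * (g⁻¹ * x * g) * (h : G)⁻¹ := by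
        rw [← hkh]; group
      rw [e]
      exact H.mul_mem (H.mul_mem h.2 hgx) (H.inv_mem h.2)
    -- w = x⁻¹ (k⁻¹ x k) ∈ H ∩ K
    have hwH : x⁻¹ * ((k : G)⁻¹ * x * k) ∈ H := H.mul_mem (H.inv_mem hx) h1
    have hwK : x⁻¹ * ((k : G)⁻¹ * x * k) ∈ K := by
      have e : x⁻¹ * ((k : G)⁻¹ * x * k) = (x⁻¹ * (k : G)⁻¹ * x⁻¹⁻¹) * k := by group
      rw [e]
      exact K.mul_mem (hKn.conj_mem _ (K.inv_mem k.2) x⁻¹) k.2
    have hw1 : x⁻¹ * ((k : G)⁻¹ * x * k) = 1 := by
      have := hc.disjoint
      rw [Subgroup.disjoint_def] at this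
      exact this hwK hwH
    have hcomm : (k : G) * x = x * k := by
      have e : (k : G) * x = (k : G) * x * (x⁻¹ * ((k : G)⁻¹ * x * k)) := by
        rw [hw1, mul_one]
      rw [e]; group
    have hkc : (k : G) ∈ K ⊓ Subgroup.centralizer {x} := by
      refine Subgroup.mem_inf.mpr ⟨k.2, ?_⟩
      rw [Subgroup.mem_centralizer_singleton_iff]
      exact hcomm
    rw [hfpf x hx hx1, Subgroup.mem_bot] at hkc
    exact hk1 hkc

/-- A Frobenius complement has nontrivial centre: if H ≠ 1 complements a nontrivial normal subgroup K and every nonidentity element of H has trivial centraliser in K, then the centre of H is nontrivial. -/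
theorem result {G : Type*} [Group G] [Finite G] (K H : Subgroup G) [K.Normal]
    (hc : Subgroup.IsComplement' K H) (hK : K ≠ ⊥) (hH : H ≠ ⊥) (hfpf : ∀ h ∈ H, h ≠ 1 → K ⊓ Subgroup.centralizer {h} = ⊥) :
    Subgroup.center H ≠ ⊥ := by
  classical
  have hF := isFrobeniusComplement_of_fpf K H hc hK hH hfpf
  -- it suffices to find a nontrivial central element
  suffices hex : ∃ z : H, z ≠ 1 ∧ ∀ h : H, h * z = z * h by
    obtain ⟨z, hz1, hz⟩ := hex
    intro hbot
    have hzc : z ∈ Subgroup.center H := Subgroup.mem_center_iff.mpr hz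
    rw [hbot, Subgroup.mem_bot] at hzc
    exact hz1 hzc
  rcases Nat.even_or_odd (Nat.card H) with heven | hodd
  · -- even order: the unique involution
    have h2 : 2 ∣ Nat.card H := even_iff_two_dvd.mp heven
    have : Fact (Nat.Prime 2) := ⟨Nat.prime_two⟩
    obtain ⟨t, ht⟩ := exists_prime_orderOf_dvd_card' 2 h2
    have ht1 : (t : G) ≠ 1 := by
      intro h
      have : t = 1 := Subtype.ext h
      rw [this, orderOf_one] at ht
      norm_num at ht
    have ht2 : (t : G) * (t : G) = 1 := by
      have := pow_orderOf_eq_one t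
      rw [ht, pow_two] at this
      exact congrArg Subtype.val this
    obtain ⟨N, hNn, hN, hcompl, -, -⟩ := frob_kernel_data hF
    obtain ⟨-, hHtop, -⟩ := (isFrobeniusComplement_iff H).mp hF
    have hNbot : N ≠ ⊥ := by
      intro h
      apply hHtop
      rw [← Subgroup.isComplement'_bot_left, ← h]; exact hcompl
    obtain ⟨k, hk1⟩ := (Subgroup.ne_bot_iff_exists_ne_one).mp hNbot
    have hkK : (k : G) ∈ Cfsg.frobeniusKernel H := by rw [← hN]; exact k.2
    have hk1' : (k : G) ≠ 1 := fun h => hk1 (Subtype.ext h)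
    refine ⟨t, fun h => ht1 (congrArg Subtype.val h), ?_⟩
    intro h
    -- s = h t h⁻¹ is an involution of H
    have hsH : (h : G) * t * (h : G)⁻¹ ∈ H := H.mul_mem (H.mul_mem h.2 t.2) (H.inv_mem h.2)
    have hs1 : (h : G) * t * (h : G)⁻¹ ≠ 1 := by
      intro hs
      apply ht1
      have e : (t : G) = (h : G)⁻¹ * ((h : G) * t * (h : G)⁻¹) * h := by group
      rw [e, hs]; group
    have hs2 : ((h : G) * t * (h : G)⁻¹) * ((h : G) * t * (h : G)⁻¹) = 1 := by
      have e : ((h : G) * t * (h : G)⁻¹) * ((h : G) * t * (h : G)⁻¹)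
          = (h : G) * ((t : G) * t) * (h : G)⁻¹ := by group
      rw [e, ht2]; group
    have it := Helper1.frob_invol_inverts_kernel hF t.2 ht1 ht2 hkK
    have is := Helper1.frob_invol_inverts_kernel hF hsH hs1 hs2 hkK
    -- (s t) commutes with k
    have hcomm : (((h : G) * t * (h : G)⁻¹) * t) * (k : G) = k * (((h : G) * t * (h : G)⁻¹) * t) := by
      have htinv : (t : G)⁻¹ = t := inv_eq_of_mul_eq_one_right ht2
      have hsinv : ((h : G) * t * (h : G)⁻¹)⁻¹ = (h : G) * t * (h : G)⁻¹ :=
        inv_eq_of_mul_eq_one_right hs2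
      set s : G := (h : G) * t * (h : G)⁻¹ with hs
      have e1 : (t : G) * k = (k : G)⁻¹ * t := by
        calc (t : G) * k = ((t : G) * k * t) * (t : G)⁻¹ := by group
          _ = (k : G)⁻¹ * t := by rw [it, htinv]
      have e2 : s * (k : G)⁻¹ = k * s := by
        have h3 : s * (k : G) = (k : G)⁻¹ * s := by
          calc s * (k : G) = (s * k * s) * s⁻¹ := by group
            _ = (k : G)⁻¹ * s := by rw [is, hsinv]
        calc s * (k : G)⁻¹ = (k : G) * ((k : G)⁻¹ * s) * (k : G)⁻¹ := by group
          _ = (k : G) * (s * k) * (k : G)⁻¹ := by rw [h3]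
          _ = k * s := by group
      calc s * t * (k : G) = s * ((t : G) * k) := by group
        _ = s * ((k : G)⁻¹ * t) := by rw [e1]
        _ = (s * (k : G)⁻¹) * t := by group
        _ = (k * s) * t := by rw [e2]
        _ = k * (s * t) := by group
    have hst := frob_eq_one_of_commute hF (H.mul_mem hsH t.2) hkK hk1' hcomm
    -- so s = t
    have hst' : (h : G) * t * (h : G)⁻¹ = t := by
      have htinv : (t : G)⁻¹ = t := inv_eq_of_mul_eq_one_right ht2
      have := eq_inv_of_mul_eq_one_left hst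
      rw [this, htinv]
    apply Subtype.ext
    show (h : G) * t = t * h
    calc (h : G) * t = ((h : G) * t * (h : G)⁻¹) * h := by group
      _ = t * h := by rw [hst']
  · -- odd order: Z-group
    have hZ : IsZGroup H := ⟨fun p hp P => @frob_sylow_cyclic_of_odd _ _ _ _ hF hodd p ⟨hp⟩ P⟩
    have hsolvH : Group.IsSolvable H := inferInstance
    have hCcyc : IsCyclic (commutator H) := IsZGroup.isCyclic_commutator H
    have hcopC := IsZGroup.coprime_commutator_index H
    obtain ⟨T, hT⟩ := Subgroup.exists_right_complement'_of_coprime hcopC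
    obtain ⟨yC, hyC⟩ := hCcyc.exists_generator
    have hCy : ∀ c ∈ commutator H, c ∈ Subgroup.zpowers (yC : H) := by
      intro c hcm
      obtain ⟨i, hi⟩ := Subgroup.mem_zpowers_iff.mp (hyC ⟨c, hcm⟩)
      rw [Subgroup.mem_zpowers_iff]
      exact ⟨i, by have := congrArg Subtype.val hi; simpa using this⟩
    have hTcomm : ∀ t₁ ∈ T, ∀ t₂ ∈ T, t₁ * t₂ = t₂ * t₁ := by
      intro t₁ h₁ t₂ h₂
      have hcm : t₁ * t₂ * t₁⁻¹ * t₂⁻¹ ∈ commutator H := by
        rw [commutator_def]
        exact Subgroup.commutator_mem_commutator (Subgroup.mem_top t₁) (Subgroup.mem_top t₂)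
      have hcT : t₁ * t₂ * t₁⁻¹ * t₂⁻¹ ∈ T :=
        T.mul_mem (T.mul_mem (T.mul_mem h₁ h₂) (T.inv_mem h₁)) (T.inv_mem h₂)
      have hd := hT.disjoint
      rw [Subgroup.disjoint_def] at hd
      have h1 := hd hcm hcT
      calc t₁ * t₂ = (t₁ * t₂ * t₁⁻¹ * t₂⁻¹) * (t₂ * t₁) := by group
        _ = t₂ * t₁ := by rw [h1, one_mul]
    -- every element is c * t
    have hdecomp : ∀ h : H, ∃ c ∈ commutator H, ∃ t ∈ T, h = c * t := by
      intro h
      obtain ⟨⟨c, t⟩, hct, -⟩ := Subgroup.IsComplement.existsUnique hT h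
      exact ⟨c, c.2, t, t.2, hct.symm⟩
    by_cases hTbot : T = ⊥
    · -- H = C is cyclic, generated by y
      have hall : ∀ h : H, h ∈ Subgroup.zpowers (yC : H) := by
        intro h
        obtain ⟨c, hcm, t, ht, rfl⟩ := hdecomp h
        rw [hTbot, Subgroup.mem_bot] at ht
        rw [ht, mul_one]
        exact hCy c hcm
      refine ⟨(yC : H), ?_, ?_⟩
      · intro hy1
        apply hH
        rw [Subgroup.eq_bot_iff_forall]
        intro g hg
        have := hall ⟨g, hg⟩
        rw [hy1, Subgroup.zpowers_one_eq_bot, Subgroup.mem_bot] at this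
        exact congrArg Subtype.val this
      · intro h
        obtain ⟨i, hi⟩ := Subgroup.mem_zpowers_iff.mp (hall h)
        rw [← hi]
        exact ((Commute.refl (yC : H)).zpow_left i).eq
    · -- take s of prime order in T
      have hTcard : Nat.card T ≠ 1 := fun h => hTbot (Subgroup.card_eq_one.mp h)
      obtain ⟨q, hq, hqT⟩ := Nat.exists_prime_and_dvd hTcard
      have : Fact q.Prime := ⟨hq⟩
      obtain ⟨s, hs⟩ := exists_prime_orderOf_dvd_card' q hqT
      have hs1 : (s : H) ≠ 1 := by
        intro h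
        have : s = 1 := Subtype.ext h
        rw [this, orderOf_one] at hs
        exact hq.one_lt.ne hs
      have hsq : (((s : H) : G)) ^ q = 1 := by
        have := pow_orderOf_eq_one s
        rw [hs] at this
        have := congrArg (fun w : T => ((w : H) : G)) this
        simpa using this
      -- s normalizes zpowers y
      have hnorm : (((s : H) : G)) * ((yC : H) : G) * (((s : H) : G))⁻¹ ∈
          Subgroup.zpowers (((yC : H) : G)) := by
        have hcn : (commutator H).Normal := inferInstance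
        have h1 : (s : H) * (yC : H) * (s : H)⁻¹ ∈ commutator H := hcn.conj_mem _ yC.2 _
        obtain ⟨i, hi⟩ := Subgroup.mem_zpowers_iff.mp (hCy _ h1)
        rw [Subgroup.mem_zpowers_iff]
        refine ⟨i, ?_⟩
        have := congrArg Subtype.val hi
        simpa using this
      have hsy := frob_commute_of_normalizes hF hsolvH (yC : H).2 (s : H).2 hq hsq hnorm
      have hsy' : (s : H) * (yC : H) = (yC : H) * (s : H) := Subtype.ext hsy
      refine ⟨(s : H), hs1, ?_⟩
      intro h
      obtain ⟨c, hcm, t, ht, rfl⟩ := hdecomp h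
      obtain ⟨i, hi⟩ := Subgroup.mem_zpowers_iff.mp (hCy c hcm)
      have h1 : Commute (s : H) c := by
        rw [← hi]
        exact (show Commute (s : H) (yC : H) from hsy').zpow_right i
      have h2 : Commute (s : H) t := hTcomm _ s.2 _ ht
      exact ((h1.mul_right h2).eq).symm

end Cfsg.Agent.S0069
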