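import Cfsg.Statements.S0755
import Cfsg.Agent.S0753
import Cfsg.Agent.Helper13.Involution

set_option autoImplicit false
open Cfsg

namespace Cfsg.Agent.S0755

open Cfsg.Agent.Helper13 Module

/-- a nondegenerate Hermitian form on a nontrivial space over a finite field has a vector of norm one -/
theorem exists_norm_one {F V : Type*} [Field F] [Finite F] [AddCommGroup V] [Module F V]
    [Nontrivial V] (σ : F →+* F) (hσ : σ ≠ RingHom.id F) (hσ2 : ∀ a : F, σ (σ a) = a)
    (B : V →ₛₗ[σ] V →ₗ[F] F) (hS : B.IsSymm) (hB : B.Nondegenerate) : ∃ x : V, B x x = 1 := by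
  cases nonempty_fintype F
  have hB0 : B ≠ 0 := by
    rintro rfl
    obtain ⟨y, hy⟩ := exists_ne (0 : V)
    exact hy (hB.1 y (fun _ => rfl))
  have hex : ∃ v, B v v ≠ 0 := by
    by_contra hcon
    push Not at hcon
    exact hB0 (Cfsg.Agent.S0753.result σ hσ B hS hcon)
  obtain ⟨v, hv⟩ := hex
  obtain ⟨c, hc⟩ := exists_norm_eq σ hσ hσ2 (hS.eq v v) hv
  have hc0 : c ≠ 0 := by
    rintro rfl
    rw [mul_zero] at hc
    exact hv hc.symm
  have hσc0 : σ c ≠ 0 := (map_ne_zero σ).mpr hc0
  refine ⟨c⁻¹ • v, ?_⟩
  have h1 : B (c⁻¹ • v) (c⁻¹ • v) = σ c⁻¹ * (c⁻¹ * B v v) := by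
    rw [LinearMap.map_smulₛₗ B, LinearMap.smul_apply, map_smul, smul_eq_mul, smul_eq_mul]
  rw [h1, ← hc, map_inv₀]
  field_simp

theorem main {F : Type*} [Field F] [Finite F] (σ : F →+* F) (hσ : σ ≠ RingHom.id F)
    (hσ2 : ∀ a : F, σ (σ a) = a) (n : ℕ) :
    ∀ {V : Type*} [AddCommGroup V] [Module F V] [FiniteDimensional F V]
      (B : V →ₛₗ[σ] V →ₗ[F] F), B.IsSymm → B.Nondegenerate → Module.finrank F V = n →
      ∃ b : Module.Basis (Fin n) F V, ∀ i j, B (b i) (b j) = if i = j then 1 else 0 := by
  induction n with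
  | zero =>
    intro V _ _ _ B _ _ hn
    exact ⟨_root_.basisOfFinrankZero hn, fun i => i.elim0⟩
  | succ n ih =>
    intro V _ _ _ B hS hB hn
    have hnt : Nontrivial V := Module.nontrivial_of_finrank_pos (R := F) (by omega)
    obtain ⟨x, hx⟩ := exists_norm_one σ hσ hσ2 B hS hB
    set W : Submodule F V := LinearMap.ker (B x) with hW
    have hmemW : ∀ y, y ∈ W ↔ B x y = 0 := fun y => LinearMap.mem_ker
    have hyx : ∀ y ∈ W, B y x = 0 := by
      intro y hy
      rw [← hS.eq x y, (hmemW y).mp hy, map_zero]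
    have hsurj : Function.Surjective (B x) := by
      intro a
      exact ⟨a • x, by rw [map_smul, hx, smul_eq_mul, mul_one]⟩
    have hdim : Module.finrank F W = n := by
      have h1 := LinearMap.finrank_range_add_finrank_ker (B x)
      rw [LinearMap.range_eq_top.mpr hsurj, finrank_top, Module.finrank_self, hn] at h1
      rw [hW]
      omega
    -- decomposition of an arbitrary vector
    have hdec : ∀ v : V, v - (B x v) • x ∈ W := by
      intro v
      rw [hmemW, map_sub, map_smul, hx, smul_eq_mul, mul_one, sub_self]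
    set B' : W →ₛₗ[σ] W →ₗ[F] F := B.domRestrict₁₂ W W with hB'
    have hB'apply : ∀ y z : W, B' y z = B y z := fun y z => rfl
    have hS' : B'.IsSymm := ⟨fun y z => hS.eq y z⟩
    have hleft : B'.SeparatingLeft := by
      intro y hy
      apply Subtype.ext
      apply hB.1 (y : V)
      intro v
      have h1 : v = (v - (B x v) • x) + (B x v) • x := by abel
      rw [h1, map_add, map_smul, hyx y y.2, smul_zero, add_zero]
      exact hy ⟨_, hdec v⟩
    have hright : B'.SeparatingRight := by
      intro z hz
      apply hleft z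
      intro y
      rw [← hS'.eq y z, hz y, map_zero]
    obtain ⟨v', hv'⟩ := ih B' hS' ⟨hleft, hright⟩ hdim
    let b := Basis.mkFinCons x v'
      (by
        intro c y hy hc
        have := congrArg (B x) hc
        rw [map_add, map_smul, hx, (hmemW y).mp hy, map_zero, smul_eq_mul, mul_one,
          add_zero] at this
        exact this)
      (by
        intro z
        refine ⟨-(B x z), ?_⟩
        have := hdec z
        rwa [sub_eq_add_neg, ← neg_smul] at this)
    have hb : (b : Fin (n + 1) → V) = Fin.cons x ((↑) ∘ v') := Basis.coe_mkFinCons _ _ _ _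
    refine ⟨b, ?_⟩
    intro i j
    rw [hb]
    refine Fin.cases ?_ (fun i => ?_) i <;> refine Fin.cases ?_ (fun j => ?_) j
    · simpa using hx
    · simp only [Fin.cons_zero, Fin.cons_succ, Function.comp_apply]
      rw [(hmemW _).mp (v' j).2, if_neg (Fin.succ_ne_zero j).symm]
    · simp only [Fin.cons_zero, Fin.cons_succ, Function.comp_apply]
      rw [hyx _ (v' i).2, if_neg (Fin.succ_ne_zero i)]
    · simp only [Fin.cons_succ, Function.comp_apply, Fin.succ_inj]
      exact hv' i j

/-- Classification of Hermitian forms over finite fields: if σ is a non-identity involutive automorphism of the finite field F and B is a non-degenerate conjugate-symmetric σ-sesquilinear form on the finite-dimensional space V, then V has a B-orthonormal basis. -/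
theorem result {F V : Type*} [Field F] [Finite F] [AddCommGroup V] [Module F V] [FiniteDimensional F V] (σ : F →+* F) (hσ : σ ≠ RingHom.id F) (hσ2 : ∀ a : F, σ (σ a) = a) (B : V →ₛₗ[σ] V →ₗ[F] F) (hS : B.IsSymm) (hB : B.Nondegenerate) : ∃ b : Module.Basis (Fin (Module.finrank F V)) F V, ∀ i j, B (b i) (b j) = if i = j then 1 else 0 := by
  exact main σ hσ hσ2 _ B hS hB rfl

end Cfsg.Agent.S0755
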