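import Cfsg.Statements.S0837
import Cfsg.Agent.Helper13.Herm
import Cfsg.Agent.S0751
import Cfsg.Agent.S0755

set_option autoImplicit false
open Cfsg

namespace Cfsg.Agent.S0837

open Matrix Cfsg.Agent.Helper13

variable {F : Type*} [Field F] [Fintype F] {q : ℕ}

/-- The Frobenius `x ↦ x^q` as a ring hom. -/
def frobHom (hF : Fintype.card F = q ^ 2) : F →+* F where
  toFun x := x ^ q
  map_one' := one_pow q
  map_mul' x y := mul_pow x y q
  map_zero' := zero_pow (by have := two_le_of_card_eq_sq hF; omega)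
  map_add' x y := frob_add hF x y

theorem frobHom_apply (hF : Fintype.card F = q ^ 2) (x : F) : frobHom hF x = x ^ q := rfl

theorem frobHom_ne_id (hF : Fintype.card F = q ^ 2) : frobHom hF ≠ RingHom.id F := by
  intro h
  have hq := two_le_of_card_eq_sq hF
  have hall : ∀ x : F, x ^ q = x := fun x => by
    have := RingHom.congr_fun h x
    simpa [frobHom_apply] using this
  have hdeg := FiniteField.X_pow_card_sub_X_natDegree_eq F (p := q) (by omega)
  have hne : (Polynomial.X ^ q - Polynomial.X : Polynomial F) ≠ 0 := by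
    intro h0
    rw [h0, Polynomial.natDegree_zero] at hdeg
    omega
  have hsub : (Finset.univ : Finset F).val ⊆ (Polynomial.X ^ q - Polynomial.X : Polynomial F).roots := by
    intro x _
    rw [Polynomial.mem_roots hne, Polynomial.IsRoot.def]
    simp [hall x]
  have := Polynomial.card_le_degree_of_subset_roots hsub
  rw [Finset.card_univ, hF, hdeg] at this
  nlinarith

theorem frobHom_frobHom (hF : Fintype.card F = q ^ 2) (a : F) :
    frobHom hF (frobHom hF a) = a := frob_frob hF a

/-- The standard Hermitian form on `ι → F`. -/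
def herm {ι : Type*} [Fintype ι] (q : ℕ) (u v : ι → F) : F := ∑ i, u i * v i ^ q

theorem herm_eq_dotProduct (hF : Fintype.card F = q ^ 2) {ι : Type*} [Fintype ι] (u v : ι → F) :
    herm q u v = u ⬝ᵥ (frobHom hF ∘ v) := rfl

/-- matrix criterion for preserving the Hermitian form -/
theorem preserves_iff (hF : Fintype.card F = q ^ 2) {ι : Type*} [Fintype ι] [DecidableEq ι]
    (M : Matrix ι ι F) :
    (∀ u v, herm q (M *ᵥ u) (M *ᵥ v) = herm q u v) ↔ Mᵀ * M.map (frobHom hF) = 1 := by
  have hq : q ≠ 0 := by have := two_le_of_card_eq_sq hF; omega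
  constructor
  · intro h
    ext i j
    have h1 := h (Pi.single i 1) (Pi.single j 1)
    rw [Matrix.mulVec_single_one, Matrix.mulVec_single_one] at h1
    rw [Matrix.mul_apply]
    have h2 : ∑ k, Mᵀ i k * (M.map (frobHom hF)) k j = herm q (M.col i) (M.col j) := rfl
    rw [h2, h1, Matrix.one_apply]
    simp only [herm]
    by_cases hij : i = j
    · subst hij
      rw [if_pos rfl, Finset.sum_eq_single i]
      · simp
      · intro k _ hk
        simp [hk]
      · simp
    · rw [if_neg hij]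
      apply Finset.sum_eq_zero
      intro k _
      by_cases hk : k = i
      · subst hk
        simp [hij, hq]
      · simp [hk]
  · intro h u v
    rw [herm_eq_dotProduct hF, herm_eq_dotProduct hF]
    have h1 : frobHom hF ∘ (M *ᵥ v) = M.map (frobHom hF) *ᵥ (frobHom hF ∘ v) := by
      funext i
      exact RingHom.map_mulVec (frobHom hF) M v i
    rw [h1, dotProduct_comm, Matrix.dotProduct_mulVec, ← Matrix.mulVec_transpose,
      Matrix.mulVec_mulVec, h, Matrix.one_mulVec, dotProduct_comm]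

/-- a matrix preserving the form, as a unit -/
def unitOf (hF : Fintype.card F = q ^ 2) {ι : Type*} [Fintype ι] [DecidableEq ι]
    (M : Matrix ι ι F) (hM : Mᵀ * M.map (frobHom hF) = 1) : GL ι F where
  val := M
  inv := (M.map (frobHom hF))ᵀ
  val_inv := by
    rw [mul_eq_one_comm]
    have := congrArg Matrix.transpose hM
    rwa [Matrix.transpose_mul, Matrix.transpose_transpose, Matrix.transpose_one] at this
  inv_val := by
    have := congrArg Matrix.transpose hM
    rwa [Matrix.transpose_mul, Matrix.transpose_transpose, Matrix.transpose_one] at this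

theorem mem_GU_iff (hF : Fintype.card F = q ^ 2) (n : ℕ) (g : GL (Fin n) F) :
    g ∈ Cfsg.GU n F q ↔ (g.1)ᵀ * (g.1).map (frobHom hF) = 1 := by
  rw [← preserves_iff hF]
  rfl

section blocks

variable {k l : ℕ}

theorem blocks_of_upper (hF : Fintype.card F = q ^ 2)
    (M : Matrix (Fin k ⊕ Fin l) (Fin k ⊕ Fin l) F)
    (h21 : M.toBlocks₂₁ = 0) (hM : Mᵀ * M.map (frobHom hF) = 1) :
    M.toBlocks₁₁ᵀ * M.toBlocks₁₁.map (frobHom hF) = 1 ∧ M.toBlocks₁₂ = 0 ∧
      M.toBlocks₂₂ᵀ * M.toBlocks₂₂.map (frobHom hF) = 1 := by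
  have hMeq : M = Matrix.fromBlocks M.toBlocks₁₁ M.toBlocks₁₂ 0 M.toBlocks₂₂ := by
    rw [← h21]; exact (Matrix.fromBlocks_toBlocks M).symm
  rw [hMeq, Matrix.fromBlocks_map, Matrix.fromBlocks_transpose, Matrix.fromBlocks_multiply,
    ← Matrix.fromBlocks_one, Matrix.fromBlocks_inj] at hM
  have hz : (0 : Matrix (Fin l) (Fin k) F).map (frobHom hF) = 0 := by
    ext i j; simp
  simp only [hz, Matrix.transpose_zero, Matrix.zero_mul, Matrix.mul_zero, add_zero,
    zero_add] at hM
  obtain ⟨h11, h12, -, h22⟩ := hM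
  have hB : M.toBlocks₁₂ = 0 := by
    have hu : IsUnit (M.toBlocks₁₁ᵀ).det := by
      have := congrArg Matrix.det h11
      rw [Matrix.det_mul, Matrix.det_one] at this
      exact IsUnit.of_mul_eq_one _ this
    have h0 : M.toBlocks₁₂.map (frobHom hF) = 0 := by
      calc M.toBlocks₁₂.map (frobHom hF)
          = ((M.toBlocks₁₁ᵀ)⁻¹ * M.toBlocks₁₁ᵀ) * M.toBlocks₁₂.map (frobHom hF) := by
            rw [Matrix.nonsing_inv_mul _ hu, Matrix.one_mul]
        _ = (M.toBlocks₁₁ᵀ)⁻¹ * (M.toBlocks₁₁ᵀ * M.toBlocks₁₂.map (frobHom hF)) :=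
            Matrix.mul_assoc _ _ _
        _ = 0 := by rw [h12, Matrix.mul_zero]
    ext i j
    have := congrFun (congrFun h0 i) j
    simp only [Matrix.map_apply, Matrix.zero_apply] at this ⊢
    exact (map_eq_zero (frobHom hF)).mp this
  refine ⟨h11, hB, ?_⟩
  rw [hB] at h22
  simpa using h22

theorem gram_of_diag (hF : Fintype.card F = q ^ 2) {A : Matrix (Fin k) (Fin k) F}
    {D : Matrix (Fin l) (Fin l) F}
    (hA : Aᵀ * A.map (frobHom hF) = 1) (hD : Dᵀ * D.map (frobHom hF) = 1) :
    (Matrix.fromBlocks A 0 0 D)ᵀ * (Matrix.fromBlocks A 0 0 D).map (frobHom hF) = 1 := by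
  have hz1 : (0 : Matrix (Fin l) (Fin k) F).map (frobHom hF) = 0 := by
    ext i j; simp
  have hz2 : (0 : Matrix (Fin k) (Fin l) F).map (frobHom hF) = 0 := by
    ext i j; simp
  rw [Matrix.fromBlocks_map, Matrix.fromBlocks_transpose, Matrix.fromBlocks_multiply, hz1, hz2]
  simp only [Matrix.transpose_zero, Matrix.zero_mul, Matrix.mul_zero, add_zero, zero_add]
  rw [hA, hD, Matrix.fromBlocks_one]

end blocks

/-- the Hermitian form as a sesquilinear map (semilinear in the first variable) -/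
noncomputable def hB (hF : Fintype.card F = q ^ 2) (n : ℕ) :
    (Fin n → F) →ₛₗ[frobHom hF] (Fin n → F) →ₗ[F] F :=
  LinearMap.mk₂'ₛₗ (frobHom hF) (RingHom.id F) (fun x y => Cfsg.hermForm n F q y x)
    (fun x x' y => hermForm_add_right hF y x x')
    (fun c x y => hermForm_smul_right c y x)
    (fun x y y' => hermForm_add_left y y' x)
    (fun c x y => hermForm_smul_left c y x)

theorem hB_apply (hF : Fintype.card F = q ^ 2) (n : ℕ) (x y : Fin n → F) :
    hB hF n x y = Cfsg.hermForm n F q y x := rfl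

theorem hB_isSymm (hF : Fintype.card F = q ^ 2) (n : ℕ) : (hB hF n).IsSymm :=
  ⟨fun x y => hermForm_conj hF y x⟩

theorem hB_nondegenerate (hF : Fintype.card F = q ^ 2) (n : ℕ) : (hB hF n).Nondegenerate := by
  have hq : q ≠ 0 := by have := two_le_of_card_eq_sq hF; omega
  constructor
  · intro x hx
    funext i
    have := hx (Pi.single i 1)
    rw [hB_apply, hermForm_single_left] at this
    exact (pow_eq_zero_iff hq).mp this
  · intro y hy
    funext i
    have := hy (Pi.single i 1)
    rw [hB_apply, hermForm_single_right hF] at this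
    exact this

section main

variable {n k l : ℕ} (β : Module.Basis (Fin k ⊕ Fin l) F (Fin n → F))

/-- the Hermitian form in orthonormal coordinates -/
theorem hermForm_eq_herm_repr (hF : Fintype.card F = q ^ 2)
    (hON : ∀ x y, Cfsg.hermForm n F q (β x) (β y) = if x = y then 1 else 0)
    (u v : Fin n → F) :
    Cfsg.hermForm n F q u v = herm q (⇑(β.repr u)) (⇑(β.repr v)) := by
  rw [← hB_apply hF]
  conv_lhs => rw [← β.sum_repr u, ← β.sum_repr v]
  simp only [map_sum, LinearMap.map_smulₛₗ, LinearMap.sum_apply, LinearMap.smul_apply,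
    map_smul, smul_eq_mul, hB_apply, hON]
  simp only [herm, frobHom_apply, mul_ite, mul_one, mul_zero]
  refine Finset.sum_congr rfl fun i _ => ?_
  rw [Finset.sum_ite_eq]
  simp

/-- change of basis as an algebra isomorphism -/
noncomputable def Theta : Matrix (Fin n) (Fin n) F ≃ₐ[F]
    Matrix (Fin k ⊕ Fin l) (Fin k ⊕ Fin l) F :=
  (Matrix.toLinAlgEquiv' (R := F) (n := Fin n)).trans (LinearMap.toMatrixAlgEquiv β)

theorem Theta_apply (g : Matrix (Fin n) (Fin n) F) :
    Theta β g = LinearMap.toMatrix β β (Matrix.toLin' g) := rfl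

theorem Theta_entry (g : Matrix (Fin n) (Fin n) F) (i j : Fin k ⊕ Fin l) :
    Theta β g i j = β.repr (g *ᵥ β j) i := by
  rw [Theta_apply, LinearMap.toMatrix_apply, Matrix.toLin'_apply]

theorem Theta_mulVec_repr (g : Matrix (Fin n) (Fin n) F) (v : Fin n → F) :
    Theta β g *ᵥ ⇑(β.repr v) = ⇑(β.repr (g *ᵥ v)) := by
  rw [Theta_apply, LinearMap.toMatrix_mulVec_repr, Matrix.toLin'_apply]

theorem unitary_iff_Theta (hF : Fintype.card F = q ^ 2)
    (hON : ∀ x y, Cfsg.hermForm n F q (β x) (β y) = if x = y then 1 else 0)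
    (g : Matrix (Fin n) (Fin n) F) :
    gᵀ * g.map (frobHom hF) = 1 ↔ (Theta β g)ᵀ * (Theta β g).map (frobHom hF) = 1 := by
  rw [← preserves_iff hF, ← preserves_iff hF]
  constructor
  · intro h x y
    have hx : ⇑(β.repr (β.equivFun.symm x)) = x := by
      have := β.equivFun.apply_symm_apply x
      exact this
    have hy : ⇑(β.repr (β.equivFun.symm y)) = y := by
      have := β.equivFun.apply_symm_apply y
      exact this
    have h1 := h (β.equivFun.symm x) (β.equivFun.symm y)
    change Cfsg.hermForm n F q _ _ = Cfsg.hermForm n F q _ _ at h1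
    rw [hermForm_eq_herm_repr β hF hON, hermForm_eq_herm_repr β hF hON (β.equivFun.symm x),
      ← Theta_mulVec_repr, ← Theta_mulVec_repr, hx, hy] at h1
    exact h1
  · intro h u v
    change Cfsg.hermForm n F q _ _ = Cfsg.hermForm n F q _ _
    rw [hermForm_eq_herm_repr β hF hON, hermForm_eq_herm_repr β hF hON u,
      ← Theta_mulVec_repr, ← Theta_mulVec_repr]
    exact h _ _

theorem Theta_21 {W : Submodule F (Fin n → F)}
    (hWβ : ∀ v, v ∈ W ↔ ∀ y, β.repr v (Sum.inr y) = 0)
    (g : Matrix (Fin n) (Fin n) F) (hg : ∀ v ∈ W, g *ᵥ v ∈ W) :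
    (Theta β g).toBlocks₂₁ = 0 := by
  ext y x
  simp only [Matrix.toBlocks₂₁, Matrix.of_apply, Matrix.zero_apply]
  rw [Theta_entry]
  have hx : β (Sum.inl x) ∈ W := by
    rw [hWβ]
    intro y'
    simp
  exact (hWβ _).mp (hg _ hx) y

theorem stab_of_diag (hF : Fintype.card F = q ^ 2) {W : Submodule F (Fin n → F)}
    (hWβ : ∀ v, v ∈ W ↔ ∀ y, β.repr v (Sum.inr y) = 0)
    {A : Matrix (Fin k) (Fin k) F} {D : Matrix (Fin l) (Fin l) F}
    (hD : Dᵀ * D.map (frobHom hF) = 1) (v : Fin n → F) :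
    v ∈ W ↔ ((Theta β).symm (Matrix.fromBlocks A 0 0 D)) *ᵥ v ∈ W := by
  rw [hWβ, hWβ]
  have h1 := Theta_mulVec_repr β ((Theta β).symm (Matrix.fromBlocks A 0 0 D)) v
  rw [AlgEquiv.apply_symm_apply] at h1
  have h2 : ∀ y, β.repr (((Theta β).symm (Matrix.fromBlocks A 0 0 D)) *ᵥ v) (Sum.inr y) =
      (D *ᵥ fun y' => β.repr v (Sum.inr y')) y := by
    intro y
    rw [← h1]
    simp [Matrix.mulVec, dotProduct, Fintype.sum_sum_type]
  have hinj : Function.Injective D.mulVec :=
    Matrix.mulVec_injective_of_isUnit (unitOf hF D hD).isUnit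
  constructor
  · intro h y
    rw [h2]
    have : (fun y' => β.repr v (Sum.inr y')) = 0 := funext h
    rw [this, Matrix.mulVec_zero]
    rfl
  · intro h
    have h3 : D *ᵥ (fun y' => β.repr v (Sum.inr y')) = D *ᵥ 0 := by
      rw [Matrix.mulVec_zero]
      funext y
      rw [← h2]
      exact h y
    have := hinj h3
    intro y
    exact congrFun this y

/-- the block decomposition of the stabiliser -/
noncomputable def stabEquiv (hF : Fintype.card F = q ^ 2)
    (hON : ∀ x y, Cfsg.hermForm n F q (β x) (β y) = if x = y then 1 else 0)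
    (W : Submodule F (Fin n → F))
    (hWβ : ∀ v, v ∈ W ↔ ∀ y, β.repr v (Sum.inr y) = 0) :
    ↥((Cfsg.stabilizing (Cfsg.glToMat (Fin n) F) (W : Set (Fin n → F))).subgroupOf
      (Cfsg.GU n F q)) ≃* ↥(Cfsg.GU k F q) × ↥(Cfsg.GU l F q) where
  toFun g :=
    have hb := blocks_of_upper hF _
      (Theta_21 β hWβ g.1.1.1 (fun v hv => ((Subgroup.mem_subgroupOf.mp g.2) v).mp hv))
      ((unitary_iff_Theta β hF hON g.1.1.1).mp ((mem_GU_iff hF n g.1.1).mp g.1.2))
    (⟨unitOf hF _ hb.1, (mem_GU_iff hF k _).mpr hb.1⟩,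
      ⟨unitOf hF _ hb.2.2, (mem_GU_iff hF l _).mpr hb.2.2⟩)
  invFun x :=
    have hA := (mem_GU_iff hF k x.1.1).mp x.1.2
    have hD := (mem_GU_iff hF l x.2.1).mp x.2.2
    have hU : ((Theta β).symm (Matrix.fromBlocks x.1.1.1 0 0 x.2.1.1))ᵀ *
        ((Theta β).symm (Matrix.fromBlocks x.1.1.1 0 0 x.2.1.1)).map (frobHom hF) = 1 := by
      rw [unitary_iff_Theta β hF hON, AlgEquiv.apply_symm_apply]
      exact gram_of_diag hF hA hD
    ⟨⟨unitOf hF _ hU, (mem_GU_iff hF n _).mpr hU⟩,
      Subgroup.mem_subgroupOf.mpr (fun v => stab_of_diag β hF hWβ hD v)⟩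
  left_inv g := by
    apply Subtype.ext
    apply Subtype.ext
    apply Units.ext
    have h21 := Theta_21 β hWβ g.1.1.1
      (fun v hv => ((Subgroup.mem_subgroupOf.mp g.2) v).mp hv)
    have hb := blocks_of_upper hF _ h21
      ((unitary_iff_Theta β hF hON g.1.1.1).mp ((mem_GU_iff hF n g.1.1).mp g.1.2))
    show (Theta β).symm (Matrix.fromBlocks (Theta β g.1.1.1).toBlocks₁₁ 0 0
      (Theta β g.1.1.1).toBlocks₂₂) = g.1.1.1
    have h := Matrix.fromBlocks_toBlocks (Theta β g.1.1.1)
    rw [h21, hb.2.1] at h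
    rw [h, AlgEquiv.symm_apply_apply]
  right_inv x := by
    refine Prod.ext (Subtype.ext (Units.ext ?_)) (Subtype.ext (Units.ext ?_))
    · show (Theta β ((Theta β).symm (Matrix.fromBlocks x.1.1.1 0 0 x.2.1.1))).toBlocks₁₁ = x.1.1.1
      rw [AlgEquiv.apply_symm_apply, Matrix.toBlocks_fromBlocks₁₁]
    · show (Theta β ((Theta β).symm (Matrix.fromBlocks x.1.1.1 0 0 x.2.1.1))).toBlocks₂₂ = x.2.1.1
      rw [AlgEquiv.apply_symm_apply, Matrix.toBlocks_fromBlocks₂₂]
  map_mul' g h := by
    have hg21 := Theta_21 β hWβ g.1.1.1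
      (fun v hv => ((Subgroup.mem_subgroupOf.mp g.2) v).mp hv)
    have hgb := blocks_of_upper hF _ hg21
      ((unitary_iff_Theta β hF hON g.1.1.1).mp ((mem_GU_iff hF n g.1.1).mp g.1.2))
    have hh21 := Theta_21 β hWβ h.1.1.1
      (fun v hv => ((Subgroup.mem_subgroupOf.mp h.2) v).mp hv)
    have hhb := blocks_of_upper hF _ hh21
      ((unitary_iff_Theta β hF hON h.1.1.1).mp ((mem_GU_iff hF n h.1.1).mp h.1.2))
    have hg := Matrix.fromBlocks_toBlocks (Theta β g.1.1.1)
    rw [hg21, hgb.2.1] at hg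
    have hh := Matrix.fromBlocks_toBlocks (Theta β h.1.1.1)
    rw [hh21, hhb.2.1] at hh
    have hmul : Theta β (g.1.1.1 * h.1.1.1) =
        Matrix.fromBlocks ((Theta β g.1.1.1).toBlocks₁₁ * (Theta β h.1.1.1).toBlocks₁₁) 0 0
          ((Theta β g.1.1.1).toBlocks₂₂ * (Theta β h.1.1.1).toBlocks₂₂) := by
      rw [map_mul]
      conv_lhs => rw [← hg, ← hh]
      rw [Matrix.fromBlocks_multiply]
      simp
    refine Prod.ext (Subtype.ext (Units.ext ?_)) (Subtype.ext (Units.ext ?_))
    · show (Theta β (g.1.1.1 * h.1.1.1)).toBlocks₁₁ = _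
      rw [hmul, Matrix.toBlocks_fromBlocks₁₁]
      rfl
    · show (Theta β (g.1.1.1 * h.1.1.1)).toBlocks₂₂ = _
      rw [hmul, Matrix.toBlocks_fromBlocks₂₂]
      rfl

end main

/-- If W ≤ F^n (|F| = q²) is a k-dimensional subspace on which the Hermitian form Σ x_i y_i^q is non-degenerate, then the stabiliser of W in GU_n(q) is isomorphic to GU_k(q) × GU_(n−k)(q). -/
theorem result {F : Type*} [Field F] [Fintype F] {q : ℕ} (hF : Fintype.card F = q ^ 2) (n k : ℕ) (hk : k ≤ n) (W : Submodule F (Fin n → F)) (hWk : Module.finrank F W = k) (hW : ∀ u ∈ W, (∀ v ∈ W, Cfsg.hermForm n F q u v = 0) → u = 0) : Nonempty (↥((Cfsg.stabilizing (Cfsg.glToMat (Fin n) F) (W : Set (Fin n → F))).subgroupOf (Cfsg.GU n F q)) ≃* ↥(Cfsg.GU k F q) × ↥(Cfsg.GU (n - k) F q)) := by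
  have hσ := frobHom_ne_id hF
  have hσ2 := frobHom_frobHom hF
  have hS := hB_isSymm hF n
  have hND := hB_nondegenerate hF n
  set B := hB hF n with hBdef
  set W' := W.orthogonalBilin B with hW'
  have hdisj : W ⊓ W' = ⊥ := by
    rw [eq_bot_iff]
    rintro x ⟨hx1, hx2⟩
    rw [Submodule.mem_bot]
    apply hW x hx1
    intro v hv
    exact hx2 v hv
  have hdim : Module.finrank F W' + Module.finrank F W = Module.finrank F (Fin n → F) :=
    Cfsg.Agent.S0751.finrank_orth B hS hND.1 W
  have hVdim : Module.finrank F (Fin n → F) = n := by simp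
  have hdimW' : Module.finrank F W' = n - k := by omega
  have hc : IsCompl W W' := by
    refine ⟨disjoint_iff.mpr hdisj, codisjoint_iff.mpr ?_⟩
    apply Submodule.eq_top_of_finrank_eq
    have := Submodule.finrank_sup_add_finrank_inf_eq W W'
    rw [hdisj, finrank_bot] at this
    omega
  -- the restricted forms
  have hS₁ : (B.domRestrict₁₂ W W).IsSymm := hS.domRestrict W
  have hL₁ : (B.domRestrict₁₂ W W).SeparatingLeft := by
    intro x hx
    apply Subtype.ext
    apply hW x.1 x.2
    intro v hv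
    have h1 := hx ⟨v, hv⟩
    rw [LinearMap.domRestrict₁₂_apply] at h1
    exact Cfsg.Agent.S0751.sym_zero B hS h1
  have hND₁ : (B.domRestrict₁₂ W W).Nondegenerate :=
    ⟨hL₁, fun y hy => hL₁ y fun x => Cfsg.Agent.S0751.sym_zero _ hS₁ (hy x)⟩
  have hS₂ : (B.domRestrict₁₂ W' W').IsSymm := hS.domRestrict W'
  have hL₂ : (B.domRestrict₁₂ W' W').SeparatingLeft := by
    intro x hx
    apply Subtype.ext
    have hxW : (x : Fin n → F) ∈ W := by
      rw [← Cfsg.Agent.S0751.orth_orth B hS hND.1 W]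
      intro y hy
      have h1 := hx ⟨y, hy⟩
      rw [LinearMap.domRestrict₁₂_apply] at h1
      exact Cfsg.Agent.S0751.sym_zero B hS h1
    have : (x : Fin n → F) ∈ W ⊓ W' := ⟨hxW, x.2⟩
    rw [hdisj, Submodule.mem_bot] at this
    exact this
  have hND₂ : (B.domRestrict₁₂ W' W').Nondegenerate :=
    ⟨hL₂, fun y hy => hL₂ y fun x => Cfsg.Agent.S0751.sym_zero _ hS₂ (hy x)⟩
  obtain ⟨b₁, hb₁⟩ := Cfsg.Agent.S0755.result (frobHom hF) hσ hσ2 _ hS₁ hND₁
  obtain ⟨b₂, hb₂⟩ := Cfsg.Agent.S0755.result (frobHom hF) hσ hσ2 _ hS₂ hND₂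
  set e := Submodule.prodEquivOfIsCompl W W' hc with he
  set β := ((b₁.reindex (finCongr hWk)).prod (b₂.reindex (finCongr hdimW'))).map e with hβ
  have hβl : ∀ x, β (Sum.inl x) = (b₁ ((finCongr hWk).symm x) : Fin n → F) := by
    intro x
    rw [hβ, Module.Basis.map_apply, Module.Basis.prod_apply, he,
      Submodule.coe_prodEquivOfIsCompl']
    simp
  have hβr : ∀ y, β (Sum.inr y) = (b₂ ((finCongr hdimW').symm y) : Fin n → F) := by
    intro y
    rw [hβ, Module.Basis.map_apply, Module.Basis.prod_apply, he,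
      Submodule.coe_prodEquivOfIsCompl']
    simp
  have hON : ∀ x y, Cfsg.hermForm n F q (β x) (β y) = if x = y then 1 else 0 := by
    intro x y
    rw [← hB_apply hF]
    rcases x with x | x <;> rcases y with y | y
    · rw [hβl, hβl]
      have := hb₁ ((finCongr hWk).symm y) ((finCongr hWk).symm x)
      rw [LinearMap.domRestrict₁₂_apply] at this
      rw [← hBdef, this]
      simp [eq_comm]
    · rw [hβl, hβr, ← hBdef]
      have h1 : B (b₁ ((finCongr hWk).symm x) : Fin n → F)
          (b₂ ((finCongr hdimW').symm y) : Fin n → F) = 0 :=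
        (b₂ ((finCongr hdimW').symm y)).2 _ (b₁ ((finCongr hWk).symm x)).2
      rw [Cfsg.Agent.S0751.sym_zero B hS h1]
      simp
    · rw [hβr, hβl, ← hBdef]
      have h1 : B (b₁ ((finCongr hWk).symm y) : Fin n → F)
          (b₂ ((finCongr hdimW').symm x) : Fin n → F) = 0 :=
        (b₂ ((finCongr hdimW').symm x)).2 _ (b₁ ((finCongr hWk).symm y)).2
      rw [h1]
      simp
    · rw [hβr, hβr]
      have := hb₂ ((finCongr hdimW').symm y) ((finCongr hdimW').symm x)
      rw [LinearMap.domRestrict₁₂_apply] at this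
      rw [← hBdef, this]
      simp [eq_comm]
  have hWβ : ∀ v, v ∈ W ↔ ∀ y, β.repr v (Sum.inr y) = 0 := by
    intro v
    have hrepr : ∀ y, β.repr v (Sum.inr y) =
        (b₂.reindex (finCongr hdimW')).repr (e.symm v).2 y := by
      intro y
      rw [hβ, Module.Basis.map_repr]
      simp [Module.Basis.prod_repr_inr]
    constructor
    · intro hv y
      rw [hrepr]
      have : e.symm v = (⟨v, hv⟩, 0) :=
        Submodule.prodEquivOfIsCompl_symm_apply_left W _ hc ⟨v, hv⟩
      rw [this]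
      simp
    · intro h
      have h2 : (b₂.reindex (finCongr hdimW')).repr (e.symm v).2 = 0 := by
        ext y
        rw [← hrepr]
        exact h y
      have h3 : (e.symm v).2 = 0 := (LinearEquiv.map_eq_zero_iff _).mp h2
      have h4 : v = e (e.symm v) := (e.apply_symm_apply v).symm
      rw [he, Submodule.coe_prodEquivOfIsCompl'] at h4
      rw [← he, h3] at h4
      rw [h4]
      simp
  exact ⟨stabEquiv β hF hON W hWβ⟩

end Cfsg.Agent.S0837
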