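import Cfsg.Statements.S1024
import Mathlib

set_option autoImplicit false
open Cfsg

namespace Cfsg.Agent.S1024

open Cfsg.Lie

theorem chainCoeff_fst_ne_zero (D : ChevalleyDatum) {r s u : ℕ} {km : ℕ × ℤ} (h : km ∈ D.chainCoeff r s u) :
    km.1 ≠ 0 := by
  unfold ChevalleyDatum.chainCoeff at h
  rw [List.mem_flatMap] at h
  obtain ⟨e, -, h⟩ := h
  rw [List.mem_map] at h
  obtain ⟨q, -, rfl⟩ := h
  simp

/-- `x_r(0) = 1`, for every datum -/
theorem x_zero (D : ChevalleyDatum) (F : Type*) [Field F] (r : ℕ) : D.x F r 0 = 1 := by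
  unfold ChevalleyDatum.x
  split_ifs with hr
  swap
  · rfl
  ext i j
  simp only [ChevalleyDatum.xMat, Matrix.of_apply]
  rcases j with a | s
  · dsimp only
    rcases i with a' | u
    · dsimp only
      by_cases h : a' = a
      · subst h; simp
      · have : (Sum.inl a' : D.Idx) ≠ Sum.inl a := fun e => h (Sum.inl.inj e)
        simp [h, Matrix.one_apply_ne this]
    · simp
  · dsimp only
    by_cases h1 : s = ⟨r, hr⟩
    · rw [if_pos h1]
      rcases i with a' | u
      · simp
      · dsimp only
        by_cases h : u = ⟨r, hr⟩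
        · rw [h1, h]; simp
        · have : (Sum.inr u : D.Idx) ≠ Sum.inr s := fun e => h (h1 ▸ Sum.inr.inj e)
          simp [h, Matrix.one_apply_ne this]
    · rw [if_neg h1]
      by_cases h2 : s.val = D.negIdx.getD r 0
      · rw [if_pos h2]
        rcases i with a' | u
        · simp
        · dsimp only
          by_cases h3 : u = s
          · subst h3; simp
          · have : (Sum.inr u : D.Idx) ≠ Sum.inr s := fun e => h3 (Sum.inr.inj e)
            simp [h3, Matrix.one_apply_ne this]
      · rw [if_neg h2]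
        rcases i with a' | u
        · simp
        · dsimp only
          have hs : ((D.chainCoeff r s.val u.val).map fun km => ((km.2 : ℤ) : F) * (0 : F) ^ km.1).sum = 0 := by
            apply List.sum_eq_zero
            intro x hx
            rw [List.mem_map] at hx
            obtain ⟨km, hkm, rfl⟩ := hx
            rw [zero_pow (chainCoeff_fst_ne_zero D hkm), mul_zero]
          rw [hs, add_zero]
          by_cases h3 : u = s
          · subst h3; simp
          · have : (Sum.inr u : D.Idx) ≠ Sum.inr s := fun e => h3 (Sum.inr.inj e)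
            simp [h3, Matrix.one_apply_ne this]

/-- table check: `-r` is in range and different from `r` -/
def negOK (D : ChevalleyDatum) : Bool :=
  (List.range D.nroots).all fun r => decide (D.negIdx.getD r 0 < D.nroots) && decide (D.negIdx.getD r 0 ≠ r)

theorem negOK_of_mem {D : ChevalleyDatum}
    (hD : D ∈ [chevG2, chevB2, chevD4, chevF4, chevE6, chevE7, chevE8]) : negOK D = true := by
  simp only [List.mem_cons, List.mem_nil_iff, or_false] at hD
  rcases hD with rfl | rfl | rfl | rfl | rfl | rfl | rfl <;> decide +kernel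

/-- the entry of `x_r(t)` at row `e_r`, column `e_{-r}` is `-t²` -/
theorem x_apply_neg (D : ChevalleyDatum) (F : Type*) [Field F] (r : ℕ) (hr : r < D.nroots)
    (h1 : D.negIdx.getD r 0 < D.nroots) (h2 : D.negIdx.getD r 0 ≠ r) (t : F) :
    D.x F r t (Sum.inr ⟨r, hr⟩) (Sum.inr ⟨D.negIdx.getD r 0, h1⟩) = -(t ^ 2) := by
  unfold ChevalleyDatum.x
  rw [dif_pos hr]
  simp only [ChevalleyDatum.xMat, Matrix.of_apply]
  have h3 : (⟨D.negIdx.getD r 0, h1⟩ : Fin D.nroots) ≠ ⟨r, hr⟩ := fun e => h2 (Fin.mk.inj e)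
  rw [if_neg h3, if_pos trivial, if_neg (Ne.symm h3), if_pos trivial]

theorem result {F : Type*} [Field F] (D : Cfsg.Lie.ChevalleyDatum) (hD : D ∈ [Cfsg.Lie.chevG2, Cfsg.Lie.chevB2, Cfsg.Lie.chevD4, Cfsg.Lie.chevF4, Cfsg.Lie.chevE6, Cfsg.Lie.chevE7, Cfsg.Lie.chevE8]) (r : ℕ) (hr : r < D.nroots) (t : F) :
    D.x F r t = 1 ↔ t = 0 := by
  constructor
  · intro h
    have hok := negOK_of_mem hD
    unfold negOK at hok
    rw [List.all_eq_true] at hok
    have := hok r (List.mem_range.mpr hr)
    rw [Bool.and_eq_true] at this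
    have h1 : D.negIdx.getD r 0 < D.nroots := of_decide_eq_true this.1
    have h2 : D.negIdx.getD r 0 ≠ r := of_decide_eq_true this.2
    have e := x_apply_neg D F r hr h1 h2 t
    rw [h] at e
    have hne : (Sum.inr ⟨r, hr⟩ : D.Idx) ≠ Sum.inr ⟨D.negIdx.getD r 0, h1⟩ :=
      fun e => h2 (Fin.mk.inj (Sum.inr.inj e)).symm
    rw [Matrix.one_apply_ne hne] at e
    have : t ^ 2 = 0 := by rw [← neg_eq_zero]; exact e.symm
    exact pow_eq_zero_iff (two_ne_zero) |>.mp this
  · rintro rfl
    exact x_zero D F r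

end Cfsg.Agent.S1024
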