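import Cfsg.Statements.S1043
import Cfsg.Agent.Helper18.TriAll

set_option autoImplicit false
open Cfsg

namespace Cfsg.Agent.S1043

open Cfsg.Lie Cfsg.Agent.Helper18

section
variable {F : Type*} [Field F]

theorem xGL_mem_group (D : ChevalleyDatum) (hlf : ℕ) (h : triOK D hlf = true) (r : ℕ) (t : F) :
    xGL D F r t ∈ D.group F := by
  by_cases hr : r < D.nroots
  · apply Subgroup.subset_closure
    refine ⟨⟨r, hr⟩, t, ?_⟩
    rw [xGL_val D hlf h, ChevalleyDatum.x, dif_pos hr]
  · have : xGL D F r t = 1 := by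
      apply Units.ext
      rw [xGL_val D hlf h, ChevalleyDatum.x, dif_neg hr]
      rfl
    rw [this]
    exact one_mem _

theorem wordGL_mem_group (D : ChevalleyDatum) (hlf : ℕ) (h : triOK D hlf = true) (w : List (ℕ × F)) :
    wordGL D F w ∈ D.group F := by
  apply Subgroup.list_prod_mem
  intro g hg
  obtain ⟨p, _, rfl⟩ := List.mem_map.mp hg
  exact xGL_mem_group D hlf h p.1 p.2

theorem wordGL_append (D : ChevalleyDatum) (w₁ w₂ : List (ℕ × F)) :
    wordGL D F (w₁ ++ w₂) = wordGL D F w₁ * wordGL D F w₂ := by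
  simp [wordGL, List.map_append, List.prod_append]

theorem wordGL_nWord (D : ChevalleyDatum) (r : ℕ) (t : F) :
    wordGL D F (D.nWord r t) = xGL D F r t * xGL D F (D.neg r) (-t⁻¹) * xGL D F r t := by
  simp [wordGL, ChevalleyDatum.nWord, mul_assoc]

theorem posUnipotent_le_group (D : ChevalleyDatum) (hlf : ℕ) (h : triOK D hlf = true) :
    D.posUnipotent F ≤ D.group F := by
  unfold ChevalleyDatum.posUnipotent
  rw [Subgroup.closure_le]
  rintro g ⟨r, t, _, hg⟩
  have : g = xGL D F r t := Units.ext (by rw [hg, xGL_val D hlf h])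
  rw [this]
  exact xGL_mem_group D hlf h r t

theorem diagonalSubgroup_le_group (D : ChevalleyDatum) (hlf : ℕ) (h : triOK D hlf = true) :
    D.diagonalSubgroup F ≤ D.group F := by
  unfold ChevalleyDatum.diagonalSubgroup
  rw [Subgroup.closure_le]
  rintro g ⟨r, t, _, _, hg⟩
  have : g = wordGL D F (D.hWord r t) := Units.ext (by rw [hg, wordGL_val D hlf h]; rfl)
  rw [this]
  exact wordGL_mem_group D hlf h _

theorem monomialSubgroup_le_group (D : ChevalleyDatum) (hlf : ℕ) (h : triOK D hlf = true) :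
    D.monomialSubgroup F ≤ D.group F := by
  unfold ChevalleyDatum.monomialSubgroup
  apply sup_le (diagonalSubgroup_le_group D hlf h)
  rw [Subgroup.closure_le]
  rintro g ⟨r, _, hg⟩
  have : g = wordGL D F (D.nWord r 1) := Units.ext (by rw [hg, wordGL_val D hlf h]; rfl)
  rw [this]
  exact wordGL_mem_group D hlf h _

theorem hWordGL_mem (D : ChevalleyDatum) (hlf : ℕ) (h : triOK D hlf = true) (r : ℕ) (hr : r < D.nroots) (t : F)
    (ht : t ≠ 0) : wordGL D F (D.hWord r t) ∈ D.diagonalSubgroup F := by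
  apply Subgroup.subset_closure
  exact ⟨r, t, hr, ht, by rw [wordGL_val D hlf h]; rfl⟩

theorem nWordGL_one_mem (D : ChevalleyDatum) (hlf : ℕ) (h : triOK D hlf = true) (r : ℕ) (hr : r < D.nroots) :
    wordGL D F (D.nWord r (1 : F)) ∈ D.monomialSubgroup F := by
  unfold ChevalleyDatum.monomialSubgroup
  apply Subgroup.mem_sup_right
  apply Subgroup.subset_closure
  exact ⟨r, hr, by rw [wordGL_val D hlf h]; rfl⟩

theorem nWordGL_mem (D : ChevalleyDatum) (hlf : ℕ) (h : triOK D hlf = true) (r : ℕ) (hr : r < D.nroots) (t : F)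
    (ht : t ≠ 0) : wordGL D F (D.nWord r t) ∈ D.monomialSubgroup F := by
  have hH : D.diagonalSubgroup F ≤ D.monomialSubgroup F := le_sup_left
  have h1 : wordGL D F (D.nWord r (-1 : F)) ∈ D.monomialSubgroup F := by
    have e : wordGL D F (D.nWord r (-1 : F)) =
        (wordGL D F (D.nWord r (1 : F)))⁻¹ * wordGL D F (D.hWord r (1 : F)) := by
      rw [ChevalleyDatum.hWord, wordGL_append, inv_mul_cancel_left]
    rw [e]
    exact mul_mem (inv_mem (nWordGL_one_mem D hlf h r hr)) (hH (hWordGL_mem D hlf h r hr 1 one_ne_zero))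
  have e : wordGL D F (D.nWord r t) = wordGL D F (D.hWord r t) * (wordGL D F (D.nWord r (-1 : F)))⁻¹ := by
    rw [ChevalleyDatum.hWord, wordGL_append, mul_inv_cancel_right]
  rw [e]
  exact mul_mem (hH (hWordGL_mem D hlf h r hr t ht)) (inv_mem h1)

end

/-- `B ≤ G`, `N ≤ G` and `B ⊔ N = G` for the Chevalley group `G` generated by all root elements. -/
theorem result {F : Type*} [Field F] (D : Cfsg.Lie.ChevalleyDatum) (hD : D ∈ [Cfsg.Lie.chevG2, Cfsg.Lie.chevB2, Cfsg.Lie.chevD4, Cfsg.Lie.chevF4, Cfsg.Lie.chevE6, Cfsg.Lie.chevE7, Cfsg.Lie.chevE8]) :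
    D.borelSubgroup F ≤ D.group F ∧ D.monomialSubgroup F ≤ D.group F ∧ D.borelSubgroup F ⊔ D.monomialSubgroup F = D.group F := by
  have htri := triOK_of_mem D hD
  have hpos := posOK_of_mem D hD
  have hB : D.borelSubgroup F ≤ D.group F :=
    sup_le (posUnipotent_le_group D _ htri) (diagonalSubgroup_le_group D _ htri)
  have hN : D.monomialSubgroup F ≤ D.group F := monomialSubgroup_le_group D _ htri
  refine ⟨hB, hN, le_antisymm (sup_le hB hN) ?_⟩
  have hU : D.posUnipotent F ≤ D.borelSubgroup F ⊔ D.monomialSubgroup F :=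
    le_trans le_sup_left le_sup_left
  have hNle : D.monomialSubgroup F ≤ D.borelSubgroup F ⊔ D.monomialSubgroup F := le_sup_right
  have hxpos : ∀ r, hlfOf D ≤ r → r < D.nroots → ∀ t : F, xGL D F r t ∈ D.posUnipotent F := by
    intro r h1 h2 t
    apply Subgroup.subset_closure
    exact ⟨r, t, (isPosRoot_iff D _ hpos r).mpr ⟨h1, h2⟩, xGL_val D _ htri r t⟩
  conv_lhs => unfold ChevalleyDatum.group
  rw [Subgroup.closure_le]
  rintro g ⟨r, t, hg⟩
  have hgx : g = xGL D F r.val t := Units.ext (by rw [hg, xGL_val D _ htri, ChevalleyDatum.x, dif_pos r.2])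
  rw [hgx]
  by_cases hr : hlfOf D ≤ r.val
  · exact hU (hxpos r.val hr r.2 t)
  · obtain ⟨hn1, hn2, hn3, -⟩ := triOK_spec D _ htri r.val r.2
    have hn4 := hn3 (by omega)
    by_cases ht : t = 0
    · have : xGL D F r.val t = 1 := Units.ext (by rw [xGL_val D _ htri, ht, x_zero]; rfl)
      rw [this]
      exact one_mem _
    · have hu : -t⁻¹ ≠ 0 := neg_ne_zero.mpr (inv_ne_zero ht)
      have e : xGL D F r.val t = (xGL D F (D.neg r.val) (-t⁻¹))⁻¹ * wordGL D F (D.nWord (D.neg r.val) (-t⁻¹)) *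
          (xGL D F (D.neg r.val) (-t⁻¹))⁻¹ := by
        rw [wordGL_nWord, hn2]
        have : -(-t⁻¹)⁻¹ = t := by rw [inv_neg, inv_inv, neg_neg]
        rw [this]
        group
      rw [e]
      have h1 := hU (hxpos (D.neg r.val) hn4 hn1 (-t⁻¹))
      exact mul_mem (mul_mem (inv_mem h1) (hNle (nWordGL_mem D _ htri _ hn1 _ hu))) (inv_mem h1)

end Cfsg.Agent.S1043
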