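import Cfsg.Statements.S1037
import Cfsg.Agent.Helper18.Borel

set_option autoImplicit false
open Cfsg

namespace Cfsg.Agent.S1037

open Cfsg.Lie Cfsg.Agent.Helper18

/-- `UH ∩ V = 1` and `UH ∩ VH = H`. -/
theorem result {F : Type*} [Field F] (D : Cfsg.Lie.ChevalleyDatum) (hD : D ∈ [Cfsg.Lie.chevG2, Cfsg.Lie.chevB2, Cfsg.Lie.chevD4, Cfsg.Lie.chevF4, Cfsg.Lie.chevE6, Cfsg.Lie.chevE7, Cfsg.Lie.chevE8]) :
    D.borelSubgroup F ⊓ D.negUnipotent F = ⊥ ∧
      D.borelSubgroup F ⊓ (D.negUnipotent F ⊔ D.diagonalSubgroup F) = D.diagonalSubgroup F := by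
  have h1 : D.borelSubgroup F ⊓ D.negUnipotent F = ⊥ := by
    rw [eq_bot_iff, ← lower_inf_upperUni D (hlfOf D) (F := F)]
    exact inf_le_inf (borelSubgroup_le D hD) (negUnipotent_le D hD)
  refine ⟨h1, le_antisymm ?_ (le_inf le_sup_right le_sup_right)⟩
  intro g hg
  rw [Subgroup.mem_inf] at hg
  obtain ⟨hgB, hgVH⟩ := hg
  have hcoe := Subgroup.coe_mul_of_right_le_normalizer_left (D.negUnipotent F) (D.diagonalSubgroup F)
    (diagonalSubgroup_le_normalizer_negUnipotent D hD)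
  have : g ∈ ((D.negUnipotent F ⊔ D.diagonalSubgroup F : Subgroup (GL D.Idx F)) : Set (GL D.Idx F)) := hgVH
  rw [hcoe] at this
  obtain ⟨v, hv, h, hh, rfl⟩ := this
  simp only at hgB ⊢
  have hHB : D.diagonalSubgroup F ≤ D.borelSubgroup F := le_sup_right
  have hvB : v ∈ D.borelSubgroup F := by
    have : v = v * h * h⁻¹ := by group
    rw [this]
    exact mul_mem hgB (inv_mem (hHB hh))
  have hv1 : v ∈ D.borelSubgroup F ⊓ D.negUnipotent F := ⟨hvB, hv⟩
  rw [h1, Subgroup.mem_bot] at hv1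
  rw [hv1, one_mul]
  exact hh

end Cfsg.Agent.S1037
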