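-- Statement S5031 (row 5031).
import Cfsg.Statements.S5031
import Cfsg.Agent.Helper83.RootSub5

set_option autoImplicit false
open Cfsg

namespace Cfsg.Agent.S5031

open Cfsg.Agent.Helper83
open scoped commutatorElement

/-- If `B` commutes with `A`, the members of `S` cover `A ⊔ B`, `D` is a rank one partner of `A` and `B`
is not in the component of `A`, then `(B, D)` is in the commutator case. -/
theorem comm_case {G : Type*} [Group G] {S : Set (Subgroup G)} (hS : Cfsg.IsRootSubgroupSet S)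
    {A B D : Subgroup G} (hB : B ∈ S) (hD : D ∈ S)
    (hcomm : B ≤ Subgroup.centralizer (A : Set G))
    (hcover : ∀ x ∈ A ⊔ B, x ≠ 1 → ∃ C ∈ Cfsg.membersIn S (A ⊔ B), x ∈ C)
    (hp : Cfsg.IsRankOnePair A D) (hnot : ¬ Cfsg.IsRankOnePair B D) : Cfsg.RootCommutatorCase S B D := by
  rcases hS.pair B hB D hD with h0 | h1 | h2
  · exfalso
    obtain ⟨a', ha1⟩ := (Subgroup.ne_bot_iff_exists_ne_one).mp (rankOne_left_ne_bot hp)
    obtain ⟨a, ha⟩ := a'
    have ha1' : a ≠ 1 := by simpa using ha1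
    obtain ⟨b', hb1⟩ := (Subgroup.ne_bot_iff_exists_ne_one).mp (hS.ne_bot B hB)
    obtain ⟨b, hb⟩ := b'
    have hb1' : b ≠ 1 := by simpa using hb1
    have hBD : B ≤ Subgroup.centralizer (D : Set G) := Subgroup.commutator_eq_bot_iff_le_centralizer.mp h0
    have hcen : b ∈ Subgroup.centralizer ((A ⊔ D : Subgroup G) : Set G) :=
      le_centralizer_sup hcomm hBD hb
    have hne : b * a ≠ 1 := by
      intro hc
      have hbA : b ∈ A := by
        have : b = a⁻¹ := mul_eq_one_iff_eq_inv.mp hc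
        rw [this]; exact A.inv_mem ha
      have : b ∈ A ⊓ Subgroup.normalizer (D : Set G) := ⟨hbA, centralizer_le_normalizer' D (hBD hb)⟩
      rw [rankOne_inf_normalizer hp, Subgroup.mem_bot] at this
      exact hb1' this
    obtain ⟨C, hC, hmem⟩ := hcover (b * a)
      (Subgroup.mul_mem _ (Subgroup.mem_sup_right hb) (Subgroup.mem_sup_left ha)) hne
    exact root_central_translate hS hp hD hcen hb1' ha ha1' hC.1 hmem
  · exact absurd h1 hnot
  · exact h2

/-- Let S be a set of abstract root subgroups of G and let A, B ∈ S lie in different connected components of the graph of rank one pairs on S, each component having more than one member. Then B is not a line partner of A. -/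
theorem result {G : Type*} [Group G] {S : Set (Subgroup G)} (hS : Cfsg.IsRootSubgroupSet S)
    {A B : Subgroup G} (hA : A ∈ S) (hB : B ∈ S)
    (hne : Cfsg.componentOf (Cfsg.FAdj S) S A ≠ Cfsg.componentOf (Cfsg.FAdj S) S B)
    (hA2 : ∃ A' ∈ Cfsg.componentOf (Cfsg.FAdj S) S A, A' ≠ A) (hB2 : ∃ B' ∈ Cfsg.componentOf (Cfsg.FAdj S) S B, B' ≠ B) :
    B ∉ Cfsg.linePartners S A := by
  rintro ⟨⟨_, hBA, hcomm⟩, hpart⟩
  obtain ⟨D, hD, hp⟩ := exists_partner_of_component hA2
  obtain ⟨D', hD', hp'⟩ := exists_partner_of_component hB2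
  have hAB : A ≤ Subgroup.centralizer (B : Set G) := Subgroup.commutator_eq_bot_iff_le_centralizer.mp hcomm
  have hBA' : B ≤ Subgroup.centralizer (A : Set G) := by
    rw [Subgroup.commutator_comm] at hcomm
    exact Subgroup.commutator_eq_bot_iff_le_centralizer.mp hcomm
  -- no rank one pairs across the components
  have hnot : ¬ Cfsg.IsRankOnePair B D := by
    intro hBD
    apply hne
    apply component_eq_of_reach
    exact Relation.ReflTransGen.head ⟨hA, hD, hp⟩
      (Relation.ReflTransGen.single ⟨hD, hB, Cfsg.RankOnePair_symm hBD⟩)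
  have hnot' : ¬ Cfsg.IsRankOnePair A D' := by
    intro hAD
    apply hne
    apply component_eq_of_reach
    exact Relation.ReflTransGen.head ⟨hA, hD', hAD⟩
      (Relation.ReflTransGen.single ⟨hD', hB, Cfsg.RankOnePair_symm hp'⟩)
  have hBD := comm_case hS hB hD hBA' hpart.2.1 hp hnot
  have hpart' : ∀ x ∈ B ⊔ A, x ≠ 1 → ∃ C ∈ Cfsg.membersIn S (B ⊔ A), x ∈ C := by
    rw [sup_comm]; exact hpart.2.1
  have hAD' := comm_case hS hA hD' hAB hpart' hp' hnot'
  -- pick a ∈ A#, b ∈ B#
  obtain ⟨a', ha1⟩ := (Subgroup.ne_bot_iff_exists_ne_one).mp (hS.ne_bot A hA)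
  obtain ⟨a, ha⟩ := a'
  have ha1' : a ≠ 1 := by simpa using ha1
  obtain ⟨b', hb1⟩ := (Subgroup.ne_bot_iff_exists_ne_one).mp (hS.ne_bot B hB)
  obtain ⟨b, hb⟩ := b'
  have hb1' : b ≠ 1 := by simpa using hb1
  have hinf : A ⊓ B = ⊥ := by
    rcases root_inf_eq_bot hS hp hD hB with h1 | h1
    · exact h1
    · exact absurd h1.symm hBA
  have hba1 : b * a ≠ 1 := by
    intro hc
    have hbA : b ∈ A := by
      have : b = a⁻¹ := mul_eq_one_iff_eq_inv.mp hc
      rw [this]; exact A.inv_mem ha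
    have : b ∈ A ⊓ B := ⟨hbA, hb⟩
    rw [hinf, Subgroup.mem_bot] at this
    exact hb1' this
  obtain ⟨E, hE, hmem⟩ := hpart.2.1 (b * a)
    (Subgroup.mul_mem _ (Subgroup.mem_sup_right hb) (Subgroup.mem_sup_left ha)) hba1
  have hcommab : a * b = b * a := ((mem_centralizer_coe.mp (hBA' hb)) a ha)
  have h1 : Cfsg.IsRankOnePair E D := line_point_rankOne hS hD hE.1 hBA' hp hBD ha ha1' hb hmem
  have h2 : Cfsg.IsRankOnePair E D' :=
    line_point_rankOne hS hD' hE.1 hAB hp' hAD' hb hb1' ha (hcommab ▸ hmem)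
  apply hne
  apply component_eq_of_reach
  refine Relation.ReflTransGen.head ⟨hA, hD, hp⟩ (Relation.ReflTransGen.head ⟨hD, hE.1, Cfsg.RankOnePair_symm h1⟩
    (Relation.ReflTransGen.head ⟨hE.1, hD', h2⟩
    (Relation.ReflTransGen.single ⟨hD', hB, Cfsg.RankOnePair_symm hp'⟩)))

end Cfsg.Agent.S5031
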