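-- Statement S5032 (row 5032).
import Cfsg.Statements.S5032
import Cfsg.Agent.Helper83.RootSub5
import Cfsg.Agent.S5031

set_option autoImplicit false
open Cfsg

namespace Cfsg.Agent.S5032

open Cfsg.Agent.Helper83
open scoped commutatorElement

section
variable {G : Type*} [Group G] {S : Set (Subgroup G)}

/-- Elements of `G` preserving the connected components of the graph of rank one pairs. -/
def compStab (hS : Cfsg.IsRootSubgroupSet S) : Subgroup G where
  carrier := {g | ∀ X ∈ S, Relation.ReflTransGen (Cfsg.FAdj S) X (Cfsg.conjBy X g)}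
  one_mem' := by
    intro X _
    rw [conjBy_one]
  mul_mem' := by
    intro g h hg hh X hX
    rw [← conjBy_conjBy]
    exact (hh X hX).trans (hg _ (hS.conj_mem X hX h))
  inv_mem' := by
    intro g hg X hX
    have := hg _ (hS.conj_mem X hX g⁻¹)
    rw [conjBy_conjBy] at this
    simp only [mul_inv_cancel, conjBy_one] at this
    exact reach_symm this

theorem mem_compStab (hS : Cfsg.IsRootSubgroupSet S) {g : G} :
    g ∈ compStab hS ↔ ∀ X ∈ S, Relation.ReflTransGen (Cfsg.FAdj S) X (Cfsg.conjBy X g) := Iff.rfl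

theorem conj_of_reach {A B : Subgroup G} (h : Relation.ReflTransGen (Cfsg.FAdj S) A B) :
    ∃ g : G, B = Cfsg.conjBy A g := by
  induction h with
  | refl => exact ⟨1, (conjBy_one A).symm⟩
  | tail _ hbc ih =>
    obtain ⟨g, rfl⟩ := ih
    obtain ⟨x, _, hx⟩ := rankOne_B_mem_unipotent hbc.2.2
    exact ⟨x * g, by rw [hx, conjBy_conjBy]⟩

theorem member_le_compStab (hS : Cfsg.IsRootSubgroupSet S)
    (hall : ∀ X ∈ S, ∃ D ∈ S, Cfsg.IsRankOnePair X D) {E : Subgroup G} (hE : E ∈ S) :
    E ≤ compStab hS := by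
  intro e he X hX
  by_cases hXe : Cfsg.conjBy X e = X
  · rw [hXe]
  have he1 : e ≠ 1 := by
    intro hc; apply hXe; rw [hc, conjBy_one]
  have hX'S : Cfsg.conjBy X e ∈ S := hS.conj_mem X hX e
  rcases hS.pair X hX E hE with h0 | h1 | h2
  · exfalso
    apply hXe
    rw [Subgroup.commutator_comm] at h0
    exact conjBy_eq_self_iff.mpr (centralizer_le_normalizer' X
      (Subgroup.commutator_eq_bot_iff_le_centralizer.mp h0 he))
  · have hmem : Cfsg.conjBy X e ∈ Cfsg.unipotentSubgroups X E :=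
      unipotent_conj_mem (A_mem_unipotent X E) (Subgroup.mem_sup_right he)
    have := (rankOne_pair_of_mem h1 (A_mem_unipotent X E) hmem (Ne.symm hXe)).1
    exact Relation.ReflTransGen.single ⟨hX, hX'S, this⟩
  · -- commutator case: conjBy X e is a line partner of X
    obtain ⟨D, hD, hp⟩ := hall X hX
    obtain ⟨D', hD', hp'⟩ := hall _ hX'S
    have hle : Cfsg.conjBy X e ≤ X ⊔ ⁅X, E⁆ := commutatorCase_conj_le he
    have hsup : X ⊔ Cfsg.conjBy X e = X ⊔ ⁅X, E⁆ := by
      apply le_antisymm (sup_le le_sup_left hle)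
      apply sup_le le_sup_left
      rw [← h2.2.2.2 e he he1, Subgroup.closure_le]
      rintro _ ⟨x, hx, rfl⟩
      have : x * e * x⁻¹ * e⁻¹ = x * (e * x⁻¹ * e⁻¹) := by group
      change x * e * x⁻¹ * e⁻¹ ∈ X ⊔ Cfsg.conjBy X e
      rw [this]
      exact Subgroup.mul_mem _ (Subgroup.mem_sup_left hx)
        (Subgroup.mem_sup_right (conj_mem_conjBy (X.inv_mem hx)))
    have hXcomm := hS.commutative X hX
    have hcomm : ⁅X, Cfsg.conjBy X e⁆ = ⊥ := by
      rw [Subgroup.commutator_eq_bot_iff_le_centralizer]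
      intro x hx
      have h3 : (X ⊔ ⁅X, E⁆ : Subgroup G) ≤ Subgroup.centralizer ({x} : Set G) := by
        apply sup_le
        · intro y hy
          rw [Subgroup.mem_centralizer_iff]
          intro m hm
          rw [Set.mem_singleton_iff] at hm
          subst hm
          exact congrArg Subtype.val (hXcomm.is_comm.comm ⟨m, hx⟩ ⟨y, hy⟩)
        · intro c hc
          rw [Subgroup.mem_centralizer_iff]
          intro m hm
          rw [Set.mem_singleton_iff] at hm
          subst hm
          exact (h2.2.1 c hc m (Subgroup.mem_sup_left hx)).symm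
      rw [mem_centralizer_coe]
      intro y hy
      have := h3 (hle hy)
      rw [Subgroup.mem_centralizer_iff] at this
      exact (this x rfl).symm
    have hline : Cfsg.conjBy X e ∈ Cfsg.linePartners S X := by
      refine ⟨⟨hX'S, hXe, hcomm⟩, ?_⟩
      rw [hsup]
      exact commutatorCase_partition hS h2 hX hp hD
    by_contra hreach
    have hne : Cfsg.componentOf (Cfsg.FAdj S) S X ≠ Cfsg.componentOf (Cfsg.FAdj S) S (Cfsg.conjBy X e) := by
      intro hc
      have : Cfsg.conjBy X e ∈ Cfsg.componentOf (Cfsg.FAdj S) S (Cfsg.conjBy X e) :=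
        ⟨hX'S, Relation.ReflTransGen.refl⟩
      rw [← hc] at this
      exact hreach this.2
    refine Cfsg.Agent.S5031.result hS hX hX'S hne ?_ ?_ hline
    · exact ⟨D, ⟨hD, Relation.ReflTransGen.single ⟨hX, hD, hp⟩⟩, Ne.symm hp.ne⟩
    · exact ⟨D', ⟨hD', Relation.ReflTransGen.single ⟨hX'S, hD', hp'⟩⟩, Ne.symm hp'.ne⟩

end

/-- Let S be a set of abstract root subgroups of G with more than one member. Then the graph of rank one pairs on S is connected if and only if S is a single conjugacy class of G and some member of S has a rank one partner in S. -/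
theorem result {G : Type*} [Group G] {S : Set (Subgroup G)} (hS : Cfsg.IsRootSubgroupSet S) (h2 : ∃ A ∈ S, ∃ B ∈ S, A ≠ B) :
    Cfsg.IsConnectedFamily (Cfsg.FAdj S) S ↔
      (Cfsg.IsConjClassOfSubgroups S ∧ ∃ A ∈ S, ¬ Cfsg.IsIsolatedIn (Cfsg.FAdj S) S A) := by
  obtain ⟨A₀, hA₀, B₀, hB₀, hne₀⟩ := h2
  constructor
  · intro hconn
    refine ⟨⟨⟨A₀, hA₀⟩, fun A hA B hB => conj_of_reach (hconn A hA B hB)⟩, A₀, hA₀, ?_⟩
    rcases Relation.ReflTransGen.cases_head (hconn A₀ hA₀ B₀ hB₀) with h1 | ⟨D, hD, _⟩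
    · exact absurd h1 hne₀
    · exact not_isolated_of_partner hA₀ hD.2.1 hD.2.2
  · rintro ⟨⟨_, hclass⟩, A₁, hA₁, hiso⟩
    obtain ⟨D₁, hD₁, hp₁⟩ := exists_partner hA₁ hiso
    have hall : ∀ X ∈ S, ∃ D ∈ S, Cfsg.IsRankOnePair X D := by
      intro X hX
      obtain ⟨g, rfl⟩ := hclass A₁ hA₁ X hX
      exact ⟨Cfsg.conjBy D₁ g, hS.conj_mem D₁ hD₁ g, rankOne_conj hp₁ g⟩
    have htop : compStab hS = ⊤ := by
      rw [eq_top_iff, ← hS.generates]
      exact iSup₂_le (fun E hE => member_le_compStab hS hall hE)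
    intro A hA B hB
    obtain ⟨g, rfl⟩ := hclass A hA B hB
    have : g ∈ compStab hS := by rw [htop]; trivial
    exact this A hA

end Cfsg.Agent.S5032
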