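import Cfsg.Statements.S2167
import Cfsg.Agent.Helper36.AltForm

set_option autoImplicit false
open Cfsg

namespace Cfsg.Agent.S2167

open Matrix

variable {F : Type*} [Field F] {m : ℕ}

/-- the form is alternating -/
theorem symp_self (v : Fin m ⊕ Fin m → F) : Cfsg.sympForm m F v v = 0 := by
  unfold Cfsg.sympForm
  rw [Matrix.J, Matrix.fromBlocks_mulVec]
  simp only [dotProduct, Fintype.sum_sum_type, Sum.elim_inl, Sum.elim_inr, Matrix.zero_mulVec,
    Matrix.neg_mulVec, Matrix.one_mulVec, zero_add, add_zero, Pi.neg_apply, Function.comp_apply]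
  rw [← Finset.sum_add_distrib]
  apply Finset.sum_eq_zero
  intro i _
  ring

/-- the form is skew -/
theorem symp_swap (u v : Fin m ⊕ Fin m → F) : Cfsg.sympForm m F u v = - Cfsg.sympForm m F v u := by
  unfold Cfsg.sympForm
  rw [Matrix.dotProduct_mulVec, ← Matrix.mulVec_transpose, Matrix.J_transpose, Matrix.neg_mulVec,
    neg_dotProduct, dotProduct_comm]

theorem symp_add_left (u u' v : Fin m ⊕ Fin m → F) :
    Cfsg.sympForm m F (u + u') v = Cfsg.sympForm m F u v + Cfsg.sympForm m F u' v := by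
  unfold Cfsg.sympForm
  rw [add_dotProduct]

theorem symp_add_right (u v v' : Fin m ⊕ Fin m → F) :
    Cfsg.sympForm m F u (v + v') = Cfsg.sympForm m F u v + Cfsg.sympForm m F u v' := by
  unfold Cfsg.sympForm
  rw [Matrix.mulVec_add, dotProduct_add]

theorem symp_smul_left (c : F) (u v : Fin m ⊕ Fin m → F) :
    Cfsg.sympForm m F (c • u) v = c * Cfsg.sympForm m F u v := by
  unfold Cfsg.sympForm
  rw [smul_dotProduct, smul_eq_mul]

theorem symp_smul_right (c : F) (u v : Fin m ⊕ Fin m → F) :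
    Cfsg.sympForm m F u (c • v) = c * Cfsg.sympForm m F u v := by
  unfold Cfsg.sympForm
  rw [Matrix.mulVec_smul, dotProduct_smul, smul_eq_mul]

/-- symplectic matrices preserve the form -/
theorem symp_pres {A : Matrix (Fin m ⊕ Fin m) (Fin m ⊕ Fin m) F} (hA : A ∈ Matrix.symplecticGroup (Fin m) F)
    (u v : Fin m ⊕ Fin m → F) : Cfsg.sympForm m F (A *ᵥ u) (A *ᵥ v) = Cfsg.sympForm m F u v := by
  unfold Cfsg.sympForm
  rw [Matrix.mulVec_mulVec, Matrix.dotProduct_mulVec, Matrix.vecMul_mulVec, ← Matrix.mul_assoc,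
    (SymplecticGroup.mem_iff').mp hA, ← Matrix.dotProduct_mulVec]

theorem result {F : Type*} [Field F] [Fintype F] [CharP F 2] {m : ℕ} (hm : 2 ≤ m) (a : ↥(Matrix.symplecticGroup (Fin m) F)) (ha : orderOf a = 2) :
    (Nat.card {v : Fin m ⊕ Fin m → F // Cfsg.sympForm m F v (Matrix.mulVec ((a : ↥(Matrix.symplecticGroup (Fin m) F)) : Matrix (Fin m ⊕ Fin m) (Fin m ⊕ Fin m) F) v) = 0} = Fintype.card F ^ (2 * m) ∨ Nat.card {v : Fin m ⊕ Fin m → F // Cfsg.sympForm m F v (Matrix.mulVec ((a : ↥(Matrix.symplecticGroup (Fin m) F)) : Matrix (Fin m ⊕ Fin m) (Fin m ⊕ Fin m) F) v) = 0} * Fintype.card F = Fintype.card F ^ (2 * m)) ∧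
    ((∀ v : Fin m ⊕ Fin m → F, Cfsg.sympForm m F v (Matrix.mulVec ((a : ↥(Matrix.symplecticGroup (Fin m) F)) : Matrix (Fin m ⊕ Fin m) (Fin m ⊕ Fin m) F) v) = 0) → Even (((a : ↥(Matrix.symplecticGroup (Fin m) F)) : Matrix (Fin m ⊕ Fin m) (Fin m ⊕ Fin m) F) - 1).rank) := by
  obtain ⟨A, hA⟩ := a
  have hA2 : A * A = 1 := by
    have h := pow_orderOf_eq_one (⟨A, hA⟩ : ↥(Matrix.symplecticGroup (Fin m) F))
    rw [ha] at h
    have h' := congrArg Subtype.val h
    rw [pow_two] at h'
    exact h'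
  show (Nat.card {v : Fin m ⊕ Fin m → F // Cfsg.sympForm m F v (A *ᵥ v) = 0} = Fintype.card F ^ (2 * m) ∨
      Nat.card {v : Fin m ⊕ Fin m → F // Cfsg.sympForm m F v (A *ᵥ v) = 0} * Fintype.card F = Fintype.card F ^ (2 * m)) ∧
    ((∀ v : Fin m ⊕ Fin m → F, Cfsg.sympForm m F v (A *ᵥ v) = 0) → Even (A - 1).rank)
  -- the cross term
  have hcross : ∀ u v : Fin m ⊕ Fin m → F, Cfsg.sympForm m F v (A *ᵥ u) = - Cfsg.sympForm m F u (A *ᵥ v) := by
    intro u v
    have h1 : Cfsg.sympForm m F v (A *ᵥ u) = Cfsg.sympForm m F (A *ᵥ v) (A *ᵥ (A *ᵥ u)) := (symp_pres hA _ _).symm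
    rw [h1, Matrix.mulVec_mulVec, hA2, Matrix.one_mulVec, symp_swap]
  constructor
  · -- the additive map
    let φ : (Fin m ⊕ Fin m → F) →+ F :=
      { toFun := fun v => Cfsg.sympForm m F v (A *ᵥ v)
        map_zero' := by
          show Cfsg.sympForm m F 0 (A *ᵥ 0) = 0
          rw [Matrix.mulVec_zero]
          exact symp_self 0
        map_add' := by
          intro u v
          show Cfsg.sympForm m F (u + v) (A *ᵥ (u + v)) = Cfsg.sympForm m F u (A *ᵥ u) + Cfsg.sympForm m F v (A *ᵥ v)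
          rw [Matrix.mulVec_add, symp_add_left, symp_add_right, symp_add_right, hcross u v]
          ring }
    have hφ : ∀ v, φ v = Cfsg.sympForm m F v (A *ᵥ v) := fun v => rfl
    have hset : Nat.card {v : Fin m ⊕ Fin m → F // Cfsg.sympForm m F v (A *ᵥ v) = 0} = Nat.card φ.ker := by
      apply Nat.card_congr
      exact Equiv.subtypeEquivRight (fun v => by rw [AddMonoidHom.mem_ker, hφ])
    rw [hset]
    have hcardV : Nat.card (Fin m ⊕ Fin m → F) = Fintype.card F ^ (2 * m) := by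
      rw [Nat.card_eq_fintype_card, Fintype.card_fun, Fintype.card_sum, Fintype.card_fin, two_mul]
    have hmul := AddSubgroup.card_mul_index φ.ker
    rw [AddSubgroup.index_ker, hcardV] at hmul
    by_cases hz : ∀ v, φ v = 0
    · left
      have : φ.range = ⊥ := by
        rw [eq_bot_iff]
        rintro x ⟨v, rfl⟩
        rw [hz v]
        exact AddSubgroup.zero_mem _
      rw [this] at hmul
      simpa using hmul
    · right
      have hz' : ∃ v0, φ v0 ≠ 0 := by
        by_contra hcon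
        apply hz
        intro v
        by_contra h
        exact hcon ⟨v, h⟩
      obtain ⟨v0, hv0⟩ := hz'
      have hrange : φ.range = ⊤ := by
        rw [eq_top_iff]
        intro d _
        have hchar : ringChar F = 2 := ringChar.eq F 2
        obtain ⟨e, he⟩ := FiniteField.isSquare_of_char_two hchar (d / φ v0)
        refine ⟨e • v0, ?_⟩
        rw [hφ, Matrix.mulVec_smul, symp_smul_left, symp_smul_right, ← hφ, ← mul_assoc, ← he]
        field_simp
      rw [hrange] at hmul
      have : Nat.card (⊤ : AddSubgroup F) = Fintype.card F := by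
        rw [← Nat.card_eq_fintype_card]
        exact Nat.card_congr (AddSubgroup.topEquiv).toEquiv
      rw [this] at hmul
      exact hmul
  · intro hall
    -- the alternating matrix J * (A - 1)
    have halt : ∀ v : Fin m ⊕ Fin m → F, v ⬝ᵥ ((Matrix.J (Fin m) F * (A - 1)) *ᵥ v) = 0 := by
      intro v
      rw [← Matrix.mulVec_mulVec, Matrix.sub_mulVec, Matrix.one_mulVec, Matrix.mulVec_sub, dotProduct_sub]
      have h1 : v ⬝ᵥ (Matrix.J (Fin m) F *ᵥ (A *ᵥ v)) = 0 := hall v
      have h2 : v ⬝ᵥ (Matrix.J (Fin m) F *ᵥ v) = 0 := symp_self v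
      rw [h1, h2, sub_zero]
    have hev := Cfsg.Agent.Helper36.even_rank_of_alternating _ halt
    rw [Matrix.rank_mul_eq_right_of_isUnit_det _ _ (Matrix.isUnit_det_J (Fin m) F)] at hev
    exact hev

end Cfsg.Agent.S2167
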