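import Cfsg.Statements.S0760

set_option autoImplicit false
open Cfsg

namespace Cfsg.Agent.S0760

variable {F V : Type*} [Field F] [AddCommGroup V] [Module F V]

theorem polar_eq_zero_of_totally_singular (Q : QuadraticForm F V) (W : Submodule F V)
    (h : ∀ w ∈ W, Q w = 0) {x y : V} (hx : x ∈ W) (hy : y ∈ W) :
    QuadraticMap.polarBilin Q x y = 0 := by
  rw [QuadraticMap.polarBilin_apply_apply, QuadraticMap.polar, h _ (W.add_mem hx hy), h x hx,
    h y hy]
  simp

theorem polarBilin_isRefl (Q : QuadraticForm F V) :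
    LinearMap.BilinForm.IsRefl (QuadraticMap.polarBilin Q) := by
  intro x y hxy
  rw [QuadraticMap.polarBilin_apply_apply] at hxy ⊢
  rw [QuadraticMap.polar_comm]
  exact hxy

theorem le_orthogonal_of_totally_singular (Q : QuadraticForm F V) (W : Submodule F V)
    (h : ∀ w ∈ W, Q w = 0) :
    W ≤ LinearMap.BilinForm.orthogonal (QuadraticMap.polarBilin Q) W := by
  intro x hx y hy
  exact polar_eq_zero_of_totally_singular Q W h hy hx

theorem inf_orthogonal_le (Q : QuadraticForm F V) (W₁ W₂ : Submodule F V)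
    (h₁ : ∀ w ∈ W₁, Q w = 0) (h₂ : ∀ w ∈ W₂, Q w = 0)
    (hmax₁ : ∀ W : Submodule F V, W₁ ≤ W → (∀ w ∈ W, Q w = 0) → W = W₁) :
    W₂ ⊓ LinearMap.BilinForm.orthogonal (QuadraticMap.polarBilin Q) W₁ ≤ W₁ := by
  rintro v ⟨hv2, hvo⟩
  have hW : W₁ ⊔ Submodule.span F {v} = W₁ := by
    apply hmax₁ _ le_sup_left
    intro w hw
    obtain ⟨w1, hw1, z, hz, rfl⟩ := Submodule.mem_sup.mp hw
    obtain ⟨c, rfl⟩ := Submodule.mem_span_singleton.mp hz
    rw [QuadraticMap.map_add Q, QuadraticMap.map_smul, h₁ w1 hw1, h₂ v hv2,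
      QuadraticMap.polar_smul_right]
    have : QuadraticMap.polar (⇑Q) w1 v = 0 := hvo w1 hw1
    rw [this]
    simp
  rw [← hW]
  exact Submodule.mem_sup_right (Submodule.mem_span_singleton_self v)

theorem finrank_le_of_maximal [FiniteDimensional F V] (Q : QuadraticForm F V)
    (hQ : (QuadraticMap.polarBilin Q).Nondegenerate) (W₁ W₂ : Submodule F V)
    (h₁ : ∀ w ∈ W₁, Q w = 0) (h₂ : ∀ w ∈ W₂, Q w = 0)
    (hmax₁ : ∀ W : Submodule F V, W₁ ≤ W → (∀ w ∈ W, Q w = 0) → W = W₁) :
    Module.finrank F W₂ ≤ Module.finrank F W₁ := by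
  set B : LinearMap.BilinForm F V := QuadraticMap.polarBilin Q with hBdef
  have hrefl : B.IsRefl := polarBilin_isRefl Q
  set D := W₁ ⊓ W₂ with hD
  have hinf : W₂ ⊓ B.orthogonal W₁ = D := by
    apply le_antisymm
    · exact le_inf (inf_orthogonal_le Q W₁ W₂ h₁ h₂ hmax₁) inf_le_left
    · exact le_inf inf_le_right (inf_le_left.trans (le_orthogonal_of_totally_singular Q W₁ h₁))
  have hW2 : W₂ ≤ B.orthogonal D := by
    intro v hv d hd
    exact polar_eq_zero_of_totally_singular Q W₂ h₂ hd.2 hv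
  have hW1o : B.orthogonal W₁ ≤ B.orthogonal D :=
    LinearMap.BilinForm.orthogonal_le inf_le_left
  have hsup : W₂ ⊔ B.orthogonal W₁ ≤ B.orthogonal D := sup_le hW2 hW1o
  have hdim1 := Submodule.finrank_sup_add_finrank_inf_eq W₂ (B.orthogonal W₁)
  have hdim2 := Submodule.finrank_mono hsup
  have ho1 := LinearMap.BilinForm.finrank_orthogonal hQ W₁
  have hoD := LinearMap.BilinForm.finrank_orthogonal hQ D
  have hle1 := Submodule.finrank_le W₁
  have hleD := Submodule.finrank_le D
  rw [hinf] at hdim1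
  omega

/-- Witt index is well defined: if Q is a quadratic form on a finite-dimensional space V over a finite field with non-degenerate polar form, and W₁, W₂ are subspaces on which Q vanishes that are maximal with this property, then W₁ and W₂ have the same dimension, and twice this dimension is at most dim V. -/
theorem result {F V : Type*} [Field F] [Finite F] [AddCommGroup V] [Module F V] [FiniteDimensional F V] (Q : QuadraticForm F V) (hQ : (QuadraticMap.polarBilin Q).Nondegenerate) (W₁ W₂ : Submodule F V) (h₁ : ∀ w ∈ W₁, Q w = 0) (h₂ : ∀ w ∈ W₂, Q w = 0) (hmax₁ : ∀ W : Submodule F V, W₁ ≤ W → (∀ w ∈ W, Q w = 0) → W = W₁) (hmax₂ : ∀ W : Submodule F V, W₂ ≤ W → (∀ w ∈ W, Q w = 0) → W = W₂) : Module.finrank F W₁ = Module.finrank F W₂ ∧ 2 * Module.finrank F W₁ ≤ Module.finrank F V := by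
  constructor
  · exact le_antisymm (finrank_le_of_maximal Q hQ W₂ W₁ h₂ h₁ hmax₂)
      (finrank_le_of_maximal Q hQ W₁ W₂ h₁ h₂ hmax₁)
  · have hrefl := polarBilin_isRefl Q
    have h1 := Submodule.finrank_mono (le_orthogonal_of_totally_singular Q W₁ h₁)
    have h2 := LinearMap.BilinForm.finrank_orthogonal hQ W₁
    have h3 := Submodule.finrank_le W₁
    omega

end Cfsg.Agent.S0760
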