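import Mathlib
import Cfsg.Statements.S5957
import Cfsg.Agent.Helper36.SqZero

set_option autoImplicit false
open scoped MatrixGroups
open Cfsg

namespace Cfsg.Agent.S5957

open Module

section Assemble
set_option linter.unusedSectionVars false
variable {F V ι : Type*} [Field F] [AddCommGroup V] [Module F V] [FiniteDimensional F V]
  [Fintype ι] [DecidableEq ι]

/-- block spanned by fiber -/
def blk (B : Basis ι F V) {t : ℕ} (c : ι → Fin t) (j : Fin t) : Submodule F V :=
  Submodule.span F (B '' {i | c i = j})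

theorem blk_finrank (B : Basis ι F V) {t : ℕ} (c : ι → Fin t) (j : Fin t) :
    finrank F (blk B c j) = Fintype.card {i // c i = j} := by
  have hli : LinearIndependent F (fun i : {i // c i = j} => B i.1) :=
    B.linearIndependent.comp _ Subtype.val_injective
  have := finrank_span_eq_card hli
  rw [← this]
  unfold blk
  have hset : B '' {i | c i = j} = Set.range (fun i : {i // c i = j} => B i.1) := by
    ext v
    constructor
    · rintro ⟨i, hi, rfl⟩
      exact ⟨⟨i, hi⟩, rfl⟩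
    · rintro ⟨⟨i, hi⟩, rfl⟩
      exact ⟨i, hi, rfl⟩
  rw [hset]

theorem blk_indep (B : Basis ι F V) {t : ℕ} (c : ι → Fin t) : iSupIndep (blk B c) := by
  intro j
  have h1 : (⨆ k, ⨆ (_ : k ≠ j), blk B c k) ≤ Submodule.span F (B '' {i | c i ≠ j}) := by
    refine iSup₂_le fun k hk => ?_
    unfold blk
    apply Submodule.span_mono
    rintro _ ⟨i, hi, rfl⟩
    exact ⟨i, by rw [Set.mem_ofPred_eq] at hi ⊢; rw [hi]; exact hk, rfl⟩
  refine Disjoint.mono_right h1 ?_
  unfold blk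
  apply B.linearIndependent.disjoint_span_image
  rw [Set.disjoint_left]
  intro i hi hi'
  exact hi' hi

theorem blk_iSup (B : Basis ι F V) {t : ℕ} (c : ι → Fin t) : iSup (blk B c) = ⊤ := by
  rw [eq_top_iff, ← B.span_eq, Submodule.span_le]
  rintro _ ⟨i, rfl⟩
  apply Submodule.mem_iSup_of_mem (c i)
  exact Submodule.subset_span ⟨i, rfl, rfl⟩

theorem blk_map (B : Basis ι F V) {t : ℕ} (c : ι → Fin t) (x : V →ₗ[F] V) (hx : Function.Injective x)
    (σ : Equiv.Perm (Fin t)) {a : ℕ} (hc : ∀ j, Fintype.card {i // c i = j} = a)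
    (hB : ∀ i, ∃ (i' : ι) (κ : F), x (B i) = κ • B i' ∧ c i' = σ (c i)) (j : Fin t) :
    (blk B c j).map x = blk B c (σ j) := by
  have hle : (blk B c j).map x ≤ blk B c (σ j) := by
    unfold blk
    rw [Submodule.map_span, Submodule.span_le]
    rintro _ ⟨_, ⟨i, hi, rfl⟩, rfl⟩
    obtain ⟨i', κ, h1, h2⟩ := hB i
    rw [h1]
    apply Submodule.smul_mem
    apply Submodule.subset_span
    refine ⟨i', ?_, rfl⟩
    rw [Set.mem_ofPred_eq] at hi ⊢
    rw [h2, hi]
  apply Submodule.eq_of_le_of_finrank_eq hle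
  rw [blk_finrank, hc, ← hc j, ← blk_finrank B c j]
  exact (LinearEquiv.finrank_eq (Submodule.equivMapOfInjective x hx (blk B c j))).symm

end Assemble

open Cfsg.Geo in
theorem assemble {F : Type*} [Field F] {n : ℕ} {ι : Type*} [Fintype ι] [DecidableEq ι]
    (B : Basis ι F (Fin n → F)) (x : (Fin n → F) →ₗ[F] (Fin n → F)) (hx : Function.Injective x)
    {t a : ℕ} (ht : 2 ≤ t) (ha : 0 < a) (c : ι → Fin t) (hc : ∀ j, Fintype.card {i // c i = j} = a)
    (σ : Equiv.Perm (Fin t))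
    (hB : ∀ i, ∃ (i' : ι) (κ : F), x (B i) = κ • B i' ∧ c i' = σ (c i)) :
    ∃ D : Fin t → Submodule F (Fin n → F), IsMDecomposition a D ∧
      ∃ σ : Equiv.Perm (Fin t), ∀ j, (D j).map x = D (σ j) :=
  ⟨blk B c, ⟨ht, ha, fun j => by rw [blk_finrank, hc], blk_indep B c, blk_iSup B c⟩, σ,
    blk_map B c x hx σ hc hB⟩


section Mono
variable {F V : Type*} [Field F] [AddCommGroup V] [Module F V]

/-- X-monomial family spanning W -/
def MonoSpan (X : V →ₗ[F] V) (W : Submodule F V) : Prop :=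
  ∃ (P Q : Type) (_ : Fintype P) (_ : Fintype Q) (g : (P × Fin 2) ⊕ Q → V),
    LinearIndependent F g ∧ Submodule.span F (Set.range g) = W ∧
    (∀ p ε, ∃ κ : F, X (g (Sum.inl (p, ε))) = κ • g (Sum.inl (p, Equiv.swap 0 1 ε))) ∧
    (∀ q, ∃ κ : F, X (g (Sum.inr q)) = κ • g (Sum.inr q))

/-- regrouping equivalence -/
def regroup (P₁ Q₁ P₂ Q₂ : Type) :
    ((P₁ × Fin 2) ⊕ Q₁) ⊕ ((P₂ × Fin 2) ⊕ Q₂) ≃ ((P₁ ⊕ P₂) × Fin 2) ⊕ (Q₁ ⊕ Q₂) where
  toFun
    | Sum.inl (Sum.inl (p, ε)) => Sum.inl (Sum.inl p, ε)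
    | Sum.inl (Sum.inr q) => Sum.inr (Sum.inl q)
    | Sum.inr (Sum.inl (p, ε)) => Sum.inl (Sum.inr p, ε)
    | Sum.inr (Sum.inr q) => Sum.inr (Sum.inr q)
  invFun
    | Sum.inl (Sum.inl p, ε) => Sum.inl (Sum.inl (p, ε))
    | Sum.inl (Sum.inr p, ε) => Sum.inr (Sum.inl (p, ε))
    | Sum.inr (Sum.inl q) => Sum.inl (Sum.inr q)
    | Sum.inr (Sum.inr q) => Sum.inr (Sum.inr q)
  left_inv := by rintro ((⟨p, ε⟩ | q) | (⟨p, ε⟩ | q)) <;> rfl
  right_inv := by rintro (⟨(p | p), ε⟩ | (q | q)) <;> rfl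

theorem MonoSpan.sup {X : V →ₗ[F] V} {W₁ W₂ : Submodule F V} (hd : Disjoint W₁ W₂)
    (h₁ : MonoSpan X W₁) (h₂ : MonoSpan X W₂) : MonoSpan X (W₁ ⊔ W₂) := by
  obtain ⟨P₁, Q₁, _, _, g₁, hli₁, hsp₁, hP₁, hQ₁⟩ := h₁
  obtain ⟨P₂, Q₂, _, _, g₂, hli₂, hsp₂, hP₂, hQ₂⟩ := h₂
  refine ⟨P₁ ⊕ P₂, Q₁ ⊕ Q₂, inferInstance, inferInstance,
    Sum.elim g₁ g₂ ∘ (regroup P₁ Q₁ P₂ Q₂).symm, ?_, ?_, ?_, ?_⟩
  · refine LinearIndependent.comp ?_ _ (Equiv.injective _)
    apply LinearIndependent.sum_type hli₁ hli₂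
    rw [hsp₁, hsp₂]
    exact hd
  · rw [Function.Surjective.range_comp (Equiv.surjective _), Set.Sum.elim_range,
      Submodule.span_union, hsp₁, hsp₂]
  · rintro (p | p) ε
    · exact hP₁ p ε
    · exact hP₂ p ε
  · rintro (q | q)
    · exact hQ₁ q
    · exact hQ₂ q

theorem MonoSpan.of_fixed {X : V →ₗ[F] V} {W : Submodule F V} {Q : Type} [Fintype Q] (g : Q → V)
    (hli : LinearIndependent F g) (hsp : Submodule.span F (Set.range g) = W)
    (hX : ∀ q, ∃ κ : F, X (g q) = κ • g q) : MonoSpan X W := by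
  refine ⟨Empty, Q, inferInstance, inferInstance, g ∘ (Equiv.emptySum (Empty × Fin 2) Q), ?_, ?_, ?_, ?_⟩
  · exact LinearIndependent.comp hli _ (Equiv.injective _)
  · rw [Function.Surjective.range_comp (Equiv.surjective _), hsp]
  · rintro p
    exact p.elim
  · intro q
    exact hX q

theorem MonoSpan.of_pairs {X : V →ₗ[F] V} {W : Submodule F V} {P : Type} [Fintype P]
    (g : P × Fin 2 → V)
    (hli : LinearIndependent F g) (hsp : Submodule.span F (Set.range g) = W)
    (hX : ∀ p ε, ∃ κ : F, X (g (p, ε)) = κ • g (p, Equiv.swap 0 1 ε)) : MonoSpan X W := by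
  refine ⟨P, Empty, inferInstance, inferInstance, g ∘ (Equiv.sumEmpty (P × Fin 2) Empty), ?_, ?_, ?_, ?_⟩
  · exact LinearIndependent.comp hli _ (Equiv.injective _)
  · rw [Function.Surjective.range_comp (Equiv.surjective _), hsp]
  · intro p ε
    exact hX p ε
  · rintro q
    exact q.elim

theorem monoSpan_bot (X : V →ₗ[F] V) : MonoSpan X ⊥ := by
  refine MonoSpan.of_fixed (Q := Empty) (fun q => q.elim) ?_ ?_ ?_
  · exact linearIndependent_empty_type
  · simp
  · intro q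
    exact q.elim


/-- cyclic piece -/
theorem exists_cyclic_piece (X : V →ₗ[F] V) (z : F) (hX : ∀ v, X (X v) = z • v)
    {W : Submodule F V} (hW : W ∈ Module.End.invtSubmodule X) (hbot : W ≠ ⊥) :
    ∃ C : Submodule F V, C ∈ Module.End.invtSubmodule X ∧ C ≤ W ∧ C ≠ ⊥ ∧ MonoSpan X C := by
  obtain ⟨v, hvW, hv0⟩ := Submodule.exists_mem_ne_zero_of_ne_bot hbot
  rw [Module.End.mem_invtSubmodule] at hW
  have hXvW : X v ∈ W := hW hvW
  by_cases hli : LinearIndependent F ![X v, v]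
  · refine ⟨Submodule.span F (Set.range ![X v, v]), ?_, ?_, ?_, ?_⟩
    · rw [Module.End.mem_invtSubmodule, Submodule.span_le]
      rintro _ ⟨i, rfl⟩
      rw [SetLike.mem_coe, Submodule.mem_comap]
      fin_cases i
      · show X (X v) ∈ Submodule.span F (Set.range ![X v, v])
        rw [hX]
        exact Submodule.smul_mem _ _ (Submodule.subset_span ⟨1, rfl⟩)
      · show X v ∈ Submodule.span F (Set.range ![X v, v])
        exact Submodule.subset_span ⟨0, rfl⟩
    · rw [Submodule.span_le]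
      rintro _ ⟨i, rfl⟩
      fin_cases i
      · exact hXvW
      · exact hvW
    · intro h
      have : v ∈ Submodule.span F (Set.range ![X v, v]) := Submodule.subset_span ⟨1, rfl⟩
      rw [h] at this
      exact hv0 (by simpa using this)
    · refine MonoSpan.of_pairs (P := Unit) (fun pe => ![X v, v] pe.2) ?_ ?_ ?_
      · exact LinearIndependent.comp hli (fun pe : Unit × Fin 2 => pe.2)
          (fun a b h => Prod.ext rfl h)
      · congr 1
        ext w
        constructor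
        · rintro ⟨⟨_, i⟩, rfl⟩
          exact ⟨i, rfl⟩
        · rintro ⟨i, rfl⟩
          exact ⟨((), i), rfl⟩
      · intro p ε
        fin_cases ε
        · refine ⟨z, ?_⟩
          show X (X v) = z • v
          exact hX v
        · refine ⟨1, ?_⟩
          show X v = (1 : F) • X v
          rw [one_smul]
  · rw [linearIndependent_fin2] at hli
    push Not at hli
    obtain ⟨a, ha⟩ := hli hv0
    have ha' : X v = a • v := ha.symm
    refine ⟨Submodule.span F (Set.range (fun _ : Unit => v)), ?_, ?_, ?_, ?_⟩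
    · rw [Module.End.mem_invtSubmodule, Submodule.span_le]
      rintro _ ⟨i, rfl⟩
      rw [SetLike.mem_coe, Submodule.mem_comap]
      show X v ∈ Submodule.span F (Set.range (fun _ : Unit => v))
      rw [ha']
      exact Submodule.smul_mem _ _ (Submodule.subset_span ⟨(), rfl⟩)
    · rw [Submodule.span_le]
      rintro _ ⟨i, rfl⟩
      exact hvW
    · intro h
      have : v ∈ Submodule.span F (Set.range (fun _ : Unit => v)) := Submodule.subset_span ⟨(), rfl⟩
      rw [h] at this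
      exact hv0 (by simpa using this)
    · refine MonoSpan.of_fixed (Q := Unit) (fun _ => v) ?_ rfl ?_
      · exact linearIndependent_unique_iff.mpr hv0
      · intro q
        exact ⟨a, ha'⟩

theorem monoSpan_of_semisimple [FiniteDimensional F V] (X : V →ₗ[F] V) (z : F)
    (hX : ∀ v, X (X v) = z • v)
    (hss : Module.End.IsSemisimple X) :
    ∀ d : ℕ, ∀ W ∈ Module.End.invtSubmodule X, finrank F W = d → MonoSpan X W := by
  intro d
  induction d using Nat.strong_induction_on with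
  | _ d ih =>
    intro W hW hd
    by_cases hbot : W = ⊥
    · rw [hbot]
      exact monoSpan_bot X
    obtain ⟨C, hCinv, hCW, hCbot, hCmono⟩ := exists_cyclic_piece X z hX hW hbot
    obtain ⟨C', hC'inv, hcompl⟩ := (Module.End.isSemisimple_iff.mp hss) C hCinv
    have hW'inv : C' ⊓ W ∈ Module.End.invtSubmodule X := Module.End.invtSubmodule.inf_mem hC'inv hW
    have hsup : C ⊔ C' ⊓ W = W := by
      rw [← sup_inf_assoc_of_le C' hCW, hcompl.sup_eq_top, top_inf_eq]
    have hdisj : Disjoint C (C' ⊓ W) := Disjoint.mono_right inf_le_left hcompl.disjoint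
    have hfr := Submodule.finrank_sup_add_finrank_inf_eq C (C' ⊓ W)
    rw [hsup, hdisj.eq_bot, finrank_bot, add_zero, hd] at hfr
    have hCpos : 1 ≤ finrank F C := Submodule.one_le_finrank_iff.mpr hCbot
    have hlt : finrank F ↥(C' ⊓ W) < d := by omega
    have := ih _ hlt (C' ⊓ W) hW'inv rfl
    rw [← hsup]
    exact MonoSpan.sup hdisj hCmono this


theorem monoSpan_top_odd [FiniteDimensional F V] (X : V →ₗ[F] V) (z : F) (hz : z ≠ 0)
    (h2 : (2 : F) ≠ 0) (hX : ∀ v, X (X v) = z • v) : MonoSpan X ⊤ := by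
  have hsep : (Polynomial.X ^ 2 - Polynomial.C z : Polynomial F).Separable :=
    Polynomial.separable_X_pow_sub_C z (by exact_mod_cast h2) hz
  have hss : Module.End.IsSemisimple X := by
    apply Module.End.isSemisimple_of_squarefree_aeval_eq_zero hsep.squarefree
    ext v
    simp [pow_two, hX, Algebra.algebraMap_eq_smul_one]
  exact monoSpan_of_semisimple X z hX hss _ ⊤ (Module.End.invtSubmodule.top_mem _) rfl

/-- reindexing for the char 2 case -/
def e2 (α γ : Type) : (α × Fin 2) ⊕ γ ≃ α ⊕ (α ⊕ γ) where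
  toFun := Sum.elim (fun p => if p.2 = 0 then Sum.inl p.1 else Sum.inr (Sum.inl p.1))
    (fun k => Sum.inr (Sum.inr k))
  invFun := Sum.elim (fun i => Sum.inl (i, 0)) (Sum.elim (fun i => Sum.inl (i, 1)) Sum.inr)
  left_inv := by
    rintro (⟨i, ε⟩ | k)
    · fin_cases ε <;> simp
    · simp
  right_inv := by
    rintro (i | i | k) <;> simp

theorem monoSpan_top_char2 [FiniteDimensional F V] (X : V →ₗ[F] V) (lam : F) (hlam : lam ≠ 0)
    (h2 : (2 : F) = 0) (hX : ∀ v, X (X v) = (lam * lam) • v) : MonoSpan X ⊤ := by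
  have h2v : ∀ w : V, w + w = 0 := by
    intro w
    rw [← two_smul F, h2, zero_smul]
  have hsub : ∀ w : V, -w = w := by
    intro w
    exact neg_eq_of_add_eq_zero_left (h2v w)
  set N : V →ₗ[F] V := lam⁻¹ • X + LinearMap.id with hN
  have hXN : ∀ v, X v = lam • (N v + v) := by
    intro v
    simp only [hN, LinearMap.add_apply, LinearMap.smul_apply, LinearMap.id_apply]
    rw [add_assoc, h2v, add_zero, smul_smul, mul_inv_cancel₀ hlam, one_smul]
  have hNv : ∀ v, N v = lam⁻¹ • X v + v := by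
    intro v
    simp only [hN, LinearMap.add_apply, LinearMap.smul_apply, LinearMap.id_apply]
  have hNN : ∀ v, N (N v) = 0 := by
    intro v
    have h1 : X (N v) = lam • v + X v := by
      rw [hNv, map_add, map_smul, hX, smul_smul]
      congr 2
      field_simp
    rw [hNv (N v), h1, smul_add, smul_smul, inv_mul_cancel₀ hlam, one_smul, hNv]
    calc v + lam⁻¹ • X v + (lam⁻¹ • X v + v) = (v + v) + (lam⁻¹ • X v + lam⁻¹ • X v) := by abel
      _ = 0 := by rw [h2v, h2v, add_zero]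
  by_cases hN0 : N = 0
  · -- X = lam • id
    let b := Module.finBasis F V
    refine MonoSpan.of_fixed (Q := Fin (finrank F V)) b b.linearIndependent b.span_eq ?_
    intro q
    refine ⟨lam, ?_⟩
    rw [hXN, hN0, LinearMap.zero_apply, zero_add]
  · have hℓ : 0 < finrank F (LinearMap.range N) := by
      rw [Module.finrank_pos_iff_exists_ne_zero]
      by_contra hcon
      push Not at hcon
      apply hN0
      ext v
      have := hcon ⟨N v, ⟨v, rfl⟩⟩
      simpa using congrArg Subtype.val this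
    obtain ⟨ℓ, hℓeq⟩ : ∃ ℓ, finrank F (LinearMap.range N) = ℓ := ⟨_, rfl⟩
    rw [hℓeq] at hℓ
    obtain ⟨b, hb1, hb2, hb3⟩ := Cfsg.Agent.Helper36.exists_basis_of_sq_zero N hNN ℓ hℓ hℓeq
    let g' : Fin ℓ ⊕ (Fin ℓ ⊕ Fin (finrank F V - 2 * ℓ)) → V :=
      Sum.elim (fun i => b (Sum.inl i))
        (Sum.elim (fun i => b (Sum.inl i) + b (Sum.inr (Sum.inl i))) (fun k => b (Sum.inr (Sum.inr k))))
    let T : V →ₗ[F] V := b.constr F g'
    have hT : Function.Involutive T := by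
      intro v
      have : T ∘ₗ T = LinearMap.id := by
        apply b.ext
        rintro (i | i | k)
        · simp [T, g', Basis.constr_basis]
        · simp only [T, g', LinearMap.comp_apply, Basis.constr_basis, Sum.elim_inr, Sum.elim_inl, map_add,
            LinearMap.id_apply]
          rw [← add_assoc, h2v, zero_add]
        · simp [T, g', Basis.constr_basis]
      exact LinearMap.congr_fun this v
    let Te : V ≃ₗ[F] V := LinearEquiv.ofInvolutive T hT
    let B' := (b.map Te).reindex (e2 (Fin ℓ) (Fin (finrank F V - 2 * ℓ))).symm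
    have hB' : ∀ j, B' j = g' (e2 (Fin ℓ) (Fin (finrank F V - 2 * ℓ)) j) := by
      intro j
      simp [B', Te, T, Basis.constr_basis]
    refine ⟨Fin ℓ, Fin (finrank F V - 2 * ℓ), inferInstance, inferInstance, B', B'.linearIndependent, B'.span_eq, ?_, ?_⟩
    · intro i ε
      refine ⟨lam, ?_⟩
      rw [hB', hB', hXN]
      fin_cases ε
      · simp [e2, g', hb1, add_comm]
      · simp [e2, g', hb1, hb2]
        rw [add_comm (lam • b (Sum.inl i)), ← add_assoc, h2v, zero_add]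
    · intro k
      refine ⟨lam, ?_⟩
      rw [hB', hXN]
      simp [e2, g', hb3]


end Mono

/-- explicit model equivalence -/
def modelEquiv (T₁ U A' D : Type) :
    ((((T₁ × A') ⊕ (U × ((A' × Fin 2) ⊕ D))) × Fin 2) ⊕ (T₁ × D)) ≃
      (T₁ ⊕ (U × Fin 2)) × ((A' × Fin 2) ⊕ D) where
  toFun
    | Sum.inl (Sum.inl (j, k'), ε) => (Sum.inl j, Sum.inl (k', ε))
    | Sum.inl (Sum.inr (m, s), ε) => (Sum.inr (m, ε), s)
    | Sum.inr (j, d) => (Sum.inl j, Sum.inr d)
  invFun
    | (Sum.inl j, Sum.inl (k', ε)) => Sum.inl (Sum.inl (j, k'), ε)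
    | (Sum.inl j, Sum.inr d) => Sum.inr (j, d)
    | (Sum.inr (m, ε), s) => Sum.inl (Sum.inr (m, s), ε)
  left_inv := by
    rintro (⟨(⟨j, k'⟩ | ⟨m, s⟩), ε⟩ | ⟨j, d⟩) <;> rfl
  right_inv := by
    rintro ⟨(j | ⟨m, ε⟩), (⟨k', ε'⟩ | d)⟩ <;> rfl

/-- re-pairing equivalence -/
def repair {P Q Z P' Q' : Type} (eP : P ⊕ Z ≃ P') (eQ : Q ≃ (Z × Fin 2) ⊕ Q') :
    (P × Fin 2) ⊕ Q ≃ (P' × Fin 2) ⊕ Q' :=
  (Equiv.sumCongr (Equiv.refl _) eQ).trans
    ((Equiv.sumAssoc _ _ _).symm.trans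
      (Equiv.sumCongr ((Equiv.sumProdDistrib P Z (Fin 2)).symm.trans
        (Equiv.prodCongr eP (Equiv.refl _))) (Equiv.refl _)))

theorem repair_inl {P Q Z P' Q' : Type} (eP : P ⊕ Z ≃ P') (eQ : Q ≃ (Z × Fin 2) ⊕ Q')
    (p : P) (ε : Fin 2) : repair eP eQ (Sum.inl (p, ε)) = Sum.inl (eP (Sum.inl p), ε) := rfl

theorem repair_inr_of_inl {P Q Z P' Q' : Type} (eP : P ⊕ Z ≃ P') (eQ : Q ≃ (Z × Fin 2) ⊕ Q')
    (q : Q) (k : Z) (ε : Fin 2) (h : eQ q = Sum.inl (k, ε)) :
    repair eP eQ (Sum.inr q) = Sum.inl (eP (Sum.inr k), ε) := by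
  simp [repair, h]

theorem repair_inr_of_inr {P Q Z P' Q' : Type} (eP : P ⊕ Z ≃ P') (eQ : Q ≃ (Z × Fin 2) ⊕ Q')
    (q : Q) (y : Q') (h : eQ q = Sum.inr y) :
    repair eP eQ (Sum.inr q) = Sum.inr y := by
  simp [repair, h]

theorem fiber_card {ι T T' S : Type} [Fintype ι] [Fintype S] [DecidableEq T']
    (E : ι ≃ T × S) (eT : T ≃ T') (j : T') :
    Fintype.card {i // eT (E i).1 = j} = Fintype.card S := by
  apply Fintype.card_congr
  refine ⟨fun i => (E i.1).2, fun s => ⟨E.symm (eT.symm j, s), by simp⟩, ?_, ?_⟩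
  · rintro ⟨i, hi⟩
    apply Subtype.ext
    show E.symm (eT.symm j, (E i).2) = i
    rw [Equiv.symm_apply_eq]
    apply Prod.ext
    · show eT.symm j = (E i).1
      rw [← hi, Equiv.symm_apply_apply]
    · rfl
  · intro s
    simp

theorem comb_core {P Q : Type} [Fintype P] [Fintype Q] (t₁ u a' δ f' a t : ℕ)
    (hZU : f' = 0 ∨ u = 0)
    (hP : Fintype.card P + f' = t₁ * a' + u * a) (hQ : Fintype.card Q = 2 * f' + t₁ * δ)
    (ha : a = 2 * a' + δ) (ht : t = t₁ + 2 * u) :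
    ∃ (c : (P × Fin 2) ⊕ Q → Fin t) (σ : Equiv.Perm (Fin t)),
      (∀ j, Fintype.card {i // c i = j} = a) ∧
      (∀ p ε, c (Sum.inl (p, Equiv.swap 0 1 ε)) = σ (c (Sum.inl (p, ε)))) ∧
      ∀ q, c (Sum.inr q) = σ (c (Sum.inr q)) := by
  classical
  have hS : Fintype.card ((Fin a' × Fin 2) ⊕ Fin δ) = a := by
    simp [ha, mul_comm]
  let eP : P ⊕ Fin f' ≃ (Fin t₁ × Fin a') ⊕ (Fin u × ((Fin a' × Fin 2) ⊕ Fin δ)) :=
    Fintype.equivOfCardEq (by
      rw [Fintype.card_sum, Fintype.card_sum, Fintype.card_prod, Fintype.card_prod, hS]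
      simpa using hP)
  let eQ : Q ≃ (Fin f' × Fin 2) ⊕ (Fin t₁ × Fin δ) :=
    Fintype.equivOfCardEq (by
      simp [hQ, mul_comm])
  let eT : Fin t₁ ⊕ (Fin u × Fin 2) ≃ Fin t :=
    Fintype.equivOfCardEq (by
      simp [ht, mul_comm])
  let E := (repair eP eQ).trans (modelEquiv (Fin t₁) (Fin u) (Fin a') (Fin δ))
  let σT : Equiv.Perm (Fin t₁ ⊕ (Fin u × Fin 2)) :=
    Equiv.sumCongr (Equiv.refl _) (Equiv.prodCongr (Equiv.refl _) (Equiv.swap 0 1))
  have hσ : ∀ x, (eT.permCongr σT) (eT x) = eT (σT x) := by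
    intro x
    simp [Equiv.permCongr_apply]
  refine ⟨fun i => eT (E i).1, eT.permCongr σT, ?_, ?_, ?_⟩
  · intro j
    rw [fiber_card E eT j, hS]
  · intro p ε
    rw [hσ]
    refine congrArg eT ?_
    show (modelEquiv _ _ _ _ (repair eP eQ (Sum.inl (p, Equiv.swap 0 1 ε)))).1 =
      σT (modelEquiv _ _ _ _ (repair eP eQ (Sum.inl (p, ε)))).1
    rw [repair_inl, repair_inl]
    rcases eP (Sum.inl p) with ⟨j, k'⟩ | ⟨m, s⟩
    · rfl
    · rfl
  · intro q
    rw [hσ]
    refine congrArg eT ?_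
    show (modelEquiv _ _ _ _ (repair eP eQ (Sum.inr q))).1 =
      σT (modelEquiv _ _ _ _ (repair eP eQ (Sum.inr q))).1
    rcases h : eQ q with ⟨k, ε⟩ | y
    · rw [repair_inr_of_inl eP eQ q k ε h]
      rcases h2 : eP (Sum.inr k) with ⟨j, k'⟩ | ⟨m, s⟩
      · rfl
      · exfalso
        rcases hZU with h0 | h0
        · subst h0
          exact k.elim0
        · subst h0
          exact m.elim0
    · rw [repair_inr_of_inr eP eQ q y h]
      obtain ⟨j, d⟩ := y
      rfl

theorem comb {P Q : Type} [Fintype P] [Fintype Q] {a t : ℕ} (ha : 0 < a)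
    (h : 2 * Fintype.card P + Fintype.card Q = a * t) :
    ∃ (c : (P × Fin 2) ⊕ Q → Fin t) (σ : Equiv.Perm (Fin t)),
      (∀ j, Fintype.card {i // c i = j} = a) ∧
      (∀ p ε, c (Sum.inl (p, Equiv.swap 0 1 ε)) = σ (c (Sum.inl (p, ε)))) ∧
      ∀ q, c (Sum.inr q) = σ (c (Sum.inr q)) := by
  obtain ⟨s, hs⟩ : ∃ s, Fintype.card P = s := ⟨_, rfl⟩
  obtain ⟨f, hf⟩ : ∃ f, Fintype.card Q = f := ⟨_, rfl⟩
  rw [hs, hf] at h
  rcases Nat.even_or_odd' a with ⟨a', rfl | rfl⟩
  · -- a even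
    have h' : 2 * s + f = 2 * (a' * t) := by rw [h]; ring
    obtain ⟨m, hm⟩ : ∃ m, a' * t = m := ⟨_, rfl⟩
    rw [hm] at h'
    obtain ⟨f', rfl⟩ : ∃ f', f = 2 * f' := ⟨f / 2, by omega⟩
    apply comb_core t 0 a' 0 f' (2 * a') t (Or.inr rfl)
    · rw [hs, mul_comm t a', hm]; omega
    · rw [hf]; omega
    · omega
    · omega
  · by_cases hft : t ≤ f
    · have h' : 2 * s + f = 2 * (a' * t) + t := by rw [h]; ring
      obtain ⟨m, hm⟩ : ∃ m, a' * t = m := ⟨_, rfl⟩
      rw [hm] at h'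
      obtain ⟨f', rfl⟩ : ∃ f', f = 2 * f' + t := ⟨(f - t) / 2, by omega⟩
      apply comb_core t 0 a' 1 f' (2 * a' + 1) t (Or.inr rfl)
      · rw [hs, mul_comm t a', hm]; omega
      · rw [hf]; omega
      · omega
      · omega
    · push Not at hft
      have h' : 2 * s + f = 2 * (a' * t) + t := by rw [h]; ring
      obtain ⟨u, rfl⟩ : ∃ u, t = f + 2 * u := by
        obtain ⟨m, hm⟩ : ∃ m, a' * t = m := ⟨_, rfl⟩
        rw [hm] at h'
        exact ⟨(t - f) / 2, by omega⟩
      apply comb_core f u a' 1 0 (2 * a' + 1) (f + 2 * u) (Or.inl rfl)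
      · rw [hs]
        have : 2 * s = 2 * (f * a' + u * (2 * a' + 1)) := by
          have : 2 * (a' * (f + 2 * u)) + (f + 2 * u) = 2 * (f * a' + u * (2 * a' + 1)) + f := by ring
          omega
        omega
      · rw [hf]; omega
      · omega
      · omega


theorem toLin_injective {F : Type*} [Field F] (n : ℕ) (x : Matrix.SpecialLinearGroup (Fin n) F) :
    Function.Injective (Matrix.toLin' (x : Matrix (Fin n) (Fin n) F)) := by
  have h : Matrix.toLin' ((x⁻¹ : Matrix.SpecialLinearGroup (Fin n) F) : Matrix (Fin n) (Fin n) F) ∘ₗ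
      Matrix.toLin' (x : Matrix (Fin n) (Fin n) F) = LinearMap.id := by
    rw [← Matrix.toLin'_mul, ← Matrix.SpecialLinearGroup.coe_mul, inv_mul_cancel,
      Matrix.SpecialLinearGroup.coe_one, Matrix.toLin'_one]
  intro v w hvw
  have := congrArg
    (Matrix.toLin' ((x⁻¹ : Matrix.SpecialLinearGroup (Fin n) F) : Matrix (Fin n) (Fin n) F)) hvw
  rw [← LinearMap.comp_apply, ← LinearMap.comp_apply, h] at this
  exact this

/-- Involutions of PSL_n(q) and imprimitive subgroups. -/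
theorem result {F : Type*} [Field F] [Fintype F] {p : ℕ} [Fact p.Prime] [CharP F p] {q : ℕ} (hq : Fintype.card F = q)
    (n a t : ℕ) (hn : 2 ≤ n) (hT : (n, q) ≠ (2, 2) ∧ (n, q) ≠ (2, 3)) (hat : n = a * t) (ha : 1 ≤ a) (ht : 2 ≤ t)
    (hΩ : 2 ∣ Nat.card {D : Fin t → Submodule F (Fin n → F) // Cfsg.Geo.IsMDecomposition a D} / Nat.factorial t)
    (x : Matrix.SpecialLinearGroup (Fin n) F)
    (hx1 : ∃ z : F, ((x ^ 2 : Matrix.SpecialLinearGroup (Fin n) F) : Matrix (Fin n) (Fin n) F) = z • (1 : Matrix (Fin n) (Fin n) F))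
    (hx2 : ∀ z : F, (x : Matrix (Fin n) (Fin n) F) ≠ z • (1 : Matrix (Fin n) (Fin n) F)) :
    ∃ D : Fin t → Submodule F (Fin n → F), Cfsg.Geo.IsMDecomposition a D ∧
        ∃ σ : Equiv.Perm (Fin t), ∀ j, (D j).map (Matrix.toLin' (x : Matrix (Fin n) (Fin n) F)) = D (σ j) := by
  classical
  obtain ⟨z, hz⟩ := hx1
  set X := Matrix.toLin' (x : Matrix (Fin n) (Fin n) F) with hXdef
  have hinj : Function.Injective X := toLin_injective n x
  have hX : ∀ v, X (X v) = z • v := by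
    intro v
    have h1 : X ∘ₗ X = Matrix.toLin' (z • (1 : Matrix (Fin n) (Fin n) F)) := by
      rw [← hz, Matrix.SpecialLinearGroup.coe_pow, pow_two, Matrix.toLin'_mul]
    have h2 := LinearMap.congr_fun h1 v
    rw [LinearMap.comp_apply] at h2
    rw [h2, map_smul, Matrix.toLin'_one]
    rfl
  have hz0 : z ≠ 0 := by
    intro h0
    have hd : ((x ^ 2 : Matrix.SpecialLinearGroup (Fin n) F) : Matrix (Fin n) (Fin n) F).det = 1 :=
      Matrix.SpecialLinearGroup.det_coe _
    have : NeZero n := ⟨by omega⟩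
    rw [hz, h0, zero_smul, Matrix.det_zero] at hd
    exact zero_ne_one hd
  have hmono : MonoSpan X ⊤ := by
    by_cases h2 : (2 : F) = 0
    · have : CharP F 2 := CharTwo.of_one_ne_zero_of_two_eq_zero one_ne_zero h2
      have hr : ringChar F = 2 := ringChar.eq F 2
      obtain ⟨lam, hlam⟩ := FiniteField.isSquare_of_char_two hr z
      have hlam0 : lam ≠ 0 := by
        rintro rfl
        apply hz0
        rw [hlam, mul_zero]
      exact monoSpan_top_char2 X lam hlam0 h2 (by rw [← hlam]; exact hX)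
    · exact monoSpan_top_odd X z hz0 h2 hX
  obtain ⟨P, Q, _, _, g, hli, hsp, hP, hQ⟩ := hmono
  let B : Basis ((P × Fin 2) ⊕ Q) F (Fin n → F) := Basis.mk hli (by rw [hsp])
  have hB : ∀ i, B i = g i := by
    intro i
    simp [B]
  have hcard : 2 * Fintype.card P + Fintype.card Q = a * t := by
    have h1 := Module.finrank_eq_card_basis B
    rw [Module.finrank_fin_fun, Fintype.card_sum, Fintype.card_prod, Fintype.card_fin] at h1
    rw [← hat, h1]
    ring
  obtain ⟨c, σ, hc, hcP, hcQ⟩ := comb (P := P) (Q := Q) (a := a) (t := t) (by omega) hcard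
  refine assemble B X hinj ht (by omega) c ?_ σ ?_
  · intro j
    rw [← hc j]
  · rintro (⟨p, ε⟩ | q)
    · obtain ⟨κ, hκ⟩ := hP p ε
      exact ⟨Sum.inl (p, Equiv.swap 0 1 ε), κ, by rw [hB, hB, hκ], hcP p ε⟩
    · obtain ⟨κ, hκ⟩ := hQ q
      exact ⟨Sum.inr q, κ, by rw [hB, hκ], hcQ q⟩

end Cfsg.Agent.S5957
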