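import Cfsg.Statements.S0752

set_option autoImplicit false
open Cfsg

namespace Cfsg.Agent.S0752

open Module

variable {F V : Type*} [Field F] [AddCommGroup V] [Module F V]

/-- `e, f` form a family of `m` mutually orthogonal hyperbolic pairs -/
def IsHypFamily (B : LinearMap.BilinForm F V) {m : ℕ} (e f : Fin m → V) : Prop :=
  (∀ i j, B (e i) (f j) = if i = j then 1 else 0) ∧ (∀ i j, B (e i) (e j) = 0) ∧
    (∀ i j, B (f i) (f j) = 0)

theorem alt_swap (B : LinearMap.BilinForm F V) (hA : B.IsAlt) (x y : V) : B x y = - B y x :=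
  (hA.neg_eq x y ▸ (neg_neg _).symm : B x y = - B y x)

theorem coeff_eq_zero (B : LinearMap.BilinForm F V) (hA : B.IsAlt) {m : ℕ} {e f : Fin m → V}
    (h : IsHypFamily B e f) (c : Fin m ⊕ Fin m → F) :
    (∀ j, B (∑ i, c i • Sum.elim e f i) (f j) = c (Sum.inl j)) ∧
    (∀ j, B (e j) (∑ i, c i • Sum.elim e f i) = c (Sum.inr j)) := by
  obtain ⟨h1, h2, h3⟩ := h
  constructor
  · intro j
    rw [Fintype.sum_sum_type]
    simp only [Sum.elim_inl, Sum.elim_inr, map_add, map_sum, map_smul, LinearMap.add_apply,
      LinearMap.sum_apply, LinearMap.smul_apply, smul_eq_mul, h1, h3, mul_zero,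
      Finset.sum_const_zero, add_zero, mul_ite, mul_one, Finset.sum_ite_eq', Finset.mem_univ,
      if_true]
  · intro j
    rw [Fintype.sum_sum_type]
    simp only [Sum.elim_inl, Sum.elim_inr, map_add, map_sum, map_smul, smul_eq_mul, h1, h2,
      mul_zero, Finset.sum_const_zero, zero_add, mul_ite, mul_one, Finset.sum_ite_eq,
      Finset.mem_univ, if_true]

theorem linearIndependent_of_isHypFamily (B : LinearMap.BilinForm F V) (hA : B.IsAlt) {m : ℕ}
    {e f : Fin m → V} (h : IsHypFamily B e f) : LinearIndependent F (Sum.elim e f) := by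
  rw [Fintype.linearIndependent_iff]
  intro c hc i
  obtain ⟨h1, h2⟩ := coeff_eq_zero B hA h c
  rcases i with j | j
  · rw [← h1 j, hc]; simp
  · rw [← h2 j, hc]; simp

theorem restrict_nondegenerate (B : LinearMap.BilinForm F V) (hA : B.IsAlt) {m : ℕ}
    {e f : Fin m → V} (h : IsHypFamily B e f) :
    (B.restrict (Submodule.span F (Set.range (Sum.elim e f)))).Nondegenerate := by
  have key : ∀ x : Submodule.span F (Set.range (Sum.elim e f)),
      (∀ y : Submodule.span F (Set.range (Sum.elim e f)), B x y = 0) → x = 0 := by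
    intro x hx
    obtain ⟨c, hc⟩ := (Submodule.mem_span_range_iff_exists_fun F).mp x.2
    obtain ⟨h1, h2⟩ := coeff_eq_zero B hA h c
    have hc0 : c = 0 := by
      funext i
      rcases i with j | j
      · rw [← h1 j, hc]
        exact hx ⟨f j, Submodule.subset_span ⟨Sum.inr j, rfl⟩⟩
      · rw [← h2 j, hc, alt_swap B hA]
        have := hx ⟨e j, Submodule.subset_span ⟨Sum.inl j, rfl⟩⟩
        simpa using this
    apply Subtype.ext
    rw [← hc, hc0]
    simp
  constructor
  · intro x hx
    exact key x hx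
  · intro x hx
    apply key x
    intro y
    have := hx y
    simp only [LinearMap.BilinForm.restrict_apply, LinearMap.domRestrict₁₂_apply] at this
    rw [alt_swap B hA]
    simpa using this

theorem exists_maximal [FiniteDimensional F V] (B : LinearMap.BilinForm F V) (hA : B.IsAlt) :
    ∃ (m : ℕ) (e f : Fin m → V), IsHypFamily B e f ∧
      ¬ ∃ e' f' : Fin (m + 1) → V, IsHypFamily B e' f' := by
  by_contra hcon
  push Not at hcon
  have hall : ∀ m : ℕ, ∃ e f : Fin m → V, IsHypFamily B e f := by
    intro m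
    induction m with
    | zero => exact ⟨Fin.elim0, Fin.elim0, fun i => i.elim0, fun i => i.elim0, fun i => i.elim0⟩
    | succ m ih =>
      obtain ⟨e, f, hef⟩ := ih
      exact hcon m e f hef
  obtain ⟨e, f, hef⟩ := hall (Module.finrank F V + 1)
  have := (linearIndependent_of_isHypFamily B hA hef).fintype_card_le_finrank
  simp at this
  omega

/-- Classification of alternating forms: for an alternating bilinear form B on a finite-dimensional space over any field there is a basis indexed by (Fin m ⊕ Fin m) ⊕ Fin k such that B (e_i, f_j) = δ_ij, the e's are pairwise orthogonal, the f's are pairwise orthogonal, and the last k basis vectors are orthogonal to everything (they span the radical). -/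
theorem result {F V : Type*} [Field F] [AddCommGroup V] [Module F V] [FiniteDimensional F V] (B : LinearMap.BilinForm F V) (hA : B.IsAlt) : ∃ (m k : ℕ) (b : Module.Basis ((Fin m ⊕ Fin m) ⊕ Fin k) F V), (∀ i j : Fin m, B (b (Sum.inl (Sum.inl i))) (b (Sum.inl (Sum.inr j))) = if i = j then 1 else 0) ∧ (∀ i j : Fin m, B (b (Sum.inl (Sum.inl i))) (b (Sum.inl (Sum.inl j))) = 0) ∧ (∀ i j : Fin m, B (b (Sum.inl (Sum.inr i))) (b (Sum.inl (Sum.inr j))) = 0) ∧ (∀ (j : Fin k) (v : V), B (b (Sum.inr j)) v = 0) := by
  obtain ⟨m, e, f, hef, hmax⟩ := exists_maximal B hA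
  have hrefl : B.IsRefl := hA.isRefl
  set H : Submodule F V := Submodule.span F (Set.range (Sum.elim e f)) with hH
  set W : Submodule F V := B.orthogonal H with hW
  have hcompl : IsCompl H W :=
    LinearMap.BilinForm.isCompl_orthogonal_of_restrict_nondegenerate hrefl
      (restrict_nondegenerate B hA hef)
  have heH : ∀ i, e i ∈ H := fun i => Submodule.subset_span ⟨Sum.inl i, rfl⟩
  have hfH : ∀ i, f i ∈ H := fun i => Submodule.subset_span ⟨Sum.inr i, rfl⟩
  -- `B` vanishes on `W`
  have hWW : ∀ u ∈ W, ∀ v ∈ W, B u v = 0 := by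
    intro u hu v hv
    by_contra huv
    apply hmax
    have hue : ∀ i, B u (e i) = 0 := fun i => hrefl _ _ (hu (e i) (heH i))
    have huf : ∀ i, B u (f i) = 0 := fun i => hrefl _ _ (hu (f i) (hfH i))
    have hev : ∀ i, B (e i) v = 0 := fun i => hv (e i) (heH i)
    have hfv : ∀ i, B (f i) v = 0 := fun i => hv (f i) (hfH i)
    have hve : ∀ i, B v (e i) = 0 := fun i => hrefl _ _ (hev i)
    have hvf : ∀ i, B v (f i) = 0 := fun i => hrefl _ _ (hfv i)
    have heu : ∀ i, B (e i) u = 0 := fun i => hu (e i) (heH i)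
    have hfu : ∀ i, B (f i) u = 0 := fun i => hu (f i) (hfH i)
    obtain ⟨h1, h2, h3⟩ := hef
    refine ⟨Fin.cons u e, Fin.cons ((B u v)⁻¹ • v) f, ?_, ?_, ?_⟩
    · intro i j
      refine Fin.cases ?_ (fun i => ?_) i <;> refine Fin.cases ?_ (fun j => ?_) j
      · simp [huv]
      · simp [huf, (Fin.succ_ne_zero _).symm]
      · simp [hev, (Fin.succ_ne_zero _)]
      · simp [h1, Fin.succ_inj]
    · intro i j
      refine Fin.cases ?_ (fun i => ?_) i <;> refine Fin.cases ?_ (fun j => ?_) j
      · simp [hA u]
      · simp [hue]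
      · simp [heu]
      · simp [h2]
    · intro i j
      refine Fin.cases ?_ (fun i => ?_) i <;> refine Fin.cases ?_ (fun j => ?_) j
      · simp [hA v]
      · simp [hvf]
      · simp [hfv]
      · simp [h3]
  -- hence `W` is the radical
  have hWV : ∀ w ∈ W, ∀ x : V, B w x = 0 := by
    intro w hw x
    have hx : x ∈ H ⊔ W := by rw [hcompl.sup_eq_top]; trivial
    obtain ⟨h, hh, w', hw', rfl⟩ := Submodule.mem_sup.mp hx
    rw [map_add, hrefl _ _ (hw h hh), hWW w hw w' hw', add_zero]
  -- assemble the basis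
  set r := Module.finBasis F W with hr
  set vfam : (Fin m ⊕ Fin m) ⊕ Fin (Module.finrank F W) → V :=
    Sum.elim (Sum.elim e f) (fun j => (r j : V)) with hvfam
  have hrli : LinearIndependent F (fun j => (r j : V)) :=
    r.linearIndependent.map' W.subtype (Submodule.ker_subtype W)
  have hrspan : Submodule.span F (Set.range (fun j => (r j : V))) = W := by
    have : (fun j => (r j : V)) = W.subtype ∘ r := rfl
    rw [this, Set.range_comp, Submodule.span_image, r.span_eq, Submodule.map_subtype_top]
  have hli : LinearIndependent F vfam := by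
    apply LinearIndependent.sum_type (linearIndependent_of_isHypFamily B hA hef) hrli
    rw [hrspan]
    exact hcompl.disjoint
  have hsp : ⊤ ≤ Submodule.span F (Set.range vfam) := by
    rw [hvfam, Set.Sum.elim_range, Submodule.span_union, hrspan, ← hH, hcompl.sup_eq_top]
  refine ⟨m, Module.finrank F W, Basis.mk hli hsp, ?_, ?_, ?_, ?_⟩
  · intro i j
    simp only [Basis.mk_apply, hvfam, Sum.elim_inl, Sum.elim_inr]
    exact hef.1 i j
  · intro i j
    simp only [Basis.mk_apply, hvfam, Sum.elim_inl]
    exact hef.2.1 i j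
  · intro i j
    simp only [Basis.mk_apply, hvfam, Sum.elim_inl, Sum.elim_inr]
    exact hef.2.2 i j
  · intro j v
    simp only [Basis.mk_apply, hvfam, Sum.elim_inr]
    exact hWV _ (r j).2 v

end Cfsg.Agent.S0752
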