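import Cfsg.Statements.S0776
import Cfsg.Agent.Helper13.SympTrans
import Cfsg.Agent.S0752

set_option autoImplicit false
open Cfsg

namespace Cfsg.Agent.S0776

open Matrix Cfsg.Agent.Helper13

variable {F : Type*} [Field F]

/-- the symplectic form as a bilinear form -/
noncomputable def omega (m : ℕ) (F : Type*) [Field F] :
    LinearMap.BilinForm F (Fin m ⊕ Fin m → F) :=
  Matrix.toBilin' (Matrix.J (Fin m) F)

theorem omega_apply (m : ℕ) (u v : Fin m ⊕ Fin m → F) :
    omega m F u v = Cfsg.sympForm m F u v :=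
  Matrix.toBilin'_apply' _ _ _

theorem omega_isAlt (m : ℕ) : (omega m F).IsAlt := fun v => by
  rw [omega_apply]; exact sympForm_self v

theorem omega_nondegenerate (m : ℕ) : (omega m F).Nondegenerate := by
  have hR : (omega m F).SeparatingRight := by
    intro y hy
    by_contra hne
    obtain ⟨x, hx⟩ := sympForm_nondeg_left (m := m) hne
    exact hx (by rw [← omega_apply]; exact hy x)
  refine ⟨?_, hR⟩
  intro x hx
  apply hR
  intro y
  have := hx y
  rw [omega_apply] at this ⊢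
  rw [sympForm_swap, this, neg_zero]

/-- the Gram matrix of an adapted basis -/
def gram (k l : ℕ) (F : Type*) [Field F] :
    Matrix ((Fin k ⊕ Fin k) ⊕ (Fin l ⊕ Fin l)) ((Fin k ⊕ Fin k) ⊕ (Fin l ⊕ Fin l)) F :=
  Matrix.fromBlocks (Matrix.J (Fin k) F) 0 0 (Matrix.J (Fin l) F)

section main

variable {m k l : ℕ}
  (β : Module.Basis ((Fin k ⊕ Fin k) ⊕ (Fin l ⊕ Fin l)) F (Fin m ⊕ Fin m → F))

/-- change of basis as an algebra isomorphism -/
noncomputable def Theta : Matrix (Fin m ⊕ Fin m) (Fin m ⊕ Fin m) F ≃ₐ[F]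
    Matrix ((Fin k ⊕ Fin k) ⊕ (Fin l ⊕ Fin l)) ((Fin k ⊕ Fin k) ⊕ (Fin l ⊕ Fin l)) F :=
  (Matrix.toLinAlgEquiv' (R := F) (n := Fin m ⊕ Fin m)).trans (LinearMap.toMatrixAlgEquiv β)

theorem Theta_apply (g : Matrix (Fin m ⊕ Fin m) (Fin m ⊕ Fin m) F) :
    Theta β g = LinearMap.toMatrix β β (Matrix.toLin' g) := rfl

theorem Theta_entry (g : Matrix (Fin m ⊕ Fin m) (Fin m ⊕ Fin m) F)
    (i j : (Fin k ⊕ Fin k) ⊕ (Fin l ⊕ Fin l)) :
    Theta β g i j = β.repr (g *ᵥ β j) i := by
  rw [Theta_apply, LinearMap.toMatrix_apply, Matrix.toLin'_apply]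

theorem Theta_mulVec_repr (g : Matrix (Fin m ⊕ Fin m) (Fin m ⊕ Fin m) F)
    (v : Fin m ⊕ Fin m → F) :
    Theta β g *ᵥ ⇑(β.repr v) = ⇑(β.repr (g *ᵥ v)) := by
  rw [Theta_apply, LinearMap.toMatrix_mulVec_repr, Matrix.toLin'_apply]

theorem mem_sp_iff (hG : LinearMap.BilinForm.toMatrix β (omega m F) = gram k l F)
    (g : Matrix (Fin m ⊕ Fin m) (Fin m ⊕ Fin m) F) :
    g ∈ Matrix.symplecticGroup (Fin m) F ↔
      (Theta β g)ᵀ * gram k l F * Theta β g = gram k l F := by
  rw [SymplecticGroup.mem_iff']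
  have h1 : (omega m F).comp (Matrix.toLin' g) (Matrix.toLin' g) =
      Matrix.toBilin' (gᵀ * Matrix.J (Fin m) F * g) := Matrix.toBilin'_comp _ _ _
  have h2 := LinearMap.BilinForm.toMatrix_comp β β (omega m F) (Matrix.toLin' g) (Matrix.toLin' g)
  rw [hG] at h2
  constructor
  · intro h
    rw [h] at h1
    rw [Theta_apply, ← h2, h1]
    exact hG
  · intro h
    have h3 : (omega m F).comp (Matrix.toLin' g) (Matrix.toLin' g) = omega m F := by
      apply (LinearMap.BilinForm.toMatrix β).injective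
      rw [h2, hG]
      exact h
    rw [h1] at h3
    exact Matrix.toBilin'.injective h3

omit β in
theorem blocks_of_upper
    (M : Matrix ((Fin k ⊕ Fin k) ⊕ (Fin l ⊕ Fin l)) ((Fin k ⊕ Fin k) ⊕ (Fin l ⊕ Fin l)) F)
    (h21 : M.toBlocks₂₁ = 0) (hM : Mᵀ * gram k l F * M = gram k l F) :
    M.toBlocks₁₁ ∈ Matrix.symplecticGroup (Fin k) F ∧ M.toBlocks₁₂ = 0 ∧
      M.toBlocks₂₂ ∈ Matrix.symplecticGroup (Fin l) F := by
  have hMeq : M = Matrix.fromBlocks M.toBlocks₁₁ M.toBlocks₁₂ 0 M.toBlocks₂₂ := by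
    rw [← h21]; exact (Matrix.fromBlocks_toBlocks M).symm
  rw [hMeq, gram, Matrix.fromBlocks_transpose, Matrix.fromBlocks_multiply,
    Matrix.fromBlocks_multiply, Matrix.fromBlocks_inj] at hM
  simp only [Matrix.transpose_zero, Matrix.zero_mul, Matrix.mul_zero, add_zero, zero_add] at hM
  obtain ⟨h11, h12, -, h22⟩ := hM
  have hA : M.toBlocks₁₁ ∈ Matrix.symplecticGroup (Fin k) F := SymplecticGroup.mem_iff'.mpr h11
  have hB : M.toBlocks₁₂ = 0 := by
    have hu : IsUnit (M.toBlocks₁₁ᵀ * Matrix.J (Fin k) F).det := by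
      rw [Matrix.det_mul, Matrix.det_transpose]
      exact (SymplecticGroup.symplectic_det hA).mul (Matrix.isUnit_det_J (Fin k) F)
    calc M.toBlocks₁₂ = ((M.toBlocks₁₁ᵀ * Matrix.J (Fin k) F)⁻¹ *
          (M.toBlocks₁₁ᵀ * Matrix.J (Fin k) F)) * M.toBlocks₁₂ := by
          rw [Matrix.nonsing_inv_mul _ hu, Matrix.one_mul]
      _ = (M.toBlocks₁₁ᵀ * Matrix.J (Fin k) F)⁻¹ *
          ((M.toBlocks₁₁ᵀ * Matrix.J (Fin k) F) * M.toBlocks₁₂) := Matrix.mul_assoc _ _ _
      _ = 0 := by rw [h12, Matrix.mul_zero]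
  refine ⟨hA, hB, ?_⟩
  rw [hB] at h22
  simp only [Matrix.transpose_zero, Matrix.zero_mul, Matrix.mul_zero, zero_add] at h22
  exact SymplecticGroup.mem_iff'.mpr h22

omit β in
theorem gram_of_diag {A : Matrix (Fin k ⊕ Fin k) (Fin k ⊕ Fin k) F}
    {D : Matrix (Fin l ⊕ Fin l) (Fin l ⊕ Fin l) F}
    (hA : A ∈ Matrix.symplecticGroup (Fin k) F) (hD : D ∈ Matrix.symplecticGroup (Fin l) F) :
    (Matrix.fromBlocks A 0 0 D)ᵀ * gram k l F * Matrix.fromBlocks A 0 0 D = gram k l F := by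
  rw [gram, Matrix.fromBlocks_transpose, Matrix.fromBlocks_multiply, Matrix.fromBlocks_multiply]
  simp only [Matrix.transpose_zero, Matrix.zero_mul, Matrix.mul_zero, add_zero, zero_add]
  rw [SymplecticGroup.mem_iff'.mp hA, SymplecticGroup.mem_iff'.mp hD]

theorem Theta_21 {W : Submodule F (Fin m ⊕ Fin m → F)}
    (hWβ : ∀ v, v ∈ W ↔ ∀ y, β.repr v (Sum.inr y) = 0)
    (g : Matrix (Fin m ⊕ Fin m) (Fin m ⊕ Fin m) F) (hg : ∀ v ∈ W, g *ᵥ v ∈ W) :
    (Theta β g).toBlocks₂₁ = 0 := by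
  ext y x
  simp only [Matrix.toBlocks₂₁, Matrix.of_apply, Matrix.zero_apply]
  rw [Theta_entry]
  have hx : β (Sum.inl x) ∈ W := by
    rw [hWβ]
    intro y'
    simp
  exact (hWβ _).mp (hg _ hx) y

theorem stab_of_diag {W : Submodule F (Fin m ⊕ Fin m → F)}
    (hWβ : ∀ v, v ∈ W ↔ ∀ y, β.repr v (Sum.inr y) = 0)
    {A : Matrix (Fin k ⊕ Fin k) (Fin k ⊕ Fin k) F}
    {D : Matrix (Fin l ⊕ Fin l) (Fin l ⊕ Fin l) F}
    (hD : D ∈ Matrix.symplecticGroup (Fin l) F) (v : Fin m ⊕ Fin m → F) :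
    v ∈ W ↔ ((Theta β).symm (Matrix.fromBlocks A 0 0 D)) *ᵥ v ∈ W := by
  rw [hWβ, hWβ]
  have h1 := Theta_mulVec_repr β ((Theta β).symm (Matrix.fromBlocks A 0 0 D)) v
  rw [AlgEquiv.apply_symm_apply] at h1
  have h2 : ∀ y, β.repr (((Theta β).symm (Matrix.fromBlocks A 0 0 D)) *ᵥ v) (Sum.inr y) =
      (D *ᵥ fun y' => β.repr v (Sum.inr y')) y := by
    intro y
    rw [← h1]
    simp [Matrix.mulVec, dotProduct, Fintype.sum_sum_type]
  have hinj : Function.Injective D.mulVec :=
    Matrix.mulVec_injective_of_isUnit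
      ((Matrix.isUnit_iff_isUnit_det D).mpr (SymplecticGroup.symplectic_det hD))
  constructor
  · intro h y
    rw [h2]
    have : (fun y' => β.repr v (Sum.inr y')) = 0 := funext h
    rw [this, Matrix.mulVec_zero]
    rfl
  · intro h
    have h3 : D *ᵥ (fun y' => β.repr v (Sum.inr y')) = D *ᵥ 0 := by
      rw [Matrix.mulVec_zero]
      funext y
      rw [← h2]
      exact h y
    have := hinj h3
    intro y
    exact congrFun this y

/-- the block decomposition of the stabiliser -/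
noncomputable def stabEquiv (hG : LinearMap.BilinForm.toMatrix β (omega m F) = gram k l F)
    (W : Submodule F (Fin m ⊕ Fin m → F))
    (hWβ : ∀ v, v ∈ W ↔ ∀ y, β.repr v (Sum.inr y) = 0) :
    ↥(Cfsg.stabilizing (Cfsg.spToMat m F) (W : Set (Fin m ⊕ Fin m → F))) ≃*
      Matrix.symplecticGroup (Fin k) F × Matrix.symplecticGroup (Fin l) F where
  toFun g :=
    (⟨(Theta β g.1.1).toBlocks₁₁,
        (blocks_of_upper _ (Theta_21 β hWβ g.1.1 (fun v hv => (g.2 v).mp hv))
          ((mem_sp_iff β hG g.1.1).mp g.1.2)).1⟩,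
      ⟨(Theta β g.1.1).toBlocks₂₂,
        (blocks_of_upper _ (Theta_21 β hWβ g.1.1 (fun v hv => (g.2 v).mp hv))
          ((mem_sp_iff β hG g.1.1).mp g.1.2)).2.2⟩)
  invFun x :=
    ⟨⟨(Theta β).symm (Matrix.fromBlocks x.1.1 0 0 x.2.1), (mem_sp_iff β hG _).mpr (by
        rw [AlgEquiv.apply_symm_apply]
        exact gram_of_diag x.1.2 x.2.2)⟩,
      fun v => stab_of_diag β hWβ x.2.2 v⟩
  left_inv g := by
    apply Subtype.ext
    apply Subtype.ext
    have h21 := Theta_21 β hWβ g.1.1 (fun v hv => (g.2 v).mp hv)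
    have hb := blocks_of_upper _ h21 ((mem_sp_iff β hG g.1.1).mp g.1.2)
    show (Theta β).symm (Matrix.fromBlocks (Theta β g.1.1).toBlocks₁₁ 0 0
      (Theta β g.1.1).toBlocks₂₂) = g.1.1
    have h := Matrix.fromBlocks_toBlocks (Theta β g.1.1)
    rw [h21, hb.2.1] at h
    rw [h, AlgEquiv.symm_apply_apply]
  right_inv x := by
    refine Prod.ext (Subtype.ext ?_) (Subtype.ext ?_)
    · show (Theta β ((Theta β).symm (Matrix.fromBlocks x.1.1 0 0 x.2.1))).toBlocks₁₁ = x.1.1
      rw [AlgEquiv.apply_symm_apply, Matrix.toBlocks_fromBlocks₁₁]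
    · show (Theta β ((Theta β).symm (Matrix.fromBlocks x.1.1 0 0 x.2.1))).toBlocks₂₂ = x.2.1
      rw [AlgEquiv.apply_symm_apply, Matrix.toBlocks_fromBlocks₂₂]
  map_mul' g h := by
    have hg21 := Theta_21 β hWβ g.1.1 (fun v hv => (g.2 v).mp hv)
    have hgb := blocks_of_upper _ hg21 ((mem_sp_iff β hG g.1.1).mp g.1.2)
    have hh21 := Theta_21 β hWβ h.1.1 (fun v hv => (h.2 v).mp hv)
    have hhb := blocks_of_upper _ hh21 ((mem_sp_iff β hG h.1.1).mp h.1.2)
    have hg := Matrix.fromBlocks_toBlocks (Theta β g.1.1)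
    rw [hg21, hgb.2.1] at hg
    have hh := Matrix.fromBlocks_toBlocks (Theta β h.1.1)
    rw [hh21, hhb.2.1] at hh
    have hmul : Theta β (g.1.1 * h.1.1) =
        Matrix.fromBlocks ((Theta β g.1.1).toBlocks₁₁ * (Theta β h.1.1).toBlocks₁₁) 0 0
          ((Theta β g.1.1).toBlocks₂₂ * (Theta β h.1.1).toBlocks₂₂) := by
      rw [map_mul]
      conv_lhs => rw [← hg, ← hh]
      rw [Matrix.fromBlocks_multiply]
      simp
    refine Prod.ext (Subtype.ext ?_) (Subtype.ext ?_)
    · show (Theta β (g.1.1 * h.1.1)).toBlocks₁₁ = _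
      rw [hmul, Matrix.toBlocks_fromBlocks₁₁]
      rfl
    · show (Theta β (g.1.1 * h.1.1)).toBlocks₂₂ = _
      rw [hmul, Matrix.toBlocks_fromBlocks₂₂]
      rfl

end main

/-- symplectic basis of a nondegenerate alternating space -/
theorem exists_symp_basis {V : Type*} [AddCommGroup V] [Module F V] [FiniteDimensional F V]
    (B : LinearMap.BilinForm F V) (hA : B.IsAlt) (hB : B.Nondegenerate) (k : ℕ)
    (hk : Module.finrank F V = 2 * k) :
    ∃ b : Module.Basis (Fin k ⊕ Fin k) F V, ∀ x y, B (b x) (b y) = Matrix.J (Fin k) F x y := by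
  obtain ⟨a, c, b, h1, h2, h3, h4⟩ := Cfsg.Agent.S0752.result B hA
  have hc : c = 0 := by
    by_contra hc
    have hpos : 0 < c := Nat.pos_of_ne_zero hc
    have := hB.1 (b (Sum.inr ⟨0, hpos⟩)) (fun v => h4 _ v)
    exact b.ne_zero _ this
  subst hc
  have hcard := Module.finrank_eq_card_basis b
  simp only [Fintype.card_sum, Fintype.card_fin] at hcard
  have hak : a = k := by omega
  subst hak
  refine ⟨b.reindex ((Equiv.sumEmpty _ (Fin 0)).trans (Equiv.sumComm _ _)), ?_⟩
  intro x y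
  rcases x with i | i <;> rcases y with j | j
  · simp [Module.Basis.reindex_apply, h3, Matrix.J]
  · simp only [Module.Basis.reindex_apply, Equiv.symm_trans_apply, Equiv.sumComm_symm,
      Equiv.sumComm_apply, Sum.swap_inl, Sum.swap_inr, Equiv.sumEmpty_symm_apply]
    rw [Cfsg.Agent.S0752.alt_swap B hA, h1]
    simp [Matrix.J, Matrix.one_apply, eq_comm]
  · simp only [Module.Basis.reindex_apply, Equiv.symm_trans_apply, Equiv.sumComm_symm,
      Equiv.sumComm_apply, Sum.swap_inl, Sum.swap_inr, Equiv.sumEmpty_symm_apply]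
    rw [h1]
    simp [Matrix.J, Matrix.one_apply]
  · simp [Module.Basis.reindex_apply, h2, Matrix.J]

/-- If W ≤ F^(2m) is a 2k-dimensional subspace on which the symplectic form is non-degenerate, then the stabiliser of W in Sp_2m(F) is isomorphic to Sp_2k(F) × Sp_(2m−2k)(F). -/
theorem result {F : Type*} [Field F] (m k : ℕ) (hk : k ≤ m) (W : Submodule F (Fin m ⊕ Fin m → F)) (hWk : Module.finrank F W = 2 * k) (hW : ∀ u ∈ W, (∀ v ∈ W, Cfsg.sympForm m F u v = 0) → u = 0) : Nonempty (↥(Cfsg.stabilizing (Cfsg.spToMat m F) (W : Set (Fin m ⊕ Fin m → F))) ≃* Matrix.symplecticGroup (Fin k) F × Matrix.symplecticGroup (Fin (m - k)) F) := by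
  have hAlt := omega_isAlt (F := F) m
  have hND := omega_nondegenerate (F := F) m
  have hrefl : (omega m F).IsRefl := hAlt.isRefl
  -- the restriction to `W` is nondegenerate
  have hWL : ((omega m F).restrict W).SeparatingLeft := by
    intro x hx
    apply Subtype.ext
    apply hW x.1 x.2
    intro v hv
    have := hx ⟨v, hv⟩
    rw [← omega_apply]
    exact this
  have hWND : ((omega m F).restrict W).Nondegenerate := by
    refine ⟨hWL, ?_⟩
    intro y hy
    apply hWL
    intro x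
    have h := hy x
    have hrefl' : ((omega m F).restrict W).IsRefl := fun a b hab => hrefl _ _ hab
    exact hrefl' _ _ h
  have hc : IsCompl W ((omega m F).orthogonal W) :=
    LinearMap.BilinForm.isCompl_orthogonal_of_restrict_nondegenerate hrefl hWND
  have hW'ND : ((omega m F).restrict ((omega m F).orthogonal W)).Nondegenerate := by
    rw [LinearMap.BilinForm.restrict_nondegenerate_iff_isCompl_orthogonal hrefl,
      LinearMap.BilinForm.orthogonal_orthogonal hND hrefl]
    exact hc.symm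
  have hdim : Module.finrank F ((omega m F).orthogonal W) = 2 * (m - k) := by
    rw [LinearMap.BilinForm.finrank_orthogonal hND, hWk]
    simp only [Module.finrank_fintype_fun_eq_card, Fintype.card_sum, Fintype.card_fin]
    omega
  obtain ⟨b₁, hb₁⟩ := exists_symp_basis ((omega m F).restrict W) (fun x => hAlt x) hWND k hWk
  obtain ⟨b₂, hb₂⟩ := exists_symp_basis ((omega m F).restrict ((omega m F).orthogonal W))
    (fun x => hAlt x) hW'ND (m - k) hdim
  set e := Submodule.prodEquivOfIsCompl W ((omega m F).orthogonal W) hc with he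
  set β := (b₁.prod b₂).map e with hβ
  have hβl : ∀ x, β (Sum.inl x) = (b₁ x : Fin m ⊕ Fin m → F) := by
    intro x
    rw [hβ, Module.Basis.map_apply, Module.Basis.prod_apply, he,
      Submodule.coe_prodEquivOfIsCompl']
    simp
  have hβr : ∀ y, β (Sum.inr y) = (b₂ y : Fin m ⊕ Fin m → F) := by
    intro y
    rw [hβ, Module.Basis.map_apply, Module.Basis.prod_apply, he,
      Submodule.coe_prodEquivOfIsCompl']
    simp
  have hG : LinearMap.BilinForm.toMatrix β (omega m F) = gram k (m - k) F := by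
    ext x y
    rw [LinearMap.BilinForm.toMatrix_apply]
    rcases x with x | x <;> rcases y with y | y
    · rw [hβl, hβl]
      exact hb₁ x y
    · rw [hβl, hβr]
      exact (b₂ y).2 _ (b₁ x).2
    · rw [hβr, hβl]
      exact hrefl _ _ ((b₂ x).2 _ (b₁ y).2)
    · rw [hβr, hβr]
      exact hb₂ x y
  have hWβ : ∀ v, v ∈ W ↔ ∀ y, β.repr v (Sum.inr y) = 0 := by
    intro v
    have hrepr : ∀ y, β.repr v (Sum.inr y) = b₂.repr (e.symm v).2 y := by
      intro y
      rw [hβ, Module.Basis.map_repr]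
      simp [Module.Basis.prod_repr_inr]
    constructor
    · intro hv y
      rw [hrepr]
      have : e.symm v = (⟨v, hv⟩, 0) :=
        Submodule.prodEquivOfIsCompl_symm_apply_left W _ hc ⟨v, hv⟩
      rw [this]
      simp
    · intro h
      have h2 : b₂.repr (e.symm v).2 = 0 := by
        ext y
        rw [← hrepr]
        exact h y
      have h3 : (e.symm v).2 = 0 := by
        simpa using h2
      have h4 : v = e (e.symm v) := (e.apply_symm_apply v).symm
      rw [he, Submodule.coe_prodEquivOfIsCompl'] at h4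
      rw [← he, h3] at h4
      rw [h4]
      simp
  exact ⟨stabEquiv β hG W hWβ⟩

end Cfsg.Agent.S0776
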