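import Cfsg.Statements.S2568
import Cfsg.Agent.Helper43.SSPrimeCls
import Cfsg.Agent.Helper43.SSFactorCount
import Cfsg.Agent.Helper43.TransvCount

set_option autoImplicit false
open Cfsg

namespace Cfsg.Agent.S2568

open Cfsg.Agent.Helper43 Polynomial UniqueFactorizationMonoid

/-- Number of conjugacy classes of elements of a given prime order r, coprime to the characteristic, in GL_n(q): if i is the multiplicative order of q modulo r and t = (r − 1)/i, the classes correspond to the non-zero t-tuples of natural numbers (a_1, …, a_t) with i(a_1 + ⋯ + a_t) ≤ n (a_j is the multiplicity of the j-th Frobenius orbit of nontrivial r-th roots of unity among the eigenvalues), so there are exactly C(⌊n/i⌋ + t, t) − 1 of them. -/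
theorem result {F : Type*} [Field F] [Fintype F] {p q : ℕ} [Fact p.Prime] [CharP F p] (hF : Fintype.card F = q) (n r i t : ℕ) (hr : r.Prime) (hrp : r ≠ p) (hi : i = orderOf (q : ZMod r)) (ht : t * i = r - 1) : Nat.card {C : ConjClasses (GL (Fin n) F) // ∃ g : GL (Fin n) F, ConjClasses.mk g = C ∧ orderOf g = r} = Nat.choose (n / i + t) t - 1 := by
  classical
  have hp : p.Prime := Fact.out
  haveI : Fact r.Prime := ⟨hr⟩
  rw [SS.card_classes_prime_order p n r hr hrp]
  obtain ⟨f, -, hcard⟩ := FiniteField.card F p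
  have hK : Fintype.card F = p ^ (f : ℕ) := hcard
  have hn : p.Coprime r := (Nat.coprime_primes hp hr).mpr hrp.symm
  have hrF : (r : F) ≠ 0 := by
    intro h0
    rw [CharP.cast_eq_zero_iff F p r] at h0
    exact hrp ((Nat.prime_dvd_prime_iff_eq hp hr).mp h0).symm
  -- the order
  have hord : orderOf (ZMod.unitOfCoprime (p ^ (f : ℕ)) (hn.pow_left f)) = i := by
    rw [hi, ← orderOf_units, ZMod.coe_unitOfCoprime, ← hK, hF]
  have hipos : 0 < i := by
    rw [← hord]
    exact orderOf_pos _
  have htot : Nat.totient r / i = t := by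
    rw [Nat.totient_prime hr]
    exact Nat.div_eq_of_eq_mul_left hipos ht.symm
  -- the irreducible factors of the cyclotomic polynomial
  set Φ : F[X] := cyclotomic r F with hΦ
  have hΦ0 : Φ ≠ 0 := cyclotomic_ne_zero r F
  let 𝔉 : Finset F[X] := (normalizedFactors Φ).toFinset
  have h𝔉card : 𝔉.card = t := by
    have := Polynomial.normalizedFactors_cyclotomic_card (K := F) (n := r) hK hn
    rw [hord, htot] at this
    exact this
  have h𝔉mem : ∀ P : F[X], P ∈ 𝔉 ↔ Irreducible P ∧ P.Monic ∧ P ∣ Φ := by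
    intro P
    rw [Multiset.mem_toFinset, Polynomial.mem_normalizedFactors_iff hΦ0]
  have h𝔉 : ∀ P ∈ 𝔉, P.Monic ∧ Irreducible P ∧ P.natDegree = i := by
    intro P hP
    rw [h𝔉mem] at hP
    refine ⟨hP.2.1, hP.1, ?_⟩
    rw [← hord]
    exact Polynomial.natDegree_of_dvd_cyclotomic_of_irreducible hK hn hP.2.2 hP.1
  set L : F[X] := X - 1 with hL
  have hLC : L = X - C 1 := by rw [hL, map_one]
  have hLm : L.Monic := by rw [hLC]; exact monic_X_sub_C 1
  have hLi : Irreducible L := by rw [hLC]; exact irreducible_X_sub_C 1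
  have hLd : L.natDegree = 1 := by rw [hLC]; exact natDegree_X_sub_C 1
  have hL𝔉 : L ∉ 𝔉 := by
    intro hmem
    rw [h𝔉mem] at hmem
    have h1 : (X - C (1 : F)) ∣ Φ := by rw [← hLC]; exact hmem.2.2
    rw [Polynomial.dvd_iff_isRoot, IsRoot, hΦ, eval_one_cyclotomic_prime] at h1
    exact hrF h1
  have hXr : (X ^ r - 1 : F[X]) = Φ * L := (cyclotomic_prime_mul_X_sub_one F r).symm
  have hfaciff : ∀ P : F[X], P.Monic → Irreducible P → (P ∣ (X ^ r - 1 : F[X]) ↔ P ∈ 𝔉 ∨ P = L) := by
    intro P hPm hPi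
    rw [hXr]
    constructor
    · intro hd
      rcases hPi.prime.dvd_or_dvd hd with h | h
      · left
        rw [h𝔉mem]
        exact ⟨hPi, hPm, h⟩
      · right
        exact eq_of_monic_of_associated hPm hLm (hPi.associated_of_dvd hLi h)
    · rintro (h | h)
      · rw [h𝔉mem] at h
        exact Dvd.dvd.mul_right h.2.2 L
      · rw [h]
        exact dvd_mul_left L Φ
  -- the count without the exclusion
  have hcount := SS.card_factor_polys 𝔉 i hipos L hLm hLi hLd hL𝔉 h𝔉 n
  rw [h𝔉card] at hcount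
  haveI hfin : Finite {f : F[X] // f.Monic ∧ f.natDegree = n ∧
      ∀ P : F[X], P.Monic → Irreducible P → P ∣ f → P ∈ 𝔉 ∨ P = L} := by
    apply Nat.finite_of_card_ne_zero
    rw [hcount]
    exact (Nat.choose_pos (Nat.le_add_left t (n / i))).ne'
  -- the excluded polynomial
  have hLn : (L ^ n).Monic ∧ (L ^ n).natDegree = n ∧
      ∀ P : F[X], P.Monic → Irreducible P → P ∣ L ^ n → P ∈ 𝔉 ∨ P = L := by
    refine ⟨hLm.pow n, by rw [hLm.natDegree_pow, hLd, mul_one], ?_⟩
    intro P hPm hPi hP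
    right
    exact eq_of_monic_of_associated hPm hLm
      (hPi.associated_of_dvd hLi (hPi.prime.dvd_of_dvd_pow hP))
  rw [← hcount, ← natCard_subtype_ne (⟨L ^ n, hLn⟩ : {f : F[X] // f.Monic ∧ f.natDegree = n ∧
      ∀ P : F[X], P.Monic → Irreducible P → P ∣ f → P ∈ 𝔉 ∨ P = L})]
  apply Nat.card_congr
  refine
    { toFun := fun f => ⟨⟨f.1, f.2.1, f.2.2.1, fun P hPm hPi hP =>
          (hfaciff P hPm hPi).mp (f.2.2.2.1 P hPm hPi hP)⟩, fun h => f.2.2.2.2 (congrArg Subtype.val h)⟩
      invFun := fun x => ⟨x.1.1, x.1.2.1, x.1.2.2.1, fun P hPm hPi hP =>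
          (hfaciff P hPm hPi).mpr (x.1.2.2.2 P hPm hPi hP), fun h => x.2 (Subtype.ext h)⟩
      left_inv := fun f => rfl
      right_inv := fun x => rfl }

end Cfsg.Agent.S2568
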