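import Cfsg.Statements.S2166
import Cfsg.Agent.S2167
import Cfsg.Agent.Helper36.SympInv

set_option autoImplicit false
open Cfsg

namespace Cfsg.Agent.S2166

open Matrix Module

variable {F : Type*} [Field F] {m : ℕ}

/-- the symplectic form as a bilinear form -/
noncomputable def Bf (m : ℕ) (F : Type*) [Field F] : LinearMap.BilinForm F (Fin m ⊕ Fin m → F) :=
  Matrix.toBilin' (Matrix.J (Fin m) F)

theorem Bf_apply (x y : Fin m ⊕ Fin m → F) : Bf m F x y = Cfsg.sympForm m F x y := by
  unfold Bf Cfsg.sympForm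
  rw [Matrix.toBilin'_apply']

theorem Bf_alt : (Bf m F).IsAlt := by
  intro x
  rw [Bf_apply]
  exact Cfsg.Agent.S2167.symp_self x

theorem Bf_nondeg : (Bf m F).Nondegenerate := by
  unfold Bf
  apply LinearMap.BilinForm.nondegenerate_toBilin'_of_det_ne_zero'
  exact (Matrix.isUnit_det_J (Fin m) F).ne_zero

/-- an involution in characteristic two is one plus a square-zero matrix -/
theorem sub_one_sq [CharP F 2] {ι : Type*} [Fintype ι] [DecidableEq ι] (A : Matrix ι ι F)
    (hA : A * A = 1) : (A - 1) * (A - 1) = 0 := by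
  have h2 : A + A = 0 := by
    ext i j
    simp only [Matrix.add_apply, Matrix.zero_apply]
    exact CharTwo.add_self_eq_zero _
  have h3 : (1 : Matrix ι ι F) + 1 = 0 := by
    ext i j
    simp only [Matrix.add_apply, Matrix.zero_apply]
    exact CharTwo.add_self_eq_zero _
  have : (A - 1) * (A - 1) = A * A - (A + A) + 1 := by
    rw [sub_mul, mul_sub, mul_sub, Matrix.one_mul, Matrix.mul_one, Matrix.mul_one]
    abel
  rw [this, hA, h2, sub_zero, h3]

/-- the data attached to a symplectic involution -/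
theorem data_of_involution [CharP F 2] (A : Matrix (Fin m ⊕ Fin m) (Fin m ⊕ Fin m) F)
    (hA : A ∈ Matrix.symplecticGroup (Fin m) F) (hA2 : A * A = 1) :
    (∀ x, (A - 1).mulVecLin ((A - 1).mulVecLin x) = 0) ∧
    (∀ x y, Bf m F ((A - 1).mulVecLin x) y = Bf m F x ((A - 1).mulVecLin y)) ∧
    (∀ v, Bf m F v ((A - 1).mulVecLin v) = Cfsg.sympForm m F v (A *ᵥ v)) := by
  refine ⟨?_, ?_, ?_⟩
  · intro x
    rw [Matrix.mulVecLin_apply, Matrix.mulVecLin_apply, Matrix.mulVec_mulVec, sub_one_sq A hA2,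
      Matrix.zero_mulVec]
  · intro x y
    rw [Bf_apply, Bf_apply, Matrix.mulVecLin_apply, Matrix.mulVecLin_apply, Matrix.sub_mulVec,
      Matrix.sub_mulVec, Matrix.one_mulVec, Matrix.one_mulVec]
    have h1 : Cfsg.sympForm m F (A *ᵥ x) y = Cfsg.sympForm m F x (A *ᵥ y) := by
      have := Cfsg.Agent.S2167.symp_pres hA (A *ᵥ x) y
      rw [Matrix.mulVec_mulVec, hA2, Matrix.one_mulVec] at this
      exact this.symm
    have e1 : Cfsg.sympForm m F (A *ᵥ x - x) y = Cfsg.sympForm m F (A *ᵥ x) y - Cfsg.sympForm m F x y := by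
      unfold Cfsg.sympForm
      rw [sub_dotProduct]
    have e2 : Cfsg.sympForm m F x (A *ᵥ y - y) = Cfsg.sympForm m F x (A *ᵥ y) - Cfsg.sympForm m F x y := by
      unfold Cfsg.sympForm
      rw [Matrix.mulVec_sub, dotProduct_sub]
    rw [e1, e2, h1]
  · intro v
    rw [Bf_apply, Matrix.mulVecLin_apply, Matrix.sub_mulVec, Matrix.one_mulVec]
    have e2 : Cfsg.sympForm m F v (A *ᵥ v - v) = Cfsg.sympForm m F v (A *ᵥ v) - Cfsg.sympForm m F v v := by
      unfold Cfsg.sympForm
      rw [Matrix.mulVec_sub, dotProduct_sub]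
    rw [e2, Cfsg.Agent.S2167.symp_self, sub_zero]

theorem coe_sq_of_orderOf (a : ↥(Matrix.symplecticGroup (Fin m) F)) (ha : orderOf a = 2) :
    (a : Matrix (Fin m ⊕ Fin m) (Fin m ⊕ Fin m) F) * (a : Matrix (Fin m ⊕ Fin m) (Fin m ⊕ Fin m) F) = 1 := by
  have h := pow_orderOf_eq_one a
  rw [ha, pow_two] at h
  have h' := congrArg Subtype.val h
  exact h'

theorem result {F : Type*} [Field F] [Fintype F] [CharP F 2] {m : ℕ} (hm : 2 ≤ m) (a b : ↥(Matrix.symplecticGroup (Fin m) F)) (ha : orderOf a = 2) (hb : orderOf b = 2) :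
    IsConj a b ↔ ((((a : ↥(Matrix.symplecticGroup (Fin m) F)) : Matrix (Fin m ⊕ Fin m) (Fin m ⊕ Fin m) F) - 1).rank = (((b : ↥(Matrix.symplecticGroup (Fin m) F)) : Matrix (Fin m ⊕ Fin m) (Fin m ⊕ Fin m) F) - 1).rank ∧
      (Even (((a : ↥(Matrix.symplecticGroup (Fin m) F)) : Matrix (Fin m ⊕ Fin m) (Fin m ⊕ Fin m) F) - 1).rank → Nat.card {v : Fin m ⊕ Fin m → F // Cfsg.sympForm m F v (Matrix.mulVec ((a : ↥(Matrix.symplecticGroup (Fin m) F)) : Matrix (Fin m ⊕ Fin m) (Fin m ⊕ Fin m) F) v) = 0} = Nat.card {v : Fin m ⊕ Fin m → F // Cfsg.sympForm m F v (Matrix.mulVec ((b : ↥(Matrix.symplecticGroup (Fin m) F)) : Matrix (Fin m ⊕ Fin m) (Fin m ⊕ Fin m) F) v) = 0})) := by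
  have hA2 := coe_sq_of_orderOf a ha
  have hB2 := coe_sq_of_orderOf b hb
  have hS2167a := Cfsg.Agent.S2167.result hm a ha
  have hS2167b := Cfsg.Agent.S2167.result hm b hb
  obtain ⟨A, hA⟩ := a
  obtain ⟨B, hB⟩ := b
  simp only at hA2 hB2 hS2167a hS2167b ⊢
  constructor
  · intro h
    obtain ⟨c, hc⟩ := isConj_iff.mp h
    have hc' : c * ⟨A, hA⟩ = ⟨B, hB⟩ * c := by rw [← hc]; group
    obtain ⟨C, hC⟩ := c
    have hm' : C * A = B * C := congrArg Subtype.val hc'
    have hdet : IsUnit C.det := SymplecticGroup.symplectic_det hC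
    constructor
    · have hm2 : C * (A - 1) = (B - 1) * C := by
        rw [mul_sub, sub_mul, hm', Matrix.mul_one, Matrix.one_mul]
      rw [← Matrix.rank_mul_eq_right_of_isUnit_det C _ hdet, hm2,
        Matrix.rank_mul_eq_left_of_isUnit_det C _ hdet]
    · intro _
      -- bijection v ↦ C v
      have hCinv : C⁻¹ * C = 1 := Matrix.nonsing_inv_mul C hdet
      have hCinv' : C * C⁻¹ = 1 := Matrix.mul_nonsing_inv C hdet
      apply Nat.card_congr
      refine
        { toFun := fun v => ⟨C *ᵥ v.1, ?_⟩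
          invFun := fun v => ⟨C⁻¹ *ᵥ v.1, ?_⟩
          left_inv := ?_
          right_inv := ?_ }
      · rw [Matrix.mulVec_mulVec, ← hm', ← Matrix.mulVec_mulVec, Cfsg.Agent.S2167.symp_pres hC]
        exact v.2
      · have hv := v.2
        have h1 : B *ᵥ v.1 = C *ᵥ (A *ᵥ (C⁻¹ *ᵥ v.1)) := by
          rw [Matrix.mulVec_mulVec, Matrix.mulVec_mulVec, hm', Matrix.mul_assoc, hCinv',
            Matrix.mul_one]
        have h2 : v.1 = C *ᵥ (C⁻¹ *ᵥ v.1) := by
          rw [Matrix.mulVec_mulVec, hCinv', Matrix.one_mulVec]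
        rw [h1] at hv
        rw [h2, Cfsg.Agent.S2167.symp_pres hC] at hv
        rw [← h2] at hv
        exact hv
      · intro v
        apply Subtype.ext
        show C⁻¹ *ᵥ (C *ᵥ v.1) = v.1
        rw [Matrix.mulVec_mulVec, hCinv, Matrix.one_mulVec]
      · intro v
        apply Subtype.ext
        show C *ᵥ (C⁻¹ *ᵥ v.1) = v.1
        rw [Matrix.mulVec_mulVec, hCinv', Matrix.one_mulVec]
  · rintro ⟨hrank, hcardeq⟩
    obtain ⟨hA_sq, hA_adj, hA_type⟩ := data_of_involution A hA hA2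
    obtain ⟨hB_sq, hB_adj, hB_type⟩ := data_of_involution B hB hB2
    have hsq : ∀ d : F, ∃ μ : F, μ * μ = d := by
      intro d
      obtain ⟨r, hr⟩ := FiniteField.isSquare_of_char_two (ringChar.eq F 2) d
      exact ⟨r, hr.symm⟩
    -- the type invariant
    have htype : (∀ v, Bf m F v ((A - 1).mulVecLin v) = 0) ↔ (∀ v, Bf m F v ((B - 1).mulVecLin v) = 0) := by
      simp only [hA_type, hB_type]
      -- card of the full space
      have hfull : ∀ (M : Matrix (Fin m ⊕ Fin m) (Fin m ⊕ Fin m) F),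
          (∀ v, Cfsg.sympForm m F v (M *ᵥ v) = 0) ↔
            Nat.card {v : Fin m ⊕ Fin m → F // Cfsg.sympForm m F v (M *ᵥ v) = 0} = Nat.card (Fin m ⊕ Fin m → F) := by
        intro M
        constructor
        · intro h
          apply Nat.card_congr
          exact Equiv.subtypeUnivEquiv h
        · intro h v
          by_contra hv
          classical
          have hlt : Nat.card {v : Fin m ⊕ Fin m → F // Cfsg.sympForm m F v (M *ᵥ v) = 0} < Nat.card (Fin m ⊕ Fin m → F) := by
            rw [Nat.card_eq_fintype_card, Nat.card_eq_fintype_card]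
            exact Fintype.card_subtype_lt hv
          omega
      constructor
      · intro h
        have hev := hS2167a.2 h
        rw [hfull] at h ⊢
        rw [← hcardeq hev]
        exact h
      · intro h
        have hev := hS2167b.2 h
        rw [← hrank] at hev
        rw [hfull] at h ⊢
        rw [hcardeq hev]
        exact h
    obtain ⟨g, hgiso, hgconj⟩ := Cfsg.Agent.Helper36.exists_isometry_conj_of_invariants hsq (Bf m F) Bf_alt Bf_nondeg
      (A - 1).mulVecLin (B - 1).mulVecLin hA_sq hA_adj hB_sq hB_adj hrank htype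
    let G : Matrix (Fin m ⊕ Fin m) (Fin m ⊕ Fin m) F :=
      LinearMap.toMatrix' (g : (Fin m ⊕ Fin m → F) →ₗ[F] (Fin m ⊕ Fin m → F))
    have hGv : ∀ v, G *ᵥ v = g v := by
      intro v
      show (LinearMap.toMatrix' (g : (Fin m ⊕ Fin m → F) →ₗ[F] (Fin m ⊕ Fin m → F))) *ᵥ v = g v
      rw [← Matrix.toLin'_apply, Matrix.toLin'_toMatrix']
      rfl
    have hGmem : G ∈ Matrix.symplecticGroup (Fin m) F := by
      rw [SymplecticGroup.mem_iff']
      apply Matrix.toBilin'.injective
      apply LinearMap.ext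
      intro x
      apply LinearMap.ext
      intro y
      rw [Matrix.toBilin'_apply', Matrix.toBilin'_apply']
      have := hgiso x y
      rw [Bf_apply, Bf_apply, ← hGv, ← hGv] at this
      unfold Cfsg.sympForm at this
      rw [← this, Matrix.mulVec_mulVec, Matrix.dotProduct_mulVec, Matrix.dotProduct_mulVec, Matrix.vecMul_mulVec,
        ← Matrix.mul_assoc]
    have hlin : (g : (Fin m ⊕ Fin m → F) →ₗ[F] (Fin m ⊕ Fin m → F)) ∘ₗ (A - 1).mulVecLin
        = (B - 1).mulVecLin ∘ₗ (g : (Fin m ⊕ Fin m → F) →ₗ[F] (Fin m ⊕ Fin m → F)) := by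
      refine LinearMap.ext fun x => ?_
      exact hgconj x
    have hGN : G * (A - 1) = (B - 1) * G := by
      have := congrArg LinearMap.toMatrix' hlin
      rw [LinearMap.toMatrix'_comp, LinearMap.toMatrix'_comp, ← Matrix.toLin'_apply', ← Matrix.toLin'_apply',
        LinearMap.toMatrix'_toLin', LinearMap.toMatrix'_toLin'] at this
      exact this
    have hGA : G * A = B * G := by
      rw [mul_sub, sub_mul, Matrix.mul_one, Matrix.one_mul] at hGN
      exact sub_left_injective hGN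
    rw [isConj_iff]
    let c : ↥(Matrix.symplecticGroup (Fin m) F) := ⟨G, hGmem⟩
    refine ⟨c, ?_⟩
    rw [mul_inv_eq_iff_eq_mul]
    apply Subtype.ext
    show G * A = B * G
    exact hGA

end Cfsg.Agent.S2166
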