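import Cfsg.Statements.S2593
import Cfsg.Agent.Helper43.SpInvB

set_option autoImplicit false
open Cfsg

namespace Cfsg.Agent.S2593

open Cfsg.Agent.Helper43.SpInv Matrix

/-- The odd positions below `m`. -/
def oddEquiv (m : ℕ) : {s : Fin m // Even (s.val + 1)} ≃ Fin (m / 2) where
  toFun s := ⟨s.1.val / 2, by
    obtain ⟨r, hr⟩ := s.2
    have := s.1.2
    omega⟩
  invFun j := ⟨⟨2 * j.val + 1, by have := j.2; omega⟩, ⟨j.val + 1, by simp only; omega⟩⟩
  left_inv s := by
    obtain ⟨r, hr⟩ := s.2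
    apply Subtype.ext
    apply Fin.ext
    simp only
    omega
  right_inv j := by
    apply Fin.ext
    simp only
    omega

/-- The index set of the classes. -/
def idxEquiv (m : ℕ) : {p : Fin m × Bool // p.2 = true → Even (p.1.val + 1)} ≃
    Fin m ⊕ {s : Fin m // Even (s.val + 1)} where
  toFun p := if h : p.1.2 = true then Sum.inr ⟨p.1.1, p.2 h⟩ else Sum.inl p.1.1
  invFun x := Sum.elim (fun s => ⟨(s, false), by simp⟩) (fun s => ⟨(s.1, true), fun _ => s.2⟩) x
  left_inv p := by
    obtain ⟨⟨s, b⟩, hp⟩ := p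
    cases b
    · simp
    · simp
  right_inv x := by
    rcases x with s | s
    · simp
    · simp

theorem card_idx (m : ℕ) :
    Nat.card {p : Fin m × Bool // p.2 = true → Even (p.1.val + 1)} = m + m / 2 := by
  rw [Nat.card_congr (idxEquiv m), Nat.card_sum, Nat.card_congr (oddEquiv m), Nat.card_fin,
    Nat.card_fin]

/-- Number of conjugacy classes of involutions in the symplectic group Sp_2m(F) over a finite field of characteristic two (m ≥ 1): for each s with 1 ≤ s ≤ m there is one class with rank(t − 1) = s if s is odd and two if s is even (according as v ↦ f(v, tv), f the symplectic form, vanishes identically or not), so m + ⌊m/2⌋ classes in all. -/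
theorem result {F : Type*} [Field F] [Fintype F] [CharP F 2] {m : ℕ} (hm : 1 ≤ m) : Nat.card {C : ConjClasses ↥(Matrix.symplecticGroup (Fin m) F) // ∃ g : Matrix.symplecticGroup (Fin m) F, ConjClasses.mk g = C ∧ orderOf g = 2} = m + m / 2 := by
  classical
  rw [← card_idx m]
  symm
  -- the representatives
  let T : {p : Fin m × Bool // p.2 = true → Even (p.1.val + 1)} → ↥(Matrix.symplecticGroup (Fin m) F) :=
    fun p => ⟨tS (Sm F m (p.1.1.val + 1) p.1.2), tS_mem (Sm_transpose _ _)⟩
  have hTrank : ∀ p, ((T p : Matrix (Fin m ⊕ Fin m) (Fin m ⊕ Fin m) F) - 1).rank = p.1.1.val + 1 := by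
    intro p
    show (tS (Sm F m (p.1.1.val + 1) p.1.2) - 1).rank = p.1.1.val + 1
    rw [rank_tS_sub_one, rank_Sm (by have := p.1.1.2; omega) p.1.2 p.2]
  have hTtau : ∀ p, tau (T p : Matrix (Fin m ⊕ Fin m) (Fin m ⊕ Fin m) F) ↔ p.1.2 = true := by
    intro p
    exact tau_tS_Sm (by omega) (by have := p.1.1.2; omega) p.1.2
  have hTord : ∀ p, orderOf (T p) = 2 := by
    intro p
    apply orderOf_eq_prime
    · rw [pow_two]
      apply Subtype.ext
      exact tS_mul_self _
    · intro h1
      have h2 := hTrank p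
      rw [h1] at h2
      simp at h2
  apply Nat.card_congr
  refine Equiv.ofBijective (fun p => ⟨ConjClasses.mk (T p), T p, rfl, hTord p⟩) ⟨?_, ?_⟩
  · intro p p' hpp
    have h1 : ConjClasses.mk (T p) = ConjClasses.mk (T p') := congrArg Subtype.val hpp
    rw [ConjClasses.mk_eq_mk_iff_isConj, isConj_iff_invariants _ _ (hTord p) (hTord p')] at h1
    obtain ⟨h2, h3⟩ := h1
    rw [hTrank, hTrank] at h2
    rw [hTtau, hTtau] at h3
    apply Subtype.ext
    apply Prod.ext
    · apply Fin.ext
      omega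
    · exact Bool.eq_iff_iff.mpr h3
  · rintro ⟨C, g, rfl, hg⟩
    obtain ⟨hr1, hr2⟩ := rank_bounds g hg
    let s : Fin m := ⟨((g : Matrix (Fin m ⊕ Fin m) (Fin m ⊕ Fin m) F) - 1).rank - 1, by omega⟩
    let b : Bool := decide (tau (g : Matrix (Fin m ⊕ Fin m) (Fin m ⊕ Fin m) F))
    have hs : s.val + 1 = ((g : Matrix (Fin m ⊕ Fin m) (Fin m ⊕ Fin m) F) - 1).rank := by
      show ((g : Matrix (Fin m ⊕ Fin m) (Fin m ⊕ Fin m) F) - 1).rank - 1 + 1 = _
      omega
    have hb : b = true ↔ tau (g : Matrix (Fin m ⊕ Fin m) (Fin m ⊕ Fin m) F) := by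
      simp [b]
    refine ⟨⟨(s, b), ?_⟩, ?_⟩
    · intro hbt
      show Even (s.val + 1)
      rw [hs]
      exact even_rank_of_tau (hb.mp hbt)
    · apply Subtype.ext
      show ConjClasses.mk (T ⟨(s, b), _⟩) = ConjClasses.mk g
      rw [ConjClasses.mk_eq_mk_iff_isConj, isConj_iff_invariants _ _ (hTord _) hg]
      refine ⟨?_, ?_⟩
      · rw [hTrank]
        exact hs
      · rw [hTtau]
        exact hb

end Cfsg.Agent.S2593
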