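import Cfsg.Statements.S1080

set_option autoImplicit false
open Cfsg

namespace Cfsg.Agent.S1080

open Cfsg.Lie

theorem xMat_map {F : Type*} [Field F] (D : ChevalleyDatum) (f : F →+* F) (r : Fin D.nroots) (t : F) :
    (D.xMat F r t).map f = D.xMat F r (f t) := by
  ext row col
  simp only [Matrix.map_apply, ChevalleyDatum.xMat, Matrix.of_apply]
  rcases col with i | s
  · rcases row with i' | u
    · simp only [apply_ite f, map_one, map_zero]
    · simp only [apply_ite f, map_zero, map_neg, map_mul, map_intCast]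
  · simp only
    split_ifs with h1 h2
    · rcases row with i' | u
      · simp
      · simp only [apply_ite f, map_one, map_zero]
    · rcases row with i' | u
      · simp only [map_mul, map_intCast]
      · simp only [apply_ite f, map_one, map_zero, map_neg, map_pow]
    · rcases row with i' | u
      · simp
      · simp only [map_add, apply_ite f, map_one, map_zero, map_list_sum, List.map_map]
        congr 2
        ext km
        simp [map_mul, map_intCast, map_pow]

theorem x_map {F : Type*} [Field F] (D : ChevalleyDatum) (f : F →+* F) (r : ℕ) (t : F) :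
    (D.x F r t).map f = D.x F r (f t) := by
  unfold ChevalleyDatum.x
  split_ifs with h
  · exact xMat_map D f ⟨r, h⟩ t
  · ext i j
    simp [Matrix.map_apply, Matrix.one_apply, apply_ite f]

/-- The automorphism of `GL` induced by a field automorphism. -/
noncomputable def glEquiv {F : Type*} [Field F] (D : ChevalleyDatum) (f : F ≃+* F) :
    GL D.Idx F ≃* GL D.Idx F :=
  Units.mapEquiv (RingEquiv.mapMatrix f).toMulEquiv

theorem glEquiv_coe {F : Type*} [Field F] (D : ChevalleyDatum) (f : F ≃+* F) (g : GL D.Idx F) :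
    ((glEquiv D f g : GL D.Idx F) : Matrix D.Idx D.Idx F) = (g : Matrix D.Idx D.Idx F).map f := by
  rfl

theorem glEquiv_symm_coe {F : Type*} [Field F] (D : ChevalleyDatum) (f : F ≃+* F) (g : GL D.Idx F) :
    (((glEquiv D f).symm g : GL D.Idx F) : Matrix D.Idx D.Idx F) = (g : Matrix D.Idx D.Idx F).map f.symm := by
  rfl

theorem map_group {F : Type*} [Field F] (D : ChevalleyDatum) (f : F ≃+* F) :
    (D.group F).map (glEquiv D f).toMonoidHom = D.group F := by
  unfold ChevalleyDatum.group
  rw [MonoidHom.map_closure]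
  congr 1
  ext g
  simp only [Set.mem_image, Set.mem_ofPred_eq]
  constructor
  · rintro ⟨g', ⟨r, t, hg'⟩, rfl⟩
    refine ⟨r, f t, ?_⟩
    show ((glEquiv D f g' : GL D.Idx F) : Matrix D.Idx D.Idx F) = _
    rw [glEquiv_coe, hg']
    exact xMat_map D (f : F →+* F) r t
  · rintro ⟨r, t, hg⟩
    refine ⟨(glEquiv D f).symm g, ⟨r, f.symm t, ?_⟩, ?_⟩
    · rw [glEquiv_symm_coe, hg]
      exact xMat_map D (f.symm : F →+* F) r t
    · show glEquiv D f ((glEquiv D f).symm g) = g
      simp

/-- Field automorphisms: for every field automorphism `f` there is a group automorphism sending each `x_r(t)` to `x_r(f t)`. -/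
theorem result {F : Type*} [Field F] (D : Cfsg.Lie.ChevalleyDatum) (hD : D ∈ [Cfsg.Lie.chevG2, Cfsg.Lie.chevB2, Cfsg.Lie.chevD4, Cfsg.Lie.chevF4, Cfsg.Lie.chevE6, Cfsg.Lie.chevE7, Cfsg.Lie.chevE8]) (f : F ≃+* F) :
    ∃ α : ↥(D.group F) ≃* ↥(D.group F), ∀ (g : ↥(D.group F)) (r : ℕ) (t : F), r < D.nroots →
      ((g : GL D.Idx F) : Matrix D.Idx D.Idx F) = D.x F r t → ((α g : GL D.Idx F) : Matrix D.Idx D.Idx F) = D.x F r (f t) := by
  refine ⟨((glEquiv D f).subgroupMap (D.group F)).trans (MulEquiv.subgroupCongr (map_group D f)), ?_⟩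
  intro g r t _ hg
  show ((glEquiv D f (g : GL D.Idx F) : GL D.Idx F) : Matrix D.Idx D.Idx F) = _
  rw [glEquiv_coe, hg]
  exact x_map D (f : F →+* F) r t

end Cfsg.Agent.S1080
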