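import Cfsg.Statements.S1081
import Cfsg.Agent.Helper40.GraphAut

set_option autoImplicit false
open Cfsg

namespace Cfsg.Agent.S1081

open Cfsg.Lie Cfsg.Agent.Helper40.GraphAut

/-- case 0: the node permutation, its inverse, the root permutation, its inverse, the signs -/
def rho0 : ℕ → ℕ := fun i => ([5, 1, 4, 3, 2, 0] : List ℕ).getD i 0
def rhoInv0 : ℕ → ℕ := fun i => ([5, 1, 4, 3, 2, 0] : List ℕ).getD i 0
def pi0 : ℕ → ℕ := fun i => ([0, 1, 2, 5, 16, 3, 6, 17, 8, 19, 22, 11, 26, 30, 33, 35, 4, 7, 18, 9, 20, 23, 10, 21, 24, 25, 12, 27, 31, 34, 13, 28, 32, 14, 29, 15, 56, 42, 57, 39, 43, 58, 37, 40, 44, 59, 46, 47, 50, 61, 48, 51, 62, 53, 64, 67, 36, 38, 41, 45, 60, 49, 52, 63, 54, 65, 68, 55, 66, 69, 70, 71] : List ℕ).getD i 0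
def piInv0 : ℕ → ℕ := fun i => ([0, 1, 2, 5, 16, 3, 6, 17, 8, 19, 22, 11, 26, 30, 33, 35, 4, 7, 18, 9, 20, 23, 10, 21, 24, 25, 12, 27, 31, 34, 13, 28, 32, 14, 29, 15, 56, 42, 57, 39, 43, 58, 37, 40, 44, 59, 46, 47, 50, 61, 48, 51, 62, 53, 64, 67, 36, 38, 41, 45, 60, 49, 52, 63, 54, 65, 68, 55, 66, 69, 70, 71] : List ℕ).getD i 0
def eps0 : ℕ → ℤ := fun i => ([1, 1, 1, 1, -1, 1, 1, -1, 1, -1, -1, 1, -1, 1, -1, 1, -1, -1, 1, -1, 1, 1, -1, 1, 1, 1, -1, 1, -1, 1, 1, -1, 1, -1, 1, 1, 1, 1, -1, 1, -1, 1, 1, -1, 1, -1, 1, 1, 1, -1, 1, 1, -1, 1, -1, -1, 1, -1, 1, -1, 1, -1, -1, 1, -1, 1, 1, -1, 1, 1, 1, 1] : List ℤ).getD i 0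
theorem allOK0 : allOK chevE6 rho0 rhoInv0 pi0 piInv0 eps0 = true := by decide +kernel

/-- case 1: the node permutation, its inverse, the root permutation, its inverse, the signs -/
def rho1 : ℕ → ℕ := fun i => ([2, 1, 3, 0] : List ℕ).getD i 0
def rhoInv1 : ℕ → ℕ := fun i => ([3, 1, 0, 2] : List ℕ).getD i 0
def pi1 : ℕ → ℕ := fun i => ([0, 1, 6, 2, 7, 10, 3, 8, 4, 9, 11, 5, 18, 12, 14, 19, 15, 20, 13, 16, 21, 17, 22, 23] : List ℕ).getD i 0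
def piInv1 : ℕ → ℕ := fun i => ([0, 1, 3, 6, 8, 11, 2, 4, 7, 9, 5, 10, 13, 18, 14, 16, 19, 21, 12, 15, 17, 20, 22, 23] : List ℕ).getD i 0
def eps1 : ℕ → ℤ := fun i => ([1, 1, -1, 1, -1, 1, -1, 1, -1, 1, 1, 1, 1, 1, 1, -1, 1, -1, 1, -1, 1, -1, 1, 1] : List ℤ).getD i 0
theorem allOK1 : allOK chevD4 rho1 rhoInv1 pi1 piInv1 eps1 = true := by decide +kernel

/-- case 2: the node permutation, its inverse, the root permutation, its inverse, the signs -/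
def rho2 : ℕ → ℕ := fun i => ([3, 1, 0, 2] : List ℕ).getD i 0
def rhoInv2 : ℕ → ℕ := fun i => ([2, 1, 3, 0] : List ℕ).getD i 0
def pi2 : ℕ → ℕ := fun i => ([0, 1, 3, 6, 8, 11, 2, 4, 7, 9, 5, 10, 13, 18, 14, 16, 19, 21, 12, 15, 17, 20, 22, 23] : List ℕ).getD i 0
def piInv2 : ℕ → ℕ := fun i => ([0, 1, 6, 2, 7, 10, 3, 8, 4, 9, 11, 5, 18, 12, 14, 19, 15, 20, 13, 16, 21, 17, 22, 23] : List ℕ).getD i 0
def eps2 : ℕ → ℤ := fun i => ([1, 1, 1, -1, -1, 1, -1, -1, 1, 1, 1, 1, 1, 1, 1, 1, -1, -1, 1, -1, -1, 1, 1, 1] : List ℤ).getD i 0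
theorem allOK2 : allOK chevD4 rho2 rhoInv2 pi2 piInv2 eps2 = true := by decide +kernel

/-- Graph automorphisms: for E₆ with ρ = (p₁ p₆)(p₃ p₅) and for D₄ with ρ the 3-cycle on the outer nodes there is a group automorphism sending `x_p(t) ↦ x_{ρ(p)}(t)` and `x_{-p}(t) ↦ x_{-ρ(p)}(t)` for every fundamental root `p`. -/
theorem result {F : Type*} [Field F] (p : Cfsg.Lie.ChevalleyDatum × List ℕ)
    (hp : p ∈ [(Cfsg.Lie.chevE6, [5, 1, 4, 3, 2, 0]), (Cfsg.Lie.chevD4, [2, 1, 3, 0]), (Cfsg.Lie.chevD4, [3, 1, 0, 2])]) :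
    ∃ α : ↥(p.1.group F) ≃* ↥(p.1.group F), ∀ (g : ↥(p.1.group F)) (i : ℕ) (t : F), i < p.1.rank →
      (((g : GL p.1.Idx F) : Matrix p.1.Idx p.1.Idx F) = p.1.x F (p.1.simple i) t →
        ((α g : GL p.1.Idx F) : Matrix p.1.Idx p.1.Idx F) = p.1.x F (p.1.simple (p.2.getD i 0)) t) ∧
      (((g : GL p.1.Idx F) : Matrix p.1.Idx p.1.Idx F) = p.1.x F (p.1.neg (p.1.simple i)) t →
        ((α g : GL p.1.Idx F) : Matrix p.1.Idx p.1.Idx F) = p.1.x F (p.1.neg (p.1.simple (p.2.getD i 0))) t) := by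
  simp only [List.mem_cons, List.not_mem_nil, or_false] at hp
  rcases hp with rfl | rfl | rfl
  · exact exists_graph_aut chevE6 rho0 rhoInv0 pi0 piInv0 eps0 allOK0
  · exact exists_graph_aut chevD4 rho1 rhoInv1 pi1 piInv1 eps1 allOK1
  · exact exists_graph_aut chevD4 rho2 rhoInv2 pi2 piInv2 eps2 allOK2

end Cfsg.Agent.S1081
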