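import Cfsg.Statements.S0042
import Cfsg.Agent.Helper75.FrobeniusKernel
import Cfsg.Agent.Helper1.FpfThompson

set_option autoImplicit false
open Cfsg
open scoped Pointwise

namespace Cfsg.Agent.S0042

/-- In a finite Frobenius group, the Frobenius kernel is (the carrier of) a normal subgroup which is nilpotent. -/
theorem result {G : Type*} [Group G] [Finite G] (H : Subgroup G) (hH : Cfsg.IsFrobeniusComplement H) :
    ∃ N : Subgroup G, (N : Set G) = Cfsg.frobeniusKernel H ∧ N.Normal ∧ Group.IsNilpotent N := by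
  obtain ⟨N, hNset, hNn, hNc⟩ := Cfsg.Agent.Helper75.frobenius_kernel_theorem H hH
  refine ⟨N, hNset, hNn, ?_⟩
  haveI := hNn
  -- an element of prime order in `H`
  have hHne : Nat.card H ≠ 1 := fun h => hH.1 (Subgroup.card_eq_one.mp h)
  obtain ⟨r, hr, hrd⟩ := Nat.exists_prime_and_dvd hHne
  haveI : Fact r.Prime := ⟨hr⟩
  obtain ⟨h, hh⟩ := exists_prime_orderOf_dvd_card' (G := ↥H) r hrd
  have hh' : orderOf (h : G) = r := by rw [Subgroup.orderOf_coe]; exact hh
  have hh1 : (h : G) ≠ 1 := by
    intro h1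
    rw [h1, orderOf_one] at hh'
    exact hr.one_lt.ne hh'
  apply Cfsg.Agent.Helper1.fpf_prime_nilpotent hr (MulAut.conjNormal (H := N) (h : G))
  · intro n hn
    have h1 : (h : G) * n * (h : G)⁻¹ = n := by
      have := congrArg Subtype.val hn
      simpa [MulAut.conjNormal_apply] using this
    have hcomm : (n : G) * h * (n : G)⁻¹ = h := by
      have : (h : G) * n = n * h := mul_inv_eq_iff_eq_mul.mp h1
      rw [← this]
      group
    have hnH : (n : G) ∈ H := by
      by_contra hnot
      have h2 := hH.2.2 (n : G) hnot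
      have h3 : (h : G) ∈ H ⊓ (MulAut.conj (n : G) • H) := by
        refine Subgroup.mem_inf.mpr ⟨h.2, ?_⟩
        rw [Subgroup.mem_pointwise_smul_iff_inv_smul_mem]
        simp only [MulAut.smul_def, ← map_inv, MulAut.conj_apply, inv_inv]
        have : (n : G)⁻¹ * h * n = h := by
          have h5 : (n : G) * h = h * n := mul_inv_eq_iff_eq_mul.mp hcomm
          rw [mul_assoc, ← h5, inv_mul_cancel_left]
        rw [this]
        exact h.2
      rw [h2, Subgroup.mem_bot] at h3
      exact hh1 h3
    have h4 : (n : G) ∈ N ⊓ H := Subgroup.mem_inf.mpr ⟨n.2, hnH⟩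
    rw [hNc.disjoint.eq_bot, Subgroup.mem_bot] at h4
    exact Subtype.ext h4
  · rw [← map_pow, ← hh', pow_orderOf_eq_one, map_one]

end Cfsg.Agent.S0042
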