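import Cfsg.Statements.S0039

set_option autoImplicit false
open Cfsg

namespace Cfsg.Agent.S0039

open Subgroup Pointwise

/-- In a finite group that is a semidirect product of a normal subgroup K by a nontrivial subgroup H, H is a Frobenius complement exactly when each nonidentity element of H acts without nonidentity fixed points on K by conjugation. -/
theorem result {G : Type*} [Group G] [Finite G] (K H : Subgroup G) [K.Normal]
    (hc : Subgroup.IsComplement' K H) (hK : K ≠ ⊥) (hH : H ≠ ⊥) :
    Cfsg.IsFrobeniusComplement H ↔ ∀ h ∈ H, h ≠ 1 → K ⊓ Subgroup.centralizer {h} = ⊥ := by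
  have hdisj : K ⊓ H = ⊥ := disjoint_iff.mp hc.disjoint
  constructor
  · rintro ⟨-, -, hF⟩ h hh hh1
    rw [eq_bot_iff]
    intro k hk
    rw [Subgroup.mem_bot]
    obtain ⟨hkK, hkC⟩ := Subgroup.mem_inf.mp hk
    rw [Subgroup.mem_centralizer_iff] at hkC
    have hcomm : h * k = k * h := hkC h rfl
    by_cases hkH : k ∈ H
    · have : k ∈ K ⊓ H := Subgroup.mem_inf.mpr ⟨hkK, hkH⟩
      rw [hdisj] at this
      exact this
    · exfalso
      have h1 := hF k hkH
      have h2 : h ∈ H ⊓ MulAut.conj k • H := by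
        refine Subgroup.mem_inf.mpr ⟨hh, ?_⟩
        rw [Subgroup.mem_smul_pointwise_iff_exists]
        refine ⟨h, hh, ?_⟩
        rw [MulAut.smul_def, MulAut.conj_apply, ← hcomm]
        simp
      rw [h1] at h2
      exact hh1 h2
  · intro hfpf
    refine ⟨hH, ?_, ?_⟩
    · intro htop
      rw [htop, isComplement'_top_right] at hc
      exact hK hc
    · intro g hg
      obtain ⟨⟨⟨k, hk⟩, ⟨h', hh'⟩⟩, hkh⟩ := hc.2 g
      simp only at hkh
      have hk1 : k ≠ 1 := by
        rintro rfl
        rw [one_mul] at hkh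
        exact hg (hkh ▸ hh')
      rw [eq_bot_iff]
      intro x hx
      rw [Subgroup.mem_bot]
      obtain ⟨hxH, hxc⟩ := Subgroup.mem_inf.mp hx
      rw [Subgroup.mem_smul_pointwise_iff_exists] at hxc
      obtain ⟨y, hy, hyx⟩ := hxc
      rw [MulAut.smul_def, MulAut.conj_apply] at hyx
      set y' := h' * y * h'⁻¹ with hy'
      have hy'H : y' ∈ H := H.mul_mem (H.mul_mem hh' hy) (H.inv_mem hh')
      have hx_eq : x = k * y' * k⁻¹ := by
        rw [← hyx, ← hkh, hy']; simp [mul_assoc]
      have hxy : x * y'⁻¹ ∈ K ⊓ H := by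
        refine Subgroup.mem_inf.mpr ⟨?_, H.mul_mem hxH (H.inv_mem hy'H)⟩
        have h1 : x * y'⁻¹ = k * (y' * k⁻¹ * y'⁻¹) := by rw [hx_eq]; simp [mul_assoc]
        rw [h1]
        exact K.mul_mem hk ((inferInstance : K.Normal).conj_mem _ (K.inv_mem hk) y')
      rw [hdisj, Subgroup.mem_bot] at hxy
      have hxy' : x = y' := by
        have := mul_inv_eq_one.mp hxy
        exact this
      by_contra hx1
      have hkc : k ∈ K ⊓ Subgroup.centralizer {x} := by
        refine Subgroup.mem_inf.mpr ⟨hk, ?_⟩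
        rw [Subgroup.mem_centralizer_iff]
        intro z hz
        rw [Set.mem_singleton_iff] at hz
        subst hz
        rw [← hxy'] at hx_eq
        calc z * k = (k * z * k⁻¹) * k := by rw [← hx_eq]
          _ = k * z := by simp [mul_assoc]
      rw [hfpf x hxH hx1, Subgroup.mem_bot] at hkc
      exact hk1 hkc

end Cfsg.Agent.S0039
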