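-- Statement S4341: M. Hall's product formula for Sylow numbers over a normal subgroup.
import Cfsg.Statements.S4341
import Cfsg.Agent.Helper10.Card

set_option autoImplicit false
open Cfsg

namespace Cfsg.Agent.S4341

open Subgroup

variable {G : Type*} [Group G]

/-- Relative Frattini argument: if the Sylow `p`-subgroup `P` of `G` lies in `H`, then
`N_G(H) ≤ N_G(P) ⊔ H`. -/
theorem normalizer_le_sup [Finite G] {p : ℕ} [Fact p.Prime] (P : Sylow p G) (H : Subgroup G)
    (hPH : (P : Subgroup G) ≤ H) :
    normalizer (H : Set G) ≤ normalizer ((P : Subgroup G) : Set G) ⊔ H := by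
  intro g hg
  -- `g • P ≤ H`
  have hQ : ((g • P : Sylow p G) : Subgroup G) ≤ H := by
    intro x hx
    rw [Sylow.coe_subgroup_smul, Subgroup.mem_pointwise_smul_iff_inv_smul_mem] at hx
    have hx' : g⁻¹ * x * g ∈ H := by
      have := hPH hx
      simpa [MulAut.smul_def] using this
    have := (mem_normalizer_iff.mp hg (g⁻¹ * x * g)).mp hx'
    simpa [mul_assoc] using this
  obtain ⟨h, hh⟩ := MulAction.exists_smul_eq H (P.subtype hPH) ((g • P).subtype hQ)
  rw [Sylow.smul_subtype hPH h] at hh
  have hh' : (h : G) • P = g • P := Sylow.subtype_injective hh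
  have hmem : (h : G)⁻¹ * g ∈ normalizer ((P : Subgroup G) : Set G) := by
    have : ((h : G)⁻¹ * g) • P = P := by
      rw [mul_smul, ← hh', ← mul_smul, inv_mul_cancel, one_smul]
    exact Sylow.smul_eq_iff_mem_normalizer.mp this
  have : g = (h : G) * ((h : G)⁻¹ * g) := by group
  rw [this, sup_comm]
  exact Subgroup.mul_mem_sup h.2 hmem

theorem normalizer_inf_le (A B : Subgroup G) :
    normalizer (A : Set G) ⊓ normalizer (B : Set G) ≤ normalizer ((A ⊓ B : Subgroup G) : Set G) := by
  intro g hg
  rw [mem_normalizer_iff]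
  intro x
  rw [Subgroup.mem_inf, Subgroup.mem_inf, mem_normalizer_iff.mp hg.1 x, mem_normalizer_iff.mp hg.2 x]

theorem card_mul_relIndex {A B : Subgroup G} (h : A ≤ B) :
    Nat.card A * A.relIndex B = Nat.card B := by
  rw [← Subgroup.relIndex_bot_left, ← Subgroup.relIndex_bot_left,
    Subgroup.relIndex_mul_relIndex _ _ _ bot_le h]

theorem card_sylow_eq [Finite G] {p : ℕ} [Fact p.Prime] (Q : Sylow p G) :
    Nat.card (Sylow p G) = (normalizer ((Q : Subgroup G) : Set G)).index :=
  Q.card_eq_index_normalizer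

/-- Pure arithmetic core of the product formula. -/
theorem arith {a b c d g nNP nNH nK nKND nN nNPH nH nD nP : ℕ}
    (ha : a * nNP = g) (hb : b * nNH = g) (hc : c * nKND = nK) (hd : d * nNPH = nN)
    (F1 : nNH * nNPH = nNP * nH) (F2 : nH * nD = nP * nK) (F3 : nN * nD = nP * nKND)
    (hD : 0 < nD) (hP : 0 < nP) (hNP : 0 < nNP) (hH : 0 < nH) (hKND : 0 < nKND) (hNH : 0 < nNH)
    (hNPH : 0 < nNPH) :
    a = b * c * d := by
  have h1 : nH * nKND = nK * nN := by
    apply Nat.eq_of_mul_eq_mul_left (Nat.mul_pos hD hP)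
    calc (nD * nP) * (nH * nKND) = (nH * nD) * (nP * nKND) := by ring
      _ = (nP * nK) * (nN * nD) := by rw [F2, F3]
      _ = (nD * nP) * (nK * nN) := by ring
  apply Nat.eq_of_mul_eq_mul_right hNP
  rw [ha]
  apply Nat.eq_of_mul_eq_mul_right (Nat.mul_pos (Nat.mul_pos hNH hKND) hNPH)
  calc g * (nNH * nKND * nNPH) = g * (nKND * (nNH * nNPH)) := by ring
    _ = g * (nKND * (nNP * nH)) := by rw [F1]
    _ = g * nNP * (nH * nKND) := by ring
    _ = g * nNP * (nK * nN) := by rw [h1]
    _ = (b * nNH) * nNP * ((c * nKND) * (d * nNPH)) := by rw [hb, hc, hd]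
    _ = b * c * d * nNP * (nNH * nKND * nNPH) := by ring

/-- Let K be a normal subgroup of a finite group G, p a prime and P a Sylow p-subgroup of G; let N be the normalizer of P ∩ K inside the subgroup PK. Then the number of Sylow p-subgroups of G equals the product of the numbers of Sylow p-subgroups of G/K, of K, and of N/(P ∩ K). (The normality of P ∩ K in N, which always holds, is assumed as a hypothesis so that the quotient can be formed.) -/
theorem result {G : Type*} [Group G] [Finite G]
    (p : ℕ) [Fact p.Prime] (K : Subgroup G) [K.Normal] (P : Sylow p G) (N : Subgroup G)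
    (hN : N = ((P : Subgroup G) ⊔ K) ⊓ Subgroup.normalizer (((P : Subgroup G) ⊓ K : Subgroup G) : Set G))
    [hn : (((P : Subgroup G) ⊓ K).subgroupOf N).Normal] :
    Nat.card (Sylow p G) =
      Nat.card (Sylow p (G ⧸ K)) * Nat.card (Sylow p K) * Nat.card (Sylow p (N ⧸ ((P : Subgroup G) ⊓ K).subgroupOf N)) := by
  classical
  -- notation
  set NP : Subgroup G := normalizer ((P : Subgroup G) : Set G) with hNP
  set H : Subgroup G := (P : Subgroup G) ⊔ K with hH
  set NH : Subgroup G := normalizer (H : Set G) with hNH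
  set D : Subgroup G := (P : Subgroup G) ⊓ K with hD
  set ND : Subgroup G := normalizer (D : Set G) with hND
  have hPH : (P : Subgroup G) ≤ H := le_sup_left
  have hKH : K ≤ H := le_sup_right
  have hDP : D ≤ (P : Subgroup G) := inf_le_left
  have hDK : D ≤ K := inf_le_right
  have hKtop : normalizer (K : Set G) = ⊤ := Subgroup.normalizer_eq_top K
  -- `N_G(P) ≤ N_G(D)` and `N_G(P) ≤ N_G(H)`
  have hNPND : NP ≤ ND := by
    refine le_trans ?_ (normalizer_inf_le (P : Subgroup G) K)
    rw [hKtop, inf_top_eq]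
  have hNPNH : NP ≤ NH := by
    intro g hg
    rw [hNH, mem_normalizer_iff]
    intro x
    have hconj : ∀ (g : G), g ∈ NP → ∀ x, x ∈ H → g * x * g⁻¹ ∈ H := by
      intro g hg x hx
      have hx' : x ∈ ((H : Subgroup G) : Set G) := hx
      rw [hH, Subgroup.mul_normal] at hx'
      obtain ⟨a, ha, k, hk, rfl⟩ := hx'
      have h1 : g * a * g⁻¹ ∈ (P : Subgroup G) := (mem_normalizer_iff.mp hg a).mp ha
      have h2 : g * k * g⁻¹ ∈ K := ‹K.Normal›.conj_mem k hk g
      have : g * (a * k) * g⁻¹ = (g * a * g⁻¹) * (g * k * g⁻¹) := by group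
      rw [this]
      exact Subgroup.mul_mem _ (hPH h1) (hKH h2)
    constructor
    · exact hconj g hg x
    · intro hx
      have := hconj g⁻¹ (NP.inv_mem hg) _ hx
      simpa [mul_assoc] using this
  have hPND : (P : Subgroup G) ≤ ND := le_trans le_normalizer hNPND
  have hPN : (P : Subgroup G) ≤ N := by rw [hN]; exact le_inf hPH hPND
  have hDN : D ≤ N := hDP.trans hPN
  -- (S1)
  have S1 : Nat.card (Sylow p G) = NP.index := card_sylow_eq P
  -- (S2)
  have S2 : Nat.card (Sylow p (G ⧸ K)) = NH.index := by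
    have hf : Function.Surjective (QuotientGroup.mk' K) := QuotientGroup.mk'_surjective K
    rw [card_sylow_eq (P.mapSurjective hf)]
    rw [← Subgroup.index_comap_of_surjective _ hf]
    congr 1
    rw [Subgroup.comap_normalizer_eq_of_surjective _ hf]
    have : ((P.mapSurjective hf : Sylow p (G ⧸ K)) : Subgroup (G ⧸ K)) =
        (P : Subgroup G).map (QuotientGroup.mk' K) := rfl
    rw [hNH, hH]
    congr 2
    rw [Sylow.coe_mapSurjective, Subgroup.comap_map_eq, QuotientGroup.ker_mk']
  -- card facts
  have F2 : Nat.card H * Nat.card D = Nat.card (P : Subgroup G) * Nat.card K :=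
    Cfsg.Agent.Helper10.card_sup_mul_card_inf (P : Subgroup G) K (by rw [hKtop]; exact le_top)
  -- `D` is a Sylow subgroup of `K`
  have hDpK : IsPGroup p (D.subgroupOf K) :=
    (P.2.to_le hDP).comap_subtype
  have hDidx : ¬ p ∣ (D.subgroupOf K).index := by
    have h1 : Nat.card D * D.relIndex K = Nat.card K := card_mul_relIndex hDK
    have h2 : Nat.card (P : Subgroup G) * (P : Subgroup G).relIndex H = Nat.card H :=
      card_mul_relIndex hPH
    have h3 : D.relIndex K = (P : Subgroup G).relIndex H := by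
      apply Nat.eq_of_mul_eq_mul_left
        (Nat.mul_pos (Nat.card_pos (α := D)) (Nat.card_pos (α := (P : Subgroup G))))
      calc Nat.card D * Nat.card (P : Subgroup G) * D.relIndex K
          = (Nat.card D * D.relIndex K) * Nat.card (P : Subgroup G) := by ring
        _ = Nat.card (P : Subgroup G) * Nat.card K := by rw [h1]; ring
        _ = Nat.card H * Nat.card D := F2.symm
        _ = (Nat.card (P : Subgroup G) * (P : Subgroup G).relIndex H) * Nat.card D := by rw [h2]
        _ = Nat.card D * Nat.card (P : Subgroup G) * (P : Subgroup G).relIndex H := by ring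
    show ¬ p ∣ D.relIndex K
    rw [h3]
    intro hdvd
    exact P.not_dvd_index (hdvd.trans (Subgroup.relIndex_dvd_index_of_le hPH))
  -- (S3)
  have S3 : Nat.card (Sylow p K) = ND.relIndex K := by
    rw [card_sylow_eq (hDpK.toSylow hDidx)]
    have : ((hDpK.toSylow hDidx : Sylow p K) : Subgroup K) = D.subgroupOf K := rfl
    rw [this, ← Subgroup.subgroupOf_normalizer_eq hDK]
    rfl
  -- (S4)
  have S4 : Nat.card (Sylow p (N ⧸ D.subgroupOf N)) = NP.relIndex N := by
    have hf : Function.Surjective (QuotientGroup.mk' (D.subgroupOf N)) :=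
      QuotientGroup.mk'_surjective _
    rw [card_sylow_eq ((P.subtype hPN).mapSurjective hf)]
    rw [← Subgroup.index_comap_of_surjective _ hf, Subgroup.comap_normalizer_eq_of_surjective _ hf]
    rw [Sylow.coe_mapSurjective, Subgroup.comap_map_eq, QuotientGroup.ker_mk', Sylow.coe_subtype]
    have : (P : Subgroup G).subgroupOf N ⊔ D.subgroupOf N = (P : Subgroup G).subgroupOf N := by
      apply sup_eq_left.mpr
      exact Subgroup.comap_mono hDP
    rw [this, ← Subgroup.subgroupOf_normalizer_eq hPN]
    rfl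
  -- F1
  have hFr : NP ⊔ H = NH := le_antisymm (sup_le hNPNH le_normalizer) (normalizer_le_sup P H hPH)
  have F1 : Nat.card NH * Nat.card (NP ⊓ H : Subgroup G) = Nat.card NP * Nat.card H := by
    have := Cfsg.Agent.Helper10.card_sup_mul_card_inf NP H hNPNH
    rwa [hFr] at this
  -- F3
  set KND : Subgroup G := K ⊓ ND with hKND
  have hmod : N = (P : Subgroup G) ⊔ KND := by
    apply le_antisymm
    · intro x hx
      rw [hN] at hx
      obtain ⟨hx1, hx2⟩ := hx
      have hx1' : x ∈ ((H : Subgroup G) : Set G) := hx1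
      rw [hH, Subgroup.mul_normal] at hx1'
      obtain ⟨a, ha, k, hk, rfl⟩ := hx1'
      have hk2 : k ∈ ND := by
        have : k = a⁻¹ * (a * k) := by group
        rw [this]
        exact ND.mul_mem (ND.inv_mem (hPND ha)) hx2
      exact Subgroup.mul_mem_sup ha ⟨hk, hk2⟩
    · rw [hN]
      exact sup_le (le_inf hPH hPND) (le_inf (inf_le_left.trans hKH) inf_le_right)
  have hPnorm : (P : Subgroup G) ≤ normalizer (KND : Set G) := by
    refine le_trans ?_ (normalizer_inf_le K ND)
    rw [hKtop, top_inf_eq]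
    exact hPND.trans le_normalizer
  have hPKND : (P : Subgroup G) ⊓ KND = D := by
    rw [hKND, ← inf_assoc]
    exact inf_eq_left.mpr le_normalizer
  have F3 : Nat.card N * Nat.card D = Nat.card (P : Subgroup G) * Nat.card KND := by
    have := Cfsg.Agent.Helper10.card_sup_mul_card_inf (P : Subgroup G) KND hPnorm
    rwa [← hmod, hPKND] at this
  -- NP ⊓ N = NP ⊓ H
  have hNPN : NP ⊓ N = NP ⊓ H := by
    rw [hN, inf_comm H ND, ← inf_assoc, inf_eq_left.mpr hNPND]
  have hc : ND.relIndex K * Nat.card KND = Nat.card K := by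
    rw [← Subgroup.inf_relIndex_right, mul_comm, hKND, inf_comm K ND]
    exact card_mul_relIndex inf_le_right
  have hd : NP.relIndex N * Nat.card (NP ⊓ H : Subgroup G) = Nat.card N := by
    rw [← Subgroup.inf_relIndex_right, mul_comm, ← hNPN]
    exact card_mul_relIndex inf_le_right
  -- assemble
  rw [S1, S2, S3, S4]
  exact arith (Subgroup.index_mul_card NP) (Subgroup.index_mul_card NH) hc hd F1 F2 F3
    Nat.card_pos Nat.card_pos Nat.card_pos Nat.card_pos Nat.card_pos Nat.card_pos Nat.card_pos

end Cfsg.Agent.S4341
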