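-- Statement S4345: in a finite solvable group every prime-power part of a Sylow number is ≡ 1 mod p.
import Cfsg.Statements.S4345
import Cfsg.Agent.S4341
import Cfsg.Agent.Lib.Hall

set_option autoImplicit false
open Cfsg

namespace Cfsg.Agent.S4345

open Subgroup

universe u

/-- If `n = m * q ^ a` with `q ^ a ≡ 1 [MOD p]`, and the claim holds for `m`, it holds for `n`. -/
theorem step_arith {p q ℓ m a : ℕ} (hq : q.Prime) (hℓ : ℓ.Prime) (hm : m ≠ 0)
    (hqa : q ^ a ≡ 1 [MOD p]) (ih : ℓ ^ m.factorization ℓ ≡ 1 [MOD p]) :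
    ℓ ^ (m * q ^ a).factorization ℓ ≡ 1 [MOD p] := by
  have hqa0 : q ^ a ≠ 0 := pow_ne_zero _ hq.ne_zero
  rw [Nat.factorization_mul hm hqa0, Finsupp.add_apply, pow_add, Nat.Prime.factorization_pow hq]
  by_cases h : ℓ = q
  · subst h
    rw [Finsupp.single_eq_same]
    simpa using ih.mul hqa
  · rw [Finsupp.single_eq_of_ne (by exact h)]
    simpa using ih

theorem main (p : ℕ) [Fact p.Prime] : ∀ n : ℕ, ∀ (G : Type u) [Group G] [Finite G],
    Group.IsSolvable G → Nat.card G = n → ∀ ℓ : ℕ, ℓ.Prime →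
    ℓ ^ (Nat.card (Sylow p G)).factorization ℓ ≡ 1 [MOD p] := by
  intro n
  induction n using Nat.strong_induction_on with
  | _ n ih =>
  intro G _ _ hG hcard ℓ hℓ
  have hp : p.Prime := Fact.out
  by_cases htriv : Subsingleton G
  · -- trivial group
    have : Nat.card (Sylow p G) = 1 := by
      have hdvd := (Sylow.card_dvd_index (default : Sylow p G)).trans (Subgroup.index_dvd_card _)
      rw [Nat.card_eq_one_iff_unique.mpr ⟨htriv, ⟨1⟩⟩] at hdvd
      exact Nat.dvd_one.mp hdvd
    rw [this]; simp [Nat.ModEq]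
  rw [not_subsingleton_iff_nontrivial] at htriv
  obtain ⟨K, hKn, hKne, hKmin⟩ := Cfsg.Agent.Lib.exists_minimal_normal (G := G)
  obtain ⟨-, q, hq, hKq⟩ := Cfsg.Agent.S0043.result K hKne hKmin
  haveI : Fact q.Prime := ⟨hq⟩
  have hKpg : IsPGroup q K := by
    intro x
    refine ⟨1, ?_⟩
    rw [pow_one]
    exact Subtype.ext (by simpa using hKq x.1 x.2)
  obtain ⟨b, hb⟩ := IsPGroup.iff_card.mp hKpg
  -- a Sylow subgroup and the subgroup N
  obtain ⟨P⟩ : Nonempty (Sylow p G) := inferInstance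
  obtain ⟨c, hc⟩ := IsPGroup.iff_card.mp P.2
  set D : Subgroup G := (P : Subgroup G) ⊓ K with hD
  set N : Subgroup G := ((P : Subgroup G) ⊔ K) ⊓ normalizer (D : Set G) with hN
  have hDN : D ≤ N := le_inf (inf_le_left.trans le_sup_left) le_normalizer
  haveI hn : (D.subgroupOf N).Normal :=
    (Subgroup.normal_subgroupOf_iff_le_normalizer hDN).mpr inf_le_right
  have key := Cfsg.Agent.S4341.result p K P N hN
  -- the quotient is smaller
  have hlt : Nat.card (G ⧸ K) < n := by
    rw [← hcard, ← Subgroup.index_eq_card, ← Subgroup.index_mul_card K]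
    have h1 : 1 < Nat.card K := by
      rcases Nat.lt_or_ge 1 (Nat.card K) with h | h
      · exact h
      · exfalso
        have : Nat.card K = 1 := le_antisymm h Nat.card_pos
        exact hKne (Subgroup.card_eq_one.mp this)
    have h2 : 0 < K.index := Nat.pos_of_ne_zero Subgroup.index_ne_zero_of_finite
    nlinarith
  have ihQ := ih _ hlt (G ⧸ K) inferInstance rfl ℓ hℓ
  -- the two remaining factors are powers of `q`
  have hA : Nat.card (Sylow p K) ∣ q ^ b := by
    rw [← hb]
    exact (Sylow.card_dvd_index (default : Sylow p K)).trans (Subgroup.index_dvd_card _)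
  have hB : Nat.card (Sylow p (N ⧸ D.subgroupOf N)) ∣ q ^ b := by
    obtain ⟨P'⟩ : Nonempty (Sylow p (N ⧸ D.subgroupOf N)) := inferInstance
    refine (Sylow.card_dvd_index P').trans ?_
    have h1 : (P' : Subgroup (N ⧸ D.subgroupOf N)).index ∣ p ^ c * q ^ b := by
      refine (Subgroup.index_dvd_card _).trans ?_
      refine (Subgroup.card_quotient_dvd_card _).trans ?_
      refine (Subgroup.card_dvd_of_le (inf_le_left : N ≤ (P : Subgroup G) ⊔ K)).trans ?_
      rw [← hc, ← hb]
      have := Cfsg.Agent.Helper10.card_sup_mul_card_inf (P : Subgroup G) K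
        (by rw [Subgroup.normalizer_eq_top K]; exact le_top)
      exact Dvd.intro _ this
    have h2 : Nat.Coprime (P' : Subgroup (N ⧸ D.subgroupOf N)).index (p ^ c) :=
      Nat.Coprime.pow_right _ ((Nat.coprime_comm.mp ((Nat.Prime.coprime_iff_not_dvd hp).mpr P'.not_dvd_index)))
    exact h2.dvd_of_dvd_mul_left h1
  obtain ⟨a1, -, ha1⟩ := (Nat.dvd_prime_pow hq).mp hA
  obtain ⟨a2, -, ha2⟩ := (Nat.dvd_prime_pow hq).mp hB
  have hmod : q ^ (a1 + a2) ≡ 1 [MOD p] := by
    rw [pow_add, ← ha1, ← ha2]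
    simpa using (card_sylow_modEq_one p K).mul (card_sylow_modEq_one p (N ⧸ D.subgroupOf N))
  have hne : Nat.card (Sylow p (G ⧸ K)) ≠ 0 := Nat.card_pos.ne'
  have : Nat.card (Sylow p G) = Nat.card (Sylow p (G ⧸ K)) * q ^ (a1 + a2) := by
    rw [key, pow_add, ← ha1, ← ha2, mul_assoc]
  rw [this]
  exact step_arith hq hℓ hne hmod ihQ

/-- Let G be a finite solvable group and p, ℓ primes. Then the largest power of ℓ dividing the number of Sylow p-subgroups of G is congruent to 1 modulo p. -/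
theorem result {G : Type*} [Group G] [Finite G]
    (hG : Group.IsSolvable G) (p ℓ : ℕ) [Fact p.Prime] (hℓ : ℓ.Prime) :
    ℓ ^ (Nat.card (Sylow p G)).factorization ℓ ≡ 1 [MOD p] :=
  main p _ G hG rfl ℓ hℓ

end Cfsg.Agent.S4345
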