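import Cfsg.Statements.S0111

set_option autoImplicit false
open Cfsg

namespace Cfsg.Agent.S0111

/-- The Thompson transfer lemma states that an involution of a Sylow 2-subgroup P lying outside a subgroup Q of index 2 in P either lies outside some normal subgroup of index 2 in G or is conjugate to an element of Q. -/
theorem result {G : Type*} [Group G] [Finite G] (P : Sylow 2 G) (Q : Subgroup G) (hQP : Q ≤ (P : Subgroup G)) (hQi : Q.relIndex (P : Subgroup G) = 2) (u : G) (hu : orderOf u = 2) (huP : u ∈ (P : Subgroup G)) (huQ : u ∉ Q) : (∃ M : Subgroup G, M.Normal ∧ M.index = 2 ∧ u ∉ M) ∨ ∃ g : G, g * u * g⁻¹ ∈ Q := by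
  classical
  have : Fintype (G ⧸ Q) := Fintype.ofFinite _
  by_cases hfix : ∃ q : G ⧸ Q, u • q = q
  · right
    obtain ⟨q, hq⟩ := hfix
    induction q using QuotientGroup.induction_on with
    | H g =>
      refine ⟨g⁻¹, ?_⟩
      have : ((u * g : G) : G ⧸ Q) = (g : G ⧸ Q) := hq
      rw [eq_comm, QuotientGroup.eq] at this
      simpa [mul_assoc] using this
  · left
    push Not at hfix
    let φ : G →* ℤˣ := Equiv.Perm.sign.comp (MulAction.toPermHom G (G ⧸ Q))
    have hu2 : u ^ 2 = 1 := by rw [← hu]; exact pow_orderOf_eq_one u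
    have hσ2 : (MulAction.toPermHom G (G ⧸ Q) u) ^ 2 = 1 := by
      rw [← map_pow, hu2, map_one]
    have hfp : Fintype.card (Function.fixedPoints (MulAction.toPermHom G (G ⧸ Q) u)) = 0 := by
      rw [Fintype.card_eq_zero_iff]
      constructor
      rintro ⟨q, hq⟩
      exact hfix q hq
    have hcard : Fintype.card (G ⧸ Q) = 2 * (P : Subgroup G).index := by
      rw [← Nat.card_eq_fintype_card, ← Subgroup.index_eq_card, ← Subgroup.relIndex_mul_index hQP, hQi]
    have hodd : Odd (P : Subgroup G).index := by
      rw [← Nat.not_even_iff_odd, even_iff_two_dvd]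
      exact P.not_dvd_index
    have hφu : φ u = -1 := by
      show Equiv.Perm.sign (MulAction.toPermHom G (G ⧸ Q) u) = -1
      rw [Equiv.Perm.sign_of_pow_two_eq_one hσ2, hfp, hcard, Nat.sub_zero,
        Nat.mul_div_cancel_left _ (by norm_num : 0 < 2)]
      exact hodd.neg_one_pow
    have hsurj : Function.Surjective φ := by
      intro z
      rcases Int.units_eq_one_or z with rfl | rfl
      · exact ⟨1, map_one φ⟩
      · exact ⟨u, hφu⟩
    refine ⟨φ.ker, inferInstance, ?_, ?_⟩
    · rw [Subgroup.index_ker, MonoidHom.range_eq_top.mpr hsurj]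
      simp
    · rw [MonoidHom.mem_ker, hφu]
      decide

end Cfsg.Agent.S0111
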