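import Cfsg.Statements.S0911
import Cfsg.Agent.Helper16.MinMax
import Cfsg.Agent.Helper16.SylowIn

set_option autoImplicit false
open Cfsg

namespace Cfsg.Agent.S0911

open Cfsg.Agent.Helper16

/-- A `p`-subgroup of `K` lies in a `K`-conjugate of any given Sylow `p`-subgroup of `K`. -/
theorem pgroup_le_conj_sylow {G : Type*} [Group G] [Finite G] (p : ℕ) [Fact p.Prime]
    (K : Subgroup G) (D : Sylow p K) (P : Subgroup G) (hP : IsPGroup p P) (hPK : P ≤ K) :
    ∃ c ∈ K, P ≤ ((D : Subgroup K).map K.subtype).map (MulAut.conj c).toMonoidHom := by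
  have hPsub : IsPGroup p (P.subgroupOf K) := hP.comap_subtype
  obtain ⟨D', hD'⟩ := hPsub.exists_le_sylow
  obtain ⟨c, hc⟩ := MulAction.exists_smul_eq K D D'
  refine ⟨c.1, c.2, ?_⟩
  intro u hu
  have hu' : (⟨u, hPK hu⟩ : K) ∈ (D' : Subgroup K) := hD' (Subgroup.mem_subgroupOf.mpr hu)
  rw [← hc, Sylow.coe_subgroup_smul, Subgroup.mem_smul_pointwise_iff_exists] at hu'
  obtain ⟨s, hs, hsu⟩ := hu'
  refine ⟨s.1, ⟨s, hs, rfl⟩, ?_⟩
  have := congrArg Subtype.val hsu
  simpa [MulAut.smul_def] using this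

/-- conjugating a subgroup of the centralizer of a conjugate back. -/
theorem map_conj_le_centralizer {G : Type*} [Group G] (P : Subgroup G) (g y : G)
    (h : P ≤ Subgroup.centralizer ({y * g * y⁻¹} : Set G)) :
    P.map (MulAut.conj y⁻¹).toMonoidHom ≤ Subgroup.centralizer ({g} : Set G) := by
  rintro _ ⟨u, hu, rfl⟩
  have h1 := h hu
  rw [Subgroup.mem_centralizer_singleton_iff] at h1 ⊢
  show y⁻¹ * u * y⁻¹⁻¹ * g = g * (y⁻¹ * u * y⁻¹⁻¹)
  have h2 : y⁻¹ * (u * (y * g * y⁻¹)) * y = y⁻¹ * (y * g * y⁻¹ * u) * y := by rw [h1]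
  simpa [mul_assoc] using h2

/-- Min–max Theorem: for a defect class of the p-block B represented by g, with D a Sylow p-subgroup of the centralizer of g, and any element h: if the idempotent coefficient of B at h is a local unit then a Sylow p-subgroup of C_G(h) lies in a conjugate of D; if the central character of B does not vanish mod M at h then a conjugate of D lies in a Sylow p-subgroup of C_G(h). -/
theorem result {G : Type*} [Group G] [Finite G] (p : ℕ) [Fact p.Prime] (M : Ideal Cfsg.AlgInt) (hM : Cfsg.IsPModular p M) (B : Set (Cfsg.IrrCharacter G)) (hB : Cfsg.IsPBlock M B) (g : G) (hg : Cfsg.IsDefectClass M B g) (D : Sylow p (Subgroup.centralizer ({g} : Set G))) (h : G) : (Cfsg.MemLocalRing M (Cfsg.blockCoeff B h) → ¬ Cfsg.MemLocalIdeal M (Cfsg.blockCoeff B h) → ∃ (x : G) (Q : Sylow p (Subgroup.centralizer ({h} : Set G))), (Q : Subgroup (Subgroup.centralizer ({h} : Set G))).map (Subgroup.centralizer ({h} : Set G)).subtype ≤ ((D : Subgroup (Subgroup.centralizer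 ({g} : Set G))).map (Subgroup.centralizer ({g} : Set G)).subtype).map (MulAut.conj x).toMonoidHom) ∧ ((∃ χ ∈ B, ¬ Cfsg.MemLocalIdeal M (Cfsg.centralChar (χ : G → ℂ) h)) → ∃ (x : G) (Q : Sylow p (Subgroup.centralizer ({h} : Set G))), ((D : Subgroup (Subgroup.centralizer ({g} : Set G))).map (Subgroup.centralizer ({g} : Set G)).subtype).map (MulAut.conj x).toMonoidHom ≤ (Q : Subgroup (Subgroup.centralizer ({h} : Set G))).map (Subgroup.centralizer ({h} : Set G)).subtype) := by
  classical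
  have : Fintype G := Fintype.ofFinite G
  have hMp : M.IsPrime := IsPModular.isPrime hM
  have hpM : (p : AlgInt) ∈ M := hM.2.2
  obtain ⟨χ₀, rfl⟩ := hB
  obtain ⟨_, hg2, hg3⟩ := hg
  constructor
  · intro _ hh
    -- any Sylow subgroup of the centralizer of h
    obtain ⟨Q⟩ : Nonempty (Sylow p (Subgroup.centralizer ({h} : Set G))) := inferInstance
    set P : Subgroup G := (Q : Subgroup (Subgroup.centralizer ({h} : Set G))).map
      (Subgroup.centralizer ({h} : Set G)).subtype with hPdef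
    have hP : IsPGroup p P := Q.isPGroup'.map _
    have hPh : P ≤ Subgroup.centralizer ({h} : Set G) := Subgroup.map_subtype_le _
    obtain ⟨x₀, hx₀, hPx₀⟩ := minmax_core hpM χ₀ g h hg3 hh P hP hPh
    obtain ⟨y, rfl⟩ := isConj_iff.mp hx₀
    have hP' := map_conj_le_centralizer P g y hPx₀
    obtain ⟨c, _, hc⟩ := pgroup_le_conj_sylow p _ D _ (hP.map _) hP'
    refine ⟨y * c, Q, ?_⟩
    intro u hu
    have h1 : y⁻¹ * u * y ∈ P.map (MulAut.conj y⁻¹).toMonoidHom := ⟨u, hu, by simp⟩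
    obtain ⟨d, hd, hdu⟩ := hc h1
    refine ⟨d, hd, ?_⟩
    have hdu' : c * d * c⁻¹ = y⁻¹ * u * y := hdu
    show y * c * d * (y * c)⁻¹ = u
    calc y * c * d * (y * c)⁻¹ = y * (c * d * c⁻¹) * y⁻¹ := by simp [mul_assoc]
      _ = u := by rw [hdu']; simp [mul_assoc]
  · rintro ⟨χ, hχB, hχ⟩
    have hall : ∀ ψ ∈ blockOf M (χ₀ : G → ℂ), ¬ MemLocalIdeal M (centralChar (ψ : G → ℂ) h) := by
      intro ψ hψ hcon
      apply hχ
      have h1 : SameBlock M (χ : G → ℂ) (ψ : G → ℂ) := sameBlock_trans (sameBlock_symm hχB) hψ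
      have := memLocalIdeal_add (h1 h) hcon
      simpa using this
    set P : Subgroup G := (D : Subgroup (Subgroup.centralizer ({g} : Set G))).map
      (Subgroup.centralizer ({g} : Set G)).subtype with hPdef
    have hP : IsPGroup p P := D.isPGroup'.map _
    have hPg : P ≤ Subgroup.centralizer ({g} : Set G) := Subgroup.map_subtype_le _
    obtain ⟨x₀, hx₀, hPx₀⟩ := minmax_core hpM χ₀ h g hall hg2 P hP hPg
    obtain ⟨y, rfl⟩ := isConj_iff.mp hx₀
    have hP' := map_conj_le_centralizer P h y hPx₀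
    have hPsub : IsPGroup p ((P.map (MulAut.conj y⁻¹).toMonoidHom).subgroupOf
        (Subgroup.centralizer ({h} : Set G))) := (hP.map _).comap_subtype
    obtain ⟨Q, hQ⟩ := hPsub.exists_le_sylow
    refine ⟨y⁻¹, Q, ?_⟩
    intro u hu
    exact ⟨⟨u, hP' hu⟩, hQ (Subgroup.mem_subgroupOf.mpr hu), rfl⟩

end Cfsg.Agent.S0911
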