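import Cfsg.Statements.S0938
import Cfsg.Agent.Helper16.Idempotent

set_option autoImplicit false
open Cfsg

namespace Cfsg.Agent.S0938

open Cfsg.Agent.Helper16
open scoped ComplexConjugate

/-- Right multiplication action of a subgroup on the group. -/
@[reducible] def rightAction {G : Type*} [Group G] (P : Subgroup G) : MulAction P G where
  smul u x := x * (u : G)⁻¹
  one_smul x := by
    show x * ((1 : P) : G)⁻¹ = x
    simp
  mul_smul u v x := by
    show x * ((u * v : P) : G)⁻¹ = x * (v : G)⁻¹ * (u : G)⁻¹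
    simp [mul_assoc]

/-- The block idempotent is an idempotent for convolution. -/
theorem conv_blockCoeff {G : Type*} [Group G] [Fintype G] {M : Ideal AlgInt} [M.IsPrime]
    (χ₀ : IrrCharacter G) :
    conv (blockCoeff (blockOf M (χ₀ : G → ℂ))) (blockCoeff (blockOf M (χ₀ : G → ℂ))) =
      blockCoeff (blockOf M (χ₀ : G → ℂ)) := by
  classical
  obtain ⟨hbc, _, hbo⟩ := osima_strong (M := M) χ₀
  apply classFunction_ext_omega (isClassFunction_conv hbc hbc) hbc
  intro χ
  rw [irr_omega_conv χ hbc hbc, hbo χ]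
  by_cases h : SameBlock M (χ₀ : G → ℂ) (χ : G → ℂ)
  · rw [if_pos h, mul_one]
  · rw [if_neg h, mul_zero]

/-- The kernel of a p-block B (elements where every χ ∈ B takes its degree as value) is a normal subgroup of order prime to p, and for any χ ∈ B it is the largest normal subgroup of order prime to p contained in the kernel of χ. -/
theorem result {G : Type*} [Group G] [Finite G] (p : ℕ) [Fact p.Prime] (M : Ideal Cfsg.AlgInt) (hM : Cfsg.IsPModular p M) (B : Set (Cfsg.IrrCharacter G)) (hB : Cfsg.IsPBlock M B) (χ : Cfsg.IrrCharacter G) (hχ : χ ∈ B) : ∃ K : Subgroup G, K.Normal ∧ (K : Set G) = Cfsg.blockKer B ∧ ¬ p ∣ Nat.card K ∧ (∀ g ∈ K, (χ : G → ℂ) g = (χ : G → ℂ) 1) ∧ ∀ N : Subgroup G, N.Normal → ¬ p ∣ Nat.card N → (∀ g ∈ N, (χ : G → ℂ) g = (χ : G → ℂ) 1) → N ≤ K := by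
  classical
  have : Fintype G := Fintype.ofFinite G
  have hMp : M.IsPrime := IsPModular.isPrime hM
  have hpM : (p : AlgInt) ∈ M := hM.2.2
  obtain ⟨χ₀, rfl⟩ := hB
  let K : Subgroup G := ⨅ ψ : IrrCharacter G, ⨅ _ : ψ ∈ blockOf M (χ₀ : G → ℂ),
    Cfsg.Agent.Helper80.kerChar (ψ : G → ℂ) (Cfsg.Agent.Helper79.irr_isCharacter ψ)
  have hmemK : ∀ g : G, g ∈ K ↔ ∀ ψ ∈ blockOf M (χ₀ : G → ℂ), (ψ : G → ℂ) g = (ψ : G → ℂ) 1 := by
    intro g
    simp only [K, Subgroup.mem_iInf, Cfsg.Agent.Helper80.mem_kerChar]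
  have hKn : K.Normal := by
    apply Subgroup.normal_iInf_normal
    intro ψ
    apply Subgroup.normal_iInf_normal
    intro _
    infer_instance
  refine ⟨K, hKn, ?_, ?_, ?_, ?_⟩
  · ext g
    rw [SetLike.mem_coe, hmemK]
    rfl
  · -- no p-elements in K
    intro hdvd
    obtain ⟨x, hx⟩ := exists_prime_orderOf_dvd_card' p hdvd
    set P : Subgroup G := Subgroup.zpowers (x : G) with hP
    have hxo : orderOf (x : G) = p := by
      rw [← hx]; exact Subgroup.orderOf_coe x
    have hPK : P ≤ K := by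
      rw [hP, Subgroup.zpowers_le]; exact x.2
    have hPcard : Nat.card P = p := by
      rw [hP, Nat.card_zpowers, hxo]
    have hPp : IsPGroup p P := IsPGroup.of_card (n := 1) (by rw [hPcard, pow_one])
    obtain ⟨hbc, hbS, hbo⟩ := osima_strong (M := M) χ₀
    set b := blockCoeff (blockOf M (χ₀ : G → ℂ)) with hb
    -- invariance of b under K
    have hinvR : ∀ (y k : G), k ∈ K → b (y * k) = b y := by
      intro y k hk
      simp only [hb, blockCoeff]
      congr 1
      refine finsum_mem_congr rfl (fun ψ hψ => ?_)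
      rw [Cfsg.Agent.Helper80.IsCharacter.mul_mem_ker (Cfsg.Agent.Helper79.irr_isCharacter ψ) y k
        ((hmemK k).mp hk ψ hψ)]
    have hinvL : ∀ (y k : G), k ∈ K → b (k * y) = b y := by
      intro y k hk
      have h1 : k * y = y * (y⁻¹ * k * y⁻¹⁻¹) := by simp [mul_assoc]
      rw [h1]
      exact hinvR y _ (hKn.conj_mem k hk y⁻¹)
    -- every block coefficient lies in the ideal
    have hall : ∀ g : G, MemLocalIdeal M (b g) := by
      intro g
      have hconv : conv b b g = b g := congrFun (conv_blockCoeff (M := M) χ₀) g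
      rw [← hconv, conv_apply]
      let _ := rightAction P
      refine memLocalIdeal_sum_of_pgroup_action hpM hPp
        (fun y => b y * b (y⁻¹ * g)) (fun y => memLocalRing_mul (hbS _) (hbS _)) ?_ ?_
      · intro u y
        show b (y * (u : G)⁻¹) * b ((y * (u : G)⁻¹)⁻¹ * g) = b y * b (y⁻¹ * g)
        have hu : (u : G)⁻¹ ∈ K := K.inv_mem (hPK u.2)
        rw [hinvR y _ hu]
        have : (y * (u : G)⁻¹)⁻¹ * g = (u : G) * (y⁻¹ * g) := by simp [mul_assoc]
        rw [this, hinvL _ _ (hPK u.2)]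
      · intro y hy
        exfalso
        have h1 := hy ⟨(x : G), Subgroup.mem_zpowers _⟩
        have h2 : y * (x : G)⁻¹ = y := h1
        have h3 : (x : G) = 1 := by
          have := mul_left_cancel (a := y) (b := (x : G)⁻¹) (c := 1) (by rw [h2, mul_one])
          exact inv_eq_one.mp this
        rw [h3, orderOf_one] at hxo
        exact (Fact.out : p.Prime).one_lt.ne hxo
    obtain ⟨g₀, hg₀⟩ := exists_defectClass (M := M) χ₀
    exact hg₀.2.1 (hall g₀)
  · intro g hg
    exact (hmemK g).mp hg χ hχ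
  · intro N hNn hNp hNχ g hg
    have : Fintype N := Fintype.ofFinite N
    rw [hmemK]
    intro ψ hψ
    have hsame : SameBlock M (χ : G → ℂ) (ψ : G → ℂ) := sameBlock_trans (sameBlock_symm hχ) hψ
    have h1 : omega (χ : G → ℂ) (subgroupIdem N) = 1 := by
      rw [omega_subgroupIdem_eq_one_iff]
      intro n
      exact hNχ n n.2
    have h2 := omega_idempotent_eq_of_sameBlock hsame (isClassFunction_subgroupIdem N)
      (subgroupIdem_memLocalRing hM N hNp) (conv_subgroupIdem N)
    rw [h1] at h2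
    exact (omega_subgroupIdem_eq_one_iff ψ N).mp h2.symm ⟨g, hg⟩

end Cfsg.Agent.S0938
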