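import Cfsg.Statements.S0942
import Cfsg.Agent.Helper16.PrincipalSection

set_option autoImplicit false
open Cfsg

namespace Cfsg.Agent.S0942

open Cfsg.Agent.Helper16 in
/-- Let u be a p-element of the finite group G, let v lie in the largest normal subgroup of C_G(u) of order prime to p, and let χ belong to the principal block (relative to a maximal ideal M of the algebraic integers containing p). Then χ (u * v) = χ u. -/
theorem result {G : Type*} [Group G] [Finite G] (p : ℕ) [Fact p.Prime] (M : Ideal Cfsg.AlgInt) (hM : Cfsg.IsPModular p M) (u : G) (hu : ∃ k : ℕ, orderOf u = p ^ k) (v : G) (hv : v ∈ Cfsg.centralizerPPrimeCore p u) (χ : Cfsg.IrrCharacter G) (hχ : χ ∈ Cfsg.principalBlock M G) : (χ : G → ℂ) (u * v) = (χ : G → ℂ) u := by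
  classical
  haveI : Fintype G := Fintype.ofFinite G
  haveI hMp : M.IsPrime := IsPModular.isPrime hM
  have hp : p.Prime := Fact.out
  haveI : Fintype (Subgroup.centralizer ({u} : Set G)) := Fintype.ofFinite _
  obtain ⟨vC, hvC, rfl⟩ := hv
  -- `vC` is `p`-regular
  have hvreg : ¬ p ∣ orderOf vC := by
    intro hdvd
    have h1 : orderOf vC ∣ Nat.card (Cfsg.pPrimeCore p (Subgroup.centralizer ({u} : Set G))) := by
      have := orderOf_dvd_natCard (⟨vC, hvC⟩ : Cfsg.pPrimeCore p (Subgroup.centralizer ({u} : Set G)))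
      rwa [Subgroup.orderOf_mk] at this
    have hcop := Cfsg.Agent.Lib.card_pPrimeCore_coprime
      (G := Subgroup.centralizer ({u} : Set G)) p
    have := Nat.Coprime.eq_one_of_dvd hcop.symm (hdvd.trans h1)
    exact hp.one_lt.ne' this
  have h1reg : ¬ p ∣ orderOf (1 : Subgroup.centralizer ({u} : Set G)) := by
    rw [orderOf_one]; exact hp.not_dvd_one
  have e1 := principal_shift_eq hM u hu χ hχ vC hvreg
  have e2 := principal_shift_eq hM u hu χ hχ 1 h1reg
  rw [Subgroup.coe_one, mul_one] at e2
  show (χ : G → ℂ) (u * (vC : G)) = (χ : G → ℂ) u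
  rw [e1, e2, shiftPart_def, shiftPart_def]
  have hcl := isClassFunction_shift χ u
  rw [← blockPart_eq_sum_blockCoeff_mul _ hcl vC, ← blockPart_eq_sum_blockCoeff_mul _ hcl 1,
    blockPart_eq_sum, blockPart_eq_sum]
  refine Finset.sum_congr rfl (fun ψ _ => ?_)
  by_cases hψ : ψ ∈ principalBlock M (Subgroup.centralizer ({u} : Set G))
  · rw [principalBlock_pPrimeCore hM ψ hψ vC hvC]
  · rw [if_neg hψ, zero_mul, zero_mul]

end Cfsg.Agent.S0942
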