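import Cfsg.Statements.S0967
import Cfsg.Agent.Helper16.Idempotent

set_option autoImplicit false
open Cfsg

namespace Cfsg.Agent.S0967

open Cfsg.Agent.Helper16
open scoped ComplexConjugate

open Classical in
/-- Summing a function of the coset over the group. -/
theorem sum_comp_mk {G : Type*} [Group G] [Fintype G] (N : Subgroup G) [N.Normal]
    [Fintype (G ⧸ N)] (F : G ⧸ N → ℂ) :
    ∑ x : G, F (QuotientGroup.mk x) = (Nat.card N : ℂ) * ∑ q : G ⧸ N, F q := by
  rw [← Finset.sum_fiberwise (Finset.univ : Finset G) (QuotientGroup.mk : G → G ⧸ N), Finset.mul_sum]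
  refine Finset.sum_congr rfl (fun q _ => ?_)
  have h1 : ∑ x ∈ Finset.univ.filter (fun x : G => (QuotientGroup.mk x : G ⧸ N) = q),
      F (QuotientGroup.mk x) =
      ∑ x ∈ Finset.univ.filter (fun x : G => (QuotientGroup.mk x : G ⧸ N) = q), F q := by
    refine Finset.sum_congr rfl (fun x hx => ?_)
    simp only [Finset.mem_filter, Finset.mem_univ, true_and] at hx
    rw [hx]
  rw [h1, Finset.sum_const, nsmul_eq_mul]
  congr 1
  norm_cast
  obtain ⟨x₀, rfl⟩ := QuotientGroup.mk_surjective q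
  rw [Nat.card_eq_fintype_card, ← Fintype.card_subtype]
  refine Fintype.card_congr ?_
  refine ⟨fun x => ⟨x₀⁻¹ * x.1, ?_⟩, fun n => ⟨x₀ * n.1, ?_⟩, ?_, ?_⟩
  · exact QuotientGroup.eq.mp x.2.symm
  · show (QuotientGroup.mk (x₀ * n.1) : G ⧸ N) = QuotientGroup.mk x₀
    rw [eq_comm, QuotientGroup.eq]
    simpa using n.2
  · intro x
    ext
    simp
  · intro n
    ext
    simp

/-- If N is a normal subgroup of order prime to p, the p-block of an irreducible character inflated from G/N consists only of characters inflated from G/N, and these lie in the same p-block of G/N. -/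
theorem result {G : Type*} [Group G] [Finite G] (p : ℕ) [Fact p.Prime] (M : Ideal Cfsg.AlgInt) (hM : Cfsg.IsPModular p M) (N : Subgroup G) [N.Normal] (hN : ¬ p ∣ Nat.card N) (χ : Cfsg.IrrCharacter (G ⧸ N)) (ψ : Cfsg.IrrCharacter G) (hψ : ψ ∈ Cfsg.blockOf M ((χ : G ⧸ N → ℂ) ∘ QuotientGroup.mk)) : ∃ ψ' : Cfsg.IrrCharacter (G ⧸ N), (ψ : G → ℂ) = (ψ' : G ⧸ N → ℂ) ∘ QuotientGroup.mk ∧ Cfsg.SameBlock M (χ : G ⧸ N → ℂ) (ψ' : G ⧸ N → ℂ) := by
  classical
  have : Fintype G := Fintype.ofFinite G
  have : Fintype N := Fintype.ofFinite N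
  have : Fintype (G ⧸ N) := Fintype.ofFinite _
  have hMp : M.IsPrime := IsPModular.isPrime hM
  -- the inflated character
  have hinfl : IsIrrCharacter G ((χ : G ⧸ N → ℂ) ∘ QuotientGroup.mk) :=
    Cfsg.Agent.Helper80.IsIrrCharacter.comp_surjective χ.2 (QuotientGroup.mk' N)
      (QuotientGroup.mk'_surjective N)
  set χt : IrrCharacter G := ⟨(χ : G ⧸ N → ℂ) ∘ QuotientGroup.mk, hinfl⟩ with hχt
  have hsame : SameBlock M (χt : G → ℂ) (ψ : G → ℂ) := hψ
  -- N is in the kernel of ψ
  have hker : ∀ n : N, (ψ : G → ℂ) (n : G) = (ψ : G → ℂ) 1 := by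
    rw [← omega_subgroupIdem_eq_one_iff,
      ← omega_idempotent_eq_of_sameBlock hsame (isClassFunction_subgroupIdem N)
        (subgroupIdem_memLocalRing hM N hN) (conv_subgroupIdem N),
      omega_subgroupIdem_eq_one_iff]
    intro n
    show (χ : G ⧸ N → ℂ) (QuotientGroup.mk (n : G)) = (χ : G ⧸ N → ℂ) (QuotientGroup.mk 1)
    have : (QuotientGroup.mk (n : G) : G ⧸ N) = QuotientGroup.mk 1 := by
      rw [QuotientGroup.mk_one, QuotientGroup.eq_one_iff]
      exact n.2
    rw [this]
  -- descend ψ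
  obtain ⟨ψ', hψ'irr, hψ'⟩ := Cfsg.Agent.Helper80.IsIrrCharacter.exists_descend ψ.2
    (QuotientGroup.mk' N) (QuotientGroup.mk'_surjective N) (by
      intro g hg
      have hgN : g ∈ N := by
        rw [← QuotientGroup.eq_one_iff]; exact hg
      exact hker ⟨g, hgN⟩)
  refine ⟨⟨ψ', hψ'irr⟩, ?_, ?_⟩
  · funext g
    exact hψ' g
  · intro q
    -- the class indicator pulled back
    set s : G → ℂ := fun x => classInd q (QuotientGroup.mk x : G ⧸ N) with hs
    have hsc : IsClassFunction G s := by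
      intro g h
      show classInd q (QuotientGroup.mk (h * g * h⁻¹) : G ⧸ N) = classInd q (QuotientGroup.mk g)
      have : (QuotientGroup.mk (h * g * h⁻¹) : G ⧸ N) =
          QuotientGroup.mk h * QuotientGroup.mk g * (QuotientGroup.mk h)⁻¹ := by simp
      rw [this]
      exact isClassFunction_classInd q _ _
    have hsS : ∀ g, MemLocalRing M (s g) := by
      intro g
      show MemLocalRing M (classInd q _)
      unfold classInd
      by_cases h : IsConj q (QuotientGroup.mk g : G ⧸ N)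
      · rw [if_pos h]; exact memLocalRing_one
      · rw [if_neg h]; exact memLocalRing_zero
    have hrel : ∀ φ : G ⧸ N → ℂ, IsClassFunction (G ⧸ N) φ →
        centralChar φ q = (Nat.card N : ℂ)⁻¹ * omega (φ ∘ QuotientGroup.mk) s := by
      intro φ hφ
      rw [← omega_classInd φ hφ]
      unfold omega
      have := sum_comp_mk N (fun q' : G ⧸ N => classInd q q' * φ q')
      have hN0 : (Nat.card N : ℂ) ≠ 0 := by exact_mod_cast Nat.card_pos.ne'
      show _ = (Nat.card N : ℂ)⁻¹ * ((∑ x : G, classInd q (QuotientGroup.mk x : G ⧸ N) * φ (QuotientGroup.mk x)) /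
        φ (QuotientGroup.mk 1))
      rw [this, QuotientGroup.mk_one]
      field_simp
    rw [hrel _ (irr_isClassFunction χ), hrel ψ' (irr_isClassFunction ⟨ψ', hψ'irr⟩), ← mul_sub]
    refine memLocalIdeal_mul_left (memLocalRing_inv_natCast hM hN) ?_
    have h1 := omega_sub_memLocalIdeal hsame hsc hsS
    have h2 : (ψ : G → ℂ) = ψ' ∘ QuotientGroup.mk := by
      funext g
      exact hψ' g
    rw [h2] at h1
    exact h1

end Cfsg.Agent.S0967
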