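import Cfsg.Statements.S0939
import Cfsg.Agent.Helper16.Quotient
import Cfsg.Agent.S0967
import Cfsg.Agent.Helper79.Linear
import Cfsg.Agent.Lib.Cores

set_option autoImplicit false
open Cfsg

namespace Cfsg.Agent.S0939

open Cfsg.Agent.Helper16

/-- Let G be a finite group with a normal p-complement, that is, whose largest normal subgroup N = O_p'(G) of order prime to p has p-power index, and fix a maximal ideal M of the algebraic integers containing p. Then the principal block of G relative to M consists exactly of the irreducible characters that are constant on N. -/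
theorem result {G : Type*} [Group G] [Finite G] (p : ℕ) [Fact p.Prime] (M : Ideal Cfsg.AlgInt) (hM : Cfsg.IsPModular p M) (hnc : ∃ k : ℕ, (Cfsg.pPrimeCore p G).index = p ^ k) : Cfsg.principalBlock M G = {χ : Cfsg.IrrCharacter G | ∀ n ∈ Cfsg.pPrimeCore p G, (χ : G → ℂ) n = (χ : G → ℂ) 1} := by
  classical
  haveI : Fintype G := Fintype.ofFinite G
  haveI hMp : M.IsPrime := IsPModular.isPrime hM
  haveI : (pPrimeCore p G).Characteristic := Cfsg.Agent.Lib.pPrimeCore_characteristic p
  haveI : (pPrimeCore p G).Normal := Subgroup.normal_of_characteristic _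
  set N := pPrimeCore p G with hNdef
  haveI : Fintype (G ⧸ N) := Fintype.ofFinite _
  have hcop := Cfsg.Agent.Lib.card_pPrimeCore_coprime (G := G) p
  have hpN : ¬ p ∣ Nat.card N := by
    intro hd
    have hp : p.Prime := Fact.out
    have := Nat.Coprime.eq_one_of_dvd hcop.symm hd
    exact hp.one_lt.ne' this
  ext ψ
  constructor
  · intro hψ
    have hψ' : ψ ∈ blockOf M (((Helper79.principalIrr (G ⧸ N) : IrrCharacter (G ⧸ N)) :
        G ⧸ N → ℂ) ∘ QuotientGroup.mk) := hψ
    obtain ⟨ψ', hψeq, _⟩ := Cfsg.Agent.S0967.result p M hM N hpN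
      (Helper79.principalIrr (G ⧸ N)) ψ hψ'
    intro n hn
    rw [hψeq]
    show (ψ' : G ⧸ N → ℂ) (QuotientGroup.mk n) = (ψ' : G ⧸ N → ℂ) (QuotientGroup.mk 1)
    have : (QuotientGroup.mk n : G ⧸ N) = QuotientGroup.mk 1 := by
      rw [QuotientGroup.mk_one, QuotientGroup.eq_one_iff]
      exact hn
    rw [this]
  · intro hψ
    obtain ⟨ψ', hψ'irr, hψ'⟩ := Cfsg.Agent.Helper80.IsIrrCharacter.exists_descend ψ.2
      (QuotientGroup.mk' N) (QuotientGroup.mk'_surjective N) (by
        intro g hg
        have hgN : g ∈ N := by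
          rw [← QuotientGroup.eq_one_iff]; exact hg
        exact hψ g hgN)
    obtain ⟨k, hk⟩ := hnc
    have hQ : IsPGroup p (G ⧸ N) := by
      apply IsPGroup.of_card (n := k)
      rw [← hk]
      rfl
    have h1 := sameBlock_of_isPGroup hM hQ (Helper79.principalIrr (G ⧸ N)) ⟨ψ', hψ'irr⟩
    have h2 := sameBlock_comp_mk N h1
    have heq : (ψ : G → ℂ) = ψ' ∘ QuotientGroup.mk := by
      funext g
      exact hψ' g
    show SameBlock M (fun _ : G => (1 : ℂ)) (ψ : G → ℂ)
    rw [heq]
    exact h2

end Cfsg.Agent.S0939
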