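import Cfsg.Statements.S0947
import Cfsg.Agent.Helper16.PrincipalNorm

set_option autoImplicit false
open Cfsg

namespace Cfsg.Agent.S0947

open scoped ComplexConjugate

open Classical in
/-- Casting a real norm-square sum over a block. -/
theorem finsum_norm_sq_cast {H : Type*} [Group H] [Fintype H] (B : Set (IrrCharacter H))
    (f : IrrCharacter H → ℂ) :
    (((∑ᶠ χ ∈ B, ‖f χ‖ ^ 2 : ℝ)) : ℂ) =
      ∑ χ : IrrCharacter H, (if χ ∈ B then (1 : ℂ) else 0) * (f χ * conj (f χ)) := by
  rw [finsum_mem_def, finsum_eq_sum_of_fintype]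
  push_cast
  refine Finset.sum_congr rfl (fun χ _ => ?_)
  rw [Set.indicator_apply]
  by_cases hχ : χ ∈ B
  · rw [if_pos hχ, if_pos hχ, one_mul, Complex.mul_conj']
    push_cast
    rfl
  · rw [if_neg hχ, if_neg hχ, zero_mul]
    simp

open Cfsg.Agent.Helper16 in
/-- Let z ≠ 1 be a p-element of the finite group G with centralizer H, and fix a maximal ideal M of the algebraic integers containing p. (i) For every y ∈ H of order prime to p, the sum over ζ in the principal block of G of |ζ (z * y)|² equals the sum over χ in the principal block of H of |χ y|². (ii) If moreover H has a normal p-complement (its largest normal subgroup of order prime to p has p-power index), that common value is the largest power of p dividing the order of H. -/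
theorem result {G : Type*} [Group G] [Finite G] (p : ℕ) [Fact p.Prime] (M : Ideal Cfsg.AlgInt) (hM : Cfsg.IsPModular p M) (z : G) (hz : ∃ k : ℕ, orderOf z = p ^ k) (hz1 : z ≠ 1) (y : Subgroup.centralizer ({z} : Set G)) (hy : ¬ p ∣ orderOf y) : (∑ᶠ ζ ∈ Cfsg.principalBlock M G, ‖(ζ : G → ℂ) (z * (y : G))‖ ^ 2 = ∑ᶠ χ ∈ Cfsg.principalBlock M (Subgroup.centralizer ({z} : Set G)), ‖(χ : Subgroup.centralizer ({z} : Set G) → ℂ) y‖ ^ 2) ∧ ((∃ k : ℕ, (Cfsg.pPrimeCore p (Subgroup.centralizer ({z} : Set G))).index = p ^ k) → ∑ᶠ ζ ∈ Cfsg.principalBlock M G, ‖(ζ : G → ℂ) (z * (y : G))‖ ^ 2 = ((p ^ (Nat.card (Subgroup.centralizer ({z} : Set G))).factorization p : ℕ) : ℝ)) := by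
  classical
  haveI : Fintype G := Fintype.ofFinite G
  haveI : Fintype (Subgroup.centralizer ({z} : Set G)) := Fintype.ofFinite _
  have key1 := principal_norm_sum_eq hM z hz y hy
  rw [← finsum_norm_sq_cast (principalBlock M G) (fun ζ => (ζ : G → ℂ) (z * (y : G))),
    ← finsum_norm_sq_cast (principalBlock M (Subgroup.centralizer ({z} : Set G)))
      (fun χ => (χ : Subgroup.centralizer ({z} : Set G) → ℂ) y)] at key1
  have e1 := Complex.ofReal_injective key1
  refine ⟨e1, ?_⟩
  intro hnc
  rw [e1]
  have key2 := principal_norm_sum_of_normal_complement hM hnc y hy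
  rw [← finsum_norm_sq_cast (principalBlock M (Subgroup.centralizer ({z} : Set G)))
      (fun χ => (χ : Subgroup.centralizer ({z} : Set G) → ℂ) y)] at key2
  apply Complex.ofReal_injective
  rw [key2]
  push_cast
  rfl

end Cfsg.Agent.S0947
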