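import Cfsg.Statements.S0948
import Cfsg.Agent.Helper76.KleinFourPrincipal

set_option autoImplicit false
open Cfsg

namespace Cfsg.Agent.S0948

/-- Let the finite group G have a Sylow 2-subgroup P that is a Klein four-group, suppose all involutions of G are conjugate, and fix a maximal ideal M of the algebraic integers containing 2. Then the principal block consists of exactly four irreducible characters, the principal character and ζ₂, ζ₃, ζ₄, and there is a sign ε such that for every involution z: ζ₂ z = 1, ζ₃ z = ε, ζ₄ z = -1; moreover ζ₂ 1 ≡ 1, ζ₃ 1 ≡ ε, ζ₄ 1 ≡ -1 (mod 4), and 1 + ζ₂ y + ε ζ₃ y - ζ₄ y = 0 for every y of odd order. -/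
theorem result {G : Type*} [Group G] [Finite G] (M : Ideal Cfsg.AlgInt) (hM : Cfsg.IsPModular 2 M) (P : Sylow 2 G) (hP : IsKleinFour (P : Subgroup G)) (hone : ∀ s t : G, orderOf s = 2 → orderOf t = 2 → IsConj s t) : ∃ ζ₂ ζ₃ ζ₄ : Cfsg.IrrCharacter G, ∃ ε : ℤ, (ε = 1 ∨ ε = -1) ∧ (ζ₂ : G → ℂ) ≠ (fun _ => 1) ∧ (ζ₃ : G → ℂ) ≠ (fun _ => 1) ∧ ζ₂ ≠ ζ₃ ∧ ζ₂ ≠ ζ₄ ∧ ζ₃ ≠ ζ₄ ∧ Cfsg.principalBlock M G = {χ : Cfsg.IrrCharacter G | (χ : G → ℂ) = (fun _ => 1) ∨ χ = ζ₂ ∨ χ = ζ₃ ∨ χ = ζ₄} ∧ (∀ z : G, orderOf z = 2 → (ζ₂ : G → ℂ) z = 1 ∧ (ζ₃ : G → ℂ) z = (ε : ℂ) ∧ (ζ₄ : G → ℂ) z = -1) ∧ (4 : ℤ) ∣ (Cfsg.charDegree (ζ₂ : G → ℂ) : ℤ) - 1 ∧ (4 : ℤ) ∣ (Cfsg.charDegree (ζ₃ : G → ℂ) : ℤ) - ε ∧ (4 : ℤ) ∣ (Cfsg.charDegree (ζ₄ : G → ℂ) : ℤ) + 1 ∧ ∀ y : G, Odd (orderOf y) → 1 + (ζ₂ : G → ℂ) y + (ε : ℂ) * (ζ₃ : G → ℂ) y - (ζ₄ : G → ℂ) y = 0 := by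
  classical
  haveI : IsKleinFour (P : Subgroup G) := hP
  have hP4 : Nat.card P = 4 := IsKleinFour.card_four
  have hexp : ∀ x : P, x * x = 1 := fun x => IsKleinFour.mul_self x
  obtain ⟨u, -, hu⟩ := Cfsg.Agent.Helper76.exists_involution_mem_sylow_four P hP4 hexp
  obtain ⟨ζ₂, ζ₃, ζ₄, ε, hε, h21, h31, h41, h23, h24, h34, hB, hv2, hv3, hv4⟩ :=
    Cfsg.Agent.Helper76.kleinFour_principal_triple hM P hP4 hexp u hu
  have hinv : ∀ (ζ : Cfsg.IrrCharacter G) (z : G), orderOf z = 2 →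
      (ζ : G → ℂ) z = (ζ : G → ℂ) u := by
    intro ζ z hz
    obtain ⟨c, hc⟩ := isConj_iff.1 (hone z u hz hu)
    rw [← hc]
    exact (Cfsg.Agent.Helper79.irr_isClassFunction ζ z c).symm
  have hne : ∀ ζ : Cfsg.IrrCharacter G, ζ ≠ Cfsg.Agent.Helper79.principalIrr G →
      (ζ : G → ℂ) ≠ (fun _ => 1) := by
    intro ζ h h'
    exact h (Subtype.ext h')
  refine ⟨ζ₂, ζ₃, ζ₄, ε, hε, hne ζ₂ h21, hne ζ₃ h31, h23, h24, h34, ?_, ?_, ?_, ?_, ?_, ?_⟩
  · ext χ
    rw [hB χ, Set.mem_setOf_eq]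
    constructor
    · rintro (h | h | h | h)
      · left; rw [h]; rfl
      · exact Or.inr (Or.inl h)
      · exact Or.inr (Or.inr (Or.inl h))
      · exact Or.inr (Or.inr (Or.inr h))
    · rintro (h | h | h | h)
      · left; exact Subtype.ext h
      · exact Or.inr (Or.inl h)
      · exact Or.inr (Or.inr (Or.inl h))
      · exact Or.inr (Or.inr (Or.inr h))
  · intro z hz
    exact ⟨by rw [hinv ζ₂ z hz, hv2], by rw [hinv ζ₃ z hz, hv3], by rw [hinv ζ₄ z hz, hv4]⟩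
  · have := Cfsg.Agent.Helper76.four_dvd_degree_sub_involution_value P hP4 hexp hone u hu ζ₂ 1
      (by rw [hv2]; simp)
    exact this
  · exact Cfsg.Agent.Helper76.four_dvd_degree_sub_involution_value P hP4 hexp hone u hu ζ₃ ε hv3
  · have := Cfsg.Agent.Helper76.four_dvd_degree_sub_involution_value P hP4 hexp hone u hu ζ₄ (-1)
      (by rw [hv4]; simp)
    rw [sub_neg_eq_add] at this
    exact this
  · intro y hy
    haveI : Fintype (Cfsg.IrrCharacter G) := Cfsg.Agent.Helper74.irrFintype G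
    have hy2 : ¬ 2 ∣ orderOf y := by
      intro h
      exact (Nat.not_even_iff_odd.2 hy) (even_iff_two_dvd.2 h)
    have horth := Cfsg.Agent.Helper76.principal_orthogonality_involution_odd_finset hM u hu y hy2
    have hset : (Set.toFinite (Cfsg.principalBlock M G)).toFinset =
        {Cfsg.Agent.Helper79.principalIrr G, ζ₂, ζ₃, ζ₄} := by
      ext χ
      rw [Set.Finite.mem_toFinset, hB χ]
      simp only [Finset.mem_insert, Finset.mem_singleton]
    rw [hset, Finset.sum_insert, Finset.sum_insert, Finset.sum_pair h34, hv2, hv3, hv4] at horth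
    · have h1 : ((Cfsg.Agent.Helper79.principalIrr G : Cfsg.IrrCharacter G) : G → ℂ) y *
          ((Cfsg.Agent.Helper79.principalIrr G : Cfsg.IrrCharacter G) : G → ℂ) u = 1 := by
        show (1 : ℂ) * 1 = 1
        rw [mul_one]
      rw [h1] at horth
      linear_combination horth
    · simp only [Finset.mem_insert, Finset.mem_singleton]
      rintro (h | h)
      · exact h23 h
      · exact h24 h
    · simp only [Finset.mem_insert, Finset.mem_singleton]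
      rintro (h | h | h)
      · exact h21 h.symm
      · exact h31 h.symm
      · exact h41 h.symm
end Cfsg.Agent.S0948
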