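import Cfsg.Statements.S5562

set_option autoImplicit false
open Cfsg

namespace Cfsg.Agent.S5562

theorem inv_eq' {G : Type*} [Group G] (e x : G) (he : e * e = 1) (hx : x * x = 1) :
    (e * x)⁻¹ = x * e := by
  rw [inv_eq_iff_mul_eq_one]
  have : e * x * (x * e) = e * (x * x) * e := by group
  rw [this, hx, mul_one, he]

/-- `e` inverts the powers of `e * x`. -/
theorem inv_pow_comm {G : Type*} [Group G] (e x : G) (he : e * e = 1) (hx : x * x = 1) (k : ℕ) :
    e * ((e * x) ^ k)⁻¹ = (e * x) ^ k * e := by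
  have h1 : e * (e * x)⁻¹ = (e * x) * e := by
    rw [inv_eq' e x he hx]; group
  induction k with
  | zero => simp
  | succ n ih =>
    rw [pow_succ, mul_inv_rev, ← mul_assoc, h1, mul_assoc, ih, ← mul_assoc, ← pow_succ', pow_succ]

/-- dihedral conjugation: if `e² = 1`, `x² = 1` then `(e*x)^k * e * ((e*x)^k)⁻¹ = (e*x)^(2k) * e`. -/
theorem conj_pow {G : Type*} [Group G] (e x : G) (he : e * e = 1) (hx : x * x = 1) (k : ℕ) :
    (e * x) ^ k * e * ((e * x) ^ k)⁻¹ = (e * x) ^ (2 * k) * e := by
  rw [mul_assoc, inv_pow_comm e x he hx, ← mul_assoc, ← pow_add, two_mul]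

theorem result {G : Type*} [Group G] [Finite G] (d : G) (hd : orderOf d = 2)
    (hodd : ∀ a ∈ conjugatesOf d, ∀ b ∈ conjugatesOf d, Odd (orderOf (a * b)))
    (x : G) (hx : orderOf x = 2) :
    ∀ e ∈ conjugatesOf d,
      ∃! a : G, a ∈ conjugatesOf d ∧ Commute a x ∧ Commute e (a * x) := by
  intro e he
  have hdd : d * d = 1 := by
    rw [← pow_two, ← hd]; exact pow_orderOf_eq_one d
  have hxx : x * x = 1 := by
    rw [← pow_two, ← hx]; exact pow_orderOf_eq_one x
  have hD2 : ∀ a ∈ conjugatesOf d, a * a = 1 := by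
    intro a ha
    have ha' : IsConj d a := ha
    rw [isConj_iff] at ha'
    obtain ⟨c, rfl⟩ := ha'
    have : c * d * c⁻¹ * (c * d * c⁻¹) = c * (d * d) * c⁻¹ := by group
    rw [this, hdd]; group
  have hDconj : ∀ a ∈ conjugatesOf d, ∀ g : G, g * a * g⁻¹ ∈ conjugatesOf d := by
    intro a ha g
    have ha' : IsConj d a := ha
    exact (ha'.trans (isConj_iff.2 ⟨g, rfl⟩) : IsConj d (g * a * g⁻¹))
  have hB : ∀ a ∈ conjugatesOf d, ∀ b ∈ conjugatesOf d, Commute a b → a = b := by
    intro a ha b hb hab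
    have h1 : (a * b) ^ 2 = 1 := by
      rw [hab.mul_pow, pow_two, pow_two, hD2 a ha, hD2 b hb, mul_one]
    have h2 : orderOf (a * b) ∣ 2 := orderOf_dvd_of_pow_eq_one h1
    have h3 : Odd (orderOf (a * b)) := hodd a ha b hb
    have h4 : orderOf (a * b) = 1 := by
      rcases (Nat.dvd_prime Nat.prime_two).1 h2 with h | h
      · exact h
      · rw [h] at h3; exact absurd h3 (by decide)
    rw [orderOf_eq_one_iff] at h4
    have h5 : a = b⁻¹ := eq_inv_of_mul_eq_one_left h4
    rw [h5]
    exact inv_eq_of_mul_eq_one_left (hD2 b hb)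
  have hee : e * e = 1 := hD2 e he
  -- notation
  set t : G := e * x with ht
  have hn : 0 < orderOf t := orderOf_pos t
  -- uniqueness reduces to commuting
  rcases Nat.even_or_odd' (orderOf t) with ⟨k, hk | hk⟩
  · -- even order: orderOf t = 2 * k
    -- first, k is odd
    have hk0 : k ≠ 0 := by
      rintro rfl
      rw [hk] at hn; exact absurd hn (by decide)
    have ht2 : e * (x * e * x⁻¹) = t ^ 2 := by
      have hxinv : x⁻¹ = x := inv_eq_of_mul_eq_one_left hxx
      rw [hxinv, pow_two, ht]; group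
    have hkodd : Odd k := by
      have h1 : Odd (orderOf (e * (x * e * x⁻¹))) := hodd e he _ (hDconj e he x)
      rw [ht2, orderOf_pow' t (by norm_num : (2:ℕ) ≠ 0), hk] at h1
      have : Nat.gcd (2 * k) 2 = 2 := by
        rw [Nat.gcd_comm]; exact Nat.gcd_eq_left (Dvd.intro k rfl)
      rw [this, Nat.mul_div_cancel_left k (by norm_num : 0 < 2)] at h1
      exact h1
    obtain ⟨j, hj⟩ := hkodd
    -- a := t^j * e * (t^j)⁻¹ = t^(2j) * e = t^k * x
    have htk : t ^ (2 * k) = 1 := by rw [← hk]; exact pow_orderOf_eq_one t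
    have ha_mem : t ^ j * e * (t ^ j)⁻¹ ∈ conjugatesOf d := hDconj e he _
    have ha_eq : t ^ j * e * (t ^ j)⁻¹ = t ^ k * x := by
      rw [ht, conj_pow e x hee hxx j, ← ht, hj, pow_succ, ht]
      have : (e * x) ^ (2 * j) * (e * x) * x = (e * x) ^ (2 * j) * e * (x * x) := by group
      rw [this, hxx, mul_one]
    rw [ha_eq] at ha_mem
    -- u := t^k commutes with e
    have hu2 : t ^ k * t ^ k = 1 := by rw [← pow_add, ← two_mul, htk]
    have huinv : (t ^ k)⁻¹ = t ^ k := inv_eq_of_mul_eq_one_left hu2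
    have hue : Commute e (t ^ k) := by
      have := inv_pow_comm e x hee hxx k
      rw [← ht, huinv] at this
      exact this
    -- u commutes with x
    have hux : Commute (t ^ k) x := by
      have h1 : (t ^ k * x) * (t ^ k * x) = 1 := hD2 _ ha_mem
      -- t^k * x = (t^k * x)⁻¹ = x⁻¹ * (t^k)⁻¹ = x * t^k
      have h2 : t ^ k * x = (t ^ k * x)⁻¹ := (inv_eq_of_mul_eq_one_left h1).symm
      rw [mul_inv_rev, huinv, inv_eq_of_mul_eq_one_left hxx] at h2
      exact h2
    have hax : Commute (t ^ k * x) x := hux.mul_left (Commute.refl x)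
    have haxx : t ^ k * x * x = t ^ k := by rw [mul_assoc, hxx, mul_one]
    refine ⟨t ^ k * x, ⟨ha_mem, hax, ?_⟩, ?_⟩
    · rw [haxx]; exact hue
    · rintro a' ⟨ha', hc1, hc2⟩
      apply hB a' ha' _ ha_mem
      -- y = a' * x commutes with e and x hence with t and u
      have hyx : Commute (a' * x) x := hc1.mul_left (Commute.refl x)
      have hyt : Commute (a' * x) t := by
        rw [ht]; exact hc2.symm.mul_right hyx
      have hyu : Commute (a' * x) (t ^ k) := hyt.pow_right k
      have ha'eq : a' = a' * x * x := by rw [mul_assoc, hxx, mul_one]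
      have ha'u : Commute a' (t ^ k) := by
        rw [ha'eq]; exact hyu.mul_left hux.symm
      exact ha'u.mul_right hc1
  · -- odd order: x ∈ D
    have htk : t ^ (2 * k + 1) = 1 := by rw [← hk]; exact pow_orderOf_eq_one t
    have hx_mem : x ∈ conjugatesOf d := by
      have h1 : t ^ k * e * (t ^ k)⁻¹ ∈ conjugatesOf d := hDconj e he _
      have h2 : t ^ k * e * (t ^ k)⁻¹ = x := by
        rw [ht, conj_pow e x hee hxx k, ← ht]
        have h3 : t ^ (2 * k) = t⁻¹ := by
          rw [pow_succ] at htk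
          exact eq_inv_of_mul_eq_one_left htk
        rw [h3, ht, inv_eq' e x hee hxx, mul_assoc, hee, mul_one]
      rw [h2] at h1; exact h1
    refine ⟨x, ⟨hx_mem, Commute.refl x, ?_⟩, ?_⟩
    · rw [hxx]; exact Commute.one_right e
    · rintro a' ⟨ha', hc1, _⟩
      exact hB a' ha' x hx_mem hc1

end Cfsg.Agent.S5562
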