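import Cfsg.Statements.S2970
import Cfsg.Agent.Helper49.Isolated
import Cfsg.Agent.Helper49.CharP
import Mathlib.GroupTheory.Transfer
import Mathlib.GroupTheory.SpecificGroups.Cyclic

set_option autoImplicit false
open Cfsg

namespace Cfsg.Agent.S2970

open Cfsg.Agent.Helper49

variable {G : Type*} [Group G]

/-- In a cyclic group, the elements killed by `p` lie in `zpowers x` for any `x ≠ 1` of `p`-power
order. -/
theorem mem_zpowers_of_pow_eq_one {α : Type*} [Group α] [Finite α] [IsCyclic α] {p : ℕ}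
    [hp : Fact p.Prime] {x : α} (hx1 : x ≠ 1) (hx : ∃ k : ℕ, orderOf x = p ^ k) {z : α}
    (hz : z ^ p = 1) : z ∈ Subgroup.zpowers x := by
  classical
  haveI : Fintype α := Fintype.ofFinite α
  obtain ⟨k, hk⟩ := hx
  have hk1 : 1 ≤ k := by
    rcases Nat.eq_zero_or_pos k with h0 | h0
    · exfalso
      rw [h0, pow_zero, orderOf_eq_one_iff] at hk
      exact hx1 hk
    · exact h0
  set x₁ : α := x ^ (p ^ (k - 1)) with hx₁
  have hord : orderOf x₁ = p := by
    rw [hx₁, orderOf_pow' x (pow_ne_zero _ hp.out.ne_zero), hk]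
    have : p ^ k = p ^ (k - 1) * p := by
      rw [← pow_succ]; congr 1; omega
    rw [this, Nat.gcd_mul_right_left, Nat.mul_div_cancel_left _ (pow_pos hp.out.pos _)]
  have hle := IsCyclic.card_pow_eq_one_le (α := α) hp.out.pos
  set F : Finset α := Finset.univ.filter (fun a : α => a ^ p = 1) with hF
  set Z : Finset α := (Subgroup.zpowers x₁ : Set α).toFinset with hZ
  have hZF : Z ⊆ F := by
    intro a ha
    rw [hZ, Set.mem_toFinset] at ha
    rw [hF, Finset.mem_filter]
    refine ⟨Finset.mem_univ _, ?_⟩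
    obtain ⟨i, rfl⟩ := Subgroup.mem_zpowers_iff.mp ha
    rw [← zpow_natCast, ← zpow_mul, mul_comm, zpow_mul, zpow_natCast, ← hord, pow_orderOf_eq_one,
      one_zpow]
  have hZcard : Z.card = p := by
    rw [hZ, Set.toFinset_card, ← hord]
    exact Fintype.card_zpowers
  have hFZ : F = Z := (Finset.eq_of_subset_of_card_le hZF (by rw [hZcard]; exact hle)).symm
  have hzF : z ∈ F := by
    rw [hF, Finset.mem_filter]; exact ⟨Finset.mem_univ _, hz⟩
  rw [hFZ, hZ, Set.mem_toFinset] at hzF
  have : Subgroup.zpowers x₁ ≤ Subgroup.zpowers x := by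
    rw [Subgroup.zpowers_le, hx₁]
    exact Subgroup.pow_mem _ (Subgroup.mem_zpowers x) _
  exact this hzF

/-- Let G be a finite group, p a prime and x ∈ G an element of p-power order which is isolated in G. Then the image of x in any quotient G ⧸ N is isolated in G ⧸ N; and if x ≠ 1 and the Sylow p-subgroups of G are cyclic, then G has a normal p-complement. -/
theorem result {G : Type*} [Group G] [Finite G] {p : ℕ} [Fact p.Prime] (x : G) (hx : ∃ k : ℕ, orderOf x = p ^ k) (hiso : Cfsg.IsIsolated x) : (∀ (N : Subgroup G) [N.Normal], Cfsg.IsIsolated (QuotientGroup.mk x : G ⧸ N)) ∧ (x ≠ 1 → (∀ P : Sylow p G, IsCyclic ↥(P : Subgroup G)) → Cfsg.HasNormalPComplement p G) := by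
  have hp : p.Prime := Fact.out
  constructor
  · intro N _ gbar hcomm
    obtain ⟨g, rfl⟩ := QuotientGroup.mk_surjective gbar
    set xb : G ⧸ N := QuotientGroup.mk x with hxb
    set yb : G ⧸ N := QuotientGroup.mk g * xb * (QuotientGroup.mk g)⁻¹ with hyb
    set K : Subgroup G := (Subgroup.closure ({xb, yb} : Set (G ⧸ N))).comap (QuotientGroup.mk' N)
      with hK
    have hxK : x ∈ K := by
      rw [hK, Subgroup.mem_comap]
      exact Subgroup.subset_closure (by simp [hxb])
    have hyK : g * x * g⁻¹ ∈ K := by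
      rw [hK, Subgroup.mem_comap]
      apply Subgroup.subset_closure
      simp [hyb, hxb]
    obtain ⟨c, hcK, hc⟩ := isolated_exists_conj_mem hiso hx hxK hyK
    have hcl : Subgroup.closure ({xb, yb} : Set (G ⧸ N)) ≤ Subgroup.centralizer ({xb} : Set (G ⧸ N)) := by
      rw [Subgroup.closure_le]
      intro a ha
      rw [Set.mem_insert_iff, Set.mem_singleton_iff] at ha
      rw [SetLike.mem_coe, Subgroup.mem_centralizer_iff]
      intro b hb
      rw [Set.mem_singleton_iff] at hb
      rw [hb]
      rcases ha with rfl | rfl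
      · rfl
      · exact hcomm.eq
    have hcb : (QuotientGroup.mk c : G ⧸ N) ∈ Subgroup.centralizer ({xb} : Set (G ⧸ N)) := by
      apply hcl
      rw [hK, Subgroup.mem_comap] at hcK
      exact hcK
    have hcb' : xb * (QuotientGroup.mk c : G ⧸ N) = (QuotientGroup.mk c : G ⧸ N) * xb :=
      (Subgroup.mem_centralizer_iff.mp hcb) xb rfl
    have h1 : yb = (QuotientGroup.mk c : G ⧸ N) * xb * (QuotientGroup.mk c : G ⧸ N)⁻¹ := by
      have := congrArg (QuotientGroup.mk : G → G ⧸ N) hc
      simpa [hyb, hxb] using this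
    rw [h1, ← hcb']
    group
  · intro hx1 hcyc
    obtain ⟨P, hP⟩ := (isPGroup_zpowers_of_orderOf hx).exists_le_sylow
    have hxP : x ∈ (P : Subgroup G) := hP (Subgroup.mem_zpowers x)
    have hPp : IsPGroup p (P : Subgroup G) := P.isPGroup'
    haveI : IsCyclic ↥(P : Subgroup G) := hcyc P
    have hPcomm : ∀ a ∈ (P : Subgroup G), ∀ b ∈ (P : Subgroup G), a * b = b * a := by
      intro a ha b hb
      letI := IsCyclic.commGroup (α := ↥(P : Subgroup G))
      have := mul_comm (⟨a, ha⟩ : ↥(P : Subgroup G)) ⟨b, hb⟩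
      simpa using congrArg Subtype.val this
    -- Step 1
    have hNx : ∀ n ∈ Subgroup.normalizer ((P : Subgroup G) : Set G), n * x = x * n := by
      intro n hn
      have h1 : n * x * n⁻¹ ∈ (P : Subgroup G) := (Subgroup.mem_normalizer_iff.mp hn x).mp hxP
      have h2 : n * x * n⁻¹ = x := isolated_conj_eq_of_mem hiso hPp hxP h1
      calc n * x = (n * x * n⁻¹) * n := by group
        _ = x * n := by rw [h2]
    -- Step 2
    have hΩ : ∀ z ∈ (P : Subgroup G), z ^ p = 1 → z ∈ Subgroup.zpowers x := by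
      intro z hz hzp
      have hx' : (⟨x, hxP⟩ : ↥(P : Subgroup G)) ≠ 1 := by
        intro h; apply hx1; simpa using congrArg Subtype.val h
      have hxo : ∃ k : ℕ, orderOf (⟨x, hxP⟩ : ↥(P : Subgroup G)) = p ^ k := by
        obtain ⟨k, hk⟩ := hx
        exact ⟨k, by rw [← hk]; exact Subgroup.orderOf_mk x hxP⟩
      have hz' : (⟨z, hz⟩ : ↥(P : Subgroup G)) ^ p = 1 := Subtype.ext (by simpa using hzp)
      have := mem_zpowers_of_pow_eq_one hx' hxo hz'
      obtain ⟨i, hi⟩ := Subgroup.mem_zpowers_iff.mp this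
      rw [Subgroup.mem_zpowers_iff]
      exact ⟨i, by simpa using congrArg Subtype.val hi⟩
    have hNz : ∀ n ∈ Subgroup.normalizer ((P : Subgroup G) : Set G),
        ∀ z ∈ Subgroup.zpowers x, n * z = z * n := by
      intro n hn z hz
      obtain ⟨i, rfl⟩ := Subgroup.mem_zpowers_iff.mp hz
      exact ((show Commute n x from hNx n hn).zpow_right i).eq
    -- Step 3
    have hcop : ∀ n ∈ Subgroup.normalizer ((P : Subgroup G) : Set G), (orderOf n).Coprime p →
        ∀ m : ℕ, ∀ h ∈ (P : Subgroup G), h ^ (p ^ m) = 1 → n * h = h * n := by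
      intro n hn hncop m
      induction m with
      | zero =>
        intro h _ hh
        rw [pow_zero, pow_one] at hh
        rw [hh, mul_one, one_mul]
      | succ m ih =>
        intro h hhP hh
        have hhp : (h ^ p) ^ (p ^ m) = 1 := by rw [← pow_mul, ← pow_succ']; exact hh
        have hcomm_p : n * h ^ p = h ^ p * n := ih (h ^ p) (Subgroup.pow_mem _ hhP p) hhp
        set z : G := h⁻¹ * (n * h * n⁻¹) with hz
        have hnh : n * h * n⁻¹ ∈ (P : Subgroup G) := (Subgroup.mem_normalizer_iff.mp hn h).mp hhP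
        have hzP : z ∈ (P : Subgroup G) := Subgroup.mul_mem _ (Subgroup.inv_mem _ hhP) hnh
        have hzp : z ^ p = 1 := by
          have hc : Commute h⁻¹ (n * h * n⁻¹) := hPcomm _ (Subgroup.inv_mem _ hhP) _ hnh
          rw [hz, hc.mul_pow]
          have : (n * h * n⁻¹) ^ p = n * h ^ p * n⁻¹ := by
            have e : n * h * n⁻¹ = MulAut.conj n h := by simp [MulAut.conj_apply]
            rw [e, ← map_pow]; simp [MulAut.conj_apply]
          rw [this, hcomm_p, inv_pow]
          group
        have hzx : z ∈ Subgroup.zpowers x := hΩ z hzP hzp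
        have hcz : Commute n z := hNz n hn z hzx
        have hconj : n * h * n⁻¹ = h * z := by rw [hz]; group
        have hz1 : z = 1 := eq_one_of_conj_eq_mul hconj hcz ⟨1, by rw [pow_one]; exact hzp⟩ hncop
        rw [hz1, mul_one] at hconj
        calc n * h = (n * h * n⁻¹) * n := by group
          _ = h * n := by rw [hconj]
    have hcop' : ∀ n ∈ Subgroup.normalizer ((P : Subgroup G) : Set G), (orderOf n).Coprime p →
        n ∈ Subgroup.centralizer ((P : Subgroup G) : Set G) := by
      intro n hn hncop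
      rw [Subgroup.mem_centralizer_iff]
      intro h hh
      obtain ⟨m, hm⟩ := hPp ⟨h, hh⟩
      have hm' : h ^ (p ^ m) = 1 := by simpa using congrArg Subtype.val hm
      exact (hcop n hn hncop m h hh hm').symm
    -- Step 4
    have hpel : ∀ n ∈ Subgroup.normalizer ((P : Subgroup G) : Set G), (∃ s : ℕ, orderOf n = p ^ s) →
        n ∈ Subgroup.centralizer ((P : Subgroup G) : Set G) := by
      intro n hn hns
      have hzp : IsPGroup p (Subgroup.zpowers n) := isPGroup_zpowers_of_orderOf hns
      have hle : Subgroup.zpowers n ≤ Subgroup.normalizer ((P : Subgroup G) : Set G) := by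
        rw [Subgroup.zpowers_le]; exact hn
      have h1 : IsPGroup p (Subgroup.zpowers n ⊔ (P : Subgroup G) : Subgroup G) :=
        IsPGroup.to_sup_of_normal_right' hzp hPp hle
      have h2 : Subgroup.zpowers n ⊔ (P : Subgroup G) = P := P.is_maximal' h1 le_sup_right
      have hnP : n ∈ (P : Subgroup G) := by
        rw [← h2]; exact Subgroup.mem_sup_left (Subgroup.mem_zpowers n)
      rw [Subgroup.mem_centralizer_iff]
      intro h hh
      exact hPcomm h hh n hnP
    -- Step 5
    have hNC : Subgroup.normalizer ((P : Subgroup G) : Set G) ≤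
        Subgroup.centralizer ((P : Subgroup G) : Set G) := by
      intro n hn
      have hpos : 0 < orderOf n := orderOf_pos n
      obtain ⟨s, m, hm, hsm⟩ := Nat.exists_eq_pow_mul_and_not_dvd hpos.ne' p hp.ne_one
      have hmpos : 0 < m := by
        rcases Nat.eq_zero_or_pos m with h0 | h0
        · rw [h0, mul_zero] at hsm; omega
        · exact h0
      have h1 : n ^ m ∈ Subgroup.centralizer ((P : Subgroup G) : Set G) := by
        apply hpel _ (Subgroup.pow_mem _ hn m)
        refine ⟨s, ?_⟩
        rw [orderOf_pow' n hmpos.ne', hsm, Nat.gcd_mul_left_left, Nat.mul_div_cancel _ hmpos]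
      have h2 : n ^ (p ^ s) ∈ Subgroup.centralizer ((P : Subgroup G) : Set G) := by
        apply hcop' _ (Subgroup.pow_mem _ hn _)
        rw [orderOf_pow' n (pow_ne_zero s hp.ne_zero), hsm, Nat.gcd_mul_right_left,
          Nat.mul_div_cancel_left _ (pow_pos hp.pos s)]
        exact ((Nat.Prime.coprime_iff_not_dvd hp).mpr hm).symm
      have hcopms : Nat.Coprime m (p ^ s) :=
        (((Nat.Prime.coprime_iff_not_dvd hp).mpr hm).symm).pow_right s
      have hbez := Int.gcd_eq_gcd_ab (m : ℤ) ((p ^ s : ℕ) : ℤ)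
      have hg : Int.gcd (m : ℤ) ((p ^ s : ℕ) : ℤ) = 1 := by
        rw [Int.gcd_natCast_natCast]; exact hcopms
      rw [hg] at hbez
      have hn1 : n = (n ^ m) ^ (Int.gcdA (m : ℤ) ((p ^ s : ℕ) : ℤ)) *
          (n ^ (p ^ s)) ^ (Int.gcdB (m : ℤ) ((p ^ s : ℕ) : ℤ)) := by
        rw [← zpow_natCast n m, ← zpow_natCast n (p ^ s), ← zpow_mul, ← zpow_mul, ← zpow_add]
        have : (m : ℤ) * Int.gcdA (m : ℤ) ((p ^ s : ℕ) : ℤ) +
            ((p ^ s : ℕ) : ℤ) * Int.gcdB (m : ℤ) ((p ^ s : ℕ) : ℤ) = 1 := by
          rw [← hbez]; simp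
        rw [this, zpow_one]
      rw [hn1]
      exact Subgroup.mul_mem _ (Subgroup.zpow_mem _ h1 _) (Subgroup.zpow_mem _ h2 _)
    -- Step 6: Burnside
    refine ⟨P, (MonoidHom.transferSylow P hNC).ker, inferInstance, ?_⟩
    exact MonoidHom.ker_transferSylow_isComplement' P hNC

end Cfsg.Agent.S2970
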