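import Cfsg.Statements.S0147
import Cfsg.Agent.Helper15.IndFun

set_option autoImplicit false
open Cfsg

namespace Cfsg.Agent.S0147

open Cfsg.Agent.Helper15 in
theorem ext_ind_eq {G : Type*} [Group G] [Fintype G] (H K : Subgroup G) [Fintype K] (hHK : H ≤ K)
    (θ : H → ℂ) (z : G) :
    extendByZero K (indFun (H.subgroupOf K)
      (fun x => θ ⟨(x : K), Subgroup.mem_subgroupOf.mp x.2⟩)) z
      = (Nat.card H : ℂ)⁻¹ * ∑ y : K, extendByZero H θ ((y : G)⁻¹ * z * (y : G)) := by
  have hcard : Nat.card (H.subgroupOf K) = Nat.card H :=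
    Nat.card_congr (Subgroup.subgroupOfEquivOfLe hHK).toEquiv
  have hext : ∀ k : K, extendByZero (H.subgroupOf K)
      (fun x => θ ⟨(x : K), Subgroup.mem_subgroupOf.mp x.2⟩) k = extendByZero H θ (k : G) := by
    intro k
    by_cases hk : (k : G) ∈ H
    · have hk' : k ∈ H.subgroupOf K := Subgroup.mem_subgroupOf.mpr hk
      rw [extendByZero_of_mem _ _ hk', extendByZero_of_mem _ _ hk]
    · have hk' : k ∉ H.subgroupOf K := fun hc => hk (Subgroup.mem_subgroupOf.mp hc)
      rw [extendByZero_of_not_mem _ _ hk', extendByZero_of_not_mem _ _ hk]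
  by_cases hz : z ∈ K
  · rw [extendByZero_of_mem _ _ hz, indFun_apply, hcard]
    congr 1
    apply Finset.sum_congr rfl
    intro y _
    rw [hext]
    rfl
  · rw [extendByZero_of_not_mem _ _ hz, Finset.sum_eq_zero, mul_zero]
    intro y _
    apply extendByZero_of_not_mem
    intro hc
    apply hz
    have h1 : (y : G)⁻¹ * z * (y : G) ∈ K := hHK hc
    have h2 : z = (y : G) * ((y : G)⁻¹ * z * (y : G)) * (y : G)⁻¹ := by group
    rw [h2]
    exact K.mul_mem (K.mul_mem y.2 h1) (K.inv_mem y.2)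

/-- Transitivity of induction: inducing from H to K and then from K to G is the same as inducing from H to G. -/
theorem result {G : Type*} [Group G] [Fintype G] (H K : Subgroup G) [Fintype K] (hHK : H ≤ K) (θ : H → ℂ) : Cfsg.indFun K (Cfsg.indFun (H.subgroupOf K) (fun x => θ ⟨(x : K), Subgroup.mem_subgroupOf.mp x.2⟩)) = Cfsg.indFun H θ := by
  classical
  have hK : (Nat.card K : ℂ) ≠ 0 := by
    have : Nat.card K ≠ 0 := Nat.card_pos.ne'
    exact_mod_cast this
  funext g
  rw [Cfsg.Agent.Helper15.indFun_apply, Cfsg.Agent.Helper15.indFun_apply]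
  simp only [ext_ind_eq H K hHK θ]
  rw [← Finset.mul_sum, Finset.sum_comm]
  have hinner : ∀ y : K, ∑ x : G, extendByZero H θ ((y : G)⁻¹ * (x⁻¹ * g * x) * (y : G))
      = ∑ x : G, extendByZero H θ (x⁻¹ * g * x) := by
    intro y
    apply Fintype.sum_equiv (Equiv.mulRight (y : G))
    intro x
    simp only [Equiv.coe_mulRight, mul_inv_rev, mul_assoc]
  simp only [hinner]
  rw [Finset.sum_const, Finset.card_univ, nsmul_eq_mul, ← Nat.card_eq_fintype_card]
  field_simp

end Cfsg.Agent.S0147
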