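import Cfsg.Statements.S0870
import Cfsg.Agent.Helper15.PermChar

set_option autoImplicit false
open Cfsg

namespace Cfsg.Agent.S0870

open Cfsg.Agent.Helper15 MulAction

/-- The fixed points of `g` on a product are the pairs of fixed points. -/
theorem card_fixedBy_prod {G : Type*} [Group G] (α β : Type*) [MulAction G α] [MulAction G β]
    (g : G) : Nat.card (fixedBy (α × β) g) = Nat.card (fixedBy α g) * Nat.card (fixedBy β g) := by
  rw [← Nat.card_prod]
  apply Nat.card_congr
  exact
    { toFun := fun x => (⟨x.1.1, congrArg Prod.fst x.2⟩, ⟨x.1.2, congrArg Prod.snd x.2⟩)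
      invFun := fun y => ⟨(y.1.1, y.2.1), Prod.ext y.1.2 y.2.2⟩
      left_inv := fun x => rfl
      right_inv := fun y => rfl }

/-- Natural-number version: the product of two permutation characters is a sum of permutation
characters on subgroups of `H`. -/
theorem permFun_mul {G : Type*} [Group G] [Finite G] [Fintype (Subgroup G)] (H K : Subgroup G) :
    ∃ a : Subgroup G → ℕ, (∀ U, a U ≠ 0 → U ≤ H) ∧
      ∀ g, permFun H g * permFun K g = ∑ U : Subgroup G, a U * permFun U g := by
  classical
  let X := (G ⧸ H) × (G ⧸ K)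
  let _ : Fintype (orbitRel.Quotient G X) := Fintype.ofFinite _
  have hex : ∀ ω : orbitRel.Quotient G X, ∃ x : X,
      (Quotient.mk'' x : orbitRel.Quotient G X) = ω ∧ x.1 = ((1 : G) : G ⧸ H) := by
    intro ω
    induction ω using Quotient.inductionOn' with
    | h x =>
      obtain ⟨a, b⟩ := x
      induction a using QuotientGroup.induction_on with
      | H a =>
        refine ⟨a⁻¹ • ((a : G ⧸ H), b), ?_, ?_⟩
        · rw [Quotient.eq'']
          exact orbitRel_apply.mpr ⟨a⁻¹, rfl⟩
        · show a⁻¹ • (a : G ⧸ H) = _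
          rw [MulAction.Quotient.smul_mk, smul_eq_mul, inv_mul_cancel]
  choose φ hφ hφ1 using hex
  refine ⟨fun U => Nat.card {ω : orbitRel.Quotient G X // stabilizer G (φ ω) = U}, ?_, ?_⟩
  · intro U hU
    have : Nonempty {ω : orbitRel.Quotient G X // stabilizer G (φ ω) = U} := by
      by_contra h
      rw [not_nonempty_iff] at h
      exact hU Nat.card_of_isEmpty
    obtain ⟨ω, rfl⟩ := this
    intro u hu
    rw [mem_stabilizer_iff] at hu
    have h1 : u • (φ ω).1 = (φ ω).1 := congrArg Prod.fst hu
    rw [hφ1, MulAction.Quotient.smul_mk, QuotientGroup.eq, smul_eq_mul, mul_one] at h1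
    simpa using H.inv_mem h1
  · intro g
    have h1 : permFun H g * permFun K g = Nat.card (fixedBy X g) :=
      (card_fixedBy_prod (G ⧸ H) (G ⧸ K) g).symm
    rw [h1, card_fixedBy_eq_sum φ hφ g, sum_permFun_fiberwise]

/-- For subgroups H and K of a finite group G, the pointwise product of the functions induced from the constant function 1 on H and on K is a sum, over subgroups U of H with natural-number coefficients, of the functions induced from the constant function 1 on U. -/
theorem result {G : Type*} [Group G] [Fintype G] (H K : Subgroup G) : ∃ a : Subgroup G → ℕ, (∀ U, a U ≠ 0 → U ≤ H) ∧ Cfsg.indFun H (fun _ => 1) * Cfsg.indFun K (fun _ => 1) = ∑ U : Subgroup G, (a U : ℂ) • Cfsg.indFun U (fun _ => 1) := by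
  obtain ⟨a, ha, hmul⟩ := permFun_mul H K
  refine ⟨a, ha, ?_⟩
  funext g
  rw [Pi.mul_apply, Finset.sum_apply, indFun_one_eq, indFun_one_eq, ← Nat.cast_mul, hmul g,
    Nat.cast_sum]
  apply Finset.sum_congr rfl
  intro U _
  rw [Pi.smul_apply, indFun_one_eq, Nat.cast_mul, smul_eq_mul]

end Cfsg.Agent.S0870
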