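import Cfsg.Statements.S0872
import Cfsg.Agent.Helper15.QuasiElem
import Cfsg.Agent.S0869
import Cfsg.Agent.S0870

set_option autoImplicit false
open Cfsg

namespace Cfsg.Agent.S0872

open Cfsg.Agent.Helper15

section

variable {G : Type*} [Group G] [Finite G] [Fintype (Subgroup G)]

/-- The integer-valued permutation character of `G` on `G ⧸ H`. -/
noncomputable def piZ (H : Subgroup G) : G → ℤ := fun g => (permFun H g : ℤ)

/-- Integer combinations of permutation characters on `p`-quasi-elementary subgroups. -/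
def solomonGroup (p : ℕ) : AddSubgroup (G → ℤ) where
  carrier := {f | ∃ a : Subgroup G → ℤ, (∀ H, a H ≠ 0 → IsQuasiElem p H) ∧
    f = ∑ H : Subgroup G, a H • piZ H}
  zero_mem' := ⟨0, by simp, by simp⟩
  add_mem' := by
    rintro f f' ⟨a, ha, rfl⟩ ⟨b, hb, rfl⟩
    refine ⟨a + b, ?_, ?_⟩
    · intro H hH
      by_cases h : a H = 0
      · apply hb
        intro h'
        apply hH
        simp [h, h']
      · exact ha H h
    · rw [← Finset.sum_add_distrib]
      apply Finset.sum_congr rfl
      intro H _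
      rw [Pi.add_apply, add_smul]
  neg_mem' := by
    rintro f ⟨a, ha, rfl⟩
    refine ⟨-a, ?_, ?_⟩
    · intro H hH
      apply ha
      intro h
      apply hH
      simp [h]
    · rw [← Finset.sum_neg_distrib]
      apply Finset.sum_congr rfl
      intro H _
      rw [Pi.neg_apply, neg_smul]

theorem mem_solomonGroup {p : ℕ} {f : G → ℤ} :
    f ∈ solomonGroup (G := G) p ↔ ∃ a : Subgroup G → ℤ, (∀ H, a H ≠ 0 → IsQuasiElem p H) ∧
      f = ∑ H : Subgroup G, a H • piZ H := Iff.rfl

theorem piZ_mem {p : ℕ} {H : Subgroup G} (hH : IsQuasiElem p H) :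
    piZ H ∈ solomonGroup (G := G) p := by
  classical
  refine ⟨fun K => if K = H then 1 else 0, ?_, ?_⟩
  · intro K hK
    by_cases h : K = H
    · rw [h]; exact hH
    · simp [h] at hK
  · rw [Finset.sum_eq_single H]
    · simp
    · intro K _ hK
      simp [hK]
    · intro h
      exact absurd (Finset.mem_univ H) h

theorem piZ_mul_mem {p : ℕ} (hp : p.Prime) {H : Subgroup G} (hH : IsQuasiElem p H)
    (K : Subgroup G) : piZ H * piZ K ∈ solomonGroup (G := G) p := by
  obtain ⟨c, hc, hmul⟩ := Cfsg.Agent.S0870.permFun_mul H K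
  refine ⟨fun U => (c U : ℤ), ?_, ?_⟩
  · intro U hU
    apply hH.of_le hp
    apply hc
    intro h
    apply hU
    simp [h]
  · funext g
    rw [Pi.mul_apply, Finset.sum_apply]
    simp only [piZ, Pi.smul_apply, smul_eq_mul]
    rw [← Nat.cast_mul, hmul g]
    push_cast
    rfl

theorem mul_mem_solomonGroup {p : ℕ} (hp : p.Prime) {f f' : G → ℤ}
    (hf : f ∈ solomonGroup (G := G) p) (hf' : f' ∈ solomonGroup (G := G) p) :
    f * f' ∈ solomonGroup (G := G) p := by
  obtain ⟨a, ha, rfl⟩ := hf
  obtain ⟨b, hb, rfl⟩ := hf'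
  rw [Finset.sum_mul_sum]
  apply AddSubgroup.sum_mem
  intro H _
  apply AddSubgroup.sum_mem
  intro K _
  by_cases h : a H = 0
  · rw [h, zero_smul, zero_mul]
    exact AddSubgroup.zero_mem _
  · have : a H • piZ H * b K • piZ K = (a H * b K) • (piZ H * piZ K) := by
      funext g
      simp only [Pi.mul_apply, Pi.smul_apply, smul_eq_mul]
      ring
    rw [this]
    exact AddSubgroup.zsmul_mem _ (piZ_mul_mem hp (ha H h) K) _

end

/-- The "polynomial trick": in a multiplicatively closed additive group `R` of integer-valued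
functions on a finite set, an element `r` yields a constant function `∏ (-(r x))` in `R`. -/
theorem const_prod_mem {S : Type*} [Fintype S] (R : AddSubgroup (S → ℤ))
    (hmul : ∀ f ∈ R, ∀ g ∈ R, f * g ∈ R) (r : S → ℤ) (hr : r ∈ R) :
    (fun _ : S => ∏ x : S, (-(r x))) ∈ R := by
  classical
  have key : ∀ T : Finset S, ∃ s ∈ R,
      ∏ x ∈ T, (r - fun _ => r x) = (fun _ : S => ∏ x ∈ T, (-(r x))) + s := by
    intro T
    induction T using Finset.induction_on with
    | empty =>
      refine ⟨0, R.zero_mem, ?_⟩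
      funext z
      simp
    | insert y T hy ih =>
      obtain ⟨s, hs, hprod⟩ := ih
      rw [Finset.prod_insert hy, Finset.prod_insert hy, hprod]
      refine ⟨(∏ x ∈ T, (-(r x))) • r + r * s - (r y) • s, ?_, ?_⟩
      · apply R.sub_mem
        · apply R.add_mem
          · exact R.zsmul_mem hr _
          · exact hmul r hr s hs
        · exact R.zsmul_mem hs _
      · funext z
        simp only [Pi.mul_apply, Pi.sub_apply, Pi.add_apply, Pi.smul_apply, smul_eq_mul]
        ring
  obtain ⟨s, hs, hprod⟩ := key Finset.univ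
  have hzero : ∏ x : S, (r - fun _ => r x) = 0 := by
    funext z
    rw [Finset.prod_apply]
    apply Finset.prod_eq_zero (Finset.mem_univ z)
    simp
  rw [hzero] at hprod
  have : (fun _ : S => ∏ x : S, (-(r x))) = -s := by
    rw [eq_neg_iff_add_eq_zero]
    exact hprod.symm
  rw [this]
  exact R.neg_mem hs

/-- For a finite group G and a prime p there are an integer m not divisible by p and a ℤ-linear combination of functions induced from the constant function 1 on subgroups H, each having a cyclic normal subgroup of order prime to p and p-power index in H, that equals the constant function m. -/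
theorem result {G : Type*} [Group G] [Fintype G] (p : ℕ) (hp : p.Prime) : ∃ (m : ℤ) (a : Subgroup G → ℤ), ¬ (p : ℤ) ∣ m ∧ (∀ H, a H ≠ 0 → (∃ C : Subgroup G, C ≤ H ∧ H ≤ Subgroup.normalizer (C : Set G) ∧ IsCyclic C ∧ Nat.Coprime (Nat.card C) p ∧ ∃ k : ℕ, C.relIndex H = p ^ k)) ∧ (fun _ : G => (m : ℂ)) = ∑ H : Subgroup G, (a H : ℂ) • Cfsg.indFun H (fun _ => 1) := by
  classical
  let R : AddSubgroup (G → ℤ) := solomonGroup p
  have hRmul : ∀ f ∈ R, ∀ g ∈ R, f * g ∈ R := fun f hf g hg => mul_mem_solomonGroup hp hf hg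
  -- `R + p ℤ^G`
  let R' : AddSubgroup (G → ℤ) :=
    { carrier := {f | ∃ r ∈ R, ∀ x, (p : ℤ) ∣ f x - r x}
      zero_mem' := ⟨0, R.zero_mem, fun x => by simp⟩
      add_mem' := by
        rintro f f' ⟨r, hr, h⟩ ⟨r', hr', h'⟩
        refine ⟨r + r', R.add_mem hr hr', fun x => ?_⟩
        have : (f + f') x - (r + r') x = (f x - r x) + (f' x - r' x) := by
          simp only [Pi.add_apply]; ring
        rw [this]
        exact dvd_add (h x) (h' x)
      neg_mem' := by
        rintro f ⟨r, hr, h⟩
        refine ⟨-r, R.neg_mem hr, fun x => ?_⟩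
        have : (-f) x - (-r) x = -(f x - r x) := by
          simp only [Pi.neg_apply]; ring
        rw [this]
        exact (dvd_neg).mpr (h x) }
  have hR'mul : ∀ f ∈ R', ∀ g ∈ R', f * g ∈ R' := by
    rintro f ⟨r, hr, h⟩ f' ⟨r', hr', h'⟩
    refine ⟨r * r', hRmul r hr r' hr', fun x => ?_⟩
    have : (f * f') x - (r * r') x = f x * (f' x - r' x) + (f x - r x) * r' x := by
      simp only [Pi.mul_apply]; ring
    rw [this]
    exact dvd_add (Dvd.dvd.mul_left (h' x) _) (Dvd.dvd.mul_right (h x) _)
  have hRR' : ∀ f ∈ R, f ∈ R' := fun f hf => ⟨f, hf, fun x => by simp⟩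
  have h1 : (1 : G → ℤ) ∈ R' := by
    by_contra hne
    obtain ⟨x, q, hq, hdiv⟩ := Cfsg.Agent.S0869.result R' hR'mul hne
    have hpmem : (fun _ : G => (p : ℤ)) ∈ R' := ⟨0, R.zero_mem, fun x => by simp⟩
    have hqp : q = p := by
      have := hdiv _ hpmem
      have : q ∣ p := Int.natCast_dvd_natCast.mp this
      exact (Nat.prime_dvd_prime_iff_eq hq hp).mp this
    subst hqp
    obtain ⟨H, hH, hnd⟩ := exists_quasiElem_permFun_not_dvd x hq
    have := hdiv _ (hRR' _ (piZ_mem hH))
    exact hnd (Int.natCast_dvd_natCast.mp this)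
  obtain ⟨r, hr, hr1⟩ := h1
  have hm := const_prod_mem R hRmul r hr
  obtain ⟨a, ha, hsum⟩ := hm
  refine ⟨∏ x : G, (-(r x)), a, ?_, ha, ?_⟩
  · intro hdvd
    have hpi : Prime (p : ℤ) := Nat.prime_iff_prime_int.mp hp
    obtain ⟨x, -, hx⟩ := (Prime.dvd_finsetProd_iff hpi _).mp hdvd
    have h2 := hr1 x
    have h3 : (p : ℤ) ∣ 1 := by
      have h4 : (p : ℤ) ∣ r x := (dvd_neg).mp hx
      have : (1 : ℤ) = ((1 : G → ℤ) x - r x) + r x := by simp
      rw [this]
      exact dvd_add h2 h4
    exact hpi.not_dvd_one h3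
  · funext g
    have := congrFun hsum g
    rw [this, Finset.sum_apply, Finset.sum_apply]
    push_cast
    apply Finset.sum_congr rfl
    intro H _
    simp only [Pi.smul_apply, smul_eq_mul, piZ, indFun_one_eq]
    push_cast
    rfl

end Cfsg.Agent.S0872
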