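import Cfsg.Statements.S4426
import Cfsg.Agent.Helper76.PRegularDefect
import Cfsg.Agent.Helper76.PRegularBlock
import Cfsg.Agent.Helper16.Height
import Cfsg.Agent.Helper16.Integrality
import Cfsg.Agent.Helper78.PSection

set_option autoImplicit false
open Cfsg
open scoped ComplexConjugate

namespace Cfsg.Agent.S4426

universe u

section val

variable {p : ℕ} {M : Ideal AlgInt}

/-- valuation lemma A -/
theorem pow_dvd_int_of_memLocalRing_div (hM : IsPModular p M) {n : ℤ} {d : ℕ} (hd : d ≠ 0)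
    (h : MemLocalRing M ((n : ℂ) / (d : ℂ))) : (p : ℤ) ^ (d.factorization p) ∣ n := by
  have h' : MemLocalRing M (((n.natAbs : ℕ) : ℂ) / (d : ℂ)) := by
    obtain ⟨k, rfl | rfl⟩ := n.eq_nat_or_neg
    · rw [Int.natAbs_natCast]
      simpa using h
    · rw [Int.natAbs_neg, Int.natAbs_natCast]
      have h2 := Helper78.memLocalRing_neg h
      rw [← neg_div] at h2
      simpa using h2
  have := Helper78.pow_dvd_of_memLocalRing_div hM hd (Nat.ordProj_dvd d p) h'
  have h2 : ((p ^ d.factorization p : ℕ) : ℤ) ∣ n := Int.natCast_dvd.2 this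
  simpa using h2

/-- valuation lemma B -/
theorem memLocalIdeal_div_iff (hM : IsPModular p M) {n : ℤ} {d : ℕ} (hd : d ≠ 0)
    (h : MemLocalRing M ((n : ℂ) / (d : ℂ))) :
    MemLocalIdeal M ((n : ℂ) / (d : ℂ)) ↔ (p : ℤ) ^ (d.factorization p + 1) ∣ n := by
  have hMp : M.IsPrime := Helper78.isPrime_of_isPModular hM
  have hp : p.Prime := hM.1
  obtain ⟨n', hn'⟩ := pow_dvd_int_of_memLocalRing_div hM hd h
  set b := d.factorization p with hb
  set d' := d / p ^ b with hd'
  have hdd : p ^ b * d' = d := Nat.ordProj_mul_ordCompl_eq_self d p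
  have hcop : Nat.Coprime d' p := (Nat.coprime_ordCompl hp hd).symm
  have hd'0 : (d' : ℂ) ≠ 0 := by
    have : d' ≠ 0 := by
      intro h0; rw [h0, mul_zero] at hdd; exact hd hdd.symm
    exact_mod_cast this
  have hpb0 : ((p : ℂ) ^ b) ≠ 0 := pow_ne_zero _ (by exact_mod_cast hp.ne_zero)
  have hquot : (n : ℂ) / (d : ℂ) = (n' : ℂ) * (d' : ℂ)⁻¹ := by
    have h1 : (d : ℂ) = (p : ℂ) ^ b * (d' : ℂ) := by exact_mod_cast hdd.symm
    have h2 : (n : ℂ) = (p : ℂ) ^ b * (n' : ℂ) := by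
      rw [hn']; push_cast; ring
    rw [h1, h2]; field_simp
  have hpz : (p : ℤ) ^ b ≠ 0 := pow_ne_zero _ (by exact_mod_cast hp.ne_zero)
  have hdvd : (p : ℤ) ^ (b + 1) ∣ n ↔ (p : ℤ) ∣ n' := by
    rw [hn', pow_succ]
    exact mul_dvd_mul_iff_left hpz
  rw [hdvd, hquot, ← Helper78.memLocalIdeal_intCast_iff hM]
  constructor
  · intro hI
    have := Helper78.memLocalIdeal_mul_left hMp (Helper78.memLocalRing_natCast hMp d') hI
    rwa [mul_comm, mul_assoc, inv_mul_cancel₀ hd'0, mul_one] at this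
  · intro hI
    exact Helper78.memLocalIdeal_mul_right hMp hI (Helper78.memLocalRing_inv_natCast hM hcop)

/-- valuation lemma C -/
theorem val_iff [hp : Fact p.Prime] {n : ℤ} {b : ℕ} (hA : (p : ℤ) ^ b ∣ n) :
    (n ≠ 0 ∧ padicValInt p n = b) ↔ ¬ (p : ℤ) ^ (b + 1) ∣ n := by
  rw [padicValInt_dvd_iff] at hA ⊢
  constructor
  · rintro ⟨h0, hv⟩ h
    rcases h with h | h
    · exact h0 h
    · omega
  · intro h
    push Not at h
    obtain ⟨h0, hv⟩ := h
    rcases hA with hA | hA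
    · exact absurd hA h0
    · exact ⟨h0, by omega⟩

end val


section chars

variable {G : Type u} [Group G] [Fintype G]

/-- the `p`-regular cutoff of `c • χ`. -/
noncomputable def cut (p : ℕ) (c : ℂ) (χ : G → ℂ) : G → ℂ :=
  fun x => if p ∣ orderOf x then (0 : ℂ) else c * χ x

/-- the conjugate `p`-regular cutoff. -/
noncomputable def cutc (p : ℕ) (χ : G → ℂ) : G → ℂ :=
  fun x => if p ∣ orderOf x then (0 : ℂ) else conj (χ x)

theorem classInner_cut_symm (p : ℕ) (c : ℂ) (hc : conj c = c) (χ ξ : G → ℂ) :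
    classInner (cut p c χ) ξ = conj (classInner (cut p c ξ) χ) := by
  unfold classInner cut
  rw [map_mul, map_inv₀, Complex.conj_natCast, map_sum]
  congr 1
  refine Finset.sum_congr rfl fun x _ => ?_
  by_cases hx : p ∣ orderOf x
  · simp [hx]
  · simp [hx, hc]; ring

theorem classInner_cut_eq_omega (p : ℕ) (c : ℂ) {χ ξ : G → ℂ} (hχ : IsCharacter G χ)
    (hξ : IsCharacter G ξ) (hξ1 : ξ 1 ≠ 0) :
    classInner (cut p c χ) ξ / ξ 1 = c * (Nat.card G : ℂ)⁻¹ * Helper16.omega ξ (cutc p χ) := by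
  unfold classInner cut Helper16.omega cutc
  rw [← Equiv.sum_comp (Equiv.inv G)]
  have : ∀ x : G, (if p ∣ orderOf ((Equiv.inv G) x) then (0 : ℂ) else c * χ ((Equiv.inv G) x))
      * conj (ξ ((Equiv.inv G) x)) = c * ((if p ∣ orderOf x then (0 : ℂ) else conj (χ x)) * ξ x) := by
    intro x
    rw [Equiv.inv_apply, orderOf_inv, Helper74.char_inv hχ, Helper74.char_inv hξ, Complex.conj_conj]
    split_ifs <;> ring
  simp only [this]
  rw [← Finset.mul_sum]
  field_simp

omit [Fintype G] in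
theorem isClassFunction_cutc (p : ℕ) {χ : G → ℂ} (hχ : IsCharacter G χ) :
    IsClassFunction G (cutc p χ) := by
  intro g h
  unfold cutc
  have h1 : orderOf (h * g * h⁻¹) = orderOf g := by
    have : h * g * h⁻¹ = MulAut.conj h g := by simp
    rw [this, MulEquiv.orderOf_eq]
  rw [h1, Helper74.isClassFunction_of_isCharacter hχ g h]

theorem isIntegral_cutc (p : ℕ) {χ : G → ℂ} (hχ : IsIrrCharacter G χ) (x : G) :
    IsIntegral ℤ (cutc p χ x) := by
  unfold cutc
  split_ifs
  · exact isIntegral_zero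
  · exact map_isIntegral_int (starRingEnd ℂ) (Helper78.isIntegral_irrChar_apply hχ x)


variable {p : ℕ} {M : Ideal AlgInt}

theorem memLocalRing_pa_div_card (hM : IsPModular p M) :
    MemLocalRing M (((p ^ (Nat.card G).factorization p : ℕ) : ℂ) * (Nat.card G : ℂ)⁻¹) := by
  have hp : p.Prime := hM.1
  rw [← div_eq_mul_inv]
  refine Helper78.memLocalRing_natCast_div hM Nat.card_pos.ne' (pow_pos hp.pos _).ne' ?_
  rw [hp.factorization_pow]
  simp

/-- `[χ̃, ξ] / ξ(1)` is a local integer. -/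
theorem memLocalRing_U (hM : IsPModular p M) {χ ξ : G → ℂ} (hχ : IsIrrCharacter G χ)
    (hξ : IsIrrCharacter G ξ) :
    MemLocalRing M (classInner (cut p ((p ^ (Nat.card G).factorization p : ℕ) : ℂ) χ) ξ / ξ 1) := by
  classical
  have hMp : M.IsPrime := Helper78.isPrime_of_isPModular hM
  have hχc : IsCharacter G χ := Helper74.isCharacter_of_isIrr hχ
  have hξc : IsCharacter G ξ := Helper74.isCharacter_of_isIrr hξ
  have hξ1 : ξ 1 ≠ 0 := by
    rw [Helper78.irrChar_one_eq_charDegree hξ]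
    exact_mod_cast (Helper78.charDegree_pos_of_isIrrCharacter hξ).ne'
  rw [classInner_cut_eq_omega p _ hχc hξc hξ1]
  refine Helper78.memLocalRing_mul hMp (memLocalRing_pa_div_card hM) ?_
  rw [Helper16.omega_eq_sum_classes ξ (cutc p χ) (Helper74.isClassFunction_of_isCharacter hξc)
    (isClassFunction_cutc p hχc)]
  refine Helper78.memLocalRing_sum hMp _ _ fun C _ => ?_
  exact Helper78.memLocalRing_mul hMp
    (Helper78.memLocalRing_of_isIntegral hMp (isIntegral_cutc p hχ _))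
    (Helper78.memLocalRing_of_isIntegral hMp (Helper78.isIntegral_centralChar hξ _))

/-- `[χ̃, ξ] / ξ(1) ≡ [χ̃, χ] / χ(1)` when `χ, ξ` are in the same block. -/
theorem memLocalIdeal_U_sub (hM : IsPModular p M) {χ ξ : G → ℂ} (hχ : IsIrrCharacter G χ)
    (hξ : IsIrrCharacter G ξ)
    (hsame : ∀ g : G, MemLocalIdeal M (centralChar ξ g - centralChar χ g)) :
    MemLocalIdeal M (classInner (cut p ((p ^ (Nat.card G).factorization p : ℕ) : ℂ) χ) ξ / ξ 1
      - classInner (cut p ((p ^ (Nat.card G).factorization p : ℕ) : ℂ) χ) χ / χ 1) := by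
  classical
  have hMp : M.IsPrime := Helper78.isPrime_of_isPModular hM
  have hχc : IsCharacter G χ := Helper74.isCharacter_of_isIrr hχ
  have hξc : IsCharacter G ξ := Helper74.isCharacter_of_isIrr hξ
  have hξ1 : ξ 1 ≠ 0 := by
    rw [Helper78.irrChar_one_eq_charDegree hξ]
    exact_mod_cast (Helper78.charDegree_pos_of_isIrrCharacter hξ).ne'
  have hχ1 : χ 1 ≠ 0 := by
    rw [Helper78.irrChar_one_eq_charDegree hχ]
    exact_mod_cast (Helper78.charDegree_pos_of_isIrrCharacter hχ).ne'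
  rw [classInner_cut_eq_omega p _ hχc hξc hξ1, classInner_cut_eq_omega p _ hχc hχc hχ1, ← mul_sub]
  refine Helper78.memLocalIdeal_mul_left hMp (memLocalRing_pa_div_card hM) ?_
  rw [Helper16.omega_eq_sum_classes ξ (cutc p χ) (Helper74.isClassFunction_of_isCharacter hξc)
    (isClassFunction_cutc p hχc),
    Helper16.omega_eq_sum_classes χ (cutc p χ) (Helper74.isClassFunction_of_isCharacter hχc)
    (isClassFunction_cutc p hχc), ← Finset.sum_sub_distrib]
  refine Helper78.memLocalIdeal_sum hMp _ _ fun C _ => ?_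
  rw [← mul_sub]
  exact Helper78.memLocalIdeal_mul_left hMp
    (Helper78.memLocalRing_of_isIntegral hMp (isIntegral_cutc p hχ _)) (hsame _)


/-- `[χ̃, ξ]` is an integer. -/
theorem exists_int_inner (p : ℕ) [Fact p.Prime] (χ ξ : IrrCharacter G) :
    ∃ n : ℤ, classInner (cut p ((p ^ (Nat.card G).factorization p : ℕ) : ℂ) (χ : G → ℂ))
      (ξ : G → ℂ) = (n : ℂ) :=
  Helper25.isGenChar_inner_int
    (Helper76.isGenChar_pPart_mul_pRegular p (Helper74.irr_isCharacter χ))
    (Helper25.isGenChar_of_isCharacter (Helper74.irr_isCharacter ξ))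

/-- some coefficient `[χ̃, ξ]`, `ξ ∈ B`, is not divisible by `p ^ (b + 1)`. -/
theorem exists_not_dvd (p : ℕ) [hp : Fact p.Prime] (hM : IsPModular p M)
    (B : Set (IrrCharacter G)) (hB : IsPBlock M B) (χ : IrrCharacter G) (hχ : χ ∈ B) :
    ∃ ξ ∈ B, ∃ n : ℤ, classInner (cut p ((p ^ (Nat.card G).factorization p : ℕ) : ℂ) (χ : G → ℂ))
      (ξ : G → ℂ) = (n : ℂ) ∧
      ¬ (p : ℤ) ^ ((charDegree (χ : G → ℂ)).factorization p + 1) ∣ n := by
  classical
  let _ := Helper74.irrFintype G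
  by_contra hcon
  push Not at hcon
  set a := (Nat.card G).factorization p with ha
  set b := (charDegree (χ : G → ℂ)).factorization p with hb
  choose N hN using fun ξ : IrrCharacter G => exists_int_inner p χ ξ
  have hdiv : ∀ ξ ∈ B, (p : ℤ) ^ (b + 1) ∣ N ξ := fun ξ hξ => hcon ξ hξ (N ξ) (hN ξ)
  choose! k hk using hdiv
  apply Helper76.not_isGenChar_defect_pred_mul_pRegular p χ.2
  have hpb0 : ((p ^ (b + 1) : ℕ) : ℂ) ≠ 0 := by exact_mod_cast (pow_pos hp.out.pos (b + 1)).ne'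
  have hfun : (fun x : G => if p ∣ orderOf x then (0 : ℂ) else
      ((p ^ a : ℕ) : ℂ) / ((p ^ (b + 1) : ℕ) : ℂ) * (χ : G → ℂ) x)
      = ∑ ψ ∈ (Set.toFinite B).toFinset, k ψ • (ψ : G → ℂ) := by
    funext x
    have h := Helper76.blockPart_pRegular_cutoff p M hM B hB χ hχ ((p ^ a : ℕ) : ℂ) x
    rw [finsum_mem_eq_finite_toFinset_sum _ (Set.toFinite B)] at h
    have h2 : (if p ∣ orderOf x then (0 : ℂ) else
        ((p ^ a : ℕ) : ℂ) / ((p ^ (b + 1) : ℕ) : ℂ) * (χ : G → ℂ) x)
        = (((p ^ (b + 1) : ℕ) : ℂ))⁻¹ * (if p ∣ orderOf x then (0 : ℂ) else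
          ((p ^ a : ℕ) : ℂ) * (χ : G → ℂ) x) := by
      split_ifs
      · rw [mul_zero]
      · ring
    rw [h2, ← h, Finset.mul_sum, Finset.sum_apply]
    refine Finset.sum_congr rfl fun ψ hψ => ?_
    have hψB : ψ ∈ B := (Set.Finite.mem_toFinset _).1 hψ
    have h3 := hN ψ
    unfold cut at h3
    rw [h3, hk ψ hψB, Pi.smul_apply, zsmul_eq_mul]
    have hpb0' : ((p : ℂ) ^ (b + 1)) ≠ 0 := pow_ne_zero _ (by exact_mod_cast hp.out.ne_zero)
    push_cast
    field_simp
  rw [hfun]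
  exact Helper25.isGenChar_sum _ fun ψ _ =>
    Helper25.isGenChar_zsmul _ (Helper25.isGenChar_of_isCharacter (Helper74.irr_isCharacter ψ))


omit [Fintype G] in
theorem irr_one_eq (ξ : IrrCharacter G) :
    (ξ : G → ℂ) 1 = ((charDegree (ξ : G → ℂ) : ℕ) : ℂ) :=
  Helper78.irrChar_one_eq_charDegree ξ.2

/-- The condition of the statement for the pair `χ, ξ` is equivalent to `[χ̃, χ] / χ(1)` being a
unit of the local ring. -/
theorem pred_iff (p : ℕ) [hp : Fact p.Prime] (hM : IsPModular p M)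
    (B : Set (IrrCharacter G)) (hB : IsPBlock M B) (χ ξ : IrrCharacter G) (hχ : χ ∈ B)
    (hξ : ξ ∈ B) :
    (∃ n : ℤ, classInner (cut p ((p ^ (Nat.card G).factorization p : ℕ) : ℂ) (χ : G → ℂ))
      (ξ : G → ℂ) = (n : ℂ) ∧ n ≠ 0 ∧
      padicValInt p n = (charDegree (ξ : G → ℂ)).factorization p) ↔
    ¬ MemLocalIdeal M (classInner (cut p ((p ^ (Nat.card G).factorization p : ℕ) : ℂ)
      (χ : G → ℂ)) (χ : G → ℂ) / (χ : G → ℂ) 1) := by
  have hMp : M.IsPrime := Helper78.isPrime_of_isPModular hM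
  obtain ⟨n, hn⟩ := exists_int_inner p χ ξ
  have hsame : ∀ g : G, MemLocalIdeal M
      (centralChar (ξ : G → ℂ) g - centralChar (χ : G → ℂ) g) := by
    obtain ⟨χ0, rfl⟩ := hB
    intro g
    have h1 : MemLocalIdeal M (centralChar (χ0 : G → ℂ) g - centralChar (χ : G → ℂ) g) := hχ g
    have h2 : MemLocalIdeal M (centralChar (χ0 : G → ℂ) g - centralChar (ξ : G → ℂ) g) := hξ g
    have := Helper78.memLocalIdeal_sub hMp h1 h2
    convert this using 1
    ring
  have hd : charDegree (ξ : G → ℂ) ≠ 0 := (Helper78.charDegree_pos_of_isIrrCharacter ξ.2).ne'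
  have hring := memLocalRing_U hM χ.2 ξ.2
  have hdiff := memLocalIdeal_U_sub hM χ.2 ξ.2 hsame
  rw [hn, irr_one_eq ξ] at hring hdiff
  have hA := pow_dvd_int_of_memLocalRing_div hM hd hring
  have hBiff := memLocalIdeal_div_iff hM hd hring
  have hC := val_iff hA
  have hequiv : MemLocalIdeal M ((n : ℂ) / ((charDegree (ξ : G → ℂ) : ℕ) : ℂ)) ↔
      MemLocalIdeal M (classInner (cut p ((p ^ (Nat.card G).factorization p : ℕ) : ℂ)
      (χ : G → ℂ)) (χ : G → ℂ) / (χ : G → ℂ) 1) := by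
    constructor
    · intro h
      have := Helper78.memLocalIdeal_sub hMp h hdiff
      convert this using 1
      ring
    · intro h
      have := Helper78.memLocalIdeal_add hMp h hdiff
      convert this using 1
      ring
  rw [← hequiv, hBiff, ← hC]
  constructor
  · rintro ⟨m, hm, hm0, hmv⟩
    have hmn : m = n := by exact_mod_cast (hm.symm.trans hn)
    subst hmn
    exact ⟨hm0, hmv⟩
  · rintro ⟨h0, hv⟩
    exact ⟨n, hn, h0, hv⟩

theorem height_zero_iff (p : ℕ) [hp : Fact p.Prime] (hM : IsPModular p M)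
    (B : Set (IrrCharacter G)) (hB : IsPBlock M B) (χ : IrrCharacter G) (hχ : χ ∈ B) :
    blockHeight p B (χ : G → ℂ) = 0 ↔
    ¬ MemLocalIdeal M (classInner (cut p ((p ^ (Nat.card G).factorization p : ℕ) : ℂ)
      (χ : G → ℂ)) (χ : G → ℂ) / (χ : G → ℂ) 1) := by
  have hMp : M.IsPrime := Helper78.isPrime_of_isPModular hM
  rw [Helper16.blockHeight_eq_zero_iff p hχ]
  constructor
  · intro hzero
    obtain ⟨ξ, hξ, n, hn, hnd⟩ := exists_not_dvd p hM B hB χ hχ
    rw [← pred_iff p hM B hB χ ξ hχ hξ]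
    have hd : charDegree (ξ : G → ℂ) ≠ 0 := (Helper78.charDegree_pos_of_isIrrCharacter ξ.2).ne'
    have hring := memLocalRing_U hM χ.2 ξ.2
    rw [hn, irr_one_eq ξ] at hring
    have hA := pow_dvd_int_of_memLocalRing_div hM hd hring
    have hle : (charDegree (χ : G → ℂ)).factorization p ≤
        (charDegree (ξ : G → ℂ)).factorization p := by
      rw [hzero]; exact Helper16.minExp_le_of_mem p hξ
    have hC := (val_iff hA).2 (fun h => hnd ((pow_dvd_pow _ (Nat.succ_le_succ hle)).trans h))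
    exact ⟨n, hn, hC.1, hC.2⟩
  · intro hgood
    refine le_antisymm ?_ (Helper16.minExp_le_of_mem p hχ)
    unfold Helper16.minExp
    refine le_csInf ⟨_, χ, hχ, rfl⟩ ?_
    rintro _ ⟨ξ, hξ, rfl⟩
    dsimp only
    obtain ⟨n, hn, hn0, hnv⟩ := (pred_iff p hM B hB χ ξ hχ hξ).2 hgood
    have hsym := classInner_cut_symm p ((p ^ (Nat.card G).factorization p : ℕ) : ℂ)
      (Complex.conj_natCast _) (ξ : G → ℂ) (χ : G → ℂ)
    rw [hn, map_intCast] at hsym
    have hd : charDegree (χ : G → ℂ) ≠ 0 := (Helper78.charDegree_pos_of_isIrrCharacter χ.2).ne'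
    have hring := memLocalRing_U hM ξ.2 χ.2
    rw [hsym, irr_one_eq χ] at hring
    have hA := pow_dvd_int_of_memLocalRing_div hM hd hring
    rw [padicValInt_dvd_iff] at hA
    rcases hA with hA | hA
    · exact absurd hA hn0
    · omega

end chars

/-- Let χ be an irreducible character in the p-block B of the finite group G (relative to a maximal ideal M of the algebraic integers containing p), let p^a be the p-part of the order of G, and let χ̃ be the class function equal to p^a · χ on p-regular elements and zero elsewhere. For ξ ∈ B the inner product [χ̃, ξ] is an integer. The following are equivalent: (a) χ has height zero in B; (b) for some ξ ∈ B the integer [χ̃, ξ] is nonzero and the exact power of p dividing it equals the exact power of p dividing ξ(1); (c) the same holds for every ξ ∈ B. -/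
theorem result {G : Type*} [Group G] [Fintype G] (p : ℕ) [Fact p.Prime] (M : Ideal Cfsg.AlgInt) (hM : Cfsg.IsPModular p M) (B : Set (Cfsg.IrrCharacter G)) (hB : Cfsg.IsPBlock M B) (χ : Cfsg.IrrCharacter G) (hχ : χ ∈ B) : (Cfsg.blockHeight p B (χ : G → ℂ) = 0 ↔ ∃ ξ ∈ B, ∃ n : ℤ, Cfsg.classInner (fun x : G => if p ∣ orderOf x then (0 : ℂ) else ((p ^ (Nat.card G).factorization p : ℕ) : ℂ) * (χ : G → ℂ) x) (ξ : G → ℂ) = (n : ℂ) ∧ n ≠ 0 ∧ padicValInt p n = (Cfsg.charDegree (ξ : G → ℂ)).factorization p) ∧ (Cfsg.blockHeight p B (χ : G → ℂ) = 0 ↔ ∀ ξ ∈ B, ∃ n : ℤ, Cfsg.classInner (fun x : G => if p ∣ orderOf x then (0 : ℂ) else ((p ^ (Nat.card G).factorization p : ℕ) : ℂ) * (χ : G → ℂ) x) (ξ : G → ℂ) = (n : ℂ) ∧ n ≠ 0 ∧ padicValInt p n = (Cfsg.charDegree (ξ : G → ℂ)).factorization p) := by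
  have key : ∀ ξ ∈ B, ((∃ n : ℤ, Cfsg.classInner (fun x : G => if p ∣ orderOf x then (0 : ℂ) else ((p ^ (Nat.card G).factorization p : ℕ) : ℂ) * (χ : G → ℂ) x) (ξ : G → ℂ) = (n : ℂ) ∧ n ≠ 0 ∧ padicValInt p n = (Cfsg.charDegree (ξ : G → ℂ)).factorization p) ↔ Cfsg.blockHeight p B (χ : G → ℂ) = 0) := by
    intro ξ hξ
    rw [height_zero_iff p hM B hB χ hχ]
    exact pred_iff p hM B hB χ ξ hχ hξ
  constructor
  · constructor
    · intro h
      exact ⟨χ, hχ, (key χ hχ).2 h⟩
    · rintro ⟨ξ, hξ, h⟩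
      exact (key ξ hξ).1 h
  · constructor
    · intro h ξ hξ
      exact (key ξ hξ).2 h
    · intro h
      exact (key χ hχ).1 (h χ hχ)

end Cfsg.Agent.S4426
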