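import Cfsg.Statements.S4431
import Cfsg.Agent.S4426
import Cfsg.Agent.S0932
import Cfsg.Agent.Helper15.IndFun
import Cfsg.Agent.Helper15.IndChar
import Cfsg.Agent.Helper15.ConjChar
import Cfsg.Agent.Helper78.BlockBasic

set_option autoImplicit false
open Cfsg
open scoped ComplexConjugate

namespace Cfsg.Agent.S4431

open Cfsg.Agent.S4426

universe u

variable {G : Type u} [Group G] [Fintype G] {p : ℕ} {M : Ideal AlgInt}

omit [Fintype G] in
theorem isClassFunction_cut (p : ℕ) (c : ℂ) {χ : G → ℂ} (hχ : IsCharacter G χ) :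
    IsClassFunction G (cut p c χ) := by
  intro g h
  unfold cut
  have h1 : orderOf (h * g * h⁻¹) = orderOf g := by
    have : h * g * h⁻¹ = MulAut.conj h g := by simp
    rw [this, MulEquiv.orderOf_eq]
  rw [h1, Helper74.isClassFunction_of_isCharacter hχ g h]

/-- Weak block orthogonality for the `p`-regular cutoff: `[χ⁰, χ₀] = 0` for `χ, χ₀` in different
blocks. -/
theorem classInner_cut_eq_zero [hp : Fact p.Prime] (hM : IsPModular p M) (c : ℂ)
    (χ χ₀ : IrrCharacter G) (h : χ₀ ∉ blockOf M (χ : G → ℂ)) :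
    classInner (cut p c (χ : G → ℂ)) (χ₀ : G → ℂ) = 0 := by
  classical
  let _ := Helper74.irrFintype G
  have hMp : M.IsPrime := Helper78.isPrime_of_isPModular hM
  set B := blockOf M (χ : G → ℂ) with hBdef
  have hB : IsPBlock M B := ⟨χ, rfl⟩
  have hχ : χ ∈ B := Helper78.mem_blockOf_self hMp χ
  obtain ⟨a, ha⟩ : ∃ a : IrrCharacter G → ℂ, cut p c (χ : G → ℂ)
      = ∑ ψ ∈ (Set.toFinite B).toFinset, a ψ • (ψ : G → ℂ) := by
    refine ⟨fun ψ => classInner (cut p c (χ : G → ℂ)) (ψ : G → ℂ), ?_⟩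
    funext x
    have h1 := Helper76.blockPart_pRegular_cutoff p M hM B hB χ hχ c x
    rw [finsum_mem_eq_finite_toFinset_sum _ (Set.toFinite B)] at h1
    rw [Finset.sum_apply]
    simp only [Pi.smul_apply, smul_eq_mul]
    exact h1.symm
  rw [ha, Helper74.classInner_sum_left]
  refine Finset.sum_eq_zero fun ψ hψ => ?_
  have hψB : ψ ∈ B := (Set.Finite.mem_toFinset _).1 hψ
  have hne : ψ ≠ χ₀ := fun h' => h (h' ▸ hψB)
  rw [Helper74.classInner_smul_left, Helper74.irr_inner_ne hne, mul_zero]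


/-- `[η, ψ] / ψ(1) = (c / |H|) · ω_{ψ^G}(conj-cutoff of χ)`. -/
theorem inner_res_eq (p : ℕ) (c : ℂ) (H : Subgroup G) [Fintype H] (χ : IrrCharacter G)
    (ψ : IrrCharacter H) :
    classInner (fun h : H => if p ∣ orderOf h then (0 : ℂ) else c * (χ : G → ℂ) h) (ψ : H → ℂ)
      / (ψ : H → ℂ) 1
    = c * (Nat.card H : ℂ)⁻¹ * Helper16.omega (indFun H (ψ : H → ℂ)) (cutc p (χ : G → ℂ)) := by
  have hχc : IsCharacter G (χ : G → ℂ) := Helper74.irr_isCharacter χ
  have hψc : IsCharacter H (ψ : H → ℂ) := Helper74.irr_isCharacter ψ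
  have hΨ : IsCharacter G (indFun H (ψ : H → ℂ)) := Helper15.isCharacter_indFun H hψc
  have hψ1 : (ψ : H → ℂ) 1 ≠ 0 := by
    rw [Helper78.irrChar_one_eq_charDegree ψ.2]
    exact_mod_cast (Helper78.charDegree_pos_of_isIrrCharacter ψ.2).ne'
  have hidx : (H.index : ℂ) ≠ 0 := by
    have : H.index ≠ 0 := Subgroup.index_ne_zero_of_finite
    exact_mod_cast this
  have hΨ1 : indFun H (ψ : H → ℂ) 1 = (H.index : ℂ) * (ψ : H → ℂ) 1 :=
    Helper15.indFun_apply_one H _
  have hΨ1ne : indFun H (ψ : H → ℂ) 1 ≠ 0 := by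
    rw [hΨ1]; exact mul_ne_zero hidx hψ1
  have h1 : (fun h : H => if p ∣ orderOf h then (0 : ℂ) else c * (χ : G → ℂ) h)
      = fun h : H => cut p c (χ : G → ℂ) (h : G) := by
    funext h
    unfold cut
    rw [Subgroup.orderOf_coe]
  rw [h1, ← Helper15.frobenius_reciprocity' H (ψ : H → ℂ) (cut p c (χ : G → ℂ))
    (isClassFunction_cut p c hχc)]
  have h2 := classInner_cut_eq_omega p c hχc hΨ hΨ1ne
  rw [div_eq_iff hΨ1ne] at h2
  rw [h2, hΨ1]
  have hcard : (Nat.card G : ℂ) = (H.index : ℂ) * (Nat.card H : ℂ) := by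
    rw [← Nat.cast_mul, Subgroup.index_mul_card]
  have hH0 : (Nat.card H : ℂ) ≠ 0 := by exact_mod_cast Nat.card_pos.ne'
  rw [hcard]
  field_simp

/-- The congruence `ω_{ψ^G}(s) ≡ ω_{χ₀}(s)` for the conjugate cutoff `s` of `χ`. -/
theorem omega_indFun_cutc_sub (hM : IsPModular p M) (H : Subgroup G) [Fintype H]
    {b : Set (IrrCharacter H)} {B₀ : Set (IrrCharacter G)} (hind : IsInducedBlock M H b B₀)
    {ψ : IrrCharacter H} (hψ : ψ ∈ b) {χ₀ : IrrCharacter G} (hχ₀ : χ₀ ∈ B₀) (χ : IrrCharacter G) :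
    MemLocalIdeal M (Helper16.omega (indFun H (ψ : H → ℂ)) (cutc p (χ : G → ℂ)) -
      Helper16.omega (χ₀ : G → ℂ) (cutc p (χ : G → ℂ))) := by
  classical
  have hMp : M.IsPrime := Helper78.isPrime_of_isPModular hM
  have hχc : IsCharacter G (χ : G → ℂ) := Helper74.irr_isCharacter χ
  rw [Helper16.omega_eq_sum_classes _ _ (Helper15.isClassFunction_indFun H (ψ : H → ℂ))
      (isClassFunction_cutc p hχc),
    Helper16.omega_eq_sum_classes _ _
      (Helper74.isClassFunction_of_isCharacter (Helper74.irr_isCharacter χ₀))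
      (isClassFunction_cutc p hχc), ← Finset.sum_sub_distrib]
  refine Helper78.memLocalIdeal_sum hMp _ _ fun C _ => ?_
  rw [← mul_sub, ← Cfsg.Agent.S0932.result H (ψ : H → ℂ) (Helper74.irr_isCharacter ψ)]
  exact Helper78.memLocalIdeal_mul_left hMp
    (Helper78.memLocalRing_of_isIntegral hMp (isIntegral_cutc p χ.2 _))
    (hind.2.2 ψ hψ χ₀ hχ₀ _)


theorem ordCompl_mul_kappa (p : ℕ) (H : Type u) [Group H] [Fintype H] :
    ((Nat.card H / p ^ (Nat.card H).factorization p : ℕ) : ℂ) *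
      (((p ^ (Nat.card H).factorization p : ℕ) : ℂ) * (Nat.card H : ℂ)⁻¹) = 1 := by
  have h1 : p ^ (Nat.card H).factorization p * (Nat.card H / p ^ (Nat.card H).factorization p)
      = Nat.card H := Nat.ordProj_mul_ordCompl_eq_self (Nat.card H) p
  have hH0 : (Nat.card H : ℂ) ≠ 0 := by exact_mod_cast Nat.card_pos.ne'
  rw [← mul_assoc, ← Nat.cast_mul, mul_comm (Nat.card H / p ^ (Nat.card H).factorization p), h1]
  exact mul_inv_cancel₀ hH0

/-- Let H be a subgroup of the finite group G and b a block of H whose induced block B₀ in G is defined (relative to a maximal ideal M of the algebraic integers containing p). Let χ be an irreducible character of G, ψ ∈ b, and let η be the class function on H equal to p^a · χ on the p-regular elements of H and zero elsewhere, p^a being the p-part of the order of H. Then (a) if χ ∉ B₀, the number [η, ψ]/ψ(1) lies in the local ideal at M; (b) if χ ∈ B₀ has height zero, it does not. -/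
theorem result {G : Type*} [Group G] [Fintype G] (p : ℕ) [Fact p.Prime] (M : Ideal Cfsg.AlgInt) (hM : Cfsg.IsPModular p M) (H : Subgroup G) [Fintype H] (b : Set (Cfsg.IrrCharacter H)) (B₀ : Set (Cfsg.IrrCharacter G)) (hind : Cfsg.IsInducedBlock M H b B₀) (χ : Cfsg.IrrCharacter G) (ψ : Cfsg.IrrCharacter H) (hψ : ψ ∈ b) : (χ ∉ B₀ → Cfsg.MemLocalIdeal M (Cfsg.classInner (fun h : H => if p ∣ orderOf h then (0 : ℂ) else ((p ^ (Nat.card H).factorization p : ℕ) : ℂ) * (χ : G → ℂ) h) (ψ : H → ℂ) / (ψ : H → ℂ) 1)) ∧ (χ ∈ B₀ → Cfsg.blockHeight p B₀ (χ : G → ℂ) = 0 → ¬ Cfsg.MemLocalIdeal M (Cfsg.classInner (fun h : H => if p ∣ orderOf h then (0 : ℂ) else ((p ^ (Nat.card H).factorization p : ℕ) : ℂ) * (χ : G → ℂ) h) (ψ : H → ℂ) / (ψ : H → ℂ) 1)) := by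
  classical
  have hMp : M.IsPrime := Helper78.isPrime_of_isPModular hM
  have hχc : IsCharacter G (χ : G → ℂ) := Helper74.irr_isCharacter χ
  have hχ1 : (χ : G → ℂ) 1 ≠ 0 := by
    rw [Helper78.irrChar_one_eq_charDegree χ.2]
    exact_mod_cast (Helper78.charDegree_pos_of_isIrrCharacter χ.2).ne'
  have hG0 : (Nat.card G : ℂ) ≠ 0 := by exact_mod_cast Nat.card_pos.ne'
  have hκH := memLocalRing_pa_div_card (G := ↥H) hM
  constructor
  · intro hnot
    obtain ⟨χ₀, hχ₀⟩ := Helper78.isPBlock_nonempty hMp hind.2.1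
    have hχ₀c : IsCharacter G (χ₀ : G → ℂ) := Helper74.irr_isCharacter χ₀
    have hχ₀1 : (χ₀ : G → ℂ) 1 ≠ 0 := by
      rw [Helper78.irrChar_one_eq_charDegree χ₀.2]
      exact_mod_cast (Helper78.charDegree_pos_of_isIrrCharacter χ₀.2).ne'
    have hnb : χ₀ ∉ blockOf M (χ : G → ℂ) := by
      intro h
      apply hnot
      rw [Helper78.isPBlock_eq_blockOf_of_mem hMp hind.2.1 hχ₀]
      exact Helper78.sameBlock_symm h
    have hz := classInner_cut_eq_zero hM 1 χ χ₀ hnb
    have h3 := classInner_cut_eq_omega p 1 hχc hχ₀c hχ₀1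
    rw [hz, zero_div, one_mul] at h3
    have h0 : Helper16.omega (χ₀ : G → ℂ) (cutc p (χ : G → ℂ)) = 0 := by
      rcases mul_eq_zero.1 h3.symm with h | h
      · exact absurd h (inv_ne_zero hG0)
      · exact h
    have hD := omega_indFun_cutc_sub hM H hind hψ hχ₀ χ
    rw [h0, sub_zero] at hD
    rw [inner_res_eq]
    exact Helper78.memLocalIdeal_mul_left hMp hκH hD
  · intro hmem hzero hV
    rw [inner_res_eq] at hV
    have hX : MemLocalIdeal M
        (Helper16.omega (indFun H (ψ : H → ℂ)) (cutc p (χ : G → ℂ))) := by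
      have := Helper78.memLocalIdeal_mul_left hMp
        (Helper78.memLocalRing_natCast hMp (Nat.card H / p ^ (Nat.card H).factorization p)) hV
      rwa [← mul_assoc, ordCompl_mul_kappa p ↥H, one_mul] at this
    have hD := omega_indFun_cutc_sub hM H hind hψ hmem χ
    have hω : MemLocalIdeal M (Helper16.omega (χ : G → ℂ) (cutc p (χ : G → ℂ))) := by
      have := Helper78.memLocalIdeal_sub hMp hX hD
      convert this using 1
      ring
    have hU := classInner_cut_eq_omega p ((p ^ (Nat.card G).factorization p : ℕ) : ℂ) hχc hχc hχ1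
    have hUJ := Helper78.memLocalIdeal_mul_left hMp (memLocalRing_pa_div_card (G := G) hM) hω
    rw [← hU] at hUJ
    exact (height_zero_iff p hM B₀ hind.2.1 χ hmem).1 hzero hUJ

end Cfsg.Agent.S4431
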