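import Cfsg.Statements.S4494
import Cfsg.Agent.S4426
import Cfsg.Agent.Helper16.DefectClasses

set_option autoImplicit false
open Cfsg
open scoped ComplexConjugate

namespace Cfsg.Agent.S4494

open Cfsg.Agent.S4426

universe u

section

variable {G : Type u} [Group G] [Fintype G]

omit [Fintype G] in
theorem cut_mul (p : ℕ) (c₁ c₂ : ℂ) (χ : G → ℂ) : cut p (c₁ * c₂) χ = c₁ • cut p c₂ χ := by
  funext x
  unfold cut
  rw [Pi.smul_apply, smul_eq_mul]
  split_ifs
  · rw [mul_zero]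
  · ring

theorem classInner_cut_cut (p : ℕ) (c : ℂ) (hc : conj c = c) (χ : G → ℂ) :
    classInner (cut p c χ) (cut p c χ) = c * classInner (cut p c χ) χ := by
  unfold classInner
  have h : ∀ x : G, cut p c χ x * conj (cut p c χ x) = c * (cut p c χ x * conj (χ x)) := by
    intro x
    unfold cut
    split_ifs
    · simp
    · rw [map_mul, hc]; ring
  simp only [h]
  rw [← Finset.mul_sum]
  ring

end

/-- The Brauer–Feit bound. Let B be a p-block of the finite group G (relative to a maximal ideal M of the algebraic integers containing p) and let d be its defect. Then the number k(B) of irreducible characters in B satisfies k(B) ≤ p^(2d)/4 + 1, stated here as 4·k(B) ≤ p^(2d) + 4. -/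
theorem result {G : Type*} [Group G] [Finite G] (p : ℕ) [Fact p.Prime] (M : Ideal Cfsg.AlgInt) (hM : Cfsg.IsPModular p M) (B : Set (Cfsg.IrrCharacter G)) (hB : Cfsg.IsPBlock M B) : 4 * Nat.card B ≤ p ^ (2 * Cfsg.blockDefect p B) + 4 := by
  classical
  have : Fintype G := Fintype.ofFinite G
  let _ := Helper74.irrFintype G
  have hMp : M.IsPrime := Helper78.isPrime_of_isPModular hM
  have hp : p.Prime := hM.1
  set a := (Nat.card G).factorization p with ha
  set h0 := Helper16.minExp p B with hh0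
  have hne : B.Nonempty := Helper78.isPBlock_nonempty hMp hB
  have hh0a : h0 ≤ a := Helper16.minExp_le_card p hne
  have hdef : blockDefect p B = a - h0 := rfl
  rw [hdef]
  set dd := a - h0 with hdd
  -- a character of height zero
  obtain ⟨χ, hχ, -, hmin⟩ := Helper16.exists_height_zero' p B hne
  have hχh0 : (charDegree (χ : G → ℂ)).factorization p = h0 :=
    le_antisymm (by
      unfold h0 Helper16.minExp
      obtain ⟨ψ, hψ, hψe⟩ := Nat.sInf_mem (hne.image
        (fun χ : IrrCharacter G => (charDegree (χ : G → ℂ)).factorization p))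
      rw [← hψe]; exact hmin ψ hψ) (Helper16.minExp_le_of_mem p hχ)
  have hzero : blockHeight p B (χ : G → ℂ) = 0 := by
    rw [Helper16.blockHeight_eq_zero_iff p hχ]; exact hχh0
  set Bf := (Set.toFinite B).toFinset with hBf
  have hmemBf : ∀ ξ, ξ ∈ Bf ↔ ξ ∈ B := fun ξ => Set.Finite.mem_toFinset _
  have hcard : Nat.card B = Bf.card := Nat.card_eq_card_finite_toFinset (Set.toFinite B)
  rw [hcard]
  -- the generalized character `θ = p^d χ⁰`
  set θ : G → ℂ := cut p ((p ^ dd : ℕ) : ℂ) (χ : G → ℂ) with hθ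
  have hgen : IsGeneralizedCharacter G θ := by
    have := Helper76.isGenChar_defect_mul_pRegular p χ.2
    rw [hχh0] at this
    exact this
  choose m hm using fun ξ : IrrCharacter G => Helper25.isGenChar_inner_int hgen
    (Helper25.isGenChar_of_isCharacter (Helper74.irr_isCharacter ξ))
  -- nonvanishing
  have hm0 : ∀ ξ ∈ B, m ξ ≠ 0 := by
    intro ξ hξ h0'
    obtain ⟨n, hn, hn0, -⟩ := (pred_iff p hM B hB χ ξ hχ hξ).2
      ((height_zero_iff p hM B hB χ hχ).1 hzero)
    apply hn0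
    have h1 : ((p ^ a : ℕ) : ℂ) = ((p ^ h0 : ℕ) : ℂ) * ((p ^ dd : ℕ) : ℂ) := by
      rw [← Nat.cast_mul, ← pow_add]
      congr 2
      omega
    rw [h1, cut_mul, Helper74.classInner_smul_left, hm ξ, h0'] at hn
    have : (n : ℂ) = 0 := by rw [← hn]; simp
    exact_mod_cast this
  -- expansion of `θ`
  have hexp : θ = ∑ ξ ∈ Bf, (m ξ : ℂ) • (ξ : G → ℂ) := by
    funext x
    have h1 := Helper76.blockPart_pRegular_cutoff p M hM B hB χ hχ ((p ^ dd : ℕ) : ℂ) x
    rw [finsum_mem_eq_finite_toFinset_sum _ (Set.toFinite B)] at h1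
    rw [Finset.sum_apply]
    simp only [Pi.smul_apply, smul_eq_mul]
    rw [show θ x = (if p ∣ orderOf x then (0 : ℂ) else ((p ^ dd : ℕ) : ℂ) * (χ : G → ℂ) x) from rfl,
      ← h1]
    refine Finset.sum_congr rfl fun ξ _ => ?_
    have h2 := hm ξ
    rw [hθ] at h2
    unfold cut at h2
    rw [h2]
  -- Parseval
  have hpars : ∑ ξ ∈ Bf, m ξ * m ξ = ((p ^ dd : ℕ) : ℤ) * m χ := by
    have h1 : classInner θ θ = ∑ ξ ∈ Bf, (m ξ : ℂ) * (m ξ : ℂ) := by
      conv_lhs => rw [hexp]
      rw [Helper74.classInner_sum_left]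
      refine Finset.sum_congr rfl fun ξ _ => ?_
      rw [Helper74.classInner_smul_left, ← Helper74.classInner_conj_symm, ← hexp, hm ξ]
      simp
    have h2 : classInner θ θ = ((p ^ dd : ℕ) : ℂ) * (m χ : ℂ) := by
      rw [hθ, classInner_cut_cut p _ (Complex.conj_natCast _), ← hθ, hm χ]
    have h3 : ((∑ ξ ∈ Bf, m ξ * m ξ : ℤ) : ℂ) = ((((p ^ dd : ℕ) : ℤ) * m χ : ℤ) : ℂ) := by
      push_cast
      push_cast at h1 h2
      rw [← h1, h2]
    exact_mod_cast h3
  -- counting
  have hχBf : χ ∈ Bf := (hmemBf χ).2 hχ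
  have hsplit : ∑ ξ ∈ Bf, m ξ * m ξ = m χ * m χ + ∑ ξ ∈ Bf.erase χ, m ξ * m ξ := by
    rw [← Finset.add_sum_erase Bf _ hχBf]
  have hge : ((Bf.erase χ).card : ℤ) ≤ ∑ ξ ∈ Bf.erase χ, m ξ * m ξ := by
    have h1 : ∑ ξ ∈ Bf.erase χ, (1 : ℤ) ≤ ∑ ξ ∈ Bf.erase χ, m ξ * m ξ := by
      refine Finset.sum_le_sum fun ξ hξ => ?_
      have hξB : ξ ∈ B := (hmemBf ξ).1 (Finset.mem_of_mem_erase hξ)
      have h2 := hm0 ξ hξB
      have h3 : 0 < m ξ * m ξ := mul_self_pos.2 h2
      omega
    simpa using h1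
  have hcard2 : (Bf.erase χ).card = Bf.card - 1 := Finset.card_erase_of_mem hχBf
  have hBfpos : 0 < Bf.card := Finset.card_pos.2 ⟨χ, hχBf⟩
  have hfinal : (4 : ℤ) * (Bf.card : ℤ) ≤ ((p ^ dd : ℕ) : ℤ) ^ 2 + 4 := by
    have h1 : ((Bf.card : ℤ) - 1) + m χ * m χ ≤ ((p ^ dd : ℕ) : ℤ) * m χ := by
      rw [← hpars, hsplit]
      have : ((Bf.erase χ).card : ℤ) = (Bf.card : ℤ) - 1 := by
        rw [hcard2]; push_cast [Nat.cast_sub hBfpos]; ring
      linarith
    nlinarith [sq_nonneg (((p ^ dd : ℕ) : ℤ) - 2 * m χ)]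
  have : ((4 * Bf.card : ℕ) : ℤ) ≤ ((p ^ (2 * dd) + 4 : ℕ) : ℤ) := by
    push_cast
    push_cast at hfinal
    rw [mul_comm 2 dd, pow_mul]
    exact hfinal
  exact_mod_cast this

end Cfsg.Agent.S4494
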