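import Cfsg.Statements.S3279
import Cfsg.Agent.Helper48.ZStarD
import Cfsg.Agent.S0201

/-!
# S3279 (helper48): an involution whose centralizer has at most three involutions

`G` simple, `x` an involution, `C_G(x)` has at most three involutions.  Then `x` is 2-central and all
involutions of `G` are conjugate.

Proof.  If `x` is isolated, the `Z*`-theorem makes `x` central and `G = ⟨x⟩`.  Otherwise `x` commutes with a
conjugate `y ≠ x`; the involutions of `C(x)` are `x, y, a = x y`.  If `a` is conjugate to `x`, every involution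
commuting with a conjugate of `x` is conjugate to `x`, and Sylow's theorem finishes.  If `a` is not conjugate to
`x`: for conjugates `u` of `x` and `β` of `a` the central involution `z` of `⟨u, β⟩` lies in `C(u)`, so it is the
conjugate `α` of `a` in `C(u)` or the conjugate `u'` of `x` in `C(u)`, `u' ≠ u`; in the second case `α` and `β`
are both the unique conjugate of `a` in `C(u')`.  Either way `α` commutes with `β`: the conjugates of `a` commute
pairwise and generate an abelian normal subgroup, which is impossible.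
-/

set_option autoImplicit false

namespace Cfsg.Agent.S3279

open Cfsg Cfsg.Agent.Helper48.ZStar

section Aux

variable {G : Type*} [Group G]

/-- `w` is an involution. -/
def IsInvo (w : G) : Prop := w * w = 1 ∧ w ≠ 1

theorem isInvo_iff {w : G} : orderOf w = 2 ↔ IsInvo w := by
  have : Fact (Nat.Prime 2) := ⟨Nat.prime_two⟩
  rw [orderOf_eq_prime_iff, pow_two]; rfl

theorem IsInvo.conj {w : G} (h : IsInvo w) (g : G) : IsInvo (g * w * g⁻¹) :=
  ⟨conj_sq h.1 g, fun h1 => h.2 (conj_eq_one_iff.mp h1)⟩

/-- Two non-conjugate involutions commute with a common involution different from the first. -/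
theorem exists_central_invo [Finite G] {a b : G} (ha : IsInvo a) (hb : IsInvo b)
    (hnc : ∀ g : G, g * a * g⁻¹ ≠ b) :
    ∃ z : G, IsInvo z ∧ z ≠ a ∧ Commute a z ∧ Commute b z := by
  rcases Nat.even_or_odd' (orderOf (a * b)) with ⟨m, hm | hm⟩
  · refine ⟨(a * b) ^ m, ⟨z_sq a b ha.1 hb.1 hm, z_ne_one a b ha.1 hb.1 hm⟩, ?_,
      z_comm_left a b ha.1 hb.1 hm, z_comm_right a b ha.1 hb.1 hm⟩
    intro hz
    have h1 : Commute a (a * b) := by
      have h0 : Commute ((a * b) ^ m) (a * b) := (Commute.refl (a * b)).pow_left m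
      rwa [hz] at h0
    have h2 : a * b = b * a := by
      have := h1.eq
      calc a * b = a * (a * (a * b)) := by rw [← mul_assoc a a, ha.1, one_mul]
        _ = a * (a * b * a) := by rw [this]
        _ = b * a := by rw [mul_assoc a b a, ← mul_assoc a a, ha.1, one_mul]
    have h3 : (a * b) ^ 2 = 1 := by
      rw [pow_two]
      calc a * b * (a * b) = a * (b * a) * b := by group
        _ = a * (a * b) * b := by rw [h2]
        _ = (a * a) * (b * b) := by group
        _ = 1 := by rw [ha.1, hb.1, one_mul]
    have h4 : 2 * m ∣ 2 := by rw [← hm]; exact orderOf_dvd_of_pow_eq_one h3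
    have hm0 := m_pos a b ha.1 hb.1 hm
    have hm1 : m = 1 := by
      have := Nat.le_of_dvd (by norm_num) h4
      omega
    rw [hm1, pow_one] at hz
    exact hb.2 (by simpa using hz)
  · exact absurd (conj_of_odd a b ha.1 hb.1 hm) (hnc _)

/-- There are no four involutions in `C(x)`. -/
theorem four_false [Finite G] {x : G}
    (h3 : Nat.card {u : ↥(Subgroup.centralizer ({x} : Set G)) // orderOf u = 2} ≤ 3)
    (w : Fin 4 → G) (hw : Function.Injective w) (hc : ∀ i, Commute x (w i))
    (ho : ∀ i, IsInvo (w i)) : False := by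
  have hmem : ∀ i, w i ∈ Subgroup.centralizer ({x} : Set G) := fun i =>
    Subgroup.mem_centralizer_singleton_iff.mpr (hc i).eq.symm
  let f : Fin 4 → {u : ↥(Subgroup.centralizer ({x} : Set G)) // orderOf u = 2} := fun i =>
    ⟨⟨w i, hmem i⟩, by rw [Subgroup.orderOf_mk]; exact isInvo_iff.mpr (ho i)⟩
  have hf : Function.Injective f := by
    intro i j hij
    apply hw
    have := congrArg
      (fun u : {u : ↥(Subgroup.centralizer ({x} : Set G)) // orderOf u = 2} => ((u.1 : _) : G)) hij
    exact this
  have := Nat.card_le_card_of_injective f hf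
  rw [Nat.card_eq_fintype_card, Fintype.card_fin] at this
  omega

theorem mem_three [Finite G] {x y a : G}
    (h3 : Nat.card {u : ↥(Subgroup.centralizer ({x} : Set G)) // orderOf u = 2} ≤ 3)
    (hx : IsInvo x) (hy : IsInvo y) (ha : IsInvo a) (hxy : x ≠ y) (hxa : x ≠ a) (hya : y ≠ a)
    (hcy : Commute x y) (hca : Commute x a) {w : G} (hw : IsInvo w) (hcw : Commute x w) :
    w = x ∨ w = y ∨ w = a := by
  by_contra hcon
  push Not at hcon
  obtain ⟨h1, h2, h3'⟩ := hcon
  apply four_false h3 ![x, y, a, w]
  · intro i j hij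
    fin_cases i <;> fin_cases j <;> first | rfl | (exfalso; simp at hij; tauto)
  · intro i
    fin_cases i
    · exact Commute.refl x
    · exact hcy
    · exact hca
    · exact hcw
  · intro i
    fin_cases i
    · exact hx
    · exact hy
    · exact ha
    · exact hw

theorem mem_three_conj [Finite G] {x y a : G}
    (h3 : Nat.card {u : ↥(Subgroup.centralizer ({x} : Set G)) // orderOf u = 2} ≤ 3)
    (hx : IsInvo x) (hy : IsInvo y) (ha : IsInvo a) (hxy : x ≠ y) (hxa : x ≠ a) (hya : y ≠ a)
    (hcy : Commute x y) (hca : Commute x a) (h : G) {w : G} (hw : IsInvo w)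
    (hcw : Commute (h * x * h⁻¹) w) :
    w = h * x * h⁻¹ ∨ w = h * y * h⁻¹ ∨ w = h * a * h⁻¹ := by
  have hw' : IsInvo (h⁻¹ * w * h⁻¹⁻¹) := hw.conj h⁻¹
  have hc' : Commute x (h⁻¹ * w * h⁻¹⁻¹) := by
    have := hcw.eq
    unfold Commute SemiconjBy
    rw [inv_inv]
    calc x * (h⁻¹ * w * h) = h⁻¹ * ((h * x * h⁻¹) * w) * h := by group
      _ = h⁻¹ * (w * (h * x * h⁻¹)) * h := by rw [this]
      _ = h⁻¹ * w * h * x := by group
  rcases mem_three h3 hx hy ha hxy hxa hya hcy hca hw' hc' with e | e | e
  · left; rw [← e]; group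
  · right; left; rw [← e]; group
  · right; right; rw [← e]; group

/-- Every involution is conjugate into a given Sylow 2-subgroup. -/
theorem exists_conj_mem_sylow [Finite G] (S : Sylow 2 G) {t : G} (ht : IsInvo t) :
    ∃ g : G, g * t * g⁻¹ ∈ (S : Subgroup G) := by
  have : Fact (Nat.Prime 2) := ⟨Nat.prime_two⟩
  have hzp : IsPGroup 2 (Subgroup.zpowers t) :=
    IsPGroup.of_card (n := 1) (by rw [Nat.card_zpowers, isInvo_iff.mpr ht, pow_one])
  obtain ⟨Q, hQ⟩ := hzp.exists_le_sylow
  obtain ⟨g, hg⟩ := MulAction.exists_smul_eq G Q S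
  refine ⟨g, ?_⟩
  have h1 : t ∈ (Q : Subgroup G) := hQ (Subgroup.mem_zpowers t)
  have h2 : g * t * g⁻¹ ∈ ((g • Q : Sylow 2 G) : Subgroup G) := by
    rw [Sylow.coe_subgroup_smul]
    exact ⟨t, h1, rfl⟩
  rwa [hg] at h2

/-- A Sylow 2-subgroup of a group of even order has a central involution. -/
theorem exists_central_invo_sylow [Finite G] (S : Sylow 2 G) (h2 : 2 ∣ Nat.card G) :
    ∃ z : G, IsInvo z ∧ z ∈ (S : Subgroup G) ∧ ∀ s ∈ (S : Subgroup G), Commute z s := by
  have : Fact (Nat.Prime 2) := ⟨Nat.prime_two⟩
  have hne : (S : Subgroup G) ≠ ⊥ := S.ne_bot_of_dvd_card h2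
  have : Nontrivial ↥(S : Subgroup G) := (Subgroup.nontrivial_iff_ne_bot _).mpr hne
  have hcen := IsPGroup.center_nontrivial S.isPGroup'
  have hcenP : IsPGroup 2 (Subgroup.center ↥(S : Subgroup G)) := S.isPGroup'.to_subgroup _
  have hdvd : 2 ∣ Nat.card (Subgroup.center ↥(S : Subgroup G)) := by
    rcases hcenP.card_eq_or_dvd with h | h
    · exfalso
      have := Finite.one_lt_card_iff_nontrivial.mpr hcen
      omega
    · exact h
  obtain ⟨c, hc⟩ := exists_prime_orderOf_dvd_card' 2 hdvd
  obtain ⟨⟨z, hzS⟩, hzC⟩ := c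
  have hz2 : orderOf z = 2 := by
    rw [← hc, Subgroup.orderOf_mk, Subgroup.orderOf_mk]
  refine ⟨z, isInvo_iff.mp hz2, hzS, ?_⟩
  intro s hs
  rw [Subgroup.mem_center_iff] at hzC
  have := hzC ⟨s, hs⟩
  have h2 := congrArg (fun c : ↥(S : Subgroup G) => (c : G)) this
  exact h2.symm

end Aux

theorem result {G : Type*} [Group G] [Finite G] [IsSimpleGroup G] (x : G) (hx : orderOf x = 2)
    (h3 : Nat.card {u : ↥(Subgroup.centralizer ({x} : Set G)) // orderOf u = 2} ≤ 3) :
    (∃ S : Sylow 2 G, (S : Subgroup G) ≤ Subgroup.centralizer ({x} : Set G)) ∧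
      ∀ u v : G, orderOf u = 2 → orderOf v = 2 → IsConj u v := by
  classical
  have : Fact (Nat.Prime 2) := ⟨Nat.prime_two⟩
  have hxI : IsInvo x := isInvo_iff.mp hx
  have h2G : 2 ∣ Nat.card G := hx ▸ orderOf_dvd_natCard x
  by_cases hiso : IsIsolated x
  · -- `x` is central by the `Z*`-theorem
    have hZ : InZStar 2 x :=
      zstar_core (fun _ _ _ S n e hO => Cfsg.Agent.S0201.result S n e hO) _ G rfl x hx hiso
    have hN : pPrimeCore 2 G = ⊥ := by
      rcases (Helper48.pPrimeCore_normal 2 G).eq_bot_or_eq_top with h | h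
      · exact h
      · exfalso
        have hc := Cfsg.Agent.Lib.card_pPrimeCore_coprime (G := G) 2
        rw [h, Subgroup.card_top] at hc
        exact (Nat.not_coprime_of_dvd_of_dvd (by norm_num) h2G (dvd_refl 2)) hc
    have hcen : ∀ g : G, g * x * g⁻¹ = x := by
      intro g
      have := hZ g
      rw [hN, Subgroup.mem_bot] at this
      exact mul_inv_eq_one.mp this
    have htop : Subgroup.zpowers x = ⊤ := by
      have hn : (Subgroup.zpowers x).Normal := by
        constructor
        intro n hn g
        obtain ⟨k, rfl⟩ := Subgroup.mem_zpowers_iff.mp hn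
        rw [← conj_zpow, hcen g]
        exact Subgroup.zpow_mem_zpowers x k
      rcases hn.eq_bot_or_eq_top with h | h
      · exfalso; exact hxI.2 (Subgroup.zpowers_eq_bot.mp h)
      · exact h
    have hcard : Nat.card G = 2 := by
      rw [← Subgroup.card_top (G := G), ← htop, Nat.card_zpowers, hx]
    have hall : ∀ w : G, orderOf w = 2 → w = x := by
      intro w hw
      obtain ⟨y, -, hy⟩ := (Nat.card_eq_two_iff' (1 : G)).mp hcard
      rw [hy w (isInvo_iff.mp hw).2, hy x hxI.2]
    refine ⟨⟨default, fun s _ => ?_⟩, fun u v hu hv => ?_⟩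
    · rw [Subgroup.mem_centralizer_singleton_iff]
      have := hcen s
      calc s * x = (s * x * s⁻¹) * s := by group
        _ = x * s := by rw [this]
    · rw [hall u hu, hall v hv]
  · -- `x` commutes with a conjugate `y ≠ x`
    unfold IsIsolated at hiso
    push Not at hiso
    obtain ⟨g, hc, hne⟩ := hiso
    obtain ⟨y, hy⟩ : ∃ y : G, y = g * x * g⁻¹ := ⟨_, rfl⟩
    rw [← hy] at hc hne
    have hyI : IsInvo y := hy ▸ hxI.conj g
    obtain ⟨a, ha⟩ : ∃ a : G, a = x * y := ⟨_, rfl⟩
    have hxinv : x⁻¹ = x := inv_eq_self_of_sq hxI.1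
    have haI : IsInvo a := by
      constructor
      · rw [ha]
        calc x * y * (x * y) = x * (y * x) * y := by group
          _ = x * (x * y) * y := by rw [hc.eq]
          _ = (x * x) * (y * y) := by group
          _ = 1 := by rw [hxI.1, hyI.1, one_mul]
      · rw [ha]
        intro h
        apply hne
        have : y = x⁻¹ := (inv_eq_of_mul_eq_one_right h).symm
        rw [this, hxinv]
    have hxy : x ≠ y := fun h => hne h.symm
    have hxa : x ≠ a := by
      rw [ha]; intro h
      exact hyI.2 (by simpa using h.symm)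
    have hya : y ≠ a := by
      rw [ha]; intro h
      exact hxI.2 (by simpa using h.symm)
    have hca : Commute x a := by
      rw [ha]; exact (Commute.refl x).mul_right hc
    have hcya : Commute y a := by
      rw [ha]; exact hc.symm.mul_right (Commute.refl y)
    by_cases hcase : ∃ k : G, k * x * k⁻¹ = a
    · obtain ⟨k, hk⟩ := hcase
      have hconjx : ∀ (h w : G), IsInvo w → Commute (h * x * h⁻¹) w → ∃ d : G, d * x * d⁻¹ = w := by
        intro h w hw hcw
        rcases mem_three_conj h3 hxI hyI haI hxy hxa hya hc hca h hw hcw with e | e | e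
        · exact ⟨h, e.symm⟩
        · refine ⟨h * g, ?_⟩; rw [e, hy]; group
        · refine ⟨h * k, ?_⟩; rw [e, ← hk]; group
      obtain ⟨S⟩ : Nonempty (Sylow 2 G) := inferInstance
      obtain ⟨z, hzI, hzS, hzc⟩ := exists_central_invo_sylow S h2G
      obtain ⟨c, hcS⟩ := exists_conj_mem_sylow S hxI
      obtain ⟨d, hd⟩ := hconjx c z hzI ((hzc _ hcS).symm)
      constructor
      · refine ⟨d⁻¹ • S, ?_⟩
        intro s hs
        rw [Sylow.coe_subgroup_smul] at hs
        obtain ⟨s', hs', rfl⟩ := hs
        rw [Subgroup.mem_centralizer_singleton_iff]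
        have h1 := (hzc s' hs').eq
        rw [← hd] at h1
        simp only [MulDistribMulAction.toMonoidEnd_apply, MulDistribMulAction.toMonoidHom_apply,
          MulAut.smul_def, MulAut.conj_apply, inv_inv]
        calc d⁻¹ * s' * d * x = d⁻¹ * (s' * (d * x * d⁻¹)) * d := by group
          _ = d⁻¹ * ((d * x * d⁻¹) * s') * d := by rw [h1]
          _ = x * (d⁻¹ * s' * d) := by group
      · have key : ∀ w, orderOf w = 2 → ∃ e : G, e * x * e⁻¹ = w := by
          intro w hw
          have hwI := isInvo_iff.mp hw
          obtain ⟨cw, hcw⟩ := exists_conj_mem_sylow S hwI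
          have h1 : Commute z (cw * w * cw⁻¹) := hzc _ hcw
          rw [← hd] at h1
          obtain ⟨e, he⟩ := hconjx d _ (hwI.conj cw) h1
          refine ⟨cw⁻¹ * e, ?_⟩
          calc cw⁻¹ * e * x * (cw⁻¹ * e)⁻¹ = cw⁻¹ * (e * x * e⁻¹) * cw := by group
            _ = w := by rw [he]; group
        intro u v hu hv
        obtain ⟨e1, he1⟩ := key u hu
        obtain ⟨e2, he2⟩ := key v hv
        rw [isConj_iff]
        refine ⟨e2 * e1⁻¹, ?_⟩
        rw [← he1, ← he2]; group
    · exfalso
      push Not at hcase
      have hnot : ∀ p q : G, p * x * p⁻¹ ≠ q * a * q⁻¹ := by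
        intro p q e
        apply hcase (q⁻¹ * p)
        calc q⁻¹ * p * x * (q⁻¹ * p)⁻¹ = q⁻¹ * (p * x * p⁻¹) * q := by group
          _ = a := by rw [e]; group
      have hcomm : ∀ h₁ h₂ : G, Commute (h₁ * a * h₁⁻¹) (h₂ * a * h₂⁻¹) := by
        intro h₁ h₂
        have hncj : ∀ k : G, k * (h₁ * x * h₁⁻¹) * k⁻¹ ≠ h₂ * a * h₂⁻¹ := by
          intro k e
          apply hnot (k * h₁) h₂
          rw [← e]; group
        obtain ⟨z, hzI, hzu, hcu, hcb⟩ := exists_central_invo (hxI.conj h₁) (haI.conj h₂) hncj
        rcases mem_three_conj h3 hxI hyI haI hxy hxa hya hc hca h₁ hzI hcu with e | e | e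
        · exact absurd e hzu
        · have hz' : z = (h₁ * g) * x * (h₁ * g)⁻¹ := by rw [e, hy]; group
          have third : ∀ q : G, Commute z (q * a * q⁻¹) →
              q * a * q⁻¹ = (h₁ * g) * a * (h₁ * g)⁻¹ := by
            intro q hq
            rw [hz'] at hq
            rcases mem_three_conj h3 hxI hyI haI hxy hxa hya hc hca (h₁ * g) (haI.conj q) hq
              with e1 | e1 | e1
            · exact absurd e1.symm (hnot _ _)
            · exfalso
              apply hnot (h₁ * g * g) q
              rw [e1, hy]; group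
            · exact e1
          have hα : Commute z (h₁ * a * h₁⁻¹) := by
            rw [e]
            have := hcya.eq
            unfold Commute SemiconjBy
            calc h₁ * y * h₁⁻¹ * (h₁ * a * h₁⁻¹) = h₁ * (y * a) * h₁⁻¹ := by group
              _ = h₁ * (a * y) * h₁⁻¹ := by rw [this]
              _ = h₁ * a * h₁⁻¹ * (h₁ * y * h₁⁻¹) := by group
          rw [third h₁ hα, third h₂ hcb.symm]
        · rw [← e]; exact hcb.symm
      -- the conjugates of `a` generate an abelian normal subgroup
      have hle : Subgroup.normalClosure ({a} : Set G) ≤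
          Subgroup.centralizer (Group.conjugatesOfSet ({a} : Set G)) := by
        unfold Subgroup.normalClosure
        rw [Subgroup.closure_le]
        intro w hw
        rw [Group.mem_conjugatesOfSet_iff] at hw
        obtain ⟨a', ha', hcj⟩ := hw
        rw [Set.mem_singleton_iff] at ha'
        subst ha'
        obtain ⟨q, hq⟩ := isConj_iff.mp hcj
        rw [SetLike.mem_coe, Subgroup.mem_centralizer_iff]
        intro v hv
        rw [Group.mem_conjugatesOfSet_iff] at hv
        obtain ⟨a'', ha'', hcj'⟩ := hv
        rw [Set.mem_singleton_iff] at ha''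
        subst ha''
        obtain ⟨p, hp⟩ := isConj_iff.mp hcj'
        rw [← hq, ← hp]
        exact (hcomm p q).eq
      have htop : Subgroup.normalClosure ({a} : Set G) = ⊤ := by
        rcases (Subgroup.normalClosure_normal (s := ({a} : Set G))).eq_bot_or_eq_top with h | h
        · exfalso
          have : a ∈ Subgroup.normalClosure ({a} : Set G) :=
            Subgroup.subset_normalClosure (Set.mem_singleton a)
          rw [h, Subgroup.mem_bot] at this
          exact haI.2 this
        · exact h
      have hacen : ∀ p : G, p * a = a * p := by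
        intro p
        have hp : p ∈ Subgroup.centralizer (Group.conjugatesOfSet ({a} : Set G)) :=
          hle (htop ▸ Subgroup.mem_top p)
        rw [Subgroup.mem_centralizer_iff] at hp
        exact (hp a (Group.subset_conjugatesOfSet (Set.mem_singleton a))).symm
      have hctop : Subgroup.center G = ⊤ := by
        rcases (inferInstance : (Subgroup.center G).Normal).eq_bot_or_eq_top with h | h
        · exfalso
          have : a ∈ Subgroup.center G := by
            rw [Subgroup.mem_center_iff]
            intro p; exact hacen p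
          rw [h, Subgroup.mem_bot] at this
          exact haI.2 this
        · exact h
      apply hne
      have hxc : x ∈ Subgroup.center G := hctop ▸ Subgroup.mem_top x
      rw [Subgroup.mem_center_iff] at hxc
      rw [hy, hxc g]; group

end Cfsg.Agent.S3279
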