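import Cfsg.Statements.S4479
import Cfsg.Agent.Helper76.KleinFourFusion
import Cfsg.Agent.Helper76.KleinFourOrder

set_option autoImplicit false
open Cfsg

namespace Cfsg.Agent.S4479

/-- An order formula from the principal 2-block. Let G be a finite group of order 4·g₀ with g₀ odd having no normal 2-complement (no normal subgroup of order g₀); let P be a Sylow 2-subgroup, J an involution of P, and fix a maximal ideal M of the algebraic integers containing 2. Suppose the principal 2-block consists of the principal character and three further distinct characters χ₁, χ₂, χ₃ of degrees x₁, x₂, x₃, with χ_i(J) = ε_i = ±1. Then, writing c(J) and c(P) for the orders of the centralizers of J and of P, the order of G equals 8·α·c(J)³/c(P)² with α = x₁x₂x₃ / ((x₁ + ε₁)(x₂ + ε₂)(x₃ + ε₃)). -/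
theorem result {G : Type*} [Group G] [Finite G] (M : Ideal Cfsg.AlgInt) (hM : Cfsg.IsPModular 2 M) (g₀ : ℕ) (hg₀ : Odd g₀) (hG : Nat.card G = 4 * g₀) (hnc : ¬ ∃ N : Subgroup G, N.Normal ∧ Nat.card N = g₀) (P : Sylow 2 G) (J : G) (hJ : J ∈ (P : Subgroup G)) (hJ2 : orderOf J = 2) (χ₁ χ₂ χ₃ : Cfsg.IrrCharacter G) (ε₁ ε₂ ε₃ : ℤ) (hB : Cfsg.principalBlock M G = {χ : Cfsg.IrrCharacter G | (χ : G → ℂ) = (fun _ => 1) ∨ χ = χ₁ ∨ χ = χ₂ ∨ χ = χ₃}) (hdist : (χ₁ : G → ℂ) ≠ (fun _ => 1) ∧ (χ₂ : G → ℂ) ≠ (fun _ => 1) ∧ (χ₃ : G → ℂ) ≠ (fun _ => 1) ∧ χ₁ ≠ χ₂ ∧ χ₁ ≠ χ₃ ∧ χ₂ ≠ χ₃) (hε : (ε₁ = 1 ∨ ε₁ = -1) ∧ (ε₂ = 1 ∨ ε₂ = -1) ∧ (ε₃ = 1 ∨ ε₃ = -1)) (hval : (χ₁ : G → ℂ) J = ε₁ ∧ (χ₂ : G → ℂ) J = ε₂ ∧ (χ₃ : G → ℂ) J = ε₃) : (Nat.card G : ℚ) = 8 * (((Cfsg.charDegree (χ₁ : G → ℂ) : ℚ) * Cfsg.charDegree (χ₂ : G → ℂ) * Cfsg.charDegree (χ₃ : G → ℂ)) / ((Cfsg.charDegree (χ₁ : G →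 ℂ) + ε₁) * (Cfsg.charDegree (χ₂ : G → ℂ) + ε₂) * (Cfsg.charDegree (χ₃ : G → ℂ) + ε₃))) * (Nat.card (Subgroup.centralizer ({J} : Set G)) : ℚ) ^ 3 / (Nat.card (Subgroup.centralizer ((P : Subgroup G) : Set G)) : ℚ) ^ 2 := by
  classical
  haveI : Fintype G := Fintype.ofFinite G
  have hP := Helper76.orderFour_sylow_card g₀ hg₀ hG P
  have hexp := Helper76.orderFour_sylow_mul_self g₀ hg₀ hG hnc P
  have hone := Helper76.orderFour_involutions_conj g₀ hg₀ hG hnc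
  have hid := Helper76.kleinFour_class_sum_identity hM P hP hexp hone J hJ2
  have hloc := Helper76.kleinFour_local_count g₀ hg₀ hG P hP hexp hone J hJ hJ2
  have hrel := Helper76.principal_orthogonality_involution_odd hM J hJ2 1
    (by rw [orderOf_one]; norm_num)
  obtain ⟨hd1, hd2, hd3, h12, h13, h23⟩ := hdist
  obtain ⟨he1, he2, he3⟩ := hε
  obtain ⟨hv1, hv2, hv3⟩ := hval
  -- the block as a finset
  have hne1 : Helper79.principalIrr G ≠ χ₁ := fun h => hd1 (by rw [← h]; rfl)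
  have hne2 : Helper79.principalIrr G ≠ χ₂ := fun h => hd2 (by rw [← h]; rfl)
  have hne3 : Helper79.principalIrr G ≠ χ₃ := fun h => hd3 (by rw [← h]; rfl)
  have hBset : Cfsg.principalBlock M G =
      ↑({Helper79.principalIrr G, χ₁, χ₂, χ₃} : Finset (Cfsg.IrrCharacter G)) := by
    rw [hB]
    ext χ
    simp only [Set.mem_setOf_eq, Finset.coe_insert, Finset.coe_singleton, Set.mem_insert_iff,
      Set.mem_singleton_iff]
    constructor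
    · rintro (h | h | h | h)
      · exact Or.inl (Subtype.ext h)
      · exact Or.inr (Or.inl h)
      · exact Or.inr (Or.inr (Or.inl h))
      · exact Or.inr (Or.inr (Or.inr h))
    · rintro (h | h | h | h)
      · exact Or.inl (by rw [h]; rfl)
      · exact Or.inr (Or.inl h)
      · exact Or.inr (Or.inr (Or.inl h))
      · exact Or.inr (Or.inr (Or.inr h))
  have hsum4 : ∀ f : Cfsg.IrrCharacter G → ℂ, ∑ᶠ ζ ∈ Cfsg.principalBlock M G, f ζ =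
      f (Helper79.principalIrr G) + (f χ₁ + (f χ₂ + f χ₃)) := by
    intro f
    rw [hBset, finsum_mem_coe_finset, Finset.sum_insert, Finset.sum_insert, Finset.sum_pair h23]
    · simp only [Finset.mem_insert, Finset.mem_singleton, not_or]
      exact ⟨h12, h13⟩
    · simp only [Finset.mem_insert, Finset.mem_singleton, not_or]
      exact ⟨hne1, hne2, hne3⟩
  rw [hsum4] at hid hrel
  have hp1 : ((Helper79.principalIrr G : Cfsg.IrrCharacter G) : G → ℂ) J = 1 := rfl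
  have hp2 : ((Helper79.principalIrr G : Cfsg.IrrCharacter G) : G → ℂ) 1 = 1 := rfl
  rw [hp1, hp2, hv1, hv2, hv3, Helper79.irr_one χ₁, Helper79.irr_one χ₂, Helper79.irr_one χ₃]
    at hid hrel
  set x₁ := Cfsg.charDegree (χ₁ : G → ℂ) with hx₁
  set x₂ := Cfsg.charDegree (χ₂ : G → ℂ) with hx₂
  set x₃ := Cfsg.charDegree (χ₃ : G → ℂ) with hx₃
  set cJ := Nat.card (Subgroup.centralizer ({J} : Set G)) with hcJ
  set cP := Nat.card (Subgroup.centralizer ((P : Subgroup G) : Set G)) with hcP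
  set n := (Finset.univ.filter (fun y : G => orderOf y = 2 ∧ 2 ∣ orderOf (J * y))).card with hn
  set idx := (Subgroup.centralizer ({J} : Set G)).index with hidx
  have hx1pos : 0 < x₁ := Helper79.irr_charDegree_pos χ₁
  have hx2pos : 0 < x₂ := Helper79.irr_charDegree_pos χ₂
  have hx3pos : 0 < x₃ := Helper79.irr_charDegree_pos χ₃
  have h41 := Helper76.four_dvd_degree_sub_involution_value P hP hexp hone J hJ2 χ₁ ε₁ hv1
  have h42 := Helper76.four_dvd_degree_sub_involution_value P hP hexp hone J hJ2 χ₂ ε₂ hv2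
  have h43 := Helper76.four_dvd_degree_sub_involution_value P hP hexp hone J hJ2 χ₃ ε₃ hv3
  rw [← hx₁] at h41
  rw [← hx₂] at h42
  rw [← hx₃] at h43
  have hs1 : (x₁ : ℤ) + ε₁ ≠ 0 := by omega
  have hs2 : (x₂ : ℤ) + ε₂ ≠ 0 := by omega
  have hs3 : (x₃ : ℤ) + ε₃ ≠ 0 := by omega
  have hs1' : (x₁ : ℚ) + ε₁ ≠ 0 := by exact_mod_cast hs1
  have hs2' : (x₂ : ℚ) + ε₂ ≠ 0 := by exact_mod_cast hs2
  have hs3' : (x₃ : ℚ) + ε₃ ≠ 0 := by exact_mod_cast hs3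
  have hx1' : (x₁ : ℚ) ≠ 0 := by exact_mod_cast hx1pos.ne'
  have hx2' : (x₂ : ℚ) ≠ 0 := by exact_mod_cast hx2pos.ne'
  have hx3' : (x₃ : ℚ) ≠ 0 := by exact_mod_cast hx3pos.ne'
  have hcJpos : (cJ : ℚ) ≠ 0 := by
    have : 0 < cJ := Nat.card_pos
    exact_mod_cast this.ne'
  have hcPpos : (cP : ℚ) ≠ 0 := by
    have : 0 < cP := Nat.card_pos
    exact_mod_cast this.ne'
  have hE1 : (ε₁ : ℚ) * ε₁ = 1 := by
    rcases he1 with h | h <;> rw [h] <;> norm_num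
  have hE2 : (ε₂ : ℚ) * ε₂ = 1 := by
    rcases he2 with h | h <;> rw [h] <;> norm_num
  have hE3 : (ε₃ : ℚ) * ε₃ = 1 := by
    rcases he3 with h | h <;> rw [h] <;> norm_num
  -- transfer the identities to ℚ
  have hidQ : (idx : ℚ) * (1 / 1 + ((ε₁ : ℚ) / x₁ + ((ε₂ : ℚ) / x₂ + (ε₃ : ℚ) / x₃))) = 4 * n := by
    have h : (((idx : ℚ) * (1 / 1 + ((ε₁ : ℚ) / x₁ + ((ε₂ : ℚ) / x₂ + (ε₃ : ℚ) / x₃))) : ℚ) : ℂ) =
        ((4 * n : ℚ) : ℂ) := by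
      push_cast
      exact hid
    exact_mod_cast h
  have hrelQ : (1 : ℚ) * 1 + ((x₁ : ℚ) * ε₁ + ((x₂ : ℚ) * ε₂ + (x₃ : ℚ) * ε₃)) = 0 := by
    have h : (((1 : ℚ) * 1 + ((x₁ : ℚ) * ε₁ + ((x₂ : ℚ) * ε₂ + (x₃ : ℚ) * ε₃)) : ℚ) : ℂ) =
        ((0 : ℚ) : ℂ) := by
      push_cast
      exact hrel
    exact_mod_cast h
  have hlocQ : (n : ℚ) * (cP : ℚ) ^ 2 = 2 * (cJ : ℚ) ^ 2 := by exact_mod_cast hloc
  have hGQ : (idx : ℚ) * cJ = Nat.card G := by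
    have := (Subgroup.centralizer ({J} : Set G)).index_mul_card
    exact_mod_cast this
  -- clear denominators in `hidQ`
  have hidQ' : (idx : ℚ) * ((x₁ : ℚ) * x₂ * x₃ + ε₁ * x₂ * x₃ + ε₂ * x₁ * x₃ + ε₃ * x₁ * x₂) =
      4 * n * ((x₁ : ℚ) * x₂ * x₃) := by
    have : (1 / 1 + ((ε₁ : ℚ) / x₁ + ((ε₂ : ℚ) / x₂ + (ε₃ : ℚ) / x₃))) * ((x₁ : ℚ) * x₂ * x₃) =
        (x₁ : ℚ) * x₂ * x₃ + ε₁ * x₂ * x₃ + ε₂ * x₁ * x₃ + ε₃ * x₁ * x₂ := by
      field_simp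
      ring
    rw [← this, ← mul_assoc, hidQ]
  have hprod : ((x₁ : ℚ) + ε₁) * ((x₂ : ℚ) + ε₂) * ((x₃ : ℚ) + ε₃) =
      (x₁ : ℚ) * x₂ * x₃ + ε₁ * x₂ * x₃ + ε₂ * x₁ * x₃ + ε₃ * x₁ * x₂ := by
    linear_combination ((ε₁ : ℚ) * ε₂ * ε₃) * hrelQ - ((ε₂ : ℚ) * ε₃ * x₁) * hE1 -
      ((ε₁ : ℚ) * ε₃ * x₂) * hE2 - ((ε₁ : ℚ) * ε₂ * x₃) * hE3
  have hmain : (Nat.card G : ℚ) * (((x₁ : ℚ) + ε₁) * ((x₂ : ℚ) + ε₂) * ((x₃ : ℚ) + ε₃)) *
      (cP : ℚ) ^ 2 = 8 * ((x₁ : ℚ) * x₂ * x₃) * (cJ : ℚ) ^ 3 := by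
    rw [hprod, ← hGQ]
    linear_combination ((cJ : ℚ) * (cP : ℚ) ^ 2) * hidQ' + (4 * (cJ : ℚ) * ((x₁ : ℚ) * x₂ * x₃)) * hlocQ
  rw [eq_div_iff (pow_ne_zero 2 hcPpos)]
  have hden : ((x₁ : ℚ) + ε₁) * ((x₂ : ℚ) + ε₂) * ((x₃ : ℚ) + ε₃) ≠ 0 :=
    mul_ne_zero (mul_ne_zero hs1' hs2') hs3'
  rw [mul_div_assoc', div_mul_eq_mul_div, eq_div_iff hden]
  linear_combination hmain

end Cfsg.Agent.S4479
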