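import Cfsg.Statements.S3377

set_option autoImplicit false
open Cfsg

namespace Cfsg.Agent.S3377

/-- the relators -/
abbrev rels : Set (FreeGroup (Fin 2)) :=
  {FreeGroup.of (0 : Fin 2) ^ 3, FreeGroup.of (1 : Fin 2) ^ 5, (FreeGroup.of (0 : Fin 2) * FreeGroup.of 1) ^ 2}

abbrev P : Type := PresentedGroup rels

noncomputable def a : P := PresentedGroup.of 0
noncomputable def b : P := PresentedGroup.of 1

theorem a3 : a * a * a = 1 := by
  have h : PresentedGroup.mk rels (FreeGroup.of (0 : Fin 2) ^ 3) = 1 :=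
    PresentedGroup.one_of_mem (by simp [rels])
  rw [map_pow, pow_succ, pow_two] at h
  exact h

theorem b5 : b * b * b * b * b = 1 := by
  have h : PresentedGroup.mk rels (FreeGroup.of (1 : Fin 2) ^ 5) = 1 :=
    PresentedGroup.one_of_mem (by simp [rels])
  rw [map_pow] at h
  unfold b PresentedGroup.of
  simpa [pow_succ, mul_assoc] using h

theorem abab : a * b * a * b = 1 := by
  have h : PresentedGroup.mk rels ((FreeGroup.of (0 : Fin 2) * FreeGroup.of 1) ^ 2) = 1 :=
    PresentedGroup.one_of_mem (by simp [rels])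
  rw [map_pow, map_mul, pow_two] at h
  unfold a b PresentedGroup.of
  simpa [mul_assoc] using h

theorem baba : b * a * b * a = 1 := by
  have h := abab
  have : b * a * b * a = a⁻¹ * (a * b * a * b) * a := by group
  rw [this, h]; group

/-- the subgroup generated by `b` -/
noncomputable abbrev Hb : Subgroup P := Subgroup.zpowers b

abbrev Q : Type := P ⧸ Hb

theorem rel_aaa (X : Q) : a • a • a • X = X := by
  rw [← mul_smul, ← mul_smul, a3, one_smul]

theorem rel_bbbbb (X : Q) : b • b • b • b • b • X = X := by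
  rw [← mul_smul, ← mul_smul, ← mul_smul, ← mul_smul, b5, one_smul]

theorem rel_abab (X : Q) : a • b • a • b • X = X := by
  rw [← mul_smul, ← mul_smul, ← mul_smul, abab, one_smul]

theorem rel_baba (X : Q) : b • a • b • a • X = X := by
  rw [← mul_smul, ← mul_smul, ← mul_smul, baba, one_smul]

noncomputable def X0 : Q := ((1 : P) : Q)

noncomputable def X1 : Q := a • X0
noncomputable def X2 : Q := a • X1
noncomputable def X3 : Q := b • X2
noncomputable def X4 : Q := a • X3
noncomputable def X5 : Q := b • X3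
noncomputable def X6 : Q := a • X4
noncomputable def X7 : Q := a • X5
noncomputable def X8 : Q := b • X6
noncomputable def X9 : Q := b • X8
noncomputable def X10 : Q := a • X9
noncomputable def X11 : Q := a • X10

theorem T_b_0 : b • X0 = X0 := by
  unfold X0
  rw [MulAction.Quotient.smul_coe, smul_eq_mul, mul_one, QuotientGroup.eq, mul_one]
  exact Subgroup.inv_mem _ (Subgroup.mem_zpowers b)

theorem T_a_0 : a • X0 = X1 := rfl
theorem T_a_1 : a • X1 = X2 := rfl
theorem T_b_2 : b • X2 = X3 := rfl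
theorem T_a_3 : a • X3 = X4 := rfl
theorem T_b_3 : b • X3 = X5 := rfl
theorem T_a_4 : a • X4 = X6 := rfl
theorem T_a_5 : a • X5 = X7 := rfl
theorem T_b_6 : b • X6 = X8 := rfl
theorem T_b_8 : b • X8 = X9 := rfl
theorem T_a_9 : a • X9 = X10 := rfl
theorem T_a_10 : a • X10 = X11 := rfl

theorem T_a_2 : a • X2 = X0 := by
  have h := rel_aaa X0
  rw [T_a_0, T_a_1] at h
  exact h

theorem T_a_6 : a • X6 = X3 := by
  have h := rel_aaa X3
  rw [T_a_3, T_a_4] at h
  exact h

theorem T_a_11 : a • X11 = X9 := by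
  have h := rel_aaa X9
  rw [T_a_9, T_a_10] at h
  exact h

theorem T_b_4 : b • X4 = X1 := by
  have h := rel_baba X1
  rw [T_a_1, T_b_2, T_a_3] at h
  exact h

theorem T_b_1 : b • X1 = X2 := by
  have h := rel_baba X2
  rw [T_a_2, T_b_0, T_a_0] at h
  exact h

theorem T_b_7 : b • X7 = X6 := by
  have h := rel_baba X6
  rw [T_a_6, T_b_3, T_a_5] at h
  exact h

theorem T_b_5 : b • X5 = X4 := by
  have h := rel_bbbbb X4
  rw [T_b_4, T_b_1, T_b_2, T_b_3] at h
  exact h

theorem T_a_8 : a • X8 = X5 := by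
  have h := rel_abab X5
  rw [T_b_5, T_a_4, T_b_6] at h
  exact h

theorem T_a_7 : a • X7 = X8 := by
  have h := rel_aaa X8
  rw [T_a_8, T_a_5] at h
  exact h

theorem T_b_10 : b • X10 = X7 := by
  have h := rel_baba X7
  rw [T_a_7, T_b_8, T_a_9] at h
  exact h

theorem T_b_9 : b • X9 = X10 := by
  have h := rel_bbbbb X10
  rw [T_b_10, T_b_7, T_b_6, T_b_8] at h
  exact h

theorem T_b_11 : b • X11 = X11 := by
  have h := rel_baba X11
  rw [T_a_11, T_b_9, T_a_10] at h
  exact h

noncomputable def X : Fin 12 → Q := ![X0, X1, X2, X3, X4, X5, X6, X7, X8, X9, X10, X11]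

theorem a_closed (i : Fin 12) : ∃ j : Fin 12, a • X i = X j := by
  fin_cases i
  · exact ⟨1, T_a_0⟩
  · exact ⟨2, T_a_1⟩
  · exact ⟨0, T_a_2⟩
  · exact ⟨4, T_a_3⟩
  · exact ⟨6, T_a_4⟩
  · exact ⟨7, T_a_5⟩
  · exact ⟨3, T_a_6⟩
  · exact ⟨8, T_a_7⟩
  · exact ⟨5, T_a_8⟩
  · exact ⟨10, T_a_9⟩
  · exact ⟨11, T_a_10⟩
  · exact ⟨9, T_a_11⟩

theorem b_closed (i : Fin 12) : ∃ j : Fin 12, b • X i = X j := by
  fin_cases i
  · exact ⟨0, T_b_0⟩
  · exact ⟨2, T_b_1⟩
  · exact ⟨3, T_b_2⟩
  · exact ⟨5, T_b_3⟩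
  · exact ⟨1, T_b_4⟩
  · exact ⟨4, T_b_5⟩
  · exact ⟨8, T_b_6⟩
  · exact ⟨6, T_b_7⟩
  · exact ⟨9, T_b_8⟩
  · exact ⟨10, T_b_9⟩
  · exact ⟨7, T_b_10⟩
  · exact ⟨11, T_b_11⟩

theorem a_inv : a⁻¹ = a * a := inv_eq_of_mul_eq_one_left a3

theorem b_inv : b⁻¹ = b * b * b * b := inv_eq_of_mul_eq_one_left b5

theorem closed (g : P) : ∀ i : Fin 12, ∃ j : Fin 12, g • X i = X j := by
  refine PresentedGroup.induction_on (C := fun g => ∀ i : Fin 12, ∃ j : Fin 12, g • X i = X j) g ?_
  intro w
  refine FreeGroup.induction_on w ?_ ?_ ?_ ?_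
  · intro i; exact ⟨i, by rw [map_one, one_smul]⟩
  · intro x i
    fin_cases x
    · exact a_closed i
    · exact b_closed i
  · intro x _ i
    fin_cases x
    · obtain ⟨j, hj⟩ := a_closed i
      obtain ⟨k, hk⟩ := a_closed j
      refine ⟨k, ?_⟩
      have : (PresentedGroup.mk rels) (FreeGroup.of (0 : Fin 2))⁻¹ = a⁻¹ := by rw [map_inv]; rfl
      simp only [Fin.zero_eta]
      rw [this, a_inv, mul_smul, hj, hk]
    · obtain ⟨j1, hj1⟩ := b_closed i
      obtain ⟨j2, hj2⟩ := b_closed j1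
      obtain ⟨j3, hj3⟩ := b_closed j2
      obtain ⟨j4, hj4⟩ := b_closed j3
      refine ⟨j4, ?_⟩
      have : (PresentedGroup.mk rels) (FreeGroup.of (1 : Fin 2))⁻¹ = b⁻¹ := by rw [map_inv]; rfl
      simp only [Fin.mk_one]
      rw [this, b_inv, mul_smul, mul_smul, mul_smul, hj1, hj2, hj3, hj4]
  · intro x y hx hy i
    obtain ⟨j, hj⟩ := hy i
    obtain ⟨k, hk⟩ := hx j
    exact ⟨k, by rw [map_mul, mul_smul, hj, hk]⟩

theorem X_surjective : Function.Surjective X := by
  intro y
  obtain ⟨g, rfl⟩ := QuotientGroup.mk_surjective y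
  obtain ⟨j, hj⟩ := closed g 0
  refine ⟨j, ?_⟩
  rw [← hj]
  show g • X0 = _
  unfold X0
  rw [MulAction.Quotient.smul_coe, smul_eq_mul, mul_one]

theorem card_Q_le : Nat.card Q ≤ 12 := by
  have := Nat.card_le_card_of_surjective X X_surjective
  simpa using this

theorem finite_Q : Finite Q := Finite.of_surjective X X_surjective

theorem orderOf_b_dvd : orderOf b ∣ 5 := by
  apply orderOf_dvd_of_pow_eq_one
  have := b5
  simpa [pow_succ, mul_assoc] using this

theorem finite_P : Finite P := by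
  have := finite_Q
  have : Finite Hb := by
    apply Nat.finite_of_card_ne_zero
    rw [Nat.card_zpowers]
    exact (Nat.pos_of_dvd_of_pos orderOf_b_dvd (by norm_num)).ne'
  exact Finite.of_equiv _ (Subgroup.groupEquivQuotientProdSubgroup (s := Hb)).symm

theorem card_P_le : Nat.card P ≤ 60 := by
  rw [Subgroup.card_eq_card_quotient_mul_card_subgroup Hb, Nat.card_zpowers]
  have h1 := card_Q_le
  have h2 : orderOf b ≤ 5 := Nat.le_of_dvd (by norm_num) orderOf_b_dvd
  calc Nat.card (P ⧸ Hb) * orderOf b ≤ 12 * 5 := Nat.mul_le_mul h1 h2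
    _ = 60 := by norm_num

/-- images in `A₅` -/
def σ : alternatingGroup (Fin 5) :=
  ⟨Equiv.swap (0 : Fin 5) 1 * Equiv.swap 1 2, by
    rw [Equiv.Perm.mem_alternatingGroup]; decide⟩

def τ : alternatingGroup (Fin 5) :=
  ⟨Equiv.swap (0 : Fin 5) 2 * Equiv.swap 2 4 * Equiv.swap 4 1 * Equiv.swap 1 3, by
    rw [Equiv.Perm.mem_alternatingGroup]; decide⟩

theorem σ3 : σ ^ 3 = 1 := by decide
theorem τ5 : τ ^ 5 = 1 := by decide
theorem στ2 : (σ * τ) ^ 2 = 1 := by decide
theorem σ_ne : σ ≠ 1 := by decide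
theorem τ_ne : τ ≠ 1 := by decide
theorem στ_ne : σ * τ ≠ 1 := by decide

def gensA5 : Fin 2 → alternatingGroup (Fin 5) := ![σ, τ]

theorem rels_hold : ∀ r ∈ rels, FreeGroup.lift gensA5 r = 1 := by
  intro r hr
  simp only [rels, Set.mem_insert_iff, Set.mem_singleton_iff] at hr
  rcases hr with rfl | rfl | rfl
  · rw [map_pow, FreeGroup.lift_apply_of]; exact σ3
  · rw [map_pow, FreeGroup.lift_apply_of]; exact τ5
  · rw [map_pow, map_mul, FreeGroup.lift_apply_of, FreeGroup.lift_apply_of]; exact στ2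

noncomputable def φ : P →* alternatingGroup (Fin 5) := PresentedGroup.toGroup rels_hold

theorem φ_a : φ a = σ := PresentedGroup.toGroup.of rels_hold
theorem φ_b : φ b = τ := PresentedGroup.toGroup.of rels_hold

theorem card_A5 : Nat.card (alternatingGroup (Fin 5)) = 60 := by
  rw [nat_card_alternatingGroup]
  simp [Nat.factorial]

theorem φ_surjective : Function.Surjective φ := by
  rw [← MonoidHom.range_eq_top]
  have hσ : σ ∈ φ.range := ⟨a, φ_a⟩
  have hτ : τ ∈ φ.range := ⟨b, φ_b⟩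
  have hστ : σ * τ ∈ φ.range := Subgroup.mul_mem _ hσ hτ
  have o3 : orderOf σ = 3 := orderOf_eq_prime σ3 σ_ne
  have : Fact (Nat.Prime 5) := ⟨by norm_num⟩
  have o5 : orderOf τ = 5 := orderOf_eq_prime τ5 τ_ne
  have o2 : orderOf (σ * τ) = 2 := orderOf_eq_prime στ2 στ_ne
  have d3 : 3 ∣ Nat.card φ.range := by
    have := Subgroup.orderOf_dvd_natCard φ.range hσ; rwa [o3] at this
  have d5 : 5 ∣ Nat.card φ.range := by
    have := Subgroup.orderOf_dvd_natCard φ.range hτ; rwa [o5] at this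
  have d2 : 2 ∣ Nat.card φ.range := by
    have := Subgroup.orderOf_dvd_natCard φ.range hστ; rwa [o2] at this
  have hidx := Subgroup.card_mul_index φ.range
  rw [card_A5] at hidx
  have d30 : 30 ∣ Nat.card φ.range := by omega
  obtain ⟨k, hk⟩ := d30
  have hindex : φ.range.index = 1 ∨ φ.range.index = 2 := by
    rw [hk] at hidx
    have hk0 : k ≠ 0 := by rintro rfl; simp at hidx
    have : k * φ.range.index = 2 := by nlinarith
    have h1 : φ.range.index ∣ 2 := Dvd.intro_left _ this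
    have h2 := Nat.le_of_dvd (by norm_num) h1
    have h3 : φ.range.index ≠ 0 := by rintro h; rw [h] at this; simp at this
    omega
  rcases hindex with h | h
  · exact Subgroup.index_eq_one.mp h
  · exfalso
    have := Subgroup.normal_of_index_eq_two h
    rcases Subgroup.Normal.eq_bot_or_eq_top (H := φ.range) inferInstance with h' | h'
    · rw [h'] at hσ
      exact σ_ne (Subgroup.mem_bot.mp hσ)
    · rw [h', Subgroup.index_top] at h
      omega

/-- The alternating group of degree 5 has the presentation ⟨x, y | x³ = 1, y⁵ = 1, (xy)² = 1⟩: the group so presented is isomorphic to Alt(5). -/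
theorem result :
    Nonempty (PresentedGroup ({FreeGroup.of (0 : Fin 2) ^ 3, FreeGroup.of (1 : Fin 2) ^ 5,
        (FreeGroup.of (0 : Fin 2) * FreeGroup.of 1) ^ 2} : Set (FreeGroup (Fin 2))) ≃* alternatingGroup (Fin 5)) := by
  have := finite_P
  have hbij : Function.Bijective φ :=
    φ_surjective.bijective_of_nat_card_le (by rw [card_A5]; exact card_P_le)
  exact ⟨MulEquiv.ofBijective φ hbij⟩

end Cfsg.Agent.S3377
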