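import Cfsg.Statements.S0493
import Cfsg.Agent.Helper9.Sieve

set_option autoImplicit false
open Cfsg
open Cfsg.Agent.Helper9

namespace Cfsg.Agent.S0493

/-- A finite simple group of order at most 100 that is not cyclic has order 60. -/
theorem result {G : Type*} [Group G] [Finite G] [IsSimpleGroup G]
    (hG : ¬ IsCyclic G) (h : Nat.card G ≤ 100) : Nat.card G = 60 := by
  have hG' : ¬ IsMulCommutative G := fun hc => hG (isCyclic_of_simple_of_comm hc)
  have hpos : 0 < Nat.card G := Nat.card_pos
  generalize hn : Nat.card G = n at h hpos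
  interval_cases n
  · exact absurd hn (by have := Finite.one_lt_card (α := G); omega)
  · exact absurd (isCyclic_of_simple_of_card_prime_pow 2 1 (by norm_num) (by rw [hn]; norm_num)) hG
  · exact absurd (isCyclic_of_simple_of_card_prime_pow 3 1 (by norm_num) (by rw [hn]; norm_num)) hG
  · exact absurd (isCyclic_of_simple_of_card_prime_pow 2 2 (by norm_num) (by rw [hn]; norm_num)) hG
  · exact absurd (isCyclic_of_simple_of_card_prime_pow 5 1 (by norm_num) (by rw [hn]; norm_num)) hG
  · exact (sieve_kill hG' 3 1 2 (by norm_num) (by rw [hn]; norm_num) (by norm_num) (by norm_num) (by norm_num) (by decide +kernel)).elim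
  · exact absurd (isCyclic_of_simple_of_card_prime_pow 7 1 (by norm_num) (by rw [hn]; norm_num)) hG
  · exact absurd (isCyclic_of_simple_of_card_prime_pow 2 3 (by norm_num) (by rw [hn]; norm_num)) hG
  · exact absurd (isCyclic_of_simple_of_card_prime_pow 3 2 (by norm_num) (by rw [hn]; norm_num)) hG
  · exact (sieve_kill hG' 5 1 2 (by norm_num) (by rw [hn]; norm_num) (by norm_num) (by norm_num) (by norm_num) (by decide +kernel)).elim
  · exact absurd (isCyclic_of_simple_of_card_prime_pow 11 1 (by norm_num) (by rw [hn]; norm_num)) hG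
  · exact (sieve_kill hG' 3 1 4 (by norm_num) (by rw [hn]; norm_num) (by norm_num) (by norm_num) (by norm_num) (by decide +kernel)).elim
  · exact absurd (isCyclic_of_simple_of_card_prime_pow 13 1 (by norm_num) (by rw [hn]; norm_num)) hG
  · exact (sieve_kill hG' 7 1 2 (by norm_num) (by rw [hn]; norm_num) (by norm_num) (by norm_num) (by norm_num) (by decide +kernel)).elim
  · exact (sieve_kill hG' 5 1 3 (by norm_num) (by rw [hn]; norm_num) (by norm_num) (by norm_num) (by norm_num) (by decide +kernel)).elim
  · exact absurd (isCyclic_of_simple_of_card_prime_pow 2 4 (by norm_num) (by rw [hn]; norm_num)) hG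
  · exact absurd (isCyclic_of_simple_of_card_prime_pow 17 1 (by norm_num) (by rw [hn]; norm_num)) hG
  · exact (sieve_kill hG' 3 2 2 (by norm_num) (by rw [hn]; norm_num) (by norm_num) (by norm_num) (by norm_num) (by decide +kernel)).elim
  · exact absurd (isCyclic_of_simple_of_card_prime_pow 19 1 (by norm_num) (by rw [hn]; norm_num)) hG
  · exact (sieve_kill hG' 5 1 4 (by norm_num) (by rw [hn]; norm_num) (by norm_num) (by norm_num) (by norm_num) (by decide +kernel)).elim
  · exact (sieve_kill hG' 7 1 3 (by norm_num) (by rw [hn]; norm_num) (by norm_num) (by norm_num) (by norm_num) (by decide +kernel)).elim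
  · exact (sieve_kill hG' 11 1 2 (by norm_num) (by rw [hn]; norm_num) (by norm_num) (by norm_num) (by norm_num) (by decide +kernel)).elim
  · exact absurd (isCyclic_of_simple_of_card_prime_pow 23 1 (by norm_num) (by rw [hn]; norm_num)) hG
  · exact (sieve_kill hG' 3 1 8 (by norm_num) (by rw [hn]; norm_num) (by norm_num) (by norm_num) (by norm_num) (by decide +kernel)).elim
  · exact absurd (isCyclic_of_simple_of_card_prime_pow 5 2 (by norm_num) (by rw [hn]; norm_num)) hG
  · exact (sieve_kill hG' 13 1 2 (by norm_num) (by rw [hn]; norm_num) (by norm_num) (by norm_num) (by norm_num) (by decide +kernel)).elim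
  · exact absurd (isCyclic_of_simple_of_card_prime_pow 3 3 (by norm_num) (by rw [hn]; norm_num)) hG
  · exact (sieve_kill hG' 7 1 4 (by norm_num) (by rw [hn]; norm_num) (by norm_num) (by norm_num) (by norm_num) (by decide +kernel)).elim
  · exact absurd (isCyclic_of_simple_of_card_prime_pow 29 1 (by norm_num) (by rw [hn]; norm_num)) hG
  · exact (sieve_kill hG' 5 1 6 (by norm_num) (by rw [hn]; norm_num) (by norm_num) (by norm_num) (by norm_num) (by decide +kernel)).elim
  · exact absurd (isCyclic_of_simple_of_card_prime_pow 31 1 (by norm_num) (by rw [hn]; norm_num)) hG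
  · exact absurd (isCyclic_of_simple_of_card_prime_pow 2 5 (by norm_num) (by rw [hn]; norm_num)) hG
  · exact (sieve_kill hG' 11 1 3 (by norm_num) (by rw [hn]; norm_num) (by norm_num) (by norm_num) (by norm_num) (by decide +kernel)).elim
  · exact (sieve_kill hG' 17 1 2 (by norm_num) (by rw [hn]; norm_num) (by norm_num) (by norm_num) (by norm_num) (by decide +kernel)).elim
  · exact (sieve_kill hG' 7 1 5 (by norm_num) (by rw [hn]; norm_num) (by norm_num) (by norm_num) (by norm_num) (by decide +kernel)).elim
  · exact (sieve_kill hG' 3 2 4 (by norm_num) (by rw [hn]; norm_num) (by norm_num) (by norm_num) (by norm_num) (by decide +kernel)).elim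
  · exact absurd (isCyclic_of_simple_of_card_prime_pow 37 1 (by norm_num) (by rw [hn]; norm_num)) hG
  · exact (sieve_kill hG' 19 1 2 (by norm_num) (by rw [hn]; norm_num) (by norm_num) (by norm_num) (by norm_num) (by decide +kernel)).elim
  · exact (sieve_kill hG' 13 1 3 (by norm_num) (by rw [hn]; norm_num) (by norm_num) (by norm_num) (by norm_num) (by decide +kernel)).elim
  · exact (sieve_kill hG' 5 1 8 (by norm_num) (by rw [hn]; norm_num) (by norm_num) (by norm_num) (by norm_num) (by decide +kernel)).elim
  · exact absurd (isCyclic_of_simple_of_card_prime_pow 41 1 (by norm_num) (by rw [hn]; norm_num)) hG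
  · exact (sieve_kill hG' 7 1 6 (by norm_num) (by rw [hn]; norm_num) (by norm_num) (by norm_num) (by norm_num) (by decide +kernel)).elim
  · exact absurd (isCyclic_of_simple_of_card_prime_pow 43 1 (by norm_num) (by rw [hn]; norm_num)) hG
  · exact (sieve_kill hG' 11 1 4 (by norm_num) (by rw [hn]; norm_num) (by norm_num) (by norm_num) (by norm_num) (by decide +kernel)).elim
  · exact (sieve_kill hG' 5 1 9 (by norm_num) (by rw [hn]; norm_num) (by norm_num) (by norm_num) (by norm_num) (by decide +kernel)).elim
  · exact (sieve_kill hG' 23 1 2 (by norm_num) (by rw [hn]; norm_num) (by norm_num) (by norm_num) (by norm_num) (by decide +kernel)).elim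
  · exact absurd (isCyclic_of_simple_of_card_prime_pow 47 1 (by norm_num) (by rw [hn]; norm_num)) hG
  · exact (sieve_kill hG' 3 1 16 (by norm_num) (by rw [hn]; norm_num) (by norm_num) (by norm_num) (by norm_num) (by decide +kernel)).elim
  · exact absurd (isCyclic_of_simple_of_card_prime_pow 7 2 (by norm_num) (by rw [hn]; norm_num)) hG
  · exact (sieve_kill hG' 5 2 2 (by norm_num) (by rw [hn]; norm_num) (by norm_num) (by norm_num) (by norm_num) (by decide +kernel)).elim
  · exact (sieve_kill hG' 17 1 3 (by norm_num) (by rw [hn]; norm_num) (by norm_num) (by norm_num) (by norm_num) (by decide +kernel)).elim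
  · exact (sieve_kill hG' 13 1 4 (by norm_num) (by rw [hn]; norm_num) (by norm_num) (by norm_num) (by norm_num) (by decide +kernel)).elim
  · exact absurd (isCyclic_of_simple_of_card_prime_pow 53 1 (by norm_num) (by rw [hn]; norm_num)) hG
  · exact (sieve_kill hG' 3 3 2 (by norm_num) (by rw [hn]; norm_num) (by norm_num) (by norm_num) (by norm_num) (by decide +kernel)).elim
  · exact (sieve_kill hG' 11 1 5 (by norm_num) (by rw [hn]; norm_num) (by norm_num) (by norm_num) (by norm_num) (by decide +kernel)).elim
  · exact (sieve_kill hG' 7 1 8 (by norm_num) (by rw [hn]; norm_num) (by norm_num) (by norm_num) (by norm_num) (by decide +kernel)).elim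
  · exact (sieve_kill hG' 19 1 3 (by norm_num) (by rw [hn]; norm_num) (by norm_num) (by norm_num) (by norm_num) (by decide +kernel)).elim
  · exact (sieve_kill hG' 29 1 2 (by norm_num) (by rw [hn]; norm_num) (by norm_num) (by norm_num) (by norm_num) (by decide +kernel)).elim
  · exact absurd (isCyclic_of_simple_of_card_prime_pow 59 1 (by norm_num) (by rw [hn]; norm_num)) hG
  · rfl
  · exact absurd (isCyclic_of_simple_of_card_prime_pow 61 1 (by norm_num) (by rw [hn]; norm_num)) hG
  · exact (sieve_kill hG' 31 1 2 (by norm_num) (by rw [hn]; norm_num) (by norm_num) (by norm_num) (by norm_num) (by decide +kernel)).elim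
  · exact (sieve_kill hG' 7 1 9 (by norm_num) (by rw [hn]; norm_num) (by norm_num) (by norm_num) (by norm_num) (by decide +kernel)).elim
  · exact absurd (isCyclic_of_simple_of_card_prime_pow 2 6 (by norm_num) (by rw [hn]; norm_num)) hG
  · exact (sieve_kill hG' 13 1 5 (by norm_num) (by rw [hn]; norm_num) (by norm_num) (by norm_num) (by norm_num) (by decide +kernel)).elim
  · exact (sieve_kill hG' 11 1 6 (by norm_num) (by rw [hn]; norm_num) (by norm_num) (by norm_num) (by norm_num) (by decide +kernel)).elim
  · exact absurd (isCyclic_of_simple_of_card_prime_pow 67 1 (by norm_num) (by rw [hn]; norm_num)) hG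
  · exact (sieve_kill hG' 17 1 4 (by norm_num) (by rw [hn]; norm_num) (by norm_num) (by norm_num) (by norm_num) (by decide +kernel)).elim
  · exact (sieve_kill hG' 23 1 3 (by norm_num) (by rw [hn]; norm_num) (by norm_num) (by norm_num) (by norm_num) (by decide +kernel)).elim
  · exact (sieve_kill hG' 7 1 10 (by norm_num) (by rw [hn]; norm_num) (by norm_num) (by norm_num) (by norm_num) (by decide +kernel)).elim
  · exact absurd (isCyclic_of_simple_of_card_prime_pow 71 1 (by norm_num) (by rw [hn]; norm_num)) hG
  · exact (sieve_kill hG' 3 2 8 (by norm_num) (by rw [hn]; norm_num) (by norm_num) (by norm_num) (by norm_num) (by decide +kernel)).elim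
  · exact absurd (isCyclic_of_simple_of_card_prime_pow 73 1 (by norm_num) (by rw [hn]; norm_num)) hG
  · exact (sieve_kill hG' 37 1 2 (by norm_num) (by rw [hn]; norm_num) (by norm_num) (by norm_num) (by norm_num) (by decide +kernel)).elim
  · exact (sieve_kill hG' 5 2 3 (by norm_num) (by rw [hn]; norm_num) (by norm_num) (by norm_num) (by norm_num) (by decide +kernel)).elim
  · exact (sieve_kill hG' 19 1 4 (by norm_num) (by rw [hn]; norm_num) (by norm_num) (by norm_num) (by norm_num) (by decide +kernel)).elim
  · exact (sieve_kill hG' 11 1 7 (by norm_num) (by rw [hn]; norm_num) (by norm_num) (by norm_num) (by norm_num) (by decide +kernel)).elim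
  · exact (sieve_kill hG' 13 1 6 (by norm_num) (by rw [hn]; norm_num) (by norm_num) (by norm_num) (by norm_num) (by decide +kernel)).elim
  · exact absurd (isCyclic_of_simple_of_card_prime_pow 79 1 (by norm_num) (by rw [hn]; norm_num)) hG
  · exact (sieve_kill hG' 5 1 16 (by norm_num) (by rw [hn]; norm_num) (by norm_num) (by norm_num) (by norm_num) (by decide +kernel)).elim
  · exact absurd (isCyclic_of_simple_of_card_prime_pow 3 4 (by norm_num) (by rw [hn]; norm_num)) hG
  · exact (sieve_kill hG' 41 1 2 (by norm_num) (by rw [hn]; norm_num) (by norm_num) (by norm_num) (by norm_num) (by decide +kernel)).elim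
  · exact absurd (isCyclic_of_simple_of_card_prime_pow 83 1 (by norm_num) (by rw [hn]; norm_num)) hG
  · exact (sieve_kill hG' 7 1 12 (by norm_num) (by rw [hn]; norm_num) (by norm_num) (by norm_num) (by norm_num) (by decide +kernel)).elim
  · exact (sieve_kill hG' 17 1 5 (by norm_num) (by rw [hn]; norm_num) (by norm_num) (by norm_num) (by norm_num) (by decide +kernel)).elim
  · exact (sieve_kill hG' 43 1 2 (by norm_num) (by rw [hn]; norm_num) (by norm_num) (by norm_num) (by norm_num) (by decide +kernel)).elim
  · exact (sieve_kill hG' 29 1 3 (by norm_num) (by rw [hn]; norm_num) (by norm_num) (by norm_num) (by norm_num) (by decide +kernel)).elim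
  · exact (sieve_kill hG' 11 1 8 (by norm_num) (by rw [hn]; norm_num) (by norm_num) (by norm_num) (by norm_num) (by decide +kernel)).elim
  · exact absurd (isCyclic_of_simple_of_card_prime_pow 89 1 (by norm_num) (by rw [hn]; norm_num)) hG
  · exact (sieve_kill hG' 5 1 18 (by norm_num) (by rw [hn]; norm_num) (by norm_num) (by norm_num) (by norm_num) (by decide +kernel)).elim
  · exact (sieve_kill hG' 13 1 7 (by norm_num) (by rw [hn]; norm_num) (by norm_num) (by norm_num) (by norm_num) (by decide +kernel)).elim
  · exact (sieve_kill hG' 23 1 4 (by norm_num) (by rw [hn]; norm_num) (by norm_num) (by norm_num) (by norm_num) (by decide +kernel)).elim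
  · exact (sieve_kill hG' 31 1 3 (by norm_num) (by rw [hn]; norm_num) (by norm_num) (by norm_num) (by norm_num) (by decide +kernel)).elim
  · exact (sieve_kill hG' 47 1 2 (by norm_num) (by rw [hn]; norm_num) (by norm_num) (by norm_num) (by norm_num) (by decide +kernel)).elim
  · exact (sieve_kill hG' 19 1 5 (by norm_num) (by rw [hn]; norm_num) (by norm_num) (by norm_num) (by norm_num) (by decide +kernel)).elim
  · exact (sieve_kill hG' 2 5 3 (by norm_num) (by rw [hn]; norm_num) (by norm_num) (by norm_num) (by norm_num) (by decide +kernel)).elim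
  · exact absurd (isCyclic_of_simple_of_card_prime_pow 97 1 (by norm_num) (by rw [hn]; norm_num)) hG
  · exact (sieve_kill hG' 7 2 2 (by norm_num) (by rw [hn]; norm_num) (by norm_num) (by norm_num) (by norm_num) (by decide +kernel)).elim
  · exact (sieve_kill hG' 11 1 9 (by norm_num) (by rw [hn]; norm_num) (by norm_num) (by norm_num) (by norm_num) (by decide +kernel)).elim
  · exact (sieve_kill hG' 5 2 4 (by norm_num) (by rw [hn]; norm_num) (by norm_num) (by norm_num) (by norm_num) (by decide +kernel)).elim

end Cfsg.Agent.S0493
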