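import Cfsg.Statements.S3383

set_option autoImplicit false
open Cfsg
open scoped Pointwise

namespace Cfsg.Agent.S3383

theorem mem_conj_smul {L : Type*} [Group L] (H : Subgroup L) (g x : L) :
    x ∈ MulAut.conj g • H ↔ g⁻¹ * x * g ∈ H := by
  rw [Subgroup.mem_pointwise_smul_iff_inv_smul_mem, MulAut.smul_def, MulAut.conj_inv_apply]

/-- the second half, for an arbitrary normal subgroup -/
theorem normal_dichotomy {L : Type*} [Group L] [Finite L]
    (H : Subgroup L) (hH : Cfsg.IsFrobeniusComplement H)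
    (K : Subgroup L) (hK : (K : Set L) = Cfsg.frobeniusKernel H)
    (N : Subgroup L) (hN : N.Normal) : K ≤ N ∨ N ≤ K := by
  have F0 : ∀ x : L, x ∈ K ↔ x = 1 ∨ ∀ g : L, g⁻¹ * x * g ∉ H := by
    intro x
    have : x ∈ (K : Set L) ↔ x ∈ Cfsg.frobeniusKernel H := by rw [hK]
    rw [SetLike.mem_coe] at this
    rw [this]
    unfold Cfsg.frobeniusKernel
    simp only [Set.mem_setOf_eq, mem_conj_smul]
  -- K is normal
  have F1 : ∀ x ∈ K, ∀ y : L, y * x * y⁻¹ ∈ K := by
    intro x hx y
    rcases (F0 x).mp hx with h1 | h1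
    · subst h1; simp [K.one_mem]
    · rw [F0]
      right
      intro g
      have := h1 (y⁻¹ * g)
      have e : g⁻¹ * (y * x * y⁻¹) * g = (y⁻¹ * g)⁻¹ * x * (y⁻¹ * g) := by group
      rw [e]; exact this
  have F2 : ∀ x ∈ K, x ∈ H → x = 1 := by
    intro x hx hxH
    rcases (F0 x).mp hx with h1 | h1
    · exact h1
    · exact absurd (by simpa using hxH) (h1 1)
  have F3 : ∀ c ∈ K, ∀ h ∈ H, h ≠ 1 → c * h = h * c → c = 1 := by
    intro c hc h hh hne hcomm
    by_contra hc1
    have hcH : c ∉ H := fun hcH => hc1 (F2 c hc hcH)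
    have hbot := hH.2.2 c hcH
    have : h ∈ H ⊓ (MulAut.conj c • H) := by
      rw [Subgroup.mem_inf]
      refine ⟨hh, ?_⟩
      rw [mem_conj_smul]
      have : c⁻¹ * h * c = h := by rw [mul_assoc, ← hcomm]; group
      rw [this]; exact hh
    rw [hbot, Subgroup.mem_bot] at this
    exact hne this
  by_cases hNK : N ≤ K
  · right; exact hNK
  left
  -- find h ∈ N ⊓ H, h ≠ 1
  obtain ⟨n, hnN, hnK⟩ := SetLike.not_le_iff_exists.mp hNK
  rw [F0] at hnK
  push_neg at hnK
  obtain ⟨hn1, g, hg⟩ := hnK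
  set h := g⁻¹ * n * g with hdef
  have hhN : h ∈ N := by
    have := hN.conj_mem n hnN g⁻¹
    simpa [hdef] using this
  have hh1 : h ≠ 1 := by
    intro h1
    apply hn1
    have : n = g * h * g⁻¹ := by rw [hdef]; group
    rw [this, h1]; group
  -- the commutator map on K
  let φ : K → K := fun k => ⟨(k : L) * h * (k : L)⁻¹ * h⁻¹, by
    have h1 := F1 (k : L)⁻¹ (K.inv_mem k.2) h
    have : (k : L) * h * (k : L)⁻¹ * h⁻¹ = (k : L) * (h * (k : L)⁻¹ * h⁻¹) := by group
    rw [this]
    exact K.mul_mem k.2 h1⟩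
  have hφinj : Function.Injective φ := by
    intro k k' hkk
    have h1 : (k : L) * h * (k : L)⁻¹ * h⁻¹ = (k' : L) * h * (k' : L)⁻¹ * h⁻¹ := congrArg Subtype.val hkk
    have h2 : (k : L) * h * (k : L)⁻¹ = (k' : L) * h * (k' : L)⁻¹ := mul_right_cancel h1
    have h3 : ((k' : L)⁻¹ * (k : L)) * h = h * ((k' : L)⁻¹ * (k : L)) := by
      have : h = (k : L)⁻¹ * ((k' : L) * h * (k' : L)⁻¹) * (k : L) := by rw [← h2]; group
      calc ((k' : L)⁻¹ * (k : L)) * h = (k' : L)⁻¹ * ((k : L) * h * (k : L)⁻¹) * (k : L) := by group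
        _ = (k' : L)⁻¹ * ((k' : L) * h * (k' : L)⁻¹) * (k : L) := by rw [h2]
        _ = h * ((k' : L)⁻¹ * (k : L)) := by group
    have h4 := F3 _ (K.mul_mem (K.inv_mem k'.2) k.2) h hg hh1 h3
    have : (k : L) = (k' : L) := by
      have := congrArg (fun t => (k' : L) * t) h4
      simpa using this
    exact Subtype.ext this
  have hφsurj : Function.Surjective φ := Finite.surjective_of_injective hφinj
  intro x hx
  obtain ⟨k, hk⟩ := hφsurj ⟨x, hx⟩
  have hx' : x = (k : L) * h * (k : L)⁻¹ * h⁻¹ := (congrArg Subtype.val hk).symm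
  rw [hx']
  exact N.mul_mem (hN.conj_mem h hhN k) (N.inv_mem hhN)

/-- Let H be a Frobenius complement in a finite group L and K the Frobenius kernel (as a subgroup). Then K is characteristic in L, and every normal subgroup of L either contains K or is contained in K. -/
theorem result {L : Type*} [Group L] [Finite L]
    (H : Subgroup L) (hH : Cfsg.IsFrobeniusComplement H)
    (K : Subgroup L) (hK : (K : Set L) = Cfsg.frobeniusKernel H) :
    K.Characteristic ∧ ∀ N : Subgroup L, N.Normal → K ≤ N ∨ N ≤ K := by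
  have key := normal_dichotomy H hH K hK
  refine ⟨?_, key⟩
  -- K is normal: apply key to conjugation-invariant... we show normality via key applied to maps
  have hKn : K.Normal := by
    constructor
    intro x hx y
    have F0 : ∀ x : L, x ∈ K ↔ x = 1 ∨ ∀ g : L, g⁻¹ * x * g ∉ H := by
      intro x
      have : x ∈ (K : Set L) ↔ x ∈ Cfsg.frobeniusKernel H := by rw [hK]
      rw [SetLike.mem_coe] at this
      rw [this]
      unfold Cfsg.frobeniusKernel
      simp only [Set.mem_setOf_eq, mem_conj_smul]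
    rcases (F0 x).mp hx with h1 | h1
    · subst h1; simp [K.one_mem]
    · rw [F0]
      right
      intro g
      have := h1 (y⁻¹ * g)
      have e : g⁻¹ * (y * x * y⁻¹) * g = (y⁻¹ * g)⁻¹ * x * (y⁻¹ * g) := by group
      rw [e]; exact this
  rw [Subgroup.characteristic_iff_map_eq]
  intro ϕ
  have hcard : Nat.card (K.map ϕ.toMonoidHom) = Nat.card K :=
    Subgroup.card_map_of_injective ϕ.injective
  have hmapn : (K.map ϕ.toMonoidHom).Normal :=
    hKn.map _ ϕ.surjective
  rcases key _ hmapn with h | h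
  · exact (Subgroup.eq_of_le_of_card_ge h (le_of_eq hcard)).symm
  · exact Subgroup.eq_of_le_of_card_ge h (le_of_eq hcard.symm)

end Cfsg.Agent.S3383
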