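import Cfsg.Statements.S4252
import Cfsg.Agent.Helper71.Frob

set_option autoImplicit false
open Cfsg

namespace Cfsg.Agent.S4252

open Cfsg.Agent.Helper71 in
/-- Let a finite group G act on a finite set Ω with more than one point, transitively but not regularly, so that no non-identity element of G fixes two distinct points. Then the stabilizer H of any point is a Frobenius complement in G (nontrivial, proper, meeting its other conjugates trivially), and the Frobenius kernel of G with respect to H (the identity together with the elements lying in no conjugate of H) is exactly the set consisting of the identity and the elements fixing no point. -/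
theorem result {G Ω : Type*} [Group G] [Finite G] [Fintype Ω] [MulAction G Ω] (hΩ : 1 < Fintype.card Ω)
    (htrans : ∀ α β : Ω, ∃ g : G, g • α = β) (hnreg : ∃ g : G, g ≠ 1 ∧ ∃ α : Ω, g • α = α)
    (hfix : ∀ g : G, g ≠ 1 → ∀ α β : Ω, g • α = α → g • β = β → α = β) (α : Ω) :
    Cfsg.IsFrobeniusComplement (MulAction.stabilizer G α) ∧
      Cfsg.frobeniusKernel (MulAction.stabilizer G α) = {g : G | g = 1 ∨ ∀ ω : Ω, g • ω ≠ ω} := by
  constructor
  · rw [isFrobeniusComplement_iff]
    refine ⟨?_, ?_, ?_⟩
    · obtain ⟨g, hg, β, hβ⟩ := hnreg
      obtain ⟨t, ht⟩ := htrans β α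
      intro hbot
      have hmem : t * g * t⁻¹ ∈ MulAction.stabilizer G α := by
        rw [MulAction.mem_stabilizer_iff, mul_smul, mul_smul, ← ht, inv_smul_smul, hβ]
      rw [hbot, Subgroup.mem_bot] at hmem
      apply hg
      have : g = t⁻¹ * (t * g * t⁻¹) * t := by group
      rw [this, hmem]; group
    · intro htop
      obtain ⟨β, hβ⟩ := Fintype.exists_ne_of_one_lt_card hΩ α
      obtain ⟨t, ht⟩ := htrans α β
      have : t ∈ MulAction.stabilizer G α := htop ▸ Subgroup.mem_top t
      rw [MulAction.mem_stabilizer_iff] at this
      exact hβ (ht ▸ this)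
    · intro g hg x hx hgx
      by_contra hx1
      rw [MulAction.mem_stabilizer_iff] at hx hgx hg
      have h2 : x • (g • α) = g • α := by
        rw [mul_smul, mul_smul, inv_smul_eq_iff] at hgx
        exact hgx
      exact hg (hfix x hx1 _ _ h2 hx)
  · ext x
    rw [mem_frobeniusKernel_iff]
    simp only [Set.mem_ofPred_eq]
    refine or_congr Iff.rfl ?_
    constructor
    · intro h ω hω
      obtain ⟨t, ht⟩ := htrans α ω
      apply h t
      rw [MulAction.mem_stabilizer_iff, mul_smul, mul_smul, ht, hω, ← ht, inv_smul_smul]
    · intro h g hg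
      rw [MulAction.mem_stabilizer_iff, mul_smul, mul_smul, inv_smul_eq_iff] at hg
      exact h _ hg

end Cfsg.Agent.S4252
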