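import Mathlib
import Cfsg.Statements.S0290
import Cfsg.Agent.Helper5.Count

set_option autoImplicit false
open Cfsg

namespace Cfsg.Agent.S0290

open Cfsg.Agent.Helper5

theorem card_sum_fiber {A B : Type*} [Fintype A] [Finite B] (P : A → B → Prop) :
    Nat.card {p : A × B // P p.1 p.2} = ∑ a, Nat.card {b // P a b} := by
  rw [Nat.card_congr (Equiv.subtypeProdEquivSigmaSubtype P), Nat.card_sigma]

/-- equivalence splitting off the `Fin 2` coordinates -/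
def splitEquiv (F : Type*) (k : ℕ) : ((Fin k ⊕ Fin k) ⊕ Fin 2 → F) ≃ (Fin 2 → F) × (Fin k ⊕ Fin k → F) :=
  (Equiv.sumArrowEquivProdArrow (Fin k ⊕ Fin k) (Fin 2) F).trans (Equiv.prodComm _ _)

/-- The minus-type quadratic form on F^(2m), m at least 1, has q^(2m-1) + q^(m-1) - q^m zeros (that is, (q^m + 1)(q^(m-1) - 1) non-zero isotropic vectors). -/
theorem result {F : Type*} [Field F] [Fintype F] {q : ℕ} (hF : Fintype.card F = q) (m : ℕ) (hm : 1 ≤ m) (a b : F) (hab : ∀ z₁ z₂ : F, z₁ ^ 2 + a * z₁ * z₂ + b * z₂ ^ 2 = 0 → z₁ = 0 ∧ z₂ = 0) : Nat.card {v : (Fin (m - 1) ⊕ Fin (m - 1)) ⊕ Fin 2 → F // Cfsg.quadFormMinus (m - 1) F a b v = 0} = q ^ (2 * m - 1) + q ^ (m - 1) - q ^ m := by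
  classical
  obtain ⟨k, rfl⟩ : ∃ k, m = k + 1 := ⟨m - 1, by omega⟩
  change Nat.card {v : (Fin k ⊕ Fin k) ⊕ Fin 2 → F // Cfsg.quadFormMinus k F a b v = 0} = q ^ (2 * (k + 1) - 1) + q ^ k - q ^ (k + 1)
  have hq : 1 ≤ q := by rw [← hF]; exact Fintype.card_pos
  have e : {v : (Fin k ⊕ Fin k) ⊕ Fin 2 → F // Cfsg.quadFormMinus k F a b v = 0} ≃
      {p : (Fin 2 → F) × (Fin k ⊕ Fin k → F) //
        Cfsg.quadFormPlus k F p.2 = -(p.1 0 ^ 2 + a * p.1 0 * p.1 1 + b * p.1 1 ^ 2)} := by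
    refine (splitEquiv F k).subtypeEquiv ?_
    intro v
    simp only [splitEquiv, Cfsg.quadFormMinus, Cfsg.quadFormPlus, Equiv.trans_apply,
      Equiv.sumArrowEquivProdArrow, Equiv.coe_fn_mk, Equiv.prodComm_apply, Prod.swap,
      Function.comp]
    constructor
    · intro h
      rw [eq_neg_iff_add_eq_zero]
      exact h
    · intro h
      rw [eq_neg_iff_add_eq_zero] at h
      exact h
  rw [Nat.card_congr e, card_sum_fiber (fun (z : Fin 2 → F) (w : Fin k ⊕ Fin k → F) =>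
    Cfsg.quadFormPlus k F w = -(z 0 ^ 2 + a * z 0 * z 1 + b * z 1 ^ 2))]
  rw [← Finset.add_sum_erase _ _ (Finset.mem_univ (0 : Fin 2 → F))]
  have h1 : ∀ z ∈ (Finset.univ : Finset (Fin 2 → F)).erase 0,
      Nat.card {w : Fin k ⊕ Fin k → F // Cfsg.quadFormPlus k F w = -(z 0 ^ 2 + a * z 0 * z 1 + b * z 1 ^ 2)} =
        (q ^ k - 1) * q ^ (k - 1) := by
    intro z hz
    rw [card_quadFormPlus_ne_zero, hF]
    refine neg_ne_zero.2 (fun h => ?_)
    obtain ⟨h0, h1⟩ := hab _ _ h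
    apply Finset.ne_of_mem_erase hz
    ext i
    fin_cases i
    · exact h0
    · exact h1
  rw [Finset.sum_congr rfl h1, Finset.sum_const, Finset.card_erase_of_mem (Finset.mem_univ _),
    Finset.card_univ, smul_eq_mul, Fintype.card_fun, Fintype.card_fin, hF]
  have h0 : Nat.card {w : Fin k ⊕ Fin k → F // Cfsg.quadFormPlus k F w =
      -((0 : Fin 2 → F) 0 ^ 2 + a * (0 : Fin 2 → F) 0 * (0 : Fin 2 → F) 1 + b * (0 : Fin 2 → F) 1 ^ 2)} =
      q ^ k + (q ^ k - 1) * q ^ (k - 1) := by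
    have : -((0 : Fin 2 → F) 0 ^ 2 + a * (0 : Fin 2 → F) 0 * (0 : Fin 2 → F) 1 + b * (0 : Fin 2 → F) 1 ^ 2) = 0 := by
      simp
    rw [this, card_quadFormPlus_zero, hF]
  rw [h0]
  rcases Nat.eq_zero_or_pos k with rfl | hk
  · simp
  · have hqk : 1 ≤ q ^ k := Nat.one_le_pow _ _ hq
    have h3 : q ^ k = q * q ^ (k - 1) := by rw [← pow_succ']; congr 1; omega
    have h4 : q ^ (2 * (k + 1) - 1) = q * q ^ k * q ^ k := by
      rw [mul_assoc, ← pow_add, ← pow_succ']; congr 1; omega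
    have h5 : q ^ (k + 1) = q * q ^ k := by rw [pow_succ']
    have h6 : (q ^ 2 - 1) = (q - 1) * (q + 1) := by
      obtain ⟨j, hj⟩ : ∃ j, q = j + 1 := ⟨q - 1, by omega⟩
      rw [hj]; simp only [Nat.add_sub_cancel]
      have : (j + 1) ^ 2 = j * (j + 1 + 1) + 1 := by ring
      rw [this]; simp
    rw [h4, h5, h6]
    obtain ⟨j, hj⟩ : ∃ j, q = j + 1 := ⟨q - 1, by omega⟩
    obtain ⟨t, ht⟩ : ∃ t, q ^ k = t + 1 := ⟨q ^ k - 1, by omega⟩
    rw [ht] at h3 ⊢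
    rw [hj] at h3 ⊢
    simp only [Nat.add_sub_cancel]
    set r := (j + 1) ^ (k - 1) with hr
    -- goal: t + 1 + t * r + j * (j + 1 + 1) * (t * r) = (j+1)*(t+1)*(t+1) + (t + 1) - (j+1) * (t+1)
    have h7 : (j + 1) * (t + 1) * (t + 1) + (t + 1) - (j + 1) * (t + 1) =
        (j + 1) * (t + 1) * t + (t + 1) := by
      have : (j + 1) * (t + 1) * (t + 1) = (j + 1) * (t + 1) * t + (j + 1) * (t + 1) := by ring
      rw [this]; omega
    rw [h7]
    nlinarith [h3]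

end Cfsg.Agent.S0290
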