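import Mathlib
import Cfsg.Prelude.Def_Classical
import Cfsg.Agent.Helper45.Dihedral
import Cfsg.Agent.Helper45.IsoEquiv

set_option autoImplicit false
open Matrix

namespace Cfsg.Agent.S0306

open Cfsg.Agent.Helper45

section Fside
variable {F : Type*} [Field F] (a c : F)

/-- the binary form on `Fin 2` -/
def Q2 (v : Fin 2 → F) : F := binForm 1 a c (v 0) (v 1)

/-- "rotations": multiplication by `s + tθ` -/
def rot (s t : F) : Matrix (Fin 2) (Fin 2) F := !![s, -(c * t); t, s + a * t]

/-- the reflection (conjugation) -/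
def rfl2 : Matrix (Fin 2) (Fin 2) F := !![1, a; 0, -1]

theorem rot_mul (s t s' t' : F) :
    rot a c s t * rot a c s' t' = rot a c (s * s' - c * t * t') (s * t' + t * s' + a * t * t') := by
  ext i j
  fin_cases i <;> fin_cases j <;> simp [rot, Matrix.mul_apply, Fin.sum_univ_two] <;> ring

theorem rot_one : rot a c 1 0 = 1 := by
  ext i j
  fin_cases i <;> fin_cases j <;> simp [rot]

theorem rot_smul_one (s : F) : rot a c s 0 = s • (1 : Matrix (Fin 2) (Fin 2) F) := by
  ext i j
  fin_cases i <;> fin_cases j <;> simp [rot]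

theorem Q2_mulVec (M : Matrix (Fin 2) (Fin 2) F) (v : Fin 2 → F) :
    Q2 a c (M *ᵥ v) = binForm 1 a c (M 0 0 * v 0 + M 0 1 * v 1) (M 1 0 * v 0 + M 1 1 * v 1) := by
  simp [Q2, mulVec, dotProduct, Fin.sum_univ_two]

theorem Q2_rot (s t : F) (v : Fin 2 → F) :
    Q2 a c (rot a c s t *ᵥ v) = binForm 1 a c s t * Q2 a c v := by
  rw [Q2_mulVec]
  simp [Q2, rot, binForm]
  ring

theorem rfl2_mul_rfl2 : rfl2 a * rfl2 a = 1 := by
  ext i j
  fin_cases i <;> fin_cases j <;> simp [rfl2, Matrix.mul_apply, Fin.sum_univ_two]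

theorem Q2_rfl2 (v : Fin 2 → F) : Q2 a c (rfl2 a *ᵥ v) = Q2 a c v := by
  rw [Q2_mulVec]
  simp [Q2, rfl2, binForm]
  ring

theorem rfl2_conj (s t : F) : rfl2 a * rot a c s t * rfl2 a = rot a c (s + a * t) (-t) := by
  ext i j
  fin_cases i <;> fin_cases j <;> simp [rfl2, rot, Matrix.mul_apply, Fin.sum_univ_two] <;> ring

theorem binForm_conj (s t : F) : binForm 1 a c (s + a * t) (-t) = binForm 1 a c s t := by
  simp [binForm]
  ring

theorem rot_mul_conj (s t : F) :
    rot a c s t * rot a c (s + a * t) (-t) = (binForm 1 a c s t) • (1 : Matrix (Fin 2) (Fin 2) F) := by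
  rw [rot_mul, ← rot_smul_one]
  have h1 : s * (s + a * t) - c * t * -t = binForm 1 a c s t := by
    rw [binForm]; ring
  have h2 : s * -t + t * (s + a * t) + a * t * -t = 0 := by ring
  rw [h1, h2]

theorem rot_conj_mul (s t : F) :
    rot a c (s + a * t) (-t) * rot a c s t = (binForm 1 a c s t) • (1 : Matrix (Fin 2) (Fin 2) F) := by
  rw [rot_mul, ← rot_smul_one]
  have h1 : (s + a * t) * s - c * -t * t = binForm 1 a c s t := by
    rw [binForm]; ring
  have h2 : (s + a * t) * t + -t * s + a * -t * t = 0 := by ring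
  rw [h1, h2]

variable (hac : ∀ z₁ z₂ : F, z₁ ^ 2 + a * z₁ * z₂ + c * z₂ ^ 2 = 0 → z₁ = 0 ∧ z₂ = 0)

include hac in
theorem binForm_eq_zero (z₁ z₂ : F) (h : binForm 1 a c z₁ z₂ = 0) : z₁ = 0 ∧ z₂ = 0 := by
  apply hac
  rw [← h, binForm]
  ring

include hac in
theorem classify (M : Matrix (Fin 2) (Fin 2) F) (hM : ∀ v, Q2 a c (M *ᵥ v) = Q2 a c v) :
    binForm 1 a c (M 0 0) (M 1 0) = 1 ∧
      (M = rot a c (M 0 0) (M 1 0) ∨ M = rot a c (M 0 0) (M 1 0) * rfl2 a) := by
  set s := M 0 0 with hs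
  set t := M 1 0 with ht
  have hst : binForm 1 a c s t = 1 := by
    have h := hM ![1, 0]
    rw [Q2_mulVec] at h
    simpa [Q2, binForm] using h
  refine ⟨hst, ?_⟩
  set h := rot a c (s + a * t) (-t) * M with hh
  have hiso : ∀ v, Q2 a c (h *ᵥ v) = Q2 a c v := by
    intro v
    rw [hh, ← mulVec_mulVec, Q2_rot, binForm_conj, hst, one_mul, hM]
  have hMh : M = rot a c s t * h := by
    rw [hh, ← Matrix.mul_assoc, rot_mul_conj, hst, one_smul, Matrix.one_mul]
  have h00 : h 0 0 = 1 := by
    rw [hh]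
    simp only [rot, Matrix.mul_apply, Fin.sum_univ_two, ← hs, ← ht]
    simp
    rw [← hst, binForm]
    ring
  have h10 : h 1 0 = 0 := by
    rw [hh]
    simp only [rot, Matrix.mul_apply, Fin.sum_univ_two, ← hs, ← ht]
    simp
    ring
  set β := h 0 1 with hβ
  set δ := h 1 1 with hδ
  have e1 : binForm 1 a c β δ = c := by
    have := hiso ![0, 1]
    rw [Q2_mulVec] at this
    simpa [Q2, binForm] using this
  have e2 : binForm 1 a c (1 + β) δ = 1 + a + c := by
    have := hiso ![1, 1]
    rw [Q2_mulVec, h00, h10] at this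
    simpa [Q2, binForm] using this
  have e3 : 2 * β + a * δ - a = 0 := by
    simp only [binForm] at e1 e2
    linear_combination e2 - e1
  have e4 : binForm 1 a c β (δ - 1) * binForm 1 a c (β - a) (δ + 1) = 0 := by
    simp only [binForm] at e1 ⊢
    linear_combination ((2 * β + a * δ - a) * c - a * (1 * β ^ 2 + a * β * δ + c * δ ^ 2 - c)) * e3 +
      (1 * β ^ 2 + a * β * δ + c * δ ^ 2 - c) * e1
  rcases mul_eq_zero.1 e4 with e5 | e5
  · left
    obtain ⟨hb, hd⟩ := binForm_eq_zero a c hac _ _ e5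
    have : h = 1 := by
      ext i j
      fin_cases i <;> fin_cases j
      · simpa using h00
      · simpa using hb
      · simpa using h10
      · simpa using sub_eq_zero.1 hd
    rw [hMh, this, Matrix.mul_one]
  · right
    obtain ⟨hb, hd⟩ := binForm_eq_zero a c hac _ _ e5
    have : h = rfl2 a := by
      ext i j
      fin_cases i <;> fin_cases j
      · simpa [rfl2] using h00
      · simpa [rfl2] using sub_eq_zero.1 hb
      · simpa [rfl2] using h10
      · simpa [rfl2] using eq_neg_of_add_eq_zero_left hd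
    rw [hMh, this]

end Fside

section Kside
variable {F : Type*} [Field F] [Fintype F] (a c : F)

/-- the quadratic extension with an adapted basis -/
theorem exists_quadratic_data
    (hac : ∀ z₁ z₂ : F, z₁ ^ 2 + a * z₁ * z₂ + c * z₂ ^ 2 = 0 → z₁ = 0 ∧ z₂ = 0) :
    ∃ (K : Type) (_ : Field K) (_ : Fintype K) (_ : Algebra F K) (b : Module.Basis (Fin 2) F K),
      Fintype.card K = Fintype.card F ^ 2 ∧ b 0 = 1 ∧
      b 1 ^ 2 = algebraMap F K a * b 1 - algebraMap F K c ∧
      ∀ z₀ z₁ : F, algebraMap F K (binForm 1 a c z₀ z₁) =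
        (algebraMap F K z₀ * b 0 + algebraMap F K z₁ * b 1) ^ (Fintype.card F + 1) := by
  obtain ⟨p, _, n, hp, hcard⟩ := FiniteField.card' F
  have : Fact p.Prime := ⟨hp⟩
  have hn : 2 * (n : ℕ) ≠ 0 := by
    have := n.pos
    omega
  let fK : Fintype (GaloisField p (2 * n)) := Fintype.ofFinite _
  have hK : Fintype.card (GaloisField p (2 * n)) = Fintype.card F ^ 2 := by
    rw [← Nat.card_eq_fintype_card, GaloisField.card p _ hn, hcard, ← pow_mul, mul_comm]
  obtain ⟨alg, hd⟩ := exists_algebra_of_card_sq hK rfl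
  let _ := alg
  have : Module.Finite F (GaloisField p (2 * n)) := Module.finite_of_finrank_pos (by rw [hd]; norm_num)
  obtain ⟨α, hα, hα2⟩ := exists_root_of_aniso hd a c hac
  have hli := linearIndependent_one_root a c α hα hac
  let b : Module.Basis (Fin 2) F (GaloisField p (2 * n)) :=
    basisOfLinearIndependentOfCardEqFinrank hli (by rw [hd, Fintype.card_fin])
  have hb0 : b 0 = 1 := by
    show (basisOfLinearIndependentOfCardEqFinrank hli _) 0 = 1
    rw [coe_basisOfLinearIndependentOfCardEqFinrank]; rfl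
  have hb1 : b 1 = -α := by
    show (basisOfLinearIndependentOfCardEqFinrank hli _) 1 = -α
    rw [coe_basisOfLinearIndependentOfCardEqFinrank]; rfl
  have hσ := frob_root a c α hα hac
  have hA : algebraMap F (GaloisField p (2 * n)) 1 = b 0 * frob F (GaloisField p (2 * n)) (b 0) := by
    rw [hb0, map_one, map_one, mul_one]
  have hB : algebraMap F (GaloisField p (2 * n)) a = b 0 * frob F (GaloisField p (2 * n)) (b 1)
      + b 1 * frob F (GaloisField p (2 * n)) (b 0) := by
    rw [hb0, hb1, map_one, map_neg, hσ]; ring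
  have hC : algebraMap F (GaloisField p (2 * n)) c = b 1 * frob F (GaloisField p (2 * n)) (b 1) := by
    rw [hb1, map_neg, hσ]; linear_combination hα
  refine ⟨GaloisField p (2 * n), inferInstance, fK, alg, b, hK, hb0, ?_, ?_⟩
  · rw [hb1]
    linear_combination hα
  · intro z₀ z₁
    rw [binForm_eq_norm b 1 a c hA hB hC, pow_succ']
    rfl

end Kside

section Bridge
variable {F : Type*} [Field F] [Fintype F] (a c : F)

theorem repr_comb {K : Type*} [Field K] [Algebra F K] (b : Module.Basis (Fin 2) F K) (x y : F) (i : Fin 2) :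
    b.repr (x • b 0 + y • b 1) i = ![x, y] i := by
  rw [map_add, map_smul, map_smul, b.repr_self, b.repr_self]
  fin_cases i <;> simp

theorem exists_generator
    (hac : ∀ z₁ z₂ : F, z₁ ^ 2 + a * z₁ * z₂ + c * z₂ ^ 2 = 0 → z₁ = 0 ∧ z₂ = 0) :
    ∃ s₀ t₀ : F, binForm 1 a c s₀ t₀ = 1 ∧ orderOf (rot a c s₀ t₀) = Fintype.card F + 1 ∧
      ∀ s t, binForm 1 a c s t = 1 → ∃ k : ℕ, rot a c s t = rot a c s₀ t₀ ^ k := by
  classical
  obtain ⟨K, _, _, _, b, hK, hb0, hb1, hN⟩ := exists_quadratic_data a c hac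
  set q := Fintype.card F with hq
  have hq1 : 1 < q := Fintype.one_lt_card
  have hν : ∀ s t : F, Algebra.leftMulMatrix b (algebraMap F K s * b 0 + algebraMap F K t * b 1)
      = rot a c s t := by
    intro s t
    have e0 : (algebraMap F K s * b 0 + algebraMap F K t * b 1) * b 0 = s • b 0 + t • b 1 := by
      rw [Algebra.smul_def, Algebra.smul_def, hb0]
      ring
    have e1 : (algebraMap F K s * b 0 + algebraMap F K t * b 1) * b 1
        = (-(c * t)) • b 0 + (s + a * t) • b 1 := by
      rw [Algebra.smul_def, Algebra.smul_def, hb0, map_neg, map_mul, map_add, map_mul]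
      linear_combination (algebraMap F K t) * hb1
    ext i j
    rw [Algebra.leftMulMatrix_eq_repr_mul]
    fin_cases j
    · show b.repr ((algebraMap F K s * b 0 + algebraMap F K t * b 1) * b 0) i = _
      rw [e0, repr_comb]
      fin_cases i <;> simp [rot]
    · show b.repr ((algebraMap F K s * b 0 + algebraMap F K t * b 1) * b 1) i = _
      rw [e1, repr_comb]
      fin_cases i <;> simp [rot]
  have hsurj : ∀ u : K, ∃ s t : F, algebraMap F K s * b 0 + algebraMap F K t * b 1 = u := by
    intro u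
    refine ⟨b.repr u 0, b.repr u 1, ?_⟩
    have := b.sum_repr u
    rw [Fin.sum_univ_two, Algebra.smul_def, Algebra.smul_def] at this
    exact this
  obtain ⟨ω, hω⟩ := IsCyclic.exists_generator (α := Kˣ)
  have hq2 : q ^ 2 - 1 = (q - 1) * (q + 1) := by
    obtain ⟨k, hk⟩ : ∃ k, q = k + 1 := ⟨q - 1, by omega⟩
    rw [hk]
    simp only [Nat.add_sub_cancel]
    ring_nf
    omega
  have hordω : orderOf (ω : K) = (q - 1) * (q + 1) := by
    rw [orderOf_units, orderOf_eq_card_of_forall_mem_zpowers hω, Nat.card_eq_fintype_card,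
      Fintype.card_units, hK, hq2]
  set u₀ : K := (ω : K) ^ (q - 1) with hu₀
  have hordu : orderOf u₀ = q + 1 := by
    rw [hu₀, orderOf_pow' _ (by omega : q - 1 ≠ 0), hordω,
      Nat.gcd_eq_right (dvd_mul_right _ _), Nat.mul_div_cancel_left _ (by omega)]
  have hinj : Function.Injective ((Algebra.leftMulMatrix b : K →ₐ[F] Matrix (Fin 2) (Fin 2) F) : K →*
      Matrix (Fin 2) (Fin 2) F) := Algebra.leftMulMatrix_injective b
  obtain ⟨s₀, t₀, h₀⟩ := hsurj u₀
  refine ⟨s₀, t₀, ?_, ?_, ?_⟩
  · apply (algebraMap F K).injective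
    rw [hN, h₀, map_one, ← hordu]
    exact pow_orderOf_eq_one u₀
  · rw [← hν, h₀, ← hordu]
    exact orderOf_injective _ hinj u₀
  · intro s t hst
    set u : K := algebraMap F K s * b 0 + algebraMap F K t * b 1 with hu
    have hu1 : u ^ (q + 1) = 1 := by
      rw [hu, ← hN, hst, map_one]
    have hune : u ≠ 0 := by
      intro h0
      rw [h0, zero_pow (by omega)] at hu1
      exact zero_ne_one hu1
    obtain ⟨j, hj⟩ := (mem_powers_iff_mem_zpowers).2 (hω (Units.mk0 u hune))
    have hj' : (ω : K) ^ j = u := by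
      have := congrArg (fun x : Kˣ => (x : K)) hj
      simpa using this
    have hdvd : (q - 1) * (q + 1) ∣ j * (q + 1) := by
      rw [← hordω, orderOf_dvd_iff_pow_eq_one, pow_mul, hj', hu1]
    obtain ⟨k, hk⟩ := Nat.dvd_of_mul_dvd_mul_right (by omega) hdvd
    refine ⟨k, ?_⟩
    rw [← hν, ← hν, h₀, ← hu, ← hj', hk, pow_mul, ← hu₀]
    exact map_pow (Algebra.leftMulMatrix b) u₀ k

end Bridge


section Grp
variable {F : Type*} [Field F] (a c : F)

/-- rotations as isometries -/
def rotIso (s t : F) (h : binForm 1 a c s t = 1) : Cfsg.isometryGroup F (Q2 a c) :=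
  ⟨⟨rot a c s t, rot a c (s + a * t) (-t), by rw [rot_mul_conj, h, one_smul],
    by rw [rot_conj_mul, h, one_smul]⟩, by
    rw [mem_isometryGroup_iff]
    intro v
    show Q2 a c (rot a c s t *ᵥ v) = _
    rw [Q2_rot, h, one_mul]⟩

/-- the reflection as an isometry -/
def rflIso : Cfsg.isometryGroup F (Q2 a c) :=
  ⟨⟨rfl2 a, rfl2 a, rfl2_mul_rfl2 a, rfl2_mul_rfl2 a⟩, by
    rw [mem_isometryGroup_iff]
    intro v
    exact Q2_rfl2 a c v⟩

/-- coercion to matrices as a monoid hom -/
def toMat : Cfsg.isometryGroup F (Q2 a c) →* Matrix (Fin 2) (Fin 2) F :=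
  (Units.coeHom _).comp (Subgroup.subtype _)

theorem toMat_injective : Function.Injective (toMat a c) := by
  intro g k h
  exact Subtype.ext (Units.ext h)

theorem toMat_rotIso (s t : F) (h : binForm 1 a c s t = 1) : toMat a c (rotIso a c s t h) = rot a c s t :=
  rfl

theorem toMat_rflIso : toMat a c (rflIso a c) = rfl2 a := rfl

theorem Q2_dihedral [Fintype F]
    (hac : ∀ z₁ z₂ : F, z₁ ^ 2 + a * z₁ * z₂ + c * z₂ ^ 2 = 0 → z₁ = 0 ∧ z₂ = 0) :
    Nonempty (Cfsg.isometryGroup F (Q2 a c) ≃* DihedralGroup (Fintype.card F + 1)) := by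
  obtain ⟨s₀, t₀, h₀, hord, hcov⟩ := exists_generator a c hac
  have hq1 : 1 < Fintype.card F := Fintype.one_lt_card
  set a₀ := rotIso a c s₀ t₀ h₀ with ha₀
  set x := rflIso a c with hx
  have hx2 : x * x = 1 := toMat_injective a c (by
    rw [map_mul, toMat_rflIso, map_one]
    exact rfl2_mul_rfl2 a)
  have hxinv : x⁻¹ = x := inv_eq_of_mul_eq_one_right hx2
  have hord' : orderOf a₀ = Fintype.card F + 1 := by
    rw [← orderOf_injective (toMat a c) (toMat_injective a c) a₀]
    exact hord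
  have hpow : ∀ s t h, rotIso a c s t h ∈ Subgroup.zpowers a₀ := by
    intro s t h
    obtain ⟨k, hk⟩ := hcov s t h
    have : rotIso a c s t h = a₀ ^ k := toMat_injective a c (by
      rw [map_pow]
      exact hk)
    rw [this]
    exact Subgroup.pow_mem _ (Subgroup.mem_zpowers _) k
  have hrel : x * a₀ * x⁻¹ = a₀⁻¹ := by
    rw [hxinv]
    symm
    apply inv_eq_of_mul_eq_one_right
    apply toMat_injective a c
    rw [map_mul, map_mul, map_mul, toMat_rflIso, toMat_rotIso, map_one, rfl2_conj, rot_mul_conj, h₀,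
      one_smul]
  apply nonempty_mulEquiv_dihedral (Fintype.card F + 1) a₀ x hord' hx2 hrel
  · intro h
    obtain ⟨k, hk⟩ := Subgroup.mem_zpowers_iff.1 h
    have hc : x * a₀ = a₀ * x := by
      rw [← hk]
      exact ((Commute.refl a₀).zpow_left k).eq
    rw [hc, mul_inv_cancel_right] at hrel
    have h2 : a₀ ^ 2 = 1 := by
      rw [pow_two]
      exact mul_eq_one_iff_eq_inv.2 hrel
    have h3 := orderOf_dvd_of_pow_eq_one h2
    rw [hord'] at h3
    have := Nat.le_of_dvd (by norm_num) h3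
    omega
  · intro g
    have hM := (mem_isometryGroup_iff _ g.1).1 g.2
    obtain ⟨hst, h | h⟩ := classify a c hac _ hM
    · left
      have : g = rotIso a c _ _ hst := toMat_injective a c h
      rw [this]
      exact hpow _ _ _
    · right
      have : x * g = rotIso a c _ _ ((binForm_conj a c _ _).trans hst) := by
        apply toMat_injective a c
        rw [map_mul, toMat_rflIso, toMat_rotIso, ← rfl2_conj, Matrix.mul_assoc]
        exact congrArg (fun N => rfl2 a * N) h
      rw [this]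
      exact hpow _ _ _

/-- the index equivalence -/
def idx : Fin 2 ≃ (Fin 0 ⊕ Fin 0) ⊕ Fin 2 where
  toFun := Sum.inr
  invFun := Sum.elim (Sum.elim Fin.elim0 Fin.elim0) id
  left_inv := by
    intro i
    rfl
  right_inv := by
    rintro ((i | i) | i)
    · exact i.elim0
    · exact i.elim0
    · rfl

theorem idx_apply (i : Fin 2) : idx i = Sum.inr i := rfl

end Grp

theorem result {F : Type*} [Field F] [Fintype F] {q : ℕ} (hF : Fintype.card F = q) (a b : F) (hab : ∀ z₁ z₂ : F, z₁ ^ 2 + a * z₁ * z₂ + b * z₂ ^ 2 = 0 → z₁ = 0 ∧ z₂ = 0) : Nonempty (Cfsg.isometryGroup F (Cfsg.quadFormMinus 0 F a b) ≃* DihedralGroup (q + 1)) := by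
  subst hF
  obtain ⟨e₁⟩ := nonempty_mulEquiv_of_equiv (Cfsg.quadFormMinus 0 F a b) (Q2 a b) idx (by
    intro w
    simp [Q2, binForm, Cfsg.quadFormMinus, idx_apply])
  obtain ⟨e₂⟩ := Q2_dihedral a b hab
  exact ⟨e₁.trans e₂⟩

end Cfsg.Agent.S0306
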