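import Mathlib
import Cfsg.Statements.S0288
import Cfsg.Agent.Helper5.OrthOrders
import Cfsg.Agent.S0290
import Cfsg.Agent.S0306

set_option autoImplicit false
open Cfsg

namespace Cfsg.Agent.S0288

open Cfsg.Agent.Helper5

/-- |GO^-_{2m}(q)| = 2 q^(m(m-1)) (q^m + 1) prod_{i=1}^{m-1} (q^(2i) - 1), m at least 1, all q; the form is quadFormMinus (m-1) with an anisotropic binary part. -/
theorem result {F : Type*} [Field F] [Fintype F] {q : ℕ} (hF : Fintype.card F = q) (m : ℕ) (hm : 1 ≤ m) (a b : F) (hab : ∀ z₁ z₂ : F, z₁ ^ 2 + a * z₁ * z₂ + b * z₂ ^ 2 = 0 → z₁ = 0 ∧ z₂ = 0) : Nat.card (Cfsg.isometryGroup F (Cfsg.quadFormMinus (m - 1) F a b)) = 2 * q ^ (m * (m - 1)) * (q ^ m + 1) * ∏ i ∈ Finset.range (m - 1), (q ^ (2 * (i + 1)) - 1) := by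
  have hq : 2 ≤ q := by rw [← hF]; exact Fintype.one_lt_card
  have hpow : ∀ k, 1 ≤ q ^ k := fun k => Nat.one_le_pow _ _ (by omega)
  induction m, hm using Nat.le_induction with
  | base =>
    obtain ⟨e⟩ := Cfsg.Agent.S0306.result hF a b hab
    simp only [Nat.sub_self]
    rw [Nat.card_congr e.toEquiv, DihedralGroup.nat_card]
    simp
  | succ m hm ih =>
    obtain ⟨k, rfl⟩ : ∃ k, m = k + 1 := ⟨m - 1, by omega⟩
    simp only [Nat.add_sub_cancel] at ih ⊢
    change Nat.card (Cfsg.isometryGroup F (Cfsg.quadFormMinus k F a b)) = _ at ih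
    change Nat.card (Cfsg.isometryGroup F (Cfsg.quadFormMinus (k + 1) F a b)) = _
    rw [card_minus_succ a b hab, ih]
    have hZ := Cfsg.Agent.S0290.result hF (k + 1 + 1) (by omega) a b hab
    simp only [Nat.add_sub_cancel] at hZ
    change Nat.card {v : (Fin (k + 1) ⊕ Fin (k + 1)) ⊕ Fin 2 → F //
      Cfsg.quadFormMinus (k + 1) F a b v = 0} = _ at hZ
    rw [hZ, hF, Finset.prod_range_succ]
    have hZ' : q ^ (2 * (k + 1 + 1) - 1) + q ^ (k + 1) - q ^ (k + 1 + 1) - 1 =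
        (q ^ (k + 1 + 1) + 1) * (q ^ (k + 1) - 1) := by
      have h1 := hpow (k + 1)
      have e1 : 2 * (k + 1 + 1) - 1 = (k + 1 + 1) + (k + 1) := by omega
      rw [e1, pow_add]
      obtain ⟨c, hc⟩ : ∃ c, q ^ (k + 1) = c + 1 := ⟨q ^ (k + 1) - 1, by omega⟩
      rw [hc, Nat.add_sub_cancel]
      have : q ^ (k + 1 + 1) * (c + 1) + (c + 1) - q ^ (k + 1 + 1) - 1 = q ^ (k + 1 + 1) * c + c := by
        have : q ^ (k + 1 + 1) * (c + 1) = q ^ (k + 1 + 1) * c + q ^ (k + 1 + 1) := by ring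
        omega
      rw [this]; ring
    rw [hZ']
    have hsq := nat_sq_sub_one (q ^ (k + 1)) (hpow _)
    have e2 : q ^ (2 * (k + 1)) = (q ^ (k + 1)) ^ 2 := by rw [← pow_mul, mul_comm]
    rw [e2, ← hsq]
    have e3 : (k + 1 + 1) * (k + 1) = (2 * k + 2) + (k + 1) * k := by ring
    rw [e3, pow_add]
    ring

end Cfsg.Agent.S0288
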