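import Mathlib
import Cfsg.Statements.S0291
import Cfsg.Agent.Helper5.Count

set_option autoImplicit false
open Cfsg

namespace Cfsg.Agent.S0291

open Cfsg.Agent.Helper5

theorem card_sum_fiber {A B : Type*} [Fintype A] [Finite B] (P : A → B → Prop) :
    Nat.card {p : A × B // P p.1 p.2} = ∑ a, Nat.card {b // P a b} := by
  rw [Nat.card_congr (Equiv.subtypeProdEquivSigmaSubtype P), Nat.card_sigma]

/-- equivalence splitting off the `Unit` coordinate -/
def splitEquiv (F : Type*) (m : ℕ) : (Unit ⊕ (Fin m ⊕ Fin m) → F) ≃ F × (Fin m ⊕ Fin m → F) :=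
  (Equiv.sumArrowEquivProdArrow Unit (Fin m ⊕ Fin m) F).trans
    (Equiv.prodCongr (Equiv.funUnique Unit F) (Equiv.refl _))

/-- For q odd, the form x_0^2 + sum_{i<m} x_i y_i on F^(2m+1) has exactly q^(2m) zeros. -/
theorem result {F : Type*} [Field F] [Fintype F] {q : ℕ} (hF : Fintype.card F = q) (hodd : Odd q) (m : ℕ) : Nat.card {v : Unit ⊕ (Fin m ⊕ Fin m) → F // Cfsg.quadFormOdd m F v = 0} = q ^ (2 * m) := by
  classical
  have hq : 1 ≤ q := by rw [← hF]; exact Fintype.card_pos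
  have e : {v : Unit ⊕ (Fin m ⊕ Fin m) → F // Cfsg.quadFormOdd m F v = 0} ≃
      {p : F × (Fin m ⊕ Fin m → F) // Cfsg.quadFormPlus m F p.2 = -p.1 ^ 2} := by
    refine (splitEquiv F m).subtypeEquiv ?_
    intro v
    simp only [splitEquiv, Cfsg.quadFormOdd, Cfsg.quadFormPlus, Equiv.trans_apply,
      Equiv.sumArrowEquivProdArrow, Equiv.coe_fn_mk, Equiv.prodCongr_apply, Prod.map,
      Equiv.funUnique_apply, Equiv.refl_apply, Function.comp]
    constructor
    · intro h
      rw [eq_neg_iff_add_eq_zero, add_comm]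
      exact h
    · intro h
      rw [eq_neg_iff_add_eq_zero, add_comm] at h
      exact h
  rw [Nat.card_congr e, card_sum_fiber (fun (x : F) (w : Fin m ⊕ Fin m → F) => Cfsg.quadFormPlus m F w = -x ^ 2)]
  rw [← Finset.add_sum_erase _ _ (Finset.mem_univ (0 : F))]
  have h1 : ∀ x ∈ (Finset.univ : Finset F).erase 0,
      Nat.card {w : Fin m ⊕ Fin m → F // Cfsg.quadFormPlus m F w = -x ^ 2} =
        (q ^ m - 1) * q ^ (m - 1) := by
    intro x hx
    rw [card_quadFormPlus_ne_zero, hF]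
    exact neg_ne_zero.2 (pow_ne_zero 2 (Finset.ne_of_mem_erase hx))
  rw [Finset.sum_congr rfl h1, Finset.sum_const, Finset.card_erase_of_mem (Finset.mem_univ _),
    Finset.card_univ, smul_eq_mul, hF]
  have h0 : Nat.card {w : Fin m ⊕ Fin m → F // Cfsg.quadFormPlus m F w = -(0 : F) ^ 2} =
      q ^ m + (q ^ m - 1) * q ^ (m - 1) := by
    have : -(0 : F) ^ 2 = 0 := by simp
    rw [this, card_quadFormPlus_zero, hF]
  rw [h0]
  rcases Nat.eq_zero_or_pos m with rfl | hm
  · simp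
  · have hqm : 1 ≤ q ^ m := Nat.one_le_pow _ _ hq
    have h3 : q ^ m = q * q ^ (m - 1) := by rw [← pow_succ']; congr 1; omega
    have h4 : q ^ (2 * m) = q ^ m * q ^ m := by rw [← pow_add]; congr 1; omega
    rw [h4]
    obtain ⟨k, hk⟩ : ∃ k, q ^ m = k + 1 := ⟨q ^ m - 1, by omega⟩
    obtain ⟨j, hj⟩ : ∃ j, q = j + 1 := ⟨q - 1, by omega⟩
    rw [hk] at h3 ⊢
    simp only [Nat.add_sub_cancel]
    have : (j + 1 - 1) = j := by omega
    rw [hj] at h3 ⊢
    rw [this]
    nlinarith [h3]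

end Cfsg.Agent.S0291
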