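import Mathlib
import Cfsg.Statements.S0286
import Cfsg.Agent.Helper5.OrthOrders
import Cfsg.Agent.Helper5.PSL2
import Cfsg.Agent.S0291

set_option autoImplicit false
open Cfsg

namespace Cfsg.Agent.S0286

open Cfsg.Agent.Helper5

/-- |GO_{2m+1}(q)| = 2 q^(m^2) prod_{i=1}^{m} (q^(2i) - 1) for q odd. -/
theorem result {F : Type*} [Field F] [Fintype F] {q : ℕ} (hF : Fintype.card F = q) (hodd : Odd q) (m : ℕ) : Nat.card (Cfsg.isometryGroup F (Cfsg.quadFormOdd m F)) = 2 * q ^ (m ^ 2) * ∏ i ∈ Finset.range m, (q ^ (2 * (i + 1)) - 1) := by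
  have h2 : (2 : F) ≠ 0 := two_ne_zero_of_odd_card (by rw [hF]; exact hodd)
  induction m with
  | zero =>
    rw [card_odd_zero h2]
    simp
  | succ m ih =>
    rw [card_odd_succ, ih, Cfsg.Agent.S0291.result hF hodd (m + 1), hF, Finset.prod_range_succ]
    have e : (m + 1) ^ 2 = (2 * m + 1) + m ^ 2 := by ring
    rw [e, pow_add]
    ring

end Cfsg.Agent.S0286
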