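import Mathlib
import Cfsg.Statements.S0287
import Cfsg.Agent.Helper5.OrthOrders
import Cfsg.Agent.S0289

set_option autoImplicit false
open Cfsg

namespace Cfsg.Agent.S0287

open Cfsg.Agent.Helper5

/-- |GO^+_{2m}(q)| = 2 q^(m(m-1)) (q^m - 1) prod_{i=1}^{m-1} (q^(2i) - 1), m at least 1, all q. -/
theorem result {F : Type*} [Field F] [Fintype F] {q : ℕ} (hF : Fintype.card F = q) (m : ℕ) (hm : 1 ≤ m) : Nat.card (Cfsg.isometryGroup F (Cfsg.quadFormPlus m F)) = 2 * q ^ (m * (m - 1)) * (q ^ m - 1) * ∏ i ∈ Finset.range (m - 1), (q ^ (2 * (i + 1)) - 1) := by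
  have hq : 2 ≤ q := by rw [← hF]; exact Fintype.one_lt_card
  have hpow : ∀ k, 1 ≤ q ^ k := fun k => Nat.one_le_pow _ _ (by omega)
  induction m, hm using Nat.le_induction with
  | base =>
    rw [card_plus_succ, card_plus_zero, Cfsg.Agent.S0289.result hF 1 (le_refl 1)]
    simp
    omega
  | succ m hm ih =>
    rw [card_plus_succ, ih, Cfsg.Agent.S0289.result hF (m + 1) (by omega), hF]
    simp only [Nat.add_sub_cancel]
    obtain ⟨k, rfl⟩ : ∃ k, m = k + 1 := ⟨m - 1, by omega⟩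
    simp only [Nat.add_sub_cancel]
    rw [Finset.prod_range_succ]
    -- the number of non-zero singular vectors
    have hZ : q ^ (2 * (k + 1 + 1) - 1) + q ^ (k + 1 + 1) - q ^ (k + 1) - 1 =
        (q ^ (k + 1 + 1) - 1) * (q ^ (k + 1) + 1) := by
      have h1 := hpow (k + 1)
      have h2 : q ^ (k + 1) ≤ q ^ (k + 1 + 1) := Nat.pow_le_pow_right (by omega) (by omega)
      have e1 : 2 * (k + 1 + 1) - 1 = (k + 1 + 1) + (k + 1) := by omega
      rw [e1, pow_add]
      obtain ⟨a, ha⟩ : ∃ a, q ^ (k + 1 + 1) = a + 1 := ⟨q ^ (k + 1 + 1) - 1, by have := hpow (k+1+1); omega⟩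
      rw [ha, Nat.add_sub_cancel]
      have : (a + 1) * q ^ (k + 1) + (a + 1) - q ^ (k + 1) - 1 = a * q ^ (k + 1) + a := by
        have : (a + 1) * q ^ (k + 1) = a * q ^ (k + 1) + q ^ (k + 1) := by ring
        omega
      rw [this]; ring
    rw [hZ]
    have hsq := nat_sq_sub_one (q ^ (k + 1)) (hpow _)
    have e2 : q ^ (2 * (k + 1)) = (q ^ (k + 1)) ^ 2 := by rw [← pow_mul, mul_comm]
    rw [e2, ← hsq]
    have e3 : (k + 1 + 1) * (k + 1) = 2 * (k + 1) + (k + 1) * k := by ring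
    rw [e3, pow_add]
    ring

end Cfsg.Agent.S0287
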