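import Mathlib
import Cfsg.Statements.S0605
import Cfsg.Agent.Helper10.Thompson

set_option autoImplicit false
open Cfsg

open Subgroup
open Cfsg.Agent

namespace Cfsg.Agent.S0605


/-- Elements of order p in the centralizer of the Thompson subgroup belong to the Thompson subgroup (so to its centre). -/
theorem result {G : Type*} [Group G] [Finite G] {p : ℕ} [Fact p.Prime] (x : G) (hx : x ∈ Subgroup.centralizer (Cfsg.thompsonSubgroup p G : Set G)) (ho : orderOf x = p) : x ∈ Cfsg.thompsonSubgroup p G := by
  obtain ⟨A, hA⟩ := Helper10.exists_maxElementaryAbelian (G := G) p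
  have hAJ := Helper10.le_thompsonSubgroup hA
  have hxp : x ^ p = 1 := by rw [← ho]; exact pow_orderOf_eq_one x
  have hZ := Helper10.isElementaryAbelian_zpowers hxp
  have hcomm : ∀ a ∈ A, ∀ b ∈ Subgroup.zpowers x, a * b = b * a := by
    rintro a ha _ ⟨n, rfl⟩
    have : Commute a x := (Subgroup.mem_centralizer_iff.mp hx a (hAJ ha))
    exact (this.zpow_right n).eq
  have hsup := Helper10.isElementaryAbelian_sup hA.1 hZ hcomm
  have hcard := hA.2 _ hsup
  have heq : A = A ⊔ Subgroup.zpowers x := Subgroup.eq_of_le_of_card_ge le_sup_left hcard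
  apply hAJ
  rw [heq]
  exact Subgroup.mem_sup_right (Subgroup.mem_zpowers x)

end Cfsg.Agent.S0605
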