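import Cfsg.Statements.S0622
import Cfsg.Agent.Helper11.StableW

set_option autoImplicit false
universe u
open Cfsg

namespace Cfsg.Agent.S0622

open Cfsg.Agent.Helper11 in
/-- Basic properties of the stable normal closure W(S) of Ω₁(Z(S)) in a finite p-group: characteristic, squeezed between Ω₁(Z(S)) and Ω₁(Z(J(S))), nontrivial for S ≠ 1, and transported by group isomorphisms. -/
theorem result {S : Type u} [Group S] [Finite S] {p : ℕ} [Fact p.Prime] (hS : IsPGroup p S) : (Cfsg.stableNormalClosure p S).Characteristic ∧ Cfsg.omegaOne p (Subgroup.center S) ≤ Cfsg.stableNormalClosure p S ∧ Cfsg.stableNormalClosure p S ≤ Cfsg.omegaCenterThompson p S ∧ (Nontrivial S → Cfsg.stableNormalClosure p S ≠ ⊥) ∧ ∀ (S' : Type u) [Group S'] (η : S ≃* S'), (Cfsg.stableNormalClosure p S).map η.toMonoidHom = Cfsg.stableNormalClosure p S' := by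
  have hp : p.Prime := Fact.out
  have h2 : Cfsg.omegaOne p (Subgroup.center S) ≤ Cfsg.stableNormalClosure p S := by
    rw [stableNormalClosure_eq]
    exact le_sInf fun W hW => hW.1
  refine ⟨?_, h2, ?_, ?_, ?_⟩
  · exact Subgroup.characteristic_iff_map_eq.mpr (fun φ => stableNormalClosure_map_equiv p φ)
  · rw [stableNormalClosure_eq]
    apply sInf_le
    refine ⟨?_, ?_⟩
    · unfold Cfsg.omegaCenterThompson Cfsg.omegaOne
      rw [Subgroup.closure_le]
      rintro x ⟨hx, hxp⟩
      apply Subgroup.subset_closure
      have hxC : x ∈ Subgroup.centralizer (Cfsg.thompsonSubgroup p S : Set S) := by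
        rw [Subgroup.mem_centralizer_iff]
        intro t _
        exact Subgroup.mem_center_iff.mp hx t
      refine ⟨Subgroup.mem_inf.mpr ⟨?_, hxC⟩, hxp⟩
      have hdvd : orderOf x ∣ p := orderOf_dvd_of_pow_eq_one hxp
      rcases (Nat.dvd_prime hp).mp hdvd with h1 | h1
      · rw [orderOf_eq_one_iff] at h1
        rw [h1]; exact Subgroup.one_mem _
      · exact Cfsg.Agent.S0605.result x hxC h1
    · intro H _ τ hτ
      obtain ⟨h1, _, _, _, h5, _⟩ := hτ
      have h := omegaZ_map p τ (Cfsg.thompsonSubgroup p S)
        (fun x _ hx => by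
          have : τ x = τ 1 := by rw [map_one]; exact hx
          exact h1 this)
      have hn : (omegaZ p ((Cfsg.thompsonSubgroup p S).map τ)).Normal := by
        haveI := h5
        exact omegaZ_normal p _
      rw [h] at hn
      exact hn
  · intro hnt
    haveI := hnt
    haveI : Nontrivial (Subgroup.center S) := hS.center_nontrivial
    have hZ : IsPGroup p (Subgroup.center S) := hS.to_subgroup _
    obtain ⟨k, hk⟩ := IsPGroup.iff_card.mp hZ
    have hk0 : k ≠ 0 := by
      intro h0
      rw [h0, pow_zero] at hk
      have : Subsingleton (Subgroup.center S) := (Nat.card_eq_one_iff_unique.mp hk).1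
      exact not_subsingleton _ this
    have hdvd : p ∣ Nat.card (Subgroup.center S) := by
      rw [hk]; exact dvd_pow_self p hk0
    obtain ⟨z, hz⟩ := exists_prime_orderOf_dvd_card' p hdvd
    have hz1 : (z : S) ≠ 1 := by
      intro h
      have : z = 1 := Subtype.ext h
      rw [this, orderOf_one] at hz
      exact hp.one_lt.ne hz
    have hzp : (z : S) ^ p = 1 := by
      have := pow_orderOf_eq_one z
      rw [hz] at this
      have h3 := congrArg Subtype.val this
      simpa using h3
    have hzW : (z : S) ∈ Cfsg.stableNormalClosure p S :=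
      h2 (Subgroup.subset_closure ⟨z.2, hzp⟩)
    intro hbot
    rw [hbot, Subgroup.mem_bot] at hzW
    exact hz1 hzW
  · intro S' _ η
    exact stableNormalClosure_map_equiv p η

end Cfsg.Agent.S0622
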