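import Cfsg.Statements.S0650
import Cfsg.Agent.Helper51.GlauRepl

set_option autoImplicit false
open Cfsg

namespace Cfsg.Agent.S0650

open Subgroup Cfsg.Agent.Helper51
open scoped commutatorElement

/-- Glauberman's replacement construction, in terms of `gStar`. -/
theorem main {S : Type*} [Group S] [Finite S] {p : ℕ} [Fact p.Prime] (hS : IsPGroup p S)
    (B : Subgroup S) [B.Normal] (hB2 : p = 2 → IsMulCommutative B) (A : Subgroup S)
    (hA : IsMulCommutative A) (hBA : ⁅B, B⁆ ≤ A)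
    (β : S) (hβ : β ∈ B)
    (hβN : β ∈ normalizer ((normalizer (A : Set S)) : Set S))
    (hβA : β ∉ normalizer (A : Set S)) :
    Nat.card (gStar A β) = Nat.card A ∧ IsMulCommutative (gStar A β) ∧ ⁅B, B⁆ ≤ gStar A β ∧
    A ⊓ B < gStar A β ⊓ B ∧ gStar A β ⊓ B < B ∧
    A ≤ normalizer ((gStar A β : Subgroup S) : Set S) ∧
    gStar A β ≤ normalizer (A : Set S) ∧
    β ∈ normalizer ((gStar A β : Subgroup S) : Set S) ∧
    normalizer (A : Set S) < normalizer ((gStar A β : Subgroup S) : Set S) ∧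
    (p ≠ 2 → Monoid.exponent (gStar A β) ∣ Monoid.exponent A) := by
  have hβself := mem_normalizer_gStar_self hBA hβ
  refine ⟨card_gStar hA hBA hβ hβN, isMulCommutative_gStar hS hB2 hA hBA hβ hβN,
    (derived_le_gZ hBA hβ).trans le_sup_left, ?_, ?_, le_normalizer_gStar hA hβN,
    gStar_le_normalizer hβN, hβself, ?_, fun hp => exponent_gStar_dvd hS hp hA hβN⟩
  · rw [SetLike.lt_iff_le_and_exists]
    refine ⟨le_inf (inf_le_gZ hBA hβ |>.trans le_sup_left) inf_le_right, ?_⟩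
    obtain ⟨a, ha, hna⟩ := exists_gen_not_mem hβA
    exact ⟨⁅a, β⁆, mem_inf.mpr ⟨mem_sup_right (gen_mem_gX ha), gen_mem_normal hβ a⟩,
      fun h => hna (mem_inf.mp h).1⟩
  · rw [SetLike.lt_iff_le_and_exists]
    refine ⟨inf_le_right, β, hβ, fun h => ?_⟩
    exact hβA (gStar_le_normalizer hβN (mem_inf.mp h).1)
  · rw [SetLike.lt_iff_le_and_exists]
    exact ⟨normalizer_le_normalizer_gStar hBA hβ hβN, β, hβself, hβA⟩

/-- Let S be a finite p-group, B normal in S (abelian if p=2), A abelian containing [B,B], and b in B normalizing N_S(A) but not A. Then A*=(A ∩ b⁻¹Ab)[A,b] is abelian, as large as A, contains [B,B], meets B more than A but not all of B, is normalized by A and b, normalizes A, has a larger normalizer than A and (p odd) exponent dividing that of A. -/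
theorem result {S : Type*} [Group S] [Finite S] {p : ℕ} [Fact p.Prime] (hS : IsPGroup p S) (B : Subgroup S) [B.Normal] (hB2 : p = 2 → IsMulCommutative B) (A : Subgroup S) (hA : IsMulCommutative A) (hBA : ⁅B, B⁆ ≤ A) (hnot : ¬ B ≤ Subgroup.normalizer (A : Set S)) (b : S) (hb : b ∈ B) (hbN : b ∈ Subgroup.normalizer ((Subgroup.normalizer (A : Set S)) : Set S)) (hbA : b ∉ Subgroup.normalizer (A : Set S)) : Nat.card ↥((A ⊓ A.map (MulAut.conj (b⁻¹)).toMonoidHom) ⊔ Subgroup.closure {g : S | ∃ a ∈ A, g = a * b⁻¹ * a⁻¹ * b}) = Nat.card A ∧ IsMulCommutative ↥((A ⊓ A.map (MulAut.conj (b⁻¹)).toMonoidHom) ⊔ Subgroup.closure {g : S | ∃ a ∈ A, g = a * b⁻¹ * a⁻¹ * b}) ∧ ⁅B, B⁆ ≤ ((A ⊓ A.map (MulAut.conj (b⁻¹)).toMonoidHom) ⊔ Subgroup.closure {g : S | ∃ a ∈ A, g = a * b⁻¹ * a⁻¹ * b}) ∧ A ⊓ B < ((A ⊓ A.map (MulAut.conj (b⁻¹)).toMonoidHom) ⊔ Subgroup.closure {g : S | ∃ a ∈ A, g = a * b⁻¹ * a⁻¹ *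 b}) ⊓ B ∧ ((A ⊓ A.map (MulAut.conj (b⁻¹)).toMonoidHom) ⊔ Subgroup.closure {g : S | ∃ a ∈ A, g = a * b⁻¹ * a⁻¹ * b}) ⊓ B < B ∧ A ≤ Subgroup.normalizer (((A ⊓ A.map (MulAut.conj (b⁻¹)).toMonoidHom) ⊔ Subgroup.closure {g : S | ∃ a ∈ A, g = a * b⁻¹ * a⁻¹ * b} : Subgroup S) : Set S) ∧ ((A ⊓ A.map (MulAut.conj (b⁻¹)).toMonoidHom) ⊔ Subgroup.closure {g : S | ∃ a ∈ A, g = a * b⁻¹ * a⁻¹ * b}) ≤ Subgroup.normalizer (A : Set S) ∧ b ∈ Subgroup.normalizer (((A ⊓ A.map (MulAut.conj (b⁻¹)).toMonoidHom) ⊔ Subgroup.closure {g : S | ∃ a ∈ A, g = a * b⁻¹ * a⁻¹ * b} : Subgroup S) : Set S) ∧ Subgroup.normalizer (A : Set S) < Subgroup.normalizer (((A ⊓ A.map (MulAut.conj (b⁻¹)).toMonoidHom) ⊔ Subgroup.closure {g : S | ∃ a ∈ A, g = a * b⁻¹ * a⁻¹ * b} : Subgroup S) : Set S) ∧ (p ≠ 2 → Monoid.exponent ↥((A ⊓ A.map (MulAut.conj (b⁻¹)).toMonoidHom) ⊔ Subgroup.closure {g : S | ∃ a ∈ A, g = a * b⁻¹ * a⁻¹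 * b}) ∣ Monoid.exponent A) := by
  have hset : {g : S | ∃ a ∈ A, g = a * b⁻¹ * a⁻¹ * b} = {g : S | ∃ a ∈ A, g = ⁅a, b⁻¹⁆} := by
    ext g
    simp only [commutatorElement_def, inv_inv]
  have key : (A ⊓ A.map (MulAut.conj (b⁻¹)).toMonoidHom) ⊔
      Subgroup.closure {g : S | ∃ a ∈ A, g = a * b⁻¹ * a⁻¹ * b} = gStar A b⁻¹ := by
    rw [hset]; rfl
  rw [key]
  have hβN : b⁻¹ ∈ normalizer ((normalizer (A : Set S)) : Set S) := inv_mem hbN
  have hβA : b⁻¹ ∉ normalizer (A : Set S) := fun h => hbA (by simpa using inv_mem h)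
  obtain ⟨h1, h2, h3, h4, h5, h6, h7, h8, h9, h10⟩ :=
    main hS B hB2 A hA hBA b⁻¹ (B.inv_mem hb) hβN hβA
  exact ⟨h1, h2, h3, h4, h5, h6, h7, by simpa using inv_mem h8, h9, h10⟩

end Cfsg.Agent.S0650
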