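import Cfsg.Statements.S0651
import Cfsg.Agent.Helper51.GlauFamily

set_option autoImplicit false
open Cfsg

namespace Cfsg.Agent.S0651

open Subgroup Cfsg.Agent.Helper51
open scoped commutatorElement

/-- For odd p, a finite p-group S and D ⊴ S: the family of abelian subgroups of D of largest order has the replacement property in S — if B ⊴ S has class ≤ 2 and some member contains [B,B] but not B, then B normalizes some such member. -/
theorem result {S : Type*} [Group S] [Finite S] {p : ℕ} [Fact p.Prime] (hS : IsPGroup p S) (hp : p ≠ 2) (D : Subgroup S) [D.Normal] : ∀ (B : Subgroup S) [B.Normal], ⁅⁅B, B⁆, B⁆ = ⊥ → (∃ U ∈ (Set.image (fun A : Subgroup ↥D => A.map D.subtype) (Cfsg.maxAbelianSubgroups ↥D)), ⁅B, B⁆ ≤ U ∧ ¬ B ≤ U) → ∃ A ∈ (Set.image (fun A : Subgroup ↥D => A.map D.subtype) (Cfsg.maxAbelianSubgroups ↥D)), ⁅B, B⁆ ≤ A ∧ ¬ B ≤ A ∧ B ≤ Subgroup.normalizer (A : Set S) := by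
  intro B _ _ hU
  apply replacement_family hS hp D _ _ _ B hU
  · rintro _ ⟨A₀, hA₀, rfl⟩
    have := hA₀.1
    exact ⟨Subgroup.map_isMulCommutative A₀ D.subtype, map_subtype_le A₀⟩
  · rintro _ ⟨A₀, hA₀, rfl⟩ A' hA'D hA'c hcard _
    refine ⟨A'.subgroupOf D, ⟨Subgroup.subgroupOf_isMulCommutative D A', fun C hC => ?_⟩,
      map_subgroupOf_eq_of_le hA'D⟩
    have h1 : Nat.card ↥(A'.subgroupOf D) = Nat.card A' :=
      Nat.card_congr (Subgroup.subgroupOfEquivOfLe hA'D).toEquiv
    have h2 : Nat.card ↥(A₀.map D.subtype) = Nat.card A₀ :=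
      Subgroup.card_map_of_injective D.subtype_injective
    rw [h1, hcard, h2]
    exact hA₀.2 C hC

end Cfsg.Agent.S0651
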