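import Cfsg.Statements.S0652
import Cfsg.Agent.Helper51.GlauFamily

set_option autoImplicit false
open Cfsg

namespace Cfsg.Agent.S0652

open Subgroup Cfsg.Agent.Helper51
open scoped commutatorElement

/-- For odd p, a finite p-group S and D ⊴ S: the family of elementary abelian subgroups of D of largest order has the replacement property in S (same sense as for abelian subgroups of largest order). -/
theorem result {S : Type*} [Group S] [Finite S] {p : ℕ} [Fact p.Prime] (hS : IsPGroup p S) (hp : p ≠ 2) (D : Subgroup S) [D.Normal] : ∀ (B : Subgroup S) [B.Normal], ⁅⁅B, B⁆, B⁆ = ⊥ → (∃ U ∈ (Set.image (fun A : Subgroup ↥D => A.map D.subtype) (Cfsg.maxElementaryAbelianSubgroups p ↥D)), ⁅B, B⁆ ≤ U ∧ ¬ B ≤ U) → ∃ A ∈ (Set.image (fun A : Subgroup ↥D => A.map D.subtype) (Cfsg.maxElementaryAbelianSubgroups p ↥D)), ⁅B, B⁆ ≤ A ∧ ¬ B ≤ A ∧ B ≤ Subgroup.normalizer (A : Set S) := by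
  intro B _ _ hU
  apply replacement_family hS hp D _ _ _ B hU
  · rintro _ ⟨A₀, hA₀, rfl⟩
    have := hA₀.1.1
    exact ⟨Subgroup.map_isMulCommutative A₀ D.subtype, map_subtype_le A₀⟩
  · rintro _ ⟨A₀, hA₀, rfl⟩ A' hA'D hA'c hcard hexp
    have hA₀p : ∀ a ∈ A₀.map D.subtype, a ^ p = 1 := by
      rintro _ ⟨a, ha, rfl⟩
      rw [← map_pow, hA₀.1.2 a ha, map_one]
    have hexp0 : Monoid.exponent ↥(A₀.map D.subtype) ∣ p := by
      apply Monoid.exponent_dvd_of_forall_pow_eq_one
      rintro ⟨a, ha⟩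
      apply Subtype.ext
      rw [SubgroupClass.coe_pow]
      exact hA₀p a ha
    have hA'p : ∀ a ∈ A', a ^ p = 1 := by
      intro a ha
      have := (Monoid.exponent_dvd_iff_forall_pow_eq_one.mp (hexp.trans hexp0)) ⟨a, ha⟩
      have h2 := congrArg Subtype.val this
      simpa using h2
    refine ⟨A'.subgroupOf D, ⟨⟨Subgroup.subgroupOf_isMulCommutative D A', ?_⟩, fun C hC => ?_⟩,
      map_subgroupOf_eq_of_le hA'D⟩
    · intro a ha
      apply Subtype.ext
      rw [SubgroupClass.coe_pow]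
      exact hA'p a.1 (mem_subgroupOf.mp ha)
    · have h1 : Nat.card ↥(A'.subgroupOf D) = Nat.card A' :=
        Nat.card_congr (Subgroup.subgroupOfEquivOfLe hA'D).toEquiv
      have h2 : Nat.card ↥(A₀.map D.subtype) = Nat.card A₀ :=
        Subgroup.card_map_of_injective D.subtype_injective
      rw [h1, hcard, h2]
      exact hA₀.2 C hC

end Cfsg.Agent.S0652
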