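import Cfsg.Statements.S0655
import Cfsg.Agent.Helper11.Basic

set_option autoImplicit false
open Cfsg Cfsg.Agent.Helper11

namespace Cfsg.Agent.S0655

/-- In a p-group the intersection of all elementary abelian subgroups of largest order is the subgroup generated by the elements of order dividing p in the centre (equivalently the centralizer) of the elementary-version Thompson subgroup. -/
theorem result {S : Type*} [Group S] [Finite S] {p : ℕ} [Fact p.Prime] (hS : IsPGroup p S) : sInf (Cfsg.maxElementaryAbelianSubgroups p S) = Cfsg.omegaCenterThompson p S ∧ Cfsg.omegaCenterThompson p S = Cfsg.omegaOne p (Subgroup.centralizer (Cfsg.thompsonSubgroup p S : Set S)) := by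
  classical
  set 𝒜 := Cfsg.maxElementaryAbelianSubgroups p S with h𝒜
  set J := Cfsg.thompsonSubgroup p S with hJ
  have hJdef : J = sSup 𝒜 := rfl
  obtain ⟨A₀, hA₀⟩ := maxElAb_nonempty (S := S) p
  -- (c)
  have h3 : Cfsg.omegaOne p (Subgroup.centralizer (J : Set S)) ≤ sInf 𝒜 := by
    unfold Cfsg.omegaOne
    rw [Subgroup.closure_le]
    rintro x ⟨hxC, hxp⟩
    rw [SetLike.mem_coe, Subgroup.mem_sInf]
    intro A hA
    have hAJ : A ≤ J := le_sSup hA
    have hxA : ∀ a ∈ A, a * x = x * a := fun a ha =>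
      (Subgroup.mem_centralizer_iff.mp hxC a (hAJ ha))
    have hB := elAb_adjoin p A hA.1 x hxp hxA
    have hle : A ≤ Subgroup.closure ((A : Set S) ∪ {x}) := fun a ha =>
      Subgroup.subset_closure (Or.inl ha)
    have hcard := hA.2 _ hB
    have heq : A = Subgroup.closure ((A : Set S) ∪ {x}) :=
      Subgroup.eq_of_le_of_card_ge hle hcard
    rw [heq]
    exact Subgroup.subset_closure (Or.inr rfl)
  -- (d)
  have h1 : sInf 𝒜 ≤ Cfsg.omegaCenterThompson p S := by
    intro x hx
    rw [Subgroup.mem_sInf] at hx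
    unfold Cfsg.omegaCenterThompson Cfsg.omegaOne
    apply Subgroup.subset_closure
    refine ⟨⟨?_, ?_⟩, ?_⟩
    · exact (le_sSup hA₀ : A₀ ≤ J) (hx A₀ hA₀)
    · show x ∈ Subgroup.centralizer (J : Set S)
      rw [hJdef, sSup_eq_iSup', Subgroup.iSup_eq_closure, Subgroup.centralizer_closure, Subgroup.mem_centralizer_iff]
      intro y hy
      rw [Set.mem_iUnion] at hy
      obtain ⟨⟨A, hA⟩, hyA⟩ := hy
      have hxA : x ∈ A := hx A hA
      have := hA.1.1.is_comm.comm (⟨y, hyA⟩ : A) ⟨x, hxA⟩
      exact congrArg Subtype.val this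
    · exact hA₀.1.2 x (hx A₀ hA₀)
  -- (e)
  have h2 : Cfsg.omegaCenterThompson p S ≤ Cfsg.omegaOne p (Subgroup.centralizer (J : Set S)) := by
    unfold Cfsg.omegaCenterThompson Cfsg.omegaOne
    apply Subgroup.closure_mono
    rintro x ⟨hx, hxp⟩
    exact ⟨hx.2, hxp⟩
  exact ⟨le_antisymm h1 (h2.trans h3), le_antisymm h2 (h3.trans h1)⟩

end Cfsg.Agent.S0655
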