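import Cfsg.Statements.S0865
import Cfsg.Agent.Helper15.TransferLin

set_option autoImplicit false
open Cfsg

namespace Cfsg.Agent.S0865

open Cfsg.Agent.Helper15

/-- Hom-level version. -/
theorem hom_version {G : Type*} [Group G] [Finite G] (N : Subgroup G) [hN : N.Normal]
    (lam : N →* ℂˣ)
    (hinv : ∀ (g : G) (n : G) (hn : n ∈ N),
      lam ⟨g⁻¹ * n * g, by simpa using hN.conj_mem n hn g⁻¹⟩ = lam ⟨n, hn⟩)
    (hcop : Nat.Coprime N.index (orderOf lam)) :
    ∃ μ : G →* ℂˣ, (∀ n : N, μ n = lam n) ∧ orderOf μ = orderOf lam ∧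
      ∀ μ' : G →* ℂˣ, (∀ n : N, μ' n = lam n) → Nat.Coprime N.index (orderOf μ') → μ' = μ := by
  classical
  set k := N.index with hk
  set o := orderOf lam with ho
  -- the transfer
  let ν : G →* ℂˣ := MonoidHom.transfer lam
  have hν : ∀ n : N, ν n = lam n ^ k := by
    intro n
    have := transfer_apply_of_normal_le N N le_rfl lam hinv n n.2
    exact this
  obtain ⟨a, ha⟩ := exists_pow_eq_self_of_coprime hcop
  -- ha : (lam ^ k) ^ a = lam
  let μ : G →* ℂˣ := ν ^ (a * (k * a))
  have hμN : ∀ n : N, μ n = lam n := by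
    intro n
    show (ν n) ^ (a * (k * a)) = lam n
    rw [hν]
    have h1 : ∀ m : N, (lam m ^ k) ^ a = lam m := fun m => by
      have := congrArg (fun f : N →* ℂˣ => f m) ha
      simpa using this
    rw [pow_mul, h1, pow_mul, h1]
  have hνko : ∀ g : G, ν g ^ (k * o) = 1 := by
    intro g
    rw [pow_mul, ← map_pow]
    have hg : g ^ k ∈ N := N.pow_index_mem g
    have := hν ⟨g ^ k, hg⟩
    rw [show ν (g ^ k) = ν ((⟨g ^ k, hg⟩ : N) : G) from rfl, this, ← pow_mul, mul_comm, pow_mul]
    have h2 : lam ⟨g ^ k, hg⟩ ^ o = 1 := by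
      rw [← MonoidHom.pow_apply, ho, pow_orderOf_eq_one]; rfl
    rw [h2, one_pow]
  have hμo : μ ^ o = 1 := by
    ext g
    simp only [MonoidHom.pow_apply, MonoidHom.one_apply, Units.val_one]
    show ((ν g ^ (a * (k * a))) ^ o : ℂˣ).val = 1
    rw [← pow_mul, show a * (k * a) * o = (k * o) * (a * a) by ring, pow_mul, hνko, one_pow]
    rfl
  have hord : orderOf μ = o := by
    apply Nat.dvd_antisymm (orderOf_dvd_of_pow_eq_one hμo)
    apply orderOf_dvd_of_pow_eq_one
    ext n
    have := congrArg (fun f : G →* ℂˣ => f n) (pow_orderOf_eq_one μ)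
    simp only [MonoidHom.pow_apply, MonoidHom.one_apply] at this
    simp only [MonoidHom.pow_apply, MonoidHom.one_apply]
    rw [← hμN, this]
  refine ⟨μ, hμN, hord, ?_⟩
  intro μ' hμ'N hcop'
  -- the ratio
  let ρ : G →* ℂˣ := μ' / μ
  have hρN : ∀ n ∈ N, ρ n = 1 := by
    intro n hn
    show μ' n / μ n = 1
    rw [hμ'N ⟨n, hn⟩, hμN ⟨n, hn⟩, div_self']
  have hρ : ∀ g, ρ g = 1 := by
    intro g
    have h1 : ρ g ^ k = 1 := hom_pow_index_eq_one N ρ hρN g
    have h2 : ρ g ^ (orderOf μ' * o) = 1 := by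
      show (μ' g / μ g) ^ (orderOf μ' * o) = 1
      rw [div_pow]
      have e1 : μ' g ^ orderOf μ' = 1 := by
        rw [← MonoidHom.pow_apply, pow_orderOf_eq_one]; rfl
      have e2 : μ g ^ o = 1 := by
        have := congrArg (fun f : G →* ℂˣ => f g) hμo
        simpa using this
      rw [pow_mul, e1, one_pow, mul_comm, pow_mul, e2, one_pow, div_one]
    have hc : Nat.Coprime k (orderOf μ' * o) := Nat.Coprime.mul_right hcop' hcop
    have d1 := orderOf_dvd_of_pow_eq_one h1
    have d2 := orderOf_dvd_of_pow_eq_one h2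
    have : orderOf (ρ g) = 1 := Nat.eq_one_of_dvd_coprimes hc d1 d2
    exact orderOf_eq_one_iff.mp this
  ext g
  have := hρ g
  have h3 : μ' g / μ g = 1 := this
  rw [div_eq_one] at h3
  rw [h3]

/-- Let N be a normal subgroup of the finite group G and λ a character of N of degree 1, invariant under conjugation by G, whose order (under pointwise multiplication) is coprime to the index of N. Then there is a character μ of G of degree 1 restricting to λ with the same order as λ, and μ is the only degree-1 character of G restricting to λ whose order is coprime to the index of N. -/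
theorem result {G : Type*} [Group G] [Finite G] (N : Subgroup G) [hN : N.Normal] (lam : N → ℂ) (hlam : Cfsg.IsCharacter N lam ∧ lam 1 = 1) (hinv : ∀ (g : G) (n : N), lam ⟨g * n * g⁻¹, hN.conj_mem (n : G) n.2 g⟩ = lam n) (hcop : Nat.Coprime N.index (orderOf lam)) : ∃ μ : G → ℂ, (Cfsg.IsCharacter G μ ∧ μ 1 = 1 ∧ (∀ n : N, μ n = lam n) ∧ orderOf μ = orderOf lam) ∧ ∀ μ' : G → ℂ, Cfsg.IsCharacter G μ' ∧ μ' 1 = 1 → (∀ n : N, μ' n = lam n) → Nat.Coprime N.index (orderOf μ') → μ' = μ := by
  obtain ⟨hl, hl1⟩ := hlam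
  have hinv' : ∀ (g : G) (n : G) (hn : n ∈ N),
      linCharUnits hl hl1 ⟨g⁻¹ * n * g, by simpa using hN.conj_mem n hn g⁻¹⟩
        = linCharUnits hl hl1 ⟨n, hn⟩ := by
    intro g n hn
    apply Units.ext
    rw [linCharUnits_apply, linCharUnits_apply]
    have := hinv g⁻¹ ⟨n, hn⟩
    rw [← this]
    congr 1
    apply Subtype.ext
    simp
  have hcop' : Nat.Coprime N.index (orderOf (linCharUnits hl hl1)) := by
    rw [orderOf_linCharUnits]; exact hcop
  obtain ⟨μ, hμN, hμo, hμu⟩ := hom_version N (linCharUnits hl hl1) hinv' hcop'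
  obtain ⟨hc, hc1⟩ := isCharacter_unitsFun μ
  refine ⟨unitsFun μ, ⟨hc, hc1, ?_, ?_⟩, ?_⟩
  · intro n
    rw [unitsFun_apply, hμN, linCharUnits_apply]
  · rw [orderOf_unitsFun, hμo, orderOf_linCharUnits]
  · rintro μ' ⟨hm, hm1⟩ hμ'N hcop''
    have := hμu (linCharUnits hm hm1) ?_ ?_
    · rw [← this]; rfl
    · intro n
      apply Units.ext
      rw [linCharUnits_apply, linCharUnits_apply, hμ'N]
    · rw [orderOf_linCharUnits]; exact hcop''

end Cfsg.Agent.S0865
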