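import Cfsg.Statements.S5729
import Cfsg.Agent.Helper95.Derangement

set_option autoImplicit false
open Cfsg

namespace Cfsg.Agent.S5729

open MulAction

section aux
variable {G Ω : Type*} [Group G] [Fintype G] [MulAction G Ω] [Fintype Ω] [DecidableEq Ω]

/-- number of fixed points -/
def fx (g : G) : ℕ := (Finset.univ.filter (fun ω : Ω => g • ω = ω)).card

/-- size of a point stabilizer -/
def st (ω : Ω) : ℕ := (Finset.univ.filter (fun g : G => g • ω = ω)).card

/-- size of a two-point stabilizer -/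
def st2 (a b : Ω) : ℕ := (Finset.univ.filter (fun g : G => g • a = a ∧ g • b = b)).card

lemma st_eq (ω : Ω) : st (G := G) ω = Nat.card (stabilizer G ω) := by
  unfold st
  rw [Nat.card_eq_fintype_card, Fintype.card_subtype]
  rfl

lemma st2_eq (a b : Ω) : st2 (G := G) a b = Nat.card ((stabilizer G a ⊓ stabilizer G b : Subgroup G)) := by
  classical
  unfold st2
  rw [Nat.card_eq_fintype_card]
  symm
  apply Fintype.card_of_subtype
  intro g
  simp [Subgroup.mem_inf, mem_stabilizer_iff]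

lemma st_mul_card [IsPretransitive G Ω] (ω : Ω) : st (G := G) ω * Fintype.card Ω = Fintype.card G := by
  rw [st_eq, ← Nat.card_eq_fintype_card, ← Nat.card_eq_fintype_card,
    ← index_stabilizer_of_transitive G ω, Subgroup.card_mul_index]

lemma sum_fx : ∑ g : G, fx (Ω := Ω) g = ∑ ω : Ω, st (G := G) ω :=
  Cfsg.Agent.Helper95.sum_card_fixedBy_eq_sum_card_stabilizer

lemma sum_st [IsPretransitive G Ω] (hn : 0 < Fintype.card Ω) :
    ∑ ω : Ω, st (G := G) ω = Fintype.card G := by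
  apply Nat.eq_of_mul_eq_mul_right hn
  rw [Finset.sum_mul]
  simp_rw [st_mul_card]
  rw [Finset.sum_const, Finset.card_univ, smul_eq_mul, mul_comm]

lemma fx_sq (g : G) : fx (Ω := Ω) g ^ 2 =
    (Finset.univ.filter (fun ab : Ω × Ω => g • ab.1 = ab.1 ∧ g • ab.2 = ab.2)).card := by
  unfold fx
  rw [sq, ← Finset.card_product]
  congr 1
  ext ⟨a, b⟩
  simp

lemma sum_fx_sq : ∑ g : G, fx (Ω := Ω) g ^ 2 = ∑ a : Ω, ∑ b : Ω, st2 (G := G) a b := by
  simp_rw [fx_sq, st2, Finset.card_filter]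
  rw [Finset.sum_comm, Fintype.sum_prod_type]

lemma st_le_st2_mul (a b : Ω) (hab : a ≠ b) :
    st (G := G) a ≤ st2 (G := G) a b * (Fintype.card Ω - 1) := by
  rw [st_eq, st2_eq]
  set H := stabilizer G a
  set K := stabilizer G b
  have h1 : (⊥ : Subgroup G).relIndex (H ⊓ K) * (H ⊓ K).relIndex H = (⊥ : Subgroup G).relIndex H :=
    Subgroup.relIndex_mul_relIndex _ _ _ bot_le inf_le_left
  rw [Subgroup.relIndex_bot_left, Subgroup.relIndex_bot_left] at h1
  rw [← h1]
  apply Nat.mul_le_mul_left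
  rw [inf_comm, Subgroup.inf_relIndex_right]
  have key : K.subgroupOf H = stabilizer H b := by ext; rfl
  rw [Subgroup.relIndex, key, index_stabilizer]
  have hsub : orbit H b ⊆ ({a}ᶜ : Set Ω) := by
    rintro x ⟨h, rfl⟩ hx
    rw [Set.mem_singleton_iff] at hx
    apply hab
    have h2 : (h : G) • a = a := h.2
    have h3 : (h : G) • b = a := hx
    rw [← h2] at h3
    exact (smul_left_cancel _ h3).symm
  calc (orbit H b).ncard ≤ ({a}ᶜ : Set Ω).ncard := Set.ncard_le_ncard hsub (Set.toFinite _)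
    _ = Fintype.card Ω - 1 := by
      rw [Set.ncard_compl, Set.ncard_singleton, Nat.card_eq_fintype_card]

lemma st2_self (a : Ω) : st2 (G := G) a a = st (G := G) a := by
  unfold st2 st
  congr 1
  ext g
  simp

lemma two_mul_st_le (a : Ω) (hn : 2 ≤ Fintype.card Ω) :
    2 * st (G := G) a ≤ ∑ b : Ω, st2 (G := G) a b := by
  rw [← Finset.add_sum_erase Finset.univ (fun b => st2 (G := G) a b) (Finset.mem_univ a), st2_self, two_mul]
  apply Nat.add_le_add_left
  have hpos : 0 < Fintype.card Ω - 1 := by omega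
  apply Nat.le_of_mul_le_mul_right _ hpos
  rw [Finset.sum_mul]
  calc st (G := G) a * (Fintype.card Ω - 1) = ∑ b ∈ Finset.univ.erase a, st (G := G) a := by
        rw [Finset.sum_const, Finset.card_erase_of_mem (Finset.mem_univ a), Finset.card_univ,
          smul_eq_mul, mul_comm]
    _ ≤ ∑ b ∈ Finset.univ.erase a, st2 (G := G) a b * (Fintype.card Ω - 1) := by
        apply Finset.sum_le_sum
        intro b hb
        exact st_le_st2_mul a b (Finset.ne_of_mem_erase hb).symm

lemma two_mul_card_le_sum_fx_sq [IsPretransitive G Ω] (hn : 2 ≤ Fintype.card Ω) :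
    2 * Fintype.card G ≤ ∑ g : G, fx (Ω := Ω) g ^ 2 := by
  rw [sum_fx_sq, ← sum_st (G := G) (Ω := Ω) (by omega), Finset.mul_sum]
  exact Finset.sum_le_sum (fun a _ => two_mul_st_le a hn)

lemma fx_le (g : G) : fx (Ω := Ω) g ≤ Fintype.card Ω := by
  unfold fx
  exact Finset.card_le_univ _

lemma fx_eq_zero_iff (g : G) : fx (Ω := Ω) g = 0 ↔ ∀ ω : Ω, g • ω ≠ ω := by
  unfold fx
  rw [Finset.card_eq_zero, Finset.filter_eq_empty_iff]
  simp

lemma fx_one : fx (Ω := Ω) (1 : G) = Fintype.card Ω := by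
  unfold fx
  simp

lemma eq_one_of_fx_eq [FaithfulSMul G Ω] (g : G) (h : fx (Ω := Ω) g = Fintype.card Ω) : g = 1 := by
  unfold fx at h
  rw [← Finset.card_univ, Finset.card_filter_eq_iff] at h
  apply FaithfulSMul.eq_of_smul_eq_smul (α := Ω)
  intro ω
  rw [one_smul]
  exact h ω (Finset.mem_univ ω)

/-- the indicator of derangements -/
def dl (g : G) : ℕ := if fx (Ω := Ω) g = 0 then 1 else 0

lemma term_le (g : G) :
    ((fx (Ω := Ω) g : ℤ) - 1) * ((fx (Ω := Ω) g : ℤ) - (Fintype.card Ω : ℤ)) ≤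
      (Fintype.card Ω : ℤ) * (dl (Ω := Ω) g : ℤ) := by
  unfold dl
  have h1 := fx_le (Ω := Ω) g
  split_ifs with h0
  · rw [h0]; simp
  · have h2 : 1 ≤ fx (Ω := Ω) g := Nat.one_le_iff_ne_zero.mpr h0
    have h3 : (1 : ℤ) ≤ (fx (Ω := Ω) g : ℤ) := by exact_mod_cast h2
    have h4 : (fx (Ω := Ω) g : ℤ) ≤ (Fintype.card Ω : ℤ) := by exact_mod_cast h1
    simp only [Nat.cast_zero, mul_zero]
    nlinarith

lemma sum_dl : ∑ g : G, dl (Ω := Ω) g =
    (Finset.univ.filter (fun g : G => ∀ ω : Ω, g • ω ≠ ω)).card := by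
  unfold dl
  rw [Finset.card_filter]
  apply Finset.sum_congr rfl
  intro g _
  simp only [fx_eq_zero_iff]

/-- the main counting identity, over the integers -/
lemma sum_term [IsPretransitive G Ω] (hn : 0 < Fintype.card Ω) :
    ∑ g : G, (((fx (Ω := Ω) g : ℤ) - 1) * ((fx (Ω := Ω) g : ℤ) - (Fintype.card Ω : ℤ))) =
      ((∑ g : G, fx (Ω := Ω) g ^ 2 : ℕ) : ℤ) - (Fintype.card G : ℤ) := by
  have h1 : ∀ g : G, ((fx (Ω := Ω) g : ℤ) - 1) * ((fx (Ω := Ω) g : ℤ) - (Fintype.card Ω : ℤ)) =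
      ((fx (Ω := Ω) g ^ 2 : ℕ) : ℤ) - ((Fintype.card Ω : ℤ) + 1) * (fx (Ω := Ω) g : ℤ) +
        (Fintype.card Ω : ℤ) := by
    intro g; push_cast; ring
  simp_rw [h1]
  rw [Finset.sum_add_distrib, Finset.sum_sub_distrib, ← Finset.mul_sum, ← Nat.cast_sum, ← Nat.cast_sum,
    sum_fx, sum_st hn, Finset.sum_const, Finset.card_univ]
  simp only [nsmul_eq_mul]
  ring

end aux

theorem main {G Ω : Type*} [Group G] [Fintype G] [MulAction G Ω] [FaithfulSMul G Ω] [Fintype Ω] [DecidableEq Ω]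
    [IsPretransitive G Ω] (hn : 3 ≤ Fintype.card Ω) :
    ((∃ g : G, g ≠ 1 ∧ ∃ ω : Ω, g • ω = ω) ∧ (∀ g : G, g ≠ 1 → fx (Ω := Ω) g ≤ 1) ∧
      Fintype.card G = Fintype.card Ω * (Fintype.card Ω - 1) ∧
      Fintype.card Ω * (Finset.univ.filter (fun g : G => ∀ ω : Ω, g • ω ≠ ω)).card = Fintype.card G) ∨
    Fintype.card G < Fintype.card Ω * (Finset.univ.filter (fun g : G => ∀ ω : Ω, g • ω ≠ ω)).card := by
  classical
  set n := Fintype.card Ω with hn_def
  set N := Fintype.card G with hN_def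
  set D := (Finset.univ.filter (fun g : G => ∀ ω : Ω, g • ω ≠ ω)).card with hD_def
  have hS2 := two_mul_card_le_sum_fx_sq (G := G) (Ω := Ω) (by omega)
  have hsum := sum_term (G := G) (Ω := Ω) (by omega)
  have hle : ∑ g : G, (((fx (Ω := Ω) g : ℤ) - 1) * ((fx (Ω := Ω) g : ℤ) - (n : ℤ))) ≤
      ∑ g : G, (n : ℤ) * (dl (Ω := Ω) g : ℤ) := Finset.sum_le_sum (fun g _ => term_le g)
  have hdl : ∑ g : G, (n : ℤ) * (dl (Ω := Ω) g : ℤ) = (n : ℤ) * (D : ℤ) := by
    rw [← Finset.mul_sum, ← Nat.cast_sum, sum_dl]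
  have hS2' : (2 : ℤ) * (N : ℤ) ≤ ((∑ g : G, fx (Ω := Ω) g ^ 2 : ℕ) : ℤ) := by exact_mod_cast hS2
  have hND : (N : ℤ) ≤ (n : ℤ) * (D : ℤ) := by
    rw [hsum, hdl] at hle
    linarith
  by_cases hlt : N < n * D
  · right; exact hlt
  left
  have hnD : n * D = N := by
    have : N ≤ n * D := by exact_mod_cast hND
    omega
  have hnD' : (n : ℤ) * (D : ℤ) = (N : ℤ) := by exact_mod_cast hnD
  -- every term is an equality
  have hterm : ∀ g : G, ((fx (Ω := Ω) g : ℤ) - 1) * ((fx (Ω := Ω) g : ℤ) - (n : ℤ)) =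
      (n : ℤ) * (dl (Ω := Ω) g : ℤ) := by
    have hsumeq : ∑ g : G, (((fx (Ω := Ω) g : ℤ) - 1) * ((fx (Ω := Ω) g : ℤ) - (n : ℤ))) =
        ∑ g : G, (n : ℤ) * (dl (Ω := Ω) g : ℤ) := by
      apply le_antisymm hle
      rw [hsum, hdl]; linarith
    intro g
    exact (Finset.sum_eq_sum_iff_of_le (fun g _ => term_le g)).mp hsumeq g (Finset.mem_univ g)
  have hfix1 : ∀ g : G, g ≠ 1 → fx (Ω := Ω) g ≤ 1 := by
    intro g hg
    by_contra hcon
    push Not at hcon
    have h0 : fx (Ω := Ω) g ≠ 0 := by omega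
    have h1 := hterm g
    have hdl0 : dl (Ω := Ω) g = 0 := by unfold dl; rw [if_neg h0]
    rw [hdl0] at h1
    simp only [Nat.cast_zero, mul_zero, mul_eq_zero] at h1
    rcases h1 with h1 | h1
    · have : (fx (Ω := Ω) g : ℤ) = 1 := by linarith
      have : fx (Ω := Ω) g = 1 := by exact_mod_cast this
      omega
    · have : (fx (Ω := Ω) g : ℤ) = (n : ℤ) := by linarith
      have : fx (Ω := Ω) g = n := by exact_mod_cast this
      exact hg (eq_one_of_fx_eq g this)
  -- count D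
  have hcount : ∀ g : G, fx (Ω := Ω) g + dl (Ω := Ω) g = 1 + (if g = 1 then n - 1 else 0) := by
    intro g
    by_cases hg : g = 1
    · subst hg
      rw [if_pos rfl, fx_one]
      unfold dl
      rw [fx_one, if_neg (by omega)]
      omega
    · rw [if_neg hg]
      have h1 := hfix1 g hg
      unfold dl
      split_ifs with h0
      · omega
      · omega
  have hD : D = n - 1 := by
    have h1 : ∑ g : G, (fx (Ω := Ω) g + dl (Ω := Ω) g) = N + D := by
      rw [Finset.sum_add_distrib, sum_fx, sum_st (by omega), sum_dl]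
    have h2 : ∑ g : G, (1 + (if g = 1 then n - 1 else 0)) = N + (n - 1) := by
      rw [Finset.sum_add_distrib, Finset.sum_const, Finset.card_univ, Finset.sum_ite_eq']
      simp [hN_def]
    simp_rw [hcount] at h1
    omega
  have hN : N = n * (n - 1) := by rw [← hnD, hD]
  refine ⟨?_, hfix1, hN, hnD⟩
  by_contra hcon
  push Not at hcon
  have hsub : Finset.univ.erase (1 : G) ⊆ Finset.univ.filter (fun g : G => ∀ ω : Ω, g • ω ≠ ω) := by
    intro g hg
    simp only [Finset.mem_filter, Finset.mem_univ, true_and]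
    exact hcon g (Finset.ne_of_mem_erase hg)
  have hcard := Finset.card_le_card hsub
  rw [Finset.card_erase_of_mem (Finset.mem_univ _), Finset.card_univ] at hcard
  have h3 : n * (n - 1) ≥ n * 2 := Nat.mul_le_mul_left n (by omega)
  omega

/-- Let a finite group G act faithfully and transitively on a set with n ≥ 3 points. Then either G is a Frobenius permutation group (Frobenius as a permutation group: transitive, some non-identity element fixes a point, and no non-identity element fixes two points) of order n(n − 1) and exactly |G|/n of its elements are derangements (fix no point), or the number of derangements is greater than |G|/n. -/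
theorem result {G Ω : Type*} [Group G] [Finite G] [MulAction G Ω] [FaithfulSMul G Ω] [Fintype Ω] (htr : MulAction.IsPretransitive G Ω) (hn : 3 ≤ Fintype.card Ω) :
    ((MulAction.IsPretransitive G Ω ∧ (∃ g : G, g ≠ 1 ∧ ∃ ω : Ω, g • ω = ω) ∧ ∀ g : G, g ≠ 1 → Nat.card (MulAction.fixedBy Ω g) ≤ 1) ∧ Nat.card G = Fintype.card Ω * (Fintype.card Ω - 1) ∧ Fintype.card Ω * Nat.card {g : G // ∀ ω : Ω, g • ω ≠ ω} = Nat.card G) ∨
    Nat.card G < Fintype.card Ω * Nat.card {g : G // ∀ ω : Ω, g • ω ≠ ω} := by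
  classical
  have : Fintype G := Fintype.ofFinite G
  have hder : Nat.card {g : G // ∀ ω : Ω, g • ω ≠ ω} =
      (Finset.univ.filter (fun g : G => ∀ ω : Ω, g • ω ≠ ω)).card := by
    rw [Nat.card_eq_fintype_card, Fintype.card_subtype]
  have hfx : ∀ g : G, Nat.card (MulAction.fixedBy Ω g) = fx (Ω := Ω) g := by
    intro g
    rw [Nat.card_eq_fintype_card]
    apply Fintype.card_of_subtype
    intro x
    simp [MulAction.mem_fixedBy]
  rw [hder, Nat.card_eq_fintype_card]
  rcases main (G := G) (Ω := Ω) hn with ⟨h1, h2, h3, h4⟩ | h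
  · left
    refine ⟨⟨htr, h1, fun g hg => ?_⟩, h3, h4⟩
    rw [hfx]; exact h2 g hg
  · right; exact h

end Cfsg.Agent.S5729
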