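import Mathlib
import Cfsg.Statements.S0046
import Cfsg.Agent.S5729
-- import your own Cfsg.Agent.* helpers here

set_option autoImplicit false
open Cfsg

namespace Cfsg.Agent.S0046

open Subgroup

section simple
variable {G : Type*} [Group G] [Finite G]

/-- the conjugate subgroup `g M g⁻¹` -/
abbrev cj (g : G) (M : Subgroup G) : Subgroup G := M.map (MulAut.conj g).toMonoidHom

lemma mem_cj {g x : G} {M : Subgroup G} : x ∈ cj g M ↔ g⁻¹ * x * g ∈ M := by
  unfold cj
  rw [Subgroup.mem_map_equiv, MulAut.conj_symm_apply]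

lemma isCoatom_cj {g : G} {M : Subgroup G} (hM : IsCoatom M) : IsCoatom (cj g M) :=
  (OrderIso.isCoatom_iff ((MulAut.conj g : G ≃* G).mapSubgroup) M).mpr hM

/-- Step A: distinct maximal subgroups intersect trivially. -/
lemma inf_eq_bot_of_ne [IsSimpleGroup G]
    (hnil : ∀ M : Subgroup G, IsCoatom M → Group.IsNilpotent M) :
    ∀ (n : ℕ) (M₁ M₂ : Subgroup G), IsCoatom M₁ → IsCoatom M₂ → M₁ ≠ M₂ →
      Nat.card G - Nat.card (M₁ ⊓ M₂ : Subgroup G) = n → M₁ ⊓ M₂ = ⊥ := by
  intro n
  induction n using Nat.strong_induction_on with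
  | _ n ih =>
    intro M₁ M₂ h₁ h₂ hne hn
    by_contra hD
    set D := M₁ ⊓ M₂ with hD_def
    -- N_G(D) is proper
    have hDtop : D ≠ ⊤ := by
      intro h
      apply h₁.1
      rw [eq_top_iff, ← h]
      exact inf_le_left
    have hNtop : normalizer (D : Set G) ≠ ⊤ := by
      intro h
      have hn' : D.Normal := normalizer_eq_top_iff.mp h
      rcases hn'.eq_bot_or_eq_top with h' | h'
      · exact hD h'
      · exact hDtop h'
    obtain ⟨M, hM, hNM⟩ := (eq_top_or_exists_le_coatom (normalizer (D : Set G))).resolve_left hNtop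
    have hDM : D ≤ M := le_normalizer.trans hNM
    -- key: for a coatom M' with D ≤ M' and D ≠ M' ... we show M = Mi
    have key : ∀ Mi : Subgroup G, IsCoatom Mi → D ≤ Mi → D ≠ Mi → M = Mi := by
      intro Mi hMi hDMi hDne
      by_contra hMMi
      have : Group.IsNilpotent Mi := hnil Mi hMi
      have hlt : D.subgroupOf Mi < ⊤ := by
        rw [lt_top_iff_ne_top, Ne, subgroupOf_eq_top]
        intro h
        exact hDne (le_antisymm hDMi h)
      have hnc := Group.normalizerCondition_of_isNilpotent (G := Mi) (D.subgroupOf Mi) hlt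
      rw [← subgroupOf_normalizer_eq hDMi] at hnc
      obtain ⟨y, hy1, hy2⟩ := SetLike.exists_of_lt hnc
      have hyN : (y : G) ∈ normalizer (D : Set G) := hy1
      have hyD : (y : G) ∉ D := hy2
      have hyM : (y : G) ∈ M ⊓ Mi := ⟨hNM hyN, y.2⟩
      have hDlt : D < M ⊓ Mi := by
        refine lt_of_le_of_ne (le_inf hDM hDMi) ?_
        intro h
        rw [← h] at hyM
        exact hyD hyM
      have hcardlt : Nat.card D < Nat.card (M ⊓ Mi : Subgroup G) := by
        have h1 : (D : Set G) ⊂ ((M ⊓ Mi : Subgroup G) : Set G) := hDlt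
        have := Set.ncard_lt_ncard h1 (Set.toFinite _)
        rwa [← Nat.card_coe_set_eq, ← Nat.card_coe_set_eq] at this
      have hle : Nat.card (M ⊓ Mi : Subgroup G) ≤ Nat.card G := Subgroup.card_le_card_group _
      have hbot := ih (Nat.card G - Nat.card (M ⊓ Mi : Subgroup G)) (by omega) M Mi hM hMi hMMi rfl
      rw [hbot] at hDlt
      exact hD (le_bot_iff.mp hDlt.le)
    have hD1 : D ≠ M₁ := by
      intro h
      apply hne
      have : M₁ ≤ M₂ := by rw [← h]; exact inf_le_right
      exact h₁.le_iff_eq h₂.1 |>.mp this |>.symm ▸ rfl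
    have hD2 : D ≠ M₂ := by
      intro h
      apply hne
      have : M₂ ≤ M₁ := by rw [← h]; exact inf_le_left
      exact (h₂.le_iff_eq h₁.1 |>.mp this)
    have e1 := key M₁ h₁ inf_le_left hD1
    have e2 := key M₂ h₂ inf_le_right hD2
    exact hne (e1.symm.trans e2)

/-- a maximal subgroup of a simple group that is not trivial is self-normalizing -/
lemma normalizer_eq_self [IsSimpleGroup G] {M : Subgroup G} (hM : IsCoatom M) (hMbot : M ≠ ⊥) :
    normalizer (M : Set G) = M := by
  rcases hM.le_iff.mp (le_normalizer (H := M)) with h | h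
  · exfalso
    have hn : M.Normal := normalizer_eq_top_iff.mp h
    rcases hn.eq_bot_or_eq_top with h' | h'
    · exact hMbot h'
    · exact hM.1 h'
  · exact h

lemma smul_mk_eq_iff {M : Subgroup G} (x g : G) :
    x • (g : G ⧸ M) = (g : G ⧸ M) ↔ x ∈ cj g M := by
  rw [mem_cj, MulAction.Quotient.smul_mk, QuotientGroup.eq, smul_eq_mul]
  constructor
  · intro h
    have := M.inv_mem h
    simpa [mul_assoc] using this
  · intro h
    have := M.inv_mem h
    simpa [mul_assoc] using this

lemma mk_eq_of_mem_cj [IsSimpleGroup G]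
    (hA : ∀ M₁ M₂ : Subgroup G, IsCoatom M₁ → IsCoatom M₂ → M₁ ≠ M₂ → M₁ ⊓ M₂ = ⊥)
    {M : Subgroup G} (hM : IsCoatom M) (hMbot : M ≠ ⊥) {x g₁ g₂ : G} (hx : x ≠ 1)
    (h1 : x ∈ cj g₁ M) (h2 : x ∈ cj g₂ M) : (g₁ : G ⧸ M) = (g₂ : G ⧸ M) := by
  have hC : cj g₁ M = cj g₂ M := by
    by_contra hne
    have := hA _ _ (isCoatom_cj hM) (isCoatom_cj hM) hne
    have hx' : x ∈ cj g₁ M ⊓ cj g₂ M := ⟨h1, h2⟩
    rw [this, mem_bot] at hx'
    exact hx hx'
  rw [QuotientGroup.eq, ← normalizer_eq_self hM hMbot, mem_normalizer_iff]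
  intro m
  have e1 : m ∈ M ↔ g₂ * m * g₂⁻¹ ∈ cj g₂ M := by
    rw [mem_cj]; simp [mul_assoc]
  rw [e1, ← hC, mem_cj]
  simp [mul_assoc]

end simple

section count
variable {G : Type*} [Group G] [Fintype G] [DecidableEq G]

open Classical in
/-- non-identity elements lying in some conjugate of `M` -/
noncomputable def U (M : Subgroup G) : Finset G :=
  Finset.univ.filter (fun x => x ≠ 1 ∧ ∃ g : G, x ∈ cj g M)

open Classical in
lemma card_U [IsSimpleGroup G]
    (hA : ∀ M₁ M₂ : Subgroup G, IsCoatom M₁ → IsCoatom M₂ → M₁ ≠ M₂ → M₁ ⊓ M₂ = ⊥)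
    {M : Subgroup G} (hM : IsCoatom M) (hMbot : M ≠ ⊥) :
    (U M).card + M.index = Fintype.card G := by
  have hpos : 0 < Fintype.card (G ⧸ M) := Fintype.card_pos
  have hsum : ∑ x : G, Cfsg.Agent.S5729.fx (Ω := G ⧸ M) x = Fintype.card G :=
    (Cfsg.Agent.S5729.sum_fx (G := G) (Ω := G ⧸ M)).trans (Cfsg.Agent.S5729.sum_st hpos)
  have hfx1 : Cfsg.Agent.S5729.fx (Ω := G ⧸ M) (1 : G) = M.index := by
    rw [Cfsg.Agent.S5729.fx_one, Subgroup.index_eq_card, Nat.card_eq_fintype_card]
  have hfx : ∀ x : G, x ≠ 1 → Cfsg.Agent.S5729.fx (Ω := G ⧸ M) x =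
      if (∃ g : G, x ∈ cj g M) then 1 else 0 := by
    intro x hx
    unfold Cfsg.Agent.S5729.fx
    split_ifs with h
    · obtain ⟨g, hg⟩ := h
      rw [Finset.card_eq_one]
      refine ⟨(g : G ⧸ M), ?_⟩
      ext ω
      simp only [Finset.mem_filter, Finset.mem_univ, true_and, Finset.mem_singleton]
      constructor
      · intro hω
        induction ω using QuotientGroup.induction_on with
        | H g' =>
          rw [smul_mk_eq_iff] at hω
          exact mk_eq_of_mem_cj hA hM hMbot hx hω hg
      · rintro rfl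
        exact (smul_mk_eq_iff x g).mpr hg
    · rw [Finset.card_eq_zero, Finset.filter_eq_empty_iff]
      intro ω _ hω
      induction ω using QuotientGroup.induction_on with
      | H g' =>
        rw [smul_mk_eq_iff] at hω
        exact h ⟨g', hω⟩
  rw [← hsum, ← Finset.add_sum_erase Finset.univ _ (Finset.mem_univ (1 : G)), hfx1, add_comm]
  congr 1
  rw [Finset.sum_congr rfl (fun x hx => hfx x (Finset.ne_of_mem_erase hx)), ← Finset.card_filter]
  congr 1
  ext x
  simp [U, Finset.mem_erase]

lemma U_subset (M : Subgroup G) : U M ⊆ Finset.univ.erase (1 : G) := by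
  intro x hx
  simp only [U, Finset.mem_filter, Finset.mem_univ, true_and] at hx
  exact Finset.mem_erase.mpr ⟨hx.1, Finset.mem_univ x⟩

/-- a coatom of a non-commutative group is not trivial -/
lemma coatom_ne_bot (hnc : ¬ ∀ a b : G, a * b = b * a) {M : Subgroup G} (hM : IsCoatom M) : M ≠ ⊥ := by
  rintro rfl
  apply hnc
  have hnt : Nontrivial G := by
    by_contra h
    rw [not_nontrivial_iff_subsingleton] at h
    exact hM.1 (Subsingleton.elim _ _)
  obtain ⟨x, hx⟩ := exists_ne (1 : G)
  have hz : zpowers x = ⊤ := by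
    rcases hM.le_iff.mp (bot_le : (⊥ : Subgroup G) ≤ zpowers x) with h | h
    · exact h
    · exfalso
      rw [zpowers_eq_bot] at h
      exact hx h
  have : IsCyclic G := ⟨⟨x, fun y => by
    have : y ∈ zpowers x := by rw [hz]; trivial
    exact this⟩⟩
  intro a b
  exact (IsCyclic.commGroup (α := G)).mul_comm a b

lemma two_mul_index_le {M : Subgroup G} (hMbot : M ≠ ⊥) : 2 * M.index ≤ Fintype.card G := by
  have h1 := M.card_mul_index
  rw [Nat.card_eq_fintype_card (α := G)] at h1
  have h2 : 2 ≤ Nat.card M := by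
    have : Nontrivial M := (Subgroup.nontrivial_iff_ne_bot M).mpr hMbot
    exact Finite.one_lt_card
  calc 2 * M.index ≤ Nat.card M * M.index := Nat.mul_le_mul_right _ h2
    _ = Fintype.card G := h1

open Classical in
/-- the simple non-abelian case is impossible -/
theorem simple_case [IsSimpleGroup G] (hnc : ¬ ∀ a b : G, a * b = b * a)
    (hnil : ∀ M : Subgroup G, IsCoatom M → Group.IsNilpotent M) : False := by
  have hA : ∀ M₁ M₂ : Subgroup G, IsCoatom M₁ → IsCoatom M₂ → M₁ ≠ M₂ → M₁ ⊓ M₂ = ⊥ :=
    fun M₁ M₂ h₁ h₂ hne => inf_eq_bot_of_ne hnil _ M₁ M₂ h₁ h₂ hne rfl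
  have hbt : (⊥ : Subgroup G) ≠ ⊤ := bot_ne_top
  obtain ⟨M, hM, -⟩ := (eq_top_or_exists_le_coatom (⊥ : Subgroup G)).resolve_left hbt
  have hMbot := coatom_ne_bot hnc hM
  have hcM := card_U hA hM hMbot
  have hkM := two_mul_index_le hMbot
  have hidx2 : 2 ≤ M.index := by
    have h1 : M.index ≠ 1 := fun h => hM.1 (Subgroup.index_eq_one.mp h)
    have h0 : M.index ≠ 0 := M.index_ne_zero_of_finite
    omega
  -- an element outside all conjugates of M
  have hex : ∃ x : G, x ≠ 1 ∧ x ∉ U M := by
    by_contra hcon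
    push Not at hcon
    have hsub : Finset.univ.erase (1 : G) ⊆ U M := by
      intro x hx
      exact hcon x (Finset.ne_of_mem_erase hx)
    have := Finset.card_le_card hsub
    rw [Finset.card_erase_of_mem (Finset.mem_univ _), Finset.card_univ] at this
    omega
  obtain ⟨x, hx1, hxU⟩ := hex
  have hzx : zpowers x ≠ ⊤ := by
    intro h
    apply hnc
    have : IsCyclic G := ⟨⟨x, fun y => by
      have : y ∈ zpowers x := by rw [h]; trivial
      exact this⟩⟩
    intro a b
    exact (IsCyclic.commGroup (α := G)).mul_comm a b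
  obtain ⟨M', hM', hxM'⟩ := (eq_top_or_exists_le_coatom (zpowers x)).resolve_left hzx
  have hxM'' : x ∈ M' := hxM' (mem_zpowers x)
  have hM'bot := coatom_ne_bot hnc hM'
  have hcM' := card_U hA hM' hM'bot
  have hkM' := two_mul_index_le hM'bot
  -- the two sets are disjoint
  have hdisj : Disjoint (U M) (U M') := by
    rw [Finset.disjoint_left]
    intro y hy hy'
    simp only [U, Finset.mem_filter, Finset.mem_univ, true_and] at hy hy'
    obtain ⟨hy1, g, hg⟩ := hy
    obtain ⟨-, h, hh⟩ := hy'
    have hne : cj g M ≠ cj h M' := by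
      intro heq
      apply hxU
      simp only [U, Finset.mem_filter, Finset.mem_univ, true_and]
      refine ⟨hx1, h⁻¹ * g, ?_⟩
      -- x ∈ M' so h x h⁻¹ ∈ cj h M' = cj g M
      have h1 : h * x * h⁻¹ ∈ cj h M' := by rw [mem_cj]; simpa [mul_assoc] using hxM''
      rw [← heq, mem_cj] at h1
      rw [mem_cj]
      simpa [mul_assoc] using h1
    have := hA _ _ (isCoatom_cj hM) (isCoatom_cj hM') hne
    have hy2 : y ∈ cj g M ⊓ cj h M' := ⟨hg, hh⟩
    rw [this, mem_bot] at hy2
    exact hy1 hy2
  have hunion : (U M ∪ U M').card ≤ Fintype.card G - 1 := by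
    have hsub : U M ∪ U M' ⊆ Finset.univ.erase (1 : G) := Finset.union_subset (U_subset M) (U_subset M')
    have := Finset.card_le_card hsub
    rwa [Finset.card_erase_of_mem (Finset.mem_univ _), Finset.card_univ] at this
  rw [Finset.card_union_of_disjoint hdisj] at hunion
  omega

end count

theorem main : ∀ (n : ℕ) (G : Type*) [Group G] [Finite G], Nat.card G = n →
    (∀ M : Subgroup G, IsCoatom M → Group.IsNilpotent M) → Group.IsSolvable G := by
  intro n
  induction n using Nat.strong_induction_on with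
  | _ n ih =>
    intro G _ _ hn hnil
    by_cases htriv : Subsingleton G
    · infer_instance
    rw [not_subsingleton_iff_nontrivial] at htriv
    by_cases hN : ∃ N : Subgroup G, N.Normal ∧ N ≠ ⊥ ∧ N ≠ ⊤
    · obtain ⟨N, hNn, hNbot, hNtop⟩ := hN
      -- N is solvable
      obtain ⟨M, hM, hNM⟩ := (eq_top_or_exists_le_coatom N).resolve_left hNtop
      have hMnil : Group.IsNilpotent M := hnil M hM
      have hNsolv : Group.IsSolvable N :=
        Group.isSolvable_of_isSolvable_injective (f := Subgroup.inclusion hNM)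
          (Subgroup.inclusion_injective hNM)
      -- the quotient is solvable
      have hNcard : 1 < Nat.card N := by
        have : Nontrivial N := (Subgroup.nontrivial_iff_ne_bot N).mpr hNbot
        exact Finite.one_lt_card
      have hquot_lt : Nat.card (G ⧸ N) < n := by
        rw [← hn, ← N.card_mul_index, ← Subgroup.index_eq_card]
        have hidx : 0 < N.index := Nat.pos_of_ne_zero N.index_ne_zero_of_finite
        nlinarith
      have hquot : Group.IsSolvable (G ⧸ N) := by
        apply ih _ hquot_lt (G ⧸ N) rfl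
        intro M' hM'
        have hsurj : Function.Surjective (QuotientGroup.mk' N) := QuotientGroup.mk'_surjective _
        have hco := Subgroup.isCoatom_comap_of_surjective hsurj hM'
        have hnil' : Group.IsNilpotent (M'.comap (QuotientGroup.mk' N)) := hnil _ hco
        have hmap : (M'.comap (QuotientGroup.mk' N)).map (QuotientGroup.mk' N) = M' :=
          Subgroup.map_comap_eq_self_of_surjective hsurj M'
        have h2 : Group.IsNilpotent ((M'.comap (QuotientGroup.mk' N)).map (QuotientGroup.mk' N)) :=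
          Group.nilpotent_of_surjective ((QuotientGroup.mk' N).subgroupMap (M'.comap (QuotientGroup.mk' N)))
            ((QuotientGroup.mk' N).subgroupMap_surjective _)
        rwa [hmap] at h2
      exact Group.isSolvable_of_ker_le_range N.subtype (QuotientGroup.mk' N)
        (by rw [QuotientGroup.ker_mk', Subgroup.range_subtype])
    · -- G is simple
      push Not at hN
      have hsimple : IsSimpleGroup G := by
        refine ⟨fun H hH => ?_⟩
        by_contra hcon
        push Not at hcon
        exact hcon.2 (hN H hH hcon.1)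
      by_cases hcomm : ∀ a b : G, a * b = b * a
      · exact Group.isSolvable_of_comm hcomm
      · exfalso
        classical
        have : Fintype G := Fintype.ofFinite G
        exact simple_case hcomm hnil

/-- Schmidt's Theorem on minimal non-nilpotent groups: a finite group in which every maximal subgroup is nilpotent is solvable. -/
theorem result {G : Type*} [Group G] [Finite G]
    (h : ∀ M : Subgroup G, IsCoatom M → Group.IsNilpotent M) : Group.IsSolvable G := by
  exact main (Nat.card G) G rfl h

end Cfsg.Agent.S0046
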