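import Mathlib
import Cfsg.Statements.S0536
import Cfsg.Agent.S0046
-- import your own Cfsg.Agent.* helpers here

set_option autoImplicit false
open Cfsg

namespace Cfsg.Agent.S0536

open Subgroup

section
variable {G : Type*} [Group G] [Finite G]


/-- A nontrivial finite solvable group has a normal subgroup of prime index. -/
lemma exists_normal_prime_index [Nontrivial G] [Group.IsSolvable G] :
    ∃ M : Subgroup G, M.Normal ∧ M.index.Prime := by
  have hlt : commutator G < ⊤ := Group.IsSolvable.commutator_lt_top_of_nontrivial G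
  obtain ⟨M, hM, hcM⟩ := (eq_top_or_exists_le_coatom (commutator G)).resolve_left hlt.ne
  have hMn : M.Normal := by
    rw [← commutator_top_left_le_iff]
    refine le_trans (commutator_mono le_rfl le_top) ?_
    exact hcM
  refine ⟨M, hMn, ?_⟩
  have hcomm : IsMulCommutative (G ⧸ M) :=
    Subgroup.Normal.quotient_commutative_iff_commutator_le.mpr hcM
  have hsurj : Function.Surjective (QuotientGroup.mk' M) := QuotientGroup.mk'_surjective _
  have hnt : Nontrivial (G ⧸ M) := by
    rw [← Finite.one_lt_card_iff_nontrivial, ← Subgroup.index_eq_card]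
    have h1 : M.index ≠ 1 := fun h => hM.1 (Subgroup.index_eq_one.mp h)
    have h0 : M.index ≠ 0 := M.index_ne_zero_of_finite
    omega
  have hsimple : IsSimpleGroup (G ⧸ M) := by
    refine ⟨fun N hN => ?_⟩
    have hle : M ≤ N.comap (QuotientGroup.mk' M) := by
      intro x hx
      rw [Subgroup.mem_comap, QuotientGroup.mk'_apply, (QuotientGroup.eq_one_iff x).mpr hx]
      exact N.one_mem
    rcases eq_or_lt_of_le hle with h | h
    · left
      rw [← Subgroup.map_comap_eq_self_of_surjective hsurj N, ← h]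
      exact QuotientGroup.map_mk'_self M
    · right
      have := hM.2 _ h
      rw [← Subgroup.map_comap_eq_self_of_surjective hsurj N, this]
      exact Subgroup.map_top_of_surjective _ hsurj
  have := Group.is_simple_iff_prime_card.mp hsimple
  rwa [← Subgroup.index_eq_card] at this


/-- A Sylow `s`-subgroup lies in any normal subgroup of prime index `r ≠ s`. -/
lemma sylow_le_of_index_prime {M : Subgroup G} [M.Normal] {r s : ℕ} (hr : M.index = r)
    (hrp : r.Prime) (hs : s.Prime) (hsr : s ≠ r) (S : Sylow s G) : (S : Subgroup G) ≤ M := by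
  rw [← Subgroup.relIndex_eq_one]
  have h1 : M.relIndex S ∣ r := hr ▸ Subgroup.relIndex_dvd_index_of_normal M S
  have := Fact.mk hs
  obtain ⟨n, hn⟩ := S.2.index (M.subgroupOf S)
  have h2 : M.relIndex S = s ^ n := hn
  rw [h2] at h1 ⊢
  rcases Nat.eq_zero_or_pos n with h0 | h0
  · rw [h0, pow_zero]
  · exfalso
    have : s ∣ r := dvd_trans (dvd_pow_self s h0.ne') h1
    rcases (Nat.dvd_prime hrp).mp this with h | h
    · exact hs.one_lt.ne' h
    · exact hsr h

/-- A Sylow subgroup inside a nilpotent normal subgroup is normal. -/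
lemma normal_of_le_nilpotent_normal {M : Subgroup G} [M.Normal] (hM : Group.IsNilpotent M)
    {s : ℕ} (hs : s.Prime) (S : Sylow s G) (hS : (S : Subgroup G) ≤ M) :
    (S : Subgroup G).Normal := by
  have := Fact.mk hs
  have h1 : ((S.subtype hS : Sylow s M) : Subgroup M).Normal := inferInstance
  have h2 : ((S.subtype hS : Sylow s M) : Subgroup M).Characteristic :=
    Sylow.characteristic_of_normal _ h1
  have h3 : (((S.subtype hS : Sylow s M) : Subgroup M).map M.subtype).Normal :=
    ConjAct.normal_of_characteristic_of_normal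
  rwa [Sylow.coe_subtype, Subgroup.map_subgroupOf_eq_of_le hS] at h3
/-- If `P ⊔ K` is nilpotent with `P` Sylow in `G`, then `K ≤ N_G(P)`. -/
lemma le_normalizer_of_sup_nilpotent {p : ℕ} (hp : p.Prime) (P : Sylow p G) (K : Subgroup G)
    (hK : Group.IsNilpotent (↥((P : Subgroup G) ⊔ K))) :
    K ≤ normalizer ((P : Subgroup G) : Set G) := by
  have := Fact.mk hp
  have hle : (P : Subgroup G) ≤ (P : Subgroup G) ⊔ K := le_sup_left
  have h1 : ((P.subtype hle : Sylow p ↥((P : Subgroup G) ⊔ K)) : Subgroup ↥((P : Subgroup G) ⊔ K)).Normal :=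
    inferInstance
  rw [Sylow.coe_subtype, Subgroup.normal_subgroupOf_iff_le_normalizer hle] at h1
  exact le_sup_right.trans h1

/-- In a finite nilpotent group, elements of coprime prime power orders commute. -/
lemma commute_of_nilpotent {H : Type*} [Group H] [Finite H] [Group.IsNilpotent H] {p q : ℕ}
    (hp : p.Prime) (hq : q.Prime) (hpq : p ≠ q) {a b : H}
    (ha : ∃ k, a ^ p ^ k = 1) (hb : ∃ k, b ^ q ^ k = 1) : Commute a b := by
  have := Fact.mk hp
  have := Fact.mk hq
  have key : ∀ {s : ℕ} (hs : s.Prime) {c : H}, (∃ k, c ^ s ^ k = 1) → IsPGroup s (zpowers c) := by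
    intro s hs c ⟨k, hk⟩
    have h1 : orderOf c ∣ s ^ k := orderOf_dvd_of_pow_eq_one hk
    obtain ⟨j, -, hj⟩ := (Nat.dvd_prime_pow hs).mp h1
    exact IsPGroup.of_card (n := j) (by rw [Nat.card_zpowers, hj])
  obtain ⟨P', hP'⟩ := (key hp ha).exists_le_sylow
  obtain ⟨Q', hQ'⟩ := (key hq hb).exists_le_sylow
  exact Subgroup.commute_of_normal_of_disjoint (P' : Subgroup H) (Q' : Subgroup H) inferInstance
    inferInstance (IsPGroup.disjoint_of_ne p q hpq _ _ P'.2 Q'.2) a b (hP' (mem_zpowers a))
    (hQ' (mem_zpowers b))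

lemma exists_sup_eq_top (hG : IsMinimalNonNilpotent G) :
    ∃ p q : ℕ, p.Prime ∧ q.Prime ∧ p ≠ q ∧ ∃ (P : Sylow p G) (Q : Sylow q G),
      ¬ (P : Subgroup G).Normal ∧ (Q : Subgroup G).Normal ∧ (P : Subgroup G) ⊔ Q = ⊤ := by
  have hsol : Group.IsSolvable G := S0046.main (Nat.card G) G rfl (fun M hM => hG.2 M hM.1)
  have hnt : Nontrivial G := by
    by_contra h
    rw [not_nontrivial_iff_subsingleton] at h
    exact hG.1 inferInstance
  obtain ⟨M, hMn, hMp⟩ := exists_normal_prime_index (G := G)
  set r := M.index with hr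
  have hMtop : M ≠ ⊤ := by
    intro h
    rw [h, Subgroup.index_top] at hr
    exact hMp.one_lt.ne' hr
  have hMnil : Group.IsNilpotent M := hG.2 M hMtop
  have hnorm : ∀ s : ℕ, s.Prime → s ≠ r → ∀ S : Sylow s G, (S : Subgroup G).Normal := by
    intro s hs hsr S
    exact normal_of_le_nilpotent_normal hMnil hs S (sylow_le_of_index_prime hr.symm hMp hs hsr S)
  have hP : ∃ P : Sylow r G, ¬ (P : Subgroup G).Normal := by
    by_contra hcon
    push Not at hcon
    apply hG.1
    apply ((Group.isNilpotent_of_finite_tfae (G := G)).out 0 3 rfl rfl).mpr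
    intro p hp P
    by_cases hpr : p = r
    · subst hpr
      exact hcon P
    · exact hnorm p hp.out hpr P
  obtain ⟨P, hPn⟩ := hP
  by_contra hcon
  apply hPn
  rw [← normalizer_eq_top_iff, ← Subgroup.index_eq_one]
  by_contra hidx
  obtain ⟨q, hq, hqd⟩ := Nat.exists_prime_and_dvd hidx
  have := Fact.mk hq
  have := Fact.mk hMp
  by_cases hqr : q = r
  · subst hqr
    exact P.not_dvd_index (dvd_trans hqd (Subgroup.index_dvd_of_le le_normalizer))
  · have Q : Sylow q G := default
    have hQn := hnorm q hq hqr Q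
    have hle : (Q : Subgroup G) ≤ normalizer ((P : Subgroup G) : Set G) := by
      apply le_normalizer_of_sup_nilpotent hMp P
      apply hG.2
      intro htop
      exact hcon ⟨r, q, hMp, hq, Ne.symm hqr, P, Q, hPn, hQn, htop⟩
    exact Q.not_dvd_index (dvd_trans hqd (Subgroup.index_dvd_of_le hle))


lemma isCyclic_of (hG : IsMinimalNonNilpotent G) {p q : ℕ} (hp : p.Prime) (hq : q.Prime)
    (hpq : p ≠ q) (P : Sylow p G) (Q : Sylow q G) (hPn : ¬ (P : Subgroup G).Normal)
    (hQ : (Q : Subgroup G).Normal) (htop : (P : Subgroup G) ⊔ Q = ⊤) : IsCyclic P := by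
  have := Fact.mk hp
  have := Fact.mk hq
  by_contra hnc
  apply hPn
  rw [← normalizer_eq_top_iff, eq_top_iff, ← htop]
  refine sup_le le_normalizer ?_
  refine le_trans ?_ (centralizer_le_normalizer _)
  intro z hz
  rw [mem_centralizer_iff]
  intro x hx
  have hx : x ∈ (P : Subgroup G) := hx
  have hne : zpowers x ⊔ (Q : Subgroup G) ≠ ⊤ := by
    intro h
    apply hnc
    refine ⟨⟨⟨x, hx⟩, fun y => ?_⟩⟩
    have hy : (y : G) ∈ zpowers x ⊔ (Q : Subgroup G) := h ▸ mem_top _
    rw [← SetLike.mem_coe, Subgroup.mul_normal, Set.mem_mul] at hy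
    obtain ⟨a, ha, b, hb, hab⟩ := hy
    have hbP : b ∈ (P : Subgroup G) := by
      have : b = a⁻¹ * y := by rw [← hab]; group
      rw [this]
      exact mul_mem (inv_mem ((zpowers_le (H := (P : Subgroup G))).mpr hx ha)) y.2
    have hb1 : b = 1 := by
      have hdisj := IsPGroup.disjoint_of_ne p q hpq _ _ P.2 Q.2
      exact Subgroup.disjoint_def.mp hdisj hbP hb
    obtain ⟨k, hk⟩ := mem_zpowers_iff.mp ha
    refine ⟨k, Subtype.ext ?_⟩
    simp only
    rw [Subgroup.coe_zpow]
    simp only
    rw [hk, ← hab, hb1, mul_one]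
  have hnil : Group.IsNilpotent ↥(zpowers x ⊔ (Q : Subgroup G)) := hG.2 _ hne
  have hx' : x ∈ zpowers x ⊔ (Q : Subgroup G) := le_sup_left (a := zpowers x) (mem_zpowers x)
  have hz' : z ∈ zpowers x ⊔ (Q : Subgroup G) := le_sup_right (a := zpowers x) hz
  have hc : Commute (⟨x, hx'⟩ : ↥(zpowers x ⊔ (Q : Subgroup G))) ⟨z, hz'⟩ := by
    apply commute_of_nilpotent hp hq hpq
    · obtain ⟨k, hk⟩ := P.2 ⟨x, hx⟩
      refine ⟨k, Subtype.ext ?_⟩
      have := congrArg Subtype.val hk
      simpa using this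
    · obtain ⟨k, hk⟩ := Q.2 ⟨z, hz⟩
      refine ⟨k, Subtype.ext ?_⟩
      have := congrArg Subtype.val hk
      simpa using this
  have := congrArg Subtype.val hc.eq
  exact this

end

/-- Structure of minimal non-nilpotent groups: if a finite group is not nilpotent but all its proper subgroups are, then there are distinct primes p and q, a cyclic Sylow p-subgroup P and a normal Sylow q-subgroup Q with G generated by P and Q. -/
theorem result {G : Type*} [Group G] [Finite G] (hG : Cfsg.IsMinimalNonNilpotent G) : ∃ p q : ℕ, p.Prime ∧ q.Prime ∧ p ≠ q ∧ ∃ (P : Sylow p G) (Q : Sylow q G), IsCyclic P ∧ (Q : Subgroup G).Normal ∧ (P : Subgroup G) ⊔ Q = ⊤ := by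
  obtain ⟨p, q, hp, hq, hpq, P, Q, hPn, hQ, htop⟩ := exists_sup_eq_top hG
  exact ⟨p, q, hp, hq, hpq, P, Q, isCyclic_of hG hp hq hpq P Q hPn hQ htop, hQ, htop⟩

end Cfsg.Agent.S0536
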