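import Cfsg.Statements.S0862
import Cfsg.Agent.Helper15.DetChar
import Cfsg.Agent.Helper15.Gallagher
import Cfsg.Agent.Helper81.LinTwist

set_option autoImplicit false
open Cfsg

namespace Cfsg.Agent.S0862

open Cfsg.Agent.Helper15

/-- In the group of homomorphisms into a commutative group that are trivial on the normal
subgroup `N`, every element has a unique `d`-th root when `d` is coprime to the index of `N`. -/
theorem exists_unique_root {G : Type*} [Group G] [Finite G] (N : Subgroup G) [N.Normal]
    {A : Type*} [CommGroup A] (ν : G →* A) (hν : ∀ n ∈ N, ν n = 1) (d : ℕ)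
    (hcop : Nat.Coprime N.index d) :
    ∃ lam : G →* A, (∀ n ∈ N, lam n = 1) ∧ lam ^ d = ν ∧
      ∀ lam' : G →* A, (∀ n ∈ N, lam' n = 1) → lam' ^ d = ν → lam' = lam := by
  have hνk : ν ^ N.index = 1 := by
    ext g
    rw [MonoidHom.pow_apply, MonoidHom.one_apply]
    exact hom_pow_index_eq_one N ν hν g
  have hord : orderOf ν ∣ N.index := orderOf_dvd_of_pow_eq_one hνk
  have hcop' : Nat.Coprime d (orderOf ν) := (Nat.Coprime.coprime_dvd_left hord hcop).symm
  obtain ⟨m, hm⟩ := exists_pow_eq_self_of_coprime hcop'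
  refine ⟨ν ^ m, ?_, ?_, ?_⟩
  · intro n hn
    rw [MonoidHom.pow_apply, hν n hn, one_pow]
  · rw [← pow_mul, mul_comm, pow_mul, hm]
  · intro lam' hlam' hpow
    have h1 : (ν ^ m) ^ d = ν := by rw [← pow_mul, mul_comm, pow_mul, hm]
    ext g
    set r : A := lam' g / (ν ^ m) g with hr
    have hrd : r ^ d = 1 := by
      rw [hr, div_pow, ← MonoidHom.pow_apply, ← MonoidHom.pow_apply, hpow, h1, div_self']
    have hrk : r ^ N.index = 1 := by
      have := hom_pow_index_eq_one N (lam' / ν ^ m) (fun n hn => by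
        rw [MonoidHom.div_apply, hlam' n hn, MonoidHom.pow_apply, hν n hn, one_pow, div_one]) g
      exact this
    have d1 := orderOf_dvd_of_pow_eq_one hrd
    have d2 := orderOf_dvd_of_pow_eq_one hrk
    have : orderOf r = 1 := Nat.eq_one_of_dvd_coprimes hcop d2 d1
    have hr1 : r = 1 := orderOf_eq_one_iff.mp this
    rw [hr, div_eq_one] at hr1
    exact hr1

/-- Let N be a normal subgroup of the finite group G and ϑ an irreducible character of N of degree d coprime to the index of N, which is the restriction of some irreducible character of G. Let μ be a character of G of degree 1 whose restriction to N is the determinantal character of ϑ. Then there is exactly one irreducible character χ of G restricting to ϑ whose determinantal character is μ. -/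
theorem result {G : Type*} [Group G] [Finite G] (N : Subgroup G) [N.Normal] (ϑ : N → ℂ) (hϑ : Cfsg.IsIrrCharacter N ϑ) (d : ℕ) (hd : ϑ 1 = d) (hcop : Nat.Coprime N.index d) (hext : ∃ η : G → ℂ, Cfsg.IsIrrCharacter G η ∧ (∀ n : N, η n = ϑ n)) (μ : G → ℂ) (hμ : Cfsg.IsCharacter G μ ∧ μ 1 = 1) (hμN : ∀ n : N, μ n = Cfsg.detChar ϑ n) : ∃! χ : G → ℂ, Cfsg.IsIrrCharacter G χ ∧ (∀ n : N, χ n = ϑ n) ∧ Cfsg.detChar χ = μ := by
  classical
  have : Fintype G := Fintype.ofFinite G
  have : Fintype N := Fintype.ofFinite N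
  obtain ⟨η, hη, hηN⟩ := hext
  have hηc : IsCharacter G η := Helper74.isCharacter_of_isIrr hη
  have hη1 : η 1 = d := by
    have := hηN 1
    rw [← hd, ← this]; rfl
  have hηres : (fun n : N => η n) = ϑ := funext hηN
  have hDη := isCharacter_detChar hηc
  -- the homs
  let μu : G →* ℂˣ := linCharUnits hμ.1 hμ.2
  let δu : G →* ℂˣ := linCharUnits hDη.1 hDη.2
  -- on `N`, both are `detChar ϑ`
  have hδN : ∀ n : N, detChar η n = detChar ϑ n := by
    intro n
    rw [← detChar_restrict N hηc n, hηres]
  let ν : G →* ℂˣ := μu / δu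
  have hνN : ∀ n ∈ N, ν n = 1 := by
    intro n hn
    show μu n / δu n = 1
    rw [div_eq_one]
    apply Units.ext
    rw [linCharUnits_apply, linCharUnits_apply]
    rw [hμN ⟨n, hn⟩, hδN ⟨n, hn⟩]
  obtain ⟨lam, hlamN, hlamd, hlamu⟩ := exists_unique_root N ν hνN d hcop
  have hνval : ∀ g : G, ((ν g : ℂˣ) : ℂ) * detChar η g = μ g := by
    intro g
    show ((μu g / δu g : ℂˣ) : ℂ) * detChar η g = μ g
    rw [Units.val_div_eq_div_val, linCharUnits_apply, linCharUnits_apply]
    have : detChar η g ≠ 0 := linChar_ne_zero hDη.1 hDη.2 g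
    field_simp
  -- a twist of `η` by a hom trivial on `N` with prescribed determinant
  have htwist : ∀ β : G →* ℂˣ, (∀ g : G, detChar (unitsFun β * η) g
      = ((β g : ℂˣ) : ℂ) ^ d * detChar η g) := by
    intro β g
    have h := isCharacter_unitsFun β
    rw [detChar_twist h.1 h.2 hηc d hη1 g]
    rfl
  refine ⟨unitsFun lam * η, ⟨?_, ?_, ?_⟩, ?_⟩
  · exact Helper81.isIrrCharacter_twist lam hη
  · intro n
    rw [Pi.mul_apply, unitsFun_apply, hlamN n n.2, Units.val_one, one_mul, hηN]
  · funext g
    rw [htwist lam g, ← hνval g, ← hlamd]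
    rfl
  · rintro χ' ⟨hχ', hχ'N, hχ'det⟩
    -- Gallagher
    have hgal := gallagher_bijOn N hη (by rw [hηres]; exact hϑ)
    have hmem : χ' ∈ {ψ : G → ℂ | IsIrrCharacter G ψ ∧
        classInner (indFun N (fun n : N => η n)) ψ ≠ 0} := by
      refine ⟨hχ', ?_⟩
      rw [frobenius_reciprocity N _ χ'
        (Helper74.isClassFunction_of_isCharacter (Helper74.isCharacter_of_isIrr hχ'))]
      have h1 : (fun n : N => χ' n) = ϑ := funext hχ'N
      rw [h1, hηres]
      have := (isIrrCharacter_iff_inner_self (Helper74.isCharacter_of_isIrr hϑ)).mp hϑ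
      rw [this]
      exact one_ne_zero
    obtain ⟨β, ⟨hβ, hβN⟩, hβχ⟩ := hgal.surjOn hmem
    simp only at hβχ
    have hβc := Helper74.isCharacter_of_isIrr hβ
    -- `β` is trivial on `N`
    have hβN' : classInner (fun n : N => β n) (fun _ => (1 : ℂ)) ≠ 0 := by
      rw [frobenius_reciprocity N _ β (Helper74.isClassFunction_of_isCharacter hβc)] at hβN
      intro h0
      apply hβN
      rw [← classInner_conj_symm, h0, map_zero]
    have hβker := normal_mul_of_inner_one_ne_zero N hβ hβN'
    -- degree of `β`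
    obtain ⟨d', hd'pos, hd'⟩ := irr_degree_pos hϑ
    have hdd' : (d : ℂ) ≠ 0 := by
      rw [← hd, hd']
      exact_mod_cast hd'pos.ne'
    have hβ1 : β 1 = 1 := by
      have h1 := congrFun hβχ 1
      rw [Pi.mul_apply, hη1] at h1
      have h2 : χ' 1 = d := by
        have := hχ'N 1
        rw [← hd, ← this]; rfl
      rw [h2] at h1
      field_simp at h1
      exact h1
    let βu : G →* ℂˣ := linCharUnits hβc hβ1
    have hβuN : ∀ n ∈ N, βu n = 1 := by
      intro n hn
      apply Units.ext
      rw [linCharUnits_apply, Units.val_one]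
      have := hβker ⟨n, hn⟩ 1
      simp only [mul_one] at this
      rw [this, hβ1]
    have hβfun : unitsFun βu = β := rfl
    have hβd : βu ^ d = ν := by
      ext g
      have h1 := htwist βu g
      rw [hβfun, hβχ, hχ'det, ← hνval g] at h1
      have h2 : detChar η g ≠ 0 := linChar_ne_zero hDη.1 hDη.2 g
      have h3 := mul_right_cancel₀ h2 h1
      rw [MonoidHom.pow_apply, Units.val_pow_eq_pow_val]
      exact h3.symm
    have := hlamu βu hβuN hβd
    rw [← hβχ, ← hβfun, this]

end Cfsg.Agent.S0862
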