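import Cfsg.Statements.S0886
import Cfsg.Agent.Helper15.CyclicExt
import Cfsg.Agent.Helper81.Gallagher

set_option autoImplicit false
open Cfsg

namespace Cfsg.Agent.S0886

open Cfsg.Agent.Helper15

/-- Let N be a normal subgroup of the finite group G with G / N cyclic, and ϑ an irreducible character of N invariant under conjugation by G. Then ϑ is the restriction of some irreducible character of G. -/
theorem result {G : Type*} [Group G] [Finite G] (N : Subgroup G) [hN : N.Normal] (hcyc : IsCyclic (G ⧸ N)) (ϑ : N → ℂ) (hϑ : Cfsg.IsIrrCharacter N ϑ) (hinv : ∀ (g : G) (n : N), ϑ ⟨g * n * g⁻¹, hN.conj_mem (n : G) n.2 g⟩ = ϑ n) : ∃ χ : G → ℂ, Cfsg.IsIrrCharacter G χ ∧ ∀ n : N, χ n = ϑ n := by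
  classical
  obtain ⟨d, ρ, hρirr, hρϑ⟩ := hϑ
  have : Fintype N := Fintype.ofFinite N
  -- a generator of `G ⧸ N`
  obtain ⟨q, hq⟩ := IsCyclic.exists_generator (α := G ⧸ N)
  obtain ⟨g, rfl⟩ := QuotientGroup.mk_surjective q
  have hgen : ∀ x : G, ∃ k : ℤ, x * g ^ (-k) ∈ N := by
    intro x
    obtain ⟨k, hk⟩ := Subgroup.mem_zpowers_iff.mp (hq (x : G ⧸ N))
    refine ⟨k, ?_⟩
    rw [← QuotientGroup.eq_one_iff, QuotientGroup.mk_mul, QuotientGroup.mk_zpow, ← hk, ← zpow_add]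
    simp
  -- the conjugated representation
  let cj : N →* N :=
    { toFun := fun m => ⟨g * m * g⁻¹, hN.conj_mem m m.2 g⟩
      map_one' := by apply Subtype.ext; simp
      map_mul' := fun a b => by apply Subtype.ext; simp [mul_assoc] }
  let ρg : Representation ℂ N (Fin d → ℂ) := ρ.comp cj
  have hρg_char : ρg.character = ρ.character := by
    funext m
    show ρ.character (cj m) = ρ.character m
    rw [hρϑ]
    exact hinv g m
  have hρg_irr : ρg.IsIrreducible :=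
    Helper81.isIrreducible_of_isIrrCharacter ρg (by rw [hρg_char]; exact ⟨d, ρ, hρirr, rfl⟩)
  have hne : Nonempty (Representation.Equiv ρ ρg) := by
    by_contra hcon
    have h := Representation.char_orthonormal ρg ρ
    rw [if_neg hcon, hρg_char] at h
    have h2 := Helper81.sum_char_mul_char_inv ρ
    rw [h2] at h
    have hc : (Nat.card N : ℂ) ≠ 0 := by exact_mod_cast Nat.card_pos.ne'
    rw [inv_mul_cancel₀ hc] at h
    simp at h
  obtain ⟨φ⟩ := hne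
  have hirr := hρirr
  have hVnt : Nontrivial (Fin d → ℂ) := Helper81.nontrivial_of_irreducible ρ
  let e : (Fin d → ℂ) ≃ₗ[ℂ] (Fin d → ℂ) := φ.toLinearEquiv
  have he : ∀ m : N, e.toLinearMap ∘ₗ ρ m = ρg m ∘ₗ e.toLinearMap := fun m => φ.1.2 m
  let ρu : N →* (Module.End ℂ (Fin d → ℂ))ˣ := MonoidHom.toHomUnits ρ
  have hρu : ∀ m : N, ((ρu m : (Module.End ℂ (Fin d → ℂ))ˣ) : Module.End ℂ (Fin d → ℂ)) = ρ m :=
    fun m => rfl
  let B : (Module.End ℂ (Fin d → ℂ))ˣ :=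
    ⟨e.toLinearMap, e.symm.toLinearMap, by ext v; simp, by ext v; simp⟩
  have hB : ∀ m : N, B * ρu m * B⁻¹ = ρu ⟨g * m * g⁻¹, hN.conj_mem m m.2 g⟩ := by
    intro m
    rw [mul_inv_eq_iff_eq_mul]
    apply Units.ext
    exact he m
  -- the order of `g` modulo `N`
  set m₀ := orderOf (g : G ⧸ N) with hm₀
  have hm₀pos : 0 < m₀ := orderOf_pos _
  have hgm : g ^ m₀ ∈ N := by
    rw [← QuotientGroup.eq_one_iff, QuotientGroup.mk_pow, hm₀, pow_orderOf_eq_one]
  let n₀ : N := ⟨g ^ m₀, hgm⟩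
  have hBm := conj_rel_zpow N g ρu B hB (m₀ : ℤ)
  let T : (Module.End ℂ (Fin d → ℂ))ˣ := (ρu n₀)⁻¹ * B ^ m₀
  have hT : ∀ n : N, T * ρu n = ρu n * T := by
    intro n
    have h1 := hBm n
    simp only [zpow_natCast] at h1
    have h2 : (⟨g ^ m₀ * n * (g ^ m₀)⁻¹, hN.conj_mem n n.2 (g ^ m₀)⟩ : N) = n₀ * n * n₀⁻¹ :=
      Subtype.ext (by simp [n₀])
    rw [h2, map_mul, map_mul, map_inv] at h1
    have h3 : B ^ m₀ * ρu n = ρu n₀ * ρu n * (ρu n₀)⁻¹ * B ^ m₀ := by rw [← h1]; group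
    calc T * ρu n = (ρu n₀)⁻¹ * (B ^ m₀ * ρu n) := by simp only [T]; group
      _ = ρu n * T := by rw [h3]; simp only [T]; group
  obtain ⟨c, hc⟩ := Helper81.schur_scalar ρ (T : Module.End ℂ (Fin d → ℂ))
    (fun n => congrArg Units.val (hT n))
  have hc0 : c ≠ 0 := by
    rintro rfl
    rw [zero_smul] at hc
    have h1 : (T : Module.End ℂ (Fin d → ℂ)) * (T⁻¹ : (Module.End ℂ (Fin d → ℂ))ˣ) = 1 :=
      Units.mul_inv T
    rw [hc, zero_mul] at h1
    obtain ⟨v, hv⟩ := exists_ne (0 : Fin d → ℂ)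
    have := congrArg (fun f : Module.End ℂ (Fin d → ℂ) => f v) h1
    simp at this
    exact hv this.symm
  obtain ⟨d₀, hd₀⟩ := IsAlgClosed.exists_pow_nat_eq (c⁻¹) hm₀pos
  have hd₀0 : d₀ ≠ 0 := by
    rintro rfl
    rw [zero_pow hm₀pos.ne'] at hd₀
    exact inv_ne_zero hc0 hd₀.symm
  let z : (Module.End ℂ (Fin d → ℂ))ˣ :=
    Units.map (algebraMap ℂ (Module.End ℂ (Fin d → ℂ)) : ℂ →* Module.End ℂ (Fin d → ℂ))
      (Units.mk0 d₀ hd₀0)
  have hz : ∀ u : (Module.End ℂ (Fin d → ℂ))ˣ, z * u = u * z := by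
    intro u
    apply Units.ext
    exact Algebra.commutes d₀ (u : Module.End ℂ (Fin d → ℂ))
  let B' : (Module.End ℂ (Fin d → ℂ))ˣ := z * B
  have hB' : ∀ m : N, B' * ρu m * B'⁻¹ = ρu ⟨g * m * g⁻¹, hN.conj_mem m m.2 g⟩ := by
    intro m
    rw [← hB m]
    have hzc : ∀ u : (Module.End ℂ (Fin d → ℂ))ˣ, z * u * z⁻¹ = u := fun u => by
      rw [hz u, mul_assoc, mul_inv_cancel, mul_one]
    calc B' * ρu m * B'⁻¹ = z * (B * ρu m * B⁻¹) * z⁻¹ := by simp only [B']; group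
      _ = B * ρu m * B⁻¹ := hzc _
  have hB'm : B' ^ m₀ = ρu n₀ := by
    have h1 : B' ^ m₀ = z ^ m₀ * B ^ m₀ := (Commute.mul_pow (hz B) m₀)
    have h2 : B ^ m₀ = ρu n₀ * T := by simp only [T]; group
    rw [h1, h2]
    have h3 : z ^ m₀ * T = 1 := by
      apply Units.ext
      rw [Units.val_mul, hc, Units.val_pow_eq_pow_val]
      show (algebraMap ℂ (Module.End ℂ (Fin d → ℂ)) d₀) ^ m₀ * (c • LinearMap.id) = 1
      rw [← map_pow, hd₀, Algebra.algebraMap_eq_smul_one, smul_mul_smul_comm, inv_mul_cancel₀ hc0,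
        one_smul]
      rfl
    calc z ^ m₀ * (ρu n₀ * T) = ρu n₀ * (z ^ m₀ * T) := by
          rw [← mul_assoc, (Commute.pow_left (hz (ρu n₀)) m₀).eq, mul_assoc]
      _ = ρu n₀ := by rw [h3, mul_one]
  have hpow : ∀ (j : ℤ) (hj : g ^ j ∈ N), B' ^ j = ρu ⟨g ^ j, hj⟩ := by
    intro j hj
    have h1 : ((g : G ⧸ N)) ^ j = 1 := by
      rw [← QuotientGroup.mk_zpow]
      exact (QuotientGroup.eq_one_iff _).mpr hj
    obtain ⟨t, rfl⟩ := (orderOf_dvd_iff_zpow_eq_one).mpr h1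
    rw [zpow_mul, zpow_natCast, hB'm, ← map_zpow]
    congr 1
    apply Subtype.ext
    simp only [Subgroup.coe_zpow, n₀]
    rw [← zpow_natCast, ← zpow_mul]
  obtain ⟨F, hFN, -⟩ := exists_hom_extension N g hgen ρu B' hB' hpow
  let ρt : Representation ℂ G (Fin d → ℂ) :=
    (Units.coeHom (Module.End ℂ (Fin d → ℂ))).comp F
  have hres : ∀ m : N, ρt (m : G) = ρ m := by
    intro m
    show ((F m : (Module.End ℂ (Fin d → ℂ))ˣ) : Module.End ℂ (Fin d → ℂ)) = ρ m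
    rw [hFN]
    rfl
  have hresRep : Helper81.resRep ρt N = ρ := by
    ext m : 1
    exact hres m
  have hirr' : ρt.IsIrreducible := by
    apply Helper81.isIrreducible_of_resRep ρt (M := N)
    rw [hresRep]
    exact hρirr
  refine ⟨ρt.character, ⟨d, ρt, hirr', rfl⟩, fun m => ?_⟩
  rw [← hρϑ]
  show LinearMap.trace ℂ _ (ρt (m : G)) = LinearMap.trace ℂ _ (ρ m)
  rw [hres]

end Cfsg.Agent.S0886
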