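import Cfsg.Statements.S0863
import Cfsg.Agent.S0862
import Cfsg.Agent.S0886
import Cfsg.Agent.S0536
import Cfsg.Agent.Helper15.CliffordCorr

set_option autoImplicit false
open Cfsg

namespace Cfsg.Agent.S0863

open Cfsg.Agent.Helper15

universe u

/-- If `G ⧸ N` is solvable and `N ≤ M`, then `M ⧸ (N.subgroupOf M)` is solvable. -/
theorem isSolvable_quotient_subgroupOf {G : Type u} [Group G] (N M : Subgroup G) [N.Normal]
    (hsolv : Group.IsSolvable (G ⧸ N)) : Group.IsSolvable (M ⧸ N.subgroupOf M) := by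
  let f : M →* G ⧸ N := (QuotientGroup.mk' N).comp M.subtype
  have hker : f.ker = N.subgroupOf M := by
    ext x
    rw [MonoidHom.mem_ker, Subgroup.mem_subgroupOf]
    show ((x : G) : G ⧸ N) = 1 ↔ _
    rw [QuotientGroup.eq_one_iff]
  have h1 : Group.IsSolvable f.range := inferInstance
  have e1 : M ⧸ f.ker ≃* f.range := QuotientGroup.quotientKerEquivRange f
  have h2 : Group.IsSolvable (M ⧸ f.ker) :=
    solvable_of_solvable_injective (f := e1.toMonoidHom) e1.injective
  have e2 : M ⧸ N.subgroupOf M ≃* M ⧸ f.ker := QuotientGroup.quotientMulEquivOfEq hker.symm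
  exact solvable_of_solvable_injective (f := e2.toMonoidHom) e2.injective

/-- The inductive statement: existence of an extension with prescribed determinant. -/
theorem exists_extension_aux : ∀ (k : ℕ) (G : Type u) [Group G] [Finite G] (N : Subgroup G)
    [hN : N.Normal], N.index = k → Group.IsSolvable (G ⧸ N) → ∀ (ϑ : N → ℂ),
    IsIrrCharacter N ϑ →
    (∀ (g : G) (n : N), ϑ ⟨g * n * g⁻¹, hN.conj_mem (n : G) n.2 g⟩ = ϑ n) →
    ∀ (d : ℕ), ϑ 1 = d → Nat.Coprime N.index d → ∀ (μ : G → ℂ), IsCharacter G μ → μ 1 = 1 →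
    (∀ n : N, μ n = detChar ϑ n) →
    ∃ χ : G → ℂ, IsIrrCharacter G χ ∧ (∀ n : N, χ n = ϑ n) ∧ detChar χ = μ := by
  intro k
  induction k using Nat.strong_induction_on with
  | _ k ih =>
  intro G _ _ N hN hk hsolv ϑ hϑ hinv d hd hcop μ hμ hμ1 hμN
  classical
  by_cases htop : N = ⊤
  · -- base case
    subst htop
    let e : (⊤ : Subgroup G) ≃* G := Subgroup.topEquiv
    refine ⟨fun g => ϑ (e.symm g), ?_, ?_, ?_⟩
    · exact Helper80.IsIrrCharacter.comp_surjective hϑ e.symm.toMonoidHom e.symm.surjective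
    · intro n
      congr 1
    · funext g
      have h1 := detChar_comp e.symm.toMonoidHom (Helper74.isCharacter_of_isIrr hϑ) g
      have h2 := hμN (e.symm g)
      rw [show (fun x : G => ϑ (e.symm.toMonoidHom x)) = fun g => ϑ (e.symm g) from rfl] at h1
      rw [h1]
      exact h2.symm
  · -- inductive step
    have hnt : Nontrivial (G ⧸ N) := by
      rw [← Finite.one_lt_card_iff_nontrivial, ← Subgroup.index_eq_card]
      have h1 : N.index ≠ 1 := fun h => htop (Subgroup.index_eq_one.mp h)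
      have h0 : N.index ≠ 0 := N.index_ne_zero_of_finite
      omega
    obtain ⟨Q, hQn, hQp⟩ := Cfsg.Agent.S0536.exists_normal_prime_index (G := G ⧸ N)
    let M : Subgroup G := Q.comap (QuotientGroup.mk' N)
    have hMn : M.Normal := hQn.comap _
    have hNM : N ≤ M := by
      intro x hx
      show QuotientGroup.mk' N x ∈ Q
      rw [QuotientGroup.mk'_apply, (QuotientGroup.eq_one_iff x).mpr hx]
      exact Q.one_mem
    have hMidx : M.index = Q.index :=
      Subgroup.index_comap_of_surjective Q (QuotientGroup.mk'_surjective N)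
    have hMp : M.index.Prime := by rw [hMidx]; exact hQp
    -- the subgroup `N' = N ∩ M` of `M`
    let N' : Subgroup M := N.subgroupOf M
    have hN'n : N'.Normal := Subgroup.Normal.subgroupOf hN M
    have hidx : N'.index * M.index = N.index := Subgroup.relIndex_mul_index hNM
    have hN'lt : N'.index < k := by
      rw [← hk, ← hidx]
      have h0 : 0 < N'.index := Nat.pos_of_ne_zero (Subgroup.index_ne_zero_of_finite)
      have := hMp.two_le
      nlinarith
    let ϑ' : N' → ℂ := toSub N M hNM ϑ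
    have hϑ' : IsIrrCharacter N' ϑ' := isIrrCharacter_toSub N M hNM hϑ
    have hinv' : ∀ (g : M) (n : N'), ϑ' ⟨g * n * g⁻¹, hN'n.conj_mem (n : M) n.2 g⟩ = ϑ' n := by
      intro g n
      exact hinv (g : G) ⟨((n : M) : G), n.2⟩
    have hd' : ϑ' 1 = d := hd
    have hcop' : Nat.Coprime N'.index d :=
      Nat.Coprime.coprime_dvd_left (Dvd.intro _ hidx) hcop
    let μ' : M → ℂ := fun m => μ m
    have hμ' : IsCharacter M μ' := Helper74.isCharacter_restrict M hμ
    have hμ'1 : μ' 1 = 1 := hμ1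
    have hμ'N : ∀ n : N', μ' n = detChar ϑ' n := by
      intro n
      have h1 := detChar_comp (Subgroup.subgroupOfEquivOfLe hNM).toMonoidHom
        (Helper74.isCharacter_of_isIrr hϑ) n
      show μ ((n : M) : G) = detChar ϑ' n
      rw [show ϑ' = fun x : N' => ϑ ((Subgroup.subgroupOfEquivOfLe hNM).toMonoidHom x) from rfl, h1]
      exact hμN ((Subgroup.subgroupOfEquivOfLe hNM).toMonoidHom n)
    obtain ⟨ψ, hψ, hψN, hψdet⟩ := ih N'.index hN'lt M N' rfl
      (isSolvable_quotient_subgroupOf N M hsolv) ϑ' hϑ' hinv' d hd' hcop' μ' hμ' hμ'1 hμ'N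
    have hψc := Helper74.isCharacter_of_isIrr hψ
    -- uniqueness in `M`
    have huniq := Cfsg.Agent.S0862.result N' ϑ' hϑ' d hd' hcop' ⟨ψ, hψ, hψN⟩ μ' ⟨hμ', hμ'1⟩ hμ'N
    -- `ψ` is `G`-invariant
    have hψinv : ∀ (g : G) (m : M), ψ ⟨g * m * g⁻¹, hMn.conj_mem (m : G) m.2 g⟩ = ψ m := by
      intro g m
      have hc : IsIrrCharacter M (conjFun M g ψ) := isIrrCharacter_conjFun M hψ g
      have hcN : ∀ n : N', conjFun M g ψ n = ϑ' n := by
        intro n
        rw [conjFun_apply]
        have hmem : (⟨g * ((n : M) : G) * g⁻¹, hMn.conj_mem _ (n : M).2 g⟩ : M) ∈ N' := by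
          show g * ((n : M) : G) * g⁻¹ ∈ N
          exact hN.conj_mem _ n.2 g
        have := hψN ⟨_, hmem⟩
        rw [this]
        exact hinv g ⟨((n : M) : G), n.2⟩
      have hcdet : detChar (conjFun M g ψ) = μ' := by
        funext x
        rw [conjFun_eq_comp]
        have h1 := detChar_comp (MulAut.conjNormal g : M ≃* M).toMonoidHom hψc x
        rw [show (fun n : M => ψ ((MulAut.conjNormal g : M ≃* M) n))
          = fun n : M => ψ ((MulAut.conjNormal g : M ≃* M).toMonoidHom n) from rfl, h1, hψdet]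
        show μ (((MulAut.conjNormal g : M ≃* M) x : M) : G) = μ x
        rw [MulAut.conjNormal_apply]
        exact linChar_conj hμ hμ1 x g
      have := huniq.unique ⟨hc, hcN, hcdet⟩ ⟨hψ, hψN, hψdet⟩
      have h2 := congrFun this m
      rw [conjFun_apply] at h2
      exact h2
    -- extend to `G` (cyclic quotient)
    have hcyc : IsCyclic (G ⧸ M) := by
      have : Fact (Nat.card (G ⧸ M)).Prime := ⟨by rw [← Subgroup.index_eq_card]; exact hMp⟩
      exact isCyclic_of_prime_card rfl
    obtain ⟨η, hη, hηM⟩ := Cfsg.Agent.S0886.result M hcyc ψ hψ hψinv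
    have hψ1 : ψ 1 = d := by
      have := hψN 1
      rw [← hd', ← this]; rfl
    have hcopM : Nat.Coprime M.index d :=
      Nat.Coprime.coprime_dvd_left (Dvd.intro_left _ hidx) hcop
    have hμM : ∀ m : M, μ m = detChar ψ m := by
      intro m
      rw [hψdet]
    obtain ⟨χ, ⟨hχ, hχM, hχdet⟩, -⟩ :=
      Cfsg.Agent.S0862.result M ψ hψ d hψ1 hcopM ⟨η, hη, hηM⟩ μ ⟨hμ, hμ1⟩ hμM
    refine ⟨χ, hχ, ?_, hχdet⟩
    intro n
    have h1 := hχM ⟨(n : G), hNM n.2⟩
    have h2 := hψN ⟨⟨(n : G), hNM n.2⟩, n.2⟩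
    show χ (n : G) = ϑ n
    rw [h1, h2]
    rfl

/-- Let N be a normal subgroup of the finite group G with G / N solvable, and ϑ an irreducible character of N, invariant under conjugation by G, of degree d coprime to the index of N. Then ϑ is the restriction of an irreducible character of G if and only if the determinantal character of ϑ is the restriction of a character of G of degree 1. -/
theorem result {G : Type*} [Group G] [Finite G] (N : Subgroup G) [hN : N.Normal] (hsolv : Group.IsSolvable (G ⧸ N)) (ϑ : N → ℂ) (hϑ : Cfsg.IsIrrCharacter N ϑ) (hinv : ∀ (g : G) (n : N), ϑ ⟨g * n * g⁻¹, hN.conj_mem (n : G) n.2 g⟩ = ϑ n) (d : ℕ) (hd : ϑ 1 = d) (hcop : Nat.Coprime N.index d) : (∃ χ : G → ℂ, Cfsg.IsIrrCharacter G χ ∧ (∀ n : N, χ n = ϑ n)) ↔ ∃ μ : G → ℂ, Cfsg.IsCharacter G μ ∧ μ 1 = 1 ∧ ∀ n : N, μ n = Cfsg.detChar ϑ n := by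
  constructor
  · rintro ⟨χ, hχ, hχN⟩
    have hχc := Helper74.isCharacter_of_isIrr hχ
    obtain ⟨h1, h2⟩ := isCharacter_detChar hχc
    refine ⟨detChar χ, h1, h2, fun n => ?_⟩
    rw [← detChar_restrict N hχc n]
    congr 1
    exact funext hχN
  · rintro ⟨μ, hμ, hμ1, hμN⟩
    obtain ⟨χ, hχ, hχN, -⟩ :=
      exists_extension_aux N.index G N rfl hsolv ϑ hϑ hinv d hd hcop μ hμ hμ1 hμN
    exact ⟨χ, hχ, hχN⟩

end Cfsg.Agent.S0863
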