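import Cfsg.Statements.S0864
import Cfsg.Agent.Helper15.TransferLin

set_option autoImplicit false
open Cfsg

namespace Cfsg.Agent.S0864

open Cfsg.Agent.Helper15

/-- Hom-level version (the hypothesis that `[H : N]` is a power of `p` is not needed). -/
theorem hom_version {G : Type*} [Group G] [Finite G] (N : Subgroup G) [hN : N.Normal]
    {A : Type*} [CommGroup A] (lam : N →* A)
    (hinv : ∀ (g : G) (n : G) (hn : n ∈ N),
      lam ⟨g⁻¹ * n * g, by simpa using hN.conj_mem n hn g⁻¹⟩ = lam ⟨n, hn⟩)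
    (hsyl : ∀ p : ℕ, p.Prime → p ∣ orderOf lam → ∃ (H : Subgroup G) (hNH : N ≤ H) (ν : H →* A),
      Nat.Coprime H.index p ∧ ∀ n : N, ν ⟨(n : G), hNH n.2⟩ = lam n) :
    ∃ μ : G →* A, ∀ n : N, μ n = lam n := by
  classical
  set o := orderOf lam with ho
  have hopos : 0 < o := orderOf_hom_pos' lam
  -- the subgroup of extendible homs
  let E : Subgroup (N →* A) := (resHom N A).range
  suffices h : lam ∈ E by
    obtain ⟨μ, hμ⟩ := h
    refine ⟨μ, fun n => ?_⟩
    rw [← hμ]
    rfl
  -- order of lam modulo E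
  set d := orderOf (QuotientGroup.mk lam : (N →* A) ⧸ E) with hd
  have hd_o : d ∣ o := by
    apply orderOf_dvd_of_pow_eq_one
    rw [← QuotientGroup.mk_pow, ho, pow_orderOf_eq_one]
    rfl
  have key : ∀ p : ℕ, p.Prime → p ∣ o → lam ^ (ordCompl[p] o) ∈ E := by
    intro p hp hpo
    obtain ⟨H, hNH, ν, hcop, hν⟩ := hsyl p hp hpo
    set m := ordCompl[p] o with hm
    let α : N →* A := lam ^ m
    let ν' : H →* A := ν ^ m
    have hinvα : ∀ (g : G) (n : G) (hn : n ∈ N),
        ν' ⟨g⁻¹ * n * g, hNH (by simpa using hN.conj_mem n hn g⁻¹)⟩ = ν' ⟨n, hNH hn⟩ := by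
      intro g n hn
      show ν _ ^ m = ν _ ^ m
      have e1 := hν ⟨g⁻¹ * n * g, by simpa using hN.conj_mem n hn g⁻¹⟩
      have e2 := hν ⟨n, hn⟩
      simp only at e1 e2
      rw [e1, e2, hinv g n hn]
    have htr : ∀ n : N, MonoidHom.transfer ν' n = α n ^ H.index := by
      intro n
      rw [transfer_apply_of_normal_le N H hNH ν' hinvα n n.2]
      show (ν _ ^ m) ^ H.index = (lam n ^ m) ^ H.index
      rw [hν n]
    -- order of α is a power of p
    have hαord : orderOf α ∣ p ^ (o.factorization p) := by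
      apply orderOf_dvd_of_pow_eq_one
      show (lam ^ m) ^ (p ^ (o.factorization p)) = 1
      rw [← pow_mul, hm, mul_comm, Nat.ordProj_mul_ordCompl_eq_self, ho, pow_orderOf_eq_one]
    have hcop' : Nat.Coprime H.index (orderOf α) := by
      apply Nat.Coprime.coprime_dvd_right hαord
      exact Nat.Coprime.pow_right _ hcop
    obtain ⟨c, hc⟩ := exists_pow_eq_self_of_coprime hcop'
    refine ⟨(MonoidHom.transfer ν') ^ c, ?_⟩
    ext n
    show (MonoidHom.transfer ν' n) ^ c = α n
    rw [htr]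
    have := DFunLike.congr_fun hc n
    simp only [MonoidHom.pow_apply] at this
    rw [this]
  have hd1 : d = 1 := by
    by_contra hne
    obtain ⟨q, hq, hqd⟩ := Nat.exists_prime_and_dvd hne
    have hqo : q ∣ o := hqd.trans hd_o
    have hmem := key q hq hqo
    have hdm : d ∣ ordCompl[q] o := by
      apply orderOf_dvd_of_pow_eq_one
      rw [← QuotientGroup.mk_pow]
      exact (QuotientGroup.eq_one_iff _).mpr hmem
    exact Nat.not_dvd_ordCompl hq hopos.ne' (hqd.trans hdm)
  have := orderOf_eq_one_iff.mp hd1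
  exact (QuotientGroup.eq_one_iff _).mp this

/-- Let N be a normal subgroup of the finite group G and λ a character of N of degree 1 invariant under conjugation by G. Suppose that for every prime p dividing the order of λ (in the group of functions under pointwise multiplication) there is a subgroup H containing N, of index prime to p and with the index of N in H a power of p, together with a character of H of degree 1 restricting to λ. Then λ is the restriction of a character of G of degree 1. -/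
theorem result {G : Type*} [Group G] [Finite G] (N : Subgroup G) [hN : N.Normal] (lam : N → ℂ) (hlam : Cfsg.IsCharacter N lam ∧ lam 1 = 1) (hinv : ∀ (g : G) (n : N), lam ⟨g * n * g⁻¹, hN.conj_mem (n : G) n.2 g⟩ = lam n) (hsyl : ∀ p : ℕ, p.Prime → p ∣ orderOf lam → ∃ (H : Subgroup G) (hNH : N ≤ H) (ν : H → ℂ), Nat.Coprime H.index p ∧ (∃ k : ℕ, N.relIndex H = p ^ k) ∧ Cfsg.IsCharacter H ν ∧ ν 1 = 1 ∧ ∀ n : N, ν ⟨(n : G), hNH n.2⟩ = lam n) : ∃ μ : G → ℂ, Cfsg.IsCharacter G μ ∧ μ 1 = 1 ∧ ∀ n : N, μ n = lam n := by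
  obtain ⟨hl, hl1⟩ := hlam
  have hinv' : ∀ (g : G) (n : G) (hn : n ∈ N),
      linCharUnits hl hl1 ⟨g⁻¹ * n * g, by simpa using hN.conj_mem n hn g⁻¹⟩
        = linCharUnits hl hl1 ⟨n, hn⟩ := by
    intro g n hn
    apply Units.ext
    rw [linCharUnits_apply, linCharUnits_apply]
    have := hinv g⁻¹ ⟨n, hn⟩
    rw [← this]
    congr 1
    apply Subtype.ext
    simp
  have hsyl' : ∀ p : ℕ, p.Prime → p ∣ orderOf (linCharUnits hl hl1) →
      ∃ (H : Subgroup G) (hNH : N ≤ H) (ν : H →* ℂˣ),
      Nat.Coprime H.index p ∧ ∀ n : N, ν ⟨(n : G), hNH n.2⟩ = linCharUnits hl hl1 n := by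
    intro p hp hpo
    rw [orderOf_linCharUnits] at hpo
    obtain ⟨H, hNH, ν, hcop, -, hν, hν1, hνN⟩ := hsyl p hp hpo
    refine ⟨H, hNH, linCharUnits hν hν1, hcop, fun n => ?_⟩
    apply Units.ext
    rw [linCharUnits_apply, linCharUnits_apply, hνN]
  obtain ⟨μ, hμ⟩ := hom_version N (linCharUnits hl hl1) hinv' hsyl'
  obtain ⟨hc, hc1⟩ := isCharacter_unitsFun μ
  refine ⟨unitsFun μ, hc, hc1, fun n => ?_⟩
  rw [unitsFun_apply, hμ, linCharUnits_apply]

end Cfsg.Agent.S0864
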