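import Cfsg.Statements.S0888
import Cfsg.Agent.Helper15.ProjLift

set_option autoImplicit false
open Cfsg

namespace Cfsg.Agent.S0888

open Cfsg.Agent.Helper15

/-- Let N be a normal subgroup of the finite group G and ϑ an irreducible character of N invariant under conjugation by G. Suppose that for every prime p there are a subgroup P containing N, of index prime to p and with the index of N in P a power of p, and an irreducible character of P restricting to ϑ. Then ϑ is the restriction of an irreducible character of G. -/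
theorem result {G : Type*} [Group G] [Finite G] (N : Subgroup G) [hN : N.Normal] (ϑ : N → ℂ) (hϑ : Cfsg.IsIrrCharacter N ϑ) (hinv : ∀ (g : G) (n : N), ϑ ⟨g * n * g⁻¹, hN.conj_mem (n : G) n.2 g⟩ = ϑ n) (hsyl : ∀ p : ℕ, p.Prime → ∃ (P : Subgroup G) (hNP : N ≤ P) (η : P → ℂ), Nat.Coprime P.index p ∧ (∃ k : ℕ, N.relIndex P = p ^ k) ∧ Cfsg.IsIrrCharacter P η ∧ ∀ n : N, η ⟨(n : G), hNP n.2⟩ = ϑ n) : ∃ χ : G → ℂ, Cfsg.IsIrrCharacter G χ ∧ ∀ n : N, χ n = ϑ n := by
  classical
  obtain ⟨d, ρ, hρirr, hρϑ⟩ := hϑ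
  subst hρϑ
  obtain ⟨F, hF⟩ := exists_rep_extension_of_sylow N ρ hinv (fun p hp => by
    obtain ⟨P, hNP, η, hcop, -, hη, hres⟩ := hsyl p hp
    exact ⟨P, hNP, η, hcop, hη, hres⟩)
  let ρt : Representation ℂ G (Fin d → ℂ) :=
    (Units.coeHom (Module.End ℂ (Fin d → ℂ))).comp F
  have hres : ∀ m : N, ρt (m : G) = ρ m := by
    intro m
    show ((F m : (Module.End ℂ (Fin d → ℂ))ˣ) : Module.End ℂ (Fin d → ℂ)) = ρ m
    rw [hF]
    rfl
  have hresRep : Helper81.resRep ρt N = ρ := by
    ext m : 1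
    exact hres m
  have hirr' : ρt.IsIrreducible := by
    apply Helper81.isIrreducible_of_resRep ρt (M := N)
    rw [hresRep]
    exact hρirr
  refine ⟨ρt.character, ⟨d, ρt, hirr', rfl⟩, fun m => ?_⟩
  show LinearMap.trace ℂ _ (ρt (m : G)) = LinearMap.trace ℂ _ (ρ m)
  rw [hres]

end Cfsg.Agent.S0888
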