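import Cfsg.Statements.S0866
import Cfsg.Agent.S0863
import Cfsg.Agent.S0888

set_option autoImplicit false
open Cfsg

namespace Cfsg.Agent.S0866

open Cfsg.Agent.Helper15

/-- For a normal subgroup `N` and a prime `p`, a subgroup `P ≥ N` of index prime to `p` with
`P / N` a `p`-group (the preimage of a Sylow subgroup of `G / N`). -/
theorem exists_sylow_type_subgroup {G : Type*} [Group G] [Finite G] (N : Subgroup G)
    [hN : N.Normal] (p : ℕ) [hp : Fact p.Prime] :
    ∃ P : Subgroup G, N ≤ P ∧ Nat.Coprime P.index p ∧ IsPGroup p (P ⧸ N.subgroupOf P) := by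
  obtain ⟨S⟩ : Nonempty (Sylow p (G ⧸ N)) := inferInstance
  let P : Subgroup G := (S : Subgroup (G ⧸ N)).comap (QuotientGroup.mk' N)
  have hNP : N ≤ P := by
    intro x hx
    show QuotientGroup.mk' N x ∈ (S : Subgroup (G ⧸ N))
    rw [QuotientGroup.mk'_apply, (QuotientGroup.eq_one_iff x).mpr hx]
    exact (S : Subgroup (G ⧸ N)).one_mem
  have hidx : P.index = (S : Subgroup (G ⧸ N)).index :=
    Subgroup.index_comap_of_surjective _ (QuotientGroup.mk'_surjective N)
  refine ⟨P, hNP, ?_, ?_⟩
  · rw [hidx]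
    exact ((Nat.Prime.coprime_iff_not_dvd hp.out).mpr S.not_dvd_index).symm
  · let f : P →* (S : Subgroup (G ⧸ N)) :=
      { toFun := fun x => ⟨QuotientGroup.mk' N (x : G), x.2⟩
        map_one' := by apply Subtype.ext; simp
        map_mul' := fun a b => by apply Subtype.ext; simp }
    have hker : f.ker = N.subgroupOf P := by
      ext x
      rw [MonoidHom.mem_ker, Subgroup.mem_subgroupOf]
      constructor
      · intro h
        have := congrArg Subtype.val h
        exact (QuotientGroup.eq_one_iff (x : G)).mp this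
      · intro h
        apply Subtype.ext
        exact (QuotientGroup.eq_one_iff (x : G)).mpr h
    have h1 : IsPGroup p (P ⧸ f.ker) :=
      S.isPGroup'.of_injective (QuotientGroup.kerLift f) (QuotientGroup.kerLift_injective f)
    let e2 : P ⧸ N.subgroupOf P ≃* P ⧸ f.ker := QuotientGroup.quotientMulEquivOfEq hker.symm
    exact h1.of_injective e2.toMonoidHom e2.injective

/-- Let N be a normal subgroup of the finite group G and ϑ an irreducible character of N, invariant under conjugation by G, of degree d coprime to the index of N. Then ϑ is the restriction of an irreducible character of G if and only if the determinantal character of ϑ is the restriction of a character of G of degree 1. -/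
theorem result {G : Type*} [Group G] [Finite G] (N : Subgroup G) [hN : N.Normal] (ϑ : N → ℂ) (hϑ : Cfsg.IsIrrCharacter N ϑ) (hinv : ∀ (g : G) (n : N), ϑ ⟨g * n * g⁻¹, hN.conj_mem (n : G) n.2 g⟩ = ϑ n) (d : ℕ) (hd : ϑ 1 = d) (hcop : Nat.Coprime N.index d) : (∃ χ : G → ℂ, Cfsg.IsIrrCharacter G χ ∧ (∀ n : N, χ n = ϑ n)) ↔ ∃ μ : G → ℂ, Cfsg.IsCharacter G μ ∧ μ 1 = 1 ∧ ∀ n : N, μ n = Cfsg.detChar ϑ n := by
  classical
  constructor
  · rintro ⟨χ, hχ, hχN⟩
    have hχc := Helper74.isCharacter_of_isIrr hχ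
    obtain ⟨h1, h2⟩ := isCharacter_detChar hχc
    refine ⟨detChar χ, h1, h2, fun n => ?_⟩
    rw [← detChar_restrict N hχc n]
    congr 1
    exact funext hχN
  · rintro ⟨μ, hμ, hμ1, hμN⟩
    apply Cfsg.Agent.S0888.result N ϑ hϑ hinv
    intro p hp
    have : Fact p.Prime := ⟨hp⟩
    obtain ⟨P, hNP, hPcop, hPp⟩ := exists_sylow_type_subgroup N p
    let N' : Subgroup P := N.subgroupOf P
    have hN'n : N'.Normal := Subgroup.Normal.subgroupOf hN P
    have hidx : N'.index * P.index = N.index := Subgroup.relIndex_mul_index hNP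
    let ϑ' : N' → ℂ := toSub N P hNP ϑ
    have hϑ' : IsIrrCharacter N' ϑ' := isIrrCharacter_toSub N P hNP hϑ
    have hinv' : ∀ (g : P) (n : N'), ϑ' ⟨g * n * g⁻¹, hN'n.conj_mem (n : P) n.2 g⟩ = ϑ' n := by
      intro g n
      exact hinv (g : G) ⟨((n : P) : G), n.2⟩
    have hd' : ϑ' 1 = d := hd
    have hcop' : Nat.Coprime N'.index d :=
      Nat.Coprime.coprime_dvd_left (Dvd.intro _ hidx) hcop
    let μ' : P → ℂ := fun m => μ m
    have hμ' : IsCharacter P μ' := Helper74.isCharacter_restrict P hμ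
    have hμ'1 : μ' 1 = 1 := hμ1
    have hμ'N : ∀ n : N', μ' n = detChar ϑ' n := by
      intro n
      have h1 := detChar_comp (Subgroup.subgroupOfEquivOfLe hNP).toMonoidHom
        (Helper74.isCharacter_of_isIrr hϑ) n
      show μ ((n : P) : G) = detChar ϑ' n
      rw [show ϑ' = fun x : N' => ϑ ((Subgroup.subgroupOfEquivOfLe hNP).toMonoidHom x) from rfl, h1]
      exact hμN ((Subgroup.subgroupOfEquivOfLe hNP).toMonoidHom n)
    have hsolv : Group.IsSolvable (P ⧸ N') := by
      have := hPp.isNilpotent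
      infer_instance
    obtain ⟨η, hη, hηN⟩ := (Cfsg.Agent.S0863.result N' hsolv ϑ' hϑ' hinv' d hd' hcop').mpr
      ⟨μ', hμ', hμ'1, hμ'N⟩
    refine ⟨P, hNP, η, hPcop, ?_, hη, fun n => ?_⟩
    · obtain ⟨k, hk⟩ := hPp.exists_card_eq
      refine ⟨k, ?_⟩
      rw [← hk]
      exact Subgroup.index_eq_card N'
    · exact hηN ⟨⟨(n : G), hNP n.2⟩, n.2⟩

end Cfsg.Agent.S0866
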