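import Cfsg.Statements.S0519
import Mathlib
import Cfsg.Agent.Helper73.NormalAbelianCyclic
import Cfsg.Agent.S0126

set_option autoImplicit false
open Cfsg

namespace Cfsg.Agent.S0519

open Subgroup

/-- Let P be a finite p-group in which every abelian normal subgroup is cyclic, but which has a non-cyclic abelian
subgroup. Then p = 2 and P is generalized quaternion, dihedral of order at least 16, or quasi-dihedral. -/
theorem result {P : Type*} [Group P] [Finite P] (p : ℕ) [Fact p.Prime]
    (hP : IsPGroup p P) (hn : ∀ A : Subgroup P, A.Normal → IsMulCommutative A → IsCyclic A)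
    (hm : ∃ B : Subgroup P, IsMulCommutative B ∧ ¬ IsCyclic B) :
    p = 2 ∧ ((∃ n : ℕ, Nonempty (P ≃* QuaternionGroup n)) ∨ (∃ n : ℕ, 8 ≤ n ∧ Nonempty (P ≃* DihedralGroup n)) ∨
      Cfsg.IsQuasiDihedral P) := by
  have hp : p.Prime := Fact.out
  obtain ⟨B, -, hBnc⟩ := hm
  have hnc : ¬ IsCyclic P := by
    intro h
    exact hBnc inferInstance
  have hp2 : p = 2 := by
    by_contra hne
    obtain ⟨A, hAn, hAe, hAcard⟩ := Cfsg.Agent.S0126.result hne hP hnc
    have hAcyc := hn A hAn hAe.1
    obtain ⟨g, hg⟩ := hAcyc.exists_generator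
    have hgo : orderOf g = p ^ 2 := by
      rw [orderOf_eq_card_of_forall_mem_zpowers hg, hAcard]
    have hgp : g ^ p = 1 := by
      apply Subtype.ext
      rw [Subgroup.coe_pow, Subgroup.coe_one]
      exact hAe.2 g g.2
    have hdvd : p ^ 2 ∣ p := by
      rw [← hgo]; exact orderOf_dvd_of_pow_eq_one hgp
    have hle := Nat.le_of_dvd hp.pos hdvd
    have : p < p ^ 2 := by
      calc p = p ^ 1 := (pow_one p).symm
        _ < p ^ 2 := Nat.pow_lt_pow_right hp.one_lt (by norm_num)
    omega
  subst hp2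
  exact ⟨rfl, Cfsg.Agent.Helper73.two_group_normal_abelian_cyclic hP hn hnc⟩

end Cfsg.Agent.S0519
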