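import Cfsg.Statements.S1025
import Cfsg.Agent.Helper40.CommFinal
import Cfsg.Agent.Helper40.CommChkG2
import Cfsg.Agent.Helper40.CommChkB2
import Cfsg.Agent.Helper40.CommChkD4
import Cfsg.Agent.Helper40.CommChkF4
import Cfsg.Agent.Helper40.CommChkE6
import Cfsg.Agent.Helper40.CommChkE7
import Cfsg.Agent.Helper40.CommChkE8

set_option autoImplicit false
open Cfsg

namespace Cfsg.Agent.S1025

/-- Chevalley's commutator formula: for roots `s ≠ ±r`, `x_s(u) x_r(t) = x_r(t) x_s(u) · ∏_{i,j>0} x_{ir+js}(C_{ijrs} (-t)^i u^j)`, the product (in order of increasing `i + j`) and the constants being those of `commWord`. -/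
theorem result {F : Type*} [Field F] (D : Cfsg.Lie.ChevalleyDatum) (hD : D ∈ [Cfsg.Lie.chevG2, Cfsg.Lie.chevB2, Cfsg.Lie.chevD4, Cfsg.Lie.chevF4, Cfsg.Lie.chevE6, Cfsg.Lie.chevE7, Cfsg.Lie.chevE8]) (r s : ℕ) (hr : r < D.nroots) (hs : s < D.nroots)
    (hrs : s ≠ r) (hneg : s ≠ D.neg r) (t u : F) :
    D.x F s u * D.x F r t = D.x F r t * D.x F s u * D.wordMat F (D.commWord F r s t u) := by
  have hD' := hD
  simp only [List.mem_cons, List.not_mem_nil, or_false] at hD'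
  rcases hD' with rfl | rfl | rfl | rfl | rfl | rfl | rfl
  · exact Cfsg.Agent.Helper40.Comm.cf_of_allPairsOK _ Cfsg.Agent.Helper40.Comm.allPairsOK_G2 r s hr hs hrs hneg t u
  · exact Cfsg.Agent.Helper40.Comm.cf_of_checks _ hD Cfsg.Agent.Helper40.Comm.no3_B2 Cfsg.Agent.Helper40.Comm.negOK_B2 Cfsg.Agent.Helper40.Comm.upOK_B2 Cfsg.Agent.Helper40.Comm.domsB2 Cfsg.Agent.Helper40.Comm.domsOK_B2 Cfsg.Agent.Helper40.Comm.baseOK_B2 r s hr hs hrs hneg t u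
  · exact Cfsg.Agent.Helper40.Comm.cf_of_checks _ hD Cfsg.Agent.Helper40.Comm.no3_D4 Cfsg.Agent.Helper40.Comm.negOK_D4 Cfsg.Agent.Helper40.Comm.upOK_D4 Cfsg.Agent.Helper40.Comm.domsD4 Cfsg.Agent.Helper40.Comm.domsOK_D4 Cfsg.Agent.Helper40.Comm.baseOK_D4 r s hr hs hrs hneg t u
  · exact Cfsg.Agent.Helper40.Comm.cf_of_checks _ hD Cfsg.Agent.Helper40.Comm.no3_F4 Cfsg.Agent.Helper40.Comm.negOK_F4 Cfsg.Agent.Helper40.Comm.upOK_F4 Cfsg.Agent.Helper40.Comm.domsF4 Cfsg.Agent.Helper40.Comm.domsOK_F4 Cfsg.Agent.Helper40.Comm.baseOK_F4 r s hr hs hrs hneg t u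
  · exact Cfsg.Agent.Helper40.Comm.cf_of_checks _ hD Cfsg.Agent.Helper40.Comm.no3_E6 Cfsg.Agent.Helper40.Comm.negOK_E6 Cfsg.Agent.Helper40.Comm.upOK_E6 Cfsg.Agent.Helper40.Comm.domsE6 Cfsg.Agent.Helper40.Comm.domsOK_E6 Cfsg.Agent.Helper40.Comm.baseOK_E6 r s hr hs hrs hneg t u
  · exact Cfsg.Agent.Helper40.Comm.cf_of_checks _ hD Cfsg.Agent.Helper40.Comm.no3_E7 Cfsg.Agent.Helper40.Comm.negOK_E7 Cfsg.Agent.Helper40.Comm.upOK_E7 Cfsg.Agent.Helper40.Comm.domsE7 Cfsg.Agent.Helper40.Comm.domsOK_E7 Cfsg.Agent.Helper40.Comm.baseOK_E7 r s hr hs hrs hneg t u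
  · exact Cfsg.Agent.Helper40.Comm.cf_of_checks _ hD Cfsg.Agent.Helper40.Comm.no3_E8 Cfsg.Agent.Helper40.Comm.negOK_E8 Cfsg.Agent.Helper40.Comm.upOK_E8 Cfsg.Agent.Helper40.Comm.domsE8 Cfsg.Agent.Helper40.Comm.domsOK_E8 Cfsg.Agent.Helper40.Comm.baseOK_E8 r s hr hs hrs hneg t u

end Cfsg.Agent.S1025
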