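-- Statement S5079: extension of an isomorphism onto a fully automized receptive subgroup to the normalizers.
import Cfsg.Statements.S5079
import Cfsg.Agent.Helper87.FusionExtend

set_option autoImplicit false
open Cfsg

namespace Cfsg.Agent.S5079

open Cfsg.Agent.Helper87 Cfsg.FusionSystem

/-- In any fusion system over a finite p-group S: if P is fully automized and receptive and Q is conjugate to P in the system, then there is a map of the system with source N_S(Q) and values in N_S(P) carrying Q onto P. -/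
theorem result {Ω : Type*} [Group Ω] {S : Subgroup Ω} [Finite S] (p : ℕ) [Fact p.Prime] (hS : IsPGroup p S) (F : Cfsg.FusionSystem S) (P Q : Subgroup Ω) (h₁ : F.IsFullyAutomized p P) (h₂ : F.IsReceptive P) (hQ : F.IsConj Q P) : ∃ φ ∈ F.Hom (Cfsg.FusionSystem.normalizerIn S Q), (∀ x, φ x ∈ Cfsg.FusionSystem.normalizerIn S P) ∧ (Q.subgroupOf (Cfsg.FusionSystem.normalizerIn S Q)).map φ = P := by
  obtain ⟨e, he⟩ := (isConj_iff F Q P).mp hQ
  obtain ⟨φ, hφ, e', he', hφx⟩ := exists_extension_normalizerIn hS F h₁ h₂ e he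
  have hQN : Q ≤ normalizerIn S Q := le_normalizerIn he.le_left
  refine ⟨φ, hφ, fun x => ⟨(F.le_of_mem hφ).2 x, ?_⟩, ?_⟩
  · apply map_mem_normalizer φ hQN (fun q => ?_) (fun y hy => ?_) x x.2.2
    · have := hφx q
      have e1 : Subgroup.inclusion hQN q = ⟨q, le_normalizerIn he.le_left q.2⟩ := rfl
      rw [e1, this]
      exact (e' q).2
    · refine ⟨e'.symm ⟨y, hy⟩, ?_⟩
      have := hφx (e'.symm ⟨y, hy⟩)
      have e1 : Subgroup.inclusion hQN (e'.symm ⟨y, hy⟩) = ⟨_, le_normalizerIn he.le_left (e'.symm ⟨y, hy⟩).2⟩ := rfl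
      rw [e1, this]
      simp
  · ext y
    constructor
    · rintro ⟨n, hn, rfl⟩
      have hnQ : (n : Ω) ∈ Q := Subgroup.mem_subgroupOf.mp hn
      have := hφx ⟨n, hnQ⟩
      have e1 : (⟨((⟨n, hnQ⟩ : Q) : Ω), le_normalizerIn he.le_left hnQ⟩ : normalizerIn S Q) = n := Subtype.ext rfl
      rw [e1] at this
      rw [this]
      exact (e' _).2
    · intro hy
      refine ⟨⟨_, le_normalizerIn he.le_left (e'.symm ⟨y, hy⟩).2⟩, ?_, ?_⟩
      · exact Subgroup.mem_subgroupOf.mpr (e'.symm ⟨y, hy⟩).2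
      · rw [hφx]
        simp

end Cfsg.Agent.S5079
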