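import Cfsg.Statements.S5098
import Cfsg.Agent.Helper84.KNormSys

set_option autoImplicit false
open Cfsg

namespace Cfsg.Agent.S5098

open Cfsg.FusionSystem Cfsg.Agent.Helper87 Cfsg.Agent.Helper84 in
/-- The maps of the normalizer system are those of the `K`-normalizer system for `K = Aut(Q)`. -/
theorem normalizerHom_eq_KHom {Ω : Type*} [Group Ω] {S : Subgroup Ω} [Finite S] (F : Cfsg.FusionSystem S)
    {Q : Subgroup Ω} (hQS : Q ≤ S) (P : Subgroup Ω) : F.normalizerHom Q P = KHom F Q ⊤ P := by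
  have : Finite Q := finite_of_le hQS
  ext φ
  unfold Cfsg.FusionSystem.normalizerHom KHom
  simp only [Set.mem_ofPred_eq]
  rw [NK_top]
  constructor
  · rintro ⟨h1, h2, h3, ψ, hψ, hψP, hψQ⟩
    refine ⟨h1, h2, h3, ψ, hψ, hψP, ?_⟩
    obtain ⟨hin, hsurj⟩ := (Cfsg.Agent.Helper85.map_subgroupOf_eq_iff ψ).mp hψQ
    have hval : ∀ x : Q, ψ (Subgroup.inclusion le_sup_right x) ∈ Q := fun x => hin _ x.2
    have hinj : Function.Injective ((ψ.comp (Subgroup.inclusion (le_sup_right : Q ≤ P ⊔ Q))).codRestrict Q hval) := by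
      intro a b hab
      have h4 := F.injective_of_mem hψ (congrArg Subtype.val hab)
      exact Subtype.ext (congrArg (fun z : ↥(P ⊔ Q) => (z : Ω)) h4)
    have hbij := Finite.injective_iff_bijective.mp hinj
    exact ⟨MulEquiv.ofBijective _ hbij, Subgroup.mem_top _, fun x => rfl⟩
  · rintro ⟨h1, h2, h3, ψ, hψ, hψP, κ, -, hκ⟩
    refine ⟨h1, h2, h3, ψ, hψ, hψP, ?_⟩
    rw [Cfsg.Agent.Helper85.map_subgroupOf_eq_iff]
    constructor
    · intro x hx
      have : x = Subgroup.inclusion le_sup_right (⟨x, hx⟩ : Q) := Subtype.ext rfl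
      rw [this, hκ]
      exact (κ _).2
    · intro y hy
      refine ⟨Subgroup.inclusion le_sup_right (κ⁻¹ ⟨y, hy⟩), (κ⁻¹ ⟨y, hy⟩).2, ?_⟩
      rw [hκ, MulAut.apply_inv_self]


/-- If F is a saturated fusion system over a finite p-group S and Q is fully normalized in F, then the normalizer system N_F(Q) is a saturated fusion system over N_S(Q). -/
theorem result {Ω : Type*} [Group Ω] {S : Subgroup Ω} [Finite S] (p : ℕ) [Fact p.Prime] (hS : IsPGroup p S) (F : Cfsg.FusionSystem S) (hF : F.IsSaturated p) (Q : Subgroup Ω) (hQ : F.IsFullyNormalized Q) (E : Cfsg.FusionSystem (Cfsg.FusionSystem.normalizerIn S Q)) (hE : F.IsNormalizerSystem Q E) : E.IsSaturated p := by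
  have hQS : Q ≤ S := hQ.1
  have hK : Cfsg.Agent.Helper84.IsFullyKNormalized F Q ⊤ := by
    refine ⟨hQS, fun Q' e he => ?_⟩
    have h1 : Cfsg.Agent.Helper84.tr e (⊤ : Subgroup (MulAut Q)) = ⊤ :=
      Subgroup.map_top_of_surjective _ (MulAut.congr e).surjective
    rw [h1, Cfsg.Agent.Helper84.NK_top, Cfsg.Agent.Helper84.NK_top]
    exact hQ.2 Q' ((Cfsg.Agent.Helper87.isConj_iff F Q Q').mpr ⟨e, he⟩)
  refine Cfsg.Agent.Helper84.KSystem_saturated hS F hF ⊤ hK (Cfsg.Agent.Helper84.NK_top S Q).symm E (fun P => ?_)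
  rw [hE P]
  exact normalizerHom_eq_KHom F hQS P

end Cfsg.Agent.S5098
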