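import Mathlib
import Cfsg.Statements.S0250
import Cfsg.Agent.Helper5.ProjLine

set_option autoImplicit false
open Cfsg

namespace Cfsg.Agent.S0250

open Cfsg.Agent.Helper5
open scoped LinearAlgebra.Projectivization

theorem eq_zero_or_one {F : Type*} [Field F] [Fintype F] (hF : Fintype.card F = 2) (x : F) : x = 0 ∨ x = 1 := by
  classical
  have h : ({0, 1} : Finset F) = Finset.univ := by
    apply Finset.eq_univ_of_card
    rw [hF, Finset.card_pair zero_ne_one]
  have hx : x ∈ ({0, 1} : Finset F) := by rw [h]; exact Finset.mem_univ x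
  simpa using hx

/-- SL_2(2) is isomorphic to S_3. -/
theorem result {F : Type*} [Field F] [Fintype F] (hF : Fintype.card F = 2) : Nonempty (Matrix.SpecialLinearGroup (Fin 2) F ≃* Equiv.Perm (Fin 3)) := by
  classical
  let φ := MulAction.toPermHom (Matrix.SpecialLinearGroup (Fin 2) F) (ℙ F (Fin 2 → F))
  have hker : φ.ker = Subgroup.center (Matrix.SpecialLinearGroup (Fin 2) F) :=
    Projectivization.SL_mulAction_ker
  have hcenter : Subgroup.center (Matrix.SpecialLinearGroup (Fin 2) F) = ⊥ := by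
    rw [Subgroup.eq_bot_iff_forall]
    intro A hA
    rw [Matrix.SpecialLinearGroup.mem_center_iff] at hA
    obtain ⟨r, hr, hA⟩ := hA
    rcases eq_zero_or_one hF r with h | h
    · rw [h] at hr; simp at hr
    · rw [h] at hA
      apply Subtype.ext
      rw [← hA]; simp
  have hinj : Function.Injective φ := (MonoidHom.ker_eq_bot_iff φ).1 (hker.trans hcenter)
  have hcardP : Nat.card (ℙ F (Fin 2 → F)) = 3 := by rw [card_projLine, hF]
  have hfin : Finite (ℙ F (Fin 2 → F)) := Nat.finite_of_card_ne_zero (by rw [hcardP]; norm_num)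
  have hcard1 : Nat.card (Matrix.SpecialLinearGroup (Fin 2) F) = 6 := by rw [card_SL2, hF]; norm_num
  have hcard2 : Nat.card (Equiv.Perm (ℙ F (Fin 2 → F))) = 6 := by
    rw [Nat.card_perm, hcardP]; rfl
  have hbij : Function.Bijective φ :=
    (Nat.bijective_iff_injective_and_card φ).2 ⟨hinj, by rw [hcard1, hcard2]⟩
  let e1 : Matrix.SpecialLinearGroup (Fin 2) F ≃* Equiv.Perm (ℙ F (Fin 2 → F)) :=
    MulEquiv.ofBijective φ hbij
  let e2 : ℙ F (Fin 2 → F) ≃ Fin 3 := Finite.equivFinOfCardEq hcardP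
  exact ⟨e1.trans e2.permCongrHom⟩

end Cfsg.Agent.S0250
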