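import Cfsg.Statements.S4269
-- import your own Cfsg.Agent.* helpers here

set_option autoImplicit false
open Cfsg

namespace Cfsg.Agent.S4269

open scoped commutatorElement

variable {G : Type*} [Group G]

/-- Conjugate of a subgroup. -/
abbrev cj (g : G) (H : Subgroup G) : Subgroup G := H.map (MulAut.conj g).toMonoidHom

theorem mem_cj {g x : G} {H : Subgroup G} : x ∈ cj g H ↔ ∃ h ∈ H, g * h * g⁻¹ = x := by
  simp [cj, Subgroup.mem_map]

theorem cj_mul (a b : G) (H : Subgroup G) : cj (a * b) H = cj a (cj b H) := by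
  ext x
  simp only [mem_cj]
  constructor
  · rintro ⟨h, hh, rfl⟩
    exact ⟨b * h * b⁻¹, ⟨h, hh, rfl⟩, by group⟩
  · rintro ⟨y, ⟨h, hh, rfl⟩, rfl⟩
    exact ⟨h, hh, by group⟩

theorem cj_of_mem {h : G} {H : Subgroup G} (hh : h ∈ H) : cj h H = H := by
  ext x
  rw [mem_cj]
  constructor
  · rintro ⟨k, hk, rfl⟩
    exact H.mul_mem (H.mul_mem hh hk) (H.inv_mem hh)
  · intro hx
    exact ⟨h⁻¹ * x * h, H.mul_mem (H.mul_mem (H.inv_mem hh) hx) hh, by group⟩

theorem cj_of_mem_normalizer {n : G} {H : Subgroup G}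
    (hn : n ∈ Subgroup.normalizer (H : Set G)) : cj n H = H := by
  rw [Subgroup.mem_normalizer_iff] at hn
  ext x
  rw [mem_cj]
  constructor
  · rintro ⟨k, hk, rfl⟩
    exact (hn k).mp hk
  · intro hx
    refine ⟨n⁻¹ * x * n, ?_, by group⟩
    rw [hn]
    have : n * (n⁻¹ * x * n) * n⁻¹ = x := by group
    rwa [this]

/-- If `H` normalizes `W`, every element of `W ⊔ H` is a product `w * h`. -/
theorem mem_sup_of_normalizes {W H : Subgroup G}
    (hn : ∀ h ∈ H, ∀ w ∈ W, h * w * h⁻¹ ∈ W) {g : G} (hg : g ∈ W ⊔ H) :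
    ∃ w ∈ W, ∃ h ∈ H, g = w * h := by
  rw [Subgroup.sup_eq_closure] at hg
  refine Subgroup.closure_induction ?_ ?_ ?_ ?_ hg
  · rintro x (hx | hx)
    · exact ⟨x, hx, 1, H.one_mem, by simp⟩
    · exact ⟨1, W.one_mem, x, hx, by simp⟩
  · exact ⟨1, W.one_mem, 1, H.one_mem, by simp⟩
  · rintro _ _ _ _ ⟨w₁, hw₁, h₁, hh₁, rfl⟩ ⟨w₂, hw₂, h₂, hh₂, rfl⟩
    exact ⟨w₁ * (h₁ * w₂ * h₁⁻¹), W.mul_mem hw₁ (hn h₁ hh₁ w₂ hw₂), h₁ * h₂, H.mul_mem hh₁ hh₂,
      by group⟩
  · rintro _ _ ⟨w, hw, h, hh, rfl⟩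
    refine ⟨h⁻¹ * w⁻¹ * h⁻¹⁻¹, hn h⁻¹ (H.inv_mem hh) w⁻¹ (W.inv_mem hw), h⁻¹, H.inv_mem hh, by group⟩

/-- `⁅H, U⁆` is normalized by `H` when `U` is `H`-invariant. -/
theorem commutator_normalized {H U : Subgroup G} (hU : ∀ h ∈ H, cj h U = U) :
    ∀ k ∈ H, ∀ w ∈ ⁅H, U⁆, k * w * k⁻¹ ∈ ⁅H, U⁆ := by
  intro k hk w hw
  have h1 : cj k ⁅H, U⁆ = ⁅H, U⁆ := by
    unfold cj
    rw [Subgroup.map_commutator]
    change ⁅cj k H, cj k U⁆ = _
    rw [cj_of_mem hk, hU k hk]
  rw [← h1]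
  exact mem_cj.mpr ⟨w, hw, rfl⟩

theorem commutator_le_of_invariant {H U : Subgroup G} (hU : ∀ h ∈ H, cj h U = U) :
    ⁅H, U⁆ ≤ U := by
  rw [Subgroup.commutator_le]
  intro h hh u hu
  have : h * u * h⁻¹ ∈ U := by
    rw [← hU h hh]
    exact mem_cj.mpr ⟨u, hu, rfl⟩
  exact U.mul_mem this (U.inv_mem hu)

/-- Let G be a finite group, V an abelian normal subgroup and H a subgroup with HV = G. Then H is pronormal in G (H and gHg⁻¹ are conjugate inside the subgroup they generate, for every g) if and only if every H-invariant subgroup U of V satisfies U = N_U(H)·[H, U], that is, U is the join of U ∩ N_G(H) and the commutator subgroup [H, U]. -/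
theorem result {G : Type*} [Group G] [Finite G]
    (V : Subgroup G) [V.Normal] (hV : IsMulCommutative ↥V) (H : Subgroup G) (hHV : H ⊔ V = ⊤) :
    Cfsg.IsPronormal H ↔
      ∀ U : Subgroup G, U ≤ V → (∀ h ∈ H, U.map (MulAut.conj h).toMonoidHom = U) →
        U = (U ⊓ Subgroup.normalizer (H : Set G)) ⊔ ⁅H, U⁆ := by
  have hVn : V.Normal := inferInstance
  have hVcomm : ∀ a ∈ V, ∀ b ∈ V, a * b = b * a := by
    intro a ha b hb
    have := congrArg Subtype.val (mul_comm' (⟨a, ha⟩ : V) ⟨b, hb⟩)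
    simpa using this
  constructor
  · -- pronormal ⇒ condition
    intro hP U hUV hU
    have hWU : ⁅H, U⁆ ≤ U := commutator_le_of_invariant hU
    apply le_antisymm
    · intro u hu
      obtain ⟨x, hx, hxe⟩ := hP u
      -- x ∈ H ⊔ cj u H ≤ ⁅H,U⁆ ⊔ H
      have hsub : H ⊔ cj u H ≤ ⁅H, U⁆ ⊔ H := by
        apply sup_le le_sup_right
        intro y hy
        obtain ⟨h, hh, rfl⟩ := mem_cj.mp hy
        have h1 : u * h * u⁻¹ = h * ⁅h⁻¹, u⁆ := by
          simp only [commutatorElement_def]; group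
        rw [h1]
        exact Subgroup.mul_mem _ (Subgroup.mem_sup_right hh)
          (Subgroup.mem_sup_left (Subgroup.commutator_mem_commutator (H.inv_mem hh) hu))
      obtain ⟨w, hw, h, hh, rfl⟩ := mem_sup_of_normalizes (commutator_normalized hU) (hsub hx)
      -- cj u H = cj (w*h) H = cj w H
      have h2 : cj u H = cj w H := by
        change cj u H = cj (w * h) H at hxe
        rw [hxe, cj_mul, cj_of_mem hh]
      -- w⁻¹ * u normalizes H
      have h3 : w⁻¹ * u ∈ Subgroup.normalizer (H : Set G) := by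
        have h4 : cj (w⁻¹ * u) H = H := by
          rw [cj_mul, h2, ← cj_mul, inv_mul_cancel]
          exact cj_of_mem H.one_mem
        rw [Subgroup.mem_normalizer_iff]
        intro k
        constructor
        · intro hk
          rw [← h4]
          exact mem_cj.mpr ⟨k, hk, rfl⟩
        · intro hk
          have h5 : cj (w⁻¹ * u)⁻¹ H = H := by
            conv_lhs => rw [← h4]
            rw [← cj_mul, inv_mul_cancel]
            exact cj_of_mem H.one_mem
          have : (w⁻¹ * u)⁻¹ * (w⁻¹ * u * k * (w⁻¹ * u)⁻¹) * (w⁻¹ * u)⁻¹⁻¹ ∈ cj (w⁻¹ * u)⁻¹ H :=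
            mem_cj.mpr ⟨_, hk, rfl⟩
          rw [h5] at this
          have e : (w⁻¹ * u)⁻¹ * (w⁻¹ * u * k * (w⁻¹ * u)⁻¹) * (w⁻¹ * u)⁻¹⁻¹ = k := by group
          rwa [e] at this
      have h6 : w⁻¹ * u ∈ U := U.mul_mem (U.inv_mem (hWU hw)) hu
      have h7 : u = (w⁻¹ * u) * w := by
        have hwV : w ∈ V := hUV (hWU hw)
        have huV : u ∈ V := hUV hu
        rw [mul_assoc, hVcomm u huV w hwV]; group
      rw [h7]
      exact Subgroup.mul_mem_sup ⟨h6, h3⟩ hw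
    · exact sup_le inf_le_left hWU
  · -- condition ⇒ pronormal
    intro hcond g
    have hg : g ∈ V ⊔ H := by rw [sup_comm, hHV]; exact Subgroup.mem_top g
    obtain ⟨v, hv, h, hh, rfl⟩ := Subgroup.mem_sup_of_normal_left.mp hg
    have hgv : cj (v * h) H = cj v H := by rw [cj_mul, cj_of_mem hh]
    -- the H-closure of v
    set S : Set G := {y | ∃ k ∈ H, y = k * v * k⁻¹} with hS
    set U : Subgroup G := Subgroup.closure S with hUdef
    have hSV : S ⊆ V := by
      rintro y ⟨k, _, rfl⟩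
      exact hVn.conj_mem v hv k
    have hUV : U ≤ V := (Subgroup.closure_le V).mpr hSV
    have hvU : v ∈ U := Subgroup.subset_closure ⟨1, H.one_mem, by simp⟩
    have hUinv : ∀ k ∈ H, U.map (MulAut.conj k).toMonoidHom = U := by
      intro k hk
      rw [hUdef, MonoidHom.map_closure]
      congr 1
      ext y
      simp only [Set.mem_image, hS, Set.mem_ofPred_eq]
      constructor
      · rintro ⟨_, ⟨l, hl, rfl⟩, rfl⟩
        exact ⟨k * l, H.mul_mem hk hl, by simp [MulAut.conj_apply]; group⟩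
      · rintro ⟨l, hl, rfl⟩
        exact ⟨k⁻¹ * l * v * (k⁻¹ * l)⁻¹, ⟨k⁻¹ * l, H.mul_mem (H.inv_mem hk) hl, rfl⟩,
          by simp [MulAut.conj_apply]; group⟩
    have hUeq := hcond U hUV hUinv
    have hWU : ⁅H, U⁆ ≤ U := commutator_le_of_invariant hUinv
    -- J = H ⊔ cj v H contains ⁅H,U⁆
    have hJ : ⁅H, U⁆ ≤ H ⊔ cj v H := by
      rw [Subgroup.commutator_le]
      intro a ha u hu
      revert a
      refine Subgroup.closure_induction (p := fun u _ => ∀ a ∈ H, ⁅a, u⁆ ∈ H ⊔ cj v H)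
        ?_ ?_ ?_ ?_ hu
      · rintro _ ⟨k, hk, rfl⟩ a ha
        have e : ⁅a, k * v * k⁻¹⁆ = k * ((k⁻¹ * a * k) * (v * (k⁻¹ * a * k)⁻¹ * v⁻¹)) * k⁻¹ := by
          simp only [commutatorElement_def]; group
        rw [e]
        have hk' : k ∈ H ⊔ cj v H := Subgroup.mem_sup_left hk
        have ha' : k⁻¹ * a * k ∈ H := H.mul_mem (H.mul_mem (H.inv_mem hk) ha) hk
        refine Subgroup.mul_mem _ (Subgroup.mul_mem _ hk' ?_) (Subgroup.inv_mem _ hk')
        exact Subgroup.mul_mem_sup ha' (mem_cj.mpr ⟨_, H.inv_mem ha', rfl⟩)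
      · intro a _
        simp [commutatorElement_def]
      · intro x y hx hy ihx ihy a ha
        have hxV : x ∈ V := hUV hx
        have hcV : ⁅a, y⁆ ∈ V := by
          have : a * y * a⁻¹ ∈ V := hVn.conj_mem y (hUV hy) a
          exact V.mul_mem this (V.inv_mem (hUV hy))
        have e : ⁅a, x * y⁆ = ⁅a, x⁆ * ⁅a, y⁆ := by
          have e1 : ⁅a, x * y⁆ = ⁅a, x⁆ * (x * ⁅a, y⁆ * x⁻¹) := by
            simp only [commutatorElement_def]; group
          rw [e1, hVcomm x hxV _ hcV]; group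
        rw [e]
        exact Subgroup.mul_mem _ (ihx a ha) (ihy a ha)
      · intro x hx ihx a ha
        have hxV : x ∈ V := hUV hx
        have hcV : ⁅a, x⁆ ∈ V := by
          have : a * x * a⁻¹ ∈ V := hVn.conj_mem x hxV a
          exact V.mul_mem this (V.inv_mem hxV)
        have e : ⁅a, x⁻¹⁆ = (⁅a, x⁆)⁻¹ := by
          have e1 : ⁅a, x⁻¹⁆ = x⁻¹ * (⁅a, x⁆)⁻¹ * x := by
            simp only [commutatorElement_def]; group
          have hcV' : (⁅a, x⁆)⁻¹ ∈ V := V.inv_mem hcV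
          rw [e1, mul_assoc, hVcomm _ hcV' x hxV]; group
        rw [e]
        exact Subgroup.inv_mem _ (ihx a ha)
    -- decompose v
    have hvmem : v ∈ ⁅H, U⁆ ⊔ (U ⊓ Subgroup.normalizer (H : Set G)) := by
      rw [sup_comm, ← hUeq]; exact hvU
    have hnorm : ∀ n ∈ U ⊓ Subgroup.normalizer (H : Set G), ∀ w ∈ ⁅H, U⁆,
        n * w * n⁻¹ ∈ ⁅H, U⁆ := by
      intro n hn w hw
      have : n * w * n⁻¹ = w := by
        rw [hVcomm n (hUV hn.1) w (hUV (hWU hw))]; group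
      rwa [this]
    obtain ⟨w, hw, n, hn, hvwn⟩ := mem_sup_of_normalizes hnorm hvmem
    refine ⟨w, ?_, ?_⟩
    · change w ∈ H ⊔ cj (v * h) H
      rw [hgv]
      exact hJ hw
    · change cj (v * h) H = cj w H
      rw [hgv, hvwn, cj_mul, cj_of_mem_normalizer hn.2]

end Cfsg.Agent.S4269
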