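import Cfsg.Statements.S0708
-- import your own Cfsg.Agent.* helpers here

set_option autoImplicit false
open Cfsg

namespace Cfsg.Agent.S0708

section helpers

open MulAction

variable {G : Type*} [Group G] {Ω : Type*} [MulAction G Ω]

theorem injective_vec4 {a1 a2 a3 a4 : Ω} (h12 : a1 ≠ a2) (h13 : a1 ≠ a3) (h14 : a1 ≠ a4)
    (h23 : a2 ≠ a3) (h24 : a2 ≠ a4) (h34 : a3 ≠ a4) :
    Function.Injective ![a1, a2, a3, a4] := by
  intro i j h
  fin_cases i <;> fin_cases j <;> simp_all

/-- 4-transitivity in terms of points -/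
theorem exists_map4 (h4 : IsMultiplyPretransitive G Ω 4) {a1 a2 a3 a4 b1 b2 b3 b4 : Ω}
    (h12 : a1 ≠ a2) (h13 : a1 ≠ a3) (h14 : a1 ≠ a4)
    (h23 : a2 ≠ a3) (h24 : a2 ≠ a4) (h34 : a3 ≠ a4)
    (k12 : b1 ≠ b2) (k13 : b1 ≠ b3) (k14 : b1 ≠ b4)
    (k23 : b2 ≠ b3) (k24 : b2 ≠ b4) (k34 : b3 ≠ b4) :
    ∃ g : G, g • a1 = b1 ∧ g • a2 = b2 ∧ g • a3 = b3 ∧ g • a4 = b4 := by
  let a : Fin 4 ↪ Ω := ⟨![a1, a2, a3, a4], injective_vec4 h12 h13 h14 h23 h24 h34⟩
  let b : Fin 4 ↪ Ω := ⟨![b1, b2, b3, b4], injective_vec4 k12 k13 k14 k23 k24 k34⟩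
  obtain ⟨g, hg⟩ := h4.exists_smul_eq a b
  refine ⟨g, ?_, ?_, ?_, ?_⟩
  · simpa [a, b] using DFunLike.congr_fun hg 0
  · simpa [a, b] using DFunLike.congr_fun hg 1
  · simpa [a, b] using DFunLike.congr_fun hg 2
  · simpa [a, b] using DFunLike.congr_fun hg 3

/-- sharpness in terms of points -/
theorem eq_one_of_fix4 (hsharp : ∀ x : Fin 4 ↪ Ω, stabilizer G x = ⊥) {a1 a2 a3 a4 : Ω}
    (h12 : a1 ≠ a2) (h13 : a1 ≠ a3) (h14 : a1 ≠ a4)
    (h23 : a2 ≠ a3) (h24 : a2 ≠ a4) (h34 : a3 ≠ a4) {g : G}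
    (g1 : g • a1 = a1) (g2 : g • a2 = a2) (g3 : g • a3 = a3) (g4 : g • a4 = a4) : g = 1 := by
  let a : Fin 4 ↪ Ω := ⟨![a1, a2, a3, a4], injective_vec4 h12 h13 h14 h23 h24 h34⟩
  have : g ∈ stabilizer G a := by
    rw [mem_stabilizer_iff]
    ext i
    fin_cases i <;> simp [a, g1, g2, g3, g4]
  rw [hsharp a] at this
  exact Subgroup.mem_bot.mp this

/-- an element mapping the pair `(a, x a)` to itself and the pair `(b, x b)` to `(c, x c)`
commutes with the involution `x`. -/
theorem commute_of_map_pairs (hsharp : ∀ x : Fin 4 ↪ Ω, stabilizer G x = ⊥) {x g : G}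
    (hx : ∀ y : Ω, x • x • y = y) {a b c : Ω}
    (h12 : a ≠ x • a) (h13 : a ≠ c) (h14 : a ≠ x • c) (h23 : x • a ≠ c) (h24 : x • a ≠ x • c)
    (h34 : c ≠ x • c)
    (g1 : g • a = a) (g2 : g • x • a = x • a) (g3 : g • b = c) (g4 : g • x • b = x • c) :
    g * x = x * g := by
  have hxinv : ∀ y : Ω, x⁻¹ • y = x • y := fun y => by rw [inv_smul_eq_iff, hx]
  have i1 : g⁻¹ • a = a := by rw [inv_smul_eq_iff, g1]
  have i2 : g⁻¹ • x • a = x • a := by rw [inv_smul_eq_iff, g2]
  have i3 : g⁻¹ • c = b := by rw [inv_smul_eq_iff, g3]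
  have i4 : g⁻¹ • x • c = x • b := by rw [inv_smul_eq_iff, g4]
  have key : g * x * g⁻¹ * x⁻¹ = 1 := by
    apply eq_one_of_fix4 hsharp h12 h13 h14 h23 h24 h34
    · rw [mul_smul, mul_smul, mul_smul, hxinv, i2, hx, g1]
    · rw [mul_smul, mul_smul, mul_smul, hxinv, hx, i1, g2]
    · rw [mul_smul, mul_smul, mul_smul, hxinv, i4, hx, g3]
    · rw [mul_smul, mul_smul, mul_smul, hxinv, hx, i3, g4]
  calc g * x = (g * x * g⁻¹ * x⁻¹) * (x * g) := by group
    _ = x * g := by rw [key, one_mul]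

/-- The pigeonhole core of Tits' argument. -/
theorem two_mul_card_le [DecidableEq Ω] (h4 : IsMultiplyPretransitive G Ω 4)
    (hsharp : ∀ x : Fin 4 ↪ Ω, stabilizer G x = ⊥) {x : G}
    (hx : ∀ y : Ω, x • x • y = y) {a p3 p4 : Ω} (ha : a ≠ x • a) (h34 : p3 ≠ p4)
    (F : Finset Ω) (hF : ∀ y, x • y = y ↔ y ∈ F) (hp3 : p3 ∈ F) (hp4 : p4 ∈ F)
    (B : Finset Ω) (hB1 : ∀ b ∈ B, b ≠ a ∧ b ≠ x • a) (hB2 : ∀ b ∈ B, ∀ b' ∈ B, x • b ≠ b') :
    2 * B.card ≤ F.offDiag.card := by
  rcases B.eq_empty_or_nonempty with rfl | ⟨b₁, hb₁⟩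
  · simp
  -- the doubled set
  set B₂ := B ∪ B.image (fun b => x • b) with hB₂
  have hdisj : Disjoint B (B.image (fun b => x • b)) := by
    rw [Finset.disjoint_left]
    intro y hy hy'
    rw [Finset.mem_image] at hy'
    obtain ⟨b, hb, rfl⟩ := hy'
    exact hB2 b hb _ hy rfl
  have hcard : B₂.card = 2 * B.card := by
    rw [hB₂, Finset.card_union_of_disjoint hdisj,
      Finset.card_image_of_injective _ (MulAction.injective x)]
    ring
  -- properties of the elements of B₂
  have hprop : ∀ c ∈ B₂, c ≠ a ∧ c ≠ x • a ∧ x • c ≠ a ∧ x • c ≠ x • a ∧ c ≠ x • c := by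
    intro c hc
    rw [hB₂, Finset.mem_union, Finset.mem_image] at hc
    rcases hc with hc | ⟨b, hb, rfl⟩
    · refine ⟨(hB1 c hc).1, (hB1 c hc).2, ?_, ?_, ?_⟩
      · intro h
        apply (hB1 c hc).2
        rw [← h, hx]
      · intro h
        exact (hB1 c hc).1 (MulAction.injective x h)
      · exact fun h => hB2 c hc c hc h.symm
    · refine ⟨?_, ?_, ?_, ?_, ?_⟩
      · intro h
        apply (hB1 b hb).2
        rw [← h, hx]
      · intro h
        exact (hB1 b hb).1 (MulAction.injective x h)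
      · rw [hx]; exact (hB1 b hb).1
      · rw [hx]; exact (hB1 b hb).2
      · rw [hx]; exact hB2 b hb b hb
  have hb₁' := hprop b₁ (Finset.mem_union_left _ hb₁)
  -- the group elements
  have hex : ∀ c ∈ B₂, ∃ g : G, g • a = a ∧ g • x • a = x • a ∧ g • b₁ = c ∧ g • x • b₁ = x • c := by
    intro c hc
    obtain ⟨c1, c2, c3, c4, c5⟩ := hprop c hc
    obtain ⟨d1, d2, d3, d4, d5⟩ := hb₁'
    exact exists_map4 h4 ha d1.symm d3.symm d2.symm d4.symm d5 ha c1.symm c3.symm c2.symm c4.symm c5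
  choose! g hg using hex
  have hcomm : ∀ c ∈ B₂, g c * x = x * g c := by
    intro c hc
    obtain ⟨c1, c2, c3, c4, c5⟩ := hprop c hc
    obtain ⟨g1, g2, g3, g4⟩ := hg c hc
    exact commute_of_map_pairs hsharp hx ha c1.symm c3.symm c2.symm c4.symm c5 g1 g2 g3 g4
  have hfix : ∀ c ∈ B₂, ∀ p ∈ F, g c • p ∈ F := by
    intro c hc p hp
    rw [← hF, ← mul_smul, ← hcomm c hc, mul_smul, (hF p).mpr hp]
  -- the map
  have hmaps : ∀ c ∈ B₂, (g c • p3, g c • p4) ∈ F.offDiag := by
    intro c hc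
    rw [Finset.mem_offDiag]
    exact ⟨hfix c hc p3 hp3, hfix c hc p4 hp4, fun h => h34 (MulAction.injective _ h)⟩
  have hinj : Set.InjOn (fun c => (g c • p3, g c • p4)) (B₂ : Set Ω) := by
    intro c hc c' hc' h
    simp only [Prod.mk.injEq] at h
    obtain ⟨g1, g2, g3, g4⟩ := hg c hc
    obtain ⟨g1', g2', g3', g4'⟩ := hg c' hc'
    have hp3x : x • p3 = p3 := (hF p3).mpr hp3
    have hp4x : x • p4 = p4 := (hF p4).mpr hp4
    have hap3 : a ≠ p3 := by
      rintro rfl; exact ha hp3x.symm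
    have hap4 : a ≠ p4 := by
      rintro rfl; exact ha hp4x.symm
    have hxap3 : x • a ≠ p3 := by
      intro h'
      apply hap3
      calc a = x • x • a := (hx a).symm
        _ = x • p3 := by rw [h']
        _ = p3 := hp3x
    have hxap4 : x • a ≠ p4 := by
      intro h'
      apply hap4
      calc a = x • x • a := (hx a).symm
        _ = x • p4 := by rw [h']
        _ = p4 := hp4x
    have key : (g c')⁻¹ * g c = 1 := by
      apply eq_one_of_fix4 hsharp ha hap3 hap4 hxap3 hxap4 h34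
      · rw [mul_smul, g1, inv_smul_eq_iff, g1']
      · rw [mul_smul, g2, inv_smul_eq_iff, g2']
      · rw [mul_smul, h.1, inv_smul_smul]
      · rw [mul_smul, h.2, inv_smul_smul]
    have : g c = g c' := by
      rw [inv_mul_eq_one] at key
      exact key.symm
    rw [← g3, this, g3']
  have := Finset.card_le_card_of_injOn _ hmaps hinj
  rw [hcard] at this
  exact this

/-- greedy choice of pair representatives -/
theorem exists_good_cover [DecidableEq Ω] {x : G} (hx : ∀ y : Ω, x • x • y = y) (a : Ω)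
    (F : Finset Ω) (hF : ∀ y, x • y = y ↔ y ∈ F) (S : Finset Ω) :
    ∃ B : Finset Ω, (∀ b ∈ B, b ≠ a ∧ b ≠ x • a) ∧ (∀ b ∈ B, ∀ b' ∈ B, x • b ≠ b') ∧
      S ⊆ (F ∪ {a, x • a}) ∪ (B ∪ B.image (fun b => x • b)) := by
  induction S using Finset.induction_on with
  | empty => exact ⟨∅, by simp, by simp, Finset.empty_subset _⟩
  | insert y S hy ih =>
    obtain ⟨B, h1, h2, h3⟩ := ih
    by_cases hyc : y ∈ (F ∪ {a, x • a}) ∪ (B ∪ B.image (fun b => x • b))
    · exact ⟨B, h1, h2, Finset.insert_subset hyc h3⟩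
    · simp only [Finset.mem_union, Finset.mem_insert, Finset.mem_singleton, Finset.mem_image,
        not_or, not_exists, not_and] at hyc
      obtain ⟨⟨hyF, hya, hyxa⟩, hyB, hyxB⟩ := hyc
      refine ⟨insert y B, ?_, ?_, ?_⟩
      · intro b hb
        rw [Finset.mem_insert] at hb
        rcases hb with rfl | hb
        · exact ⟨hya, hyxa⟩
        · exact h1 b hb
      · intro b hb b' hb'
        rw [Finset.mem_insert] at hb hb'
        rcases hb with rfl | hb <;> rcases hb' with rfl | hb'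
        · exact fun h => hyF ((hF _).mp h)
        · intro h
          apply hyxB b' hb'
          rw [← h, hx]
        · exact hyxB b hb
        · exact h2 b hb b' hb'
      · intro z hz
        rw [Finset.mem_insert] at hz
        rcases hz with rfl | hz
        · simp
        · have := h3 hz
          simp only [Finset.mem_union, Finset.mem_insert, Finset.mem_singleton,
            Finset.mem_image] at this ⊢
          rcases this with (h | h | h) | h | ⟨b, hb, rfl⟩
          · exact Or.inl (Or.inl h)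
          · exact Or.inl (Or.inr (Or.inl h))
          · exact Or.inl (Or.inr (Or.inr h))
          · exact Or.inr (Or.inl (Or.inr h))
          · exact Or.inr (Or.inr ⟨b, Or.inr hb, rfl⟩)

theorem card_le_of_cover [DecidableEq Ω] {x : G} {a : Ω} {F B S : Finset Ω}
    (h : S ⊆ (F ∪ {a, x • a}) ∪ (B ∪ B.image (fun b => x • b))) :
    S.card ≤ F.card + 2 + 2 * B.card := by
  have h1 := Finset.card_le_card h
  have h2 := Finset.card_union_le (F ∪ {a, x • a}) (B ∪ B.image (fun b => x • b))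
  have h3 := Finset.card_union_le F {a, x • a}
  have h4 := Finset.card_union_le B (B.image (fun b => x • b))
  have h5 : (B.image (fun b => x • b)).card ≤ B.card := Finset.card_image_le
  have h6 : ({a, x • a} : Finset Ω).card ≤ 2 := Finset.card_le_two
  omega

/-- the involution and its fixed point set -/
theorem exists_involution [DecidableEq Ω] (h4 : IsMultiplyPretransitive G Ω 4)
    (hsharp : ∀ x : Fin 4 ↪ Ω, stabilizer G x = ⊥) (hne : Nonempty (Fin 4 ↪ Ω)) :
    ∃ (x : G) (a p3 p4 : Ω) (F : Finset Ω), (∀ y : Ω, x • x • y = y) ∧ a ≠ x • a ∧ p3 ≠ p4 ∧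
      (∀ y, x • y = y ↔ y ∈ F) ∧ p3 ∈ F ∧ p4 ∈ F ∧ (F.card = 2 ∨ F.card = 3) := by
  obtain ⟨e⟩ := hne
  have hinj : ∀ i j : Fin 4, i ≠ j → e i ≠ e j := fun i j hij h => hij (e.injective h)
  have h12 := hinj 0 1 (by decide)
  have h13 := hinj 0 2 (by decide)
  have h14 := hinj 0 3 (by decide)
  have h23 := hinj 1 2 (by decide)
  have h24 := hinj 1 3 (by decide)
  have h34 := hinj 2 3 (by decide)
  obtain ⟨x, x1, x2, x3, x4⟩ := exists_map4 h4 h12 h13 h14 h23 h24 h34 h12.symm h23 h24 h13 h14 h34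
  have hxx : x * x = 1 := by
    apply eq_one_of_fix4 hsharp h12 h13 h14 h23 h24 h34
    · rw [mul_smul, x1, x2]
    · rw [mul_smul, x2, x1]
    · rw [mul_smul, x3, x3]
    · rw [mul_smul, x4, x4]
  have hx : ∀ y : Ω, x • x • y = y := fun y => by rw [← mul_smul, hxx, one_smul]
  have ha : e 0 ≠ x • e 0 := by rw [x1]; exact h12
  have hx1 : x ≠ 1 := by
    rintro rfl
    rw [one_smul] at ha
    exact ha rfl
  by_cases h5 : ∃ p5, x • p5 = p5 ∧ p5 ≠ e 2 ∧ p5 ≠ e 3
  · obtain ⟨p5, hp5, h53, h54⟩ := h5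
    refine ⟨x, e 0, e 2, e 3, {e 2, e 3, p5}, hx, ha, h34, ?_, by simp, by simp, Or.inr ?_⟩
    · intro y
      constructor
      · intro hy
        by_contra hcon
        simp only [Finset.mem_insert, Finset.mem_singleton, not_or] at hcon
        obtain ⟨c1, c2, c3⟩ := hcon
        exact hx1 (eq_one_of_fix4 hsharp h34 (Ne.symm h53) (Ne.symm c1) (Ne.symm h54)
          (Ne.symm c2) (Ne.symm c3) x3 x4 hp5 hy)
      · intro hy
        simp only [Finset.mem_insert, Finset.mem_singleton] at hy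
        rcases hy with rfl | rfl | rfl
        · exact x3
        · exact x4
        · exact hp5
    · rw [Finset.card_eq_three]
      exact ⟨e 2, e 3, p5, h34, Ne.symm h53, Ne.symm h54, rfl⟩
  · push Not at h5
    refine ⟨x, e 0, e 2, e 3, {e 2, e 3}, hx, ha, h34, ?_, by simp, by simp, Or.inl ?_⟩
    · intro y
      constructor
      · intro hy
        by_contra hcon
        simp only [Finset.mem_insert, Finset.mem_singleton, not_or] at hcon
        exact hcon.2 (h5 y hy hcon.1)
      · intro hy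
        simp only [Finset.mem_insert, Finset.mem_singleton] at hy
        rcases hy with rfl | rfl
        · exact x3
        · exact x4
    · exact Finset.card_pair h34

/-- every finite set of points has at most `11` elements, at most `6` if there are
only two fixed points. -/
theorem card_finset_le [DecidableEq Ω] (h4 : IsMultiplyPretransitive G Ω 4)
    (hsharp : ∀ x : Fin 4 ↪ Ω, stabilizer G x = ⊥) {x : G}
    (hx : ∀ y : Ω, x • x • y = y) {a p3 p4 : Ω} (ha : a ≠ x • a) (h34 : p3 ≠ p4)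
    (F : Finset Ω) (hF : ∀ y, x • y = y ↔ y ∈ F) (hp3 : p3 ∈ F) (hp4 : p4 ∈ F)
    (S : Finset Ω) :
    S.card ≤ F.card + 2 + (F.card * F.card - F.card) := by
  obtain ⟨B, hB1, hB2, hcov⟩ := exists_good_cover hx a F hF S
  have h1 := card_le_of_cover hcov
  have h2 := two_mul_card_le h4 hsharp hx ha h34 F hF hp3 hp4 B hB1 hB2
  rw [Finset.offDiag_card] at h2
  omega

end helpers

/-- Tits' argument: a sharply 4-transitive group (no finiteness assumed) has finite degree at most 11, and at most 6 when the degree is even. -/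
theorem result {G : Type*} [Group G] {Ω : Type*} [MulAction G Ω] (h4 : MulAction.IsMultiplyPretransitive G Ω 4) (hsharp : ∀ x : Fin 4 ↪ Ω, MulAction.stabilizer G x = ⊥) (hne : Nonempty (Fin 4 ↪ Ω)) : Finite Ω ∧ Nat.card Ω ≤ 11 ∧ (Even (Nat.card Ω) → Nat.card Ω ≤ 6) := by
  classical
  obtain ⟨x, a, p3, p4, F, hx, ha, h34, hF, hp3, hp4, hFc⟩ := exists_involution h4 hsharp hne
  have hbound := card_finset_le h4 hsharp hx ha h34 F hF hp3 hp4
  have hS : ∀ S : Finset Ω, S.card ≤ 11 := by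
    intro S
    have := hbound S
    rcases hFc with h | h <;> rw [h] at this <;> omega
  have hfin : Finite Ω := by
    by_contra hinf
    rw [not_finite_iff_infinite] at hinf
    obtain ⟨S, hS12⟩ := Infinite.exists_subset_card_eq Ω 12
    have := hS S
    omega
  refine ⟨hfin, ?_, ?_⟩
  · have := Fintype.ofFinite Ω
    rw [Nat.card_eq_fintype_card, ← Finset.card_univ]
    exact hS _
  · intro heven
    have := Fintype.ofFinite Ω
    rw [Nat.card_eq_fintype_card] at heven ⊢
    have hF2 : F.card = 2 := by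
      rcases hFc with h | h
      · exact h
      · exfalso
        have hσ : (MulAction.toPerm x : Equiv.Perm Ω) ^ 2 ^ 1 = 1 := by
          ext y
          simp [pow_two, hx]
        have h1 := Equiv.Perm.card_compl_support_modEq (p := 2) (n := 1) hσ
        have h2 : (MulAction.toPerm x : Equiv.Perm Ω).supportᶜ = F := by
          ext y
          simp [hF]
        rw [h2, h] at h1
        have h3 : Fintype.card Ω % 2 = 0 := Nat.even_iff.mp heven
        unfold Nat.ModEq at h1
        omega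
    have := hbound Finset.univ
    rw [hF2, Finset.card_univ] at this
    omega

end Cfsg.Agent.S0708
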