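import Mathlib
import Cfsg.Statements.S0199

set_option autoImplicit false
open Cfsg
open scoped Pointwise

namespace Cfsg.Agent.S0199

variable {G : Type*} [Group G]

/-- the set of `g` with `g X g⁻¹ ≤ H` -/
def S (X H : Subgroup G) : Set G := {g | MulAut.conj g • X ≤ H}

theorem mem_S {X H : Subgroup G} {g : G} : g ∈ S X H ↔ MulAut.conj g • X ≤ H := Iff.rfl

theorem conj_mul_smul (a b : G) (X : Subgroup G) :
    MulAut.conj (a * b) • X = MulAut.conj a • MulAut.conj b • X := by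
  rw [map_mul, mul_smul]

/-- `S X (c • H) = c * S X H` -/
theorem S_smul (X H : Subgroup G) (c : G) :
    S X (MulAut.conj c • H) = (fun g => c * g) '' S X H := by
  ext g
  simp only [mem_S, Set.mem_image]
  constructor
  · intro h
    refine ⟨c⁻¹ * g, ?_, by group⟩
    rw [conj_mul_smul, map_inv, ← Subgroup.subset_pointwise_smul_iff]
    exact h
  · rintro ⟨g', hg', rfl⟩
    rw [conj_mul_smul]
    exact Subgroup.pointwise_smul_le_pointwise_smul_iff.2 hg'

theorem mul_mem_S_of_mem {X P : Subgroup G} {y g : G} (hy : y ∈ P) (hg : g ∈ S X P) :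
    y * g ∈ S X P := by
  rw [mem_S, conj_mul_smul]
  have h1 : MulAut.conj y • MulAut.conj g • X ≤ MulAut.conj y • P :=
    Subgroup.pointwise_smul_le_pointwise_smul_iff.2 hg
  rwa [Subgroup.conj_smul_eq_self_of_mem hy] at h1

/-- In a finite `p`-group `P ≤ G`, a proper subgroup `K < P` is normalised by some element of
`P` outside `K`. -/
theorem exists_normalizing [Finite G] {p : ℕ} [Fact p.Prime] {P K : Subgroup G}
    (hP : IsPGroup p P) (hK : K < P) : ∃ y ∈ P, y ∉ K ∧ y ∈ Subgroup.normalizer (K : Set G) := by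
  have : Group.IsNilpotent ↥P := hP.isNilpotent
  have hnc : NormalizerCondition ↥P := Group.normalizerCondition_of_isNilpotent
  have hlt : K.subgroupOf P < ⊤ := by
    rw [lt_top_iff_ne_top, Ne, Subgroup.subgroupOf_eq_top]
    exact fun h => (not_le_of_gt hK) h
  have h2 := hnc _ hlt
  obtain ⟨y, hyN, hyK⟩ := SetLike.exists_of_lt h2
  refine ⟨y.1, y.2, ?_, ?_⟩
  · intro h
    exact hyK (Subgroup.mem_subgroupOf.2 h)
  · rw [← Subgroup.subgroupOf_normalizer_eq hK.le] at hyN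
    exact Subgroup.mem_subgroupOf.1 hyN


/-- The key step. -/
theorem key [Finite G] {p : ℕ} [Fact p.Prime] (X : Subgroup G) {P R : Subgroup G}
    (hP : IsPGroup p P) (D : Subgroup G) (hD : D = ⨆ g ∈ S X P ∩ S X R, MulAut.conj g • X)
    (hex : ∃ a ∈ S X P, a ∉ S X R) :
    ∃ a ∈ S X P, a ∉ S X R ∧ MulAut.conj a • X ≤ Subgroup.normalizer (D : Set G) := by
  classical
  have hDP : D ≤ P := by
    rw [hD]; exact iSup₂_le fun g hg => hg.1
  have hDR : D ≤ R := by
    rw [hD]; exact iSup₂_le fun g hg => hg.2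
  let 𝒦 : Set (Subgroup G) :=
    {K | D ≤ K ∧ K ≤ P ∧ ∀ g ∈ S X P, MulAut.conj g • X ≤ K → g ∈ S X R}
  have hD𝒦 : D ∈ 𝒦 := ⟨le_rfl, hDP, fun g _ hg => hg.trans hDR⟩
  obtain ⟨K, hDK, hKmax⟩ := (Set.toFinite 𝒦).exists_le_maximal hD𝒦
  obtain ⟨hK1, hK2, hK3⟩ := hKmax.prop
  obtain ⟨a, haP, haR⟩ := hex
  have hKP : K < P := by
    refine lt_of_le_of_ne hK2 ?_
    rintro rfl
    exact haR (hK3 a haP haP)
  -- normalizer in P
  set K₂ := P ⊓ Subgroup.normalizer (K : Set G) with hK₂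
  obtain ⟨y, hyP, hyK, hyN⟩ := exists_normalizing hP hKP
  have hKK₂ : K ≤ K₂ := le_inf hK2 Subgroup.le_normalizer
  have hK₂not : K₂ ∉ 𝒦 := by
    intro h
    have := hKmax.le_of_ge h hKK₂
    exact hyK (this ⟨hyP, hyN⟩)
  have : ∃ a' ∈ S X P, MulAut.conj a' • X ≤ K₂ ∧ a' ∉ S X R := by
    by_contra hcon
    push Not at hcon
    exact hK₂not ⟨hK1.trans hKK₂, inf_le_left, fun g hg hgK => hcon g hg hgK⟩
  obtain ⟨a', ha'P, ha'K₂, ha'R⟩ := this
  refine ⟨a', ha'P, ha'R, ?_⟩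
  rw [Subgroup.le_normalizer_iff]
  intro y hy k hk
  have hy2 := ha'K₂ hy
  have hyP : y ∈ P := hy2.1
  have hyN : y ∈ Subgroup.normalizer (K : Set G) := hy2.2
  have hyK : MulAut.conj y • K = K := Subgroup.mem_normalizer_iff_map_conj_eq.1 hyN
  have hyD : MulAut.conj y • D ≤ D := by
    rw [Subgroup.pointwise_smul_subset_iff]
    conv_lhs => rw [hD]
    refine iSup₂_le fun g hg => ?_
    rw [← Subgroup.pointwise_smul_subset_iff, ← conj_mul_smul]
    have h1 : y * g ∈ S X P := mul_mem_S_of_mem hyP hg.1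
    have h2 : MulAut.conj (y * g) • X ≤ K := by
      rw [conj_mul_smul, ← hyK]
      apply Subgroup.pointwise_smul_le_pointwise_smul_iff.2
      refine le_trans ?_ hK1
      rw [hD]
      exact le_iSup₂_of_le g hg le_rfl
    have h3 : y * g ∈ S X R := hK3 _ h1 h2
    rw [hD]
    exact le_iSup₂_of_le (y * g) ⟨h1, h3⟩ le_rfl
  have : MulAut.conj y • k ∈ MulAut.conj y • D := Subgroup.smul_mem_pointwise_smul _ _ _ hk
  exact hyD this


theorem ncard_S_sylow [Finite G] {p : ℕ} [Fact p.Prime] (X : Subgroup G) (P R : Sylow p G) :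
    (S X (P : Subgroup G)).ncard = (S X (R : Subgroup G)).ncard := by
  obtain ⟨c, rfl⟩ := MulAction.exists_smul_eq G P R
  have e : ((c • P : Sylow p G) : Subgroup G) = MulAut.conj c • (P : Subgroup G) := by
    rw [Sylow.smul_def, Sylow.pointwise_smul_def]
  rw [e, S_smul, Set.ncard_image_of_injective _ (mul_right_injective c)]

theorem exists_mem_not_mem [Finite G] {p : ℕ} [Fact p.Prime] (X : Subgroup G) (P R : Sylow p G)
    (hne : S X (P : Subgroup G) ≠ S X (R : Subgroup G)) :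
    ∃ a ∈ S X (P : Subgroup G), a ∉ S X (R : Subgroup G) := by
  by_contra hcon
  push Not at hcon
  apply hne
  exact Set.eq_of_subset_of_ncard_le hcon (ncard_S_sylow X P R).ge (Set.toFinite _)

theorem result {G : Type*} [Group G] [Finite G] {p : ℕ} [Fact p.Prime] (X : Subgroup G) (hX : IsPGroup p X) (h : ∀ g : G, IsPGroup p ↥(X ⊔ X.map (MulAut.conj g).toMonoidHom)) : ∃ N : Subgroup G, N.Normal ∧ IsPGroup p N ∧ X ≤ N := by
  classical
  by_contra hcon
  -- Step 0: any two conjugates generate a p-group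
  have h0 : ∀ a b : G, IsPGroup p ↥(MulAut.conj a • X ⊔ MulAut.conj b • X) := by
    intro a b
    have h1 := (h (a⁻¹ * b)).map (MulAut.conj a).toMonoidHom
    have e : (X ⊔ X.map (MulAut.conj (a⁻¹ * b)).toMonoidHom).map (MulAut.conj a).toMonoidHom
        = MulAut.conj a • X ⊔ MulAut.conj b • X := by
      show MulAut.conj a • (X ⊔ MulAut.conj (a⁻¹ * b) • X) = _
      rw [Subgroup.smul_sup, ← conj_mul_smul, mul_inv_cancel_left]
    rwa [e] at h1
  -- Claim A: for every Sylow P, some conjugate of X is not in P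
  have hA : ∀ P : Sylow p G, ∃ g, g ∉ S X (P : Subgroup G) := by
    intro P
    by_contra hall
    push Not at hall
    apply hcon
    refine ⟨Subgroup.normalClosure (X : Set G), Subgroup.normalClosure_normal, ?_,
      Subgroup.le_normalClosure⟩
    apply P.2.to_le
    rw [Subgroup.normalClosure, Subgroup.closure_le]
    intro x hx
    obtain ⟨a, ha, hax⟩ := Group.mem_conjugatesOfSet_iff.1 hx
    obtain ⟨c, rfl⟩ := isConj_iff.1 hax
    have := hall c
    exact this (Subgroup.smul_mem_pointwise_smul _ _ _ ha)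
  -- existence of a pair with S(P) ≠ S(R)
  obtain ⟨P₀, hP₀⟩ := hX.exists_le_sylow
  obtain ⟨g₀, hg₀⟩ := hA P₀
  obtain ⟨R₀, hR₀⟩ := (hX.map (MulAut.conj g₀).toMonoidHom).exists_le_sylow
  have hne₀ : S X (P₀ : Subgroup G) ≠ S X (R₀ : Subgroup G) := by
    intro e; apply hg₀; rw [e]; exact hR₀
  -- choose a pair maximizing the intersection
  let T := {PR : Sylow p G × Sylow p G // S X (PR.1 : Subgroup G) ≠ S X (PR.2 : Subgroup G)}
  have : Nonempty T := ⟨⟨(P₀, R₀), hne₀⟩⟩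
  obtain ⟨⟨⟨P, R⟩, hPR⟩, hmax⟩ := Finite.exists_max
    (fun PR : T => (S X (PR.1.1 : Subgroup G) ∩ S X (PR.1.2 : Subgroup G)).ncard)
  simp only at hPR hmax
  obtain ⟨a, haP, haR⟩ := exists_mem_not_mem X P R hPR
  obtain ⟨b, hbR, hbP⟩ := exists_mem_not_mem X R P hPR.symm
  set D : Subgroup G := ⨆ g ∈ S X (P : Subgroup G) ∩ S X (R : Subgroup G), MulAut.conj g • X
    with hD
  obtain ⟨a', ha'P, ha'R, ha'N⟩ := key X P.2 D hD ⟨a, haP, haR⟩
  have hD' : D = ⨆ g ∈ S X (R : Subgroup G) ∩ S X (P : Subgroup G), MulAut.conj g • X := by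
    rw [hD, Set.inter_comm]
  obtain ⟨b', hb'R, hb'P, hb'N⟩ := key X R.2 D hD' ⟨b, hbR, hbP⟩
  have hDP : D ≤ P := by
    rw [hD]; exact iSup₂_le fun g hg => hg.1
  have hDp : IsPGroup p D := P.2.to_le hDP
  have hTD : IsPGroup p ↥((MulAut.conj a' • X ⊔ MulAut.conj b' • X) ⊔ D) :=
    IsPGroup.to_sup_of_normal_right' (h0 a' b') hDp (sup_le ha'N hb'N)
  obtain ⟨Q, hQ⟩ := hTD.exists_le_sylow
  have hDQ : D ≤ Q := le_trans le_sup_right hQ
  have ha'Q : a' ∈ S X (Q : Subgroup G) := le_trans (le_trans le_sup_left le_sup_left) hQ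
  have hb'Q : b' ∈ S X (Q : Subgroup G) := le_trans (le_trans le_sup_right le_sup_left) hQ
  have hΓQ : ∀ g ∈ S X (P : Subgroup G) ∩ S X (R : Subgroup G), g ∈ S X (Q : Subgroup G) := by
    intro g hg
    refine le_trans ?_ hDQ
    rw [hD]
    exact le_iSup₂_of_le g hg le_rfl
  -- S X P = S X Q
  have e1 : S X (P : Subgroup G) = S X (Q : Subgroup G) := by
    by_contra hne
    have h1 := hmax ⟨(P, Q), hne⟩
    simp only at h1
    have h2 : S X (P : Subgroup G) ∩ S X (R : Subgroup G) ⊂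
        S X (P : Subgroup G) ∩ S X (Q : Subgroup G) := by
      refine ⟨fun g hg => ⟨hg.1, hΓQ g hg⟩, fun hsub => ?_⟩
      exact ha'R (hsub ⟨ha'P, ha'Q⟩).2
    have h3 := Set.ncard_lt_ncard h2 (Set.toFinite _)
    omega
  have e2 : S X (R : Subgroup G) = S X (Q : Subgroup G) := by
    by_contra hne
    have h1 := hmax ⟨(R, Q), hne⟩
    simp only at h1
    have h2 : S X (R : Subgroup G) ∩ S X (P : Subgroup G) ⊂
        S X (R : Subgroup G) ∩ S X (Q : Subgroup G) := by
      refine ⟨fun g hg => ⟨hg.1, hΓQ g ⟨hg.2, hg.1⟩⟩, fun hsub => ?_⟩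
      exact hb'P (hsub ⟨hb'R, hb'Q⟩).2
    have h3 := Set.ncard_lt_ncard h2 (Set.toFinite _)
    rw [Set.inter_comm (S X (R : Subgroup G)) (S X (P : Subgroup G))] at h3
    omega
  exact hPR (e1.trans e2.symm)

end Cfsg.Agent.S0199
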