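-- Statement S4314 (Cfsg.fg16_class_sizes_one_or_prime)
import Cfsg.Statements.S4314

set_option autoImplicit false
set_option linter.unusedSectionVars false
set_option linter.style.haveILetI false
open Cfsg

namespace Cfsg.Agent.S4314

open Subgroup
open scoped commutatorElement

variable {G : Type*} [Group G] [Finite G]

abbrev cz (x : G) : Subgroup G := centralizer ({x} : Set G)

theorem mem_center_iff_cz_top (x : G) : x ∈ center G ↔ cz x = ⊤ := by
  rw [centralizer_eq_top_iff_subset, Set.singleton_subset_iff]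
  rfl

/-- Case A: all centralizers normal. -/
theorem caseA (h : ∀ x : G, (cz x).index = 1 ∨ ((cz x).index).Prime)
    (hn : ∀ x : G, (cz x).Normal) : Subgroup.upperCentralSeries G 2 = ⊤ := by
  rw [eq_top_iff]
  intro g _
  rw [Subgroup.mem_upperCentralSeries_succ_iff]
  intro k
  rw [Subgroup.upperCentralSeries_one, mem_center_iff]
  intro w
  -- ⁅g,k⁆ ∈ cz w
  have hmem : ⁅g, k⁆ ∈ cz w := by
    haveI := hn w
    rw [← QuotientGroup.eq_one_iff]
    rcases h w with h1 | h1
    · rw [index_eq_one] at h1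
      rw [QuotientGroup.eq_one_iff, h1]; trivial
    · haveI : Fact ((cz w).index).Prime := ⟨h1⟩
      have hcard : Nat.card (G ⧸ cz w) = (cz w).index := (index_eq_card _).symm
      haveI := isCyclic_of_prime_card hcard
      rw [commutatorElement_def]
      simp only [QuotientGroup.mk_mul, QuotientGroup.mk_inv]
      have hc : ∀ a b : G ⧸ cz w, a * b = b * a := fun a b =>
        (IsCyclic.isMulCommutative (α := G ⧸ cz w)).is_comm.comm a b
      rw [hc (g : G ⧸ cz w) k]
      group
  rw [mem_centralizer_singleton_iff] at hmem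
  exact hmem.symm


theorem eq_of_le_of_index_eq {H K : Subgroup G} (h : H ≤ K) (hi : H.index = K.index) : H = K := by
  apply le_antisymm h
  rw [← relIndex_eq_one]
  have h1 := relIndex_mul_index h
  rw [hi] at h1
  have hK : K.index ≠ 0 := index_ne_zero_of_finite
  exact (Nat.mul_eq_right hK).1 h1

/-- a subgroup of prime index is maximal -/
theorem F1 {M : Subgroup G} (hp : (M.index).Prime) {L : Subgroup G} (hML : M ≤ L) :
    L = M ∨ L = ⊤ := by
  have h1 := relIndex_mul_index hML
  have h2 : L.index ∣ M.index := Dvd.intro_left _ h1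
  rcases (Nat.dvd_prime hp).1 h2 with h3 | h3
  · right; exact index_eq_one.1 h3
  · left
    rw [h3] at h1
    have : M.relIndex L = 1 := (Nat.mul_eq_right hp.ne_zero).1 h1
    exact le_antisymm (relIndex_eq_one.1 this) hML

theorem F2 {M : Subgroup G} (hp : (M.index).Prime) (hn : ¬ M.Normal) :
    normalizer (M : Set G) = M := by
  rcases F1 hp (le_normalizer : M ≤ normalizer (M : Set G)) with h | h
  · exact h
  · exact absurd (normalizer_eq_top_iff.1 h) hn

/-- a `p`-element outside a subgroup of index `p` gives a set-theoretic factorization -/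
theorem D1 {M : Subgroup G} {p : ℕ} (hp : p.Prime) (hM : M.index = p) {y : G}
    (hy : ∃ e : ℕ, orderOf y = p ^ e) (hyM : y ∉ M) :
    ∀ g : G, ∃ i : ℕ, ∃ m ∈ M, g = y ^ i * m := by
  classical
  obtain ⟨e, he⟩ := hy
  have hkey : ∀ k : ℕ, 0 < k → k < p → y ^ k ∉ M := by
    intro k hk0 hkp hmem
    have hcop : Nat.Coprime k (orderOf y) := by
      rw [he]
      apply Nat.Coprime.pow_right
      exact (Nat.coprime_of_lt_prime hk0.ne' hkp hp).symm
    obtain ⟨m, hm⟩ := exists_pow_eq_self_of_coprime hcop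
    apply hyM
    rw [← hm]
    exact pow_mem hmem m
  let φ : Fin p → G ⧸ M := fun i => ((y ^ (i : ℕ) : G) : G ⧸ M)
  have hinj : Function.Injective φ := by
    -- wlog i ≤ j
    have aux : ∀ i j : Fin p, (i : ℕ) ≤ j → φ i = φ j → i = j := by
      intro i j hij h
      by_contra hne
      have hlt : (i : ℕ) < j := lt_of_le_of_ne hij (fun h' => hne (Fin.ext h'))
      have h1 : (y ^ (i : ℕ))⁻¹ * y ^ (j : ℕ) ∈ M := QuotientGroup.eq.1 h
      have h2 : (y ^ (i : ℕ))⁻¹ * y ^ (j : ℕ) = y ^ ((j : ℕ) - i) := by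
        have h3 : y ^ (j : ℕ) = y ^ (i : ℕ) * y ^ ((j : ℕ) - i) := by
          rw [← pow_add, Nat.add_sub_cancel' hij]
        rw [h3]; group
      rw [h2] at h1
      exact hkey _ (Nat.sub_pos_of_lt hlt) (lt_of_le_of_lt (Nat.sub_le _ _) j.2) h1
    intro i j h
    rcases le_total (i : ℕ) j with hij | hij
    · exact aux i j hij h
    · exact (aux j i hij h.symm).symm
  have hcard : Nat.card (Fin p) = Nat.card (G ⧸ M) := by
    rw [Nat.card_eq_fintype_card, Fintype.card_fin, ← hM, index_eq_card]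
  have hbij : Function.Bijective φ := by
    haveI : Finite (G ⧸ M) := inferInstance
    exact (Nat.bijective_iff_injective_and_card φ).2 ⟨hinj, hcard⟩
  intro g
  obtain ⟨i, hi⟩ := hbij.2 (g : G ⧸ M)
  have h1 : (y ^ (i : ℕ))⁻¹ * g ∈ M := QuotientGroup.eq.1 hi
  exact ⟨i, _, h1, by group⟩


theorem caseB (h : ∀ x : G, (cz x).index = 1 ∨ ((cz x).index).Prime) (x : G)
    (hn : ¬ (cz x).Normal) :
    ∃ p q : ℕ, p.Prime ∧ q.Prime ∧ p ≠ q ∧ Nat.card (G ⧸ center G) = p * q ∧
      ¬ IsMulCommutative (G ⧸ center G) := by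
  classical
  have hMtop : cz x ≠ ⊤ := by
    intro h1; apply hn; rw [h1]; infer_instance
  have hpM : ((cz x).index).Prime := by
    rcases h x with h1 | h1
    · exact absurd (index_eq_one.1 h1) hMtop
    · exact h1
  obtain ⟨M, hMdef⟩ : ∃ M : Subgroup G, M = cz x := ⟨_, rfl⟩
  rw [← hMdef] at hMtop hpM hn
  obtain ⟨p, hp⟩ : ∃ p : ℕ, p = M.index := ⟨_, rfl⟩
  rw [← hp] at hpM
  haveI : Fact p.Prime := ⟨hpM⟩
  have hpM' : (M.index).Prime := hp ▸ hpM
  have hNM := F2 hpM' hn
  -- a `p`-element outside `M`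
  obtain ⟨S⟩ : Nonempty (Sylow p G) := inferInstance
  have hSM : ¬ ((S : Subgroup G) ≤ M) := by
    intro hle
    have h1 : M.index ∣ (S : Subgroup G).index := index_dvd_of_le hle
    rw [← hp] at h1
    exact S.not_dvd_index h1
  obtain ⟨y, hyS, hyM⟩ := SetLike.not_le_iff_exists.1 hSM
  have hyord : ∃ e, orderOf y = p ^ e := by
    obtain ⟨e, he⟩ := (IsPGroup.iff_orderOf.1 S.isPGroup') ⟨y, hyS⟩
    exact ⟨e, by rwa [Subgroup.orderOf_mk] at he⟩
  have hdec := D1 hpM hp.symm hyord hyM
  obtain ⟨K, hK⟩ : ∃ K : Subgroup G, K = M.normalCore := ⟨_, rfl⟩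
  haveI hKn : K.Normal := hK ▸ normalCore_normal M
  have hKM : K ≤ M := hK ▸ normalCore_le M
  have hZK : center G ≤ K := by
    rw [hK]; exact normal_le_normalCore.2 (hMdef ▸ center_le_centralizer _)
  obtain ⟨C, hC⟩ : ∃ C : Subgroup G, C = cz y := ⟨_, rfl⟩
  have hyC : y ∈ C := by rw [hC, mem_centralizer_singleton_iff]
  have hD2 : C ⊓ M ≤ K := by
    rintro c ⟨hc1, hc2⟩
    have hc1' : c ∈ C := hc1
    have hc2' : c ∈ M := hc2
    rw [hK]
    intro b
    obtain ⟨i, m, hm, hb⟩ := hdec b⁻¹
    have hb' : b = m⁻¹ * (y ^ i)⁻¹ := by rw [← inv_inv b, hb]; group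
    rw [hC, mem_centralizer_singleton_iff] at hc1'
    have hcyi : c * y ^ i = y ^ i * c := (Commute.pow_right (show Commute c y from hc1') i).eq
    have h3 : (y ^ i)⁻¹ * c * y ^ i = c := by
      rw [mul_assoc, hcyi, ← mul_assoc, inv_mul_cancel, one_mul]
    have e : b * c * b⁻¹ = m⁻¹ * ((y ^ i)⁻¹ * c * y ^ i) * m := by rw [hb']; group
    rw [e, h3]
    exact M.mul_mem (M.mul_mem (M.inv_mem hm) hc2') hm
  have hyZ : y ∉ center G := fun hh => hyM (hMdef ▸ center_le_centralizer _ hh)
  have hrC : (C.index).Prime := by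
    rcases h y with h1 | h1
    · exact absurd ((mem_center_iff_cz_top y).2 (index_eq_one.1 h1)) hyZ
    · exact hC ▸ h1
  have hrelMC : M.relIndex C = p := by
    apply le_antisymm
    · have h1 := relIndex_le_of_le_right (H := M) (le_top : C ≤ ⊤)
        (by rw [relIndex_top_right, ← hp]; exact hpM.ne_zero)
      rwa [relIndex_top_right, ← hp] at h1
    · obtain ⟨e, he⟩ := hyord
      have h0 : M.relIndex C ≠ 0 := by
        show (M.subgroupOf C).index ≠ 0
        exact index_ne_zero_of_finite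
      have h1 : M.relIndex (zpowers y) ≤ M.relIndex C :=
        relIndex_le_of_le_right ((zpowers_le).2 hyC) h0
      have h2 : M.relIndex (zpowers y) ∣ Nat.card (zpowers y) := relIndex_dvd_card _ _
      rw [Nat.card_zpowers, he] at h2
      obtain ⟨j, hj, hj2⟩ := (Nat.dvd_prime_pow hpM).1 h2
      have hj0 : j ≠ 0 := by
        rintro rfl
        rw [pow_zero] at hj2
        exact hyM (relIndex_eq_one.1 hj2 (mem_zpowers y))
      calc p = p ^ 1 := (pow_one p).symm
        _ ≤ p ^ j := Nat.pow_le_pow_right hpM.pos (Nat.one_le_iff_ne_zero.2 hj0)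
        _ = M.relIndex (zpowers y) := hj2.symm
        _ ≤ M.relIndex C := h1
  have hAK : C ⊓ M ≤ K := hD2
  have hAC : C ⊓ M ≤ C := inf_le_left
  have e1 : (C ⊓ M).index = p * C.index := by
    rw [← relIndex_mul_index hAC, inf_comm, inf_relIndex_right, hrelMC]
  have e2 : (C ⊓ M).index = (C ⊓ M).relIndex K * (K.relIndex M * p) := by
    rw [← relIndex_mul_index hAK, ← relIndex_mul_index hKM, ← hp]
  have e3 : C.index = (C ⊓ M).relIndex K * K.relIndex M := by
    have : p * C.index = p * ((C ⊓ M).relIndex K * K.relIndex M) := by rw [← e1, e2]; ring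
    exact Nat.eq_of_mul_eq_mul_left hpM.pos this
  have hKM1 : K.relIndex M ≠ 1 := by
    intro h1
    apply hn
    have h2 : M = K := le_antisymm (relIndex_eq_one.1 h1) hKM
    rw [h2]; exact hKn
  have hq : (K.relIndex M).Prime ∧ (C ⊓ M).relIndex K = 1 := by
    rcases (Nat.prime_mul_iff.1 (e3 ▸ hrC)) with ⟨_, h2⟩ | ⟨h1, h2⟩
    · exact absurd h2 hKM1
    · exact ⟨h1, h2⟩
  have hKC : K ≤ C := (relIndex_eq_one.1 hq.2).trans hAC
  have hD4 : ∀ L : Subgroup G, K ≤ L → L ≤ M → L = K ∨ L = M := by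
    intro L h1 h2
    have h3 := relIndex_mul_relIndex K L M h1 h2
    rcases (Nat.prime_mul_iff.1 (h3 ▸ hq.1)) with ⟨_, h5⟩ | ⟨_, h5⟩
    · right; exact le_antisymm h2 (relIndex_eq_one.1 h5)
    · left; exact le_antisymm (relIndex_eq_one.1 h5) h1
  have hxM : x ∈ M := by rw [hMdef, mem_centralizer_singleton_iff]
  have hxK : x ∉ K := by
    intro hx
    have h1 : x ∈ C := hKC hx
    rw [hC, mem_centralizer_singleton_iff] at h1
    apply hyM
    rw [hMdef, mem_centralizer_singleton_iff]
    exact h1.symm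
  have hD6 : ∀ c k' : G, k' ∈ K → c * x * c⁻¹ = k' * x → c ∈ M := by
    intro c k' hk' hck
    have hmemM' : ∀ g, g ∈ cz (c * x * c⁻¹) ↔ c⁻¹ * g * c ∈ M := by
      intro g
      rw [hMdef, mem_centralizer_singleton_iff, mem_centralizer_singleton_iff]
      constructor
      · intro hg
        calc c⁻¹ * g * c * x = c⁻¹ * (g * (c * x * c⁻¹)) * c := by group
          _ = c⁻¹ * ((c * x * c⁻¹) * g) * c := by rw [hg]
          _ = x * (c⁻¹ * g * c) := by group
      · intro hg
        calc g * (c * x * c⁻¹) = c * ((c⁻¹ * g * c) * x) * c⁻¹ := by group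
          _ = c * (x * (c⁻¹ * g * c)) * c⁻¹ := by rw [hg]
          _ = c * x * c⁻¹ * g := by group
    have hKM' : K ≤ cz (c * x * c⁻¹) := by
      intro k hk
      rw [hmemM']
      apply hKM
      have := hKn.conj_mem k hk c⁻¹
      simpa using this
    have hxM' : x ∈ cz (c * x * c⁻¹) := by
      rw [mem_centralizer_singleton_iff, hck]
      have h1 : k' ∈ M := hKM hk'
      rw [hMdef, mem_centralizer_singleton_iff] at h1
      calc x * (k' * x) = (x * k') * x := by group
        _ = (k' * x) * x := by rw [h1]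
    -- `cz (c x c⁻¹)` is `M` or `⊤`
    rcases hD4 (M ⊓ cz (c * x * c⁻¹)) (le_inf hKM hKM') inf_le_left with h1 | h1
    · exact absurd (h1 ▸ (⟨hxM, hxM'⟩ : x ∈ M ⊓ cz (c * x * c⁻¹))) hxK
    · have hMM' : M ≤ cz (c * x * c⁻¹) := by rw [← h1]; exact inf_le_right
      rcases F1 hpM' hMM' with h2 | h2
      · have h3 : c⁻¹ ∈ normalizer (M : Set G) := by
          rw [mem_normalizer_iff]
          intro g
          rw [inv_inv, ← hmemM', h2]
        rw [hNM] at h3
        simpa using M.inv_mem h3
      · exfalso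
        have h3 : c * x * c⁻¹ ∈ center G := (mem_center_iff_cz_top _).2 h2
        have h4 : x = c⁻¹ * (c * x * c⁻¹) * c := by group
        have h5 : c⁻¹ * (c * x * c⁻¹) = (c * x * c⁻¹) * c⁻¹ := mem_center_iff.1 h3 c⁻¹
        have h6 : x ∈ center G := by
          rw [h4, h5]
          have : c * x * c⁻¹ * c⁻¹ * c = c * x * c⁻¹ := by group
          rw [this]; exact h3
        exact hMtop (hMdef ▸ (mem_center_iff_cz_top x).1 h6)
  have hD7 : ∀ k ∈ K, M ≤ cz k := by
    intro k hk
    have hCt : cz (k * x) ≤ M := by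
      intro c hc
      rw [mem_centralizer_singleton_iff] at hc
      have h0 : c * (k * x) * c⁻¹ = k * x := by rw [hc]; group
      have h1 : c * x * c⁻¹ = ((c * k * c⁻¹)⁻¹ * k) * x := by
        calc c * x * c⁻¹ = (c * k * c⁻¹)⁻¹ * (c * (k * x) * c⁻¹) := by group
          _ = (c * k * c⁻¹)⁻¹ * (k * x) := by rw [h0]
          _ = ((c * k * c⁻¹)⁻¹ * k) * x := by group
      exact hD6 c _ (K.mul_mem (K.inv_mem (hKn.conj_mem k hk c)) hk) h1
    have htZ : cz (k * x) ≠ ⊤ := fun h1 => hMtop (top_le_iff.1 (h1 ▸ hCt))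
    have htp : ((cz (k * x)).index).Prime := by
      rcases h (k * x) with h1 | h1
      · exact absurd (index_eq_one.1 h1) htZ
      · exact h1
    have h2 := relIndex_mul_index hCt
    have h3 : (cz (k * x)).relIndex M = 1 := by
      rcases Nat.prime_mul_iff.1 (h2 ▸ htp) with ⟨_, h4⟩ | ⟨_, h4⟩
      · exact absurd h4 hpM'.ne_one
      · exact h4
    have hMt : M ≤ cz (k * x) := relIndex_eq_one.1 h3
    intro m hm
    have h4 := hMt hm
    have h5 : m ∈ cz x := hMdef ▸ hm
    rw [mem_centralizer_singleton_iff] at h4 h5 ⊢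
    have : m * k * x = k * m * x := by
      calc m * k * x = m * (k * x) := by group
        _ = k * x * m := h4
        _ = k * (x * m) := by group
        _ = k * (m * x) := by rw [h5]
        _ = k * m * x := by group
    exact mul_right_cancel this
  have hKZ : K ≤ center G := by
    intro k hk
    rw [mem_center_iff_cz_top]
    rcases F1 hpM' (hD7 k hk) with h1 | h1
    · exfalso
      have h2 : y ∈ cz k := by
        rw [mem_centralizer_singleton_iff]
        have h3 := hKC hk
        rw [hC, mem_centralizer_singleton_iff] at h3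
        exact h3.symm
      rw [h1] at h2; exact hyM h2
    · exact h1
  have hZeq : center G = K := le_antisymm hZK hKZ
  have hcard : Nat.card (G ⧸ center G) = K.relIndex M * p := by
    rw [← index_eq_card, hZeq, ← relIndex_mul_index hKM, ← hp]
  have hnc : ¬ IsMulCommutative (G ⧸ center G) := by
    intro hcomm
    apply hn
    constructor
    intro m hm g
    have h1 : g * m * g⁻¹ * m⁻¹ ∈ center G := by
      rw [← QuotientGroup.eq_one_iff]
      simp only [QuotientGroup.mk_mul, QuotientGroup.mk_inv]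
      rw [hcomm.is_comm.comm (g : G ⧸ center G) m]; group
    have h2 : g * m * g⁻¹ = (g * m * g⁻¹ * m⁻¹) * m := by group
    rw [h2]
    exact M.mul_mem (hMdef ▸ center_le_centralizer _ h1) hm
  refine ⟨K.relIndex M, p, hq.1, hpM, ?_, hcard, hnc⟩
  intro hqp
  apply hnc
  rw [hqp] at hcard
  exact IsPGroup.isMulCommutative_of_card_eq_prime_sq (p := p) (by rw [hcard, sq])


/-- Let `G` be a finite group every conjugacy class of which has size 1 or a prime. Then either `G` is nilpotent of class at most 2, or `G/Z(G)` is a non-abelian group of order `pq` for distinct primes `p, q` (a Frobenius group of order `pq`). -/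
theorem result {G : Type*} [Group G] [Finite G]
    (h : ∀ x : G, (Subgroup.centralizer ({x} : Set G)).index = 1 ∨ ((Subgroup.centralizer ({x} : Set G)).index).Prime) :
    Subgroup.upperCentralSeries G 2 = ⊤ ∨
      ∃ p q : ℕ, p.Prime ∧ q.Prime ∧ p ≠ q ∧ Nat.card (G ⧸ Subgroup.center G) = p * q ∧ ¬ IsMulCommutative (G ⧸ Subgroup.center G) := by
  by_cases hn : ∀ x : G, (cz x).Normal
  · left
    exact caseA h hn
  · right
    push Not at hn
    obtain ⟨x, hx⟩ := hn
    exact caseB h x hx

end Cfsg.Agent.S4314
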