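-- Statement S3904 (Cfsg.fg3_all_noncentral_centralizers_maximal), helper72
import Cfsg.Statements.S3904
import Cfsg.Agent.S4314
import Cfsg.Agent.Helper75.FrobeniusKernel

set_option autoImplicit false
set_option linter.unusedSectionVars false
set_option linter.style.haveILetI false
open Cfsg

namespace Cfsg.Agent.S3904

open Subgroup

variable {G : Type*} [Group G] [Finite G]

abbrev cz (x : G) : Subgroup G := centralizer ({x} : Set G)

/-- the quotient map -/
abbrev qm : G →* G ⧸ center G := QuotientGroup.mk' (center G)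

/-- order modulo the centre -/
noncomputable abbrev oz (x : G) : ℕ := orderOf (qm x)

theorem qm_eq_one_iff {x : G} : qm x = 1 ↔ x ∈ center G :=
  QuotientGroup.eq_one_iff x

theorem oz_eq_one_iff {x : G} : oz x = 1 ↔ x ∈ center G := by
  rw [oz, orderOf_eq_one_iff, qm_eq_one_iff]

theorem oz_pos (x : G) : 0 < oz x := orderOf_pos _

theorem pow_oz_mem (x : G) : x ^ oz x ∈ center G := by
  rw [← qm_eq_one_iff, map_pow, pow_orderOf_eq_one]

theorem center_le_cz (x : G) : center G ≤ cz x := center_le_centralizer _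

theorem cz_ne_top {x : G} (hx : x ∉ center G) : cz x ≠ ⊤ := fun h =>
  hx ((S4314.mem_center_iff_cz_top x).2 h)

theorem self_mem_cz (x : G) : x ∈ cz x := mem_centralizer_singleton_iff.2 rfl

/-- a subgroup all of whose elements have `p`-power order mod centre maps to a `p`-group -/
theorem isPGroup_map_qm {p : ℕ} {K : Subgroup G} (hK : ∀ g ∈ K, ∃ k : ℕ, oz g = p ^ k) :
    IsPGroup p ↥(K.map (qm (G := G))) := by
  rintro ⟨g, hg⟩
  obtain ⟨a, ha, rfl⟩ := mem_map.1 hg
  obtain ⟨k, hk⟩ := hK a ha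
  refine ⟨k, ?_⟩
  apply Subtype.ext
  rw [Subgroup.coe_pow, Subgroup.coe_one]
  show (qm a) ^ (p ^ k) = 1
  rw [← hk]
  exact pow_orderOf_eq_one _

theorem pow_mem_center_of_oz {p k : ℕ} {g : G} (hk : oz g = p ^ k) : g ^ (p ^ k) ∈ center G := by
  rw [← hk]; exact pow_oz_mem g

theorem le_normalizer_of_forall {M T : Subgroup G}
    (hn : ∀ m ∈ M, ∀ t ∈ T, m * t * m⁻¹ ∈ T) : M ≤ normalizer (T : Set G) := by
  intro m hm
  rw [mem_normalizer_iff]
  intro t
  constructor
  · exact hn m hm t
  · intro h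
    have := hn m⁻¹ (inv_mem hm) _ h
    simpa [mul_assoc] using this

/-- a subgroup which is a `p`-group mod the centre is nilpotent -/
theorem isNilpotent_of_oz {p : ℕ} [Fact p.Prime] {L : Subgroup G}
    (hL : ∀ g ∈ L, ∃ k : ℕ, oz g = p ^ k) : Group.IsNilpotent ↥L := by
  let f : ↥L →* G ⧸ center G := (qm (G := G)).comp L.subtype
  have hker : f.rangeRestrict.ker ≤ center ↥L := by
    rw [MonoidHom.ker_rangeRestrict]
    intro l hl
    rw [MonoidHom.mem_ker] at hl
    have h1 : (l : G) ∈ center G := qm_eq_one_iff.1 hl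
    rw [mem_center_iff]
    intro n
    apply Subtype.ext
    exact mem_center_iff.1 h1 (n : G)
  have hP : IsPGroup p ↥f.range := by
    rintro ⟨g, hg⟩
    obtain ⟨l, rfl⟩ := MonoidHom.mem_range.1 hg
    obtain ⟨k, hk⟩ := hL l l.2
    refine ⟨k, ?_⟩
    apply Subtype.ext
    rw [Subgroup.coe_pow, Subgroup.coe_one]
    show (qm (l : G)) ^ (p ^ k) = 1
    rw [← hk]
    exact pow_orderOf_eq_one _
  haveI : Group.IsNilpotent ↥f.range := hP.isNilpotent
  exact Subgroup.isNilpotent_of_ker_le_center f.rangeRestrict hker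

/-- a normal maximal subgroup has prime index -/
theorem index_prime_of_normal_coatom {N : Subgroup G} [N.Normal] (hN : IsCoatom N) :
    N.index.Prime := by
  have h1 : N.index ≠ 1 := fun h => hN.1 (index_eq_one.1 h)
  obtain ⟨q, hq, hqd⟩ := Nat.exists_prime_and_dvd h1
  haveI : Fact q.Prime := ⟨hq⟩
  rw [index_eq_card] at hqd
  obtain ⟨g, hg⟩ := exists_prime_orderOf_dvd_card' q hqd
  have hsurj : Function.Surjective (QuotientGroup.mk' N) := QuotientGroup.mk'_surjective N
  set K : Subgroup G := (zpowers g).comap (QuotientGroup.mk' N) with hK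
  have hNK : N ≤ K := by
    intro n hn
    rw [hK, mem_comap]
    have : QuotientGroup.mk' N n = 1 := (QuotientGroup.eq_one_iff n).2 hn
    rw [this]; exact one_mem _
  have hne : K ≠ N := by
    intro h
    obtain ⟨a, ha⟩ := hsurj g
    have haK : a ∈ K := by
      rw [hK, mem_comap, ha]; exact mem_zpowers g
    rw [h] at haK
    have : g = 1 := by
      rw [← ha]; exact (QuotientGroup.eq_one_iff a).2 haK
    rw [this, orderOf_one] at hg
    exact hq.one_lt.ne hg
  have hKtop : K = ⊤ := hN.2 K (lt_of_le_of_ne hNK (Ne.symm hne))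
  have hz : zpowers g = ⊤ := by
    have := map_comap_eq_self_of_surjective hsurj (zpowers g)
    rw [← hK, hKtop, map_top_of_surjective _ hsurj] at this
    exact this.symm
  have hcard : Nat.card (G ⧸ N) = q := by
    rw [← hg, ← Nat.card_zpowers, hz]
    exact (Nat.card_congr (Equiv.Set.univ _)).symm
  rw [index_eq_card, hcard]
  exact hq

open scoped Pointwise in
/-- (D) representatives for conjugates in the quotient -/
theorem exists_conj_rep {M : Subgroup G} {g a : G}
    (h : qm a ∈ MulAut.conj (qm g) • (M.map (qm (G := G)))) :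
    ∃ b ∈ M, ∃ z ∈ center G, a = g * b * g⁻¹ * z := by
  rw [Subgroup.mem_smul_pointwise_iff_exists] at h
  obtain ⟨s, hs, hsa⟩ := h
  obtain ⟨b, hb, rfl⟩ := mem_map.1 hs
  rw [MulAut.smul_def, MulAut.conj_apply] at hsa
  refine ⟨b, hb, (g * b * g⁻¹)⁻¹ * a, ?_, by group⟩
  rw [← qm_eq_one_iff, map_mul, map_inv, ← hsa]
  simp only [map_mul, map_inv]
  group

open scoped Pointwise in
theorem conj_rep_mem {M : Subgroup G} {g b z : G} (hb : b ∈ M) (hz : z ∈ center G) :
    qm (g * b * g⁻¹ * z) ∈ MulAut.conj (qm g) • (M.map (qm (G := G))) := by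
  rw [Subgroup.mem_smul_pointwise_iff_exists]
  refine ⟨qm b, mem_map_of_mem _ hb, ?_⟩
  rw [MulAut.smul_def, MulAut.conj_apply]
  have : qm z = 1 := qm_eq_one_iff.2 hz
  simp only [map_mul, map_inv, this, mul_one]

/-- (A) centraliser of a conjugate times a central element -/
theorem mem_cz_conj_iff {g b z h : G} (hz : z ∈ center G) :
    h ∈ cz (g * b * g⁻¹ * z) ↔ g⁻¹ * h * g ∈ cz b := by
  rw [mem_centralizer_singleton_iff, mem_centralizer_singleton_iff]
  have hzc : ∀ a : G, a * z = z * a := fun a => mem_center_iff.1 hz a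
  constructor
  · intro h1
    -- h * (g b g⁻¹ z) = (g b g⁻¹ z) * h
    have h2 : h * (g * b * g⁻¹) * z = (g * b * g⁻¹) * h * z := by
      calc h * (g * b * g⁻¹) * z = h * (g * b * g⁻¹ * z) := by group
        _ = g * b * g⁻¹ * z * h := h1
        _ = g * b * g⁻¹ * (z * h) := by group
        _ = g * b * g⁻¹ * (h * z) := by rw [hzc h]
        _ = (g * b * g⁻¹) * h * z := by group
    have h3 := mul_right_cancel h2
    calc g⁻¹ * h * g * b = g⁻¹ * (h * (g * b * g⁻¹)) * g := by group
      _ = g⁻¹ * ((g * b * g⁻¹) * h) * g := by rw [h3]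
      _ = b * (g⁻¹ * h * g) := by group
  · intro h1
    have h3 : h * (g * b * g⁻¹) = (g * b * g⁻¹) * h := by
      calc h * (g * b * g⁻¹) = g * (g⁻¹ * h * g * b) * g⁻¹ := by group
        _ = g * (b * (g⁻¹ * h * g)) * g⁻¹ := by rw [h1]
        _ = (g * b * g⁻¹) * h := by group
    calc h * (g * b * g⁻¹ * z) = h * (g * b * g⁻¹) * z := by group
      _ = (g * b * g⁻¹) * h * z := by rw [h3]
      _ = g * b * g⁻¹ * (h * z) := by group
      _ = g * b * g⁻¹ * (z * h) := by rw [hzc h]
      _ = g * b * g⁻¹ * z * h := by group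

/-- (C) -/
theorem comap_map_qm_eq {M : Subgroup G} (hZ : center G ≤ M) :
    (M.map (qm (G := G))).comap (qm (G := G)) = M := by
  rw [comap_map_eq, QuotientGroup.ker_mk']
  exact sup_eq_left.2 hZ

/-- (B) -/
theorem isCoatom_map_qm {M : Subgroup G} (hM : IsCoatom M) (hZ : center G ≤ M) :
    IsCoatom (M.map (qm (G := G))) := by
  have hsurj : Function.Surjective (qm (G := G)) := QuotientGroup.mk'_surjective _
  constructor
  · intro h
    apply hM.1
    rw [← comap_map_qm_eq hZ, h, comap_top]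
  · intro X hX
    have h1 : M ≤ X.comap (qm (G := G)) := by
      rw [← comap_map_qm_eq hZ]; exact comap_mono hX.le
    rcases hM.le_iff.1 h1 with h2 | h2
    · rw [← map_comap_eq_self_of_surjective hsurj X, h2, map_top_of_surjective _ hsurj]
    · exfalso
      apply hX.ne
      rw [← map_comap_eq_self_of_surjective hsurj X, h2]

section Hyp

variable (H : ∀ x : G, x ∉ center G → IsCoatom (cz x))
include H

/-- L2 -/
theorem cz_eq_of_le {x u : G} (hx : x ∉ center G) (hu : u ∉ center G) (hle : cz x ≤ cz u) :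
    cz u = cz x := by
  rcases (H x hx).le_iff.1 hle with h1 | h1
  · exact absurd h1 (cz_ne_top hu)
  · exact h1

/-- power with the same centraliser -/
theorem cz_pow_eq {x : G} {k : ℕ} (hxk : x ^ k ∉ center G) : cz (x ^ k) = cz x := by
  have hx : x ∉ center G := fun h => hxk (pow_mem h k)
  apply cz_eq_of_le H hx hxk
  intro g hg
  rw [mem_centralizer_singleton_iff] at hg ⊢
  exact ((Commute.pow_right (show Commute g x from hg) k)).eq

/-- prime-order power -/
theorem exists_prime_pow {x : G} (_hx : x ∉ center G) {q : ℕ} (hq : q.Prime) (hqx : q ∣ oz x) :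
    ∃ x' : G, x' ∉ center G ∧ oz x' = q ∧ cz x' = cz x ∧ x' ∈ zpowers x := by
  refine ⟨x ^ (oz x / q), ?_, ?_, ?_, ?_⟩
  · rw [← oz_eq_one_iff, oz, map_pow, orderOf_pow_orderOf_div (oz_pos x).ne' hqx]
    exact hq.one_lt.ne'
  · rw [oz, map_pow, orderOf_pow_orderOf_div (oz_pos x).ne' hqx]
  · apply cz_pow_eq H
    rw [← oz_eq_one_iff, oz, map_pow, orderOf_pow_orderOf_div (oz_pos x).ne' hqx]
    exact hq.one_lt.ne'
  · exact Subgroup.pow_mem _ (mem_zpowers x) _

omit H in
/-- if `g` commutes with `x*y`, `x y` commute, coprime orders mod centre, then `g` commutes with `x` -/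
theorem cz_mul_le_left {x y : G} (hxy : x * y = y * x) (hco : (oz x).Coprime (oz y)) :
    cz (x * y) ≤ cz x := by
  intro g hg
  -- D = cz g contains centre, x*y
  have hZD : center G ≤ cz g := center_le_cz g
  have hw : x * y ∈ cz g := by
    rw [mem_centralizer_singleton_iff] at hg ⊢
    exact hg.symm
  have hwn : (x * y) ^ oz y ∈ cz g := Subgroup.pow_mem _ hw _
  have hc : Commute x y := hxy
  rw [hc.mul_pow] at hwn
  have hyn : y ^ oz y ∈ cz g := hZD (pow_oz_mem y)
  have hxn : x ^ oz y ∈ cz g := by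
    have := Subgroup.mul_mem _ hwn (Subgroup.inv_mem _ hyn)
    simpa using this
  obtain ⟨m, hm⟩ := exists_pow_eq_self_of_coprime (x := qm x) (n := oz y) hco.symm
  -- qm (x^(n*m)) = qm x
  have h1 : qm ((x ^ oz y) ^ m) = qm x := by
    rw [map_pow, map_pow]; exact hm
  have h2 : x⁻¹ * (x ^ oz y) ^ m ∈ center G := by
    rw [← qm_eq_one_iff, map_mul, map_inv, h1, inv_mul_cancel]
  have h3 : x ∈ cz g := by
    have h4 : (x ^ oz y) ^ m ∈ cz g := Subgroup.pow_mem _ hxn _
    have h5 := Subgroup.mul_mem _ h4 (Subgroup.inv_mem _ (hZD h2))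
    have h6 : (x ^ oz y) ^ m * (x⁻¹ * (x ^ oz y) ^ m)⁻¹ = x := by group
    rw [h6] at h5
    exact h5
  rw [mem_centralizer_singleton_iff] at h3 ⊢
  exact h3.symm

/-- B1 -/
theorem cz_eq_of_coprime {x y : G} (hx : x ∉ center G) (hy : y ∉ center G) (hxy : x * y = y * x)
    (hco : (oz x).Coprime (oz y)) : cz x = cz y := by
  have h1 : cz (x * y) ≤ cz x := cz_mul_le_left hxy hco
  have h2 : cz (x * y) ≤ cz y := by
    rw [hxy]
    exact cz_mul_le_left hxy.symm hco.symm
  by_cases hw : x * y ∈ center G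
  · -- then centralisers agree
    ext g
    rw [mem_centralizer_singleton_iff, mem_centralizer_singleton_iff]
    have hwg : g * (x * y) = (x * y) * g := (mem_center_iff.1 hw g)
    constructor
    · intro hgx
      -- g commutes with x and with x*y so with y
      have : x * (y * g) = x * (g * y) := by
        calc x * (y * g) = (x * y) * g := by group
          _ = g * (x * y) := hwg.symm
          _ = (g * x) * y := by group
          _ = (x * g) * y := by rw [← hgx]
          _ = x * (g * y) := by group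
      exact (mul_left_cancel this).symm
    · intro hgy
      have : (x * g) * y = (g * x) * y := by
        calc (x * g) * y = x * (g * y) := by group
          _ = x * (y * g) := by rw [← hgy]
          _ = (x * y) * g := by group
          _ = g * (x * y) := hwg.symm
          _ = (g * x) * y := by group
      exact (mul_right_cancel this).symm
  · have e1 : cz x = cz (x * y) := cz_eq_of_le H hw hx h1
    have e2 : cz y = cz (x * y) := cz_eq_of_le H hw hy h2
    rw [e1, e2]

/-- Lemma B: a nonabelian centraliser is a `p`-group modulo the centre -/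
theorem exists_prime_of_nonabelian {x : G} (hx : x ∉ center G)
    (hnab : ∃ a ∈ cz x, ∃ b ∈ cz x, a * b ≠ b * a) :
    ∃ p : ℕ, p.Prime ∧ ∀ g ∈ cz x, ∃ k : ℕ, oz g = p ^ k := by
  obtain ⟨a, ha, b, hb, hab⟩ := hnab
  have haZ : a ∉ center G := fun h => hab ((mem_center_iff.1 h b).symm)
  have hane : cz a ≠ cz x := by
    intro h
    rw [← h, mem_centralizer_singleton_iff] at hb
    exact hab hb.symm
  have hoa : oz a ≠ 1 := fun h => haZ (oz_eq_one_iff.1 h)
  obtain ⟨p, hp, hpa⟩ := Nat.exists_prime_and_dvd hoa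
  obtain ⟨y', hy'Z, hy'o, hy'c, hy'mem⟩ := exists_prime_pow H haZ hp hpa
  have hzax : zpowers a ≤ cz x := by
    rw [zpowers_le]; exact ha
  have hy'x : y' ∈ cz x := hzax hy'mem
  have key1 : ∀ g : G, g ∉ center G → cz g = cz x → (oz g).Prime → oz g = p := by
    intro g hgZ hgc hgp
    by_contra hne
    have hco : (oz g).Coprime (oz y') := by
      rw [hy'o]; exact (Nat.coprime_primes hgp hp).2 hne
    have hcomm : g * y' = y' * g := by
      have : y' ∈ cz g := hgc ▸ hy'x
      rw [mem_centralizer_singleton_iff] at this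
      exact this.symm
    have := cz_eq_of_coprime H hgZ hy'Z hcomm hco
    rw [hgc, hy'c] at this
    exact hane this.symm
  -- x₀ of order p with the same centraliser as x
  have hox : oz x ≠ 1 := fun h => hx (oz_eq_one_iff.1 h)
  obtain ⟨q₀, hq₀, hq₀x⟩ := Nat.exists_prime_and_dvd hox
  obtain ⟨x₀, hx₀Z, hx₀o, hx₀c, hx₀mem⟩ := exists_prime_pow H hx hq₀ hq₀x
  have hx₀p : oz x₀ = p := key1 x₀ hx₀Z hx₀c (hx₀o ▸ hq₀)
  have key2 : ∀ g : G, g ∈ cz x → g ∉ center G → (oz g).Prime → oz g = p := by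
    intro g hg hgZ hgp
    by_cases hgc : cz g = cz x
    · exact key1 g hgZ hgc hgp
    · by_contra hne
      have hco : (oz g).Coprime (oz x₀) := by
        rw [hx₀p]; exact (Nat.coprime_primes hgp hp).2 hne
      have hcomm : g * x₀ = x₀ * g := by
        have : g ∈ cz x₀ := hx₀c ▸ hg
        rw [mem_centralizer_singleton_iff] at this
        exact this
      have := cz_eq_of_coprime H hgZ hx₀Z hcomm hco
      rw [hx₀c] at this
      exact hgc this
  refine ⟨p, hp, ?_⟩
  intro g hg
  by_cases hgZ : g ∈ center G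
  · exact ⟨0, by rw [pow_zero]; exact oz_eq_one_iff.2 hgZ⟩
  · refine ⟨_, Nat.eq_prime_pow_of_unique_prime_dvd (oz_pos g).ne' ?_⟩
    intro d hd hdg
    obtain ⟨g', hg'Z, hg'o, hg'c, hg'mem⟩ := exists_prime_pow H hgZ hd hdg
    have hzg : zpowers g ≤ cz x := by
      rw [zpowers_le]; exact hg
    have := key2 g' (hzg hg'mem) hg'Z (hg'o ▸ hd)
    rw [hg'o] at this
    exact this

omit H in
/-- an element of the second centre of a nonabelian `M` which is a `p`-group mod centre -/
theorem exists_second_center {p : ℕ} [Fact p.Prime] {M : Subgroup G}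
    (hM : ∀ g ∈ M, ∃ k : ℕ, oz g = p ^ k)
    (hnab : ∃ a ∈ M, ∃ b ∈ M, a * b ≠ b * a) :
    ∃ y ∈ M, (∃ b ∈ M, y * b ≠ b * y) ∧
      ∀ m ∈ M, ∀ t ∈ M, t * (y⁻¹ * (m⁻¹ * y * m)) = (y⁻¹ * (m⁻¹ * y * m)) * t := by
  have hne : center ↥M ≠ ⊤ := by
    intro htop
    obtain ⟨a, ha, b, hb, hab⟩ := hnab
    have h1 : (⟨a, ha⟩ : ↥M) ∈ center ↥M := htop ▸ mem_top _
    have h2 := mem_center_iff.1 h1 ⟨b, hb⟩
    apply hab
    have := congrArg Subtype.val h2
    exact this.symm
  haveI : Nontrivial (↥M ⧸ center ↥M) := QuotientGroup.nontrivial_iff.mpr hne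
  have hQ : IsPGroup p (↥M ⧸ center ↥M) := by
    intro q
    induction q using QuotientGroup.induction_on with
    | H m =>
      obtain ⟨k, hk⟩ := hM m m.2
      refine ⟨k, ?_⟩
      rw [← QuotientGroup.mk_pow, QuotientGroup.eq_one_iff, mem_center_iff]
      intro n
      apply Subtype.ext
      have h1 := pow_mem_center_of_oz hk
      have := mem_center_iff.1 h1 (n : G)
      simpa using this
  haveI := hQ.center_nontrivial
  obtain ⟨⟨c, hc⟩, hc1⟩ := exists_ne (1 : ↥(center (↥M ⧸ center ↥M)))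
  have hc1' : c ≠ 1 := fun h => hc1 (Subtype.ext h)
  induction c using QuotientGroup.induction_on with
  | H y =>
    have hyc : y ∉ center ↥M := fun h => hc1' ((QuotientGroup.eq_one_iff y).2 h)
    refine ⟨y, y.2, ?_, ?_⟩
    · by_contra hcon
      push Not at hcon
      apply hyc
      rw [mem_center_iff]
      intro n
      apply Subtype.ext
      exact (hcon n n.2).symm
    · intro m hm t ht
      have h1 := mem_center_iff.1 hc (QuotientGroup.mk (⟨m, hm⟩ : ↥M))
      -- h1 : mk m * mk y = mk y * mk m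
      have h2 : ((y⁻¹ * ((⟨m, hm⟩ : ↥M)⁻¹ * y * ⟨m, hm⟩) : ↥M) : ↥M ⧸ center ↥M) = 1 := by
        simp only [QuotientGroup.mk_mul, QuotientGroup.mk_inv]
        rw [mul_assoc, ← h1]
        group
      rw [QuotientGroup.eq_one_iff, mem_center_iff] at h2
      have h3 := h2 ⟨t, ht⟩
      have := congrArg Subtype.val h3
      simpa using this

/-- Lemma C: a nonabelian centraliser forces `G / Z(G)` to be a `p`-group -/
theorem isPGroup_quot_of_nonabelian {x : G} (hx : x ∉ center G)
    (hnab : ∃ a ∈ cz x, ∃ b ∈ cz x, a * b ≠ b * a) :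
    ∃ p : ℕ, p.Prime ∧ IsPGroup p (G ⧸ center G) := by
  obtain ⟨p, hp, hM⟩ := exists_prime_of_nonabelian H hx hnab
  haveI : Fact p.Prime := ⟨hp⟩
  refine ⟨p, hp, ?_⟩
  by_contra hcon
  -- C-a
  have hCa : ∀ u ∈ cz x, u ∉ center G → ∀ g ∈ cz u, ∃ k : ℕ, oz g = p ^ k := by
    intro u hu huZ
    by_cases huc : cz u = cz x
    · rw [huc]; exact hM
    · have hxu : x ∈ cz u := by
        rw [mem_centralizer_singleton_iff] at hu ⊢
        exact hu.symm
      have hnab' : ∃ a ∈ cz u, ∃ b ∈ cz u, a * b ≠ b * a := by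
        by_contra hab
        push Not at hab
        apply huc
        symm
        apply cz_eq_of_le H huZ hx
        intro g hg
        rw [mem_centralizer_singleton_iff]
        exact hab g hg x hxu
      obtain ⟨p', hp', hS⟩ := exists_prime_of_nonabelian H huZ hnab'
      obtain ⟨k', hk'⟩ := hS x hxu
      obtain ⟨k, hk⟩ := hM x (self_mem_cz x)
      have hk0 : k ≠ 0 := by
        rintro rfl
        rw [pow_zero] at hk
        exact hx (oz_eq_one_iff.1 hk)
      have hpp' : p = p' := by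
        have h1 : p ∣ p' ^ k' := by
          rw [← hk', hk]; exact dvd_pow_self p hk0
        exact (Nat.prime_dvd_prime_iff_eq hp hp').1 (hp.dvd_of_dvd_pow h1)
      rw [hpp']; exact hS
  -- C-b
  obtain ⟨y, hyM, ⟨b, hbM, hyb⟩, hy2⟩ := exists_second_center hM hnab
  have hyZ : y ∉ center G := fun h => hyb ((mem_center_iff.1 h b).symm)
  -- C-c
  set T : Subgroup G := cz x ⊓ cz y with hT
  have hTn : ∀ m ∈ cz x, ∀ t ∈ T, m * t * m⁻¹ ∈ T := by
    intro m hm t ht
    have htM : t ∈ cz x := (Subgroup.mem_inf.1 ht).1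
    have hty : t * y = y * t := mem_centralizer_singleton_iff.1 (Subgroup.mem_inf.1 ht).2
    refine Subgroup.mem_inf.2 ⟨mul_mem (mul_mem hm htM) (inv_mem hm), ?_⟩
    rw [mem_centralizer_singleton_iff]
    have hc := hy2 m hm t htM
    -- t commutes with m⁻¹ y m = y * c
    have h1 : t * (m⁻¹ * y * m) = (m⁻¹ * y * m) * t := by
      have e : m⁻¹ * y * m = y * (y⁻¹ * (m⁻¹ * y * m)) := by group
      rw [e]
      calc t * (y * (y⁻¹ * (m⁻¹ * y * m))) = (t * y) * (y⁻¹ * (m⁻¹ * y * m)) := by group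
        _ = (y * t) * (y⁻¹ * (m⁻¹ * y * m)) := by rw [hty]
        _ = y * (t * (y⁻¹ * (m⁻¹ * y * m))) := by group
        _ = y * ((y⁻¹ * (m⁻¹ * y * m)) * t) := by rw [hc]
        _ = y * (y⁻¹ * (m⁻¹ * y * m)) * t := by group
    calc m * t * m⁻¹ * y = m * (t * (m⁻¹ * y * m)) * m⁻¹ := by group
      _ = m * ((m⁻¹ * y * m) * t) * m⁻¹ := by rw [h1]
      _ = y * (m * t * m⁻¹) := by group
  have hLM : cz y ≠ cz x := by
    intro h
    rw [← h, mem_centralizer_singleton_iff] at hbM
    exact hyb hbM.symm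
  have hLp : ∀ g ∈ cz y, ∃ k : ℕ, oz g = p ^ k := hCa y hyM hyZ
  haveI hLnil : Group.IsNilpotent ↥(cz y) := isNilpotent_of_oz hLp
  have hTL : T ≤ cz y := inf_le_right
  have hlt : T.subgroupOf (cz y) < ⊤ := by
    rw [lt_top_iff_ne_top]
    intro h
    rw [subgroupOf_eq_top] at h
    have hle : cz y ≤ cz x := h.trans inf_le_left
    exact hLM (cz_eq_of_le H hyZ hx hle).symm
  have hnc := Group.normalizerCondition_of_isNilpotent (G := ↥(cz y)) _ hlt
  rw [← subgroupOf_normalizer_eq hTL] at hnc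
  obtain ⟨l, hlN, hlT⟩ := SetLike.exists_of_lt hnc
  rw [mem_subgroupOf] at hlN hlT
  have hNtop : normalizer (T : Set G) = ⊤ := by
    have hMN : cz x ≤ normalizer (T : Set G) := le_normalizer_of_forall hTn
    rcases (H x hx).le_iff.1 hMN with h1 | h1
    · exact h1
    · exfalso
      apply hlT
      refine Subgroup.mem_inf.2 ⟨?_, l.2⟩
      rw [← h1]; exact hlN
  haveI hTnormal : T.Normal := normalizer_eq_top_iff.1 hNtop
  -- C-d
  have hCd : ∀ u ∈ cz x, ∀ t ∈ T, t * u = u * t := by
    intro u hu t ht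
    by_cases huZ : u ∈ center G
    · exact mem_center_iff.1 huZ t
    · have hS : cz u ≤ T ⊔ cz u := le_sup_right
      rcases (H u huZ).le_iff.1 hS with h1 | h1
      · exfalso
        apply hcon
        have hsurj : Function.Surjective (qm (G := G)) := QuotientGroup.mk'_surjective _
        have h2 : T.map (qm (G := G)) ⊔ (cz u).map (qm (G := G)) = ⊤ := by
          rw [← Subgroup.map_sup, h1, map_top_of_surjective _ hsurj]
        haveI : (T.map (qm (G := G))).Normal := hTnormal.map _ hsurj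
        have hTp : IsPGroup p ↥(T.map (qm (G := G))) :=
          isPGroup_map_qm (fun g hg => hM g (Subgroup.mem_inf.1 hg).1)
        have hSp : IsPGroup p ↥((cz u).map (qm (G := G))) := isPGroup_map_qm (hCa u hu huZ)
        have h3 := hTp.to_sup_of_normal_left hSp
        rw [h2] at h3
        intro g
        obtain ⟨k, hk⟩ := h3 ⟨g, mem_top g⟩
        refine ⟨k, ?_⟩
        have := congrArg Subtype.val hk
        simpa using this
      · have : T ≤ cz u := by
          rw [← h1]; exact le_sup_left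
        exact mem_centralizer_singleton_iff.1 (this ht)
  -- C-e
  have hyT : y ∈ T := Subgroup.mem_inf.2 ⟨hyM, self_mem_cz y⟩
  exact hyb (hCd b hbM y hyT)

/-- Case 1: all centralisers normal -/
theorem case1 (hna : ¬ IsMulCommutative G) (hn : ∀ x : G, (cz x).Normal) :
    ∃ p : ℕ, p.Prime ∧ Cfsg.IsElementaryAbelian p (⊤ : Subgroup (G ⧸ center G)) := by
  have hidx : ∀ x : G, x ∉ center G → ((cz x).index).Prime := by
    intro x hx
    haveI := hn x
    exact index_prime_of_normal_coatom (H x hx)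
  have h' : ∀ x : G, (cz x).index = 1 ∨ ((cz x).index).Prime := by
    intro x
    by_cases hx : x ∈ center G
    · left
      rw [index_eq_one]; exact (S4314.mem_center_iff_cz_top x).1 hx
    · right; exact hidx x hx
  have hZ2 := S4314.caseA h' hn
  have hcomm : ∀ a b : G, a * b * a⁻¹ * b⁻¹ ∈ center G := by
    intro a b
    have ha : a ∈ Subgroup.upperCentralSeries G 2 := hZ2 ▸ mem_top a
    rw [Subgroup.mem_upperCentralSeries_succ_iff] at ha
    have := ha b
    rwa [Subgroup.upperCentralSeries_one] at this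
  have hcommQ : ∀ a b : G ⧸ center G, a * b = b * a := by
    intro a b
    induction a using QuotientGroup.induction_on with
    | H a =>
    induction b using QuotientGroup.induction_on with
    | H b =>
      rw [← QuotientGroup.mk_mul, ← QuotientGroup.mk_mul, QuotientGroup.eq]
      have := hcomm b⁻¹ a⁻¹
      have e : (a * b)⁻¹ * (b * a) = b⁻¹ * a⁻¹ * b⁻¹⁻¹ * a⁻¹⁻¹ := by group
      rw [e]; exact this
  -- every noncentral element has prime order mod centre
  have hpow : ∀ x : G, x ∉ center G → x ^ (cz x).index ∈ center G := by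
    intro x hx
    set r := (cz x).index with hr
    haveI := hn x
    rw [mem_center_iff]
    intro g
    set c := g * x * g⁻¹ * x⁻¹ with hc
    have hcZ : c ∈ center G := hcomm g x
    have hcc : ∀ a : G, a * c = c * a := fun a => mem_center_iff.1 hcZ a
    -- g^r ∈ cz x
    have hgr : g ^ r ∈ cz x := by
      rw [← QuotientGroup.eq_one_iff, QuotientGroup.mk_pow, hr, index_eq_card]
      exact pow_card_eq_one'
    -- x⁻¹ * g = (c * g) * x⁻¹
    have hs1 : SemiconjBy x⁻¹ g (c * g) := by
      show x⁻¹ * g = c * g * x⁻¹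
      have e1 : c * g * x⁻¹ = (x⁻¹ * x) * (c * (g * x⁻¹)) := by group
      rw [e1, mul_assoc x⁻¹ x, ← mul_assoc x c, hcc x, hc]
      group
    have hs2 := hs1.pow_right r
    have hcg : Commute c g := (hcc g).symm
    rw [hcg.mul_pow] at hs2
    have hs3 : x⁻¹ * g ^ r = g ^ r * x⁻¹ := by
      have h1 : g ^ r * x = x * g ^ r := mem_centralizer_singleton_iff.1 hgr
      calc x⁻¹ * g ^ r = x⁻¹ * (g ^ r * x) * x⁻¹ := by group
        _ = x⁻¹ * (x * g ^ r) * x⁻¹ := by rw [h1]
        _ = g ^ r * x⁻¹ := by group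
    have hcr : c ^ r = 1 := by
      have h2 : x⁻¹ * g ^ r = c ^ r * g ^ r * x⁻¹ := hs2
      rw [hs3] at h2
      have h3 : 1 * (g ^ r * x⁻¹) = c ^ r * (g ^ r * x⁻¹) := by
        rw [one_mul, ← mul_assoc]; exact h2
      exact (mul_right_cancel h3).symm
    -- g * x = (c * x) * g
    have hs4 : SemiconjBy g x (c * x) := by
      show g * x = c * x * g
      rw [hc]; group
    have hs5 := hs4.pow_right r
    have hcx : Commute c x := (hcc x).symm
    rw [hcx.mul_pow, hcr, one_mul] at hs5
    exact hs5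
  have hprime : ∀ x : G, x ∉ center G → (oz x).Prime := by
    intro x hx
    have h1 : (qm x) ^ (cz x).index = 1 := by
      rw [← map_pow, qm_eq_one_iff]; exact hpow x hx
    have h2 : oz x ∣ (cz x).index := orderOf_dvd_of_pow_eq_one h1
    have h3 := (Nat.dvd_prime (hidx x hx)).1 h2
    rcases h3 with h3 | h3
    · exact absurd (oz_eq_one_iff.1 h3) hx
    · rw [h3]; exact hidx x hx
  -- a noncentral element
  have hex : ∃ x₀ : G, x₀ ∉ center G := by
    by_contra hcon
    push Not at hcon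
    apply hna
    exact ⟨⟨fun a b => (mem_center_iff.1 (hcon b) a)⟩⟩
  obtain ⟨x₀, hx₀⟩ := hex
  refine ⟨oz x₀, hprime x₀ hx₀, ⟨⟨fun a b => Subtype.ext (hcommQ a b)⟩⟩, ?_⟩
  intro a _
  induction a using QuotientGroup.induction_on with
  | H y =>
    by_cases hy : y ∈ center G
    · have : (y : G ⧸ center G) = 1 := (QuotientGroup.eq_one_iff y).2 hy
      rw [this, one_pow]
    · by_cases hpq : oz y = oz x₀
      · rw [← hpq]; exact pow_orderOf_eq_one _
      · exfalso
        have hco : (oz x₀).Coprime (oz y) :=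
          (Nat.coprime_primes (hprime x₀ hx₀) (hprime y hy)).2 (Ne.symm hpq)
        have hcm : Commute (qm x₀) (qm y) := hcommQ _ _
        have ho := hcm.orderOf_mul_eq_mul_orderOf_of_coprime hco
        rw [← map_mul] at ho
        have hxy : x₀ * y ∉ center G := by
          intro hmem
          have : oz (x₀ * y) = 1 := oz_eq_one_iff.2 hmem
          rw [oz, ho] at this
          have h1 := (hprime x₀ hx₀).one_lt
          have h2 := (hprime y hy).one_lt
          have : oz x₀ = 1 := Nat.eq_one_of_mul_eq_one_right this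
          omega
        have hpr := hprime (x₀ * y) hxy
        rw [oz, ho] at hpr
        exact Nat.not_prime_mul (hprime x₀ hx₀).one_lt.ne' (hprime y hy).one_lt.ne' hpr

open scoped Pointwise in
/-- Case 2, structural part: a nonnormal centraliser gives a Frobenius structure on `G / Z(G)` -/
theorem case2_struct (x₀ : G) (hx₀n : ¬ (cz x₀).Normal) :
    ∃ (K M : Subgroup (G ⧸ center G)) (p q a : ℕ), K.Normal ∧ K.IsComplement' M ∧ IsCoatom K ∧
      IsCoatom M ∧ M ≠ ⊥ ∧ (∀ g : G ⧸ center G, g ∉ M → M ⊓ (MulAut.conj g • M) = ⊥) ∧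
      (∀ a ∈ K, ∀ b ∈ K, a * b = b * a) ∧
      (∀ N : Subgroup (G ⧸ center G), N.Normal → N ≤ K → N = ⊥ ∨ N = K) ∧
      p.Prime ∧ q.Prime ∧ p ≠ q ∧ (∀ k ∈ K, k ^ p = 1) ∧ Nat.card ↥K = p ^ a ∧ K.index = q ∧
      Nat.card (G ⧸ center G) = p ^ a * q := by
  have hsurj : Function.Surjective (qm (G := G)) := QuotientGroup.mk'_surjective _
  have hx₀ : x₀ ∉ center G := by
    intro h
    apply hx₀n
    have : cz x₀ = ⊤ := (S4314.mem_center_iff_cz_top x₀).1 h
    rw [this]
    infer_instance
  -- (1)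
  have hnotP : ∀ p : ℕ, p.Prime → ¬ IsPGroup p (G ⧸ center G) := by
    intro p hp hP
    haveI : Fact p.Prime := ⟨hp⟩
    haveI : Group.IsNilpotent (G ⧸ center G) := hP.isNilpotent
    haveI : Group.IsNilpotent G := Group.of_quotient_center_nilpotent inferInstance
    exact hx₀n (NormalizerCondition.normal_of_coatom _ Group.normalizerCondition_of_isNilpotent
      (H x₀ hx₀))
  -- (2)
  have hab : ∀ x : G, x ∉ center G → ∀ a ∈ cz x, ∀ b ∈ cz x, a * b = b * a := by
    intro x hx
    by_contra hcon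
    push Not at hcon
    obtain ⟨a, ha, b, hb, hne⟩ := hcon
    obtain ⟨p, hp, hP⟩ := isPGroup_quot_of_nonabelian H hx ⟨a, ha, b, hb, hne⟩
    exact hnotP p hp hP
  -- (3)
  have hTI : ∀ x : G, x ∉ center G → ∀ u ∈ cz x, u ∉ center G → cz u = cz x := by
    intro x hx u hu huZ
    apply cz_eq_of_le H hx huZ
    intro g hg
    rw [mem_centralizer_singleton_iff]
    exact hab x hx g hg u hu
  -- (4)
  have hnorm : normalizer ((cz x₀ : Subgroup G) : Set G) = cz x₀ := by
    rcases (H x₀ hx₀).le_iff.1 (le_normalizer (H := cz x₀)) with h1 | h1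
    · exact absurd (normalizer_eq_top_iff.1 h1) hx₀n
    · exact h1
  -- (5)
  have h5 : ∀ g b z : G, b ∈ cz x₀ → z ∈ center G → g * b * g⁻¹ * z ∈ cz x₀ →
      g * b * g⁻¹ * z ∉ center G → g ∈ cz x₀ := by
    intro g b z hb hz ha haZ
    have hbZ : b ∉ center G := by
      intro hbz
      apply haZ
      have : g * b * g⁻¹ = b := by
        have := mem_center_iff.1 hbz g
        calc g * b * g⁻¹ = (b * g) * g⁻¹ := by rw [this]
          _ = b := by group
      rw [this]
      exact mul_mem hbz hz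
    have hca : cz (g * b * g⁻¹ * z) = cz x₀ := hTI x₀ hx₀ _ ha haZ
    have hcb : cz b = cz x₀ := hTI x₀ hx₀ _ hb hbZ
    rw [← hnorm, mem_normalizer_iff]
    intro h
    have e1 : g * h * g⁻¹ ∈ cz (g * b * g⁻¹ * z) ↔ g⁻¹ * (g * h * g⁻¹) * g ∈ cz b :=
      mem_cz_conj_iff hz
    rw [hca, hcb] at e1
    have e2 : g⁻¹ * (g * h * g⁻¹) * g = h := by group
    rw [e2] at e1
    exact e1.symm
  have hZM : center G ≤ cz x₀ := center_le_cz x₀
  -- (6)
  set M : Subgroup (G ⧸ center G) := (cz x₀).map (qm (G := G)) with hMdef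
  have hMcoatom : IsCoatom M := isCoatom_map_qm (H x₀ hx₀) hZM
  have hMbot : M ≠ ⊥ := by
    intro h
    have : qm x₀ ∈ M := mem_map_of_mem _ (self_mem_cz x₀)
    rw [h, mem_bot, qm_eq_one_iff] at this
    exact hx₀ this
  have hMfrob : ∀ g : G ⧸ center G, g ∉ M → M ⊓ (MulAut.conj g • M) = ⊥ := by
    intro gbar hg
    obtain ⟨g, rfl⟩ := hsurj gbar
    rw [eq_bot_iff]
    intro abar habar
    obtain ⟨ha1, ha2⟩ := Subgroup.mem_inf.1 habar
    obtain ⟨a, ha, rfl⟩ := mem_map.1 ha1
    rw [mem_bot]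
    by_contra hne
    have haZ : a ∉ center G := fun h => hne (qm_eq_one_iff.2 h)
    obtain ⟨b, hb, z, hz, hab'⟩ := exists_conj_rep ha2
    apply hg
    apply mem_map_of_mem
    apply h5 g b z hb hz
    · rw [← hab']; exact ha
    · rw [← hab']; exact haZ
  have hMF : IsFrobeniusComplement M := ⟨hMbot, hMcoatom.1, hMfrob⟩
  -- (7)
  obtain ⟨Kb, hKset, hKn, hKc⟩ := Helper75.frobenius_kernel_theorem M hMF
  haveI := hKn
  -- (8)
  have hKbot : Kb ≠ ⊥ := by
    intro h
    have := hKc.sup_eq_top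
    rw [h, bot_sup_eq] at this
    exact hMcoatom.1 this
  have hKtop : Kb ≠ ⊤ := by
    intro h
    have := hKc.disjoint.eq_bot
    rw [h, top_inf_eq] at this
    exact hMbot this
  obtain ⟨w', hw'⟩ := (Subgroup.ne_bot_iff_exists_ne_one (H := Kb)).1 hKbot
  obtain ⟨w, hww'⟩ := hsurj (w' : G ⧸ center G)
  have hwK : qm w ∈ Kb := hww' ▸ w'.2
  have hw1 : qm w ≠ 1 := by
    rw [hww']
    intro h
    exact hw' (Subtype.ext h)
  have hwZ : w ∉ center G := fun h => hw1 (qm_eq_one_iff.2 h)
  have hmemK : ∀ u : G, qm u ∈ Kb ↔ (qm u = 1 ∨ ∀ g : G ⧸ center G, qm u ∉ MulAut.conj g • M) := by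
    intro u
    rw [← SetLike.mem_coe, hKset]
    rfl
  -- (9)
  have h9 : ∀ g b z : G, b ∈ cz x₀ → z ∈ center G → w ≠ g * b * g⁻¹ * z := by
    intro g b z hb hz hw
    rcases (hmemK w).1 hwK with h1 | h1
    · exact hw1 h1
    · apply h1 (qm g)
      rw [hw]
      exact conj_rep_mem hb hz
  -- (10)
  set K : Subgroup G := Kb.comap (qm (G := G)) with hKdef
  have h10 : cz w ≤ K := by
    intro u hu
    rw [hKdef, mem_comap, hmemK]
    by_cases huZ : u ∈ center G
    · left; exact qm_eq_one_iff.2 huZ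
    · right
      intro gbar hmem
      obtain ⟨g, rfl⟩ := hsurj gbar
      obtain ⟨b, hb, z, hz, hub⟩ := exists_conj_rep hmem
      have hcu : cz u = cz w := hTI w hwZ u hu huZ
      have hwu : w ∈ cz (g * b * g⁻¹ * z) := by
        rw [← hub, hcu]; exact self_mem_cz w
      rw [mem_cz_conj_iff hz] at hwu
      -- g⁻¹ w g ∈ cz b = cz x₀
      have hbZ : b ∉ center G := by
        intro hbz
        apply huZ
        have : g * b * g⁻¹ = b := by
          have := mem_center_iff.1 hbz g
          calc g * b * g⁻¹ = (b * g) * g⁻¹ := by rw [this]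
            _ = b := by group
        rw [hub, this]
        exact mul_mem hbz hz
      have hcb : cz b = cz x₀ := hTI x₀ hx₀ _ hb hbZ
      rw [hcb] at hwu
      apply h9 g (g⁻¹ * w * g) 1 hwu (one_mem _)
      group
  -- (11)
  have hKne : K ≠ ⊤ := by
    intro h
    apply hKtop
    rw [← map_comap_eq_self_of_surjective hsurj Kb, ← hKdef, h, map_top_of_surjective _ hsurj]
  have hKcz : K = cz w := by
    rcases (H w hwZ).le_iff.1 h10 with h1 | h1
    · exact absurd h1 hKne
    · exact h1
  have hKcoatom : IsCoatom K := hKcz ▸ H w hwZ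
  haveI hKnormal : K.Normal := hKn.comap _
  have hZK : center G ≤ K := hKcz ▸ center_le_cz w
  have hKmap : K.map (qm (G := G)) = Kb := map_comap_eq_self_of_surjective hsurj Kb
  have hKbcoatom : IsCoatom Kb := hKmap ▸ isCoatom_map_qm hKcoatom hZK
  -- (12)
  set q := K.index with hq
  have hqprime : q.Prime := index_prime_of_normal_coatom hKcoatom
  have hKbidx : Kb.index = q := by
    rw [hq, hKdef, index_comap_of_surjective _ hsurj]
  -- (13)
  have hKab : ∀ a ∈ Kb, ∀ b ∈ Kb, a * b = b * a := by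
    intro abar ha bbar hb
    obtain ⟨a, rfl⟩ := hsurj abar
    obtain ⟨b, rfl⟩ := hsurj bbar
    have ha' : a ∈ cz w := by rw [← hKcz, hKdef, mem_comap]; exact ha
    have hb' : b ∈ cz w := by rw [← hKcz, hKdef, mem_comap]; exact hb
    rw [← map_mul, ← map_mul, hab w hwZ a ha' b hb']
  -- (14)
  have hmin : ∀ N : Subgroup (G ⧸ center G), N.Normal → N ≤ Kb → N = ⊥ ∨ N = Kb := by
    intro N hN hNK
    haveI := hN
    rcases hMcoatom.le_iff.1 (le_sup_right : M ≤ N ⊔ M) with h1 | h1
    · right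
      apply le_antisymm hNK
      intro k hk
      have hk' : k ∈ N ⊔ M := h1 ▸ mem_top k
      rw [mem_sup_of_normal_left] at hk'
      obtain ⟨n, hn, m, hm, hnm⟩ := hk'
      have hmK : m ∈ Kb := by
        have : m = n⁻¹ * k := by rw [← hnm]; group
        rw [this]
        exact mul_mem (inv_mem (hNK hn)) hk
      have hm1 : m = 1 := by
        have : m ∈ Kb ⊓ M := Subgroup.mem_inf.2 ⟨hmK, hm⟩
        rw [hKc.disjoint.eq_bot, mem_bot] at this
        exact this
      rw [hm1, mul_one] at hnm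
      rw [← hnm]; exact hn
    · left
      have hNM : N ≤ M := by rw [← h1]; exact le_sup_left
      rw [eq_bot_iff, ← hKc.disjoint.eq_bot]
      exact le_inf hNK hNM
  -- (15)
  have hKcard1 : Nat.card ↥Kb ≠ 1 := by
    intro h
    exact hKbot (Subgroup.card_eq_one.1 h)
  obtain ⟨p, hp, hpd⟩ := Nat.exists_prime_and_dvd hKcard1
  haveI : Fact p.Prime := ⟨hp⟩
  let Ω : Subgroup (G ⧸ center G) :=
    { carrier := {k | k ∈ Kb ∧ k ^ p = 1}
      mul_mem' := by
        rintro a b ⟨ha, hap⟩ ⟨hb, hbp⟩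
        refine ⟨mul_mem ha hb, ?_⟩
        have hc : Commute a b := hKab a ha b hb
        rw [hc.mul_pow, hap, hbp, one_mul]
      one_mem' := ⟨one_mem _, one_pow _⟩
      inv_mem' := by
        rintro a ⟨ha, hap⟩
        exact ⟨inv_mem ha, by rw [inv_pow, hap, inv_one]⟩ }
  have hΩn : Ω.Normal := by
    constructor
    rintro k ⟨hk, hkp⟩ g
    refine ⟨hKn.conj_mem k hk g, ?_⟩
    rw [conj_pow, hkp]; group
  have hΩK : Ω ≤ Kb := fun k hk => hk.1
  have hΩbot : Ω ≠ ⊥ := by
    obtain ⟨k, hk⟩ := exists_prime_orderOf_dvd_card' (G := ↥Kb) p hpd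
    intro h
    have hmem : (k : G ⧸ center G) ∈ Ω := by
      refine ⟨k.2, ?_⟩
      have := pow_orderOf_eq_one k
      rw [hk] at this
      have := congrArg Subtype.val this
      simpa using this
    rw [h, mem_bot] at hmem
    have : k = 1 := Subtype.ext hmem
    rw [this, orderOf_one] at hk
    exact hp.one_lt.ne hk
  have hΩeq : Ω = Kb := (hmin Ω hΩn hΩK).resolve_left hΩbot
  have hexp : ∀ k ∈ Kb, k ^ p = 1 := by
    intro k hk
    have : k ∈ Ω := hΩeq ▸ hk
    exact this.2
  have hKP : IsPGroup p ↥Kb := by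
    intro k
    refine ⟨1, ?_⟩
    apply Subtype.ext
    rw [pow_one, Subgroup.coe_pow, Subgroup.coe_one]
    exact hexp k k.2
  obtain ⟨a, ha⟩ := IsPGroup.iff_card.1 hKP
  -- (16)
  have hcard : Nat.card (G ⧸ center G) = p ^ a * q := by
    rw [← Kb.card_mul_index, ha, hKbidx]
  -- (17)
  have hpq : p ≠ q := by
    intro h
    apply hnotP p hp
    apply IsPGroup.of_card (n := a + 1)
    rw [hcard, ← h, pow_succ]
  exact ⟨Kb, M, p, q, a, hKn, hKc, hKbcoatom, hMcoatom, hMbot, hMfrob, hKab, hmin, hp, hqprime,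
    hpq, hexp, ha, hKbidx, hcard⟩

open scoped Pointwise in
/-- Case 2 -/
theorem case2 (x₀ : G) (hx₀n : ¬ (cz x₀).Normal) :
    (¬ IsMulCommutative (G ⧸ center G) ∧
      (∀ Hs : Subgroup (G ⧸ center G), Hs ≠ ⊤ → IsMulCommutative ↥Hs) ∧
      ∃ p q a : ℕ, p.Prime ∧ q.Prime ∧ p ≠ q ∧ Nat.card (G ⧸ center G) = p ^ a * q ∧
        ∀ P : Subgroup (G ⧸ center G), Nat.card ↥P = p ^ a → P.Normal) := by
  obtain ⟨K, M, p, q, a, hKn, hKc, hKcoatom, hMcoatom, hMbot, hMfrob, hKab, hmin, hp, hq,
    hpq, hexp, hKcard, hKidx, hcard⟩ := case2_struct H x₀ hx₀n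
  haveI := hKn
  haveI : Fact q.Prime := ⟨hq⟩
  have hQcard : Nat.card ((G ⧸ center G) ⧸ K) = q := by
    rw [← index_eq_card, hKidx]
  haveI hQcyc : IsCyclic ((G ⧸ center G) ⧸ K) := isCyclic_of_prime_card hQcard
  have hQcomm : ∀ a b : (G ⧸ center G) ⧸ K, a * b = b * a := fun a b =>
    (IsCyclic.isMulCommutative (α := (G ⧸ center G) ⧸ K)).is_comm.comm a b
  have hcommK : ∀ a b : G ⧸ center G, a * b * a⁻¹ * b⁻¹ ∈ K := by
    intro a b
    rw [← QuotientGroup.eq_one_iff]
    simp only [QuotientGroup.mk_mul, QuotientGroup.mk_inv]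
    rw [hQcomm (a : (G ⧸ center G) ⧸ K) b]
    group
  refine ⟨?_, ?_, p, q, a, hp, hq, hpq, hcard, ?_⟩
  · intro hc
    obtain ⟨g, -, hg⟩ := SetLike.exists_of_lt (lt_top_iff_ne_top.2 hMcoatom.1)
    obtain ⟨m, hm⟩ := (Subgroup.ne_bot_iff_exists_ne_one (H := M)).1 hMbot
    have h1 : (m : G ⧸ center G) ∈ MulAut.conj g • M := by
      rw [Subgroup.mem_smul_pointwise_iff_exists]
      refine ⟨m, m.2, ?_⟩
      rw [MulAut.smul_def, MulAut.conj_apply, hc.is_comm.comm g, mul_inv_cancel_right]
    have h2 : (m : G ⧸ center G) ∈ M ⊓ MulAut.conj g • M := Subgroup.mem_inf.2 ⟨m.2, h1⟩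
    rw [hMfrob g hg, mem_bot] at h2
    exact hm (Subtype.ext h2)
  · intro Hs hHs
    by_cases hHK : Hs ≤ K
    · exact ⟨⟨fun a b => Subtype.ext (hKab a (hHK a.2) b (hHK b.2))⟩⟩
    · have hsup : Hs ⊔ K = ⊤ := by
        apply hKcoatom.2
        apply lt_of_le_of_ne le_sup_right
        intro h
        apply hHK
        rw [h]; exact le_sup_left
      have hNn : (Hs ⊓ K).Normal := by
        rw [← normalizer_eq_top_iff, eq_top_iff, ← hsup]
        apply sup_le
        · apply le_normalizer_of_forall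
          intro h hh n hn
          obtain ⟨hn1, hn2⟩ := Subgroup.mem_inf.1 hn
          exact Subgroup.mem_inf.2 ⟨mul_mem (mul_mem hh hn1) (inv_mem hh), hKn.conj_mem n hn2 h⟩
        · apply le_normalizer_of_forall
          intro k hk n hn
          obtain ⟨hn1, hn2⟩ := Subgroup.mem_inf.1 hn
          have : k * n * k⁻¹ = n := by
            rw [hKab k hk n hn2, mul_inv_cancel_right]
          rw [this]; exact hn
      have hbot : Hs ⊓ K = ⊥ := by
        rcases hmin _ hNn inf_le_right with h1 | h1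
        · exact h1
        · exfalso
          apply hHs
          have : K ≤ Hs := by rw [← h1]; exact inf_le_left
          rw [← hsup]; exact (sup_eq_left.2 this).symm
      refine ⟨⟨fun a b => ?_⟩⟩
      have h1 : (a : G ⧸ center G) * b * (a : G ⧸ center G)⁻¹ * (b : G ⧸ center G)⁻¹ ∈ Hs ⊓ K :=
        Subgroup.mem_inf.2 ⟨mul_mem (mul_mem (mul_mem a.2 b.2) (inv_mem a.2)) (inv_mem b.2),
          hcommK a b⟩
      rw [hbot, mem_bot] at h1
      apply Subtype.ext
      rw [Subgroup.coe_mul, Subgroup.coe_mul]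
      calc (a : G ⧸ center G) * b
          = ((a : G ⧸ center G) * b * (a : G ⧸ center G)⁻¹ * (b : G ⧸ center G)⁻¹) * (b * a) := by
            group
        _ = b * a := by rw [h1, one_mul]
  · intro P hP
    have hPK : P ≤ K := by
      intro x hx
      rw [← QuotientGroup.eq_one_iff, ← orderOf_eq_one_iff]
      have h1 : orderOf (x : (G ⧸ center G) ⧸ K) ∣ p ^ a := by
        apply orderOf_dvd_of_pow_eq_one
        rw [← QuotientGroup.mk_pow]
        have h2 : (⟨x, hx⟩ : ↥P) ^ Nat.card ↥P = 1 := pow_card_eq_one'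
        rw [hP] at h2
        have h3 := congrArg Subtype.val h2
        rw [Subgroup.coe_pow, Subgroup.coe_one] at h3
        change x ^ p ^ a = 1 at h3
        rw [h3]; rfl
      have h2 : orderOf (x : (G ⧸ center G) ⧸ K) ∣ q := by
        apply orderOf_dvd_of_pow_eq_one
        rw [← hQcard]; exact pow_card_eq_one'
      have hco : Nat.Coprime (p ^ a) q := ((Nat.coprime_primes hp hq).2 hpq).pow_left a
      have := Nat.dvd_gcd h1 h2
      rw [hco.gcd_eq_one] at this
      exact Nat.dvd_one.1 this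
    have : P = K := by
      apply eq_of_le_of_card_ge hPK
      rw [hP, hKcard]
    rw [this]; exact hKn

end Hyp

/-- Let G be a non-abelian finite group in which the centralizer of every non-central element is a maximal subgroup. -/
theorem result {G : Type*} [Group G] [Finite G] (hna : ¬ IsMulCommutative G)
    (h : ∀ x : G, x ∉ Subgroup.center G → IsCoatom (Subgroup.centralizer ({x} : Set G))) :
    (∃ p : ℕ, p.Prime ∧ Cfsg.IsElementaryAbelian p (⊤ : Subgroup (G ⧸ Subgroup.center G))) ∨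
    (¬ IsMulCommutative (G ⧸ Subgroup.center G) ∧ (∀ H : Subgroup (G ⧸ Subgroup.center G), H ≠ ⊤ → IsMulCommutative ↥H) ∧
      ∃ p q a : ℕ, p.Prime ∧ q.Prime ∧ p ≠ q ∧ Nat.card (G ⧸ Subgroup.center G) = p ^ a * q ∧
        ∀ P : Subgroup (G ⧸ Subgroup.center G), Nat.card ↥P = p ^ a → P.Normal) := by
  by_cases hn : ∀ x : G, (cz x).Normal
  · left
    exact case1 h hna hn
  · right
    push Not at hn
    obtain ⟨x₀, hx₀⟩ := hn
    exact case2 h x₀ hx₀

end Cfsg.Agent.S3904
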