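import Mathlib
import Cfsg.Statements.S2364
import Cfsg.Agent.Helper5.Card
import Cfsg.Agent.Helper38.CommUnip

set_option autoImplicit false
open Cfsg

namespace Cfsg.Agent.S2364

open Matrix

section arith
variable {F : Type*} [Field F] [Fintype F]

/-- `|SL_m(q)| = q^(m-1) ∏_{i < m-1} (q^m - q^i)` -/
theorem card_SL_formula (m : ℕ) (hm : 1 ≤ m) :
    Nat.card (SpecialLinearGroup (Fin m) F) =
      Fintype.card F ^ (m - 1) * ∏ i ∈ Finset.range (m - 1), (Fintype.card F ^ m - Fintype.card F ^ i) := by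
  obtain ⟨k, rfl⟩ : ∃ k, m = k + 1 := ⟨m - 1, by omega⟩
  have h := Cfsg.Agent.Helper5.card_GL_eq_card_SL_mul (n := Fin (k + 1)) (F := F)
  rw [Matrix.card_GL_field, Fin.prod_univ_castSucc] at h
  simp only [Fin.val_castSucc, Fin.val_last] at h
  have hq : 1 < Fintype.card F := Fintype.one_lt_card
  rw [Nat.add_sub_cancel, ← Fin.prod_univ_eq_prod_range (fun i => Fintype.card F ^ (k + 1) - Fintype.card F ^ i)]
  generalize Fintype.card F = q at h hq ⊢
  have h2 : q ^ (k + 1) - q ^ k = q ^ k * (q - 1) := by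
    rw [Nat.mul_sub, mul_one, pow_succ]
  rw [h2, ← mul_assoc] at h
  have h3 := Nat.eq_of_mul_eq_mul_right (by omega : 0 < q - 1) h
  rw [← h3, mul_comm]

/-- `p ∣ |SL_m(q)|` for `m ≥ 2` -/
theorem char_dvd_card_SL (p : ℕ) [Fact p.Prime] [CharP F p] (m : ℕ) (hm : 2 ≤ m) :
    p ∣ Nat.card (SpecialLinearGroup (Fin m) F) := by
  rw [card_SL_formula m (by omega)]
  obtain ⟨k, -, hk⟩ := FiniteField.card F p
  rw [hk]
  apply Dvd.dvd.mul_right
  apply dvd_pow _ (by omega)
  exact dvd_pow_self p k.ne_zero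

/-- primitive divisors of `q^e - 1`, `e ≤ m`, divide `|SL_m(q)|` for `m ≥ 2` -/
theorem dvd_card_SL_of_dvd (r : ℕ) (m e : ℕ) (hm : 2 ≤ m) (he1 : 1 ≤ e) (hem : e ≤ m)
    (h : r ∣ Fintype.card F ^ e - 1) : r ∣ Nat.card (SpecialLinearGroup (Fin m) F) := by
  rw [card_SL_formula m (by omega)]
  apply Dvd.dvd.mul_left
  have hq : 1 < Fintype.card F := Fintype.one_lt_card
  generalize Fintype.card F = q at h hq ⊢
  -- reduce to `e ≥ 2`
  obtain ⟨e', he2, hem', h'⟩ : ∃ e', 2 ≤ e' ∧ e' ≤ m ∧ r ∣ q ^ e' - 1 := by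
    rcases Nat.lt_or_ge e 2 with hlt | hge
    · have he : e = 1 := by omega
      subst he
      refine ⟨2, le_rfl, hm, h.trans ?_⟩
      rw [pow_one]
      refine ⟨q + 1, ?_⟩
      have : q ^ 2 = (q - 1) * (q + 1) + 1 := by
        obtain ⟨t, rfl⟩ : ∃ t, q = t + 1 := ⟨q - 1, by omega⟩
        simp only [Nat.add_sub_cancel]
        ring
      omega
    · exact ⟨e, hge, hem, h⟩
  have hmem : m - e' ∈ Finset.range (m - 1) := Finset.mem_range.mpr (by omega)
  refine h'.trans (Dvd.dvd.trans ?_ (Finset.dvd_prod_of_mem _ hmem))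
  refine ⟨q ^ (m - e'), ?_⟩
  rw [Nat.sub_mul, one_mul, ← pow_add]
  congr 2
  omega

end arith

section group
variable {F : Type*} [Field F] [Fintype F] {n : ℕ}

/-- central elements of `SL_n(F)` have order dividing `q - 1` -/
theorem center_pow (hn : 1 ≤ n) (ζ : SpecialLinearGroup (Fin n) F)
    (hζ : ζ ∈ Subgroup.center (SpecialLinearGroup (Fin n) F)) :
    ζ ^ (Fintype.card F - 1) = 1 := by
  rw [Matrix.SpecialLinearGroup.mem_center_iff] at hζ
  obtain ⟨c, hc, hcζ⟩ := hζ
  have hc0 : c ≠ 0 := by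
    rintro rfl
    rw [Fintype.card_fin, zero_pow (by omega)] at hc
    exact zero_ne_one hc
  have hc1 : c ^ (Fintype.card F - 1) = 1 := FiniteField.pow_card_sub_one_eq_one c hc0
  have key : ((ζ ^ (Fintype.card F - 1) : SpecialLinearGroup (Fin n) F) :
      Matrix (Fin n) (Fin n) F) = ((1 : SpecialLinearGroup (Fin n) F) : Matrix (Fin n) (Fin n) F) := by
    rw [Matrix.SpecialLinearGroup.coe_pow, Matrix.SpecialLinearGroup.coe_one, ← hcζ, ← map_pow, hc1,
      map_one]
  exact Subtype.ext key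

/-- Part I: from commuting `a`, `b'` in `PSL_n` of orders `p`, `r` to matrices -/
theorem exists_matrices (p : ℕ) [Fact p.Prime] [CharP F p] (hn : 1 ≤ n)
    (a b : Matrix.ProjectiveSpecialLinearGroup (Fin n) F) (ha : orderOf a = p) (hab : Commute a b)
    (r : ℕ) (hr : r.Prime) (hb : orderOf b = r) (hrq : ¬ r ∣ Fintype.card F - 1) :
    ∃ g N : Matrix (Fin n) (Fin n) F, N * N = 0 ∧ N ≠ 0 ∧ g * N = N * g ∧ g ^ r = 1 ∧ g ≠ 1 := by
  have hq : 1 < Fintype.card F := Fintype.one_lt_card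
  have hp : p.Prime := Fact.out
  obtain ⟨k, -, hk⟩ := FiniteField.card F p
  have hpq : p ∣ Fintype.card F := by
    rw [hk]
    exact dvd_pow_self p k.ne_zero
  obtain ⟨A, rfl⟩ := QuotientGroup.mk_surjective a
  obtain ⟨B, rfl⟩ := QuotientGroup.mk_surjective b
  set Z := Subgroup.center (SpecialLinearGroup (Fin n) F) with hZ
  -- the unipotent lift
  set E : ℕ := (Fintype.card F - 1) ^ 2 with hE
  have hEmod : E ≡ 1 [MOD p] := by
    obtain ⟨t, ht⟩ := hpq
    have h1 : E = p * (t * (Fintype.card F - 2)) + 1 := by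
      rw [hE]
      obtain ⟨u, hu⟩ : ∃ u, Fintype.card F = u + 2 := ⟨Fintype.card F - 2, by omega⟩
      rw [← mul_assoc, ← ht, hu]
      simp only [Nat.add_sub_cancel, show u + 2 - 1 = u + 1 by omega]
      ring
    rw [h1]
    exact Nat.mul_add_mod _ _ _
  have hAp : A ^ p ∈ Z := by
    rw [← QuotientGroup.eq_one_iff, QuotientGroup.mk_pow, ← ha]
    exact pow_orderOf_eq_one _
  set U : SpecialLinearGroup (Fin n) F := A ^ E with hU
  have hUp : U ^ p = 1 := by
    rw [hU, ← pow_mul, mul_comm, pow_mul, hE, pow_two, pow_mul, center_pow hn _ hAp, one_pow]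
  have hUa : (QuotientGroup.mk U : Matrix.ProjectiveSpecialLinearGroup (Fin n) F) =
      QuotientGroup.mk A := by
    rw [hU, QuotientGroup.mk_pow]
    have := (pow_eq_pow_iff_modEq (x := (QuotientGroup.mk A :
      Matrix.ProjectiveSpecialLinearGroup (Fin n) F)) (n := E) (m := 1)).mpr (by rw [ha]; exact hEmod)
    rw [this, pow_one]
  have hU1 : U ≠ 1 := by
    intro h
    rw [h, QuotientGroup.mk_one] at hUa
    rw [← hUa, orderOf_one] at ha
    exact hp.one_lt.ne ha
  -- `B` commutes with `U`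
  have hcZ : B * U * B⁻¹ * U⁻¹ ∈ Z := by
    rw [← QuotientGroup.eq_one_iff, QuotientGroup.mk_mul, QuotientGroup.mk_mul,
      QuotientGroup.mk_mul, QuotientGroup.mk_inv, QuotientGroup.mk_inv, hUa]
    have := hab.eq
    rw [← this, mul_inv_cancel_right, mul_inv_cancel]
  set c := B * U * B⁻¹ * U⁻¹ with hc
  have hcU : c * U = B * U * B⁻¹ := by
    rw [hc, inv_mul_cancel_right]
  have hcp : c ^ p = 1 := by
    have hcomm : Commute c U := by
      have := Subgroup.mem_center_iff.mp hcZ U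
      exact this.symm
    have h1 : (c * U) ^ p = c ^ p * U ^ p := hcomm.mul_pow p
    rw [hcU, conj_pow, hUp, mul_one, mul_inv_cancel, mul_one] at h1
    exact h1.symm
  have hc1 : c = 1 := by
    have h1 : orderOf c ∣ p := orderOf_dvd_of_pow_eq_one hcp
    have h2 : orderOf c ∣ Fintype.card F - 1 := orderOf_dvd_of_pow_eq_one (center_pow hn c hcZ)
    have h3 : orderOf c ∣ Fintype.card F := h1.trans hpq
    have h4 : orderOf c ∣ 1 := by
      have := (Nat.dvd_sub h3 h2)
      rwa [Nat.sub_sub_self (by omega)] at this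
    exact orderOf_eq_one_iff.mp (Nat.dvd_one.mp h4)
  have hBU : B * U = U * B := by
    have h1 := hcU
    rw [hc1, one_mul] at h1
    calc B * U = (B * U * B⁻¹) * B := by group
      _ = U * B := by rw [← h1]
  -- `B ^ r` is central, `B` is not
  have hBr : B ^ r ∈ Z := by
    rw [← QuotientGroup.eq_one_iff, QuotientGroup.mk_pow, ← hb]
    exact pow_orderOf_eq_one _
  have hBZ : B ∉ Z := by
    intro h
    rw [← QuotientGroup.eq_one_iff] at h
    rw [h, orderOf_one] at hb
    exact hr.one_lt.ne hb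
  rw [Matrix.SpecialLinearGroup.mem_center_iff] at hBr
  obtain ⟨μ, hμn, hμ⟩ := hBr
  rw [Matrix.SpecialLinearGroup.coe_pow] at hμ
  have hμ0 : μ ≠ 0 := by
    rintro rfl
    rw [Fintype.card_fin, zero_pow (by omega)] at hμn
    exact zero_ne_one hμn
  -- an `r`-th root of `μ`
  obtain ⟨ν, hν0, hν⟩ : ∃ ν : F, ν ≠ 0 ∧ ν ^ r = μ := by
    have hcop : Nat.Coprime (Nat.card Fˣ) r := by
      rw [Nat.card_units, Nat.card_eq_fintype_card]
      exact ((Nat.Prime.coprime_iff_not_dvd hr).mpr hrq).symm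
    obtain ⟨ν, hν⟩ := (powCoprime hcop).surjective (Units.mk0 μ hμ0)
    refine ⟨ν, ν.ne_zero, ?_⟩
    have := congrArg Units.val hν
    simpa using this
  have hUm1 : (U : Matrix (Fin n) (Fin n) F) ≠ 1 := by
    intro h
    apply hU1
    exact Subtype.ext (by rw [h, Matrix.SpecialLinearGroup.coe_one])
  have hUmp : (U : Matrix (Fin n) (Fin n) F) ^ p = 1 := by
    rw [← Matrix.SpecialLinearGroup.coe_pow, hUp, Matrix.SpecialLinearGroup.coe_one]
  have hBUm : (B : Matrix (Fin n) (Fin n) F) * (U : Matrix (Fin n) (Fin n) F) =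
      (U : Matrix (Fin n) (Fin n) F) * (B : Matrix (Fin n) (Fin n) F) := by
    rw [← Matrix.SpecialLinearGroup.coe_mul, hBU, Matrix.SpecialLinearGroup.coe_mul]
  -- the nilpotent element
  have : Nonempty (Fin n) := ⟨⟨0, by omega⟩⟩
  set N0 : Matrix (Fin n) (Fin n) F := (U : Matrix (Fin n) (Fin n) F) - 1 with hN0
  have hN0p : N0 ^ p = 0 := by
    rw [hN0, sub_pow_char_of_commute p (Commute.one_right _), hUmp, one_pow, sub_self]
  have hN00 : N0 ≠ 0 := fun h => hUm1 (sub_eq_zero.mp h)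
  have hex : ∃ s, N0 ^ s = 0 := ⟨p, hN0p⟩
  classical
  set s := Nat.find hex with hs
  have hs0 : N0 ^ s = 0 := Nat.find_spec hex
  have hs2 : 2 ≤ s := by
    by_contra hlt
    push Not at hlt
    interval_cases s
    · rw [pow_zero] at hs0
      exact one_ne_zero hs0
    · rw [pow_one] at hs0
      exact hN00 hs0
  have hsmin : N0 ^ (s - 1) ≠ 0 := Nat.find_min hex (by omega)
  -- the semisimple element
  set g : Matrix (Fin n) (Fin n) F := ν⁻¹ • (B : Matrix (Fin n) (Fin n) F) with hg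
  have hgN0 : g * N0 = N0 * g := by
    rw [hg, hN0, smul_mul_assoc, mul_smul_comm, mul_sub, sub_mul, hBUm, mul_one, one_mul]
  refine ⟨g, N0 ^ (s - 1), ?_, hsmin, ?_, ?_, ?_⟩
  · rw [← pow_add]
    obtain ⟨t, ht⟩ : ∃ t, s - 1 + (s - 1) = s + t := ⟨s - 2, by omega⟩
    rw [ht, pow_add, hs0, zero_mul]
  · have : Commute g N0 := hgN0
    exact (this.pow_right (s - 1)).eq
  · rw [hg, smul_pow, ← hμ, ← hν, inv_pow]
    ext i j
    by_cases hij : i = j
    · subst hij
      simp [Matrix.smul_apply, inv_mul_cancel₀ (pow_ne_zero r hν0)]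
    · simp [Matrix.smul_apply, hij]
  · intro h1
    apply hBZ
    rw [Matrix.SpecialLinearGroup.mem_center_iff]
    have hBm : (B : Matrix (Fin n) (Fin n) F) = ν • (1 : Matrix (Fin n) (Fin n) F) := by
      rw [← h1, hg, smul_smul, mul_inv_cancel₀ hν0, one_smul]
    refine ⟨ν, ?_, ?_⟩
    · have hdet := B.2
      rw [hBm, Matrix.det_smul, Matrix.det_one, mul_one] at hdet
      exact hdet
    · rw [hBm]
      ext i j
      by_cases hij : i = j
      · subst hij
        simp
      · simp [hij]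

end group

/-- Let F be a finite field of characteristic p, n ≥ 4, and let a, b be commuting elements of PSL(n, F) with a of order p. Then every prime divisor of the order of b divides the order of SL(n − 2, F). -/
theorem result {F : Type*} [Field F] [Fintype F] (p : ℕ) [Fact p.Prime] [CharP F p] (n : ℕ) (hn : 4 ≤ n)
    (a b : Matrix.ProjectiveSpecialLinearGroup (Fin n) F) (ha : orderOf a = p) (hab : Commute a b) :
    (orderOf b).primeFactors ⊆ (Nat.card (Matrix.SpecialLinearGroup (Fin (n - 2)) F)).primeFactors := by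
  intro r hr
  rw [Nat.mem_primeFactors] at hr ⊢
  obtain ⟨hrp, hrdvd, hb0⟩ := hr
  have hm : 2 ≤ n - 2 := by omega
  refine ⟨hrp, ?_, Nat.card_pos.ne'⟩
  by_cases hrp' : r = p
  · rw [hrp']
    exact char_dvd_card_SL p (n - 2) hm
  by_cases hrq1 : r ∣ Fintype.card F - 1
  · exact dvd_card_SL_of_dvd r (n - 2) 1 hm le_rfl (by omega) (by rwa [pow_one])
  have hb1 : orderOf (b ^ (orderOf b / r)) = r := orderOf_pow_orderOf_div hb0 hrdvd
  have hab1 : Commute a (b ^ (orderOf b / r)) := hab.pow_right _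
  obtain ⟨g, N, hN2, hN, hgN, hgr, hg1⟩ :=
    exists_matrices p (by omega) a (b ^ (orderOf b / r)) ha hab1 r hrp hb1 hrq1
  have hpp : p.Prime := Fact.out
  have : Fact r.Prime := ⟨hrp⟩
  have hrq : ¬ r ∣ Fintype.card F := by
    obtain ⟨k, -, hk⟩ := FiniteField.card F p
    rw [hk]
    intro h
    exact hrp' ((Nat.prime_dvd_prime_iff_eq hrp hpp).mp (hrp.dvd_of_dvd_pow h))
  have hr0 : (r : F) ≠ 0 := by
    intro h
    have h1 := (CharP.cast_eq_zero_iff F p r).mp h
    exact hrp' ((Nat.prime_dvd_prime_iff_eq hpp hrp).mp h1).symm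
  have hφ := (Matrix.toLinAlgEquiv' (R := F) (n := Fin n)).injective
  obtain ⟨e, he1, he2, he⟩ := Cfsg.Agent.Helper38.exists_dvd_of_commute_sq_zero
    (Matrix.toLinAlgEquiv' (R := F) (n := Fin n) g) (Matrix.toLinAlgEquiv' (R := F) (n := Fin n) N)
    (by rw [← map_mul, hN2, map_zero])
    (by
      intro h
      apply hN
      apply hφ
      rw [h, map_zero])
    (by rw [← map_mul, hgN, map_mul]) r (by rw [← map_pow, hgr, map_one])
    (by
      intro h
      apply hg1
      apply hφ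
      rw [h, map_one]) hrq hr0 (by rw [Module.finrank_fin_fun]; exact hn)
  rw [Module.finrank_fin_fun] at he2
  exact dvd_card_SL_of_dvd r (n - 2) e hm he1 he2 he

end Cfsg.Agent.S2364
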