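import Cfsg.Statements.S4207
import Cfsg.Agent.Helper70.Frattini

set_option autoImplicit false
open Cfsg

namespace Cfsg.Agent.S4207

open Cfsg.Agent.Helper70

variable {P : Type*} [Group P]

/-- tuples congruent to `f` modulo the Frattini subgroup -/
abbrev Tup {r : ℕ} (f : Fin r → P) : Type _ := {h : Fin r → P // ∀ i, h i * (f i)⁻¹ ∈ frattini P}

/-- the action of `A` on these tuples -/
@[reducible] def actTup {r : ℕ} (f : Fin r → P) (A : Subgroup (MulAut P))
    (hA : ∀ α ∈ A, ∀ x : P, α x * x⁻¹ ∈ frattini P) : MulAction A (Tup f) where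
  smul α h := ⟨fun i => (α : MulAut P) (h.1 i), fun i => by
    have h1 := hA α.1 α.2 (h.1 i)
    have h2 := h.2 i
    have : (α : MulAut P) (h.1 i) * (f i)⁻¹ = ((α : MulAut P) (h.1 i) * (h.1 i)⁻¹) * (h.1 i * (f i)⁻¹) := by group
    rw [this]
    exact Subgroup.mul_mem _ h1 h2⟩
  one_smul h := by
    apply Subtype.ext
    funext i
    rfl
  mul_smul α β h := by
    apply Subtype.ext
    funext i
    rfl

theorem card_Tup [Finite P] {r : ℕ} (f : Fin r → P) : Nat.card (Tup f) = Nat.card (frattini P) ^ r := by
  have e : Tup f ≃ (Fin r → frattini P) :=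
    { toFun := fun h i => ⟨h.1 i * (f i)⁻¹, h.2 i⟩
      invFun := fun g => ⟨fun i => (g i : P) * f i, fun i => by simp⟩
      left_inv := fun h => by
        apply Subtype.ext
        funext i
        simp
      right_inv := fun g => by
        funext i
        apply Subtype.ext
        simp }
  rw [Nat.card_congr e, Nat.card_fun, Nat.card_fin]

/-- Let `P` be a group of order `p^n` whose Frattini subgroup has index `p^r`. Then any group of automorphisms of `P` each of which induces the identity on the Frattini quotient has order dividing `p^(r(n-r))`; in particular it is a `p`-group. -/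
theorem result {P : Type*} [Group P] [Finite P] {p n r : ℕ} [Fact p.Prime] (hP : Nat.card P = p ^ n) (hr : (frattini P).index = p ^ r) (A : Subgroup (MulAut P)) (hA : ∀ α ∈ A, ∀ x : P, α x * x⁻¹ ∈ frattini P) : Nat.card A ∣ p ^ (r * (n - r)) := by
  have hp : p.Prime := Fact.out
  obtain ⟨f, hf⟩ := exists_generators_of_frattini_index p r hr
  letI := actTup f A hA
  -- the order of the Frattini subgroup
  have hrn : r ≤ n := by
    have h1 : p ^ r ∣ p ^ n := by
      rw [← hr, ← hP]; exact Subgroup.index_dvd_card _
    exact (Nat.pow_dvd_pow_iff_le_right hp.one_lt).mp h1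
  have hΦ : Nat.card (frattini P) = p ^ (n - r) := by
    have h1 := (frattini P).index_mul_card
    rw [hr, hP] at h1
    have h2 : p ^ n = p ^ r * p ^ (n - r) := by rw [← pow_add]; congr 1; omega
    rw [h2] at h1
    exact Nat.eq_of_mul_eq_mul_left (pow_pos hp.pos r) h1
  have hcard : Nat.card (Tup f) = p ^ (r * (n - r)) := by
    rw [card_Tup, hΦ, ← pow_mul, mul_comm]
  rw [← hcard]
  apply card_dvd_of_free
  intro h
  rw [eq_bot_iff]
  intro α hα
  rw [Subgroup.mem_bot]
  have hgen : Subgroup.closure (Set.range h.1) = ⊤ := closure_eq_top_of_congr_frattini f h.1 hf h.2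
  have hfix : ∀ i, (α : MulAut P) (h.1 i) = h.1 i := by
    intro i
    have := congrArg Subtype.val (MulAction.mem_stabilizer_iff.mp hα)
    exact congrFun this i
  have h1 : ((α : MulAut P).toMonoidHom : P →* P) = MonoidHom.id P := by
    apply MonoidHom.eq_of_eqOn_dense hgen
    rintro _ ⟨i, rfl⟩
    exact hfix i
  apply Subtype.ext
  ext x
  exact DFunLike.congr_fun h1 x

end Cfsg.Agent.S4207
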