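import Mathlib
import Cfsg.Statements.S0575

set_option autoImplicit false
open Cfsg

open Subgroup

namespace Cfsg.Agent.S0575


/-- If H is a normal subgroup of a finite group G, then the Frattini subgroup of H, viewed in G, lies in the Frattini subgroup of G. -/
theorem result {G : Type*} [Group G] [Finite G] (H : Subgroup G) [H.Normal] : (frattini ↥H).map H.subtype ≤ frattini G := by
  classical
  set F := (frattini ↥H).map H.subtype with hF
  have hFn : F.Normal := by rw [hF]; infer_instance
  have hFH : F ≤ H := by
    rw [hF]; exact Subgroup.map_subtype_le _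
  rw [frattini, Order.radical]
  simp only [le_iInf_iff]
  intro M hM
  by_contra hnot
  have hsup : F ⊔ M = ⊤ := by
    by_contra hne
    have hlt : M < F ⊔ M := by
      refine lt_of_le_of_ne le_sup_right ?_
      intro heq
      apply hnot
      rw [heq]
      exact le_sup_left
    exact hne (hM.2 _ hlt)
  have hK : M.subgroupOf H ⊔ frattini H = ⊤ := by
    rw [eq_top_iff]
    rintro ⟨h, hh⟩ _
    have hg : h ∈ F ⊔ M := by rw [hsup]; trivial
    rw [Subgroup.mem_sup_of_normal_left] at hg
    obtain ⟨f, hf, m, hm, hfm⟩ := hg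
    have hfH : f ∈ H := hFH hf
    have hmH : m ∈ H := by
      have : m = f⁻¹ * h := by rw [← hfm]; group
      rw [this]; exact H.mul_mem (H.inv_mem hfH) hh
    have : (⟨h, hh⟩ : H) = ⟨f, hfH⟩ * ⟨m, hmH⟩ := Subtype.ext hfm.symm
    rw [this, sup_comm]
    apply Subgroup.mul_mem_sup
    · rw [hF] at hf
      obtain ⟨f', hf', hff⟩ := hf
      have : f' = ⟨f, hfH⟩ := Subtype.ext hff
      rw [← this]; exact hf'
    · rw [Subgroup.mem_subgroupOf]; exact hm
  have hK' := frattini_nongenerating hK
  rw [Subgroup.subgroupOf_eq_top] at hK'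
  exact hnot (hFH.trans hK')

end Cfsg.Agent.S0575
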