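import Cfsg.Statements.S0157
import Cfsg.Agent.Helper15.PermChar
import Cfsg.Agent.Helper15.IndChar
import Cfsg.Agent.Helper81.PermChar

set_option autoImplicit false
open Cfsg

namespace Cfsg.Agent.S0157

open MulAction Cfsg.Agent.Helper15 Cfsg.Agent.Helper81
open scoped ComplexConjugate

section Orbits

variable {G : Type*} [Group G] {X : Type*} [MulAction G X]

open Classical in
/-- The map from orbits on pairs to `Bool`: is the pair on the diagonal? -/
noncomputable def diagMap (G : Type*) [Group G] (X : Type*) [MulAction G X] :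
    orbitRel.Quotient G (X × X) → Bool :=
  Quotient.lift (fun p : X × X => decide (p.1 = p.2)) (by
    rintro ⟨a, b⟩ ⟨c, d⟩ ⟨g, hg⟩
    have h1 : g • c = a := congrArg Prod.fst hg
    have h2 : g • d = b := congrArg Prod.snd hg
    simp only [decide_eq_decide]
    rw [← h1, ← h2]
    exact (MulAction.injective g).eq_iff)

theorem diagMap_mk (a b : X) :
    diagMap G X (Quotient.mk'' (a, b)) = true ↔ a = b := by
  classical
  show decide (a = b) = true ↔ a = b
  simp

theorem diagMap_surjective [Finite X] (hX : 2 ≤ Nat.card X) :
    Function.Surjective (diagMap G X) := by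
  classical
  have : Fintype X := Fintype.ofFinite X
  rw [Nat.card_eq_fintype_card] at hX
  obtain ⟨x, y, hxy⟩ := Fintype.exists_pair_of_one_lt_card (by omega : 1 < Fintype.card X)
  intro b
  cases b
  · refine ⟨Quotient.mk'' (x, y), ?_⟩
    rw [← Bool.not_eq_true, diagMap_mk]
    exact hxy
  · exact ⟨Quotient.mk'' (x, x), (diagMap_mk x x).mpr rfl⟩

theorem diagMap_injective_iff [IsPretransitive G X] :
    Function.Injective (diagMap G X) ↔ IsMultiplyPretransitive G X 2 := by
  classical
  rw [is_two_pretransitive_iff]
  constructor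
  · intro hinj a b c d hab hcd
    have h1 : diagMap G X (Quotient.mk'' (a, b)) = diagMap G X (Quotient.mk'' (c, d)) := by
      have ha : diagMap G X (Quotient.mk'' (a, b)) = false := by
        rw [← Bool.not_eq_true, diagMap_mk]; exact hab
      have hc : diagMap G X (Quotient.mk'' (c, d)) = false := by
        rw [← Bool.not_eq_true, diagMap_mk]; exact hcd
      rw [ha, hc]
    have h2 := hinj h1
    have h3 : (orbitRel G (X × X)) (c, d) (a, b) := Quotient.exact' h2.symm
    obtain ⟨g, hg⟩ := h3
    exact ⟨g, congrArg Prod.fst hg, congrArg Prod.snd hg⟩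
  · intro h q1 q2 hq
    induction q1 using Quotient.inductionOn' with
    | h p1 =>
    induction q2 using Quotient.inductionOn' with
    | h p2 =>
    obtain ⟨a, b⟩ := p1
    obtain ⟨c, d⟩ := p2
    apply Quotient.sound'
    show (orbitRel G (X × X)) (a, b) (c, d)
    by_cases hab : a = b
    · have hcd : c = d := by
        rw [← diagMap_mk (G := G), ← hq, diagMap_mk]; exact hab
      obtain ⟨g, hg⟩ := exists_smul_eq G c a
      refine ⟨g, ?_⟩
      show (g • c, g • d) = (a, b)
      rw [← hcd, hg, hab]
    · have hcd : c ≠ d := by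
        intro hcd
        apply hab
        rw [← diagMap_mk (G := G), hq, diagMap_mk]; exact hcd
      obtain ⟨g, hg1, hg2⟩ := h hcd hab
      refine ⟨g, ?_⟩
      show (g • c, g • d) = (a, b)
      rw [hg1, hg2]

theorem card_orbits_pairs_eq_two_iff [Finite X] [IsPretransitive G X] (hX : 2 ≤ Nat.card X) :
    Nat.card (orbitRel.Quotient G (X × X)) = 2 ↔ IsMultiplyPretransitive G X 2 := by
  rw [← diagMap_injective_iff]
  have hsurj := diagMap_surjective (G := G) hX
  constructor
  · intro h
    exact (hsurj.bijective_of_nat_card_le (by rw [h]; simp)).1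
  · intro h
    rw [Nat.card_eq_of_bijective _ ⟨h, hsurj⟩]
    simp

end Orbits

/-- For a transitive action of a finite group on a finite set with at least two points: the action is 2-transitive if and only if the function sending g to (number of fixed points of g) − 1 is an irreducible character. -/
theorem result {G : Type*} [Group G] [Finite G] (X : Type*) [MulAction G X] [Finite X] [MulAction.IsPretransitive G X] (hX : 2 ≤ Nat.card X) : Cfsg.IsIrrCharacter G (fun g => (Nat.card (MulAction.fixedBy X g) : ℂ) - 1) ↔ MulAction.IsMultiplyPretransitive G X 2 := by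
  classical
  have : Fintype G := Fintype.ofFinite G
  have : Fintype X := Fintype.ofFinite X
  have hne : Nonempty X := by
    by_contra hempty
    rw [not_nonempty_iff] at hempty
    rw [Nat.card_of_isEmpty] at hX
    omega
  obtain ⟨x₀⟩ := hne
  set H : Subgroup G := stabilizer G x₀ with hH
  have : Fintype H := Fintype.ofFinite H
  set π : G → ℂ := fun g => (Nat.card (fixedBy X g) : ℂ) with hπ
  have hπind : π = indFun H (fun _ : H => (1 : ℂ)) := by
    funext g
    rw [indFun_one_eq, ← card_fixed_in_orbit x₀ g]
    simp only [hπ]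
    congr 1
    apply Nat.card_congr
    refine Equiv.subtypeEquivRight fun x => ?_
    rw [mem_fixedBy]
    constructor
    · intro h; exact ⟨by rw [orbit_eq_univ]; trivial, h⟩
    · intro h; exact h.2
  have hπc : IsCharacter G π := by
    rw [hπind]
    exact isCharacter_indFun H (Helper74.isCharacter_of_isIrr (isIrrCharacter_one (G := H)))
  have hone : IsIrrCharacter G (fun _ : G => (1 : ℂ)) := isIrrCharacter_one
  have hπ1 : classInner π (fun _ : G => (1 : ℂ)) = 1 := by
    rw [hπind, inner_indFun_one_one]
  have h1π : classInner (fun _ : G => (1 : ℂ)) π = 1 := by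
    rw [← classInner_conj_symm, hπ1, map_one]
  have h11 : classInner (fun _ : G => (1 : ℂ)) (fun _ : G => (1 : ℂ)) = 1 :=
    Helper74.irr_inner_self ⟨_, hone⟩
  have hθeq : (fun g => (Nat.card (fixedBy X g) : ℂ) - 1) = π - fun _ : G => (1 : ℂ) := rfl
  rw [hθeq]
  -- `π - 1` is a character
  have hθc : IsCharacter G (π - fun _ : G => (1 : ℂ)) := by
    apply isCharacter_of_classFunction_of_inner_nat
    · intro g h
      have h1 := Helper74.isClassFunction_of_isCharacter hπc g h
      simp only [Pi.sub_apply, h1]
    · intro ψ
      rw [classInner_sub_left]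
      obtain ⟨m, hm⟩ := Helper74.isCharacter_inner_irr_nat hπc ψ
      by_cases hψ : ψ = ⟨_, hone⟩
      · refine ⟨0, ?_⟩
        rw [hψ]
        show classInner π (fun _ : G => (1 : ℂ)) - classInner (fun _ : G => (1 : ℂ))
          (fun _ : G => (1 : ℂ)) = _
        rw [hπ1, h11]; simp
      · refine ⟨m, ?_⟩
        rw [hm]
        have := Helper74.irr_orthonormal (⟨_, hone⟩ : IrrCharacter G) ψ
        rw [if_neg (fun h => hψ h.symm)] at this
        show (m : ℂ) - classInner (fun _ : G => (1 : ℂ)) (ψ : G → ℂ) = m
        rw [this, sub_zero]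
  rw [isIrrCharacter_iff_inner_self hθc, ← card_orbits_pairs_eq_two_iff (G := G) hX]
  rw [classInner_sub_left, classInner_sub_right, classInner_sub_right, hπ1, h1π, h11]
  -- `⟨π, π⟩ = number of orbits on pairs`
  have hππ : classInner π π = (Nat.card (orbitRel.Quotient G (X × X)) : ℂ) := by
    have hG : (Nat.card G : ℂ) ≠ 0 := by
      have : 0 < Nat.card G := Nat.card_pos
      exact_mod_cast this.ne'
    have hB := sum_card_fixedBy_eq_card_orbits_mul_card_group G (X × X)
    have hfix : ∀ g : G, Fintype.card (fixedBy (X × X) g) =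
        Nat.card (fixedBy X g) * Nat.card (fixedBy X g) := by
      intro g
      rw [← Nat.card_eq_fintype_card, ← Nat.card_prod]
      apply Nat.card_congr
      exact
        { toFun := fun p => (⟨p.1.1, congrArg Prod.fst p.2⟩, ⟨p.1.2, congrArg Prod.snd p.2⟩)
          invFun := fun q => ⟨(q.1.1, q.2.1), by
            show (g • q.1.1, g • q.2.1) = (q.1.1, q.2.1)
            rw [q.1.2, q.2.2]⟩
          left_inv := fun p => rfl
          right_inv := fun q => rfl }
    unfold classInner
    simp only [hπ, Complex.conj_natCast]
    have h2 : ∑ g : G, (Nat.card (fixedBy X g) : ℂ) * (Nat.card (fixedBy X g) : ℂ) =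
        ((∑ g : G, Fintype.card (fixedBy (X × X) g) : ℕ) : ℂ) := by
      push_cast
      refine Finset.sum_congr rfl fun g _ => ?_
      rw [hfix g]; push_cast; rfl
    rw [h2, hB]
    push_cast
    rw [← Nat.card_eq_fintype_card (α := G), ← Nat.card_eq_fintype_card]
    field_simp
  rw [hππ]
  constructor
  · intro h
    have h3 : (Nat.card (orbitRel.Quotient G (X × X)) : ℂ) = 2 := by
      linear_combination h
    exact_mod_cast h3
  · intro h
    rw [h]
    norm_num

end Cfsg.Agent.S0157
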