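import Cfsg.Statements.S2587
import Cfsg.Agent.S2677
import Cfsg.Agent.Helper73.HermNorm

set_option autoImplicit false
open Cfsg

namespace Cfsg.Agent.S2587

open Matrix Polynomial

section Star
variable {K : Type*} [Field K] {n : ℕ}

/-- conjugate transpose with respect to `bar`. -/
def st (bar : K →+* K) (M : Matrix (Fin n) (Fin n) K) : Matrix (Fin n) (Fin n) K :=
  (M.map bar)ᵀ

theorem st_apply (bar : K →+* K) (M : Matrix (Fin n) (Fin n) K) (i j : Fin n) :
    st bar M i j = bar (M j i) := rfl

theorem st_mul (bar : K →+* K) (M N : Matrix (Fin n) (Fin n) K) :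
    st bar (M * N) = st bar N * st bar M := by
  ext i j
  simp only [st_apply, Matrix.mul_apply, map_sum, map_mul]
  exact Finset.sum_congr rfl fun k _ => mul_comm _ _

theorem st_add (bar : K →+* K) (M N : Matrix (Fin n) (Fin n) K) :
    st bar (M + N) = st bar M + st bar N := by
  ext i j
  simp only [st_apply, Matrix.add_apply, map_add]

theorem st_smul (bar : K →+* K) (c : K) (M : Matrix (Fin n) (Fin n) K) :
    st bar (c • M) = bar c • st bar M := by
  ext i j
  simp only [st_apply, Matrix.smul_apply, smul_eq_mul, map_mul]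

theorem st_one (bar : K →+* K) : st bar (1 : Matrix (Fin n) (Fin n) K) = 1 := by
  ext i j
  simp only [st_apply, Matrix.one_apply]
  by_cases h : i = j
  · subst h; simp
  · rw [if_neg h, if_neg (Ne.symm h), map_zero]

theorem st_st (bar : K →+* K) (hbar2 : ∀ x, bar (bar x) = x) (M : Matrix (Fin n) (Fin n) K) :
    st bar (st bar M) = M := by
  ext i j
  simp only [st_apply, hbar2]

theorem st_pow (bar : K →+* K) (M : Matrix (Fin n) (Fin n) K) (k : ℕ) :
    st bar (M ^ k) = st bar M ^ k := by
  induction k with
  | zero => simp [st_one]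
  | succ k ih => rw [pow_succ, st_mul, ih, pow_succ']

theorem st_aeval (bar : K →+* K) (M : Matrix (Fin n) (Fin n) K) (p : K[X]) :
    st bar (aeval M p) = aeval (st bar M) (p.map bar) := by
  induction p using Polynomial.induction_on' with
  | add p q hp hq => rw [map_add, st_add, hp, hq, Polynomial.map_add, map_add]
  | monomial k c =>
    rw [Polynomial.map_monomial, Polynomial.aeval_monomial, Polynomial.aeval_monomial,
      ← Algebra.smul_def, ← Algebra.smul_def, st_smul, st_pow]

theorem det_st (bar : K →+* K) (M : Matrix (Fin n) (Fin n) K) : (st bar M).det = bar M.det := by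
  unfold st
  rw [Matrix.det_transpose]
  exact (RingHom.map_det bar M).symm

theorem charpoly_st (bar : K →+* K) (M : Matrix (Fin n) (Fin n) K) :
    (st bar M).charpoly = M.charpoly.map bar := by
  unfold st
  rw [Matrix.charpoly_transpose, Matrix.charpoly_map]

end Star


section Main
variable {K : Type*} [Field K] {n : ℕ}

theorem commute_aeval {h A : Matrix (Fin n) (Fin n) K} (hc : h * A = A * h) (p : K[X]) :
    aeval h p * A = A * aeval h p := by
  induction p using Polynomial.induction_on' with
  | add p q hp hq => rw [map_add, add_mul, mul_add, hp, hq]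
  | monomial k c =>
    rw [Polynomial.aeval_monomial, ← Algebra.smul_def, Matrix.smul_mul, Matrix.mul_smul]
    congr 1
    induction k with
    | zero => simp
    | succ k ih => rw [pow_succ, mul_assoc, hc, ← mul_assoc, ih, mul_assoc]

/-- A nonsingular Hermitian matrix over a finite field is `c* c` with `c` a polynomial in it. -/
theorem herm_factor [Finite K] (bar : K →+* K) (hbar2 : ∀ x, bar (bar x) = x)
    (hbarne : ∃ x, bar x ≠ x) (h : Matrix (Fin n) (Fin n) K) (hh : st bar h = h)
    (hdet : h.det ≠ 0) : ∃ p : K[X], st bar (aeval h p) * aeval h p = h := by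
  have hm0 : h.charpoly ≠ 0 := (Matrix.charpoly_monic h).ne_zero
  have hm : h.charpoly.map bar = h.charpoly := by
    rw [← charpoly_st, hh]
  have hcop : IsCoprime (X : K[X]) h.charpoly := by
    refine (Polynomial.irreducible_X.coprime_iff_not_dvd).2 ?_
    rw [Polynomial.X_dvd_iff]
    intro h0
    apply hdet
    rw [Matrix.det_eq_sign_charpoly_coeff, h0, mul_zero]
  obtain ⟨p, hp⟩ := Cfsg.Agent.Helper73.HermNorm.exists_norm_poly bar hbar2 hbarne hm0 hm
    (Polynomial.map_X bar) hcop
  refine ⟨p, ?_⟩
  obtain ⟨c, hc⟩ := hp
  have := congrArg (aeval h) hc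
  rw [map_sub, map_mul, map_mul, Matrix.aeval_self_charpoly, zero_mul, Polynomial.aeval_X,
    sub_eq_zero] at this
  rw [st_aeval, hh, this]

end Main

/-- Conjugacy in the finite general unitary group is controlled by the general linear group: two elements of GU_n(q) (the invertible matrices over the field with q² elements preserving the Hermitian form Σ u_i v_i^q) are conjugate in GU_n(q) if and only if they are conjugate in GL_n(q²). -/
theorem result {K : Type*} [Field K] [Fintype K] {q n : ℕ} (hK : Fintype.card K = q ^ 2) (A B : ↥(Cfsg.GU n K q)) : IsConj A B ↔ IsConj (A : GL (Fin n) K) (B : GL (Fin n) K) := by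
  constructor
  · intro h
    obtain ⟨c, hc⟩ := isConj_iff.1 h
    exact isConj_iff.2 ⟨(c : GL (Fin n) K), by rw [← hc]; rfl⟩
  · intro h
    classical
    obtain ⟨bar, hbar⟩ := Cfsg.Agent.Helper45.GU.exists_bar hK
    have hbar2 : ∀ x, bar (bar x) = x := by
      intro x
      rw [hbar, hbar, ← pow_mul, ← sq, ← hK, FiniteField.pow_card]
    have hq2 : 2 ≤ q := by
      have h1 : 1 < Fintype.card K := Fintype.one_lt_card
      rw [hK] at h1
      by_contra hlt
      have : q = 0 ∨ q = 1 := by omega
      rcases this with rfl | rfl <;> simp at h1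
    have hbarne : ∃ x, bar x ≠ x := by
      by_contra hall
      push Not at hall
      have hne : (X ^ q - X : K[X]) ≠ 0 := FiniteField.X_pow_card_sub_X_ne_zero K (by omega)
      have hdeg : (X ^ q - X : K[X]).natDegree = q :=
        FiniteField.X_pow_card_sub_X_natDegree_eq K (by omega)
      have hsub : (Finset.univ : Finset K).val ⊆ (X ^ q - X : K[X]).roots := by
        intro x _
        rw [Polynomial.mem_roots hne, Polynomial.IsRoot.def]
        simp only [Polynomial.eval_sub, Polynomial.eval_pow, Polynomial.eval_X]
        rw [← hbar, hall, sub_self]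
      have := Polynomial.card_le_degree_of_subset_roots hsub
      rw [hdeg, Finset.card_univ, hK] at this
      nlinarith
    obtain ⟨g, hg⟩ := isConj_iff.1 h
    -- matrices
    set AM : Matrix (Fin n) (Fin n) K := ((A : GL (Fin n) K) : Matrix (Fin n) (Fin n) K) with hAM
    set BM : Matrix (Fin n) (Fin n) K := ((B : GL (Fin n) K) : Matrix (Fin n) (Fin n) K) with hBM
    set gM : Matrix (Fin n) (Fin n) K := (g : Matrix (Fin n) (Fin n) K) with hgM
    have hgAB : gM * AM = BM * gM := by
      have : g * (A : GL (Fin n) K) = (B : GL (Fin n) K) * g := by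
        rw [← hg]; group
      have := congrArg (fun x : GL (Fin n) K => (x : Matrix (Fin n) (Fin n) K)) this
      simpa using this
    have stGU : ∀ X : GL (Fin n) K, X ∈ Cfsg.GU n K q ↔
        st bar (X : Matrix (Fin n) (Fin n) K) * (X : Matrix (Fin n) (Fin n) K) = 1 := by
      intro X
      rw [Cfsg.Agent.S2677.mem_GU_iff_matrix n bar hbar X]
      constructor
      · intro h1
        have := congrArg Matrix.transpose h1
        rw [Matrix.transpose_mul, Matrix.transpose_transpose, Matrix.transpose_one] at this
        exact this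
      · intro h1
        have := congrArg Matrix.transpose h1
        unfold st at this
        rw [Matrix.transpose_mul, Matrix.transpose_transpose, Matrix.transpose_one] at this
        exact this
    have hA : st bar AM * AM = 1 := (stGU _).1 A.2
    have hB : st bar BM * BM = 1 := (stGU _).1 B.2
    have hA' : AM * st bar AM = 1 := mul_eq_one_comm.1 hA
    set hM : Matrix (Fin n) (Fin n) K := st bar gM * gM with hhM
    have hherm : st bar hM = hM := by rw [hhM, st_mul, st_st bar hbar2]
    have hgdet : gM.det ≠ 0 := by
      have := (Matrix.isUnit_iff_isUnit_det gM).1 (g.isUnit)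
      exact this.ne_zero
    have hdet : hM.det ≠ 0 := by
      rw [hhM, Matrix.det_mul, det_st]
      exact mul_ne_zero ((map_ne_zero bar).2 hgdet) hgdet
    have hswap : st bar gM * BM = AM * st bar gM := by
      have h1 : st bar AM * st bar gM = st bar gM * st bar BM := by
        rw [← st_mul, ← st_mul, hgAB]
      calc st bar gM * BM = (AM * st bar AM) * st bar gM * BM := by rw [hA', one_mul]
        _ = AM * (st bar AM * st bar gM) * BM := by simp only [mul_assoc]
        _ = AM * (st bar gM * st bar BM) * BM := by rw [h1]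
        _ = AM * st bar gM * (st bar BM * BM) := by simp only [mul_assoc]
        _ = AM * st bar gM := by rw [hB, mul_one]
    have hcomm : hM * AM = AM * hM := by
      rw [hhM, mul_assoc, hgAB, ← mul_assoc, hswap, mul_assoc]
    obtain ⟨p, hp⟩ := herm_factor bar hbar2 hbarne hM hherm hdet
    set c : Matrix (Fin n) (Fin n) K := aeval hM p with hc
    have hcA : c * AM = AM * c := commute_aeval hcomm p
    have hcdet : c.det ≠ 0 := by
      intro h0
      apply hdet
      rw [← hp, Matrix.det_mul, h0, mul_zero]
    let cG : GL (Fin n) K := Matrix.GeneralLinearGroup.mkOfDetNeZero c hcdet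
    have hcG : (cG : Matrix (Fin n) (Fin n) K) = c := rfl
    have hcGA : cG * (A : GL (Fin n) K) = (A : GL (Fin n) K) * cG := by
      apply Units.ext
      rw [Units.val_mul, Units.val_mul, hcG]
      exact hcA
    have hmem : g * cG⁻¹ ∈ Cfsg.GU n K q := by
      rw [stGU]
      set ci : Matrix (Fin n) (Fin n) K := ((cG⁻¹ : GL (Fin n) K) : Matrix (Fin n) (Fin n) K)
        with hci
      have e1 : c * ci = 1 := by
        rw [← hcG, hci, ← Units.val_mul, mul_inv_cancel]; rfl
      have e2 : ((g * cG⁻¹ : GL (Fin n) K) : Matrix (Fin n) (Fin n) K) = gM * ci := by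
        rw [Units.val_mul]
      rw [e2, st_mul]
      calc st bar ci * st bar gM * (gM * ci) = st bar ci * (st bar gM * gM) * ci := by
            simp only [mul_assoc]
        _ = st bar ci * (st bar c * c) * ci := by rw [← hhM, ← hp]
        _ = (st bar ci * st bar c) * (c * ci) := by simp only [mul_assoc]
        _ = 1 := by rw [← st_mul, e1, st_one, one_mul]
    refine isConj_iff.2 ⟨⟨g * cG⁻¹, hmem⟩, ?_⟩
    apply Subtype.ext
    show g * cG⁻¹ * (A : GL (Fin n) K) * (g * cG⁻¹)⁻¹ = (B : GL (Fin n) K)
    rw [← hg]
    have : cG⁻¹ * (A : GL (Fin n) K) * cG = (A : GL (Fin n) K) := by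
      rw [mul_assoc, ← hcGA, ← mul_assoc, inv_mul_cancel, one_mul]
    calc g * cG⁻¹ * (A : GL (Fin n) K) * (g * cG⁻¹)⁻¹
        = g * (cG⁻¹ * (A : GL (Fin n) K) * cG) * g⁻¹ := by group
      _ = g * (A : GL (Fin n) K) * g⁻¹ := by rw [this]

end Cfsg.Agent.S2587
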