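import Cfsg.Statements.S2588
import Cfsg.Agent.Helper73.HermInv

set_option autoImplicit false
open Cfsg

namespace Cfsg.Agent.S2588

open Matrix Cfsg.Agent.S2587 Cfsg.Agent.Helper73.HermInv

/-- An invertible matrix A over the field with q² elements is conjugate in GL_n(q²) to an element of the general unitary group GU_n(q) (isometries of the Hermitian form Σ u_i v_i^q) if and only if A is similar to the inverse transpose of its entrywise q-th power (A ~ A^(−qT), the image of A under the map sending a matrix to the inverse transpose of its entrywise q-th power — inverse transpose composed with the field automorphism — whose fixed points form GU_n(q)). -/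
theorem result {K : Type*} [Field K] [Fintype K] {q n : ℕ} (hK : Fintype.card K = q ^ 2) (A : GL (Fin n) K) : (∃ B : ↥(Cfsg.GU n K q), IsConj A (B : GL (Fin n) K)) ↔ IsConj (A : Matrix (Fin n) (Fin n) K) (((A : Matrix (Fin n) (Fin n) K).map (fun x : K => x ^ q)).transpose)⁻¹ := by
  classical
  obtain ⟨bar, hbar⟩ := Cfsg.Agent.Helper45.GU.exists_bar hK
  have hbar2 : ∀ x, bar (bar x) = x := by
    intro x
    rw [hbar, hbar, ← pow_mul, ← sq, ← hK, FiniteField.pow_card]
  set AM : Matrix (Fin n) (Fin n) K := (A : Matrix (Fin n) (Fin n) K) with hAM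
  have hmap : ((AM.map (fun x : K => x ^ q)).transpose) = st bar AM := by
    unfold st
    congr 1
    ext i j
    simp only [Matrix.map_apply, hbar]
  rw [hmap]
  have hAdet : IsUnit AM.det := (Matrix.isUnit_iff_isUnit_det AM).1 A.isUnit
  have hsdet : IsUnit (st bar AM).det := by
    rw [det_st]
    exact hAdet.map bar
  constructor
  · rintro ⟨B, hB⟩
    obtain ⟨c, hc⟩ := isConj_iff.1 hB
    set cM : Matrix (Fin n) (Fin n) K := (c : Matrix (Fin n) (Fin n) K) with hcM
    set BM : Matrix (Fin n) (Fin n) K := ((B : GL (Fin n) K) : Matrix (Fin n) (Fin n) K) with hBM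
    have hcAB : cM * AM = BM * cM := by
      have : c * A = (B : GL (Fin n) K) * c := by rw [← hc]; group
      have := congrArg (fun x : GL (Fin n) K => (x : Matrix (Fin n) (Fin n) K)) this
      simpa using this
    have hBU : st bar BM * BM = 1 := by
      have h1 := (Cfsg.Agent.S2677.mem_GU_iff_matrix n bar hbar (B : GL (Fin n) K)).1 B.2
      have := congrArg Matrix.transpose h1
      rw [Matrix.transpose_mul, Matrix.transpose_transpose, Matrix.transpose_one] at this
      exact this
    have hcdet : cM.det ≠ 0 := ((Matrix.isUnit_iff_isUnit_det cM).1 c.isUnit).ne_zero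
    have hddet : (st bar cM * cM).det ≠ 0 := by
      rw [Matrix.det_mul, det_st]
      exact mul_ne_zero ((map_ne_zero bar).2 hcdet) hcdet
    let d : (Matrix (Fin n) (Fin n) K)ˣ := Matrix.GeneralLinearGroup.mkOfDetNeZero _ hddet
    have hd : (d : Matrix (Fin n) (Fin n) K) = st bar cM * cM := rfl
    have hinv : st bar AM * (st bar cM * cM) * AM = st bar cM * cM := by
      calc st bar AM * (st bar cM * cM) * AM = (st bar AM * st bar cM) * (cM * AM) := by
            simp only [mul_assoc]
        _ = st bar (cM * AM) * (cM * AM) := by rw [st_mul]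
        _ = st bar (BM * cM) * (BM * cM) := by rw [hcAB]
        _ = st bar cM * (st bar BM * BM) * cM := by rw [st_mul]; simp only [mul_assoc]
        _ = st bar cM * cM := by rw [hBU, mul_one]
    refine ⟨d, ?_⟩
    show (d : Matrix (Fin n) (Fin n) K) * AM = (st bar AM)⁻¹ * (d : Matrix (Fin n) (Fin n) K)
    rw [hd]
    calc st bar cM * cM * AM = ((st bar AM)⁻¹ * st bar AM) * (st bar cM * cM * AM) := by
          rw [Matrix.nonsing_inv_mul _ hsdet, one_mul]
      _ = (st bar AM)⁻¹ * (st bar AM * (st bar cM * cM) * AM) := by simp only [mul_assoc]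
      _ = (st bar AM)⁻¹ * (st bar cM * cM) := by rw [hinv]
  · rintro ⟨d, hd⟩
    have hd' : (d : Matrix (Fin n) (Fin n) K) * AM = (st bar AM)⁻¹ * (d : Matrix (Fin n) (Fin n) K) :=
      hd
    have hinv : st bar AM * (d : Matrix (Fin n) (Fin n) K) * AM = (d : Matrix (Fin n) (Fin n) K) := by
      rw [mul_assoc, hd', ← mul_assoc, Matrix.mul_nonsing_inv _ hsdet, one_mul]
    obtain ⟨B, hB, hconj⟩ := exists_conj_mem_GU hK bar hbar A d hinv
    exact ⟨⟨B, hB⟩, hconj⟩

end Cfsg.Agent.S2588
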