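-- Statement S4153: the ratio (number of p-elements)/(order of a Sylow p-subgroup) under quotients.
import Cfsg.Statements.S4153

set_option autoImplicit false
open Cfsg

namespace Cfsg.Agent.S4153

/-- Elements of a Sylow `p`-subgroup have `p`-power order. -/
theorem orderOf_of_mem_sylow {G : Type*} [Group G] {p : ℕ} [Fact p.Prime] (S : Sylow p G) {g : G}
    (hg : g ∈ (S : Subgroup G)) : ∃ k : ℕ, orderOf g = p ^ k := by
  obtain ⟨k, hk⟩ := (IsPGroup.iff_orderOf.mp S.isPGroup') ⟨g, hg⟩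
  exact ⟨k, by rw [← hk, ← Subgroup.orderOf_coe]⟩

/-- An element of `p`-power order lies in a Sylow `p`-subgroup. -/
theorem exists_sylow_mem {G : Type*} [Group G] {p : ℕ} [Fact p.Prime] {g : G}
    (hg : ∃ k : ℕ, orderOf g = p ^ k) : ∃ S : Sylow p G, g ∈ (S : Subgroup G) := by
  obtain ⟨k, hk⟩ := hg
  have hP : IsPGroup p (Subgroup.zpowers g) := IsPGroup.of_card (n := k) (by rw [Nat.card_zpowers, hk])
  obtain ⟨S, hS⟩ := hP.exists_le_sylow
  exact ⟨S, hS (Subgroup.mem_zpowers g)⟩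

/-- Elements of `p`-power order of a quotient lift to elements of `p`-power order. -/
theorem exists_lift {G : Type*} [Group G] [Finite G] {p : ℕ} [hp : Fact p.Prime] (N : Subgroup G)
    [N.Normal] (xbar : G ⧸ N) (h : ∃ k : ℕ, orderOf xbar = p ^ k) :
    ∃ y : G, (QuotientGroup.mk y : G ⧸ N) = xbar ∧ ∃ j : ℕ, orderOf y = p ^ j := by
  obtain ⟨x, rfl⟩ := QuotientGroup.mk_surjective xbar
  obtain ⟨k, hk⟩ := h
  obtain ⟨j, m, hm, hn⟩ := Nat.exists_eq_pow_mul_and_not_dvd (orderOf_pos x).ne' p hp.out.ne_one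
  rcases Nat.eq_zero_or_pos k with hk0 | hkpos
  · refine ⟨1, ?_, 0, by simp⟩
    rw [hk0, pow_zero, orderOf_eq_one_iff] at hk
    rw [hk]; rfl
  · have h1 : 1 < p ^ k := Nat.one_lt_pow hkpos.ne' hp.out.one_lt
    have hcop : Nat.Coprime m (p ^ k) :=
      Nat.Coprime.pow_right k ((Nat.Prime.coprime_iff_not_dvd hp.out).mpr hm).symm
    obtain ⟨u, -, hu⟩ := Nat.exists_mul_mod_eq_one_of_coprime hcop h1
    refine ⟨x ^ (m * u), ?_, ?_⟩
    · rw [QuotientGroup.mk_pow, ← pow_mod_orderOf, hk, hu, pow_one]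
    · have : (x ^ (m * u)) ^ (p ^ j) = 1 := by
        rw [← pow_mul, show m * u * p ^ j = (p ^ j * m) * u by ring, ← hn, pow_mul, pow_orderOf_eq_one,
          one_pow]
      obtain ⟨i, -, hi⟩ := (Nat.dvd_prime_pow hp.out).mp (orderOf_dvd_of_pow_eq_one this)
      exact ⟨i, hi⟩

/-- A Sylow `p`-subgroup of `G` meets a normal subgroup `N` in a subgroup of order the `p`-part of `|N|`. -/
theorem card_sylow_inf_normal {G : Type*} [Group G] [Finite G] {p : ℕ} [hp : Fact p.Prime]
    (N : Subgroup G) [N.Normal] (S : Sylow p G) :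
    Nat.card ((S : Subgroup G) ⊓ N : Subgroup G) = p ^ (Nat.card N).factorization p := by
  have hGN : Nat.card N * N.index = Nat.card G := Subgroup.card_mul_index N
  have hNpos : Nat.card N ≠ 0 := Nat.card_pos.ne'
  have hidx : N.index ≠ 0 := Subgroup.index_ne_zero_of_finite
  have hfac : (Nat.card G).factorization p = (Nat.card N).factorization p + (N.index).factorization p := by
    rw [← hGN, Nat.factorization_mul hNpos hidx]; rfl
  -- `S ⊓ N` is a `p`-group
  have hPg : IsPGroup p ((S : Subgroup G) ⊓ N : Subgroup G) := S.isPGroup'.to_le inf_le_left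
  obtain ⟨i, hi⟩ := IsPGroup.iff_card.mp hPg
  -- upper bound for `i`
  have h1 : i ≤ (Nat.card N).factorization p := by
    rw [← Nat.Prime.pow_dvd_iff_le_factorization hp.out hNpos, ← hi]
    exact Subgroup.card_dvd_of_le inf_le_right
  -- `|S| = |S ⊓ N| * |S : S ⊓ N|`
  have h2 : Nat.card ((S : Subgroup G) ⊓ N : Subgroup G) * N.relIndex (S : Subgroup G) = Nat.card (S : Subgroup G) := by
    have := Subgroup.card_mul_index (N.subgroupOf (S : Subgroup G))
    rw [← Subgroup.relIndex] at this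
    rw [← this]
    congr 1
    rw [← Subgroup.inf_subgroupOf_left]
    exact (Nat.card_congr (Subgroup.subgroupOfEquivOfLe (inf_le_left : (S : Subgroup G) ⊓ N ≤ S)).toEquiv).symm
  have h3 : N.relIndex (S : Subgroup G) ∣ N.index := Subgroup.relIndex_dvd_index_of_normal _ _
  rw [S.card_eq_multiplicity, hi, hfac] at h2
  -- lower bound for `i`
  have h4 : (Nat.card N).factorization p ≤ i := by
    by_contra hlt
    push Not at hlt
    -- then `p ^ (v_N - i + v_idx)` divides `N.index`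
    have h5 : N.relIndex (S : Subgroup G) = p ^ ((Nat.card N).factorization p - i + (N.index).factorization p) := by
      have hpos : 0 < p ^ i := Nat.pos_of_ne_zero (pow_ne_zero _ hp.out.ne_zero)
      apply Nat.eq_of_mul_eq_mul_left hpos
      rw [h2, ← pow_add]
      congr 1
      omega
    rw [h5, Nat.Prime.pow_dvd_iff_le_factorization hp.out hidx] at h3
    omega
  rw [hi, le_antisymm h1 h4]

theorem result {G : Type*} [Group G] [Finite G] (p : ℕ) [Fact p.Prime] (N : Subgroup G) [N.Normal]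
    (P : Sylow p G) (Pbar : Sylow p (G ⧸ N)) :
    Nat.card {g : (G ⧸ N) // ∃ k : ℕ, orderOf g = p ^ k} * Nat.card (P : Subgroup G) ≤ Nat.card {g : G // ∃ k : ℕ, orderOf g = p ^ k} * Nat.card (Pbar : Subgroup (G ⧸ N)) ∧
    (N ≤ Subgroup.center G → Nat.card {g : (G ⧸ N) // ∃ k : ℕ, orderOf g = p ^ k} * Nat.card (P : Subgroup G) = Nat.card {g : G // ∃ k : ℕ, orderOf g = p ^ k} * Nat.card (Pbar : Subgroup (G ⧸ N))) := by
  classical
  have hp : p.Prime := Fact.out
  set c : ℕ := p ^ (Nat.card N).factorization p with hc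
  -- `|P| = |Pbar| * c`
  have hcards : Nat.card (P : Subgroup G) = Nat.card (Pbar : Subgroup (G ⧸ N)) * c := by
    rw [P.card_eq_multiplicity, Pbar.card_eq_multiplicity, hc, ← pow_add]
    congr 1
    have h3 : Nat.card G = Nat.card (G ⧸ N) * Nat.card N := Subgroup.card_eq_card_quotient_mul_card_subgroup N
    rw [h3, Nat.factorization_mul Nat.card_pos.ne' Nat.card_pos.ne']; rfl
  -- choices of lifts and Sylow subgroups
  have hlift : ∀ xb : {g : (G ⧸ N) // ∃ k : ℕ, orderOf g = p ^ k},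
      ∃ y : G, (QuotientGroup.mk y : G ⧸ N) = xb.1 ∧ ∃ S : Sylow p G, y ∈ (S : Subgroup G) := by
    intro xb
    obtain ⟨y, hy, hyp⟩ := exists_lift N xb.1 xb.2
    exact ⟨y, hy, exists_sylow_mem hyp⟩
  choose y hy hS using hlift
  choose S hyS using hS
  haveI : Fintype {g : (G ⧸ N) // ∃ k : ℕ, orderOf g = p ^ k} := Fintype.ofFinite _
  -- the map
  let Φ : (Σ xb : {g : (G ⧸ N) // ∃ k : ℕ, orderOf g = p ^ k}, ↥((S xb : Subgroup G) ⊓ N)) →
      {g : G // ∃ k : ℕ, orderOf g = p ^ k} :=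
    fun z => ⟨y z.1 * (z.2 : G), orderOf_of_mem_sylow (S z.1)
      ((S z.1 : Subgroup G).mul_mem (hyS z.1) z.2.2.1)⟩
  have hΦmk : ∀ z, (QuotientGroup.mk ((Φ z : G)) : G ⧸ N) = z.1.1 := by
    intro z
    change (QuotientGroup.mk (y z.1 * (z.2 : G)) : G ⧸ N) = z.1.1
    rw [QuotientGroup.mk_mul, hy, (QuotientGroup.eq_one_iff (z.2 : G)).mpr z.2.2.2, mul_one]
  have hΦinj : Function.Injective Φ := by
    rintro ⟨xb₁, t₁⟩ ⟨xb₂, t₂⟩ h
    have h1 : xb₁ = xb₂ := by
      apply Subtype.ext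
      rw [← hΦmk ⟨xb₁, t₁⟩, ← hΦmk ⟨xb₂, t₂⟩, h]
    subst h1
    have h2 : y xb₁ * (t₁ : G) = y xb₁ * (t₂ : G) := congrArg Subtype.val h
    have h3 : t₁ = t₂ := Subtype.ext (mul_left_cancel h2)
    rw [h3]
  have hcardSig : Nat.card (Σ xb : {g : (G ⧸ N) // ∃ k : ℕ, orderOf g = p ^ k}, ↥((S xb : Subgroup G) ⊓ N)) =
      Nat.card {g : (G ⧸ N) // ∃ k : ℕ, orderOf g = p ^ k} * c := by
    rw [Nat.card_sigma]
    simp only [card_sylow_inf_normal N, ← hc]
    rw [Finset.sum_const, smul_eq_mul, Finset.card_univ, Nat.card_eq_fintype_card]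
  refine ⟨?_, ?_⟩
  · have hle := Nat.card_le_card_of_injective Φ hΦinj
    rw [hcardSig] at hle
    rw [hcards]
    calc Nat.card {g : (G ⧸ N) // ∃ k : ℕ, orderOf g = p ^ k} * (Nat.card (Pbar : Subgroup (G ⧸ N)) * c)
        = (Nat.card {g : (G ⧸ N) // ∃ k : ℕ, orderOf g = p ^ k} * c) * Nat.card (Pbar : Subgroup (G ⧸ N)) := by ring
      _ ≤ _ := Nat.mul_le_mul_right _ hle
  · intro hNZ
    have hΦsurj : Function.Surjective Φ := by
      rintro ⟨g, k, hk⟩
      -- the image of `g` has `p`-power order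
      have hgb : ∃ k' : ℕ, orderOf (QuotientGroup.mk g : G ⧸ N) = p ^ k' := by
        have hdvd : orderOf (QuotientGroup.mk g : G ⧸ N) ∣ p ^ k := by
          rw [← hk]; exact orderOf_map_dvd (QuotientGroup.mk' N) g
        obtain ⟨i, -, hi⟩ := (Nat.dvd_prime_pow hp).mp hdvd
        exact ⟨i, hi⟩
      set xb : {g : (G ⧸ N) // ∃ k : ℕ, orderOf g = p ^ k} := ⟨QuotientGroup.mk g, hgb⟩ with hxb
      set t : G := (y xb)⁻¹ * g with ht
      have htN : t ∈ N := by
        rw [← QuotientGroup.eq_one_iff, ht, QuotientGroup.mk_mul, QuotientGroup.mk_inv, hy xb]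
        exact inv_mul_cancel _
      have htZ : t ∈ Subgroup.center G := hNZ htN
      -- `t` has `p`-power order
      obtain ⟨j, hj⟩ := orderOf_of_mem_sylow (S xb) (hyS xb)
      have hcomm : Commute (y xb)⁻¹ g := by
        have hg : g = y xb * t := by rw [ht]; group
        rw [hg]
        have h1 : Commute (y xb)⁻¹ (y xb) := (Commute.refl (y xb)).inv_left
        have h2 : Commute (y xb)⁻¹ t := ((Subgroup.mem_center_iff.mp htZ) (y xb)⁻¹)
        exact h1.mul_right h2
      have htpow : t ^ (p ^ (j + k)) = 1 := by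
        have e1 : ((y xb)⁻¹) ^ (p ^ (j + k)) = 1 := by
          rw [inv_pow, pow_add, pow_mul, ← hj, pow_orderOf_eq_one, one_pow, inv_one]
        have e2 : g ^ (p ^ (j + k)) = 1 := by
          rw [pow_add, mul_comm, pow_mul, ← hk, pow_orderOf_eq_one, one_pow]
        rw [ht, hcomm.mul_pow, e1, e2, one_mul]
      have htord : ∃ i : ℕ, orderOf t = p ^ i := by
        obtain ⟨i, -, hi⟩ := (Nat.dvd_prime_pow hp).mp (orderOf_dvd_of_pow_eq_one htpow)
        exact ⟨i, hi⟩
      -- hence `t` lies in every Sylow `p`-subgroup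
      have htS : t ∈ (S xb : Subgroup G) := by
        obtain ⟨i, hi⟩ := htord
        have hPg : IsPGroup p (Subgroup.zpowers t) :=
          IsPGroup.of_card (n := i) (by rw [Nat.card_zpowers, hi])
        haveI : (Subgroup.zpowers t).Normal := by
          refine ⟨fun n hn g' => ?_⟩
          have hnZ : n ∈ Subgroup.center G :=
            (Subgroup.zpowers_le.mpr htZ) hn
          have := Subgroup.mem_center_iff.mp hnZ g'
          rw [this, mul_inv_cancel_right]
          exact hn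
        exact (hPg.le_sylow_of_normal (S xb)) (Subgroup.mem_zpowers t)
      refine ⟨⟨xb, ⟨t, htS, htN⟩⟩, ?_⟩
      apply Subtype.ext
      change y xb * t = g
      rw [ht]; group
    have heq := Nat.card_congr (Equiv.ofBijective Φ ⟨hΦinj, hΦsurj⟩)
    rw [hcardSig] at heq
    rw [hcards, ← heq]
    ring

end Cfsg.Agent.S4153
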