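-- Statement S4127: a p-element whose class size is the maximal p-part of all class sizes forces a
-- normal p-complement (A. R. Camina).
import Cfsg.Statements.S4127
import Cfsg.Agent.S4153
import Cfsg.Agent.Helper24.Coprime
import Cfsg.Agent.Helper67.Conj

set_option autoImplicit false
open Cfsg

namespace Cfsg.Agent.S4127

/-- An element with `z ^ (p ^ k) = 1` has `p`-power order. -/
theorem orderOf_eq_of_pow_eq_one {H : Type*} [Group H] {p : ℕ} [hp : Fact p.Prime] {z : H} {k : ℕ}
    (h : z ^ (p ^ k) = 1) : ∃ i : ℕ, orderOf z = p ^ i := by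
  obtain ⟨i, -, hi⟩ := (Nat.dvd_prime_pow hp.out).mp (orderOf_dvd_of_pow_eq_one h)
  exact ⟨i, hi⟩

/-- If `x`, `y` commute and have coprime orders then `x` is a power of `x * y`. -/
theorem mem_zpowers_mul_of_coprime {H : Type*} [Group H] {x y : H} (hxy : x * y = y * x)
    (hcop : (orderOf x).Coprime (orderOf y)) : x ∈ Subgroup.zpowers (x * y) := by
  have hb := Nat.gcd_eq_gcd_ab (orderOf y) (orderOf x)
  rw [hcop.symm.gcd_eq_one] at hb
  have h1 : (x * y) ^ (orderOf y) = x ^ (orderOf y) := by
    rw [(show Commute x y from hxy).mul_pow, pow_orderOf_eq_one, mul_one]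
  have h2 : x = ((x * y) ^ (orderOf y)) ^ (Nat.gcdA (orderOf y) (orderOf x)) := by
    rw [h1]
    have h3 : x ^ ((orderOf x : ℤ) * Nat.gcdB (orderOf y) (orderOf x)) = 1 := by
      rw [zpow_mul, zpow_natCast, pow_orderOf_eq_one, one_zpow]
    calc x = x ^ ((1 : ℕ) : ℤ) := by simp
      _ = x ^ ((orderOf y : ℤ) * Nat.gcdA (orderOf y) (orderOf x)
            + (orderOf x : ℤ) * Nat.gcdB (orderOf y) (orderOf x)) := by rw [hb]
      _ = (x ^ (orderOf y)) ^ (Nat.gcdA (orderOf y) (orderOf x)) := by
          rw [zpow_add, h3, mul_one, zpow_mul, zpow_natCast]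
  have h4 : ((x * y) ^ (orderOf y)) ^ (Nat.gcdA (orderOf y) (orderOf x)) ∈ Subgroup.zpowers (x * y) :=
    Subgroup.zpow_mem _ (Subgroup.pow_mem _ (Subgroup.mem_zpowers (x * y)) _) _
  rwa [← h2] at h4

/-- If `y` has class size coprime to `p` and `z` is a `p`-element commuting with `y`, then some Sylow
`p`-subgroup contains `z` and centralizes `y`. -/
theorem exists_sylow_commuting {H : Type*} [Group H] [Finite H] {p : ℕ} [hp : Fact p.Prime]
    (y z : H) (hy : ((Subgroup.centralizer ({y} : Set H)).index).Coprime p)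
    (hz : ∃ k : ℕ, orderOf z = p ^ k) (hzy : z * y = y * z) :
    ∃ Q : Sylow p H, z ∈ (Q : Subgroup H) ∧ ∀ s ∈ (Q : Subgroup H), s * y = y * s := by
  classical
  set Cy := Subgroup.centralizer ({y} : Set H) with hCy
  have hzC : z ∈ Cy := Subgroup.mem_centralizer_singleton_iff.mpr hzy
  have hz' : ∃ k : ℕ, orderOf (⟨z, hzC⟩ : Cy) = p ^ k := by
    obtain ⟨k, hk⟩ := hz
    exact ⟨k, by rw [← hk, ← Subgroup.orderOf_coe]⟩
  obtain ⟨Q', hQ'⟩ := Cfsg.Agent.S4153.exists_sylow_mem hz'
  have hcard : Nat.card ((Q' : Subgroup Cy).map Cy.subtype) = p ^ (Nat.card H).factorization p := by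
    rw [Subgroup.card_map_of_injective Cy.subtype_injective, Q'.card_eq_multiplicity]
    congr 1
    have h1 : Nat.card Cy * Cy.index = Nat.card H := Subgroup.card_mul_index Cy
    rw [← h1, Nat.factorization_mul Nat.card_pos.ne' Subgroup.index_ne_zero_of_finite]
    have h2 : (Cy.index).factorization p = 0 :=
      Nat.factorization_eq_zero_of_not_dvd ((Nat.Prime.coprime_iff_not_dvd hp.out).mp hy.symm)
    simp [h2]
  refine ⟨Sylow.ofCard _ hcard, ?_, ?_⟩
  · change z ∈ (Q' : Subgroup Cy).map Cy.subtype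
    exact ⟨⟨z, hzC⟩, hQ', rfl⟩
  · intro s hs
    change s ∈ (Q' : Subgroup Cy).map Cy.subtype at hs
    obtain ⟨s', -, rfl⟩ := hs
    exact Subgroup.mem_centralizer_singleton_iff.mp s'.2

/-- Conjugates of elements of a Sylow subgroup lie in the conjugate Sylow subgroup. -/
theorem conj_mem_smul {H : Type*} [Group H] {p : ℕ} (Q : Sylow p H) (c z : H)
    (hz : z ∈ (Q : Subgroup H)) : c * z * c⁻¹ ∈ ((c • Q : Sylow p H) : Subgroup H) := by
  rw [Sylow.coe_subgroup_smul]
  have := Subgroup.smul_mem_pointwise_smul z (MulAut.conj c) (Q : Subgroup H) hz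
  rwa [MulAut.smul_def, MulAut.conj_apply] at this

/-- With a normal Sylow subgroup, all Sylow subgroups coincide. -/
theorem sylow_eq_of_normal {H : Type*} [Group H] [Finite H] {p : ℕ} [Fact p.Prime] (P Q : Sylow p H)
    (hP : (P : Subgroup H).Normal) : Q = P := by
  obtain ⟨c, hc⟩ := MulAction.exists_smul_eq H P Q
  rw [← hc, Sylow.smul_eq_of_normal]

/-- If every `p`-regular element has class size coprime to `p`, then the Sylow `p`-subgroup is normal
and `p`-elements commute with `p`-regular elements. -/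
theorem commute_of_coprime_index {H : Type*} [Group H] [Finite H] {p : ℕ} [hp : Fact p.Prime]
    (hH : ∀ y : H, (orderOf y).Coprime p →
      ((Subgroup.centralizer ({y} : Set H)).index).Coprime p) :
    (∀ P : Sylow p H, (P : Subgroup H).Normal) ∧
    ∀ u y : H, (∃ k : ℕ, orderOf u = p ^ k) → (orderOf y).Coprime p → u * y = y * u := by
  classical
  have key : ∀ P : Sylow p H, (P : Subgroup H).Normal := by
    intro P
    set M : Subgroup H := (P : Subgroup H) ⊔ Subgroup.centralizer ((P : Subgroup H) : Set H) with hM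
    have hMtop : M = ⊤ := by
      apply Cfsg.Agent.Helper67.eq_top_of_forall_exists_conj_mem
      intro g
      obtain ⟨y, z, hy, hz, hg, hycop, k, hzk⟩ :=
        Cfsg.Agent.Helper67.exists_pprime_ppart p (isOfFinOrder_of_finite g)
      obtain ⟨i, hi⟩ := Subgroup.mem_zpowers_iff.mp hy
      obtain ⟨j, hj⟩ := Subgroup.mem_zpowers_iff.mp hz
      have hzy : z * y = y * z := by
        rw [← hi, ← hj]; exact (Commute.zpow_zpow_self g j i).eq
      obtain ⟨Q, hzQ, hQy⟩ := exists_sylow_commuting y z (hH _ hycop)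
        (orderOf_eq_of_pow_eq_one hzk) hzy
      obtain ⟨c, hc⟩ := MulAction.exists_smul_eq H Q P
      refine ⟨c, ?_⟩
      have h1 : c * g * c⁻¹ = (c * z * c⁻¹) * (c * y * c⁻¹) := by
        calc c * g * c⁻¹ = c * (y * z) * c⁻¹ := by rw [← hg]
          _ = c * (z * y) * c⁻¹ := by rw [hzy]
          _ = (c * z * c⁻¹) * (c * y * c⁻¹) := by group
      rw [h1]
      refine M.mul_mem (Subgroup.mem_sup_left ?_) (Subgroup.mem_sup_right ?_)
      · rw [← hc]; exact conj_mem_smul Q c z hzQ
      · rw [Subgroup.mem_centralizer_iff]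
        intro s hs
        have hs' : c⁻¹ * s * c ∈ (Q : Subgroup H) := by
          have h2 : c⁻¹ * s * c⁻¹⁻¹ ∈ ((c⁻¹ • P : Sylow p H) : Subgroup H) := conj_mem_smul P c⁻¹ s hs
          rw [← hc, inv_smul_smul, inv_inv] at h2
          exact h2
        have h3 := hQy _ hs'
        calc s * (c * y * c⁻¹) = c * ((c⁻¹ * s * c) * y) * c⁻¹ := by group
          _ = c * (y * (c⁻¹ * s * c)) * c⁻¹ := by rw [h3]
          _ = c * y * c⁻¹ * s := by group
    refine ⟨fun n hn g => ?_⟩
    have hg : g ∈ M := by rw [hMtop]; exact Subgroup.mem_top g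
    have hMle : M ≤ Subgroup.normalizer ((P : Subgroup H) : Set H) :=
      sup_le Subgroup.le_normalizer (Subgroup.centralizer_le_normalizer _)
    exact (Subgroup.mem_normalizer_iff.mp (hMle hg) n).mp hn
  refine ⟨key, ?_⟩
  intro u y hu hy
  obtain ⟨P⟩ := (inferInstance : Nonempty (Sylow p H))
  obtain ⟨Q, -, hQy⟩ := exists_sylow_commuting y 1 (hH y hy) ⟨0, by simp⟩ (by simp)
  obtain ⟨S, hS⟩ := Cfsg.Agent.S4153.exists_sylow_mem hu
  have h1 : S = P := sylow_eq_of_normal P S (key P)
  have h2 : Q = P := sylow_eq_of_normal P Q (key P)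
  rw [h1, ← h2] at hS
  exact hQy u hS

/-- Let G be a finite group, p a prime and p^a the largest power of p dividing the size of any conjugacy class of G. If some element of p-power order has a conjugacy class of size exactly p^a, then G has a normal p-complement. -/
theorem result {G : Type*} [Group G] [Finite G] (p : ℕ) [Fact p.Prime]
    (a : ℕ) (hmax : ∀ y : G, ¬ p ^ (a + 1) ∣ (Subgroup.centralizer ({y} : Set G)).index)
    (hx : ∃ x : G, (∃ k : ℕ, orderOf x = p ^ k) ∧ (Subgroup.centralizer ({x} : Set G)).index = p ^ a) :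
    Cfsg.HasNormalPComplement p G := by
  classical
  have hp : p.Prime := Fact.out
  obtain ⟨x, ⟨k, hxk⟩, hxa⟩ := hx
  set C := Subgroup.centralizer ({x} : Set G) with hC
  have hxC : x ∈ C := Subgroup.mem_centralizer_singleton_iff.mpr rfl
  -- Step 1: `p`-regular elements of `C` have class size in `C` coprime to `p`
  have step1 : ∀ y ∈ C, (orderOf y).Coprime p →
      ((Subgroup.centralizer ({y} : Set G)).relIndex C).Coprime p := by
    intro y hyC hy
    have hyx : y * x = x * y := Subgroup.mem_centralizer_singleton_iff.mp hyC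
    have hcop : (orderOf x).Coprime (orderOf y) := by
      rw [hxk]; exact Nat.Coprime.pow_left k hy.symm
    have hx_mem : x ∈ Subgroup.zpowers (x * y) := mem_zpowers_mul_of_coprime hyx.symm hcop
    have hy_mem : y ∈ Subgroup.zpowers (x * y) := by
      have := mem_zpowers_mul_of_coprime hyx hcop.symm
      rwa [hyx] at this
    set Cy := Subgroup.centralizer ({y} : Set G) with hCy
    set D := Cy ⊓ C with hD
    have hle : Subgroup.centralizer ({x * y} : Set G) ≤ D := by
      intro g hg
      have hg' : g * (x * y) = (x * y) * g := Subgroup.mem_centralizer_singleton_iff.mp hg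
      obtain ⟨i, hi⟩ := Subgroup.mem_zpowers_iff.mp hx_mem
      obtain ⟨j, hj⟩ := Subgroup.mem_zpowers_iff.mp hy_mem
      refine Subgroup.mem_inf.mpr ⟨?_, ?_⟩
      · rw [hCy, Subgroup.mem_centralizer_singleton_iff, ← hj]
        exact ((show Commute g (x * y) from hg').zpow_right j).eq
      · rw [hC, Subgroup.mem_centralizer_singleton_iff, ← hi]
        exact ((show Commute g (x * y) from hg').zpow_right i).eq
    have h1 : D.relIndex C * C.index = D.index := Subgroup.relIndex_mul_index inf_le_right
    have h2 : D.relIndex C = Cy.relIndex C := Subgroup.inf_relIndex_right Cy C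
    have h3 : D.index ∣ (Subgroup.centralizer ({x * y} : Set G)).index :=
      Subgroup.index_dvd_of_le hle
    rw [Nat.coprime_comm, Nat.Prime.coprime_iff_not_dvd hp]
    intro hdvd
    apply hmax (x * y)
    refine Dvd.dvd.trans ?_ h3
    rw [← h1, h2, hxa, pow_succ' p a]
    exact Nat.mul_dvd_mul hdvd (dvd_refl _)
  -- Step 2: structure of `C`
  have hH : ∀ y : C, (orderOf y).Coprime p →
      ((Subgroup.centralizer ({y} : Set C)).index).Coprime p := by
    intro y hy
    have h1 : Subgroup.centralizer ({y} : Set C) =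
        (Subgroup.centralizer ({(y : G)} : Set G)).subgroupOf C := by
      ext g
      rw [Subgroup.mem_subgroupOf, Subgroup.mem_centralizer_singleton_iff,
        Subgroup.mem_centralizer_singleton_iff, Subtype.ext_iff]
      rfl
    rw [h1]
    exact step1 y y.2 (by rwa [Subgroup.orderOf_coe])
  obtain ⟨hSn, hB⟩ := commute_of_coprime_index hH
  have hB' : ∀ u ∈ C, ∀ y ∈ C, (∃ k : ℕ, orderOf u = p ^ k) → (orderOf y).Coprime p →
      u * y = y * u := by
    intro u hu y hy hu' hy'
    have := hB ⟨u, hu⟩ ⟨y, hy⟩ (by rwa [Subgroup.orderOf_mk]) (by rwa [Subgroup.orderOf_mk])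
    exact congrArg Subtype.val this
  -- Step 3: the complement `K`
  obtain ⟨P₀⟩ := (inferInstance : Nonempty (Sylow p C))
  haveI hP₀n : (P₀ : Subgroup C).Normal := hSn P₀
  obtain ⟨K', hK'⟩ := Subgroup.exists_right_complement'_of_coprime P₀.card_coprime_index
  set K : Subgroup G := K'.map C.subtype with hK
  have hKC : K ≤ C := Subgroup.map_subtype_le K'
  have hcardK : Nat.card K = Nat.card K' := Subgroup.card_map_of_injective C.subtype_injective
  have hcardK' : (P₀ : Subgroup C).index = Nat.card K' := hK'.symm.index_eq_card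
  have hK'cop : (Nat.card K').Coprime p := by
    rw [← hcardK', Nat.coprime_comm, Nat.Prime.coprime_iff_not_dvd hp]
    exact P₀.not_dvd_index
  have hKcop : (Nat.card K).Coprime p := by rw [hcardK]; exact hK'cop
  have hKord : ∀ g ∈ K, (orderOf g).Coprime p := by
    intro g hg
    have h1 : orderOf (⟨g, hg⟩ : K) ∣ Nat.card K := orderOf_dvd_natCard _
    rw [Subgroup.orderOf_mk] at h1
    exact Nat.Coprime.coprime_dvd_left h1 hKcop
  -- every `p`-regular element of `C` lies in `K`
  have hKall : ∀ y ∈ C, (orderOf y).Coprime p → y ∈ K := by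
    intro y hyC hy
    obtain ⟨⟨s, t⟩, hst, -⟩ := hK'.existsUnique (⟨y, hyC⟩ : C)
    have hst' : (s : C) * (t : C) = ⟨y, hyC⟩ := hst
    have hsord : ∃ k : ℕ, orderOf ((s : C) : G) = p ^ k := by
      obtain ⟨k, hk⟩ := (IsPGroup.iff_orderOf.mp P₀.isPGroup') s
      exact ⟨k, by rw [← hk, Subgroup.orderOf_coe, Subgroup.orderOf_coe]⟩
    have htK : ((t : C) : G) ∈ K := ⟨(t : C), t.2, rfl⟩
    have htord : (orderOf ((t : C) : G)).Coprime p := hKord _ htK
    have hcomm : ((s : C) : G) * ((t : C) : G) = ((t : C) : G) * ((s : C) : G) :=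
      hB' _ (s : C).2 _ (t : C).2 hsord htord
    have hy_eq : ((s : C) : G) * ((t : C) : G) = y := congrArg Subtype.val hst'
    -- `s = y * t⁻¹` is `p`-regular
    have hs_eq : ((s : C) : G) = y * ((t : C) : G)⁻¹ := by rw [← hy_eq]; group
    have hyt : Commute y ((t : C) : G)⁻¹ := by
      have : Commute y ((t : C) : G) := by
        rw [← hy_eq]
        change ((s : C) : G) * ((t : C) : G) * ((t : C) : G) = ((t : C) : G) * (((s : C) : G) * ((t : C) : G))
        rw [← mul_assoc, hcomm]
      exact this.inv_right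
    have h1 : orderOf ((s : C) : G) ∣ Nat.lcm (orderOf y) (orderOf ((t : C) : G)) := by
      rw [hs_eq]
      have := hyt.orderOf_mul_dvd_lcm
      rwa [orderOf_inv] at this
    have h2 : (Nat.lcm (orderOf y) (orderOf ((t : C) : G))).Coprime p :=
      Nat.Coprime.coprime_dvd_left (Nat.lcm_dvd_mul _ _) (Nat.Coprime.mul_left hy htord)
    obtain ⟨k', hk'⟩ := hsord
    have h3 : (orderOf ((s : C) : G)).Coprime p := Nat.Coprime.coprime_dvd_left h1 h2
    have h4 : orderOf ((s : C) : G) = 1 := by
      rcases Nat.eq_zero_or_pos k' with h0 | hpos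
      · rw [hk', h0, pow_zero]
      · exfalso
        rw [hk'] at h3
        have : p ∣ p ^ k' := dvd_pow_self p hpos.ne'
        have h5 : p ∣ Nat.gcd (p ^ k') p := Nat.dvd_gcd this (dvd_refl p)
        rw [h3] at h5
        exact hp.one_lt.ne' (Nat.dvd_one.mp h5)
    rw [orderOf_eq_one_iff] at h4
    rw [← hy_eq, h4, one_mul]
    exact htK
  -- Step 4: a Sylow subgroup containing `x` and the decomposition `G = P K`
  obtain ⟨P, hxP⟩ := Cfsg.Agent.S4153.exists_sylow_mem (G := G) ⟨k, hxk⟩
  have hcardG : Nat.card K * Nat.card (P : Subgroup G) = Nat.card G := by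
    have e1 : Nat.card C * C.index = Nat.card G := Subgroup.card_mul_index C
    have e2 : Nat.card (P₀ : Subgroup C) * Nat.card K' = Nat.card C := hK'.card_mul_card
    have e3 : Nat.card (P₀ : Subgroup C) = p ^ (Nat.card C).factorization p := P₀.card_eq_multiplicity
    have e4 : Nat.card (P : Subgroup G) = p ^ (Nat.card G).factorization p := P.card_eq_multiplicity
    have e5 : Nat.card G = Nat.card K' * p ^ ((Nat.card C).factorization p + a) := by
      calc Nat.card G = Nat.card C * C.index := e1.symm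
        _ = (Nat.card (P₀ : Subgroup C) * Nat.card K') * p ^ a := by rw [e2, hxa]
        _ = (p ^ (Nat.card C).factorization p * Nat.card K') * p ^ a := by rw [e3]
        _ = Nat.card K' * p ^ ((Nat.card C).factorization p + a) := by rw [pow_add]; ring
    have e6 : (Nat.card G).factorization p = (Nat.card C).factorization p + a := by
      have hK'0 : Nat.card K' ≠ 0 := Nat.card_pos.ne'
      have hpow0 : p ^ ((Nat.card C).factorization p + a) ≠ 0 := pow_ne_zero _ hp.ne_zero
      rw [e5, Nat.factorization_mul hK'0 hpow0, Nat.Prime.factorization_pow hp]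
      have h2 : (Nat.card K').factorization p = 0 :=
        Nat.factorization_eq_zero_of_not_dvd ((Nat.Prime.coprime_iff_not_dvd hp).mp hK'cop.symm)
      simp [h2]
    rw [e4, e6, hcardK, ← e5]
  have hcompl : Subgroup.IsComplement' K (P : Subgroup G) := by
    apply Subgroup.isComplement'_of_coprime hcardG
    rw [P.card_eq_multiplicity]
    exact Nat.Coprime.pow_right _ hKcop
  -- all conjugates of `x` lie in `P`
  have hconjP : ∀ g : G, g * x * g⁻¹ ∈ (P : Subgroup G) := by
    intro g
    obtain ⟨⟨u, t⟩, hut, -⟩ := hcompl.symm.existsUnique g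
    have hut' : (u : G) * (t : G) = g := hut
    have htx : (t : G) * x = x * (t : G) := Subgroup.mem_centralizer_singleton_iff.mp (hKC t.2)
    have : g * x * g⁻¹ = (u : G) * x * (u : G)⁻¹ := by
      rw [← hut']
      calc (u : G) * (t : G) * x * ((u : G) * (t : G))⁻¹
          = (u : G) * ((t : G) * x) * (t : G)⁻¹ * (u : G)⁻¹ := by group
        _ = (u : G) * (x * (t : G)) * (t : G)⁻¹ * (u : G)⁻¹ := by rw [htx]
        _ = (u : G) * x * (u : G)⁻¹ := by group
    rw [this]
    exact (P : Subgroup G).mul_mem ((P : Subgroup G).mul_mem u.2 hxP) ((P : Subgroup G).inv_mem u.2)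
  set X : Subgroup G := Subgroup.normalClosure ({x} : Set G) with hX
  have hXn : X.Normal := Subgroup.normalClosure_normal
  have hxX : x ∈ X := Subgroup.subset_normalClosure (Set.mem_singleton x)
  have hXP : X ≤ (P : Subgroup G) := by
    rw [hX, Subgroup.normalClosure, Subgroup.closure_le]
    intro g hg
    obtain ⟨b, hb, hconj⟩ := Group.mem_conjugatesOfSet_iff.mp hg
    rw [Set.mem_singleton_iff] at hb
    obtain ⟨c, hc⟩ := isConj_iff.mp hconj
    rw [← hc, hb]
    exact hconjP c
  have hXp : IsPGroup p X := P.isPGroup'.to_le hXP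
  have hnorm : ∀ g : G, g ∈ Subgroup.normalizer (X : Set G) := by
    intro g
    rw [Subgroup.normalizer_eq_top]
    exact Subgroup.mem_top g
  -- Step 5: `K` centralizes `X` (Thompson's `P × Q` lemma)
  have hKX : ∀ t ∈ K, ∀ u ∈ X, t * u = u * t := by
    intro t ht
    have htx : t * x = x * t := Subgroup.mem_centralizer_singleton_iff.mp (hKC ht)
    refine Cfsg.Agent.Helper24.thompson_PxQ (p := p) (U := X) (P := Subgroup.zpowers x) hXp
      (IsPGroup.of_card (n := k) (by rw [Nat.card_zpowers, hxk]))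
      (fun b _ => hnorm b) (hnorm t) (hKord t ht) ?_ ?_
    · intro b hb
      obtain ⟨i, rfl⟩ := Subgroup.mem_zpowers_iff.mp hb
      exact ((show Commute t x from htx).zpow_right i).eq
    · intro u hu hcomm
      have hux : u * x = x * u := (hcomm x (Subgroup.mem_zpowers x)).symm
      have huC : u ∈ C := Subgroup.mem_centralizer_singleton_iff.mpr hux
      have huord : ∃ k : ℕ, orderOf u = p ^ k := by
        obtain ⟨k, hk⟩ := (IsPGroup.iff_orderOf.mp hXp) ⟨u, hu⟩
        exact ⟨k, by rw [← hk, Subgroup.orderOf_mk]⟩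
      exact (hB' u huC t (hKC ht) huord (hKord t ht)).symm
  -- Step 6: `K` is normal
  have hKn : K.Normal := by
    refine ⟨fun t ht g => ?_⟩
    apply hKall
    · rw [hC, Subgroup.mem_centralizer_singleton_iff]
      have h1 : g⁻¹ * x * g ∈ X := by
        have := hXn.conj_mem x hxX g⁻¹
        rwa [inv_inv] at this
      have h2 := hKX t ht _ h1
      calc g * t * g⁻¹ * x = g * (t * (g⁻¹ * x * g)) * g⁻¹ := by group
        _ = g * ((g⁻¹ * x * g) * t) * g⁻¹ := by rw [h2]
        _ = x * (g * t * g⁻¹) := by group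
    · have : orderOf (g * t * g⁻¹) = orderOf t := by
        have := MulEquiv.orderOf_eq (MulAut.conj g) t
        rwa [MulAut.conj_apply] at this
      rw [this]
      exact hKord t ht
  exact ⟨P, K, hKn, hcompl⟩

end Cfsg.Agent.S4127
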