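-- Statement S2624: in even dimension every non-zero scalar is the multiplier of a similarity.
import Cfsg.Statements.S2624
import Cfsg.Agent.Helper44.Similarity

set_option autoImplicit false
open Cfsg

namespace Cfsg.Agent.S2624

open QuadraticMap

theorem map_lin2 {F V : Type*} [Field F] [AddCommGroup V] [Module F V] (Q : QuadraticForm F V)
    (a b : F) (x y : V) :
    Q (a • x + b • y) = a * a * Q x + b * b * Q y + a * b * polar Q x y := by
  rw [QuadraticMap.map_add ⇑Q, QuadraticMap.map_smul, QuadraticMap.map_smul, polar_smul_left,
    polar_smul_right]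
  simp only [smul_eq_mul]
  ring

/-- For a quadratic form Q on F^n with non-degenerate polar form, F finite and n ≥ 2 even, every non-zero scalar c is the multiplier of some similarity: there is an invertible linear map g with Q(g v) = c·Q(v) for all v. -/
theorem result {F : Type*} [Field F] [Fintype F] {n : ℕ} (hn : 2 ≤ n) (he : Even n) (Q : QuadraticForm F (Fin n → F)) (hQ : (QuadraticMap.polarBilin Q).Nondegenerate) (c : F) (hc : c ≠ 0) : ∃ g : (Fin n → F) ≃ₗ[F] (Fin n → F), ∀ v, Q (g v) = c * Q v := by
  classical
  have hnd : ∀ x : Fin n → F, (∀ y, polar Q x y = 0) → x = 0 := by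
    intro x hx
    apply hQ.1 x
    intro y
    rw [polarBilin_apply_apply]
    exact hx y
  have hV : Module.finrank F (Fin n → F) = n := Module.finrank_fin_fun F
  obtain ⟨k, d, e, f, r, hkd, hd, hdata, hnr⟩ := Helper44.exists_wittData n Q hV hnd
  obtain ⟨m, rfl⟩ := he
  have hd02 : d = 0 ∨ d = 2 := by omega
  rcases hd02 with rfl | rfl
  · -- hyperbolic
    exact hdata.exists_similarity (by omega) hnd c hc r (fun i j => Fin.elim0 j) (fun i j => Fin.elim0 j)
      (fun j _ => Fin.elim0 j) (fun j => Fin.elim0 j)
  · -- elliptic
    obtain ⟨p, u, hx1, hxy, hirr, haniso⟩ := Helper44.exists_aniso_normal_form Q r hdata.aniso hnr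
    obtain ⟨x, hx⟩ : ∃ x : Fin (m + m) → F, x = ∑ j, p j • r j := ⟨_, rfl⟩
    obtain ⟨y, hy⟩ : ∃ y : Fin (m + m) → F, y = ∑ j, u j • r j := ⟨_, rfl⟩
    rw [← hx] at hx1 hxy haniso
    rw [← hy] at hxy haniso hirr
    have hex : ∀ i, polar Q (e i) x = 0 := by
      intro i; rw [hx, Helper44.polar_sum_smul_right]; simp [hdata.er]
    have hey : ∀ i, polar Q (e i) y = 0 := by
      intro i; rw [hy, Helper44.polar_sum_smul_right]; simp [hdata.er]
    have hfx : ∀ i, polar Q (f i) x = 0 := by
      intro i; rw [hx, Helper44.polar_sum_smul_right]; simp [hdata.fr]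
    have hfy : ∀ i, polar Q (f i) y = 0 := by
      intro i; rw [hy, Helper44.polar_sum_smul_right]; simp [hdata.fr]
    have hdata' : Helper44.WittData Q e f ![x, y] := by
      refine ⟨hdata.sing, hdata.pair, hdata.ee, hdata.ff, ?_, ?_, ?_⟩
      · intro i j
        fin_cases j
        · exact hex i
        · exact hey i
      · intro i j
        fin_cases j
        · exact hfx i
        · exact hfy i
      · intro c hc
        apply haniso
        rw [Fin.sum_univ_two] at hc
        simpa using hc
    -- represent c
    have haniso2 : ∀ a : Fin 2 → F, (c⁻¹ • Q) (∑ j, a j • ![x, y] j) = 0 → a = 0 := by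
      intro a ha
      apply hdata'.aniso
      rw [_root_.smul_apply, smul_eq_mul] at ha
      rcases mul_eq_zero.1 ha with h | h
      · exact absurd h (inv_ne_zero hc)
      · exact h
    obtain ⟨q, hq⟩ := Helper44.exists_repr_one (c⁻¹ • Q) ![x, y] haniso2
    rw [_root_.smul_apply, smul_eq_mul, Fin.sum_univ_two] at hq
    simp only [Matrix.cons_val_zero, Matrix.cons_val_one] at hq
    set α := q 0 with hα
    set β := q 1 with hβ
    set ζ := Q y with hζ
    have hyx : polar Q y x = 1 := by rw [polar_comm]; exact hxy
    have hxx : polar Q x x = 2 := by rw [polar_self, hx1]; simp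
    have hyy : polar Q y y = 2 * ζ := by rw [polar_self, hζ]; simp
    have hcc : α * α + α * β + ζ * (β * β) = c := by
      rw [map_lin2, hx1, hxy, ← hζ] at hq
      field_simp at hq
      linear_combination hq
    refine hdata'.exists_similarity (by omega) hnd c hc
      ![α • x + β • y, (-(ζ * β)) • x + (α + β) • y] ?_ ?_ ?_ ?_
    · intro i j
      fin_cases j <;> simp [polar_add_right, polar_smul_right, hex, hey]
    · intro i j
      fin_cases j <;> simp [polar_add_right, polar_smul_right, hfx, hfy]
    · have key : ∀ a b a' b' : F, polar Q (a • x + b • y) (a' • x + b' • y)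
          = 2 * a * a' + a * b' + b * a' + 2 * ζ * b * b' := by
        intro a b a' b'
        simp only [polar_add_left, polar_add_right, polar_smul_left, polar_smul_right, hxx, hxy, hyx, hyy,
          smul_eq_mul]
        ring
      rw [Fin.forall_fin_two]
      constructor <;> rw [Fin.forall_fin_two] <;> constructor <;>
        simp only [Matrix.cons_val_zero, Matrix.cons_val_one, key, hxx, hxy, hyx, hyy]
      · linear_combination 2 * hcc
      · linear_combination hcc
      · linear_combination hcc
      · linear_combination (2 * ζ) * hcc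
    · rw [Fin.forall_fin_two]
      constructor <;> simp only [Matrix.cons_val_zero, Matrix.cons_val_one]
      · rw [map_lin2, hx1, hxy, ← hζ]
        linear_combination hcc
      · rw [map_lin2, hx1, hxy, ← hζ]
        linear_combination ζ * hcc

end Cfsg.Agent.S2624
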