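import Mathlib
import Cfsg.Statements.S2695
import Cfsg.Agent.Helper5.AutOY

set_option autoImplicit false
open Cfsg

namespace Cfsg.Agent.S2695

open Cfsg.Agent.Helper5 Cfsg.Agent.Helper44

/-- For m ≥ 5 and a finite field F, the automorphism group of PΩ⁺_{2m}(F) (the form Σ xᵢ yᵢ) is generated by the automorphisms induced by the semisimilarities v ↦ g σ(v) of the form (the image of the projective semisimilarity group). The case 2m = 8 is excluded: there triality gives further automorphisms. -/
theorem result {F : Type*} [Field F] [Fintype F] {m : ℕ} (hm : 5 ≤ m) :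
    Cfsg.gammaPOmega F (Cfsg.quadFormPlus m F) = ⊤ := by
  have h3 : 3 ≤ m := by omega
  have T : HypTriple (plusForm m F) :=
    HypTriple.ofPairs (plusForm m F) (fun i => Sum.inl (Fin.castLE h3 i))
      (fun i => Sum.inr (Fin.castLE h3 i))
      (fun i j hij => Fin.castLE_injective h3 (Sum.inr_injective hij))
      (fun i j => Sum.inl_ne_inr)
      (fun i => isHypPair_plusForm m (Fin.castLE h3 i))
  have C : AutO.Ctx (plusForm m F) := ⟨nondegenerate_plusForm m, by simp; omega⟩
  have h9 : 9 ≤ Fintype.card (Fin m ⊕ Fin m) := by simp; omega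
  have key := AutO.gamma_eq_top C T (Or.inl h9)
  exact key

end Cfsg.Agent.S2695
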