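import Cfsg.Statements.S0901
import Mathlib

set_option autoImplicit false
open Cfsg

namespace Cfsg.Agent.S0901

open Polynomial

/-- A root of unity of order prime to `p` that is congruent to `1` modulo `M` equals `1`. -/
theorem eq_one_of_sub_mem {p : ℕ} {M : Ideal Cfsg.AlgInt} (hM : Cfsg.IsPModular p M)
    (η : Cfsg.AlgInt) (m : ℕ) (hpm : ¬ p ∣ m) (hη : η ^ m = 1) (hmem : η - 1 ∈ M) : η = 1 := by
  by_contra hne
  have hprime : M.IsPrime := hM.2.1.isPrime
  -- geometric sum vanishes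
  have hgeom : (∑ i ∈ Finset.range m, η ^ i) * (η - 1) = 0 := by
    rw [geom_sum_mul, hη, sub_self]
  have hsum0 : ∑ i ∈ Finset.range m, η ^ i = 0 := by
    rcases mul_eq_zero.1 hgeom with h | h
    · exact h
    · exact absurd (sub_eq_zero.1 h) hne
  -- modulo `M` the geometric sum is `m`
  have hq : Ideal.Quotient.mk M η = 1 := by
    have := Ideal.Quotient.eq.2 hmem
    simpa using this
  have h1 : Ideal.Quotient.mk M (∑ i ∈ Finset.range m, η ^ i) = (m : Cfsg.AlgInt ⧸ M) := by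
    rw [map_sum]
    simp [hq]
  rw [hsum0, map_zero] at h1
  have hm_mem : (m : Cfsg.AlgInt) ∈ M := by
    rw [← Ideal.Quotient.eq_zero_iff_mem, map_natCast]
    exact h1.symm
  -- hence `p ∣ m`
  apply hpm
  by_contra hndvd
  have hcop : Nat.Coprime m p := ((Nat.Prime.coprime_iff_not_dvd hM.1).2 hndvd).symm
  have hb : (Nat.gcd m p : ℤ) = m * Nat.gcdA m p + p * Nat.gcdB m p := Nat.gcd_eq_gcd_ab m p
  rw [hcop] at hb
  have h1' : (1 : Cfsg.AlgInt) = (m : Cfsg.AlgInt) * ((Nat.gcdA m p : ℤ) : Cfsg.AlgInt)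
      + (p : Cfsg.AlgInt) * ((Nat.gcdB m p : ℤ) : Cfsg.AlgInt) := by
    have := congrArg (fun z : ℤ => (z : Cfsg.AlgInt)) hb
    simpa using this
  apply hprime.ne_top
  rw [Ideal.eq_top_iff_one, h1']
  exact M.add_mem (M.mul_mem_right _ hm_mem) (M.mul_mem_right _ hM.2.2)

theorem coe_pow_eq_one_iff (ε : Cfsg.AlgInt) (m : ℕ) : (ε : ℂ) ^ m = 1 ↔ ε ^ m = 1 := by
  constructor
  · intro h
    apply Subtype.ext
    push_cast
    exact h
  · intro h
    have := congrArg (fun z : Cfsg.AlgInt => (z : ℂ)) h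
    simpa using this

/-- In a field of characteristic `p`, an element of finite order has order prime to `p`. -/
theorem exists_pow_eq_one_not_dvd {k : Type*} [Field k] (p : ℕ) [hp : Fact p.Prime] [CharP k p]
    (x : k) (n : ℕ) (hn : 0 < n) (hx : x ^ n = 1) : ∃ n' : ℕ, 0 < n' ∧ ¬ p ∣ n' ∧ x ^ n' = 1 := by
  obtain ⟨s, n', hn', rfl⟩ := Nat.exists_eq_pow_mul_and_not_dvd hn.ne' p hp.out.ne_one
  refine ⟨n', Nat.pos_of_ne_zero fun h0 => hn' (by rw [h0]; exact dvd_zero p), hn', ?_⟩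
  have h1 : (x ^ n' - 1) ^ p ^ s = 0 := by
    rw [sub_pow_char_pow, one_pow, ← pow_mul, mul_comm, hx, sub_self]
  exact sub_eq_zero.1 (pow_eq_zero_iff (pow_ne_zero s hp.out.ne_zero) |>.1 h1)

/-- Let M be a maximal ideal of the ring of algebraic integers containing the prime p, and let U be the set of complex roots of unity of order prime to p. Then reduction modulo M is injective on U, and every algebraic integer not in M is congruent modulo M to an element of U (so U maps bijectively onto the nonzero residues). -/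
theorem result (p : ℕ) [Fact p.Prime] (M : Ideal Cfsg.AlgInt) (hM : Cfsg.IsPModular p M) : (∀ ε₁ ε₂ : Cfsg.AlgInt, (∃ m : ℕ, ¬ p ∣ m ∧ (ε₁ : ℂ) ^ m = 1) → (∃ m : ℕ, ¬ p ∣ m ∧ (ε₂ : ℂ) ^ m = 1) → ε₁ - ε₂ ∈ M → ε₁ = ε₂) ∧ (∀ a : Cfsg.AlgInt, a ∉ M → ∃ ε : Cfsg.AlgInt, (∃ m : ℕ, ¬ p ∣ m ∧ (ε : ℂ) ^ m = 1) ∧ a - ε ∈ M) := by
  have hp : p.Prime := Fact.out
  have hprime : M.IsPrime := hM.2.1.isPrime
  have hmax : M.IsMaximal := hM.2.1
  constructor
  · -- distinct roots of unity stay distinct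
    rintro ε₁ ε₂ ⟨m₁, hm₁, h₁⟩ ⟨m₂, hm₂, h₂⟩ hmem
    rw [coe_pow_eq_one_iff] at h₁ h₂
    have hm₁0 : m₁ ≠ 0 := fun h => hm₁ (by rw [h]; exact dvd_zero p)
    -- η = ε₂ * ε₁⁻¹, with ε₁⁻¹ = ε₁ ^ (m₁ - 1)
    have hinv : ε₁ * ε₁ ^ (m₁ - 1) = 1 := by
      rw [← pow_succ', Nat.sub_add_cancel (Nat.pos_of_ne_zero hm₁0), h₁]
    set η := ε₂ * ε₁ ^ (m₁ - 1) with hη
    have hηpow : η ^ (m₁ * m₂) = 1 := by
      rw [hη, mul_pow, pow_mul', h₂, one_pow, one_mul, ← pow_mul, mul_comm (m₁ - 1), pow_mul,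
        pow_mul, h₁, one_pow, one_pow]
    have hηmem : η - 1 ∈ M := by
      have : η - 1 = -(ε₁ - ε₂) * ε₁ ^ (m₁ - 1) := by
        rw [hη, neg_sub, sub_mul, hinv]
      rw [this]
      exact M.mul_mem_right _ (M.neg_mem hmem)
    have hpm : ¬ p ∣ m₁ * m₂ := fun h => (hp.dvd_mul.1 h).elim hm₁ hm₂
    have hη1 := eq_one_of_sub_mem hM η (m₁ * m₂) hpm hηpow hηmem
    -- ε₂ = ε₁
    have : ε₂ = ε₁ := by
      calc ε₂ = ε₂ * (ε₁ * ε₁ ^ (m₁ - 1)) := by rw [hinv, mul_one]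
        _ = (ε₂ * ε₁ ^ (m₁ - 1)) * ε₁ := by ring
        _ = ε₁ := by rw [← hη, hη1, one_mul]
    exact this.symm
  · -- every unit residue is the residue of a root of unity
    intro a ha
    let k := Cfsg.AlgInt ⧸ M
    letI : Field k := Ideal.Quotient.field M
    have hpk : ((p : ℕ) : k) = 0 := by
      have : Ideal.Quotient.mk M (p : Cfsg.AlgInt) = 0 := Ideal.Quotient.eq_zero_iff_mem.2 hM.2.2
      simpa using this
    haveI : CharP k p := (CharP.charP_iff_prime_eq_zero hp).2 hpk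
    let a' : k := Ideal.Quotient.mk M a
    have ha' : a' ≠ 0 := fun h => ha (Ideal.Quotient.eq_zero_iff_mem.1 h)
    -- `a'` is integral over `ZMod p`, so `(ZMod p)[a']` is finite
    letI : Algebra (ZMod p) k := ZMod.algebra k p
    have hint : IsIntegral (ZMod p) a' := by
      obtain ⟨f, hf, hfa⟩ : IsIntegral ℤ a := by
        have h1 : IsIntegral ℤ (a : ℂ) := a.2
        exact (isIntegral_algHom_iff (Cfsg.AlgInt.val) Subtype.val_injective).1 h1
      refine ⟨f.map (Int.castRingHom (ZMod p)), hf.map _, ?_⟩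
      rw [eval₂_map]
      have h2 : (algebraMap (ZMod p) k).comp (Int.castRingHom (ZMod p)) =
          (Ideal.Quotient.mk M).comp (algebraMap ℤ Cfsg.AlgInt) := RingHom.ext_int _ _
      rw [h2, ← hom_eval₂, hfa, map_zero]
    have hfin : Finite (Algebra.adjoin (ZMod p) ({a'} : Set k)) := by
      have : Module.Finite (ZMod p) (Algebra.adjoin (ZMod p) ({a'} : Set k)) :=
        Module.Finite.iff_fg.2 hint.fg_adjoin_singleton
      exact Module.finite_of_finite (ZMod p)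
    -- pigeonhole on the powers of `a'`
    let f : ℕ → Algebra.adjoin (ZMod p) ({a'} : Set k) := fun i =>
      ⟨a' ^ i, Subalgebra.pow_mem _ (Algebra.self_mem_adjoin_singleton _ _) i⟩
    obtain ⟨i, j, hij, hfij⟩ := Finite.exists_ne_map_eq_of_infinite f
    have hpowij : a' ^ i = a' ^ j := congrArg Subtype.val hfij
    obtain ⟨n, hn, hpow⟩ : ∃ n : ℕ, 0 < n ∧ a' ^ n = 1 := by
      rcases lt_or_gt_of_ne hij with h | h
      · refine ⟨j - i, Nat.sub_pos_of_lt h, ?_⟩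
        have : a' ^ i * a' ^ (j - i) = a' ^ i * 1 := by
          rw [← pow_add, Nat.add_sub_cancel' h.le, mul_one, hpowij]
        exact mul_left_cancel₀ (pow_ne_zero i ha') this
      · refine ⟨i - j, Nat.sub_pos_of_lt h, ?_⟩
        have : a' ^ j * a' ^ (i - j) = a' ^ j * 1 := by
          rw [← pow_add, Nat.add_sub_cancel' h.le, mul_one, hpowij]
        exact mul_left_cancel₀ (pow_ne_zero j ha') this
    obtain ⟨n', hn', hpn', hpow'⟩ := exists_pow_eq_one_not_dvd p a' n hn hpow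
    -- lift: `a ^ n' - 1 ∈ M` factors over the `n'`-th roots of unity
    have hmem : a ^ n' - 1 ∈ M := by
      rw [← Ideal.Quotient.eq_zero_iff_mem, map_sub, map_pow, map_one]
      exact sub_eq_zero.2 hpow'
    -- a primitive root of unity in `AlgInt`
    have hζ₀ : IsPrimitiveRoot (Complex.exp (2 * Real.pi * Complex.I / n')) n' :=
      Complex.isPrimitiveRoot_exp n' hn'.ne'
    have hζint : IsIntegral ℤ (Complex.exp (2 * Real.pi * Complex.I / n')) :=
      ⟨X ^ n' - 1, monic_X_pow_sub_C 1 hn'.ne', by simp [hζ₀.pow_eq_one]⟩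
    let z₀ : Cfsg.AlgInt := ⟨_, hζint⟩
    have hz₀ : IsPrimitiveRoot z₀ n' :=
      IsPrimitiveRoot.of_map_of_injective (f := Cfsg.AlgInt.val) hζ₀ Subtype.val_injective
    have hfac := X_pow_sub_one_eq_prod hn' hz₀
    have heval : a ^ n' - 1 = ∏ ζ ∈ nthRootsFinset n' (1 : Cfsg.AlgInt), (a - ζ) := by
      have := congrArg (eval a) hfac
      simpa [eval_prod] using this
    rw [heval, hprime.prod_mem_iff] at hmem
    obtain ⟨ζ, hζmem, hζ⟩ := hmem
    refine ⟨ζ, ⟨n', hpn', ?_⟩, hζ⟩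
    rw [coe_pow_eq_one_iff]
    exact (mem_nthRootsFinset hn' 1).1 hζmem

end Cfsg.Agent.S0901
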