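import Mathlib
import Cfsg.Statements.S2696
import Cfsg.Agent.Helper5.AutOZ

set_option autoImplicit false
open Cfsg

namespace Cfsg.Agent.S2696

open Cfsg.Agent.Helper5 Cfsg.Agent.Helper44

/-- For m ≥ 3 and a finite field F, the automorphism group of the minus-type group PΩ⁻_{2m+2}(F) (the form Σ xᵢ yᵢ + z₁² + a z₁ z₂ + b z₂² with anisotropic binary part) is generated by the automorphisms induced by the semisimilarities v ↦ g σ(v) of the form, that is, pairs with Q(g σ(v)) = c σ(Q(v)) (the image of the projective semisimilarity group). -/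
theorem result {F : Type*} [Field F] [Fintype F] {m : ℕ} (hm : 3 ≤ m) (a b : F) (hab : ∀ z₁ z₂ : F, z₁ ^ 2 + a * z₁ * z₂ + b * z₂ ^ 2 = 0 → z₁ = 0 ∧ z₂ = 0) :
    Cfsg.gammaPOmega F (Cfsg.quadFormMinus m F a b) = ⊤ := by
  have T : HypTriple (minusForm m F a b) :=
    HypTriple.ofPairs (minusForm m F a b) (fun i => Sum.inl (Sum.inl (Fin.castLE hm i)))
      (fun i => Sum.inl (Sum.inr (Fin.castLE hm i)))
      (fun i j hij => Fin.castLE_injective hm (Sum.inr_injective (Sum.inl_injective hij)))
      (fun i j => by simp)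
      (fun i => isHypPair_minusForm m a b (Fin.castLE hm i))
  have C : AutO.Ctx (minusForm m F a b) :=
    ⟨nondegenerate_minusForm_of_aniso m a b hab, by simp; omega⟩
  have H : AutO.H4 (minusForm m F a b) := by
    rcases Nat.lt_or_ge m 4 with h | h
    · have h3 : m = 3 := by omega
      subst h3
      exact Or.inr (AutO.noTS4_minusForm a b hab)
    · exact Or.inl (by simp; omega)
  have key := AutO.gamma_eq_top C T H
  exact key

end Cfsg.Agent.S2696
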