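import Cfsg.Statements.S2725
import Cfsg.Agent.Helper44.PsoInnStd
import Cfsg.Agent.Helper44.InndiagPlus2

set_option autoImplicit false
open Cfsg

namespace Cfsg.Agent.S2725

/-- Let T = PΩ⁺_{2m}(F) with m ≥ 4 and |F| = q odd. The inner-diagonal group G = Inndiag(T) (image of the class-preserving similarities) taken modulo the inner automorphism group T is cyclic of order 2 when m is odd and q ≡ 3 (mod 4), cyclic of order 4 when m is odd and q ≡ 1 (mod 4), and elementary abelian of order 4 when m is even. -/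
theorem result {F : Type*} [Field F] [Fintype F] (hodd : Odd (Fintype.card F)) {m : ℕ} (hm : 4 ≤ m) :
    ((Odd m ∧ Fintype.card F % 4 = 3) → (∃ φ : ↥(Cfsg.inndiagPOmegaPlus m F) →* Multiplicative (ZMod 2), Function.Surjective φ ∧ φ.ker = (Cfsg.Inn (Cfsg.POmega F (Cfsg.quadFormPlus m F))).subgroupOf (Cfsg.inndiagPOmegaPlus m F))) ∧ ((Odd m ∧ Fintype.card F % 4 = 1) → (∃ φ : ↥(Cfsg.inndiagPOmegaPlus m F) →* Multiplicative (ZMod 4), Function.Surjective φ ∧ φ.ker = (Cfsg.Inn (Cfsg.POmega F (Cfsg.quadFormPlus m F))).subgroupOf (Cfsg.inndiagPOmegaPlus m F))) ∧ (Even m → (∃ φ : ↥(Cfsg.inndiagPOmegaPlus m F) →* Multiplicative (ZMod 2 × ZMod 2), Function.Surjective φ ∧ φ.ker = (Cfsg.Inn (Cfsg.POmega F (Cfsg.quadFormPlus m F))).subgroupOf (Cfsg.inndiagPOmegaPlus m F))) := by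
  have h2 : (2 : F) ≠ 0 := Cfsg.Agent.Helper44.two_ne_zero_of_odd_card rfl hodd
  have hcrit := Cfsg.Agent.Helper44.exists_neg_one_mem_Omega_plus_iff (F := F) rfl hodd m
  have hiff : Cfsg.Agent.Helper44.negOne (Cfsg.Agent.Helper44.plusForm m F)
      ∈ Cfsg.Omega F (Cfsg.quadFormPlus m F) ↔ ¬ (Odd m ∧ Fintype.card F % 4 = 3) := by
    rw [← Cfsg.Agent.Helper44.pow_mod_four_eq_one_iff _ _ hodd, ← hcrit]
    exact Cfsg.Agent.Helper44.negOne_mem_iff (Cfsg.Agent.Helper44.plusForm m F)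
  refine ⟨fun h => ?_, fun h => ?_, fun h => ?_⟩
  · exact Cfsg.Agent.Helper44.inndiag_mod_Inn_of_not_mem h2 hm (fun hmem => (hiff.1 hmem) h)
  · exact (Cfsg.Agent.Helper44.inndiag_mod_Inn_of_mem h2 hm
      (hiff.2 (fun h' => by omega))).1 h.1
  · exact (Cfsg.Agent.Helper44.inndiag_mod_Inn_of_mem h2 hm
      (hiff.2 (fun h' => (Nat.not_even_iff_odd.2 h'.1) h))).2 h

end Cfsg.Agent.S2725
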