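import Cfsg.Statements.S0142
import Cfsg.Agent.Helper78.Burnside
import Cfsg.Agent.Helper80.Integrality
import Cfsg.Agent.Helper3.CharEq

set_option autoImplicit false
open Cfsg

namespace Cfsg.Agent.S0142

/-- If the class size is coprime to the degree, then `χ(g)/χ(1)` is an algebraic integer. -/
theorem isIntegral_char_div_degree {G : Type*} [Group G] [Finite G] {V : Type*} [AddCommGroup V]
    [Module ℂ V] [FiniteDimensional ℂ V] (ρ : Representation ℂ G V) [ρ.IsIrreducible] (g : G)
    (hcop : Nat.Coprime (Module.finrank ℂ V) (Subgroup.centralizer ({g} : Set G)).index) :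
    IsIntegral ℤ (ρ.character g / (Module.finrank ℂ V : ℂ)) := by
  have : Fintype G := Fintype.ofFinite G
  set n := Module.finrank ℂ V with hn
  set k := (Subgroup.centralizer ({g} : Set G)).index with hk
  have h1 : IsIntegral ℤ ((k : ℂ) * ρ.character g / (n : ℂ)) :=
    Cfsg.Agent.Helper80.isIntegral_centralChar_rep ρ inferInstance g
  have h2 : IsIntegral ℤ (ρ.character g) :=
    Cfsg.Agent.Helper3.isIntegral_char ρ g (isOfFinOrder_of_finite g)
  have hV : Nontrivial V := ((Cfsg.Agent.Helper80.isIrreducible_iff ρ).mp inferInstance).1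
  have hn0 : (n : ℂ) ≠ 0 := by
    have := Module.finrank_pos (R := ℂ) (M := V)
    exact_mod_cast this.ne'
  -- Bezout
  have hb : (n : ℤ) * Nat.gcdA n k + (k : ℤ) * Nat.gcdB n k = 1 := by
    have := Nat.gcd_eq_gcd_ab n k
    rw [hcop] at this
    exact_mod_cast this.symm
  have hb' : (n : ℂ) * (Nat.gcdA n k : ℂ) + (k : ℂ) * (Nat.gcdB n k : ℂ) = 1 := by
    exact_mod_cast hb
  have key : ρ.character g / (n : ℂ) =
      (Nat.gcdA n k : ℂ) * ρ.character g +
        (Nat.gcdB n k : ℂ) * ((k : ℂ) * ρ.character g / (n : ℂ)) := by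
    field_simp
    linear_combination (ρ.character g) * hb'.symm
  rw [key]
  exact (IsIntegral.mul (isIntegral_algebraMap (x := Nat.gcdA n k)) h2).add
    (IsIntegral.mul (isIntegral_algebraMap (x := Nat.gcdB n k)) h1)

/-- If the degree of an irreducible complex representation of a finite group is coprime to the size of the conjugacy class of g, then the character at g is zero or has absolute value equal to the degree. -/
theorem result {G : Type*} [Group G] [Finite G] {V : Type*} [AddCommGroup V] [Module ℂ V] [FiniteDimensional ℂ V] (ρ : Representation ℂ G V) [ρ.IsIrreducible] (g : G) (hcop : Nat.Coprime (Module.finrank ℂ V) (Subgroup.centralizer ({g} : Set G)).index) : ρ.character g = 0 ∨ ‖ρ.character g‖ = (Module.finrank ℂ V : ℝ) := by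
  have hint := isIntegral_char_div_degree ρ g hcop
  have hfin : IsOfFinOrder g := isOfFinOrder_of_finite g
  have hpow : (ρ g) ^ orderOf g = 1 := by
    rw [← map_pow, pow_orderOf_eq_one, map_one]
  rcases Cfsg.Agent.Helper78.trace_eq_zero_or_scalar_of_isIntegral (ρ g) hfin.orderOf_pos hpow hint
    with h | ⟨c, hc⟩
  · left; exact h
  · right
    rw [Cfsg.Agent.Helper3.norm_char_eq_iff ρ g hfin]
    exact ⟨c, hc⟩

end Cfsg.Agent.S0142
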