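import Cfsg.Statements.S0143
import Cfsg.Agent.S0142
import Cfsg.Agent.Helper3.ScalarSubgroup
import Cfsg.Agent.Helper3.ColumnOrth
import Cfsg.Agent.Helper74.FSCount

set_option autoImplicit false
open Cfsg
open scoped ComplexConjugate commutatorElement

namespace Cfsg.Agent.S0143

/-- If a finite simple group has a non-identity element whose conjugacy class has prime-power size, then the group has prime order. -/
theorem result {G : Type*} [Group G] [Finite G] [IsSimpleGroup G] (p k : ℕ) (hp : p.Prime) (g : G) (hg : g ≠ 1) (hclass : (Subgroup.centralizer ({g} : Set G)).index = p ^ k) : (Nat.card G).Prime := by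
  classical
  by_cases hcomm : ∀ a b : G, a * b = b * a
  · let _ : CommGroup G := { ‹Group G› with mul_comm := hcomm }
    exact IsSimpleGroup.prime_card
  · exfalso
    have : Fintype G := Fintype.ofFinite G
    have : Fintype (Cfsg.IrrCharacter G) := Fintype.ofFinite _
    -- G is perfect
    have hperf : commutator G = ⊤ := by
      rcases (inferInstance : (commutator G).Normal).eq_bot_or_eq_top with h | h
      · exfalso
        apply hcomm
        intro a b
        have hab : ⁅a, b⁆ ∈ commutator G := by
          rw [commutator_def]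
          exact Subgroup.commutator_mem_commutator (Subgroup.mem_top a) (Subgroup.mem_top b)
        rw [h, Subgroup.mem_bot, commutatorElement_def] at hab
        calc a * b = (a * b * a⁻¹ * b⁻¹) * (b * a) := by group
          _ = b * a := by rw [hab, one_mul]
      · exact h
    -- key claim
    have hclaim : ∀ χ : Cfsg.IrrCharacter G, χ ≠ Cfsg.Agent.Helper74.irrTriv G →
        ∃ β : ℂ, IsIntegral ℤ β ∧ (χ : G → ℂ) g * conj ((χ : G → ℂ) 1) = (p : ℂ) * β := by
      intro χ hχ
      obtain ⟨χf, n, ρ, hρ, rfl⟩ := χ
      have hone : ρ.character 1 = (n : ℂ) := by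
        rw [Representation.char_one, Module.finrank_fin_fun]
      change ∃ β : ℂ, IsIntegral ℤ β ∧ ρ.character g * conj (ρ.character 1) = (p : ℂ) * β
      rw [hone, Complex.conj_natCast]
      by_cases hpn : p ∣ n
      · obtain ⟨m, rfl⟩ := hpn
        refine ⟨(m : ℂ) * ρ.character g, ?_, by push_cast; ring⟩
        exact IsIntegral.mul (isIntegral_algebraMap (x := (m : ℤ)))
          (Cfsg.Agent.Helper3.isIntegral_char ρ g (isOfFinOrder_of_finite g))
      · have hcop : Nat.Coprime (Module.finrank ℂ (Fin n → ℂ))
            (Subgroup.centralizer ({g} : Set G)).index := by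
          rw [Module.finrank_fin_fun, hclass]
          exact Nat.Coprime.pow_right k ((Nat.Prime.coprime_iff_not_dvd hp).mpr hpn).symm
        rcases Cfsg.Agent.S0142.result ρ g hcop with h0 | hnorm
        · exact ⟨0, isIntegral_zero, by rw [h0]; ring⟩
        · exfalso
          apply hχ
          have hsc := (Cfsg.Agent.Helper3.norm_char_eq_iff ρ g (isOfFinOrder_of_finite g)).mp hnorm
          have := Cfsg.Agent.Helper3.character_eq_one_of_scalar ρ hperf g hg hsc
          apply Subtype.ext
          exact this
    choose! β hβint hβ using hclaim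
    -- column orthogonality
    have hnc : ¬ IsConj g 1 := by
      intro h
      exact hg (isConj_one_left.mp h)
    have horth := Cfsg.Agent.Helper3.column_orthogonality g (1 : G)
    rw [if_neg hnc, ← Finset.add_sum_erase Finset.univ _ (Finset.mem_univ (Cfsg.Agent.Helper74.irrTriv G))]
      at horth
    have h1 : ∑ χ ∈ Finset.univ.erase (Cfsg.Agent.Helper74.irrTriv G),
        (χ : G → ℂ) g * conj ((χ : G → ℂ) 1) =
        (p : ℂ) * ∑ χ ∈ Finset.univ.erase (Cfsg.Agent.Helper74.irrTriv G), β χ := by
      rw [Finset.mul_sum]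
      exact Finset.sum_congr rfl fun χ hχ => hβ χ (Finset.ne_of_mem_erase hχ)
    rw [h1] at horth
    simp only [Cfsg.Agent.Helper74.irrTriv_apply, map_one, mul_one] at horth
    have hBint : IsIntegral ℤ (∑ χ ∈ Finset.univ.erase (Cfsg.Agent.Helper74.irrTriv G), β χ) :=
      IsIntegral.sum _ fun χ hχ => hβint χ (Finset.ne_of_mem_erase hχ)
    set B := ∑ χ ∈ Finset.univ.erase (Cfsg.Agent.Helper74.irrTriv G), β χ with hB
    have hp0 : (p : ℂ) ≠ 0 := by exact_mod_cast hp.ne_zero
    have hdiv : ((1 : ℕ) : ℂ) / (p : ℂ) = -B := by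
      field_simp
      push_cast
      linear_combination horth
    have hint : IsIntegral ℤ (((1 : ℕ) : ℂ) / (p : ℂ)) := by
      rw [hdiv]; exact hBint.neg
    have hdvd := Cfsg.Agent.Helper80.dvd_of_isIntegral_div hp.ne_zero hint
    exact hp.one_lt.ne' (Nat.dvd_one.mp hdvd)

end Cfsg.Agent.S0143
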