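import Cfsg.Statements.S0144
import Cfsg.Agent.S0143

set_option autoImplicit false
open Cfsg

namespace Cfsg.Agent.S0144

universe u

/-- A divisor of `p ^ a * q ^ b` has the same shape. -/
theorem dvd_shape {p q a b d : ℕ} (hp : p.Prime) (hq : q.Prime) (h : d ∣ p ^ a * q ^ b) :
    ∃ a' b', d = p ^ a' * q ^ b' := by
  obtain ⟨d₁, d₂, h₁, h₂, rfl⟩ := (Nat.dvd_mul).mp h
  obtain ⟨a', -, rfl⟩ := (Nat.dvd_prime_pow hp).mp h₁
  obtain ⟨b', -, rfl⟩ := (Nat.dvd_prime_pow hq).mp h₂
  exact ⟨a', b', rfl⟩

/-- In a simple group of order `p ^ a * q ^ b`, a nontrivial Sylow `q`-subgroup forces prime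
order. -/
theorem prime_card_of_sylow_ne_bot {G : Type u} [Group G] [Finite G] [IsSimpleGroup G]
    (p q a b : ℕ) (hp : p.Prime) (hq : q.Prime) (hcard : Nat.card G = p ^ a * q ^ b)
    [Fact q.Prime] (Q : Sylow q G) (hQ : (Q : Subgroup G) ≠ ⊥) : (Nat.card G).Prime := by
  -- index of Q is a power of p
  have hidx : ∃ k, (Q : Subgroup G).index = p ^ k := by
    have h1 : (Q : Subgroup G).index ∣ p ^ a * q ^ b := by
      rw [← hcard]; exact Subgroup.index_dvd_card _
    have h2 : Nat.Coprime (Q : Subgroup G).index (q ^ b) :=
      Nat.Coprime.pow_right b ((Nat.Prime.coprime_iff_not_dvd hq).mpr Q.not_dvd_index).symm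
    have h3 : (Q : Subgroup G).index ∣ p ^ a := h2.dvd_of_dvd_mul_right h1
    obtain ⟨k, -, hk⟩ := (Nat.dvd_prime_pow hp).mp h3
    exact ⟨k, hk⟩
  obtain ⟨k, hk⟩ := hidx
  -- a nontrivial central element of Q
  have hnt : Nontrivial (Q : Subgroup G) := (Subgroup.nontrivial_iff_ne_bot _).mpr hQ
  have hcent : Nontrivial (Subgroup.center (Q : Subgroup G)) := Q.2.center_nontrivial
  obtain ⟨⟨z, hz⟩, hz1⟩ := exists_ne (1 : Subgroup.center (Q : Subgroup G))
  have hzne : (z : G) ≠ 1 := by
    intro h
    apply hz1
    apply Subtype.ext
    apply Subtype.ext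
    exact h
  -- Q centralizes z
  have hle : (Q : Subgroup G) ≤ Subgroup.centralizer ({(z : G)} : Set G) := by
    intro x hx
    rw [Subgroup.mem_centralizer_iff]
    intro y hy
    rw [Set.mem_singleton_iff] at hy
    rw [hy]
    have := Subgroup.mem_center_iff.mp hz ⟨x, hx⟩
    have h2 := congrArg Subtype.val this
    simpa using h2.symm
  have hdvd : (Subgroup.centralizer ({(z : G)} : Set G)).index ∣ p ^ k := by
    rw [← hk]; exact Subgroup.index_dvd_of_le hle
  obtain ⟨j, -, hj⟩ := (Nat.dvd_prime_pow hp).mp hdvd
  exact Cfsg.Agent.S0143.result p j hp (z : G) hzne hj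

theorem burnside_aux (p q : ℕ) (hp : p.Prime) (hq : q.Prime) : ∀ n : ℕ,
    ∀ (G : Type u) [Group G] [Finite G], Nat.card G = n → (∃ a b, n = p ^ a * q ^ b) →
      Group.IsSolvable G := by
  intro n
  induction n using Nat.strong_induction_on with
  | _ n ih =>
    intro G _ _ hn hshape
    obtain ⟨a, b, hab⟩ := hshape
    have hcard : Nat.card G = p ^ a * q ^ b := hn.trans hab
    by_cases hsimple : IsSimpleGroup G
    · -- simple case: the order is prime
      have hprime : (Nat.card G).Prime := by
        haveI : Fact p.Prime := ⟨hp⟩
        haveI : Fact q.Prime := ⟨hq⟩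
        let Q : Sylow q G := default
        let P : Sylow p G := default
        by_cases hQ : (Q : Subgroup G) = ⊥
        · by_cases hP : (P : Subgroup G) = ⊥
          · exfalso
            -- the group is trivial
            have h1 : Nat.card (Q : Subgroup G) = 1 := by rw [hQ]; exact Subgroup.card_bot
            have h2 : Nat.card (P : Subgroup G) = 1 := by rw [hP]; exact Subgroup.card_bot
            have hq' : ¬ q ∣ Nat.card G := by
              intro hdvd
              have hc := Q.card_eq_multiplicity
              rw [h1] at hc
              have hpos : 0 < (Nat.card G).factorization q :=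
                (hq.factorization_pos_of_dvd Nat.card_pos.ne' hdvd)
              have h1lt : 1 < q ^ (Nat.card G).factorization q :=
                Nat.one_lt_pow hpos.ne' hq.one_lt
              omega
            have hp' : ¬ p ∣ Nat.card G := by
              intro hdvd
              have hc := P.card_eq_multiplicity
              rw [h2] at hc
              have hpos : 0 < (Nat.card G).factorization p :=
                (hp.factorization_pos_of_dvd Nat.card_pos.ne' hdvd)
              have h1lt : 1 < p ^ (Nat.card G).factorization p :=
                Nat.one_lt_pow hpos.ne' hp.one_lt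
              omega
            have ha : a = 0 := by
              by_contra ha
              apply hp'
              rw [hcard]
              exact Dvd.dvd.mul_right (dvd_pow_self p ha) _
            have hb : b = 0 := by
              by_contra hb
              apply hq'
              rw [hcard]
              exact Dvd.dvd.mul_left (dvd_pow_self q hb) _
            rw [ha, hb] at hcard
            simp only [pow_zero, mul_one] at hcard
            have : Subsingleton G := (Nat.card_eq_one_iff_unique.mp hcard).1
            exact not_nontrivial G hsimple.toNontrivial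
          · have hcard' : Nat.card G = q ^ b * p ^ a := by rw [hcard, mul_comm]
            exact prime_card_of_sylow_ne_bot q p b a hq hp hcard' P hP
        · exact prime_card_of_sylow_ne_bot p q a b hp hq hcard Q hQ
      haveI : Fact (Nat.card G).Prime := ⟨hprime⟩
      have hcyc : IsCyclic G := isCyclic_of_prime_card rfl
      exact Group.isSolvable_of_comm (fun x y => hcyc.commGroup.mul_comm x y)
    · by_cases htriv : Subsingleton G
      · exact Group.isSolvable_of_comm (fun x y => Subsingleton.elim _ _)
      · rw [not_subsingleton_iff_nontrivial] at htriv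
        rw [isSimpleGroup_iff] at hsimple
        push Not at hsimple
        obtain ⟨N, hN, hNbot, hNtop⟩ := hsimple htriv
        -- N and G ⧸ N are smaller
        have hNcard_dvd : Nat.card N ∣ Nat.card G := Subgroup.card_subgroup_dvd_card N
        have hQcard_dvd : Nat.card (G ⧸ N) ∣ Nat.card G := Subgroup.card_quotient_dvd_card N
        have hNlt : Nat.card N < n := by
          rw [← hn]
          apply lt_of_le_of_ne (Nat.le_of_dvd Nat.card_pos hNcard_dvd)
          intro h
          exact hNtop (Subgroup.card_eq_iff_eq_top N |>.mp h)
        have hQlt : Nat.card (G ⧸ N) < n := by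
          rw [← hn, ← Subgroup.index_eq_card]
          have h1 := Subgroup.card_mul_index N
          have h2 : 1 < Nat.card N := by
            rw [Subgroup.one_lt_card_iff_ne_bot]; exact hNbot
          have h3 : 0 < N.index := Nat.pos_of_ne_zero Subgroup.index_ne_zero_of_finite
          nlinarith
        have hNsolv : Group.IsSolvable N :=
          ih _ hNlt N rfl (by rw [hcard] at hNcard_dvd; exact dvd_shape hp hq hNcard_dvd)
        have hQsolv : Group.IsSolvable (G ⧸ N) :=
          ih _ hQlt (G ⧸ N) rfl (by rw [hcard] at hQcard_dvd; exact dvd_shape hp hq hQcard_dvd)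
        refine Group.isSolvable_of_ker_le_range N.subtype (QuotientGroup.mk' N) ?_
        rw [QuotientGroup.ker_mk', Subgroup.range_subtype]

/-- The Burnside two-prime Theorem: a finite group of order p ^ a * q ^ b, for primes p and q, is solvable. -/
theorem result {G : Type*} [Group G] [Finite G] (p q a b : ℕ) (hp : p.Prime) (hq : q.Prime) (hcard : Nat.card G = p ^ a * q ^ b) : Group.IsSolvable G := by
  exact burnside_aux p q hp hq (Nat.card G) G rfl ⟨a, b, hcard⟩

end Cfsg.Agent.S0144
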