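import Cfsg.Statements.S0756
import Cfsg.Agent.Helper13.SymmForm

set_option autoImplicit false
open Cfsg

namespace Cfsg.Agent.S0756

open Cfsg.Agent.Helper13 Module

theorem base_case {F V : Type*} [Field F] [Finite F] [AddCommGroup V] [Module F V]
    [FiniteDimensional F V] (h2 : (2 : F) ≠ 0) (B : LinearMap.BilinForm F V) (hS : B.IsSymm)
    (hB : B.Nondegenerate) (hn : Module.finrank F V = 1) (α : F) (hα : ¬ IsSquare α) :
    ∃ x : V, x ≠ 0 ∧ (B x x = 1 ∨ B x x = α) := by
  cases nonempty_fintype F
  have : Invertible (2 : F) := invertibleOfNonzero h2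
  have hnt : Nontrivial V := Module.nontrivial_of_finrank_pos (R := F) (by omega)
  have hB0 : B ≠ 0 := by
    rintro rfl
    obtain ⟨y, hy⟩ := exists_ne (0 : V)
    exact hy (hB.1 y (fun _ => rfl))
  obtain ⟨x, hx⟩ := LinearMap.BilinForm.exists_bilinForm_self_ne_zero hB0 (LinearMap.BilinForm.isSymm_iff.mp hS)
  have hx0 : x ≠ 0 := by
    rintro rfl
    simp at hx
  by_cases hsq : IsSquare (B x x)
  · obtain ⟨s, hs⟩ := hsq
    have hs0 : s ≠ 0 := by
      rintro rfl
      rw [mul_zero] at hs
      exact hx hs
    refine ⟨s⁻¹ • x, smul_ne_zero (inv_ne_zero hs0) hx0, Or.inl ?_⟩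
    simp only [map_smul, LinearMap.smul_apply, smul_eq_mul, hs]
    field_simp
  · have hα0 := ne_zero_of_not_isSquare hα
    have hx0' : α⁻¹ * B x x ≠ 0 := mul_ne_zero (inv_ne_zero hα0) hx
    have h1 : ¬ IsSquare (α * (α⁻¹ * B x x)) := by
      rw [← mul_assoc, mul_inv_cancel₀ hα0, one_mul]
      exact hsq
    rw [isSquare_nonsquare_mul_iff hα hx0', not_not] at h1
    obtain ⟨s, hs⟩ := h1
    have hs0 : s ≠ 0 := by
      rintro rfl
      rw [mul_zero] at hs
      exact hx0' hs
    refine ⟨s⁻¹ • x, smul_ne_zero (inv_ne_zero hs0) hx0, Or.inr ?_⟩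
    have hBx : B x x = α * (s * s) := by
      rw [← hs, ← mul_assoc, mul_inv_cancel₀ hα0, one_mul]
    simp only [map_smul, LinearMap.smul_apply, smul_eq_mul, hBx]
    field_simp

theorem main {F : Type*} [Field F] [Finite F] (h2 : (2 : F) ≠ 0) (α : F) (hα : ¬ IsSquare α)
    (n : ℕ) : ∀ {V : Type*} [AddCommGroup V] [Module F V] [FiniteDimensional F V]
    (B : LinearMap.BilinForm F V), B.IsSymm → B.Nondegenerate → Module.finrank F V = n + 1 →
    ∃ b : Module.Basis (Fin (n + 1)) F V, (∀ i j, i ≠ j → B (b i) (b j) = 0) ∧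
      (∀ i, i ≠ Fin.last n → B (b i) (b i) = 1) ∧
      (B (b (Fin.last n)) (b (Fin.last n)) = 1 ∨ B (b (Fin.last n)) (b (Fin.last n)) = α) := by
  induction n with
  | zero =>
    intro V _ _ _ B hS hB hn
    obtain ⟨x, hx0, hx⟩ := base_case h2 B hS hB hn α hα
    letI : Unique (Fin (0 + 1)) := inferInstanceAs (Unique (Fin 1))
    refine ⟨FiniteDimensional.basisSingleton (Fin (0 + 1)) hn x hx0, ?_, ?_, ?_⟩
    · intro i j hij
      exact absurd (Fin.ext (by omega)) hij
    · intro i hi
      exact absurd (Fin.ext (by simp)) hi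
    · simpa [FiniteDimensional.basisSingleton_apply] using hx
  | succ n ih =>
    intro V _ _ _ B hS hB hn
    obtain ⟨x, hx1⟩ := exists_self_eq_one h2 B hS hB (by omega)
    have hx : B x x ≠ 0 := by rw [hx1]; exact one_ne_zero
    have hcompl := LinearMap.BilinForm.isCompl_span_singleton_orthogonal hx
    have hx0 : x ≠ 0 := by
      rintro rfl
      simp at hx
    have hdim : Module.finrank F (B.orthogonal (Submodule.span F {x})) = n + 1 := by
      have := Submodule.finrank_add_eq_of_isCompl hcompl
      rw [finrank_span_singleton hx0] at this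
      omega
    obtain ⟨v', hv1, hv2, hv3⟩ := ih (B.restrict (B.orthogonal (Submodule.span F {x})))
      (hS.restrict _)
      (LinearMap.BilinForm.restrict_nondegenerate_orthogonal_spanSingleton B hB hS.isRefl hx) hdim
    let b := Basis.mkFinCons x v'
      (by
        rintro c y hy hc
        rw [add_eq_zero_iff_neg_eq] at hc
        rw [← hc, Submodule.neg_mem_iff] at hy
        have := hcompl.disjoint
        rw [Submodule.disjoint_def] at this
        have := this (c • x) (Submodule.smul_mem _ _ <| Submodule.mem_span_singleton_self _) hy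
        exact (smul_eq_zero.1 this).resolve_right hx0)
      (by
        intro y
        refine ⟨-B x y / B x x, fun z hz => ?_⟩
        obtain ⟨c, rfl⟩ := Submodule.mem_span_singleton.1 hz
        change B (c • x) (y + (-B x y / B x x) • x) = 0
        rw [map_smul, LinearMap.smul_apply, map_add, map_smul, smul_eq_mul, smul_eq_mul,
          div_mul_cancel₀ _ hx, add_neg_cancel, mul_zero])
    have hb : (b : Fin (n + 1 + 1) → V) = Fin.cons x ((↑) ∘ v') := Basis.coe_mkFinCons _ _ _ _
    have hxv : ∀ j, B x (v' j) = 0 := fun j =>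
      (v' j).prop _ (Submodule.mem_span_singleton_self x)
    refine ⟨b, ?_, ?_, ?_⟩
    · intro i j
      rw [hb]
      refine Fin.cases ?_ (fun i => ?_) i <;> refine Fin.cases ?_ (fun j => ?_) j <;> intro hij <;>
        simp only [Fin.cons_zero, Fin.cons_succ, Function.comp_apply]
      · exact (hij rfl).elim
      · exact hxv j
      · rw [hS.eq]; exact hxv i
      · exact hv1 i j (fun h => hij (by rw [h]))
    · intro i
      rw [hb]
      refine Fin.cases ?_ (fun i => ?_) i
      · intro _
        simpa using hx1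
      · intro hi
        simp only [Fin.cons_succ, Function.comp_apply]
        apply hv2 i
        intro h
        apply hi
        rw [h, Fin.succ_last]
    · rw [hb, ← Fin.succ_last]
      simp only [Fin.cons_succ, Function.comp_apply]
      exact hv3

/-- Classification of symmetric bilinear forms over finite fields of odd characteristic: if B is non-degenerate symmetric on V of dimension n + 1 and α is a fixed non-square of F, there is an orthogonal basis b_0, ..., b_n with B(b_i, b_i) = 1 for i < n and B(b_n, b_n) ∈ {1, α}. -/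
theorem result {F V : Type*} [Field F] [Finite F] [AddCommGroup V] [Module F V] [FiniteDimensional F V] (h2 : (2 : F) ≠ 0) (B : LinearMap.BilinForm F V) (hS : B.IsSymm) (hB : B.Nondegenerate) {n : ℕ} (hn : Module.finrank F V = n + 1) (α : F) (hα : ¬ IsSquare α) : ∃ b : Module.Basis (Fin (n + 1)) F V, (∀ i j, i ≠ j → B (b i) (b j) = 0) ∧ (∀ i, i ≠ Fin.last n → B (b i) (b i) = 1) ∧ (B (b (Fin.last n)) (b (Fin.last n)) = 1 ∨ B (b (Fin.last n)) (b (Fin.last n)) = α) := by
  exact main h2 α hα n B hS hB hn

end Cfsg.Agent.S0756
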