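import Cfsg.Statements.S2904
import Cfsg.Agent.Helper57.ZsigBound

set_option autoImplicit false
open Cfsg

namespace Cfsg.Agent.S2904

open Cfsg.Agent.Helper57.Zsig

/-- `y^p - 1 > p (y + 1)` for `y ≥ 2`, `p ≥ 3`, `(p, y) ≠ (3, 2)`. -/
theorem pow_sub_one_gt {p y : ℕ} (hp : 3 ≤ p) (hy : 2 ≤ y) (hne : ¬ (p = 3 ∧ y = 2)) :
    p * (y + 1) < y ^ p - 1 := by
  have h2 : p - 1 ≤ 2 ^ (p - 2) := by
    have := Nat.lt_two_pow_self (n := p - 2)
    omega
  have hsplit : y ^ p = y ^ 2 * y ^ (p - 2) := by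
    rw [← pow_add]; congr 1; omega
  rcases Nat.lt_or_ge y 3 with hy3 | hy3
  · have hy2 : y = 2 := by omega
    subst hy2
    have hp5 : 4 ≤ p := by
      by_contra h
      exact hne ⟨by omega, rfl⟩
    obtain ⟨q, rfl⟩ : ∃ q, p = q + 4 := ⟨p - 4, by omega⟩
    have h3 : q < 2 ^ q := Nat.lt_two_pow_self
    have h4 : (2 : ℕ) ^ (q + 4) = 16 * 2 ^ q := by
      rw [pow_add]; ring
    omega
  · have h5 : 2 ^ (p - 2) ≤ y ^ (p - 2) := Nat.pow_le_pow_left hy _
    have h6 : y ^ 2 * (p - 1) ≤ y ^ p := by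
      rw [hsplit]
      exact Nat.mul_le_mul_left _ (le_trans h2 h5)
    have h7 : p * (y + 1) + 1 < y ^ 2 * (p - 1) := by
      obtain ⟨q, rfl⟩ : ∃ q, p = q + 3 := ⟨p - 3, by omega⟩
      obtain ⟨z, rfl⟩ : ∃ z, y = z + 3 := ⟨y - 3, by omega⟩
      have : q + 3 - 1 = q + 2 := by omega
      rw [this]
      have e : (z + 3) ^ 2 * (q + 2) = (q + 3) * (z + 3 + 1) + 1
          + (q * z * z + 5 * (q * z) + 5 * q + 2 * (z * z) + 9 * z + 5) := by ring
      omega
    omega

/-- An integer `≥ 2` all of whose prime factors equal `2` is a power of two. -/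
theorem exists_odd_prime_dvd {N : ℕ} (hN : 0 < N) (h : ¬ ∃ m : ℕ, N = 2 ^ m) :
    ∃ r : ℕ, r.Prime ∧ r ∣ N ∧ r ≠ 2 := by
  by_contra hcon
  push Not at hcon
  apply h
  exact ⟨_, Nat.eq_prime_pow_of_unique_prime_dvd hN.ne' fun {d} hd hdN => hcon d hd hdN⟩

/-- Zsigmondy for `n ≥ 3`: the primitive part is greater than `1`. -/
theorem one_lt_ppart {a n : ℕ} (ha : 2 ≤ a) (hn : 3 ≤ n) (h6 : ¬ (a = 2 ∧ n = 6)) :
    1 < ppart n a := by
  by_contra hle
  have hpp : ppart n a = 1 := by
    have := ppart_pos n ha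
    omega
  have hn0 : 0 < n := by omega
  have hcg : Nat.gcd (cyc n a) n = cyc n a := by
    have := gcd_mul_ppart n a
    rw [hpp, mul_one] at this
    exact this
  have hlow : (a - 1) ^ n.totient < cyc n a := sub_one_pow_lt_cyc (by omega) ha
  have h1 : 1 ≤ (a - 1) ^ n.totient := Nat.one_le_pow _ _ (by omega)
  rcases gcd_cyc_eq_one_or_prime hn ha with hg | ⟨hprime, hmax⟩
  · rw [hcg] at hg
    omega
  rw [hcg] at hprime hmax
  set p := cyc n a with hp
  have hpn : p ∣ n := hcg ▸ Nat.gcd_dvd_right (cyc n a) n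
  obtain ⟨k, m, hnm, hpm, hm0, hmp, -⟩ := exists_decomp_of_prime_dvd_cyc hprime hn0 ha dvd_rfl
  have hk : k ≠ 0 := by
    rintro rfl
    rw [pow_zero, one_mul] at hnm
    exact hpm (hnm ▸ hpn)
  obtain ⟨j, rfl⟩ := Nat.exists_eq_succ_of_ne_zero hk
  have hp2 := hprime.two_le
  rcases Nat.lt_or_ge a 3 with ha3 | ha3
  · -- `a = 2`
    have ha2 : a = 2 := by omega
    subst ha2
    rcases Nat.lt_or_ge p 3 with hp3 | hp3
    · -- `p = 2`
      have hp2' : p = 2 := by omega
      rw [hp2'] at hmp hnm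
      have hm1 : m = 1 := Nat.dvd_one.1 (by simpa using hmp)
      rw [hm1, mul_one] at hnm
      have hval := cyc_two_pow j (a := 2) le_rfl
      rw [← Nat.succ_eq_add_one, ← hnm, ← hp, hp2'] at hval
      have : 1 ≤ 2 ^ 2 ^ j := Nat.one_le_pow _ _ (by norm_num)
      have hj : j ≠ 0 := by
        rintro rfl
        rw [hnm] at hn
        norm_num at hn
      have : 2 ^ 1 ≤ 2 ^ 2 ^ j := Nat.pow_le_pow_right (by norm_num) (Nat.one_le_two_pow)
      omega
    · -- `p ≥ 3`
      have hbound := pow_le_cyc_mul_pow hprime hpm j (a := 2) le_rfl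
      rw [← Nat.succ_eq_add_one, ← hnm, ← hp] at hbound
      set y := 2 ^ p ^ j with hy
      have hy2 : 2 ≤ y := by
        rw [hy]
        calc 2 = 2 ^ 1 := by norm_num
          _ ≤ 2 ^ p ^ j := Nat.pow_le_pow_right (by norm_num) (Nat.one_le_pow _ _ hprime.pos)
      have ht : 0 < m.totient := Nat.totient_pos.2 hm0
      by_cases hex : p = 3 ∧ y = 2
      · -- `p = 3`, `y = 2`: `n = 3` or `n = 6`
        obtain ⟨hp3', hy2'⟩ := hex
        have hj0 : j = 0 := by
          by_contra hj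
          have h3 : 2 ≤ p ^ j := by
            calc 2 ≤ p := hp2
              _ = p ^ 1 := (pow_one p).symm
              _ ≤ p ^ j := Nat.pow_le_pow_right hprime.pos (by omega)
          have : 2 ^ 2 ≤ 2 ^ p ^ j := Nat.pow_le_pow_right (by norm_num) h3
          rw [← hy, hy2'] at this
          norm_num at this
        rw [hp3'] at hmp hnm
        have hm2 : m ∣ 2 := by simpa using hmp
        have hm12 : m = 1 ∨ m = 2 := by
          have := Nat.le_of_dvd (by norm_num) hm2
          interval_cases m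
          · left; rfl
          · right; rfl
        rcases hm12 with rfl | rfl
        · -- `n = 3`
          subst hj0
          have h3 := cyc_prime_mul_mul Nat.prime_three (m := 1) (by norm_num) (y := 2) le_rfl
          have hc1 : ∀ z : ℕ, 2 ≤ z → cyc 1 z = z - 1 := by
            intro z hz
            have : ((cyc 1 z : ℕ) : ℤ) = ((z - 1 : ℕ) : ℤ) := by
              rw [cyc_cast 1 hz, Polynomial.cyclotomic_one, Nat.cast_sub (by omega)]
              simp
            exact_mod_cast this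
          rw [hc1 2 le_rfl, hc1 (2 ^ 3) (by norm_num)] at h3
          norm_num at hnm
          rw [hnm] at hp
          norm_num at h3
          omega
        · -- `n = 6`
          subst hj0
          norm_num at hnm
          exact h6 ⟨rfl, hnm⟩
      · have hgt := pow_sub_one_gt hp3 hy2 hex
        have h3 : (p * (y + 1)) ^ m.totient < (y ^ p - 1) ^ m.totient :=
          Nat.pow_lt_pow_left hgt ht.ne'
        have h4 : p * (y + 1) ^ m.totient ≤ (p * (y + 1)) ^ m.totient := by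
          rw [mul_pow]
          exact Nat.mul_le_mul_right _ (Nat.le_self_pow ht.ne' p)
        omega
  · -- `a ≥ 3`
    have h2 : 2 ^ n.totient ≤ (a - 1) ^ n.totient := Nat.pow_le_pow_left (by omega) _
    have h3 : p - 1 ≤ n.totient := by
      have hd : p.totient ∣ n.totient := Nat.totient_dvd_of_dvd hpn
      rw [Nat.totient_prime hprime] at hd
      exact Nat.le_of_dvd (Nat.totient_pos.2 hn0) hd
    have h4 : 2 ^ (p - 1) ≤ 2 ^ n.totient := Nat.pow_le_pow_right (by norm_num) h3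
    have h5 : p - 1 < 2 ^ (p - 1) := Nat.lt_two_pow_self
    omega

/-- Zsigmondy's Theorem: for natural numbers a > 1 and n > 1 there is a prime dividing aⁿ − 1 that divides aᵏ − 1 for no natural number 0 < k < n, unless a = 2 and n = 6, or n = 2 and a + 1 is a power of two. -/
theorem result (a n : ℕ) (ha : 1 < a) (hn : 1 < n) (h6 : ¬ (a = 2 ∧ n = 6)) (h2 : ¬ (n = 2 ∧ ∃ m : ℕ, a + 1 = 2 ^ m)) : ∃ r : ℕ, r.Prime ∧ r ∣ a ^ n - 1 ∧ ∀ k : ℕ, 0 < k → k < n → ¬ r ∣ a ^ k - 1 := by
  rcases Nat.lt_or_ge n 3 with hn3 | hn3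
  · have hn2 : n = 2 := by omega
    subst hn2
    obtain ⟨r, hr, hrd, hr2⟩ := exists_odd_prime_dvd (N := a + 1) (by omega)
      (fun h => h2 ⟨rfl, h⟩)
    refine ⟨r, hr, ?_, ?_⟩
    · have : a ^ 2 - 1 = (a + 1) * (a - 1) := by
        obtain ⟨b, rfl⟩ : ∃ b, a = b + 1 := ⟨a - 1, by omega⟩
        have : (b + 1) ^ 2 - 1 = (b + 1 + 1) * b := by
          have : (b + 1) ^ 2 = (b + 1 + 1) * b + 1 := by ring
          omega
        simpa using this
      rw [this]
      exact Dvd.dvd.mul_right hrd _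
    · intro k hk0 hk2 hdvd
      have hk1 : k = 1 := by omega
      subst hk1
      rw [pow_one] at hdvd
      have h3 : r ∣ (a + 1) - (a - 1) := Nat.dvd_sub hrd hdvd
      have h4 : (a + 1) - (a - 1) = 2 := by omega
      rw [h4] at h3
      exact hr2 ((Nat.prime_dvd_prime_iff_eq hr Nat.prime_two).1 h3)
  · have hpp := one_lt_ppart (a := a) (n := n) ha hn3 h6
    have hne : ppart n a ≠ 1 := by omega
    have hs := Nat.minFac_prime hne
    have hsd := Nat.minFac_dvd (ppart n a)
    exact ⟨_, hs, hsd.trans (ppart_dvd_pow_sub_one (by omega) ha),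
      (primitive_of_prime_dvd_ppart hn3 ha hs hsd).2⟩

end Cfsg.Agent.S2904
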