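import Cfsg.Statements.S2569
import Cfsg.Agent.Helper43.Semisimple

set_option autoImplicit false
open Cfsg

namespace Cfsg.Agent.S2569

open Cfsg.Agent.Helper43

/-- In GL_n over a finite field of characteristic p, the conjugacy class of a semisimple element (an element of order prime to p) under the special linear group is its whole GL-conjugacy class: for every such x and every invertible g there is h of determinant one with h x h⁻¹ = g x g⁻¹. -/
theorem result {F : Type*} [Field F] [Fintype F] {p : ℕ} [Fact p.Prime] [CharP F p] {n : ℕ} (x g : GL (Fin n) F) (hx : (orderOf x).Coprime p) : ∃ h : GL (Fin n) F, (h : Matrix (Fin n) (Fin n) F).det = 1 ∧ h * x * h⁻¹ = g * x * g⁻¹ := by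
  rcases Nat.eq_zero_or_pos n with hn | hn
  · subst hn
    exact ⟨g, Matrix.det_isEmpty, rfl⟩
  haveI : Nonempty (Fin n) := ⟨⟨0, hn⟩⟩
  set X : Matrix (Fin n) (Fin n) F := (x : Matrix (Fin n) (Fin n) F) with hX
  set k := orderOf x with hk
  have hkF : (k : F) ≠ 0 := by
    intro h0
    rw [CharP.cast_eq_zero_iff F p k] at h0
    have hp : p.Prime := Fact.out
    have : p ∣ Nat.gcd k p := Nat.dvd_gcd h0 dvd_rfl
    rw [hx] at this
    exact hp.one_lt.ne' (Nat.dvd_one.mp this)
  have hpow : Matrix.toLin' X ^ k = 1 := by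
    rw [← Matrix.toLin'_pow]
    have : X ^ k = 1 := by
      have h1 : x ^ k = 1 := pow_orderOf_eq_one x
      have := congrArg (fun y : GL (Fin n) F => (y : Matrix (Fin n) (Fin n) F)) h1
      simpa using this
    rw [this, Matrix.toLin'_one]
    rfl
  have hdetg : (g : Matrix (Fin n) (Fin n) F).det ≠ 0 := by
    exact (Matrix.isUnit_iff_isUnit_det _).mp ⟨g, rfl⟩ |>.ne_zero
  obtain ⟨z, hzc, hzd⟩ := exists_commuting_det (Matrix.toLin' X) k hkF hpow
    ((g : Matrix (Fin n) (Fin n) F).det)⁻¹
  have hZdet : (LinearMap.toMatrix' z).det ≠ 0 := by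
    rw [LinearMap.det_toMatrix', hzd]
    exact inv_ne_zero hdetg
  let zGL : GL (Fin n) F := Matrix.GeneralLinearGroup.mkOfDetNeZero (LinearMap.toMatrix' z) hZdet
  have hzGL : (zGL : Matrix (Fin n) (Fin n) F) = LinearMap.toMatrix' z := rfl
  have hcomm : zGL * x = x * zGL := by
    apply Units.ext
    show LinearMap.toMatrix' z * X = X * LinearMap.toMatrix' z
    apply (Matrix.toLin' (R := F)).injective
    rw [Matrix.toLin'_mul, Matrix.toLin'_mul, Matrix.toLin'_toMatrix']
    exact hzc
  refine ⟨g * zGL, ?_, ?_⟩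
  · rw [Units.val_mul, Matrix.det_mul, hzGL, LinearMap.det_toMatrix', hzd, mul_inv_cancel₀ hdetg]
  · rw [mul_inv_rev, mul_assoc g, hcomm]
    group

end Cfsg.Agent.S2569
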