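import Cfsg.Statements.S0719
import Cfsg.Agent.Helper61.Rank3Main

set_option autoImplicit false
open Cfsg

namespace Cfsg.Agent.S0719

/-- Groups of Wielandt type: if a primitive group of degree `2m` has rank 3 and permutation character `1 + χ₁ + χ₂` with irreducible `χ₁, χ₂` of degrees `m - 1` and `m`, then `m = 2a² + 2a + 1` for some positive integer `a` and the two non-trivial subdegrees are `a(2a+1)` and `(a+1)(2a+1)`. -/
theorem result {G : Type*} [Group G] [Fintype G] {Ω : Type*} [Fintype Ω] [MulAction G Ω] (hprim : MulAction.IsPreprimitive G Ω) {m : ℕ} (hm : Fintype.card Ω = 2 * m) (a₀ : Ω) (hrank : Nat.card (MulAction.orbitRel.Quotient (MulAction.stabilizer G a₀) Ω) = 3) (χ₁ χ₂ : G → ℂ) (h₁ : Cfsg.IsIrrCharacter G χ₁) (h₂ : Cfsg.IsIrrCharacter G χ₂) (hπ : (fun g : G => (Nat.card (MulAction.fixedBy Ω g) : ℂ)) = fun g => 1 + χ₁ g + χ₂ g) (hd₁ : χ₁ 1 = (m : ℂ) - 1) (hd₂ : χ₂ 1 = m) : ∃ a : ℕ, 0 < a ∧ m = 2 * a ^ 2 + 2 * a + 1 ∧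 ∀ b : Ω, b ≠ a₀ → Nat.card (MulAction.orbit (MulAction.stabilizer G a₀) b) = a * (2 * a + 1) ∨ Nat.card (MulAction.orbit (MulAction.stabilizer G a₀) b) = (a + 1) * (2 * a + 1) := by
  classical
  have : MulAction.IsPretransitive G Ω := hprim.toIsPretransitive
  obtain ⟨b₁, b₂, h⟩ := Cfsg.Agent.Helper61.Orbital.exists_rank3Data (G := G) a₀ hrank
  obtain ⟨t, ht1, htm, hcases⟩ :=
    Cfsg.Agent.Helper61.Rank3.wielandt_rank3 χ₁ χ₂ h₁ h₂ hπ hd₁ hd₂ hm h
  refine ⟨t.toNat, by omega, ?_, ?_⟩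
  · have ht : ((t.toNat : ℕ) : ℤ) = t := Int.toNat_of_nonneg (by omega)
    have : (m : ℤ) = ((2 * t.toNat ^ 2 + 2 * t.toNat + 1 : ℕ) : ℤ) := by
      push_cast
      rw [ht]
      exact htm
    exact_mod_cast this
  · intro b hb
    have ht : ((t.toNat : ℕ) : ℤ) = t := Int.toNat_of_nonneg (by omega)
    have horb : ∀ c, b ∈ MulAction.orbit (MulAction.stabilizer G a₀) c →
        Nat.card (MulAction.orbit (MulAction.stabilizer G a₀) b)
          = Nat.card (MulAction.orbit (MulAction.stabilizer G a₀) c) := by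
      intro c hc
      rw [MulAction.orbit_eq_iff.mpr hc]
    have e1 : ∀ n : ℕ, (n : ℤ) = t * (2 * t + 1) → n = t.toNat * (2 * t.toNat + 1) := by
      intro n hn
      have : (n : ℤ) = ((t.toNat * (2 * t.toNat + 1) : ℕ) : ℤ) := by
        push_cast; rw [ht]; exact hn
      exact_mod_cast this
    have e2 : ∀ n : ℕ, (n : ℤ) = (t + 1) * (2 * t + 1) →
        n = (t.toNat + 1) * (2 * t.toNat + 1) := by
      intro n hn
      have : (n : ℤ) = (((t.toNat + 1) * (2 * t.toNat + 1) : ℕ) : ℤ) := by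
        push_cast; rw [ht]; exact hn
      exact_mod_cast this
    rcases h.hcover b hb with hb1 | hb2
    · rw [horb b₁ hb1]
      rcases hcases with ⟨hk, _⟩ | ⟨hk, _⟩
      · left; exact e1 _ hk
      · right; exact e2 _ hk
    · rw [horb b₂ hb2]
      rcases hcases with ⟨_, hl⟩ | ⟨_, hl⟩
      · right; exact e2 _ hl
      · left; exact e1 _ hl

end Cfsg.Agent.S0719
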