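import Cfsg.Statements.S0749

set_option autoImplicit false
open Cfsg

namespace Cfsg.Agent.S0749

variable {F V : Type*} [Field F] [AddCommGroup V] [Module F V] [FiniteDimensional F V]

theorem alt_swap (B : LinearMap.BilinForm F V) (hA : B.IsAlt) (x y : V) : B x y = - B y x :=
  (hA.neg_eq x y ▸ (neg_neg _).symm : B x y = - B y x)

theorem finrank_map_eq_of_injOn (X : Submodule F V) (f : V →ₗ[F] V)
    (hinj : ∀ x ∈ X, f x = 0 → x = 0) : Module.finrank F (X.map f) = Module.finrank F X := by
  have h1 : LinearMap.range (f.domRestrict X) = X.map f := LinearMap.range_domRestrict X f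
  rw [← h1]
  apply LinearMap.finrank_range_of_inj
  intro a b hab
  have : f ((a - b : X) : V) = 0 := by
    have h := hab
    simp only [LinearMap.domRestrict_apply] at h
    simp [map_sub, h]
  have := hinj _ (a - b).2 this
  exact Subtype.ext (sub_eq_zero.mp (by simpa using this))

theorem radical_transfer (B : LinearMap.BilinForm F V) (hB : B.Nondegenerate)
    (X : Submodule F V) (f : V →ₗ[F] V)
    (hiso : ∀ x ∈ X, ∀ x' ∈ X, B (f x) (f x') = B x x') (hinj : ∀ x ∈ X, f x = 0 → x = 0)
    (hY : B.orthogonal (X.map f) ≤ X.map f) : B.orthogonal X ≤ X := by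
  set R : Submodule F V := (B.orthogonal (X.map f)).comap f ⊓ X with hR
  have hR1 : R ≤ X ⊓ B.orthogonal X := by
    rintro x ⟨hx1, hx2⟩
    refine ⟨hx2, ?_⟩
    intro x' hx'
    change B x' x = 0
    rw [← hiso x' hx' x hx2]
    exact hx1 (f x') (Submodule.mem_map_of_mem hx')
  have hR2 : B.orthogonal (X.map f) ≤ R.map f := by
    intro z hz
    obtain ⟨x, hx, rfl⟩ := hY hz
    exact Submodule.mem_map_of_mem ⟨hz, hx⟩
  have h1 := Submodule.finrank_mono hR2
  have h2 : Module.finrank F (R.map f) ≤ Module.finrank F R := Submodule.finrank_map_le f R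
  have h3 := Submodule.finrank_mono hR1
  have h4 := LinearMap.BilinForm.finrank_orthogonal hB X
  have h5 := LinearMap.BilinForm.finrank_orthogonal hB (X.map f)
  have h6 := finrank_map_eq_of_injOn X f hinj
  have h7 : X ⊓ B.orthogonal X = B.orthogonal X :=
    Submodule.eq_of_le_of_finrank_le inf_le_right (by omega)
  rw [← h7]
  exact inf_le_left

theorem extend_step (B : LinearMap.BilinForm F V) (hB : B.Nondegenerate) (hA : B.IsAlt)
    (X : Submodule F V) (f : V →ₗ[F] V)
    (hiso : ∀ x ∈ X, ∀ x' ∈ X, B (f x) (f x') = B x x') (hinj : ∀ x ∈ X, f x = 0 → x = 0)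
    (hX : X ≠ ⊤) :
    ∃ (X' : Submodule F V) (f' : V →ₗ[F] V), X < X' ∧
      (∀ x ∈ X', ∀ x' ∈ X', B (f' x) (f' x') = B x x') ∧ (∀ x ∈ X', f' x = 0 → x = 0) ∧
      ∀ x ∈ X, f' x = f x := by
  have hrefl : B.IsRefl := hA.isRefl
  -- a vector outside `X`
  obtain ⟨v0, hv0⟩ : ∃ v, v ∉ X := by
    by_contra hcon
    push Not at hcon
    exact hX (eq_top_iff.mpr fun x _ => hcon x)
  -- the restriction of `f` to `X` is injective
  have hker : LinearMap.ker (f.domRestrict X) = ⊥ := by
    rw [LinearMap.ker_eq_bot]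
    intro a b hab
    have : f ((a - b : X) : V) = 0 := by
      have h := hab
      simp only [LinearMap.domRestrict_apply] at h
      simp [map_sub, h]
    have := hinj _ (a - b).2 this
    exact Subtype.ext (sub_eq_zero.mp (by simpa using this))
  obtain ⟨g, hg⟩ := (f.domRestrict X).exists_leftInverse_of_injective hker
  have hgf : ∀ x : X, g (f x) = x := fun x => by
    have := LinearMap.congr_fun hg x
    simpa using this
  -- a solution `w0` of the linear conditions
  obtain ⟨v, w, hv, hw1, hw2⟩ : ∃ v w : V, v ∉ X ∧ (∀ x ∈ X, B w (f x) = B v x) ∧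
      w ∉ X.map f := by
    set lam : Module.Dual F V := (B v0).comp (X.subtype.comp g) with hlam
    set w0 : V := (B.toDual hB).symm lam with hw0
    have hw0' : ∀ x ∈ X, B w0 (f x) = B v0 x := by
      intro x hx
      rw [hw0, LinearMap.BilinForm.apply_toDual_symm_apply, hlam]
      simp only [LinearMap.comp_apply, Submodule.subtype_apply]
      rw [hgf ⟨x, hx⟩]
    by_cases hw0Y : w0 ∈ X.map f
    · -- then use `v0 - x0` and a vector of `Y^⊥ \ Y`
      obtain ⟨x0, hx0, hfx0⟩ := hw0Y
      have hv1 : v0 - x0 ∉ X := fun h => hv0 (by simpa using X.add_mem h hx0)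
      have hv1o : v0 - x0 ∈ B.orthogonal X := by
        intro x hx
        change B x (v0 - x0) = 0
        apply hrefl
        rw [map_sub, LinearMap.sub_apply, ← hw0' x hx, ← hfx0, hiso x0 hx0 x hx, sub_self]
      have hnot : ¬ B.orthogonal (X.map f) ≤ X.map f := by
        intro hle
        exact hv1 (radical_transfer B hB X f hiso hinj hle hv1o)
      obtain ⟨z, hz1, hz2⟩ := Set.not_subset.mp hnot
      refine ⟨v0 - x0, z, hv1, ?_, hz2⟩
      intro x hx
      have h1 : B z (f x) = 0 := hrefl _ _ (hz1 (f x) (Submodule.mem_map_of_mem hx))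
      have h2 : B (v0 - x0) x = 0 := hrefl _ _ (hv1o x hx)
      rw [h1, h2]
    · exact ⟨v0, w0, hv0, hw0', hw0Y⟩
  -- extend `f` by `v ↦ w`
  obtain ⟨f', hf'1, hf'2⟩ := LinearMap.exists_extend_of_notMem (f.comp X.subtype) hv w
  have hf'X : ∀ x ∈ X, f' x = f x := fun x hx => by
    have := LinearMap.congr_fun hf'1 ⟨x, hx⟩
    simpa using this
  refine ⟨X ⊔ Submodule.span F {v}, f', ?_, ?_, ?_, hf'X⟩
  · refine lt_of_le_of_ne le_sup_left ?_
    intro h
    apply hv
    rw [h]
    exact Submodule.mem_sup_right (Submodule.mem_span_singleton_self v)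
  · intro a ha b hb
    obtain ⟨x, hx, z, hz, rfl⟩ := Submodule.mem_sup.mp ha
    obtain ⟨c, rfl⟩ := Submodule.mem_span_singleton.mp hz
    obtain ⟨x', hx', z', hz', rfl⟩ := Submodule.mem_sup.mp hb
    obtain ⟨c', rfl⟩ := Submodule.mem_span_singleton.mp hz'
    simp only [map_add, map_smul, LinearMap.add_apply, LinearMap.smul_apply, smul_eq_mul,
      hf'X x hx, hf'X x' hx', hf'2, hiso x hx x' hx', hw1 x' hx', hA w, hA v, mul_zero, add_zero]
    rw [alt_swap B hA (f x) w, hw1 x hx, alt_swap B hA x v]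
  · intro a ha h0
    obtain ⟨x, hx, z, hz, rfl⟩ := Submodule.mem_sup.mp ha
    obtain ⟨c, rfl⟩ := Submodule.mem_span_singleton.mp hz
    rw [map_add, map_smul, hf'X x hx, hf'2] at h0
    have hc : c = 0 := by
      by_contra hc
      apply hw2
      have : w = f (-(c⁻¹ • x)) := by
        rw [map_neg, map_smul]
        have h1 : c • w = - f x := eq_neg_of_add_eq_zero_right h0
        calc w = c⁻¹ • (c • w) := by rw [smul_smul, inv_mul_cancel₀ hc, one_smul]
          _ = -(c⁻¹ • f x) := by rw [h1, smul_neg]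
      rw [this]
      exact Submodule.mem_map_of_mem (X.neg_mem (X.smul_mem _ hx))
    rw [hc, zero_smul, add_zero] at h0 ⊢
    exact hinj x hx h0

theorem extend_all (B : LinearMap.BilinForm F V) (hB : B.Nondegenerate) (hA : B.IsAlt) :
    ∀ (k : ℕ) (X : Submodule F V) (f : V →ₗ[F] V),
      Module.finrank F V - Module.finrank F X = k →
      (∀ x ∈ X, ∀ x' ∈ X, B (f x) (f x') = B x x') → (∀ x ∈ X, f x = 0 → x = 0) →
      ∃ f' : V →ₗ[F] V, (∀ x x', B (f' x) (f' x') = B x x') ∧ (∀ x, f' x = 0 → x = 0) ∧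
        ∀ x ∈ X, f' x = f x := by
  intro k
  induction k using Nat.strong_induction_on with
  | _ k ih =>
    intro X f hk hiso hinj
    by_cases hX : X = ⊤
    · subst hX
      exact ⟨f, fun x x' => hiso x trivial x' trivial, fun x => hinj x trivial, fun _ _ => rfl⟩
    · obtain ⟨X', f', hlt, hiso', hinj', hext⟩ := extend_step B hB hA X f hiso hinj hX
      have h1 := Submodule.finrank_lt_finrank_of_lt hlt
      have h2 := Submodule.finrank_le X'
      obtain ⟨f'', h3, h4, h5⟩ := ih (Module.finrank F V - Module.finrank F X') (by omega) X' f' rfl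
        hiso' hinj'
      exact ⟨f'', h3, h4, fun x hx => (h5 x (hlt.le hx)).trans (hext x hx)⟩

/-- Witt's Lemma for alternating forms. If B is a non-degenerate alternating bilinear form on a finite-dimensional vector space V (over any field) and φ is a linear equivalence between subspaces X and Y of V preserving B, then φ extends to a B-preserving linear automorphism of V. -/
theorem result {F V : Type*} [Field F] [AddCommGroup V] [Module F V] [FiniteDimensional F V] (B : LinearMap.BilinForm F V) (hB : B.Nondegenerate) (hA : B.IsAlt) (X Y : Submodule F V) (φ : X ≃ₗ[F] Y) (hφ : ∀ x x' : X, B (φ x : V) (φ x' : V) = B (x : V) (x' : V)) : ∃ g : V ≃ₗ[F] V, (∀ u v : V, B (g u) (g v) = B u v) ∧ ∀ x : X, g (x : V) = (φ x : V) := by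
  obtain ⟨f, hf⟩ := LinearMap.exists_extend (Y.subtype.comp φ.toLinearMap)
  have hfX : ∀ x : X, f x = φ x := fun x => by
    have := LinearMap.congr_fun hf x
    simpa using this
  obtain ⟨f', h1, h2, h3⟩ := extend_all B hB hA _ X f rfl
    (fun x hx x' hx' => by
      have := hφ ⟨x, hx⟩ ⟨x', hx'⟩
      rw [← hfX ⟨x, hx⟩, ← hfX ⟨x', hx'⟩] at this
      exact this)
    (fun x hx h0 => by
      have h := hfX ⟨x, hx⟩
      rw [Subtype.coe_mk, h0] at h
      have : φ ⟨x, hx⟩ = 0 := Subtype.ext h.symm
      have := φ.map_eq_zero_iff.mp this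
      exact congrArg Subtype.val this)
  have hinj : Function.Injective f' := by
    rw [← LinearMap.ker_eq_bot, LinearMap.ker_eq_bot']
    exact h2
  refine ⟨LinearEquiv.ofInjectiveEndo f' hinj, ?_, ?_⟩
  · intro u v
    simpa using h1 u v
  · intro x
    rw [LinearEquiv.coe_ofInjectiveEndo, h3 x x.2, hfX]

end Cfsg.Agent.S0749
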