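import Cfsg.Statements.S2571
import Cfsg.Agent.Helper43.RegUnipCent

set_option autoImplicit false
open Cfsg

namespace Cfsg.Agent.S2571

open Cfsg.Agent.Helper43 Module

/-- A matrix `A` with `A^n = 0` and rank `n - 1` gives a regular nilpotent endomorphism. -/
theorem isRegNilp_toLin' {F : Type*} [Field F] {n : ℕ} (A : Matrix (Fin n) (Fin n) F)
    (hnil : A ^ n = 0) (hreg : A.rank = n - 1) : IsRegNilp (Matrix.toLin' A) where
  pow_eq_zero := by
    rw [Module.finrank_fin_fun, ← Matrix.toLin'_pow, hnil, map_zero]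
  ker_le_one := by
    have h := LinearMap.finrank_range_add_finrank_ker (Matrix.toLin' A)
    rw [Module.finrank_fin_fun] at h
    have h2 : finrank F (LinearMap.range (Matrix.toLin' A)) = n - 1 := by
      rw [← hreg, Matrix.rank, Matrix.toLin'_apply']
    omega

/-- Centraliser of a regular unipotent element in GL_n(q): if u is an invertible n × n matrix over the field with q elements, n ≥ 1, with (u − 1)^n = 0 and rank(u − 1) = n − 1 (a single unipotent Jordan block), then its centraliser in GL_n(q) has order (q − 1) q^(n−1). -/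
theorem result {F : Type*} [Field F] [Fintype F] {q n : ℕ} (hF : Fintype.card F = q) (hn : 1 ≤ n) (u : GL (Fin n) F) (hnil : ((u : Matrix (Fin n) (Fin n) F) - 1) ^ n = 0) (hreg : ((u : Matrix (Fin n) (Fin n) F) - 1).rank = n - 1) : Nat.card ↥(Subgroup.centralizer ({u} : Set (GL (Fin n) F))) = (q - 1) * q ^ (n - 1) := by
  subst hF
  set U : Matrix (Fin n) (Fin n) F := (u : Matrix (Fin n) (Fin n) F) with hU
  have hR := isRegNilp_toLin' (U - 1) hnil hreg
  have hfin : finrank F (Fin n → F) = n := Module.finrank_fin_fun F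
  have hcount := hR.card_units_commuting (by rw [hfin]; omega)
  rw [hfin] at hcount
  rw [← hcount]
  let φ : GL (Fin n) F ≃* (Module.End F (Fin n → F))ˣ :=
    Units.mapEquiv (Matrix.toLinAlgEquiv' : Matrix (Fin n) (Fin n) F ≃ₐ[F] _).toMulEquiv
  have hφ : ∀ g : GL (Fin n) F, ((φ g : (Module.End F (Fin n → F))ˣ) : Module.End F (Fin n → F))
      = Matrix.toLin' (g : Matrix (Fin n) (Fin n) F) := fun g => rfl
  apply Nat.card_congr
  refine Equiv.subtypeEquiv φ.toEquiv ?_
  intro g
  rw [Subgroup.mem_centralizer_iff]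
  simp only [Set.mem_singleton_iff, forall_eq]
  show u * g = g * u ↔ ((φ g : (Module.End F (Fin n → F))ˣ) : Module.End F (Fin n → F)) * Matrix.toLin' (U - 1)
    = Matrix.toLin' (U - 1) * ((φ g : (Module.End F (Fin n → F))ˣ) : Module.End F (Fin n → F))
  rw [hφ, Module.End.mul_eq_comp, Module.End.mul_eq_comp, ← Matrix.toLin'_mul, ← Matrix.toLin'_mul]
  rw [(Matrix.toLin' (R := F)).injective.eq_iff]
  rw [Matrix.mul_sub, Matrix.sub_mul, Matrix.mul_one, Matrix.one_mul, sub_left_inj]
  constructor
  · intro h
    have := congrArg (fun x : GL (Fin n) F => (x : Matrix (Fin n) (Fin n) F)) h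
    simpa using this.symm
  · intro h
    apply Units.ext
    simpa using h.symm

end Cfsg.Agent.S2571
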