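import Cfsg.Statements.S2578
import Cfsg.Agent.S2571
import Cfsg.Agent.Helper5.Card
import Cfsg.Agent.Helper43.ClassCount
import Cfsg.Agent.Helper43.RegNilpConj
import Cfsg.Agent.Helper43.RegNilpDet

set_option autoImplicit false
open Cfsg

namespace Cfsg.Agent.S2578

open Cfsg.Agent.Helper43 Module Matrix

section

variable {F : Type*} [Field F] {n : ℕ}

/-- The regular unipotent predicate on matrices. -/
def IsRegUnipMat (A : Matrix (Fin n) (Fin n) F) : Prop :=
  (A - 1) ^ n = 0 ∧ (A - 1).rank = n - 1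

theorem isRegUnipMat_conj (g : GL (Fin n) F) {A : Matrix (Fin n) (Fin n) F}
    (h : IsRegUnipMat A) :
    IsRegUnipMat ((g : Matrix (Fin n) (Fin n) F) * A * ((g⁻¹ : GL (Fin n) F) : Matrix (Fin n) (Fin n) F)) := by
  have e : (g : Matrix (Fin n) (Fin n) F) * A * ((g⁻¹ : GL (Fin n) F) : Matrix (Fin n) (Fin n) F) - 1
      = (g : Matrix (Fin n) (Fin n) F) * (A - 1) * ((g⁻¹ : GL (Fin n) F) : Matrix (Fin n) (Fin n) F) := by
    rw [mul_sub, sub_mul, mul_one, Units.mul_inv]
  have hdet : IsUnit (g : Matrix (Fin n) (Fin n) F).det := Matrix.isUnits_det_units g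
  have hdet' : IsUnit ((g⁻¹ : GL (Fin n) F) : Matrix (Fin n) (Fin n) F).det :=
    Matrix.isUnits_det_units g⁻¹
  constructor
  · rw [e, Units.conj_pow, h.1, mul_zero, zero_mul]
  · rw [e, Matrix.rank_mul_eq_left_of_isUnit_det _ _ hdet',
      Matrix.rank_mul_eq_right_of_isUnit_det _ _ hdet, h.2]

theorem isRegNilp_of_isRegUnipMat {A : Matrix (Fin n) (Fin n) F} (h : IsRegUnipMat A) :
    IsRegNilp (Matrix.toLin' (A - 1)) :=
  Cfsg.Agent.S2571.isRegNilp_toLin' (A - 1) h.1 h.2

/-- A regular unipotent matrix has determinant one. -/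
theorem det_eq_one_of_isRegUnipMat {A : Matrix (Fin n) (Fin n) F} (h : IsRegUnipMat A) :
    A.det = 1 := by
  have hR := isRegNilp_of_isRegUnipMat h
  have h1 := det_algebraMap_add_of_isNilpotent hR.isNilpotent (1 : F)
  rw [map_one, one_pow] at h1
  have h2 : (1 : Module.End F (Fin n → F)) + Matrix.toLin' (A - 1) = Matrix.toLin' A := by
    rw [map_sub, Matrix.toLin'_one]
    exact add_sub_cancel _ _
  rw [h2, LinearMap.det_toLin'] at h1
  exact h1

/-- Any two regular unipotent elements of `GL_n` are conjugate. -/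
theorem isConj_of_isRegUnipMat (u u' : GL (Fin n) F)
    (h : IsRegUnipMat (u : Matrix (Fin n) (Fin n) F))
    (h' : IsRegUnipMat (u' : Matrix (Fin n) (Fin n) F)) : IsConj u u' := by
  obtain ⟨e, he⟩ := (isRegNilp_of_isRegUnipMat h).exists_conj (isRegNilp_of_isRegUnipMat h')
  set E : Matrix (Fin n) (Fin n) F := LinearMap.toMatrix' (e : (Fin n → F) →ₗ[F] (Fin n → F)) with hE
  set E' : Matrix (Fin n) (Fin n) F :=
    LinearMap.toMatrix' (e.symm : (Fin n → F) →ₗ[F] (Fin n → F)) with hE'
  have h1 : E * E' = 1 := by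
    rw [hE, hE', ← LinearMap.toMatrix'_comp]
    rw [← LinearMap.toMatrix'_id]
    congr 1
    ext x : 1
    simp
  have h2 : E' * E = 1 := by
    rw [hE, hE', ← LinearMap.toMatrix'_comp]
    rw [← LinearMap.toMatrix'_id]
    congr 1
    ext x : 1
    simp
  let g : GL (Fin n) F := ⟨E, E', h1, h2⟩
  rw [isConj_iff]
  refine ⟨g, ?_⟩
  rw [mul_inv_eq_iff_eq_mul]
  apply Units.ext
  rw [Units.val_mul, Units.val_mul]
  show E * (u : Matrix (Fin n) (Fin n) F) = (u' : Matrix (Fin n) (Fin n) F) * E
  have h3 : E * ((u : Matrix (Fin n) (Fin n) F) - 1) = ((u' : Matrix (Fin n) (Fin n) F) - 1) * E := by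
    apply (Matrix.toLin' (R := F)).injective
    rw [Matrix.toLin'_mul, Matrix.toLin'_mul, hE, Matrix.toLin'_toMatrix']
    exact LinearMap.ext (fun x => he x)
  rw [mul_sub, sub_mul, mul_one, one_mul] at h3
  exact sub_left_injective h3

/-- There is a regular unipotent element in `GL_n`, `n ≥ 1`. -/
theorem exists_isRegUnipMat (hn : 1 ≤ n) :
    ∃ u : GL (Fin n) F, IsRegUnipMat (u : Matrix (Fin n) (Fin n) F) := by
  obtain ⟨m, rfl⟩ : ∃ m, n = m + 1 := ⟨n - 1, by omega⟩
  have hR := isRegNilp_shiftEnd F m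
  have hfin : finrank F (Fin (m + 1) → F) = m + 1 := Module.finrank_fin_fun F
  set J : Matrix (Fin (m + 1)) (Fin (m + 1)) F := LinearMap.toMatrix' (shiftEnd F m) with hJ
  have hJl : Matrix.toLin' J = shiftEnd F m := by rw [hJ, Matrix.toLin'_toMatrix']
  have hJpow : J ^ (m + 1) = 0 := by
    apply (Matrix.toLin' (R := F)).injective
    rw [Matrix.toLin'_pow, hJl, map_zero]
    have := hR.pow_eq_zero
    rwa [hfin] at this
  have hJrank : J.rank = m + 1 - 1 := by
    rw [Matrix.rank, ← Matrix.toLin'_apply', hJl, hR.range_eq_ker_pow_pred (by rw [hfin]; omega),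
      hR.finrank_ker_pow_pred (by rw [hfin]; omega), hfin]
  have hu : IsUnit (1 + J) := IsNilpotent.isUnit_one_add ⟨m + 1, hJpow⟩
  refine ⟨hu.unit, ?_⟩
  have : ((hu.unit : GL (Fin (m + 1)) F) : Matrix (Fin (m + 1)) (Fin (m + 1)) F) - 1 = J := by
    rw [IsUnit.unit_spec]
    exact add_sub_cancel_left _ _
  exact ⟨by rw [this]; exact hJpow, by rw [this]; exact hJrank⟩

end

section Count

variable {F : Type*} [Field F] [Fintype F] {n : ℕ}

theorem card_regUnip_GL (hn : 1 ≤ n) :
    Nat.card {u : GL (Fin n) F // IsRegUnipMat (u : Matrix (Fin n) (Fin n) F)}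
      * ((Fintype.card F - 1) * Fintype.card F ^ (n - 1)) = Nat.card (GL (Fin n) F) := by
  obtain ⟨u0, hu0⟩ := exists_isRegUnipMat (F := F) hn
  have hc := Cfsg.Agent.S2571.result (F := F) (q := Fintype.card F) (n := n) rfl hn u0 hu0.1 hu0.2
  rw [← hc, ← card_class_mul_card_centralizer u0]
  congr 1
  apply Nat.card_congr
  refine Equiv.subtypeEquivRight ?_
  intro x
  rw [ConjClasses.mk_eq_mk_iff_isConj]
  constructor
  · intro hx; exact isConj_of_isRegUnipMat x u0 hx hu0
  · intro hx
    rw [isConj_comm, isConj_iff] at hx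
    obtain ⟨c, rfl⟩ := hx
    have := isRegUnipMat_conj c hu0
    simpa [Units.val_mul] using this

theorem card_regUnip_SL :
    Nat.card {u : SpecialLinearGroup (Fin n) F // IsRegUnipMat (u : Matrix (Fin n) (Fin n) F)}
      = Nat.card {u : GL (Fin n) F // IsRegUnipMat (u : Matrix (Fin n) (Fin n) F)} := by
  apply Nat.card_congr
  exact
    { toFun := fun u => ⟨SpecialLinearGroup.toGL u.1, u.2⟩
      invFun := fun g => ⟨⟨(g.1 : Matrix (Fin n) (Fin n) F), det_eq_one_of_isRegUnipMat g.2⟩, g.2⟩
      left_inv := fun u => Subtype.ext (Subtype.ext rfl)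
      right_inv := fun g => Subtype.ext (Units.ext rfl) }

theorem card_centralizer_SL (hn : 1 ≤ n) (u : SpecialLinearGroup (Fin n) F)
    (hu : IsRegUnipMat (u : Matrix (Fin n) (Fin n) F)) :
    Nat.card (Subgroup.centralizer ({u} : Set (SpecialLinearGroup (Fin n) F)))
      = Nat.gcd n (Fintype.card F - 1) * Fintype.card F ^ (n - 1) := by
  set uG : GL (Fin n) F := SpecialLinearGroup.toGL u with huG
  set U : Matrix (Fin n) (Fin n) F := (u : Matrix (Fin n) (Fin n) F) with hU
  have hR := isRegNilp_of_isRegUnipMat hu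
  have hfin : finrank F (Fin n → F) = n := Module.finrank_fin_fun F
  have hpos : 0 < finrank F (Fin n → F) := by rw [hfin]; omega
  let C : Subgroup (GL (Fin n) F) := Subgroup.centralizer ({uG} : Set (GL (Fin n) F))
  let f : C →* Fˣ := GeneralLinearGroup.det.comp C.subtype
  have hcardC : Nat.card C = (Fintype.card F - 1) * Fintype.card F ^ (n - 1) :=
    Cfsg.Agent.S2571.result (F := F) (q := Fintype.card F) (n := n) rfl hn uG hu.1 hu.2
  have h1 : Nat.card f.ker * Nat.card f.range = Nat.card C := by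
    rw [← Subgroup.index_ker, Subgroup.card_mul_index]
  have hcommC : ∀ g : GL (Fin n) F, g ∈ C →
      (g : Matrix (Fin n) (Fin n) F) * (U - 1) = (U - 1) * (g : Matrix (Fin n) (Fin n) F) := by
    intro g hg
    have h := hg uG (Set.mem_singleton _)
    have h' := congrArg (fun x : GL (Fin n) F => (x : Matrix (Fin n) (Fin n) F)) h
    simp only [Units.val_mul] at h'
    rw [mul_sub, sub_mul, mul_one, one_mul]
    exact congrArg (fun M => M - (g : Matrix (Fin n) (Fin n) F)) h'.symm
  have hrange : f.range = (powMonoidHom n : Fˣ →* Fˣ).range := by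
    ext a
    constructor
    · rintro ⟨⟨g, hg⟩, rfl⟩
      have hcomm : Matrix.toLin' (g : Matrix (Fin n) (Fin n) F) * Matrix.toLin' (U - 1)
          = Matrix.toLin' (U - 1) * Matrix.toLin' (g : Matrix (Fin n) (Fin n) F) := by
        rw [Module.End.mul_eq_comp, Module.End.mul_eq_comp, ← Matrix.toLin'_mul,
          ← Matrix.toLin'_mul, hcommC g hg]
      obtain ⟨b, hb⟩ := hR.exists_det_eq_pow hpos hcomm
      rw [LinearMap.det_toLin', hfin] at hb
      have hb0 : b ≠ 0 := by
        rintro rfl
        rw [zero_pow (by omega)] at hb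
        exact (GeneralLinearGroup.det_ne_zero g) hb
      refine ⟨Units.mk0 b hb0, Units.ext ?_⟩
      simp [f, hb]
    · rintro ⟨b, rfl⟩
      refine ⟨⟨GeneralLinearGroup.scalar (Fin n) b, ?_⟩, ?_⟩
      · rw [Subgroup.mem_centralizer_iff]
        intro h _
        exact (GeneralLinearGroup.scalar_commute b h).symm
      · simp [f]
  have h2 : Nat.card (powMonoidHom n : Fˣ →* Fˣ).ker * Nat.card (powMonoidHom n : Fˣ →* Fˣ).range
      = Nat.card Fˣ := by
    rw [← Subgroup.index_ker, Subgroup.card_mul_index]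
  have h3 : Nat.card (powMonoidHom n : Fˣ →* Fˣ).ker = (Nat.card Fˣ).gcd n :=
    IsCyclic.card_powMonoidHom_ker Fˣ n
  have h4 : Nat.card Fˣ = Fintype.card F - 1 := by
    rw [Nat.card_units, Nat.card_eq_fintype_card]
  have hker : Nat.card f.ker
      = Nat.card (Subgroup.centralizer ({u} : Set (SpecialLinearGroup (Fin n) F))) := by
    symm
    apply Nat.card_congr
    refine Equiv.ofBijective
      (fun s => (⟨⟨SpecialLinearGroup.toGL s.1, ?_⟩, ?_⟩ : f.ker)) ⟨?_, ?_⟩
    · rw [Subgroup.mem_centralizer_iff]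
      intro h hh
      rw [Set.mem_singleton_iff] at hh
      subst hh
      have := s.2 u (Set.mem_singleton _)
      rw [huG, ← map_mul, ← map_mul, this]
    · rw [MonoidHom.mem_ker]
      apply Units.ext
      simp [f]
    · intro s s' hss
      have h5 := congrArg (fun x : f.ker => ((x : C) : GL (Fin n) F)) hss
      exact Subtype.ext (SpecialLinearGroup.toGL_injective h5)
    · rintro ⟨⟨g, hg⟩, hk⟩
      rw [MonoidHom.mem_ker] at hk
      have hdet : (g : Matrix (Fin n) (Fin n) F).det = 1 := by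
        have := congrArg Units.val hk
        simpa [f] using this
      set s0 : SpecialLinearGroup (Fin n) F := ⟨(g : Matrix (Fin n) (Fin n) F), hdet⟩ with hs0
      have hgeq : SpecialLinearGroup.toGL s0 = g := Units.ext rfl
      have hs0mem : s0 ∈ Subgroup.centralizer ({u} : Set (SpecialLinearGroup (Fin n) F)) := by
        rw [Subgroup.mem_centralizer_iff]
        intro h hh
        rw [Set.mem_singleton_iff] at hh
        subst hh
        apply SpecialLinearGroup.toGL_injective
        rw [map_mul, map_mul, hgeq]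
        exact hg uG (Set.mem_singleton _)
      refine ⟨⟨s0, hs0mem⟩, ?_⟩
      apply Subtype.ext
      apply Subtype.ext
      exact hgeq
  rw [← hker]
  rw [hrange] at h1
  rw [h3, h4] at h2
  rw [hcardC] at h1
  have hrpos : 0 < Nat.card (powMonoidHom n : Fˣ →* Fˣ).range := Nat.card_pos
  have h2' : Nat.gcd n (Fintype.card F - 1) * Nat.card (powMonoidHom n : Fˣ →* Fˣ).range
      = Fintype.card F - 1 := by
    rw [Nat.gcd_comm]; exact h2
  have : Nat.card f.ker * Nat.card (powMonoidHom n : Fˣ →* Fˣ).range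
      = (Nat.gcd n (Fintype.card F - 1) * Fintype.card F ^ (n - 1))
        * Nat.card (powMonoidHom n : Fˣ →* Fˣ).range := by
    calc Nat.card f.ker * Nat.card (powMonoidHom n : Fˣ →* Fˣ).range
        = (Fintype.card F - 1) * Fintype.card F ^ (n - 1) := h1
      _ = (Nat.gcd n (Fintype.card F - 1) * Nat.card (powMonoidHom n : Fˣ →* Fˣ).range)
            * Fintype.card F ^ (n - 1) := by rw [h2']
      _ = _ := by ring
  exact Nat.eq_of_mul_eq_mul_right hrpos this

end Count

/-- Regular unipotent classes of SL_n(q): for n ≥ 2 over the field with q elements, the matrices u of determinant one with (u − 1)^n = 0 and rank(u − 1) = n − 1 form a single GL_n(q)-class which splits into exactly gcd(n, q − 1) conjugacy classes of SL_n(q). -/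
theorem result {F : Type*} [Field F] [Fintype F] {q : ℕ} (hF : Fintype.card F = q) {n : ℕ} (hn : 2 ≤ n) : Nat.card {C : ConjClasses (Matrix.SpecialLinearGroup (Fin n) F) // ∃ u : Matrix.SpecialLinearGroup (Fin n) F, ConjClasses.mk u = C ∧ ((u : Matrix (Fin n) (Fin n) F) - 1) ^ n = 0 ∧ ((u : Matrix (Fin n) (Fin n) F) - 1).rank = n - 1} = Nat.gcd n (q - 1) := by
  subst hF
  have hn1 : 1 ≤ n := by omega
  have : Nonempty (Fin n) := ⟨⟨0, by omega⟩⟩
  have hq : 2 ≤ Fintype.card F := Fintype.one_lt_card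
  -- the counting lemma
  have hA := card_classes_mul_card (S := Matrix.SpecialLinearGroup (Fin n) F)
    (fun u => IsRegUnipMat (u : Matrix (Fin n) (Fin n) F))
    (by
      intro u g hu
      have := isRegUnipMat_conj (SpecialLinearGroup.toGL g) hu
      rw [← map_inv] at this
      exact this)
    (Nat.gcd n (Fintype.card F - 1) * Fintype.card F ^ (n - 1))
    (fun u hu => card_centralizer_SL hn1 u hu)
  have hC := card_regUnip_GL (F := F) hn1
  have hD := Cfsg.Agent.Helper5.card_GL_eq_card_SL_mul (n := Fin n) (F := F)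
  rw [card_regUnip_SL] at hA
  set X := Nat.card {C : ConjClasses (Matrix.SpecialLinearGroup (Fin n) F) //
    ∃ u : Matrix.SpecialLinearGroup (Fin n) F, ConjClasses.mk u = C ∧
      ((u : Matrix (Fin n) (Fin n) F) - 1) ^ n = 0 ∧
      ((u : Matrix (Fin n) (Fin n) F) - 1).rank = n - 1} with hX
  change X * Nat.card (Matrix.SpecialLinearGroup (Fin n) F) = _ at hA
  set R := Nat.card {u : GL (Fin n) F // IsRegUnipMat (u : Matrix (Fin n) (Fin n) F)} with hR
  set S := Nat.card (Matrix.SpecialLinearGroup (Fin n) F) with hS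
  set G := Nat.card (GL (Fin n) F) with hG
  set d := Nat.gcd n (Fintype.card F - 1) with hd
  set Q := Fintype.card F ^ (n - 1) with hQ
  have hSpos : 0 < S := Nat.card_pos
  have hq1 : 0 < Fintype.card F - 1 := by omega
  -- X * S * (q-1) = d * G = d * S * (q-1)
  have key : X * (S * (Fintype.card F - 1)) = d * (S * (Fintype.card F - 1)) := by
    calc X * (S * (Fintype.card F - 1)) = (X * S) * (Fintype.card F - 1) := by ring
      _ = (R * (d * Q)) * (Fintype.card F - 1) := by rw [hA]
      _ = d * (R * ((Fintype.card F - 1) * Q)) := by ring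
      _ = d * G := by rw [hC]
      _ = d * (S * (Fintype.card F - 1)) := by rw [hD]
  exact Nat.eq_of_mul_eq_mul_right (Nat.mul_pos hSpos hq1) key

end Cfsg.Agent.S2578
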