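import Cfsg.Statements.S2644
import Cfsg.Agent.Helper45.SUTransv

set_option autoImplicit false
open Cfsg

namespace Cfsg.Agent.S2644
open Cfsg.Agent.Helper45.GU

/-- In the special unitary group SU_n(q) with n ≥ 3 (isometries of Σ u_i v_i^q of determinant one over the field with q² elements), any two transvections (elements t with t − 1 of rank one and square zero) are conjugate. -/
theorem result {K : Type*} [Field K] [Fintype K] {q n : ℕ} (hK : Fintype.card K = q ^ 2) (hn : 3 ≤ n) (s t : ↥(Cfsg.SU n K q)) (hs : Cfsg.IsTransvection (((s : GL (Fin n) K) : Matrix (Fin n) (Fin n) K))) (ht : Cfsg.IsTransvection (((t : GL (Fin n) K) : Matrix (Fin n) (Fin n) K))) : IsConj s t := by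
  obtain ⟨bar, hbar⟩ := exists_bar hK
  have hne := bar_ne_id hK bar hbar
  have hinv : ∀ a, bar (bar a) = a := by
    intro a
    rw [hbar, hbar, ← pow_mul, ← sq, ← hK, FiniteField.pow_card]
  -- decompose both transvections
  have hsu := (mem_SU_iff n bar hbar s.1).1 s.2
  have htu := (mem_SU_iff n bar hbar t.1).1 t.2
  obtain ⟨v, c, hv0, hc0, hvv, hbc, hsm⟩ := tv_form bar hinv _ hsu hs.1 hs.2
  obtain ⟨v', c', hv0', hc0', hvv', hbc', htm⟩ := tv_form bar hinv _ htu ht.1 ht.2
  -- a standard isotropic vector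
  obtain ⟨θ, hθ⟩ := Cfsg.Agent.Helper13.exists_norm_eq bar hne hinv (a := -1)
    (by rw [map_neg, map_one]) (neg_ne_zero.mpr one_ne_zero)
  let i0 : Fin n := ⟨0, by omega⟩
  let i1 : Fin n := ⟨1, by omega⟩
  let i2 : Fin n := ⟨2, by omega⟩
  have h01 : i0 ≠ i1 := by simp [i0, i1, Fin.ext_iff]
  have h02 : i2 ≠ i0 := by simp [i0, i2, Fin.ext_iff]
  have h12 : i2 ≠ i1 := by simp [i1, i2, Fin.ext_iff]
  set v0 : Fin n → K := Pi.single i0 1 + θ • Pi.single i1 1 with hv0def
  have hv0k : v0 i2 = 0 := by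
    simp [hv0def, h02, h12]
  have hv0i0 : v0 i0 = 1 := by
    simp [hv0def, h01]
  have hv00 : v0 ≠ 0 := by
    intro h
    rw [h] at hv0i0
    simp at hv0i0
  have hv0v0 : herm bar v0 v0 = 0 := by
    rw [hv0def, herm_add_left, herm_smul_left, herm_single_left, herm_single_left]
    simp only [Pi.add_apply, Pi.smul_apply, Pi.single_apply, smul_eq_mul, if_true, h01, h01.symm,
      if_false, mul_zero, add_zero, mul_one, zero_add, map_one]
    rw [mul_comm]
    linear_combination hθ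
  -- norm adjustments: target scalar `c`
  obtain ⟨μ', hμ'⟩ := Cfsg.Agent.Helper13.exists_norm_eq bar hne hinv (a := c / c')
    (by rw [map_div₀, hbc, hbc', neg_div_neg_eq]) (div_ne_zero hc0 hc0')
  have hμ'0 : μ' ≠ 0 := by
    rintro rfl
    rw [mul_zero] at hμ'
    exact div_ne_zero hc0 hc0' hμ'.symm
  obtain ⟨g, hg⟩ := exists_conj_tv bar hbar hne hinv s v c hv0 hvv hsm v0 hv00 hv0v0 i2 hv0k 1
    one_ne_zero
  obtain ⟨g', hg'⟩ := exists_conj_tv bar hbar hne hinv t v' c' hv0' hvv' htm v0 hv00 hv0v0 i2 hv0k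
    μ' hμ'0
  have heq : g * s * g⁻¹ = g' * t * g'⁻¹ := by
    apply Subtype.ext
    apply Subtype.ext
    rw [hg, hg']
    congr 1
    rw [map_one, mul_one, mul_one, mul_assoc, mul_comm μ', hμ', mul_div_cancel₀ _ hc0']
  rw [isConj_iff]
  refine ⟨g'⁻¹ * g, ?_⟩
  have : t = g'⁻¹ * (g' * t * g'⁻¹) * g' := by group
  rw [this, ← heq]
  group

end Cfsg.Agent.S2644
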