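import Cfsg.Statements.S0781
import Cfsg.Agent.Helper45.SUTransv2
import Cfsg.Agent.S2644

set_option autoImplicit false
open Cfsg

namespace Cfsg.Agent.S0781
open Cfsg.Agent.Helper45.GU Matrix

/-- In SU_n(q) with n ≥ 4, or n = 3 and q > 2, every element whose matrix is a unitary transvection x ↦ x + c h(x, v) v (v isotropic) is a commutator ⁅B, C⁆ of two elements of SU_n(q). -/
theorem result {F : Type*} [Field F] [Fintype F] {q : ℕ} (hF : Fintype.card F = q ^ 2) (n : ℕ) (hn : 4 ≤ n ∨ (n = 3 ∧ 3 ≤ q)) (A : ↥(Cfsg.SU n F q)) (v : Fin n → F) (c : F) (hv0 : Cfsg.hermForm n F q v v = 0) (hA : ((A : Matrix.SpecialLinearGroup (Fin n) F) : Matrix (Fin n) (Fin n) F) = Cfsg.unitaryTransvection n q v c) : A ∈ commutatorSet ↥(Cfsg.SU n F q) := by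
  obtain ⟨bar, hbar⟩ := exists_bar hF
  have hne := bar_ne_id hF bar hbar
  have hinv : ∀ a, bar (bar a) = a := by
    intro a
    rw [hbar, hbar, ← pow_mul, ← sq, ← hF, FiniteField.pow_card]
  by_cases hA1 : A = 1
  · rw [hA1]
    exact ⟨1, 1, by simp⟩
  have hn3 : 3 ≤ n := by
    rcases hn with h | ⟨h, -⟩ <;> omega
  have hq2 : 2 ≤ q := by
    have := Fintype.one_lt_card (α := F)
    rw [hF] at this
    by_contra h
    push Not at h
    interval_cases q <;> simp at this
  have hmat : ((A : Matrix.SpecialLinearGroup (Fin n) F) : Matrix (Fin n) (Fin n) F)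
      = tvMat bar v c := by
    rw [hA, Cfsg.unitaryTransvection, tvMat]
    congr 3
    ext j
    exact (hbar (v j)).symm
  have hv : v ≠ 0 := by
    rintro rfl
    apply hA1
    apply SU_ext
    rw [hmat, tvMat]
    simp
  have hc : c ≠ 0 := by
    rintro rfl
    apply hA1
    apply SU_ext
    rw [hmat, tvMat_zero]
    rfl
  have hvv : herm bar v v = 0 := by
    rw [← hermForm_eq n bar hbar]
    exact hv0
  have hAtv : Cfsg.IsTransvection
      ((A : Matrix.SpecialLinearGroup (Fin n) F) : Matrix (Fin n) (Fin n) F) := by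
    rw [hmat]
    exact isTransvection_tvMat bar v c hv hc hvv
  obtain ⟨T, hTc, hTtv⟩ : ∃ T : Cfsg.SU n F q, T ∈ commutatorSet (Cfsg.SU n F q) ∧
      Cfsg.IsTransvection
        ((T : Matrix.SpecialLinearGroup (Fin n) F) : Matrix (Fin n) (Fin n) F) := by
    by_cases hq : 3 ≤ q
    · exact exists_tv_commutator_of_three_le bar hbar hF hne hinv hn3 hq
    · have hq' : q = 2 := by omega
      subst hq'
      have hn4 : 4 ≤ n := by
        rcases hn with h | ⟨-, h⟩
        · exact h
        · omega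
      exact exists_tv_commutator_of_two bar hbar hF hne hinv hn4
  have hconj := Cfsg.Agent.S2644.result hF hn3 T A hTtv hAtv
  rw [isConj_iff] at hconj
  obtain ⟨h, hh⟩ := hconj
  obtain ⟨a, b, hab⟩ := hTc
  refine ⟨h * a * h⁻¹, h * b * h⁻¹, ?_⟩
  rw [← conjugate_commutatorElement, hab, hh]

end Cfsg.Agent.S0781
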