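-- Statement S2429: the non-split torus of SL₂(q), q odd, and its normalizer.
import Cfsg.Statements.S2429
import Cfsg.Agent.Helper41.SL2Torus
import Cfsg.Agent.Helper42.SL2Torus
import Cfsg.Agent.Helper42.SL2OddCount

set_option autoImplicit false
open Cfsg

namespace Cfsg.Agent.S2429

open Matrix Cfsg.Agent.Helper41 Cfsg.Agent.Helper42

variable {F : Type*} [Field F]

local notation "SL2F" => Matrix.SpecialLinearGroup (Fin 2) F
local notation "M2F" => Matrix (Fin 2) (Fin 2) F


theorem isNonScalarMat_of_not_scalar (M : M2F) (h : ∀ r : F, M ≠ Matrix.scalar (Fin 2) r) :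
    IsNonScalarMat M := by
  rintro ⟨h01, h10, h00⟩
  apply h (M 0 0)
  ext i j
  fin_cases i <;> fin_cases j <;> simp [Matrix.scalar_apply, h01, h10, h00]

section Finite

variable [Fintype F] [DecidableEq F]

theorem exists_rootCount_eq_zero' : ∃ t : F, rootCount t = 0 := by
  by_contra h
  push Not at h
  have h1 : ∑ _t ∈ (Finset.univ : Finset F), 1 ≤ ∑ t ∈ (Finset.univ : Finset F), rootCount t := by
    apply Finset.sum_le_sum
    intro t _
    exact Nat.one_le_iff_ne_zero.mpr (h t)
  have h2 := sum_rootCount_le (F := F)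
  have hq : 1 < Fintype.card F := Fintype.one_lt_card
  simp only [Finset.sum_const, Finset.card_univ, smul_eq_mul, mul_one] at h1
  omega

theorem not_isSquare_of_rootCount_eq_zero (h2 : (2 : F) ≠ 0) (t : F) (ht : rootCount t = 0) :
    ¬ IsSquare (t ^ 2 - 4) := by
  rintro ⟨e, he⟩
  unfold rootCount at ht
  rw [Finset.card_eq_zero] at ht
  have : (-t + e) / 2 ∈ Finset.univ.filter (fun x : F => x ^ 2 + t * x + 1 = 0) := by
    rw [Finset.mem_filter]
    refine ⟨Finset.mem_univ _, ?_⟩
    field_simp
    linear_combination -he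
  rw [ht] at this
  exact absurd this (Finset.notMem_empty _)

theorem card_centralizer_of_rootCount_eq_zero (h2 : (2 : F) ≠ 0) (hodd : Fintype.card F % 2 = 1)
    (A : SL2F) (hr : rootCount (Matrix.trace (A : M2F)) = 0) :
    Nat.card (Subgroup.centralizer ({A} : Set SL2F)) = Fintype.card F + 1 := by
  have hns := not_isSquare_of_rootCount_eq_zero h2 _ hr
  have ht : (Matrix.trace (A : M2F)) ^ 2 ≠ 4 := by
    intro h
    apply hns
    rw [h, sub_self]
    exact ⟨0, by ring⟩
  have hA := isNonScalarMat_of_not_scalar _ (not_scalar_of_trace_sq_ne_four (A : M2F) A.det_coe ht)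
  rw [card_centralizer A hA]
  have h1 := card_normOne_add_rootCount_odd h2 hodd (Matrix.trace (A : M2F)) ht
  rw [hr, add_zero] at h1
  rw [← h1]
  show Nat.card {p : F × F // qform ((A : M2F).trace) p = 1} = _
  rw [Nat.card_eq_fintype_card, Fintype.card_subtype]

end Finite



/-- In a finite field of odd order the quotient of two non-squares is a square. -/
theorem isSquare_div_of_not_isSquare [Fintype F] (hodd : Fintype.card F % 2 = 1) (a b : F)
    (ha : ¬ IsSquare a) (hb : ¬ IsSquare b) : IsSquare (a / b) := by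
  have hchar : ringChar F ≠ 2 := by
    intro hc
    have := FiniteField.even_card_of_char_two hc
    omega
  have ha0 : a ≠ 0 := by
    rintro rfl
    exact ha ⟨0, by ring⟩
  have hb0 : b ≠ 0 := by
    rintro rfl
    exact hb ⟨0, by ring⟩
  have ha1 : a ^ (Fintype.card F / 2) = -1 := by
    rcases FiniteField.pow_dichotomy hchar ha0 with h | h
    · exact absurd ((FiniteField.isSquare_iff hchar ha0).mpr h) ha
    · exact h
  have hb1 : b ^ (Fintype.card F / 2) = -1 := by
    rcases FiniteField.pow_dichotomy hchar hb0 with h | h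
    · exact absurd ((FiniteField.isSquare_iff hchar hb0).mpr h) hb
    · exact h
  rw [FiniteField.isSquare_iff hchar (div_ne_zero ha0 hb0), div_pow, ha1, hb1]
  simp

/-- An element of `SL₂` with no eigenvector has non-square discriminant. -/
theorem not_isSquare_of_no_eigenvector (h2 : (2 : F) ≠ 0) (g : SL2F)
    (hg : ∀ (c : F) (v : Fin 2 → F), v ≠ 0 → (g : M2F).mulVec v ≠ c • v) :
    ¬ IsSquare ((Matrix.trace (g : M2F)) ^ 2 - 4) := by
  rintro ⟨e, he⟩
  set s := Matrix.trace (g : M2F) with hs
  have hdet : ((-((s + e) / 2)) • (1 : M2F) + (1 : F) • (g : M2F)).det = 0 := by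
    rw [det_add_smul_two, g.det_coe, ← hs]
    field_simp
    linear_combination -he
  obtain ⟨v, hv, hv0⟩ := Matrix.exists_mulVec_eq_zero_iff.mpr hdet
  apply hg ((s + e) / 2) v hv
  rw [Matrix.add_mulVec, Matrix.smul_mulVec, Matrix.smul_mulVec, Matrix.one_mulVec, one_smul] at hv0
  have : (g : M2F).mulVec v = -(-((s + e) / 2) • v) := by
    rw [eq_neg_iff_add_eq_zero, add_comm]
    exact hv0
  rw [this, neg_smul, neg_neg]



/-- Two elements of `SL₂(q)` with non-square discriminants: the second is conjugate into the torus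
of the first. -/
theorem exists_conj_mem_centralizer [Fintype F] (hodd : Fintype.card F % 2 = 1) (h2 : (2 : F) ≠ 0)
    (A g : SL2F) (hA : ¬ IsSquare ((Matrix.trace (A : M2F)) ^ 2 - 4))
    (hg : ¬ IsSquare ((Matrix.trace (g : M2F)) ^ 2 - 4)) :
    ∃ h : SL2F, h * g * h⁻¹ ∈ Subgroup.centralizer ({A} : Set SL2F) := by
  set t := Matrix.trace (A : M2F) with ht
  set s := Matrix.trace (g : M2F) with hs
  have ht4 : t ^ 2 - 4 ≠ 0 := by
    intro h
    apply hA
    rw [h]
    exact ⟨0, by ring⟩
  have hs4 : s ^ 2 ≠ 4 := by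
    intro h
    apply hg
    rw [h, sub_self]
    exact ⟨0, by ring⟩
  obtain ⟨y, hy⟩ := isSquare_div_of_not_isSquare hodd _ _ hg hA
  have hy' : y * y * (t ^ 2 - 4) = s ^ 2 - 4 := by
    rw [← hy]
    field_simp
  -- the element x + y A
  set x := (s - t * y) / 2 with hx
  have hYdet : (x • (1 : M2F) + y • (A : M2F)).det = 1 := by
    rw [det_add_smul_two, A.det_coe, ← ht, hx]
    field_simp
    linear_combination -hy'
  have hYtr : (x • (1 : M2F) + y • (A : M2F)).trace = s := by
    rw [trace_add_smul_two, ← ht, hx]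
    field_simp
    ring
  obtain ⟨Y, hY⟩ : ∃ Y : SL2F, (Y : M2F) = x • (1 : M2F) + y • (A : M2F) := ⟨⟨_, hYdet⟩, rfl⟩
  have hYT : Y ∈ Subgroup.centralizer ({A} : Set SL2F) := by
    rw [sl2_mem_centralizer_singleton_iff, hY]
    simp only [Matrix.mul_add, Matrix.add_mul, Matrix.mul_smul, Matrix.smul_mul, Matrix.mul_one,
      Matrix.one_mul]
  have hgns := not_scalar_of_trace_sq_ne_four (g : M2F) g.det_coe hs4
  have hYns := not_scalar_of_trace_sq_ne_four (Y : M2F) Y.det_coe (by rw [hY, hYtr]; exact hs4)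
  obtain ⟨S, hS, hSg⟩ := exists_sl2_conj_of_trace_eq (g : M2F) (Y : M2F) g.det_coe Y.det_coe
    (by rw [hY, hYtr]) hgns hYns (fun e _ => normForm_surjective_of_odd hodd h2 _ hs4 e)
  obtain ⟨w, hw⟩ : ∃ w : SL2F, (w : M2F) = S := ⟨⟨S, hS⟩, rfl⟩
  refine ⟨w, ?_⟩
  have : w * g * w⁻¹ = Y := by
    rw [mul_inv_eq_iff_eq_mul]
    apply Subtype.ext
    rw [Matrix.SpecialLinearGroup.coe_mul, Matrix.SpecialLinearGroup.coe_mul, hw]
    exact hSg
  rw [this]
  exact hYT


/-- Let F be a finite field with q elements, q odd. Then SL₂ over F contains a cyclic subgroup T′ of order q + 1 (a non-split torus) with the following properties: T′ is its own centraliser, and indeed the centraliser of each element of T′ other than 1 and −1 is exactly T′; every element of SL₂ having no eigenvector in F² is conjugate to an element of T′; the normaliser of T′ has order 2(q + 1) and exactly (q + 7)/2 conjugacy classes; and every element of that normaliser outside T′ has square −1. -/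
theorem result {F : Type*} [Field F] [Fintype F] (hodd : Odd (Fintype.card F)) :
    ∃ T' : Subgroup (Matrix.SpecialLinearGroup (Fin 2) F), IsCyclic T' ∧ Nat.card T' = Fintype.card F + 1 ∧
      Subgroup.centralizer ((T' : Set (Matrix.SpecialLinearGroup (Fin 2) F))) = T' ∧
      (∀ g : Matrix.SpecialLinearGroup (Fin 2) F, g ∈ T' → (g : Matrix (Fin 2) (Fin 2) F) ≠ 1 → (g : Matrix (Fin 2) (Fin 2) F) ≠ -1 → Subgroup.centralizer ({g} : Set (Matrix.SpecialLinearGroup (Fin 2) F)) = T') ∧
      (∀ g : Matrix.SpecialLinearGroup (Fin 2) F, (∀ (c : F) (v : Fin 2 → F), v ≠ 0 → (g : Matrix (Fin 2) (Fin 2) F).mulVec v ≠ c • v) → ∃ h : Matrix.SpecialLinearGroup (Fin 2) F, h * g * h⁻¹ ∈ T') ∧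
      Nat.card (Subgroup.normalizer (T' : Set (Matrix.SpecialLinearGroup (Fin 2) F))) = 2 * (Fintype.card F + 1) ∧
      Nat.card (ConjClasses (Subgroup.normalizer (T' : Set (Matrix.SpecialLinearGroup (Fin 2) F)))) = (Fintype.card F + 7) / 2 ∧
      ∀ g : Matrix.SpecialLinearGroup (Fin 2) F, g ∈ Subgroup.normalizer (T' : Set (Matrix.SpecialLinearGroup (Fin 2) F)) → g ∉ T' → ((g * g) : Matrix (Fin 2) (Fin 2) F) = -1 := by
  classical
  have hodd' : Fintype.card F % 2 = 1 := Nat.odd_iff.mp hodd
  have h2 : (2 : F) ≠ 0 := by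
    intro h
    have hchar : ringChar F = 2 := by
      have : ((2 : ℕ) : F) = 0 := by exact_mod_cast h
      have hdvd := (ringChar.spec F 2).mp this
      have hp := CharP.char_is_prime F (ringChar F)
      exact (Nat.prime_dvd_prime_iff_eq hp Nat.prime_two).mp hdvd
    have := FiniteField.even_card_of_char_two hchar
    omega
  obtain ⟨t, ht0⟩ := exists_rootCount_eq_zero' (F := F)
  obtain ⟨A, hAc⟩ : ∃ A : Matrix.SpecialLinearGroup (Fin 2) F,
      (A : Matrix (Fin 2) (Fin 2) F) = companion2 t := ⟨⟨_, companion2_det t⟩, rfl⟩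
  have htr : Matrix.trace (A : Matrix (Fin 2) (Fin 2) F) = t := by rw [hAc, companion2_trace]
  have hr : rootCount (Matrix.trace (A : Matrix (Fin 2) (Fin 2) F)) = 0 := by rw [htr]; exact ht0
  have hns := not_isSquare_of_rootCount_eq_zero h2 _ hr
  have ht : (Matrix.trace (A : Matrix (Fin 2) (Fin 2) F)) ^ 2 ≠ 4 := by
    intro h
    apply hns
    rw [h, sub_self]
    exact ⟨0, by ring⟩
  have hA := not_scalar_of_trace_sq_ne_four (A : Matrix (Fin 2) (Fin 2) F) A.det_coe ht
  obtain ⟨w, hw⟩ := sl2_exists_conj_eq_inv hodd' h2 A ht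
  have hcardT := card_centralizer_of_rootCount_eq_zero h2 hodd' A hr
  have hAmem : A ∈ Subgroup.centralizer ({A} : Set (Matrix.SpecialLinearGroup (Fin 2) F)) := by
    rw [Subgroup.mem_centralizer_singleton_iff]
  refine ⟨Subgroup.centralizer ({A} : Set (Matrix.SpecialLinearGroup (Fin 2) F)),
    isCyclic_centralizer A (isNonScalarMat_of_not_scalar _ hA) hr, hcardT, ?_, ?_, ?_, ?_, ?_, ?_⟩
  · ext g
    rw [Subgroup.mem_centralizer_iff]
    constructor
    · intro h
      rw [Subgroup.mem_centralizer_singleton_iff]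
      exact (h A hAmem).symm
    · intro hg x hx
      exact sl2_centralizer_comm A x g hA hx hg
  · intro g hg hg1 hg2
    apply sl2_centralizer_eq_of_mem A g hA hg
    intro r hr'
    have hdet := g.det_coe
    rw [hr', Matrix.det_fin_two] at hdet
    simp [Matrix.scalar_apply] at hdet
    have : (r - 1) * (r + 1) = 0 := by linear_combination hdet
    rcases mul_eq_zero.mp this with h | h
    · apply hg1
      have : r = 1 := by linear_combination h
      rw [hr', this]; simp
    · apply hg2
      have : r = -1 := by linear_combination h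
      rw [hr', this]
      ext i j
      fin_cases i <;> fin_cases j <;> simp [Matrix.scalar_apply]
  · intro g hg
    exact exists_conj_mem_centralizer hodd' h2 A g hns (not_isSquare_of_no_eigenvector h2 g hg)
  · rw [sl2_card_normalizer_centralizer h2 A w ht hw, hcardT]
  · have := sl2_card_conjClasses_normalizer_centralizer h2 A w ht hw
    rw [hcardT] at this
    omega
  · intro g hgN hgT
    rcases (sl2_mem_normalizer_centralizer_iff h2 A g ht).mp hgN with h | h
    · exact absurd h hgT
    · exact sl2_mul_self_eq_neg_one_of_conj_eq_inv h2 A g hA h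

end Cfsg.Agent.S2429
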