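import Cfsg.Statements.S2431
import Cfsg.Agent.Helper41.SL2Torus
import Cfsg.Agent.Helper37.SL2Sylow2
import Cfsg.Agent.Helper5.ProjLine

set_option autoImplicit false
open Cfsg

namespace Cfsg.Agent.S2431

open Matrix Cfsg.Agent.Helper41

section lib

variable {G : Type*} [Group G]

/-- A `p`-element normalizing a Sylow `p`-subgroup lies in it. -/
theorem mem_sylow_of_mem_normalizer_of_pow_eq_one (p : ℕ) [Fact p.Prime] (P : Sylow p G) (n : G)
    (hn : n ∈ Subgroup.normalizer ((P : Subgroup G) : Set G)) (k : ℕ) (hk : n ^ (p ^ k) = 1) :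
    n ∈ (P : Subgroup G) := by
  have hH : IsPGroup p (Subgroup.zpowers n) := by
    rintro ⟨x, hx⟩
    obtain ⟨j, rfl⟩ := Subgroup.mem_zpowers_iff.mp hx
    refine ⟨k, ?_⟩
    apply Subtype.ext
    simp only [Subgroup.coe_pow, Subgroup.coe_one]
    rw [← zpow_natCast, ← _root_.zpow_mul, mul_comm, _root_.zpow_mul, zpow_natCast, hk, _root_.one_zpow]
  have hle : Subgroup.zpowers n ≤ Subgroup.normalizer ((P : Subgroup G) : Set G) := by
    rw [Subgroup.zpowers_le]
    exact hn
  have hsup := IsPGroup.to_sup_of_normal_right' hH P.isPGroup' hle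
  have := P.is_maximal' hsup le_sup_right
  rw [← this]
  exact (le_sup_left : Subgroup.zpowers n ≤ _) (Subgroup.mem_zpowers n)

variable {F : Type*} [Field F]

local notation "SL2F" => Matrix.SpecialLinearGroup (Fin 2) F
local notation "M2F" => Matrix (Fin 2) (Fin 2) F

/-- A subgroup of `SL₂` containing two non-commuting elements has centralizer the centre. -/
theorem centralizer_eq_center_of_noncomm (S : Subgroup SL2F) (x y : SL2F) (hx : x ∈ S)
    (hy : y ∈ S) (hxy : x * y ≠ y * x) :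
    Subgroup.centralizer (S : Set SL2F) = Subgroup.center SL2F := by
  apply le_antisymm
  · intro g hg
    rw [Subgroup.mem_centralizer_iff] at hg
    have hxns : ∀ r : F, (x : M2F) ≠ Matrix.scalar (Fin 2) r := by
      intro r hr
      apply hxy
      have hdet := x.det_coe
      rw [hr, Matrix.det_fin_two] at hdet
      simp [Matrix.scalar_apply] at hdet
      have hc := sl2_mem_center_of_eq_scalar x r (by linear_combination hdet) hr
      exact (Subgroup.mem_center_iff.mp hc y).symm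
    have hgx : g ∈ Subgroup.centralizer ({x} : Set SL2F) := by
      rw [Subgroup.mem_centralizer_singleton_iff]
      exact (hg x hx).symm
    obtain ⟨α, β, hαβ⟩ := sl2_exists_of_mem_centralizer x g hxns hgx
    have hgy := congrArg (fun z : SL2F => (z : M2F)) (hg y hy)
    simp only [Matrix.SpecialLinearGroup.coe_mul, hαβ, Matrix.mul_add, Matrix.add_mul,
      Matrix.mul_smul, Matrix.smul_mul, Matrix.mul_one, Matrix.one_mul] at hgy
    have hβ : β = 0 := by
      by_contra hβ
      apply hxy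
      apply Subtype.ext
      rw [Matrix.SpecialLinearGroup.coe_mul, Matrix.SpecialLinearGroup.coe_mul]
      have h3 : β • ((y : M2F) * (x : M2F)) = β • ((x : M2F) * (y : M2F)) := add_left_cancel hgy
      have := congrArg (fun X => β⁻¹ • X) h3
      simp only [smul_smul, inv_mul_cancel₀ hβ, one_smul] at this
      exact this.symm
    rw [hβ, zero_smul, add_zero] at hαβ
    have hsc := sl2_scalar_of_smul_one g α hαβ
    have hdet := g.det_coe
    rw [hsc, Matrix.det_fin_two] at hdet
    simp [Matrix.scalar_apply] at hdet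
    exact sl2_mem_center_of_eq_scalar g α (by linear_combination hdet) hsc
  · exact Subgroup.center_le_centralizer _

/-- A `2`-element of order at least `8` in `SL₂(q)`, `q` odd, is regular semisimple. -/
theorem trace_sq_ne_four_of_two_pow_order [Fintype F] (hodd : Fintype.card F % 2 = 1) (g : SL2F)
    (j : ℕ) (hj : orderOf g = 2 ^ j) (hgo : 8 ≤ orderOf g) :
    (Matrix.trace (g : M2F)) ^ 2 ≠ 4 := by
  intro ht
  have hcp : CharP F (ringChar F) := ringChar.charP F
  have hpp : Fact (ringChar F).Prime := ⟨CharP.char_is_prime F (ringChar F)⟩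
  have hc := sl2_pow_char_mem_center (ringChar F) g ht
  have hsq := Cfsg.Agent.Helper37.SL2Q.sq_eq_one_of_mem_center _ hc
  rw [← pow_mul] at hsq
  have hd := orderOf_dvd_of_pow_eq_one hsq
  rw [hj] at hd hgo
  have hj3 : 3 ≤ j := by
    by_contra h
    push Not at h
    have : 2 ^ j ≤ 2 ^ 2 := Nat.pow_le_pow_right (by norm_num) (by omega)
    omega
  have h4 : 4 ∣ ringChar F * 2 := by
    refine Dvd.dvd.trans ?_ hd
    exact Dvd.dvd.trans (by norm_num : 4 ∣ 2 ^ 3) (pow_dvd_pow 2 hj3)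
  have h2p : 2 ∣ ringChar F := by omega
  have hp2 : ringChar F = 2 := ((Nat.prime_dvd_prime_iff_eq Nat.prime_two hpp.out).1 h2p).symm
  have := FiniteField.even_card_of_char_two hp2
  omega

theorem normalizer_eq_self_of_large [Fintype F] (h2 : (2 : F) ≠ 0) (hodd : Fintype.card F % 2 = 1)
    (S : Sylow 2 SL2F) (g s : SL2F) (hg : g ∈ (S : Subgroup SL2F)) (hs : s ∈ (S : Subgroup SL2F))
    (hgo : 8 ≤ orderOf g) (hsg : s * g ≠ g * s)
    (hS : ∀ y ∈ (S : Subgroup SL2F), orderOf y = orderOf g → y * g = g * y) :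
    Subgroup.normalizer ((S : Subgroup SL2F) : Set SL2F) = (S : Subgroup SL2F) := by
  have hfact : Fact (Nat.Prime 2) := ⟨Nat.prime_two⟩
  obtain ⟨j, hj⟩ : ∃ j, orderOf g = 2 ^ j := by
    have := (IsPGroup.iff_orderOf.mp S.isPGroup') ⟨g, hg⟩
    obtain ⟨k, hk⟩ := this
    exact ⟨k, by rw [← hk, Subgroup.orderOf_mk]⟩
  have ht := trace_sq_ne_four_of_two_pow_order hodd g j hj hgo
  have hA := not_scalar_of_trace_sq_ne_four (g : M2F) g.det_coe ht
  -- key1
  have key1 : ∀ n ∈ Subgroup.normalizer ((S : Subgroup SL2F) : Set SL2F),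
      n ∈ Subgroup.centralizer ({g} : Set SL2F) ∨ n * g * n⁻¹ = g⁻¹ := by
    intro n hn
    have hngS : n * g * n⁻¹ ∈ (S : Subgroup SL2F) := (Subgroup.mem_normalizer_iff.mp hn g).mp hg
    have hord : orderOf (n * g * n⁻¹) = orderOf g := by
      have : n * g * n⁻¹ = MulAut.conj n g := by simp [MulAut.conj_apply]
      rw [this, MulEquiv.orderOf_eq]
    have hcomm := hS _ hngS hord
    have hmem : n * g * n⁻¹ ∈ Subgroup.centralizer ({g} : Set SL2F) := by
      rw [Subgroup.mem_centralizer_singleton_iff]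
      exact hcomm
    have htr : (Matrix.trace ((n * g * n⁻¹ : SL2F) : M2F)) ^ 2 ≠ 4 := by
      rw [sl2_trace_conj]; exact ht
    have hns := not_scalar_of_trace_sq_ne_four _ (n * g * n⁻¹).det_coe htr
    have hCeq := sl2_centralizer_eq_of_mem g (n * g * n⁻¹) hA hmem hns
    apply (sl2_mem_normalizer_centralizer_iff h2 g n ht).mp
    rw [Subgroup.mem_normalizer_iff]
    intro h
    constructor
    · intro hh
      rw [Subgroup.mem_centralizer_singleton_iff] at hh
      rw [← hCeq, Subgroup.mem_centralizer_singleton_iff]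
      calc n * h * n⁻¹ * (n * g * n⁻¹) = n * (h * g) * n⁻¹ := by group
        _ = n * (g * h) * n⁻¹ := by rw [hh]
        _ = n * g * n⁻¹ * (n * h * n⁻¹) := by group
    · intro hh
      rw [← hCeq, Subgroup.mem_centralizer_singleton_iff] at hh
      rw [Subgroup.mem_centralizer_singleton_iff]
      have : n * (h * g) * n⁻¹ = n * (g * h) * n⁻¹ := by
        calc n * (h * g) * n⁻¹ = n * h * n⁻¹ * (n * g * n⁻¹) := by group
          _ = n * g * n⁻¹ * (n * h * n⁻¹) := hh
          _ = n * (g * h) * n⁻¹ := by group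
      exact mul_left_cancel (mul_right_cancel this)
  have hsN : s ∈ Subgroup.normalizer ((S : Subgroup SL2F) : Set SL2F) := Subgroup.le_normalizer hs
  have hsinv : s * g * s⁻¹ = g⁻¹ := by
    rcases key1 s hsN with h | h
    · exfalso
      rw [Subgroup.mem_centralizer_singleton_iff] at h
      exact hsg h
    · exact h
  -- key2
  have key2 : ∀ n ∈ Subgroup.normalizer ((S : Subgroup SL2F) : Set SL2F),
      n ∈ Subgroup.centralizer ({g} : Set SL2F) → n ∈ (S : Subgroup SL2F) := by
    intro n hn hnT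
    have h1 := sl2_conj_eq_inv_of_mem_centralizer g s n⁻¹ hA hsinv (Subgroup.inv_mem _ hnT)
    rw [inv_inv] at h1
    have h3 : n * s * n⁻¹ = n * n * s := by
      calc n * s * n⁻¹ = n * (s * n⁻¹ * s⁻¹) * s := by group
        _ = n * n * s := by rw [h1]
    have h4 : n * s * n⁻¹ ∈ (S : Subgroup SL2F) := (Subgroup.mem_normalizer_iff.mp hn s).mp hs
    have h5 : n * n ∈ (S : Subgroup SL2F) := by
      have := Subgroup.mul_mem _ h4 (Subgroup.inv_mem _ hs)
      rw [h3] at this
      simpa using this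
    obtain ⟨k, hk⟩ := S.isPGroup' ⟨n * n, h5⟩
    have hk' : (n * n) ^ (2 ^ k) = 1 := by
      have := congrArg Subtype.val hk
      simpa using this
    apply mem_sylow_of_mem_normalizer_of_pow_eq_one 2 S n hn (k + 1)
    rw [pow_succ', pow_mul, pow_two]
    exact hk'
  apply le_antisymm
  · intro n hn
    rcases key1 n hn with h | h
    · exact key2 n hn h
    · have hmem : s⁻¹ * n ∈ Subgroup.normalizer ((S : Subgroup SL2F) : Set SL2F) :=
        Subgroup.mul_mem _ (Subgroup.inv_mem _ hsN) hn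
      have hcen : s⁻¹ * n ∈ Subgroup.centralizer ({g} : Set SL2F) := by
        rw [sl2_mem_centralizer_iff_conj]
        calc s⁻¹ * n * g * (s⁻¹ * n)⁻¹ = s⁻¹ * (n * g * n⁻¹) * s := by group
          _ = s⁻¹ * g⁻¹ * s := by rw [h]
          _ = s⁻¹ * (s * g * s⁻¹) * s := by rw [hsinv]
          _ = g := by group
      have := key2 _ hmem hcen
      have h6 := Subgroup.mul_mem _ hs this
      rwa [mul_inv_cancel_left] at h6
  · exact Subgroup.le_normalizer

/-- Quaternion relations: from `I² = J² = -1`, `JI = -IJ`, all products of `I, J, K = IJ`. -/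
theorem quat_rules (I J K : M2F) (hII : I * I = -1) (hJJ : J * J = -1) (hIJ : I * J = K)
    (hJI : J * I = -K) :
    K * K = -1 ∧ J * K = I ∧ K * J = -I ∧ K * I = J ∧ I * K = -J := by
  refine ⟨?_, ?_, ?_, ?_, ?_⟩
  · rw [← hIJ]
    calc I * J * (I * J) = I * (J * I) * J := by simp only [Matrix.mul_assoc]
      _ = -1 := by rw [hJI, ← hIJ]; simp [Matrix.mul_assoc, hJJ, hII]
  · rw [← hIJ, ← Matrix.mul_assoc, hJI, ← hIJ]
    simp [Matrix.mul_assoc, hJJ]
  · rw [← hIJ, Matrix.mul_assoc, hJJ]; simp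
  · rw [← hIJ, Matrix.mul_assoc, hJI, ← hIJ, Matrix.mul_neg, ← Matrix.mul_assoc, hII]
    simp
  · rw [← hIJ, ← Matrix.mul_assoc, hII]; simp

/-- The Hurwitz unit: conjugation formulas (unnormalized). -/
theorem hurwitz_conj (I J K : M2F) (hII : I * I = -1) (hJJ : J * J = -1) (hIJ : I * J = K)
    (hJI : J * I = -K) :
    (1 + I + J + K) * (1 - I - J - K) = (4 : F) • (1 : M2F) ∧
    (1 + I + J + K) * I * (1 - I - J - K) = (4 : F) • J ∧
    (1 + I + J + K) * J * (1 - I - J - K) = (4 : F) • K ∧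
    (1 + I + J + K) * K * (1 - I - J - K) = (4 : F) • I := by
  obtain ⟨hKK, hJK, hKJ, hKI, hIK⟩ := quat_rules I J K hII hJJ hIJ hJI
  have h4 : ∀ X : M2F, (4 : F) • X = X + X + X + X := by
    intro X
    rw [show (4 : F) = 1 + 1 + 1 + 1 by norm_num]
    simp only [add_smul, one_smul]
  refine ⟨?_, ?_, ?_, ?_⟩
  · rw [h4]
    simp only [Matrix.mul_sub, Matrix.add_mul, Matrix.mul_one, Matrix.one_mul, hII, hJJ, hKK, hIJ,
      hJI, hJK, hKJ, hKI, hIK]
    abel
  · rw [h4]
    simp only [Matrix.mul_sub, Matrix.add_mul, Matrix.mul_one, Matrix.one_mul, hII, hJJ, hKK, hIJ,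
      hJI, hJK, hKJ, hKI, hIK, Matrix.neg_mul, Matrix.mul_neg]
    abel
  · rw [h4]
    simp only [Matrix.mul_sub, Matrix.add_mul, Matrix.mul_one, Matrix.one_mul, hII, hJJ, hKK, hIJ,
      hJI, hJK, hKJ, hKI, hIK, Matrix.neg_mul, Matrix.mul_neg]
    abel
  · rw [h4]
    simp only [Matrix.mul_sub, Matrix.add_mul, Matrix.mul_one, Matrix.one_mul, hII, hJJ, hKK, hIJ,
      hJI, hJK, hKJ, hKI, hIK, Matrix.neg_mul, Matrix.mul_neg]
    abel

/-- Cayley–Hamilton for `2 × 2` matrices. -/
theorem mul_trace_sub_self (W : M2F) : W * (W.trace • (1 : M2F) - W) = W.det • (1 : M2F) := by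
  rw [Matrix.trace_fin_two, Matrix.det_fin_two]
  ext i j
  fin_cases i <;> fin_cases j <;> simp [Matrix.mul_apply, Fin.sum_univ_two] <;> ring

/-- An element of `SL₂` with square `-1` has trace zero. -/
theorem trace_eq_zero_of_mul_self (X : SL2F) (h : (X : M2F) * (X : M2F) = -1) :
    Matrix.trace (X : M2F) = 0 := by
  have hch := sl2_cayley_hamilton X
  rw [h] at hch
  have h1 : (Matrix.trace (X : M2F)) • (X : M2F) = 0 := by
    have : (Matrix.trace (X : M2F)) • (X : M2F) = (-1 : M2F) + 1 := by rw [hch]; abel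
    rw [this]; simp
  have h3 := congrArg Matrix.det h1
  rw [Matrix.det_smul, X.det_coe, Matrix.det_zero] at h3
  simpa using h3

theorem exists_hurwitz (h2 : (2 : F) ≠ 0) (I J : SL2F) (hII : (I : M2F) * (I : M2F) = -1)
    (hJJ : (J : M2F) * (J : M2F) = -1) (hJI : (J : M2F) * (I : M2F) = -((I : M2F) * (J : M2F))) :
    ∃ ω : SL2F, ω * I * ω⁻¹ = J ∧ ω * J * ω⁻¹ = I * J ∧ ω * (I * J) * ω⁻¹ = I := by
  obtain ⟨hKK, hJK, hKJ, hKI, hIK⟩ := quat_rules (I : M2F) (J : M2F) ((I : M2F) * (J : M2F))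
    hII hJJ rfl hJI
  obtain ⟨e1, eI, eJ, eK⟩ := hurwitz_conj (I : M2F) (J : M2F) ((I : M2F) * (J : M2F)) hII hJJ rfl hJI
  have hKK' : ((I * J : SL2F) : M2F) * ((I * J : SL2F) : M2F) = -1 := by
    rw [Matrix.SpecialLinearGroup.coe_mul]; exact hKK
  have htI := trace_eq_zero_of_mul_self I hII
  have htJ := trace_eq_zero_of_mul_self J hJJ
  have htK := trace_eq_zero_of_mul_self (I * J) hKK'
  rw [Matrix.SpecialLinearGroup.coe_mul] at htK
  set U : M2F := 1 + (I : M2F) + (J : M2F) + (I : M2F) * (J : M2F) with hU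
  set U' : M2F := 1 - (I : M2F) - (J : M2F) - (I : M2F) * (J : M2F) with hU'
  have h4 : (2⁻¹ * 2⁻¹ : F) * 4 = 1 := by
    have : (4 : F) = 2 * 2 := by norm_num
    rw [this]; field_simp
  have hWW' : ((2⁻¹ : F) • U) * ((2⁻¹ : F) • U') = 1 := by
    rw [Matrix.smul_mul, Matrix.mul_smul, e1, smul_smul, smul_smul, h4, one_smul]
  have htrW : ((2⁻¹ : F) • U).trace = 1 := by
    rw [Matrix.trace_smul, hU, Matrix.trace_add, Matrix.trace_add, Matrix.trace_add, htI, htJ, htK,
      Matrix.trace_fin_two (1 : M2F)]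
    simp
    field_simp
    norm_num
  have hW' : ((2⁻¹ : F) • U).trace • (1 : M2F) - (2⁻¹ : F) • U = (2⁻¹ : F) • U' := by
    rw [htrW, hU, hU']
    have : (1 : M2F) = (2⁻¹ : F) • ((2 : F) • (1 : M2F)) := by
      rw [smul_smul, inv_mul_cancel₀ h2, one_smul]
    nth_rewrite 1 [one_smul, this]
    rw [← smul_sub]
    congr 1
    rw [two_smul]
    abel
  have hdet : ((2⁻¹ : F) • U).det = 1 := by
    have := mul_trace_sub_self ((2⁻¹ : F) • U)
    rw [hW', hWW'] at this
    have h00 := congr_fun (congr_fun this 0) 0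
    simpa using h00.symm
  obtain ⟨ω, hω⟩ : ∃ ω : SL2F, (ω : M2F) = (2⁻¹ : F) • U := ⟨⟨_, hdet⟩, rfl⟩
  have hωinv : ((ω⁻¹ : SL2F) : M2F) = (2⁻¹ : F) • U' := by
    rw [sl2_coe_inv_eq, hω, hW']
  have conj : ∀ X Y : SL2F, U * (X : M2F) * U' = (4 : F) • (Y : M2F) → ω * X * ω⁻¹ = Y := by
    intro X Y h
    apply Subtype.ext
    rw [Matrix.SpecialLinearGroup.coe_mul, Matrix.SpecialLinearGroup.coe_mul, hω, hωinv,
      Matrix.smul_mul, Matrix.smul_mul, Matrix.mul_smul, h, smul_smul, smul_smul, h4, one_smul]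
  refine ⟨ω, conj I J eI, conj J (I * J) ?_, conj (I * J) I ?_⟩
  · rw [Matrix.SpecialLinearGroup.coe_mul]; exact eJ
  · rw [Matrix.SpecialLinearGroup.coe_mul]; exact eK

/-- An element of `SL₂` commuting with two non-commuting elements is central. -/
theorem mem_center_of_commute_noncomm (x y g : SL2F) (hxy : x * y ≠ y * x)
    (hgx : g * x = x * g) (hgy : g * y = y * g) : g ∈ Subgroup.center SL2F := by
  have hxns : ∀ r : F, (x : M2F) ≠ Matrix.scalar (Fin 2) r := by
    intro r hr
    apply hxy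
    have hdet := x.det_coe
    rw [hr, Matrix.det_fin_two] at hdet
    simp [Matrix.scalar_apply] at hdet
    have hc := sl2_mem_center_of_eq_scalar x r (by linear_combination hdet) hr
    exact (Subgroup.mem_center_iff.mp hc y).symm
  have hgx' : g ∈ Subgroup.centralizer ({x} : Set SL2F) := by
    rw [Subgroup.mem_centralizer_singleton_iff]
    exact hgx
  obtain ⟨α, β, hαβ⟩ := sl2_exists_of_mem_centralizer x g hxns hgx'
  have hgy' := congrArg (fun z : SL2F => (z : M2F)) hgy
  simp only [Matrix.SpecialLinearGroup.coe_mul, hαβ, Matrix.mul_add, Matrix.add_mul,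
    Matrix.mul_smul, Matrix.smul_mul, Matrix.mul_one, Matrix.one_mul] at hgy'
  have hβ : β = 0 := by
    by_contra hβ
    apply hxy
    apply Subtype.ext
    rw [Matrix.SpecialLinearGroup.coe_mul, Matrix.SpecialLinearGroup.coe_mul]
    have h3 : β • ((x : M2F) * (y : M2F)) = β • ((y : M2F) * (x : M2F)) := add_left_cancel hgy'
    have := congrArg (fun X => β⁻¹ • X) h3
    simp only [smul_smul, inv_mul_cancel₀ hβ, one_smul] at this
    exact this
  rw [hβ, zero_smul, add_zero] at hαβ
  have hsc := sl2_scalar_of_smul_one g α hαβ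
  have hdet := g.det_coe
  rw [hsc, Matrix.det_fin_two] at hdet
  simp [Matrix.scalar_apply] at hdet
  exact sl2_mem_center_of_eq_scalar g α (by linear_combination hdet) hsc

/-- `±X ∈ S` for `X ∈ S`, when `-1 = I² ∈ S`. -/
theorem mem_of_coe_eq_smul (S : Subgroup SL2F) (I : SL2F) (hI : I ∈ S)
    (hII : (I : M2F) * (I : M2F) = -1) (X y : SL2F) (hX : X ∈ S) (ε : F) (hε : ε = 1 ∨ ε = -1)
    (hy : (y : M2F) = ε • (X : M2F)) : y ∈ S := by
  rcases hε with rfl | rfl
  · have : y = X := by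
      apply Subtype.ext
      rw [hy, one_smul]
    rw [this]; exact hX
  · have : y = I * I * X := by
      apply Subtype.ext
      rw [hy, Matrix.SpecialLinearGroup.coe_mul, Matrix.SpecialLinearGroup.coe_mul, hII]
      simp
    rw [this]
    exact S.mul_mem (S.mul_mem hI hI) hX

theorem noncomm_of_anticomm (h2 : (2 : F) ≠ 0) (I J : SL2F)
    (hJI : (J : M2F) * (I : M2F) = -((I : M2F) * (J : M2F))) : I * J ≠ J * I := by
  intro h
  have h1 := congrArg (fun z : SL2F => (z : M2F)) h
  simp only [Matrix.SpecialLinearGroup.coe_mul] at h1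
  rw [hJI] at h1
  have h3 : (2 : F) • ((I : M2F) * (J : M2F)) = 0 := by
    rw [two_smul]
    nth_rewrite 2 [h1]
    simp
  have h4 := congrArg Matrix.det h3
  rw [Matrix.det_smul, Matrix.det_mul, I.det_coe, J.det_coe, Matrix.det_zero] at h4
  simp at h4
  exact h2 h4

/-- Claim A. -/
theorem claimA (h2 : (2 : F) ≠ 0) (S : Subgroup SL2F) (I J : SL2F) (hI : I ∈ S) (hJ : J ∈ S)
    (hII : (I : M2F) * (I : M2F) = -1)
    (hJI : (J : M2F) * (I : M2F) = -((I : M2F) * (J : M2F)))
    (n : SL2F) (ε δ : F) (hε : ε = 1 ∨ ε = -1) (hδ : δ = 1 ∨ δ = -1)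
    (hnI : (n : M2F) * (I : M2F) = ε • ((I : M2F) * (n : M2F)))
    (hnJ : (n : M2F) * (J : M2F) = δ • ((J : M2F) * (n : M2F))) : n ∈ S := by
  have hnc := noncomm_of_anticomm h2 I J hJI
  -- A0
  have A0 : ∀ m : SL2F, (m : M2F) * (I : M2F) = (I : M2F) * (m : M2F) →
      (m : M2F) * (J : M2F) = (J : M2F) * (m : M2F) → m ∈ S := by
    intro m hmI hmJ
    have hc := mem_center_of_commute_noncomm I J m hnc
      (by apply Subtype.ext; simpa using hmI) (by apply Subtype.ext; simpa using hmJ)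
    rw [sl2_mem_center_iff] at hc
    obtain ⟨r, hr, hm⟩ := hc
    have hr' : r = 1 ∨ r = -1 := by
      have : (r - 1) * (r + 1) = 0 := by linear_combination hr
      rcases mul_eq_zero.mp this with h | h
      · left; linear_combination h
      · right; linear_combination h
    apply mem_of_coe_eq_smul S I hI hII 1 m S.one_mem r hr'
    rw [hm, Matrix.SpecialLinearGroup.coe_one]
    ext i j
    fin_cases i <;> fin_cases j <;> simp [Matrix.scalar_apply]
  -- A1
  have A1 : ∀ m : SL2F, (m : M2F) * (I : M2F) = (I : M2F) * (m : M2F) → ∀ δ' : F,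
      (δ' = 1 ∨ δ' = -1) → (m : M2F) * (J : M2F) = δ' • ((J : M2F) * (m : M2F)) → m ∈ S := by
    intro m hmI δ' hδ' hmJ
    rcases hδ' with rfl | rfl
    · rw [one_smul] at hmJ
      exact A0 m hmI hmJ
    · have : I * m ∈ S := by
        apply A0
        · rw [Matrix.SpecialLinearGroup.coe_mul, Matrix.mul_assoc, hmI]
        · rw [Matrix.SpecialLinearGroup.coe_mul]
          calc (I : M2F) * (m : M2F) * (J : M2F) = (I : M2F) * ((m : M2F) * (J : M2F)) := by
                rw [Matrix.mul_assoc]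
            _ = -((I : M2F) * (J : M2F)) * (m : M2F) := by
                rw [hmJ]; simp [Matrix.mul_assoc]
            _ = (J : M2F) * ((I : M2F) * (m : M2F)) := by
                rw [← hJI, Matrix.mul_assoc]
      have h3 := S.mul_mem (S.inv_mem hI) this
      rwa [inv_mul_cancel_left] at h3
  rcases hε with rfl | rfl
  · rw [one_smul] at hnI
    exact A1 n hnI δ hδ hnJ
  · have : J * n ∈ S := by
      apply A1 _ _ δ hδ
      · rw [Matrix.SpecialLinearGroup.coe_mul, Matrix.mul_assoc, hnJ]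
        simp [Matrix.mul_assoc]
      · rw [Matrix.SpecialLinearGroup.coe_mul]
        calc (J : M2F) * (n : M2F) * (I : M2F) = (J : M2F) * ((n : M2F) * (I : M2F)) := by
              rw [Matrix.mul_assoc]
          _ = -((J : M2F) * (I : M2F)) * (n : M2F) := by
              rw [hnI]; simp [Matrix.mul_assoc]
          _ = (I : M2F) * ((J : M2F) * (n : M2F)) := by
              rw [hJI, neg_neg, Matrix.mul_assoc]
    have h3 := S.mul_mem (S.inv_mem hJ) this
    rwa [inv_mul_cancel_left] at h3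

theorem sl2_inv_mul_coe (n : SL2F) : ((n⁻¹ : SL2F) : M2F) * (n : M2F) = 1 := by
  rw [← Matrix.SpecialLinearGroup.coe_mul, inv_mul_cancel, Matrix.SpecialLinearGroup.coe_one]

theorem sl2_mul_left_cancel (n : SL2F) (X Y : M2F) (h : (n : M2F) * X = (n : M2F) * Y) : X = Y := by
  have h1 : ((n⁻¹ : SL2F) : M2F) * ((n : M2F) * X) = ((n⁻¹ : SL2F) : M2F) * ((n : M2F) * Y) := by
    rw [h]
  rwa [← Matrix.mul_assoc, ← Matrix.mul_assoc, sl2_inv_mul_coe, Matrix.one_mul,
    Matrix.one_mul] at h1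

/-- Claim B. -/
theorem claimB (h2 : (2 : F) ≠ 0) (S : Sylow 2 SL2F) (I J : SL2F)
    (hI : I ∈ (S : Subgroup SL2F)) (hJ : J ∈ (S : Subgroup SL2F))
    (hII : (I : M2F) * (I : M2F) = -1) (hJJ : (J : M2F) * (J : M2F) = -1)
    (hJI : (J : M2F) * (I : M2F) = -((I : M2F) * (J : M2F)))
    (hS : ∀ y ∈ (S : Subgroup SL2F), ∃ η : F, (η = 1 ∨ η = -1) ∧
      ((y : M2F) = η • (1 : M2F) ∨ (y : M2F) = η • (I : M2F) ∨ (y : M2F) = η • (J : M2F) ∨
        (y : M2F) = η • ((I : M2F) * (J : M2F))))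
    (n : SL2F) (hn : n ∈ Subgroup.normalizer ((S : Subgroup SL2F) : Set SL2F))
    (ε : F) (hε : ε = 1 ∨ ε = -1)
    (hnI : (n : M2F) * (I : M2F) = ε • ((I : M2F) * (n : M2F))) : n ∈ (S : Subgroup SL2F) := by
  have hfact : Fact (Nat.Prime 2) := ⟨Nat.prime_two⟩
  have hεε : ε * ε = 1 := by rcases hε with rfl | rfl <;> ring
  have hyS : n * J * n⁻¹ ∈ (S : Subgroup SL2F) := (Subgroup.mem_normalizer_iff.mp hn J).mp hJ
  have hyn : ((n * J * n⁻¹ : SL2F) : M2F) * (n : M2F) = (n : M2F) * (J : M2F) := by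
    have : n * J * n⁻¹ * n = n * J := by group
    have h3 := congrArg (fun z : SL2F => (z : M2F)) this
    simpa only [Matrix.SpecialLinearGroup.coe_mul] using h3
  obtain ⟨η, hη, hy⟩ := hS _ hyS
  have hηη : η * η = 1 := by rcases hη with rfl | rfl <;> ring
  rcases hy with h | h | h | h
  · -- impossible: J = ±1
    exfalso
    rw [h, Matrix.smul_mul, Matrix.one_mul] at hyn
    have h3 : (J : M2F) = η • (1 : M2F) := by
      apply sl2_mul_left_cancel n
      rw [← hyn, Matrix.mul_smul, Matrix.mul_one]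
    rw [h3, Matrix.smul_mul, Matrix.mul_smul, Matrix.mul_one, smul_smul, hηη, one_smul] at hJJ
    have h00 := congr_fun (congr_fun hJJ 0) 0
    simp at h00
    apply h2
    linear_combination h00
  · -- impossible: I, J would commute
    exfalso
    rw [h, Matrix.smul_mul] at hyn
    apply noncomm_of_anticomm h2 I J hJI
    apply Subtype.ext
    rw [Matrix.SpecialLinearGroup.coe_mul, Matrix.SpecialLinearGroup.coe_mul]
    apply sl2_mul_left_cancel n
    have e1 : ((n : M2F) * (I : M2F)) * (J : M2F) =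
        (ε * η) • ((I : M2F) * ((I : M2F) * (n : M2F))) := by
      rw [hnI, Matrix.smul_mul, Matrix.mul_assoc (I : M2F) (n : M2F) (J : M2F), ← hyn,
        Matrix.mul_smul, smul_smul]
    have e2 : ((n : M2F) * (J : M2F)) * (I : M2F) =
        (ε * η) • ((I : M2F) * ((I : M2F) * (n : M2F))) := by
      rw [← hyn, Matrix.smul_mul, Matrix.mul_assoc (I : M2F) (n : M2F) (I : M2F), hnI,
        Matrix.mul_smul, smul_smul, mul_comm]
    rw [← Matrix.mul_assoc, ← Matrix.mul_assoc, e1, e2]
  · -- Claim A applies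
    rw [h, Matrix.smul_mul] at hyn
    exact claimA h2 _ I J hI hJ hII hJI n ε η hε hη hnI hyn.symm
  · -- n² satisfies Claim A
    rw [h, Matrix.smul_mul] at hyn
    have hnJ : (n : M2F) * (J : M2F) = η • ((I : M2F) * (J : M2F) * (n : M2F)) := hyn.symm
    have hnn : n * n ∈ (S : Subgroup SL2F) := by
      apply claimA h2 _ I J hI hJ hII hJI (n * n) 1 (-ε) (Or.inl rfl)
      · rcases hε with rfl | rfl
        · right; rfl
        · left; ring
      · rw [one_smul, Matrix.SpecialLinearGroup.coe_mul]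
        calc (n : M2F) * (n : M2F) * (I : M2F) = (n : M2F) * ((n : M2F) * (I : M2F)) := by
              rw [Matrix.mul_assoc]
          _ = ε • (((n : M2F) * (I : M2F)) * (n : M2F)) := by
              rw [hnI, Matrix.mul_smul, ← Matrix.mul_assoc, hnI]
          _ = (ε * ε) • ((I : M2F) * ((n : M2F) * (n : M2F))) := by
              rw [hnI, Matrix.smul_mul, smul_smul, Matrix.mul_assoc]
          _ = (I : M2F) * ((n : M2F) * (n : M2F)) := by rw [hεε, one_smul]
      · rw [Matrix.SpecialLinearGroup.coe_mul]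
        calc (n : M2F) * (n : M2F) * (J : M2F) = (n : M2F) * ((n : M2F) * (J : M2F)) := by
              rw [Matrix.mul_assoc]
          _ = η • (((n : M2F) * (I : M2F)) * ((J : M2F) * (n : M2F))) := by
              rw [hnJ, Matrix.mul_smul]
              simp only [Matrix.mul_assoc]
          _ = (η * ε) • ((I : M2F) * (((n : M2F) * (J : M2F)) * (n : M2F))) := by
              rw [hnI, Matrix.smul_mul, smul_smul]
              simp only [Matrix.mul_assoc]
          _ = (η * ε * η) • (((I : M2F) * (I : M2F)) * ((J : M2F) * ((n : M2F) * (n : M2F)))) := by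
              rw [hnJ, Matrix.smul_mul, Matrix.mul_smul, smul_smul]
              simp only [Matrix.mul_assoc]
          _ = (-ε) • ((J : M2F) * ((n : M2F) * (n : M2F))) := by
              rw [hII, mul_comm (η * ε) η, ← mul_assoc, hηη, one_mul]
              simp
    obtain ⟨k, hk⟩ := S.isPGroup' ⟨n * n, hnn⟩
    have hk' : (n * n) ^ (2 ^ k) = 1 := by
      have := congrArg Subtype.val hk
      simpa using this
    apply mem_sylow_of_mem_normalizer_of_pow_eq_one 2 S n hn (k + 1)
    rw [pow_succ', pow_mul, pow_two]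
    exact hk'

/-- The normalizer of a quaternion Sylow `2`-subgroup of order `8`. -/
theorem card_normalizer_q8 [Finite F] (h2 : (2 : F) ≠ 0) (S : Sylow 2 SL2F) (I J : SL2F)
    (hI : I ∈ (S : Subgroup SL2F)) (hJ : J ∈ (S : Subgroup SL2F))
    (hII : (I : M2F) * (I : M2F) = -1) (hJJ : (J : M2F) * (J : M2F) = -1)
    (hJI : (J : M2F) * (I : M2F) = -((I : M2F) * (J : M2F)))
    (hS : ∀ y ∈ (S : Subgroup SL2F), ∃ η : F, (η = 1 ∨ η = -1) ∧
      ((y : M2F) = η • (1 : M2F) ∨ (y : M2F) = η • (I : M2F) ∨ (y : M2F) = η • (J : M2F) ∨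
        (y : M2F) = η • ((I : M2F) * (J : M2F)))) :
    Nat.card (Subgroup.normalizer ((S : Subgroup SL2F) : Set SL2F)) =
      3 * Nat.card (S : Subgroup SL2F) := by
  have hfin : Finite SL2F := by
    have : Fintype F := Fintype.ofFinite F
    classical
    infer_instance
  obtain ⟨hKK, hJK, hKJ, hKI, hIK⟩ := quat_rules (I : M2F) (J : M2F) ((I : M2F) * (J : M2F))
    hII hJJ rfl hJI
  have hK : I * J ∈ (S : Subgroup SL2F) := Subgroup.mul_mem _ hI hJ
  obtain ⟨ω, hωI, hωJ, hωK⟩ := exists_hurwitz h2 I J hII hJJ hJI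
  -- matrix forms of the conjugation relations
  have cI : (ω : M2F) * (I : M2F) = (J : M2F) * (ω : M2F) := by
    have : ω * I = J * ω := by rw [← hωI]; group
    simpa only [Matrix.SpecialLinearGroup.coe_mul] using congrArg (fun z : SL2F => (z : M2F)) this
  have cI' : (I : M2F) * ((ω⁻¹ : SL2F) : M2F) = ((ω⁻¹ : SL2F) : M2F) * (J : M2F) := by
    have : I * ω⁻¹ = ω⁻¹ * J := by rw [← hωI]; group
    simpa only [Matrix.SpecialLinearGroup.coe_mul] using congrArg (fun z : SL2F => (z : M2F)) this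
  have cJ' : (J : M2F) * ((ω⁻¹ : SL2F) : M2F) =
      ((ω⁻¹ : SL2F) : M2F) * ((I : M2F) * (J : M2F)) := by
    have : J * ω⁻¹ = ω⁻¹ * (I * J) := by rw [← hωJ]; group
    simpa only [Matrix.SpecialLinearGroup.coe_mul] using congrArg (fun z : SL2F => (z : M2F)) this
  -- every element of S commutes or anticommutes with I
  have hSI : ∀ y ∈ (S : Subgroup SL2F), ∃ ε : F, (ε = 1 ∨ ε = -1) ∧
      (y : M2F) * (I : M2F) = ε • ((I : M2F) * (y : M2F)) := by
    intro y hy
    obtain ⟨η, hη, h⟩ := hS y hy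
    rcases h with h | h | h | h
    · exact ⟨1, Or.inl rfl, by rw [h]; simp⟩
    · exact ⟨1, Or.inl rfl, by rw [h]; simp⟩
    · refine ⟨-1, Or.inr rfl, ?_⟩
      rw [h, Matrix.smul_mul, hJI, Matrix.mul_smul]
      simp
    · refine ⟨-1, Or.inr rfl, ?_⟩
      rw [h, Matrix.smul_mul, hKI, Matrix.mul_smul, hIK]
      simp
  -- J ≠ ± I, K ≠ ± I (as they do not commute with I)
  have hω_notin : ∀ m : SL2F, (∃ Y : SL2F, (Y = J ∨ Y = I * J) ∧ m * I = Y * m) →
      m ∉ (S : Subgroup SL2F) := by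
    rintro m ⟨Y, hY, hmI⟩ hm
    obtain ⟨ε, hε, hmε⟩ := hSI m hm
    have h3 := congrArg (fun z : SL2F => (z : M2F)) hmI
    simp only [Matrix.SpecialLinearGroup.coe_mul] at h3
    -- Y m = ε I m, so Y = ε I
    have hYI : (Y : M2F) = ε • (I : M2F) := by
      have h4 : (Y : M2F) * (m : M2F) = (ε • (I : M2F)) * (m : M2F) := by
        rw [← h3, hmε, Matrix.smul_mul]
      have h5 := congrArg (fun Z => Z * ((m⁻¹ : SL2F) : M2F)) h4
      simp only [Matrix.mul_assoc] at h5
      rw [← Matrix.SpecialLinearGroup.coe_mul, mul_inv_cancel, Matrix.SpecialLinearGroup.coe_one,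
        Matrix.mul_one, Matrix.mul_one] at h5
      exact h5
    -- then Y commutes with I, contradiction
    have hcomm : (Y : M2F) * (I : M2F) = (I : M2F) * (Y : M2F) := by
      rw [hYI]; simp
    rcases hY with hY | hY
    · rw [hY, hJI] at hcomm
      apply noncomm_of_anticomm h2 I J hJI
      apply Subtype.ext
      rw [Matrix.SpecialLinearGroup.coe_mul, Matrix.SpecialLinearGroup.coe_mul, hJI]
      exact hcomm.symm
    · rw [hY, Matrix.SpecialLinearGroup.coe_mul, hKI, hIK] at hcomm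
      have h00 : (2 : F) • (J : M2F) = 0 := by
        rw [two_smul]
        nth_rewrite 1 [hcomm]
        simp
      have h4 := congrArg Matrix.det h00
      rw [Matrix.det_smul, J.det_coe, Matrix.det_zero] at h4
      simp at h4
      exact h2 h4
  -- matrix forms
  have m1 : (ω : M2F) * ((ω⁻¹ : SL2F) : M2F) = 1 := by
    rw [← Matrix.SpecialLinearGroup.coe_mul, mul_inv_cancel, Matrix.SpecialLinearGroup.coe_one]
  have mI : (ω : M2F) * (I : M2F) * ((ω⁻¹ : SL2F) : M2F) = (J : M2F) := by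
    simpa only [Matrix.SpecialLinearGroup.coe_mul] using congrArg (fun z : SL2F => (z : M2F)) hωI
  have mJ : (ω : M2F) * (J : M2F) * ((ω⁻¹ : SL2F) : M2F) = (I : M2F) * (J : M2F) := by
    simpa only [Matrix.SpecialLinearGroup.coe_mul] using congrArg (fun z : SL2F => (z : M2F)) hωJ
  have mK : (ω : M2F) * ((I : M2F) * (J : M2F)) * ((ω⁻¹ : SL2F) : M2F) = (I : M2F) := by
    simpa only [Matrix.SpecialLinearGroup.coe_mul] using congrArg (fun z : SL2F => (z : M2F)) hωK
  -- ω normalizes S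
  have hωN : ω ∈ Subgroup.normalizer ((S : Subgroup SL2F) : Set SL2F) := by
    apply Subgroup.mem_normalizer_fintype
    intro y hy
    obtain ⟨η, hη, h⟩ := hS y hy
    rcases h with h | h | h | h
    · apply mem_of_coe_eq_smul _ I hI hII 1 _ (Subgroup.one_mem _) η hη
      rw [Matrix.SpecialLinearGroup.coe_mul, Matrix.SpecialLinearGroup.coe_mul, h,
        Matrix.mul_smul, Matrix.smul_mul, Matrix.mul_one, m1, Matrix.SpecialLinearGroup.coe_one]
    · apply mem_of_coe_eq_smul _ I hI hII J _ hJ η hη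
      rw [Matrix.SpecialLinearGroup.coe_mul, Matrix.SpecialLinearGroup.coe_mul, h,
        Matrix.mul_smul, Matrix.smul_mul, mI]
    · apply mem_of_coe_eq_smul _ I hI hII (I * J) _ hK η hη
      rw [Matrix.SpecialLinearGroup.coe_mul, Matrix.SpecialLinearGroup.coe_mul, h,
        Matrix.mul_smul, Matrix.smul_mul, mJ, Matrix.SpecialLinearGroup.coe_mul]
    · apply mem_of_coe_eq_smul _ I hI hII I _ hI η hη
      rw [Matrix.SpecialLinearGroup.coe_mul, Matrix.SpecialLinearGroup.coe_mul, h,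
        Matrix.mul_smul, Matrix.smul_mul, mK]
  have hω1 : ω ∉ (S : Subgroup SL2F) := by
    apply hω_notin
    refine ⟨J, Or.inl rfl, ?_⟩
    rw [← hωI]; group
  have hω2 : ω * ω ∉ (S : Subgroup SL2F) := by
    apply hω_notin
    refine ⟨I * J, Or.inr rfl, ?_⟩
    have e1 : ω * I = J * ω := by rw [← hωI]; group
    have e2 : ω * J = I * J * ω := by rw [← hωJ]; group
    calc ω * ω * I = ω * (ω * I) := by group
      _ = ω * J * ω := by rw [e1]; group
      _ = I * J * (ω * ω) := by rw [e2]; group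
  -- classification of the normalizer
  have hclass : ∀ n ∈ Subgroup.normalizer ((S : Subgroup SL2F) : Set SL2F),
      n ∈ (S : Subgroup SL2F) ∨ ω⁻¹ * n ∈ (S : Subgroup SL2F) ∨
        ω⁻¹ * ω⁻¹ * n ∈ (S : Subgroup SL2F) := by
    intro n hn
    have hyS : n * I * n⁻¹ ∈ (S : Subgroup SL2F) := (Subgroup.mem_normalizer_iff.mp hn I).mp hI
    have hyn : ((n * I * n⁻¹ : SL2F) : M2F) * (n : M2F) = (n : M2F) * (I : M2F) := by
      have : n * I * n⁻¹ * n = n * I := by group
      have h3 := congrArg (fun z : SL2F => (z : M2F)) this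
      simpa only [Matrix.SpecialLinearGroup.coe_mul] using h3
    have hωinvN := Subgroup.inv_mem _ hωN
    obtain ⟨η, hη, h⟩ := hS _ hyS
    have hηη : η * η = 1 := by rcases hη with rfl | rfl <;> ring
    rcases h with h | h | h | h
    · exfalso
      rw [h, Matrix.smul_mul, Matrix.one_mul] at hyn
      have h3 : (I : M2F) = η • (1 : M2F) := by
        apply sl2_mul_left_cancel n
        rw [← hyn, Matrix.mul_smul, Matrix.mul_one]
      rw [h3, Matrix.smul_mul, Matrix.mul_smul, Matrix.mul_one, smul_smul, hηη, one_smul] at hII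
      have h00 := congr_fun (congr_fun hII 0) 0
      simp at h00
      apply h2
      linear_combination h00
    · left
      rw [h, Matrix.smul_mul] at hyn
      exact claimB h2 S I J hI hJ hII hJJ hJI hS n hn η hη hyn.symm
    · right; left
      rw [h, Matrix.smul_mul] at hyn
      apply claimB h2 S I J hI hJ hII hJJ hJI hS _ (Subgroup.mul_mem _ hωinvN hn) η hη
      rw [Matrix.SpecialLinearGroup.coe_mul, Matrix.mul_assoc, ← hyn, Matrix.mul_smul,
        ← Matrix.mul_assoc, ← cI', Matrix.mul_assoc]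
    · right; right
      rw [h, Matrix.smul_mul] at hyn
      apply claimB h2 S I J hI hJ hII hJJ hJI hS _
        (Subgroup.mul_mem _ (Subgroup.mul_mem _ hωinvN hωinvN) hn) η hη
      rw [Matrix.SpecialLinearGroup.coe_mul, Matrix.SpecialLinearGroup.coe_mul, Matrix.mul_assoc,
        ← hyn, Matrix.mul_smul]
      congr 1
      have key : (I : M2F) * (((ω⁻¹ : SL2F) : M2F) * ((ω⁻¹ : SL2F) : M2F)) =
          ((ω⁻¹ : SL2F) : M2F) * ((ω⁻¹ : SL2F) : M2F) * ((I : M2F) * (J : M2F)) := by
        calc (I : M2F) * (((ω⁻¹ : SL2F) : M2F) * ((ω⁻¹ : SL2F) : M2F))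
            = ((I : M2F) * ((ω⁻¹ : SL2F) : M2F)) * ((ω⁻¹ : SL2F) : M2F) := by
              rw [Matrix.mul_assoc]
          _ = (((ω⁻¹ : SL2F) : M2F) * (J : M2F)) * ((ω⁻¹ : SL2F) : M2F) := by rw [cI']
          _ = ((ω⁻¹ : SL2F) : M2F) * ((J : M2F) * ((ω⁻¹ : SL2F) : M2F)) := by
              rw [Matrix.mul_assoc]
          _ = ((ω⁻¹ : SL2F) : M2F) * (((ω⁻¹ : SL2F) : M2F) * ((I : M2F) * (J : M2F))) := by
              rw [cJ']
          _ = _ := by rw [Matrix.mul_assoc]
      calc ((ω⁻¹ : SL2F) : M2F) * ((ω⁻¹ : SL2F) : M2F) * ((I : M2F) * (J : M2F) * (n : M2F))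
          = (((ω⁻¹ : SL2F) : M2F) * ((ω⁻¹ : SL2F) : M2F) * ((I : M2F) * (J : M2F))) * (n : M2F) := by
            simp only [Matrix.mul_assoc]
        _ = ((I : M2F) * (((ω⁻¹ : SL2F) : M2F) * ((ω⁻¹ : SL2F) : M2F))) * (n : M2F) := by rw [key]
        _ = _ := by simp only [Matrix.mul_assoc]
  -- counting
  have hSN : (S : Subgroup SL2F) ≤ Subgroup.normalizer ((S : Subgroup SL2F) : Set SL2F) :=
    Subgroup.le_normalizer
  have hset : ((Subgroup.normalizer ((S : Subgroup SL2F) : Set SL2F) : Subgroup SL2F) : Set SL2F) =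
      ((S : Subgroup SL2F) : Set SL2F) ∪ (fun x => ω * x) '' ((S : Subgroup SL2F) : Set SL2F) ∪
        (fun x => ω * ω * x) '' ((S : Subgroup SL2F) : Set SL2F) := by
    ext n
    simp only [Set.mem_union, SetLike.mem_coe, Set.mem_image]
    constructor
    · intro hn
      rcases hclass n hn with h | h | h
      · left; left; exact h
      · left; right; exact ⟨ω⁻¹ * n, h, by group⟩
      · right; exact ⟨ω⁻¹ * ω⁻¹ * n, h, by group⟩
    · rintro ((h | ⟨x, hx, rfl⟩) | ⟨x, hx, rfl⟩)
      · exact hSN h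
      · exact Subgroup.mul_mem _ hωN (hSN hx)
      · exact Subgroup.mul_mem _ (Subgroup.mul_mem _ hωN hωN) (hSN hx)
  have hd1 : Disjoint ((S : Subgroup SL2F) : Set SL2F)
      ((fun x => ω * x) '' ((S : Subgroup SL2F) : Set SL2F)) := by
    rw [Set.disjoint_left]
    rintro x hx ⟨y, hy, rfl⟩
    apply hω1
    have := Subgroup.mul_mem _ hx (Subgroup.inv_mem _ hy)
    simpa using this
  have hd2 : Disjoint (((S : Subgroup SL2F) : Set SL2F) ∪
      (fun x => ω * x) '' ((S : Subgroup SL2F) : Set SL2F))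
      ((fun x => ω * ω * x) '' ((S : Subgroup SL2F) : Set SL2F)) := by
    rw [Set.disjoint_left]
    rintro x (hx | ⟨z, hz, rfl⟩) ⟨y, hy, hxy⟩
    · apply hω2
      have := Subgroup.mul_mem _ hx (Subgroup.inv_mem _ hy)
      rw [← hxy] at this
      simpa using this
    · apply hω1
      simp only at hxy
      have h3 : ω * y = z := by
        have : ω * (ω * y) = ω * z := by rw [← mul_assoc]; exact hxy
        exact mul_left_cancel this
      have := Subgroup.mul_mem _ hz (Subgroup.inv_mem _ hy)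
      rw [← h3] at this
      simpa using this
  have e1 : Nat.card (Subgroup.normalizer ((S : Subgroup SL2F) : Set SL2F)) =
      ((Subgroup.normalizer ((S : Subgroup SL2F) : Set SL2F) : Subgroup SL2F) : Set SL2F).ncard :=
    Nat.card_coe_set_eq _
  have e2 : Nat.card (S : Subgroup SL2F) = ((S : Subgroup SL2F) : Set SL2F).ncard :=
    Nat.card_coe_set_eq _
  rw [e1, e2, hset, Set.ncard_union_eq hd2 (Set.toFinite _) (Set.toFinite _),
    Set.ncard_union_eq hd1 (Set.toFinite _) (Set.toFinite _),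
    Set.ncard_image_of_injective _ (mul_right_injective ω),
    Set.ncard_image_of_injective _ (mul_right_injective (ω * ω))]
  ring


theorem coe_mul_self_of_orderOf_four (h2 : (2 : F) ≠ 0) (x : SL2F) (hx : orderOf x = 4) :
    (x : M2F) * (x : M2F) = -1 := by
  have h4' : x ^ 4 = 1 := by
    rw [← hx]; exact pow_orderOf_eq_one x
  have h4 : (x ^ 2) ^ 2 = 1 := by
    rw [← pow_mul]; exact h4'
  have hne : x ^ 2 ≠ 1 := by
    intro h
    have := orderOf_dvd_of_pow_eq_one h
    rw [hx] at this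
    omega
  rcases (sl2_sq_eq_one_iff h2 (x ^ 2)).mp h4 with h | h
  · exact absurd h hne
  · have := congrArg (fun z : SL2F => (z : M2F)) h
    simp only [pow_two, Matrix.SpecialLinearGroup.coe_mul] at this
    rw [this]
    ext i j
    fin_cases i <;> fin_cases j <;> simp [sl2NegOne]

theorem quat2_cases (z : QuaternionGroup 2) :
    z = 1 ∨ z = QuaternionGroup.a 1 ∨ z = QuaternionGroup.a 1 * QuaternionGroup.a 1 ∨
      z = QuaternionGroup.a 1 * QuaternionGroup.a 1 * QuaternionGroup.a 1 ∨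
      z = QuaternionGroup.xa 0 ∨ z = QuaternionGroup.xa 0 * QuaternionGroup.a 1 ∨
      z = QuaternionGroup.xa 0 * (QuaternionGroup.a 1 * QuaternionGroup.a 1) ∨
      z = QuaternionGroup.a 1 * QuaternionGroup.xa 0 := by
  revert z
  decide

theorem quat2_rel : (QuaternionGroup.xa 0 : QuaternionGroup 2) * QuaternionGroup.a 1 =
    (QuaternionGroup.a 1 * QuaternionGroup.a 1) * (QuaternionGroup.a 1 * QuaternionGroup.xa 0) := by
  decide

theorem sq_mod_sixteen_of_mod_eight_one_or_seven (q : ℕ) (h : q % 8 = 1 ∨ q % 8 = 7) :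
    16 ∣ q * (q ^ 2 - 1) := by
  have h16 : q % 16 = 1 ∨ q % 16 = 7 ∨ q % 16 = 9 ∨ q % 16 = 15 := by omega
  have hsq : q ^ 2 % 16 = 1 := by
    rcases h16 with h | h | h | h <;> simp [Nat.pow_mod, h]
  have hpos : 1 ≤ q ^ 2 := by
    apply Nat.one_le_pow
    omega
  apply Dvd.dvd.mul_left
  generalize q ^ 2 = t at *
  omega

theorem not_sixteen_dvd_of_mod_eight_three_or_five (q : ℕ) (h : q % 8 = 3 ∨ q % 8 = 5) :
    ¬ 16 ∣ q * (q ^ 2 - 1) := by
  intro hd
  have h16 : q % 16 = 3 ∨ q % 16 = 5 ∨ q % 16 = 11 ∨ q % 16 = 13 := by omega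
  have hsq : q ^ 2 % 16 = 9 := by
    rcases h16 with h | h | h | h <;> simp [Nat.pow_mod, h]
  have hcop : Nat.Coprime 16 q := by
    have : Nat.Coprime 2 q := by
      rw [Nat.Prime.coprime_iff_not_dvd Nat.prime_two]
      omega
    exact Nat.Coprime.pow_left 4 this
  have := hcop.dvd_of_dvd_mul_left hd
  generalize q ^ 2 = t at *
  omega

end lib

theorem result {F : Type*} [Field F] [Fintype F] (hodd : Odd (Fintype.card F)) (S : Sylow 2 (Matrix.SpecialLinearGroup (Fin 2) F)) :
    Subgroup.centralizer ((S : Subgroup (Matrix.SpecialLinearGroup (Fin 2) F)) : Set (Matrix.SpecialLinearGroup (Fin 2) F)) = Subgroup.center (Matrix.SpecialLinearGroup (Fin 2) F) ∧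
    ((Fintype.card F % 8 = 1 ∨ Fintype.card F % 8 = 7) →
      Subgroup.normalizer ((S : Subgroup (Matrix.SpecialLinearGroup (Fin 2) F)) : Set (Matrix.SpecialLinearGroup (Fin 2) F)) = (S : Subgroup (Matrix.SpecialLinearGroup (Fin 2) F))) ∧
    ((Fintype.card F % 8 = 3 ∨ Fintype.card F % 8 = 5) →
      Nat.card (Subgroup.normalizer ((S : Subgroup (Matrix.SpecialLinearGroup (Fin 2) F)) : Set (Matrix.SpecialLinearGroup (Fin 2) F))) = 3 * Nat.card S) := by
  classical
  have h2 : (2 : F) ≠ 0 := Cfsg.Agent.Helper37.two_ne_zero_of_odd_card hodd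
  have hodd' : Fintype.card F % 2 = 1 := Nat.odd_iff.mp hodd
  obtain ⟨k, hk1, ⟨e⟩⟩ := Cfsg.Agent.Helper37.SL2Q.sylow_two_quaternion hodd S
  have hn2 : 2 ≤ 2 ^ k := by
    calc 2 = 2 ^ 1 := by norm_num
      _ ≤ 2 ^ k := Nat.pow_le_pow_right (by norm_num) hk1
  have : NeZero (2 ^ k) := ⟨by positivity⟩
  -- generators
  set gS : (S : Subgroup (Matrix.SpecialLinearGroup (Fin 2) F)) := e.symm (QuaternionGroup.a 1) with hgS
  set sS : (S : Subgroup (Matrix.SpecialLinearGroup (Fin 2) F)) := e.symm (QuaternionGroup.xa 0) with hsS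
  have egS : e gS = QuaternionGroup.a 1 := e.apply_symm_apply _
  have esS : e sS = QuaternionGroup.xa 0 := e.apply_symm_apply _
  have hg : (gS : (Matrix.SpecialLinearGroup (Fin 2) F)) ∈ (S : Subgroup (Matrix.SpecialLinearGroup (Fin 2) F)) := gS.2
  have hs : (sS : (Matrix.SpecialLinearGroup (Fin 2) F)) ∈ (S : Subgroup (Matrix.SpecialLinearGroup (Fin 2) F)) := sS.2
  have hog : orderOf (gS : (Matrix.SpecialLinearGroup (Fin 2) F)) = 2 * 2 ^ k := by
    rw [Subgroup.orderOf_coe, ← MulEquiv.orderOf_eq e, egS, QuaternionGroup.orderOf_a_one]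
  have hsg : (sS : (Matrix.SpecialLinearGroup (Fin 2) F)) * (gS : (Matrix.SpecialLinearGroup (Fin 2) F)) ≠ (gS : (Matrix.SpecialLinearGroup (Fin 2) F)) * (sS : (Matrix.SpecialLinearGroup (Fin 2) F)) := by
    intro h
    have h' : sS * gS = gS * sS := Subtype.ext (by simpa using h)
    have h3 := congrArg e h'
    rw [map_mul, map_mul, egS, esS, QuaternionGroup.xa_mul_a, QuaternionGroup.a_mul_xa] at h3
    have h4 : (0 : ZMod (2 * 2 ^ k)) + 1 = 0 - 1 := by
      injection h3
    have h5 : ((2 : ℕ) : ZMod (2 * 2 ^ k)) = 0 := by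
      push_cast
      linear_combination h4
    rw [ZMod.natCast_eq_zero_iff] at h5
    have := Nat.le_of_dvd (by norm_num) h5
    omega
  have hcardS : Nat.card (S : Subgroup (Matrix.SpecialLinearGroup (Fin 2) F)) = 4 * 2 ^ k := by
    rw [Nat.card_congr e.toEquiv, Nat.card_eq_fintype_card, QuaternionGroup.card]
  have hcardG : Nat.card (Matrix.SpecialLinearGroup (Fin 2) F) = Fintype.card F * (Fintype.card F ^ 2 - 1) :=
    Cfsg.Agent.Helper5.card_SL2
  refine ⟨centralizer_eq_center_of_noncomm _ _ _ hs hg hsg, ?_, ?_⟩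
  · intro hq
    have h16 : 2 ^ 4 ∣ Nat.card (Matrix.SpecialLinearGroup (Fin 2) F) := by
      rw [hcardG]
      exact sq_mod_sixteen_of_mod_eight_one_or_seven _ hq
    have h16' := S.pow_dvd_card_of_pow_dvd_card h16
    have hk2 : 2 ≤ k := by
      have h3 : Nat.card (S : Subgroup (Matrix.SpecialLinearGroup (Fin 2) F)) = 2 ^ (k + 2) := by
        rw [hcardS, pow_add]; ring
      have h4 : (2 : ℕ) ^ 4 ∣ 2 ^ (k + 2) := by rw [← h3]; exact h16'
      have := (Nat.pow_dvd_pow_iff_le_right (by norm_num : 1 < 2)).mp h4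
      omega
    have h4k : 4 ≤ 2 ^ k := by
      calc 4 = 2 ^ 2 := by norm_num
        _ ≤ 2 ^ k := Nat.pow_le_pow_right (by norm_num) hk2
    apply normalizer_eq_self_of_large h2 hodd' S (gS : (Matrix.SpecialLinearGroup (Fin 2) F)) (sS : (Matrix.SpecialLinearGroup (Fin 2) F)) hg hs
    · rw [hog]; omega
    · exact hsg
    · intro y hy hoy
      have hy' : orderOf (e ⟨y, hy⟩) = 2 * 2 ^ k := by
        rw [MulEquiv.orderOf_eq e, ← hog, ← hoy, ← Subgroup.orderOf_coe]
      have hcomm : (⟨y, hy⟩ : (S : Subgroup (Matrix.SpecialLinearGroup (Fin 2) F))) * gS = gS * ⟨y, hy⟩ := by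
        apply e.injective
        rw [map_mul, map_mul, egS]
        rcases hz : e ⟨y, hy⟩ with i | i
        · rw [QuaternionGroup.a_mul_a, QuaternionGroup.a_mul_a, add_comm]
        · rw [hz, QuaternionGroup.orderOf_xa] at hy'
          omega
      have := congrArg (fun z : (S : Subgroup (Matrix.SpecialLinearGroup (Fin 2) F)) => (z : (Matrix.SpecialLinearGroup (Fin 2) F))) hcomm
      simpa using this
  · intro hq
    have hk : k = 1 := by
      by_contra hne
      have hk2 : 2 ≤ k := by omega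
      have h3 : Nat.card (S : Subgroup (Matrix.SpecialLinearGroup (Fin 2) F)) = 2 ^ 4 * 2 ^ (k - 2) := by
        rw [hcardS, ← pow_add]
        have : 4 + (k - 2) = k + 2 := by omega
        rw [this, pow_add]; ring
      have h4 : 16 ∣ Nat.card (Matrix.SpecialLinearGroup (Fin 2) F) := by
        have h5 : Nat.card (S : Subgroup (Matrix.SpecialLinearGroup (Fin 2) F)) ∣ Nat.card (Matrix.SpecialLinearGroup (Fin 2) F) := Subgroup.card_subgroup_dvd_card _
        exact Dvd.dvd.trans ⟨2 ^ (k - 2), by rw [h3]; norm_num⟩ h5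
      rw [hcardG] at h4
      exact not_sixteen_dvd_of_mod_eight_three_or_five _ hq h4
    subst hk
    obtain ⟨e2⟩ : Nonempty ((S : Subgroup (Matrix.SpecialLinearGroup (Fin 2) F)) ≃* QuaternionGroup 2) := by
      have : (2 : ℕ) ^ 1 = 2 := by norm_num
      rw [this] at e
      exact ⟨e⟩
    clear_value gS sS
    clear hgS hsS egS esS hg hs hog hsg hcardS e
    set IS : (S : Subgroup (Matrix.SpecialLinearGroup (Fin 2) F)) := e2.symm (QuaternionGroup.a 1) with hIS
    set JS : (S : Subgroup (Matrix.SpecialLinearGroup (Fin 2) F)) := e2.symm (QuaternionGroup.xa 0) with hJS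
    have eI : e2 IS = QuaternionGroup.a 1 := e2.apply_symm_apply _
    have eJ : e2 JS = QuaternionGroup.xa 0 := e2.apply_symm_apply _
    have hoI : orderOf (IS : (Matrix.SpecialLinearGroup (Fin 2) F)) = 4 := by
      rw [Subgroup.orderOf_coe, ← MulEquiv.orderOf_eq e2, eI, QuaternionGroup.orderOf_a_one]
    have hoJ : orderOf (JS : (Matrix.SpecialLinearGroup (Fin 2) F)) = 4 := by
      rw [Subgroup.orderOf_coe, ← MulEquiv.orderOf_eq e2, eJ, QuaternionGroup.orderOf_xa]
    have hII := coe_mul_self_of_orderOf_four h2 _ hoI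
    have hJJ := coe_mul_self_of_orderOf_four h2 _ hoJ
    have hrel : JS * IS = (IS * IS) * (IS * JS) := by
      apply e2.injective
      simp only [map_mul, eI, eJ]
      exact quat2_rel
    have hJI : ((JS : (Matrix.SpecialLinearGroup (Fin 2) F)) : Matrix (Fin 2) (Fin 2) F) * ((IS : (Matrix.SpecialLinearGroup (Fin 2) F)) : Matrix (Fin 2) (Fin 2) F) =
        -(((IS : (Matrix.SpecialLinearGroup (Fin 2) F)) : Matrix (Fin 2) (Fin 2) F) * ((JS : (Matrix.SpecialLinearGroup (Fin 2) F)) : Matrix (Fin 2) (Fin 2) F)) := by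
      have := congrArg (fun z : (S : Subgroup (Matrix.SpecialLinearGroup (Fin 2) F)) => ((z : (Matrix.SpecialLinearGroup (Fin 2) F)) : Matrix (Fin 2) (Fin 2) F)) hrel
      simp only [Subgroup.coe_mul, Matrix.SpecialLinearGroup.coe_mul] at this
      rw [this, hII, neg_mul, one_mul]
    have hcard := card_normalizer_q8 h2 S (IS : (Matrix.SpecialLinearGroup (Fin 2) F)) (JS : (Matrix.SpecialLinearGroup (Fin 2) F)) IS.2 JS.2 hII hJJ hJI ?_
    · exact hcard
    intro y hy
    have hz := quat2_cases (e2 ⟨y, hy⟩)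
    have hy_eq : ∀ w : (S : Subgroup (Matrix.SpecialLinearGroup (Fin 2) F)), e2 ⟨y, hy⟩ = e2 w → y = (w : (Matrix.SpecialLinearGroup (Fin 2) F)) :=
      fun w hw => congrArg Subtype.val (e2.injective hw)
    rcases hz with hz | hz | hz | hz | hz | hz | hz | hz
    · have hyw : y = ((1 : (S : Subgroup (Matrix.SpecialLinearGroup (Fin 2) F))) : (Matrix.SpecialLinearGroup (Fin 2) F)) := hy_eq 1 (by rw [hz, map_one])
      refine ⟨1, Or.inl rfl, Or.inl ?_⟩
      rw [hyw]; simp
    · have hyw : y = (IS : (Matrix.SpecialLinearGroup (Fin 2) F)) := hy_eq IS (by rw [hz, eI])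
      refine ⟨1, Or.inl rfl, Or.inr (Or.inl ?_)⟩
      rw [hyw, one_smul]
    · have hyw : y = ((IS * IS : (S : Subgroup (Matrix.SpecialLinearGroup (Fin 2) F))) : (Matrix.SpecialLinearGroup (Fin 2) F)) :=
        hy_eq (IS * IS) (by rw [hz, map_mul, eI])
      refine ⟨-1, Or.inr rfl, Or.inl ?_⟩
      rw [hyw, Subgroup.coe_mul, Matrix.SpecialLinearGroup.coe_mul, hII]; simp
    · have hyw : y = ((IS * IS * IS : (S : Subgroup (Matrix.SpecialLinearGroup (Fin 2) F))) : (Matrix.SpecialLinearGroup (Fin 2) F)) :=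
        hy_eq (IS * IS * IS) (by rw [hz, map_mul, map_mul, eI])
      refine ⟨-1, Or.inr rfl, Or.inr (Or.inl ?_)⟩
      rw [hyw, Subgroup.coe_mul, Subgroup.coe_mul, Matrix.SpecialLinearGroup.coe_mul,
        Matrix.SpecialLinearGroup.coe_mul, hII]; simp
    · have hyw : y = (JS : (Matrix.SpecialLinearGroup (Fin 2) F)) := hy_eq JS (by rw [hz, eJ])
      refine ⟨1, Or.inl rfl, Or.inr (Or.inr (Or.inl ?_))⟩
      rw [hyw, one_smul]
    · have hyw : y = ((JS * IS : (S : Subgroup (Matrix.SpecialLinearGroup (Fin 2) F))) : (Matrix.SpecialLinearGroup (Fin 2) F)) :=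
        hy_eq (JS * IS) (by rw [hz, map_mul, eI, eJ])
      refine ⟨-1, Or.inr rfl, Or.inr (Or.inr (Or.inr ?_))⟩
      rw [hyw, Subgroup.coe_mul, Matrix.SpecialLinearGroup.coe_mul, hJI]; simp
    · have hyw : y = ((JS * (IS * IS) : (S : Subgroup (Matrix.SpecialLinearGroup (Fin 2) F))) : (Matrix.SpecialLinearGroup (Fin 2) F)) :=
        hy_eq (JS * (IS * IS)) (by rw [hz, map_mul, map_mul, eI, eJ])
      refine ⟨-1, Or.inr rfl, Or.inr (Or.inr (Or.inl ?_))⟩
      rw [hyw, Subgroup.coe_mul, Subgroup.coe_mul, Matrix.SpecialLinearGroup.coe_mul,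
        Matrix.SpecialLinearGroup.coe_mul, hII]; simp
    · have hyw : y = ((IS * JS : (S : Subgroup (Matrix.SpecialLinearGroup (Fin 2) F))) : (Matrix.SpecialLinearGroup (Fin 2) F)) :=
        hy_eq (IS * JS) (by rw [hz, map_mul, eI, eJ])
      refine ⟨1, Or.inl rfl, Or.inr (Or.inr (Or.inr ?_))⟩
      rw [hyw, Subgroup.coe_mul, Matrix.SpecialLinearGroup.coe_mul, one_smul]

end Cfsg.Agent.S2431
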