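import Cfsg.Statements.S0809
import Cfsg.Agent.S2431
import Cfsg.Agent.S2429

set_option autoImplicit false
open Cfsg

namespace Cfsg.Agent.S0809

open Matrix Cfsg.Agent.Helper41 Cfsg.Agent.Helper42

section lib

variable {F : Type*} [Field F]

local notation "SL2F" => Matrix.SpecialLinearGroup (Fin 2) F
local notation "M2F" => Matrix (Fin 2) (Fin 2) F

/-- Order of the centralizer of a regular semisimple element. -/
theorem card_centralizer_add_rootCount [Fintype F] [DecidableEq F] (h2 : (2 : F) ≠ 0)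
    (hodd : Fintype.card F % 2 = 1) (A : SL2F) (ht : (Matrix.trace (A : M2F)) ^ 2 ≠ 4) :
    Nat.card (Subgroup.centralizer ({A} : Set SL2F)) + rootCount (Matrix.trace (A : M2F)) =
      Fintype.card F + 1 := by
  have hA := Cfsg.Agent.S2429.isNonScalarMat_of_not_scalar _
    (not_scalar_of_trace_sq_ne_four (A : M2F) A.det_coe ht)
  rw [card_centralizer A hA]
  have h1 := card_normOne_add_rootCount_odd h2 hodd (Matrix.trace (A : M2F)) ht
  rw [← h1]
  congr 1
  show Nat.card {p : F × F // qform ((A : M2F).trace) p = 1} = _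
  rw [Nat.card_eq_fintype_card, Fintype.card_subtype]

theorem rootCount_zero_of_mod_four_eq_one [Fintype F] [DecidableEq F] (h : Fintype.card F % 4 = 1) :
    rootCount (0 : F) = 2 := by
  have hsq : IsSquare (-1 : F) := by
    rw [FiniteField.isSquare_neg_one_iff]; omega
  obtain ⟨i, hi⟩ := hsq
  have hi0 : i ≠ 0 := by
    rintro rfl
    simp at hi
  have h2 : (2 : F) ≠ 0 := by
    intro h2
    have hchar : ringChar F = 2 := by
      have : (2 : ℕ) ∣ ringChar F ∨ True := Or.inr trivial
      have h3 : ((2 : ℕ) : F) = 0 := by exact_mod_cast h2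
      have h4 := (ringChar.spec F 2).mp h3
      have hp := CharP.char_is_prime F (ringChar F)
      exact ((Nat.prime_dvd_prime_iff_eq hp Nat.prime_two).mp h4)
    have := FiniteField.even_card_of_char_two hchar
    omega
  have hii : i * i ≠ 1 := by
    rw [← hi]
    intro h3
    apply h2
    linear_combination -h3
  have := rootCount_eq_two_of_root i hi0 hii
  have h0 : -(i + i⁻¹) = 0 := by
    have : i⁻¹ = -i := by
      field_simp
      linear_combination -hi
    rw [this]; ring
  rwa [h0] at this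

theorem rootCount_zero_of_mod_four_eq_three [Fintype F] [DecidableEq F] (h : Fintype.card F % 4 = 3) :
    rootCount (0 : F) = 0 := by
  unfold rootCount
  rw [Finset.card_eq_zero, Finset.filter_eq_empty_iff]
  intro x _ hx
  have hsq : IsSquare (-1 : F) := ⟨x, by linear_combination -hx⟩
  rw [FiniteField.isSquare_neg_one_iff] at hsq
  exact hsq h

/-- A subgroup of order `4` of `SL₂` in odd characteristic is cyclic. -/
theorem exists_gen_of_card_four (h2 : (2 : F) ≠ 0) (A : Subgroup SL2F) (hA : Nat.card A = 4) :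
    ∃ x ∈ A, orderOf x = 4 ∧ A = Subgroup.zpowers x := by
  have hfin : Finite A := Nat.finite_of_card_ne_zero (by rw [hA]; norm_num)
  have hex : ∃ x ∈ A, x ^ 2 ≠ 1 := by
    by_contra hcon
    push Not at hcon
    have hsub : (A : Set SL2F) ⊆ ({1, sl2NegOne} : Set SL2F) := by
      intro x hx
      rcases (sl2_sq_eq_one_iff h2 x).mp (hcon x hx) with h | h
      · left; exact h
      · right; exact h
    have hle : Nat.card A ≤ 2 := by
      have h1 : Nat.card A = (A : Set SL2F).ncard := Nat.card_coe_set_eq _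
      rw [h1]
      calc (A : Set SL2F).ncard ≤ ({1, sl2NegOne} : Set SL2F).ncard :=
            Set.ncard_le_ncard hsub (Set.toFinite _)
        _ ≤ 2 := Set.ncard_insert_le _ _ |>.trans (by simp)
    omega
  obtain ⟨x, hx, hx2⟩ := hex
  have hdvd : orderOf x ∣ 4 := by
    have := Subgroup.orderOf_dvd_natCard A hx
    rwa [hA] at this
  have ho : orderOf x = 4 := by
    have hle : orderOf x ≤ 4 := Nat.le_of_dvd (by norm_num) hdvd
    have hpos : 0 < orderOf x := Nat.pos_of_dvd_of_pos hdvd (by norm_num)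
    have h12 : ¬ orderOf x ∣ 2 := by
      intro hd
      exact hx2 (orderOf_dvd_iff_pow_eq_one.mp hd)
    interval_cases h : orderOf x
    · exact absurd (one_dvd 2) h12
    · exact absurd (dvd_refl 2) h12
    · omega
    · rfl
  refine ⟨x, hx, ho, ?_⟩
  symm
  apply Subgroup.eq_of_le_of_card_ge
  · rw [Subgroup.zpowers_le]; exact hx
  · rw [Nat.card_zpowers, ho, hA]

/-- Trace zero elements of `SL₂(q)`, `q` odd, are conjugate. -/
theorem exists_conj_of_trace_zero [Fintype F] (hodd : Fintype.card F % 2 = 1) (h2 : (2 : F) ≠ 0)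
    (x y : SL2F) (hx : Matrix.trace (x : M2F) = 0) (hy : Matrix.trace (y : M2F) = 0) :
    ∃ g : SL2F, g * x * g⁻¹ = y := by
  have h4 : (4 : F) ≠ 0 := by
    have : (4 : F) = 2 * 2 := by norm_num
    rw [this]; exact mul_ne_zero h2 h2
  have htx : (Matrix.trace (x : M2F)) ^ 2 ≠ 4 := by
    rw [hx]; intro h; apply h4; rw [← h]; ring
  have hty : (Matrix.trace (y : M2F)) ^ 2 ≠ 4 := by
    rw [hy]; intro h; apply h4; rw [← h]; ring
  obtain ⟨S, hS, hSx⟩ := exists_sl2_conj_of_trace_eq (x : M2F) (y : M2F) x.det_coe y.det_coe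
    (by rw [hx, hy]) (not_scalar_of_trace_sq_ne_four _ x.det_coe htx)
    (not_scalar_of_trace_sq_ne_four _ y.det_coe hty)
    (fun e _ => normForm_surjective_of_odd hodd h2 _ htx e)
  obtain ⟨g, hg⟩ : ∃ g : SL2F, (g : M2F) = S := ⟨⟨S, hS⟩, rfl⟩
  refine ⟨g, ?_⟩
  rw [mul_inv_eq_iff_eq_mul]
  apply Subtype.ext
  rw [Matrix.SpecialLinearGroup.coe_mul, Matrix.SpecialLinearGroup.coe_mul, hg]
  exact hSx

/-- `x⁻¹ = -x` for trace zero elements. -/
theorem coe_inv_of_trace_zero (x : SL2F) (hx : Matrix.trace (x : M2F) = 0) :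
    ((x⁻¹ : SL2F) : M2F) = -(x : M2F) := by
  rw [sl2_coe_inv_eq, hx, zero_smul, zero_sub]

/-- An element of the torus `C(x)` of trace zero is `x` or `x⁻¹`, when `x` has trace zero. -/
theorem eq_or_eq_inv_of_mem_centralizer_of_trace_zero (h2 : (2 : F) ≠ 0) (x y : SL2F)
    (hx : Matrix.trace (x : M2F) = 0) (hy : Matrix.trace (y : M2F) = 0)
    (hxns : ∀ r : F, (x : M2F) ≠ Matrix.scalar (Fin 2) r)
    (hyx : y ∈ Subgroup.centralizer ({x} : Set SL2F)) : y = x ∨ y = x⁻¹ := by
  obtain ⟨α, β, hαβ⟩ := sl2_exists_of_mem_centralizer x y hxns hyx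
  have htr : (2 : F) * α + β * Matrix.trace (x : M2F) = 0 := by
    rw [← trace_add_smul_two, ← hαβ, hy]
  rw [hx, mul_zero, add_zero] at htr
  have hα : α = 0 := by
    rcases mul_eq_zero.mp htr with h | h
    · exact absurd h h2
    · exact h
  have hdet : α ^ 2 + α * β * Matrix.trace (x : M2F) + β ^ 2 * (x : M2F).det = 1 := by
    rw [← det_add_smul_two, ← hαβ, y.det_coe]
  rw [hα, x.det_coe] at hdet
  have hβ : (β - 1) * (β + 1) = 0 := by linear_combination hdet
  rw [hα, zero_smul, zero_add] at hαβ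
  rcases mul_eq_zero.mp hβ with h | h
  · left
    apply Subtype.ext
    rw [hαβ, sub_eq_zero.mp h, one_smul]
  · right
    apply Subtype.ext
    rw [hαβ, coe_inv_of_trace_zero x hx, eq_neg_of_add_eq_zero_left h, neg_smul, one_smul]

/-- The normalizer of `⟨x⟩` is the normalizer of the torus `C(x)`, for `x` of trace zero. -/
theorem normalizer_zpowers_eq (h2 : (2 : F) ≠ 0) [Finite F] (x : SL2F)
    (hx : Matrix.trace (x : M2F) = 0) :
    Subgroup.normalizer ((Subgroup.zpowers x : Subgroup SL2F) : Set SL2F) =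
      Subgroup.normalizer
        ((Subgroup.centralizer ({x} : Set SL2F) : Subgroup SL2F) : Set SL2F) := by
  have hfin : Finite SL2F := by
    have : Fintype F := Fintype.ofFinite F
    classical
    infer_instance
  have h4 : (4 : F) ≠ 0 := by
    have : (4 : F) = 2 * 2 := by norm_num
    rw [this]; exact mul_ne_zero h2 h2
  have htx : (Matrix.trace (x : M2F)) ^ 2 ≠ 4 := by
    rw [hx]; intro h; apply h4; rw [← h]; ring
  have hxns := not_scalar_of_trace_sq_ne_four _ x.det_coe htx
  ext g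
  rw [sl2_mem_normalizer_centralizer_iff h2 x g htx]
  constructor
  · intro hg
    have h1 : g * x * g⁻¹ ∈ Subgroup.zpowers x :=
      (Subgroup.mem_normalizer_iff.mp hg x).mp (Subgroup.mem_zpowers x)
    have h2' : g * x * g⁻¹ ∈ Subgroup.centralizer ({x} : Set SL2F) := by
      obtain ⟨k, hk⟩ := Subgroup.mem_zpowers_iff.mp h1
      rw [← hk, Subgroup.mem_centralizer_singleton_iff]
      exact ((Commute.refl x).zpow_left k).eq
    have h3 : Matrix.trace ((g * x * g⁻¹ : SL2F) : M2F) = 0 := by rw [sl2_trace_conj, hx]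
    rcases eq_or_eq_inv_of_mem_centralizer_of_trace_zero h2 x _ hx h3 hxns h2' with h | h
    · left; exact (sl2_mem_centralizer_iff_conj x g).mpr h
    · right; exact h
  · intro hg
    have hconj : g * x * g⁻¹ = x ∨ g * x * g⁻¹ = x⁻¹ := by
      rcases hg with h | h
      · left; exact (sl2_mem_centralizer_iff_conj x g).mp h
      · right; exact h
    apply Subgroup.mem_normalizer_fintype
    intro n hn
    obtain ⟨k, hk⟩ := Subgroup.mem_zpowers_iff.mp hn
    have hn' : g * n * g⁻¹ = (g * x * g⁻¹) ^ k := by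
      rw [← hk, conj_zpow]
    show g * n * g⁻¹ ∈ Subgroup.zpowers x
    rw [hn']
    rcases hconj with h | h
    · rw [h]; exact Subgroup.zpow_mem_zpowers x k
    · rw [h]; exact Subgroup.zpow_mem _ (Subgroup.inv_mem _ (Subgroup.mem_zpowers x)) k

end lib

theorem result {F : Type*} [Field F] [Fintype F] {q : ℕ} (hF : Fintype.card F = q) (hodd : Odd q) (A : Subgroup (Matrix.SpecialLinearGroup (Fin 2) F)) (hA : Nat.card A = 4) : (∀ B : Subgroup (Matrix.SpecialLinearGroup (Fin 2) F), Nat.card B = 4 → ∃ g : Matrix.SpecialLinearGroup (Fin 2) F, B = A.map (MulAut.conj g).toMonoidHom) ∧ (q % 4 = 1 → Nat.card ↥(Subgroup.normalizer (A : Set (Matrix.SpecialLinearGroup (Fin 2) F))) = 2 * (q - 1)) ∧ (q % 4 = 3 → Nat.card ↥(Subgroup.normalizer (A : Set (Matrix.SpecialLinearGroup (Fin 2) F))) = 2 * (q + 1)) ∧ (∀ x y : Matrix.ProjectiveSpecialLinearGroup (Fin 2) F, orderOf x = 2 → orderOf y = 2 → IsConj x y) := by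
  classical
  subst hF
  have h2 : (2 : F) ≠ 0 := Cfsg.Agent.Helper37.two_ne_zero_of_odd_card hodd
  have hodd' : Fintype.card F % 2 = 1 := Nat.odd_iff.mp hodd
  have h4 : (4 : F) ≠ 0 := by
    have : (4 : F) = 2 * 2 := by norm_num
    rw [this]; exact mul_ne_zero h2 h2
  have htr4 : ∀ z : Matrix.SpecialLinearGroup (Fin 2) F,
      Matrix.trace (z : Matrix (Fin 2) (Fin 2) F) = 0 →
      (Matrix.trace (z : Matrix (Fin 2) (Fin 2) F)) ^ 2 ≠ 4 := by
    intro z hz
    rw [hz]; intro h; apply h4; rw [← h]; ring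
  obtain ⟨x, hxA, hox, hAx⟩ := exists_gen_of_card_four h2 A hA
  have hxx := Cfsg.Agent.S2431.coe_mul_self_of_orderOf_four h2 x hox
  have hx0 := Cfsg.Agent.S2431.trace_eq_zero_of_mul_self x hxx
  have htx := htr4 x hx0
  obtain ⟨w, hw⟩ := sl2_exists_conj_eq_inv hodd' h2 x htx
  have hN : Nat.card (Subgroup.normalizer (A : Set (Matrix.SpecialLinearGroup (Fin 2) F))) =
      2 * Nat.card (Subgroup.centralizer ({x} : Set (Matrix.SpecialLinearGroup (Fin 2) F))) := by
    rw [hAx, normalizer_zpowers_eq h2 x hx0]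
    exact sl2_card_normalizer_centralizer h2 x w htx hw
  have hC := card_centralizer_add_rootCount h2 hodd' x htx
  rw [hx0] at hC
  refine ⟨?_, ?_, ?_, ?_⟩
  · intro B hB
    obtain ⟨y, hyB, hoy, hBy⟩ := exists_gen_of_card_four h2 B hB
    have hy0 := Cfsg.Agent.S2431.trace_eq_zero_of_mul_self y
      (Cfsg.Agent.S2431.coe_mul_self_of_orderOf_four h2 y hoy)
    obtain ⟨g, hg⟩ := exists_conj_of_trace_zero hodd' h2 x y hx0 hy0
    refine ⟨g, ?_⟩
    rw [hBy, hAx, MonoidHom.map_zpowers]
    congr 1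
    rw [← hg]
    rfl
  · intro hq
    rw [hN]
    rw [rootCount_zero_of_mod_four_eq_one hq] at hC
    omega
  · intro hq
    rw [hN]
    rw [rootCount_zero_of_mod_four_eq_three hq] at hC
    omega
  · intro X Y hX hY
    have key : ∀ Z : Matrix.ProjectiveSpecialLinearGroup (Fin 2) F, orderOf Z = 2 →
        ∃ z : Matrix.SpecialLinearGroup (Fin 2) F, (QuotientGroup.mk z : Matrix.ProjectiveSpecialLinearGroup (Fin 2) F) = Z ∧
          Matrix.trace (z : Matrix (Fin 2) (Fin 2) F) = 0 := by
      intro Z hZ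
      obtain ⟨z, rfl⟩ := QuotientGroup.mk_surjective Z
      refine ⟨z, rfl, ?_⟩
      have hZ2 : (QuotientGroup.mk z : Matrix.ProjectiveSpecialLinearGroup (Fin 2) F) ^ 2 = 1 := by
        have := pow_orderOf_eq_one (QuotientGroup.mk z : Matrix.ProjectiveSpecialLinearGroup (Fin 2) F)
        rwa [hZ] at this
      have hZ1 : (QuotientGroup.mk z : Matrix.ProjectiveSpecialLinearGroup (Fin 2) F) ≠ 1 := by
        intro h
        rw [h, orderOf_one] at hZ
        omega
      apply sl2_trace_eq_zero_of_sq_mem_center z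
      · rw [← QuotientGroup.mk_pow] at hZ2
        exact (QuotientGroup.eq_one_iff _).mp hZ2
      · intro hc
        exact hZ1 ((QuotientGroup.eq_one_iff _).mpr hc)
    obtain ⟨x₁, rfl, hx₁⟩ := key X hX
    obtain ⟨y₁, rfl, hy₁⟩ := key Y hY
    obtain ⟨g, hg⟩ := exists_conj_of_trace_zero hodd' h2 x₁ y₁ hx₁ hy₁
    rw [isConj_iff]
    refine ⟨QuotientGroup.mk g, ?_⟩
    rw [← hg]
    rfl

end Cfsg.Agent.S0809
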