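-- Statement S0807: twelve times the number of Klein four-subgroups of PSL_2(q), q odd, is |PSL_2(q)|.
import Cfsg.Statements.S0807
import Cfsg.Agent.Helper41.KleinCount
import Cfsg.Agent.S0809
import Cfsg.Agent.Helper5.PSL2
import Cfsg.Agent.Helper74.CharCount

set_option autoImplicit false
open Cfsg

namespace Cfsg.Agent.S0807

open Matrix Cfsg.Agent.Helper41 Cfsg.Agent.Helper42

section lib

variable {F : Type*} [Field F] [Fintype F] [DecidableEq F]

local notation "SL2F" => Matrix.SpecialLinearGroup (Fin 2) F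
local notation "M2F" => Matrix (Fin 2) (Fin 2) F

/-- The element `[[0, -1], [1, 0]]` of trace zero. -/
def wElt : SL2F := ⟨!![0, -1; 1, 0], by simp [Matrix.det_fin_two]⟩

omit [Fintype F] [DecidableEq F] in
theorem trace_wElt : ((wElt : SL2F) : M2F).trace = 0 := by
  simp [wElt, Matrix.trace_fin_two]

/-- Pairs `(A, B)` with `A` of trace zero and `B A B⁻¹ = A⁻¹`. -/
def antiPairs (F : Type*) [Field F] [Fintype F] [DecidableEq F] :
    Finset (Matrix.SpecialLinearGroup (Fin 2) F × Matrix.SpecialLinearGroup (Fin 2) F) :=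
  Finset.univ.filter (fun p => ((p.1 : Matrix.SpecialLinearGroup (Fin 2) F) :
    Matrix (Fin 2) (Fin 2) F).trace = 0 ∧ p.2 * p.1 * p.2⁻¹ = p.1⁻¹)

/-- The number of elements inverting a trace-zero element is the order of its centralizer. -/
theorem card_inverting (hodd : Odd (Fintype.card F)) (A : SL2F) (hA : (A : M2F).trace = 0) :
    (Finset.univ.filter (fun B : SL2F => B * A * B⁻¹ = A⁻¹)).card =
      Nat.card (Subgroup.centralizer ({A} : Set SL2F)) := by
  classical
  have h2 : (2 : F) ≠ 0 := Cfsg.Agent.Helper5.two_ne_zero_of_odd_card hodd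
  have h4 : (4 : F) ≠ 0 := by
    have : (4 : F) = 2 * 2 := by norm_num
    rw [this]; exact mul_ne_zero h2 h2
  have htr : (A : M2F).trace ^ 2 ≠ 4 := by
    rw [hA]; intro h; apply h4; rw [← h]; ring
  obtain ⟨w, hw⟩ := sl2_exists_conj_eq_inv (Nat.odd_iff.mp hodd) h2 A htr
  rw [Nat.card_eq_fintype_card, Fintype.card_subtype]
  apply Finset.card_bij (fun x _ => w⁻¹ * x)
  · intro x hx
    rw [Finset.mem_filter] at hx ⊢
    refine ⟨Finset.mem_univ _, ?_⟩
    rw [Subgroup.mem_centralizer_singleton_iff]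
    have h1 : w⁻¹ * x * A = w⁻¹ * (x * A * x⁻¹) * x := by group
    have h3 : w⁻¹ * A⁻¹ * w = A := by
      rw [← hw]; group
    rw [h1, hx.2]
    calc w⁻¹ * A⁻¹ * x = (w⁻¹ * A⁻¹ * w) * (w⁻¹ * x) := by group
      _ = A * (w⁻¹ * x) := by rw [h3]
  · intro x _ y _ h
    exact mul_left_cancel h
  · intro y hy
    rw [Finset.mem_filter, Subgroup.mem_centralizer_singleton_iff] at hy
    refine ⟨w * y, ?_, by group⟩
    rw [Finset.mem_filter]
    refine ⟨Finset.mem_univ _, ?_⟩
    have h1 : w * y * A * (w * y)⁻¹ = w * (y * A * y⁻¹) * w⁻¹ := by group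
    have h3 : y * A * y⁻¹ = A := by
      rw [hy.2, mul_assoc, mul_inv_cancel, mul_one]
    rw [h1, h3, hw]

/-- The number of anticommuting pairs is the order of `SL₂(q)`. -/
theorem card_antiPairs (hodd : Odd (Fintype.card F)) :
    (antiPairs F).card = Nat.card SL2F := by
  classical
  have h2 : (2 : F) ≠ 0 := Cfsg.Agent.Helper5.two_ne_zero_of_odd_card hodd
  have h4 : (4 : F) ≠ 0 := by
    have : (4 : F) = 2 * 2 := by norm_num
    rw [this]; exact mul_ne_zero h2 h2
  have h04 : (0 : F) ^ 2 ≠ 4 := by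
    intro h; apply h4; rw [← h]; ring
  -- the centralizers of the trace-zero elements all have the same order
  have hcent : ∀ A : SL2F, (A : M2F).trace = 0 →
      Nat.card (Subgroup.centralizer ({A} : Set SL2F)) + rootCount (0 : F) =
        Fintype.card F + 1 := by
    intro A hA
    have := Cfsg.Agent.S0809.card_centralizer_add_rootCount h2 (Nat.odd_iff.mp hodd) A
      (by rw [hA]; exact h04)
    rwa [hA] at this
  have hmaps : ∀ p ∈ antiPairs F, p.1 ∈
      Finset.univ.filter (fun A : SL2F => (A : M2F).trace = 0) := by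
    intro p hp
    unfold antiPairs at hp
    rw [Finset.mem_filter] at hp ⊢
    exact ⟨Finset.mem_univ _, hp.2.1⟩
  rw [Finset.card_eq_sum_card_fiberwise hmaps]
  have hfiber : ∀ A ∈ Finset.univ.filter (fun A : SL2F => (A : M2F).trace = 0),
      ((antiPairs F).filter (fun p => p.1 = A)).card =
        Nat.card (Subgroup.centralizer ({(wElt : SL2F)} : Set SL2F)) := by
    intro A hA
    rw [Finset.mem_filter] at hA
    have hfib : (antiPairs F).filter (fun p => p.1 = A) =
        (Finset.univ.filter (fun B : SL2F => B * A * B⁻¹ = A⁻¹)).image (fun B => (A, B)) := by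
      ext p
      unfold antiPairs
      simp only [Finset.mem_filter, Finset.mem_univ, true_and, Finset.mem_image]
      constructor
      · rintro ⟨⟨-, h⟩, rfl⟩
        exact ⟨p.2, h, rfl⟩
      · rintro ⟨B, hB, rfl⟩
        exact ⟨⟨hA.2, hB⟩, rfl⟩
    rw [hfib, Finset.card_image_of_injective _ (fun B B' h => (Prod.mk.inj h).2),
      card_inverting hodd A hA.2]
    have h1 := hcent A hA.2
    have h2' := hcent wElt trace_wElt
    omega
  rw [Finset.sum_congr rfl hfiber, Finset.sum_const, smul_eq_mul]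
  have hclass := Cfsg.Agent.Helper74.card_isConj_mul_card_centralizer (wElt : SL2F)
  have hT : (Finset.univ.filter (fun A : SL2F => (A : M2F).trace = 0)).card =
      Nat.card {x : SL2F // IsConj x wElt} := by
    rw [Nat.card_eq_fintype_card, Fintype.card_subtype]
    apply congrArg Finset.card
    ext A
    rw [Finset.mem_filter, Finset.mem_filter]
    constructor
    · rintro ⟨-, hA⟩
      refine ⟨Finset.mem_univ _, ?_⟩
      obtain ⟨g, hg⟩ := Cfsg.Agent.S0809.exists_conj_of_trace_zero (Nat.odd_iff.mp hodd) h2 A wElt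
        hA trace_wElt
      exact isConj_iff.mpr ⟨g, hg⟩
    · rintro ⟨-, hA⟩
      refine ⟨Finset.mem_univ _, ?_⟩
      obtain ⟨g, hg⟩ := isConj_iff.mp hA
      have hAe : A = g⁻¹ * wElt * g⁻¹⁻¹ := by rw [← hg]; group
      rw [hAe, sl2_trace_conj]
      exact trace_wElt
  rw [hT, hclass]

omit [Fintype F] [DecidableEq F] in
theorem coe_mul_self_of_trace_zero (A : SL2F) (hA : (A : M2F).trace = 0) :
    (A : M2F) * (A : M2F) = -1 := by
  rw [sl2_cayley_hamilton, hA, zero_smul, zero_sub]

omit [Fintype F] [DecidableEq F] in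
theorem mul_self_mem_center (A : SL2F) (hA : (A : M2F).trace = 0) :
    A * A ∈ Subgroup.center SL2F := by
  rw [sl2_mem_center_iff]
  refine ⟨-1, by ring, ?_⟩
  rw [Matrix.SpecialLinearGroup.coe_mul, coe_mul_self_of_trace_zero A hA]
  ext i j
  fin_cases i <;> fin_cases j <;> simp

omit [Fintype F] [DecidableEq F] in
theorem not_mem_center_of_trace_zero (h2 : (2 : F) ≠ 0) (A : SL2F) (hA : (A : M2F).trace = 0) :
    A ∉ Subgroup.center SL2F := by
  rw [sl2_mem_center_iff]
  rintro ⟨r, hr, h⟩
  rw [h, Matrix.trace_fin_two] at hA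
  simp only [Matrix.scalar_apply, Matrix.diagonal_apply_eq] at hA
  have hr0 : r = 0 := by
    have : (2 : F) * r = 0 := by linear_combination hA
    rcases mul_eq_zero.mp this with h' | h'
    · exact absurd h' h2
    · exact h'
  rw [hr0] at hr
  simp at hr

omit [Fintype F] [DecidableEq F] in
theorem mul_self_ne_one (h2 : (2 : F) ≠ 0) (A : SL2F) (hA : (A : M2F).trace = 0) :
    A * A ≠ 1 := by
  intro h
  have h' := congrArg (fun X : SL2F => (X : M2F) 0 0) h
  simp only [Matrix.SpecialLinearGroup.coe_mul, coe_mul_self_of_trace_zero A hA,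
    Matrix.SpecialLinearGroup.coe_one, Matrix.neg_apply, Matrix.one_apply_eq] at h'
  apply h2
  linear_combination -h'

omit [Fintype F] [DecidableEq F] in
theorem trace_eq_zero_of_inverting (h2 : (2 : F) ≠ 0) (A B : SL2F) (hA : (A : M2F).trace = 0)
    (h : B * A * B⁻¹ = A⁻¹) : (B : M2F).trace = 0 := by
  have hB : B = A * B * A := by
    symm
    calc A * B * A = A * (B * A * B⁻¹) * B := by group
      _ = A * A⁻¹ * B := by rw [h]
      _ = B := by group
  have hcoe : (B : M2F) = (A : M2F) * (B : M2F) * (A : M2F) := by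
    conv_lhs => rw [hB]
    rw [Matrix.SpecialLinearGroup.coe_mul, Matrix.SpecialLinearGroup.coe_mul]
  have htr : (B : M2F).trace = -(B : M2F).trace := by
    conv_lhs => rw [hcoe]
    rw [Matrix.trace_mul_comm, ← Matrix.mul_assoc, coe_mul_self_of_trace_zero A hA, Matrix.neg_mul,
      Matrix.one_mul, Matrix.trace_neg]
  have : (2 : F) * (B : M2F).trace = 0 := by linear_combination htr
  rcases mul_eq_zero.mp this with h' | h'
  · exact absurd h' h2
  · exact h'

local notation "PSL2F" => Matrix.ProjectiveSpecialLinearGroup (Fin 2) F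

/-- The fibres of `SL₂ → PSL₂` have two elements. -/
theorem card_fiber_mk [DecidableEq PSL2F] (hodd : Odd (Fintype.card F)) (a : PSL2F) :
    (Finset.univ.filter (fun A : SL2F => (QuotientGroup.mk A : PSL2F) = a)).card = 2 := by
  classical
  have h2 : (2 : F) ≠ 0 := Cfsg.Agent.Helper5.two_ne_zero_of_odd_card hodd
  obtain ⟨A₀, rfl⟩ := QuotientGroup.mk_surjective a
  have himg : Finset.univ.filter (fun A : SL2F => (QuotientGroup.mk A : PSL2F) =
      (QuotientGroup.mk A₀ : PSL2F)) =
      (Finset.univ.filter (fun c : SL2F => c ∈ Subgroup.center SL2F)).image (fun c => A₀ * c) := by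
    ext A
    simp only [Finset.mem_filter, Finset.mem_univ, true_and, Finset.mem_image]
    constructor
    · intro h
      refine ⟨A₀⁻¹ * A, ?_, by group⟩
      exact QuotientGroup.eq.mp h.symm
    · rintro ⟨c, hc, rfl⟩
      apply Eq.symm
      apply QuotientGroup.eq.mpr
      rw [inv_mul_cancel_left]
      exact hc
  rw [himg, Finset.card_image_of_injective _ (fun c c' h => mul_left_cancel h),
    ← Fintype.card_subtype, ← Nat.card_eq_fintype_card]
  exact Cfsg.Agent.Helper5.card_center_SL2_of_two_ne_zero h2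

omit [Fintype F] [DecidableEq F] in
theorem not_scalar_of_not_mem_center (A : SL2F) (hA : A ∉ Subgroup.center SL2F) :
    ∀ r : F, (A : M2F) ≠ Matrix.scalar (Fin 2) r := by
  intro r h
  apply hA
  rw [sl2_mem_center_iff]
  refine ⟨r, ?_, h⟩
  have hdet := A.det_coe
  rw [h, Matrix.det_fin_two] at hdet
  simp only [Matrix.scalar_apply, Matrix.diagonal_apply_eq, ne_eq, Fin.isValue, zero_ne_one,
    not_false_eq_true, Matrix.diagonal_apply_ne, one_ne_zero, mul_zero, sub_zero] at hdet
  rw [pow_two]; exact hdet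

/-- The anticommuting pairs of `SL₂` cover the pairs of commuting involutions of `PSL₂` four
times. -/
theorem card_antiPairs_eq [Fintype PSL2F] [DecidableEq PSL2F] (hodd : Odd (Fintype.card F)) :
    (antiPairs F).card = 4 * (commInvPairs PSL2F).card := by
  classical
  have h2 : (2 : F) ≠ 0 := Cfsg.Agent.Helper5.two_ne_zero_of_odd_card hodd
  have hmaps : ∀ p ∈ antiPairs F,
      ((QuotientGroup.mk p.1 : PSL2F), (QuotientGroup.mk p.2 : PSL2F)) ∈ commInvPairs PSL2F := by
    intro p hp
    unfold antiPairs at hp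
    rw [Finset.mem_filter] at hp
    obtain ⟨-, hA, h⟩ := hp
    have hB := trace_eq_zero_of_inverting h2 p.1 p.2 hA h
    have hAA : (QuotientGroup.mk p.1 : PSL2F) * QuotientGroup.mk p.1 = 1 := by
      rw [← QuotientGroup.mk_mul]
      exact (QuotientGroup.eq_one_iff _).mpr (mul_self_mem_center p.1 hA)
    have hBB : (QuotientGroup.mk p.2 : PSL2F) * QuotientGroup.mk p.2 = 1 := by
      rw [← QuotientGroup.mk_mul]
      exact (QuotientGroup.eq_one_iff _).mpr (mul_self_mem_center p.2 hB)
    rw [mem_commInvPairs]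
    refine ⟨?_, ?_, hAA, hBB, ?_, ?_⟩
    · intro h1
      exact not_mem_center_of_trace_zero h2 p.1 hA ((QuotientGroup.eq_one_iff _).mp h1)
    · intro h1
      exact not_mem_center_of_trace_zero h2 p.2 hB ((QuotientGroup.eq_one_iff _).mp h1)
    · intro heq
      have hc : p.1⁻¹ * p.2 ∈ Subgroup.center SL2F := QuotientGroup.eq.mp heq
      rw [Subgroup.mem_center_iff] at hc
      have hcA := hc p.1
      apply mul_self_ne_one h2 p.1 hA
      have hB2 : p.2 = p.1 * (p.1⁻¹ * p.2) := by group
      have : p.2 * p.1 * p.2⁻¹ = p.1 := by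
        calc p.2 * p.1 * p.2⁻¹ = p.1 * ((p.1⁻¹ * p.2) * p.1) * p.2⁻¹ := by group
          _ = p.1 * (p.1 * (p.1⁻¹ * p.2)) * p.2⁻¹ := by rw [hcA]
          _ = p.1 := by group
      rw [this] at h
      calc p.1 * p.1 = p.1 * p.1⁻¹ := by rw [← h]
        _ = 1 := mul_inv_cancel _
    · have e1 : (QuotientGroup.mk p.2 : PSL2F) * QuotientGroup.mk p.1 * (QuotientGroup.mk p.2)⁻¹ =
          (QuotientGroup.mk p.1)⁻¹ := by
        rw [← QuotientGroup.mk_inv, ← QuotientGroup.mk_mul, ← QuotientGroup.mk_mul, h,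
          QuotientGroup.mk_inv]
      have e2 : (QuotientGroup.mk p.1 : PSL2F)⁻¹ = QuotientGroup.mk p.1 :=
        inv_eq_of_mul_eq_one_right hAA
      rw [e2] at e1
      exact (mul_inv_eq_iff_eq_mul.mp e1).symm
  rw [Finset.card_eq_sum_card_fiberwise hmaps]
  have hfiber : ∀ q ∈ commInvPairs PSL2F,
      ((antiPairs F).filter (fun p : SL2F × SL2F =>
        ((QuotientGroup.mk p.1 : PSL2F), (QuotientGroup.mk p.2 : PSL2F)) = q)).card = 4 := by
    intro q hq
    rw [mem_commInvPairs] at hq
    obtain ⟨ha1, hb1, haa, hbb, hne, hab⟩ := hq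
    have hlift : ∀ A : SL2F, ∀ a : PSL2F, a ≠ 1 → a * a = 1 → (QuotientGroup.mk A : PSL2F) = a →
        (A : M2F).trace = 0 ∧ A ∉ Subgroup.center SL2F := by
      intro A a h1 h11 hAa
      have hnc : A ∉ Subgroup.center SL2F := by
        intro hc
        apply h1
        rw [← hAa]
        exact (QuotientGroup.eq_one_iff _).mpr hc
      refine ⟨?_, hnc⟩
      apply sl2_trace_eq_zero_of_sq_mem_center A _ hnc
      apply (QuotientGroup.eq_one_iff _).mp
      rw [pow_two, QuotientGroup.mk_mul, hAa, h11]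
    have hfib : (antiPairs F).filter (fun p : SL2F × SL2F =>
        ((QuotientGroup.mk p.1 : PSL2F), (QuotientGroup.mk p.2 : PSL2F)) = q) =
        (Finset.univ.filter (fun A : SL2F => (QuotientGroup.mk A : PSL2F) = q.1)) ×ˢ
        (Finset.univ.filter (fun B : SL2F => (QuotientGroup.mk B : PSL2F) = q.2)) := by
      ext p
      rw [Finset.mem_filter, Finset.mem_product, Finset.mem_filter, Finset.mem_filter]
      constructor
      · rintro ⟨-, hpq⟩
        rw [← hpq]
        exact ⟨⟨Finset.mem_univ _, rfl⟩, ⟨Finset.mem_univ _, rfl⟩⟩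
      · rintro ⟨⟨-, hA⟩, ⟨-, hB⟩⟩
        refine ⟨?_, Prod.ext hA hB⟩
        obtain ⟨hAt, hAnc⟩ := hlift p.1 q.1 ha1 haa hA
        obtain ⟨hBt, hBnc⟩ := hlift p.2 q.2 hb1 hbb hB
        unfold antiPairs
        rw [Finset.mem_filter]
        refine ⟨Finset.mem_univ _, hAt, ?_⟩
        have hYt : ((p.2 * p.1 * p.2⁻¹ : SL2F) : M2F).trace = 0 := by
          rw [sl2_trace_conj]; exact hAt
        have hYmk : (QuotientGroup.mk (p.2 * p.1 * p.2⁻¹) : PSL2F) = QuotientGroup.mk p.1 := by
          rw [QuotientGroup.mk_mul, QuotientGroup.mk_mul, QuotientGroup.mk_inv, hA, hB, ← hab,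
            mul_assoc, mul_inv_cancel, mul_one]
        have hc : p.1⁻¹ * (p.2 * p.1 * p.2⁻¹) ∈ Subgroup.center SL2F :=
          QuotientGroup.eq.mp hYmk.symm
        rw [Subgroup.mem_center_iff] at hc
        have hYmem : p.2 * p.1 * p.2⁻¹ ∈ Subgroup.centralizer ({p.1} : Set SL2F) := by
          rw [Subgroup.mem_centralizer_singleton_iff]
          have hcA := hc p.1
          calc p.2 * p.1 * p.2⁻¹ * p.1 = p.1 * ((p.1⁻¹ * (p.2 * p.1 * p.2⁻¹)) * p.1) := by group
            _ = p.1 * (p.1 * (p.1⁻¹ * (p.2 * p.1 * p.2⁻¹))) := by rw [hcA]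
            _ = p.1 * (p.2 * p.1 * p.2⁻¹) := by group
        rcases Cfsg.Agent.S0809.eq_or_eq_inv_of_mem_centralizer_of_trace_zero h2 p.1 _ hAt hYt
          (not_scalar_of_not_mem_center p.1 hAnc) hYmem with h | h
        · exfalso
          have hBmem : p.2 ∈ Subgroup.centralizer ({p.1} : Set SL2F) := by
            rw [Subgroup.mem_centralizer_singleton_iff]
            calc p.2 * p.1 = (p.2 * p.1 * p.2⁻¹) * p.2 := by group
              _ = p.1 * p.2 := by rw [h]
          rcases Cfsg.Agent.S0809.eq_or_eq_inv_of_mem_centralizer_of_trace_zero h2 p.1 p.2 hAt hBt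
            (not_scalar_of_not_mem_center p.1 hAnc) hBmem with h' | h'
          · apply hne
            rw [← hA, ← hB, h']
          · apply hne
            rw [← hA, ← hB, h', QuotientGroup.mk_inv]
            exact (inv_eq_of_mul_eq_one_right (by rw [hA]; exact haa)).symm
        · exact h
    rw [hfib, Finset.card_product, card_fiber_mk hodd q.1, card_fiber_mk hodd q.2]
  rw [Finset.sum_congr rfl hfiber, Finset.sum_const, smul_eq_mul, mul_comm]

end lib

/-- For q odd, twelve times the number of Klein four-subgroups of PSL_2(q) equals the order of PSL_2(q). -/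
theorem result {F : Type*} [Field F] [Fintype F] {q : ℕ} (hF : Fintype.card F = q) (hodd : Odd q) : 12 * Nat.card {V : Subgroup (Matrix.ProjectiveSpecialLinearGroup (Fin 2) F) // IsKleinFour V} = Nat.card (Matrix.ProjectiveSpecialLinearGroup (Fin 2) F) := by
  classical
  subst hF
  let _ : Fintype (Matrix.ProjectiveSpecialLinearGroup (Fin 2) F) := Fintype.ofFinite _
  have h2 : (2 : F) ≠ 0 := Cfsg.Agent.Helper5.two_ne_zero_of_odd_card hodd
  have h6 := six_mul_card_kleinFour (G := Matrix.ProjectiveSpecialLinearGroup (Fin 2) F)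
  have h4 := card_antiPairs_eq (F := F) hodd
  have hS := card_antiPairs (F := F) hodd
  have hq : Nat.card (Matrix.SpecialLinearGroup (Fin 2) F) =
      Nat.card (Matrix.ProjectiveSpecialLinearGroup (Fin 2) F) *
        Nat.card (Subgroup.center (Matrix.SpecialLinearGroup (Fin 2) F)) :=
    Subgroup.card_eq_card_quotient_mul_card_subgroup _
  rw [Cfsg.Agent.Helper5.card_center_SL2_of_two_ne_zero h2] at hq
  omega

end Cfsg.Agent.S0807
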