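-- Statement S0808: conjugacy classes of Klein four-subgroups of PSL_2(q), q odd.
import Cfsg.Statements.S0808
import Cfsg.Agent.S0807
import Cfsg.Agent.Helper41.PSL2Klein
import Cfsg.Agent.Helper41.KleinClasses

set_option autoImplicit false
open Cfsg

namespace Cfsg.Agent.S0808

open Cfsg.Agent.Helper41

/-- Conjugacy classes of four-groups in PSL_2(q), q odd: if q ≡ 3 or 5 (mod 8) all Klein four-subgroups are conjugate; if q ≡ 1 or 7 (mod 8) there are two Klein four-subgroups which are not conjugate, and every Klein four-subgroup is conjugate to one of them. -/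
theorem result {F : Type*} [Field F] [Fintype F] {q : ℕ} (hF : Fintype.card F = q) (hodd : Odd q) : ((q % 8 = 3 ∨ q % 8 = 5) → ∀ V W : Subgroup (Matrix.ProjectiveSpecialLinearGroup (Fin 2) F), IsKleinFour V → IsKleinFour W → ∃ g : Matrix.ProjectiveSpecialLinearGroup (Fin 2) F, W = V.map (MulAut.conj g).toMonoidHom) ∧ ((q % 8 = 1 ∨ q % 8 = 7) → ∃ V₁ V₂ : Subgroup (Matrix.ProjectiveSpecialLinearGroup (Fin 2) F), IsKleinFour V₁ ∧ IsKleinFour V₂ ∧ (¬ ∃ g : Matrix.ProjectiveSpecialLinearGroup (Fin 2) F, V₂ = V₁.map (MulAut.conj g).toMonoidHom) ∧ ∀ W : Subgroup (Matrix.ProjectiveSpecialLinearGroup (Fin 2) F), IsKleinFour W → (∃ g : Matrix.ProjectiveSpecialLinearGroup (Fin 2) F, W = V₁.map (MulAut.conj g).toMonoidHom) ∨ (∃ g : Matrix.ProjectiveSpecialLinearGroup (Fin 2) F, W = V₂.map (MulAut.conj g).toMonoidHom)) := by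
  subst hF
  have hcount := Cfsg.Agent.S0807.result (F := F) rfl hodd
  have h2 : (2 : F) ≠ 0 := Cfsg.Agent.Helper5.two_ne_zero_of_odd_card hodd
  have hP : ∀ (V : Subgroup (Matrix.ProjectiveSpecialLinearGroup (Fin 2) F))
      (g : Matrix.ProjectiveSpecialLinearGroup (Fin 2) F), IsKleinFour V →
      IsKleinFour (V.map (MulAut.conj g).toMonoidHom) := fun V g hV => isKleinFour_map_conj V hV g
  constructor
  · intro h8 V W hV hW
    exact conj_of_card_normalizer (fun V => IsKleinFour V) hP 12 (by norm_num) hcount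
      (fun V hV => card_normalizer_of_isKleinFour_of_three_or_five h8 V hV) V W hV hW
  · intro h8
    apply two_classes_of_card_normalizer (fun V => IsKleinFour V) hP 12 (by norm_num) hcount
      (fun V hV => card_normalizer_of_isKleinFour_of_one_or_seven h8 V hV)
    -- existence of a Klein four-subgroup
    obtain ⟨I, J, hq⟩ := exists_quatPair (F := F) (Nat.odd_iff.mp hodd)
    obtain ⟨w, hw⟩ := hq.exists_kleinData h2
    exact ⟨hw.V, hw.isKleinFour_V⟩

end Cfsg.Agent.S0808
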