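import Mathlib
import Cfsg.Statements.S0804
import Cfsg.Agent.Helper5.PSL2
import Cfsg.Agent.Helper56.SL25Pres

set_option autoImplicit false
open Cfsg

namespace Cfsg.Agent.S0804

open Matrix

/-- a group containing `x`, `y` with `x³ = y⁵ = (xy)² = 1`, `y ≠ 1`, contains a copy of `A₅` -/
theorem exists_A5_of_rel {G : Type*} [Group G] (x y : G) (hx : x ^ 3 = 1) (hy : y ^ 5 = 1)
    (hxy : (x * y) ^ 2 = 1) (hne : y ≠ 1) :
    ∃ H : Subgroup G, Nonempty (H ≃* alternatingGroup (Fin 5)) := by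
  obtain ⟨e⟩ := Cfsg.Agent.S3377.result
  let ψ := Cfsg.Agent.Helper56.SL25Pres.hom5 x y hx hy hxy
  let φ : alternatingGroup (Fin 5) →* G := ψ.comp e.symm.toMonoidHom
  have hinj : Function.Injective φ := by
    rw [← MonoidHom.ker_eq_bot_iff]
    rcases (φ.normal_ker).eq_bot_or_eq_top with h | h
    · exact h
    · exfalso
      apply hne
      have h1 : φ (e (PresentedGroup.of 1)) = 1 := by
        rw [← MonoidHom.mem_ker, h]
        trivial
      have h2 : φ (e (PresentedGroup.of 1)) = y := by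
        change ψ (e.symm (e (PresentedGroup.of 1))) = y
        rw [MulEquiv.symm_apply_apply]
        exact Cfsg.Agent.Helper56.SL25Pres.hom5_b x y hx hy hxy
      rw [← h2, h1]
  exact ⟨φ.range, ⟨(MonoidHom.ofInjective hinj).symm⟩⟩

section field
variable {F : Type*} [Field F]

/-- Cayley–Hamilton for `2 × 2` matrices -/
theorem ch2 (M : Matrix (Fin 2) (Fin 2) F) :
    M * M = (M 0 0 + M 1 1) • M - M.det • (1 : Matrix (Fin 2) (Fin 2) F) := by
  ext i j
  fin_cases i <;> fin_cases j <;>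
    simp [Matrix.mul_apply, Fin.sum_univ_two, Matrix.det_fin_two] <;> ring

theorem ch2' (M : Matrix (Fin 2) (Fin 2) F) (hdet : M.det = 1) (τ : F) (hτ : M 0 0 + M 1 1 = τ) :
    M * M = τ • M - 1 := by
  rw [ch2 M, hdet, hτ, one_smul]

theorem step (M : Matrix (Fin 2) (Fin 2) F) (τ α β : F) (hM : M * M = τ • M - 1)
    (N : Matrix (Fin 2) (Fin 2) F) (hN : N = α • M - β • (1 : Matrix (Fin 2) (Fin 2) F)) :
    N * M = (α * τ - β) • M - α • (1 : Matrix (Fin 2) (Fin 2) F) := by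
  subst hN
  rw [sub_mul, smul_mul_assoc, hM, smul_mul_assoc, one_mul]
  module

theorem pow_formulas (M : Matrix (Fin 2) (Fin 2) F) (τ : F) (hM : M * M = τ • M - 1) :
    M ^ 2 = τ • M - (1 : F) • (1 : Matrix (Fin 2) (Fin 2) F) ∧
    M ^ 3 = (τ * τ - 1) • M - τ • (1 : Matrix (Fin 2) (Fin 2) F) ∧
    M ^ 5 = ((((τ * τ - 1) * τ - τ) * τ - (τ * τ - 1))) • M -
      ((τ * τ - 1) * τ - τ) • (1 : Matrix (Fin 2) (Fin 2) F) := by
  have h2 : M ^ 2 = τ • M - (1 : F) • (1 : Matrix (Fin 2) (Fin 2) F) := by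
    rw [pow_two, hM, one_smul]
  have h3 : M ^ 3 = (τ * τ - 1) • M - τ • (1 : Matrix (Fin 2) (Fin 2) F) := by
    rw [pow_succ, step M τ τ 1 hM _ h2]
  have h4 : M ^ 4 = ((τ * τ - 1) * τ - τ) • M - (τ * τ - 1) • (1 : Matrix (Fin 2) (Fin 2) F) := by
    rw [pow_succ, step M τ _ _ hM _ h3]
  have h5 : M ^ 5 = ((((τ * τ - 1) * τ - τ) * τ - (τ * τ - 1))) • M -
      ((τ * τ - 1) * τ - τ) • (1 : Matrix (Fin 2) (Fin 2) F) := by
    rw [pow_succ, step M τ _ _ hM _ h4]
  exact ⟨h2, h3, h5⟩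

/-- the trace of an element of order `5` of `SL₂(F)` is a root of `τ² + τ - 1` -/
theorem trace_of_order_five (y : SpecialLinearGroup (Fin 2) F) (hy : orderOf y = 5) :
    (y.1 0 0 + y.1 1 1) ^ 2 + (y.1 0 0 + y.1 1 1) = 1 := by
  set M : Matrix (Fin 2) (Fin 2) F := y.1 with hMdef
  set τ : F := M 0 0 + M 1 1 with hτdef
  have hM : M * M = τ • M - 1 := ch2' M y.2 τ rfl
  obtain ⟨h2, -, h5⟩ := pow_formulas M τ hM
  have hy5 : M ^ 5 = 1 := by
    have := pow_orderOf_eq_one y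
    rw [hy] at this
    have h := congrArg (fun z : SpecialLinearGroup (Fin 2) F => (z : Matrix (Fin 2) (Fin 2) F)) this
    simpa using h
  set A : F := (((τ * τ - 1) * τ - τ) * τ - (τ * τ - 1)) with hA
  set B : F := ((τ * τ - 1) * τ - τ) with hB
  rw [hy5] at h5
  -- `1 = A • M - B • 1`
  have e00 : 1 = A * M 0 0 - B := by
    have := congrFun (congrFun h5 0) 0
    simpa using this
  have e11 : 1 = A * M 1 1 - B := by
    have := congrFun (congrFun h5 1) 1
    simpa using this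
  have e01 : 0 = A * M 0 1 := by
    have := congrFun (congrFun h5 0) 1
    simpa using this
  have e10 : 0 = A * M 1 0 := by
    have := congrFun (congrFun h5 1) 0
    simpa using this
  have hA0 : A = 0 := by
    by_contra hne
    have m01 : M 0 1 = 0 := by
      rcases mul_eq_zero.mp e01.symm with h | h
      · exact absurd h hne
      · exact h
    have m10 : M 1 0 = 0 := by
      rcases mul_eq_zero.mp e10.symm with h | h
      · exact absurd h hne
      · exact h
    have m00 : M 0 0 = M 1 1 := by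
      have : A * (M 0 0 - M 1 1) = 0 := by linear_combination e11 - e00
      rcases mul_eq_zero.mp this with h | h
      · exact absurd h hne
      · exact sub_eq_zero.mp h
    have hdet : M 0 0 * M 1 1 - M 0 1 * M 1 0 = 1 := by
      have := y.2
      rwa [Matrix.det_fin_two] at this
    -- `M² = 1`
    have hM2 : M ^ 2 = 1 := by
      rw [pow_two]
      ext i j
      fin_cases i <;> fin_cases j <;>
        simp [Matrix.mul_apply, Fin.sum_univ_two, m01, m10]
      · rw [m01, m10, mul_zero, sub_zero, ← m00] at hdet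
        exact hdet
      · rw [m01, m10, mul_zero, sub_zero, m00] at hdet
        exact hdet
    have hM1 : M = 1 := by
      have : M ^ 5 = M := by
        rw [show 5 = 2 * 2 + 1 from rfl, pow_succ, pow_mul, hM2, one_pow, one_mul]
      rw [← this, hy5]
    have hy1 : y = 1 := Subtype.ext hM1
    rw [hy1, orderOf_one] at hy
    omega
  have hB1 : B = -1 := by
    rw [hA0, zero_mul, zero_sub] at e00
    linear_combination e00
  -- now `τ² + τ - 1 = 0`
  have hAf : (τ ^ 2 + τ - 1) * (τ ^ 2 - τ - 1) = 0 := by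
    have : (τ ^ 2 + τ - 1) * (τ ^ 2 - τ - 1) = A := by rw [hA]; ring
    rw [this, hA0]
  have hBf : (τ - 1) * (τ ^ 2 + τ - 1) = 0 := by
    have : (τ - 1) * (τ ^ 2 + τ - 1) = B + 1 := by rw [hB]; ring
    rw [this, hB1]; ring
  by_contra hs
  have hs' : τ ^ 2 + τ - 1 ≠ 0 := fun h => hs (by linear_combination h)
  have h1 : τ - 1 = 0 := (mul_eq_zero.mp hBf).resolve_right hs'
  have h2' : τ ^ 2 - τ - 1 = 0 := (mul_eq_zero.mp hAf).resolve_left hs'
  have hτ1 : τ = 1 := by linear_combination h1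
  rw [hτ1] at h2'
  have : (1 : F) = 0 := by linear_combination -h2'
  exact one_ne_zero this

/-- a point on the conic -/
theorem exists_conic [Fintype F] (τ : F) (hτ : τ ^ 2 + τ = 1) :
    ∃ b d : F, b ^ 2 + τ * b * d + d ^ 2 + d + 1 = 0 := by
  by_cases h2 : (2 : F) = 0
  · exact ⟨1, 0, by linear_combination h2⟩
  by_cases h4 : τ ^ 2 = 4
  · refine ⟨1, -1, ?_⟩
    linear_combination (2 - τ) * hτ + (τ - 1) * h4
  · have hchar : ringChar F ≠ 2 := by
      intro h
      apply h2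
      have := (ringChar.spec F 2).mpr (by rw [h])
      exact_mod_cast this
    have hodd : Fintype.card F % 2 = 1 := FiniteField.odd_card_of_char_ne_two hchar
    obtain ⟨c, hc⟩ : ∃ c : F, 2 * c = 1 := ⟨2⁻¹, mul_inv_cancel₀ h2⟩
    have ha0 : 1 - τ ^ 2 * c ^ 2 ≠ 0 := by
      intro h
      apply h4
      linear_combination (-4) * h - τ ^ 2 * (1 + 2 * c) * hc
    obtain ⟨u, d, hud⟩ := FiniteField.exists_root_sum_quadratic
      (f := (Polynomial.X : Polynomial F) ^ 2)
      (g := Polynomial.C (1 - τ ^ 2 * c ^ 2) * Polynomial.X ^ 2 + Polynomial.C 1 * Polynomial.X +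
        Polynomial.C 1)
      (Polynomial.degree_X_pow 2) (Polynomial.degree_quadratic ha0) hodd
    simp only [Polynomial.eval_pow, Polynomial.eval_X, Polynomial.eval_add, Polynomial.eval_mul,
      Polynomial.eval_C] at hud
    refine ⟨u - τ * d * c, d, ?_⟩
    linear_combination hud + (τ ^ 2 * d ^ 2 * c - τ * u * d) * hc

/-- the generator of order `5` -/
def Ymat (τ : F) : SpecialLinearGroup (Fin 2) F :=
  ⟨!![0, -1; 1, τ], by rw [Matrix.det_fin_two_of]; ring⟩

/-- the generator of order `3` -/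
def Xmat (τ b d : F) (h : b ^ 2 + τ * b * d + d ^ 2 + d + 1 = 0) : SpecialLinearGroup (Fin 2) F :=
  ⟨!![-1 - d, b; b + d * τ, d], by rw [Matrix.det_fin_two_of]; linear_combination -h⟩

theorem Ymat_pow (τ : F) (hτ : τ ^ 2 + τ = 1) : Ymat τ ^ 5 = 1 := by
  have hM : (Ymat τ).1 * (Ymat τ).1 = τ • (Ymat τ).1 - 1 := ch2' (Ymat τ).1 (Ymat τ).2 τ (by
    change (0 : F) + τ = τ
    ring)
  obtain ⟨-, -, h5⟩ := pow_formulas (Ymat τ).1 τ hM
  have hA : (((τ * τ - 1) * τ - τ) * τ - (τ * τ - 1)) = 0 := by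
    linear_combination (τ ^ 2 - τ - 1) * hτ
  have hB : ((τ * τ - 1) * τ - τ) = -1 := by
    linear_combination (τ - 1) * hτ
  have key : ((Ymat τ ^ 5 : SpecialLinearGroup (Fin 2) F) : Matrix (Fin 2) (Fin 2) F) =
      ((1 : SpecialLinearGroup (Fin 2) F) : Matrix (Fin 2) (Fin 2) F) := by
    rw [Matrix.SpecialLinearGroup.coe_pow, Matrix.SpecialLinearGroup.coe_one, h5, hA, hB]
    simp
  exact Subtype.ext key

theorem Xmat_pow (τ b d : F) (h : b ^ 2 + τ * b * d + d ^ 2 + d + 1 = 0) :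
    Xmat τ b d h ^ 3 = 1 := by
  have hM : (Xmat τ b d h).1 * (Xmat τ b d h).1 = (-1 : F) • (Xmat τ b d h).1 - 1 :=
    ch2' (Xmat τ b d h).1 (Xmat τ b d h).2 (-1) (by
      change (-1 - d) + d = -1
      ring)
  obtain ⟨-, h3, -⟩ := pow_formulas (Xmat τ b d h).1 (-1) hM
  have key : ((Xmat τ b d h ^ 3 : SpecialLinearGroup (Fin 2) F) : Matrix (Fin 2) (Fin 2) F) =
      ((1 : SpecialLinearGroup (Fin 2) F) : Matrix (Fin 2) (Fin 2) F) := by
    rw [Matrix.SpecialLinearGroup.coe_pow, Matrix.SpecialLinearGroup.coe_one, h3]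
    simp
  exact Subtype.ext key

theorem XY_sq (τ b d : F) (h : b ^ 2 + τ * b * d + d ^ 2 + d + 1 = 0) :
    (((Xmat τ b d h * Ymat τ) ^ 2 : SpecialLinearGroup (Fin 2) F) : Matrix (Fin 2) (Fin 2) F) =
      -1 := by
  have htr : (Xmat τ b d h * Ymat τ).1 0 0 + (Xmat τ b d h * Ymat τ).1 1 1 = 0 := by
    have : (Xmat τ b d h * Ymat τ).1 =
        (!![-1 - d, b; b + d * τ, d] * !![0, -1; 1, τ] : Matrix (Fin 2) (Fin 2) F) := rfl
    rw [this]
    simp [Matrix.mul_apply, Fin.sum_univ_two]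
  have hM := ch2' (Xmat τ b d h * Ymat τ).1 (Xmat τ b d h * Ymat τ).2 0 htr
  rw [Matrix.SpecialLinearGroup.coe_pow, pow_two, hM]
  simp

theorem Ymat_not_mem_center (τ : F) : Ymat τ ∉ Subgroup.center (SpecialLinearGroup (Fin 2) F) := by
  rw [Matrix.SpecialLinearGroup.mem_center_iff]
  rintro ⟨r, -, hr⟩
  have h1 := congrFun (congrFun hr 1) 0
  have h2 : (Ymat τ).1 1 0 = 1 := rfl
  change (Matrix.scalar (Fin 2) r) 1 0 = (Ymat τ).1 1 0 at h1
  rw [h2] at h1
  simp at h1

theorem XY_sq_mem_center (τ b d : F) (h : b ^ 2 + τ * b * d + d ^ 2 + d + 1 = 0) :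
    (Xmat τ b d h * Ymat τ) ^ 2 ∈ Subgroup.center (SpecialLinearGroup (Fin 2) F) := by
  rw [Matrix.SpecialLinearGroup.mem_center_iff]
  refine ⟨-1, by simp, ?_⟩
  rw [XY_sq]
  ext i j
  fin_cases i <;> fin_cases j <;> simp

end field

/-- PSL_2(q) has a subgroup isomorphic to A_5 iff 5 ∣ q(q² − 1). -/
theorem result {F : Type*} [Field F] [Fintype F] {q : ℕ} (hF : Fintype.card F = q) : (∃ H : Subgroup (Matrix.ProjectiveSpecialLinearGroup (Fin 2) F), Nonempty (H ≃* alternatingGroup (Fin 5))) ↔ 5 ∣ q * (q ^ 2 - 1) := by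
  subst hF
  constructor
  · rintro ⟨H, ⟨e⟩⟩
    have h60 : Nat.card H = 60 := by
      rw [Nat.card_congr e.toEquiv, Cfsg.Agent.S3377.card_A5]
    have h1 : Nat.card H ∣ Nat.card (Matrix.ProjectiveSpecialLinearGroup (Fin 2) F) :=
      Subgroup.card_subgroup_dvd_card H
    have h2 : Nat.card (Matrix.ProjectiveSpecialLinearGroup (Fin 2) F) ∣
        Fintype.card F * (Fintype.card F ^ 2 - 1) :=
      Dvd.intro _ (Cfsg.Agent.Helper5.card_PSL2_mul (F := F))
    rw [h60] at h1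
    exact (show 5 ∣ 60 by norm_num).trans (h1.trans h2)
  · intro h5
    rw [← Cfsg.Agent.Helper5.card_SL2 (F := F)] at h5
    have : Fact (Nat.Prime 5) := ⟨by norm_num⟩
    obtain ⟨y0, hy0⟩ := exists_prime_orderOf_dvd_card' 5 h5
    have hτ := trace_of_order_five y0 hy0
    generalize y0.1 0 0 + y0.1 1 1 = τ at hτ
    obtain ⟨b, d, hbd⟩ := exists_conic τ hτ
    -- pass to `PSL₂`
    have hx : (QuotientGroup.mk (Xmat τ b d hbd) :
        Matrix.ProjectiveSpecialLinearGroup (Fin 2) F) ^ 3 = 1 := by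
      rw [← QuotientGroup.mk_pow, Xmat_pow, QuotientGroup.mk_one]
    have hy : (QuotientGroup.mk (Ymat τ) :
        Matrix.ProjectiveSpecialLinearGroup (Fin 2) F) ^ 5 = 1 := by
      rw [← QuotientGroup.mk_pow, Ymat_pow τ hτ, QuotientGroup.mk_one]
    have hxy : ((QuotientGroup.mk (Xmat τ b d hbd) :
        Matrix.ProjectiveSpecialLinearGroup (Fin 2) F) * QuotientGroup.mk (Ymat τ)) ^ 2 = 1 := by
      rw [← QuotientGroup.mk_mul, ← QuotientGroup.mk_pow, QuotientGroup.eq_one_iff]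
      exact XY_sq_mem_center τ b d hbd
    have hne : (QuotientGroup.mk (Ymat τ) :
        Matrix.ProjectiveSpecialLinearGroup (Fin 2) F) ≠ 1 := by
      rw [Ne, QuotientGroup.eq_one_iff]
      exact Ymat_not_mem_center τ
    exact exists_A5_of_rel _ _ hx hy hxy hne

end Cfsg.Agent.S0804
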