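import Cfsg.Statements.S0228
import Mathlib


set_option autoImplicit false
open Cfsg

namespace Cfsg.Agent.S0228

/-- A group of order 12 in which no involution is central is isomorphic to the alternating group on four letters. -/
theorem result {G : Type*} [Group G] [Finite G] (hG : Nat.card G = 12) (hz : ∀ z : G, orderOf z = 2 → z ∉ Subgroup.center G) : Nonempty (G ≃* alternatingGroup (Fin 4)) := by
  classical
  have h3 : Fact (Nat.Prime 3) := ⟨by norm_num⟩
  have h2 : Fact (Nat.Prime 2) := ⟨by norm_num⟩
  -- Sylow 3-subgroups have order 3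
  have hcard3 : ∀ P : Sylow 3 G, Nat.card P = 3 := by
    intro P
    obtain ⟨k, hk⟩ := IsPGroup.iff_card.mp P.isPGroup'
    have hdvd : Nat.card P ∣ 12 := hG ▸ (P : Subgroup G).card_subgroup_dvd_card
    have hidx := P.not_dvd_index
    have hmul := (P : Subgroup G).card_mul_index
    rw [hG] at hmul
    rw [hk] at hdvd hmul
    have hk1 : k ≤ 1 := by
      by_contra hcon
      have : 3 ^ 2 ∣ 3 ^ k := pow_dvd_pow 3 (by omega)
      have := dvd_trans this hdvd
      norm_num at this
    rcases Nat.eq_zero_or_pos k with h0 | h0
    · exfalso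
      rw [h0, pow_zero, one_mul] at hmul
      apply hidx
      rw [hmul]; norm_num
    · have : k = 1 := by omega
      rw [hk, this, pow_one]
  have hcard2 : ∀ Q : Sylow 2 G, Nat.card Q = 4 := by
    intro Q
    obtain ⟨k, hk⟩ := IsPGroup.iff_card.mp Q.isPGroup'
    have hdvd : Nat.card Q ∣ 12 := hG ▸ (Q : Subgroup G).card_subgroup_dvd_card
    have hidx := Q.not_dvd_index
    have hmul := (Q : Subgroup G).card_mul_index
    rw [hG] at hmul
    rw [hk] at hdvd hmul
    have hk1 : k ≤ 2 := by
      by_contra hcon
      have : 2 ^ 3 ∣ 2 ^ k := pow_dvd_pow 2 (by omega)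
      have := dvd_trans this hdvd
      norm_num at this
    interval_cases k
    · exfalso
      rw [pow_zero, one_mul] at hmul
      apply hidx
      rw [hmul]; norm_num
    · exfalso
      have : (Q : Subgroup G).index = 6 := by omega
      apply hidx
      rw [this]; norm_num
    · rw [hk]; norm_num
  have P : Sylow 3 G := default
  have hn3mod := card_sylow_modEq_one 3 G
  have hn3dvd := P.card_dvd_index
  have hPidx : (P : Subgroup G).index = 4 := by
    have hmul := (P : Subgroup G).card_mul_index
    rw [hG, hcard3 P] at hmul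
    omega
  rw [hPidx] at hn3dvd
  have hn3 : Nat.card (Sylow 3 G) = 1 ∨ Nat.card (Sylow 3 G) = 4 := by
    have hle := Nat.le_of_dvd (by norm_num) hn3dvd
    have hpos : 0 < Nat.card (Sylow 3 G) := Nat.card_pos
    unfold Nat.ModEq at hn3mod
    interval_cases h : Nat.card (Sylow 3 G)
    · left; rfl
    · norm_num at hn3mod
    · norm_num at hn3dvd
    · right; rfl
  rcases hn3 with hn3 | hn3
  · -- normal Sylow 3-subgroup: there is a central involution
    exfalso
    have hnorm : (P : Subgroup G).Normal := by
      rw [← Subgroup.normalizer_eq_top_iff, ← Subgroup.index_eq_one]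
      have := P.card_eq_index_normalizer
      rw [hn3] at this
      exact this.symm
    have hcyc : IsCyclic (P : Subgroup G) := isCyclic_of_prime_card (hcard3 P)
    have haut : Nat.card (MulAut (P : Subgroup G)) = 2 := by
      rw [IsCyclic.card_mulAut, hcard3 P]
      decide
    let ψ : G →* MulAut (P : Subgroup G) := MulAut.conjNormal
    have hidx : ψ.ker.index ∣ 2 := by
      rw [Subgroup.index_ker, ← haut]
      exact Subgroup.card_subgroup_dvd_card _
    have hmul := ψ.ker.card_mul_index
    rw [hG] at hmul
    have heven : 2 ∣ Nat.card ψ.ker := by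
      have : ψ.ker.index = 1 ∨ ψ.ker.index = 2 := by
        have := Nat.le_of_dvd (by norm_num) hidx
        have hpos : 0 < ψ.ker.index := Nat.pos_of_ne_zero Subgroup.index_ne_zero_of_finite
        omega
      rcases this with h | h <;> rw [h] at hmul <;> omega
    obtain ⟨z, hzord⟩ := exists_prime_orderOf_dvd_card' 2 heven
    have hz2 : orderOf (z : G) = 2 := by rw [Subgroup.orderOf_coe]; exact hzord
    have hzP : ∀ x ∈ (P : Subgroup G), (z : G) * x = x * z := by
      intro x hx
      have hk : ψ z = 1 := MonoidHom.mem_ker.mp z.2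
      have := congrArg (fun f : MulAut (P : Subgroup G) => ((f ⟨x, hx⟩ : (P : Subgroup G)) : G)) hk
      simp only [ψ, MulAut.conjNormal_apply, MulAut.one_apply] at this
      calc (z : G) * x = ((z : G) * x * (z : G)⁻¹) * z := by group
        _ = x * z := by rw [this]
    -- z lies in a Sylow 2-subgroup, which is abelian
    have hzp : IsPGroup 2 (Subgroup.zpowers (z : G)) := by
      apply IsPGroup.of_card (n := 1)
      rw [Nat.card_zpowers, hz2, pow_one]
    obtain ⟨Q, hQ⟩ := hzp.exists_le_sylow
    have hzQ : (z : G) ∈ Q := hQ (Subgroup.mem_zpowers _)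
    have hQcomm : IsMulCommutative (Q : Subgroup G) :=
      IsPGroup.isMulCommutative_of_card_eq_prime_sq (p := 2) (G := (Q : Subgroup G))
        (by rw [hcard2 Q]; norm_num)
    have hzQ' : ∀ x ∈ (Q : Subgroup G), (z : G) * x = x * z := by
      intro x hx
      have := mul_comm' (⟨z, hzQ⟩ : (Q : Subgroup G)) ⟨x, hx⟩
      exact congrArg Subtype.val this
    -- the centralizer of z is everything
    have hPC : (P : Subgroup G) ≤ Subgroup.centralizer {(z : G)} := by
      intro x hx
      rw [Subgroup.mem_centralizer_iff]
      intro y hy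
      rw [Set.mem_singleton_iff] at hy
      subst hy
      exact hzP x hx
    have hQC : (Q : Subgroup G) ≤ Subgroup.centralizer {(z : G)} := by
      intro x hx
      rw [Subgroup.mem_centralizer_iff]
      intro y hy
      rw [Set.mem_singleton_iff] at hy
      subst hy
      exact hzQ' x hx
    have hd3 : 3 ∣ Nat.card (Subgroup.centralizer {(z : G)}) := by
      have := Subgroup.card_dvd_of_le hPC
      rwa [hcard3 P] at this
    have hd4 : 4 ∣ Nat.card (Subgroup.centralizer {(z : G)}) := by
      have := Subgroup.card_dvd_of_le hQC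
      rwa [hcard2 Q] at this
    have hd12 : 12 ∣ Nat.card (Subgroup.centralizer {(z : G)}) := by
      have : Nat.Coprime 3 4 := by norm_num
      exact this.mul_dvd_of_dvd_of_dvd hd3 hd4
    have htop : Subgroup.centralizer {(z : G)} = ⊤ := by
      apply (Subgroup.card_eq_iff_eq_top _).mp
      have hle := Nat.le_of_dvd Nat.card_pos ((Subgroup.centralizer {(z : G)}).card_subgroup_dvd_card)
      have hge := Nat.le_of_dvd Nat.card_pos hd12
      omega
    apply hz z hz2
    rw [Subgroup.mem_center_iff]
    intro g
    have hg : g ∈ Subgroup.centralizer {(z : G)} := by rw [htop]; exact Subgroup.mem_top g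
    rw [Subgroup.mem_centralizer_iff] at hg
    exact (hg z rfl).symm
  · -- four Sylow 3-subgroups: G embeds in Sym(4) with image of index 2
    have := Fintype.ofFinite (Sylow 3 G)
    have hnorm : ∀ Q : Sylow 3 G, Subgroup.normalizer (Q : Set G) = (Q : Subgroup G) := by
      intro Q
      symm
      apply Subgroup.eq_of_le_of_card_ge Subgroup.le_normalizer
      have hidx : (Subgroup.normalizer ((Q : Subgroup G) : Set G)).index = 4 := by
        rw [← hn3]; exact Q.card_eq_index_normalizer.symm
      have hmul := (Subgroup.normalizer ((Q : Subgroup G) : Set G)).card_mul_index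
      rw [hG, hidx] at hmul
      have hle : Nat.card (Subgroup.normalizer ((Q : Subgroup G) : Set G)) ≤
          Nat.card (Q : Subgroup G) := by rw [hcard3 Q]; omega
      exact hle
    let φ : G →* Equiv.Perm (Sylow 3 G) := MulAction.toPermHom G (Sylow 3 G)
    have hinj : Function.Injective φ := by
      rw [← MonoidHom.ker_eq_bot_iff, Subgroup.eq_bot_iff_forall]
      intro g hg
      rw [MonoidHom.mem_ker] at hg
      have hgQ : ∀ Q : Sylow 3 G, g ∈ (Q : Subgroup G) := by
        intro Q
        have h1 : g • Q = Q := by
          have := congrArg (fun f : Equiv.Perm (Sylow 3 G) => f Q) hg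
          simpa [φ] using this
        rw [Sylow.smul_eq_iff_mem_normalizer, hnorm Q] at h1
        exact h1
      -- two distinct Sylow subgroups
      have hnt : Nontrivial (Sylow 3 G) := by
        rw [← Finite.one_lt_card_iff_nontrivial, hn3]; norm_num
      obtain ⟨Q1, Q2, hne⟩ := hnt
      have hmem : g ∈ (Q1 : Subgroup G) ⊓ (Q2 : Subgroup G) := ⟨hgQ Q1, hgQ Q2⟩
      have hinf : (Q1 : Subgroup G) ⊓ (Q2 : Subgroup G) = ⊥ := by
        have hdvd : Nat.card ((Q1 : Subgroup G) ⊓ (Q2 : Subgroup G) : Subgroup G) ∣ 3 := by
          have := Subgroup.card_dvd_of_le (inf_le_left : (Q1 : Subgroup G) ⊓ (Q2 : Subgroup G) ≤ Q1)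
          rwa [hcard3 Q1] at this
        rcases (Nat.dvd_prime (by norm_num : Nat.Prime 3)).mp hdvd with h | h
        · exact Subgroup.card_eq_one.mp h
        · exfalso
          apply hne
          have e1 : (Q1 : Subgroup G) ⊓ (Q2 : Subgroup G) = Q1 :=
            Subgroup.eq_of_le_of_card_ge inf_le_left (by rw [h, hcard3 Q1])
          have e2 : (Q1 : Subgroup G) ⊓ (Q2 : Subgroup G) = Q2 :=
            Subgroup.eq_of_le_of_card_ge inf_le_right (by rw [h, hcard3 Q2])
          exact Sylow.ext (e1.symm.trans e2)
      rw [hinf] at hmem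
      exact Subgroup.mem_bot.mp hmem
    have hrange : φ.range = alternatingGroup (Sylow 3 G) := by
      apply Equiv.Perm.eq_alternatingGroup_of_index_eq_two
      have hmul := φ.range.card_mul_index
      have hcr : Nat.card φ.range = 12 := by
        rw [← hG]; exact (Nat.card_congr (MonoidHom.ofInjective hinj).toEquiv).symm
      have hperm : Nat.card (Equiv.Perm (Sylow 3 G)) = 24 := by
        rw [Nat.card_eq_fintype_card, Fintype.card_perm, ← Nat.card_eq_fintype_card, hn3]
        rfl
      rw [hcr, hperm] at hmul
      omega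
    have e : Sylow 3 G ≃ Fin 4 := Fintype.equivFinOfCardEq (by rw [← Nat.card_eq_fintype_card, hn3])
    exact ⟨(MonoidHom.ofInjective hinj).trans ((MulEquiv.subgroupCongr hrange).trans
      (Equiv.altCongrHom e))⟩

end Cfsg.Agent.S0228
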