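import Cfsg.Statements.S1326
import Mathlib
import Cfsg.Agent.Helper22.Bender

set_option autoImplicit false
open Cfsg

namespace Cfsg.Agent.S1326

open Cfsg.Agent.Helper22

theorem result {X : Type*} [Group X] [Finite X] : Subgroup.centralizer (Cfsg.fittingSubgroup X : Set X) ≤ Cfsg.fittingSubgroup X ↔ Cfsg.layer X = ⊥ := by
  constructor
  · intro h
    apply layer_eq_bot_of_isSolvable
    have h1 : Cfsg.layer X ≤ Subgroup.centralizer (Cfsg.fittingSubgroup X : Set X) := by
      rw [← Subgroup.commutator_eq_bot_iff_le_centralizer]
      exact layer_commutator_fittingSubgroup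
    have hnil : Group.IsNilpotent ↥(Cfsg.layer X) :=
      isNilpotent_of_le (h1.trans h) Cfsg.Agent.Lib.isNilpotent_fittingSubgroup
    infer_instance
  · intro h
    have hb := centralizer_generalizedFittingSubgroup_le (G := X)
    unfold Cfsg.generalizedFittingSubgroup at hb
    rw [h, bot_sup_eq] at hb
    exact hb

end Cfsg.Agent.S1326
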