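import Cfsg.Statements.S1303
import Mathlib
import Cfsg.Agent.Helper22.SL23
import Cfsg.Agent.Helper22.PConstrained
import Cfsg.Agent.Helper22.Layer

set_option autoImplicit false
open Cfsg

namespace Cfsg.Agent.S1303

open Cfsg.Agent.Helper22

/-- The elements of order dividing 4 in `SL(2,3)` (a quaternion group). -/
def sgN : Subgroup SL23 where
  carrier := {x | x ^ 4 = 1}
  mul_mem' := by
    intro x y hx hy
    change (x * y) ^ 4 = 1
    apply ent_injective
    rw [ent_pow4, ent_mul, ent_one]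
    exact t_pow4_mul _ _ (tdet_ent x) (tdet_ent y) (by rw [← ent_pow4, hx, ent_one])
      (by rw [← ent_pow4, hy, ent_one])
  one_mem' := one_pow 4
  inv_mem' := by
    intro x hx
    change (x⁻¹) ^ 4 = 1
    rw [inv_pow, hx, inv_one]

theorem mem_sgN {x : SL23} : x ∈ sgN ↔ x ^ 4 = 1 := Iff.rfl

instance sgN_normal : sgN.Normal := by
  constructor
  intro x hx g
  rw [mem_sgN] at hx ⊢
  rw [conj_pow, hx, mul_one, mul_inv_cancel]

theorem comm_mem_sgN (x y : SL23) : x * y * x⁻¹ * y⁻¹ ∈ sgN := by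
  rw [mem_sgN]
  apply ent_injective
  rw [ent_pow4, ent_comm, ent_one]
  exact t_pow4_comm _ _ (tdet_ent x) (tdet_ent y)

instance isSolvable_sl23 : Group.IsSolvable SL23 := by
  haveI : Fact (Nat.Prime 2) := ⟨Nat.prime_two⟩
  have hp : IsPGroup 2 ↥sgN := by
    intro x
    refine ⟨2, ?_⟩
    apply Subtype.ext
    have := x.2
    rw [mem_sgN] at this
    simpa using this
  haveI : Group.IsNilpotent ↥sgN := hp.isNilpotent
  haveI h1 : Group.IsSolvable ↥sgN := inferInstance
  haveI h2 : Group.IsSolvable (SL23 ⧸ sgN) := by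
    apply isSolvable_of_comm
    intro a b
    obtain ⟨x, rfl⟩ := QuotientGroup.mk_surjective a
    obtain ⟨y, rfl⟩ := QuotientGroup.mk_surjective b
    rw [← QuotientGroup.mk_mul, ← QuotientGroup.mk_mul, QuotientGroup.eq]
    have := comm_mem_sgN y⁻¹ x⁻¹
    simpa [mul_assoc] using this
  exact solvable_of_ker_le_range sgN.subtype (QuotientGroup.mk' sgN) (by simp)

theorem slNeg_mem_center : slNeg ∈ Subgroup.center SL23 := by
  rw [Subgroup.mem_center_iff]
  intro g
  apply ent_injective
  rw [ent_mul, ent_mul, ent_slNeg]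
  exact (t_neg_central _).symm

theorem slNeg_sq : slNeg ^ 2 = 1 := by
  apply ent_injective
  rw [ent_sq, ent_slNeg, ent_one]
  decide

theorem slNeg_ne_one : slNeg ≠ 1 := by
  intro h
  have := congrArg ent h
  rw [ent_slNeg, ent_one] at this
  exact absurd this (by decide)

theorem orderOf_slNeg : orderOf slNeg = 2 := orderOf_eq_prime slNeg_sq slNeg_ne_one

theorem slNeg_mem_of_normal (N : Subgroup SL23) [N.Normal] {x : SL23} (hx : x ∈ N) (hx1 : x ≠ 1) :
    slNeg ∈ N := by
  have hne : ent x ≠ tone := by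
    intro h
    apply hx1
    apply ent_injective
    rw [h, ent_one]
  have hc : ∀ g : SL23, x * g * x⁻¹ * g⁻¹ ∈ N := by
    intro g
    have : g * x⁻¹ * g⁻¹ ∈ N := Subgroup.Normal.conj_mem inferInstance _ (N.inv_mem hx) g
    have := N.mul_mem hx this
    simpa [mul_assoc] using this
  rcases t_neg_mem (ent x) (tdet_ent x) hne with h | h | h | h | h | h
  · have : x = slNeg := ent_injective (by rw [h, ent_slNeg])
    rwa [← this]
  · have : x ^ 2 = slNeg := ent_injective (by rw [ent_sq, h, ent_slNeg])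
    rw [← this]
    exact N.pow_mem hx 2
  · have : x * slU * x⁻¹ * slU⁻¹ = slNeg :=
      ent_injective (by rw [ent_comm, ent_slU, h, ent_slNeg])
    rw [← this]
    exact hc _
  · have : (x * slU * x⁻¹ * slU⁻¹) ^ 2 = slNeg :=
      ent_injective (by rw [ent_sq, ent_comm, ent_slU, h, ent_slNeg])
    rw [← this]
    exact N.pow_mem (hc _) 2
  · have : x * slL * x⁻¹ * slL⁻¹ = slNeg :=
      ent_injective (by rw [ent_comm, ent_slL, h, ent_slNeg])
    rw [← this]
    exact hc _
  · have : (x * slL * x⁻¹ * slL⁻¹) ^ 2 = slNeg :=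
      ent_injective (by rw [ent_sq, ent_comm, ent_slL, h, ent_slNeg])
    rw [← this]
    exact N.pow_mem (hc _) 2

theorem pPrimeCore_eq_bot : Cfsg.pPrimeCore 2 SL23 = ⊥ := by
  rw [Subgroup.eq_bot_iff_forall]
  intro x hx
  by_contra hx1
  haveI : (Cfsg.pPrimeCore 2 SL23).Normal := by
    haveI := Cfsg.Agent.Lib.pPrimeCore_characteristic (G := SL23) 2
    infer_instance
  have hmem := slNeg_mem_of_normal (Cfsg.pPrimeCore 2 SL23) hx hx1
  have hcop := Cfsg.Agent.Lib.card_pPrimeCore_coprime (G := SL23) 2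
  have hdvd : 2 ∣ Nat.card ↥(Cfsg.pPrimeCore 2 SL23) := by
    have := orderOf_dvd_natCard (⟨slNeg, hmem⟩ : ↥(Cfsg.pPrimeCore 2 SL23))
    rwa [Subgroup.orderOf_mk, orderOf_slNeg] at this
  have := Nat.Coprime.eq_one_of_dvd hcop.symm hdvd
  omega

theorem slU_pow_three : slU ^ 3 = 1 := by
  apply ent_injective
  have : slU ^ 3 = slU * slU * slU := by rw [pow_succ, pow_two]
  rw [this, ent_mul, ent_mul, ent_slU, ent_one]
  decide

theorem slU_ne_one : slU ≠ 1 := by
  intro h
  have := congrArg ent h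
  rw [ent_slU, ent_one] at this
  exact absurd this (by decide)

/-- The group X = SL(2, 3): it is 2-constrained, O_{2'}(X) = 1, its centre A = Z(X) contains every involution of X = C_X(A), and X has a subgroup of order 3 (normalized by A) not contained in O_{2'}(X). -/
theorem result : Cfsg.IsPConstrained 2 (Matrix.SpecialLinearGroup (Fin 2) (ZMod 3)) ∧ Cfsg.pPrimeCore 2 (Matrix.SpecialLinearGroup (Fin 2) (ZMod 3)) = ⊥ ∧ (∀ t : Matrix.SpecialLinearGroup (Fin 2) (ZMod 3), orderOf t = 2 → t ∈ Subgroup.center (Matrix.SpecialLinearGroup (Fin 2) (ZMod 3))) ∧ ∃ Q : Subgroup (Matrix.SpecialLinearGroup (Fin 2) (ZMod 3)), Nat.card ↥Q = 3 ∧ ¬ (Q ≤ Cfsg.pPrimeCore 2 (Matrix.SpecialLinearGroup (Fin 2) (ZMod 3))) := by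
  haveI : Fact (Nat.Prime 2) := ⟨Nat.prime_two⟩
  refine ⟨?_, pPrimeCore_eq_bot, ?_, Subgroup.zpowers slU, ?_, ?_⟩
  · rw [isPConstrained_iff_pLayer_eq_bot (G := SL23) 2, pLayer_eq_bot_iff (G := SL23) 2]
    apply layer_eq_bot_of_isSolvable
    infer_instance
  · intro t ht
    have h2 : t ^ 2 = 1 := by
      have := pow_orderOf_eq_one t
      rwa [ht] at this
    have h1 : t ≠ 1 := by
      rintro rfl
      rw [orderOf_one] at ht
      omega
    have : t = slNeg := by
      apply ent_injective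
      rw [ent_slNeg]
      apply t_invol _ (tdet_ent t)
      · rw [← ent_sq, h2, ent_one]
      · intro h
        apply h1
        apply ent_injective
        rw [h, ent_one]
    rw [this]
    exact slNeg_mem_center
  · rw [Nat.card_zpowers]
    haveI : Fact (Nat.Prime 3) := ⟨by norm_num⟩
    exact orderOf_eq_prime slU_pow_three slU_ne_one
  · intro hle
    have := hle (Subgroup.mem_zpowers slU)
    rw [pPrimeCore_eq_bot, Subgroup.mem_bot] at this
    exact slU_ne_one this

end Cfsg.Agent.S1303
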