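import Cfsg.Statements.S4428
import Cfsg.Agent.S4431
import Cfsg.Agent.S4494
import Cfsg.Agent.Helper16.BlockPart
import Cfsg.Agent.Helper78.PSection

set_option autoImplicit false
open Cfsg
open scoped ComplexConjugate

namespace Cfsg.Agent.S4428

open Cfsg.Agent.S4426

universe u

section

variable {G : Type u} [Group G] [Fintype G] {p : ℕ} {M : Ideal AlgInt}

/-- `[f⁰, ξ] / ξ(1)` as a central character value, for an arbitrary function `f`. -/
theorem classInner_cut_eq_omega' (p : ℕ) (c : ℂ) (f : G → ℂ) {ξ : G → ℂ}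
    (hξ : IsCharacter G ξ) (hξ1 : ξ 1 ≠ 0) :
    classInner (cut p c f) ξ / ξ 1 = c * (Nat.card G : ℂ)⁻¹ *
      Helper16.omega ξ (fun y => if p ∣ orderOf y then (0 : ℂ) else f y⁻¹) := by
  unfold classInner cut Helper16.omega
  rw [← Equiv.sum_comp (Equiv.inv G)]
  have : ∀ x : G, (if p ∣ orderOf ((Equiv.inv G) x) then (0 : ℂ) else c * f ((Equiv.inv G) x))
      * conj (ξ ((Equiv.inv G) x)) = c * ((if p ∣ orderOf x then (0 : ℂ) else f x⁻¹) * ξ x) := by
    intro x
    rw [Equiv.inv_apply, orderOf_inv, Helper74.char_inv hξ, Complex.conj_conj]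
    split_ifs <;> ring
  simp only [this]
  rw [← Finset.mul_sum]
  field_simp

/-- The `B`-part does not change inner products with members of `B`. -/
theorem classInner_irr_blockPart (B : Set (IrrCharacter G)) (ϑ : G → ℂ) (ψ : IrrCharacter G)
    (hψ : ψ ∈ B) :
    classInner (ψ : G → ℂ) (blockPart B ϑ) = classInner (ψ : G → ℂ) ϑ := by
  classical
  have h1 : blockPart B ϑ = ∑ ψ' ∈ (Set.toFinite B).toFinset,
      classInner ϑ (ψ' : G → ℂ) • (ψ' : G → ℂ) := by
    funext g
    rw [Helper16.blockPart_apply, finsum_mem_eq_finite_toFinset_sum _ (Set.toFinite B),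
      Finset.sum_apply]
    rfl
  rw [h1, Helper74.classInner_sum_right]
  rw [Finset.sum_eq_single ψ]
  · rw [Helper74.classInner_smul_right, Helper74.irr_inner_self, mul_one,
      Helper74.classInner_conj_symm]
  · intro ψ' _ hne
    rw [Helper74.classInner_smul_right, Helper74.irr_inner_ne hne.symm, mul_zero]
  · intro h
    exfalso
    exact h ((Set.Finite.mem_toFinset _).2 hψ)

/-- The `p`-regular cutoff of the `b`-part has the same inner products with members of `b`. -/
theorem classInner_cut_blockPart [hp : Fact p.Prime] (hM : IsPModular p M)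
    (b : Set (IrrCharacter G)) (hb : IsPBlock M b) (ϑ : G → ℂ) (ψ₀ : IrrCharacter G)
    (hψ₀ : ψ₀ ∈ b) :
    classInner (cut p 1 (blockPart b ϑ)) (ψ₀ : G → ℂ) = classInner (cut p 1 ϑ) (ψ₀ : G → ℂ) := by
  classical
  rw [classInner_cut_symm p 1 (by simp) (blockPart b ϑ) (ψ₀ : G → ℂ),
    classInner_cut_symm p 1 (by simp) ϑ (ψ₀ : G → ℂ)]
  congr 1
  obtain ⟨a, ha⟩ : ∃ a : IrrCharacter G → ℂ, cut p 1 (ψ₀ : G → ℂ)
      = ∑ ψ ∈ (Set.toFinite b).toFinset, a ψ • (ψ : G → ℂ) := by
    refine ⟨fun ψ => classInner (cut p 1 (ψ₀ : G → ℂ)) (ψ : G → ℂ), ?_⟩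
    funext x
    have h1 := Helper76.blockPart_pRegular_cutoff p M hM b hb ψ₀ hψ₀ 1 x
    rw [finsum_mem_eq_finite_toFinset_sum _ (Set.toFinite b)] at h1
    rw [Finset.sum_apply]
    simp only [Pi.smul_apply, smul_eq_mul]
    exact h1.symm
  rw [ha, Helper74.classInner_sum_left, Helper74.classInner_sum_left]
  refine Finset.sum_congr rfl fun ψ hψ => ?_
  rw [Helper74.classInner_smul_left, Helper74.classInner_smul_left,
    classInner_irr_blockPart b ϑ ψ ((Set.Finite.mem_toFinset _).1 hψ)]

/-- The congruence `[ϑ⁰, ψ]/ψ(1) ≡ [(χ_C)⁰, ψ]/ψ(1)` for `ϑ(c) = χ(xc)`, `x` a `p`-element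
centralized by `C`. -/
theorem inner_shift_sub_mem [hp : Fact p.Prime] (hM : IsPModular p M) (C : Subgroup G) [Fintype C]
    (x : G) (hcomm : ∀ y : C, Commute x (y : G)) {k : ℕ}
    (hx : orderOf x = p ^ k) (χ : IrrCharacter G) (ψ : IrrCharacter C) :
    MemLocalIdeal M
      (classInner (cut p ((p ^ (Nat.card C).factorization p : ℕ) : ℂ)
          (fun y : C => (χ : G → ℂ) (x * (y : G)))) (ψ : C → ℂ) / (ψ : C → ℂ) 1 -
        classInner (cut p ((p ^ (Nat.card C).factorization p : ℕ) : ℂ)
          (fun y : C => (χ : G → ℂ) (y : G))) (ψ : C → ℂ) / (ψ : C → ℂ) 1) := by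
  classical
  have hMp : M.IsPrime := Helper78.isPrime_of_isPModular hM
  have hψc : IsCharacter C (ψ : C → ℂ) := Helper74.irr_isCharacter ψ
  have hψ1 : (ψ : C → ℂ) 1 ≠ 0 := by
    rw [Helper78.irrChar_one_eq_charDegree ψ.2]
    exact_mod_cast (Helper78.charDegree_pos_of_isIrrCharacter ψ.2).ne'
  have hχcf : IsClassFunction G (χ : G → ℂ) :=
    Helper74.isClassFunction_of_isCharacter (Helper74.irr_isCharacter χ)
  rw [classInner_cut_eq_omega' p _ _ hψc hψ1, classInner_cut_eq_omega' p _ _ hψc hψ1, ← mul_sub]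
  refine Helper78.memLocalIdeal_mul_left hMp (memLocalRing_pa_div_card hM) ?_
  have hord : ∀ (h y : C), orderOf (h * y * h⁻¹) = orderOf y := by
    intro h y
    have : h * y * h⁻¹ = MulAut.conj h y := by simp
    rw [this, MulEquiv.orderOf_eq]
  have hs1 : IsClassFunction C (fun y : C => if p ∣ orderOf y then (0 : ℂ)
      else (χ : G → ℂ) (x * ((y⁻¹ : C) : G))) := by
    intro y h
    dsimp only
    rw [hord h y]
    have : x * (((h * y * h⁻¹)⁻¹ : C) : G) = (h : G) * (x * ((y⁻¹ : C) : G)) * (h : G)⁻¹ := by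
      have hc := (hcomm h).eq
      push_cast
      simp only [mul_inv_rev, inv_inv, mul_assoc]
      rw [← mul_assoc x (h : G), hc, mul_assoc]
    rw [this, hχcf]
  have hs2 : IsClassFunction C (fun y : C => if p ∣ orderOf y then (0 : ℂ)
      else (χ : G → ℂ) ((y⁻¹ : C) : G)) := by
    intro y h
    dsimp only
    rw [hord h y]
    have : (((h * y * h⁻¹)⁻¹ : C) : G) = (h : G) * ((y⁻¹ : C) : G) * (h : G)⁻¹ := by
      push_cast
      simp only [mul_inv_rev, inv_inv, mul_assoc]
    rw [this, hχcf]
  rw [Helper16.omega_eq_sum_classes _ _ (Helper74.isClassFunction_of_isCharacter hψc) hs1,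
    Helper16.omega_eq_sum_classes _ _ (Helper74.isClassFunction_of_isCharacter hψc) hs2,
    ← Finset.sum_sub_distrib]
  refine Helper78.memLocalIdeal_sum hMp _ _ fun L _ => ?_
  rw [← sub_mul]
  refine Helper78.memLocalIdeal_mul_right hMp ?_
    (Helper78.memLocalRing_of_isIntegral hMp (Helper78.isIntegral_centralChar ψ.2 _))
  by_cases hL : p ∣ orderOf (Helper16.classRep L)
  · rw [if_pos hL, if_pos hL, sub_zero]
    exact Helper78.memLocalIdeal_zero hMp
  · rw [if_neg hL, if_neg hL]
    have hz : x ^ p ^ k = 1 := by rw [← hx]; exact pow_orderOf_eq_one x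
    have hy : ¬ p ∣ orderOf (((Helper16.classRep L)⁻¹ : C) : G) := by
      rw [Subgroup.orderOf_coe, orderOf_inv]
      exact hL
    exact Helper78.irr_mul_sub_memLocalIdeal hM χ x _ (hcomm _) hz hy

end

open Cfsg.Agent.S4426 in
/-- Let χ be an irreducible character of height zero in the p-block B of the finite group G (relative to a maximal ideal M of the algebraic integers containing p). Let x be a p-element of G with centralizer C, and let b be a block of C that induces B. Form the class function ϑ(c) = χ(x c) on C and its b-part (the sum over ψ ∈ b of the inner product of ϑ with ψ, times ψ). Then the b-part of ϑ does not vanish identically on the p-regular elements of C. (Compare the second main Theorem, which gives vanishing when b does not induce B.) -/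
theorem result {G : Type*} [Group G] [Finite G] (p : ℕ) [Fact p.Prime] (M : Ideal Cfsg.AlgInt) (hM : Cfsg.IsPModular p M) (B : Set (Cfsg.IrrCharacter G)) (hB : Cfsg.IsPBlock M B) (χ : Cfsg.IrrCharacter G) (hχ : χ ∈ B) (h0 : Cfsg.blockHeight p B (χ : G → ℂ) = 0) (x : G) (hx : ∃ k : ℕ, orderOf x = p ^ k) (b : Set (Cfsg.IrrCharacter (Subgroup.centralizer ({x} : Set G)))) (hb : Cfsg.IsInducedBlock M (Subgroup.centralizer ({x} : Set G)) b B) : ∃ y : Subgroup.centralizer ({x} : Set G), ¬ p ∣ orderOf y ∧ Cfsg.blockPart b (fun c : Subgroup.centralizer ({x} : Set G) => (χ : G → ℂ) (x * (c : G))) y ≠ 0 := by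
  classical
  have : Fintype G := Fintype.ofFinite G
  have : Fintype (Subgroup.centralizer ({x} : Set G)) := Fintype.ofFinite _
  have hMp : M.IsPrime := Helper78.isPrime_of_isPModular hM
  obtain ⟨k, hk⟩ := hx
  obtain ⟨ψ, hψ⟩ := Helper78.isPBlock_nonempty hMp hb.1
  have hcomm : ∀ y : Subgroup.centralizer ({x} : Set G), Commute x (y : G) := by
    intro y
    exact Subgroup.mem_centralizer_iff.1 y.2 x (Set.mem_singleton x)
  have h1 := (Cfsg.Agent.S4431.result p M hM (Subgroup.centralizer ({x} : Set G)) b B hb χ ψ hψ).2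
    hχ h0
  have h2 := inner_shift_sub_mem hM (Subgroup.centralizer ({x} : Set G)) x hcomm hk χ ψ
  have h3 : ¬ MemLocalIdeal M
      (classInner (cut p ((p ^ (Nat.card (Subgroup.centralizer ({x} : Set G))).factorization p : ℕ) : ℂ)
        (fun y : Subgroup.centralizer ({x} : Set G) => (χ : G → ℂ) (x * (y : G))))
        (ψ : Subgroup.centralizer ({x} : Set G) → ℂ) /
        (ψ : Subgroup.centralizer ({x} : Set G) → ℂ) 1) := by
    intro h
    apply h1
    have := Helper78.memLocalIdeal_sub hMp h h2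
    convert this using 1
    unfold cut
    ring
  have h4 : classInner (cut p 1
      (fun y : Subgroup.centralizer ({x} : Set G) => (χ : G → ℂ) (x * (y : G))))
      (ψ : Subgroup.centralizer ({x} : Set G) → ℂ) ≠ 0 := by
    intro h
    apply h3
    have hc := Cfsg.Agent.S4494.cut_mul p
      ((p ^ (Nat.card (Subgroup.centralizer ({x} : Set G))).factorization p : ℕ) : ℂ) 1
      (fun y : Subgroup.centralizer ({x} : Set G) => (χ : G → ℂ) (x * (y : G)))
    rw [mul_one] at hc
    rw [hc, Helper74.classInner_smul_left, h, mul_zero, zero_div]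
    exact Helper78.memLocalIdeal_zero hMp
  rw [← classInner_cut_blockPart hM b hb.1 _ ψ hψ] at h4
  by_contra hcon
  push Not at hcon
  apply h4
  have hz : cut p 1 (blockPart b
      (fun y : Subgroup.centralizer ({x} : Set G) => (χ : G → ℂ) (x * (y : G)))) = 0 := by
    funext y
    unfold cut
    split_ifs with hy
    · rfl
    · rw [hcon y hy, mul_zero]
      rfl
  rw [hz]
  unfold classInner
  simp

end Cfsg.Agent.S4428
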