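import Cfsg.Statements.S4499
import Cfsg.Agent.S4426

set_option autoImplicit false
open Cfsg
open scoped ComplexConjugate

namespace Cfsg.Agent.S4499

open Cfsg.Agent.S4426

universe u

section

variable {G : Type u} [Group G] [Fintype G]

/-- the `p`-regular part of the norm of `χ`. -/
noncomputable def regNorm (p : ℕ) (χ : G → ℂ) : ℝ :=
  ∑ x : G, if p ∣ orderOf x then (0 : ℝ) else Complex.normSq (χ x)

theorem classInner_cut_self (p : ℕ) (c : ℂ) (χ : G → ℂ) :
    classInner (cut p c χ) χ = c * (Nat.card G : ℂ)⁻¹ * ((regNorm p χ : ℝ) : ℂ) := by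
  unfold classInner cut regNorm
  have h : ∀ x : G, (if p ∣ orderOf x then (0 : ℂ) else c * χ x) * conj (χ x)
      = c * (((if p ∣ orderOf x then (0 : ℝ) else Complex.normSq (χ x)) : ℝ) : ℂ) := by
    intro x
    split_ifs
    · simp
    · rw [mul_assoc, Complex.mul_conj]
  simp only [h]
  rw [← Finset.mul_sum, Complex.ofReal_sum]
  ring

theorem regNorm_le (p : ℕ) (χ : IrrCharacter G) : regNorm p (χ : G → ℂ) ≤ (Nat.card G : ℝ) := by
  have h1 := Helper74.irr_inner_self χ
  unfold classInner at h1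
  have hG0 : (Nat.card G : ℂ) ≠ 0 := by exact_mod_cast Nat.card_pos.ne'
  have h2 : ∑ x : G, (χ : G → ℂ) x * conj ((χ : G → ℂ) x) = (Nat.card G : ℂ) := by
    field_simp at h1
    exact h1
  have h3 : ((∑ x : G, Complex.normSq ((χ : G → ℂ) x) : ℝ) : ℂ) = (Nat.card G : ℂ) := by
    rw [← h2]
    push_cast
    refine Finset.sum_congr rfl fun x _ => ?_
    rw [Complex.mul_conj]
  have h4 : (∑ x : G, Complex.normSq ((χ : G → ℂ) x) : ℝ) = (Nat.card G : ℝ) := by
    exact_mod_cast h3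
  rw [← h4]
  unfold regNorm
  refine Finset.sum_le_sum fun x _ => ?_
  split_ifs
  · exact Complex.normSq_nonneg _
  · exact le_refl _

theorem eq_zero_of_regNorm_eq (p : ℕ) (χ : IrrCharacter G)
    (h : regNorm p (χ : G → ℂ) = (Nat.card G : ℝ)) (x : G) (hx : p ∣ orderOf x) :
    (χ : G → ℂ) x = 0 := by
  have h1 := Helper74.irr_inner_self χ
  unfold classInner at h1
  have hG0 : (Nat.card G : ℂ) ≠ 0 := by exact_mod_cast Nat.card_pos.ne'
  have h2 : ∑ x : G, (χ : G → ℂ) x * conj ((χ : G → ℂ) x) = (Nat.card G : ℂ) := by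
    field_simp at h1
    exact h1
  have h3 : ((∑ x : G, Complex.normSq ((χ : G → ℂ) x) : ℝ) : ℂ) = (Nat.card G : ℂ) := by
    rw [← h2]
    push_cast
    refine Finset.sum_congr rfl fun x _ => ?_
    rw [Complex.mul_conj]
  have h4 : (∑ x : G, Complex.normSq ((χ : G → ℂ) x) : ℝ) = (Nat.card G : ℝ) := by
    exact_mod_cast h3
  have h5 : ∑ x : G, (Complex.normSq ((χ : G → ℂ) x) -
      (if p ∣ orderOf x then (0 : ℝ) else Complex.normSq ((χ : G → ℂ) x))) = 0 := by
    rw [Finset.sum_sub_distrib, h4]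
    unfold regNorm at h
    rw [h, sub_self]
  have h6 := (Finset.sum_eq_zero_iff_of_nonneg (fun y _ => by
    split_ifs
    · rw [sub_zero]; exact Complex.normSq_nonneg _
    · rw [sub_self])).1 h5 x (Finset.mem_univ x)
  rw [if_pos hx, sub_zero] at h6
  exact Complex.normSq_eq_zero.1 h6

theorem regNorm_pos (p : ℕ) [hp : Fact p.Prime] (χ : IrrCharacter G) :
    0 < regNorm p (χ : G → ℂ) := by
  unfold regNorm
  have h1 : ¬ p ∣ orderOf (1 : G) := by
    rw [orderOf_one]
    exact hp.out.one_lt.ne' ∘ Nat.dvd_one.1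
  have hχ1 : (χ : G → ℂ) 1 ≠ 0 := by
    rw [Helper78.irrChar_one_eq_charDegree χ.2]
    exact_mod_cast (Helper78.charDegree_pos_of_isIrrCharacter χ.2).ne'
  refine lt_of_lt_of_le ?_ (Finset.single_le_sum (f := fun x : G =>
    if p ∣ orderOf x then (0 : ℝ) else Complex.normSq ((χ : G → ℂ) x)) (fun y _ => ?_)
    (Finset.mem_univ (1 : G)))
  · rw [if_neg h1]
    exact Complex.normSq_pos.2 hχ1
  · split_ifs
    · exact le_refl _
    · exact Complex.normSq_nonneg _

end

/-- Let G be a finite group whose order has p-part p^a (a ≥ 1), and fix a maximal ideal M of the algebraic integers containing p. If the degree of one irreducible character of a p-block B is divisible by p^(a−1), then the degree of every irreducible character in B is divisible by p^(a−1) (so B has defect at most 1). -/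
theorem result {G : Type*} [Group G] [Finite G] (p : ℕ) [Fact p.Prime] (M : Ideal Cfsg.AlgInt) (hM : Cfsg.IsPModular p M) (hpa : p ∣ Nat.card G) (B : Set (Cfsg.IrrCharacter G)) (hB : Cfsg.IsPBlock M B) (χ : Cfsg.IrrCharacter G) (hχ : χ ∈ B) (hdiv : p ^ ((Nat.card G).factorization p - 1) ∣ Cfsg.charDegree (χ : G → ℂ)) (ψ : Cfsg.IrrCharacter G) (hψ : ψ ∈ B) : p ^ ((Nat.card G).factorization p - 1) ∣ Cfsg.charDegree (ψ : G → ℂ) := by
  classical
  have : Fintype G := Fintype.ofFinite G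
  have hMp : M.IsPrime := Helper78.isPrime_of_isPModular hM
  have hp : p.Prime := hM.1
  set a := (Nat.card G).factorization p with ha
  set b := (charDegree (χ : G → ℂ)).factorization p with hb
  have hdχ : charDegree (χ : G → ℂ) ≠ 0 := (Helper78.charDegree_pos_of_isIrrCharacter χ.2).ne'
  have hdψ : charDegree (ψ : G → ℂ) ≠ 0 := (Helper78.charDegree_pos_of_isIrrCharacter ψ.2).ne'
  have hab : a - 1 ≤ b := (hp.pow_dvd_iff_le_factorization hdχ).1 hdiv
  suffices hzero : blockHeight p B (χ : G → ℂ) = 0 by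
    rw [Helper16.blockHeight_eq_zero_iff p hχ] at hzero
    have h1 := Helper16.minExp_le_of_mem p hψ
    exact (hp.pow_dvd_iff_le_factorization hdψ).2 (by omega)
  rw [height_zero_iff p hM B hB χ hχ]
  obtain ⟨n, hn⟩ := exists_int_inner p χ χ
  have hring := memLocalRing_U hM χ.2 χ.2
  rw [hn, irr_one_eq χ] at hring ⊢
  rw [memLocalIdeal_div_iff hM hdχ hring]
  intro hdvd
  -- the integer `n` as a real number
  have hG0 : (Nat.card G : ℝ) ≠ 0 := by exact_mod_cast Nat.card_pos.ne'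
  have hGpos : (0 : ℝ) < (Nat.card G : ℝ) := by exact_mod_cast Nat.card_pos
  have hnr : (n : ℝ) = ((p ^ a : ℕ) : ℝ) * (Nat.card G : ℝ)⁻¹ * regNorm p (χ : G → ℂ) := by
    have h1 := classInner_cut_self p ((p ^ a : ℕ) : ℂ) (χ : G → ℂ)
    rw [hn] at h1
    have h2 : (((n : ℝ)) : ℂ) = ((((p ^ a : ℕ) : ℝ) * (Nat.card G : ℝ)⁻¹ *
        regNorm p (χ : G → ℂ) : ℝ) : ℂ) := by
      push_cast
      push_cast at h1
      exact h1
    exact Complex.ofReal_injective h2
  have hpa_pos : (0 : ℝ) < ((p ^ a : ℕ) : ℝ) := by exact_mod_cast pow_pos hp.pos a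
  have hnpos : 0 < n := by
    have : (0 : ℝ) < (n : ℝ) := by
      rw [hnr]
      exact mul_pos (mul_pos hpa_pos (inv_pos.2 hGpos)) (regNorm_pos p χ)
    exact_mod_cast this
  have hnle : n ≤ ((p ^ a : ℕ) : ℤ) := by
    have : (n : ℝ) ≤ ((p ^ a : ℕ) : ℝ) := by
      rw [hnr]
      have h1 := regNorm_le p χ
      calc ((p ^ a : ℕ) : ℝ) * (Nat.card G : ℝ)⁻¹ * regNorm p (χ : G → ℂ)
          ≤ ((p ^ a : ℕ) : ℝ) * (Nat.card G : ℝ)⁻¹ * (Nat.card G : ℝ) :=
            mul_le_mul_of_nonneg_left h1 (mul_pos hpa_pos (inv_pos.2 hGpos)).le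
        _ = ((p ^ a : ℕ) : ℝ) := by field_simp
    exact_mod_cast this
  -- `p ^ a ∣ n`
  have hpan : ((p ^ a : ℕ) : ℤ) ∣ n := by
    refine dvd_trans ?_ hdvd
    push_cast
    exact pow_dvd_pow _ (by omega)
  have hneq : n = ((p ^ a : ℕ) : ℤ) := by
    obtain ⟨k, hk⟩ := hpan
    have hpaz : (0 : ℤ) < ((p ^ a : ℕ) : ℤ) := by exact_mod_cast pow_pos hp.pos a
    have hk1 : 0 < k := by
      by_contra hk0
      push Not at hk0
      have : n ≤ 0 := by rw [hk]; exact mul_nonpos_of_nonneg_of_nonpos hpaz.le hk0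
      omega
    have hk2 : k ≤ 1 := by
      by_contra hk2
      push Not at hk2
      have : ((p ^ a : ℕ) : ℤ) * 2 ≤ n := by
        rw [hk]; exact mul_le_mul_of_nonneg_left (by omega) hpaz.le
      omega
    have : k = 1 := by omega
    rw [hk, this, mul_one]
  -- `χ` vanishes on `p`-singular elements
  have hreg : regNorm p (χ : G → ℂ) = (Nat.card G : ℝ) := by
    have h1 : (n : ℝ) = ((p ^ a : ℕ) : ℝ) := by rw [hneq]; push_cast; rfl
    rw [hnr] at h1
    have h2 : ((p ^ a : ℕ) : ℝ) * ((Nat.card G : ℝ)⁻¹ * regNorm p (χ : G → ℂ))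
        = ((p ^ a : ℕ) : ℝ) * 1 := by rw [← mul_assoc, h1, mul_one]
    have h3 := mul_left_cancel₀ hpa_pos.ne' h2
    field_simp at h3
    exact h3
  have hvan := eq_zero_of_regNorm_eq p χ hreg
  -- hence `p ^ a ∣ χ(1)`
  have hgen : IsGeneralizedCharacter G (fun x : G => if p ∣ orderOf x then (0 : ℂ) else
      (1 : ℂ) * (χ : G → ℂ) x) := by
    have : (fun x : G => if p ∣ orderOf x then (0 : ℂ) else (1 : ℂ) * (χ : G → ℂ) x)
        = (χ : G → ℂ) := by
      funext x
      split_ifs with hx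
      · exact (hvan x hx).symm
      · rw [one_mul]
    rw [this]
    exact Helper25.isGenChar_of_isCharacter (Helper74.irr_isCharacter χ)
  obtain ⟨m, hm⟩ := Helper76.exists_int_of_isGenChar_pRegular_cutoff p (χ : G → ℂ) 1 hgen
  rw [one_mul, irr_one_eq χ] at hm
  have hm' : ((charDegree (χ : G → ℂ) : ℕ) : ℤ) = m * ((p ^ a : ℕ) : ℤ) := by exact_mod_cast hm
  have hdvd2 : ((p ^ a : ℕ) : ℤ) ∣ ((charDegree (χ : G → ℂ) : ℕ) : ℤ) := ⟨m, by rw [hm', mul_comm]⟩
  have hdvd3 : p ^ a ∣ charDegree (χ : G → ℂ) := by exact_mod_cast hdvd2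
  have hab2 : a ≤ b := (hp.pow_dvd_iff_le_factorization hdχ).1 hdvd3
  -- contradiction: `p ^ (b + 1) ∣ p ^ a`
  rw [hneq] at hdvd
  have h4 : p ^ (b + 1) ∣ p ^ a := by exact_mod_cast hdvd
  have h5 := (Nat.pow_dvd_pow_iff_le_right hp.one_lt).1 h4
  omega

end Cfsg.Agent.S4499
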