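import Cfsg.Statements.S4683
import Cfsg.Agent.Helper16.BlockOrthogonality
import Cfsg.Agent.Helper16.SecondMainChar
import Cfsg.Agent.Helper77.BlockRank
import Cfsg.Agent.Helper77.ExtFirstMain
import Cfsg.Agent.Helper76.FaithfulCentral

set_option autoImplicit false
set_option linter.style.haveILetI false
set_option linter.unusedSectionVars false
open Cfsg

namespace Cfsg.Agent.S4683

open scoped ComplexConjugate

section lib

variable {G : Type*} [Group G] [Fintype G] {p : ℕ} {M : Ideal AlgInt}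

/-- Conjugators of `u t'` to `u t` in `G` are exactly the conjugators of `t'` to `t` in `C_G(u)`. -/
theorem card_conjugators_section (hp : p.Prime) (u : G) (hu : ∃ k : ℕ, orderOf u = p ^ k)
    (H : Subgroup G) (hH : ∀ x : G, x ∈ H ↔ x * u = u * x) (t t' : H)
    (ht : ¬ p ∣ orderOf t) (ht' : ¬ p ∣ orderOf t') :
    Nat.card {x : G // x * (u * (t' : G)) * x⁻¹ = u * (t : G)} =
      Nat.card {y : H // y * t' * y⁻¹ = t} := by
  have hcomm : ∀ c : H, (c : G) * u = u * (c : G) := fun c => (hH _).mp c.2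
  have key : ∀ x : G, x * (u * (t' : G)) * x⁻¹ = u * (t : G) →
      x * u = u * x ∧ x * (t' : G) * x⁻¹ = (t : G) := by
    intro x hx
    have h1 : IsPPart p (u * (t : G)) u :=
      ⟨(t : G), rfl, (hcomm t).symm, hu, by rw [Subgroup.orderOf_coe]; exact ht⟩
    have h2 : IsPPart p (u * (t : G)) (x * u * x⁻¹) := by
      refine ⟨x * (t' : G) * x⁻¹, ?_, ?_, ?_, ?_⟩
      · rw [← hx]; group
      · have : Commute u (t' : G) := (hcomm t').symm
        show (x * u * x⁻¹) * (x * (t' : G) * x⁻¹) = (x * (t' : G) * x⁻¹) * (x * u * x⁻¹)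
        calc (x * u * x⁻¹) * (x * (t' : G) * x⁻¹) = x * (u * (t' : G)) * x⁻¹ := by group
          _ = x * ((t' : G) * u) * x⁻¹ := by rw [this.eq]
          _ = _ := by group
      · obtain ⟨k, hk⟩ := hu
        refine ⟨k, ?_⟩
        rw [← hk]
        exact orderOf_injective (MulAut.conj x).toMonoidHom (MulAut.conj x).injective u
      · have : orderOf (x * (t' : G) * x⁻¹) = orderOf (t' : G) :=
          orderOf_injective (MulAut.conj x).toMonoidHom (MulAut.conj x).injective (t' : G)
        rw [this, Subgroup.orderOf_coe]; exact ht'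
    have h3 : u = x * u * x⁻¹ := Helper16.isPPart_unique hp h1 h2
    have h4 : x * u = u * x := by
      calc x * u = (x * u * x⁻¹) * x := by group
        _ = u * x := by rw [← h3]
    refine ⟨h4, ?_⟩
    have h5 : (x * u * x⁻¹) * (x * (t' : G) * x⁻¹) = u * (t : G) := by
      rw [← hx]; group
    rw [← h3] at h5
    exact mul_left_cancel h5
  apply Nat.card_congr
  refine ⟨fun x => ⟨⟨x.1, (hH _).mpr (key x.1 x.2).1⟩, Subtype.ext ?_⟩,
    fun y => ⟨(y.1 : G), ?_⟩, fun x => rfl, fun y => rfl⟩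
  · simpa using (key x.1 x.2).2
  · have h1 : ((y.1 * t' * y.1⁻¹ : H) : G) = (t : G) := congrArg Subtype.val y.2
    simp only [Subgroup.coe_mul, Subgroup.coe_inv] at h1
    calc (y.1 : G) * (u * (t' : G)) * (y.1 : G)⁻¹
        = ((y.1 : G) * u) * (t' : G) * (y.1 : G)⁻¹ := by group
      _ = (u * (y.1 : G)) * (t' : G) * (y.1 : G)⁻¹ := by rw [hcomm y.1]
      _ = u * ((y.1 : G) * (t' : G) * (y.1 : G)⁻¹) := by group
      _ = u * (t : G) := by rw [h1]

theorem sum_section (hp : p.Prime) (u : G) (hu : ∃ k : ℕ, orderOf u = p ^ k)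
    (H : Subgroup G) [Fintype H] [Fintype (IrrCharacter G)] [Fintype (IrrCharacter H)]
    (hH : ∀ x : G, x ∈ H ↔ x * u = u * x) (t t' : H)
    (ht : ¬ p ∣ orderOf t) (ht' : ¬ p ∣ orderOf t') :
    ∑ χ : IrrCharacter G, (χ : G → ℂ) (u * (t : G)) * conj ((χ : G → ℂ) (u * (t' : G))) =
      ∑ ψ : IrrCharacter H, (ψ : H → ℂ) t * conj ((ψ : H → ℂ) t') := by
  rw [Helper76.sum_irr_mul_conj_eq_card_conjugators, Helper76.sum_irr_mul_conj_eq_card_conjugators,
    card_conjugators_section hp u hu H hH t t' ht ht']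

theorem expand {ι κ : Type*} [Fintype ι] [Fintype κ] (a : ι → κ → ℂ) (v : κ → ℂ) :
    ∑ i, (∑ t, a i t * v t) * conj (∑ t, a i t * v t) =
      ∑ t, ∑ t', (v t * conj (v t')) * ∑ i, a i t * conj (a i t') := by
  have h1 : ∀ i, (∑ t, a i t * v t) * conj (∑ t, a i t * v t) =
      ∑ t, ∑ t', (v t * conj (v t')) * (a i t * conj (a i t')) := by
    intro i
    rw [map_sum, Finset.sum_mul_sum]
    refine Finset.sum_congr rfl (fun t _ => Finset.sum_congr rfl (fun t' _ => ?_))
    rw [map_mul]; ring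
  rw [Finset.sum_congr rfl (fun i _ => h1 i), Finset.sum_comm]
  refine Finset.sum_congr rfl (fun t _ => ?_)
  rw [Finset.sum_comm]
  refine Finset.sum_congr rfl (fun t' _ => ?_)
  rw [Finset.mul_sum]

theorem isometry (hp : p.Prime) (u : G) (hu : ∃ k : ℕ, orderOf u = p ^ k)
    (H : Subgroup G) [Fintype H] [Fintype (IrrCharacter G)] [Fintype (IrrCharacter H)]
    (hH : ∀ x : G, x ∈ H ↔ x * u = u * x) (v : H → ℂ)
    (hv : ∀ t : H, p ∣ orderOf t → v t = 0) :
    ∑ χ : IrrCharacter G, (∑ t : H, (χ : G → ℂ) (u * (t : G)) * v t) *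
        conj (∑ t : H, (χ : G → ℂ) (u * (t : G)) * v t) =
      ∑ ψ : IrrCharacter H, (∑ t : H, (ψ : H → ℂ) t * v t) *
        conj (∑ t : H, (ψ : H → ℂ) t * v t) := by
  rw [expand (fun (χ : IrrCharacter G) (t : H) => (χ : G → ℂ) (u * (t : G))) v,
    expand (fun (ψ : IrrCharacter H) (t : H) => (ψ : H → ℂ) t) v]
  refine Finset.sum_congr rfl (fun t _ => Finset.sum_congr rfl (fun t' _ => ?_))
  by_cases ht : p ∣ orderOf t
  · rw [hv t ht]; simp
  by_cases ht' : p ∣ orderOf t'
  · rw [hv t' ht']; simp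
  rw [sum_section hp u hu H hH t t' ht ht']

section kernel
variable {H : Type*} [Group H] [Fintype H]

/-- the kernel of the block projection, evaluated at `s` -/
noncomputable def ker (e : Set (IrrCharacter H)) [DecidablePred (· ∈ e)] (s t : H) : ℂ :=
  (Nat.card H : ℂ)⁻¹ * ∑ ψ : IrrCharacter H,
    (if ψ ∈ e then (1 : ℂ) else 0) * ((ψ : H → ℂ) s * conj ((ψ : H → ℂ) t))

theorem blockPart_eq_ker (e : Set (IrrCharacter H)) [DecidablePred (· ∈ e)] (f : H → ℂ) (s : H) :
    blockPart e f s = ∑ t : H, f t * ker e s t := by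
  rw [Helper16.blockPart_eq_sum]
  unfold ker
  simp only [classInner, Finset.mul_sum, Finset.sum_mul]
  rw [Finset.sum_comm]
  refine Finset.sum_congr rfl (fun t _ => Finset.sum_congr rfl (fun ψ _ => ?_))
  ring

theorem ker_eq_zero (hM : IsPModular p M) {e : Set (IrrCharacter H)} [DecidablePred (· ∈ e)]
    (he : IsPBlock M e) (s t : H) (hs : ¬ p ∣ orderOf s) (ht : p ∣ orderOf t) : ker e s t = 0 := by
  unfold ker
  have h := Helper77.weak_block_orthogonality' hM he s t hs ht
  rw [finsum_mem_def, finsum_eq_sum_of_fintype] at h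
  have : ∑ ψ : IrrCharacter H, (if ψ ∈ e then (1 : ℂ) else 0) *
      ((ψ : H → ℂ) s * conj ((ψ : H → ℂ) t)) = 0 := by
    refine Eq.trans (Finset.sum_congr rfl (fun ψ _ => ?_)) h
    by_cases hψ : ψ ∈ e
    · rw [if_pos hψ, one_mul, Set.indicator_of_mem hψ]
    · rw [if_neg hψ, zero_mul, Set.indicator_of_notMem hψ]
  rw [this, mul_zero]

theorem blockPart_irr (e : Set (IrrCharacter H)) [DecidablePred (· ∈ e)] (ψ₀ : IrrCharacter H)
    (s : H) : blockPart e (ψ₀ : H → ℂ) s = if ψ₀ ∈ e then (ψ₀ : H → ℂ) s else 0 := by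
  classical
  rw [Helper16.blockPart_eq_sum]
  rw [Finset.sum_eq_single ψ₀]
  · rw [Helper79.classInner_irr_self, one_mul]
    split_ifs <;> simp
  · intro ψ _ hne
    rw [Helper79.classInner_irr_ne (Ne.symm hne)]; simp
  · intro h; exact absurd (Finset.mem_univ _) h

end kernel

theorem pointwise (hM : IsPModular p M) (hp : p.Prime) (u : G) (hu : ∃ k : ℕ, orderOf u = p ^ k)
    (H : Subgroup G) [Fintype H]
    (hH : ∀ x : G, x ∈ H ↔ x * u = u * x) (e : Set (IrrCharacter H)) [DecidablePred (· ∈ e)]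
    (he : IsPBlock M e) (s : H) (hs : ¬ p ∣ orderOf s) :
    ∑ χ : IrrCharacter G, blockPart e (fun c : H => (χ : G → ℂ) (u * (c : G))) s *
        conj (blockPart e (fun c : H => (χ : G → ℂ) (u * (c : G))) s) =
      ∑ ψ : IrrCharacter H, (if ψ ∈ e then (1 : ℂ) else 0) *
        ((ψ : H → ℂ) s * conj ((ψ : H → ℂ) s)) := by
  have h1 : ∀ χ : IrrCharacter G, blockPart e (fun c : H => (χ : G → ℂ) (u * (c : G))) s =
      ∑ t : H, (χ : G → ℂ) (u * (t : G)) * ker e s t := fun χ => blockPart_eq_ker e _ s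
  simp only [h1]
  rw [isometry hp u hu H hH (ker e s) (fun t ht => ker_eq_zero hM he s t hs ht)]
  refine Finset.sum_congr rfl (fun ψ _ => ?_)
  rw [← blockPart_eq_ker e (ψ : H → ℂ) s, blockPart_irr]
  split_ifs <;> simp

theorem irr_inv {K : Type*} [Group K] [Finite K] (ψ : IrrCharacter K) (x : K) :
    (ψ : K → ℂ) x⁻¹ = conj ((ψ : K → ℂ) x) := by
  obtain ⟨ψ, n, ρ, hirr, rfl⟩ := ψ
  exact Helper79.char_inv ρ x

theorem irr_comm {K : Type*} [Group K] (ψ : IrrCharacter K) (x y : K) :
    (ψ : K → ℂ) (x * y) = (ψ : K → ℂ) (y * x) := by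
  obtain ⟨ψ, n, ρ, hirr, rfl⟩ := ψ
  show ρ.character (x * y) = ρ.character (y * x)
  simp only [Representation.character, map_mul]
  exact LinearMap.trace_mul_comm ℂ _ _

theorem blockPart_inv (u : G) (H : Subgroup G) [Fintype H]
    (e : Set (IrrCharacter H)) (χ : IrrCharacter G) (s : H) :
    blockPart e (fun c : H => (χ : G → ℂ) (u⁻¹ * (c : G))) s⁻¹ =
      conj (blockPart e (fun c : H => (χ : G → ℂ) (u * (c : G))) s) := by
  classical
  rw [Helper16.blockPart_eq_sum, Helper16.blockPart_eq_sum, map_sum]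
  refine Finset.sum_congr rfl (fun ψ _ => ?_)
  rw [map_mul, map_mul, irr_inv ψ s]
  have h1 : classInner (fun c : H => (χ : G → ℂ) (u⁻¹ * (c : G))) (ψ : H → ℂ) =
      conj (classInner (fun c : H => (χ : G → ℂ) (u * (c : G))) (ψ : H → ℂ)) := by
    simp only [classInner, map_mul, map_inv₀, map_natCast, map_sum]
    congr 1
    rw [← Equiv.sum_comp (Equiv.inv H)]
    refine Finset.sum_congr rfl (fun c _ => ?_)
    simp only [Equiv.inv_apply, Subgroup.coe_inv, Complex.conj_conj]
    rw [irr_inv ψ c, Complex.conj_conj]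
    congr 1
    rw [← mul_inv_rev, irr_inv χ, irr_comm χ]
  rw [h1]
  congr 1
  split_ifs <;> simp

theorem core (hM : IsPModular p M) (hp : p.Prime) (u : G) (hu : ∃ k : ℕ, orderOf u = p ^ k)
    (H : Subgroup G)
    (hH : ∀ x : G, x ∈ H ↔ x * u = u * x) (B : Set (IrrCharacter G))
    (e : Set (IrrCharacter H)) (he : IsPBlock M e)
    (hC : ∀ χ : IrrCharacter G, χ ∉ B → ∀ s : H, ¬ p ∣ orderOf s →
      blockPart e (fun c : H => (χ : G → ℂ) (u * (c : G))) s = 0) :
    ∑ᶠ χ ∈ B, ∑ᶠ s : H, pRegularPart p (blockPart e (fun c : H => (χ : G → ℂ) (u * c))) s *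
        blockPart e (fun c : H => (χ : G → ℂ) (u⁻¹ * c)) s⁻¹ =
      (Nat.card H : ℂ) * (blockRank p e : ℂ) := by
  classical
  haveI : Fintype H := Fintype.ofFinite H
  rw [Helper77.blockRank_formula hM he]
  rw [finsum_mem_def, finsum_eq_sum_of_fintype]
  have h1 : ∀ χ : IrrCharacter G, B.indicator (fun χ : IrrCharacter G => ∑ᶠ s : H,
      pRegularPart p (blockPart e (fun c : H => (χ : G → ℂ) (u * c))) s *
        blockPart e (fun c : H => (χ : G → ℂ) (u⁻¹ * c)) s⁻¹) χ =
      ∑ s : H, (if p ∣ orderOf s then (0 : ℂ) else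
        (if χ ∈ B then (1 : ℂ) else 0) *
        (blockPart e (fun c : H => (χ : G → ℂ) (u * c)) s *
          conj (blockPart e (fun c : H => (χ : G → ℂ) (u * c)) s))) := by
    intro χ
    by_cases hχ : χ ∈ B
    · rw [Set.indicator_of_mem hχ, finsum_eq_sum_of_fintype]
      refine Finset.sum_congr rfl (fun s _ => ?_)
      by_cases hs : p ∣ orderOf s
      · rw [if_pos hs, Helper77.pRegularPart_of_sing hs, zero_mul]
      · rw [if_neg hs, Helper77.pRegularPart_of_reg hs, if_pos hχ, one_mul, blockPart_inv]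
    · rw [Set.indicator_of_notMem hχ]
      symm
      apply Finset.sum_eq_zero
      intro s _
      split_ifs <;> simp
  rw [Finset.sum_congr rfl (fun χ _ => h1 χ), Finset.sum_comm]
  refine Finset.sum_congr rfl (fun s _ => ?_)
  by_cases hs : p ∣ orderOf s
  · simp only [if_pos hs, Finset.sum_const_zero]
    symm
    rw [finsum_mem_def, finsum_eq_sum_of_fintype]
    apply Finset.sum_eq_zero
    intro ψ _
    by_cases hψ : ψ ∈ e
    · rw [Set.indicator_of_mem hψ, Helper77.pRegularPart_of_sing hs, zero_mul]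
    · rw [Set.indicator_of_notMem hψ]
  · simp only [if_neg hs]
    have h2 : ∀ χ : IrrCharacter G, (if χ ∈ B then (1 : ℂ) else 0) *
        (blockPart e (fun c : H => (χ : G → ℂ) (u * c)) s *
          conj (blockPart e (fun c : H => (χ : G → ℂ) (u * c)) s)) =
        blockPart e (fun c : H => (χ : G → ℂ) (u * c)) s *
          conj (blockPart e (fun c : H => (χ : G → ℂ) (u * c)) s) := by
      intro χ
      by_cases hχ : χ ∈ B
      · rw [if_pos hχ, one_mul]
      · rw [if_neg hχ, zero_mul, hC χ hχ s hs, zero_mul]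
    rw [Finset.sum_congr rfl (fun χ _ => h2 χ), pointwise hM hp u hu H hH e he s hs]
    rw [finsum_mem_def, finsum_eq_sum_of_fintype]
    refine Finset.sum_congr rfl (fun ψ _ => ?_)
    by_cases hψ : ψ ∈ e
    · rw [Set.indicator_of_mem hψ, if_pos hψ, one_mul, Helper77.pRegularPart_of_reg hs, irr_inv]
    · rw [Set.indicator_of_notMem hψ, if_neg hψ, zero_mul]

/-- second main theorem, transported to any subgroup equal to `C_G(u)` -/
theorem smt [Fact p.Prime] (hM : IsPModular p M) (u : G) (hu : ∃ k : ℕ, orderOf u = p ^ k)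
    (H : Subgroup G) (hHeq : H = Subgroup.centralizer ({u} : Set G))
    (B : Set (IrrCharacter G)) (e : Set (IrrCharacter H)) (he : IsPBlock M e)
    (hind : IsInducedBlock M H e B) :
    ∀ χ : IrrCharacter G, χ ∉ B → ∀ s : H, ¬ p ∣ orderOf s →
      blockPart e (fun c : H => (χ : G → ℂ) (u * (c : G))) s = 0 := by
  subst hHeq
  haveI hMp : M.IsPrime := Helper77.isPrime_of_isPModular hM
  intro χ hχ s hs
  refine Helper16.second_main_character hM u hu (B := blockOf M (χ : G → ℂ)) ⟨χ, rfl⟩ χ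
    (Helper16.sameBlock_refl _) e he ?_ s hs
  intro hind'
  apply hχ
  rw [Helper77.isInducedBlock_unique _ hind hind']
  exact Helper16.sameBlock_refl _

theorem centralizer_zpowers_eq (u : G) :
    Subgroup.centralizer (Subgroup.zpowers u : Set G) = Subgroup.centralizer ({u} : Set G) := by
  ext x
  rw [Subgroup.mem_centralizer_iff, Subgroup.mem_centralizer_iff]
  constructor
  · intro h y hy
    rw [Set.mem_singleton_iff] at hy
    rw [hy]
    exact h u (Subgroup.mem_zpowers u)
  · intro h y hy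
    obtain ⟨k, rfl⟩ := Subgroup.mem_zpowers_iff.mp hy
    have h1 : Commute u x := h u (Set.mem_singleton u)
    exact (h1.zpow_left k).eq

theorem isInduced_of_brauerPair [Fact p.Prime] (hM : IsPModular p M) (B : Set (IrrCharacter G))
    (P : Subgroup G) (hPL : P ≤ Subgroup.centralizer (P : Set G))
    (e : Set (IrrCharacter (Subgroup.centralizer (P : Set G))))
    (hBe : IsBrauerPairOf p M B P e) :
    IsInducedBlock M (Subgroup.centralizer (P : Set G)) e B := by
  classical
  haveI hMp : M.IsPrime := Helper77.isPrime_of_isPModular hM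
  have hP : IsPGroup p P := hBe.1.1
  have he : IsPBlock M e := hBe.1.2
  have hLN : Subgroup.centralizer (P : Set G) ≤ Subgroup.normalizer (P : Set G) :=
    Subgroup.centralizer_le_normalizer _
  obtain ⟨B₁, hind⟩ := Helper78.inducedBlockDefined_of_le_normalizer hM hP hPL le_rfl hLN e he
  haveI : Fintype (Subgroup.centralizer (P : Set G)) := Fintype.ofFinite _
  have hpair : IsBrauerPairOf p M B₁ P e :=
    Helper77.isBrauerPairOf_of_isInducedBlock hM P (Subgroup.centralizer (P : Set G)) hP hPL le_rfl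
      hLN Subgroup.le_normalizer B₁ e he
      (fun t ht => Helper77.stabilizesBlock_of_mem_self _ e t ht) e he
      (fun t => by rw [Helper77.extFun_of_mem _ _ t.2]) hind
  obtain ⟨B₀, _, huniq⟩ := Helper77.existsUnique_isBrauerPairOf hM P e ⟨hP, he⟩
  rw [huniq B hBe, ← huniq B₁ hpair]
  exact hind

theorem zpowers_le_centralizer (u : G) :
    Subgroup.zpowers u ≤ Subgroup.centralizer (Subgroup.zpowers u : Set G) := by
  intro x hx
  rw [Subgroup.mem_centralizer_iff]
  intro y hy
  obtain ⟨k, rfl⟩ := Subgroup.mem_zpowers_iff.mp hx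
  obtain ⟨l, rfl⟩ := Subgroup.mem_zpowers_iff.mp hy
  exact ((Commute.refl u).zpow_zpow l k).eq

end lib

/-- Fix a prime p and a maximal ideal M of the algebraic integers containing p, a p-block B of the finite group G, a p-element u and a p-block e of C = C_G(u) such that (⟨u⟩, e) is a Brauer pair of B (a Brauer element of B). For χ ∈ B let χ_u be the e-part of the class function c ↦ χ(u c) on C and χ_u' the e-part of c ↦ χ(u⁻¹ c). Then the sum over χ ∈ B and over the p-regular elements s of C of χ_u(s)·χ_u'(s⁻¹) equals the order of C times the p-regular rank of e (the number of irreducible Brauer characters of e). -/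
theorem result {G : Type*} [Group G] [Fintype G] (p : ℕ) [Fact p.Prime] (M : Ideal Cfsg.AlgInt) (hM : Cfsg.IsPModular p M) (B : Set (Cfsg.IrrCharacter G)) (u : G) (hu : ∃ k : ℕ, orderOf u = p ^ k) (e : Set (Cfsg.IrrCharacter (Subgroup.centralizer (Subgroup.zpowers u : Set G)))) (hBe : Cfsg.IsBrauerPairOf p M B (Subgroup.zpowers u) e) : ∑ᶠ χ ∈ B, ∑ᶠ s : Subgroup.centralizer (Subgroup.zpowers u : Set G), Cfsg.pRegularPart p (Cfsg.blockPart e (fun c : Subgroup.centralizer (Subgroup.zpowers u : Set G) => (χ : G → ℂ) (u * c))) s * Cfsg.blockPart e (fun c : Subgroup.centralizer (Subgroup.zpowers u : Set G) => (χ : G → ℂ) (u⁻¹ * c)) s⁻¹ = (Nat.card (Subgroup.centralizer (Subgroup.zpowers u : Set G)) : ℂ) * (Cfsg.blockRank p e : ℂ) := by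
  have hp : p.Prime := Fact.out
  have hind := isInduced_of_brauerPair hM B (Subgroup.zpowers u) (zpowers_le_centralizer u) e hBe
  have he : IsPBlock M e := hBe.1.2
  have hH : ∀ x : G, x ∈ Subgroup.centralizer (Subgroup.zpowers u : Set G) ↔ x * u = u * x := by
    intro x
    rw [centralizer_zpowers_eq, Subgroup.mem_centralizer_iff]
    constructor
    · intro h; exact (h u (Set.mem_singleton u)).symm
    · intro h y hy
      rw [Set.mem_singleton_iff] at hy
      rw [hy]; exact h.symm
  exact core hM hp u hu _ hH B e he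
    (smt hM u hu _ (centralizer_zpowers_eq u) B e he hind)

end Cfsg.Agent.S4683
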