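import Cfsg.Statements.S4513
import Cfsg.Agent.Helper79.BrauerFeit
import Cfsg.Agent.Helper79.BlockRankLemmas
import Cfsg.Agent.S4683
import Cfsg.Agent.S0920
import Cfsg.Agent.Helper16.SecondMainVanish

set_option autoImplicit false
set_option linter.style.haveILetI false
set_option linter.unusedSectionVars false
open Cfsg

namespace Cfsg.Agent.S4513

open scoped ComplexConjugate
open Cfsg.Agent.S4426

section general

variable {K : Type*} [Group K] [Fintype K] {M : Ideal AlgInt}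

/-- integers: `x² + Σ (nonzero squares) = 2x` -/
theorem int_aux1 {x : ℤ} (hx : x ≠ 0) (h : x * x = 2 * x) : x = 2 := by
  have : x * (x - 2) = 0 := by linarith
  rcases mul_eq_zero.mp this with h1 | h1
  · exact absurd h1 hx
  · linarith

theorem int_aux2 {x y : ℤ} (hx : x ≠ 0) (hy : y ≠ 0) (h : x * x + y * y = 2 * x) :
    x = 1 ∧ (y = 1 ∨ y = -1) := by
  have hy1 : 1 ≤ y * y := by
    have := mul_self_pos.2 hy
    omega
  have hx1 : x = 1 := by nlinarith [sq_nonneg (x - 1), mul_self_pos.2 hx]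
  subst hx1
  have : y * y = 1 := by linarith
  refine ⟨rfl, ?_⟩
  have h3 : (y - 1) * (y + 1) = 0 := by linarith
  rcases mul_eq_zero.mp h3 with h4 | h4
  · left; linarith
  · right; linarith

/-- basic data of a 2-block of defect one -/
theorem defect_one_data [Fact (Nat.Prime 2)] (hM : IsPModular 2 M) {B : Set (IrrCharacter K)}
    (hB : IsPBlock M B) (hd : blockDefect 2 B = 1) (ψ : IrrCharacter K) (hψ : ψ ∈ B) :
    (∀ ξ ∈ B, blockHeight 2 B (ξ : K → ℂ) = 0) ∧ (Set.toFinite B).toFinset.card ≤ 2 ∧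
    ∃ m : IrrCharacter K → ℤ, (∀ ξ : IrrCharacter K, classInner (cut 2 2 (ψ : K → ℂ)) (ξ : K → ℂ) = (m ξ : ℂ)) ∧
      (∀ ξ ∈ B, m ξ ≠ 0) ∧ ∑ ξ ∈ (Set.toFinite B).toFinset, m ξ * m ξ = 2 * m ψ := by
  classical
  have h4 := Helper79.four_mul_sum_pow_height_le hM hB
  rw [hd] at h4
  have hsum : ∑ ξ ∈ (Set.toFinite B).toFinset, 2 ^ (2 * blockHeight 2 B (ξ : K → ℂ)) ≤ 2 := by
    norm_num at h4 ⊢
    omega
  have hht : ∀ ξ ∈ B, blockHeight 2 B (ξ : K → ℂ) = 0 := by
    intro ξ hξ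
    have hξ' : ξ ∈ (Set.toFinite B).toFinset := (Set.Finite.mem_toFinset _).2 hξ
    have h1 : 2 ^ (2 * blockHeight 2 B (ξ : K → ℂ)) ≤
        ∑ ξ ∈ (Set.toFinite B).toFinset, 2 ^ (2 * blockHeight 2 B (ξ : K → ℂ)) :=
      Finset.single_le_sum (f := fun ξ : IrrCharacter K => 2 ^ (2 * blockHeight 2 B (ξ : K → ℂ)))
        (fun _ _ => Nat.zero_le _) hξ'
    by_contra hne
    have h2 : 1 ≤ blockHeight 2 B (ξ : K → ℂ) := Nat.one_le_iff_ne_zero.mpr hne
    have h3 : 2 ^ (2 * 1) ≤ 2 ^ (2 * blockHeight 2 B (ξ : K → ℂ)) :=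
      Nat.pow_le_pow_right (by norm_num) (by omega)
    norm_num at h3
    omega
  have hcard : (Set.toFinite B).toFinset.card ≤ 2 := by
    calc (Set.toFinite B).toFinset.card = ∑ ξ ∈ (Set.toFinite B).toFinset, 1 := by simp
      _ ≤ ∑ ξ ∈ (Set.toFinite B).toFinset, 2 ^ (2 * blockHeight 2 B (ξ : K → ℂ)) :=
        Finset.sum_le_sum (fun ξ _ => Nat.one_le_two_pow)
      _ ≤ 2 := hsum
  refine ⟨hht, hcard, ?_⟩
  obtain ⟨m, hm1, hm2, hm3⟩ := Helper79.exists_brauerFeit_integers hM hB ψ hψ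
  have hmin : (charDegree (ψ : K → ℂ)).factorization 2 = Helper16.minExp 2 B :=
    (Helper16.blockHeight_eq_zero_iff 2 hψ).1 (hht ψ hψ)
  have hdef : (Nat.card K).factorization 2 - Helper16.minExp 2 B = 1 := hd
  have hab : (Nat.card K).factorization 2 - (charDegree (ψ : K → ℂ)).factorization 2 = 1 := by
    rw [hmin]; exact hdef
  rw [hab] at hm1 hm3
  refine ⟨m, fun (ξ : IrrCharacter K) => ?_, fun ξ hξ => ?_, ?_⟩
  · have := hm1 ξ
    simpa using this
  · intro h0
    have h1 := Helper79.inner_cut_ne_zero_of_height_zero hM hB ψ ξ hψ hξ (hht ξ hξ)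
    rw [hm2 ξ, h0] at h1
    simp at h1
  · have := hm3
    simpa using this

theorem classInner_cut_one_right (p : ℕ) (c : ℂ) (χ ξ : K → ℂ) :
    classInner (cut p c χ) (cut p 1 ξ) = classInner (cut p c χ) ξ := by
  unfold classInner cut
  congr 1
  refine Finset.sum_congr rfl (fun x _ => ?_)
  split_ifs <;> simp

theorem cut_two (p : ℕ) (χ : K → ℂ) : cut p 2 χ = (2 : ℂ) • cut p 1 χ := by
  have := Cfsg.Agent.S4494.cut_mul p 2 1 χ
  simpa using this

/-- if `[χ°, χ] = 1` for irreducible `χ` then `χ` vanishes on `p`-singular elements -/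
theorem vanish_of_inner_cut_eq_one (p : ℕ) (χ : IrrCharacter K)
    (h : classInner (cut p 1 (χ : K → ℂ)) (χ : K → ℂ) = 1) :
    ∀ y : K, p ∣ orderOf y → (χ : K → ℂ) y = 0 := by
  set δ : K → ℂ := (χ : K → ℂ) - cut p 1 (χ : K → ℂ) with hδ
  have h1 : classInner δ δ = classInner δ (χ : K → ℂ) := by
    unfold classInner
    congr 1
    refine Finset.sum_congr rfl (fun x _ => ?_)
    simp only [hδ, Pi.sub_apply, cut]
    split_ifs <;> simp
  have h2 : classInner δ (χ : K → ℂ) = 0 := by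
    rw [hδ, Helper74.classInner_sub_left, Helper79.classInner_irr_self, h, sub_self]
  have h3 : δ = 0 := Helper74.classInner_self_eq_zero (h1.trans h2)
  intro y hy
  have := congrFun h3 y
  simp only [hδ, Pi.sub_apply, cut, if_pos hy, Pi.zero_apply, sub_zero] at this
  exact this

theorem defect_one_struct [Fact (Nat.Prime 2)] (hM : IsPModular 2 M) {B : Set (IrrCharacter K)}
    (hB : IsPBlock M B) (hd : blockDefect 2 B = 1) :
    ∃ χ₁ χ₂ : IrrCharacter K, χ₁ ≠ χ₂ ∧ (∀ χ, χ ∈ B ↔ χ = χ₁ ∨ χ = χ₂) ∧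
      (∀ g : K, ¬ 2 ∣ orderOf g → (χ₁ : K → ℂ) g = (χ₂ : K → ℂ) g) ∧
      classInner (cut 2 2 (χ₁ : K → ℂ)) (χ₁ : K → ℂ) = 1 := by
  classical
  have hMp : M.IsPrime := Helper78.isPrime_of_isPModular hM
  obtain ⟨ψ, hψ⟩ := Helper78.isPBlock_nonempty hMp hB
  obtain ⟨hht, hcard, m, hm1, hm0, hmsum⟩ := defect_one_data hM hB hd ψ hψ
  set Bf := (Set.toFinite B).toFinset with hBf
  have hψf : ψ ∈ Bf := (Set.Finite.mem_toFinset _).2 hψ
  by_cases hex : ∃ ξ ∈ B, ξ ≠ ψ
  · obtain ⟨ξ, hξ, hne⟩ := hex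
    have hξf : ξ ∈ Bf := (Set.Finite.mem_toFinset _).2 hξ
    have hBfeq : Bf = {ψ, ξ} := by
      symm
      apply Finset.eq_of_subset_of_card_le
      · intro z hz
        rw [Finset.mem_insert, Finset.mem_singleton] at hz
        rcases hz with rfl | rfl
        · exact hψf
        · exact hξf
      · rw [Finset.card_pair hne.symm]; exact hcard
    have hmem : ∀ χ, χ ∈ B ↔ χ = ψ ∨ χ = ξ := by
      intro χ
      rw [← Set.Finite.mem_toFinset (Set.toFinite B), ← hBf, hBfeq, Finset.mem_insert,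
        Finset.mem_singleton]
    rw [hBfeq, Finset.sum_pair hne.symm] at hmsum
    obtain ⟨hmψ, hmξ⟩ := int_aux2 (hm0 ψ hψ) (hm0 ξ hξ) hmsum
    -- data for ξ
    obtain ⟨-, -, m', hm1', hm0', hmsum'⟩ := defect_one_data hM hB hd ξ hξ
    rw [← hBf, hBfeq, Finset.sum_pair hne.symm] at hmsum'
    have hmsum'' : m' ξ * m' ξ + m' ψ * m' ψ = 2 * m' ξ := by linarith
    obtain ⟨hmξ', -⟩ := int_aux2 (hm0' ξ hξ) (hm0' ψ hψ) hmsum''
    -- inner products
    have e1 : classInner (cut 2 1 (ψ : K → ℂ)) (ψ : K → ℂ) = 1 / 2 := by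
      have := hm1 ψ
      rw [cut_two, Helper74.classInner_smul_left, hmψ] at this
      have h2 : (2 : ℂ) ≠ 0 := two_ne_zero
      field_simp
      rw [mul_comm]; simpa using this
    have e2 : classInner (cut 2 1 (ξ : K → ℂ)) (ξ : K → ℂ) = 1 / 2 := by
      have := hm1' ξ
      rw [cut_two, Helper74.classInner_smul_left, hmξ'] at this
      have h2 : (2 : ℂ) ≠ 0 := two_ne_zero
      field_simp
      rw [mul_comm]; simpa using this
    have e3 : classInner (cut 2 1 (ψ : K → ℂ)) (ξ : K → ℂ) = (m ξ : ℂ) / 2 := by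
      have := hm1 ξ
      rw [cut_two, Helper74.classInner_smul_left] at this
      have h2 : (2 : ℂ) ≠ 0 := two_ne_zero
      field_simp
      rw [mul_comm]; exact this
    have e4 : classInner (cut 2 1 (ξ : K → ℂ)) (ψ : K → ℂ) = (m ξ : ℂ) / 2 := by
      rw [classInner_cut_symm 2 1 (by simp) (ξ : K → ℂ) (ψ : K → ℂ), e3,
        map_div₀, map_intCast, map_ofNat]
    have hs : (m ξ : ℂ) * (m ξ : ℂ) = 1 := by
      rcases hmξ with h | h <;> rw [h] <;> norm_num
    set δ : K → ℂ := cut 2 1 (ψ : K → ℂ) - (m ξ : ℂ) • cut 2 1 (ξ : K → ℂ) with hδ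
    have hδ0 : classInner δ δ = 0 := by
      rw [hδ, Helper74.classInner_sub_left, Helper74.classInner_sub_right,
        Helper74.classInner_sub_right, Helper74.classInner_smul_left, Helper74.classInner_smul_left,
        Helper74.classInner_smul_right, Helper74.classInner_smul_right,
        classInner_cut_one_right, classInner_cut_one_right, classInner_cut_one_right,
        classInner_cut_one_right, e1, e2, e3, e4]
      simp only [map_intCast]
      linear_combination (-(1:ℂ)/2) * hs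
    have hδz : δ = 0 := Helper74.classInner_self_eq_zero hδ0
    have hval : ∀ g : K, ¬ 2 ∣ orderOf g → (ψ : K → ℂ) g = (m ξ : ℂ) * (ξ : K → ℂ) g := by
      intro g hg
      have := congrFun hδz g
      simp only [hδ, Pi.sub_apply, Pi.smul_apply, cut, if_neg hg, Pi.zero_apply, smul_eq_mul,
        one_mul] at this
      exact sub_eq_zero.mp this
    have hpos : m ξ = 1 := by
      rcases hmξ with h | h
      · exact h
      · exfalso
        have h1 := hval 1 (by rw [orderOf_one]; norm_num)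
        rw [h, irr_one_eq, irr_one_eq] at h1
        have hp1 := Helper78.charDegree_pos_of_isIrrCharacter ψ.2
        have hp2 := Helper78.charDegree_pos_of_isIrrCharacter ξ.2
        have h2 : ((charDegree (ψ : K → ℂ) : ℤ) : ℂ) = ((-(charDegree (ξ : K → ℂ) : ℤ) : ℤ) : ℂ) := by
          push_cast; rw [h1]; ring
        have h3 : (charDegree (ψ : K → ℂ) : ℤ) = -(charDegree (ξ : K → ℂ) : ℤ) := by
          exact_mod_cast h2
        omega
    refine ⟨ψ, ξ, hne.symm, hmem, fun g hg => ?_, ?_⟩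
    · rw [hval g hg, hpos]; simp
    · rw [hm1 ψ, hmψ]; simp
  · exfalso
    push Not at hex
    have hsum1 : ∑ ξ ∈ Bf, m ξ * m ξ = m ψ * m ψ := by
      apply Finset.sum_eq_single_of_mem ψ hψf
      intro ξ hξ hne
      exact absurd (hex ξ ((Set.Finite.mem_toFinset _).1 hξ)) hne
    rw [hsum1] at hmsum
    have hm2 := int_aux1 (hm0 ψ hψ) hmsum
    have e1 : classInner (cut 2 1 (ψ : K → ℂ)) (ψ : K → ℂ) = 1 := by
      have := hm1 ψ
      rw [cut_two, Helper74.classInner_smul_left, hm2] at this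
      have h2 : (2 : ℂ) ≠ 0 := two_ne_zero
      have h3 : (2 : ℂ) * classInner (cut 2 1 (ψ : K → ℂ)) (ψ : K → ℂ) = 2 * 1 := by
        rw [this]; norm_num
      exact mul_left_cancel₀ h2 h3
    have hvan := vanish_of_inner_cut_eq_one 2 ψ e1
    have hle := Helper79.factorization_le_of_vanishes 2 (Helper74.irr_isCharacter ψ)
      (Helper78.charDegree_pos_of_isIrrCharacter ψ.2).ne' hvan
    have hmin : (charDegree (ψ : K → ℂ)).factorization 2 = Helper16.minExp 2 B :=
      (Helper16.blockHeight_eq_zero_iff 2 hψ).1 (hht ψ hψ)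
    have hdef : (Nat.card K).factorization 2 - Helper16.minExp 2 B = 1 := hd
    omega

end general

section main

variable {G : Type*} [Group G] [Fintype G] {M : Ideal AlgInt}

theorem normalizer_zpowers_involution (x : G) (hx : orderOf x = 2) :
    Subgroup.normalizer ((Subgroup.zpowers x : Subgroup G) : Set G) =
      Subgroup.centralizer ({x} : Set G) := by
  have hx2 : x ^ 2 = 1 := by rw [← hx]; exact pow_orderOf_eq_one x
  have hx1 : x ≠ 1 := by
    intro h; rw [h, orderOf_one] at hx; norm_num at hx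
  have hmem : ∀ y : G, y ∈ Subgroup.zpowers x → y = 1 ∨ y = x := by
    intro y hy
    obtain ⟨k, rfl⟩ := Subgroup.mem_zpowers_iff.mp hy
    rcases Int.emod_two_eq_zero_or_one k with h | h
    · left
      have : k = 2 * (k / 2) := by omega
      rw [this, zpow_mul, zpow_ofNat, hx2, one_zpow]
    · right
      have : k = 2 * (k / 2) + 1 := by omega
      rw [this, zpow_add, zpow_mul, zpow_ofNat, hx2, one_zpow, one_mul, zpow_one]
  ext g
  rw [Subgroup.mem_normalizer_iff, Subgroup.mem_centralizer_iff]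
  constructor
  · intro h y hy
    rw [Set.mem_singleton_iff] at hy
    subst hy
    have h1 := (h y).mp (Subgroup.mem_zpowers y)
    rcases hmem _ h1 with h2 | h2
    · exfalso
      apply hx1
      have : y = g⁻¹ * (g * y * g⁻¹) * g := by group
      rw [this, h2]; group
    · calc y * g = (g * y * g⁻¹) * g := by rw [h2]
        _ = g * y := by group
  · intro h y
    have hc : x * g = g * x := h x (Set.mem_singleton x)
    have hcy : ∀ y ∈ Subgroup.zpowers x, g * y * g⁻¹ = y := by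
      intro y hy
      obtain ⟨k, rfl⟩ := Subgroup.mem_zpowers_iff.mp hy
      have : Commute g (x ^ k) := Commute.zpow_right (show Commute g x from hc.symm) k
      rw [this.eq, mul_inv_cancel_right]
    constructor
    · intro hy; rw [hcy y hy]; exact hy
    · intro hy
      have h1 : g⁻¹ * (g * y * g⁻¹) * g = y := by group
      have h2 : g * (g * y * g⁻¹) * g⁻¹ = g * y * g⁻¹ := hcy _ hy
      have h3 : g * y * g⁻¹ = y := by
        have : g * y * g⁻¹ = g⁻¹ * (g * (g * y * g⁻¹) * g⁻¹) * g := by group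
        rw [this, h2, h1]
      rw [← h3]; exact hy

/-- uniqueness and defect of the blocks of `N_G(D)` inducing a block with defect group `D`
(transported to any subgroup equal to the normalizer). -/
theorem unique_and_defect [Fact (Nat.Prime 2)] (hM : IsPModular 2 M) (D : Subgroup G)
    (B : Set (IrrCharacter G)) (hB : IsPBlock M B) (hBD : IsDefectGroup 2 M B D)
    (H : Subgroup G) (hH : Subgroup.normalizer (D : Set G) = H)
    (b : Set (IrrCharacter H)) (hb : IsInducedBlock M H b B) :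
    blockDefect 2 b = blockDefect 2 B ∧
      ∀ b' : Set (IrrCharacter H), IsInducedBlock M H b' B → b' = b := by
  subst hH
  haveI : Fintype (Subgroup.normalizer (D : Set G)) := Fintype.ofFinite _
  have hDp : IsPGroup 2 D := by
    apply IsPGroup.of_card (n := blockDefect 2 B)
    exact Helper77.card_defectGroup hM hB D hBD
  obtain ⟨b₀, hb₀, hDb₀, hind₀⟩ := Cfsg.Agent.S0920.part_two_exists 2 M hM D hDp B hB hBD
  have hbb₀ : b = b₀ :=
    Cfsg.Agent.S0920.part_two_unique 2 M hM D hDp B hB b₀ b hb₀ hDb₀ hind₀ hb.1 hb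
  refine ⟨?_, fun b' hb' => ?_⟩
  · have h1 := Helper77.card_defectGroup hM hb₀ _ hDb₀
    have h2 := Helper77.card_defectGroup hM hB D hBD
    have h3 : Nat.card (D.subgroupOf (Subgroup.normalizer (D : Set G))) = Nat.card D := by
      exact Nat.card_congr (Subgroup.subgroupOfEquivOfLe Subgroup.le_normalizer).toEquiv
    rw [h3, h2] at h1
    rw [hbb₀]
    exact (Nat.pow_right_injective (le_refl 2) h1).symm
  · rw [hbb₀]
    exact Cfsg.Agent.S0920.part_two_unique 2 M hM D hDp B hB b₀ b' hb₀ hDb₀ hind₀ hb'.1 hb'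

theorem main (hM : Cfsg.IsPModular 2 M) (x : G) (hx : orderOf x = 2)
    (B : Set (Cfsg.IrrCharacter G)) (hB : Cfsg.IsPBlock M B) (hBD : Cfsg.IsDefectGroup 2 M B (Subgroup.zpowers x))
    (b : Set (Cfsg.IrrCharacter ↥(Subgroup.centralizer ({x} : Set G)))) (hb : Cfsg.IsInducedBlock M (Subgroup.centralizer ({x} : Set G)) b B)
    (θ : Cfsg.IrrCharacter ↥(Subgroup.centralizer ({x} : Set G))) (hθ : θ ∈ b) :
    Nat.card B = 2 ∧ (∀ χ ∈ B, ∀ ψ ∈ B, ∀ g : G, ¬ 2 ∣ orderOf g → (χ : G → ℂ) g = (ψ : G → ℂ) g) ∧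
      ∃ χ₁ ∈ B, ∃ χ₂ ∈ B, χ₁ ≠ χ₂ ∧ ∃ ε₁ ε₂ : ℤ, (ε₁ = 1 ∨ ε₁ = -1) ∧ (ε₂ = 1 ∨ ε₂ = -1) ∧ ε₁ * ε₂ = -1 ∧
        ∀ y : ↥(Subgroup.centralizer ({x} : Set G)), ¬ 2 ∣ orderOf y →
          (χ₁ : G → ℂ) (x * y) = (ε₁ : ℂ) * (θ : ↥(Subgroup.centralizer ({x} : Set G)) → ℂ) y ∧ (χ₂ : G → ℂ) (x * y) = (ε₂ : ℂ) * (θ : ↥(Subgroup.centralizer ({x} : Set G)) → ℂ) y := by
  classical
  haveI : Fact (Nat.Prime 2) := ⟨Nat.prime_two⟩
  haveI hMp : M.IsPrime := Helper78.isPrime_of_isPModular hM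
  haveI : Fintype (Subgroup.centralizer ({x} : Set G)) := Fintype.ofFinite _
  have hu : ∃ k : ℕ, orderOf x = 2 ^ k := ⟨1, by rw [hx]; norm_num⟩
  have hdB : blockDefect 2 B = 1 := by
    have h1 := Helper77.card_defectGroup hM hB _ hBD
    rw [Nat.card_zpowers, hx] at h1
    have : (2 : ℕ) ^ 1 = 2 ^ blockDefect 2 B := by simpa using h1
    exact (Nat.pow_right_injective (le_refl 2) this).symm
  obtain ⟨hdb, huniq⟩ := unique_and_defect hM (Subgroup.zpowers x) B hB hBD
    (Subgroup.centralizer ({x} : Set G)) (normalizer_zpowers_involution x hx) b hb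
  have hdb1 : blockDefect 2 b = 1 := hdb.trans hdB
  obtain ⟨χ₁, χ₂, hne, hmemB, hagree, -⟩ := defect_one_struct hM hB hdB
  obtain ⟨θ₁, θ₂, hneθ, hmemb, hagreeθ, -⟩ := defect_one_struct hM hb.1 hdb1
  have hθ₁ : θ₁ ∈ b := (hmemb θ₁).2 (Or.inl rfl)
  have hθ₂ : θ₂ ∈ b := (hmemb θ₂).2 (Or.inr rfl)
  have hχ₁ : χ₁ ∈ B := (hmemB χ₁).2 (Or.inl rfl)
  have hχ₂ : χ₂ ∈ B := (hmemB χ₂).2 (Or.inr rfl)
  have hθall : ∀ ψ ∈ b, ∀ y : Subgroup.centralizer ({x} : Set G), ¬ 2 ∣ orderOf y →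
      (ψ : Subgroup.centralizer ({x} : Set G) → ℂ) y =
        (θ : Subgroup.centralizer ({x} : Set G) → ℂ) y := by
    intro ψ hψ y hy
    rcases (hmemb ψ).1 hψ with rfl | rfl <;> rcases (hmemb θ).1 hθ with h | h <;> rw [h]
    · exact hagreeθ y hy
    · exact (hagreeθ y hy).symm
  -- cardinality
  have hBeq : B = {χ₁, χ₂} := by
    ext χ
    rw [hmemB χ]; simp
  have hcard : Nat.card B = 2 := by
    rw [hBeq, Nat.card_coe_set_eq, Set.ncard_pair hne]
  have hgoal2 : ∀ χ ∈ B, ∀ ψ ∈ B, ∀ g : G, ¬ 2 ∣ orderOf g → (χ : G → ℂ) g = (ψ : G → ℂ) g := by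
    intro χ hχ ψ hψ g hg
    rcases (hmemB χ).1 hχ with rfl | rfl <;> rcases (hmemB ψ).1 hψ with rfl | rfl
    · rfl
    · exact hagree g hg
    · exact (hagree g hg).symm
    · rfl
  refine ⟨hcard, hgoal2, ?_⟩
  -- the shift formula
  have hshift : ∀ χ ∈ B, ∀ y : Subgroup.centralizer ({x} : Set G), ¬ 2 ∣ orderOf y →
      (χ : G → ℂ) (x * (y : G)) =
        blockPart b (fun c : Subgroup.centralizer ({x} : Set G) => (χ : G → ℂ) (x * (c : G))) y := by
    intro χ hχ y hy
    have h1 := Helper16.sum_blockPart_eq (M := M) (Helper16.isClassFunction_shift χ x) y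
    rw [Finset.sum_eq_single b] at h1
    · exact h1.symm
    · intro b' hb' hne'
      exact Helper16.second_main_character hM x hu hB χ hχ b' (Helper77.mem_blocksFinset.mp hb')
        (fun hind' => hne' (huniq b' hind')) y hy
    · intro h; exact absurd (Helper77.mem_blocksFinset.mpr hb.1) h
  -- the coefficient
  set bf := (Set.toFinite b).toFinset with hbf
  let e : IrrCharacter G → ℂ := fun χ => ∑ ψ ∈ bf,
    classInner (fun c : Subgroup.centralizer ({x} : Set G) => (χ : G → ℂ) (x * (c : G)))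
      (ψ : Subgroup.centralizer ({x} : Set G) → ℂ)
  have hF : ∀ χ : IrrCharacter G, ∀ y : Subgroup.centralizer ({x} : Set G), ¬ 2 ∣ orderOf y →
      blockPart b (fun c : Subgroup.centralizer ({x} : Set G) => (χ : G → ℂ) (x * (c : G))) y =
        e χ * (θ : Subgroup.centralizer ({x} : Set G) → ℂ) y := by
    intro χ y hy
    rw [Helper16.blockPart_apply, finsum_mem_eq_finite_toFinset_sum _ (Set.toFinite b)]
    show _ = (∑ ψ ∈ bf, _) * _
    rw [Finset.sum_mul]
    refine Finset.sum_congr rfl (fun ψ hψ => ?_)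
    rw [hθall ψ ((Set.Finite.mem_toFinset _).1 hψ) y hy]
  have hone : ¬ 2 ∣ orderOf (1 : Subgroup.centralizer ({x} : Set G)) := by
    rw [orderOf_one]; norm_num
  have hθ1 : (θ : Subgroup.centralizer ({x} : Set G) → ℂ) 1 ≠ 0 := Helper16.irr_one_ne_zero θ
  have hθ1c : conj ((θ : Subgroup.centralizer ({x} : Set G) → ℂ) 1) =
      (θ : Subgroup.centralizer ({x} : Set G) → ℂ) 1 := by
    rw [irr_one_eq]; simp
  -- (a) values at x
  have hval : ∀ χ ∈ B, (χ : G → ℂ) x = e χ * (θ : Subgroup.centralizer ({x} : Set G) → ℂ) 1 := by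
    intro χ hχ
    have h1 := hshift χ hχ 1 hone
    rw [hF χ 1 hone] at h1
    simpa using h1
  -- (b) reality
  have hxinv : x⁻¹ = x := by
    have hx2 : x ^ 2 = 1 := by rw [← hx]; exact pow_orderOf_eq_one x
    have : x * x = 1 := by rw [← pow_two]; exact hx2
    exact inv_eq_of_mul_eq_one_left this
  have hreal : ∀ χ ∈ B, conj (e χ) = e χ := by
    intro χ hχ
    have h1 : conj ((χ : G → ℂ) x) = (χ : G → ℂ) x := by
      rw [← Cfsg.Agent.S4683.irr_inv χ x, hxinv]
    rw [hval χ hχ, map_mul, hθ1c] at h1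
    exact mul_right_cancel₀ hθ1 h1
  -- (d) sum zero
  have hsum0 : e χ₁ + e χ₂ = 0 := by
    have h1 := Helper77.weak_block_orthogonality hM hB (1 : G) x (by rw [orderOf_one]; norm_num)
      (by rw [hx])
    rw [finsum_mem_eq_finite_toFinset_sum _ (Set.toFinite B)] at h1
    have hBf : (Set.toFinite B).toFinset = {χ₁, χ₂} := by
      ext χ
      rw [Set.Finite.mem_toFinset, hmemB χ]; simp
    rw [hBf, Finset.sum_pair hne, hval χ₁ hχ₁, hval χ₂ hχ₂] at h1
    have hdeg : (χ₁ : G → ℂ) 1 = (χ₂ : G → ℂ) 1 :=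
      hagree 1 (by rw [orderOf_one]; norm_num)
    have hχ1 : (χ₂ : G → ℂ) 1 ≠ 0 := Helper16.irr_one_ne_zero χ₂
    rw [hdeg] at h1
    have h2 : (e χ₁ + e χ₂) * ((θ : Subgroup.centralizer ({x} : Set G) → ℂ) 1 * (χ₂ : G → ℂ) 1) = 0 := by
      linear_combination h1
    rcases mul_eq_zero.mp h2 with h3 | h3
    · exact h3
    · exact absurd h3 (mul_ne_zero hθ1 hχ1)
  -- (e) norm
  have hH : ∀ g : G, g ∈ Subgroup.centralizer ({x} : Set G) ↔ g * x = x * g := by
    intro g
    rw [Subgroup.mem_centralizer_iff]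
    constructor
    · intro h; exact (h x (Set.mem_singleton x)).symm
    · intro h y hy
      rw [Set.mem_singleton_iff] at hy
      rw [hy]; exact h.symm
  have hpt := Cfsg.Agent.S4683.pointwise hM Nat.prime_two x hu (Subgroup.centralizer ({x} : Set G)) hH
    b hb.1 1 hone
  have hsmt := Cfsg.Agent.S4683.smt hM x hu (Subgroup.centralizer ({x} : Set G)) rfl B b hb.1 hb
  have hL : ∑ χ : IrrCharacter G,
      blockPart b (fun c : Subgroup.centralizer ({x} : Set G) => (χ : G → ℂ) (x * (c : G))) 1 *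
        conj (blockPart b (fun c : Subgroup.centralizer ({x} : Set G) =>
          (χ : G → ℂ) (x * (c : G))) 1) =
      (e χ₁ * conj (e χ₁) + e χ₂ * conj (e χ₂)) *
        ((θ : Subgroup.centralizer ({x} : Set G) → ℂ) 1 *
          conj ((θ : Subgroup.centralizer ({x} : Set G) → ℂ) 1)) := by
    rw [← Finset.sum_subset (Finset.subset_univ ({χ₁, χ₂} : Finset (IrrCharacter G)))]
    · rw [Finset.sum_pair hne, hF χ₁ 1 hone, hF χ₂ 1 hone, map_mul, map_mul]
      ring
    · intro χ _ hχ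
      have hχB : χ ∉ B := by
        intro h
        apply hχ
        rcases (hmemB χ).1 h with rfl | rfl <;> simp
      rw [hsmt χ hχB 1 hone, zero_mul]
  have hR : ∑ ψ : IrrCharacter (Subgroup.centralizer ({x} : Set G)),
      (if ψ ∈ b then (1 : ℂ) else 0) *
        ((ψ : Subgroup.centralizer ({x} : Set G) → ℂ) 1 *
          conj ((ψ : Subgroup.centralizer ({x} : Set G) → ℂ) 1)) =
      2 * ((θ : Subgroup.centralizer ({x} : Set G) → ℂ) 1 *
          conj ((θ : Subgroup.centralizer ({x} : Set G) → ℂ) 1)) := by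
    rw [← Finset.sum_subset (Finset.subset_univ
      ({θ₁, θ₂} : Finset (IrrCharacter (Subgroup.centralizer ({x} : Set G)))))]
    · rw [Finset.sum_pair hneθ, if_pos hθ₁, if_pos hθ₂, hθall θ₁ hθ₁ 1 hone, hθall θ₂ hθ₂ 1 hone]
      ring
    · intro ψ _ hψ
      have hψb : ψ ∉ b := by
        intro h
        apply hψ
        rcases (hmemb ψ).1 h with rfl | rfl <;> simp
      rw [if_neg hψb, zero_mul]
  rw [hL, hR] at hpt
  have hθθ : (θ : Subgroup.centralizer ({x} : Set G) → ℂ) 1 *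
      conj ((θ : Subgroup.centralizer ({x} : Set G) → ℂ) 1) ≠ 0 := by
    rw [hθ1c]; exact mul_ne_zero hθ1 hθ1
  have hnorm : e χ₁ * conj (e χ₁) + e χ₂ * conj (e χ₂) = 2 := mul_right_cancel₀ hθθ hpt
  rw [hreal χ₁ hχ₁, hreal χ₂ hχ₂] at hnorm
  have he2 : e χ₂ = - e χ₁ := by linear_combination hsum0
  rw [he2] at hnorm
  have hsq : e χ₁ * e χ₁ = 1 := by linear_combination (1 / 2 : ℂ) * hnorm
  have hfinal : ∀ (χ : IrrCharacter G), χ ∈ B →
      ∀ y : Subgroup.centralizer ({x} : Set G), ¬ 2 ∣ orderOf y →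
      (χ : G → ℂ) (x * (y : G)) = e χ * (θ : Subgroup.centralizer ({x} : Set G) → ℂ) y := by
    intro χ hχ y hy
    rw [hshift χ hχ y hy, hF χ y hy]
  rcases mul_self_eq_one_iff.mp hsq with h1 | h1
  · refine ⟨χ₁, hχ₁, χ₂, hχ₂, hne, 1, -1, Or.inl rfl, Or.inr rfl, by norm_num, fun y hy => ⟨?_, ?_⟩⟩
    · rw [hfinal χ₁ hχ₁ y hy, h1]; simp
    · rw [hfinal χ₂ hχ₂ y hy, he2, h1]; simp
  · refine ⟨χ₁, hχ₁, χ₂, hχ₂, hne, -1, 1, Or.inr rfl, Or.inl rfl, by norm_num, fun y hy => ⟨?_, ?_⟩⟩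
    · rw [hfinal χ₁ hχ₁ y hy, h1]; simp
    · rw [hfinal χ₂ hχ₂ y hy, he2, h1]; simp

end main

/-- Blocks of defect one for p = 2. Let M be a maximal ideal of the algebraic integers containing 2, B a 2-block of the finite group G whose defect group is the subgroup generated by an involution x, C = C_G(x), b a block of C inducing B and θ a member of b taking the same value at x as at 1 (there is exactly one). Then B consists of exactly two irreducible characters, which agree on every element of odd order, and they can be labelled χ₁, χ₂ with signs ε₁, ε₂ = ±1, ε₁ε₂ = −1, such that χᵢ(x y) = εᵢ θ(y) for every element y of C of odd order. -/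
theorem result {G : Type*} [Group G] [Finite G] (M : Ideal Cfsg.AlgInt) (hM : Cfsg.IsPModular 2 M) (x : G) (hx : orderOf x = 2)
    (B : Set (Cfsg.IrrCharacter G)) (hB : Cfsg.IsPBlock M B) (hBD : Cfsg.IsDefectGroup 2 M B (Subgroup.zpowers x))
    (b : Set (Cfsg.IrrCharacter ↥(Subgroup.centralizer ({x} : Set G)))) (hb : Cfsg.IsInducedBlock M (Subgroup.centralizer ({x} : Set G)) b B)
    (θ : Cfsg.IrrCharacter ↥(Subgroup.centralizer ({x} : Set G))) (hθ : θ ∈ b)
    (hθx : ∀ z : ↥(Subgroup.centralizer ({x} : Set G)), (z : G) = x → (θ : ↥(Subgroup.centralizer ({x} : Set G)) → ℂ) z = (θ : ↥(Subgroup.centralizer ({x} : Set G)) → ℂ) 1) :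
    Nat.card B = 2 ∧ (∀ χ ∈ B, ∀ ψ ∈ B, ∀ g : G, ¬ 2 ∣ orderOf g → (χ : G → ℂ) g = (ψ : G → ℂ) g) ∧
      ∃ χ₁ ∈ B, ∃ χ₂ ∈ B, χ₁ ≠ χ₂ ∧ ∃ ε₁ ε₂ : ℤ, (ε₁ = 1 ∨ ε₁ = -1) ∧ (ε₂ = 1 ∨ ε₂ = -1) ∧ ε₁ * ε₂ = -1 ∧
        ∀ y : ↥(Subgroup.centralizer ({x} : Set G)), ¬ 2 ∣ orderOf y →
          (χ₁ : G → ℂ) (x * y) = (ε₁ : ℂ) * (θ : ↥(Subgroup.centralizer ({x} : Set G)) → ℂ) y ∧ (χ₂ : G → ℂ) (x * y) = (ε₂ : ℂ) * (θ : ↥(Subgroup.centralizer ({x} : Set G)) → ℂ) y := by
  haveI : Fintype G := Fintype.ofFinite G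
  exact main hM x hx B hB hBD b hb θ hθ

end Cfsg.Agent.S4513
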