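import Cfsg.Statements.S5119
import Cfsg.Agent.Helper88.FusionStrongInv

set_option autoImplicit false
open Cfsg

namespace Cfsg.Agent.S5119

open Cfsg.FusionSystem Cfsg.Agent.Helper87 Cfsg.Agent.Helper88.FS

/-- Let F be a saturated fusion system over a finite p-group S and E a subsystem of F over a subgroup T that is strongly closed in F. Then E is invariant in F (invariance under Aut_F(T) plus the Frattini condition) if and only if the strong invariance condition holds: for P ≤ Q ≤ T, every map φ of E from P into Q and every map ψ of F with source Q, the transported map ψ φ ψ⁻¹ on ψ(P) is a map of E. -/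
theorem result {Ω : Type*} [Group Ω] {S : Subgroup Ω} [Finite S] (p : ℕ) [Fact p.Prime] (hS : IsPGroup p S) (F : Cfsg.FusionSystem S) (hF : F.IsSaturated p) {T : Subgroup Ω} (E : Cfsg.FusionSystem T) (hE : E.IsSubsystemOf F) (hT : F.StronglyClosed T) : E.IsInvariantIn F ↔ ∀ (P Q : Subgroup Ω) (hPQ : P ≤ Q) (_ : Q ≤ T) (φ : P →* Ω) (_ : φ ∈ E.Hom P) (hφQ : ∀ x : P, φ x ∈ Q) (ψ : Q →* Ω) (_ : ψ ∈ F.Hom Q), ∃ χ ∈ E.Hom ((P.subgroupOf Q).map ψ), ∀ (x : P) (hx : ψ (Subgroup.inclusion hPQ x) ∈ (P.subgroupOf Q).map ψ), χ ⟨ψ (Subgroup.inclusion hPQ x), hx⟩ = ψ ⟨φ x, hφQ x⟩ := by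
  have hTS : T ≤ S := hT.1
  constructor
  · intro hEF P Q hPQ hQT φ hφ hφQ ψ hψ
    obtain ⟨α, hα, ψ₀, hψ₀, hψx⟩ := hEF.2.2.2 Q hQT ψ hψ
    have hψ₀T : ∀ x : Q, ψ₀ x ∈ T := (E.le_of_mem hψ₀).2
    have hψ₀P : ψ₀.comp (Subgroup.inclusion hPQ) ∈ E.Hom P := restrict_mem E hψ₀ hPQ
    obtain ⟨ρ, hρ, hρx⟩ := E.inv_mem hψ₀P
    have hρP : ∀ y : (ψ₀.comp (Subgroup.inclusion hPQ)).range, ρ y ∈ P := by
      rintro ⟨_, ⟨x, rfl⟩⟩
      rw [hρx]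
      exact x.2
    have hθ₁ := E.comp_mem hρ hφ hρP
    have hθ₁Q : ∀ y, (φ.comp (ρ.codRestrict P hρP)) y ∈ Q := fun y => hφQ _
    have hθ := E.comp_mem hθ₁ hψ₀ hθ₁Q
    have hP₁T : (ψ₀.comp (Subgroup.inclusion hPQ)).range ≤ T := by
      rintro _ ⟨x, rfl⟩
      exact hψ₀T _
    obtain ⟨χ, hχ, hχx⟩ := hEF.2.2.1 _ hP₁T _ hθ α hα
    have hEq : (((ψ₀.comp (Subgroup.inclusion hPQ)).range).subgroupOf T).map (T.subtype.comp α.toMonoidHom) =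
        (P.subgroupOf Q).map ψ := by
      ext y
      simp only [Subgroup.mem_map, Subgroup.mem_subgroupOf]
      constructor
      · rintro ⟨z, ⟨x, hx⟩, rfl⟩
        refine ⟨Subgroup.inclusion hPQ x, x.2, ?_⟩
        rw [hψx _ (hψ₀T _)]
        show _ = ((α z : T) : Ω)
        congr 2
        exact Subtype.ext hx
      · rintro ⟨z, hz, rfl⟩
        refine ⟨⟨ψ₀ z, hψ₀T z⟩, ⟨⟨z, hz⟩, rfl⟩, ?_⟩
        rw [hψx _ (hψ₀T _)]
        rfl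
    obtain ⟨χ', hχ', hχ'x⟩ := exists_hom_of_eq E hEq hχ
    refine ⟨χ', hχ', fun x hx => ?_⟩
    have hx₁ : ψ (Subgroup.inclusion hPQ x) ∈
        (((ψ₀.comp (Subgroup.inclusion hPQ)).range).subgroupOf T).map (T.subtype.comp α.toMonoidHom) := by
      rw [hEq]; exact hx
    rw [hχ'x _ hx₁ hx]
    have hθT : (ψ₀.comp ((φ.comp (ρ.codRestrict P hρP)).codRestrict Q hθ₁Q))
        ⟨(ψ₀.comp (Subgroup.inclusion hPQ)) x, ⟨x, rfl⟩⟩ ∈ T := hψ₀T _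
    have e0 : ψ (Subgroup.inclusion hPQ x) = ((α ⟨ψ₀ (Subgroup.inclusion hPQ x), hψ₀T _⟩ : T) : Ω) := hψx _ _
    have hx₂ : ((α ⟨ψ₀ (Subgroup.inclusion hPQ x), hψ₀T _⟩ : T) : Ω) ∈
        (((ψ₀.comp (Subgroup.inclusion hPQ)).range).subgroupOf T).map (T.subtype.comp α.toMonoidHom) := by
      rw [← e0]; exact hx₁
    have h1 := hχx ⟨(ψ₀.comp (Subgroup.inclusion hPQ)) x, ⟨x, rfl⟩⟩ hθT hx₂
    have e1 : (⟨ψ (Subgroup.inclusion hPQ x), hx₁⟩ :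
        ↥((((ψ₀.comp (Subgroup.inclusion hPQ)).range).subgroupOf T).map (T.subtype.comp α.toMonoidHom))) =
        ⟨((α ⟨ψ₀ (Subgroup.inclusion hPQ x), hψ₀T _⟩ : T) : Ω), hx₂⟩ := Subtype.ext e0
    rw [e1]
    refine h1.trans ?_
    rw [hψx _ (hψ₀T _)]
    congr 2
    apply Subtype.ext
    show ψ₀ ⟨φ ⟨ρ ⟨(ψ₀.comp (Subgroup.inclusion hPQ)) x, ⟨x, rfl⟩⟩, _⟩, _⟩ = ψ₀ ⟨φ x, hφQ x⟩
    congr 2
    congr 1
    exact Subtype.ext (hρx x)
  · intro hSI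
    have hSI' : StrongInv E F := hSI
    refine ⟨hE, hT, ?_, fun P hPT φ hφ => frattini_of_strongInv hS hF hE hT hSI' P hPT φ hφ⟩
    intro P hPT φ hφ α hα
    have hψ : T.subtype.comp α.toMonoidHom ∈ F.Hom T := (mem_autGroup_iff F hTS α).mp hα
    obtain ⟨χ, hχ, hχx⟩ := hSI P T hPT le_rfl φ hφ (E.le_of_mem hφ).2 _ hψ
    exact ⟨χ, hχ, fun x hφx hαx => hχx x hαx⟩

end Cfsg.Agent.S5119
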