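import Cfsg.Statements.S0040
import Mathlib
import Cfsg.Agent.Helper73.PGroupCyclic
import Cfsg.Agent.Helper1.FpfCyclic
import Cfsg.Agent.Helper1.CoprimeSylow

set_option autoImplicit false
open Cfsg

namespace Cfsg.Agent.S0040

open Subgroup

/-- an element of order dividing `p` acting by conjugation without fixed points on a normal subgroup `K`:
`p` does not divide the order of `K`. -/
theorem not_dvd_card_of_fpf {G : Type*} [Group G] [Finite G] (K : Subgroup G) [K.Normal] {p : ℕ}
    [Fact p.Prime] (b : G) (hb : b ^ p = 1) (hfix : K ⊓ centralizer {b} = ⊥) : ¬ p ∣ Nat.card K := by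
  intro hdvd
  let B : Subgroup G := zpowers b
  have hB : IsPGroup p B := by
    rintro ⟨g, hg⟩
    refine ⟨1, ?_⟩
    obtain ⟨j, rfl⟩ := mem_zpowers_iff.1 hg
    apply Subtype.ext
    rw [pow_one, Subgroup.coe_pow, Subgroup.coe_one, ← zpow_natCast, ← zpow_mul, mul_comm, zpow_mul,
      zpow_natCast, hb, one_zpow]
  let f : B →* MulAut K := (MulAut.conjNormal (H := K)).comp B.subtype
  let _inst : MulAction B K := MulAction.compHom K f
  have hsmul : ∀ (g : B) (k : K), g • k = f g k := fun g k => rfl
  have h1 : (1 : K) ∈ MulAction.fixedPoints B K := by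
    intro g
    rw [hsmul, map_one]
  obtain ⟨k, hk, hne⟩ := hB.exists_fixed_point_of_prime_dvd_card_of_fixed_point K hdvd h1
  apply hne
  symm
  have h2 := hk ⟨b, mem_zpowers b⟩
  rw [hsmul] at h2
  have h3 : b * (k : G) * b⁻¹ = k := by
    have := congrArg Subtype.val h2
    simpa [f] using this
  have h4 : (k : G) ∈ K ⊓ centralizer {b} := by
    refine mem_inf.2 ⟨k.2, ?_⟩
    rw [mem_centralizer_singleton_iff]
    calc (k : G) * b = (b * k * b⁻¹) * b := by rw [h3]
      _ = b * k := by group
  rw [hfix, mem_bot] at h4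
  exact Subtype.ext h4

/-- a solvable subgroup `A` of order coprime to `|K|` normalizes a nontrivial abelian subgroup of `K`. -/
theorem exists_invariant_abelian {G : Type*} [Group G] [Finite G] (K A : Subgroup G) [K.Normal]
    (hK : K ≠ ⊥) (hcop : (Nat.card A).Coprime (Nat.card K)) (hsolv : Group.IsSolvable A) :
    ∃ V : Subgroup G, V ≤ K ∧ V ≠ ⊥ ∧ (∀ u ∈ V, ∀ v ∈ V, u * v = v * u) ∧
      A ≤ normalizer (V : Set G) := by
  have hKcard : Nat.card K ≠ 1 := by
    intro h
    exact hK ((Subgroup.card_eq_one).1 h)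
  obtain ⟨r, hr, hrK⟩ := Nat.exists_prime_and_dvd hKcard
  have : Fact r.Prime := ⟨hr⟩
  have hAK : A ≤ normalizer (K : Set G) := by
    rw [normalizer_eq_top]; exact le_top
  obtain ⟨R, hR⟩ := Cfsg.Agent.Helper1.exists_invariant_sylow A K hAK hcop (Or.inl hsolv) r
  set R' : Subgroup G := (R : Subgroup K).map K.subtype with hR'
  have hR'K : R' ≤ K := by
    rintro _ ⟨x, -, rfl⟩
    exact x.2
  have hR'p : IsPGroup r R' := R.isPGroup'.map K.subtype
  have hR'ne : Nontrivial R' := by
    have hcard : Nat.card R' = Nat.card (R : Subgroup K) :=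
      Nat.card_congr ((R : Subgroup K).equivMapOfInjective K.subtype K.subtype_injective).symm.toEquiv
    have h2 : r ∣ Nat.card (R : Subgroup K) := by
      rw [R.card_eq_multiplicity]
      exact dvd_pow_self r ((Nat.Prime.factorization_pos_of_dvd hr (Nat.card_pos.ne') hrK).ne')
    rw [← Finite.one_lt_card_iff_nontrivial, hcard]
    exact lt_of_lt_of_le hr.one_lt (Nat.le_of_dvd Nat.card_pos h2)
  have hcn : Nontrivial (center R') := hR'p.center_nontrivial
  obtain ⟨⟨w, hw⟩, hw1⟩ := exists_ne (1 : center R')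
  refine ⟨R' ⊓ centralizer (R' : Set G), fun v hv => hR'K (mem_inf.1 hv).1, ?_, ?_, ?_⟩
  · intro hbot
    have hwV : (w : G) ∈ R' ⊓ centralizer (R' : Set G) := by
      refine mem_inf.2 ⟨w.2, ?_⟩
      rw [mem_centralizer_iff]
      intro x hx
      have := mem_center_iff.1 hw ⟨x, hx⟩
      exact congrArg Subtype.val this
    rw [hbot, mem_bot] at hwV
    apply hw1
    apply Subtype.ext
    apply Subtype.ext
    exact hwV
  · intro u hu v hv
    exact (mem_centralizer_iff.1 (mem_inf.1 hv).2 u (mem_inf.1 hu).1)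
  · intro g hg
    have hgN := hR hg
    rw [mem_normalizer_iff] at hgN ⊢
    -- conjugation by g and g⁻¹ preserve R'
    have hconj : ∀ x, x ∈ R' → g * x * g⁻¹ ∈ R' := fun x hx => (hgN x).1 hx
    have hconj' : ∀ x, x ∈ R' → g⁻¹ * x * g ∈ R' := by
      intro x hx
      have := (hgN (g⁻¹ * x * g)).2
      apply this
      have e : g * (g⁻¹ * x * g) * g⁻¹ = x := by group
      rw [e]; exact hx
    have key : ∀ (h : G), (∀ x, x ∈ R' → h * x * h⁻¹ ∈ R') → (∀ x, x ∈ R' → h⁻¹ * x * h ∈ R') →
        ∀ v, v ∈ R' ⊓ centralizer (R' : Set G) → h * v * h⁻¹ ∈ R' ⊓ centralizer (R' : Set G) := by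
      intro h h1 h2 v hv
      have hv := mem_inf.1 hv
      refine mem_inf.2 ⟨h1 v hv.1, ?_⟩
      rw [mem_centralizer_iff]
      intro x hx
      have hc := mem_centralizer_iff.1 hv.2 (h⁻¹ * x * h) (h2 x hx)
      calc x * (h * v * h⁻¹) = h * ((h⁻¹ * x * h) * v) * h⁻¹ := by group
        _ = h * (v * (h⁻¹ * x * h)) * h⁻¹ := by rw [hc]
        _ = h * v * h⁻¹ * x := by group
    intro v
    constructor
    · exact key g hconj hconj' v
    · intro hv
      have := key g⁻¹ (by simpa using hconj') (by simpa using hconj) _ hv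
      have e : g⁻¹ * (g * v * g⁻¹) * g⁻¹⁻¹ = v := by group
      rwa [e] at this

/-- Sylow subgroups of Frobenius complements: if H complements a nontrivial normal subgroup K and every nonidentity element of H has trivial centraliser in K, then each Sylow subgroup of H is cyclic or isomorphic to a generalized quaternion group. -/
theorem result {G : Type*} [Group G] [Finite G] (K H : Subgroup G) [K.Normal]
    (hc : Subgroup.IsComplement' K H) (hK : K ≠ ⊥) (hfpf : ∀ h ∈ H, h ≠ 1 → K ⊓ Subgroup.centralizer {h} = ⊥)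
    (p : ℕ) [Fact p.Prime] (P : Sylow p H) :
    IsCyclic P ∨ ∃ n : ℕ, Nonempty (P ≃* QuaternionGroup (2 ^ n)) := by
  have hp : p.Prime := Fact.out
  have hu : Cfsg.Agent.Helper73.UniqueOrderP p (P : Subgroup H) := by
    intro x0 y0 hx0 hy0
    have hnt : Nontrivial (P : Subgroup H) :=
      ⟨⟨x0, 1, by rintro rfl; rw [orderOf_one] at hx0; exact hp.one_lt.ne hx0⟩⟩
    have hcn : Nontrivial (center (P : Subgroup H)) := P.isPGroup'.center_nontrivial
    obtain ⟨⟨w, hw⟩, hw1⟩ := exists_ne (1 : center (P : Subgroup H))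
    have hw1' : w ≠ 1 := fun h => hw1 (Subtype.ext h)
    obtain ⟨j, hj⟩ := (IsPGroup.iff_orderOf.1 P.isPGroup') w
    have hj1 : 1 ≤ j := by
      by_contra h0
      have : j = 0 := by omega
      rw [this, pow_zero, orderOf_eq_one_iff] at hj
      exact hw1' hj
    have hz0ord := Cfsg.Agent.Helper73.orderOf_pow_pred hj hj1
    have hz0c : w ^ p ^ (j - 1) ∈ center (P : Subgroup H) := pow_mem hw _
    set z0 := w ^ p ^ (j - 1) with hz0
    have hclaim : ∀ y : (P : Subgroup H), orderOf y = p → y ∈ zpowers z0 := by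
      intro y hy
      by_contra hyz
      let ι : (P : Subgroup H) →* G := H.subtype.comp (P : Subgroup H).subtype
      have hι : Function.Injective ι := fun u v h => Subtype.ext (Subtype.ext h)
      have hab : Commute (ι y) (ι z0) :=
        (show Commute y z0 from mem_center_iff.1 hz0c y).map ι
      have ha : (ι y) ^ p = 1 := by
        have h := pow_orderOf_eq_one y
        rw [hy] at h
        rw [← map_pow, h, map_one]
      have hb : (ι z0) ^ p = 1 := by
        have h := pow_orderOf_eq_one z0
        rw [hz0ord] at h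
        rw [← map_pow, h, map_one]
      have hb1 : ι z0 ≠ 1 := by
        intro h
        have : z0 = 1 := hι (h.trans (map_one ι).symm)
        rw [this, orderOf_one] at hz0ord
        exact hp.one_lt.ne hz0ord
      have hind : ∀ i : ℕ, ι y * (ι z0) ^ i ≠ 1 := by
        intro i h
        apply hyz
        have h' : y * z0 ^ i = 1 := hι (by rw [map_mul, map_pow, map_one]; exact h)
        have : y = (z0 ^ i)⁻¹ := eq_inv_of_mul_eq_one_left h'
        rw [this]; exact inv_mem (pow_mem (mem_zpowers z0) i)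
      have haH : ι y ∈ H := (y : H).2
      have hbH : ι z0 ∈ H := (z0 : H).2
      let A : Subgroup G := (P : Subgroup H).map H.subtype
      have haA : ι y ∈ A := mem_map.2 ⟨(y : H), y.2, rfl⟩
      have hbA : ι z0 ∈ A := mem_map.2 ⟨(z0 : H), z0.2, rfl⟩
      have hAp : IsPGroup p A := P.isPGroup'.map H.subtype
      have hpK : ¬ p ∣ Nat.card K := not_dvd_card_of_fpf K (ι z0) hb (hfpf _ hbH hb1)
      have hcop : (Nat.card A).Coprime (Nat.card K) := by
        obtain ⟨k, hk⟩ := IsPGroup.iff_card.1 hAp
        rw [hk]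
        exact Nat.Coprime.pow_left k ((Nat.Prime.coprime_iff_not_dvd hp).2 hpK)
      have hsolv : Group.IsSolvable A := by
        have := hAp.isNilpotent
        infer_instance
      obtain ⟨V, hVK, hVne, hVcomm, hAV⟩ := exists_invariant_abelian K A hK hcop hsolv
      let _instV : CommGroup V :=
        { (inferInstance : Group V) with
          mul_comm := fun u v => Subtype.ext (hVcomm u u.2 v v.2) }
      have hVnt : Nontrivial V := (Subgroup.nontrivial_iff_ne_bot V).2 hVne
      let φ : ↥(H ⊓ normalizer (V : Set G)) →* MulAut V :=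
        V.normalizerMonoidHom.comp (Subgroup.inclusion inf_le_right)
      have hfpf' : ∀ g : ↥(H ⊓ normalizer (V : Set G)), g ≠ 1 → ∀ v : V, φ g v = v → v = 1 := by
        intro g hg v hv
        have hgH : (g : G) ∈ H := (mem_inf.1 g.2).1
        have hg1 : (g : G) ≠ 1 := fun h => hg (Subtype.ext h)
        have hbot := hfpf g hgH hg1
        have h3 : (g : G) * v * (g : G)⁻¹ = v := congrArg Subtype.val hv
        have h4 : (v : G) ∈ K ⊓ centralizer {(g : G)} := by
          refine mem_inf.2 ⟨hVK v.2, ?_⟩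
          rw [mem_centralizer_singleton_iff]
          calc (v : G) * g = ((g : G) * v * (g : G)⁻¹) * g := by rw [h3]
            _ = g * v := by group
        rw [hbot, mem_bot] at h4
        exact Subtype.ext h4
      let a' : ↥(H ⊓ normalizer (V : Set G)) := ⟨ι y, mem_inf.2 ⟨haH, hAV haA⟩⟩
      let b' : ↥(H ⊓ normalizer (V : Set G)) := ⟨ι z0, mem_inf.2 ⟨hbH, hAV hbA⟩⟩
      refine Cfsg.Agent.Helper1.fpf_no_rank_two φ hfpf' a' b' (Subtype.ext hab.eq)
        (Subtype.ext (by simpa using ha)) (Subtype.ext (by simpa using hb))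
        (fun h => hb1 (congrArg Subtype.val h)) ?_
      intro i h
      apply hind i
      have := congrArg Subtype.val h
      simpa using this
    have hx0z : zpowers x0 = zpowers z0 := by
      apply Subgroup.eq_of_le_of_card_ge (zpowers_le.2 (hclaim x0 hx0))
      rw [Nat.card_zpowers, Nat.card_zpowers, hx0, hz0ord]
    rw [hx0z]
    exact hclaim y0 hy0
  rcases Cfsg.Agent.Helper73.cyclic_or_quaternion P.isPGroup' hu with h | ⟨-, n, -, hn⟩
  · exact Or.inl h
  · exact Or.inr ⟨n, hn⟩

end Cfsg.Agent.S0040
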