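import Mathlib
import Cfsg.Statements.S0794
import Cfsg.Agent.S0793
import Cfsg.Agent.Helper13.Isom

set_option autoImplicit false
open Cfsg

namespace Cfsg.Agent.S0794

open Matrix
open scoped commutatorElement

variable {F : Type*} [Field F] {n : ℕ}

theorem matrix_ext_mulVec {M N : Matrix (Fin n) (Fin n) F} (h : ∀ x, M *ᵥ x = N *ᵥ x) : M = N := by
  apply Matrix.toLin'.injective
  apply LinearMap.ext
  intro x
  rw [Matrix.toLin'_apply, Matrix.toLin'_apply]
  exact h x

theorem siegel_zero (Q : QuadraticForm F (Fin n → F)) (u v : Fin n → F) :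
    Cfsg.siegelMatrix ⇑Q u v 0 = 1 := by
  simp [Cfsg.siegelMatrix]

/-- The Siegel transformation as an element of the general linear group. -/
noncomputable def siegelGL (Q : QuadraticForm F (Fin n → F)) (u v : Fin n → F) (hu : Q u = 0)
    (hv : Q v = 0) (huv : QuadraticMap.polar ⇑Q u v = 0) (c : F) :
    Matrix.GeneralLinearGroup (Fin n) F where
  val := Cfsg.siegelMatrix ⇑Q u v c
  inv := Cfsg.siegelMatrix ⇑Q u v (-c)
  val_inv := by
    rw [(Cfsg.Agent.S0793.result Q u v hu hv huv).2.2, add_neg_cancel, siegel_zero]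
  inv_val := by
    rw [(Cfsg.Agent.S0793.result Q u v hu hv huv).2.2, neg_add_cancel, siegel_zero]

theorem siegelGL_mem (Q : QuadraticForm F (Fin n → F)) (u v : Fin n → F) (hu : Q u = 0)
    (hv : Q v = 0) (huv : QuadraticMap.polar ⇑Q u v = 0) (c : F) :
    siegelGL Q u v hu hv huv c ∈ Cfsg.isometryGroup F ⇑Q := by
  rw [Cfsg.Agent.Helper13.mem_isometryGroup_iff]
  intro x
  exact (Cfsg.Agent.S0793.result Q u v hu hv huv).1 c x

/-- If `f(v,x) = 0 → f(u,x) = 0` for all `x`, the Siegel matrix is trivial. -/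
theorem siegel_eq_one_of_dependent (Q : QuadraticForm F (Fin n → F))
    (hQ : (QuadraticMap.polarBilin Q).Nondegenerate) (u v : Fin n → F)
    (h : ∀ x, QuadraticMap.polar ⇑Q v x = 0 → QuadraticMap.polar ⇑Q u x = 0) (c : F) :
    Cfsg.siegelMatrix ⇑Q u v c = 1 := by
  have key : ∀ x, QuadraticMap.polar ⇑Q u x • v = QuadraticMap.polar ⇑Q v x • u := by
    by_cases hv0 : ∀ x, QuadraticMap.polar ⇑Q v x = 0
    · intro x
      rw [hv0 x, h x (hv0 x), zero_smul, zero_smul]
    · push Not at hv0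
      obtain ⟨x₀, hx₀⟩ := hv0
      -- u = t • v with t = f(u,x₀)/f(v,x₀)
      have hprop : ∀ x, QuadraticMap.polar ⇑Q u x
          = (QuadraticMap.polar ⇑Q u x₀ / QuadraticMap.polar ⇑Q v x₀) * QuadraticMap.polar ⇑Q v x := by
        intro x
        have h1 : QuadraticMap.polar ⇑Q v
            (x - (QuadraticMap.polar ⇑Q v x / QuadraticMap.polar ⇑Q v x₀) • x₀) = 0 := by
          rw [QuadraticMap.polar_sub_right, QuadraticMap.polar_smul_right, smul_eq_mul]
          field_simp
          ring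
        have h2 := h _ h1
        rw [QuadraticMap.polar_sub_right, QuadraticMap.polar_smul_right, smul_eq_mul] at h2
        field_simp
        field_simp at h2
        linear_combination h2
      have hut : u = (QuadraticMap.polar ⇑Q u x₀ / QuadraticMap.polar ⇑Q v x₀) • v := by
        have h3 : u - (QuadraticMap.polar ⇑Q u x₀ / QuadraticMap.polar ⇑Q v x₀) • v = 0 := by
          apply hQ.1
          intro x
          rw [QuadraticMap.polarBilin_apply_apply, QuadraticMap.polar_sub_left,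
            QuadraticMap.polar_smul_left, smul_eq_mul, hprop x, sub_self]
        exact sub_eq_zero.mp h3
      intro x
      rw [hprop x]
      conv_rhs => rw [hut]
      rw [smul_smul, mul_comm]
  apply matrix_ext_mulVec
  intro x
  rw [Cfsg.Agent.S0793.siegel_mulVec, Matrix.one_mulVec, neg_smul, mul_smul, mul_smul, key x]
  simp

/-- Existence of an isometry `H`, a product of two reflections, with `H u = -u`, `H v = v`. -/
theorem exists_flip (Q : QuadraticForm F (Fin n → F)) (u v : Fin n → F) (hu : Q u = 0)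
    (huv : QuadraticMap.polar ⇑Q u v = 0)
    (x : Fin n → F) (hx1 : QuadraticMap.polar ⇑Q u x ≠ 0) (hx2 : QuadraticMap.polar ⇑Q v x = 0) :
    ∃ h : ↥(Cfsg.isometryGroup F ⇑Q),
      ((h : Matrix.GeneralLinearGroup (Fin n) F) : Matrix (Fin n) (Fin n) F) *ᵥ u = -u ∧
      ((h : Matrix.GeneralLinearGroup (Fin n) F) : Matrix (Fin n) (Fin n) F) *ᵥ v = v := by
  have hvu : QuadraticMap.polar ⇑Q v u = 0 := by rw [QuadraticMap.polar_comm]; exact huv
  have huu : QuadraticMap.polar ⇑Q u u = 0 := by rw [QuadraticMap.polar_self, hu, smul_zero]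
  -- normalise
  obtain ⟨x₁, hx₁⟩ : ∃ x₁ : Fin n → F, x₁ = (QuadraticMap.polar ⇑Q u x)⁻¹ • x := ⟨_, rfl⟩
  have p1 : QuadraticMap.polar ⇑Q u x₁ = 1 := by
    rw [hx₁, QuadraticMap.polar_smul_right, smul_eq_mul, inv_mul_cancel₀ hx1]
  have p2 : QuadraticMap.polar ⇑Q v x₁ = 0 := by
    rw [hx₁, QuadraticMap.polar_smul_right, hx2, smul_zero]
  obtain ⟨u', hu'⟩ : ∃ u' : Fin n → F, u' = x₁ + (-(Q x₁)) • u := ⟨_, rfl⟩
  have hQu' : Q u' = 0 := by
    rw [hu', QuadraticMap.map_add (⇑Q), QuadraticMap.map_smul, hu, QuadraticMap.polar_smul_right,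
      QuadraticMap.polar_comm (⇑Q) x₁ u, p1]
    simp
  have huu' : QuadraticMap.polar ⇑Q u u' = 1 := by
    rw [hu', QuadraticMap.polar_add_right, QuadraticMap.polar_smul_right, huu, p1]
    simp
  have hvu' : QuadraticMap.polar ⇑Q v u' = 0 := by
    rw [hu', QuadraticMap.polar_add_right, QuadraticMap.polar_smul_right, hvu, p2]
    simp
  have hu'u : QuadraticMap.polar ⇑Q u' u = 1 := by rw [QuadraticMap.polar_comm]; exact huu'
  have hu'v : QuadraticMap.polar ⇑Q u' v = 0 := by rw [QuadraticMap.polar_comm]; exact hvu'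
  have hu'u' : QuadraticMap.polar ⇑Q u' u' = 0 := by
    rw [QuadraticMap.polar_self, hQu', smul_zero]
  -- the two reflection vectors
  have hQw₁ : Q (u - u') = -1 := by
    have : u - u' = u + (-1 : F) • u' := by rw [neg_one_smul, sub_eq_add_neg]
    rw [this, QuadraticMap.map_add (⇑Q), QuadraticMap.map_smul, hu, hQu',
      QuadraticMap.polar_smul_right, huu']
    simp
  have hQw₂ : Q (u + u') = 1 := by
    rw [QuadraticMap.map_add (⇑Q), hu, hQu', huu']
    simp
  have hw₁ : Q (u - u') ≠ 0 := by rw [hQw₁]; exact neg_ne_zero.mpr one_ne_zero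
  have hw₂ : Q (u + u') ≠ 0 := by rw [hQw₂]; exact one_ne_zero
  have hR₁u : Cfsg.reflectionMatrix ⇑Q (u - u') *ᵥ u = u' := by
    rw [Cfsg.Agent.Helper13.reflectionMatrix_mulVec, hQw₁, QuadraticMap.polar_sub_left, huu, hu'u]
    have : ((-1 : F)⁻¹ * (0 - 1)) = 1 := by norm_num
    rw [this, one_smul]
    abel
  have hR₂u' : Cfsg.reflectionMatrix ⇑Q (u + u') *ᵥ u' = -u := by
    rw [Cfsg.Agent.Helper13.reflectionMatrix_mulVec, hQw₂, QuadraticMap.polar_add_left, huu',
      hu'u']
    have : ((1 : F)⁻¹ * (1 + 0)) = 1 := by norm_num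
    rw [this, one_smul]
    abel
  have hR₁v : Cfsg.reflectionMatrix ⇑Q (u - u') *ᵥ v = v := by
    rw [Cfsg.Agent.Helper13.reflectionMatrix_mulVec, QuadraticMap.polar_sub_left, huv, hu'v]
    simp
  have hR₂v : Cfsg.reflectionMatrix ⇑Q (u + u') *ᵥ v = v := by
    rw [Cfsg.Agent.Helper13.reflectionMatrix_mulVec, QuadraticMap.polar_add_left, huv, hu'v]
    simp
  refine ⟨⟨Cfsg.Agent.Helper13.reflectionGL Q (u + u') hw₂,
      Cfsg.Agent.Helper13.reflectionGL_mem Q (u + u') hw₂⟩ *
    ⟨Cfsg.Agent.Helper13.reflectionGL Q (u - u') hw₁,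
      Cfsg.Agent.Helper13.reflectionGL_mem Q (u - u') hw₁⟩, ?_, ?_⟩
  · rw [Subgroup.coe_mul, Units.val_mul, ← Matrix.mulVec_mulVec]
    show Cfsg.reflectionMatrix ⇑Q (u + u') *ᵥ (Cfsg.reflectionMatrix ⇑Q (u - u') *ᵥ u) = -u
    rw [hR₁u, hR₂u']
  · rw [Subgroup.coe_mul, Units.val_mul, ← Matrix.mulVec_mulVec]
    show Cfsg.reflectionMatrix ⇑Q (u + u') *ᵥ (Cfsg.reflectionMatrix ⇑Q (u - u') *ᵥ v) = v
    rw [hR₁v, hR₂v]

/-- For q odd, n ≥ 5 and Q with non-degenerate polar form: an isometry whose matrix is a Siegel transformation T_(u,v)(c) (u, v singular and orthogonal) is a commutator in the isometry group, so lies in Ω. -/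
theorem result {F : Type*} [Field F] [Fintype F] (h2 : (2 : F) ≠ 0) {n : ℕ} (hn : 5 ≤ n) (Q : QuadraticForm F (Fin n → F)) (hQ : (QuadraticMap.polarBilin Q).Nondegenerate) (u v : Fin n → F) (hu : Q u = 0) (hv : Q v = 0) (huv : QuadraticMap.polar ⇑Q u v = 0) (c : F) (g : ↥(Cfsg.isometryGroup F ⇑Q)) (hg : ((g : Matrix.GeneralLinearGroup (Fin n) F) : Matrix (Fin n) (Fin n) F) = Cfsg.siegelMatrix ⇑Q u v c) : g ∈ commutatorSet ↥(Cfsg.isometryGroup F ⇑Q) ∧ g ∈ Cfsg.Omega F ⇑Q := by
  have hcomm : g ∈ commutatorSet ↥(Cfsg.isometryGroup F ⇑Q) := by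
    rw [mem_commutatorSet_iff]
    by_cases hcase : ∃ x, QuadraticMap.polar ⇑Q u x ≠ 0 ∧ QuadraticMap.polar ⇑Q v x = 0
    · obtain ⟨x, hx1, hx2⟩ := hcase
      obtain ⟨h, hhu, hhv⟩ := exists_flip Q u v hu huv x hx1 hx2
      have hH := (Cfsg.Agent.Helper13.mem_isometryGroup_iff (⇑Q) h.1).mp h.2
      have hpol := Cfsg.Agent.Helper13.polar_mulVec_of_isometry Q _ hH
      let t : ↥(Cfsg.isometryGroup F ⇑Q) :=
        ⟨siegelGL Q u v hu hv huv (-c / 2), siegelGL_mem Q u v hu hv huv (-c / 2)⟩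
      refine ⟨h, t, ?_⟩
      have heq : h * t = g * t * h := by
        apply Subtype.ext
        apply Units.ext
        rw [Subgroup.coe_mul, Subgroup.coe_mul, Subgroup.coe_mul, Units.val_mul, Units.val_mul,
          Units.val_mul, hg]
        show ((h : Matrix.GeneralLinearGroup (Fin n) F) : Matrix (Fin n) (Fin n) F) *
            Cfsg.siegelMatrix ⇑Q u v (-c / 2)
          = Cfsg.siegelMatrix ⇑Q u v c * Cfsg.siegelMatrix ⇑Q u v (-c / 2) *
            ((h : Matrix.GeneralLinearGroup (Fin n) F) : Matrix (Fin n) (Fin n) F)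
        rw [(Cfsg.Agent.S0793.result Q u v hu hv huv).2.2]
        have hc : c + -c / 2 = c / 2 := by
          field_simp
          ring
        rw [hc]
        apply matrix_ext_mulVec
        intro y
        rw [← Matrix.mulVec_mulVec, ← Matrix.mulVec_mulVec, Cfsg.Agent.S0793.siegel_mulVec,
          Cfsg.Agent.S0793.siegel_mulVec, Matrix.mulVec_add, Matrix.mulVec_add,
          Matrix.mulVec_smul, Matrix.mulVec_smul, hhu, hhv]
        have e1 : QuadraticMap.polar ⇑Q u
            (((h : Matrix.GeneralLinearGroup (Fin n) F) : Matrix (Fin n) (Fin n) F) *ᵥ y)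
            = - QuadraticMap.polar ⇑Q u y := by
          have h3 := hpol u y
          rw [hhu, QuadraticMap.polar_neg_left] at h3
          rw [← h3, neg_neg]
        have e2 : QuadraticMap.polar ⇑Q v
            (((h : Matrix.GeneralLinearGroup (Fin n) F) : Matrix (Fin n) (Fin n) F) *ᵥ y)
            = QuadraticMap.polar ⇑Q v y := by
          have h3 := hpol v y
          rw [hhv] at h3
          exact h3
        rw [e1, e2]
        congr 1
        module
      rw [commutatorElement_def, heq]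
      group
    · push Not at hcase
      refine ⟨1, 1, ?_⟩
      rw [commutatorElement_one_right]
      symm
      apply Subtype.ext
      apply Units.ext
      rw [hg]
      have h1 : ∀ x, QuadraticMap.polar ⇑Q v x = 0 → QuadraticMap.polar ⇑Q u x = 0 := by
        intro x hx
        by_contra hne
        exact hcase x hne hx
      rw [siegel_eq_one_of_dependent Q hQ u v h1 c]
      rfl
  refine ⟨hcomm, ?_⟩
  show g ∈ commutator ↥(Cfsg.isometryGroup F ⇑Q)
  rw [commutator_eq_closure]
  exact Subgroup.subset_closure hcomm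

end Cfsg.Agent.S0794
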