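import Cfsg.Statements.S0896
import Cfsg.Agent.Helper3.BrauerLocal
import Cfsg.Agent.Helper74.InvConstituent
import Cfsg.Agent.Helper81.ModP
import Cfsg.Agent.Helper15.ConjChar

set_option autoImplicit false
open Cfsg

namespace Cfsg.Agent.S0896

open Cfsg.Agent.Helper15
open scoped ComplexConjugate
open MulAction

/-- Pairing an induced function against a `G`-invariant weight on a normal subgroup. -/
theorem sum_indFun_mul_invariant {G : Type*} [Group G] [Fintype G] (N : Subgroup G)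
    [hN : N.Normal] [Fintype N] (w : N → ℂ)
    (hw : ∀ (g : G) (n : N), w ⟨g * n * g⁻¹, hN.conj_mem n n.2 g⟩ = w n)
    (E : Subgroup G) [Fintype E] [Fintype ↥(E ⊓ N)] (ψ : E → ℂ) :
    ∑ n : N, indFun E ψ (n : G) * w n =
      ((Nat.card G : ℂ) / (Nat.card E : ℂ)) *
        ∑ x : ↥(E ⊓ N), ψ ⟨(x : G), x.2.1⟩ * w ⟨(x : G), x.2.2⟩ := by
  classical
  -- step 1: every conjugate gives the same sum
  have h1 : ∀ g : G, ∑ n : N, extendByZero E ψ (g⁻¹ * (n : G) * g) * w n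
      = ∑ n : N, extendByZero E ψ (n : G) * w n := by
    intro g
    have := sum_conj_normal N g⁻¹ (fun n : N => extendByZero E ψ (n : G) * w n)
    rw [← this]
    apply Finset.sum_congr rfl
    intro n _
    simp only [inv_inv]
    rw [← hw g⁻¹ n]
    simp only [inv_inv]
  -- step 2: the sum over `N` is a sum over `E ⊓ N`
  have h2 : ∑ n : N, extendByZero E ψ (n : G) * w n
      = ∑ x : ↥(E ⊓ N), ψ ⟨(x : G), x.2.1⟩ * w ⟨(x : G), x.2.2⟩ := by
    have e1 : ∑ n : N, extendByZero E ψ (n : G) * w n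
        = ∑ g : G, extendByZero N w g * extendByZero E ψ g := by
      rw [sum_extendByZero_mul N w (extendByZero E ψ)]
      apply Finset.sum_congr rfl
      intro n _
      rw [mul_comm]
    have e2 : ∀ g : G, extendByZero N w g * extendByZero E ψ g
        = extendByZero (E ⊓ N) (fun x => ψ ⟨(x : G), x.2.1⟩ * w ⟨(x : G), x.2.2⟩) g := by
      intro g
      by_cases hgE : g ∈ E
      · by_cases hgN : g ∈ N
        · rw [extendByZero_of_mem N w hgN, extendByZero_of_mem E ψ hgE,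
            extendByZero_of_mem (E ⊓ N) _ (⟨hgE, hgN⟩ : g ∈ E ⊓ N), mul_comm]
        · rw [extendByZero_of_not_mem N w hgN,
            extendByZero_of_not_mem (E ⊓ N) _ (fun h => hgN h.2), zero_mul]
      · rw [extendByZero_of_not_mem E ψ hgE,
          extendByZero_of_not_mem (E ⊓ N) _ (fun h => hgE h.1), mul_zero]
    rw [e1, Finset.sum_congr rfl (fun g _ => e2 g), sum_extendByZero]
  have h3 : ∀ n : N, indFun E ψ (n : G) * w n
      = (Nat.card E : ℂ)⁻¹ * ∑ g : G, extendByZero E ψ (g⁻¹ * (n : G) * g) * w n := by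
    intro n
    rw [indFun_apply, mul_assoc, Finset.sum_mul]
  rw [Finset.sum_congr rfl (fun n _ => h3 n), ← Finset.mul_sum, Finset.sum_comm,
    Finset.sum_congr rfl (fun g _ => h1 g), Finset.sum_const, Finset.card_univ, h2,
    nsmul_eq_mul, Nat.card_eq_fintype_card (α := G)]
  ring

/-- The counting identity `|G| |E ∩ N| = |N| |G : EN| |E|`. -/
theorem card_mul_card_inf {G : Type*} [Group G] [Finite G] (N : Subgroup G) [hN : N.Normal]
    (E : Subgroup G) :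
    Nat.card G * Nat.card ↥(E ⊓ N) = Nat.card N * (E ⊔ N).index * Nat.card E := by
  have h1 : N.relIndex (E ⊔ N) * (E ⊔ N).index = N.index :=
    Subgroup.relIndex_mul_index le_sup_right
  have h2 : N.relIndex (E ⊔ N) = N.relIndex E := Subgroup.relIndex_sup_right E N
  have h3 : (E ⊓ N).relIndex E = N.relIndex E := Subgroup.inf_relIndex_left E N
  have h4 : Nat.card ↥((E ⊓ N).subgroupOf E) * ((E ⊓ N).subgroupOf E).index = Nat.card E :=
    Subgroup.card_mul_index _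
  have h5 : Nat.card ↥((E ⊓ N).subgroupOf E) = Nat.card ↥(E ⊓ N) :=
    Nat.card_congr (Subgroup.subgroupOfEquivOfLe inf_le_left).toEquiv
  have h6 : Nat.card N * N.index = Nat.card G := Subgroup.card_mul_index N
  have h7 : ((E ⊓ N).subgroupOf E).index = N.relIndex E := h3
  rw [h5, h7] at h4
  rw [← h6, ← h1, h2, ← h4]
  ring

/-- Pairing an induced function with `ϑ conj ϑ`, in terms of an inner product on `E ⊓ N`. -/
theorem pairing_indFun {G : Type*} [Group G] [Fintype G] (N : Subgroup G) [hN : N.Normal]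
    [Fintype N] (ϑ : N → ℂ)
    (hinv : ∀ (g : G) (n : N), ϑ ⟨g * n * g⁻¹, hN.conj_mem (n : G) n.2 g⟩ = ϑ n)
    (E : Subgroup G) [Fintype E] [Fintype ↥(E ⊓ N)] (ψ : E → ℂ) :
    (Nat.card N : ℂ)⁻¹ * ∑ n : N, indFun E ψ (n : G) * (ϑ n * conj (ϑ n)) =
      ((E ⊔ N).index : ℂ) * classInner
        (fun x : ↥(E ⊓ N) => ψ ⟨(x : G), x.2.1⟩ * ϑ ⟨(x : G), x.2.2⟩)
        (fun x : ↥(E ⊓ N) => ϑ ⟨(x : G), x.2.2⟩) := by
  rw [sum_indFun_mul_invariant N (fun n => ϑ n * conj (ϑ n)) (fun g n => by rw [hinv]) E ψ,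
    classInner_apply]
  have hc := card_mul_card_inf N E
  have hc' : (Nat.card G : ℂ) * (Nat.card ↥(E ⊓ N) : ℂ)
      = (Nat.card N : ℂ) * ((E ⊔ N).index : ℂ) * (Nat.card E : ℂ) := by exact_mod_cast hc
  have hN0 : (Nat.card N : ℂ) ≠ 0 := by exact_mod_cast Nat.card_pos.ne'
  have hE0 : (Nat.card E : ℂ) ≠ 0 := by exact_mod_cast Nat.card_pos.ne'
  have hB0 : (Nat.card ↥(E ⊓ N) : ℂ) ≠ 0 := by exact_mod_cast Nat.card_pos.ne'
  have hsum : ∑ x : ↥(E ⊓ N), ψ ⟨(x : G), x.2.1⟩ * (ϑ ⟨(x : G), x.2.2⟩ * conj (ϑ ⟨(x : G), x.2.2⟩))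
      = ∑ x : ↥(E ⊓ N), ψ ⟨(x : G), x.2.1⟩ * ϑ ⟨(x : G), x.2.2⟩ * conj (ϑ ⟨(x : G), x.2.2⟩) := by
    apply Finset.sum_congr rfl
    intro x _
    ring
  rw [hsum]
  field_simp
  linear_combination (∑ x : ↥(E ⊓ N), ψ ⟨(x : G), x.2.1⟩ * ϑ ⟨(x : G), x.2.2⟩ *
    conj (ϑ ⟨(x : G), x.2.2⟩)) * hc'

/-- A list sum all of whose terms are `p` times an integer is `p` times an integer. -/
theorem list_sum_eq_mul_int {α : Type*} (p : ℕ) (F : α → ℂ) (l : List α)
    (h : ∀ t ∈ l, ∃ z : ℤ, F t = ((p * z : ℤ) : ℂ)) :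
    ∃ Z : ℤ, (l.map F).sum = ((p * Z : ℤ) : ℂ) := by
  induction l with
  | nil => exact ⟨0, by simp⟩
  | cons a l ih =>
    obtain ⟨z, hz⟩ := h a (List.mem_cons_self)
    obtain ⟨Z, hZ⟩ := ih (fun t ht => h t (List.mem_cons_of_mem a ht))
    refine ⟨z + Z, ?_⟩
    rw [List.map_cons, List.sum_cons, hz, hZ]
    push_cast
    ring

open Classical in
/-- First half of the lemma: local Brauer induction gives a `p`-elementary subgroup `E` with
`E N = G` and a character `ψ` of `E` with `[ψ ϑ, ϑ]_{E ∩ N}` prime to `p`. -/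
theorem exists_elementary_pairing {G : Type*} [Group G] [Fintype G] (p : ℕ) (hp : p.Prime)
    (N : Subgroup G) [hN : N.Normal] (hind : ∃ k : ℕ, N.index = p ^ k) (ϑ : N → ℂ)
    (hϑ : Cfsg.IsIrrCharacter N ϑ)
    (hinv : ∀ (g : G) (n : N), ϑ ⟨g * n * g⁻¹, hN.conj_mem (n : G) n.2 g⟩ = ϑ n) :
    ∃ (E : Subgroup G) (ψ : E → ℂ) (c : ℕ), Cfsg.IsElementary p E ∧ Cfsg.IsCharacter E ψ ∧
      E ⊔ N = ⊤ ∧ ¬ p ∣ c ∧
      classInner (fun x : ↥(E ⊓ N) => ψ ⟨(x : G), x.2.1⟩ * ϑ ⟨(x : G), x.2.2⟩)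
        (fun x : ↥(E ⊓ N) => ϑ ⟨(x : G), x.2.2⟩) = c := by
  obtain ⟨k, hk⟩ := hind
  obtain ⟨m, hm, hmem⟩ := Helper3.exists_const_mem_brauerSpan (G := G) p hp
  obtain ⟨l, hl, hsum⟩ := Helper3.exists_list_of_mem_brauerSpan hmem
  have hϑc : IsCharacter N ϑ := Helper74.isCharacter_of_isIrr hϑ
  let Φ : (G → ℂ) → ℂ := fun f => (Nat.card N : ℂ)⁻¹ * ∑ n : N, f n * (ϑ n * conj (ϑ n))
  have hΦadd : ∀ f g : G → ℂ, Φ (f + g) = Φ f + Φ g := by
    intro f g
    simp only [Φ, Pi.add_apply]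
    rw [← mul_add, ← Finset.sum_add_distrib]
    congr 1
    apply Finset.sum_congr rfl
    intro n _
    ring
  have hΦsmul : ∀ (a : ℂ) (f : G → ℂ), Φ (a • f) = a * Φ f := by
    intro a f
    simp only [Φ, Pi.smul_apply, smul_eq_mul]
    rw [mul_left_comm, Finset.mul_sum (a := a)]
    congr 1
    apply Finset.sum_congr rfl
    intro n _
    ring
  have hΦlist : ∀ l' : List ((E : Subgroup G) × ((E → ℂ) × ℤ)),
      Φ ((l'.map fun t => (t.2.2 : ℂ) • indFun t.1 t.2.1).sum)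
        = (l'.map fun t => (t.2.2 : ℂ) * Φ (indFun t.1 t.2.1)).sum := by
    intro l'
    induction l' with
    | nil => simp [Φ]
    | cons a l' ih =>
      rw [List.map_cons, List.sum_cons, List.map_cons, List.sum_cons, ← ih, hΦadd, hΦsmul]
  have hΦm : Φ (fun _ => (m : ℂ)) = m := by
    have h1 : classInner ϑ ϑ = 1 := (isIrrCharacter_iff_inner_self hϑc).mp hϑ
    rw [classInner_apply] at h1
    simp only [Φ]
    rw [← Finset.mul_sum, ← mul_assoc, mul_comm _ (m : ℂ), mul_assoc, h1, mul_one]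
  by_contra hcon
  push Not at hcon
  have hterm : ∀ t ∈ l, ∃ z : ℤ, (t.2.2 : ℂ) * Φ (indFun t.1 t.2.1) = ((p * z : ℤ) : ℂ) := by
    intro t ht
    obtain ⟨hE, hψ⟩ := hl t ht
    have hpair := pairing_indFun N ϑ hinv t.1 t.2.1
    have hA : IsCharacter ↥(t.1 ⊓ N)
        (fun x : ↥(t.1 ⊓ N) => t.2.1 ⟨(x : G), x.2.1⟩ * ϑ ⟨(x : G), x.2.2⟩) :=
      Helper74.isCharacter_mul
        (Helper74.isCharacter_comp (Subgroup.inclusion (inf_le_left : t.1 ⊓ N ≤ t.1)) hψ)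
        (Helper74.isCharacter_comp (Subgroup.inclusion (inf_le_right : t.1 ⊓ N ≤ N)) hϑc)
    have hB : IsCharacter ↥(t.1 ⊓ N) (fun x : ↥(t.1 ⊓ N) => ϑ ⟨(x : G), x.2.2⟩) :=
      Helper74.isCharacter_comp (Subgroup.inclusion (inf_le_right : t.1 ⊓ N ≤ N)) hϑc
    obtain ⟨c, hc⟩ := isCharacter_inner_nat hA hB
    have hΦt : Φ (indFun t.1 t.2.1) = ((t.1 ⊔ N).index : ℂ) * c := by
      rw [← hc]
      exact hpair
    by_cases hidx : (t.1 ⊔ N).index = 1
    · have htop : t.1 ⊔ N = ⊤ := Subgroup.index_eq_one.mp hidx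
      have hpc : p ∣ c := by
        by_contra h
        exact hcon t.1 t.2.1 c hE hψ htop h hc
      obtain ⟨c', rfl⟩ := hpc
      exact ⟨t.2.2 * c', by rw [hΦt, hidx]; push_cast; ring⟩
    · have hdvd : (t.1 ⊔ N).index ∣ p ^ k := by
        rw [← hk]
        exact Subgroup.index_dvd_of_le le_sup_right
      obtain ⟨j, -, hj⟩ := (Nat.dvd_prime_pow hp).mp hdvd
      have hj0 : j ≠ 0 := by
        rintro rfl
        exact hidx (by rw [hj, pow_zero])
      obtain ⟨i', hi'⟩ : p ∣ (t.1 ⊔ N).index := by rw [hj]; exact dvd_pow_self p hj0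
      exact ⟨t.2.2 * i' * c, by rw [hΦt, hi']; push_cast; ring⟩
  obtain ⟨Z, hZ⟩ := list_sum_eq_mul_int p _ l hterm
  have h1 : (m : ℂ) = ((p * Z : ℤ) : ℂ) := by
    rw [← hΦm, hsum, hΦlist, hZ]
  have h2 : m = p * Z := by exact_mod_cast h1
  exact hm ⟨Z, h2⟩

open Classical in
/-- Second half: from a pairing prime to `p` to an `E`-invariant irreducible constituent of
multiplicity prime to `p`. -/
theorem exists_invariant_of_pairing {G : Type*} [Group G] [Fintype G] (p : ℕ) (hp : p.Prime)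
    (N : Subgroup G) [hN : N.Normal] (hind : ∃ k : ℕ, N.index = p ^ k) (ϑ : N → ℂ)
    (hϑc : Cfsg.IsCharacter N ϑ)
    (hinv : ∀ (g : G) (n : N), ϑ ⟨g * n * g⁻¹, hN.conj_mem (n : G) n.2 g⟩ = ϑ n)
    (E : Subgroup G) (ψ : E → ℂ) (hψ : Cfsg.IsCharacter E ψ) (c : ℕ) (hc : ¬ p ∣ c)
    (hcl : classInner (fun x : ↥(E ⊓ N) => ψ ⟨(x : G), x.2.1⟩ * ϑ ⟨(x : G), x.2.2⟩)
        (fun x : ↥(E ⊓ N) => ϑ ⟨(x : G), x.2.2⟩) = c) :
    ∃ φ : IrrCharacter ↥(E ⊓ N),
      (∀ (g : G) (hg : g ∈ E) (x : ↥(E ⊓ N)),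
        (φ : ↥(E ⊓ N) → ℂ) ⟨g * x * g⁻¹, ⟨(E.mul_mem (E.mul_mem hg x.2.1) (E.inv_mem hg)),
          hN.conj_mem (x : G) x.2.2 g⟩⟩ = (φ : ↥(E ⊓ N) → ℂ) x) ∧
      ∃ m : ℕ, ¬ p ∣ m ∧
        classInner (fun x : ↥(E ⊓ N) => ϑ ⟨(x : G), x.2.2⟩) (φ : ↥(E ⊓ N) → ℂ) = m := by
  have : Fact p.Prime := ⟨hp⟩
  obtain ⟨k, hk⟩ := hind
  set B : Subgroup G := E ⊓ N with hB
  let _ : Fintype (IrrCharacter ↥B) := Helper74.irrFintype ↥B
  -- the two characters of `B`
  set A₁ : ↥B → ℂ := fun x => ψ ⟨(x : G), x.2.1⟩ * ϑ ⟨(x : G), x.2.2⟩ with hA₁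
  set A₂ : ↥B → ℂ := fun x => ϑ ⟨(x : G), x.2.2⟩ with hA₂
  have hA₂c : IsCharacter ↥B A₂ :=
    Helper74.isCharacter_comp (Subgroup.inclusion (inf_le_right : E ⊓ N ≤ N)) hϑc
  have hA₁c : IsCharacter ↥B A₁ :=
    Helper74.isCharacter_mul
      (Helper74.isCharacter_comp (Subgroup.inclusion (inf_le_left : E ⊓ N ≤ E)) hψ) hA₂c
  -- `E` normalizes `B`
  have hEB : E ≤ Subgroup.normalizer (B : Set G) := by
    intro g hg
    rw [Subgroup.mem_normalizer_iff]
    intro h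
    constructor
    · rintro ⟨h1, h2⟩
      exact ⟨E.mul_mem (E.mul_mem hg h1) (E.inv_mem hg), hN.conj_mem h h2 g⟩
    · rintro ⟨h1, h2⟩
      refine ⟨?_, ?_⟩
      · have := E.mul_mem (E.mul_mem (E.inv_mem hg) h1) hg
        simpa [mul_assoc] using this
      · have := hN.conj_mem _ h2 g⁻¹
        simpa [mul_assoc] using this
  let ρE : E →* Equiv.Perm (IrrCharacter ↥B) :=
    (Helper74.normPermHom B).comp (Subgroup.inclusion hEB)
  have hρE : ∀ (e : E) (φ : IrrCharacter ↥B) (x : ↥B),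
      (ρE e φ : ↥B → ℂ) x = (φ : ↥B → ℂ) ⟨(e : G)⁻¹ * x * e, by
        have := (Subgroup.mem_normalizer_iff.mp (hEB (E.inv_mem e.2)) x).mp x.2
        simpa using this⟩ := by
    intro e φ x
    rfl
  let S : Subgroup (Equiv.Perm (IrrCharacter ↥B)) := ρE.range
  have hker : B.subgroupOf E ≤ ρE.ker := by
    intro x hx
    rw [MonoidHom.mem_ker]
    apply Equiv.ext
    intro φ
    apply Subtype.ext
    funext y
    rw [hρE]
    have hcf := Helper74.isClassFunction_of_isCharacter (Helper74.isCharacter_of_isIrr φ.2)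
    have hxB : (x : G) ∈ B := hx
    have := hcf y (⟨(x : G), hxB⟩ : ↥B)⁻¹
    show _ = (φ : ↥B → ℂ) y
    rw [← this]
    apply congrArg (φ : ↥B → ℂ)
    apply Subtype.ext
    simp
  have hS : IsPGroup p S := by
    have h1 : Nat.card S = ρE.ker.index := (Subgroup.index_ker ρE).symm
    have h2 : ρE.ker.index ∣ (B.subgroupOf E).index := Subgroup.index_dvd_of_le hker
    have h3 : (B.subgroupOf E).index = N.relIndex E := Subgroup.inf_relIndex_left E N
    have h4 : N.relIndex E ∣ N.index := Subgroup.relIndex_dvd_index_of_normal N E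
    have h5 : Nat.card S ∣ p ^ k := by
      rw [h1, ← hk]
      exact h2.trans (h3 ▸ h4)
    obtain ⟨j, -, hj⟩ := (Nat.dvd_prime_pow hp).mp h5
    exact IsPGroup.of_card hj
  -- the weight function
  let f : IrrCharacter ↥B → ℂ := fun φ =>
    classInner A₁ (φ : ↥B → ℂ) * conj (classInner A₂ (φ : ↥B → ℂ))
  have hsumf : (c : ℂ) = ∑ φ : IrrCharacter ↥B, f φ := by
    rw [← hcl]
    exact classInner_eq_sum_irr (Helper74.isClassFunction_of_isCharacter hA₁c) A₂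
  have hnat₁ : ∀ φ : IrrCharacter ↥B, ∃ a : ℕ, classInner A₁ (φ : ↥B → ℂ) = a :=
    fun φ => Helper74.isCharacter_inner_irr_nat hA₁c φ
  have hnat₂ : ∀ φ : IrrCharacter ↥B, ∃ a : ℕ, classInner A₂ (φ : ↥B → ℂ) = a :=
    fun φ => Helper74.isCharacter_inner_irr_nat hA₂c φ
  have hintnat : ∀ n : ℕ, IsIntegral ℤ (n : ℂ) := fun n => by
    have : (n : ℂ) = algebraMap ℤ ℂ (n : ℤ) := by simp
    rw [this]
    exact isIntegral_algebraMap
  have hint : ∀ φ, IsIntegral ℤ (f φ) := by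
    intro φ
    obtain ⟨a, ha⟩ := hnat₁ φ
    obtain ⟨b, hb⟩ := hnat₂ φ
    simp only [f, ha, hb, Complex.conj_natCast]
    exact (hintnat a).mul (hintnat b)
  -- invariance of the two characters under conjugation by `E`
  have hψcf := Helper74.isClassFunction_of_isCharacter hψ
  have hA₂inv : ∀ (e : E) (x : ↥B),
      A₂ ((Helper74.normConjEquiv B (Subgroup.inclusion hEB e)).symm x) = A₂ x := by
    intro e x
    simp only [A₂]
    have := hinv (e : G)⁻¹ ⟨(x : G), x.2.2⟩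
    rw [← this]
    congr 1
    apply Subtype.ext
    simp
  have hA₁inv : ∀ (e : E) (x : ↥B),
      A₁ ((Helper74.normConjEquiv B (Subgroup.inclusion hEB e)).symm x) = A₁ x := by
    intro e x
    have h2 := hA₂inv e x
    simp only [A₂] at h2
    simp only [A₁]
    rw [h2]
    congr 1
    have := hψcf ⟨(x : G), x.2.1⟩ e⁻¹
    rw [← this]
    congr 1
    apply Subtype.ext
    simp
  have hf_inv : ∀ (s : S) (φ : IrrCharacter ↥B), f (s • φ) = f φ := by
    rintro ⟨s, e, rfl⟩ φ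
    show f (ρE e φ) = f φ
    simp only [f]
    have h1 : classInner A₁ (ρE e φ : ↥B → ℂ) = classInner A₁ (φ : ↥B → ℂ) :=
      Helper74.classInner_comp_equiv_right
        (Helper74.normConjEquiv B (Subgroup.inclusion hEB e)).symm A₁ (φ : ↥B → ℂ)
        (fun a => hA₁inv e a)
    have h2 : classInner A₂ (ρE e φ : ↥B → ℂ) = classInner A₂ (φ : ↥B → ℂ) :=
      Helper74.classInner_comp_equiv_right
        (Helper74.normConjEquiv B (Subgroup.inclusion hEB e)).symm A₂ (φ : ↥B → ℂ)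
        (fun a => hA₂inv e a)
    rw [h1, h2]
  by_contra hcon
  push Not at hcon
  have hfix0 : ∀ φ ∈ fixedPoints S (IrrCharacter ↥B), Helper81.IntModEq p (f φ) 0 := by
    intro φ hφ
    obtain ⟨a, ha⟩ := hnat₁ φ
    obtain ⟨b, hb⟩ := hnat₂ φ
    have hφinv : ∀ (g : G) (hg : g ∈ E) (x : ↥B),
        (φ : ↥B → ℂ) ⟨g * x * g⁻¹, ⟨(E.mul_mem (E.mul_mem hg x.2.1) (E.inv_mem hg)),
          hN.conj_mem (x : G) x.2.2 g⟩⟩ = (φ : ↥B → ℂ) x := by
      intro g hg x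
      have h1 : ρE ⟨g⁻¹, E.inv_mem hg⟩ φ = φ := hφ ⟨ρE ⟨g⁻¹, E.inv_mem hg⟩, ⟨_, rfl⟩⟩
      have h2 := hρE ⟨g⁻¹, E.inv_mem hg⟩ φ x
      rw [h1] at h2
      rw [h2]
      apply congrArg (φ : ↥B → ℂ)
      apply Subtype.ext
      simp
    have hpb : p ∣ b := by
      by_contra h
      exact hcon φ hφinv b h hb
    obtain ⟨b', rfl⟩ := hpb
    refine ⟨((a * b' : ℕ) : ℂ), hintnat _, ?_⟩
    simp only [f, ha, hb, Complex.conj_natCast]
    push_cast
    ring
  have key := Helper81.sum_intModEq_sum_fixedPoints hS f hf_inv hint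
  have h0 : Helper81.IntModEq p
      (∑ x with x ∈ fixedPoints S (IrrCharacter ↥B), f x) 0 := by
    have := Helper81.IntModEq.sum (p := p)
      (Finset.univ.filter (· ∈ fixedPoints S (IrrCharacter ↥B))) (f := f) (g := fun _ => 0)
      (fun i hi => hfix0 i (Finset.mem_filter.mp hi).2)
    simpa using this
  have hc0 : Helper81.IntModEq p (c : ℂ) 0 := by
    rw [hsumf]
    exact key.trans h0
  exact hc (Helper81.IntModEq.nat_dvd hp.ne_zero hc0)

/-- Let N be a normal subgroup of the finite group G with the index of N a power of the prime p, and ϑ an irreducible character of N invariant under conjugation by G. Then there are a p-elementary subgroup E of G with E ⊔ N = ⊤ and an irreducible character φ of the subgroup E ⊓ N, invariant under conjugation by E, such that the inner product of the restriction of ϑ to E ⊓ N with φ is an integer not divisible by p. -/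
theorem result {G : Type*} [Group G] [Fintype G] (p : ℕ) (hp : p.Prime) (N : Subgroup G) [hN : N.Normal] (hind : ∃ k : ℕ, N.index = p ^ k) (ϑ : N → ℂ) (hϑ : Cfsg.IsIrrCharacter N ϑ) (hinv : ∀ (g : G) (n : N), ϑ ⟨g * n * g⁻¹, hN.conj_mem (n : G) n.2 g⟩ = ϑ n) : ∃ (E : Subgroup G) (φ : ↥(E ⊓ N) → ℂ), Cfsg.IsElementary p E ∧ E ⊔ N = ⊤ ∧ Cfsg.IsIrrCharacter ↥(E ⊓ N) φ ∧ (∀ (g : G) (hg : g ∈ E) (x : ↥(E ⊓ N)), φ ⟨g * x * g⁻¹, ⟨(E.mul_mem (E.mul_mem hg x.2.1) (E.inv_mem hg)), hN.conj_mem (x : G) x.2.2 g⟩⟩ = φ x) ∧ ∃ m : ℕ, ¬ p ∣ m ∧ (Nat.card ↥(E ⊓ N) : ℂ)⁻¹ * ∑ᶠ x : ↥(E ⊓ N), ϑ ⟨(x : G), x.2.2⟩ * conj (φ x) = (m : ℂ) := by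
  classical
  have hϑc := Helper74.isCharacter_of_isIrr hϑ
  obtain ⟨E, ψ, c, hE, hψ, htop, hpc, hcl⟩ := exists_elementary_pairing p hp N hind ϑ hϑ hinv
  obtain ⟨φ, hφinv, m, hpm, hm⟩ :=
    exists_invariant_of_pairing p hp N hind ϑ hϑc hinv E ψ hψ c hpc hcl
  refine ⟨E, φ.1, hE, htop, φ.2, hφinv, m, hpm, ?_⟩
  rw [← hm, classInner_apply, finsum_eq_sum_of_fintype]

end Cfsg.Agent.S0896
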