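import Cfsg.Statements.S0890
import Cfsg.Agent.Helper15.ChiefGT
import Cfsg.Agent.Helper15.CharAux
import Cfsg.Agent.S0887
import Cfsg.Agent.S0896

set_option autoImplicit false
open Cfsg

namespace Cfsg.Agent.S0890

open Cfsg.Agent.Helper15
open scoped Pointwise ComplexConjugate commutatorElement

universe u
variable {G : Type u} [Group G]

/-- `G = K H` for a maximal subgroup `H` and a normal subgroup `K` not contained in `H`. -/
theorem prod_of_coatom (H K : Subgroup G) [K.Normal] (hH : IsCoatom H) (hKH : ¬ K ≤ H) :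
    ∀ g : G, ∃ k ∈ K, ∃ h ∈ H, g = k * h := by
  have hsup : K ⊔ H = ⊤ := by
    apply hH.2
    refine lt_of_le_of_ne le_sup_right ?_
    intro h
    apply hKH
    rw [h]; exact le_sup_left
  intro g
  have hg : g ∈ K ⊔ H := by rw [hsup]; exact Subgroup.mem_top g
  have h6 : g ∈ ((K : Subgroup G) : Set G) * ((H : Subgroup G) : Set G) := by
    rw [← Subgroup.normal_mul]; exact hg
  obtain ⟨k, hk, h, hh, rfl⟩ := Set.mem_mul.mp h6
  exact ⟨k, hk, h, hh, rfl⟩

/-- If `g • Ξ = e • η` with `Ξ` a character, `η` irreducible and `g ≠ 0`, then `Ξ = b • η`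
with `g * b = e`. -/
theorem smul_eq_smul_irr {K : Type u} [Group K] [Fintype K] {Ξ η : K → ℂ} (hΞ : IsCharacter K Ξ)
    (hη : IsIrrCharacter K η) (g e : ℕ) (hg : g ≠ 0) (h : (g : ℂ) • Ξ = (e : ℂ) • η) :
    ∃ b : ℕ, Ξ = (b : ℂ) • η ∧ g * b = e := by
  obtain ⟨b, hb⟩ := isCharacter_inner_nat hΞ (Helper74.isCharacter_of_isIrr hη)
  have h1 := congrArg (fun f => classInner f η) h
  simp only [Helper15.classInner_smul_left, hb] at h1
  have hηη : classInner η η = 1 := Helper74.irr_inner_self ⟨η, hη⟩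
  rw [hηη, mul_one] at h1
  have hgb : g * b = e := by exact_mod_cast h1
  refine ⟨b, ?_, hgb⟩
  funext x
  have h2 := congrFun h x
  simp only [Pi.smul_apply, smul_eq_mul] at h2 ⊢
  have hg' : (g : ℂ) ≠ 0 := by exact_mod_cast hg
  apply mul_left_cancel₀ hg'
  rw [h2, ← hgb]
  push_cast
  ring

/-- The restriction of a class function to a subgroup is a class function. -/
theorem isClassFunction_restrict (S : Subgroup G) {χ : G → ℂ} (hχ : IsClassFunction G χ) :
    IsClassFunction S (fun s : S => χ s) := by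
  intro a b
  simpa using hχ (a : G) (b : G)

/-- Mass over a subgroup on which the function is a multiple of an irreducible character. -/
theorem mass_of_smul [Fintype G] (S : Subgroup G) [Fintype S] [DecidablePred (· ∈ S)]
    (χ : G → ℂ) (ψ : S → ℂ) (hψ : IsIrrCharacter S ψ) (n : ℕ)
    (h : (fun s : S => χ s) = (n : ℂ) • ψ) :
    ∑ g ∈ Finset.univ.filter (· ∈ S), Complex.normSq (χ g) = (Nat.card S : ℝ) * (n : ℝ) ^ 2 := by
  have h1 := sum_filter_mem_normSq S χ
  rw [h, Helper15.classInner_smul_left, Helper15.classInner_smul_right,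
    Helper74.irr_inner_self ⟨ψ, hψ⟩] at h1
  simp only [Complex.conj_natCast, mul_one] at h1
  have h2 : ((∑ g ∈ Finset.univ.filter (· ∈ S), Complex.normSq (χ g) : ℝ) : ℂ) =
      (((Nat.card S : ℝ) * (n : ℝ) ^ 2 : ℝ) : ℂ) := by
    rw [h1]; push_cast; ring
  exact_mod_cast h2
theorem core_contradiction [Fintype G] (H K : Subgroup G) [hKn : K.Normal]
    [hLn : (H ⊓ K).Normal]
    (hH : IsCoatom H) (hKH : ¬ K ≤ H)
    (hchief : ∀ N : Subgroup G, N.Normal → H ⊓ K ≤ N → N ≤ K → N = H ⊓ K ∨ N = K)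
    (hcore : ∀ N : Subgroup G, N.Normal → N ≤ H → N ≤ H ⊓ K)
    (hsolv : Group.IsSolvable (G ⧸ (H ⊓ K)))
    (ϑ : H → ℂ) (hϑ : IsIrrCharacter H ϑ)
    (hϑL : IsIrrCharacter ↥(H ⊓ K) (fun x => ϑ ⟨(x : G), x.2.1⟩))
    (hind : IsIrrCharacter G (indFun H ϑ))
    (hhom : ∀ M : Subgroup G, M.Normal → H ⊓ K ≤ M →
      ∃ (φ : M → ℂ) (e : ℕ), IsIrrCharacter M φ ∧ (fun m : M => indFun H ϑ m) = (e : ℂ) • φ) :
    False := by
  classical
  obtain ⟨χ, hχdef⟩ : ∃ χ : G → ℂ, χ = indFun H ϑ := ⟨_, rfl⟩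
  rw [← hχdef] at hind hhom
  have hχc : IsCharacter G χ := Helper74.isCharacter_of_isIrr hind
  have hχcf : IsClassFunction G χ := Helper74.isClassFunction_of_isCharacter hχc
  have hχ1 : χ 1 ≠ 0 := Helper80.IsIrrCharacter.map_one_ne_zero hind
  have hϑc : IsCharacter H ϑ := Helper74.isCharacter_of_isIrr hϑ
  have hϑcf : IsClassFunction H ϑ := Helper74.isClassFunction_of_isCharacter hϑc
  have hϑ1 : ϑ 1 ≠ 0 := Helper80.IsIrrCharacter.map_one_ne_zero hϑ
  have hprod := prod_of_coatom H K hH hKH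
  -- Step 2: homogeneity at `K` and at `L = H ⊓ K`
  obtain ⟨η, e, hη, hχK⟩ := hhom K hKn inf_le_right
  obtain ⟨φ₁, eL, hφ₁, hχL⟩ := hhom (H ⊓ K) hLn le_rfl
  have he0 : e ≠ 0 := by
    intro h0
    apply hχ1
    have := congrFun hχK 1
    simpa [h0] using this
  -- Step 3: Mackey at `K`
  have hR2K := classInner_restrict_indFun_of_prod H K hprod hϑcf
    (ψ := fun k : K => χ k) (isClassFunction_restrict K hχcf)
  rw [← hχdef] at hR2K
  have hχL' : (fun x : ↥(H ⊓ K) => χ ((⟨(x : G), x.2.2⟩ : K) : G)) = (eL : ℂ) • φ₁ := hχL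
  rw [hχL', hχK, Helper15.classInner_smul_left, Helper15.classInner_smul_right,
    Helper15.classInner_smul_right, Helper74.irr_inner_self ⟨η, hη⟩] at hR2K
  simp only [Complex.conj_natCast, mul_one] at hR2K
  have horth := Helper74.irr_orthonormal ⟨_, hϑL⟩ ⟨φ₁, hφ₁⟩
  simp only at horth
  rw [horth] at hR2K
  have hφeq : (fun x : ↥(H ⊓ K) => ϑ ⟨(x : G), x.2.1⟩) = φ₁ := by
    by_contra hne
    rw [if_neg (fun h => hne (congrArg Subtype.val h)), mul_zero] at hR2K
    have : (e : ℂ) ≠ 0 := by exact_mod_cast he0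
    exact mul_ne_zero this this hR2K
  have heL : eL = e * e := by
    rw [if_pos (Subtype.ext hφeq), mul_one] at hR2K
    exact_mod_cast hR2K.symm
  -- Step 4: degrees and orders
  have hχ1eq : χ 1 = (eL : ℂ) * ϑ 1 := by
    have h1 := congrFun hχL 1
    have h2 := congrFun hφeq 1
    simp only [Pi.smul_apply, smul_eq_mul, ← h2] at h1
    exact h1
  have hχ1ind : χ 1 = (Nat.card H : ℂ)⁻¹ * ((Nat.card G : ℂ) * ϑ 1) := by
    rw [hχdef, indFun_apply]
    congr 1
    have : ∀ x : G, extendByZero H ϑ (x⁻¹ * 1 * x) = ϑ 1 := by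
      intro x
      have h1 : x⁻¹ * 1 * x = ((1 : H) : G) := by simp
      rw [h1, extendByZero_coe]
    simp only [this, Finset.sum_const, Finset.card_univ, nsmul_eq_mul, Nat.card_eq_fintype_card]
  have hGH : eL * Nat.card H = Nat.card G := by
    have hH0 : (Nat.card H : ℂ) ≠ 0 := by exact_mod_cast Nat.card_pos.ne'
    have h1 : (eL : ℂ) * ϑ 1 = (Nat.card H : ℂ)⁻¹ * ((Nat.card G : ℂ) * ϑ 1) := by
      rw [← hχ1eq, hχ1ind]
    have h2 : ((eL : ℂ) * (Nat.card H : ℂ)) * ϑ 1 = (Nat.card G : ℂ) * ϑ 1 := by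
      rw [mul_assoc, mul_comm (Nat.card H : ℂ), ← mul_assoc, h1]
      field_simp
    have h3 := mul_right_cancel₀ hϑ1 h2
    exact_mod_cast h3
  have hsupHK : H ⊔ K = ⊤ := by
    apply hH.2
    refine lt_of_le_of_ne le_sup_left ?_
    intro h
    apply hKH
    rw [h]; exact le_sup_right
  have hcard1 : Nat.card G * Nat.card ↥(H ⊓ K) = Nat.card K * Nat.card H := by
    have := Cfsg.Agent.S0896.card_mul_card_inf K H
    rw [hsupHK, Subgroup.index_top, mul_one] at this
    exact this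
  have hLK : eL * Nat.card ↥(H ⊓ K) = Nat.card K := by
    have hH0 : 0 < Nat.card H := Nat.card_pos
    apply Nat.eq_of_mul_eq_mul_right hH0
    rw [← hcard1, ← hGH]
    ring
  -- Step 5: `K ≠ ⊤`
  have hmassK := mass_of_smul K χ η hη e hχK
  have hmassG : ∑ g : G, Complex.normSq (χ g) = (Nat.card G : ℝ) := by
    have h1 := Helper74.irr_inner_self ⟨χ, hind⟩
    simp only at h1
    rw [Helper74.classInner_self] at h1
    have hG0 : (Nat.card G : ℂ) ≠ 0 := by exact_mod_cast Nat.card_pos.ne'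
    have h2 : ((∑ g : G, Complex.normSq (χ g) : ℝ) : ℂ) = ((Nat.card G : ℝ) : ℂ) := by
      push_cast
      field_simp at h1
      exact h1
    exact_mod_cast h2
  have hKtop : K ≠ ⊤ := by
    intro hK
    have hle : ∑ g ∈ Finset.univ.filter (· ∈ K), Complex.normSq (χ g) ≤
        ∑ g : G, Complex.normSq (χ g) :=
      Finset.sum_le_sum_of_subset_of_nonneg (Finset.filter_subset _ _)
        (fun i _ _ => Complex.normSq_nonneg _)
    rw [hmassK, hmassG] at hle
    have h1 : Nat.card K * e ^ 2 ≤ Nat.card G := by exact_mod_cast hle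
    have h2 : Nat.card K = Nat.card G := by rw [hK]; exact Subgroup.card_top
    have he2 : 0 < e ^ 2 := by positivity
    have h3 : Nat.card G * e ^ 2 ≤ Nat.card H * e ^ 2 := by
      calc Nat.card G * e ^ 2 = Nat.card K * e ^ 2 := by rw [h2]
        _ ≤ Nat.card G := h1
        _ = eL * Nat.card H := hGH.symm
        _ = Nat.card H * e ^ 2 := by rw [heL]; ring
    exact hH.1 (Subgroup.eq_top_of_le_card H (Nat.le_of_mul_le_mul_right h3 he2))
  -- Step 6: the next chief factor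
  obtain ⟨-, p, a, hp, hcardK, M, hMn, hKM, ⟨q, c, hq, hqp, hcardM⟩, hconj⟩ :=
    chief_structure H K hH hKH hchief hcore hsolv hKtop
  obtain ⟨ξ, g, hξ, hχM⟩ := hhom M hMn (inf_le_right.trans hKM.le)
  have hg0 : g ≠ 0 := by
    intro h0
    apply hχ1
    have := congrFun hχM 1
    simpa [h0] using this
  have hξK : IsCharacter K (fun k : K => ξ (Subgroup.inclusion hKM.le k)) :=
    Helper74.isCharacter_comp (Subgroup.inclusion hKM.le) (Helper74.isCharacter_of_isIrr hξ)
  have hgξ : (g : ℂ) • (fun k : K => ξ (Subgroup.inclusion hKM.le k)) = (e : ℂ) • η := by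
    rw [← hχK]
    funext k
    have := congrFun hχM (Subgroup.inclusion hKM.le k)
    simp only [Pi.smul_apply, smul_eq_mul] at this ⊢
    rw [← this]
    rfl
  obtain ⟨b, hξKb, hgb⟩ := smul_eq_smul_irr hξK hη g e hg0 hgξ
  have hb0 : b ≠ 0 := by
    intro h0
    rw [h0, mul_zero] at hgb
    exact he0 hgb.symm
  -- `e ∣ p ^ a`
  have heLpa : eL = p ^ a := by
    have hL0 : 0 < Nat.card ↥(H ⊓ K) := Nat.card_pos
    apply Nat.eq_of_mul_eq_mul_right hL0
    rw [hLK, hcardK]
  have hbpa : b ∣ p ^ a := by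
    rw [← heLpa, heL, ← hgb]
    exact Dvd.intro_left (g * (g * b)) (by ring)
  -- `b ∣ q ^ c` by `S0887`
  have hbqc : b ∣ q ^ c := by
    have : (K.subgroupOf M).Normal := Subgroup.Normal.subgroupOf hKn M
    obtain ⟨cξ, hcξ0, hcξ⟩ := irr_degree_pos hξ
    obtain ⟨dη, hdη0, hdη⟩ := irr_degree_pos hη
    have hres : (fun n : K.subgroupOf M => ξ n) =
        (b : ℂ) • toSub K M hKM.le η := by
      have h1 : (fun n : K.subgroupOf M => ξ n) =
          toSub K M hKM.le (fun k : K => ξ (Subgroup.inclusion hKM.le k)) := by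
        funext x
        rfl
      rw [h1, hξKb, toSub_smul]
    have hcon : classInner (fun n : K.subgroupOf M => ξ n) (toSub K M hKM.le η) ≠ 0 := by
      rw [hres, Helper15.classInner_smul_left, classInner_toSub,
        Helper74.irr_inner_self ⟨η, hη⟩, mul_one]
      exact_mod_cast hb0
    have hd1 : toSub K M hKM.le η 1 = dη := by
      show η (Subgroup.subgroupOfEquivOfLe hKM.le 1) = dη
      rw [map_one, hdη]
    have hcd : cξ = b * dη := by
      have h1 := congrFun hξKb 1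
      simp only [Pi.smul_apply, smul_eq_mul, map_one, hcξ, hdη] at h1
      exact_mod_cast h1
    have h87 := Cfsg.Agent.S0887.result (K.subgroupOf M) ξ hξ (toSub K M hKM.le η)
      (isIrrCharacter_toSub K M hKM.le hη) hcon cξ dη hcξ hd1
    have hidx : (K.subgroupOf M).index = q ^ c := by
      have h1 : Nat.card ↥(K.subgroupOf M) * (K.subgroupOf M).index = Nat.card ↥M :=
        Subgroup.card_mul_index _
      have h2 : Nat.card ↥(K.subgroupOf M) = Nat.card K :=
        Nat.card_congr (Subgroup.subgroupOfEquivOfLe hKM.le).toEquiv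
      rw [h2, hcardM] at h1
      have hK0 : 0 < Nat.card K := Nat.card_pos
      apply Nat.eq_of_mul_eq_mul_left hK0
      rw [h1]; ring
    have := h87.2
    rw [hidx, hcd, Nat.mul_div_cancel _ hdη0] at this
    exact this
  have hb1 : b = 1 := by
    have hcop : Nat.Coprime (p ^ a) (q ^ c) :=
      Nat.Coprime.pow _ _ ((Nat.coprime_primes hp hq).mpr (Ne.symm hqp))
    exact Nat.eq_one_of_dvd_coprimes hcop hbpa hbqc
  have hge : g = e := by rw [← hgb, hb1, mul_one]
  rw [hge] at hχM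
  -- Step 7: Mackey at `M`
  have hprodM : ∀ x : G, ∃ m ∈ M, ∃ h ∈ H, x = m * h := by
    intro x
    obtain ⟨k, hk, h, hh, rfl⟩ := hprod x
    exact ⟨k, hKM.le hk, h, hh, rfl⟩
  have hR2M := classInner_restrict_indFun_of_prod H M hprodM hϑcf
    (ψ := fun m : M => χ m) (isClassFunction_restrict M hχcf)
  rw [← hχdef] at hR2M
  rw [hχM, Helper15.classInner_smul_left, Helper15.classInner_smul_right,
    Helper74.irr_inner_self ⟨ξ, hξ⟩] at hR2M
  simp only [Complex.conj_natCast, mul_one] at hR2M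
  have hτc : IsCharacter ↥(H ⊓ M) (fun x : ↥(H ⊓ M) => ϑ ⟨(x : G), x.2.1⟩) :=
    Helper74.isCharacter_comp (Subgroup.inclusion (inf_le_left : H ⊓ M ≤ H)) hϑc
  have hτ : IsIrrCharacter ↥(H ⊓ M) (fun x : ↥(H ⊓ M) => ϑ ⟨(x : G), x.2.1⟩) :=
    isIrrCharacter_of_comp (Subgroup.inclusion (inf_le_inf_left H hKM.le)) hτc hϑL
  have hτχ : classInner (fun x : ↥(H ⊓ M) => χ x) (fun x : ↥(H ⊓ M) => ϑ ⟨(x : G), x.2.1⟩) =
      ((e * e : ℕ) : ℂ) := by
    rw [← Helper15.classInner_conj_symm]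
    have : (fun x : ↥(H ⊓ M) => χ ((⟨(x : G), x.2.2⟩ : M) : G)) = (fun x : ↥(H ⊓ M) => χ x) := rfl
    rw [← this, ← hR2M]
    simp
  have hbess := bessel_irr _ _ (e * e) (Helper74.irr_inner_self ⟨_, hτ⟩) hτχ
  have hmassD : (Nat.card ↥(H ⊓ M) : ℝ) * ((e * e : ℕ) : ℝ) ^ 2 ≤
      ∑ x ∈ Finset.univ.filter (· ∈ H ⊓ M), Complex.normSq (χ x) := by
    have h1 := sum_filter_mem_normSq (H ⊓ M) χ
    have h2 := congrArg Complex.re h1
    rw [Complex.ofReal_re, ← Complex.ofReal_natCast, Complex.re_ofReal_mul] at h2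
    rw [h2]
    exact mul_le_mul_of_nonneg_left hbess (Nat.cast_nonneg _)
  -- Step 8: the mass argument
  have hmassM := mass_of_smul M χ ξ hξ e hχM
  have hmassL := mass_of_smul (H ⊓ K) χ φ₁ hφ₁ eL hχL
  have hsupHM : H ⊔ M = ⊤ := by
    apply hH.2
    refine lt_of_le_of_ne le_sup_left ?_
    intro h
    apply hKH
    rw [h]; exact hKM.le.trans le_sup_right
  have hcard2 : Nat.card G * Nat.card ↥(H ⊓ M) = Nat.card M * Nat.card H := by
    have := Cfsg.Agent.S0896.card_mul_card_inf M H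
    rw [hsupHM, Subgroup.index_top, mul_one] at this
    exact this
  have hDM : eL * Nat.card ↥(H ⊓ M) = Nat.card M := by
    have hH0 : 0 < Nat.card H := Nat.card_pos
    apply Nat.eq_of_mul_eq_mul_right hH0
    rw [← hcard2, ← hGH]
    ring
  have hinter : Finset.univ.filter (· ∈ K) ∩ Finset.univ.filter (· ∈ H ⊓ M) =
      Finset.univ.filter (· ∈ H ⊓ K) := by
    ext x
    simp only [Finset.mem_inter, Finset.mem_filter, Finset.mem_univ, true_and, Subgroup.mem_inf]
    constructor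
    · rintro ⟨h1, h2, -⟩
      exact ⟨h2, h1⟩
    · rintro ⟨h1, h2⟩
      exact ⟨h2, h1, hKM.le h2⟩
  have hunion : Finset.univ.filter (· ∈ K) ∪ Finset.univ.filter (· ∈ H ⊓ M) ⊆
      Finset.univ.filter (· ∈ M) := by
    intro x hx
    simp only [Finset.mem_union, Finset.mem_filter, Finset.mem_univ, true_and,
      Subgroup.mem_inf] at hx ⊢
    rcases hx with h | h
    · exact hKM.le h
    · exact h.2
  have hUI := Finset.sum_union_inter (s₁ := Finset.univ.filter (· ∈ K))
    (s₂ := Finset.univ.filter (· ∈ H ⊓ M)) (f := fun x => Complex.normSq (χ x))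
  rw [hinter] at hUI
  have hsd := Finset.sum_sdiff hunion (f := fun x => Complex.normSq (χ x))
  have hsd0 : 0 ≤ ∑ x ∈ Finset.univ.filter (· ∈ M) \
      (Finset.univ.filter (· ∈ K) ∪ Finset.univ.filter (· ∈ H ⊓ M)), Complex.normSq (χ x) :=
    Finset.sum_nonneg (fun i _ => Complex.normSq_nonneg _)
  -- numerical facts in `ℝ`
  have hLKr : (eL : ℝ) * (Nat.card ↥(H ⊓ K) : ℝ) = (Nat.card K : ℝ) := by exact_mod_cast hLK
  have hDMr : (eL : ℝ) * (Nat.card ↥(H ⊓ M) : ℝ) = (Nat.card M : ℝ) := by exact_mod_cast hDM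
  have heLr : (eL : ℝ) = (e : ℝ) * (e : ℝ) := by exact_mod_cast heL
  have hmL : ∑ x ∈ Finset.univ.filter (· ∈ H ⊓ K), Complex.normSq (χ x) =
      (Nat.card K : ℝ) * (e : ℝ) ^ 2 := by
    rw [hmassL, ← hLKr, heLr]; ring
  have hmDle : (Nat.card M : ℝ) * (e : ℝ) ^ 2 ≤
      ∑ x ∈ Finset.univ.filter (· ∈ H ⊓ M), Complex.normSq (χ x) := by
    refine le_trans (le_of_eq ?_) hmassD
    rw [← hDMr, heLr]; push_cast; ring
  -- the sum over `M ∖ (K ∪ D)` vanishes
  have hsd1 : ∑ x ∈ Finset.univ.filter (· ∈ M) \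
      (Finset.univ.filter (· ∈ K) ∪ Finset.univ.filter (· ∈ H ⊓ M)), Complex.normSq (χ x) = 0 := by
    linarith
  have hmD : ∑ x ∈ Finset.univ.filter (· ∈ H ⊓ M), Complex.normSq (χ x) =
      (Nat.card M : ℝ) * (e : ℝ) ^ 2 := by
    linarith
  have hvan : ∀ x : G, x ∈ M → x ∉ K → x ∉ H → χ x = 0 := by
    intro x hxM hxK hxH
    have h1 := (Finset.sum_eq_zero_iff_of_nonneg (fun i _ => Complex.normSq_nonneg _)).mp hsd1 x
      (by
        simp only [Finset.mem_sdiff, Finset.mem_union, Finset.mem_filter, Finset.mem_univ,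
          true_and, Subgroup.mem_inf]
        exact ⟨hxM, fun h => h.elim hxK (fun h' => hxH h'.1)⟩)
    exact Complex.normSq_eq_zero.mp h1
  have hDL : ∑ x ∈ Finset.univ.filter (· ∈ H ⊓ K), Complex.normSq (χ x) =
      ∑ x ∈ Finset.univ.filter (· ∈ H ⊓ M), Complex.normSq (χ x) := by
    apply Finset.sum_subset
    · intro x hx
      simp only [Finset.mem_filter, Finset.mem_univ, true_and, Subgroup.mem_inf] at hx ⊢
      exact ⟨hx.1, hKM.le hx.2⟩
    · intro d hd hdL
      simp only [Finset.mem_filter, Finset.mem_univ, true_and, Subgroup.mem_inf] at hd hdL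
      have hdK : d ∉ K := fun h => hdL ⟨hd.1, h⟩
      obtain ⟨k, hk, hkd⟩ := hconj d (Subgroup.mem_inf.mpr hd) hdK
      have hxM : k * d * k⁻¹ ∈ M := hMn.conj_mem d hd.2 k
      have hxK : k * d * k⁻¹ ∉ K := by
        intro h
        apply hdK
        have : d = k⁻¹ * (k * d * k⁻¹) * k := by group
        rw [this]
        exact K.mul_mem (K.mul_mem (K.inv_mem hk) h) hk
      have h0 := hvan _ hxM hxK hkd
      rw [hχcf d k] at h0
      rw [h0]; simp
  have hfin : (Nat.card M : ℝ) = (Nat.card K : ℝ) := by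
    have he2 : (e : ℝ) ^ 2 ≠ 0 := by
      have : (e : ℝ) ≠ 0 := by exact_mod_cast he0
      positivity
    apply mul_right_cancel₀ he2
    rw [← hmD, ← hmL, hDL]
  have hfin' : Nat.card M = Nat.card K := by exact_mod_cast hfin
  exact hKM.ne (Subgroup.eq_of_le_of_card_ge hKM.le hfin'.le)

/-- Let L ≤ H < G with L normal in G, H a maximal subgroup and G / L solvable. Let ϑ be an irreducible character of H whose restriction to L is irreducible and whose induction χ to G is irreducible. Then there is a normal subgroup M of G containing L such that the restriction of χ to M is not a natural-number multiple of a single irreducible character of M. -/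
theorem result {G : Type*} [Group G] [Fintype G] (L H : Subgroup G) [L.Normal] (hLH : L ≤ H) (hmax : IsCoatom H) (hsolv : Group.IsSolvable (G ⧸ L)) (ϑ : H → ℂ) (hϑ : Cfsg.IsIrrCharacter H ϑ) (hϑL : Cfsg.IsIrrCharacter L (fun x : L => ϑ ⟨(x : G), hLH x.2⟩)) (hind : Cfsg.IsIrrCharacter G (Cfsg.indFun H ϑ)) : ∃ M : Subgroup G, M.Normal ∧ L ≤ M ∧ ¬ ∃ (φ : M → ℂ) (e : ℕ), Cfsg.IsIrrCharacter M φ ∧ (fun m : M => Cfsg.indFun H ϑ m) = (e : ℂ) • φ := by
  classical
  by_contra hcon
  have hhom0 : ∀ M : Subgroup G, M.Normal → L ≤ M →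
      ∃ (φ : M → ℂ) (e : ℕ), IsIrrCharacter M φ ∧ (fun m : M => indFun H ϑ m) = (e : ℂ) • φ := by
    intro M hM hLM
    by_contra h
    exact hcon ⟨M, hM, hLM, h⟩
  have hL0 : L ≤ H.normalCore := Subgroup.normal_le_normalCore.mpr hLH
  have hcoretop : H.normalCore ≠ ⊤ := by
    intro h
    apply hmax.1
    rw [eq_top_iff, ← h]
    exact Subgroup.normalCore_le H
  obtain ⟨K, hKn, hcoreK, hchief0⟩ := exists_chief_above H.normalCore hcoretop
  have hKH : ¬ K ≤ H := by
    intro h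
    exact absurd (Subgroup.normal_le_normalCore.mpr h) (not_le_of_gt hcoreK)
  have hsolv0 : Group.IsSolvable (G ⧸ H.normalCore) := by
    have hsurj : Function.Surjective (QuotientGroup.map L H.normalCore (MonoidHom.id G)
        (by intro x hx; exact hL0 hx)) := by
      intro q
      obtain ⟨g, rfl⟩ := QuotientGroup.mk'_surjective H.normalCore q
      exact ⟨QuotientGroup.mk g, rfl⟩
    exact Group.isSolvable_of_surjective hsurj
  have hab : ⁅K, K⁆ ≤ H.normalCore :=
    Helper80.commutator_le_of_chief_of_solvable H.normalCore K H.normalCore hsolv0 le_rfl hcoreK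
      hchief0
  have hprod := prod_of_coatom H K hmax hKH
  have hcore_le : H.normalCore ≤ H ⊓ K := le_inf (Subgroup.normalCore_le H) hcoreK.le
  have hLn : (H ⊓ K).Normal := by
    constructor
    intro x hx g
    obtain ⟨k, hk, h, hh, rfl⟩ := hprod g
    have hy : h * x * h⁻¹ ∈ H ⊓ K :=
      ⟨H.mul_mem (H.mul_mem hh hx.1) (H.inv_mem hh), hKn.conj_mem x hx.2 h⟩
    have hc : ⁅k, h * x * h⁻¹⁆ ∈ H ⊓ K :=
      hcore_le (hab (Subgroup.commutator_mem_commutator hk hy.2))
    have e1 : k * h * x * (k * h)⁻¹ = ⁅k, h * x * h⁻¹⁆ * (h * x * h⁻¹) := by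
      rw [commutatorElement_def]; group
    rw [e1]
    exact (H ⊓ K).mul_mem hc hy
  have hinf : H ⊓ K = H.normalCore :=
    le_antisymm (Subgroup.normal_le_normalCore.mpr inf_le_left) hcore_le
  have hLle : L ≤ H ⊓ K := hL0.trans hcore_le
  have hchief : ∀ N : Subgroup G, N.Normal → H ⊓ K ≤ N → N ≤ K → N = H ⊓ K ∨ N = K := by
    intro N hN h1 h2
    rw [hinf] at h1 ⊢
    exact hchief0 N hN h1 h2
  have hcore : ∀ N : Subgroup G, N.Normal → N ≤ H → N ≤ H ⊓ K := by
    intro N hN h1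
    rw [hinf]
    exact Subgroup.normal_le_normalCore.mpr h1
  have hsolv1 : Group.IsSolvable (G ⧸ (H ⊓ K)) := by
    have hsurj : Function.Surjective (QuotientGroup.map L (H ⊓ K) (MonoidHom.id G)
        (by intro x hx; exact hLle hx)) := by
      intro q
      obtain ⟨g, rfl⟩ := QuotientGroup.mk'_surjective (H ⊓ K) q
      exact ⟨QuotientGroup.mk g, rfl⟩
    exact Group.isSolvable_of_surjective hsurj
  have hτc : IsCharacter ↥(H ⊓ K) (fun x : ↥(H ⊓ K) => ϑ ⟨(x : G), x.2.1⟩) :=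
    Helper74.isCharacter_comp (Subgroup.inclusion (inf_le_left : H ⊓ K ≤ H))
      (Helper74.isCharacter_of_isIrr hϑ)
  have hϑL' : IsIrrCharacter ↥(H ⊓ K) (fun x : ↥(H ⊓ K) => ϑ ⟨(x : G), x.2.1⟩) :=
    isIrrCharacter_of_comp (Subgroup.inclusion hLle) hτc hϑL
  exact core_contradiction H K hmax hKH hchief hcore hsolv1 ϑ hϑ hϑL' hind
    (fun M hM hLM => hhom0 M hM (hLle.trans hLM))

end Cfsg.Agent.S0890
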