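-- Statement S4160: two primes never jointly dividing a class size: normal p- or q-complement (Ito).
import Cfsg.Statements.S4160
import Cfsg.Agent.S4127

set_option autoImplicit false
open Cfsg

namespace Cfsg.Agent.S4160

/-- An element whose class size is coprime to `p` is conjugate, by a chosen coset representative
of the Sylow normalizer, to an element of the Sylow centralizer. -/
theorem exists_rep {G : Type*} [Group G] [Finite G] {p : ℕ} [hp : Fact p.Prime] (P : Sylow p G)
    (x : G) (hx : ¬ p ∣ (Subgroup.centralizer ({x} : Set G)).index) :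
    ∃ (t : G ⧸ Subgroup.normalizer ((P : Subgroup G) : Set G))
      (c : Subgroup.centralizer ((P : Subgroup G) : Set G)), t.out * (c : G) * t.out⁻¹ = x := by
  classical
  have hcop : ((Subgroup.centralizer ({x} : Set G)).index).Coprime p :=
    ((Nat.Prime.coprime_iff_not_dvd hp.out).mpr hx).symm
  obtain ⟨Q, -, hQ⟩ := Cfsg.Agent.S4127.exists_sylow_commuting x 1 hcop ⟨0, by simp⟩ (by simp)
  obtain ⟨g, hg⟩ := MulAction.exists_smul_eq G P Q
  -- `g⁻¹ x g` centralizes `P`
  have h1 : ∀ s ∈ (P : Subgroup G), s * (g⁻¹ * x * g) = (g⁻¹ * x * g) * s := by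
    intro s hs
    have hs' : g * s * g⁻¹ ∈ (Q : Subgroup G) := by
      rw [← hg]; exact Cfsg.Agent.S4127.conj_mem_smul P g s hs
    have h2 := hQ _ hs'
    calc s * (g⁻¹ * x * g) = g⁻¹ * ((g * s * g⁻¹) * x) * g := by group
      _ = g⁻¹ * (x * (g * s * g⁻¹)) * g := by rw [h2]
      _ = g⁻¹ * x * g * s := by group
  obtain ⟨n, hn⟩ := QuotientGroup.mk_out_eq_mul
    (Subgroup.normalizer ((P : Subgroup G) : Set G)) g
  -- `n⁻¹ (g⁻¹ x g) n` centralizes `P`
  have h3 : (n : G)⁻¹ * (g⁻¹ * x * g) * (n : G) ∈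
      Subgroup.centralizer ((P : Subgroup G) : Set G) := by
    rw [Subgroup.mem_centralizer_iff]
    intro s hs
    have hs' : (n : G) * s * (n : G)⁻¹ ∈ (P : Subgroup G) :=
      (Subgroup.mem_normalizer_iff.mp n.2 s).mp hs
    have h4 := h1 _ hs'
    calc s * ((n : G)⁻¹ * (g⁻¹ * x * g) * (n : G))
        = (n : G)⁻¹ * (((n : G) * s * (n : G)⁻¹) * (g⁻¹ * x * g)) * (n : G) := by group
      _ = (n : G)⁻¹ * ((g⁻¹ * x * g) * ((n : G) * s * (n : G)⁻¹)) * (n : G) := by rw [h4]
      _ = (n : G)⁻¹ * (g⁻¹ * x * g) * (n : G) * s := by group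
  refine ⟨QuotientGroup.mk g, ⟨_, h3⟩, ?_⟩
  rw [hn]
  group

/-- `|C_G(P)| · |N_G(P) : C_G(P)| = |N_G(P)|`. -/
theorem card_centralizer_mul_relIndex {G : Type*} [Group G] [Finite G] (H : Subgroup G) :
    Nat.card (Subgroup.centralizer (H : Set G)) *
      (Subgroup.centralizer (H : Set G)).relIndex (Subgroup.normalizer (H : Set G)) =
    Nat.card (Subgroup.normalizer (H : Set G)) := by
  have hle : Subgroup.centralizer (H : Set G) ≤ Subgroup.normalizer (H : Set G) :=
    Subgroup.centralizer_le_normalizer _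
  have h1 := Subgroup.card_mul_index
    ((Subgroup.centralizer (H : Set G)).subgroupOf (Subgroup.normalizer (H : Set G)))
  rw [← Subgroup.relIndex] at h1
  rw [← h1]
  congr 1
  exact (Nat.card_congr (Subgroup.subgroupOfEquivOfLe hle).toEquiv).symm

/-- Let G be a finite group and p ≠ q primes each dividing the size of some conjugacy class of G, such that no conjugacy class size is divisible by pq. Then G has a normal p-complement or a normal q-complement. -/
theorem result {G : Type*} [Group G] [Finite G] (p q : ℕ) (hp : p.Prime) (hq : q.Prime) (hpq : p ≠ q)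
    (hp' : ∃ x : G, p ∣ (Subgroup.centralizer ({x} : Set G)).index) (hq' : ∃ x : G, q ∣ (Subgroup.centralizer ({x} : Set G)).index) (h : ∀ x : G, ¬ p * q ∣ (Subgroup.centralizer ({x} : Set G)).index) :
    Cfsg.HasNormalPComplement p G ∨ Cfsg.HasNormalPComplement q G := by
  classical
  haveI : Fact p.Prime := ⟨hp⟩
  haveI : Fact q.Prime := ⟨hq⟩
  obtain ⟨P⟩ := (inferInstance : Nonempty (Sylow p G))
  obtain ⟨Q⟩ := (inferInstance : Nonempty (Sylow q G))
  set NP := Subgroup.normalizer ((P : Subgroup G) : Set G) with hNP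
  set CP := Subgroup.centralizer ((P : Subgroup G) : Set G) with hCP
  set NQ := Subgroup.normalizer ((Q : Subgroup G) : Set G) with hNQ
  set CQ := Subgroup.centralizer ((Q : Subgroup G) : Set G) with hCQ
  -- Burnside's transfer theorem
  have burnP : NP ≤ CP → Cfsg.HasNormalPComplement p G := fun hle =>
    ⟨P, (MonoidHom.transferSylow P hle).ker, inferInstance,
      MonoidHom.ker_transferSylow_isComplement' P hle⟩
  have burnQ : NQ ≤ CQ → Cfsg.HasNormalPComplement q G := fun hle =>
    ⟨Q, (MonoidHom.transferSylow Q hle).ker, inferInstance,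
      MonoidHom.ker_transferSylow_isComplement' Q hle⟩
  by_contra hcon
  push Not at hcon
  have ha : CP.relIndex NP ≠ 1 := fun h1 => hcon.1 (burnP (Subgroup.relIndex_eq_one.mp h1))
  have hb : CQ.relIndex NQ ≠ 1 := fun h1 => hcon.2 (burnQ (Subgroup.relIndex_eq_one.mp h1))
  have ha0 : CP.relIndex NP ≠ 0 :=
    show (CP.subgroupOf NP).index ≠ 0 from Subgroup.index_ne_zero_of_finite
  have hb0 : CQ.relIndex NQ ≠ 0 :=
    show (CQ.subgroupOf NQ).index ≠ 0 from Subgroup.index_ne_zero_of_finite
  -- the covering map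
  let F : (G ⧸ NP) × CP ⊕ (G ⧸ NQ) × CQ → G := fun d =>
    match d with
    | Sum.inl tc => tc.1.out * (tc.2 : G) * tc.1.out⁻¹
    | Sum.inr tc => tc.1.out * (tc.2 : G) * tc.1.out⁻¹
  have hsurj : Function.Surjective F := by
    intro x
    by_cases hxp : p ∣ (Subgroup.centralizer ({x} : Set G)).index
    · have hxq : ¬ q ∣ (Subgroup.centralizer ({x} : Set G)).index := by
        intro hxq
        exact h x (Nat.Coprime.mul_dvd_of_dvd_of_dvd ((Nat.coprime_primes hp hq).mpr hpq) hxp hxq)
      obtain ⟨t, c, htc⟩ := exists_rep Q x hxq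
      exact ⟨Sum.inr (t, c), htc⟩
    · obtain ⟨t, c, htc⟩ := exists_rep P x hxp
      exact ⟨Sum.inl (t, c), htc⟩
  have hninj : ¬ Function.Injective F := by
    intro hinj
    have h1 : F (Sum.inl (QuotientGroup.mk 1, 1)) = F (Sum.inr (QuotientGroup.mk 1, 1)) := by
      change (QuotientGroup.mk 1 : G ⧸ NP).out * ((1 : CP) : G) * (QuotientGroup.mk 1 : G ⧸ NP).out⁻¹ =
        (QuotientGroup.mk 1 : G ⧸ NQ).out * ((1 : CQ) : G) * (QuotientGroup.mk 1 : G ⧸ NQ).out⁻¹
      simp
    exact Sum.inl_ne_inr (hinj h1)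
  have hcard : Nat.card G < NP.index * Nat.card CP + NQ.index * Nat.card CQ := by
    by_contra hle
    push Not at hle
    apply hninj
    refine (hsurj.bijective_of_nat_card_le ?_).1
    rw [Nat.card_sum, Nat.card_prod, Nat.card_prod, ← Subgroup.index_eq_card,
      ← Subgroup.index_eq_card]
    exact hle
  have e1 : NP.index * (Nat.card CP * CP.relIndex NP) = Nat.card G := by
    rw [card_centralizer_mul_relIndex, mul_comm]; exact Subgroup.card_mul_index NP
  have e2 : NQ.index * (Nat.card CQ * CQ.relIndex NQ) = Nat.card G := by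
    rw [card_centralizer_mul_relIndex, mul_comm]; exact Subgroup.card_mul_index NQ
  have ha2 : 2 ≤ CP.relIndex NP := by omega
  have hb2 : 2 ≤ CQ.relIndex NQ := by omega
  have e3 : NP.index * Nat.card CP * 2 ≤ Nat.card G := by
    rw [← e1, mul_assoc]
    exact Nat.mul_le_mul_left _ (Nat.mul_le_mul_left _ ha2)
  have e4 : NQ.index * Nat.card CQ * 2 ≤ Nat.card G := by
    rw [← e2, mul_assoc]
    exact Nat.mul_le_mul_left _ (Nat.mul_le_mul_left _ hb2)
  omega

end Cfsg.Agent.S4160
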