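-- Statement S4075: nilpotent groups whose non-abelian subgroups are self-normalizing.
import Mathlib
import Cfsg.Statements.S4075

set_option autoImplicit false
open Cfsg

namespace Cfsg.Agent.S4075

/-- For a finite nilpotent group: if every Sylow subgroup is commutative, so is the group. -/
theorem comm_of_sylow_comm {G : Type*} [Group G] [Finite G] [Group.IsNilpotent G]
    (h : ∀ (p : ℕ) [Fact p.Prime] (P : Sylow p G), IsMulCommutative (P : Subgroup G)) :
    IsMulCommutative G := by
  have hnorm : ∀ (p : ℕ), Fact (Nat.Prime p) → ∀ (P : Sylow p G), (P : Subgroup G).Normal :=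
    ((Group.isNilpotent_of_finite_tfae (G := G)).out 0 3).mp ‹Group.IsNilpotent G›
  let e := Sylow.directProductOfNormal (G := G) (fun {p} _ P => hnorm p inferInstance P)
  refine ⟨⟨fun a b => ?_⟩⟩
  have hcomm : ∀ x y : ((p : ↥(Nat.card G).primeFactors) → (P : Sylow (↑p) G) → ↥P), x * y = y * x := by
    intro x y
    funext p P
    haveI : Fact (p : ℕ).Prime := ⟨Nat.prime_of_mem_primeFactors p.2⟩
    show x p P * y p P = y p P * x p P
    exact (h (p : ℕ) P).is_comm.comm _ _
  have := hcomm (e.symm a) (e.symm b)
  rw [← map_mul, ← map_mul] at this
  exact e.symm.injective this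

/-- Let G be a finite nilpotent group. Every non-abelian subgroup of G is self-normalizing if and only if G is abelian or G is a minimal non-abelian p-group for some prime p (non-abelian of prime-power order with every proper subgroup abelian). -/
theorem result {G : Type*} [Group G] [Finite G]
    [Group.IsNilpotent G] :
    (∀ H : Subgroup G, ¬ IsMulCommutative H → Subgroup.normalizer (H : Set G) = H) ↔
    (IsMulCommutative G ∨ (IsPrimePow (Nat.card G) ∧ ¬ IsMulCommutative G ∧ ∀ H : Subgroup G, H ≠ ⊤ → IsMulCommutative H)) := by
  constructor
  · intro hP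
    by_cases hc : IsMulCommutative G
    · exact Or.inl hc
    · right
      have hprop : ∀ H : Subgroup G, H ≠ ⊤ → IsMulCommutative H := by
        intro H hH
        by_contra hHc
        have h1 := hP H hHc
        have h2 := Group.normalizerCondition_of_isNilpotent (G := G) H (lt_top_iff_ne_top.mpr hH)
        rw [h1] at h2
        exact lt_irrefl _ h2
      refine ⟨?_, hc, hprop⟩
      by_contra hpp
      apply hc
      apply comm_of_sylow_comm
      intro p _ P
      apply hprop
      intro htop
      apply hpp
      have hcard := Sylow.card_eq_multiplicity P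
      rw [htop, Subgroup.card_top] at hcard
      rw [isPrimePow_nat_iff]
      refine ⟨p, (Nat.card G).factorization p, Fact.out, ?_, hcard.symm⟩
      rcases Nat.eq_zero_or_pos ((Nat.card G).factorization p) with h0 | h0
      · exfalso
        rw [h0, pow_zero] at hcard
        -- G trivial so commutative
        apply hc
        haveI : Subsingleton G := (Nat.card_eq_one_iff_unique.mp hcard).1
        exact ⟨⟨fun a b => Subsingleton.elim _ _⟩⟩
      · exact h0
  · rintro (hc | ⟨_, _, hprop⟩) H hH
    · exfalso
      apply hH
      exact ⟨⟨fun a b => Subtype.ext (hc.is_comm.comm a.1 b.1)⟩⟩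
    · have : H = ⊤ := by
        by_contra hne
        exact hH (hprop H hne)
      subst this
      exact Subgroup.normalizer_eq_top _

end Cfsg.Agent.S4075
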