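import Cfsg.Statements.S4018
import Cfsg.Agent.Helper15.TIInvCfg
import Cfsg.Agent.Helper15.TIInvCharB
import Cfsg.Agent.Helper25.TIInvP3

set_option autoImplicit false
open Cfsg

namespace Cfsg.Agent.S4018

open Cfsg.Agent.Helper15.TIInv

/-- Let G be a finite group with an abelian Sylow 3-subgroup P such that the normalizer of P has order 4·#P, the centralizer C of P has order 2·#P, C meets each of its conjugates by elements outside its normalizer trivially, and every proper subgroup of G of even order has order dividing 4·#P. Then G is not simple. -/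
theorem result {G : Type*} [Group G] [Finite G]
    (P : Sylow 3 G) (hab : IsMulCommutative P)
    (hN : Nat.card (Subgroup.normalizer ((P : Subgroup G) : Set G)) = 4 * Nat.card P)
    (hC : Nat.card (Subgroup.centralizer (P : Set G)) = 2 * Nat.card P)
    (hTI : Cfsg.IsTISubset (Subgroup.centralizer (P : Set G) : Set G))
    (heven : ∀ H : Subgroup G, H ≠ ⊤ → 2 ∣ Nat.card H → Nat.card H ∣ 4 * Nat.card P) :
    ¬ IsSimpleGroup G := by
  intro hsimple
  have hyp : Hyp P :=
    { hab := fun x hx y hy => congrArg Subtype.val (hab.is_comm.comm ⟨x, hx⟩ ⟨y, hy⟩)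
      hN := hN
      hC := hC
      hTI := hTI
      heven := heven
      hsimple := hsimple }
  obtain ⟨a, z, t, ha1, ha, hcfg⟩ := exists_ticfg P hyp
  have : Fintype G := Fintype.ofFinite G
  rcases Nat.lt_or_ge a 2 with h2 | h2
  · have ha' : a = 1 := by omega
    have hm3 : Nat.card (P : Subgroup G) = 3 := by rw [ha, ha']; norm_num
    have : Fintype ↥(Subgroup.centralizer ((P : Subgroup G) : Set G)) := Fintype.ofFinite _
    have hcard := card_eq hcfg
    rw [hm3] at hcard
    have h372 : Nat.card G = 372 := by
      have h1 : (Nat.card G : ℤ) = 372 := by rw [hcard]; norm_num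
      exact_mod_cast h1
    exact Cfsg.Agent.Helper25.TIInv.not_simple_of_card_372 h372 hsimple
  · have hm : 9 ≤ Nat.card (P : Subgroup G) := by
      rw [ha]
      calc 9 = 3 ^ 2 := by norm_num
        _ ≤ 3 ^ a := Nat.pow_le_pow_right (by norm_num) h2
    exact false_of_ticfg hcfg hm

end Cfsg.Agent.S4018
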