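import Cfsg.Statements.S4035
import Cfsg.Agent.Helper67.Cyclic
import Cfsg.Agent.Helper67.Conj

set_option autoImplicit false
open Cfsg

namespace Cfsg.Agent.S4035

open Cfsg.Agent.Helper67

/-- If the class of `x` has size prime to `p`, then some conjugate of `x` is centralized by the
Sylow `p`-subgroup `P`. -/
theorem exists_conj_centralized {G : Type*} [Group G] [Finite G] {p : ℕ} [Fact p.Prime]
    (P : Sylow p G) (x : G) (hx : ¬ p ∣ (ConjClasses.mk x).carrier.ncard) :
    ∃ g : G, ∀ s ∈ P, s * (g * x * g⁻¹) = (g * x * g⁻¹) * s := by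
  let P' : Subgroup (ConjAct G) := (P : Subgroup G).map ConjAct.toConjAct.toMonoidHom
  have hP' : IsPGroup p P' := P.isPGroup'.map _
  have hcard : ¬ p ∣ Nat.card (MulAction.orbit (ConjAct G) x) := by
    rw [Nat.card_coe_set_eq, ConjAct.orbit_eq_carrier_conjClasses]
    exact hx
  obtain ⟨⟨y, hy⟩, hfix⟩ := hP'.nonempty_fixed_point_of_prime_not_dvd_card
    (MulAction.orbit (ConjAct G) x) hcard
  obtain ⟨g', hg'⟩ := MulAction.mem_orbit_iff.1 hy
  refine ⟨ConjAct.ofConjAct g', fun s hs => ?_⟩
  have h1 : (⟨ConjAct.toConjAct s, ⟨s, hs, rfl⟩⟩ : P') • (⟨y, hy⟩ : MulAction.orbit (ConjAct G) x)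
      = ⟨y, hy⟩ := hfix _
  have h2 : ConjAct.toConjAct s • y = y := congrArg Subtype.val h1
  rw [ConjAct.toConjAct_smul] at h2
  have h3 : y = ConjAct.ofConjAct g' * x * (ConjAct.ofConjAct g')⁻¹ := by
    rw [← hg', ConjAct.smul_def]
  rw [← h3]
  calc s * y = s * y * s⁻¹ * s := by group
    _ = y * s := by rw [h2]

/-- Let G be a finite group and p a prime such that p divides the size of no conjugacy class of p-regular elements (elements of order prime to p). Then G is the internal direct product of a Sylow p-subgroup P and a normal subgroup H of order prime to p: P is normal, P ⊓ H = 1 and PH = G. -/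
theorem result {G : Type*} [Group G] [Finite G] {p : ℕ} [Fact p.Prime]
    (h : ∀ x : G, (orderOf x).Coprime p → ¬ p ∣ (ConjClasses.mk x).carrier.ncard) (P : Sylow p G) :
    (P : Subgroup G).Normal ∧ ∃ H : Subgroup G, H.Normal ∧ ¬ p ∣ Nat.card H ∧
      (P : Subgroup G) ⊓ H = ⊥ ∧ (P : Subgroup G) ⊔ H = ⊤ := by
  have hp : p.Prime := Fact.out
  -- every element is conjugate into the normalizer of P
  have hconj : ∀ x : G, ∃ g : G, g * x * g⁻¹ ∈ Subgroup.normalizer ((P : Subgroup G) : Set G) := by
    intro x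
    obtain ⟨y, z, hyx, hzx, hxyz, hycop, k, hzk⟩ := exists_pprime_ppart p (isOfFinOrder_of_finite x)
    obtain ⟨g, hg⟩ := exists_conj_centralized P y (h y hycop)
    set y' := g * y * g⁻¹ with hy'
    set z' := g * z * g⁻¹ with hz'
    have hyz : Commute y z := by
      obtain ⟨i, rfl⟩ := Subgroup.mem_zpowers_iff.1 hyx
      obtain ⟨j, rfl⟩ := Subgroup.mem_zpowers_iff.1 hzx
      exact ((Commute.refl x).zpow_left i).zpow_right j
    have hyz' : Commute y' z' := by
      show y' * z' = z' * y'
      rw [hy', hz']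
      calc g * y * g⁻¹ * (g * z * g⁻¹) = g * (y * z) * g⁻¹ := by group
        _ = g * (z * y) * g⁻¹ := by rw [hyz.eq]
        _ = g * z * g⁻¹ * (g * y * g⁻¹) := by group
    -- C = centralizer of y'
    set C : Subgroup G := Subgroup.centralizer {y'} with hC
    have hPC : (P : Subgroup G) ≤ C := by
      intro s hs
      rw [hC, Subgroup.mem_centralizer_iff]
      intro w hw
      rw [Set.mem_singleton_iff] at hw
      subst hw
      exact (hg s hs).symm
    have hzC : z' ∈ C := by
      rw [hC, Subgroup.mem_centralizer_iff]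
      intro w hw
      rw [Set.mem_singleton_iff] at hw
      subst hw
      exact hyz'.eq
    -- Sylow in C
    let PC : Sylow p C := P.subtype hPC
    have hT : IsPGroup p (Subgroup.zpowers (⟨z', hzC⟩ : C)) := by
      rintro ⟨w, hw⟩
      obtain ⟨i, rfl⟩ := Subgroup.mem_zpowers_iff.1 hw
      refine ⟨k, Subtype.ext (Subtype.ext ?_)⟩
      show ((g * z * g⁻¹) ^ i) ^ (p ^ k) = 1
      rw [← zpow_natCast, ← zpow_mul, mul_comm, zpow_mul, zpow_natCast, conj_pow, hzk]
      simp
    obtain ⟨c, hc⟩ := exists_conj_mem_sylow PC hT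
    have hc1 : c * ⟨z', hzC⟩ * c⁻¹ ∈ PC := hc _ (Subgroup.mem_zpowers _)
    have hc2 : (c : G) * z' * (c : G)⁻¹ ∈ P := by
      have h1 : c * ⟨z', hzC⟩ * c⁻¹ ∈ ((P.subtype hPC : Sylow p C) : Subgroup C) := hc1
      rw [Sylow.coe_subtype, Subgroup.mem_subgroupOf] at h1
      have h2 : (c : G) * z' * (c : G)⁻¹ ∈ (P : Subgroup G) := by simpa using h1
      exact h2
    refine ⟨(c : G) * g, ?_⟩
    have hcy : (c : G) * y' * (c : G)⁻¹ = y' := by
      have hcC : (c : G) ∈ Subgroup.centralizer {y'} := c.2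
      rw [Subgroup.mem_centralizer_iff] at hcC
      have h1 := hcC y' rfl
      rw [← h1, mul_assoc, mul_inv_cancel, mul_one]
    have hexp : (c : G) * g * x * ((c : G) * g)⁻¹ = y' * ((c : G) * z' * (c : G)⁻¹) := by
      calc (c : G) * g * x * ((c : G) * g)⁻¹ = (c : G) * (g * x * g⁻¹) * (c : G)⁻¹ := by group
        _ = (c : G) * (y' * z') * (c : G)⁻¹ := by
            rw [hy', hz', hxyz]; group
        _ = ((c : G) * y' * (c : G)⁻¹) * ((c : G) * z' * (c : G)⁻¹) := by group
        _ = y' * ((c : G) * z' * (c : G)⁻¹) := by rw [hcy]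
    rw [hexp]
    apply Subgroup.mul_mem
    · -- y' centralizes P hence normalizes it
      have : y' ∈ Subgroup.centralizer ((P : Subgroup G) : Set G) := by
        rw [Subgroup.mem_centralizer_iff]
        intro s hs
        exact hg s hs
      exact Subgroup.centralizer_le_normalizer _ this
    · exact Subgroup.le_normalizer hc2
  have hnormtop : Subgroup.normalizer ((P : Subgroup G) : Set G) = ⊤ :=
    eq_top_of_forall_exists_conj_mem _ hconj
  have hPn : (P : Subgroup G).Normal := Subgroup.normalizer_eq_top_iff.1 hnormtop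
  refine ⟨hPn, ?_⟩
  have := hPn
  -- Schur–Zassenhaus complement
  have hcop : Nat.Coprime (Nat.card (P : Subgroup G)) (P : Subgroup G).index := by
    obtain ⟨n, hn⟩ := IsPGroup.iff_card.1 P.isPGroup'
    rw [hn]
    exact Nat.Coprime.pow_left n ((Nat.Prime.coprime_iff_not_dvd hp).2 P.not_dvd_index)
  obtain ⟨K, hK⟩ := Subgroup.exists_left_complement'_of_coprime hcop
  have hKcard : ¬ p ∣ Nat.card K := by
    rw [← hK.index_eq_card]; exact P.not_dvd_index
  -- K centralizes P
  have hKc : ∀ k ∈ K, ∀ s ∈ P, s * k = k * s := by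
    intro k hk s hs
    have hkord : (orderOf k).Coprime p := by
      have h1 : orderOf k ∣ Nat.card K := Subgroup.orderOf_dvd_natCard K hk
      exact Nat.Coprime.coprime_dvd_left h1 ((Nat.Prime.coprime_iff_not_dvd hp).2 hKcard).symm
    obtain ⟨g, hg⟩ := exists_conj_centralized P k (h k hkord)
    -- conjugate back: g⁻¹ s g ∈ P
    have hs' : g * s * g⁻¹ ∈ (P : Subgroup G) := hPn.conj_mem s hs g
    have := hg _ hs'
    have h2 : g * (s * k) * g⁻¹ = g * (k * s) * g⁻¹ := by
      calc g * (s * k) * g⁻¹ = (g * s * g⁻¹) * (g * k * g⁻¹) := by group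
        _ = (g * k * g⁻¹) * (g * s * g⁻¹) := this
        _ = g * (k * s) * g⁻¹ := by group
    exact mul_left_cancel (mul_right_cancel h2)
  have hKn : K.Normal := by
    rw [← Subgroup.normalizer_eq_top_iff, eq_top_iff, ← hK.sup_eq_top]
    apply sup_le Subgroup.le_normalizer
    intro s hs
    rw [Subgroup.mem_normalizer_iff]
    intro k
    constructor
    · intro hk
      have : s * k * s⁻¹ = k := by rw [hKc k hk s hs, mul_assoc, mul_inv_cancel, mul_one]
      rw [this]; exact hk
    · intro hk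
      have h1 := hKc _ hk s⁻¹ (Subgroup.inv_mem _ hs)
      have : k = s⁻¹ * (s * k * s⁻¹) * s := by group
      rw [this, h1]
      simpa using hk
  refine ⟨K, hKn, hKcard, ?_, ?_⟩
  · rw [inf_comm]; exact hK.disjoint.eq_bot
  · rw [sup_comm]; exact hK.sup_eq_top

end Cfsg.Agent.S4035
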