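import Cfsg.Statements.S0739
import Cfsg.Agent.Helper60.ZassOdd

set_option autoImplicit false
open Cfsg

namespace Cfsg.Agent.S0739

open MulAction Cfsg.Agent.Helper60.Zassenhaus Cfsg.Agent.Helper60.ZassOdd

/-- In a finite Zassenhaus group whose two-point stabiliser `H = G_{a,b}` has odd order `d`, and which has no normal `q`-complement for any prime `q ∣ d`, `H` is cyclic, `C_G(H) = H`, and every element swapping `a` and `b` inverts each element of `H`. -/
theorem result {G Ω : Type*} [Group G] [Finite G] [MulAction G Ω] [Fintype Ω] (hZ : Cfsg.IsZassenhausGroup G Ω) {a b : Ω} (hab : a ≠ b) (hodd : Odd (Nat.card ↥(MulAction.stabilizer G a ⊓ MulAction.stabilizer G b))) (hnil : ∀ q : ℕ, q.Prime → q ∣ Nat.card ↥(MulAction.stabilizer G a ⊓ MulAction.stabilizer G b) → ¬ ∃ N : Subgroup G, N.Normal ∧ N.index = q ^ (Nat.card G).factorization q) : IsCyclic ↥(MulAction.stabilizer G a ⊓ MulAction.stabilizer G b) ∧ Subgroup.centralizer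 ((MulAction.stabilizer G a ⊓ MulAction.stabilizer G b : Subgroup G) : Set G) = MulAction.stabilizer G a ⊓ MulAction.stabilizer G b ∧ ∀ s : G, s • a = b → s • b = a → ∀ h ∈ MulAction.stabilizer G a ⊓ MulAction.stabilizer G b, s * h * s⁻¹ = h⁻¹ := by
  classical
  have hZG : IsZGroup ↥(stabilizer G a ⊓ stabilizer G b) := isZGroup_stab2 hZ hab hodd
  obtain ⟨y1, hy11, hy1a, hy1b⟩ := exists_ne_one_fix hZ hab
  obtain ⟨hf, h2, h3f, h4, h5⟩ := hZ
  set H : Subgroup G := stabilizer G a ⊓ stabilizer G b with hH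
  have hmemH : ∀ g : G, g ∈ H ↔ g • a = a ∧ g • b = b := by
    intro g
    rw [hH, Subgroup.mem_inf, mem_stabilizer_iff, mem_stabilizer_iff]
  obtain ⟨s₀, hs₀a, hs₀b⟩ := exists_map2 h2 hab hab.symm
  have hs₀N : s₀ ∈ Subgroup.normalizer (H : Set G) :=
    mem_normalizer_of_pair (Or.inr ⟨hs₀a, hs₀b⟩)
  have hs₀2 : s₀ * s₀ ∈ H := by
    rw [hmemH, mul_smul, mul_smul, hs₀a, hs₀b, hs₀a]
    exact ⟨rfl, rfl⟩
  have hs₀ia : s₀⁻¹ • b = a := by rw [inv_smul_eq_iff, hs₀a]
  have hs₀ib : s₀⁻¹ • a = b := by rw [inv_smul_eq_iff, hs₀b]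
  have hpairD : ∀ g : G, ((g • a = a ∧ g • b = b) ∨ (g • a = b ∧ g • b = a)) →
      g ∈ H ∨ s₀⁻¹ * g ∈ H := by
    intro g hg
    rcases hg with hg | ⟨ga, gb⟩
    · exact Or.inl ((hmemH g).2 hg)
    · right
      rw [hmemH, mul_smul, mul_smul, ga, gb]
      exact ⟨hs₀ia, hs₀ib⟩
  have hy1H : y1 ∈ H := (hmemH y1).2 ⟨hy1a, hy1b⟩
  -- the Burnside hypothesis
  have hB : ∀ (q : ℕ) [Fact q.Prime] (P : Sylow q H), (P : Subgroup H) ≠ ⊥ →
      ∃ g : G, (g ∈ H ∨ s₀⁻¹ * g ∈ H) ∧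
        (∀ u ∈ (P : Subgroup H).map H.subtype, g * u * g⁻¹ ∈ (P : Subgroup H).map H.subtype) ∧
        ∃ u ∈ (P : Subgroup H).map H.subtype, g * u * g⁻¹ ≠ u := by
    intro q _ P hPbot
    have hq : q.Prime := Fact.out
    set PG : Subgroup G := (P : Subgroup H).map H.subtype with hPG
    have hPGp : IsPGroup q PG := P.isPGroup'.map _
    have hPne : Nat.card (P : Subgroup H) ≠ 1 := by
      intro h
      exact hPbot (Subgroup.card_eq_one.1 h)
    have hqH : q ∣ Nat.card H := by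
      obtain ⟨n, hn⟩ := IsPGroup.iff_card.1 P.isPGroup'
      have hn0 : n ≠ 0 := by
        rintro rfl
        exact hPne (by rw [hn, pow_zero])
      have h1 : q ∣ Nat.card (P : Subgroup H) := by
        rw [hn]; exact dvd_pow_self q hn0
      exact h1.trans (Subgroup.card_subgroup_dvd_card _)
    have hq2 : q ≠ 2 := by
      rintro rfl
      exact (Nat.not_even_iff_odd.2 hodd) (even_iff_two_dvd.2 hqH)
    obtain ⟨P₁, hP₁⟩ := hPGp.exists_le_sylow
    obtain ⟨⟨k₀, hk₀P⟩, hk₀1⟩ := (Subgroup.ne_bot_iff_exists_ne_one).1 hPbot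
    have hu₀1 : (k₀ : G) ≠ 1 := by
      intro h
      apply hk₀1
      apply Subtype.ext
      apply Subtype.ext
      exact h
    have hu₀PG : (k₀ : G) ∈ PG := ⟨k₀, hk₀P, rfl⟩
    have hu₀fix := (hmemH _).1 k₀.2
    -- elements of `P₁` have odd order
    have hoddP₁ : ∀ g ∈ (P₁ : Subgroup G), Odd (orderOf g) := by
      intro g hg
      obtain ⟨n, hn⟩ := (IsPGroup.iff_orderOf.1 P₁.isPGroup') ⟨g, hg⟩
      rw [Subgroup.orderOf_mk] at hn
      rw [hn]
      exact Odd.pow (hq.odd_of_ne_two hq2)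
    -- the centre of `P₁`
    have hnt : Nontrivial (P₁ : Subgroup G) :=
      ⟨⟨⟨(k₀ : G), hP₁ hu₀PG⟩, 1, fun h => hu₀1 (congrArg Subtype.val h)⟩⟩
    have hcn : Nontrivial (Subgroup.center (P₁ : Subgroup G)) := P₁.isPGroup'.center_nontrivial
    obtain ⟨⟨z, hzc⟩, hz1⟩ := exists_ne (1 : Subgroup.center (P₁ : Subgroup G))
    have hz1' : (z : G) ≠ 1 := by
      intro h
      apply hz1
      apply Subtype.ext
      apply Subtype.ext
      exact h
    rw [Subgroup.mem_center_iff] at hzc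
    have hzfix : (z : G) • a = a ∧ (z : G) • b = b := by
      apply fix_of_odd_of_pair hab (hoddP₁ _ z.2)
      have h1 : (z : G) * (k₀ : G) * (z : G)⁻¹ = (k₀ : G) := by
        have := congrArg Subtype.val (hzc ⟨(k₀ : G), hP₁ hu₀PG⟩)
        have h2 : (k₀ : G) * (z : G) = (z : G) * (k₀ : G) := this
        rw [← h2]; group
      exact pair_of_conj_fix h3f hab hu₀1 hu₀fix.1 hu₀fix.2 (by rw [h1]; exact hu₀fix.1)
        (by rw [h1]; exact hu₀fix.2)
    have hP₁H : (P₁ : Subgroup G) ≤ H := by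
      intro g hg
      rw [hmemH]
      apply fix_of_odd_of_pair hab (hoddP₁ g hg)
      have h1 : g * (z : G) * g⁻¹ = (z : G) := by
        have := congrArg Subtype.val (hzc ⟨g, hg⟩)
        have h2 : g * (z : G) = (z : G) * g := this
        rw [h2]; group
      exact pair_of_conj_fix h3f hab hz1' hzfix.1 hzfix.2 (by rw [h1]; exact hzfix.1)
        (by rw [h1]; exact hzfix.2)
    -- `P₁ = PG`
    have hsub : (P₁ : Subgroup G).subgroupOf H = (P : Subgroup H) := by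
      apply P.is_maximal' (P₁.isPGroup'.comap_subtype)
      intro k hk
      show (k : G) ∈ (P₁ : Subgroup G)
      exact hP₁ ⟨k, hk, rfl⟩
    have hPGeq : PG = (P₁ : Subgroup G) := by
      rw [hPG, ← hsub, Subgroup.subgroupOf_map_subtype, inf_eq_left.2 hP₁H]
    -- Burnside
    have hnot : ¬ (Subgroup.normalizer ((P₁ : Subgroup G) : Set G) ≤
        Subgroup.centralizer ((P₁ : Subgroup G) : Set G)) := by
      intro hP
      apply hnil q hq hqH
      refine ⟨(MonoidHom.transferSylow P₁ hP).ker, inferInstance, ?_⟩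
      rw [(MonoidHom.ker_transferSylow_isComplement' P₁ hP).symm.index_eq_card,
        Sylow.card_eq_multiplicity]
    obtain ⟨g, hgN, hgC⟩ := SetLike.not_le_iff_exists.1 hnot
    have hgconj : ∀ u ∈ (P₁ : Subgroup G), g * u * g⁻¹ ∈ (P₁ : Subgroup G) := fun u hu =>
      (Subgroup.mem_set_normalizer_iff.1 hgN u).1 hu
    have hgpair : (g • a = a ∧ g • b = b) ∨ (g • a = b ∧ g • b = a) := by
      have h1 := (hmemH _).1 (hP₁H (hgconj _ (hP₁ hu₀PG)))
      exact pair_of_conj_fix h3f hab hu₀1 hu₀fix.1 hu₀fix.2 h1.1 h1.2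
    refine ⟨g, hpairD g hgpair, ?_, ?_⟩
    · rw [hPGeq]; exact hgconj
    · rw [hPGeq]
      rw [Subgroup.mem_centralizer_iff] at hgC
      push Not at hgC
      obtain ⟨u, hu, hne⟩ := hgC
      refine ⟨u, hu, ?_⟩
      intro h
      apply hne
      calc u * g = (g * u * g⁻¹) * g := by rw [h]
        _ = g * u := by group
  obtain ⟨hcyc, hinv⟩ := Cfsg.Agent.Helper60.InvertZ.inverted_of_burnside H hodd s₀ hs₀N hs₀2 hB
  have hcomm : ∀ u ∈ H, ∀ v ∈ H, u * v = v * u := by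
    intro u hu v hv
    have : IsMulCommutative H := IsCyclic.isMulCommutative
    exact congrArg Subtype.val (mul_comm' (⟨u, hu⟩ : H) ⟨v, hv⟩)
  have hsq : ∀ u ∈ H, u * u = 1 → u = 1 := by
    intro u hu huu
    obtain ⟨j, hj⟩ := Cfsg.Agent.Helper60.InvertZ.mem_zpowers_sq_of_odd hodd (⟨u, hu⟩ : H)
    have h1 : (⟨u, hu⟩ : H) * ⟨u, hu⟩ = 1 := Subtype.ext huu
    rw [h1, one_pow] at hj
    exact (congrArg Subtype.val hj).symm
  refine ⟨hcyc, ?_, ?_⟩
  · apply le_antisymm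
    · intro g hg
      rw [Subgroup.mem_centralizer_iff] at hg
      have h1 : g * y1 * g⁻¹ = y1 := by
        rw [← hg y1 hy1H]; group
      have hpair := pair_of_conj_fix h3f hab hy11 hy1a hy1b (by rw [h1]; exact hy1a)
        (by rw [h1]; exact hy1b)
      rcases hpairD g hpair with hgH | hgs
      · exact hgH
      · exfalso
        apply hy11
        apply hsq y1 hy1H
        have h2 : s₀ * ((s₀⁻¹ * g) * y1 * (s₀⁻¹ * g)⁻¹) * s₀⁻¹ = y1 := by
          have e1 : s₀ * ((s₀⁻¹ * g) * y1 * (s₀⁻¹ * g)⁻¹) * s₀⁻¹ = g * y1 * g⁻¹ := by group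
          rw [e1, h1]
        have h3 : (s₀⁻¹ * g) * y1 * (s₀⁻¹ * g)⁻¹ = y1 := by
          rw [hcomm _ hgs _ hy1H]; group
        rw [h3, hinv y1 hy1H] at h2
        calc y1 * y1 = y1 * y1⁻¹ := by rw [h2]
          _ = 1 := mul_inv_cancel y1
    · intro g hg
      rw [Subgroup.mem_centralizer_iff]
      intro u hu
      exact hcomm u hu g hg
  · intro s hsa hsb h hh
    have hs : s₀⁻¹ * s ∈ H := by
      rw [hmemH, mul_smul, mul_smul, hsa, hsb]
      exact ⟨hs₀ia, hs₀ib⟩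
    have h1 : s * h * s⁻¹ = s₀ * ((s₀⁻¹ * s) * h * (s₀⁻¹ * s)⁻¹) * s₀⁻¹ := by group
    have h2 : (s₀⁻¹ * s) * h * (s₀⁻¹ * s)⁻¹ = h := by
      rw [hcomm _ hs _ hh]; group
    rw [h1, h2, hinv h hh]

end Cfsg.Agent.S0739
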