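import Cfsg.Statements.S4731
import Cfsg.Agent.Helper79.BlockIndep
import Cfsg.Agent.Helper79.TwoPrimes

set_option autoImplicit false
open Cfsg

namespace Cfsg.Agent.S4731

open Cfsg.Agent.Helper79 in
/-- Let p ≠ q be primes, M_p and M_q maximal ideals of the algebraic integers containing p and q respectively, and G a finite group with no element of order pq; let q^b be the q-part of the order of G. For a p-block B_p (relative to M_p), a q-block B_q (relative to M_q) and a p-singular element y, the sum of χ(1)χ(y) over the irreducible characters χ lying in both B_p and B_q is q^b times an algebraic integer. -/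
theorem result {G : Type*} [Group G] [Finite G] (p q : ℕ) [Fact p.Prime] [Fact q.Prime] (hpq : p ≠ q) (Mp Mq : Ideal Cfsg.AlgInt) (hMp : Cfsg.IsPModular p Mp) (hMq : Cfsg.IsPModular q Mq) (hno : ∀ g : G, orderOf g ≠ p * q) (b : ℕ) (hb : (Nat.card G).factorization q = b) (Bp : Set (Cfsg.IrrCharacter G)) (hBp : Cfsg.IsPBlock Mp Bp) (Bq : Set (Cfsg.IrrCharacter G)) (hBq : Cfsg.IsPBlock Mq Bq) (y : G) (hy : p ∣ orderOf y) : ∃ ω : Cfsg.AlgInt, ∑ᶠ χ ∈ Bp ∩ Bq, (Cfsg.charDegree (χ : G → ℂ) : ℂ) * (χ : G → ℂ) y = (q : ℂ) ^ b * (ω : ℂ) := by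
  classical
  have := Fintype.ofFinite G
  have hfin : Finite (IrrCharacter G) := irr_finite'
  have hsum : ∑ᶠ χ ∈ Bp ∩ Bq, (Cfsg.charDegree (χ : G → ℂ) : ℂ) * (χ : G → ℂ) y =
      ∑ᶠ χ ∈ Bp ∩ Bq, (χ : G → ℂ) 1 * (χ : G → ℂ) y := by
    refine finsum_congr fun χ => ?_
    refine finsum_congr fun _ => ?_
    rw [irr_one]
  rw [hsum]
  -- the sum is an algebraic integer
  have hint : IsIntegral ℤ (∑ᶠ χ ∈ Bp ∩ Bq, (χ : G → ℂ) 1 * (χ : G → ℂ) y) := by
    rw [finsum_mem_eq_finite_toFinset_sum _ (Set.toFinite (Bp ∩ Bq))]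
    refine IsIntegral.sum _ fun χ _ => ?_
    exact IsIntegral.mul (Helper80.IsCharacter.isIntegral (irr_isCharacter χ) 1)
      (Helper80.IsCharacter.isIntegral (irr_isCharacter χ) y)
  subst hb
  exact exists_algInt_of_forall_local q _ (Fact.out) ⟨_, hint⟩ fun M' hM' =>
    sum_inter_eq_pow_mul hpq hMp hM' hno hBp (isPBlock_indep hMq hM' hBq) y hy

end Cfsg.Agent.S4731
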