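import Cfsg.Statements.S0952
import Cfsg.Agent.Helper77.BlockOrth
import Cfsg.Agent.Helper78.BlockBasic

set_option autoImplicit false
open scoped ComplexConjugate
open Cfsg

namespace Cfsg.Agent.S0952

/-- The kernel `F'(x,y) = ∑_{η ∈ B} conj (η x) * η y`. -/
noncomputable def kern {G : Type*} [Group G] [Fintype G] (B : Set (IrrCharacter G)) (x y : G) : ℂ :=
  ∑ η ∈ (Set.toFinite B).toFinset, conj ((η : G → ℂ) x) * (η : G → ℂ) y

theorem kern_eq_zero {G : Type*} [Group G] [Fintype G] {p : ℕ} {M : Ideal AlgInt}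
    (hM : IsPModular p M) {B : Set (IrrCharacter G)} (hB : IsPBlock M B) (x y : G)
    (hx : ¬ p ∣ orderOf x) (hy : p ∣ orderOf y) : kern B x y = 0 ∧ kern B y x = 0 := by
  classical
  have h := Helper77.weak_block_orthogonality' hM hB x y hx hy
  rw [finsum_mem_eq_finite_toFinset_sum _ (Set.toFinite B)] at h
  constructor
  · have h2 := congrArg conj h
    rw [map_sum, map_zero] at h2
    unfold kern
    rw [← h2]
    refine Finset.sum_congr rfl (fun η _ => ?_)
    simp
  · unfold kern
    rw [← h]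
    refine Finset.sum_congr rfl (fun η _ => ?_)
    ring

/-- Indicator of `p`-regular elements. -/
noncomputable def reg {G : Type*} [Group G] (p : ℕ) (x : G) : ℂ :=
  haveI := Classical.dec (p ∣ orderOf x)
  if p ∣ orderOf x then 0 else 1

theorem reg_mul_kern {G : Type*} [Group G] [Fintype G] {p : ℕ} {M : Ideal AlgInt}
    (hM : IsPModular p M) {B : Set (IrrCharacter G)} (hB : IsPBlock M B) (x y : G) :
    reg p x * kern B x y = kern B x y * reg p y := by
  classical
  unfold reg
  by_cases hx : p ∣ orderOf x <;> by_cases hy : p ∣ orderOf y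
  · simp [hx, hy]
  · simp [hx, hy, (kern_eq_zero hM hB y x hy hx).2]
  · simp [hx, hy, (kern_eq_zero hM hB x y hx hy).1]
  · simp [hx, hy]

theorem sum_mul_conj_irr {G : Type*} [Group G] [Fintype G] (χ η : IrrCharacter G) :
    ∑ x : G, (χ : G → ℂ) x * conj ((η : G → ℂ) x) =
      (Nat.card G : ℂ) * classInner (χ : G → ℂ) (η : G → ℂ) := by
  unfold classInner
  rw [← mul_assoc, mul_inv_cancel₀ Helper79.card_ne_zero_complex, one_mul]

theorem main {G : Type*} [Group G] [Fintype G] (p : ℕ) (M : Ideal AlgInt)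
    (hM : IsPModular p M) (χ ψ : IrrCharacter G)
    (h : ¬ SameBlock M (χ : G → ℂ) (ψ : G → ℂ)) :
    ∑ x : G, reg p x * ((χ : G → ℂ) x * conj ((ψ : G → ℂ) x)) = 0 := by
  classical
  have hMp : M.IsPrime := Helper77.isPrime_of_isPModular hM
  set B : Set (IrrCharacter G) := blockOf M (ψ : G → ℂ) with hBdef
  have hB : IsPBlock M B := ⟨ψ, rfl⟩
  have hψB : ψ ∈ B := Helper78.mem_blockOf_self hMp ψ
  have hχB : χ ∉ B := by
    intro hχ
    apply h
    exact Helper78.sameBlock_symm (Helper78.mem_blockOf_iff.mp hχ)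
  have hcard : (Nat.card G : ℂ) ≠ 0 := Helper79.card_ne_zero_complex
  -- Step 1: conj ψ x = |G|⁻¹ ∑_y kern x y * conj ψ y
  have h1 : ∀ x : G, conj ((ψ : G → ℂ) x) =
      (Nat.card G : ℂ)⁻¹ * ∑ y : G, kern B x y * conj ((ψ : G → ℂ) y) := by
    intro x
    unfold kern
    simp only [Finset.sum_mul]
    rw [Finset.sum_comm]
    have h2 : ∀ η ∈ (Set.toFinite B).toFinset,
        ∑ y : G, conj ((η : G → ℂ) x) * (η : G → ℂ) y * conj ((ψ : G → ℂ) y) =
        conj ((η : G → ℂ) x) * ((Nat.card G : ℂ) * classInner (η : G → ℂ) (ψ : G → ℂ)) := by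
      intro η _
      rw [← sum_mul_conj_irr, Finset.mul_sum]
      refine Finset.sum_congr rfl (fun y _ => ?_)
      ring
    rw [Finset.sum_congr rfl h2]
    rw [Finset.sum_eq_single ψ]
    · rw [Helper79.classInner_irr_self, mul_one, ← mul_assoc, mul_comm _ (conj _), mul_assoc,
        inv_mul_cancel₀ hcard, mul_one]
    · intro η _ hne
      rw [Helper79.classInner_irr_ne hne, mul_zero, mul_zero]
    · intro hn
      exfalso
      apply hn
      simpa using hψB
  -- Step 4: ∑_x χ x * kern x y = 0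
  have h4 : ∀ y : G, ∑ x : G, (χ : G → ℂ) x * kern B x y = 0 := by
    intro y
    unfold kern
    simp only [Finset.mul_sum]
    rw [Finset.sum_comm]
    refine Finset.sum_eq_zero (fun η hη => ?_)
    have hne : χ ≠ η := by
      intro heq
      apply hχB
      rw [heq]
      simpa using hη
    have : ∑ x : G, (χ : G → ℂ) x * (conj ((η : G → ℂ) x) * (η : G → ℂ) y) =
        (∑ x : G, (χ : G → ℂ) x * conj ((η : G → ℂ) x)) * (η : G → ℂ) y := by
      rw [Finset.sum_mul]
      refine Finset.sum_congr rfl (fun x _ => ?_)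
      ring
    rw [this, sum_mul_conj_irr, Helper79.classInner_irr_ne hne, mul_zero, zero_mul]
  calc ∑ x : G, reg p x * ((χ : G → ℂ) x * conj ((ψ : G → ℂ) x))
      = ∑ x : G, reg p x * ((χ : G → ℂ) x *
          ((Nat.card G : ℂ)⁻¹ * ∑ y : G, kern B x y * conj ((ψ : G → ℂ) y))) := by
        refine Finset.sum_congr rfl (fun x _ => ?_)
        rw [← h1 x]
    _ = (Nat.card G : ℂ)⁻¹ * ∑ x : G, ∑ y : G,
          (χ : G → ℂ) x * (reg p x * kern B x y) * conj ((ψ : G → ℂ) y) := by
        rw [Finset.mul_sum]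
        refine Finset.sum_congr rfl (fun x _ => ?_)
        simp only [Finset.mul_sum]
        refine Finset.sum_congr rfl (fun y _ => ?_)
        ring
    _ = (Nat.card G : ℂ)⁻¹ * ∑ x : G, ∑ y : G,
          (χ : G → ℂ) x * (kern B x y * reg p y) * conj ((ψ : G → ℂ) y) := by
        congr 1
        refine Finset.sum_congr rfl (fun x _ => ?_)
        refine Finset.sum_congr rfl (fun y _ => ?_)
        rw [reg_mul_kern hM hB]
    _ = (Nat.card G : ℂ)⁻¹ * ∑ y : G,
          (reg p y * conj ((ψ : G → ℂ) y)) * ∑ x : G, (χ : G → ℂ) x * kern B x y := by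
        congr 1
        rw [Finset.sum_comm]
        refine Finset.sum_congr rfl (fun y _ => ?_)
        rw [Finset.mul_sum]
        refine Finset.sum_congr rfl (fun x _ => ?_)
        ring
    _ = 0 := by
        simp only [h4, mul_zero, Finset.sum_const_zero]

/-- Let χ and ψ be irreducible characters of the finite group G lying in different blocks relative to a maximal ideal M of the algebraic integers containing the prime p. Then the sum of χ x * conj (ψ x) over the elements x of order prime to p is zero. -/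
theorem result {G : Type*} [Group G] [Finite G] (p : ℕ) [Fact p.Prime] (M : Ideal Cfsg.AlgInt) (hM : Cfsg.IsPModular p M) (χ ψ : Cfsg.IrrCharacter G) (h : ¬ Cfsg.SameBlock M (χ : G → ℂ) (ψ : G → ℂ)) : ∑ᶠ x ∈ {x : G | ¬ p ∣ orderOf x}, (χ : G → ℂ) x * conj ((ψ : G → ℂ) x) = 0 := by
  classical
  haveI := Fintype.ofFinite G
  have hmain := main p M hM χ ψ h
  rw [finsum_mem_eq_finite_toFinset_sum _ (Set.toFinite _)]
  rw [← hmain]
  rw [← Finset.sum_filter_add_sum_filter_not Finset.univ (fun x : G => ¬ p ∣ orderOf x)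
    (fun x => reg p x * ((χ : G → ℂ) x * conj ((ψ : G → ℂ) x)))]
  have hz : ∑ x ∈ Finset.univ.filter (fun x : G => ¬ ¬ p ∣ orderOf x),
      reg p x * ((χ : G → ℂ) x * conj ((ψ : G → ℂ) x)) = 0 := by
    refine Finset.sum_eq_zero (fun x hx => ?_)
    have hx' : p ∣ orderOf x := by simpa using hx
    unfold reg
    simp [hx']
  rw [hz, add_zero]
  refine Finset.sum_congr ?_ (fun x hx => ?_)
  · ext x
    simp
  · have hx' : ¬ p ∣ orderOf x := by simpa using hx
    unfold reg
    simp [hx']

end Cfsg.Agent.S0952
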