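import Cfsg.Statements.S4508
import Cfsg.Agent.Helper75.SCChar
import Cfsg.Agent.Helper75.DetSign

set_option autoImplicit false
open Cfsg

namespace Cfsg.Agent.S4508

open Cfsg.Agent.Helper75 in
/-- Let the finite group G contain an element x of prime order p with C_G(x) = ⟨x⟩, and let t be the number of conjugacy classes of elements of order p. If G has an irreducible character of degree p − 1, then t is even or the commutator subgroup has even index. -/
theorem result {G : Type*} [Group G] [Finite G] (p : ℕ) (hp : p.Prime) (x : G) (hx : orderOf x = p) (hC : Subgroup.centralizer ({x} : Set G) = Subgroup.zpowers x) (t : ℕ) (ht : Nat.card {C : ConjClasses G // ∃ g ∈ C.carrier, orderOf g = p} = t) (χ : Cfsg.IrrCharacter G) (hχ : Cfsg.charDegree (χ : G → ℂ) + 1 = p) : Even t ∨ Even (commutator G).index := by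
  classical
  have hcount := sc_class_count hp hx hC
  rw [ht] at hcount
  by_cases he : (Subgroup.zpowers x).relIndex (Subgroup.normalizer (Subgroup.zpowers x : Set G)) = 1
  · obtain ⟨hidx, _⟩ := sc_commutator_of_relIndex_eq_one hp hx hC he
    rw [he, mul_one] at hcount
    by_cases hp2 : p = 2
    · right
      rw [hidx, hp2]
      exact even_two
    · left
      rw [hcount]
      exact hp.even_sub_one hp2
  · by_cases hp2 : p = 2
    · exfalso
      rw [hp2] at hcount
      exact he (Nat.eq_one_of_mul_eq_one_left hcount)
    · by_contra hcon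
      push Not at hcon
      obtain ⟨htodd, hiodd⟩ := hcon
      rw [Nat.not_even_iff_odd] at htodd
      let _ : Fintype G := Fintype.ofFinite G
      obtain ⟨τ, hτN, hτeven, ⟨m, hm, hpm⟩, hτK⟩ :=
        sc_exists_two_elt hp hp2 hx hC (by rw [ht]; exact htodd)
      have hψ1 : (χ : G → ℂ) 1 = ((p - 1 : ℕ) : ℂ) := by
        rw [Helper78.irrChar_one_eq_charDegree χ.2]
        congr 1
        omega
      have hvan : ∀ s ∈ Subgroup.zpowers τ, s ≠ 1 → (χ : G → ℂ) s = 0 := by
        intro s hs hs1
        have hsN : s ∈ Subgroup.normalizer (Subgroup.zpowers x : Set G) :=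
          (Subgroup.zpowers_le.mpr hτN) hs
        exact sc_vanish_off hp hx hC he χ.2 hψ1 hsN (hτK s hs hs1)
      have hchar : IsCharacter G (χ : G → ℂ) := Helper74.isCharacter_of_isIrr χ.2
      have hdet := detChar_eq_neg_one hchar τ m hτeven hm (by rw [hψ1, hpm]) hvan
      exact hiodd (even_index_commutator_of_detChar hchar τ hdet)

end Cfsg.Agent.S4508
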