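import Cfsg.Statements.S0962
import Cfsg.Agent.Helper16.DetLocal
import Cfsg.Agent.Helper16.UnionBlocks
import Cfsg.Agent.Helper77.DefectOrder
import Cfsg.Agent.Helper78.BlockBasic
import Cfsg.Agent.Helper80.CharLevel

set_option autoImplicit false
open Cfsg

namespace Cfsg.Agent.S0962

open Cfsg.Agent.Helper16

/-- Every block contains a character of height zero. -/
theorem exists_height_zero {G : Type*} [Group G] (p : ℕ) (B : Set (IrrCharacter G))
    (hne : B.Nonempty) :
    ∃ χ ∈ B, blockDefect p B =
      (Nat.card G).factorization p - (charDegree (χ : G → ℂ)).factorization p := by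
  have hS : ((fun χ : IrrCharacter G => (charDegree (χ : G → ℂ)).factorization p) '' B).Nonempty :=
    hne.image _
  obtain ⟨χ, hχ, hχeq⟩ := Nat.sInf_mem hS
  refine ⟨χ, hχ, ?_⟩
  unfold blockDefect
  rw [← hχeq]

/-- Let G be a finite group, p a prime, M a maximal ideal of the algebraic integers containing p, and d a natural number. Then the number of blocks of G relative to M of defect at least d is at most the number of conjugacy classes of elements g of order prime to p such that p^d divides |C_G(g)|. -/
theorem result {G : Type*} [Group G] [Finite G] (p : ℕ) [Fact p.Prime] (M : Ideal Cfsg.AlgInt) (hM : Cfsg.IsPModular p M) (d : ℕ) : Nat.card {B : Set (Cfsg.IrrCharacter G) // Cfsg.IsPBlock M B ∧ d ≤ Cfsg.blockDefect p B} ≤ Nat.card {C : ConjClasses G // ∃ g : G, ConjClasses.mk g = C ∧ Cfsg.IsPRegular p g ∧ d ≤ (Nat.card (Subgroup.centralizer ({g} : Set G))).factorization p} := by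
  classical
  haveI : Fintype G := Fintype.ofFinite G
  haveI hMp : M.IsPrime := IsPModular.isPrime hM
  have hp : p.Prime := Fact.out
  haveI : Finite (IrrCharacter G) := Helper79.irr_finite
  haveI : Fintype (IrrCharacter G) := Fintype.ofFinite _
  rw [Nat.card_eq_fintype_card, Nat.card_eq_fintype_card]
  -- height zero characters
  have hsel : ∀ B : {B : Set (IrrCharacter G) // IsPBlock M B ∧ d ≤ blockDefect p B},
      ∃ χ : IrrCharacter G, χ ∈ B.1 ∧ blockDefect p B.1 =
        (Nat.card G).factorization p - (charDegree (χ : G → ℂ)).factorization p := by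
    intro B
    obtain ⟨χ, hχ, hd⟩ := exists_height_zero p B.1 (Helper78.isPBlock_nonempty hMp B.2.1)
    exact ⟨χ, hχ, hd⟩
  choose χsel hχmem hχdef using hsel
  let P : ConjClasses G → Prop := fun C => ∃ g : G, ConjClasses.mk g = C ∧ IsPRegular p g ∧
      d ≤ (Nat.card (Subgroup.centralizer ({g} : Set G))).factorization p
  let U : Matrix {B : Set (IrrCharacter G) // IsPBlock M B ∧ d ≤ blockDefect p B}
      {C : ConjClasses G // P C} ℂ := fun B C => centralChar (χsel B : G → ℂ) (classRep C.1)
  let V : Matrix {B : Set (IrrCharacter G) // IsPBlock M B ∧ d ≤ blockDefect p B}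
      {C : ConjClasses G // P C} ℂ := fun B C => blockCoeff B.1 (classRep C.1)
  -- the tail sums lie in the local ideal
  have htail : ∀ B B' : {B : Set (IrrCharacter G) // IsPBlock M B ∧ d ≤ blockDefect p B},
      MemLocalIdeal M (∑ C : {C : ConjClasses G // ¬ P C},
        blockCoeff B'.1 (classRep C.1) * centralChar (χsel B : G → ℂ) (classRep C.1)) := by
    intro B B'
    refine memLocalIdeal_sum _ _ (fun C _ => ?_)
    set g := classRep C.1 with hg
    by_cases hreg : p ∣ orderOf g
    · rw [Helper77.blockCoeff_eq_zero_of_dvd_orderOf hM B'.2.1 g hreg, zero_mul]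
      exact memLocalIdeal_zero
    · refine memLocalIdeal_mul_left (osima B'.2.1 g) ?_
      by_contra hunit
      apply C.2
      refine ⟨g, mk_classRep C.1, hreg, ?_⟩
      have hdvd := Helper77.pow_dvd_charDegree_of_centralChar_unit hM (χsel B) g hunit
      have hd0 : charDegree (χsel B : G → ℂ) ≠ 0 := by
        have hd : ((charDegree (χsel B : G → ℂ) : ℕ) : ℂ) = (χsel B : G → ℂ) 1 :=
          Helper80.IsCharacter.charDegree_cast (Helper79.irr_isCharacter (χsel B))
        intro h0
        apply irr_one_ne_zero (χsel B)
        rw [← hd, h0]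
        simp
      have h1 : (Subgroup.centralizer ({g} : Set G)).index.factorization p ≤
          (charDegree (χsel B : G → ℂ)).factorization p :=
        (hp.pow_dvd_iff_le_factorization hd0).1 hdvd
      have hmul : Nat.card G = (Subgroup.centralizer ({g} : Set G)).index *
          Nat.card (Subgroup.centralizer ({g} : Set G)) :=
        (Subgroup.index_mul_card _).symm
      have hidx0 : (Subgroup.centralizer ({g} : Set G)).index ≠ 0 :=
        Subgroup.index_ne_zero_of_finite
      have hc0 : Nat.card (Subgroup.centralizer ({g} : Set G)) ≠ 0 := Nat.card_pos.ne'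
      have hfac : (Nat.card G).factorization p =
          (Subgroup.centralizer ({g} : Set G)).index.factorization p +
          (Nat.card (Subgroup.centralizer ({g} : Set G))).factorization p := by
        rw [hmul, Nat.factorization_mul hidx0 hc0]
        rfl
      have hdB := B.2.2
      rw [hχdef B] at hdB
      omega
  -- the full sums
  have hfull : ∀ B B' : {B : Set (IrrCharacter G) // IsPBlock M B ∧ d ≤ blockDefect p B},
      (U * V.transpose) B B' = (1 : Matrix _ _ ℂ) B B' -
        ∑ C : {C : ConjClasses G // ¬ P C},
          blockCoeff B'.1 (classRep C.1) * centralChar (χsel B : G → ℂ) (classRep C.1) := by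
    intro B B'
    have h1 := omega_eq_sum_classes (χsel B : G → ℂ) (blockCoeff B'.1)
      (irr_isClassFunction (χsel B)) (isClassFunction_blockCoeff B'.1)
    rw [omega_blockCoeff] at h1
    have h2 := Fintype.sum_subtype_add_sum_subtype P
      (fun C : ConjClasses G => blockCoeff B'.1 (classRep C) *
        centralChar (χsel B : G → ℂ) (classRep C))
    have h3 : (U * V.transpose) B B' = ∑ C : {C : ConjClasses G // P C},
        blockCoeff B'.1 (classRep C.1) * centralChar (χsel B : G → ℂ) (classRep C.1) := by
      rw [Matrix.mul_apply]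
      refine Finset.sum_congr rfl (fun C _ => ?_)
      rw [Matrix.transpose_apply]
      exact mul_comm _ _
    have h4 : (1 : Matrix {B : Set (IrrCharacter G) // IsPBlock M B ∧ d ≤ blockDefect p B}
        {B : Set (IrrCharacter G) // IsPBlock M B ∧ d ≤ blockDefect p B} ℂ) B B' =
        if χsel B ∈ B'.1 then 1 else 0 := by
      rw [Matrix.one_apply]
      by_cases hBB : B = B'
      · rw [if_pos hBB, if_pos (hBB ▸ hχmem B)]
      · rw [if_neg hBB, if_neg]
        intro hmem
        apply hBB
        exact Subtype.ext (Helper78.isPBlock_eq_of_mem_of_mem hMp B.2.1 B'.2.1 (hχmem B) hmem)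
    rw [h3, h4, h1, ← h2]
    ring
  refine card_le_card_of_mul_transpose_congr_one (M := M) U V ?_ ?_
  · intro B B'
    rw [hfull]
    refine memLocalRing_sub ?_ (memLocalIdeal_memLocalRing (htail B B'))
    rw [Matrix.one_apply]
    by_cases hBB : B = B'
    · rw [if_pos hBB]; exact memLocalRing_one
    · rw [if_neg hBB]; exact memLocalRing_zero
  · intro B B'
    rw [hfull, sub_sub_cancel_left]
    exact memLocalIdeal_neg (htail B B')

end Cfsg.Agent.S0962
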