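import Cfsg.Statements.S0149
import Cfsg.Agent.Helper15.IndFun

set_option autoImplicit false
open Cfsg

namespace Cfsg.Agent.S0149

/-- Let T be a subset of G meeting each of its conjugates by elements outside its normalizer N only in the identity, and let ψ be a class function of N vanishing on N away from T. Then the function induced from ψ agrees with ψ at every non-identity element of T. -/
theorem result {G : Type*} [Group G] [Fintype G] (T : Set G) (hTI : ∀ g : G, g ∉ Subgroup.normalizer T → ∀ t ∈ T, g * t * g⁻¹ ∈ T → t = 1) (hTN : T ⊆ Subgroup.normalizer T) (ψ : Subgroup.normalizer T → ℂ) (hψ : Cfsg.IsClassFunction (Subgroup.normalizer T) ψ) (hψT : ∀ x : Subgroup.normalizer T, (x : G) ∉ T → ψ x = 0) (t : Subgroup.normalizer T) (htT : (t : G) ∈ T) (ht1 : t ≠ 1) : Cfsg.indFun (Subgroup.normalizer T) ψ t = ψ t := by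
  classical
  let _ : Fintype (Subgroup.normalizer T) := Fintype.ofFinite _
  have hcard : (Nat.card (Subgroup.normalizer T) : ℂ) ≠ 0 := by
    have : Nat.card (Subgroup.normalizer T) ≠ 0 := Nat.card_pos.ne'
    exact_mod_cast this
  have hne : (t : G) ≠ 1 := fun hc => ht1 (Subtype.ext hc)
  rw [Cfsg.Agent.Helper15.indFun_apply]
  have hterm : ∀ x : G, extendByZero (Subgroup.normalizer T) ψ (x⁻¹ * (t : G) * x)
      = extendByZero (Subgroup.normalizer T) (fun _ : Subgroup.normalizer T => ψ t) x := by
    intro x
    by_cases hx : x ∈ Subgroup.normalizer T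
    · have hmem : x⁻¹ * (t : G) * x ∈ Subgroup.normalizer T :=
        Subgroup.mul_mem _ (Subgroup.mul_mem _ (Subgroup.inv_mem _ hx) t.2) hx
      rw [Cfsg.Agent.Helper15.extendByZero_of_mem _ ψ hmem,
        Cfsg.Agent.Helper15.extendByZero_of_mem _ _ hx]
      have := hψ t (⟨x, hx⟩ : Subgroup.normalizer T)⁻¹
      rw [inv_inv] at this
      rw [← this]
      rfl
    · rw [Cfsg.Agent.Helper15.extendByZero_of_not_mem _ _ hx]
      by_cases hmem : x⁻¹ * (t : G) * x ∈ Subgroup.normalizer T
      · rw [Cfsg.Agent.Helper15.extendByZero_of_mem _ ψ hmem]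
        apply hψT
        intro hT
        apply hne
        have hx' : x⁻¹ ∉ Subgroup.normalizer T := fun hc => hx (by simpa using Subgroup.inv_mem _ hc)
        refine hTI x⁻¹ hx' (t : G) htT ?_
        simpa using hT
      · rw [Cfsg.Agent.Helper15.extendByZero_of_not_mem _ ψ hmem]
  rw [Finset.sum_congr rfl (fun x _ => hterm x), Cfsg.Agent.Helper15.sum_extendByZero]
  rw [Finset.sum_const, Finset.card_univ, nsmul_eq_mul, ← Nat.card_eq_fintype_card]
  field_simp

end Cfsg.Agent.S0149
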