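import Cfsg.Statements.S0198
import Mathlib
import Cfsg.Agent.Helper4.GenChar
import Cfsg.Agent.Helper74.FSCount

set_option autoImplicit false
open Cfsg

namespace Cfsg.Agent.S0198

/-- The isometry lemma behind exceptional characters. Let τ be a family of generalized characters of a finite group G indexed by Fin n, with τ i₀ = 0, every τ i vanishing at the identity, and inner products ⟨τ i, τ j⟩ = 2 if i = j and 1 otherwise for i, j ≠ i₀. Then there are a sign ε and pairwise distinct irreducible characters μ i with τ i = ε (μ i − μ i₀) for all i. -/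
theorem result {G : Type*} [Group G] [Fintype G] (n : ℕ) (i₀ : Fin n) (τ : Fin n → (G → ℂ)) (h0 : τ i₀ = 0) (hgen : ∀ i, Cfsg.IsGeneralizedCharacter G (τ i)) (hone : ∀ i, τ i 1 = 0) (hgram : ∀ i j, i ≠ i₀ → j ≠ i₀ → Cfsg.classInner (τ i) (τ j) = if i = j then 2 else 1) : ∃ ε : ℂ, (ε = 1 ∨ ε = -1) ∧ ∃ μ : Fin n → (G → ℂ), (∀ i, Cfsg.IsIrrCharacter G (μ i)) ∧ Function.Injective μ ∧ ∀ i, τ i = ε • (μ i - μ i₀) := by
  classical
  have hfin : Finite (IrrCharacter G) := Cfsg.Agent.Helper79.irr_finite
  have := Fintype.ofFinite (IrrCharacter G)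
  -- decomposition of each `τ i`
  have hdec : ∀ i, ∃ α β : IrrCharacter G, i ≠ i₀ →
      (α ≠ β ∧ τ i = (α : G → ℂ) - (β : G → ℂ)) := by
    intro i
    by_cases hi : i = i₀
    · exact ⟨Cfsg.Agent.Helper74.irrTriv G, Cfsg.Agent.Helper74.irrTriv G, fun h => absurd hi h⟩
    · obtain ⟨α, β, hne, h⟩ := Cfsg.Agent.Helper4.exists_irr_sub_of_norm_two (hgen i)
        (by simpa using hgram i i hi hi) (hone i)
      exact ⟨α, β, fun _ => ⟨hne, h⟩⟩
  choose α β hαβ using hdec
  have hinner : ∀ i j, i ≠ i₀ → j ≠ i₀ → classInner (τ i) (τ j) =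
      (if α i = α j then 1 else 0) + (if β i = β j then 1 else 0) - (if α i = β j then 1 else 0)
        - (if β i = α j then (1 : ℂ) else 0) := by
    intro i j hi hj
    rw [(hαβ i hi).2, (hαβ j hj).2, Cfsg.Agent.Helper4.classInner_sub_left,
      Cfsg.Agent.Helper4.classInner_sub_right, Cfsg.Agent.Helper4.classInner_sub_right,
      Cfsg.Agent.Helper79.classInner_irr, Cfsg.Agent.Helper79.classInner_irr,
      Cfsg.Agent.Helper79.classInner_irr, Cfsg.Agent.Helper79.classInner_irr]
    ring
  have hpair : ∀ i j, i ≠ i₀ → j ≠ i₀ → i ≠ j →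
      (α i = α j ∧ β i ≠ β j) ∨ (α i ≠ α j ∧ β i = β j) := by
    intro i j hi hj hij
    have h := hinner i j hi hj
    rw [hgram i j hi hj, if_neg hij] at h
    have h1 := (hαβ i hi).1
    have h2 := (hαβ j hj).1
    by_cases hc : α i = β j
    · have ha : α i ≠ α j := fun ha => h2 (ha.symm.trans hc)
      have hb : β i ≠ β j := fun hb => h1 (hc.trans hb.symm)
      exfalso
      rw [if_neg ha, if_neg hb, if_pos hc] at h
      split_ifs at h <;> norm_num at h
    · by_cases hd : β i = α j
      · have ha : α i ≠ α j := fun ha => h1 (ha.trans hd.symm)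
        have hb : β i ≠ β j := fun hb => h2 (hd.symm.trans hb)
        exfalso
        rw [if_neg ha, if_neg hb, if_neg hc, if_pos hd] at h
        norm_num at h
      · rw [if_neg hc, if_neg hd] at h
        by_cases ha : α i = α j <;> by_cases hb : β i = β j
        · exfalso; rw [if_pos ha, if_pos hb] at h; norm_num at h
        · left; exact ⟨ha, hb⟩
        · right; exact ⟨ha, hb⟩
        · exfalso; rw [if_neg ha, if_neg hb] at h; norm_num at h
  by_cases hA : ∃ i j, i ≠ i₀ ∧ j ≠ i₀ ∧ i ≠ j ∧ α i = α j
  · obtain ⟨i, j, hi, hj, hij, hα⟩ := hA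
    have hall : ∀ k, k ≠ i₀ → α k = α i := by
      intro k hk
      by_cases hki : k = i
      · rw [hki]
      by_cases hkj : k = j
      · rw [hkj, hα]
      rcases hpair i k hi hk (Ne.symm hki) with ⟨h, -⟩ | ⟨hne, hβ⟩
      · exact h.symm
      · exfalso
        rcases hpair j k hj hk (Ne.symm hkj) with ⟨h, -⟩ | ⟨-, hβ'⟩
        · exact hne (hα.trans h)
        · rcases hpair i j hi hj hij with ⟨-, hb⟩ | ⟨ha, -⟩
          · exact hb (hβ.trans hβ'.symm)
          · exact ha hα
    refine ⟨-1, Or.inr rfl, fun k => if k = i₀ then (α i : G → ℂ) else (β k : G → ℂ), ?_, ?_, ?_⟩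
    · intro k
      by_cases hk : k = i₀
      · simp only [hk, if_true]; exact (α i).2
      · simp only [hk, if_false]; exact (β k).2
    · intro k l hkl
      by_cases hk : k = i₀ <;> by_cases hl : l = i₀
      · rw [hk, hl]
      · exfalso
        simp only [hk, hl, if_true, if_false] at hkl
        have h1 : α i = β l := Subtype.ext hkl
        exact (hαβ l hl).1 ((hall l hl).trans h1)
      · exfalso
        simp only [hk, hl, if_true, if_false] at hkl
        have h1 : β k = α i := Subtype.ext hkl
        exact (hαβ k hk).1 ((hall k hk).trans h1.symm)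
      · simp only [hk, hl, if_false] at hkl
        have hβ : β k = β l := Subtype.ext hkl
        by_contra hne
        rcases hpair k l hk hl hne with ⟨-, hb⟩ | ⟨ha, -⟩
        · exact hb hβ
        · exact ha ((hall k hk).trans (hall l hl).symm)
    · intro k
      by_cases hk : k = i₀
      · subst hk
        simp [h0]
      · simp only [hk, if_false, if_true]
        rw [(hαβ k hk).2, hall k hk]
        ext g
        simp
  · push Not at hA
    by_cases hex : ∃ k0, k0 ≠ i₀
    · obtain ⟨k0, hk0⟩ := hex
      have hall : ∀ k, k ≠ i₀ → β k = β k0 := by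
        intro k hk
        by_cases hkk : k = k0
        · rw [hkk]
        rcases hpair k k0 hk hk0 hkk with ⟨h, -⟩ | ⟨-, h⟩
        · exact absurd h (hA k k0 hk hk0 hkk)
        · exact h
      refine ⟨1, Or.inl rfl, fun k => if k = i₀ then (β k0 : G → ℂ) else (α k : G → ℂ), ?_, ?_, ?_⟩
      · intro k
        by_cases hk : k = i₀
        · simp only [hk, if_true]; exact (β k0).2
        · simp only [hk, if_false]; exact (α k).2
      · intro k l hkl
        by_cases hk : k = i₀ <;> by_cases hl : l = i₀
        · rw [hk, hl]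
        · exfalso
          simp only [hk, hl, if_true, if_false] at hkl
          have h1 : β k0 = α l := Subtype.ext hkl
          exact (hαβ l hl).1 (h1.symm.trans (hall l hl).symm)
        · exfalso
          simp only [hk, hl, if_true, if_false] at hkl
          have h1 : α k = β k0 := Subtype.ext hkl
          exact (hαβ k hk).1 (h1.trans (hall k hk).symm)
        · simp only [hk, hl, if_false] at hkl
          have hα : α k = α l := Subtype.ext hkl
          by_contra hne
          exact hA k l hk hl hne hα
      · intro k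
        by_cases hk : k = i₀
        · subst hk
          simp [h0]
        · simp only [hk, if_false, if_true]
          rw [(hαβ k hk).2, hall k hk, one_smul]
    · push Not at hex
      refine ⟨1, Or.inl rfl, fun _ => (Cfsg.Agent.Helper74.irrTriv G : G → ℂ),
        fun _ => (Cfsg.Agent.Helper74.irrTriv G).2, ?_, ?_⟩
      · intro k l _
        rw [hex k, hex l]
      · intro k
        rw [hex k, h0]
        simp

end Cfsg.Agent.S0198
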