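import Cfsg.Statements.S0170
import Mathlib
import Cfsg.Agent.S0198
import Cfsg.Agent.S0150
import Cfsg.Agent.Helper15.ConjChar

set_option autoImplicit false
open Cfsg

namespace Cfsg.Agent.S0170

/-- Exceptional characters. Let S be a subset of a finite group contained in its normalizer N and meeting its conjugates by elements outside N only in the identity. Given n ≥ 2 distinct irreducible characters of N of equal degree that vanish on N away from S, there exist a sign ε and n distinct irreducible characters θ_i of G such that inducing χ_i − χ_j to G gives ε (θ_i − θ_j) for all i, j. -/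
theorem result {G : Type*} [Group G] [Fintype G] (S : Set G) (hSN : S ⊆ Subgroup.normalizer S) (hTI : ∀ g : G, g ∉ Subgroup.normalizer S → ∀ s ∈ S, g * s * g⁻¹ ∈ S → s = 1) (n : ℕ) (hn : 2 ≤ n) (χ : Fin n → (Subgroup.normalizer S → ℂ)) (hirr : ∀ i, Cfsg.IsIrrCharacter (Subgroup.normalizer S) (χ i)) (hinj : Function.Injective χ) (hvan : ∀ i, ∀ x : Subgroup.normalizer S, (x : G) ∉ S → χ i x = 0) (hdeg : ∀ i j, χ i 1 = χ j 1) : ∃ ε : ℂ, (ε = 1 ∨ ε = -1) ∧ ∃ θ : Fin n → (G → ℂ), (∀ i, Cfsg.IsIrrCharacter G (θ i)) ∧ Function.Injective θ ∧ ∀ i j, Cfsg.indFun (Subgroup.normalizer S) (χ i) - Cfsg.indFun (Subgroup.normalizer S) (χ j) = ε • (θ i - θ j) := by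
  classical
  have hfN : Fintype (Subgroup.normalizer S) := Fintype.ofFinite _
  have hpos : 0 < n := by omega
  let i₀ : Fin n := ⟨0, hpos⟩
  let τ : Fin n → (G → ℂ) := fun i =>
    indFun (Subgroup.normalizer S) (χ i) - indFun (Subgroup.normalizer S) (χ i₀)
  have h0 : τ i₀ = 0 := sub_self _
  have hchar : ∀ i, IsCharacter G (indFun (Subgroup.normalizer S) (χ i)) := fun i =>
    Cfsg.Agent.Helper15.isCharacter_indFun _
      (Cfsg.Agent.Helper79.irr_isCharacter (⟨χ i, hirr i⟩ : IrrCharacter (Subgroup.normalizer S)))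
  have hgen : ∀ i, IsGeneralizedCharacter G (τ i) := fun i =>
    ⟨_, _, hchar i, hchar i₀, rfl⟩
  have hone : ∀ i, τ i 1 = 0 := by
    intro i
    simp only [τ, Pi.sub_apply, Cfsg.Agent.Helper15.indFun_apply_one, hdeg i i₀, sub_self]
  have hcf : ∀ i, IsClassFunction (Subgroup.normalizer S) (χ i) := fun i =>
    Cfsg.Agent.Helper79.irr_isClassFunction (⟨χ i, hirr i⟩ : IrrCharacter (Subgroup.normalizer S))
  have hgram : ∀ i j, i ≠ i₀ → j ≠ i₀ →
      classInner (τ i) (τ j) = if i = j then 2 else 1 := by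
    intro i j hi hj
    have h1 := Cfsg.Agent.S0150.result S hTI hSN (χ i - χ i₀) (χ j - χ i₀)
      (Cfsg.Agent.Helper79.isClassFunction_sub (hcf i) (hcf i₀))
      (Cfsg.Agent.Helper79.isClassFunction_sub (hcf j) (hcf i₀))
      (by intro x hx; simp [hvan i x hx, hvan i₀ x hx])
      (by intro x hx; simp [hvan j x hx, hvan i₀ x hx])
      (by simp [hdeg i i₀])
    rw [Cfsg.Agent.Helper15.indFun_sub, Cfsg.Agent.Helper15.indFun_sub] at h1
    show classInner (indFun _ (χ i) - indFun _ (χ i₀)) (indFun _ (χ j) - indFun _ (χ i₀)) = _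
    rw [h1, Cfsg.Agent.Helper4.classInner_sub_left, Cfsg.Agent.Helper4.classInner_sub_right,
      Cfsg.Agent.Helper4.classInner_sub_right]
    have key : ∀ a b : Fin n, classInner (χ a) (χ b) = if a = b then 1 else 0 := by
      intro a b
      have := Cfsg.Agent.Helper79.classInner_irr
        (⟨χ a, hirr a⟩ : IrrCharacter (Subgroup.normalizer S)) ⟨χ b, hirr b⟩
      rw [this]
      by_cases hab : a = b
      · subst hab; simp
      · rw [if_neg hab, if_neg]
        intro h
        exact hab (hinj (congrArg Subtype.val h))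
    rw [key, key, key, key, if_neg hi, if_neg (Ne.symm hj), if_pos rfl]
    split_ifs <;> norm_num
  obtain ⟨ε, hε, μ, hμirr, hμinj, hμ⟩ := Cfsg.Agent.S0198.result n i₀ τ h0 hgen hone hgram
  refine ⟨ε, hε, μ, hμirr, hμinj, ?_⟩
  intro i j
  have hi := hμ i
  have hj := hμ j
  have e : indFun (Subgroup.normalizer S) (χ i) - indFun (Subgroup.normalizer S) (χ j) = τ i - τ j := by
    simp only [τ]; abel
  rw [e, hi, hj, ← smul_sub]
  congr 1
  abel

end Cfsg.Agent.S0170
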