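import Cfsg.Statements.S0851
import Cfsg.Agent.Helper75.TIFNAbelian
import Cfsg.Agent.S0170

set_option autoImplicit false
open Cfsg

namespace Cfsg.Agent.S0851

/-- Let K be a subgroup of the finite group G that meets each conjugate by an element outside its normalizer N trivially, is properly contained in N, and contains the centralizer of each of its non-identity elements (a T.I. subgroup with Frobenius normalizer). Suppose K is abelian, let e be the index of K in N, and call an irreducible character of N relevant when it takes at some element of K a value different from its degree. Then either there is exactly one relevant character and K is an elementary abelian p-group of order e + 1 for some prime p, or there are a sign ε and an injective map f from the relevant characters to the irreducible characters of G such that inducing χ - ξ to G gives ε (f χ - f ξ) for all relevant χ and ξ. -/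
theorem result {G : Type*} [Group G] [Fintype G] (K : Subgroup G) (hTI : ∀ g : G, g ∉ Subgroup.normalizer (K : Set G) → ∀ k ∈ K, g * k * g⁻¹ ∈ K → k = 1) (hlt : K < Subgroup.normalizer (K : Set G)) (hC : ∀ k ∈ K, k ≠ 1 → Subgroup.centralizer ({k} : Set G) ≤ K) (hab : ∀ a ∈ K, ∀ b ∈ K, a * b = b * a) : (Nat.card {χ : Cfsg.IrrCharacter (Subgroup.normalizer (K : Set G)) // ∃ k : Subgroup.normalizer (K : Set G), (k : G) ∈ K ∧ (χ : ↥(Subgroup.normalizer (K : Set G)) → ℂ) k ≠ (χ : ↥(Subgroup.normalizer (K : Set G)) → ℂ) 1} = 1 ∧ ∃ p : ℕ, p.Prime ∧ Cfsg.IsElementaryAbelian p K ∧ Nat.card K = (K.subgroupOf (Subgroup.normalizer (K : Set G))).index + 1) ∨ ∃ (ε : ℂ) (f : {χ : Cfsg.IrrCharacter (Subgroup.normalizer (K : Set G)) // ∃ k : Subgroup.normalizer (K : Set G), (k : G) ∈ K ∧ (χ : ↥(Subgroup.normalizer (K : Set G)) → ℂ) k ≠ (χ : ↥(Subgroup.normalizer (K : Set G)) → ℂ) 1} → Cfsg.IrrCharacter G), (ε = 1 ∨ ε = -1) ∧ Function.Injective f ∧ ∀ χ ξ, Cfsg.indFun (Subgroup.normalizer (K : Set G)) ((χ.1 : ↥(Subgroup.normalizer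 (K : Set G)) → ℂ) - (ξ.1 : ↥(Subgroup.normalizer (K : Set G)) → ℂ)) = ε • ((f χ : G → ℂ) - (f ξ : G → ℂ)) := by
  classical
  let _ : Fintype ↥(Subgroup.normalizer (K : Set G)) := Fintype.ofFinite _
  let _ := Cfsg.Agent.Helper74.irrFintype ↥(Subgroup.normalizer (K : Set G))
  have hle : K ≤ Subgroup.normalizer (K : Set G) := Subgroup.le_normalizer
  rcases Nat.lt_or_ge (Nat.card {χ : Cfsg.IrrCharacter (Subgroup.normalizer (K : Set G)) //
      ∃ k : Subgroup.normalizer (K : Set G), (k : G) ∈ K ∧
        (χ : ↥(Subgroup.normalizer (K : Set G)) → ℂ) k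
          ≠ (χ : ↥(Subgroup.normalizer (K : Set G)) → ℂ) 1}) 2 with hlt2 | hge2
  · rcases Nat.lt_or_ge (Nat.card {χ : Cfsg.IrrCharacter (Subgroup.normalizer (K : Set G)) //
      ∃ k : Subgroup.normalizer (K : Set G), (k : G) ∈ K ∧
        (χ : ↥(Subgroup.normalizer (K : Set G)) → ℂ) k
          ≠ (χ : ↥(Subgroup.normalizer (K : Set G)) → ℂ) 1}) 1 with hlt1 | hge1
    · right
      have h0 : Nat.card {χ : Cfsg.IrrCharacter (Subgroup.normalizer (K : Set G)) //
          ∃ k : Subgroup.normalizer (K : Set G), (k : G) ∈ K ∧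
            (χ : ↥(Subgroup.normalizer (K : Set G)) → ℂ) k
              ≠ (χ : ↥(Subgroup.normalizer (K : Set G)) → ℂ) 1} = 0 := by omega
      have hem : IsEmpty {χ : Cfsg.IrrCharacter (Subgroup.normalizer (K : Set G)) //
          ∃ k : Subgroup.normalizer (K : Set G), (k : G) ∈ K ∧
            (χ : ↥(Subgroup.normalizer (K : Set G)) → ℂ) k
              ≠ (χ : ↥(Subgroup.normalizer (K : Set G)) → ℂ) 1} := by
        rcases Nat.card_eq_zero.mp h0 with h | h
        · exact h
        · exact absurd h (not_infinite_iff_finite.mpr inferInstance)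
      exact ⟨1, fun r => isEmptyElim r, Or.inl rfl, fun r => isEmptyElim r,
        fun r => isEmptyElim r⟩
    · left
      have h1 : Nat.card {χ : Cfsg.IrrCharacter (Subgroup.normalizer (K : Set G)) //
          ∃ k : Subgroup.normalizer (K : Set G), (k : G) ∈ K ∧
            (χ : ↥(Subgroup.normalizer (K : Set G)) → ℂ) k
              ≠ (χ : ↥(Subgroup.normalizer (K : Set G)) → ℂ) 1} = 1 := by omega
      exact ⟨h1, Helper75.tf_abelian_one hC hab h1⟩
  · right
    let e := Finite.equivFin {χ : Cfsg.IrrCharacter (Subgroup.normalizer (K : Set G)) //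
      ∃ k : Subgroup.normalizer (K : Set G), (k : G) ∈ K ∧
        (χ : ↥(Subgroup.normalizer (K : Set G)) → ℂ) k
          ≠ (χ : ↥(Subgroup.normalizer (K : Set G)) → ℂ) 1}
    let χf : Fin _ → (↥(Subgroup.normalizer (K : Set G)) → ℂ) := fun i => ((e.symm i).1 : _ → ℂ)
    have hmem : ∀ i, χf i ∈ Helper75.tfS K := fun i => ⟨(e.symm i).1.2, (e.symm i).2⟩
    obtain ⟨ε, hε, θ, hθirr, hθinj, hθ⟩ := Cfsg.Agent.S0170.result (K : Set G) hle hTI _ hge2 χf
      (fun i => (e.symm i).1.2)
      (fun i j h => e.symm.injective (Subtype.ext (Subtype.ext h)))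
      (fun i x hx => Helper75.tf_vanish hC (hmem i) x hx)
      (fun i j => by
        rw [Helper75.tf_rel_degree hC hab (hmem i), Helper75.tf_rel_degree hC hab (hmem j)])
    refine ⟨ε, fun r => ⟨θ (e r), hθirr (e r)⟩, hε, ?_, ?_⟩
    · intro r s h
      have h' : θ (e r) = θ (e s) := congrArg Subtype.val h
      exact e.injective (hθinj h')
    · intro χ ξ
      have h := hθ (e χ) (e ξ)
      simp only [χf, Equiv.symm_apply_apply] at h
      rw [Cfsg.Agent.Helper15.indFun_sub]
      exact h

end Cfsg.Agent.S0851
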