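import Mathlib
import Cfsg.Statements.S0840
import Cfsg.Agent.Helper79.ClassMult

set_option autoImplicit false
open Cfsg
open scoped ComplexConjugate

namespace Cfsg.Agent.S0840

open Cfsg.Agent.Helper79

section
variable {G : Type*} [Group G] [Fintype G] [DecidableEq G]

/-- the number of `g` with `g a g⁻¹ = x` does not depend on `x` in the class of `a` -/
theorem card_fiber_eq (a x : G) (h : IsConj a x) :
    (Finset.univ.filter (fun g : G => g * a * g⁻¹ = x)).card =
      (Finset.univ.filter (fun g : G => g * a * g⁻¹ = a)).card := by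
  obtain ⟨g₀, hg₀⟩ := isConj_iff.mp h
  apply Finset.card_bij (fun g _ => g₀⁻¹ * g)
  · intro g hg
    simp only [Finset.mem_filter, Finset.mem_univ, true_and] at hg ⊢
    rw [← hg₀] at hg
    have : g₀⁻¹ * g * a * (g₀⁻¹ * g)⁻¹ = g₀⁻¹ * (g * a * g⁻¹) * g₀ := by group
    rw [this, hg]; group
  · intro g₁ _ g₂ _ h12
    exact mul_left_cancel h12
  · intro g hg
    simp only [Finset.mem_filter, Finset.mem_univ, true_and] at hg
    refine ⟨g₀ * g, ?_, by group⟩
    simp only [Finset.mem_filter, Finset.mem_univ, true_and]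
    have : g₀ * g * a * (g₀ * g)⁻¹ = g₀ * (g * a * g⁻¹) * g₀⁻¹ := by group
    rw [this, hg, hg₀]

/-- `|G| = |class of a| * #{g | g a g⁻¹ = a}` -/
theorem card_eq_class_mul_fiber (a : G) :
    Fintype.card G = (Finset.univ.filter (fun x : G => IsConj a x)).card *
      (Finset.univ.filter (fun g : G => g * a * g⁻¹ = a)).card := by
  have h := Finset.card_eq_sum_card_fiberwise (s := (Finset.univ : Finset G))
    (t := Finset.univ.filter (fun x : G => IsConj a x)) (f := fun g => g * a * g⁻¹)
    (by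
      intro g _
      simp only [Finset.coe_filter, Finset.mem_univ, true_and, Set.mem_ofPred_eq]
      exact isConj_iff.mpr ⟨g, rfl⟩)
  rw [Finset.card_univ] at h
  rw [h]
  rw [Finset.sum_congr rfl (fun x hx => card_fiber_eq a x (by simpa using hx))]
  rw [Finset.sum_const, smul_eq_mul]

/-- counting pairs of conjugating elements against pairs of conjugates -/
theorem card_pairs (a b c : G) :
    (Finset.univ.filter (fun ab : G × G => ab.1 * a * ab.1⁻¹ * (ab.2 * b * ab.2⁻¹) = c)).card =
      (Finset.univ.filter (fun p : G × G => IsConj a p.1 ∧ IsConj b p.2 ∧ p.1 * p.2 = c)).card *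
        ((Finset.univ.filter (fun g : G => g * a * g⁻¹ = a)).card *
          (Finset.univ.filter (fun g : G => g * b * g⁻¹ = b)).card) := by
  have h := Finset.card_eq_sum_card_fiberwise
    (s := Finset.univ.filter (fun ab : G × G => ab.1 * a * ab.1⁻¹ * (ab.2 * b * ab.2⁻¹) = c))
    (t := Finset.univ.filter (fun p : G × G => IsConj a p.1 ∧ IsConj b p.2 ∧ p.1 * p.2 = c))
    (f := fun ab => (ab.1 * a * ab.1⁻¹, ab.2 * b * ab.2⁻¹))
    (by
      intro ab hab
      simp only [Finset.coe_filter, Finset.mem_univ, true_and, Set.mem_ofPred_eq] at hab ⊢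
      exact ⟨isConj_iff.mpr ⟨ab.1, rfl⟩, isConj_iff.mpr ⟨ab.2, rfl⟩, hab⟩)
  rw [h]
  have hfib : ∀ p ∈ Finset.univ.filter (fun p : G × G => IsConj a p.1 ∧ IsConj b p.2 ∧ p.1 * p.2 = c),
      ((Finset.univ.filter (fun ab : G × G => ab.1 * a * ab.1⁻¹ * (ab.2 * b * ab.2⁻¹) = c)).filter
        (fun ab => (ab.1 * a * ab.1⁻¹, ab.2 * b * ab.2⁻¹) = p)).card =
      (Finset.univ.filter (fun g : G => g * a * g⁻¹ = a)).card *
          (Finset.univ.filter (fun g : G => g * b * g⁻¹ = b)).card := by
    rintro ⟨x, y⟩ hp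
    simp only [Finset.mem_filter, Finset.mem_univ, true_and] at hp
    obtain ⟨hx, hy, hxy⟩ := hp
    rw [← card_fiber_eq a x hx, ← card_fiber_eq b y hy, ← Finset.card_product]
    congr 1
    ext ⟨g, k⟩
    simp only [Finset.mem_filter, Finset.mem_univ, true_and, Prod.mk.injEq, Finset.mem_product]
    constructor
    · rintro ⟨_, h1, h2⟩; exact ⟨h1, h2⟩
    · rintro ⟨h1, h2⟩; exact ⟨by rw [h1, h2]; exact hxy, h1, h2⟩
  rw [Finset.sum_congr rfl hfib, Finset.sum_const, smul_eq_mul]

end

theorem result {G : Type*} [Group G] [Finite G] (a b c : G) : (Nat.card {p : G × G // IsConj a p.1 ∧ IsConj b p.2 ∧ p.1 * p.2 = c} : ℂ) = (Nat.card {x : G // IsConj a x} : ℂ) * (Nat.card {x : G // IsConj b x} : ℂ) / (Nat.card G : ℂ) * ∑ᶠ χ : Cfsg.IrrCharacter G, (χ : G → ℂ) a * (χ : G → ℂ) b * conj ((χ : G → ℂ) c) / (χ : G → ℂ) 1 := by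
  classical
  have := Fintype.ofFinite G
  have : Finite (IrrCharacter G) := irr_finite'
  have := Fintype.ofFinite (IrrCharacter G)
  rw [finsum_irr_eq_sum]
  have hmain := card_conj_mul_conj_eq a b c
  have hpairs := card_pairs a b c
  rw [hpairs] at hmain
  have hA := card_eq_class_mul_fiber a
  have hB := card_eq_class_mul_fiber b
  have hT : Nat.card {p : G × G // IsConj a p.1 ∧ IsConj b p.2 ∧ p.1 * p.2 = c} =
      (Finset.univ.filter (fun p : G × G => IsConj a p.1 ∧ IsConj b p.2 ∧ p.1 * p.2 = c)).card := by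
    rw [Nat.card_eq_fintype_card, Fintype.card_subtype]
  have hCa : Nat.card {x : G // IsConj a x} = (Finset.univ.filter (fun x : G => IsConj a x)).card := by
    rw [Nat.card_eq_fintype_card, Fintype.card_subtype]
  have hCb : Nat.card {x : G // IsConj b x} = (Finset.univ.filter (fun x : G => IsConj b x)).card := by
    rw [Nat.card_eq_fintype_card, Fintype.card_subtype]
  rw [hT, hCa, hCb, Nat.card_eq_fintype_card]
  rw [Nat.card_eq_fintype_card] at hmain
  set SS := ∑ χ : IrrCharacter G, (χ : G → ℂ) a * (χ : G → ℂ) b * conj ((χ : G → ℂ) c) / (χ : G → ℂ) 1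
  set T := (Finset.univ.filter (fun p : G × G => IsConj a p.1 ∧ IsConj b p.2 ∧ p.1 * p.2 = c)).card
  set ca := (Finset.univ.filter (fun x : G => IsConj a x)).card
  set cb := (Finset.univ.filter (fun x : G => IsConj b x)).card
  set na := (Finset.univ.filter (fun g : G => g * a * g⁻¹ = a)).card
  set nb := (Finset.univ.filter (fun g : G => g * b * g⁻¹ = b)).card
  have hG0 : (Fintype.card G : ℂ) ≠ 0 := by
    have : Fintype.card G ≠ 0 := Fintype.card_ne_zero
    exact_mod_cast this
  have hA' : (Fintype.card G : ℂ) = (ca : ℂ) * (na : ℂ) := by exact_mod_cast hA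
  have hB' : (Fintype.card G : ℂ) = (cb : ℂ) * (nb : ℂ) := by exact_mod_cast hB
  have hna : (na : ℂ) ≠ 0 := by
    intro h; rw [h, mul_zero] at hA'; exact hG0 hA'
  have hnb : (nb : ℂ) ≠ 0 := by
    intro h; rw [h, mul_zero] at hB'; exact hG0 hB'
  push_cast at hmain
  have hca : (ca : ℂ) = (Fintype.card G : ℂ) / na := by
    rw [hA']; field_simp
  have hcb : (cb : ℂ) = (Fintype.card G : ℂ) / nb := by
    rw [hB']; field_simp
  rw [hca, hcb]
  have : (T : ℂ) = (Fintype.card G : ℂ) * SS / ((na : ℂ) * nb) := by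
    rw [← hmain]; field_simp
  rw [this]
  field_simp

end Cfsg.Agent.S0840
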