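import Mathlib
import Cfsg.Statements.S1019

set_option autoImplicit false
open Cfsg

namespace Cfsg.Agent.S1019

theorem conj_mul_of_comm {G : Type*} [Group G] {x c : G} (hc : c * x = x * c) (b : G) :
    (c * b)⁻¹ * x * (c * b) = b⁻¹ * x * b := by
  simp only [mul_inv_rev, mul_assoc]
  congr 1
  rw [← mul_assoc x, ← hc, mul_assoc, inv_mul_cancel_left]

theorem card_preimage_conj {G : Type*} [Group G] [Finite G] (x : G) (B : Set G) :
    Nat.card {g : G // g⁻¹ * x * g ∈ B} =
      Nat.card (Subgroup.centralizer ({x} : Set G)) * Nat.card {y : G // IsConj x y ∧ y ∈ B} := by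
  classical
  have hch : ∀ y : {y : G // IsConj x y ∧ y ∈ B}, ∃ a : G, a⁻¹ * x * a = y.1 := by
    rintro ⟨y, hy, -⟩
    obtain ⟨c, hc⟩ := isConj_iff.mp hy
    exact ⟨c⁻¹, by simpa using hc⟩
  choose a ha using hch
  rw [← Nat.card_prod]
  apply Nat.card_congr
  have hconj : ∀ g : G, IsConj x (g⁻¹ * x * g) := fun g =>
    isConj_iff.mpr ⟨g⁻¹, by simp⟩
  refine
    { toFun := fun g =>
        (⟨g.1 * (a ⟨g.1⁻¹ * x * g.1, hconj g.1, g.2⟩)⁻¹, ?_⟩, ⟨g.1⁻¹ * x * g.1, hconj g.1, g.2⟩)
      invFun := fun cy => ⟨cy.1.1 * a cy.2, ?_⟩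
      left_inv := ?_
      right_inv := ?_ }
  · -- membership in centralizer
    rw [Subgroup.mem_centralizer_singleton_iff]
    have h := ha ⟨g.1⁻¹ * x * g.1, hconj g.1, g.2⟩
    simp only at h
    set b := a ⟨g.1⁻¹ * x * g.1, hconj g.1, g.2⟩ with hb
    -- b⁻¹ x b = g⁻¹ x g  →  (g b⁻¹) x = x (g b⁻¹)
    have : x * (g.1 * b⁻¹) = g.1 * b⁻¹ * x := by
      have h2 : g.1 * (b⁻¹ * x * b) * b⁻¹ = g.1 * (g.1⁻¹ * x * g.1) * b⁻¹ := by rw [h]
      simp only [mul_assoc, mul_inv_cancel_left, mul_inv_cancel, mul_one] at h2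
      simpa [mul_assoc] using h2.symm
    exact this.symm
  · -- preimage membership
    have hc := Subgroup.mem_centralizer_singleton_iff.mp cy.1.2
    have h := ha cy.2
    have : (cy.1.1 * a cy.2)⁻¹ * x * (cy.1.1 * a cy.2) = cy.2.1 :=
      (conj_mul_of_comm hc _).trans h
    rw [this]
    exact cy.2.2.2
  · intro g
    apply Subtype.ext
    simp
  · rintro ⟨⟨c, hc⟩, ⟨y, hy1, hy2⟩⟩
    have hc' := Subgroup.mem_centralizer_singleton_iff.mp hc
    have h := ha ⟨y, hy1, hy2⟩
    simp only at h
    have key : (c * a ⟨y, hy1, hy2⟩)⁻¹ * x * (c * a ⟨y, hy1, hy2⟩) = y :=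
      (conj_mul_of_comm hc' _).trans h
    have key2 : (⟨(c * a ⟨y, hy1, hy2⟩)⁻¹ * x * (c * a ⟨y, hy1, hy2⟩), hconj _,
        by rw [key]; exact hy2⟩ : {y : G // IsConj x y ∧ y ∈ B}) = ⟨y, hy1, hy2⟩ := Subtype.ext key
    ext
    · simp only
      rw [key2]
      simp
    · exact key

/-- Let H be a subgroup of a finite group G and x an element of H. In the action of G on the left cosets of H, the number of cosets fixed by x, multiplied by the size of the conjugacy class of x, equals the index of H multiplied by the number of conjugates of x that lie in H. -/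
theorem result {G : Type*} [Group G] [Finite G] (H : Subgroup G) (x : G) (hx : x ∈ H) : Nat.card (MulAction.fixedBy (G ⧸ H) x) * Nat.card {g : G // IsConj x g} = H.index * Nat.card {g : G // IsConj x g ∧ g ∈ H} := by
  have ha : Nat.card {g : G // g⁻¹ * x * g ∈ (H : Set G)} =
      Nat.card H * Nat.card (MulAction.fixedBy (G ⧸ H) x) := by
    rw [← QuotientGroup.card_preimage_mk H (MulAction.fixedBy (G ⧸ H) x)]
    apply Nat.card_congr
    apply Equiv.subtypeEquivRight
    intro g
    rw [Set.mem_preimage, MulAction.mem_fixedBy, MulAction.Quotient.smul_mk, QuotientGroup.eq]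
    simp only [smul_eq_mul, mul_inv_rev, SetLike.mem_coe]
    constructor
    · intro h
      have := H.inv_mem h
      simpa [mul_assoc] using this
    · intro h
      have := H.inv_mem h
      simpa [mul_assoc] using this
  have hb := card_preimage_conj x (H : Set G)
  have hc : Nat.card G = Nat.card (Subgroup.centralizer ({x} : Set G)) * Nat.card {g : G // IsConj x g} := by
    have h := card_preimage_conj x (Set.univ : Set G)
    have e1 : Nat.card {g : G // g⁻¹ * x * g ∈ (Set.univ : Set G)} = Nat.card G :=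
      Nat.card_congr (Equiv.subtypeUnivEquiv (fun g => Set.mem_univ _))
    have e2 : Nat.card {y : G // IsConj x y ∧ y ∈ (Set.univ : Set G)} = Nat.card {g : G // IsConj x g} :=
      Nat.card_congr (Equiv.subtypeEquivRight (fun g => by simp))
    rw [e1, e2] at h
    exact h
  have hd : Nat.card H * H.index = Nat.card G := H.card_mul_index
  simp only [SetLike.mem_coe] at ha hb
  have hpos : 0 < Nat.card H * Nat.card (Subgroup.centralizer ({x} : Set G)) :=
    Nat.mul_pos Nat.card_pos Nat.card_pos
  apply Nat.eq_of_mul_eq_mul_left hpos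
  calc Nat.card H * Nat.card (Subgroup.centralizer ({x} : Set G)) *
        (Nat.card (MulAction.fixedBy (G ⧸ H) x) * Nat.card {g : G // IsConj x g})
      = (Nat.card H * Nat.card (MulAction.fixedBy (G ⧸ H) x)) *
        (Nat.card (Subgroup.centralizer ({x} : Set G)) * Nat.card {g : G // IsConj x g}) := by ring
    _ = (Nat.card (Subgroup.centralizer ({x} : Set G)) * Nat.card {y : G // IsConj x y ∧ y ∈ H}) *
        (Nat.card H * H.index) := by rw [← ha, hb, ← hc, hd]
    _ = _ := by ring

end Cfsg.Agent.S1019
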