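import Cfsg.Statements.S0206
import Mathlib
import Cfsg.Agent.Helper4.Dihedral

set_option autoImplicit false
open Cfsg

namespace Cfsg.Agent.S0206

open Cfsg.Agent.Helper4
section
variable {G : Type*} [Group G]

/-- power of `c` indexed by `ZMod (orderOf c)` -/
noncomputable def zp (c : G) (i : ZMod (orderOf c)) : G := c ^ (ZMod.cast i : ℤ)

theorem zp_eq (c : G) (k : ℤ) : zp c (k : ZMod (orderOf c)) = c ^ k := by
  unfold zp
  rw [zpow_eq_zpow_iff_modEq, ← ZMod.intCast_eq_intCast_iff]
  simp

theorem zp_spec (c : G) (i : ZMod (orderOf c)) : ∃ k : ℤ, (k : ZMod (orderOf c)) = i ∧ zp c i = c ^ k :=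
  ⟨ZMod.cast i, by simp, rfl⟩

theorem zp_add (c : G) (i j : ZMod (orderOf c)) : zp c (i + j) = zp c i * zp c j := by
  obtain ⟨a, rfl, ha⟩ := zp_spec c i
  obtain ⟨b, rfl, hb⟩ := zp_spec c j
  rw [ha, hb, ← zpow_add, ← zp_eq]
  push_cast
  rfl

theorem zp_sub (c : G) (i j : ZMod (orderOf c)) : zp c (j - i) = (zp c i)⁻¹ * zp c j := by
  obtain ⟨a, rfl, ha⟩ := zp_spec c i
  obtain ⟨b, rfl, hb⟩ := zp_spec c j
  rw [ha, hb, ← zpow_neg, ← zpow_add, ← zp_eq]
  push_cast
  ring_nf

theorem zp_zero (c : G) : zp c 0 = 1 := by
  have := zp_eq c 0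
  simpa using this

theorem zp_eq_one (c : G) (i : ZMod (orderOf c)) (h : zp c i = 1) : i = 0 := by
  obtain ⟨a, rfl, ha⟩ := zp_spec c i
  rw [ha] at h
  have := orderOf_dvd_iff_zpow_eq_one.mpr h
  exact (ZMod.intCast_zmod_eq_zero_iff_dvd a (orderOf c)).mpr this

/-- the map from the dihedral group -/
noncomputable def dihMap (x y : G) : DihedralGroup (orderOf (x * y)) → G
  | DihedralGroup.r i => zp (x * y) i
  | DihedralGroup.sr i => x * zp (x * y) i

theorem zp_comm_x {x y : G} (hx : x * x = 1) (hy : y * y = 1) (i : ZMod (orderOf (x * y))) :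
    zp (x * y) i * x = x * (zp (x * y) i)⁻¹ := by
  obtain ⟨a, rfl, ha⟩ := zp_spec (x * y) i
  rw [ha, invol_mul_zpow hx hy, zpow_neg]

noncomputable def dihHom {x y : G} (hx : x * x = 1) (hy : y * y = 1) :
    DihedralGroup (orderOf (x * y)) →* G where
  toFun := dihMap x y
  map_one' := by
    rw [DihedralGroup.one_def]
    exact zp_zero _
  map_mul' a b := by
    cases a with
    | r i =>
      cases b with
      | r j => exact zp_add _ i j
      | sr j =>
        show x * zp (x * y) (j - i) = zp (x * y) i * (x * zp (x * y) j)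
        rw [zp_sub, ← mul_assoc, ← mul_assoc, zp_comm_x hx hy]
    | sr i =>
      cases b with
      | r j =>
        show x * zp (x * y) (i + j) = x * zp (x * y) i * zp (x * y) j
        rw [zp_add, mul_assoc]
      | sr j =>
        show zp (x * y) (j - i) = x * zp (x * y) i * (x * zp (x * y) j)
        rw [zp_sub]
        calc (zp (x * y) i)⁻¹ * zp (x * y) j
            = (x * x) * (zp (x * y) i)⁻¹ * zp (x * y) j := by rw [hx, one_mul]
          _ = x * (x * (zp (x * y) i)⁻¹) * zp (x * y) j := by group
          _ = x * (zp (x * y) i * x) * zp (x * y) j := by rw [zp_comm_x hx hy]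
          _ = x * zp (x * y) i * (x * zp (x * y) j) := by group

end

/-- Two distinct involutions x, y of a finite group generate a subgroup isomorphic to the dihedral group of order 2·|xy|. -/
theorem result {G : Type*} [Group G] [Finite G] (x y : G) (hx : orderOf x = 2) (hy : orderOf y = 2) (hxy : x ≠ y) : Nonempty (↥(Subgroup.closure ({x, y} : Set G)) ≃* DihedralGroup (orderOf (x * y))) := by
  have hx2 := sq_one_of_orderOf_two hx
  have hy2 := sq_one_of_orderOf_two hy
  have hx1 := ne_one_of_orderOf_two hx
  have hy1 := ne_one_of_orderOf_two hy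
  let f := dihHom hx2 hy2
  have hfr : ∀ i, f (DihedralGroup.r i) = zp (x * y) i := fun _ => rfl
  have hfs : ∀ i, f (DihedralGroup.sr i) = x * zp (x * y) i := fun _ => rfl
  have hinj : Function.Injective f := by
    rw [injective_iff_map_eq_one]
    intro a ha
    cases a with
    | r i =>
      rw [hfr] at ha
      rw [zp_eq_one _ i ha, DihedralGroup.one_def]
    | sr i =>
      exfalso
      rw [hfs] at ha
      obtain ⟨k, -, hk⟩ := zp_spec (x * y) i
      rw [hk] at ha
      -- x = c^(-k)
      have hxk : x = (x * y) ^ (-k) := by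
        rw [zpow_neg]
        exact eq_inv_of_mul_eq_one_left ha
      -- x commutes with c, so c = c⁻¹
      have hcomm : x * (x * y) * x⁻¹ = x * y := by
        have : Commute x (x * y) := by
          have h0 : Commute ((x * y) ^ (-k)) (x * y) := (Commute.refl (x * y)).zpow_left (-k)
          rw [← hxk] at h0
          exact h0
        rw [this.eq]; group
      rw [invol_conj_mul hx2 hy2] at hcomm
      -- (xy)⁻¹ = xy means yx = xy
      have h1 : y * x = x * y := by
        rw [mul_inv_rev, inv_eq_self_of_sq_one hx2, inv_eq_self_of_sq_one hy2] at hcomm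
        exact hcomm
      -- c^2 = 1
      have hc2 : (x * y) * (x * y) = 1 := by
        calc (x * y) * (x * y) = x * (y * x) * y := by group
          _ = x * (x * y) * y := by rw [h1]
          _ = (x * x) * (y * y) := by group
          _ = 1 := by rw [hx2, hy2, one_mul]
      -- x = c^(-k) is 1 or c
      have hpow : ∀ m : ℤ, (x * y) ^ m = 1 ∨ (x * y) ^ m = x * y := by
        intro m
        rcases Int.even_or_odd' m with ⟨j, rfl | rfl⟩
        · left
          rw [zpow_mul, zpow_two, hc2, one_zpow]
        · right
          rw [zpow_add, zpow_mul, zpow_two, hc2, one_zpow, one_mul, zpow_one]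
      rcases hpow (-k) with h | h
      · rw [h] at hxk
        exact hx1 hxk
      · rw [h] at hxk
        apply hy1
        have : x * 1 = x * y := by rw [mul_one]; exact hxk
        exact (mul_left_cancel this).symm
  have hrange : f.range = Subgroup.closure ({x, y} : Set G) := by
    apply le_antisymm
    · rintro _ ⟨a, rfl⟩
      cases a with
      | r i =>
        rw [hfr]
        obtain ⟨k, -, hk⟩ := zp_spec (x * y) i
        rw [hk]
        exact zpow_mem_closure_pair x y k
      | sr i =>
        rw [hfs]
        obtain ⟨k, -, hk⟩ := zp_spec (x * y) i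
        rw [hk]
        exact Subgroup.mul_mem _ (Subgroup.subset_closure (by simp)) (zpow_mem_closure_pair x y k)
    · rw [Subgroup.closure_le]
      rintro z (rfl | hz)
      · refine ⟨DihedralGroup.sr 0, ?_⟩
        rw [hfs, zp_zero, mul_one]
      · rw [Set.mem_singleton_iff] at hz
        subst hz
        refine ⟨DihedralGroup.sr 1, ?_⟩
        rw [hfs]
        have := zp_eq (x * z) 1
        simp only [Int.cast_one, zpow_one] at this
        rw [this, ← mul_assoc, hx2, one_mul]
  exact ⟨((MonoidHom.ofInjective hinj).trans (MulEquiv.subgroupCongr hrange)).symm⟩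

end Cfsg.Agent.S0206
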