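import Cfsg.Statements.S0107
import Cfsg.Agent.Helper55.DihComplement
import Cfsg.Agent.Lib.Cores

set_option autoImplicit false
open Cfsg

namespace Cfsg.Agent.S0107

open Cfsg.Agent.Helper55

/-- A finite group with no nontrivial 2-group quotient and dihedral Sylow 2-subgroups of order at least 8 has a single class of involutions. -/
theorem result {G : Type*} [Group G] [Finite G] (T : Sylow 2 G) (n : ℕ) (hn : 2 ≤ n) (hT : Nonempty ((T : Subgroup G) ≃* DihedralGroup (2 ^ n))) (hO : Cfsg.pResidual 2 G = ⊤) (x y : G) (hx : orderOf x = 2) (hy : orderOf y = 2) : ∃ g : G, g * x * g⁻¹ = y := by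
  have hp2 : Fact (Nat.Prime 2) := ⟨Nat.prime_two⟩
  -- no normal subgroup of index 2
  have hno : ¬ ∃ M : Subgroup G, M.Normal ∧ M.index = 2 := by
    rintro ⟨M, hMn, hMi⟩
    have hq : IsPGroup 2 (G ⧸ M) := by
      apply IsPGroup.of_card (n := 1)
      rw [← Subgroup.index_eq_card, hMi, pow_one]
    have hle := Cfsg.Agent.Lib.pResidual_le_of_isPGroup_quotient M hq
    rw [hO, top_le_iff] at hle
    rw [hle, Subgroup.index_top] at hMi
    omega
  obtain ⟨A, hAT, hAc, hinv, hmul⟩ := dihType_of_sylow_dihedral T (2 ^ n) hT _ T.2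
  obtain ⟨g₀, hg₀A, hg₀⟩ := exists_le_zpowers_of_isCyclic hAc
  -- involutions of A coincide
  have huniq : ∀ a ∈ A, ∀ b ∈ A, orderOf a = 2 → orderOf b = 2 → a = b := by
    intro a ha b hb hao hbo
    exact invol_unique_of_mem_zpowers hao hbo (hg₀ a ha) (hg₀ b hb)
  -- every involution of T is conjugate to an involution in A, or no involution lies in A...
  have hintoA : ∀ s ∈ (T : Subgroup G), orderOf s = 2 → s ∉ A → ∃ g : G, g * s * g⁻¹ ∈ A := by
    intro s hsT hso hsA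
    have hrel : A.relIndex (T : Subgroup G) = 2 := by
      rw [Subgroup.relIndex, Subgroup.index_eq_two_iff]
      refine ⟨⟨s, hsT⟩, fun b => ?_⟩
      by_cases hb : (b : G) ∈ A
      · refine Or.inr ⟨Subgroup.mem_subgroupOf.2 hb, ?_⟩
        intro h
        have h' : (b : G) * s ∈ A := Subgroup.mem_subgroupOf.1 h
        apply hsA
        have : s = (b : G)⁻¹ * ((b : G) * s) := by group
        rw [this]
        exact A.mul_mem (A.inv_mem hb) h'
      · refine Or.inl ⟨Subgroup.mem_subgroupOf.2 ?_, fun h => hb (Subgroup.mem_subgroupOf.1 h)⟩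
        exact hmul b b.2 s hsT hb hsA
    rcases Cfsg.Agent.S0111.result T A hAT hrel s hso hsT hsA with ⟨M, hMn, hMi, -⟩ | hg
    · exact absurd ⟨M, hMn, hMi⟩ hno
    · exact hg
  -- every involution of G is conjugate to an involution of T
  have hintoT : ∀ s : G, orderOf s = 2 → ∃ g : G, g * s * g⁻¹ ∈ (T : Subgroup G) := by
    intro s hs
    have hsp : IsPGroup 2 (Subgroup.zpowers s) :=
      IsPGroup.of_card (n := 1) (by rw [Nat.card_zpowers, hs, pow_one])
    obtain ⟨Q, hQ⟩ := hsp.exists_le_sylow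
    obtain ⟨g, hg⟩ := MulAction.exists_smul_eq G Q T
    have hsQ : s ∈ (Q : Subgroup G) := hQ (Subgroup.mem_zpowers s)
    refine ⟨g, ?_⟩
    have h1 : (T : Subgroup G) = (Q : Subgroup G).map (MulAut.conj g).toMonoidHom := by
      rw [← hg]; rfl
    rw [h1]
    exact ⟨s, hsQ, rfl⟩
  -- normal form: every involution is conjugate to an involution of T which lies in A if possible
  have hnf : ∀ s : G, orderOf s = 2 → ∃ g : G, g * s * g⁻¹ ∈ (T : Subgroup G) ∧
      (g * s * g⁻¹ ∈ A ∨ ∀ t ∈ (T : Subgroup G), orderOf t = 2 → t ∉ A) := by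
    intro s hs
    obtain ⟨g, hg⟩ := hintoT s hs
    have hgo : orderOf (g * s * g⁻¹) = 2 := by rw [orderOf_conj_eq]; exact hs
    by_cases hA : g * s * g⁻¹ ∈ A
    · exact ⟨g, hg, Or.inl hA⟩
    · obtain ⟨g', hg'⟩ := hintoA _ hg hgo hA
      refine ⟨g' * g, ?_, Or.inl ?_⟩
      · have : g' * g * s * (g' * g)⁻¹ = g' * (g * s * g⁻¹) * g'⁻¹ := by group
        rw [this]; exact hAT hg'
      · have : g' * g * s * (g' * g)⁻¹ = g' * (g * s * g⁻¹) * g'⁻¹ := by group
        rw [this]; exact hg'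
  obtain ⟨g₁, hg₁T, hg₁⟩ := hnf x hx
  obtain ⟨g₂, hg₂T, hg₂⟩ := hnf y hy
  have ho₁ : orderOf (g₁ * x * g₁⁻¹) = 2 := by rw [orderOf_conj_eq]; exact hx
  have ho₂ : orderOf (g₂ * y * g₂⁻¹) = 2 := by rw [orderOf_conj_eq]; exact hy
  have hA₁ : g₁ * x * g₁⁻¹ ∈ A := by
    rcases hg₁ with h | h
    · exact h
    · rcases hg₂ with h' | h'
      · exact absurd (hAT h') (fun _ => h _ (hAT h') ho₂ h')
      · exact absurd hg₁T (fun _ => by
          obtain ⟨g', hg'⟩ := hintoA _ hg₁T ho₁ (h _ hg₁T ho₁)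
          have ho' : orderOf (g' * (g₁ * x * g₁⁻¹) * g'⁻¹) = 2 := by rw [orderOf_conj_eq]; exact ho₁
          exact h _ (hAT hg') ho' hg')
  have hA₂ : g₂ * y * g₂⁻¹ ∈ A := by
    rcases hg₂ with h | h
    · exact h
    · exact absurd hA₁ (h _ hg₁T ho₁)
  have heq := huniq _ hA₁ _ hA₂ ho₁ ho₂
  refine ⟨g₂⁻¹ * g₁, ?_⟩
  have : g₂⁻¹ * g₁ * x * (g₂⁻¹ * g₁)⁻¹ = g₂⁻¹ * (g₁ * x * g₁⁻¹) * g₂ := by group
  rw [this, heq]; group

end Cfsg.Agent.S0107
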