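import Cfsg.Statements.S4303
import Cfsg.Agent.Helper71.SylowCountCoprime

set_option autoImplicit false
universe u
open Cfsg

namespace Cfsg.Agent.S4303

open Subgroup Cfsg.Agent.Helper71

/-- an admissible factor -/
def GoodFactor (p m : ℕ) : Prop :=
  (IsPrimePow m ∧ m % p = 1) ∨
    ∃ (S : Type u) (_ : Group S) (_ : Finite S), IsSimpleGroup S ∧ m = Nat.card (Sylow p S)

/-- a product of admissible factors -/
def Factorable (p n : ℕ) : Prop :=
  ∃ l : List ℕ, l.prod = n ∧ ∀ m ∈ l, GoodFactor.{u} p m

theorem factorable_one (p : ℕ) : Factorable.{u} p 1 := ⟨[], rfl, by simp⟩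

theorem Factorable.mul {p a b : ℕ} (ha : Factorable.{u} p a) (hb : Factorable.{u} p b) :
    Factorable.{u} p (a * b) := by
  obtain ⟨l1, h1, h1'⟩ := ha
  obtain ⟨l2, h2, h2'⟩ := hb
  refine ⟨l1 ++ l2, by rw [List.prod_append, h1, h2], ?_⟩
  intro m hm
  rcases List.mem_append.mp hm with h | h
  · exact h1' m h
  · exact h2' m h

theorem factorable_of_pow_mod {p n : ℕ} (hn : n ≠ 0)
    (h : ∀ q, q.Prime → q ^ n.factorization q % p = 1) : Factorable.{u} p n := by
  refine ⟨n.primeFactors.toList.map (fun q => q ^ n.factorization q), ?_, ?_⟩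
  · rw [Finset.prod_map_toList]
    have := Nat.factorization_prod_pow_eq_self hn
    rw [Finsupp.prod, Nat.support_factorization] at this
    exact this
  · intro m hm
    rw [List.mem_map] at hm
    obtain ⟨q, hq, rfl⟩ := hm
    rw [Finset.mem_toList] at hq
    have hqp : q.Prime := Nat.prime_of_mem_primeFactors hq
    left
    refine ⟨?_, h q hqp⟩
    have hpos : n.factorization q ≠ 0 := by
      have := (Nat.Prime.factorization_pos_of_dvd hqp hn (Nat.dvd_of_mem_primeFactors hq))
      omega
    exact hqp.isPrimePow.pow hpos

theorem main (p : ℕ) [Fact p.Prime] : ∀ (n : ℕ) (G : Type u) [Group G] [Finite G],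
    Nat.card G = n → Factorable.{u} p (Nat.card (Sylow p G)) := by
  intro n
  induction n using Nat.strong_induction_on with
  | _ n IH =>
    intro G _ _ hGn
    by_cases hsimple : IsSimpleGroup G
    · exact ⟨[Nat.card (Sylow p G)], by simp, fun m hm => by
        rw [List.mem_singleton] at hm
        exact Or.inr ⟨G, inferInstance, inferInstance, hsimple, hm⟩⟩
    by_cases htriv : Subsingleton G
    · have : Nat.card (Sylow p G) = 1 := by
        obtain ⟨P⟩ : Nonempty (Sylow p G) := inferInstance
        have h1 : Nat.card (Sylow p G) ∣ (P : Subgroup G).index := Sylow.card_dvd_index P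
        have h2 : (P : Subgroup G).index ∣ Nat.card G := Subgroup.index_dvd_card _
        have h3 : Nat.card G = 1 := Nat.card_eq_one_iff_unique.mpr ⟨htriv, ⟨1⟩⟩
        rw [h3] at h2
        exact Nat.dvd_one.mp (h1.trans h2)
      rw [this]; exact factorable_one p
    -- a proper nontrivial normal subgroup
    have hnt : Nontrivial G := not_subsingleton_iff_nontrivial.mp htriv
    obtain ⟨N, hNn, hNbot, hNtop⟩ : ∃ N : Subgroup G, N.Normal ∧ N ≠ ⊥ ∧ N ≠ ⊤ := by
      by_contra hcon
      push_neg at hcon
      apply hsimple
      exact { exists_pair_ne := hnt.exists_pair_ne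
              eq_bot_or_eq_top_of_normal := fun H hH => by
                by_cases hb : H = ⊥
                · exact Or.inl hb
                · exact Or.inr (hcon H hH hb) }
    haveI := hNn
    have hp : p.Prime := Fact.out
    have hNlt : Nat.card N < Nat.card G := by
      by_contra hcon
      exact hNtop (Subgroup.eq_top_of_le_card N (not_lt.mp hcon))
    by_cases hpN : p ∣ Nat.card N
    · -- `p ∣ |N|`
      obtain ⟨R'⟩ : Nonempty (Sylow p N) := inferInstance
      have hformula := card_sylow_eq_normal_mul N R'
      set R : Subgroup G := (R' : Subgroup N).map N.subtype with hR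
      set M := normalizer (R : Set G) with hM
      haveI hRn : (R.subgroupOf M).Normal := normal_in_normalizer
      have hRp : IsPGroup p (R.subgroupOf M) :=
        (R'.2.map _).comap_of_injective _ (subtype_injective M)
      have h2 := card_sylow_quotient_of_isPGroup (R.subgroupOf M) hRp
      rw [hformula, ← h2]
      refine Factorable.mul (IH _ (hGn ▸ hNlt) ↥N rfl) (IH _ ?_ (↥M ⧸ R.subgroupOf M) rfl)
      -- `|M/R| < |G|`
      have h3 : Nat.card M = Nat.card (↥M ⧸ R.subgroupOf M) * Nat.card (R.subgroupOf M) :=
        Subgroup.card_eq_card_quotient_mul_card_subgroup _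
      have h4 : Nat.card (R.subgroupOf M) = Nat.card R := by
        rw [card_subgroupOf_eq_card_inf, inf_eq_left.mpr le_normalizer]
      have h5 : Nat.card R = p ^ (Nat.card N).factorization p := by
        rw [← R'.card_eq_multiplicity]
        exact (Nat.card_congr ((R' : Subgroup N).equivMapOfInjective _
          (subtype_injective N)).toEquiv).symm
      have h6 : 1 < Nat.card R := by
        rw [h5]
        have hpos : 0 < (Nat.card N).factorization p :=
          Nat.Prime.factorization_pos_of_dvd hp Nat.card_pos.ne' hpN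
        exact Nat.one_lt_pow hpos.ne' hp.one_lt
      have h7 : Nat.card M ≤ Nat.card G := Subgroup.card_le_card_group M
      have h8 : 0 < Nat.card (↥M ⧸ R.subgroupOf M) := Nat.card_pos
      rw [← hGn]
      rw [h4] at h3
      nlinarith
    · -- `p ∤ |N|`
      obtain ⟨P⟩ : Nonempty (Sylow p G) := inferInstance
      rw [card_sylow_eq_quotient_mul P N]
      refine Factorable.mul (IH _ ?_ (G ⧸ N) rfl) ?_
      · have h3 : Nat.card G = Nat.card (G ⧸ N) * Nat.card N :=
          Subgroup.card_eq_card_quotient_mul_card_subgroup _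
        have h4 : 1 < Nat.card N := by
          rw [Subgroup.one_lt_card_iff_ne_bot]; exact hNbot
        have h8 : 0 < Nat.card (G ⧸ N) := Nat.card_pos
        rw [← hGn]
        nlinarith
      · apply factorable_of_pow_mod Nat.card_pos.ne'
        intro q hq
        exact pow_factorization_card_sylow_sup_mod P.2 le_normalizer_of_normal hpN q hq

theorem result {G : Type u} [Group G] [Finite G]
    (p : ℕ) [Fact p.Prime] :
    ∃ l : List ℕ, l.prod = Nat.card (Sylow p G) ∧
      ∀ m ∈ l, (IsPrimePow m ∧ m % p = 1) ∨
        ∃ (S : Type u) (_ : Group S) (_ : Finite S), IsSimpleGroup S ∧ m = Nat.card (Sylow p S) :=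
  main p _ G rfl

end Cfsg.Agent.S4303
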