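import Mathlib
import Cfsg.Statements.S1010
import Cfsg.Agent.S4303
import Cfsg.Agent.Helper12.SylLines
import Cfsg.Agent.Helper12.Syl21e

set_option autoImplicit false
open Cfsg

namespace Cfsg.Agent.S1010

open Cfsg.Agent.Helper70.Syl Cfsg.Agent.Helper12.Syl21

/-- no finite simple group has exactly 21 Sylow 5-subgroups -/
theorem no_simple {S : Type*} [Group S] [Finite S] [IsSimpleGroup S] [Fact (Nat.Prime 5)]
    (h21 : Nat.card (Sylow 5 S) = 21) : False := by
  have hlt : Nat.card (Sylow 5 S) < 5 ^ 2 := by rw [h21]; norm_num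
  have hn1 : Nat.card (Sylow 5 S) ≠ 1 := by rw [h21]; norm_num
  have hnt : Nontrivial (Sylow 5 S) := by
    rw [← Finite.one_lt_card_iff_nontrivial, h21]; norm_num
  have hcard : ∀ R : Sylow 5 S, Nat.card (R : Subgroup S) = 5 := by
    intro R
    obtain ⟨Q, hQ⟩ := exists_ne R
    have h1 := Cfsg.Agent.Helper12.SylLines.inf_eq_bot_of_card_lt_sq hn1 hlt R Q hQ.symm
    have h2 := card_inf_mul hlt R Q hQ.symm
    rw [h1, Subgroup.card_bot, one_mul] at h2
    exact h2.symm
  obtain ⟨P⟩ : Nonempty (Sylow 5 S) := inferInstance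
  haveI : Fact (Nat.Prime 2) := ⟨Nat.prime_two⟩
  set C := Subgroup.centralizer ((P : Subgroup S) : Set S) with hC
  obtain ⟨v, hv⟩ : ∃ v, (Nat.card C).factorization 2 = v := ⟨_, rfl⟩
  have hv0 : v = 0 ∨ v = 1 ∨ v = 2 ∨ 3 ≤ v := by omega
  rcases hv0 with rfl | rfl | rfl | h3
  · apply caseI h21 hcard P
    rw [Nat.factorization_eq_zero_iff] at hv
    rcases hv with h | h | h
    · exact absurd Nat.prime_two h
    · exact h
    · exact absurd h Nat.card_pos.ne'
  · exact caseII h21 hcard P hv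
  · exact caseIII h21 hcard P hv
  · have h8 : 2 ^ 3 ∣ Nat.card C := by
      have h1 := Nat.ordProj_dvd (Nat.card C) 2
      rw [hv] at h1
      exact dvd_trans (pow_dvd_pow 2 h3) h1
    obtain ⟨K, hK⟩ := Sylow.exists_subgroup_card_pow_prime (G := C) 2 (n := 3) h8
    have hT8 : Nat.card (K.map C.subtype) = 8 := by
      rw [Subgroup.card_subtype, hK]; norm_num
    have hTC : K.map C.subtype ≤ C := Subgroup.map_subtype_le K
    have hT : IsPGroup 2 (K.map C.subtype) := IsPGroup.of_card (n := 3) (by rw [hT8]; norm_num)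
    have := card_le_four h21 hcard P (K.map C.subtype) hT hTC
    omega

theorem not_isPrimePow_21 : ¬ IsPrimePow 21 := by
  rw [isPrimePow_iff_unique_prime_dvd]
  rintro ⟨p, -, hp⟩
  have h3 := hp 3 ⟨by norm_num, by norm_num⟩
  have h7 := hp 7 ⟨by norm_num, by norm_num⟩
  omega

/-- No finite group has exactly twenty-one Sylow 5-subgroups. -/
theorem result {G : Type*} [Group G] [Finite G] : Nat.card (Sylow 5 G) ≠ 21 := by
  intro h
  haveI : Fact (Nat.Prime 5) := ⟨by norm_num⟩
  obtain ⟨l, hprod, hl⟩ := Cfsg.Agent.S4303.result (G := G) 5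
  rw [h] at hprod
  have hall : ∀ m ∈ l, m = 1 := by
    intro m hm
    have hdvd : m ∣ 21 := hprod ▸ List.dvd_prod hm
    have hle : m ≤ 21 := Nat.le_of_dvd (by norm_num) hdvd
    have hmod : m % 5 = 1 := by
      rcases hl m hm with ⟨-, h1⟩ | ⟨S, _, _, _, rfl⟩
      · exact h1
      · have := card_sylow_modEq_one 5 S
        unfold Nat.ModEq at this
        simpa using this
    have hm21 : m = 1 ∨ m = 21 := by
      interval_cases m <;> omega
    rcases hm21 with h1 | h21
    · exact h1
    · exfalso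
      subst h21
      rcases hl 21 hm with ⟨hpp, -⟩ | ⟨S, _, _, hS, hcard⟩
      · exact not_isPrimePow_21 hpp
      · exact no_simple hcard.symm
  rw [List.prod_eq_one hall] at hprod
  norm_num at hprod

end Cfsg.Agent.S1010
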