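import Cfsg.Statements.S0215
import Cfsg.Agent.Helper48.ZStarD
import Cfsg.Agent.S0201

set_option autoImplicit false

namespace Cfsg.Agent.S0215

theorem result {G : Type*} [Group G] [Finite G] (P : Sylow 2 G) (u : G) (hu : orderOf u = 2) (huP : u ∈ P) (hiso : ∀ g : G, g * u * g⁻¹ ∈ P → g * u * g⁻¹ = u) : ∃ N : Subgroup G, N.Normal ∧ Odd (Nat.card N) ∧ ∀ g : G, (u * g * u⁻¹ * g⁻¹) ∈ N :=
  Cfsg.Agent.Helper48.ZStar.zstar_of_brauerSuzuki
    (fun _ _ _ S n e hO => Cfsg.Agent.S0201.result S n e hO) P u hu huP hiso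

end Cfsg.Agent.S0215
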