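import Cfsg.Statements.S0013
import Mathlib.Order.Preorder.Finite
import Mathlib.RingTheory.Coprime.Lemmas
import Mathlib.RingTheory.Int.Basic

set_option autoImplicit false
open Cfsg

namespace Cfsg.Agent.S0013

open scoped commutatorElement

/-- any subgroup containing the commutator subgroup is normal -/
theorem normal_of_commutator_le {G : Type*} [Group G] (M : Subgroup G) (h : commutator G ≤ M) :
    M.Normal := by
  constructor
  intro n hn g
  have h1 : ⁅g, n⁆ ∈ M := h (by
    rw [commutator_def]
    exact Subgroup.commutator_mem_commutator (Subgroup.mem_top g) (Subgroup.mem_top n))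
  have h2 : g * n * g⁻¹ = ⁅g, n⁆ * n := by
    rw [commutatorElement_def]; simp [mul_assoc]
  rw [h2]
  exact M.mul_mem h1 hn

/-- In a finite p-group the Frattini subgroup is the smallest normal subgroup with elementary abelian quotient: it lies below any normal subgroup containing all commutators and all p-th powers. -/
theorem result {G : Type*} [Group G] [Finite G] (p : ℕ) [Fact p.Prime]
    (hG : IsPGroup p G) (N : Subgroup G) [N.Normal] (hcomm : commutator G ≤ N) (hpow : ∀ x : G, x ^ p ∈ N) :
    frattini G ≤ N := by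
  have hp : p.Prime := Fact.out
  intro x hx
  by_contra hxN
  -- a subgroup maximal among those containing `N` and avoiding `x`
  obtain ⟨M, hNM, hMmax⟩ := Finite.exists_le_maximal (p := fun L : Subgroup G => N ≤ L ∧ x ∉ L)
    (a := N) ⟨le_rfl, hxN⟩
  have hMN : N ≤ M := hMmax.prop.1
  have hxM : x ∉ M := hMmax.prop.2
  have hMnormal : M.Normal := normal_of_commutator_le M (hcomm.trans hMN)
  have hcoatom : IsCoatom M := by
    refine ⟨fun h => hxM (h ▸ Subgroup.mem_top x), ?_⟩
    intro L hML
    have hxL : x ∈ L := by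
      by_contra hxL
      exact (not_le_of_gt hML) (hMmax.le_of_ge ⟨hMN.trans hML.le, hxL⟩ hML.le)
    rw [eq_top_iff]
    intro y _
    by_cases hyM : y ∈ M
    · exact hML.le hyM
    · have hx' : x ∈ M ⊔ Subgroup.zpowers y := by
        by_contra hx'
        have hle : M ⊔ Subgroup.zpowers y ≤ M :=
          hMmax.le_of_ge ⟨hMN.trans le_sup_left, hx'⟩ le_sup_left
        exact hyM (hle (Subgroup.mem_sup_right (Subgroup.mem_zpowers y)))
      rw [Subgroup.mem_sup_of_normal_left] at hx'
      obtain ⟨m, hm, z, hz, hmz⟩ := hx'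
      obtain ⟨k, rfl⟩ := Subgroup.mem_zpowers_iff.mp hz
      have hyk : y ^ k ∈ L := by
        have : y ^ k = m⁻¹ * x := by rw [← hmz]; simp
        rw [this]
        exact L.mul_mem (L.inv_mem (hML.le hm)) hxL
      have hndvd : ¬ (p : ℤ) ∣ k := by
        rintro ⟨j, rfl⟩
        apply hxM
        rw [← hmz]
        refine M.mul_mem hm ?_
        rw [zpow_mul, zpow_natCast]
        exact M.zpow_mem (hMN (hpow y)) j
      have hcop : IsCoprime (p : ℤ) k :=
        (Nat.prime_iff_prime_int.mp hp).irreducible.coprime_iff_not_dvd.mpr hndvd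
      obtain ⟨a, b, hab⟩ := hcop
      have : y = (y ^ p) ^ a * (y ^ k) ^ b := by
        rw [← zpow_natCast, ← zpow_mul, ← zpow_mul, ← zpow_add, mul_comm (p : ℤ) a, mul_comm k b, hab,
          zpow_one]
      rw [this]
      exact L.mul_mem (L.zpow_mem (hML.le (hMN (hpow y))) a) (L.zpow_mem hyk b)
  exact hxM (frattini_le_coatom hcoatom hx)

end Cfsg.Agent.S0013
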