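import Cfsg.Statements.S0213
import Cfsg.Agent.Helper55.InvolCount

set_option autoImplicit false
open Cfsg

namespace Cfsg.Agent.S0213

open Cfsg.Agent.Helper55
open Finset
open scoped Classical

section

variable {G : Type*} [Group G] [Fintype G]

/-- The conjugacy class of `t` as a `Finset`. -/
noncomputable def cls (t : G) : Finset G := univ.filter (fun a => IsConj t a)

theorem mem_cls {t a : G} : a ∈ cls t ↔ IsConj t a := by simp [cls]

/-- Pairs `(u,v)` in `x₁^G × x₂^G` with `a ∈ ⟨u v⟩`. -/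
noncomputable def prs (x₁ x₂ a : G) : Finset (G × G) :=
  ((cls x₁) ×ˢ (cls x₂)).filter (fun p => a ∈ Subgroup.zpowers (p.1 * p.2))

theorem mem_prs {x₁ x₂ a : G} {p : G × G} :
    p ∈ prs x₁ x₂ a ↔ IsConj x₁ p.1 ∧ IsConj x₂ p.2 ∧ a ∈ Subgroup.zpowers (p.1 * p.2) := by
  simp [prs, mem_cls, and_assoc]

theorem card_prs_le (x₁ x₂ a h : G) :
    (prs x₁ x₂ a).card ≤ (prs x₁ x₂ (h * a * h⁻¹)).card := by
  apply Finset.card_le_card_of_injOn (fun p : G × G => (h * p.1 * h⁻¹, h * p.2 * h⁻¹))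
  · intro p hp
    rw [mem_coe, mem_prs] at hp
    rw [mem_coe, mem_prs]
    refine ⟨hp.1.trans (isConj_iff.2 ⟨h, rfl⟩), hp.2.1.trans (isConj_iff.2 ⟨h, rfl⟩), ?_⟩
    show h * a * h⁻¹ ∈ Subgroup.zpowers (h * p.1 * h⁻¹ * (h * p.2 * h⁻¹))
    rw [conj_mul]
    exact conj_mem_zpowers h hp.2.2
  · intro p _ q _ hpq
    simp only [Prod.mk.injEq] at hpq
    have h1 : p.1 = q.1 := by
      have := hpq.1
      exact mul_left_cancel (mul_right_cancel this)
    have h2 : p.2 = q.2 := by
      have := hpq.2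
      exact mul_left_cancel (mul_right_cancel this)
    exact Prod.ext h1 h2

theorem card_prs_conj (x₁ x₂ a h : G) :
    (prs x₁ x₂ (h * a * h⁻¹)).card = (prs x₁ x₂ a).card := by
  apply le_antisymm
  · have := card_prs_le x₁ x₂ (h * a * h⁻¹) h⁻¹
    have e : h⁻¹ * (h * a * h⁻¹) * h⁻¹⁻¹ = a := by group
    rwa [e] at this
  · exact card_prs_le x₁ x₂ a h

theorem card_prs_of_mem_cls {x₁ x₂ t a : G} (ha : a ∈ cls t) :
    (prs x₁ x₂ a).card = (prs x₁ x₂ t).card := by
  obtain ⟨h, rfl⟩ := isConj_iff.1 (mem_cls.1 ha)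
  exact card_prs_conj x₁ x₂ t h

end

/-- Thompson Order Formula, two-class case: if every involution of the finite group G is conjugate to exactly one of the non-conjugate involutions x₁, x₂, and nᵢ is the number of pairs (u, v) with u conjugate to x₁, v conjugate to x₂ and xᵢ in the cyclic group generated by uv, then |G| = |C(x₂)| n₁ + |C(x₁)| n₂. -/
theorem result {G : Type*} [Group G] [Finite G] (x₁ x₂ : G) (h₁ : orderOf x₁ = 2) (h₂ : orderOf x₂ = 2) (hnc : ¬ IsConj x₁ x₂) (hall : ∀ t : G, orderOf t = 2 → IsConj x₁ t ∨ IsConj x₂ t) : Nat.card G = Nat.card (Subgroup.centralizer ({x₂} : Set G)) * Nat.card {p : G × G // IsConj x₁ p.1 ∧ IsConj x₂ p.2 ∧ x₁ ∈ Subgroup.zpowers (p.1 * p.2)} + Nat.card (Subgroup.centralizer ({x₁} : Set G)) * Nat.card {p : G × G // IsConj x₁ p.1 ∧ IsConj x₂ p.2 ∧ x₂ ∈ Subgroup.zpowers (p.1 * p.2)} := by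
  have : Fintype G := Fintype.ofFinite G
  have hn1 : Nat.card {p : G × G // IsConj x₁ p.1 ∧ IsConj x₂ p.2 ∧ x₁ ∈ Subgroup.zpowers (p.1 * p.2)}
      = (prs x₁ x₂ x₁).card := Nat.subtype_card _ (fun _ => mem_prs)
  have hn2 : Nat.card {p : G × G // IsConj x₁ p.1 ∧ IsConj x₂ p.2 ∧ x₂ ∈ Subgroup.zpowers (p.1 * p.2)}
      = (prs x₁ x₂ x₂).card := Nat.subtype_card _ (fun _ => mem_prs)
  rw [hn1, hn2]
  set c₁ := Nat.card (Subgroup.centralizer ({x₁} : Set G)) with hc₁
  set c₂ := Nat.card (Subgroup.centralizer ({x₂} : Set G)) with hc₂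
  set n₁ := (prs x₁ x₂ x₁).card with hn₁
  set n₂ := (prs x₁ x₂ x₂).card with hn₂
  set N := Nat.card G with hN
  have hNF : Fintype.card G = N := Fintype.card_eq_nat_card
  have hK1 : N = c₁ * (cls x₁).card := by
    rw [← hNF]; exact card_eq_card_centralizer_mul_card_conj x₁
  have hK2 : N = c₂ * (cls x₂).card := by
    rw [← hNF]; exact card_eq_card_centralizer_mul_card_conj x₂
  -- involutions are the disjoint union of the two classes
  have hdisj : Disjoint (cls x₁) (cls x₂) := by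
    rw [Finset.disjoint_left]
    intro a ha1 ha2
    exact hnc ((mem_cls.1 ha1).trans (mem_cls.1 ha2).symm)
  have hI : invs G = cls x₁ ∪ cls x₂ := by
    ext a
    rw [mem_invs, mem_union, mem_cls, mem_cls]
    constructor
    · exact hall a
    · rintro (h | h)
      · obtain ⟨c, rfl⟩ := isConj_iff.1 h
        rw [orderOf_conj_eq]; exact h₁
      · obtain ⟨c, rfl⟩ := isConj_iff.1 h
        rw [orderOf_conj_eq]; exact h₂
  -- double counting
  have hdc := Finset.sum_card_bipartiteAbove_eq_sum_card_bipartiteBelow (s := invs G)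
    (t := (cls x₁) ×ˢ (cls x₂)) (r := fun (a : G) (p : G × G) => a ∈ Subgroup.zpowers (p.1 * p.2))
  have hleft : ∑ a ∈ invs G, (Finset.bipartiteAbove
      (fun (a : G) (p : G × G) => a ∈ Subgroup.zpowers (p.1 * p.2)) ((cls x₁) ×ˢ (cls x₂)) a).card
      = (cls x₁).card * n₁ + (cls x₂).card * n₂ := by
    rw [hI, Finset.sum_union hdisj]
    congr 1
    · rw [Finset.sum_const_nat (m := n₁)]
      intro a ha
      exact card_prs_of_mem_cls ha
    · rw [Finset.sum_const_nat (m := n₂)]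
      intro a ha
      exact card_prs_of_mem_cls ha
  have hright : ∑ p ∈ (cls x₁) ×ˢ (cls x₂), (Finset.bipartiteBelow
      (fun (a : G) (p : G × G) => a ∈ Subgroup.zpowers (p.1 * p.2)) (invs G) p).card
      = (cls x₁).card * (cls x₂).card := by
    rw [Finset.sum_const_nat (m := 1), mul_one, card_product]
    intro p hp
    rw [mem_product, mem_cls, mem_cls] at hp
    have hu : orderOf p.1 = 2 := by
      obtain ⟨c, hc⟩ := isConj_iff.1 hp.1
      rw [← hc, orderOf_conj_eq]; exact h₁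
    have hv : orderOf p.2 = 2 := by
      obtain ⟨c, hc⟩ := isConj_iff.1 hp.2
      rw [← hc, orderOf_conj_eq]; exact h₂
    have heven : Even (orderOf (p.1 * p.2)) := by
      rw [← Nat.not_odd_iff_even]
      intro hodd
      have := isConj_of_odd_orderOf_mul hu hv hodd
      exact hnc ((hp.1.trans this).trans hp.2.symm)
    rw [Finset.card_eq_one]
    refine ⟨(p.1 * p.2) ^ (orderOf (p.1 * p.2) / 2), ?_⟩
    have ho : orderOf ((p.1 * p.2) ^ (orderOf (p.1 * p.2) / 2)) = 2 :=
      orderOf_pow_orderOf_div (orderOf_pos _).ne' heven.two_dvd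
    ext a
    simp only [Finset.bipartiteBelow, mem_filter, mem_singleton, mem_invs]
    constructor
    · rintro ⟨ha2, hamem⟩
      exact invol_unique_of_mem_zpowers ha2 ho hamem (Subgroup.npow_mem_zpowers _ _)
    · rintro rfl
      exact ⟨ho, Subgroup.npow_mem_zpowers _ _⟩
  have hkey : (cls x₁).card * (cls x₂).card = (cls x₁).card * n₁ + (cls x₂).card * n₂ := by
    rw [← hleft, ← hright]; exact hdc.symm
  -- arithmetic
  have hNpos : 0 < N := Nat.card_pos
  have : N * N = N * (c₂ * n₁ + c₁ * n₂) := by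
    calc N * N = (c₁ * (cls x₁).card) * (c₂ * (cls x₂).card) := by rw [← hK1, ← hK2]
      _ = c₁ * c₂ * ((cls x₁).card * (cls x₂).card) := by ring
      _ = c₁ * c₂ * ((cls x₁).card * n₁ + (cls x₂).card * n₂) := by rw [hkey]
      _ = (c₁ * (cls x₁).card) * (c₂ * n₁) + (c₂ * (cls x₂).card) * (c₁ * n₂) := by ring
      _ = N * (c₂ * n₁) + N * (c₁ * n₂) := by rw [← hK1, ← hK2]
      _ = N * (c₂ * n₁ + c₁ * n₂) := by ring
  exact Nat.eq_of_mul_eq_mul_left hNpos this

end Cfsg.Agent.S0213
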