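import Cfsg.Statements.S1035
import Cfsg.Agent.Helper18.TorusCert

set_option autoImplicit false
open Cfsg

namespace Cfsg.Agent.S1035

open Cfsg.Lie Cfsg.Agent.Helper18

theorem key {F : Type*} [Field F] [Fintype F] (D : ChevalleyDatum)
    (hD : D ∈ [chevG2, chevB2, chevD4, chevF4, chevE6, chevE7, chevE8]) (C : TorusCert) (hC : CertOK D C) :
    (((List.range D.rank).map fun k => (Fintype.card F - 1).gcd (C.d.getD k 0)).prod) *
      Nat.card (D.diagonalSubgroup F) = (Fintype.card F - 1) ^ D.rank := by
  rw [← card_ker_mul_card_diagonalSubgroup D hD (F := F), card_torusChar_ker D (simpleOK_of_mem D hD) C hC,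
    list_range_prod_eq]

/-- `d · |H| = (q - 1)^rank` over a field with `q` elements, with `d = 1` (G₂, F₄, E₈), `gcd(3, q-1)` (E₆), `gcd(2, q-1)` (E₇, B₂), `gcd(2, q-1)²` (D₄). -/
theorem result {F : Type*} [Field F] [Fintype F] {q : ℕ} (hq : Fintype.card F = q)
    (p : Cfsg.Lie.ChevalleyDatum × ℕ)
    (hp : p ∈ [(Cfsg.Lie.chevG2, 1), (Cfsg.Lie.chevF4, 1), (Cfsg.Lie.chevE8, 1), (Cfsg.Lie.chevE6, Nat.gcd 3 (q - 1)),
      (Cfsg.Lie.chevE7, Nat.gcd 2 (q - 1)), (Cfsg.Lie.chevB2, Nat.gcd 2 (q - 1)), (Cfsg.Lie.chevD4, Nat.gcd 2 (q - 1) ^ 2)]) :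
    p.2 * Nat.card (p.1.diagonalSubgroup F) = (q - 1) ^ p.1.rank := by
  subst hq
  simp only [List.mem_cons, List.not_mem_nil, or_false] at hp
  rcases hp with rfl | rfl | rfl | rfl | rfl | rfl | rfl
  · have h := key (F := F) chevG2 (by simp) certG2 certOK_G2
    have e : List.range chevG2.rank = [0, 1] := by decide
    rw [e] at h
    simpa [certG2] using h
  · have h := key (F := F) chevF4 (by simp) certF4 certOK_F4
    have e : List.range chevF4.rank = [0, 1, 2, 3] := by decide
    rw [e] at h
    simpa [certF4] using h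
  · have h := key (F := F) chevE8 (by simp) certE8 certOK_E8
    have e : List.range chevE8.rank = [0, 1, 2, 3, 4, 5, 6, 7] := by decide
    rw [e] at h
    simpa [certE8] using h
  · have h := key (F := F) chevE6 (by simp) certE6 certOK_E6
    have e : List.range chevE6.rank = [0, 1, 2, 3, 4, 5] := by decide
    rw [e] at h
    simpa [certE6, Nat.gcd_comm] using h
  · have h := key (F := F) chevE7 (by simp) certE7 certOK_E7
    have e : List.range chevE7.rank = [0, 1, 2, 3, 4, 5, 6] := by decide
    rw [e] at h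
    simpa [certE7, Nat.gcd_comm] using h
  · have h := key (F := F) chevB2 (by simp) certB2 certOK_B2
    have e : List.range chevB2.rank = [0, 1] := by decide
    rw [e] at h
    simpa [certB2, Nat.gcd_comm] using h
  · have h := key (F := F) chevD4 (by simp) certD4 certOK_D4
    have e : List.range chevD4.rank = [0, 1, 2, 3] := by decide
    rw [e] at h
    simpa [certD4, Nat.gcd_comm, pow_two] using h

end Cfsg.Agent.S1035
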