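import Cfsg.Statements.S1060
import Cfsg.Agent.Helper19.Poinc.Final
import Cfsg.Agent.Helper18.BNPairChev
import Cfsg.Agent.Helper18.BNUnion
import Cfsg.Agent.Helper18.UpStruct
import Cfsg.Agent.S1025
import Cfsg.Agent.S1027
import Cfsg.Agent.S1031

set_option autoImplicit false
open Cfsg

namespace Cfsg.Agent.S1060

/-- `gcd(2, q-1) · |B₂(q)| = q⁴ (q² - 1)(q⁴ - 1)`. -/
theorem result {F : Type*} [Field F] [Fintype F] {q : ℕ} (hq : Fintype.card F = q) : Nat.gcd 2 (q - 1) * Nat.card ↥(Cfsg.Lie.chevB2.group F) = q ^ 4 * (q ^ 2 - 1) * (q ^ 4 - 1) := by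
  have h25 : Cfsg.Agent.Helper18.CommHyp Cfsg.Lie.chevB2 F :=
    fun r s hr hs h1 h2 t u => Cfsg.Agent.S1025.result Cfsg.Lie.chevB2 (by simp) r s hr hs h1 h2 t u
  exact Cfsg.Agent.Helper19.Poinc.order_B2 hq
    (fun i s hi hs => Cfsg.Agent.S1031.result Cfsg.Lie.chevB2 (by simp) i s hi hs)
    (Cfsg.Agent.Helper18.exists_bnPair Cfsg.Lie.chevB2 (by simp) h25)
    (fun i hi n hn => Cfsg.Agent.Helper18.borel_union_subgroup Cfsg.Lie.chevB2 (by simp) h25 i hi n hn)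
    (fun i hi => ⟨Cfsg.Agent.Helper18.rootSubgroup_le_normalizer_Up Cfsg.Lie.chevB2 (by simp) h25 i hi,
      Cfsg.Agent.Helper18.Up_sup_rootSubgroup Cfsg.Lie.chevB2 (by simp) i hi⟩)
    (Cfsg.Agent.S1027.result Cfsg.Lie.chevB2 (by simp))

end Cfsg.Agent.S1060
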