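import Cfsg.Statements.S2326
import Cfsg.Agent.Helper36.SylowUChev
import Cfsg.Agent.S1059
import Cfsg.Agent.S1060
import Cfsg.Agent.S1061
import Cfsg.Agent.S1062
import Cfsg.Agent.S1063
import Cfsg.Agent.S1064
import Cfsg.Agent.S1065


set_option autoImplicit false
open Cfsg Cfsg.Lie Cfsg.Agent.Helper36

namespace Cfsg.Agent.S2326

/-- In a Chevalley group of type G₂, B₂, D₄, F₄, E₆, E₇ or E₈ over a finite field of characteristic p, the subgroup U generated by the positive root elements is a Sylow p-subgroup. -/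
theorem result {F : Type*} [Field F] [Fintype F] (p : ℕ) [Fact p.Prime] [CharP F p] (D : Cfsg.Lie.ChevalleyDatum) (hD : D ∈ [Cfsg.Lie.chevG2, Cfsg.Lie.chevB2, Cfsg.Lie.chevD4, Cfsg.Lie.chevF4, Cfsg.Lie.chevE6, Cfsg.Lie.chevE7, Cfsg.Lie.chevE8]) :
    ∃ P : Sylow p ↥(D.group F), (P : Subgroup ↥(D.group F)) = (D.posUnipotent F).subgroupOf (D.group F) := by
  have hp : p.Prime := Fact.out
  have nd : ∀ d : ℕ, d ≠ 0 → ¬ p ∣ Fintype.card F ^ d - 1 := fun d hd =>
    not_dvd_card_pow_sub_one (F := F) p rfl d hd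
  have nm : ∀ {a b : ℕ}, ¬ p ∣ a → ¬ p ∣ b → ¬ p ∣ a * b := fun ha hb => hp.not_dvd_mul ha hb
  have hD' := hD
  simp only [List.mem_cons, List.not_mem_nil, or_false] at hD'
  rcases hD' with rfl | rfl | rfl | rfl | rfl | rfl | rfl
  · refine sylowU_of_order p _ hD 1 ((Fintype.card F ^ 2 - 1) * (Fintype.card F ^ 6 - 1)) ?_
      (nm (nd _ (by norm_num)) (nd _ (by norm_num)))
    rw [one_mul, Cfsg.Agent.S1059.result (F := F) rfl]
    have : chevG2.nroots / 2 = 6 := by decide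
    rw [this]; simp only [mul_assoc]
  · refine sylowU_of_order p _ hD (Nat.gcd 2 (Fintype.card F - 1)) ((Fintype.card F ^ 2 - 1) * (Fintype.card F ^ 4 - 1)) ?_
      (nm (nd _ (by norm_num)) (nd _ (by norm_num)))
    rw [Cfsg.Agent.S1060.result (F := F) rfl]
    have : chevB2.nroots / 2 = 4 := by decide
    rw [this]; simp only [mul_assoc]
  · refine sylowU_of_order p _ hD (Nat.gcd 2 (Fintype.card F - 1) ^ 2) ((Fintype.card F ^ 2 - 1) * ((Fintype.card F ^ 4 - 1) * ((Fintype.card F ^ 4 - 1) * (Fintype.card F ^ 6 - 1)))) ?_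
      (nm (nd _ (by norm_num)) (nm (nd _ (by norm_num)) (nm (nd _ (by norm_num)) (nd _ (by norm_num)))))
    rw [Cfsg.Agent.S1061.result (F := F) rfl]
    have : chevD4.nroots / 2 = 12 := by decide
    rw [this]; simp only [mul_assoc]
  · refine sylowU_of_order p _ hD 1 ((Fintype.card F ^ 2 - 1) * ((Fintype.card F ^ 6 - 1) * ((Fintype.card F ^ 8 - 1) * (Fintype.card F ^ 12 - 1)))) ?_
      (nm (nd _ (by norm_num)) (nm (nd _ (by norm_num)) (nm (nd _ (by norm_num)) (nd _ (by norm_num)))))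
    rw [one_mul, Cfsg.Agent.S1062.result (F := F) rfl]
    have : chevF4.nroots / 2 = 24 := by decide
    rw [this]; simp only [mul_assoc]
  · refine sylowU_of_order p _ hD (Nat.gcd 3 (Fintype.card F - 1)) ((Fintype.card F ^ 2 - 1) * ((Fintype.card F ^ 5 - 1) * ((Fintype.card F ^ 6 - 1) * ((Fintype.card F ^ 8 - 1) * ((Fintype.card F ^ 9 - 1) * (Fintype.card F ^ 12 - 1)))))) ?_
      (nm (nd _ (by norm_num)) (nm (nd _ (by norm_num)) (nm (nd _ (by norm_num)) (nm (nd _ (by norm_num)) (nm (nd _ (by norm_num)) (nd _ (by norm_num)))))))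
    rw [Cfsg.Agent.S1063.result (F := F) rfl]
    have : chevE6.nroots / 2 = 36 := by decide
    rw [this]; simp only [mul_assoc]
  · refine sylowU_of_order p _ hD (Nat.gcd 2 (Fintype.card F - 1)) ((Fintype.card F ^ 2 - 1) * ((Fintype.card F ^ 6 - 1) * ((Fintype.card F ^ 8 - 1) * ((Fintype.card F ^ 10 - 1) * ((Fintype.card F ^ 12 - 1) * ((Fintype.card F ^ 14 - 1) * (Fintype.card F ^ 18 - 1))))))) ?_
      (nm (nd _ (by norm_num)) (nm (nd _ (by norm_num)) (nm (nd _ (by norm_num)) (nm (nd _ (by norm_num)) (nm (nd _ (by norm_num)) (nm (nd _ (by norm_num)) (nd _ (by norm_num))))))))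
    rw [Cfsg.Agent.S1064.result (F := F) rfl]
    have : chevE7.nroots / 2 = 63 := by decide
    rw [this]; simp only [mul_assoc]
  · refine sylowU_of_order p _ hD 1 ((Fintype.card F ^ 2 - 1) * ((Fintype.card F ^ 8 - 1) * ((Fintype.card F ^ 12 - 1) * ((Fintype.card F ^ 14 - 1) * ((Fintype.card F ^ 18 - 1) * ((Fintype.card F ^ 20 - 1) * ((Fintype.card F ^ 24 - 1) * (Fintype.card F ^ 30 - 1)))))))) ?_
      (nm (nd _ (by norm_num)) (nm (nd _ (by norm_num)) (nm (nd _ (by norm_num)) (nm (nd _ (by norm_num)) (nm (nd _ (by norm_num)) (nm (nd _ (by norm_num)) (nm (nd _ (by norm_num)) (nd _ (by norm_num)))))))))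
    rw [one_mul, Cfsg.Agent.S1065.result (F := F) rfl]
    have : chevE8.nroots / 2 = 120 := by decide
    rw [this]; simp only [mul_assoc]

end Cfsg.Agent.S2326
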