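import Cfsg.Statements.S1098
import Cfsg.Agent.Helper18.GraphAut.Types
import Cfsg.Agent.S1054
import Cfsg.Agent.S1056
import Cfsg.Agent.S1058

set_option autoImplicit false
open Cfsg

namespace Cfsg.Agent.S1098

/-- Graph automorphisms in characteristic 2 (K perfect): for B₂ (a short, b long) `x_a(t) ↦ x_b(t²)`, `x_b(t) ↦ x_a(t)`, and for F₄ (p₁, p₂ short, p₃, p₄ long) `x_{p₁}(t) ↦ x_{p₄}(t²)`, `x_{p₂}(t) ↦ x_{p₃}(t²)`, `x_{p₃}(t) ↦ x_{p₂}(t)`, `x_{p₄}(t) ↦ x_{p₁}(t)`, likewise on the negatives, extend to an automorphism of the group. -/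
theorem result {K : Type*} [Field K] [CharP K 2] (hperf : ∀ x : K, ∃ y : K, y ^ 2 = x)
    (p : Cfsg.Lie.ChevalleyDatum × List (ℕ × ℕ))
    (hp : p ∈ [(Cfsg.Lie.chevB2, [(1, 2), (0, 1)]), (Cfsg.Lie.chevF4, [(3, 2), (2, 2), (1, 1), (0, 1)])]) :
    ∃ α : ↥(p.1.group K) ≃* ↥(p.1.group K), ∀ (g : ↥(p.1.group K)) (i : ℕ) (t : K), i < p.1.rank →
      (((g : GL p.1.Idx K) : Matrix p.1.Idx p.1.Idx K) = p.1.x K (p.1.simple i) t →
        ((α g : GL p.1.Idx K) : Matrix p.1.Idx p.1.Idx K) = p.1.x K (p.1.simple (p.2.getD i (0, 1)).1) (t ^ (p.2.getD i (0, 1)).2)) ∧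
      (((g : GL p.1.Idx K) : Matrix p.1.Idx p.1.Idx K) = p.1.x K (p.1.neg (p.1.simple i)) t →
        ((α g : GL p.1.Idx K) : Matrix p.1.Idx p.1.Idx K) = p.1.x K (p.1.neg (p.1.simple (p.2.getD i (0, 1)).1)) (t ^ (p.2.getD i (0, 1)).2)) := by
  simp only [List.mem_cons, List.not_mem_nil, or_false] at hp
  rcases hp with rfl | rfl
  · -- type B₂
    have hN : ∀ N : Subgroup ↥(Cfsg.Lie.chevB2.group K), N.Normal → N ≠ ⊥ →
        commutator ↥(Cfsg.Lie.chevB2.group K) ≤ N := by
      by_cases hF : ∃ a : K, a ≠ 0 ∧ a ≠ 1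
      · obtain ⟨hsimple, -⟩ := Cfsg.Agent.S1056.result (F := K) hF
        exact Cfsg.Agent.Helper18.GraphAut.normalHyp_of_isSimpleGroup _
      · push Not at hF
        have h01 : ∀ a : K, a = 0 ∨ a = 1 := fun a => by
          by_cases h : a = 0
          · exact Or.inl h
          · exact Or.inr (hF a h)
        have hsurj : Function.Surjective (fun b : Bool => if b then (1 : K) else 0) := by
          intro a
          rcases h01 a with rfl | rfl
          · exact ⟨false, by simp⟩
          · exact ⟨true, by simp⟩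
        have hinj : Function.Injective (fun b : Bool => if b then (1 : K) else 0) := by
          intro a b h
          cases a <;> cases b <;> simp at h <;> rfl
        haveI : Finite K := Finite.of_surjective _ hsurj
        letI : Fintype K := Fintype.ofFinite K
        have hcard : Fintype.card K = 2 := by
          rw [← Fintype.card_bool]
          exact (Fintype.card_of_bijective ⟨hinj, hsurj⟩).symm
        obtain ⟨e⟩ := Cfsg.Agent.S1058.result (F := K) hcard
        exact Cfsg.Agent.Helper18.GraphAut.normalHyp_of_equiv_perm e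
    obtain ⟨α, hα⟩ := Cfsg.Agent.Helper18.GraphAut.graphAut_B2 hperf hN
    refine ⟨α, fun g i t hi => ?_⟩
    have hi' : i < 2 := hi
    interval_cases i
    · refine ⟨fun hg => ?_, fun hg => ?_⟩
      · exact hα g 5 t (by decide) hg
      · exact hα g 2 t (by decide) hg
    · refine ⟨fun hg => ?_, fun hg => ?_⟩
      · have := hα g 4 t (by decide) hg
        rw [this]
        exact congrArg _ ((pow_one t).trans (pow_one t).symm)
      · have := hα g 3 t (by decide) hg
        rw [this]
        exact congrArg _ ((pow_one t).trans (pow_one t).symm)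
  · -- type F₄
    obtain ⟨hsimple, -⟩ := Cfsg.Agent.S1054.result (F := K) Cfsg.Lie.chevF4 (by simp)
    obtain ⟨α, hα⟩ := Cfsg.Agent.Helper18.GraphAut.graphAut_F4 hperf
      (Cfsg.Agent.Helper18.GraphAut.normalHyp_of_isSimpleGroup _)
    refine ⟨α, fun g i t hi => ?_⟩
    have hi' : i < 4 := hi
    interval_cases i
    · refine ⟨fun hg => ?_, fun hg => ?_⟩
      · exact hα g 33 t (by decide) hg
      · exact hα g 14 t (by decide) hg
    · refine ⟨fun hg => ?_, fun hg => ?_⟩
      · exact hα g 27 t (by decide) hg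
      · exact hα g 20 t (by decide) hg
    · refine ⟨fun hg => ?_, fun hg => ?_⟩
      · have := hα g 25 t (by decide) hg
        rw [this]
        exact congrArg _ ((pow_one t).trans (pow_one t).symm)
      · have := hα g 22 t (by decide) hg
        rw [this]
        exact congrArg _ ((pow_one t).trans (pow_one t).symm)
    · refine ⟨fun hg => ?_, fun hg => ?_⟩
      · have := hα g 24 t (by decide) hg
        rw [this]
        exact congrArg _ ((pow_one t).trans (pow_one t).symm)
      · have := hα g 23 t (by decide) hg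
        rw [this]
        exact congrArg _ ((pow_one t).trans (pow_one t).symm)

end Cfsg.Agent.S1098
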