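import Cfsg.Statements.S1099
import Cfsg.Agent.Helper18.GraphAut.Types
import Cfsg.Agent.S1055

set_option autoImplicit false
open Cfsg

namespace Cfsg.Agent.S1099

/-- Graph automorphism of G₂ in characteristic 3 (K perfect): `x_a(t) ↦ x_b(t³)`, `x_b(t) ↦ x_a(t)`, `x_{-a}(t) ↦ x_{-b}(t³)`, `x_{-b}(t) ↦ x_{-a}(t)` extend to an automorphism of the group. -/
theorem result {K : Type*} [Field K] [CharP K 3] (hperf : ∀ x : K, ∃ y : K, y ^ 3 = x) :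
    ∃ α : ↥(Cfsg.Lie.chevG2.group K) ≃* ↥(Cfsg.Lie.chevG2.group K), ∀ (g : ↥(Cfsg.Lie.chevG2.group K)) (t : K),
      (((g : GL Cfsg.Lie.chevG2.Idx K) : Matrix _ _ K) = Cfsg.Lie.chevG2.x K Cfsg.Lie.g2a t →
        ((α g : GL Cfsg.Lie.chevG2.Idx K) : Matrix _ _ K) = Cfsg.Lie.chevG2.x K Cfsg.Lie.g2b (t ^ 3)) ∧
      (((g : GL Cfsg.Lie.chevG2.Idx K) : Matrix _ _ K) = Cfsg.Lie.chevG2.x K Cfsg.Lie.g2b t →
        ((α g : GL Cfsg.Lie.chevG2.Idx K) : Matrix _ _ K) = Cfsg.Lie.chevG2.x K Cfsg.Lie.g2a t) ∧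
      (((g : GL Cfsg.Lie.chevG2.Idx K) : Matrix _ _ K) = Cfsg.Lie.chevG2.x K Cfsg.Lie.g2ma t →
        ((α g : GL Cfsg.Lie.chevG2.Idx K) : Matrix _ _ K) = Cfsg.Lie.chevG2.x K Cfsg.Lie.g2mb (t ^ 3)) ∧
      (((g : GL Cfsg.Lie.chevG2.Idx K) : Matrix _ _ K) = Cfsg.Lie.chevG2.x K Cfsg.Lie.g2mb t →
        ((α g : GL Cfsg.Lie.chevG2.Idx K) : Matrix _ _ K) = Cfsg.Lie.chevG2.x K Cfsg.Lie.g2ma t) := by
  have h2 : ((2 : ℕ) : K) ≠ 0 := by
    intro h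
    have := (CharP.cast_eq_zero_iff K 3 2).mp h
    omega
  have hF : ∃ a : K, a ≠ 0 ∧ a ≠ 1 := by
    refine ⟨((2 : ℕ) : K), h2, ?_⟩
    intro h
    have h3 : (1 : K) = 0 := by
      have : ((2 : ℕ) : K) = 1 + 1 := by norm_num
      rw [this] at h
      linear_combination h
    exact one_ne_zero h3
  obtain ⟨hsimple, -⟩ := Cfsg.Agent.S1055.result (F := K) hF
  obtain ⟨α, hα⟩ := Cfsg.Agent.Helper18.GraphAut.graphAut_G2 hperf
    (Cfsg.Agent.Helper18.GraphAut.normalHyp_of_isSimpleGroup _)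
  refine ⟨α, fun g t => ⟨?_, ?_, ?_, ?_⟩⟩
  · intro hg
    exact hα g 7 t (by decide) hg
  · intro hg
    have := hα g 6 t (by decide) hg
    rw [this]
    exact congrArg _ (pow_one t)
  · intro hg
    exact hα g 4 t (by decide) hg
  · intro hg
    have := hα g 5 t (by decide) hg
    rw [this]
    exact congrArg _ (pow_one t)

end Cfsg.Agent.S1099
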