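import Cfsg.Statements.S1101
import Cfsg.Agent.Helper18.Ree.Small

set_option autoImplicit false
open Cfsg

namespace Cfsg.Agent.S1101

/-- For ²G₂ over `K` with `|K| = 3^(2m+1)`, `θ = 3^m`: `U¹ = G¹ ∩ U` consists exactly of the elements `x_a(t^θ) x_b(t) x_{a+b}(t^{θ+1}+u^θ) x_{2a+b}(t^{2θ+1}+v^θ) x_{3a+b}(u) x_{3a+2b}(v)`, `t, u, v ∈ K`, and it has `|K|³` elements. -/
theorem result {K : Type*} [Field K] [Fintype K] {m : ℕ} (hK : Fintype.card K = 3 ^ (2 * m + 1)) :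
    (∀ g : GL Cfsg.Lie.chevG2.Idx K, g ∈ Cfsg.Lie.chevG2.posUnipotent K ⊓ Cfsg.Lie.twistedG2 K (3 ^ m) ↔
      ∃ t u v : K, (g : Matrix Cfsg.Lie.chevG2.Idx Cfsg.Lie.chevG2.Idx K) = Cfsg.Lie.chevG2.wordMat K (Cfsg.Lie.reeWordU (3 ^ m) t u v)) ∧
    Nat.card ↥(Cfsg.Lie.chevG2.posUnipotent K ⊓ Cfsg.Lie.twistedG2 K (3 ^ m)) = (3 ^ (2 * m + 1)) ^ 3 := by
  haveI := Cfsg.Agent.Helper18.Ree.charP_three hK
  obtain ⟨σ, hσ'⟩ := Cfsg.Agent.Helper18.Ree.exists_sigma hK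
  have hσ : Cfsg.Agent.Helper18.Ree.SigmaSpec m σ := hσ'
  have key : ∀ g : GL Cfsg.Lie.chevG2.Idx K,
      g ∈ Cfsg.Lie.chevG2.posUnipotent K ⊓ Cfsg.Lie.twistedG2 K (3 ^ m) ↔
      ∃ t u v : K, g = (((Cfsg.Agent.Helper18.Ree.posSys (K := K)).word (3 ^ m) t u v :
        ↥(Cfsg.Lie.chevG2.group K)) : GL Cfsg.Lie.chevG2.Idx K) := by
    intro g
    constructor
    · rintro ⟨hU, hG⟩
      exact Cfsg.Agent.Helper18.Ree.fixed_posUnipotent hK hσ g hU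
        (Cfsg.Agent.Helper18.Ree.twistedG2_le_FixS hK hσ hG)
    · rintro ⟨t, u, v, rfl⟩
      exact ⟨Cfsg.Agent.Helper18.Ree.wordU_mem_posUnipotent _ t u v,
        Cfsg.Agent.Helper18.Ree.wordU_mem_twistedG2 _ t u v⟩
  refine ⟨?_, ?_⟩
  · intro g
    rw [key]
    constructor
    · rintro ⟨t, u, v, rfl⟩
      exact ⟨t, u, v, Cfsg.Agent.Helper18.Ree.wordU_val _ t u v⟩
    · rintro ⟨t, u, v, h⟩
      exact ⟨t, u, v, Units.ext (by rw [h, Cfsg.Agent.Helper18.Ree.wordU_val])⟩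
  · let f : K × K × K → ↥(Cfsg.Lie.chevG2.posUnipotent K ⊓ Cfsg.Lie.twistedG2 K (3 ^ m)) := fun p =>
      ⟨_, (key _).mpr ⟨p.1, p.2.1, p.2.2, rfl⟩⟩
    have hf : Function.Bijective f := by
      constructor
      · rintro ⟨t, u, v⟩ ⟨t', u', v'⟩ h
        have h1 := congrArg Subtype.val h
        have h2 := Cfsg.Agent.Helper18.Ree.Sys.word_injective
          Cfsg.Agent.Helper18.Ree.posSys_uniq t u v t' u' v' (Subtype.ext h1)
        obtain ⟨rfl, rfl, rfl⟩ := h2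
        rfl
      · rintro ⟨g, hg⟩
        obtain ⟨t, u, v, rfl⟩ := (key g).mp hg
        exact ⟨(t, u, v), rfl⟩
    rw [← Nat.card_congr (Equiv.ofBijective f hf), Nat.card_prod, Nat.card_prod, Nat.card_eq_fintype_card, hK]
    ring

end Cfsg.Agent.S1101
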