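import Cfsg.Statements.S1067
import Cfsg.Agent.Helper19.Twist.OrdD4
import Cfsg.Agent.Helper18.BNPairChev
import Cfsg.Agent.Helper18.UpStruct
import Cfsg.Agent.S1025
import Cfsg.Agent.S1031
import Cfsg.Agent.S1038

set_option autoImplicit false
open Cfsg

namespace Cfsg.Agent.S1067

/-- `|³D₄(q)| = q¹² (q² - 1)(q⁶ - 1)(q⁸ + q⁴ + 1)`, the group being realised inside D₄ over the field with `q³` elements. -/
theorem result {K : Type*} [Field K] [Fintype K] {q : ℕ} (hq : IsPrimePow q) (hK : Fintype.card K = q ^ 3) :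
    Nat.card ↥(Cfsg.Lie.twistedD4 K q) = q ^ 12 * (q ^ 2 - 1) * (q ^ 6 - 1) * (q ^ 8 + q ^ 4 + 1) := by
  open Cfsg.Lie Cfsg.Agent.Helper18 Cfsg.Agent.Helper19.Twist Cfsg.Agent.S1081 Cfsg.Agent.Helper19.Cox
    Cfsg.Agent.Helper19.Poinc in
  obtain ⟨f, hf⟩ := exists_frob hq hK
  have h25 : CommHyp chevD4 K :=
    fun r s hr hs h1 h2 t u => Cfsg.Agent.S1025.result chevD4 memD4 r s hr hs h1 h2 t u
  have h31 : NConjHyp chevD4 K := fun i s hi hs => Cfsg.Agent.S1031.result chevD4 memD4 i s hi hs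
  have hn : (HN chevD4 K).Normal := Cfsg.Agent.S1038.result chevD4 memD4
  have h42 : H42 chevD4 K := exists_bnPair (F := K) chevD4 memD4 h25
  have h45 : H45 chevD4 K := fun i hi =>
    ⟨rootSubgroup_le_normalizer_Up chevD4 memD4 h25 i hi, Up_sup_rootSubgroup chevD4 memD4 i hi⟩
  have hq2 : 2 ≤ q := hq.two_le
  have hq1 : 1 ≤ q := le_trans (by norm_num) hq2
  have hθ : ∀ i : Fin 12, theta chevD4 memD4 certD4 h31 (repD4 K (W12.getD i.val [])) = gp certD4.M (wordD4 i.val) :=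
    fun i => theta_repD4 h31 _ (W12_lt i.val i.2)
  have hsum := card_twisted_sum chevD4 memD4 certD4 h31 rho1 rhoInv1 pi1 piInv1 eps1 permsOK_D4 f allOK1
    twistOK_D4 isoOK_D4 rootInjOK_D4 (twistedD4 K q) (twistedD4_le_FixD4 f hf hK) (U_fix_le_D4 f hf h31 hq1 hK)
    h42 h45 (genSubgroup_le_group memD4 _) (fun i : Fin 12 => repD4 K (W12.getD i.val []))
    (fun i => repD4_mem f hf _)
    (by
      intro i j e
      simp only [hθ] at e
      exact Fin.ext (wordD4_injective i.val j.val i.2 j.2 e))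
    (by
      intro w hw
      obtain ⟨i, hi, e⟩ := exists_index w hw
      exact ⟨⟨i, hi⟩, by rw [hθ]; exact e⟩)
  have hB := card_borel_inf chevD4 memD4 rho1 rhoInv1 pi1 piInv1 eps1 permsOK_D4 f allOK1
    twistOK_D4 isoOK_D4 (twistedD4 K q) (twistedD4_le_FixD4 f hf hK) (U_fix_le_D4 f hf h31 hq1 hK)
  rw [U_inf_twisted_D4 f hf h31 hq1 hK, card_U_fix_D4 f hf hq1 hK, card_torus_D4 f hf hq2 hK] at hB
  rw [hsum, hB]
  have hterm : ∀ i : Fin 12, Nat.card ↥(UnegW chevD4 certD4 K (theta chevD4 memD4 certD4 h31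
      (repD4 K (W12.getD i.val []))) ⊓ Fix chevD4 rho1 rhoInv1 pi1 piInv1 eps1 permsOK_D4 f) =
      q ^ (lenD4.getD i.val 0) := by
    intro i
    rw [hθ]
    exact card_UnegW_fix_D4 f hf hq1 hK i.val i.2
  simp only [hterm]
  simp only [Fin.sum_univ_succ, Fin.sum_univ_zero, lenD4]
  simp only [Fin.val_zero, Fin.val_succ, List.getD_cons_zero, List.getD_cons_succ]
  obtain ⟨m, rfl⟩ : ∃ m, q = m + 1 := ⟨q - 1, by omega⟩
  have e3 : (m + 1) ^ 3 - 1 = m * ((m + 1) ^ 2 + (m + 1) + 1) := by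
    have : (m + 1) ^ 3 = m * ((m + 1) ^ 2 + (m + 1) + 1) + 1 := by ring
    omega
  have e2 : (m + 1) ^ 2 - 1 = m * (m + 2) := by
    have : (m + 1) ^ 2 = m * (m + 2) + 1 := by ring
    omega
  have e6 : (m + 1) ^ 6 - 1 = m * (((m + 1) ^ 2 + (m + 1) + 1) * ((m + 1) ^ 3 + 1)) := by
    have : (m + 1) ^ 6 = m * (((m + 1) ^ 2 + (m + 1) + 1) * ((m + 1) ^ 3 + 1)) + 1 := by ring
    omega
  rw [e3, e2, e6, Nat.add_sub_cancel]
  ring

end Cfsg.Agent.S1067
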