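import Cfsg.Statements.S1088
import Cfsg.Agent.Helper19.Twist.UD4b
import Cfsg.Agent.S1031
import Cfsg.Agent.S1038

set_option autoImplicit false
open Cfsg

namespace Cfsg.Agent.S1088

/-- |U¹| = |G¹ ∩ U| = q ^ 12 for ³D₄(q). -/
theorem result {K : Type*} [Field K] [Fintype K] {q : ℕ} (hq : IsPrimePow q) (hK : Fintype.card K = q ^ 3) :
    Nat.card ↥(Cfsg.Lie.chevD4.posUnipotent K ⊓ Cfsg.Lie.twistedD4 K q) = q ^ 12 := by
  open Cfsg.Lie Cfsg.Agent.Helper18 Cfsg.Agent.Helper19.Twist Cfsg.Agent.S1081 in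
  obtain ⟨f, hf⟩ := exists_frob hq hK
  have h31 : NConjHyp chevD4 K := fun i s hi hs => Cfsg.Agent.S1031.result chevD4 memD4 i s hi hs
  have hn : (HN chevD4 K).Normal := Cfsg.Agent.S1038.result chevD4 memD4
  have hq1 : 1 ≤ q := le_trans (by norm_num) hq.two_le
  rw [U_inf_twisted_D4 f hf h31 hq1 hK]
  exact card_U_fix_D4 f hf hq1 hK

end Cfsg.Agent.S1088
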