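import Cfsg.Statements.S0226
import Mathlib
import Cfsg.Agent.Helper4.Dihedral

set_option autoImplicit false
open Cfsg

namespace Cfsg.Agent.S0226

open Cfsg.Agent.Helper4

/-- A finite group of even order has an odd number of involutions. -/
theorem result {G : Type*} [Group G] [Finite G] (heven : Even (Nat.card G)) : Odd (Nat.card {t : G // orderOf t = 2}) := by
  classical
  have := Fintype.ofFinite G
  let f : Function.End G := fun g => g⁻¹
  have hf : f ^ 2 ^ 1 = 1 := by
    rw [pow_one, pow_two]
    funext g
    show (g⁻¹)⁻¹ = g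
    simp
  have hmod := Equiv.Perm.card_fixedPoints_modEq (p := 2) (n := 1) hf
  rw [← Nat.card_eq_fintype_card, ← Nat.card_eq_fintype_card] at hmod
  -- fixed points = {1} ∪ involutions
  set F : Set G := Function.fixedPoints f with hF
  have h1F : (1 : G) ∈ F := by simp [hF, f, Function.mem_fixedPoints, Function.IsFixedPt]
  have hFcard : Nat.card ↥F = (F \ {1}).ncard + 1 := by
    rw [Nat.card_coe_set_eq, Set.ncard_sdiff_singleton_add_one h1F (Set.toFinite F)]
  have hset : F \ {1} = {t : G | orderOf t = 2} := by
    ext t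
    simp only [hF, f, Function.mem_fixedPoints, Function.IsFixedPt, Set.mem_sdiff,
      Set.mem_singleton_iff, Set.mem_ofPred_eq]
    constructor
    · rintro ⟨h1, h2⟩
      apply orderOf_two_of_sq_one _ h2
      nth_rewrite 1 [← h1]; simp
    · intro h
      exact ⟨inv_eq_self_of_sq_one (sq_one_of_orderOf_two h), ne_one_of_orderOf_two h⟩
  have hI : Nat.card {t : G // orderOf t = 2} = (F \ {1}).ncard := by
    rw [hset, ← Nat.card_coe_set_eq]; rfl
  rw [hI]
  have h0 : Nat.card G % 2 = 0 := Nat.even_iff.mp heven
  have h1 : Nat.card ↥F % 2 = 0 := by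
    have := hmod.symm
    unfold Nat.ModEq at this
    omega
  rw [Nat.odd_iff]
  omega

end Cfsg.Agent.S0226
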