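import Cfsg.Statements.S1124

set_option autoImplicit false
open scoped Pointwise
open Cfsg

namespace Cfsg.Agent.S1124

variable {M : Type*} [Group M]

/-- In a finite subgroup of odd order `2k+1`, `y ^ (k+1)` is a square root of `y`. -/
theorem sqrt_aux [Finite M] (X : Subgroup M) {k : ℕ} (hk : Nat.card X = 2 * k + 1) {y : M} (hy : y ∈ X) :
    (y ^ (k + 1)) * (y ^ (k + 1)) = y := by
  have h1 : y ^ (Nat.card X) = 1 := by
    have h0 : (⟨y, hy⟩ : X) ^ (Nat.card X) = 1 := pow_card_eq_one'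
    have h2 := congrArg Subtype.val h0
    rwa [Subgroup.coe_pow, Subgroup.coe_one] at h2
  rw [← pow_add, show k + 1 + (k + 1) = (2 * k + 1) + 1 by ring, ← hk, pow_succ, h1, one_mul]

theorem sq_inj_aux [Finite M] (X : Subgroup M) {k : ℕ} (hk : Nat.card X = 2 * k + 1) {y z : M}
    (hy : y ∈ X) (hz : z ∈ X) (h : y * y = z * z) : y = z := by
  have e1 := sqrt_aux X hk hy
  have e2 := sqrt_aux X hk hz
  have : y ^ (k + 1) * y ^ (k + 1) = (y * y) ^ (k + 1) := by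
    rw [← pow_two, ← pow_two, ← pow_mul, ← pow_mul, mul_comm]
  have h3 : z ^ (k + 1) * z ^ (k + 1) = (z * z) ^ (k + 1) := by
    rw [← pow_two, ← pow_two, ← pow_mul, ← pow_mul, mul_comm]
  rw [← e1, ← e2, this, h3, h]

theorem main [Finite M]
    (t : M) (ht : orderOf t = 2) (X : Subgroup M) (hodd : Odd (Nat.card X))
    (hnorm : ∀ x ∈ X, t * x * t⁻¹ ∈ X) :
    (∀ x ∈ X, ∃! p : M × M, p.1 ∈ X ⊓ Subgroup.centralizer {t} ∧ p.2 ∈ Cfsg.invertedBy X t ∧ x = p.1 * p.2) := by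
  obtain ⟨k, hk⟩ := hodd
  have htt : t * t = 1 := by
    have := pow_orderOf_eq_one t
    rwa [ht, pow_two] at this
  have htinv : t⁻¹ = t := inv_eq_of_mul_eq_one_right htt
  intro x hx
  -- c = x⁻¹ * (t x t⁻¹)
  set c : M := x⁻¹ * (t * x * t⁻¹) with hc
  have hcX : c ∈ X := X.mul_mem (X.inv_mem hx) (hnorm x hx)
  have htt' : ∀ w : M, t * (t * w) = w := fun w => by rw [← mul_assoc, htt, one_mul]
  have hcinv : t * c * t⁻¹ = c⁻¹ := by
    rw [hc]
    simp only [htinv, mul_inv_rev, inv_inv, mul_assoc, htt, mul_one]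
  set z : M := (c⁻¹) ^ (k + 1) with hz
  have hzX : z ∈ X := X.pow_mem (X.inv_mem hcX) _
  have hzz : z * z = c⁻¹ := sqrt_aux X hk (X.inv_mem hcX)
  have hconj_pow : ∀ (w : M) (n : ℕ), t * w ^ n * t⁻¹ = (t * w * t⁻¹) ^ n := by
    intro w n
    exact (conj_pow (a := t) (b := w) (i := n)).symm
  have hzinv : t * z * t⁻¹ = z⁻¹ := by
    rw [hz, hconj_pow]
    have : t * c⁻¹ * t⁻¹ = (t * c * t⁻¹)⁻¹ := by group
    rw [this, hcinv, inv_inv, ← inv_pow, inv_inv]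
  have hcz : c = z⁻¹ * z⁻¹ := by
    have : c = (c⁻¹)⁻¹ := (inv_inv c).symm
    rw [this, ← hzz]; group
  refine ⟨(x * z⁻¹, z), ⟨?_, ?_, ?_⟩, ?_⟩
  · refine ⟨X.mul_mem hx (X.inv_mem hzX), ?_⟩
    show x * z⁻¹ ∈ Subgroup.centralizer {t}
    rw [Subgroup.mem_centralizer_iff]
    intro h hh
    rw [Set.mem_singleton_iff] at hh
    subst hh
    -- h * (x z⁻¹) = (x z⁻¹) * h
    have h1 : h * x * h⁻¹ = x * c := by rw [hc]; group
    have h2 : h * z⁻¹ * h⁻¹ = z := by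
      have : h * z⁻¹ * h⁻¹ = (h * z * h⁻¹)⁻¹ := by group
      rw [this, hzinv, inv_inv]
    have h3 : h * (x * z⁻¹) * h⁻¹ = x * z⁻¹ := by
      have : h * (x * z⁻¹) * h⁻¹ = (h * x * h⁻¹) * (h * z⁻¹ * h⁻¹) := by group
      rw [this, h1, h2, hcz]; group
    calc h * (x * z⁻¹) = (h * (x * z⁻¹) * h⁻¹) * h := by group
      _ = x * z⁻¹ * h := by rw [h3]
  · exact ⟨hzX, hzinv⟩
  · show x = x * z⁻¹ * z
    group
  · rintro ⟨y', z'⟩ ⟨⟨hy'X, hy'c⟩, ⟨hz'X, hz'inv⟩, hxy⟩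
    simp only at hy'X hy'c hz'X hz'inv hxy
    replace hy'c : y' ∈ Subgroup.centralizer {t} := hy'c
    rw [Subgroup.mem_centralizer_iff] at hy'c
    have hy't : t * y' = y' * t := hy'c t rfl
    have hy't' : t * y' * t⁻¹ = y' := by rw [hy't]; group
    have hc' : c = z'⁻¹ * z'⁻¹ := by
      rw [hc, hxy]
      have : t * (y' * z') * t⁻¹ = (t * y' * t⁻¹) * (t * z' * t⁻¹) := by group
      rw [this, hy't', hz'inv]; group
    have hzz' : z' * z' = z * z := by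
      rw [hzz, hc']; simp
    have hz'z : z' = z := sq_inj_aux X hk hz'X hzX hzz'
    have : y' = x * z⁻¹ := by rw [hxy, hz'z]; group
    rw [this, hz'z]

theorem card_part [Finite M]
    (t : M) (X : Subgroup M)
    (h1 : ∀ x ∈ X, ∃! p : M × M, p.1 ∈ X ⊓ Subgroup.centralizer {t} ∧ p.2 ∈ Cfsg.invertedBy X t ∧ x = p.1 * p.2) :
    Nat.card X = Nat.card ↥(X ⊓ Subgroup.centralizer {t}) * Nat.card (Cfsg.invertedBy X t) := by
  rw [← Nat.card_prod]
  symm
  let f : ↥(X ⊓ Subgroup.centralizer {t}) × ↥(Cfsg.invertedBy X t) → X :=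
    fun p => ⟨(p.1 : M) * (p.2 : M), X.mul_mem p.1.2.1 p.2.2.1⟩
  refine Nat.card_congr (Equiv.ofBijective f ⟨?_, ?_⟩)
  · rintro ⟨y1, z1⟩ ⟨y2, z2⟩ h
    have hx : ((y1 : M) * (z1 : M)) = (y2 : M) * (z2 : M) := congrArg Subtype.val h
    obtain ⟨p, -, hp⟩ := h1 _ (X.mul_mem y1.2.1 z1.2.1)
    have e1 := hp ((y1 : M), (z1 : M)) ⟨y1.2, z1.2, rfl⟩
    have e2 := hp ((y2 : M), (z2 : M)) ⟨y2.2, z2.2, hx⟩
    have e3 : ((y1 : M), (z1 : M)) = ((y2 : M), (z2 : M)) := e1.trans e2.symm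
    have e4 : (y1 : M) = y2 := congrArg Prod.fst e3
    have e5 : (z1 : M) = z2 := congrArg Prod.snd e3
    exact Prod.ext (Subtype.ext e4) (Subtype.ext e5)
  · rintro ⟨x, hx⟩
    obtain ⟨p, ⟨hp1, hp2, hp3⟩, -⟩ := h1 x hx
    exact ⟨(⟨p.1, hp1⟩, ⟨p.2, hp2⟩), Subtype.ext hp3.symm⟩

theorem normal_part [Finite M]
    (t : M) (X : Subgroup M)
    (h1 : ∀ x ∈ X, ∃! p : M × M, p.1 ∈ X ⊓ Subgroup.centralizer {t} ∧ p.2 ∈ Cfsg.invertedBy X t ∧ x = p.1 * p.2) :
    ∀ x ∈ X, MulAut.conj x • Subgroup.closure (Cfsg.invertedBy X t) = Subgroup.closure (Cfsg.invertedBy X t) := by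
  -- conjugation by an element of `C_X(t)` maps `Z` into `Z`
  have hA : ∀ y ∈ X ⊓ Subgroup.centralizer {t}, MulAut.conj y • Subgroup.closure (Cfsg.invertedBy X t) ≤
      Subgroup.closure (Cfsg.invertedBy X t) := by
    intro y hy
    rw [Subgroup.smul_closure, Subgroup.closure_le]
    rintro _ ⟨z, ⟨hzX, hzinv⟩, rfl⟩
    apply Subgroup.subset_closure
    have hyt : t * y = y * t := (Subgroup.mem_centralizer_iff.mp hy.2) t rfl
    refine ⟨?_, ?_⟩
    · simp only [MulAut.smul_def, MulAut.conj_apply]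
      exact X.mul_mem (X.mul_mem hy.1 hzX) (X.inv_mem hy.1)
    · simp only [MulAut.smul_def, MulAut.conj_apply]
      have h2 : t * (y * z * y⁻¹) * t⁻¹ = (t * y * t⁻¹) * (t * z * t⁻¹) * (t * y * t⁻¹)⁻¹ := by group
      have h3 : t * y * t⁻¹ = y := by rw [hyt]; group
      rw [h2, h3, hzinv]; group
  have hB : ∀ y ∈ X ⊓ Subgroup.centralizer {t}, MulAut.conj y • Subgroup.closure (Cfsg.invertedBy X t) =
      Subgroup.closure (Cfsg.invertedBy X t) := by
    intro y hy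
    apply le_antisymm (hA y hy)
    have h4 := hA y⁻¹ (Subgroup.inv_mem _ hy)
    have h5 : MulAut.conj y • (MulAut.conj y⁻¹ • Subgroup.closure (Cfsg.invertedBy X t)) ≤
        MulAut.conj y • Subgroup.closure (Cfsg.invertedBy X t) :=
      Subgroup.pointwise_smul_le_pointwise_smul_iff.mpr h4
    rwa [← mul_smul, ← map_mul, mul_inv_cancel, map_one, one_smul] at h5
  intro x hx
  obtain ⟨p, ⟨hp1, hp2, hp3⟩, -⟩ := h1 x hx
  rw [hp3, map_mul, mul_smul, Subgroup.conj_smul_eq_self_of_mem (Subgroup.subset_closure hp2), hB _ hp1]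

/-- Let `t` be an element of order 2 of a finite group normalising a subgroup `X` of odd order, `Y = C_X(t)` and `Z` the set of elements of `X` inverted by `t`. Then `(y, z) ↦ y z` is a bijection `Y × Z → X`, so `|X| = |Y| |Z|`, and the subgroup generated by `Z` is normal in `X`. -/
theorem result {M : Type*} [Group M] [Finite M]
    (t : M) (ht : orderOf t = 2) (X : Subgroup M) (hodd : Odd (Nat.card X))
    (hnorm : ∀ x ∈ X, t * x * t⁻¹ ∈ X) :
    (∀ x ∈ X, ∃! p : M × M, p.1 ∈ X ⊓ Subgroup.centralizer {t} ∧ p.2 ∈ Cfsg.invertedBy X t ∧ x = p.1 * p.2) ∧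
      Nat.card X = Nat.card ↥(X ⊓ Subgroup.centralizer {t}) * Nat.card (Cfsg.invertedBy X t) ∧
      ∀ x ∈ X, MulAut.conj x • Subgroup.closure (Cfsg.invertedBy X t) = Subgroup.closure (Cfsg.invertedBy X t) := by
  have h1 := main t ht X hodd hnorm
  exact ⟨h1, card_part t X h1, normal_part t X h1⟩

end Cfsg.Agent.S1124
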