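import Cfsg.Statements.S2420
import Mathlib
import Cfsg.Agent.Helper40.BlockCount
-- import your own Cfsg.Agent.* helpers here

set_option autoImplicit false
open scoped MatrixGroups
open Cfsg

namespace Cfsg.Agent.S2420

open Cfsg.Agent.Helper40

section helpers

variable {n : ℕ} (μ : Fin n → ℕ)

/-- prefix sums of a composition -/
def prefSum (m : ℕ) : ℕ := ∑ k ∈ Finset.univ.filter (fun k : Fin n => k.val < m), μ k

theorem prefSum_zero : prefSum μ 0 = 0 := by
  simp [prefSum]

theorem prefSum_succ (m : ℕ) (hm : m < n) : prefSum μ (m + 1) = prefSum μ m + μ ⟨m, hm⟩ := by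
  unfold prefSum
  have : Finset.univ.filter (fun k : Fin n => k.val < m + 1) =
      insert ⟨m, hm⟩ (Finset.univ.filter (fun k : Fin n => k.val < m)) := by
    ext k
    simp only [Finset.mem_filter, Finset.mem_univ, true_and, Finset.mem_insert]
    constructor
    · intro h
      by_cases hk : k.val = m
      · left; exact Fin.ext hk
      · right; omega
    · rintro (h | h)
      · rw [h]; simp
      · omega
  rw [this, Finset.sum_insert (by simp), add_comm]

theorem prefSum_mono : Monotone (prefSum μ) := by
  intro a b hab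
  unfold prefSum
  apply Finset.sum_le_sum_of_subset
  intro k hk
  simp only [Finset.mem_filter, Finset.mem_univ, true_and] at hk ⊢
  omega

theorem prefSum_top (m : ℕ) (hm : n ≤ m) : prefSum μ m = ∑ i, μ i := by
  unfold prefSum
  congr 1
  ext k
  simp only [Finset.mem_filter, Finset.mem_univ, true_and, iff_true]
  have := k.isLt
  omega

theorem compLabel_eq_card (i : Fin n) :
    compLabel μ i = (Finset.univ.filter fun j : Fin n => prefSum μ (j.val + 1) ≤ i.val).card := by
  unfold compLabel prefSum
  congr 1
  ext j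
  simp only [Finset.mem_filter, Finset.mem_univ, true_and]
  have : Finset.univ.filter (fun k : Fin n => k ≤ j) = Finset.univ.filter (fun k : Fin n => k.val < j.val + 1) := by
    ext k
    simp only [Finset.mem_filter, Finset.mem_univ, true_and, Fin.le_def]
    omega
  rw [this]

theorem compLabel_eq_of_mem (i : Fin n) (a : ℕ) (ha : a < n) (h1 : prefSum μ a ≤ i.val)
    (h2 : i.val < prefSum μ (a + 1)) : compLabel μ i = a := by
  rw [compLabel_eq_card]
  have : (Finset.univ.filter fun j : Fin n => prefSum μ (j.val + 1) ≤ i.val) =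
      Finset.univ.filter (fun j : Fin n => j.val < a) := by
    ext j
    simp only [Finset.mem_filter, Finset.mem_univ, true_and]
    constructor
    · intro h
      by_contra hlt
      have : prefSum μ (a + 1) ≤ prefSum μ (j.val + 1) := prefSum_mono μ (by omega)
      omega
    · intro h
      have : prefSum μ (j.val + 1) ≤ prefSum μ a := prefSum_mono μ (by omega)
      omega
  rw [this]
  have := Fin.card_filter_val_lt (n := n) (m := a)
  rw [this]
  omega

theorem exists_block (hμ : ∑ i, μ i = n) (i : Fin n) :
    ∃ a, a < n ∧ prefSum μ a ≤ i.val ∧ i.val < prefSum μ (a + 1) := by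
  classical
  have hex : ∃ m, i.val < prefSum μ (m + 1) := ⟨n, by rw [prefSum_top μ _ (by omega), hμ]; exact i.isLt⟩
  refine ⟨Nat.find hex, ?_, ?_, Nat.find_spec hex⟩
  · by_contra hge
    have hn1 : i.val < prefSum μ (n - 1 + 1) := by
      have hn : 0 < n := i.pos
      rw [Nat.sub_add_cancel hn, prefSum_top μ _ le_rfl, hμ]
      exact i.isLt
    have := Nat.find_min' hex hn1
    have hn : 0 < n := i.pos
    omega
  · rcases Nat.eq_zero_or_pos (Nat.find hex) with h0 | hpos
    · rw [h0, prefSum_zero]; exact Nat.zero_le _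
    · by_contra hlt
      rw [not_le] at hlt
      have h' : i.val < prefSum μ (Nat.find hex - 1 + 1) := by
        rw [Nat.sub_add_cancel hpos]; exact hlt
      have := Nat.find_min' hex h'
      omega

theorem compLabel_lt (hμ : ∑ i, μ i = n) (i : Fin n) : compLabel μ i < n := by
  obtain ⟨a, ha, h1, h2⟩ := exists_block μ hμ i
  rw [compLabel_eq_of_mem μ i a ha h1 h2]
  exact ha

theorem compLabel_eq_iff (hμ : ∑ i, μ i = n) (i : Fin n) (a : ℕ) (ha : a < n) :
    compLabel μ i = a ↔ prefSum μ a ≤ i.val ∧ i.val < prefSum μ (a + 1) := by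
  constructor
  · intro h
    obtain ⟨a', ha', h1, h2⟩ := exists_block μ hμ i
    have := compLabel_eq_of_mem μ i a' ha' h1 h2
    have : a' = a := by omega
    subst this
    exact ⟨h1, h2⟩
  · rintro ⟨h1, h2⟩
    exact compLabel_eq_of_mem μ i a ha h1 h2

theorem card_block (hμ : ∑ i, μ i = n) (a : Fin n) :
    Fintype.card {i : Fin n // compLabel μ i = a.val} = μ a := by
  classical
  rw [Fintype.card_subtype]
  have hle : prefSum μ (a.val + 1) ≤ n := by
    calc prefSum μ (a.val + 1) ≤ prefSum μ n := prefSum_mono μ (by have := a.isLt; omega)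
      _ = n := by rw [prefSum_top μ _ le_rfl, hμ]
  have hset : (Finset.univ.filter fun i : Fin n => compLabel μ i = a.val) =
      (Finset.univ.filter fun i : Fin n => i.val < prefSum μ (a.val + 1)) \
        (Finset.univ.filter fun i : Fin n => i.val < prefSum μ a.val) := by
    ext i
    simp only [Finset.mem_filter, Finset.mem_univ, true_and, Finset.mem_sdiff, not_lt]
    rw [compLabel_eq_iff μ hμ i a.val a.isLt]
    tauto
  rw [hset, Finset.card_sdiff_of_subset]
  · have h1 := Fin.card_filter_val_lt (n := n) (m := prefSum μ (a.val + 1))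
    have h2 := Fin.card_filter_val_lt (n := n) (m := prefSum μ a.val)
    rw [h1, h2, prefSum_succ μ a.val a.isLt]
    have h3 : prefSum μ a.val ≤ prefSum μ (a.val + 1) := prefSum_mono μ (by omega)
    rw [prefSum_succ μ a.val a.isLt] at hle h3
    simp only [Fin.eta] at *
    omega
  · intro i hi
    simp only [Finset.mem_filter, Finset.mem_univ, true_and] at hi ⊢
    have h3 : prefSum μ a.val ≤ prefSum μ (a.val + 1) := prefSum_mono μ (by omega)
    omega


/-- the label as an element of `Fin (n + 1)` -/
def lab (i : Fin n) : Fin (n + 1) := ⟨compLabel μ i, by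
  unfold compLabel
  have := Finset.card_filter_le (Finset.univ : Finset (Fin n))
    (fun j : Fin n => (∑ k ∈ Finset.univ.filter (fun k : Fin n => k ≤ j), μ k) ≤ i.val)
  rw [Finset.card_univ, Fintype.card_fin] at this
  omega⟩

theorem blockTriangular_lab_iff {F : Type*} [Field F] (M : Matrix (Fin n) (Fin n) F) :
    M.BlockTriangular (lab μ) ↔ M.BlockTriangular (compLabel μ) := by
  unfold Matrix.BlockTriangular
  constructor
  · intro h i j hij
    exact h (show lab μ j < lab μ i from hij)
  · intro h i j hij
    exact h (show compLabel μ j < compLabel μ i from hij)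

/-- the parabolic subgroup as invertible block triangular matrices -/
def parabolicEquiv (F : Type*) [Field F] :
    ↥(Cfsg.parabolicGL n F μ) ≃ Cfsg.Agent.Helper40.BTInv F (lab μ) where
  toFun g := ⟨((g : GL (Fin n) F) : Matrix (Fin n) (Fin n) F),
    (blockTriangular_lab_iff μ _).2 g.2, Matrix.GeneralLinearGroup.det_ne_zero _⟩
  invFun M := ⟨Matrix.GeneralLinearGroup.mkOfDetNeZero M.1 M.2.2, (blockTriangular_lab_iff μ _).1 M.2.1⟩
  left_inv g := by
    apply Subtype.ext
    apply Units.ext
    rfl
  right_inv M := by
    apply Subtype.ext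
    rfl

theorem card_lab_castSucc (hμ : ∑ i, μ i = n) (a : Fin n) :
    Fintype.card {i : Fin n // lab μ i = a.castSucc} = μ a := by
  rw [← card_block μ hμ a]
  apply Fintype.card_congr
  apply Equiv.subtypeEquivRight
  intro i
  rw [Fin.ext_iff]
  rfl

theorem card_lab_last (hμ : ∑ i, μ i = n) :
    Fintype.card {i : Fin n // lab μ i = Fin.last n} = 0 := by
  rw [Fintype.card_eq_zero_iff]
  constructor
  rintro ⟨i, hi⟩
  have h1 := compLabel_lt μ hμ i
  rw [Fin.ext_iff] at hi
  have h2 : compLabel μ i = n := hi
  omega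

theorem index_formula {F : Type*} [Field F] [Fintype F] (hμ : ∑ i, μ i = n) :
    Nat.card (GL (Fin n) F ⧸ Cfsg.parabolicGL n F μ) * ∏ i : Fin n, qFact (Fintype.card F) (μ i) =
      qFact (Fintype.card F) n := by
  have hq : 1 < Fintype.card F := Fintype.one_lt_card
  have h1 := Subgroup.card_eq_card_quotient_mul_card_subgroup (Cfsg.parabolicGL n F μ)
  have h2 : Nat.card (GL (Fin n) F) = Fintype.card F ^ triNum n * (Fintype.card F - 1) ^ n *
      qFact (Fintype.card F) n := by
    rw [Matrix.card_GL_field]
    exact glCard_eq _ hq.le n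
  have h3 : Nat.card ↥(Cfsg.parabolicGL n F μ) = Fintype.card F ^ triNum n * (Fintype.card F - 1) ^ n *
      ∏ i : Fin n, qFact (Fintype.card F) (μ i) := by
    rw [Nat.card_congr (parabolicEquiv μ F), card_BTInv, Fintype.card_fin, Fin.prod_univ_castSucc,
      card_lab_last μ hμ]
    congr 1
    have : qFact (Fintype.card F) 0 = 1 := by simp [qFact]
    rw [this, mul_one]
    apply Finset.prod_congr rfl
    intro a _
    rw [card_lab_castSucc μ hμ a]
  rw [h2, h3] at h1
  have hpos : 0 < Fintype.card F ^ triNum n * (Fintype.card F - 1) ^ n := by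
    apply Nat.mul_pos
    · exact pow_pos (by omega) _
    · exact pow_pos (by omega) _
  apply Nat.eq_of_mul_eq_mul_left hpos
  rw [h1]
  ring

end helpers


/-- The number of partial flags of a given type: for a composition `μ` of `n` (with `n` parts, zeros allowed) and a field with `q` elements, the index of the standard parabolic subgroup `P_μ` in `GL_n(q)` times `∏_i {μ_i}` equals `{n}`, where `{r}` denotes the product over `k = 1, …, r` of the q-integers `1 + q + ⋯ + q^(k−1)`. -/
theorem result {F : Type*} [Field F] [Fintype F] {q : ℕ} (hq : Fintype.card F = q) {n : ℕ} (μ : Fin n → ℕ) (hμ : ∑ i, μ i = n) :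
    Nat.card (GL (Fin n) F ⧸ Cfsg.parabolicGL n F μ) * ∏ i : Fin n, ∏ j ∈ Finset.range (μ i), ∑ l ∈ Finset.range (j + 1), q ^ l =
      ∏ j ∈ Finset.range n, ∑ l ∈ Finset.range (j + 1), q ^ l := by
  subst hq
  exact index_formula μ hμ

end Cfsg.Agent.S2420
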