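import Cfsg.Statements.S1112
import Cfsg.Agent.Helper36.TwistF4
import Cfsg.Agent.S1025
import Cfsg.Agent.S1032

set_option autoImplicit false
open Cfsg

namespace Cfsg.Agent.S1112

open Cfsg.Lie Cfsg.Agent.Helper40.ChevAdd Cfsg.Agent.Helper36 Cfsg.Agent.Helper36.Perfect
  Cfsg.Agent.Helper36.ChevSimple Cfsg.Agent.Helper36.Twist Cfsg.Agent.Helper36.TwistF4
  Cfsg.Agent.Helper36.B2Class

theorem charP_two_of_card {K : Type*} [Field K] [Fintype K] {n : ℕ} (hn : n ≠ 0)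
    (hK : Fintype.card K = 2 ^ n) : CharP K 2 := by
  obtain ⟨p', hp'⟩ := CharP.exists K
  obtain ⟨k, hp'prime, hk⟩ := FiniteField.card K p'
  have h2 : 2 = p' := by
    have h1 : 2 ∣ p' ^ (k : ℕ) := by
      rw [← hk, hK]
      exact dvd_pow_self 2 hn
    exact (Nat.prime_dvd_prime_iff_eq Nat.prime_two hp'prime).mp (Nat.prime_two.dvd_of_dvd_pow h1)
  rw [h2]
  exact hp'

theorem gens_eq {K : Type*} [Field K] [CharP K 2] (e : ℕ) (φ : K →+* K) (hφ : ∀ x, φ x = x ^ e) :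
    {g : GL chevF4.Idx K | ∃ w ∈ f4Words K e, (g : Matrix chevF4.Idx chevF4.Idx K) = chevF4.wordMat K w}
      = gens φ := by
  have h1 : ∀ t : K, t ^ (e + 1) = φ t * t := by
    intro t
    rw [hφ, pow_succ]
  have h2 : ∀ u : K, u ^ (2 * e) = (φ u) ^ 2 := by
    intro u
    rw [hφ, ← pow_mul, mul_comm]
  ext g
  constructor
  · rintro ⟨w, hw, hg⟩
    rcases hw with ⟨t, rfl | rfl⟩ | ⟨t, u, rfl | rfl⟩
    · left
      refine ⟨t, Or.inl ?_⟩
      apply Units.ext
      rw [hg]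
      simp [ChevalleyDatum.wordMat, f4PairWord, f4p1, f4p4, Pp, hφ]
    · left
      refine ⟨t, Or.inr ?_⟩
      apply Units.ext
      rw [hg]
      simp [ChevalleyDatum.wordMat, f4PairWord, f4m1, f4m4, Pm, hφ]
    · right
      refine ⟨t, u, Or.inl ?_⟩
      apply Units.ext
      rw [hg]
      simp only [ChevalleyDatum.wordMat, b2ClassWord, f4a, f4b, f4ab, f4aab, Bp, beta, nf, List.map_cons,
        List.map_nil, List.prod_cons, List.prod_nil, mul_one, Units.val_mul, coe_xGL, h1, h2, ← hφ, mul_assoc]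
    · right
      refine ⟨t, u, Or.inr ?_⟩
      apply Units.ext
      rw [hg]
      simp only [ChevalleyDatum.wordMat, b2ClassWord, f4ma, f4mb, f4mab, f4maab, Bm, beta, nf, List.map_cons,
        List.map_nil, List.prod_cons, List.prod_nil, mul_one, Units.val_mul, coe_xGL, h1, h2, ← hφ, mul_assoc]
  · rintro (⟨t, rfl | rfl⟩ | ⟨t, u, rfl | rfl⟩)
    · refine ⟨f4PairWord e f4p1 f4p4 t, Or.inl ⟨t, Or.inl rfl⟩, ?_⟩
      simp [ChevalleyDatum.wordMat, f4PairWord, f4p1, f4p4, Pp, hφ]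
    · refine ⟨f4PairWord e f4m1 f4m4 t, Or.inl ⟨t, Or.inr rfl⟩, ?_⟩
      simp [ChevalleyDatum.wordMat, f4PairWord, f4m1, f4m4, Pm, hφ]
    · refine ⟨b2ClassWord e f4a f4b f4ab f4aab t u, Or.inr ⟨t, u, Or.inl rfl⟩, ?_⟩
      simp only [ChevalleyDatum.wordMat, b2ClassWord, f4a, f4b, f4ab, f4aab, Bp, beta, nf, List.map_cons,
        List.map_nil, List.prod_cons, List.prod_nil, mul_one, Units.val_mul, coe_xGL, h1, h2, ← hφ, mul_assoc]
    · refine ⟨b2ClassWord e f4ma f4mb f4mab f4maab t u, Or.inr ⟨t, u, Or.inr rfl⟩, ?_⟩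
      simp only [ChevalleyDatum.wordMat, b2ClassWord, f4ma, f4mb, f4mab, f4maab, Bm, beta, nf, List.map_cons,
        List.map_nil, List.prod_cons, List.prod_nil, mul_one, Units.val_mul, coe_xGL, h1, h2, ← hφ, mul_assoc]

/-- ²F₄(2^(2m+1)) (m ≥ 1) equals its derived subgroup. -/
theorem result {K : Type*} [Field K] [Fintype K] {m : ℕ} (hK : Fintype.card K = 2 ^ (2 * m + 1)) (hm : 1 ≤ m) : commutator ↥(Cfsg.Lie.twistedF4 K (2 ^ m)) = ⊤ := by
  have hchar : CharP K 2 := charP_two_of_card (by omega) hK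
  have hexp : ExpChar K 2 := ExpChar.prime Nat.prime_two
  set φ : K →+* K := iterateFrobenius K 2 m with hφdef
  have hφ : ∀ x, φ x = x ^ (2 ^ m) := fun x => iterateFrobenius_def 2 m x
  have hD : chevF4 ∈ [chevG2, chevB2, chevD4, chevF4, chevE6, chevE7, chevE8] := by simp
  have hcomm : CommHyp K chevF4 := fun r s hr hs hsr hsn t u =>
    Cfsg.Agent.S1025.result chevF4 hD r s hr hs hsr hsn t u
  have htor : TorHyp K chevF4 := fun i s hi hs c hc t =>
    Cfsg.Agent.S1032.result chevF4 hD i s hi hs c hc t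
  have hφ2 : ∀ t : K, (φ (φ t)) ^ 2 = t := by
    intro t
    rw [hφ, hφ, ← pow_mul, ← pow_mul]
    have : 2 ^ m * (2 ^ m * 2) = Fintype.card K := by
      rw [hK]; ring
    rw [this, FiniteField.pow_card]
  have hl : ∃ l : K, l ≠ 0 ∧ l ≠ 1 ∧ φ l * l ≠ 1 := by
    classical
    have hc : (({0, 1} : Finset K)).card < (Finset.univ : Finset K).card := by
      rw [Finset.card_univ, hK]
      have h8 : 2 ^ 3 ≤ 2 ^ (2 * m + 1) := Nat.pow_le_pow_right (by norm_num) (by omega)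
      exact lt_of_le_of_lt (Finset.card_le_two) (by omega)
    obtain ⟨l, -, hl⟩ := Finset.exists_mem_notMem_of_card_lt_card hc
    simp only [Finset.mem_insert, Finset.mem_singleton, not_or] at hl
    refine ⟨l, hl.1, hl.2, fun h => ?_⟩
    -- `φ l = l⁻¹`, so `φ (φ l) = l` and `l² = l`
    have h1 : φ l = l⁻¹ := eq_inv_of_mul_eq_one_left h
    have h2 : φ (φ l) = l := by rw [h1, map_inv₀, h1, inv_inv]
    have h3 := hφ2 l
    rw [h2] at h3
    have h4 : l * (l - 1) = 0 := by linear_combination h3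
    rcases mul_eq_zero.mp h4 with h5 | h5
    · exact hl.1 h5
    · exact hl.2 (sub_eq_zero.mp h5)
  have e : twistedF4 K (2 ^ m) = G₁ φ := by
    unfold twistedF4 ChevalleyDatum.genSubgroup G₁
    rw [gens_eq (2 ^ m) φ hφ]
  rw [e]
  exact TwistF4.perfect φ hcomm htor hφ2 hl

end Cfsg.Agent.S1112
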