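import Cfsg.Statements.S2327
import Cfsg.Agent.Helper19.Stein.ChevStein
import Cfsg.Agent.Helper18.UpStruct
import Cfsg.Agent.S1025
import Cfsg.Agent.S1031
import Cfsg.Agent.S1038

set_option autoImplicit false
open Cfsg

namespace Cfsg.Agent.S2327

/-- In a Chevalley group of type G₂, B₂, D₄, F₄, E₆, E₇ or E₈ over a finite field with q elements, the Steinberg character (the alternating sum of the permutation characters on the standard parabolic subgroups) has degree q^N, N the number of positive roots; this is the order of U and the largest power of the characteristic dividing the group order. -/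
theorem result {F : Type*} [Field F] [Fintype F] (D : Cfsg.Lie.ChevalleyDatum) (hD : D ∈ [Cfsg.Lie.chevG2, Cfsg.Lie.chevB2, Cfsg.Lie.chevD4, Cfsg.Lie.chevF4, Cfsg.Lie.chevE6, Cfsg.Lie.chevE7, Cfsg.Lie.chevE8]) :
    D.steinbergCharacter F 1 = (Fintype.card F : ℂ) ^ (D.nroots / 2) := by
  have h25 : Cfsg.Agent.Helper18.CommHyp D F :=
    fun r s hr hs h1 h2 t u => Cfsg.Agent.S1025.result D hD r s hr hs h1 h2 t u
  have h31 : Cfsg.Agent.Helper18.NConjHyp D F := fun i s hi hs => Cfsg.Agent.S1031.result D hD i s hi hs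
  obtain ⟨P, hB, hN, hS⟩ := Cfsg.Agent.Helper18.exists_bnPair (F := F) D hD h25
  have h45 : Cfsg.Agent.Helper19.Poinc.H45 D F := fun i hi =>
    ⟨Cfsg.Agent.Helper18.rootSubgroup_le_normalizer_Up D hD h25 i hi, Cfsg.Agent.Helper18.Up_sup_rootSubgroup D hD i hi⟩
  have hn : (Cfsg.Agent.Helper18.HN D F).Normal := Cfsg.Agent.S1038.result D hD
  obtain ⟨C⟩ := Cfsg.Agent.Helper19.Poinc.exists_cert D hD
  have h := Cfsg.Agent.Helper19.Stein.steinberg_restrict D hD C h31 h45 P hB hN hS _ hB 1
  rw [Cfsg.Agent.Helper19.Stein.fixedPoint_one_borel D hD] at h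
  exact h

end Cfsg.Agent.S2327
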