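import Cfsg.Statements.S0659
import Cfsg.Agent.Helper64.GTZJ

set_option autoImplicit false

namespace Cfsg.Agent.S0659

theorem result {G : Type*} [Group G] [Finite G] {p : ℕ} [Fact p.Prime] (hp : p ≠ 2) (P : Sylow p G) (hN : Cfsg.HasNormalPComplement p ↥(Subgroup.normalizer (Cfsg.centerThompsonAOf ((P : Subgroup G)) : Set G))) : Cfsg.HasNormalPComplement p G :=
  Cfsg.Agent.Helper64.hasNormalPComplement_of_normalizer_zj hp P hN

end Cfsg.Agent.S0659
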