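-- Statement S5089: O_p(F) ≠ 1 iff there is a nontrivial strongly closed abelian subgroup.
import Cfsg.Statements.S5089
import Cfsg.Agent.Helper87.FusionSeries
import Cfsg.Agent.S5085

set_option autoImplicit false
open Cfsg

namespace Cfsg.Agent.S5089

open Cfsg.Agent.Helper87 Cfsg.FusionSystem

/-- A saturated fusion system over a finite p-group has a nontrivial subgroup that is normal in the system (O_p(F) ≠ 1) if and only if some nontrivial abelian subgroup is strongly closed in the system. -/
theorem result {Ω : Type*} [Group Ω] {S : Subgroup Ω} [Finite S] (p : ℕ) [Fact p.Prime] (hS : IsPGroup p S) (F : Cfsg.FusionSystem S) (hF : F.IsSaturated p) : F.core ≠ ⊥ ↔ ∃ Q : Subgroup Ω, Q ≠ ⊥ ∧ IsMulCommutative Q ∧ F.StronglyClosed Q := by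
  constructor
  · intro hcore
    -- some nontrivial subgroup is normal in the system
    obtain ⟨N, hN, hNne⟩ : ∃ N : Subgroup Ω, F.IsNormal N ∧ N ≠ ⊥ := by
      by_contra hcon
      push Not at hcon
      apply hcore
      unfold FusionSystem.core
      rw [sSup_eq_bot]
      exact fun N hN => hcon N hN
    have hNS : N ≤ S := hN.1
    have hfin : Finite N := finite_of_le hNS
    have hNp : IsPGroup p N := hS.to_le hNS
    have hnt : Nontrivial N := (Subgroup.nontrivial_iff_ne_bot N).mpr hNne
    have hZnt : Nontrivial (Subgroup.center N) := hNp.center_nontrivial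
    refine ⟨(Subgroup.center N).map N.subtype, ?_, inferInstance, ?_⟩
    · intro hbot
      rw [Subgroup.map_eq_bot_iff_of_injective _ N.subtype_injective] at hbot
      exact (Subgroup.nontrivial_iff_ne_bot _).mp hZnt hbot
    · apply stronglyClosed_of_isNormal
      apply Cfsg.Agent.S5085.result F N _ hN (Subgroup.map_subtype_le _)
      have h1 : ((Subgroup.center N).map N.subtype).subgroupOf N = Subgroup.center N :=
        Subgroup.comap_map_eq_self_of_injective N.subtype_injective _
      rw [h1]
      infer_instance
  · rintro ⟨Q, hQne, hQc, hQ⟩
    have hQn : F.IsNormal Q := by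
      apply isNormal_of_weaklyClosed_series_nat hS F hF hQ 1 (fun j => if j = 0 then ⊥ else Q)
      · simp
      · simp
      · intro i j hij
        by_cases hi : i = 0
        · simp [hi]
        · have hj : j ≠ 0 := by omega
          simp [hi, hj]
      · intro j hj
        have hj0 : j = 0 := by omega
        subst hj0
        simp only [zero_add, one_ne_zero, if_false, if_true, le_bot_iff]
        exact Subgroup.commutator_self_eq_bot_iff.mpr hQc
      · intro j hj
        have hj0 : j = 0 := by omega
        subst hj0
        simp only [if_true]
        exact weaklyClosed_of_stronglyClosed F (stronglyClosed_bot F)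
    intro hbot
    apply hQne
    have : Q ≤ F.core := le_sSup hQn
    rw [hbot] at this
    exact le_bot_iff.mp this

end Cfsg.Agent.S5089
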