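import Cfsg.Statements.S5081
import Cfsg.Agent.Helper87.FusionEssential

set_option autoImplicit false
open Cfsg Cfsg.FusionSystem Cfsg.Agent.Helper87

namespace Cfsg.Agent.S5081

variable {Ω : Type*} [Group Ω] {S : Subgroup Ω}

/-- If `P` is essential, the automorphisms of `P` extending to larger subgroups do not generate `Aut_F(P)`. -/
theorem not_le_of_essential [Finite S] {p : ℕ} [Fact p.Prime] (hS : IsPGroup p S) (F : FusionSystem S)
    {P : Subgroup Ω} (hPS' : P ≤ S) (hPa : F.IsFullyAutomized p P) (hess : F.IsEssential p P)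
    (H : Subgroup (MulAut P))
    (hH : H = Subgroup.closure {α : MulAut P | ∃ (Q : Subgroup Ω) (hPQ : P < Q) (φ : Q →* Ω), φ ∈ F.Hom Q ∧
      ∀ x : P, φ (Subgroup.inclusion hPQ.le x) = α x})
    (hHA : H ≤ F.autGroup P) : ¬ F.autGroup P ≤ H := by
  intro hcase
  obtain ⟨hcen, -, hn, M, hM⟩ := hess
  have hfinA : Finite (MulAut P) := finite_mulAut_of_le hPS'
  set N : Subgroup (F.autGroup P) := (Inn P).subgroupOf (F.autGroup P) with hN
  let π : F.autGroup P →* F.autGroup P ⧸ N := QuotientGroup.mk' N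
  have hπ : Function.Surjective π := QuotientGroup.mk'_surjective N
  obtain ⟨T₁, hT₁M, -⟩ := Helper48.exists_sylow_le_of_stronglyPEmbedded hM
  obtain ⟨-, T₀, hT₀⟩ := hPa
  let T : Sylow p (F.autGroup P ⧸ N) := T₀.mapSurjective hπ
  have hT : (T : Subgroup (F.autGroup P ⧸ N)) = (T₀ : Subgroup (F.autGroup P)).map π :=
    Sylow.coe_mapSurjective hπ T₀
  obtain ⟨y, hy⟩ := exists_conj_mem_sylow_of_isPGroup T₁ (T : Subgroup (F.autGroup P ⧸ N)) T.2
  have hyM : ∀ v ∈ (T : Subgroup (F.autGroup P ⧸ N)), y * v * y⁻¹ ∈ M := fun v hv => hT₁M (hy v hv)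
  -- the subgroup of `Aut_F(P)` of the elements whose image lies in the conjugate of `M`
  let K' : Subgroup (F.autGroup P) := (M.comap (MulAut.conj y).toMonoidHom).comap π
  have hK' : ∀ a : F.autGroup P, a ∈ K' ↔ y * π a * y⁻¹ ∈ M := fun a => Iff.rfl
  have hHK : H ≤ K'.map (F.autGroup P).subtype := by
    rw [hH, Subgroup.closure_le]
    rintro α ⟨Q, hPQ, φ, hφ, hφα⟩
    have hαH : α ∈ H := by
      rw [hH]; exact Subgroup.subset_closure ⟨Q, hPQ, φ, hφ, hφα⟩
    have hαA : α ∈ F.autGroup P := hHA hαH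
    refine ⟨⟨α, hαA⟩, ?_, rfl⟩
    show (⟨α, hαA⟩ : F.autGroup P) ∈ K'
    rw [hK']
    have hQS : Q ≤ S := (F.le_of_mem hφ).1
    obtain ⟨g, hgQ, hgN, hgP⟩ := exists_mem_normalizer_not_mem hS hPS' hQS
      (hPQ.le.trans Subgroup.le_normalizer) (not_le_of_gt hPQ)
    have hgS : g ∈ S := hQS hgQ
    have htA : conjAut P g hgN ∈ F.autGroup P :=
      (mem_autGroup_iff F hPS' _).mpr (isIso_conjAut F hPS' hgS hgN)
    let t : F.autGroup P := ⟨conjAut P g hgN, htA⟩
    have htT₀ : t ∈ (T₀ : Subgroup (F.autGroup P)) := by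
      rw [hT₀, Subgroup.mem_subgroupOf]
      exact (mem_autInducedBy_iff S P _).mpr ⟨g, hgS, fun x => rfl⟩
    -- conjugation by `φ g` is `α t α⁻¹`
    have hφgS : φ ⟨g, hgQ⟩ ∈ S := (F.le_of_mem hφ).2 _
    have hrel : ∀ x : P, (((α (conjAut P g hgN x) : P)) : Ω) = φ ⟨g, hgQ⟩ * ((α x : P) : Ω) * (φ ⟨g, hgQ⟩)⁻¹ := by
      intro x
      rw [← hφα, ← hφα]
      have e : Subgroup.inclusion hPQ.le (conjAut P g hgN x) =
          (⟨g, hgQ⟩ : Q) * Subgroup.inclusion hPQ.le x * (⟨g, hgQ⟩ : Q)⁻¹ := Subtype.ext rfl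
      rw [e, map_mul, map_mul, map_inv]
    have ht'T₀ : (⟨α, hαA⟩ : F.autGroup P) * t * (⟨α, hαA⟩ : F.autGroup P)⁻¹ ∈ (T₀ : Subgroup (F.autGroup P)) := by
      rw [hT₀, Subgroup.mem_subgroupOf]
      refine (mem_autInducedBy_iff S P _).mpr ⟨φ ⟨g, hgQ⟩, hφgS, fun z => ?_⟩
      have := hrel (α⁻¹ z)
      simp only [MulAut.apply_inv_self] at this
      simp only [Subgroup.coe_mul, Subgroup.coe_inv, MulAut.mul_apply]
      exact this
    have hvT : π t ∈ (T : Subgroup (F.autGroup P ⧸ N)) := by rw [hT]; exact ⟨t, htT₀, rfl⟩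
    have hv'T : π (⟨α, hαA⟩ : F.autGroup P) * π t * (π (⟨α, hαA⟩ : F.autGroup P))⁻¹ ∈
        (T : Subgroup (F.autGroup P ⧸ N)) := by
      rw [hT]
      exact ⟨_, ht'T₀, by rw [map_mul, map_mul, map_inv]⟩
    have hv1 : π t ≠ 1 := by
      intro h1
      have hN' : t ∈ N := (QuotientGroup.eq_one_iff _).mp h1
      obtain ⟨r, hr⟩ := hN'
      apply hgP
      refine mem_of_conj_eq_inner (hcen.2 P (isConj_refl F hPS')) hgS hPS' r (fun x => ?_)
      exact congrArg (fun β : MulAut P => ((β x : P) : Ω)) hr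
    -- apply the control of fusion by the strongly `p`-embedded subgroup
    have hQH : Helper48.conjSub y (Subgroup.zpowers (π t)) ≤ M :=
      Helper48.conjSub_zpowers_le (hyM _ hvT)
    have hQp : IsPGroup p (Helper48.conjSub y (Subgroup.zpowers (π t))) :=
      Helper48.isPGroup_conjSub (T.2.to_le (Subgroup.zpowers_le.mpr hvT))
    have hQne : Helper48.conjSub y (Subgroup.zpowers (π t)) ≠ ⊥ :=
      Helper48.conjSub_ne_bot (by rw [Ne, Subgroup.zpowers_eq_bot]; exact hv1)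
    refine Helper48.mem_of_conjSub_le hM hQH hQp hQne ?_
    rw [Helper48.conjSub_conjSub]
    apply Helper48.conjSub_zpowers_le
    have := hyM _ hv'T
    have e : y * π (⟨α, hαA⟩ : F.autGroup P) * y⁻¹ * y * π t * (y * π (⟨α, hαA⟩ : F.autGroup P) * y⁻¹ * y)⁻¹ =
        y * (π (⟨α, hαA⟩ : F.autGroup P) * π t * (π (⟨α, hαA⟩ : F.autGroup P))⁻¹) * y⁻¹ := by group
    rw [e]
    exact this
  -- so `M` is everything, a contradiction
  apply hM.2.1
  rw [eq_top_iff]
  intro m _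
  obtain ⟨a, ha⟩ := hπ (y⁻¹ * m * y)
  obtain ⟨a', ha'K, ha'⟩ := hHK (hcase a.2)
  have haa' : a' = a := Subtype.ext ha'
  have ha'K' : a' ∈ K' := ha'K
  rw [haa', hK', ha] at ha'K'
  have e : y * (y⁻¹ * m * y) * y⁻¹ = m := by group
  rwa [e] at ha'K'

/-- Let F be a saturated fusion system over a finite p-group S, P a proper subgroup of S that is fully normalized, and H the subgroup of Aut_F(P) generated by the automorphisms that extend to maps of the system defined on strictly larger subgroups of S. Then either P is not essential and H is all of Aut_F(P), or P is essential and the image of H in Out_F(P) = Aut_F(P)/Inn(P) is strongly p-embedded there. -/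
theorem result {Ω : Type*} [Group Ω] {S : Subgroup Ω} [Finite S] (p : ℕ) [Fact p.Prime] (hS : IsPGroup p S) (F : Cfsg.FusionSystem S) (hF : F.IsSaturated p) (P : Subgroup Ω) (hPS : P < S) (hPn : F.IsFullyNormalized P) (H : Subgroup (MulAut P)) (hH : H = Subgroup.closure {α : MulAut P | ∃ (Q : Subgroup Ω) (hPQ : P < Q) (φ : Q →* Ω), φ ∈ F.Hom Q ∧ ∀ x : P, φ (Subgroup.inclusion hPQ.le x) = α x}) : (¬ F.IsEssential p P ∧ H = F.autGroup P) ∨ (F.IsEssential p P ∧ ∃ _ : ((Cfsg.Inn P).subgroupOf (F.autGroup P)).Normal, Cfsg.IsStronglyPEmbedded p ((H.subgroupOf (F.autGroup P)).map (QuotientGroup.mk' ((Cfsg.Inn P).subgroupOf (F.autGroup P))))) := by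
  have hPS' : P ≤ S := hPS.le
  obtain ⟨hPc, hPa⟩ := fullyAutomized_fullyCentralized_of_fullyNormalized hS F hF hPn
  have hPr := receptive_of_fullyCentralized hS F hF hPc
  have hHA : H ≤ F.autGroup P := by
    rw [hH, Subgroup.closure_le]
    rintro α ⟨Q, hPQ, φ, hφ, hφα⟩
    rw [SetLike.mem_coe, mem_autGroup_iff F hPS']
    exact mem_of_eq F (restrict_mem F hφ hPQ.le) (fun x => (hφα x).symm)
  have hInn : Inn P ≤ H := by
    rintro ν ⟨r, rfl⟩
    rw [hH]
    apply Subgroup.subset_closure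
    exact ⟨S, hPS, conjHom S r, F.conj_mem le_rfl (hPS' r.2), fun x => rfl⟩
  have key : ∀ α ∈ F.autGroup P,
      (∃ g ∈ extender S P (P.subtype.comp (α : P ≃* P).toMonoidHom), g ∉ P) → α ∈ H := by
    rintro α hα ⟨g, hg, hgP⟩
    have hαiso := (mem_autGroup_iff F hPS' α).mp hα
    obtain ⟨ψ, hψ, hψx⟩ := hPr.2 P _ hαiso (range_subtype_comp_equiv (α : P ≃* P))
    have hle := le_extender_of_aut hPS' α
    have hlt : P < extender S P (P.subtype.comp (α : P ≃* P).toMonoidHom) :=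
      lt_of_le_of_ne hle (fun h => hgP (h ▸ hg))
    rw [hH]
    apply Subgroup.subset_closure
    exact ⟨_, hlt, ψ, hψ, fun x => hψx x x.2 (hle x.2)⟩
  by_cases hcase : F.autGroup P ≤ H
  · left
    exact ⟨fun hess => not_le_of_essential hS F hPS' hPa hess H hH hHA hcase, le_antisymm hHA hcase⟩
  · right
    obtain ⟨hcen, hn, hspe⟩ := stronglyPEmbedded_of_extendable hS F hPa hPr hPS H hInn key hcase
    exact ⟨⟨hcen, hPn, hn, _, hspe⟩, hn, hspe⟩

end Cfsg.Agent.S5081
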