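import Cfsg.Statements.S5326
import Cfsg.Agent.Helper87.FusionGen2
import Cfsg.Agent.S5081

set_option autoImplicit false
open Cfsg Cfsg.FusionSystem Cfsg.Agent.Helper87

namespace Cfsg.Agent.S5326

variable {Ω : Type*} [Group Ω] {S : Subgroup Ω}

/-- An essential subgroup is a proper subgroup of `S` (in a saturated system). -/
theorem lt_of_isEssential [Finite S] {p : ℕ} [Fact p.Prime] (hS : IsPGroup p S) (F : FusionSystem S)
    (hF : F.IsSaturated p) {Q : Subgroup Ω} (hQ : F.IsEssential p Q) : Q < S := by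
  have hQS : Q ≤ S := hQ.1.1
  refine lt_of_le_of_ne hQS ?_
  rintro rfl
  obtain ⟨-, hQa⟩ := fullyAutomized_fullyCentralized_of_fullyNormalized hS F hF hQ.2.1
  obtain ⟨-, -, hn, M, hdiv, -, -⟩ := hQ
  obtain ⟨-, T₀, hT₀⟩ := hQa
  have hfin : Finite (MulAut Q) := finite_mulAut_of_le le_rfl
  have heq : (Inn Q).subgroupOf (F.autGroup Q) = (T₀ : Subgroup (F.autGroup Q)) := by
    rw [hT₀]
    ext a
    rw [Subgroup.mem_subgroupOf, Subgroup.mem_subgroupOf, mem_autInducedBy_iff]
    constructor
    · rintro ⟨r, hr⟩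
      refine ⟨r, r.2, fun x => ?_⟩
      rw [← hr]
      rfl
    · rintro ⟨g, hg, hgx⟩
      refine ⟨⟨g, hg⟩, ?_⟩
      ext x
      rw [hgx x]
      rfl
  have h1 : Nat.card (F.autGroup Q ⧸ (Inn Q).subgroupOf (F.autGroup Q)) =
      ((Inn Q).subgroupOf (F.autGroup Q)).index := rfl
  rw [h1, heq] at hdiv
  exact T₀.not_dvd_index hdiv

/-- Let F be a saturated fusion system over a finite p-group S and Q an essential subgroup. Then the F-conjugacy class of Q cannot be left out of a generating family: there is a fusion system E over S whose automorphism group of every subgroup R ≤ S not F-conjugate to Q contains Aut_F(R), and yet E does not contain every map of F. -/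
theorem result {Ω : Type*} [Group Ω] {S : Subgroup Ω} [Finite S] (p : ℕ) [Fact p.Prime] (hS : IsPGroup p S) (F : Cfsg.FusionSystem S) (hF : F.IsSaturated p) (Q : Subgroup Ω) (hQ : F.IsEssential p Q) : ∃ E : Cfsg.FusionSystem S, (∀ R : Subgroup Ω, R ≤ S → ¬ F.IsConj Q R → F.autGroup R ≤ E.autGroup R) ∧ ¬ F ≤ E := by
  have hQlt : Q < S := lt_of_isEssential hS F hF hQ
  have hQS : Q ≤ S := hQlt.le
  obtain ⟨hQc, hQa⟩ := fullyAutomized_fullyCentralized_of_fullyNormalized hS F hF hQ.2.1
  have hQr := receptive_of_fullyCentralized hS F hF hQc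
  refine ⟨genSystem F Q hQlt, fun R hRS hnot α hα => ?_, fun hle => ?_⟩
  · rw [mem_autGroup_iff _ hRS]
    exact ⟨(mem_autGroup_iff F hRS α).mp hα, fun h => absurd h hnot⟩
  · set H : Subgroup (MulAut Q) := Subgroup.closure {α : MulAut Q | ∃ (R : Subgroup Ω) (hQR : Q < R) (φ : R →* Ω),
      φ ∈ F.Hom R ∧ ∀ x : Q, φ (Subgroup.inclusion hQR.le x) = α x} with hH
    have hHA : H ≤ F.autGroup Q := by
      rw [hH, Subgroup.closure_le]
      rintro α ⟨R, hQR, φ, hφ, hφα⟩
      rw [SetLike.mem_coe, mem_autGroup_iff F hQS]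
      exact mem_of_eq F (restrict_mem F hφ hQR.le) (fun x => (hφα x).symm)
    apply Cfsg.Agent.S5081.not_le_of_essential hS F hQS hQa hQ H hH hHA
    intro α hα
    have hαF := (mem_autGroup_iff F hQS α).mp hα
    have hαE : Q.subtype.comp (α : Q ≃* Q).toMonoidHom ∈ (genSystem F Q hQlt).Hom Q := hle Q hαF
    obtain ⟨Q'', e, hGe, hex⟩ := hαE.2 (isConj_refl F hQS)
    have heq : Q'' = Q := by
      ext y
      constructor
      · intro hy
        have := hex (e.symm ⟨y, hy⟩)
        rw [MulEquiv.apply_symm_apply] at this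
        have h2 : y = ((α (e.symm ⟨y, hy⟩) : Q) : Ω) := this
        rw [h2]
        exact (α _).2
      · intro hy
        have := hex (α⁻¹ ⟨y, hy⟩)
        have h2 : ((e (α⁻¹ ⟨y, hy⟩) : Q'') : Ω) = y := by
          rw [this]
          show ((α (α⁻¹ ⟨y, hy⟩) : Q) : Ω) = y
          simp
        rw [← h2]
        exact (e _).2
    subst heq
    have heα : (e : MulAut Q'') = α := by
      ext x
      exact hex x
    have hψ : (normalizerIn S Q'').subtype ∈ F.Hom (normalizerIn S Q'') := subtype_mem F inf_le_left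
    have := gen_mem_closure hS F hQa hQr H hH hGe hQS hQS _ _ (MulEquiv.refl Q'') (MulEquiv.refl Q'') hψ hψ
      (fun x => rfl) (fun x => rfl)
    have e2 : ((MulEquiv.refl Q'').symm.trans (e.trans (MulEquiv.refl Q'')) : MulAut Q'') = α := by
      rw [← heα]
      ext x
      rfl
    rw [e2] at this
    exact this

end Cfsg.Agent.S5326
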