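-- Statement S5104 (helper85): fully centralized + C_S(U) ≤ U ⇒ U is F-centric (saturated F).
import Cfsg.Statements.S5104
import Cfsg.Agent.Helper87.FusionExtend

set_option autoImplicit false
open Cfsg

namespace Cfsg.Agent.S5104

open Cfsg.Agent.Helper87 Cfsg.FusionSystem

variable {Ω : Type*} [Group Ω] {S : Subgroup Ω}

theorem centralizerIn_le_normalizerIn (Q : Subgroup Ω) : centralizerIn S Q ≤ normalizerIn S Q :=
  inf_le_inf le_rfl (Subgroup.centralizer_le_normalizer _)

/-- A map defined on `N_S(Q)` restricting to an isomorphism `Q ≃ P` carries `C_S(Q)` into `C_S(P)`. -/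
theorem map_centralizerIn_mem (F : FusionSystem S) {P Q : Subgroup Ω} (hQ : Q ≤ S)
    {φ : ↥(normalizerIn S Q) →* Ω} (hφ : φ ∈ F.Hom (normalizerIn S Q)) (e : Q ≃* P)
    (hφe : ∀ x : Q, φ ⟨x, le_normalizerIn hQ x.2⟩ = e x) (c : Ω) (hc : c ∈ centralizerIn S Q) :
    φ ⟨c, centralizerIn_le_normalizerIn Q hc⟩ ∈ centralizerIn S P := by
  refine ⟨(F.le_of_mem hφ).2 _, Subgroup.mem_centralizer_iff.mpr ?_⟩
  intro y hy
  have hy' : y = φ ⟨(e.symm ⟨y, hy⟩ : Q), le_normalizerIn hQ (e.symm ⟨y, hy⟩).2⟩ := by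
    rw [hφe, MulEquiv.apply_symm_apply]
  rw [hy', ← map_mul, ← map_mul]
  congr 1
  apply Subtype.ext
  exact hc.2 _ (e.symm ⟨y, hy⟩).2

/-- In a saturated fusion system over a finite p-group S, a fully centralized subgroup U with C_S(U) ≤ U is centric. -/
theorem result {Ω : Type*} [Group Ω] {S : Subgroup Ω} [Finite S] (p : ℕ) [Fact p.Prime] (hS : IsPGroup p S) (F : Cfsg.FusionSystem S) (hF : F.IsSaturated p) (U : Subgroup Ω) (hU : F.IsFullyCentralized U) (hC : Cfsg.FusionSystem.centralizerIn S U ≤ U) : F.IsCentric U := by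
  obtain ⟨hUS, hUmax⟩ := hU
  refine ⟨hUS, fun Q hQ => ?_⟩
  -- a fully automized receptive conjugate `P` of `U`
  obtain ⟨P, hUP, hPa, hPr⟩ := hF U hUS
  obtain ⟨eU, heU⟩ := (isConj_iff F U P).1 hUP
  obtain ⟨eQ₀, heQ₀⟩ := (isConj_iff F U Q).1 hQ
  have hQS : Q ≤ S := heQ₀.le_right
  -- extensions to the normalizers
  obtain ⟨φU, hφU, eU', heU', hφUe⟩ := exists_extension_normalizerIn hS F hPa hPr eU heU
  obtain ⟨φQ, hφQ, eQ', heQ', hφQe⟩ := exists_extension_normalizerIn hS F hPa hPr (eQ₀.symm.trans eU)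
    (heQ₀.symm.trans heU)
  -- `C_S(P) ≤ P`
  have hCP : centralizerIn S P ≤ P := by
    -- the image of `C_S(U)` under `φU`
    set D : Subgroup Ω := ((centralizerIn S U).subgroupOf (normalizerIn S U)).map φU with hD
    have hDle : D ≤ centralizerIn S P := by
      rintro _ ⟨c, hc, rfl⟩
      exact map_centralizerIn_mem F hUS hφU eU' hφUe c hc
    have hDP : D ≤ P := by
      rintro _ ⟨c, hc, rfl⟩
      have hcU : (c : Ω) ∈ U := hC hc
      have : c = ⟨(⟨c, hcU⟩ : U), le_normalizerIn hUS hcU⟩ := Subtype.ext rfl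
      rw [this, hφUe]
      exact (eU' _).2
    have hcardD : Nat.card D = Nat.card (centralizerIn S U) := by
      rw [hD, Subgroup.card_map_of_injective (F.injective_of_mem hφU)]
      exact Nat.card_congr (Subgroup.subgroupOfEquivOfLe (centralizerIn_le_normalizerIn U)).toEquiv
    have hfin : Finite (centralizerIn S P) := finite_of_le inf_le_left
    have hle : Nat.card (centralizerIn S P) ≤ Nat.card D := by
      rw [hcardD]
      exact hUmax P hUP
    have : D = centralizerIn S P := Subgroup.eq_of_le_of_card_ge hDle hle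
    rw [← this]
    exact hDP
  -- conclude for `Q`
  intro c hc
  have h1 := map_centralizerIn_mem F hQS hφQ eQ' hφQe c hc
  have h2 : φQ ⟨c, centralizerIn_le_normalizerIn Q hc⟩ ∈ P := hCP h1
  have h3 := hφQe (eQ'.symm ⟨_, h2⟩)
  rw [MulEquiv.apply_symm_apply] at h3
  have h4 := F.injective_of_mem hφQ h3
  have h5 : ((eQ'.symm ⟨_, h2⟩ : Q) : Ω) = c := congrArg Subtype.val h4
  rw [← h5]
  exact (eQ'.symm ⟨_, h2⟩).2

end Cfsg.Agent.S5104
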