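-- Statement S5097: the centralizer system C_F(Q) exists as a fusion system over C_S(Q).
import Cfsg.Statements.S5097
import Cfsg.Agent.Helper85.Basic

set_option autoImplicit false
open Cfsg

namespace Cfsg.Agent.S5097

open Cfsg.Agent.Helper85 Cfsg.FusionSystem

variable {Ω : Type*} [Group Ω] {S : Subgroup Ω}

theorem conj_mem_centralizerHom (F : FusionSystem S) {Q : Subgroup Ω} (hQ : Q ≤ S) {P : Subgroup Ω} {g : Ω}
    (hP : P ≤ centralizerIn S Q) (hg : g ∈ centralizerIn S Q) : conjHom P g ∈ F.centralizerHom Q P := by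
  have hPS : P ≤ S := hP.trans inf_le_left
  have hgS : g ∈ S := hg.1
  have hgC : g ∈ Subgroup.centralizer (Q : Set Ω) := hg.2
  refine ⟨F.conj_mem hPS hgS, hP, fun x => ?_, conjHom (P ⊔ Q) g,
    F.conj_mem (sup_le hPS hQ) hgS, fun x => rfl, fun x => ?_⟩
  · exact (centralizerIn S Q).mul_mem ((centralizerIn S Q).mul_mem hg (hP x.2)) ((centralizerIn S Q).inv_mem hg)
  · show g * (x : Ω) * g⁻¹ = x
    have := hgC (x : Ω) x.2
    rw [← this, mul_inv_cancel_right]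

theorem comp_mem_centralizerHom (F : FusionSystem S) {Q : Subgroup Ω} {P P' : Subgroup Ω} {φ : P →* Ω}
    {ψ : P' →* Ω} (hφ : φ ∈ F.centralizerHom Q P) (hψ : ψ ∈ F.centralizerHom Q P') (h : ∀ x : P, φ x ∈ P') :
    ψ.comp (φ.codRestrict P' h) ∈ F.centralizerHom Q P := by
  obtain ⟨hφF, hPN, hφN, φ', hφ', hφext, hφQ⟩ := hφ
  obtain ⟨hψF, hP'N, hψN, ψ', hψ', hψext, hψQ⟩ := hψ
  -- φ' maps P ⊔ Q into P' ⊔ Q
  have h' : ∀ x : ↥(P ⊔ Q), φ' x ∈ P' ⊔ Q := by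
    refine forall_mem_of_sup ((P' ⊔ Q).comap φ') (fun x => ?_) (fun x => ?_)
    · show φ' _ ∈ P' ⊔ Q
      rw [hφext]
      exact (le_sup_left : P' ≤ P' ⊔ Q) (h x)
    · show φ' _ ∈ P' ⊔ Q
      rw [hφQ]
      exact (le_sup_right : Q ≤ P' ⊔ Q) x.2
  refine ⟨F.comp_mem hφF hψF h, hPN, fun x => hψN _, ψ'.comp (φ'.codRestrict (P' ⊔ Q) h'),
    F.comp_mem hφ' hψ' h', fun x => ?_, fun x => ?_⟩
  · show ψ' _ = ψ _
    rw [← hψext]
    congr 1
    apply Subtype.ext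
    show φ' _ = φ x
    exact hφext x
  · show ψ' _ = (x : Ω)
    rw [← hψQ x]
    congr 1
    apply Subtype.ext
    show φ' _ = (x : Ω)
    exact hφQ x

theorem inv_mem_centralizerHom (F : FusionSystem S) {Q : Subgroup Ω} {P : Subgroup Ω} {φ : P →* Ω}
    (hφ : φ ∈ F.centralizerHom Q P) :
    ∃ ψ ∈ F.centralizerHom Q φ.range, ∀ x : P, ψ ⟨φ x, ⟨x, rfl⟩⟩ = (x : Ω) := by
  obtain ⟨hφF, hPN, hφN, φ', hφ', hφext, hφQ⟩ := hφ
  obtain ⟨ψ, hψ, hψinv⟩ := F.inv_mem hφF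
  obtain ⟨ψ', hψ', hψ'inv⟩ := F.inv_mem hφ'
  have hle : φ.range ⊔ Q ≤ φ'.range := by
    refine sup_le ?_ ?_
    · rintro _ ⟨x, rfl⟩
      exact ⟨_, hφext x⟩
    · intro y hy
      exact ⟨_, hφQ ⟨y, hy⟩⟩
  refine ⟨ψ, ⟨hψ, ?_, ?_, ψ'.comp (Subgroup.inclusion hle), restrict_mem F hψ' hle, ?_, ?_⟩, hψinv⟩
  · rintro _ ⟨x, rfl⟩
    exact hφN x
  · rintro ⟨_, x, rfl⟩
    rw [hψinv]
    exact hPN x.2
  · rintro ⟨_, x, rfl⟩
    rw [hψinv]
    have : (Subgroup.inclusion hle (Subgroup.inclusion le_sup_left (⟨φ x, ⟨x, rfl⟩⟩ : φ.range))) =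
        ⟨φ' (Subgroup.inclusion le_sup_left x), ⟨_, rfl⟩⟩ := Subtype.ext (hφext x).symm
    show ψ' _ = _
    rw [this, hψ'inv]
    rfl
  · intro x
    have : Subgroup.inclusion hle (Subgroup.inclusion le_sup_right x) =
        ⟨φ' (Subgroup.inclusion le_sup_right x), ⟨_, rfl⟩⟩ := Subtype.ext (hφQ x).symm
    show ψ' _ = (x : Ω)
    rw [this, hψ'inv]
    rfl

/-- The centralizer system of `Q ≤ S`, as a fusion system over `C_S(Q)`. -/
def centralizerSystem (F : FusionSystem S) (Q : Subgroup Ω) (hQ : Q ≤ S) : FusionSystem (centralizerIn S Q) where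
  Hom P := F.centralizerHom Q P
  le_of_mem h := ⟨h.2.1, h.2.2.1⟩
  injective_of_mem h := F.injective_of_mem h.1
  conj_mem hP hg := conj_mem_centralizerHom F hQ hP hg
  comp_mem hφ hψ h := comp_mem_centralizerHom F hφ hψ h
  inv_mem hφ := inv_mem_centralizerHom F hφ

/-- For a fusion system F over a subgroup S and a subgroup Q of S, there is a fusion system E over the centralizer C_S(Q) whose maps with each source are exactly the maps of the centralizer system C_F(Q). -/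
theorem result {Ω : Type*} [Group Ω] {S : Subgroup Ω} (F : Cfsg.FusionSystem S) (Q : Subgroup Ω) (hQ : Q ≤ S) : ∃ E : Cfsg.FusionSystem (Cfsg.FusionSystem.centralizerIn S Q), F.IsCentralizerSystem Q E := by
  exact ⟨centralizerSystem F Q hQ, fun P => rfl⟩

end Cfsg.Agent.S5097
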