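-- Statement S5153 (helper85)
import Cfsg.Statements.S5153
import Cfsg.Agent.Helper87.FusionRS

set_option autoImplicit false
open Cfsg

namespace Cfsg.Agent.S5153

open Cfsg.Agent.Helper87 Cfsg.FusionSystem

variable {Ω : Type*} [Group Ω]

/-- One step: a subgroup of a strongly closed `T` that is fully normalized in the saturated system `F` is fully
normalized in every subsystem of `F` over `T`. -/
theorem fullyNormalized_of_subsystem {S : Subgroup Ω} [Finite S] {p : ℕ} [Fact p.Prime] (hS : IsPGroup p S)
    (F : FusionSystem S) (hF : F.IsSaturated p) {T : Subgroup Ω} (E : FusionSystem T) (hEF : E.IsSubsystemOf F)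
    (hT : F.StronglyClosed T) (P : Subgroup Ω) (hPT : P ≤ T) (hP : F.IsFullyNormalized P) :
    E.IsFullyNormalized P := by
  refine ⟨hPT, fun Q hQ => ?_⟩
  obtain ⟨φ₀, hφ₀, hrange⟩ := hQ
  have hQF : F.IsConj P Q := ⟨φ₀, hEF P hφ₀, hrange⟩
  have hQT : Q ≤ T := by
    rw [← hrange]
    rintro _ ⟨x, rfl⟩
    exact (E.le_of_mem hφ₀).2 x
  obtain ⟨hPc, hPa⟩ := fullyAutomized_fullyCentralized_of_fullyNormalized hS F hF hP
  have hPr := receptive_of_fullyCentralized hS F hF hPc
  obtain ⟨e, he⟩ := (isConj_iff F Q P).1 (isConj_symm F hQF)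
  obtain ⟨φ, hφ, e', he', hφx, hvalN, -, -⟩ := exists_extension_normalizerIn' hS F hPa hPr e he
  have hTS : T ≤ S := hT.1
  have hle : normalizerIn T Q ≤ normalizerIn S Q := inf_le_inf_right _ hTS
  have hleT : normalizerIn T Q ≤ T := inf_le_left
  have hmem : ∀ x : ↥(normalizerIn T Q), φ (Subgroup.inclusion hle x) ∈ normalizerIn T P := by
    intro x
    refine ⟨?_, (hvalN _).2⟩
    exact hT.2 (normalizerIn T Q) hleT _ (restrict_mem F hφ hle) x
  have hfin : Finite ↥(normalizerIn T P) := finite_of_le (inf_le_left.trans hTS)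
  refine Nat.card_le_card_of_injective (fun x => (⟨φ (Subgroup.inclusion hle x), hmem x⟩ : ↥(normalizerIn T P))) ?_
  intro a b hab
  have h1 : φ (Subgroup.inclusion hle a) = φ (Subgroup.inclusion hle b) := congrArg Subtype.val hab
  exact Subgroup.inclusion_injective hle (F.injective_of_mem hφ h1)

theorem le_of_isSubnormalIn {T S : Subgroup Ω} {E : FusionSystem T} {F : FusionSystem S} {p : ℕ}
    (h : E.IsSubnormalIn F p) : T ≤ S := by
  induction h with
  | refl F p => exact le_rfl
  | step _ hDF ih => exact ih.trans hDF.1.2.2.2.1.1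

theorem fullyNormalized_of_isSubnormalIn {T S : Subgroup Ω} {E : FusionSystem T} {F : FusionSystem S} {p : ℕ}
    (h : E.IsSubnormalIn F p) : ∀ [Fact p.Prime], Finite S → IsPGroup p S → F.IsSaturated p →
      ∀ P : Subgroup Ω, P ≤ T → F.IsFullyNormalized P → E.IsFullyNormalized P := by
  induction h with
  | refl F p => intro _ _ _ _ P _ hP; exact hP
  | step hED hDF ih =>
    intro _ hfin hS hF P hPT hP
    have hU := hDF.1.2.2.2.1
    have hfinU := finite_of_le hU.1
    exact ih hfinU (hS.to_le hU.1) hDF.1.1 P hPT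
      (fullyNormalized_of_subsystem hS _ hF _ hDF.1.2.2.1 hU P (hPT.trans (le_of_isSubnormalIn hED)) hP)


/-- Let F be a saturated fusion system over a finite p-group S and E a subnormal subsystem of F over T. Then every subgroup of T that is fully normalized in F is fully normalized in E. -/
theorem result {Ω : Type*} [Group Ω] {S : Subgroup Ω} [Finite S] (p : ℕ) [Fact p.Prime] (hS : IsPGroup p S) (F : Cfsg.FusionSystem S) (hF : F.IsSaturated p) {T : Subgroup Ω} (E : Cfsg.FusionSystem T) (hE : E.IsSubnormalIn F p) (P : Subgroup Ω) (hPT : P ≤ T) (hP : F.IsFullyNormalized P) : E.IsFullyNormalized P := by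
  exact fullyNormalized_of_isSubnormalIn hE inferInstance hS hF P hPT hP

end Cfsg.Agent.S5153
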