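-- Statement S5084: central subgroups are those whose elements have singleton conjugacy classes in the system.
import Cfsg.Statements.S5084
import Cfsg.Agent.Helper87.FusionNormal
import Cfsg.Agent.S5097

set_option autoImplicit false
open Cfsg

namespace Cfsg.Agent.S5084

open Cfsg.Agent.Helper87 Cfsg.FusionSystem

/-- In a saturated fusion system over a finite p-group S, a subgroup Q is central in the system if and only if Q ≤ S and no element of Q is conjugate in the system to any element other than itself. -/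
theorem result {Ω : Type*} [Group Ω] {S : Subgroup Ω} [Finite S] (p : ℕ) [Fact p.Prime] (hS : IsPGroup p S) (F : Cfsg.FusionSystem S) (hF : F.IsSaturated p) (Q : Subgroup Ω) : F.IsCentral Q ↔ (Q ≤ S ∧ ∀ x ∈ Q, ∀ y : Ω, F.IsConjElt x y → y = x) := by
  constructor
  · intro hQ
    refine ⟨hQ.1, fun x hx y hxy => ?_⟩
    obtain ⟨φ, hφ, rfl⟩ := hxy
    obtain ⟨ψ, hψ, hψx, hψQ⟩ := hQ.2 _ φ hφ
    have h1 := hψx ⟨x, Subgroup.mem_zpowers x⟩
    have h2 := hψQ ⟨x, hx⟩
    have e : Subgroup.inclusion (le_sup_left : Subgroup.zpowers x ≤ Subgroup.zpowers x ⊔ Q) ⟨x, Subgroup.mem_zpowers x⟩ =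
        Subgroup.inclusion (le_sup_right : Q ≤ Subgroup.zpowers x ⊔ Q) ⟨x, hx⟩ := Subtype.ext rfl
    rw [← h1, e, h2]
  · rintro ⟨hQS, hQ⟩
    -- elements of `Q` are fixed by every map of the system defined on a subgroup containing them
    have hfix : ∀ (P : Subgroup Ω) (φ : P →* Ω), φ ∈ F.Hom P → ∀ (x : Ω) (hxP : x ∈ P), x ∈ Q → φ ⟨x, hxP⟩ = x := by
      intro P φ hφ x hxP hxQ
      have hle : Subgroup.zpowers x ≤ P := by rw [Subgroup.zpowers_le]; exact hxP
      exact hQ x hxQ _ ⟨_, restrict_mem F hφ hle, rfl⟩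
    -- `S` centralizes `Q`
    have hSC : S ≤ Subgroup.centralizer (Q : Set Ω) := by
      intro s hs
      rw [Subgroup.mem_centralizer_iff]
      intro x hx
      have := hfix S _ (F.conj_mem le_rfl hs) x (hQS hx) hx
      have h2 : s * x * s⁻¹ = x := this
      calc x * s = (s * x * s⁻¹) * s := by rw [h2]
        _ = s * x := by group
    have hC : centralizerIn S Q = S := inf_eq_left.mpr hSC
    set E := castSystem hC (Cfsg.Agent.S5097.centralizerSystem F Q hQS) with hE_def
    have hEhom : ∀ P, E.Hom P = F.centralizerHom Q P := fun P => castSystem_hom hC _ P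
    have hE : ∀ P : Subgroup Ω, (P = S ∨ F.IsEssential p P) → F.autGroup P ≤ E.autGroup P := by
      intro P hP α hα
      have hPS : P ≤ S := by
        rcases hP with rfl | hess
        · exact le_rfl
        · exact hess.1.1
      have hQP : Q ≤ P := by
        rcases hP with rfl | hess
        · exact hQS
        · refine le_trans ?_ (hess.1.2 P (isConj_refl F hPS))
          intro x hx
          refine ⟨hQS hx, ?_⟩
          show x ∈ Subgroup.centralizer (P : Set Ω)
          rw [Subgroup.mem_centralizer_iff]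
          intro y hy
          exact (Subgroup.mem_centralizer_iff.mp (hSC (hPS hy)) x hx).symm
      have hαiso := (mem_autGroup_iff F hPS α).mp hα
      rw [mem_autGroup_iff E hPS]
      unfold IsIso
      rw [hEhom]
      have hle : P ⊔ Q ≤ P := sup_le le_rfl hQP
      refine ⟨hαiso, by rw [hC]; exact hPS, fun x => by rw [hC]; exact hPS (α x).2, _, restrict_mem F hαiso hle,
        fun x => rfl, fun x => ?_⟩
      exact hfix P _ hαiso x (hQP x.2) x.2
    have hsub := alperin hS F E hF hE
    refine ⟨hQS, fun P φ hφ => ?_⟩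
    have := hsub P hφ
    rw [hEhom] at this
    obtain ⟨-, -, -, ψ, hψ, hψx, hψQ⟩ := this
    exact ⟨ψ, hψ, hψx, hψQ⟩

end Cfsg.Agent.S5084
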