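-- Statement S5144: the centre of a fusion system over a finite group is central.
import Cfsg.Statements.S5144
import Cfsg.Agent.Helper85.Basic

set_option autoImplicit false
open Cfsg

namespace Cfsg.Agent.S5144

open Cfsg.Agent.Helper85 Cfsg.FusionSystem

variable {Ω : Type*} [Group Ω] {S : Subgroup Ω}

theorem isCentral_bot (F : FusionSystem S) : F.IsCentral ⊥ := by
  refine ⟨bot_le, fun P φ hφ => ?_⟩
  have h : P ⊔ ⊥ ≤ P := sup_le le_rfl bot_le
  refine ⟨φ.comp (Subgroup.inclusion h), restrict_mem F hφ h, fun x => ?_, fun x => ?_⟩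
  · show φ _ = φ x
    congr 1
  · have hx : x = 1 := Subtype.ext (Subgroup.mem_bot.mp x.2)
    subst hx
    have : Subgroup.inclusion (le_sup_right : (⊥ : Subgroup Ω) ≤ P ⊔ ⊥) 1 = 1 := map_one _
    rw [this, map_one]
    rfl

theorem isCentral_sup (F : FusionSystem S) {Q₁ Q₂ : Subgroup Ω} (h₁ : F.IsCentral Q₁) (h₂ : F.IsCentral Q₂) :
    F.IsCentral (Q₁ ⊔ Q₂) := by
  refine ⟨sup_le h₁.1 h₂.1, fun P φ hφ => ?_⟩
  obtain ⟨ψ₁, hψ₁, hext₁, hfix₁⟩ := h₁.2 P φ hφ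
  obtain ⟨ψ₂, hψ₂, hext₂, hfix₂⟩ := h₂.2 (P ⊔ Q₁) ψ₁ hψ₁
  have h : P ⊔ (Q₁ ⊔ Q₂) ≤ (P ⊔ Q₁) ⊔ Q₂ := le_of_eq (sup_assoc _ _ _).symm
  refine ⟨ψ₂.comp (Subgroup.inclusion h), restrict_mem F hψ₂ h, fun x => ?_, ?_⟩
  · rw [← hext₁ x, ← hext₂]
    show ψ₂ _ = ψ₂ _
    congr 1
  · -- the fixed points of ψ₂ form a subgroup containing Q₁ and Q₂
    let K : Subgroup Ω := (ψ₂.eqLocus ((P ⊔ Q₁) ⊔ Q₂).subtype).map ((P ⊔ Q₁) ⊔ Q₂).subtype
    have hK₁ : Q₁ ≤ K := by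
      intro y hy
      refine ⟨Subgroup.inclusion le_sup_left (Subgroup.inclusion (le_sup_right : Q₁ ≤ P ⊔ Q₁) ⟨y, hy⟩), ?_, rfl⟩
      show ψ₂ _ = _
      rw [hext₂, hfix₁]
      rfl
    have hK₂ : Q₂ ≤ K := by
      intro y hy
      refine ⟨Subgroup.inclusion le_sup_right ⟨y, hy⟩, ?_, rfl⟩
      show ψ₂ _ = _
      rw [hfix₂]
      rfl
    intro x
    obtain ⟨z, hz, hzx⟩ := (sup_le hK₁ hK₂) x.2
    have hz' : ψ₂ z = (z : Ω) := hz
    show ψ₂ _ = (x : Ω)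
    have : Subgroup.inclusion h (Subgroup.inclusion (le_sup_right : Q₁ ⊔ Q₂ ≤ P ⊔ (Q₁ ⊔ Q₂)) x) = z :=
      Subtype.ext hzx.symm
    rw [this, hz']
    exact hzx

/-- For a fusion system over a finite subgroup S, the centre of the system (the join of all subgroups central in it) is itself central in the system, hence its largest central subgroup. -/
theorem result {Ω : Type*} [Group Ω] {S : Subgroup Ω} [Finite S] (F : Cfsg.FusionSystem S) : F.IsCentral F.center := by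
  exact sSup_mem_of_sup_closed (S := S) {Q | F.IsCentral Q} (isCentral_bot F)
    (fun A hA B hB => isCentral_sup F hA hB) (fun A hA => hA.1)

end Cfsg.Agent.S5144
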