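-- Statement S5337: a saturated fusion system on an abelian p-group is simple iff |S| = p and F is the inner system.
import Cfsg.Statements.S5337
import Cfsg.Agent.Helper89.FusionAbelian

set_option autoImplicit false
open Cfsg

namespace Cfsg.Agent.S5337

open Cfsg.FusionSystem Cfsg.Agent.Helper87 Cfsg.Agent.Helper89

variable {Ω : Type*} [Group Ω] {S : Subgroup Ω}

/-- The inner fusion system of an abelian subgroup `T ≤ S` is normal in a saturated system `F` over `S` as soon as
`T` is strongly closed and every map of `F` between subgroups of `T` is induced by an element of `Aut_F(T)`. -/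
theorem inner_abelian_isNormalIn (p : ℕ) (F : FusionSystem S) (hF : F.IsSaturated p) {T : Subgroup Ω}
    (hTS : T ≤ S) (habT : ∀ x ∈ T, ∀ y ∈ T, x * y = y * x) (hsc : F.StronglyClosed T)
    (hfrat : ∀ P : Subgroup Ω, P ≤ T → ∀ φ : P →* Ω, φ ∈ F.Hom P →
      ∃ α ∈ F.autGroup T, ∀ (x : P) (hx : (x : Ω) ∈ T), φ x = ((α ⟨x, hx⟩ : T) : Ω)) :
    (innerFusionSystem T).IsNormalIn F p := by
  refine ⟨⟨inner_abelian_isSaturated habT p, hF, ?_, hsc, ?_, ?_⟩, ?_⟩
  · -- subsystem
    rintro P φ ⟨hP, g, hg, hgx⟩
    exact mem_of_eq F (F.conj_mem (hP.trans hTS) (hTS hg)) hgx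
  · -- invariance
    intro P hPT φ hφ α _
    have hle : (P.subgroupOf T).map (T.subtype.comp α.toMonoidHom) ≤ T := by
      rintro _ ⟨y, -, rfl⟩
      exact (α y).2
    refine ⟨((P.subgroupOf T).map (T.subtype.comp α.toMonoidHom)).subtype, subtype_mem _ hle, ?_⟩
    intro x hφx hαx
    have : (⟨φ x, hφx⟩ : T) = ⟨x, hPT x.2⟩ := Subtype.ext (inner_abelian_apply habT hφ x)
    rw [this]
    rfl
  · -- Frattini condition
    intro P hPT φ hφ
    obtain ⟨α, hα, hαx⟩ := hfrat P hPT φ hφ
    exact ⟨α, hα, P.subtype, subtype_mem _ hPT, fun x hx => hαx x hx⟩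
  · -- extension condition
    intro α hα
    have hα1 : α = 1 := inner_abelian_aut_eq_one habT le_rfl hα
    refine ⟨1, Subgroup.one_mem _, fun x => ?_, fun c _ => ?_⟩
    · rw [hα1]; rfl
    · simp

/-- Let F be a saturated fusion system over a finite abelian p-group S. Then F is simple if and only if S has order p and F is the inner system of S (whose only maps are the inclusions, S being abelian). -/
theorem result {Ω : Type*} [Group Ω] {S : Subgroup Ω} [Finite S] (p : ℕ) [Fact p.Prime] (hS : IsPGroup p S) (F : Cfsg.FusionSystem S) (hF : F.IsSaturated p) (hab : ∀ x ∈ S, ∀ y ∈ S, x * y = y * x) : F.IsSimple p ↔ (Nat.card S = p ∧ ∀ P : Subgroup Ω, F.Hom P = (Cfsg.innerFusionSystem S).Hom P) := by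
  have hp : p.Prime := Fact.out
  constructor
  · rintro ⟨-, hS1, hsimple⟩
    -- Step 1: the inner system of S is normal in F, hence F is the inner system
    have hscS : F.StronglyClosed S := ⟨le_rfl, fun R _ φ hφ x => (F.le_of_mem hφ).2 x⟩
    have hnormal0 : (innerFusionSystem S).IsNormalIn F p := by
      apply inner_abelian_isNormalIn p F hF le_rfl hab hscS
      intro P _ φ hφ
      obtain ⟨α, hα, hαx⟩ := exists_aut_extending p F hF hab hφ
      exact ⟨α, (mem_autGroup_iff F le_rfl α).2 hα, fun x hx => (hαx x).symm⟩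
    have hinner : ∀ P : Subgroup Ω, F.Hom P = (innerFusionSystem S).Hom P := by
      rcases hsimple S (innerFusionSystem S) hnormal0 with h | ⟨-, h⟩
      · exact absurd h hS1
      · exact fun P => (h P).symm
    refine ⟨?_, hinner⟩
    -- Step 2: a subgroup of order p carries a normal subsystem
    have hcard1 : Nat.card S ≠ 1 := fun h => hS1 (Subgroup.card_eq_one.1 h)
    have hdvd : p ∣ Nat.card S := by
      rcases hS.card_eq_or_dvd with h | h
      · exact absurd h hcard1
      · exact h
    obtain ⟨t, ht⟩ := exists_prime_orderOf_dvd_card' p hdvd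
    have htΩ : orderOf (t : Ω) = p := by rw [Subgroup.orderOf_coe]; exact ht
    have hTS : Subgroup.zpowers (t : Ω) ≤ S := by rw [Subgroup.zpowers_le]; exact t.2
    have hTcard : Nat.card (Subgroup.zpowers (t : Ω)) = p := by rw [Nat.card_zpowers]; exact htΩ
    have habT : ∀ x ∈ Subgroup.zpowers (t : Ω), ∀ y ∈ Subgroup.zpowers (t : Ω), x * y = y * x :=
      fun x hx y hy => hab x (hTS hx) y (hTS hy)
    have hid : ∀ (P : Subgroup Ω) (φ : P →* Ω), φ ∈ F.Hom P → ∀ x : P, φ x = x := by
      intro P φ hφ x
      rw [hinner P] at hφ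
      exact inner_abelian_apply hab hφ x
    have hscT : F.StronglyClosed (Subgroup.zpowers (t : Ω)) :=
      ⟨hTS, fun R hR φ hφ x => by rw [hid R φ hφ x]; exact hR x.2⟩
    have hnormal1 : (innerFusionSystem (Subgroup.zpowers (t : Ω))).IsNormalIn F p := by
      apply inner_abelian_isNormalIn p F hF hTS habT hscT
      intro P _ φ hφ
      exact ⟨1, Subgroup.one_mem _, fun x hx => hid P φ hφ x⟩
    rcases hsimple _ _ hnormal1 with h | ⟨h, -⟩
    · exfalso
      rw [h] at hTcard
      rw [Subgroup.card_bot] at hTcard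
      exact hp.one_lt.ne hTcard
    · rw [← h]; exact hTcard
  · rintro ⟨hcard, hinner⟩
    have hS1 : S ≠ ⊥ := by
      intro h
      rw [h, Subgroup.card_bot] at hcard
      exact hp.one_lt.ne hcard
    refine ⟨hF, hS1, ?_⟩
    intro T E hE
    have hTS : T ≤ S := hE.1.2.2.2.1.1
    have hsub : E.IsSubsystemOf F := hE.1.2.2.1
    have hdvd : Nat.card T ∣ Nat.card S := Subgroup.card_dvd_of_le hTS
    rw [hcard] at hdvd
    rcases (Nat.dvd_prime hp).1 hdvd with h | h
    · left; exact Subgroup.card_eq_one.1 h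
    · right
      have hTeq : T = S := by
        apply Subgroup.eq_of_le_of_card_ge hTS
        rw [h, hcard]
      refine ⟨hTeq, ?_⟩
      subst hTeq
      intro P
      apply Set.Subset.antisymm (hsub P)
      rw [hinner P]
      exact inner_hom_subset E P

end Cfsg.Agent.S5337
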