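-- Statement S5148 (helper85)
import Cfsg.Statements.S5148
import Cfsg.Agent.S5144
import Cfsg.Agent.S5337
import Cfsg.Agent.Helper85.Factor
import Cfsg.Agent.Helper87.FusionQuot2

set_option autoImplicit false
open Cfsg

namespace Cfsg.Agent.S5148

open Cfsg.Agent.Helper85 Cfsg.Agent.Helper87 Cfsg.FusionSystem

variable {Ω : Type*} [Group Ω] {S : Subgroup Ω}

/-- Every map of the system fixes the elements of a central subgroup lying in its source. -/
theorem apply_eq_of_mem_central (F : FusionSystem S) {Z : Subgroup Ω} (hZ : F.IsCentral Z) {P : Subgroup Ω}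
    {φ : P →* Ω} (hφ : φ ∈ F.Hom P) (x : P) (hx : (x : Ω) ∈ Z) : φ x = x := by
  obtain ⟨ψ, -, hext, hfix⟩ := hZ.2 P φ hφ
  rw [← hext x]
  have : Subgroup.inclusion (le_sup_left : P ≤ P ⊔ Z) x =
      Subgroup.inclusion (le_sup_right : Z ≤ P ⊔ Z) ⟨x, hx⟩ := Subtype.ext rfl
  rw [this, hfix]

theorem stronglyClosed_of_isCentral (F : FusionSystem S) {Z : Subgroup Ω} (hZ : F.IsCentral Z) :
    F.StronglyClosed Z := by
  refine ⟨hZ.1, fun R hR φ hφ x => ?_⟩
  rw [apply_eq_of_mem_central F hZ hφ x (hR x.2)]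
  exact hR x.2

/-- If every map of the system moves elements only by elements of a central subgroup `Z`, every automorphism of the system
has order dividing `|S|`. -/
theorem aut_pow_card_eq_one [Finite S] (F : FusionSystem S) {Z : Subgroup Ω} (hZ : F.IsCentral Z)
    (hfoc : ∀ (P : Subgroup Ω) (φ : P →* Ω), φ ∈ F.Hom P → ∀ x : P, (x : Ω)⁻¹ * φ x ∈ Z)
    {P : Subgroup Ω} (hPS : P ≤ S) (α : MulAut P) (hα : α ∈ F.autGroup P) : α ^ Nat.card S = 1 := by
  have hiso : P.subtype.comp (α : P ≃* P).toMonoidHom ∈ F.Hom P := (mem_autGroup_iff F hPS α).1 hα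
  have hfix : ∀ w : P, (w : Ω) ∈ Z → α w = w := by
    intro w hw
    apply Subtype.ext
    exact apply_eq_of_mem_central F hZ hiso w hw
  have hw : ∀ x : P, ((x⁻¹ * α x : P) : Ω) ∈ Z := fun x => hfoc P _ hiso x
  have hpow : ∀ (n : ℕ) (x : P), (α ^ n) x = x * (x⁻¹ * α x) ^ n := by
    intro n
    induction n with
    | zero => intro x; simp
    | succ n ih =>
      intro x
      have hax : α x = x * (x⁻¹ * α x) := by rw [mul_inv_cancel_left]
      rw [pow_succ', MulAut.mul_apply, ih x, map_mul, map_pow, hfix _ (hw x), pow_succ', ← mul_assoc, ← hax]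
  ext x
  rw [hpow]
  have h1 : (x⁻¹ * α x) ^ Nat.card S = 1 := by
    have h2 : (Subgroup.inclusion hPS (x⁻¹ * α x)) ^ Nat.card S = 1 := pow_card_eq_one'
    have h3 : Subgroup.inclusion hPS ((x⁻¹ * α x) ^ Nat.card S) = 1 := by rw [map_pow, h2]
    exact Subgroup.inclusion_injective hPS (by rw [h3, map_one])
  rw [h1, mul_one]
  rfl

theorem hyperfocal_eq_bot_of_pow [Finite S] {p : ℕ} [Fact p.Prime] (hS : IsPGroup p S) (F : FusionSystem S)
    (h : ∀ (P : Subgroup Ω), P ≤ S → ∀ α ∈ F.autGroup P, α ^ Nat.card S = 1) :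
    F.hyperfocalSubgroup p = ⊥ := by
  obtain ⟨k, hk⟩ := IsPGroup.iff_card.mp hS
  have hp : p.Prime := Fact.out
  have hres : ∀ P : Subgroup Ω, P ≤ S → pResidual p (F.autGroup P) = ⊥ := by
    intro P hPS
    unfold pResidual
    rw [Subgroup.closure_eq_bot_iff]
    intro g hg
    have hg1 : g ^ Nat.card S = 1 := Subtype.ext (h P hPS g g.2)
    have hdvd : orderOf g ∣ p ^ k := hk ▸ orderOf_dvd_of_pow_eq_one hg1
    have hcop : Nat.Coprime (orderOf g) (p ^ k) := Nat.Coprime.pow_right k hg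
    have : orderOf g = 1 := Nat.Coprime.eq_one_of_dvd hcop hdvd
    exact orderOf_eq_one_iff.mp this
  unfold hyperfocalSubgroup
  rw [Subgroup.closure_eq_bot_iff]
  rintro y ⟨P, α, x, hPS, hα, rfl⟩
  rw [hres P hPS, Subgroup.mem_bot] at hα
  rw [hα]
  simp


/-- A quasisimple fusion system over a finite p-group S (saturated, equal to its p-residual subsystem, with simple — in particular nontrivial — factor system modulo its centre) has S nonabelian. -/
theorem result {Ω : Type*} [Group Ω] {S : Subgroup Ω} [Finite S] (p : ℕ) [Fact p.Prime] (hS : IsPGroup p S) (F : Cfsg.FusionSystem S) (hq : F.Quasisimple p) : ¬ IsMulCommutative S := by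
  intro hcomm
  obtain ⟨hF, hhyp, hquot⟩ := hq
  have hZc : F.IsCentral F.center := Cfsg.Agent.S5144.result F
  have hZsc : F.StronglyClosed F.center := stronglyClosed_of_isCentral F hZc
  have hker : ∀ s : S, (QuotientGroup.mk' ((F.center).subgroupOf S)) s = 1 ↔ (s : Ω) ∈ F.center := by
    intro s
    rw [QuotientGroup.mk'_apply, QuotientGroup.eq_one_iff, Subgroup.mem_subgroupOf]
  have hrange : (QuotientGroup.mk' ((F.center).subgroupOf S)).range = ⊤ :=
    MonoidHom.range_eq_top.2 (QuotientGroup.mk'_surjective _)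
  have hE := isFactorSystem_factorSystem F _ ⊤ F.center hker hZsc hrange
  have hsimple := hquot _ hE
  -- the quotient is abelian
  have hab : ∀ x ∈ (⊤ : Subgroup (S ⧸ (F.center).subgroupOf S)), ∀ y ∈ (⊤ : Subgroup (S ⧸ (F.center).subgroupOf S)),
      x * y = y * x := by
    intro x _ y _
    obtain ⟨a, rfl⟩ := QuotientGroup.mk'_surjective _ x
    obtain ⟨b, rfl⟩ := QuotientGroup.mk'_surjective _ y
    rw [← map_mul, ← map_mul, mul_comm']
  have hfinq : Finite (S ⧸ (F.center).subgroupOf S) := inferInstance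
  have hfintop : Finite ↥(⊤ : Subgroup (S ⧸ (F.center).subgroupOf S)) := inferInstance
  have hpq : IsPGroup p (S ⧸ (F.center).subgroupOf S) := hS.to_quotient _
  have hptop : IsPGroup p ↥(⊤ : Subgroup (S ⧸ (F.center).subgroupOf S)) := hpq.to_subgroup ⊤
  obtain ⟨-, hinner⟩ := (Cfsg.Agent.S5337.result p hptop _ hsimple.1 hab).1 hsimple
  -- every map of `F` moves elements by elements of the centre
  have hfoc : ∀ (P : Subgroup Ω) (φ : P →* Ω), φ ∈ F.Hom P → ∀ x : P, (x : Ω)⁻¹ * φ x ∈ F.center := by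
    intro P φ hφ x
    obtain ⟨φ', ⟨φ₀, hφ₀, hind₀⟩, hP, hφS, hP', hind⟩ := exists_induced hS F hF hZsc _ hker hφ
    have hφ'E : φ' ∈ (factorSystem F _ ⊤ F.center hker hZsc hrange).Hom _ := ⟨le_top, φ₀, hφ₀, hind₀⟩
    rw [hinner] at hφ'E
    have h1 := Cfsg.Agent.Helper89.inner_abelian_apply hab hφ'E ⟨_, hP' x⟩
    rw [hind x] at h1
    have h2 : (QuotientGroup.mk' ((F.center).subgroupOf S)) ((⟨x, hP x.2⟩ : S)⁻¹ * ⟨φ x, hφS x⟩) = 1 := by
      rw [map_mul, map_inv, h1, inv_mul_cancel]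
    exact (hker _).1 h2
  have hbot : F.hyperfocalSubgroup p = ⊥ :=
    hyperfocal_eq_bot_of_pow hS F (fun P hPS α hα => aut_pow_card_eq_one F hZc hfoc hPS α hα)
  have hSbot : S = ⊥ := by rw [← hhyp, hbot]
  apply hsimple.2.1
  have hsub : Subsingleton S := by
    rw [hSbot]
    infer_instance
  have : Subsingleton (S ⧸ (F.center).subgroupOf S) := inferInstance
  exact Subsingleton.elim _ _

end Cfsg.Agent.S5148
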