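import Cfsg.Statements.S5091
import Cfsg.Agent.Helper85.ModelUnique
import Cfsg.Agent.Helper87.NormModel
import Cfsg.Agent.S5095

set_option autoImplicit false
open Cfsg

namespace Cfsg.Agent.S5091

open Cfsg.FusionSystem Cfsg.Agent.Helper85

theorem preimage_pCore_le {Ω : Type*} [Group Ω] {S : Subgroup Ω} [Finite S] (p : ℕ) [Fact p.Prime]
    (hS : IsPGroup p S) (F : FusionSystem S) {Ga Gb : Type*} [Group Ga] [Group Gb] (ιa : S →* Ga) (ιb : S →* Gb)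
    (ha : F.IsModel p Ga ιa) (hUb : F.IsNormal (preimageAlong ιb (Cfsg.pCore p Gb))) :
    preimageAlong ιb (Cfsg.pCore p Gb) ≤ preimageAlong ιa (Cfsg.pCore p Ga) := by
  intro y hy
  have hn := Cfsg.Agent.Helper87.normal_map_of_isNormal p F ιa ha hUb
  have hpg : IsPGroup p ↥(((preimageAlong ιb (Cfsg.pCore p Gb)).subgroupOf S).map ιa) :=
    (hS.to_subgroup _).map ιa
  have hle' := Cfsg.Agent.Lib.le_pCore hn hpg
  have hyS : y ∈ S := preimageAlong_le ιb _ hy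
  rw [mem_preimageAlong]
  exact ⟨hyS, hle' ⟨⟨y, hyS⟩, Subgroup.mem_subgroupOf.mpr hy, rfl⟩⟩


theorem fib_swap {S₀ Ga Gb : Type*} [Group S₀] [Group Ga] [Group Gb] (ιa : S₀ →* Ga) (ιb : S₀ →* Gb)
    (U : Subgroup S₀) {g : Ga} {g' : Gb} (h : (g, g') ∈ MU.fib ιa ιb U) : (g', g) ∈ MU.fib ιb ιa U := by
  obtain ⟨h1, h2⟩ := h
  refine ⟨fun u hu => ?_, fun u hu => ?_⟩
  · obtain ⟨v, hv, e1, e2⟩ := h1 u hu
    exact ⟨v, hv, e2, e1⟩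
  · obtain ⟨v, hv, e1, e2⟩ := h2 u hu
    exact ⟨v, hv, e2, e1⟩

theorem exists_pair {Ω : Type*} [Group Ω] {S : Subgroup Ω} {Ga Gb : Type*} [Group Ga] [Group Gb]
    (F : FusionSystem S) (ιa : S →* Ga) (ιb : S →* Gb)
    (ha : F.IsRealizedBy ιa) (hb : F.IsRealizedBy ιb) (Ra : Subgroup Ga) [hRan : Ra.Normal] (hRa : Ra ≤ ιa.range)
    (U : Subgroup S) (hUa : ∀ u : S, u ∈ U ↔ ιa u ∈ Ra) (g : Ga) :
    ∃ g' : Gb, (g, g') ∈ MU.fib ιa ιb U := by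
  obtain ⟨hinja, hreala⟩ := ha
  obtain ⟨hinjb, hrealb⟩ := hb
  have hU'S : U.map S.subtype ≤ S := by
    rintro _ ⟨u, -, rfl⟩
    exact u.2
  have hmemU' : ∀ (y : Ω) (hy : y ∈ S), y ∈ U.map S.subtype → (⟨y, hy⟩ : S) ∈ U := by
    rintro y hy ⟨u, hu, rfl⟩
    exact hu
  have hmem : ∀ y : ↥(U.map S.subtype), g * ιa ⟨y, hU'S y.2⟩ * g⁻¹ ∈ ιa.range :=
    fun y => hRa (hRan.conj_mem _ ((hUa _).mp (hmemU' y _ y.2)) g)
  obtain ⟨ψ, hψS, hιψ⟩ := Cfsg.Agent.Helper87.exists_hom_of_conj ιa hinja hU'S g hmem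
  have hψF : ψ ∈ F.Hom (U.map S.subtype) := (hreala _ hU'S ψ hψS).mpr ⟨g, hιψ⟩
  obtain ⟨g', hg'⟩ := (hrealb _ hU'S ψ hψS).mp hψF
  refine ⟨g', fun u hu => ?_, fun u hu => ?_⟩
  · have huU' : (u : Ω) ∈ U.map S.subtype := ⟨u, hu, rfl⟩
    refine ⟨⟨ψ ⟨u, huU'⟩, hψS _⟩, ?_, (hιψ ⟨u, huU'⟩).symm, (hg' ⟨u, huU'⟩).symm⟩
    rw [hUa, hιψ]
    exact hRan.conj_mem _ ((hUa u).mp hu) g
  · have h1 : g⁻¹ * ιa u * g ∈ Ra := by
      have := hRan.conj_mem _ ((hUa u).mp hu) g⁻¹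
      simpa using this
    obtain ⟨v, hv⟩ := hRa h1
    have hvU : v ∈ U := (hUa v).mpr (by rw [hv]; exact h1)
    have hvU' : (v : Ω) ∈ U.map S.subtype := ⟨v, hvU, rfl⟩
    have hψv : ψ ⟨v, hvU'⟩ = u := by
      have e : ιa ⟨ψ ⟨v, hvU'⟩, hψS _⟩ = ιa u := by
        rw [hιψ]
        show g * ιa v * g⁻¹ = ιa u
        rw [hv]
        group
      exact congrArg Subtype.val (hinja e)
    refine ⟨v, hvU, hv.symm, ?_⟩
    have h2 := hg' ⟨v, hvU'⟩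
    have e : ιb ⟨ψ ⟨v, hvU'⟩, hψS _⟩ = ιb u := by
      congr 1
      exact Subtype.ext hψv
    rw [e] at h2
    rw [h2]
    show g'⁻¹ * (g' * ιb v * g'⁻¹) * g' = ιb v
    group


/-- Model Theorem, uniqueness: two models of a constrained saturated fusion system over a finite p-group S are isomorphic by an isomorphism compatible with the two embeddings of S. -/
theorem result {Ω : Type*} [Group Ω] {S : Subgroup Ω} [Finite S] (p : ℕ) [Fact p.Prime] (hS : IsPGroup p S) (F : Cfsg.FusionSystem S) (hF : F.IsConstrained p) {G₁ G₂ : Type*} [Group G₁] [Group G₂] (ι₁ : S →* G₁) (ι₂ : S →* G₂) (h₁ : F.IsModel p G₁ ι₁) (h₂ : F.IsModel p G₂ ι₂) : ∃ φ : G₁ ≃* G₂, ∀ x : S, φ (ι₁ x) = ι₂ x := by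
  obtain ⟨hFsat, -⟩ := hF
  have hfin₁ : Finite G₁ := h₁.1
  have hfin₂ : Finite G₂ := h₂.1
  have hinj₁ := h₁.2.1.1
  have hinj₂ := h₂.2.1.1
  have hreal₁ := h₁.2.1.2
  have hreal₂ := h₂.2.1.2
  obtain ⟨T₁, hT₁⟩ := h₁.2.2.1
  obtain ⟨T₂, hT₂⟩ := h₂.2.2.1
  have hcent₁ := h₁.2.2.2
  have hcent₂ := h₂.2.2.2
  have hOn₁ : (Cfsg.pCore p G₁).Normal := by
    have : (Cfsg.pCore p G₁).Characteristic := Cfsg.Agent.Lib.pCore_characteristic p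
    infer_instance
  have hOn₂ : (Cfsg.pCore p G₂).Normal := by
    have : (Cfsg.pCore p G₂).Characteristic := Cfsg.Agent.Lib.pCore_characteristic p
    infer_instance
  have hOT₁ : Cfsg.pCore p G₁ ≤ ι₁.range := by
    rw [← hT₁]
    exact Cfsg.Agent.Lib.pCore_le_sylow T₁
  have hOT₂ : Cfsg.pCore p G₂ ≤ ι₂.range := by
    rw [← hT₂]
    exact Cfsg.Agent.Lib.pCore_le_sylow T₂
  have hU₁n : F.IsNormal (preimageAlong ι₁ (Cfsg.pCore p G₁)) :=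
    Cfsg.Agent.Helper87.isNormal_preimageAlong_pCore p F ι₁ h₁
  have hU₂n : F.IsNormal (preimageAlong ι₂ (Cfsg.pCore p G₂)) :=
    Cfsg.Agent.Helper87.isNormal_preimageAlong_pCore p F ι₂ h₂
  have hU₁₂ : preimageAlong ι₁ (Cfsg.pCore p G₁) = preimageAlong ι₂ (Cfsg.pCore p G₂) :=
    le_antisymm (preimage_pCore_le p hS F ι₂ ι₁ h₂ hU₁n) (preimage_pCore_le p hS F ι₁ ι₂ h₁ hU₂n)
  -- the subgroup `U` of `S`
  set U : Subgroup ↥S := (Cfsg.pCore p G₁).comap ι₁ with hU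
  have hUa : ∀ u : S, u ∈ U ↔ ι₁ u ∈ Cfsg.pCore p G₁ := fun u => Iff.rfl
  have hUb : ∀ u : S, u ∈ U ↔ ι₂ u ∈ Cfsg.pCore p G₂ := by
    intro u
    have h1 : (u : Ω) ∈ preimageAlong ι₁ (Cfsg.pCore p G₁) ↔ ι₁ u ∈ Cfsg.pCore p G₁ := by
      rw [mem_preimageAlong]
      exact ⟨fun ⟨_, h⟩ => h, fun h => ⟨u.2, h⟩⟩
    have h2 : (u : Ω) ∈ preimageAlong ι₂ (Cfsg.pCore p G₂) ↔ ι₂ u ∈ Cfsg.pCore p G₂ := by
      rw [mem_preimageAlong]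
      exact ⟨fun ⟨_, h⟩ => h, fun h => ⟨u.2, h⟩⟩
    rw [hUa, ← h1, hU₁₂, h2]
  have hUmap : U.map S.subtype = preimageAlong ι₁ (Cfsg.pCore p G₁) := rfl
  have hU'n : F.IsNormal (U.map S.subtype) := hU₁n
  have hU'S : U.map S.subtype ≤ S := hU'n.1
  have hmemU' : ∀ (y : Ω) (hy : y ∈ S), y ∈ U.map S.subtype ↔ (⟨y, hy⟩ : S) ∈ U := by
    intro y hy
    constructor
    · rintro ⟨u, hu, rfl⟩
      exact hu
    · intro h
      exact ⟨⟨y, hy⟩, h, rfl⟩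
  -- `U` is centric
  have hcentric : F.IsCentric (U.map S.subtype) := by
    refine ⟨hU'S, fun Q' hQ' => ?_⟩
    obtain ⟨φ, hφ, hrange⟩ := hQ'
    have hwc := Cfsg.Agent.Helper87.weaklyClosed_of_isNormal F hU'n
    have hQ'eq : Q' = U.map S.subtype := by rw [← hrange]; exact hwc.2 φ hφ
    rw [hQ'eq]
    intro c hc
    obtain ⟨hcS, hcC⟩ := Subgroup.mem_inf.mp hc
    rw [hmemU' c hcS, hUa]
    apply hcent₁
    rw [Subgroup.mem_centralizer_iff]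
    intro r hr
    obtain ⟨u, rfl⟩ := hOT₁ hr
    have huU : (u : Ω) ∈ U.map S.subtype := (hmemU' u u.2).mpr hr
    have h1 := (Subgroup.mem_centralizer_iff.mp hcC) u huU
    have h2 : u * ⟨c, hcS⟩ = ⟨c, hcS⟩ * u := Subtype.ext h1
    rw [← map_mul, ← map_mul, h2]
  apply MU.exists_iso (p := p) ι₁ ι₂ hinj₁ hinj₂ hS ?_ U ?_ ?_ ?_ ?_ ?_ ?_
  · rw [← hT₂]
    exact T₂.not_dvd_index
  · intro s u hu
    rw [hUa, map_mul, map_mul, map_inv]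
    exact hOn₁.conj_mem _ ((hUa u).mp hu) _
  · intro g hg
    have hgO : g ∈ Cfsg.pCore p G₁ := by
      apply hcent₁
      rw [Subgroup.mem_centralizer_iff]
      intro r hr
      obtain ⟨u, rfl⟩ := hOT₁ hr
      exact (hg u hr).symm
    obtain ⟨z, rfl⟩ := hOT₁ hgO
    exact ⟨z, hgO, rfl⟩
  · intro g hg
    have hgO : g ∈ Cfsg.pCore p G₂ := by
      apply hcent₂
      rw [Subgroup.mem_centralizer_iff]
      intro r hr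
      obtain ⟨u, rfl⟩ := hOT₂ hr
      exact (hg u ((hUb u).mpr hr)).symm
    obtain ⟨z, rfl⟩ := hOT₂ hgO
    exact ⟨z, (hUb z).mpr hgO, rfl⟩
  · intro g₁
    exact exists_pair F ι₁ ι₂ h₁.2.1 h₂.2.1 (Cfsg.pCore p G₁) hOT₁ U hUa g₁
  · intro g₂
    obtain ⟨g₁, hg⟩ := exists_pair F ι₂ ι₁ h₂.2.1 h₁.2.1 (Cfsg.pCore p G₂) hOT₂ U hUb g₂
    exact ⟨g₁, fib_swap ι₂ ι₁ U hg⟩
  · intro x hx
    -- the common domain
    set D₀ : Subgroup ↥S := (ι₁.range.comap ((MulAut.conj x.1⁻¹).toMonoidHom.comp ι₁)) ⊓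
      (ι₂.range.comap ((MulAut.conj x.2⁻¹).toMonoidHom.comp ι₂)) with hD₀
    have hDS : D₀.map S.subtype ≤ S := by
      rintro _ ⟨u, -, rfl⟩
      exact u.2
    have hmemD : ∀ (y : Ω) (hy : y ∈ S), y ∈ D₀.map S.subtype → (⟨y, hy⟩ : S) ∈ D₀ := by
      rintro y hy ⟨u, hu, rfl⟩
      exact hu
    have hmem₁ : ∀ y : ↥(D₀.map S.subtype), x.1⁻¹ * ι₁ ⟨y, hDS y.2⟩ * x.1⁻¹⁻¹ ∈ ι₁.range :=
      fun y => (hmemD y _ y.2).1
    have hmem₂ : ∀ y : ↥(D₀.map S.subtype), x.2⁻¹ * ι₂ ⟨y, hDS y.2⟩ * x.2⁻¹⁻¹ ∈ ι₂.range :=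
      fun y => (hmemD y _ y.2).2
    obtain ⟨φ₁, hφ₁S, hιφ₁⟩ := Cfsg.Agent.Helper87.exists_hom_of_conj ι₁ hinj₁ hDS x.1⁻¹ hmem₁
    obtain ⟨φ₂, hφ₂S, hιφ₂⟩ := Cfsg.Agent.Helper87.exists_hom_of_conj ι₂ hinj₂ hDS x.2⁻¹ hmem₂
    have hφ₁F : φ₁ ∈ F.Hom (D₀.map S.subtype) := (hreal₁ _ hDS φ₁ hφ₁S).mpr ⟨x.1⁻¹, hιφ₁⟩
    have hφ₂F : φ₂ ∈ F.Hom (D₀.map S.subtype) := (hreal₂ _ hDS φ₂ hφ₂S).mpr ⟨x.2⁻¹, hιφ₂⟩
    -- `U ≤ D`
    have hUD₀ : U ≤ D₀ := by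
      intro u hu
      obtain ⟨v, hv, e1, e2⟩ := hx.2 u hu
      refine ⟨?_, ?_⟩
      · show x.1⁻¹ * ι₁ u * x.1⁻¹⁻¹ ∈ ι₁.range
        rw [inv_inv, e1]
        exact ⟨v, rfl⟩
      · show x.2⁻¹ * ι₂ u * x.2⁻¹⁻¹ ∈ ι₂.range
        rw [inv_inv, e2]
        exact ⟨v, rfl⟩
    have hUD : U.map S.subtype ≤ D₀.map S.subtype := Subgroup.map_mono hUD₀
    -- values of the two maps
    have hval₁ : ∀ (s t : S) (hs : (s : Ω) ∈ D₀.map S.subtype), x.1⁻¹ * ι₁ s * x.1 = ι₁ t →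
        φ₁ ⟨s, hs⟩ = t := by
      intro s t hs hst
      have e : ι₁ ⟨φ₁ ⟨s, hs⟩, hφ₁S _⟩ = ι₁ t := by
        rw [hιφ₁, inv_inv]
        exact hst
      exact congrArg Subtype.val (hinj₁ e)
    have hval₂ : ∀ (s t : S) (hs : (s : Ω) ∈ D₀.map S.subtype), x.2⁻¹ * ι₂ s * x.2 = ι₂ t →
        φ₂ ⟨s, hs⟩ = t := by
      intro s t hs hst
      have e : ι₂ ⟨φ₂ ⟨s, hs⟩, hφ₂S _⟩ = ι₂ t := by
        rw [hιφ₂, inv_inv]
        exact hst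
      exact congrArg Subtype.val (hinj₂ e)
    have hagree : ∀ y : ↥(D₀.map S.subtype), (y : Ω) ∈ U.map S.subtype → φ₂ y = φ₁ y := by
      intro y hy
      have hyU : (⟨y, hDS y.2⟩ : S) ∈ U := (hmemU' y _).mp hy
      obtain ⟨v, hv, e1, e2⟩ := hx.2 _ hyU
      rw [hval₁ ⟨y, hDS y.2⟩ v y.2 e1, hval₂ ⟨y, hDS y.2⟩ v y.2 e2]
    obtain ⟨z, hzU, hzC, hz⟩ := Cfsg.Agent.S5095.result p hS F hFsat (D₀.map S.subtype) (U.map S.subtype) hUD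
      hcentric φ₂ φ₁ hφ₂F hφ₁F hagree
    -- `w = φ₂ z`
    have hzU₀ : (⟨z, hDS z.2⟩ : S) ∈ U := (hmemU' z _).mp hzU
    obtain ⟨w, hwU, ew1, ew2⟩ := hx.2 _ hzU₀
    have hφ₂z : φ₂ z = w := hval₂ ⟨z, hDS z.2⟩ w z.2 ew2
    refine ⟨w, hwU, fun u hu => ?_, fun s t₁ t₂ ht₁ ht₂ => ?_⟩
    · -- `w` is central in `U`
      obtain ⟨v, hv, e1, e2⟩ := hx.1 u hu
      have hvD : (v : Ω) ∈ D₀.map S.subtype := hUD ⟨v, hv, rfl⟩
      have hφ₂v : φ₂ ⟨v, hvD⟩ = u := by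
        apply hval₂ v u hvD
        rw [← e2]
        group
      have hzv : z * ⟨v, hvD⟩ = ⟨v, hvD⟩ * z := by
        apply Subtype.ext
        exact ((Subgroup.mem_centralizer_iff.mp hzC) v ⟨v, hv, rfl⟩).symm
      apply Subtype.ext
      show (w : Ω) * u = u * w
      rw [← hφ₂z, ← hφ₂v, ← map_mul, ← map_mul, hzv]
    · have hsD₀ : s ∈ D₀ := by
        refine ⟨?_, ?_⟩
        · show x.1⁻¹ * ι₁ s * x.1⁻¹⁻¹ ∈ ι₁.range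
          rw [inv_inv, ht₁]
          exact ⟨t₁, rfl⟩
        · show x.2⁻¹ * ι₂ s * x.2⁻¹⁻¹ ∈ ι₂.range
          rw [inv_inv, ht₂]
          exact ⟨t₂, rfl⟩
      have hsD : (s : Ω) ∈ D₀.map S.subtype := ⟨s, hsD₀, rfl⟩
      have e1 := hval₁ s t₁ hsD ht₁
      have e2 := hval₂ s t₂ hsD ht₂
      have e3 := hz ⟨s, hsD⟩
      apply Subtype.ext
      show (t₁ : Ω) = w * t₂ * (w : Ω)⁻¹
      rw [← e1, e3, map_mul, map_mul, map_inv, hφ₂z, e2]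

end Cfsg.Agent.S5091
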