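import Cfsg.Statements.S4218
import Cfsg.Agent.Lib.Cores
import Cfsg.Agent.Helper11.PSolvable
import Cfsg.Agent.Helper54.PConstrained
import Cfsg.Agent.Helper70.FrattiniAction

set_option autoImplicit false
open Cfsg

namespace Cfsg.Agent.S4218

open Cfsg.Agent.Helper70 Cfsg.Agent.Lib Cfsg.Agent.Helper11
open scoped commutatorElement

/-- the kernel of the action on the Frattini quotient of a self-centralizing normal `p`-subgroup lies in
`O_p` -/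
theorem ker_frattiniAct_le_pCore {X : Type*} [Group X] [Finite X] {p : ℕ} [Fact p.Prime]
    (Q : Subgroup X) [Q.Normal] (hQ : IsPGroup p Q) (hC : Subgroup.centralizer (Q : Set X) ≤ Q) :
    (frattiniAct Q).ker ≤ pCore p X := by
  apply le_pCore inferInstance
  rintro ⟨g, hg⟩
  obtain ⟨k, hk⟩ := exists_pow_eq_one_of_frattiniAct_eq_one Q hQ hC g (MonoidHom.mem_ker.mp hg)
  exact ⟨k, Subtype.ext hk⟩

theorem aux {G : Type*} [Group G] [Finite G] {p : ℕ} [Fact p.Prime] (hG : Cfsg.IsPSolvable p G)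
    (N₀ P₁ : Subgroup G) [hN₀n : N₀.Normal] (hN₀ : N₀ = pPrimeCore p G)
    (hP₁ : P₁ = (pCore p (G ⧸ N₀)).comap (QuotientGroup.mk' N₀)) (g : G) :
    (∀ x ∈ P₁, g * x * g⁻¹ * x⁻¹ ∈ ((frattini (↥P₁ ⧸ N₀.subgroupOf P₁)).comap
      (QuotientGroup.mk' (N₀.subgroupOf P₁))).map P₁.subtype) ↔ g ∈ P₁ := by
  have hO : pPrimeCore p (G ⧸ N₀) = ⊥ := by
    subst hN₀; exact Cfsg.Agent.Helper54.pPrimeCore_quotient_eq_bot
  obtain ⟨Q, hQdef⟩ : ∃ Q : Subgroup (G ⧸ N₀), Q = pCore p (G ⧸ N₀) := ⟨_, rfl⟩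
  haveI hQn : Q.Normal := by rw [hQdef]; infer_instance
  have hQp : IsPGroup p Q := by rw [hQdef]; exact isPGroup_pCore p
  have hC : Subgroup.centralizer (Q : Set (G ⧸ N₀)) ≤ Q := by
    rw [hQdef]
    exact centralizer_pCore_le_of_isPSolvable (isPSolvable_quotient _ hG) hO
  rw [← hQdef] at hP₁
  have hmemP₁ : ∀ x : G, x ∈ P₁ ↔ (x : G ⧸ N₀) ∈ Q := by
    intro x; rw [hP₁]; rfl
  -- the map `P₁ → Q`
  let f : ↥P₁ →* ↥Q := MonoidHom.codRestrict ((QuotientGroup.mk' N₀).comp P₁.subtype) Q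
    (fun x => (hmemP₁ x).mp x.2)
  have hf : ∀ x : ↥P₁, ((f x : ↥Q) : G ⧸ N₀) = ((x : G) : G ⧸ N₀) := fun x => rfl
  have hker : N₀.subgroupOf P₁ ≤ f.ker := by
    intro x hx
    rw [MonoidHom.mem_ker]
    apply Subtype.ext
    rw [hf, Subgroup.coe_one, QuotientGroup.eq_one_iff]
    exact Subgroup.mem_subgroupOf.mp hx
  let θ : (↥P₁ ⧸ N₀.subgroupOf P₁) →* ↥Q := QuotientGroup.lift (N₀.subgroupOf P₁) f hker
  have hθ : ∀ x : ↥P₁, θ (x : ↥P₁ ⧸ N₀.subgroupOf P₁) = f x := fun x => rfl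
  have hθsurj : Function.Surjective θ := by
    rintro ⟨q, hq⟩
    obtain ⟨x, rfl⟩ := QuotientGroup.mk_surjective q
    exact ⟨((⟨x, (hmemP₁ x).mpr hq⟩ : ↥P₁) : ↥P₁ ⧸ N₀.subgroupOf P₁), rfl⟩
  have hθinj : Function.Injective θ := by
    rw [injective_iff_map_eq_one]
    intro y hy
    obtain ⟨x, rfl⟩ := QuotientGroup.mk_surjective y
    rw [hθ] at hy
    rw [QuotientGroup.eq_one_iff, Subgroup.mem_subgroupOf, ← QuotientGroup.eq_one_iff, ← hf, hy]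
    rfl
  have hRp : IsPGroup p (↥P₁ ⧸ N₀.subgroupOf P₁) := IsPGroup.of_injective hQp θ hθinj
  have hfrat : frattini (↥P₁ ⧸ N₀.subgroupOf P₁) ≤ (frattini ↥Q).comap θ :=
    frattini_le_comap_frattini_of_surjective hθsurj
  constructor
  · intro h
    -- `π g` acts trivially on the Frattini quotient of `Q`
    have hact : frattiniAct Q (g : G ⧸ N₀) = 1 := by
      ext v
      induction v using QuotientGroup.induction_on with | _ q => ?_
      obtain ⟨q, hq⟩ := q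
      obtain ⟨x, rfl⟩ := QuotientGroup.mk_surjective q
      have hx : x ∈ P₁ := (hmemP₁ x).mpr hq
      obtain ⟨z, hz, hzx⟩ := h x hx
      rw [SetLike.mem_coe, Subgroup.mem_comap] at hz
      have hz2 : θ (QuotientGroup.mk' (N₀.subgroupOf P₁) z) ∈ frattini ↥Q := hfrat hz
      rw [frattiniAct_mk, MulAut.one_apply]
      have key : (⟨(g : G ⧸ N₀) * (x : G ⧸ N₀) * (g : G ⧸ N₀)⁻¹, hQn.conj_mem _ hq _⟩ : ↥Q) *
          (⟨(x : G ⧸ N₀), hq⟩ : ↥Q)⁻¹ ∈ frattini ↥Q := by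
        convert hz2 using 1
        apply Subtype.ext
        change ((g : G ⧸ N₀) * (x : G ⧸ N₀) * (g : G ⧸ N₀)⁻¹) * ((x : G ⧸ N₀))⁻¹ = (((z : ↥P₁) : G) : G ⧸ N₀)
        have hzx' : ((z : ↥P₁) : G) = g * x * g⁻¹ * x⁻¹ := hzx
        rw [hzx']
        rfl
      have h2 := (QuotientGroup.eq_one_iff _).mpr key
      rw [QuotientGroup.mk_mul, QuotientGroup.mk_inv, mul_inv_eq_one] at h2
      exact h2
    have h1 : (g : G ⧸ N₀) ∈ pCore p (G ⧸ N₀) :=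
      ker_frattiniAct_le_pCore Q hQp hC (MonoidHom.mem_ker.mpr hact)
    rw [hmemP₁, hQdef]
    exact h1
  · intro hg x hx
    haveI : Fact p.Prime := inferInstance
    have h1 : ⁅((⟨g, hg⟩ : ↥P₁) : ↥P₁ ⧸ N₀.subgroupOf P₁), ((⟨x, hx⟩ : ↥P₁) : ↥P₁ ⧸ N₀.subgroupOf P₁)⁆ ∈
        frattini (↥P₁ ⧸ N₀.subgroupOf P₁) := by
      apply commutator_le_frattini hRp
      exact Subgroup.commutator_mem_commutator (Subgroup.mem_top _) (Subgroup.mem_top _)
    refine ⟨⁅(⟨g, hg⟩ : ↥P₁), (⟨x, hx⟩ : ↥P₁)⁆, ?_, ?_⟩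
    · rw [SetLike.mem_coe, Subgroup.mem_comap, map_commutatorElement]
      exact h1
    · rfl

/-- Let `G` be a finite `p`-solvable group, `N₀ = O_{p'}(G)`, `P₁ = O_{p',p}(G)`, and let `F ≤ P₁` be the preimage of the Frattini subgroup of `P₁/N₀`. Then an element `g` of `G` induces the identity on `P₁/F` by conjugation (that is, `g x g⁻¹ x⁻¹ ∈ F` for all `x ∈ P₁`) if and only if `g ∈ P₁`: the group `G/P₁` acts faithfully on `P₁/F`. -/
theorem result {G : Type*} [Group G] [Finite G] {p : ℕ} [Fact p.Prime] (hG : Cfsg.IsPSolvable p G) (g : G) : (∀ x ∈ Cfsg.pPrimePCore p G, g * x * g⁻¹ * x⁻¹ ∈ ((frattini (↥(Cfsg.pPrimePCore p G) ⧸ (Cfsg.pPrimeCore p G).subgroupOf (Cfsg.pPrimePCore p G))).comap (QuotientGroup.mk' ((Cfsg.pPrimeCore p G).subgroupOf (Cfsg.pPrimePCore p G)))).map (Cfsg.pPrimePCore p G).subtype) ↔ g ∈ Cfsg.pPrimePCore p G :=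
  aux hG (pPrimeCore p G) (pPrimePCore p G) rfl rfl g

end Cfsg.Agent.S4218
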