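import Cfsg.Statements.S5299

set_option autoImplicit false
universe u
open Cfsg

namespace Cfsg.Agent.S5299

/-- A group admitting an injective homomorphism into `G` and a surjective one onto `Q` gives a section of `G`
isomorphic to `Q`. -/
theorem involves_of_inj_surj {A : Type*} [Group A] {G : Type*} [Group G] {Q : Type*} [Group Q]
    (j : A →* G) (hj : Function.Injective j) (π : A →* Q) (hπ : Function.Surjective π) :
    Cfsg.Involves Q G := by
  -- the section is `j.range / j(ker π)`
  let e : A ≃* j.range := MonoidHom.ofInjective hj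
  let f : j.range →* Q := π.comp e.symm.toMonoidHom
  have hf : Function.Surjective f := by
    intro q
    obtain ⟨a, rfl⟩ := hπ q
    exact ⟨e a, by simp [f]⟩
  have hker : ((f.ker).map j.range.subtype).subgroupOf j.range = f.ker := by
    rw [Subgroup.subgroupOf]
    exact Subgroup.comap_map_eq_self_of_injective (Subgroup.subtype_injective _) _
  have hn : (((f.ker).map j.range.subtype).subgroupOf j.range).Normal := by
    rw [hker]; infer_instance
  refine ⟨j.range, (f.ker).map j.range.subtype, hn, ⟨?_⟩⟩
  exact (QuotientGroup.quotientMulEquivOfEq hker).trans (QuotientGroup.quotientKerEquivOfSurjective f hf)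

/-- Let F be a saturated fusion system over a finite p-group S, H a finite group and Q a p-subgroup of H. If Q is not involved in S (no section of S is isomorphic to Q), then F is H-free: H is involved in no model of the normalizer system of a fully normalized centric subgroup. -/
theorem result {Ω : Type u} [Group Ω] {S : Subgroup Ω} [Finite S] (p : ℕ) [Fact p.Prime] (hS : IsPGroup p S)
    (F : Cfsg.FusionSystem S) (hF : F.IsSaturated p) (H : Type*) [Group H] [Finite H] (Q : Subgroup H) (hQ : IsPGroup p Q)
    (hfree : ¬ Cfsg.Involves (↥Q) (↥S)) : F.IsSectionFree p H := by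
  intro Q' _ _ N _ L _ ι hmodel hinv
  apply hfree
  obtain ⟨hfin, ⟨hιinj, -⟩, ⟨T, hT⟩, -⟩ := hmodel
  obtain ⟨K, R, hn, ⟨e⟩⟩ := hinv
  -- the surjection `π : K → H`
  let π : K →* H := e.toMonoidHom.comp (QuotientGroup.mk' (R.subgroupOf K))
  have hπ : Function.Surjective π := by
    intro h
    obtain ⟨x, hx⟩ := QuotientGroup.mk'_surjective (R.subgroupOf K) (e.symm h)
    refine ⟨x, ?_⟩
    show e (QuotientGroup.mk' (R.subgroupOf K) x) = h
    rw [hx]; simp
  -- restrict to the preimage of `Q`
  let K₂ : Subgroup K := Q.comap π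
  let π₂ : K₂ →* Q := π.subgroupComap Q
  have hπ₂ : Function.Surjective π₂ := π.subgroupComap_surjective_of_surjective Q hπ
  -- a Sylow p-subgroup of `K₂` maps onto `Q`
  let P₁ : Sylow p K₂ := Sylow.nonempty.some
  have hP₁ : (P₁.mapSurjective hπ₂ : Subgroup Q) = ⊤ :=
    ((P₁.mapSurjective hπ₂).3 (hQ.to_subgroup ⊤) le_top).symm
  let π₃ : P₁ →* Q := π₂.comp (P₁ : Subgroup K₂).subtype
  have hπ₃ : Function.Surjective π₃ := by
    intro q
    have hq : q ∈ ((P₁.mapSurjective hπ₂ : Sylow p Q) : Subgroup Q) := by rw [hP₁]; trivial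
    rw [Sylow.coe_mapSurjective] at hq
    obtain ⟨x, hx, rfl⟩ := hq
    exact ⟨⟨x, hx⟩, rfl⟩
  -- embed `P₁` into `L`
  let j₁ : P₁ →* L := K.subtype.comp (K₂.subtype.comp (P₁ : Subgroup K₂).subtype)
  have hj₁ : Function.Injective j₁ :=
    (Subgroup.subtype_injective K).comp ((Subgroup.subtype_injective K₂).comp (Subgroup.subtype_injective _))
  have hpj : IsPGroup p j₁.range := by
    have : IsPGroup p P₁ := P₁.2
    exact IsPGroup.of_surjective this j₁.rangeRestrict j₁.rangeRestrict_surjective
  obtain ⟨T', hT'⟩ := hpj.exists_le_sylow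
  obtain ⟨g, hg⟩ := MulAction.exists_smul_eq L T' T
  -- conjugate into `T = ι.range`
  have hmem : ∀ x : P₁, g * j₁ x * g⁻¹ ∈ ι.range := by
    intro x
    rw [← hT, ← hg, Sylow.coe_subgroup_smul]
    have := Subgroup.smul_mem_pointwise_smul (j₁ x) (MulAut.conj g) (T' : Subgroup L) (hT' ⟨x, rfl⟩)
    simpa [MulAut.smul_def] using this
  -- the embedding of `P₁` into `S`
  let ι' : ↥(FusionSystem.normalizerIn S Q') ≃* ι.range := MonoidHom.ofInjective hιinj
  let j₂ : P₁ →* ι.range :=
    ((MulAut.conj g).toMonoidHom.comp j₁).codRestrict ι.range (fun x => by simpa using hmem x)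
  have hj₂ : Function.Injective j₂ := by
    intro a b hab
    have : g * j₁ a * g⁻¹ = g * j₁ b * g⁻¹ := by
      have := congrArg Subtype.val hab
      simpa [j₂] using this
    exact hj₁ (mul_left_cancel (mul_right_cancel this))
  let j₃ : P₁ →* S :=
    (Subgroup.inclusion (inf_le_left : FusionSystem.normalizerIn S Q' ≤ S)).comp (ι'.symm.toMonoidHom.comp j₂)
  have hj₃ : Function.Injective j₃ := by
    have h1 : Function.Injective (Subgroup.inclusion (inf_le_left : FusionSystem.normalizerIn S Q' ≤ S)) :=
      Subgroup.inclusion_injective _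
    exact h1.comp (ι'.symm.injective.comp hj₂)
  exact involves_of_inj_surj j₃ hj₃ π₃ hπ₃

end Cfsg.Agent.S5299
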