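-- Statement S5344: a 3-string a - b - c of 3-transpositions generates a copy of Sym(4).
import Cfsg.Statements.S5344
import Cfsg.Agent.Helper89.ThreeTransp

set_option autoImplicit false
open Cfsg

namespace Cfsg.Agent.S5344

open Equiv Cfsg.Agent.Helper89

/-- The Coxeter generators of `Perm (Fin 4)`. -/
def gen (i : Fin 3) : Perm (Fin 4) := swap i.castSucc i.succ

/-- Evaluate a word in the Coxeter generators in `Perm (Fin 4)`. -/
def evalS : List (Fin 3) → Perm (Fin 4)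
  | [] => 1
  | i :: l => gen i * evalS l

/-- Shortlex normal forms of the 24 elements. -/
def nfTable : List (Perm (Fin 4) × List (Fin 3)) :=
  [(evalS [], []), (evalS [0], [0]), (evalS [1], [1]), (evalS [2], [2]), (evalS [0, 1], [0, 1]), (evalS [0, 2], [0, 2]), (evalS [1, 0], [1, 0]), (evalS [1, 2], [1, 2]), (evalS [2, 1], [2, 1]), (evalS [0, 1, 0], [0, 1, 0]), (evalS [0, 1, 2], [0, 1, 2]), (evalS [0, 2, 1], [0, 2, 1]), (evalS [1, 0, 2], [1, 0, 2]), (evalS [1, 2, 1], [1, 2, 1]), (evalS [2, 1, 0], [2, 1, 0]), (evalS [0, 1, 0, 2], [0, 1, 0, 2]), (evalS [0, 1, 2, 1], [0, 1, 2, 1]), (evalS [0, 2, 1, 0], [0, 2, 1, 0]), (evalS [1, 0, 2, 1], [1, 0, 2, 1]), (evalS [1, 2, 1, 0], [1, 2, 1, 0]), (evalS [0, 1, 0, 2, 1], [0, 1, 0, 2, 1]), (evalS [0, 1, 2, 1, 0], [0, 1, 2, 1, 0]), (evalS [1, 0, 2, 1, 0], [1, 0, 2, 1, 0]), (evalS [0, 1, 0, 2, 1, 0], [0, 1, 0, 2, 1, 0])]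

/-- The normal form word of a permutation. -/
def nf (σ : Perm (Fin 4)) : List (Fin 3) :=
  ((nfTable.find? (fun e => decide (e.1 = σ))).map Prod.snd).getD []

/-- Left multiplication table on normal forms. -/
def cayTable : List ((List (Fin 3) × Fin 3) × List (Fin 3)) :=
  [(([], 0), [0]),
   (([], 1), [1]),
   (([], 2), [2]),
   (([0], 0), []),
   (([0], 1), [1, 0]),
   (([0], 2), [0, 2]),
   (([1], 0), [0, 1]),
   (([1], 1), []),
   (([1], 2), [2, 1]),
   (([2], 0), [0, 2]),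
   (([2], 1), [1, 2]),
   (([2], 2), []),
   (([0, 1], 0), [1]),
   (([0, 1], 1), [0, 1, 0]),
   (([0, 1], 2), [0, 2, 1]),
   (([0, 2], 0), [2]),
   (([0, 2], 1), [1, 0, 2]),
   (([0, 2], 2), [0]),
   (([1, 0], 0), [0, 1, 0]),
   (([1, 0], 1), [0]),
   (([1, 0], 2), [2, 1, 0]),
   (([1, 2], 0), [0, 1, 2]),
   (([1, 2], 1), [2]),
   (([1, 2], 2), [1, 2, 1]),
   (([2, 1], 0), [0, 2, 1]),
   (([2, 1], 1), [1, 2, 1]),
   (([2, 1], 2), [1]),
   (([0, 1, 0], 0), [1, 0]),
   (([0, 1, 0], 1), [0, 1]),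
   (([0, 1, 0], 2), [0, 2, 1, 0]),
   (([0, 1, 2], 0), [1, 2]),
   (([0, 1, 2], 1), [0, 1, 0, 2]),
   (([0, 1, 2], 2), [0, 1, 2, 1]),
   (([0, 2, 1], 0), [2, 1]),
   (([0, 2, 1], 1), [1, 0, 2, 1]),
   (([0, 2, 1], 2), [0, 1]),
   (([1, 0, 2], 0), [0, 1, 0, 2]),
   (([1, 0, 2], 1), [0, 2]),
   (([1, 0, 2], 2), [1, 2, 1, 0]),
   (([1, 2, 1], 0), [0, 1, 2, 1]),
   (([1, 2, 1], 1), [2, 1]),
   (([1, 2, 1], 2), [1, 2]),
   (([2, 1, 0], 0), [0, 2, 1, 0]),
   (([2, 1, 0], 1), [1, 2, 1, 0]),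
   (([2, 1, 0], 2), [1, 0]),
   (([0, 1, 0, 2], 0), [1, 0, 2]),
   (([0, 1, 0, 2], 1), [0, 1, 2]),
   (([0, 1, 0, 2], 2), [0, 1, 2, 1, 0]),
   (([0, 1, 2, 1], 0), [1, 2, 1]),
   (([0, 1, 2, 1], 1), [0, 1, 0, 2, 1]),
   (([0, 1, 2, 1], 2), [0, 1, 2]),
   (([0, 2, 1, 0], 0), [2, 1, 0]),
   (([0, 2, 1, 0], 1), [1, 0, 2, 1, 0]),
   (([0, 2, 1, 0], 2), [0, 1, 0]),
   (([1, 0, 2, 1], 0), [0, 1, 0, 2, 1]),
   (([1, 0, 2, 1], 1), [0, 2, 1]),
   (([1, 0, 2, 1], 2), [1, 0, 2, 1, 0]),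
   (([1, 2, 1, 0], 0), [0, 1, 2, 1, 0]),
   (([1, 2, 1, 0], 1), [2, 1, 0]),
   (([1, 2, 1, 0], 2), [1, 0, 2]),
   (([0, 1, 0, 2, 1], 0), [1, 0, 2, 1]),
   (([0, 1, 0, 2, 1], 1), [0, 1, 2, 1]),
   (([0, 1, 0, 2, 1], 2), [0, 1, 0, 2, 1, 0]),
   (([0, 1, 2, 1, 0], 0), [1, 2, 1, 0]),
   (([0, 1, 2, 1, 0], 1), [0, 1, 0, 2, 1, 0]),
   (([0, 1, 2, 1, 0], 2), [0, 1, 0, 2]),
   (([1, 0, 2, 1, 0], 0), [0, 1, 0, 2, 1, 0]),
   (([1, 0, 2, 1, 0], 1), [0, 2, 1, 0]),
   (([1, 0, 2, 1, 0], 2), [1, 0, 2, 1]),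
   (([0, 1, 0, 2, 1, 0], 0), [1, 0, 2, 1, 0]),
   (([0, 1, 0, 2, 1, 0], 1), [0, 1, 2, 1, 0]),
   (([0, 1, 0, 2, 1, 0], 2), [0, 1, 0, 2, 1])]

set_option maxRecDepth 1000000 in
theorem nf_one : nf 1 = [] := by decide

set_option maxRecDepth 1000000 in
theorem evalS_nf : ∀ σ : Perm (Fin 4), evalS (nf σ) = σ := by decide

set_option maxRecDepth 1000000 in
theorem cay_mem : ∀ (σ : Perm (Fin 4)) (i : Fin 3), ((nf σ, i), nf (gen i * σ)) ∈ cayTable := by decide

set_option maxRecDepth 1000000 in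
theorem exists_conj_mul (σ : Perm (Fin 4)) (hσ : σ ≠ 1) :
    ∃ τ ρ : Perm (Fin 4), (τ * σ * τ⁻¹) * (ρ * σ * ρ⁻¹) = swap 0 1 * swap 2 3 ∨
      τ * σ * τ⁻¹ = swap 0 1 * swap 2 3 := by
  revert σ
  decide

theorem evalS_append (u v : List (Fin 3)) : evalS (u ++ v) = evalS u * evalS v := by
  induction u with
  | nil => simp [evalS]
  | cons i u ih => simp [evalS, ih, mul_assoc]

section GSide

variable {G : Type*} [Group G]

/-- Pick one of three elements. -/
def pick (a b c : G) : Fin 3 → G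
  | 0 => a
  | 1 => b
  | 2 => c

/-- Evaluate a word in `a, b, c`. -/
def evalG (a b c : G) : List (Fin 3) → G
  | [] => 1
  | i :: l => pick a b c i * evalG a b c l

theorem evalG_append (a b c : G) (u v : List (Fin 3)) :
    evalG a b c (u ++ v) = evalG a b c u * evalG a b c v := by
  induction u with
  | nil => simp [evalG]
  | cons i u ih => simp [evalG, ih, mul_assoc]

theorem cay_sound (a b c : G) (haa : a * a = 1) (hbb : b * b = 1) (hcc : c * c = 1)
    (hca : c * a = a * c) (hbab : b * (a * b) = a * (b * a)) (hcbc : c * (b * c) = b * (c * b)) :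
    ∀ e ∈ cayTable, pick a b c e.1.2 * evalG a b c e.1.1 = evalG a b c e.2 := by
  have haa' : ∀ x : G, a * (a * x) = x := fun x => by rw [← mul_assoc, haa, one_mul]
  have hbb' : ∀ x : G, b * (b * x) = x := fun x => by rw [← mul_assoc, hbb, one_mul]
  have hcc' : ∀ x : G, c * (c * x) = x := fun x => by rw [← mul_assoc, hcc, one_mul]
  have hca' : ∀ x : G, c * (a * x) = a * (c * x) := fun x => by rw [← mul_assoc, hca, mul_assoc]
  have hbab' : ∀ x : G, b * (a * (b * x)) = a * (b * (a * x)) := fun x => by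
    rw [← mul_assoc a b, ← mul_assoc b, hbab]; simp only [mul_assoc]
  have hcbc' : ∀ x : G, c * (b * (c * x)) = b * (c * (b * x)) := fun x => by
    rw [← mul_assoc b c, ← mul_assoc c, hcbc]; simp only [mul_assoc]
  have h5 : c * (b * (a * c)) = b * (c * (b * a)) := by
    rw [← hca, hcbc']
  have h5' : ∀ x : G, c * (b * (a * (c * x))) = b * (c * (b * (a * x))) := fun x => by
    rw [← hca', hcbc']
  simp only [cayTable, List.forall_mem_cons, List.not_mem_nil, false_imp_iff, imp_true_iff, and_true]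
  simp only [evalG, pick, mul_one, haa, hbb, hcc, hca, hbab, hcbc, haa', hbb', hcc', hca', hbab', hcbc', h5, h5',
    and_self]

theorem evalG_nf (a b c : G) (haa : a * a = 1) (hbb : b * b = 1) (hcc : c * c = 1)
    (hca : c * a = a * c) (hbab : b * (a * b) = a * (b * a)) (hcbc : c * (b * c) = b * (c * b)) :
    ∀ u : List (Fin 3), evalG a b c u = evalG a b c (nf (evalS u))
  | [] => by simp [evalS, nf_one]
  | i :: u => by
      have ih := evalG_nf a b c haa hbb hcc hca hbab hcbc u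
      show pick a b c i * evalG a b c u = evalG a b c (nf (gen i * evalS u))
      rw [ih]
      exact cay_sound a b c haa hbb hcc hca hbab hcbc _ (cay_mem (evalS u) i)

/-- The homomorphism from `Perm (Fin 4)` attached to a triple satisfying the Coxeter relations of type A₃. -/
def coxeterHom (a b c : G) (haa : a * a = 1) (hbb : b * b = 1) (hcc : c * c = 1)
    (hca : c * a = a * c) (hbab : b * (a * b) = a * (b * a)) (hcbc : c * (b * c) = b * (c * b)) :
    Perm (Fin 4) →* G where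
  toFun σ := evalG a b c (nf σ)
  map_one' := by simp [nf_one, evalG]
  map_mul' σ τ := by
    have h : σ * τ = evalS (nf σ ++ nf τ) := by rw [evalS_append, evalS_nf, evalS_nf]
    conv_lhs => rw [h]
    rw [← evalG_nf a b c haa hbb hcc hca hbab hcbc, evalG_append]

theorem coxeterHom_evalS (a b c : G) (haa : a * a = 1) (hbb : b * b = 1) (hcc : c * c = 1)
    (hca : c * a = a * c) (hbab : b * (a * b) = a * (b * a)) (hcbc : c * (b * c) = b * (c * b))
    (u : List (Fin 3)) :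
    coxeterHom a b c haa hbb hcc hca hbab hcbc (evalS u) = evalG a b c u :=
  (evalG_nf a b c haa hbb hcc hca hbab hcbc u).symm

theorem braid_of_cube {x y : G} (hx : x * x = 1) (hy : y * y = 1) (h : (x * y) ^ 3 = 1) :
    y * (x * y) = x * (y * x) := by
  have h1 : (x * (y * x)) * (y * (x * y)) = 1 := by
    rw [← h]; simp [pow_succ, mul_assoc]
  have h2 : y * (x * y) = (x * (y * x))⁻¹ := eq_inv_of_mul_eq_one_right h1
  rw [h2, mul_inv_rev, mul_inv_rev, inv_eq_of_mul_eq_one_left hx, inv_eq_of_mul_eq_one_left hy, mul_assoc]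

end GSide

/-- In a set of 3-transpositions, let a, b, c be members with a and c different and commuting, while neither a nor c commutes with b (a 3-string). Then there is an injective homomorphism from the symmetric group of degree 4 into the ambient group sending the transpositions (0 1), (1 2), (2 3) to a, b, c; so a, b, c generate a copy of the symmetric group of degree 4 in which they are transpositions. -/
theorem result {G : Type*} [Group G] {D : Set G} (hD : Cfsg.IsThreeTranspositionSet D) {a b c : G} (ha : a ∈ D) (hb : b ∈ D) (hc : c ∈ D) (hac : a ≠ c) (hac' : Commute a c) (hab : ¬ Commute a b) (hbc : ¬ Commute b c) : ∃ φ : Equiv.Perm (Fin 4) →* G, Function.Injective φ ∧ φ (Equiv.swap 0 1) = a ∧ φ (Equiv.swap 1 2) = b ∧ φ (Equiv.swap 2 3) = c := by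
  have haa := mul_self_of_orderOf_two (hD.1 a ha)
  have hbb := mul_self_of_orderOf_two (hD.1 b hb)
  have hcc := mul_self_of_orderOf_two (hD.1 c hc)
  have hca : c * a = a * c := hac'.eq.symm
  have hab3 : (a * b) ^ 3 = 1 := by
    rcases hD.2 a ha b hb with h | h
    · exact absurd (commute_of_mul_sq_eq_one haa hbb h) hab
    · exact h
  have hbc3 : (b * c) ^ 3 = 1 := by
    rcases hD.2 b hb c hc with h | h
    · exact absurd (commute_of_mul_sq_eq_one hbb hcc h) hbc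
    · exact h
  have hbab := braid_of_cube haa hbb hab3
  have hcbc := braid_of_cube hbb hcc hbc3
  have e0 : (swap 0 1 : Perm (Fin 4)) = evalS [0] := by decide
  have e1 : (swap 1 2 : Perm (Fin 4)) = evalS [1] := by decide
  have e2 : (swap 2 3 : Perm (Fin 4)) = evalS [2] := by decide
  have h0 : coxeterHom a b c haa hbb hcc hca hbab hcbc (swap 0 1) = a := by
    rw [e0, coxeterHom_evalS]; simp [evalG, pick]
  have h1 : coxeterHom a b c haa hbb hcc hca hbab hcbc (swap 1 2) = b := by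
    rw [e1, coxeterHom_evalS]; simp [evalG, pick]
  have h2 : coxeterHom a b c haa hbb hcc hca hbab hcbc (swap 2 3) = c := by
    rw [e2, coxeterHom_evalS]; simp [evalG, pick]
  refine ⟨coxeterHom a b c haa hbb hcc hca hbab hcbc, ?_, h0, h1, h2⟩
  rw [injective_iff_map_eq_one]
  intro σ hσ
  by_contra hne
  have hkey : coxeterHom a b c haa hbb hcc hca hbab hcbc (swap 0 1 * swap 2 3) = 1 := by
    obtain ⟨τ, ρ, h | h⟩ := exists_conj_mul σ hne
    · rw [← h]; simp [hσ]
    · rw [← h]; simp [hσ]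
  rw [map_mul, h0, h2] at hkey
  apply hac
  have : a = c⁻¹ := eq_inv_of_mul_eq_one_left hkey
  rw [this, inv_eq_of_mul_eq_one_left hcc]

end Cfsg.Agent.S5344
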