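import Cfsg.Statements.S2759
import Cfsg.Agent.Helper91.S4Fwd
import Cfsg.Agent.Helper91.S4Lift
import Cfsg.Agent.Helper91.S4Back

set_option autoImplicit false
open Cfsg

namespace Cfsg.Agent.S2759

/-- (⇐) direction. -/
theorem s4_involved_of_s3_involved {G : Type*} [Group G] [Finite G] (T : Subgroup G) (hT : IsPGroup 2 ↥T)
    (h : Cfsg.Involves (Equiv.Perm (Fin 3)) (↥(Subgroup.normalizer (T : Set G)) ⧸
      (Subgroup.centralizer (T : Set G)).subgroupOf (Subgroup.normalizer (T : Set G)))) :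
    Cfsg.Involves (Equiv.Perm (Fin 4)) G := by
  obtain ⟨Kb, Rb, hn, ⟨e⟩⟩ := h
  set N : Subgroup G := Subgroup.normalizer (T : Set G) with hN
  set C' : Subgroup ↥N := (Subgroup.centralizer (T : Set G)).subgroupOf N with hC'
  let f : ↥N →* ↥N ⧸ C' := QuotientGroup.mk' C'
  let Γ : Subgroup ↥N := Kb.comap f
  let ψ : ↥Γ →* Equiv.Perm (Fin 3) :=
    e.toMonoidHom.comp ((QuotientGroup.mk' (Rb.subgroupOf Kb)).comp (f.subgroupComap Kb))
  have hψ : Function.Surjective ψ :=
    e.surjective.comp ((QuotientGroup.mk'_surjective _).comp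
      (f.subgroupComap_surjective_of_surjective Kb (QuotientGroup.mk'_surjective C')))
  obtain ⟨x, y, ⟨a, hxa⟩, ⟨b, hyb⟩, hxy, hψy⟩ := Cfsg.Agent.Helper91.exists_exact_inversion ψ hψ
  apply Cfsg.Agent.Helper91.involves_s4_of_inverting T ((x : ↥N) : G) ((y : ↥N) : G) hT
    (x : ↥N).2 (y : ↥N).2 ⟨a, ?_⟩ ⟨b, ?_⟩ ?_ ?_
  · have := congrArg (fun z : ↥Γ => ((z : ↥N) : G)) hxa
    simpa using this
  · have := congrArg (fun z : ↥Γ => ((z : ↥N) : G)) hyb
    simpa using this
  · have := congrArg (fun z : ↥Γ => ((z : ↥N) : G)) hxy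
    simpa using this
  · intro hcen
    apply hψy
    have h1 : (y : ↥N) ∈ C' := hcen
    have h2 : f (y : ↥N) = 1 := (QuotientGroup.eq_one_iff _).2 h1
    have h3 : (f.subgroupComap Kb) y = 1 := Subtype.ext h2
    show e ((QuotientGroup.mk' (Rb.subgroupOf Kb)) ((f.subgroupComap Kb) y)) = 1
    rw [h3, map_one, map_one]

/-- For a finite group G, the symmetric group of degree 4 is involved in G if and only if there is a 2-subgroup T of G such that the symmetric group of degree 3 is involved in N(T)/C(T). -/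
theorem result {G : Type*} [Group G] [Finite G] : Cfsg.Involves (Equiv.Perm (Fin 4)) G ↔ ∃ T : Subgroup G, IsPGroup 2 ↥T ∧ Cfsg.Involves (Equiv.Perm (Fin 3)) (↥(Subgroup.normalizer (T : Set G)) ⧸ (Subgroup.centralizer (T : Set G)).subgroupOf (Subgroup.normalizer (T : Set G))) := by
  constructor
  · exact Cfsg.Agent.Helper91.s3_involved_of_s4_involved
  · rintro ⟨T, hT, h⟩
    exact s4_involved_of_s3_involved T hT h

end Cfsg.Agent.S2759
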