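import Cfsg.Statements.S3788
import Cfsg.Agent.Helper64.CyclicNormal
import Cfsg.Agent.Helper37.InvolvesQuotient
import Cfsg.Agent.Helper54.PConstrained
import Cfsg.Agent.S2759
import Cfsg.Agent.S5299

set_option autoImplicit false
open Cfsg

namespace Cfsg.Agent.S3788

open Cfsg.Agent.Helper64 Cfsg.Agent.Lib

/-- involvement passes back along surjections -/
theorem involves_of_surjective {A B S : Type*} [Group A] [Group B] [Group S] (φ : A →* B)
    (hφ : Function.Surjective φ) (h : Cfsg.Involves S B) : Cfsg.Involves S A := by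
  obtain ⟨Kb, Rb, hn, ⟨e⟩⟩ := h
  let ψ : ↥(Kb.comap φ) →* S :=
    e.toMonoidHom.comp ((QuotientGroup.mk' (Rb.subgroupOf Kb)).comp (φ.subgroupComap Kb))
  have hψ : Function.Surjective ψ :=
    e.surjective.comp ((QuotientGroup.mk'_surjective _).comp
      (φ.subgroupComap_surjective_of_surjective Kb hφ))
  exact Cfsg.Agent.S5299.involves_of_inj_surj (Kb.comap φ).subtype (Subgroup.subtype_injective _) ψ hψ

/-- the case `p = 2`, `O_{2'}(G) = 1` -/
theorem cyclic_le_pCore_of_two {G : Type*} [Group G] [Finite G] (hG : Cfsg.IsPSolvable 2 G)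
    (hO : Cfsg.pPrimeCore 2 G = ⊥) (hS4 : ¬ Cfsg.Involves (Equiv.Perm (Fin 4)) G)
    (P : Sylow 2 G) (A : Subgroup G) (hAP : A ≤ (P : Subgroup G))
    (hAn : (P : Subgroup G) ≤ Subgroup.normalizer (A : Set G)) (hA : IsCyclic A) :
    A ≤ Cfsg.pCore 2 G := by
  by_contra hAR
  obtain ⟨b, hbel, hbR, hc, hcomm⟩ :=
    exists_cns_elt P (pCore 2 G) (pCore_le_sylow P) A hAP hAn hA hAR
  have hC : Subgroup.centralizer (pCore 2 G : Set G) ≤ pCore 2 G :=
    Cfsg.Agent.Helper11.centralizer_pCore_le_of_isPSolvable hG hO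
  have h3 : Cfsg.Involves (Equiv.Perm (Fin 3)) (G ⧸ pCore 2 G) :=
    involves_S3_of_cns_two (pCore 2 G) (isPGroup_pCore 2) hC le_rfl
      (Cfsg.Agent.Helper11.isPSolvable_quotient _ hG)
      (Cfsg.Agent.Helper62.pCore_quotient_pCore_eq_bot 2) b hbel hbR hc hcomm
  apply hS4
  apply Cfsg.Agent.S2759.s4_involved_of_s3_involved (pCore 2 G) (isPGroup_pCore 2)
  -- the surjection `N(R)/C(R) → G/R`
  have hker : (Subgroup.centralizer (pCore 2 G : Set G)).subgroupOf
      (Subgroup.normalizer (pCore 2 G : Set G)) ≤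
      ((QuotientGroup.mk' (pCore 2 G)).comp (Subgroup.normalizer (pCore 2 G : Set G)).subtype).ker := by
    intro x hx
    rw [MonoidHom.mem_ker]
    show ((x : G) : G ⧸ pCore 2 G) = 1
    rw [QuotientGroup.eq_one_iff]
    exact hC (Subgroup.mem_subgroupOf.mp hx)
  refine involves_of_surjective (QuotientGroup.lift _ _ hker) ?_ h3
  intro y
  obtain ⟨g, rfl⟩ := QuotientGroup.mk_surjective y
  have hg : g ∈ Subgroup.normalizer (pCore 2 G : Set G) := by
    rw [Subgroup.normalizer_eq_top]; exact Subgroup.mem_top g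
  exact ⟨((⟨g, hg⟩ : Subgroup.normalizer (pCore 2 G : Set G)) : _ ⧸ _), rfl⟩

/-- Let G be a finite p-soluble group, P a Sylow p-subgroup of G and A a cyclic normal subgroup of P. If p is odd, or if no section of G is isomorphic to the symmetric group of degree 4, then A ≤ O_{p',p}(G). -/
theorem result {G : Type*} [Group G] [Finite G] {p : ℕ} [Fact p.Prime] (hG : Cfsg.IsPSolvable p G) (P : Sylow p G) (A : Subgroup G) (hAP : A ≤ (P : Subgroup G)) (hAn : (P : Subgroup G) ≤ Subgroup.normalizer (A : Set G)) (hA : IsCyclic A) (h : p ≠ 2 ∨ ¬ Cfsg.Involves (Equiv.Perm (Fin 4)) G) : A ≤ Cfsg.pPrimePCore p G := by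
  have hπ : Function.Surjective (QuotientGroup.mk' (pPrimeCore p G)) :=
    QuotientGroup.mk'_surjective _
  have hA' : A.map (QuotientGroup.mk' (pPrimeCore p G)) ≤
      ((P.mapSurjective hπ : Sylow p (G ⧸ pPrimeCore p G)) : Subgroup (G ⧸ pPrimeCore p G)) := by
    rw [Sylow.coe_mapSurjective]
    exact Subgroup.map_mono hAP
  have hAn' : ((P.mapSurjective hπ : Sylow p (G ⧸ pPrimeCore p G)) : Subgroup (G ⧸ pPrimeCore p G)) ≤
      Subgroup.normalizer ((A.map (QuotientGroup.mk' (pPrimeCore p G)) : Subgroup _) : Set _) := by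
    rw [Sylow.coe_mapSurjective]
    exact (Subgroup.map_mono hAn).trans (Subgroup.le_normalizer_map _)
  have hA'c : IsCyclic (A.map (QuotientGroup.mk' (pPrimeCore p G))) := by
    haveI := hA
    exact isCyclic_of_surjective ((QuotientGroup.mk' (pPrimeCore p G)).subgroupMap A)
      ((QuotientGroup.mk' (pPrimeCore p G)).subgroupMap_surjective A)
  have hGq : Cfsg.IsPSolvable p (G ⧸ pPrimeCore p G) :=
    Cfsg.Agent.Helper11.isPSolvable_quotient _ hG
  have hOq : pPrimeCore p (G ⧸ pPrimeCore p G) = ⊥ := Cfsg.Agent.Helper54.pPrimeCore_quotient_eq_bot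
  have key : A.map (QuotientGroup.mk' (pPrimeCore p G)) ≤ pCore p (G ⧸ pPrimeCore p G) := by
    by_cases hp2 : p = 2
    · subst hp2
      rcases h with h | h
      · exact absurd rfl h
      · exact cyclic_le_pCore_of_two hGq hOq
          (fun hinv => h (Cfsg.Agent.Helper37.involves_of_involves_quotient _ hinv))
          (P.mapSurjective hπ) _ hA' hAn' hA'c
    · exact cyclic_le_pCore_of_odd hp2 hGq hOq (P.mapSurjective hπ) _ hA' hAn' hA'c
  intro a ha
  show a ∈ (pCore p (G ⧸ pPrimeCore p G)).comap (QuotientGroup.mk' (pPrimeCore p G))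
  exact key (Subgroup.mem_map_of_mem _ ha)

end Cfsg.Agent.S3788
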