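import Cfsg.Statements.S0034
import Cfsg.Agent.Helper63.Frobenius

set_option autoImplicit false
open Cfsg

namespace Cfsg.Agent.S0034

/-- the index of a Frobenius complement is `1` modulo its order: `H` acts freely on the
nontrivial cosets. -/
theorem index_mod {G : Type*} [Group G] [Finite G] (H : Subgroup G)
    (hH : Cfsg.IsFrobeniusComplement H) : H.index % Nat.card H = 1 % Nat.card H := by
  classical
  let X := {q : G ⧸ H // q ≠ ((1 : G) : G ⧸ H)}
  have hstable : ∀ (h : H) (q : G ⧸ H), q ≠ ((1 : G) : G ⧸ H) → h • q ≠ ((1 : G) : G ⧸ H) := by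
    intro h q hq hhq
    apply hq
    have : q = h⁻¹ • ((1 : G) : G ⧸ H) := by rw [← hhq, inv_smul_smul]
    rw [this]
    change (((h⁻¹ : H) : G) • ((1 : G) : G ⧸ H)) = _
    rw [MulAction.Quotient.smul_mk, QuotientGroup.eq]
    simp
  letI : MulAction H X :=
    { smul := fun h q => ⟨h • q.1, hstable h q.1 q.2⟩
      one_smul := fun q => Subtype.ext (one_smul _ _)
      mul_smul := fun a b q => Subtype.ext (mul_smul _ _ _) }
  have hfree : ∀ b : X, MulAction.stabilizer H b = ⊥ := by
    rintro ⟨q, hq⟩
    rw [Subgroup.eq_bot_iff_forall]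
    intro h hh
    rw [MulAction.mem_stabilizer_iff] at hh
    have hh' : h • q = q := congrArg Subtype.val hh
    induction q using QuotientGroup.induction_on with
    | H x =>
      have hx : x ∉ H := by
        intro hx
        apply hq
        rw [QuotientGroup.eq]
        simpa using hx
      change ((h : G) • (x : G ⧸ H)) = _ at hh'
      rw [MulAction.Quotient.smul_mk, QuotientGroup.eq] at hh'
      by_contra h1
      have h1' : (h : G) ≠ 1 := fun hh => h1 (Subtype.ext hh)
      apply hx
      apply Helper63.frob_mem_of_conj hH h1' h.2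
      have : x⁻¹ * (h : G) * x = (((h : G) • x)⁻¹ * x)⁻¹ := by
        simp [smul_eq_mul, mul_assoc]
      rw [this]
      exact H.inv_mem hh'
  have e := MulAction.selfEquivOrbitsQuotientProd hfree
  have hcard : Nat.card X = Nat.card (Quotient (MulAction.orbitRel H X)) * Nat.card H := by
    rw [Nat.card_congr e, Nat.card_prod]
  have hX : Nat.card X + 1 = H.index := by
    rw [Subgroup.index_eq_card]
    have : Nat.card X = ({((1 : G) : G ⧸ H)} : Set (G ⧸ H))ᶜ.ncard := by
      rw [← Nat.card_coe_set_eq]
      rfl
    rw [this, ← Set.ncard_singleton ((1 : G) : G ⧸ H), add_comm, Set.ncard_add_ncard_compl]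
  rw [← hX, hcard, add_comm, Nat.add_mul_mod_self_right]

/-- For a Frobenius complement H, the set of elements lying in no conjugate of H, together with 1, has exactly as many elements as the index of H, and that index is congruent to 1 modulo the order of H. -/
theorem result {G : Type*} [Group G] [Finite G] (H : Subgroup G) (hH : Cfsg.IsFrobeniusComplement H) :
    Nat.card (Cfsg.frobeniusKernel H) = H.index ∧ H.index % Nat.card H = 1 % Nat.card H := by
  refine ⟨?_, index_mod H hH⟩
  rw [Nat.card_coe_set_eq]
  exact Helper63.frob_card_kernel hH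

end Cfsg.Agent.S0034
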