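import Cfsg.Statements.S0666
import Cfsg.Agent.S0035
import Cfsg.Agent.Helper63.Frobenius
import Cfsg.Agent.Helper24.Coprime

set_option autoImplicit false
open Cfsg

namespace Cfsg.Agent.S0666

open scoped Pointwise

/-- The product over a subgroup `L` of the translates of `v` is fixed by `L`. -/
theorem fixed_prod {F V : Type*} [Group F] [CommGroup V] (φ : F →* MulAut V) (L : Subgroup F)
    [Fintype L] (v : V) (y : F) (hy : y ∈ L) :
    φ y (∏ x : L, φ (x : F) v) = ∏ x : L, φ (x : F) v := by
  rw [map_prod]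
  have : ∀ x : L, φ y (φ (x : F) v) = φ ((⟨y, hy⟩ * x : L) : F) v := by
    intro x
    rw [Subgroup.coe_mul, map_mul, MulAut.mul_apply]
  simp only [this]
  exact Fintype.prod_equiv (Equiv.mulLeft ⟨y, hy⟩) _ _ (fun x => rfl)

/-- The partition of a Frobenius group: the nonidentity elements of the complement, conjugated by
the kernel, are exactly the elements outside the kernel. -/
theorem partition_bijective {F : Type*} [Group F] (H N : Subgroup F)
    (hH : Cfsg.IsFrobeniusComplement H) (hNk : (N : Set F) = Cfsg.frobeniusKernel H)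
    (hNn : N.Normal) (hc : Subgroup.IsComplement' N H) :
    ∃ ψ : N × {h : H // h ≠ 1} → {x : F // x ∉ N}, Function.Bijective ψ ∧
      ∀ q, ((ψ q : {x : F // x ∉ N}) : F) = (q.1 : F) * ((q.2 : H) : F) * (q.1 : F)⁻¹ := by
  have hdisj : ∀ x : F, x ∈ N → x ∈ H → x = 1 := by
    intro x hxN hxH
    have := hc.disjoint.le_bot (Subgroup.mem_inf.mpr ⟨hxN, hxH⟩)
    exact (Subgroup.mem_bot).mp this
  have hwd : ∀ q : N × {h : H // h ≠ 1}, (q.1 : F) * ((q.2 : H) : F) * (q.1 : F)⁻¹ ∉ N := by
    intro q hq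
    have h1 : ((q.2 : H) : F) ∈ N := by
      have := hNn.conj_mem _ hq (q.1 : F)⁻¹
      have e : (q.1 : F)⁻¹ * ((q.1 : F) * ((q.2 : H) : F) * (q.1 : F)⁻¹) * (q.1 : F)⁻¹⁻¹
          = ((q.2 : H) : F) := by group
      rwa [e] at this
    have h2 := hdisj _ h1 (q.2 : H).2
    exact q.2.2 (Subtype.ext h2)
  refine ⟨fun q => ⟨_, hwd q⟩, ⟨?_, ?_⟩, fun q => rfl⟩
  · -- injective
    rintro ⟨n, ⟨h, hh⟩⟩ ⟨n', ⟨h', hh'⟩⟩ heq
    have heq' : (n : F) * (h : F) * (n : F)⁻¹ = (n' : F) * (h' : F) * (n' : F)⁻¹ :=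
      congrArg Subtype.val heq
    set y : F := (n : F) * (h : F) * (n : F)⁻¹ with hy
    have hy1 : y ≠ 1 := by
      intro h1
      apply hh
      have : (h : F) = (n : F)⁻¹ * y * (n : F) := by rw [hy]; group
      rw [h1] at this
      apply Subtype.ext
      rw [this]; simp
    have e1 : (n : F)⁻¹ * y * (n : F) ∈ H := by
      have : (n : F)⁻¹ * y * (n : F) = (h : F) := by rw [hy]; group
      rw [this]; exact h.2
    have e2 : (n' : F)⁻¹ * y * (n' : F) ∈ H := by
      have : (n' : F)⁻¹ * y * (n' : F) = (h' : F) := by rw [heq']; group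
      rw [this]; exact h'.2
    have e3 := Cfsg.Agent.Helper63.frob_conj_eq hH hy1 e1 e2
    have e4 : (n : F)⁻¹ * (n' : F) ∈ N := N.mul_mem (N.inv_mem n.2) n'.2
    have e5 := hdisj _ e4 e3
    have hnn : n = n' := by
      apply Subtype.ext
      have : (n' : F) = (n : F) * ((n : F)⁻¹ * (n' : F)) := by group
      rw [this, e5, mul_one]
    subst hnn
    have hhh : (h : F) = (h' : F) := by
      have : (h : F) = (n : F)⁻¹ * y * (n : F) := by rw [hy]; group
      rw [this, heq']; group
    have : h = h' := Subtype.ext hhh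
    subst this
    rfl
  · -- surjective
    rintro ⟨x, hx⟩
    have hxk : x ∉ Cfsg.frobeniusKernel H := by
      rw [← hNk]; exact hx
    rw [Cfsg.Agent.Helper63.not_mem_frobeniusKernel_iff] at hxk
    obtain ⟨hx1, g, hg⟩ := hxk
    obtain ⟨⟨⟨n, hn⟩, ⟨h, hh⟩⟩, hnh, -⟩ := (Subgroup.isComplement'_def.mp hc).existsUnique g
    simp only at hnh
    have e1 : n⁻¹ * x * n ∈ H := by
      have : n⁻¹ * x * n = h * (g⁻¹ * x * g) * h⁻¹ := by rw [← hnh]; group
      rw [this]
      exact H.mul_mem (H.mul_mem hh hg) (H.inv_mem hh)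
    have e2 : (⟨n⁻¹ * x * n, e1⟩ : H) ≠ 1 := by
      intro h1
      apply hx1
      have h2 : n⁻¹ * x * n = 1 := congrArg Subtype.val h1
      have : x = n * (n⁻¹ * x * n) * n⁻¹ := by group
      rw [this, h2]; group
    refine ⟨⟨⟨n, hn⟩, ⟨⟨n⁻¹ * x * n, e1⟩, e2⟩⟩, ?_⟩
    apply Subtype.ext
    show n * (n⁻¹ * x * n) * n⁻¹ = x
    group

/-- Abstract form: a Frobenius group `F = N H` acting on a commutative group `V` of order prime to `#N`
such that neither `N` nor `H` has nontrivial fixed points; then `V` is trivial. -/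
theorem abstract_main {F V : Type*} [Group F] [Finite F] [CommGroup V] [Finite V]
    (φ : F →* MulAut V) (H N : Subgroup F) (hH : Cfsg.IsFrobeniusComplement H)
    (hNk : (N : Set F) = Cfsg.frobeniusKernel H) (hNn : N.Normal)
    (hc : Subgroup.IsComplement' N H) (hcop : (Nat.card V).Coprime (Nat.card N))
    (hfixN : ∀ v : V, (∀ n ∈ N, φ n v = v) → v = 1)
    (hfixH : ∀ v : V, (∀ h ∈ H, φ h v = v) → v = 1) : ∀ v : V, v = 1 := by
  classical
  intro v
  have : Fintype F := Fintype.ofFinite F
  set f : F → V := fun x => φ x v with hf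
  -- the product over N is trivial
  have hTN : ∏ x : N, f x = 1 := hfixN _ (fun n hn => fixed_prod φ N v n hn)
  -- the product over F is trivial
  have hTF : ∏ x : F, f x = 1 := by
    apply hfixN
    intro n _
    rw [map_prod]
    have : ∀ x : F, φ n (f x) = f (n * x) := by
      intro x
      simp only [hf, map_mul, MulAut.mul_apply]
    simp only [this]
    exact Fintype.prod_equiv (Equiv.mulLeft n) _ _ (fun x => rfl)
  -- the products over the conjugates of H are trivial
  have hTH : ∀ n : N, ∏ h : H, f ((n : F) * (h : F) * (n : F)⁻¹) = 1 := by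
    intro n
    have h1 : ∀ h : H, f ((n : F) * (h : F) * (n : F)⁻¹) = φ (n : F) (φ (h : F) (φ (n : F)⁻¹ v)) := by
      intro h
      simp only [hf, map_mul, MulAut.mul_apply]
    simp only [h1]
    rw [← map_prod]
    have h2 : ∏ h : H, φ (h : F) (φ (n : F)⁻¹ v) = 1 :=
      hfixH _ (fun h hh => fixed_prod φ H _ h hh)
    rw [h2, map_one]
  -- the double product
  obtain ⟨ψ, hψ, hψv⟩ := partition_bijective H N hH hNk hNn hc
  have hdouble : ∏ n : N, ∏ h : H, f ((n : F) * (h : F) * (n : F)⁻¹)
      = f 1 ^ (Fintype.card N) * ∏ x : {x : F // x ∉ N}, f x := by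
    have h1 : ∀ n : N, ∏ h : H, f ((n : F) * (h : F) * (n : F)⁻¹)
        = f 1 * ∏ h : {h : H // h ≠ 1}, f ((n : F) * ((h : H) : F) * (n : F)⁻¹) := by
      intro n
      rw [Fintype.prod_eq_mul_prod_subtype_ne (fun h : H => f ((n : F) * (h : F) * (n : F)⁻¹)) 1]
      simp
    simp only [h1]
    rw [Finset.prod_mul_distrib, Finset.prod_const, Finset.card_univ]
    congr 1
    rw [← Fintype.prod_prod_type' (fun (n : N) (h : {h : H // h ≠ 1}) =>
      f ((n : F) * ((h : H) : F) * (n : F)⁻¹))]
    rw [← hψ.prod_comp (fun x : {x : F // x ∉ N} => f x)]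
    apply Fintype.prod_congr
    intro q
    rw [hψv q]
  have hsplit : (∏ x : {x : F // x ∈ N}, f x) * ∏ x : {x : F // x ∉ N}, f x = ∏ x : F, f x :=
    Fintype.prod_subtype_mul_prod_subtype (fun x => x ∈ N) f
  have hTN' : ∏ x : {x : F // x ∈ N}, f x = 1 := hTN
  rw [hTN', one_mul, hTF] at hsplit
  have hdouble1 : ∏ n : N, ∏ h : H, f ((n : F) * (h : F) * (n : F)⁻¹) = 1 :=
    Finset.prod_eq_one (fun n _ => hTH n)
  rw [hdouble1, hsplit, mul_one] at hdouble
  have hf1 : f 1 = v := by simp [hf]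
  rw [hf1] at hdouble
  have hvN : v ^ Nat.card N = 1 := by rw [Nat.card_eq_fintype_card]; exact hdouble.symm
  have hvV : v ^ Nat.card V = 1 := pow_card_eq_one'
  have d1 := orderOf_dvd_of_pow_eq_one hvN
  have d2 := orderOf_dvd_of_pow_eq_one hvV
  exact orderOf_eq_one_iff.mp (Nat.eq_one_of_dvd_coprimes hcop d2 d1)

/-- conjugation action of a subgroup `F ≤ N_G(V)` on `V`. -/
def normConj {G : Type*} [Group G] (V F : Subgroup G)
    (hFV : F ≤ Subgroup.normalizer (V : Set G)) : F →* MulAut V :=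
  MonoidHom.mk' (fun x =>
    { toFun := fun v => ⟨(x : G) * (v : G) * (x : G)⁻¹,
        Cfsg.Agent.Helper24.conj_mem_of_mem_normalizer (hFV x.2) v.2⟩
      invFun := fun v => ⟨(x : G)⁻¹ * (v : G) * (x : G),
        Cfsg.Agent.Helper24.conj_inv_mem_of_mem_normalizer (hFV x.2) v.2⟩
      left_inv := fun v => Subtype.ext (by simp [mul_assoc])
      right_inv := fun v => Subtype.ext (by simp [mul_assoc])
      map_mul' := fun v w => Subtype.ext (by simp [mul_assoc]) })
    (fun x y => MulEquiv.ext fun v => Subtype.ext (by simp [mul_assoc]))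

theorem normConj_apply {G : Type*} [Group G] (V F : Subgroup G)
    (hFV : F ≤ Subgroup.normalizer (V : Set G)) (x : F) (v : V) :
    ((normConj V F hFV x v : V) : G) = (x : G) * (v : G) * (x : G)⁻¹ := rfl

end Cfsg.Agent.S0666

namespace Cfsg.Agent.S0666

/-- A Frobenius group acting on a nontrivial abelian group of order prime to that of its kernel, with the kernel acting without nontrivial fixed points, has a complement with a nontrivial fixed point. -/
theorem result {G : Type*} [Group G] [Finite G] (V F : Subgroup G) (hVab : IsMulCommutative V) (hV1 : V ≠ ⊥) (hFV : F ≤ Subgroup.normalizer (V : Set G)) (H : Subgroup ↥F) (hH : Cfsg.IsFrobeniusComplement H) (hcop : (Nat.card V).Coprime (Nat.card (Cfsg.frobeniusKernel H))) (hCK : V ⊓ Subgroup.centralizer (Subtype.val '' Cfsg.frobeniusKernel H : Set G) = ⊥) : V ⊓ Subgroup.centralizer ((H.map F.subtype : Subgroup G) : Set G) ≠ ⊥ := by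
  classical
  intro hbot
  obtain ⟨N, hNk, hNn, hc⟩ := Cfsg.Agent.S0035.result H hH
  let _ : CommGroup V := { (inferInstance : Group V) with mul_comm := fun a b => mul_comm' a b }
  have hcop' : (Nat.card V).Coprime (Nat.card N) := by
    have : Nat.card N = Nat.card (Cfsg.frobeniusKernel H) := by rw [← hNk]; rfl
    rw [this]; exact hcop
  have hfixN : ∀ v : V, (∀ n ∈ N, normConj V F hFV n v = v) → v = 1 := by
    intro v hv
    have hmem : (v : G) ∈ V ⊓ Subgroup.centralizer (Subtype.val '' Cfsg.frobeniusKernel H : Set G) := by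
      refine Subgroup.mem_inf.mpr ⟨v.2, ?_⟩
      rw [Subgroup.mem_centralizer_iff]
      rintro _ ⟨n, hn, rfl⟩
      have hnN : n ∈ N := by
        have : n ∈ (N : Set F) := by rw [hNk]; exact hn
        exact this
      have h1 := congrArg Subtype.val (hv n hnN)
      rw [normConj_apply] at h1
      calc (n : G) * (v : G) = ((n : G) * (v : G) * (n : G)⁻¹) * (n : G) := by group
        _ = (v : G) * (n : G) := by rw [h1]
    rw [hCK, Subgroup.mem_bot] at hmem
    exact Subtype.ext hmem
  have hfixH : ∀ v : V, (∀ h ∈ H, normConj V F hFV h v = v) → v = 1 := by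
    intro v hv
    have hmem : (v : G) ∈ V ⊓ Subgroup.centralizer ((H.map F.subtype : Subgroup G) : Set G) := by
      refine Subgroup.mem_inf.mpr ⟨v.2, ?_⟩
      rw [Subgroup.mem_centralizer_iff]
      rintro _ ⟨h, hh, rfl⟩
      have h1 := congrArg Subtype.val (hv h hh)
      rw [normConj_apply] at h1
      show (h : G) * (v : G) = (v : G) * (h : G)
      calc (h : G) * (v : G) = ((h : G) * (v : G) * (h : G)⁻¹) * (h : G) := by group
        _ = (v : G) * (h : G) := by rw [h1]
    rw [hbot, Subgroup.mem_bot] at hmem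
    exact Subtype.ext hmem
  have key := abstract_main (normConj V F hFV) H N hH hNk hNn hc hcop' hfixN hfixH
  apply hV1
  rw [eq_bot_iff]
  intro v hv
  have := key ⟨v, hv⟩
  rw [Subgroup.mem_bot]
  exact congrArg Subtype.val this

end Cfsg.Agent.S0666
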