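import Cfsg.Statements.S0038
import Cfsg.Agent.S0035
import Cfsg.Agent.S0034
import Cfsg.Agent.S0666
import Cfsg.Agent.S0037
import Cfsg.Agent.S0589
import Cfsg.Agent.Helper63.Frobenius
import Cfsg.Agent.Helper24.OddOmega

set_option autoImplicit false
open Cfsg

namespace Cfsg.Agent.S0038

open scoped Pointwise

/-- A conjugate of a Frobenius complement is a Frobenius complement. -/
theorem isFrobeniusComplement_conj {G : Type*} [Group G] {H : Subgroup G}
    (hH : Cfsg.IsFrobeniusComplement H) (x : G) :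
    Cfsg.IsFrobeniusComplement (MulAut.conj x • H) := by
  obtain ⟨h1, h2, h3⟩ := hH
  refine ⟨?_, ?_, ?_⟩
  · intro hbot
    apply h1
    rw [eq_bot_iff]
    intro h hh
    have := Cfsg.Agent.Helper63.conj_mem_conj_smul H x h hh
    rw [hbot, Subgroup.mem_bot] at this
    rw [Subgroup.mem_bot]
    have e : h = x⁻¹ * (x * h * x⁻¹) * x := by group
    rw [e, this]; group
  · intro htop
    apply h2
    rw [eq_top_iff]
    intro g _
    have : x * g * x⁻¹ ∈ MulAut.conj x • H := by rw [htop]; exact Subgroup.mem_top _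
    rw [Cfsg.Agent.Helper63.mem_conj_smul] at this
    have e : x⁻¹ * (x * g * x⁻¹) * x = g := by group
    rwa [e] at this
  · intro g hg
    rw [Cfsg.Agent.Helper63.mem_conj_smul] at hg
    rw [eq_bot_iff]
    intro y hy
    obtain ⟨hy1, hy2⟩ := Subgroup.mem_inf.mp hy
    rw [Cfsg.Agent.Helper63.mem_conj_smul] at hy1 hy2
    rw [Cfsg.Agent.Helper63.mem_conj_smul] at hy2
    have h4 := h3 (x⁻¹ * g * x) hg
    have h5 : x⁻¹ * y * x ∈ H ⊓ MulAut.conj (x⁻¹ * g * x) • H := by
      refine Subgroup.mem_inf.mpr ⟨hy1, ?_⟩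
      rw [Cfsg.Agent.Helper63.mem_conj_smul]
      have e : (x⁻¹ * g * x)⁻¹ * (x⁻¹ * y * x) * (x⁻¹ * g * x) = x⁻¹ * (g⁻¹ * y * g) * x := by group
      rw [e]; exact hy2
    rw [h4, Subgroup.mem_bot] at h5
    rw [Subgroup.mem_bot]
    have e : y = x * (x⁻¹ * y * x) * x⁻¹ := by group
    rw [e, h5]; group

/-- In a Frobenius complement, the centralizer of a nonidentity element lies in the complement. -/
theorem mem_of_commute {G : Type*} [Group G] {H : Subgroup G}
    (hH : Cfsg.IsFrobeniusComplement H) {h c : G} (hh : h ∈ H) (h1 : h ≠ 1)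
    (hc : c * h = h * c) : c ∈ H := by
  apply Cfsg.Agent.Helper63.frob_mem_of_conj hH h1 hh
  have : c⁻¹ * h * c = h := by
    calc c⁻¹ * h * c = c⁻¹ * (h * c) := by group
      _ = c⁻¹ * (c * h) := by rw [hc]
      _ = h := by group
  rw [this]; exact hh

/-- A nonidentity element of the Frobenius kernel lies in no conjugate of the complement. -/
theorem not_mem_conj_of_mem_kernel {G : Type*} [Group G] {H : Subgroup G} {n : G}
    (hn : n ∈ Cfsg.frobeniusKernel H) (hn1 : n ≠ 1) (x : G) : n ∉ MulAut.conj x • H := by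
  rcases hn with h | h
  · exact absurd h hn1
  · exact h x

/-- The order of the Frobenius kernel is coprime to the order of the complement. -/
theorem coprime_index_card {G : Type*} [Group G] [Finite G] {H : Subgroup G}
    (hH : Cfsg.IsFrobeniusComplement H) : (H.index).Coprime (Nat.card H) := by
  have h1 := Cfsg.Agent.S0034.index_mod H hH
  have h2 : Nat.gcd H.index (Nat.card H) = Nat.gcd 1 (Nat.card H) := Nat.ModEq.gcd_eq h1
  rw [Nat.Coprime, h2, Nat.gcd_one_left]

/-- Some conjugate of a Frobenius complement `H` normalizes a nontrivial abelian subgroup `V`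
of prime power order contained in the Frobenius kernel. -/
theorem exists_conj_normalizing {G : Type*} [Group G] [Finite G] (H : Subgroup G)
    (hH : Cfsg.IsFrobeniusComplement H)
    (h589 : ∀ L : Subgroup G, Nat.card L ∣ Nat.card H → ∃ x : G, L ≤ MulAut.conj x • H) :
    ∃ (x : G) (V : Subgroup G), V ≠ ⊥ ∧ IsMulCommutative V ∧
      (V : Set G) ⊆ Cfsg.frobeniusKernel H ∧
      MulAut.conj x • H ≤ Subgroup.normalizer (V : Set G) ∧
      (Nat.card V).Coprime (Nat.card H) := by
  classical
  obtain ⟨N, hNk, hNn, hc⟩ := Cfsg.Agent.S0035.result H hH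
  have hNcard : Nat.card N = H.index := hc.index_eq_card.symm
  have hNidx : N.index = Nat.card H := hc.symm.index_eq_card
  have hcop : (Nat.card N).Coprime (Nat.card H) := by
    rw [hNcard]; exact coprime_index_card hH
  have hN1 : Nat.card N ≠ 1 := by
    intro h
    rw [hNcard, Subgroup.index_eq_one] at h
    exact hH.2.1 h
  set r := (Nat.card N).minFac with hr
  have hrp : r.Prime := Nat.minFac_prime hN1
  have : Fact r.Prime := ⟨hrp⟩
  have hrdvd : r ∣ Nat.card N := Nat.minFac_dvd _
  obtain ⟨R⟩ : Nonempty (Sylow r N) := inferInstance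
  have hRne : (R : Subgroup N) ≠ ⊥ := R.ne_bot_of_dvd_card hrdvd
  set R' : Subgroup G := (R : Subgroup N).map N.subtype with hR'
  have hR'N : R' ≤ N := Subgroup.map_subtype_le _
  have hR'p : IsPGroup r R' := R.2.map N.subtype
  have hR'ne : R' ≠ ⊥ := by
    intro h
    apply hRne
    rw [hR'] at h
    exact (Subgroup.map_eq_bot_iff_of_injective _ N.subtype_injective).mp h
  have hFr : Subgroup.normalizer (R' : Set G) ⊔ N = ⊤ := Sylow.normalizer_sup_eq_top R
  set M : Subgroup G := Subgroup.normalizer (R' : Set G) with hM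
  -- Schur–Zassenhaus inside `M`
  have hNMn : (N.subgroupOf M).Normal := inferInstance
  have hidx : (N.subgroupOf M).index = Nat.card H := by
    have h1 : N.relIndex (M ⊔ N) = N.relIndex M := Subgroup.relIndex_sup_right M N
    rw [hFr, Subgroup.relIndex_top_right, hNidx] at h1
    exact h1.symm
  have hcardNM : Nat.card (N.subgroupOf M) ∣ Nat.card N := by
    have h1 : Nat.card ((N.subgroupOf M).map M.subtype) = Nat.card (N.subgroupOf M) :=
      Subgroup.card_map_of_injective M.subtype_injective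
    rw [← h1, Subgroup.subgroupOf_map_subtype]
    exact Subgroup.card_dvd_of_le inf_le_left
  have hcopNM : (Nat.card (N.subgroupOf M)).Coprime (N.subgroupOf M).index := by
    rw [hidx]
    exact Nat.Coprime.coprime_dvd_left hcardNM hcop
  obtain ⟨L', hL'⟩ := Subgroup.exists_right_complement'_of_coprime hcopNM
  have hL'card : Nat.card L' = Nat.card H := by
    rw [← hidx]; exact hL'.symm.index_eq_card.symm
  set L : Subgroup G := L'.map M.subtype with hL
  have hLM : L ≤ M := Subgroup.map_subtype_le _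
  have hLcard : Nat.card L = Nat.card H := by
    rw [hL, Subgroup.card_map_of_injective M.subtype_injective, hL'card]
  obtain ⟨x, hx⟩ := h589 L (by rw [hLcard])
  have hcardconj : Nat.card (MulAut.conj x • H : Subgroup G) = Nat.card H :=
    (Nat.card_congr (Subgroup.equivSMul (MulAut.conj x) H).toEquiv).symm
  have hLeq : L = MulAut.conj x • H :=
    Subgroup.eq_of_le_of_card_ge hx (by rw [hcardconj, hLcard])
  have hHM : MulAut.conj x • H ≤ M := hLeq ▸ hLM
  -- the centre of R'
  set V : Subgroup G := R' ⊓ Subgroup.centralizer (R' : Set G) with hV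
  have hVne : V ≠ ⊥ := by
    have hnt : Nontrivial R' := (Subgroup.nontrivial_iff_ne_bot R').mpr hR'ne
    have hcn : Nontrivial (Subgroup.center R') := hR'p.center_nontrivial
    obtain ⟨z, hz⟩ := exists_ne (1 : Subgroup.center R')
    intro hbot
    have hzV : ((z : R') : G) ∈ V := by
      refine Subgroup.mem_inf.mpr ⟨(z : R').2, ?_⟩
      rw [Subgroup.mem_centralizer_iff]
      intro y hy
      have := (Subgroup.mem_center_iff.mp z.2) ⟨y, hy⟩
      exact congrArg Subtype.val this
    rw [hbot, Subgroup.mem_bot] at hzV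
    apply hz
    apply Subtype.ext
    apply Subtype.ext
    exact hzV
  have hVab : IsMulCommutative V := by
    refine ⟨⟨fun a b => Subtype.ext ?_⟩⟩
    have hb := (Subgroup.mem_inf.mp b.2).2
    rw [Subgroup.mem_centralizer_iff] at hb
    exact hb a (Subgroup.mem_inf.mp a.2).1
  have hVker : (V : Set G) ⊆ Cfsg.frobeniusKernel H := by
    intro v hv
    rw [← hNk]
    exact hR'N (Subgroup.mem_inf.mp hv).1
  have hconjV : ∀ g ∈ M, ∀ v ∈ V, g * v * g⁻¹ ∈ V := by
    intro g hg v hv
    obtain ⟨hv1, hv2⟩ := Subgroup.mem_inf.mp hv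
    rw [Subgroup.mem_centralizer_iff] at hv2
    refine Subgroup.mem_inf.mpr ⟨Cfsg.Agent.Helper24.conj_mem_of_mem_normalizer hg hv1, ?_⟩
    rw [Subgroup.mem_centralizer_iff]
    intro y hy
    have hy' : g⁻¹ * y * g ∈ R' := Cfsg.Agent.Helper24.conj_inv_mem_of_mem_normalizer hg hy
    have := hv2 _ hy'
    calc y * (g * v * g⁻¹) = g * ((g⁻¹ * y * g) * v) * g⁻¹ := by group
      _ = g * (v * (g⁻¹ * y * g)) * g⁻¹ := by rw [this]
      _ = g * v * g⁻¹ * y := by group
  have hMV : M ≤ Subgroup.normalizer (V : Set G) := by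
    intro g hg
    apply Cfsg.Agent.Helper24.mem_normalizer_of_forall_conj_mem
    · exact fun v hv => hconjV g hg v hv
    · intro v hv
      have := hconjV g⁻¹ (M.inv_mem hg) v hv
      simpa using this
  have hVcop : (Nat.card V).Coprime (Nat.card H) := by
    have h1 : Nat.card V ∣ Nat.card N := Subgroup.card_dvd_of_le (inf_le_left.trans hR'N)
    exact Nat.Coprime.coprime_dvd_left h1 hcop
  exact ⟨x, V, hVne, hVab, hVker, hHM.trans hMV, hVcop⟩

/-- A Frobenius complement of `G` does not properly contain another Frobenius complement of `G`. -/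
theorem no_nested {G : Type*} [Group G] [Finite G] (H H₁ : Subgroup G)
    (hH : Cfsg.IsFrobeniusComplement H) (hH₁ : Cfsg.IsFrobeniusComplement H₁) (hlt : H₁ < H)
    (h589 : ∀ L : Subgroup G, Nat.card L ∣ Nat.card H → ∃ x : G, L ≤ MulAut.conj x • H) :
    False := by
  classical
  obtain ⟨x, V, hVne, hVab, hVker, hnorm, hVcop⟩ := exists_conj_normalizing H hH h589
  set K : Subgroup G := MulAut.conj x • H with hK
  set K₁ : Subgroup G := MulAut.conj x • H₁ with hK₁
  have hKf : Cfsg.IsFrobeniusComplement K := isFrobeniusComplement_conj hH x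
  have hK₁f : Cfsg.IsFrobeniusComplement K₁ := isFrobeniusComplement_conj hH₁ x
  have hle : K₁ ≤ K := Subgroup.pointwise_smul_le_pointwise_smul_iff.mpr hlt.le
  have hne : ¬ K ≤ K₁ := fun h => hlt.not_ge (Subgroup.pointwise_smul_le_pointwise_smul_iff.mp h)
  have hKcard : Nat.card K = Nat.card H :=
    (Nat.card_congr (Subgroup.equivSMul (MulAut.conj x) H).toEquiv).symm
  -- nonidentity elements of V commute with no nonidentity element of K
  have hkey : ∀ v ∈ V, ∀ k ∈ K, k ≠ 1 → v * k = k * v → v = 1 := by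
    intro v hv k hk hk1 hvk
    by_contra hv1
    have h1 : v ∈ K := mem_of_commute hKf hk hk1 hvk
    exact not_mem_conj_of_mem_kernel (hVker hv) hv1 x h1
  set Sub : Subgroup K := K₁.subgroupOf K with hSub
  have hSubf : Cfsg.IsFrobeniusComplement Sub := by
    refine ⟨?_, ?_, ?_⟩
    · intro h
      rw [hSub, Subgroup.subgroupOf_eq_bot, disjoint_iff, inf_of_le_left hle] at h
      exact hK₁f.1 h
    · intro h
      rw [hSub, Subgroup.subgroupOf_eq_top] at h
      exact hne h
    · intro g hg
      rw [eq_bot_iff]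
      intro y hy
      obtain ⟨hy1, hy2⟩ := Subgroup.mem_inf.mp hy
      rw [Cfsg.Agent.Helper63.mem_conj_smul] at hy2
      rw [hSub, Subgroup.mem_subgroupOf] at hy1 hy2 hg
      have h3 := hK₁f.2.2 (g : G) hg
      have h4 : (y : G) ∈ K₁ ⊓ MulAut.conj (g : G) • K₁ := by
        refine Subgroup.mem_inf.mpr ⟨hy1, ?_⟩
        rw [Cfsg.Agent.Helper63.mem_conj_smul]
        simpa using hy2
      rw [h3, Subgroup.mem_bot] at h4
      rw [Subgroup.mem_bot]
      exact Subtype.ext h4
  have hidx2 : 2 ≤ Sub.index := by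
    have h1 : Sub.index ≠ 1 := fun h => hSubf.2.1 (Subgroup.index_eq_one.mp h)
    have h0 : Sub.index ≠ 0 := Subgroup.index_ne_zero_of_finite
    omega
  have hkcard : (Cfsg.frobeniusKernel Sub).ncard = Sub.index :=
    Cfsg.Agent.Helper63.frob_card_kernel hSubf
  have hcop : (Nat.card V).Coprime (Nat.card (Cfsg.frobeniusKernel Sub)) := by
    rw [Nat.card_coe_set_eq, hkcard]
    have h1 : Sub.index ∣ Nat.card K := Subgroup.index_dvd_card Sub
    rw [hKcard] at h1
    exact Nat.Coprime.coprime_dvd_right h1 hVcop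
  have hCK : V ⊓ Subgroup.centralizer (Subtype.val '' Cfsg.frobeniusKernel Sub : Set G) = ⊥ := by
    rw [eq_bot_iff]
    intro v hv
    obtain ⟨hv1, hv2⟩ := Subgroup.mem_inf.mp hv
    rw [Subgroup.mem_centralizer_iff] at hv2
    have h1mem : (1 : K) ∈ Cfsg.frobeniusKernel Sub := Or.inl rfl
    obtain ⟨k, hk, hk1⟩ := Set.exists_ne_of_one_lt_ncard (by rw [hkcard]; omega) (1 : K)
    have h2 := hv2 (k : G) ⟨k, hk, rfl⟩
    rw [Subgroup.mem_bot]
    exact hkey v hv1 (k : G) k.2 (fun h => hk1 (Subtype.ext h)) h2.symm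
  have hfin := Cfsg.Agent.S0666.result V K hVab hVne hnorm Sub hSubf hcop hCK
  apply hfin
  rw [eq_bot_iff]
  intro v hv
  obtain ⟨hv1, hv2⟩ := Subgroup.mem_inf.mp hv
  rw [Subgroup.mem_centralizer_iff] at hv2
  obtain ⟨h, hh, hh1⟩ : ∃ h ∈ K₁, h ≠ 1 := by
    by_contra hcon
    push Not at hcon
    apply hK₁f.1
    rw [eq_bot_iff]
    intro h hh
    rw [Subgroup.mem_bot]
    exact hcon h hh
  have hmem : h ∈ ((Sub.map K.subtype : Subgroup G) : Set G) := by
    rw [hSub, Subgroup.subgroupOf_map_subtype]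
    exact Subgroup.mem_inf.mpr ⟨hh, hle hh⟩
  have h2 := hv2 h hmem
  rw [Subgroup.mem_bot]
  exact hkey v hv1 h (hle hh) hh1 h2.symm

/-- Conjugacy of Frobenius complements, from the containment statements. -/
theorem result_of {G : Type*} [Group G] [Finite G]
    (h37 : ∀ H H₀ : Subgroup G, Cfsg.IsFrobeniusComplement H → Cfsg.IsFrobeniusComplement H₀ →
      Nat.card H₀ ≤ Nat.card H → ∃ g : G, MulAut.conj g • H₀ ≤ H)
    (h589 : ∀ H L : Subgroup G, Cfsg.IsFrobeniusComplement H → Nat.card L ∣ Nat.card H →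
      ∃ x : G, L ≤ MulAut.conj x • H)
    (H H₀ : Subgroup G) (hH : Cfsg.IsFrobeniusComplement H)
    (hH₀ : Cfsg.IsFrobeniusComplement H₀) : ∃ g : G, MulAut.conj g • H₀ = H := by
  rcases le_total (Nat.card H₀) (Nat.card H) with hle | hle
  · obtain ⟨g, hg⟩ := h37 H H₀ hH hH₀ hle
    refine ⟨g, ?_⟩
    by_contra hne
    exact no_nested H (MulAut.conj g • H₀) hH (isFrobeniusComplement_conj hH₀ g)
      (lt_of_le_of_ne hg hne) (fun L hL => h589 H L hH hL)
  · obtain ⟨g, hg⟩ := h37 H₀ H hH₀ hH hle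
    refine ⟨g⁻¹, ?_⟩
    by_cases heq : MulAut.conj g • H = H₀
    · rw [← heq, map_inv, inv_smul_smul]
    · exfalso
      exact no_nested H₀ (MulAut.conj g • H) hH₀ (isFrobeniusComplement_conj hH g)
        (lt_of_le_of_ne hg heq) (fun L hL => h589 H₀ L hH₀ hL)

end Cfsg.Agent.S0038

namespace Cfsg.Agent.S0038

open scoped Pointwise

/-- All Frobenius complements of a finite group are conjugate to one another. -/
theorem result {G : Type*} [Group G] [Finite G] (H H₀ : Subgroup G)
    (hH : Cfsg.IsFrobeniusComplement H) (hH₀ : Cfsg.IsFrobeniusComplement H₀) :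
    ∃ g : G, MulAut.conj g • H₀ = H := by
  exact result_of (fun H H₀ hH hH₀ hle => Cfsg.Agent.S0037.result H H₀ hH hH₀ hle)
    (fun H L hH hL => Cfsg.Agent.S0589.result H hH L hL) H H₀ hH hH₀

end Cfsg.Agent.S0038
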