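-- Statement S3744: Hall p'-subgroups (p-complements) of p-soluble groups.
import Mathlib
import Cfsg.Statements.S3744
import Cfsg.Agent.Lib.Hall
import Cfsg.Agent.Helper1.SZ
import Cfsg.Agent.Helper11.PSolvable
import Cfsg.Agent.Helper62.Radical

set_option autoImplicit false
open Cfsg

namespace Cfsg.Agent.S3744

open Pointwise

universe u

/-- A nontrivial `p`-soluble group has a nontrivial normal subgroup that is a `p`-group or a
`p'`-group: the first nontrivial term of the series. -/
theorem exists_normal_of_isPSolvable {G : Type*} [Group G] [Nontrivial G] {p : ℕ}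
    (h : Cfsg.IsPSolvable p G) :
    ∃ N : Subgroup G, N.Normal ∧ N ≠ ⊥ ∧
      ((∃ m : ℕ, Nat.card N = p ^ m) ∨ (Nat.card N).Coprime p) := by
  classical
  obtain ⟨n, H, h0, hlast, hmono, hnorm, hstep⟩ := h
  let P : ℕ → Prop := fun k => ∃ hk : k < n + 1, H ⟨k, hk⟩ ≠ ⊥
  have hP : ∃ k, P k := ⟨n, Nat.lt_succ_self n, by
    have : (⟨n, Nat.lt_succ_self n⟩ : Fin (n + 1)) = Fin.last n := rfl
    rw [this, hlast]; exact top_ne_bot⟩
  obtain ⟨hkn, hkne⟩ := Nat.find_spec hP
  have hk0 : Nat.find hP ≠ 0 := by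
    intro h0'
    apply hkne
    have : (⟨Nat.find hP, hkn⟩ : Fin (n + 1)) = 0 := Fin.ext h0'
    rw [this]; exact h0
  obtain ⟨j, hj⟩ := Nat.exists_eq_succ_of_ne_zero hk0
  have hjn : j < n := by omega
  have hprev : H (⟨j, hjn⟩ : Fin n).castSucc = ⊥ := by
    by_contra hne
    have hmin := Nat.find_min hP (m := j) (by omega)
    exact hmin ⟨by omega, hne⟩
  have hsucc : (⟨j, hjn⟩ : Fin n).succ = ⟨Nat.find hP, hkn⟩ := Fin.ext (by simp [hj])
  have hs := hstep ⟨j, hjn⟩
  rw [hprev, hsucc, Subgroup.relIndex_bot_left] at hs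
  exact ⟨H ⟨Nat.find hP, hkn⟩, hnorm _, hkne, hs⟩

/-- Schur–Zassenhaus, containment form, for a solvable normal subgroup `N`: if `H ∩ N = 1`,
`K ≤ HN` and `|K|` is prime to `|N|`, then `K` lies in a conjugate of `H`. -/
theorem exists_conj_le_of_solvable_normal {G : Type u} [Group G] [Finite G] (N : Subgroup G)
    [N.Normal] [hNs : Group.IsSolvable N] (H K : Subgroup G) (hKHN : K ≤ H ⊔ N) (hHN : H ⊓ N = ⊥)
    (hcop : (Nat.card K).Coprime (Nat.card N)) : ∃ a : G, K ≤ MulAut.conj a • H := by
  classical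
  set M : Subgroup G := K ⊔ N with hM
  have hNM : N ≤ M := le_sup_right
  have hKM : K ≤ M := le_sup_left
  have hMle : M ≤ N ⊔ H := by
    rw [sup_comm N H]; exact sup_le hKHN le_sup_right
  have hKN : K ⊓ N = ⊥ := Subgroup.inf_eq_bot_of_coprime hcop
  let A : Subgroup M := N.subgroupOf M
  let K' : Subgroup M := K.subgroupOf M
  let H' : Subgroup M := H.subgroupOf M
  haveI : A.Normal := Subgroup.Normal.subgroupOf inferInstance M
  haveI : Group.IsSolvable A := Cfsg.Agent.Helper1.isSolvable_subgroupOf N M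
  have hAK : Subgroup.IsComplement' A K' := by
    apply Subgroup.isComplement'_of_disjoint_and_mul_eq_univ
    · rw [disjoint_iff, eq_bot_iff]
      rintro x ⟨hx1, hx2⟩
      have : (x : G) ∈ K ⊓ N := ⟨hx2, hx1⟩
      rw [hKN, Subgroup.mem_bot] at this
      exact Subgroup.mem_bot.mpr (Subtype.ext this)
    · rw [Set.eq_univ_iff_forall]
      intro y
      have hy : (y : G) ∈ N ⊔ K := by rw [sup_comm]; exact y.2
      rw [← SetLike.mem_coe, Subgroup.normal_mul] at hy
      obtain ⟨n, hn, k, hk, hnk⟩ := hy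
      exact ⟨⟨n, hNM hn⟩, hn, ⟨k, hKM hk⟩, hk, Subtype.ext hnk⟩
  have hAH : Subgroup.IsComplement' A H' := by
    apply Subgroup.isComplement'_of_disjoint_and_mul_eq_univ
    · rw [disjoint_iff, eq_bot_iff]
      rintro x ⟨hx1, hx2⟩
      have : (x : G) ∈ H ⊓ N := ⟨hx2, hx1⟩
      rw [hHN, Subgroup.mem_bot] at this
      exact Subgroup.mem_bot.mpr (Subtype.ext this)
    · rw [Set.eq_univ_iff_forall]
      intro y
      have hy : (y : G) ∈ N ⊔ H := hMle y.2
      rw [← SetLike.mem_coe, Subgroup.normal_mul] at hy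
      obtain ⟨n, hn, h, hh, hnh⟩ := hy
      have hhM : h ∈ M := by
        have : h = n⁻¹ * (y : G) := by rw [← hnh]; group
        rw [this]
        exact M.mul_mem (M.inv_mem (hNM hn)) y.2
      exact ⟨⟨n, hNM hn⟩, hn, ⟨h, hhM⟩, hh, Subtype.ext hnh⟩
  have hcardA : Nat.card A = Nat.card N :=
    Nat.card_congr (Subgroup.subgroupOfEquivOfLe hNM).toEquiv
  have hcardK : Nat.card K' = Nat.card K :=
    Nat.card_congr (Subgroup.subgroupOfEquivOfLe hKM).toEquiv
  have hcardHK : Nat.card H' = Nat.card K' := by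
    have h1 := hAH.card_mul_card
    have h2 := hAK.card_mul_card
    exact Nat.eq_of_mul_eq_mul_left (Nat.card_pos (α := A)) (h1.trans h2.symm)
  have hA : (Nat.card A).Coprime (Nat.card H') := by
    rw [hcardHK, hcardA, hcardK]
    exact hcop.symm
  obtain ⟨a, hconj⟩ := Cfsg.Agent.Helper1.sz_conj A H' K' hA hAH hAK (Or.inl inferInstance)
  refine ⟨((a : M) : G), ?_⟩
  intro x hx
  have hxK' : (⟨x, hKM hx⟩ : M) ∈ K' := hx
  rw [← hconj, Subgroup.mem_pointwise_smul_iff_inv_smul_mem] at hxK'
  rw [Subgroup.mem_pointwise_smul_iff_inv_smul_mem]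
  have : ((MulAut.conj a)⁻¹ • (⟨x, hKM hx⟩ : M) : M).1 ∈ H := hxK'
  simpa [MulAut.smul_def] using this

/-- **Hall `p'`-subgroups of `p`-soluble groups**, combined form: if `|G| = m p^a` with `(m, p) = 1`
then `G` has a subgroup of order `m`, and every subgroup of order prime to `p` lies in a conjugate
of any given subgroup of order `m`. -/
theorem hall_main_p (p : ℕ) [hpf : Fact p.Prime] :
    ∀ (k : ℕ) (G : Type u) [Group G] [Finite G], Cfsg.IsPSolvable p G → Nat.card G = k →
    ∀ m a : ℕ, k = m * p ^ a → m.Coprime p →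
      (∃ H : Subgroup G, Nat.card H = m) ∧
      (∀ H K : Subgroup G, Nat.card H = m → (Nat.card K).Coprime p →
        ∃ g : G, K ≤ MulAut.conj g • H) := by
  have hp : p.Prime := hpf.out
  intro k
  induction k using Nat.strong_induction_on with
  | _ k ih =>
  intro G _ _ hsol hk m a hmn hcop
  by_cases hsub : Subsingleton G
  · have hk1 : k = 1 := by rw [← hk]; exact Nat.card_unique
    have hm1 : m = 1 := by
      rw [hk1] at hmn
      exact Nat.eq_one_of_mul_eq_one_right hmn.symm
    refine ⟨⟨⊥, by rw [hm1]; exact Subgroup.card_bot⟩, fun H K _ _ => ⟨1, ?_⟩⟩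
    have : K = ⊥ := Subsingleton.elim _ _
    rw [this]; exact bot_le
  · have hnt : Nontrivial G := not_subsingleton_iff_nontrivial.mp hsub
    obtain ⟨N, hNn, hNbot, hNcard⟩ := exists_normal_of_isPSolvable hsol
    haveI := hNn
    have hkpos : 0 < k := by rw [← hk]; exact Nat.card_pos
    have hm0 : m ≠ 0 := by rintro rfl; simp at hmn; omega
    have hQ : Nat.card (G ⧸ N) * Nat.card N = k := by
      rw [← hk]; exact (Subgroup.card_eq_card_quotient_mul_card_subgroup N).symm
    have hN2 : 2 ≤ Nat.card N := by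
      have h1 : Nat.card N ≠ 1 := fun h => hNbot (Subgroup.card_eq_one.mp h)
      have h0 : 0 < Nat.card N := Nat.card_pos
      omega
    have hQpos : 0 < Nat.card (G ⧸ N) := Nat.card_pos
    have hQlt : Nat.card (G ⧸ N) < k := by
      rw [← hQ]; nlinarith
    have hsolQ : Cfsg.IsPSolvable p (G ⧸ N) := Cfsg.Agent.Helper11.isPSolvable_quotient N hsol
    rcases hNcard with ⟨e, he⟩ | hNcop
    · -- Case: `N` is a `p`-group
      have hcopm : m.Coprime (p ^ e) := Nat.Coprime.pow_right e hcop
      have hpea : p ^ e ∣ p ^ a := by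
        have h1 : p ^ e ∣ m * p ^ a := ⟨Nat.card (G ⧸ N), by rw [← hmn, ← hQ, he]; ring⟩
        exact hcopm.symm.dvd_of_dvd_mul_left h1
      have hea : e ≤ a := (Nat.pow_dvd_pow_iff_le_right hp.one_lt).mp hpea
      obtain ⟨a', rfl⟩ := Nat.exists_eq_add_of_le hea
      have hQcard : Nat.card (G ⧸ N) = m * p ^ a' := by
        apply Nat.eq_of_mul_eq_mul_right (pow_pos hp.pos e)
        rw [← he, hQ, hmn, he, pow_add]; ring
      haveI hNsolv : Group.IsSolvable N := by
        haveI : Group.IsNilpotent N := (IsPGroup.of_card he).isNilpotent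
        infer_instance
      obtain ⟨⟨Lb, hLb⟩, hconj⟩ := ih _ hQlt (G ⧸ N) hsolQ rfl m a' hQcard hcop
      constructor
      · -- existence via Schur–Zassenhaus inside the preimage `L`
        set L : Subgroup G := Lb.comap (QuotientGroup.mk' N) with hL
        have hLcard : Nat.card L = p ^ e * m := by rw [hL, Cfsg.Agent.Lib.card_comap_mk', he, hLb]
        have hNL : N ≤ L := by
          intro x hx
          rw [hL, Subgroup.mem_comap]
          have : QuotientGroup.mk' N x = 1 := (QuotientGroup.eq_one_iff x).mpr hx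
          rw [this]; exact Lb.one_mem
        haveI : (N.subgroupOf L).Normal := Subgroup.Normal.subgroupOf hNn L
        have hN'card : Nat.card (N.subgroupOf L) = p ^ e := by
          rw [← he]; exact Nat.card_congr (Subgroup.subgroupOfEquivOfLe hNL).toEquiv
        have hN'idx : (N.subgroupOf L).index = m := by
          have := (N.subgroupOf L).card_mul_index
          rw [hN'card, hLcard] at this
          exact Nat.eq_of_mul_eq_mul_left (pow_pos hp.pos e) this
        have hsz : (Nat.card (N.subgroupOf L)).Coprime (N.subgroupOf L).index := by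
          rw [hN'card, hN'idx]; exact hcopm.symm
        obtain ⟨H', hH'⟩ := Subgroup.exists_right_complement'_of_coprime hsz
        refine ⟨H'.map L.subtype, ?_⟩
        rw [← hN'idx, hH'.symm.index_eq_card]
        exact Nat.card_congr
          (Subgroup.equivMapOfInjective _ _ (Subgroup.subtype_injective L)).symm.toEquiv
      · intro H K hH hK
        have hHN : H ⊓ N = ⊥ := by
          apply Subgroup.inf_eq_bot_of_coprime
          rw [hH, he]; exact hcopm
        have hHbar : Nat.card (H.map (QuotientGroup.mk' N)) = m := by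
          have hr : H.map (QuotientGroup.mk' N) = ((QuotientGroup.mk' N).comp H.subtype).range := by
            rw [MonoidHom.range_comp, Subgroup.range_subtype]
          rw [← hH, hr]
          have hinj : Function.Injective ((QuotientGroup.mk' N).comp H.subtype) := by
            rw [injective_iff_map_eq_one]
            intro x hx
            have hx' : QuotientGroup.mk' N (x : G) = 1 := hx
            have hxN : (x : G) ∈ N := (QuotientGroup.eq_one_iff (x : G)).mp hx'
            have : (x : G) ∈ H ⊓ N := ⟨x.2, hxN⟩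
            rw [hHN, Subgroup.mem_bot] at this
            exact Subtype.ext this
          exact (Nat.card_congr (MonoidHom.ofInjective hinj).toEquiv).symm
        have hKbar : (Nat.card (K.map (QuotientGroup.mk' N))).Coprime p :=
          Nat.Coprime.coprime_dvd_left (Subgroup.card_map_dvd _ _) hK
        obtain ⟨gb, hgb⟩ := hconj _ _ hHbar hKbar
        obtain ⟨g, rfl⟩ := QuotientGroup.mk'_surjective N gb
        have hK1 : K ≤ (MulAut.conj g • H) ⊔ N := fun x hx =>
          Cfsg.Agent.Lib.mem_conj_sup_of_mk_mem N H g x (hgb (Subgroup.mem_map_of_mem _ hx))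
        have hH1N : (MulAut.conj g • H) ⊓ N = ⊥ := by
          apply Subgroup.inf_eq_bot_of_coprime
          rw [Cfsg.Agent.Lib.card_conj_smul, hH, he]; exact hcopm
        have hKN : (Nat.card K).Coprime (Nat.card N) := by
          rw [he]
          exact Nat.Coprime.pow_right e hK
        obtain ⟨b, hb⟩ := exists_conj_le_of_solvable_normal N (MulAut.conj g • H) K hK1 hH1N hKN
        refine ⟨b * g, ?_⟩
        rwa [map_mul, mul_smul]
    · -- Case: `N` is a `p'`-group
      have hcN : Nat.card N ∣ m := by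
        have h1 : Nat.card N ∣ m * p ^ a := ⟨Nat.card (G ⧸ N), by rw [← hmn, ← hQ]; ring⟩
        exact (Nat.Coprime.pow_right a hNcop).dvd_of_dvd_mul_right h1
      obtain ⟨m', hm'⟩ := hcN
      have hQcard : Nat.card (G ⧸ N) = m' * p ^ a := by
        apply Nat.eq_of_mul_eq_mul_right (Nat.card_pos (α := N))
        rw [hQ, hmn, hm']; ring
      have hcop' : m'.Coprime p := Nat.Coprime.coprime_dvd_left ⟨Nat.card N, by rw [hm']; ring⟩ hcop
      obtain ⟨⟨Hb, hHb⟩, hconj⟩ := ih _ hQlt (G ⧸ N) hsolQ rfl m' a hQcard hcop'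
      refine ⟨⟨Hb.comap (QuotientGroup.mk' N), by
        rw [Cfsg.Agent.Lib.card_comap_mk', hHb, hm']⟩, ?_⟩
      intro H K hH hK
      -- `N ≤ H`
      have hNH : N ≤ H := by
        have hHnN : H ≤ Subgroup.normalizer (N : Set G) := by
          rw [Subgroup.normalizer_eq_top]; exact le_top
        have h1 := Cfsg.Agent.Helper62.card_sup_dvd_of_le_normalizer hHnN
        have h2 : (Nat.card (H ⊔ N : Subgroup G)).Coprime p :=
          Nat.Coprime.coprime_dvd_left h1 (Nat.Coprime.mul_left (hH ▸ hcop) hNcop)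
        have h3 : Nat.card (H ⊔ N : Subgroup G) ∣ m * p ^ a := by
          rw [← hmn, ← hk]; exact Subgroup.card_subgroup_dvd_card _
        have h4 : Nat.card (H ⊔ N : Subgroup G) ∣ m :=
          (Nat.Coprime.pow_right a h2).dvd_of_dvd_mul_right h3
        have h5 : Nat.card (H ⊔ N : Subgroup G) ≤ Nat.card H := by
          rw [hH]; exact Nat.le_of_dvd (Nat.pos_of_ne_zero hm0) h4
        have h6 : H = H ⊔ N := Subgroup.eq_of_le_of_card_ge le_sup_left h5
        rw [h6]; exact le_sup_right
      have hHbar : Nat.card (H.map (QuotientGroup.mk' N)) = m' := by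
        have h1 : (H.map (QuotientGroup.mk' N)).comap (QuotientGroup.mk' N) = H := by
          rw [Subgroup.comap_map_eq, QuotientGroup.ker_mk', sup_eq_left.mpr hNH]
        have h2 := Cfsg.Agent.Lib.card_comap_mk' N (H.map (QuotientGroup.mk' N))
        rw [h1, hH, hm'] at h2
        exact (Nat.eq_of_mul_eq_mul_left (Nat.card_pos (α := N)) h2).symm
      have hKbar : (Nat.card (K.map (QuotientGroup.mk' N))).Coprime p :=
        Nat.Coprime.coprime_dvd_left (Subgroup.card_map_dvd _ _) hK
      obtain ⟨gb, hgb⟩ := hconj _ _ hHbar hKbar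
      obtain ⟨g, rfl⟩ := QuotientGroup.mk'_surjective N gb
      refine ⟨g, fun x hx => ?_⟩
      have h1 := Cfsg.Agent.Lib.mem_conj_sup_of_mk_mem N H g x (hgb (Subgroup.mem_map_of_mem _ hx))
      have h2 : N ≤ MulAut.conj g • H := by
        intro y hy
        rw [Subgroup.mem_pointwise_smul_iff_inv_smul_mem]
        apply hNH
        have := hNn.conj_mem y hy g⁻¹
        simpa [MulAut.smul_def] using this
      rwa [sup_eq_left.mpr h2] at h1

/-- A finite p-soluble group has a p-complement, all its p-complements are conjugate, and every subgroup of order prime to p lies in one of them. Here a p-complement is a subgroup of order prime to p whose index is a power of p. -/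
theorem result {G : Type*} [Group G] [Finite G] {p : ℕ} [Fact p.Prime] (hG : Cfsg.IsPSolvable p G) : (∃ H : Subgroup G, (Nat.card H).Coprime p ∧ ∃ n : ℕ, H.index = p ^ n) ∧ (∀ H₁ H₂ : Subgroup G, (Nat.card H₁).Coprime p → (∃ n : ℕ, H₁.index = p ^ n) → (Nat.card H₂).Coprime p → (∃ n : ℕ, H₂.index = p ^ n) → ∃ g : G, H₂ = H₁.map (MulAut.conj g).toMonoidHom) ∧ (∀ U : Subgroup G, (Nat.card U).Coprime p → ∃ H : Subgroup G, (Nat.card H).Coprime p ∧ (∃ n : ℕ, H.index = p ^ n) ∧ ∃ g : G, U.map (MulAut.conj g).toMonoidHom ≤ H) := by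
  have hp : p.Prime := Fact.out
  have hk0 : Nat.card G ≠ 0 := Nat.card_pos.ne'
  set a := (Nat.card G).factorization p with ha
  set m := Nat.card G / p ^ a with hm
  have hkm : Nat.card G = m * p ^ a := by
    rw [hm, ha]; exact (Nat.div_mul_cancel (Nat.ordProj_dvd (Nat.card G) p)).symm
  have hcop : m.Coprime p := (Nat.coprime_ordCompl hp hk0).symm
  obtain ⟨⟨H₀, hH₀⟩, hconj⟩ := hall_main_p p (Nat.card G) G hG rfl m a hkm hcop
  -- a subgroup of order `m` is a `p`-complement, and conversely
  have hidx : ∀ H : Subgroup G, Nat.card H = m → H.index = p ^ a := by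
    intro H hH
    have h1 := H.card_mul_index
    rw [hH, hkm] at h1
    have hm0 : 0 < m := by
      rcases Nat.eq_zero_or_pos m with h | h
      · rw [h, zero_mul] at hkm; exact absurd hkm hk0
      · exact h
    exact Nat.eq_of_mul_eq_mul_left hm0 h1
  have hcard : ∀ H : Subgroup G, (Nat.card H).Coprime p → (∃ n : ℕ, H.index = p ^ n) →
      Nat.card H = m := by
    rintro H hH ⟨n, hn⟩
    have h1 := H.card_mul_index
    rw [hn, hkm] at h1
    apply Nat.dvd_antisymm
    · exact (Nat.Coprime.pow_right a hH).dvd_of_dvd_mul_right ⟨p ^ n, h1.symm⟩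
    · exact (Nat.Coprime.pow_right n hcop).dvd_of_dvd_mul_right ⟨p ^ a, h1⟩
  have hsmul : ∀ (g : G) (H : Subgroup G),
      MulAut.conj g • H = H.map (MulAut.conj g).toMonoidHom := fun g H => rfl
  refine ⟨⟨H₀, hH₀ ▸ hcop, a, hidx H₀ hH₀⟩, ?_, ?_⟩
  · intro H₁ H₂ h1 h1' h2 h2'
    have hc1 := hcard H₁ h1 h1'
    have hc2 := hcard H₂ h2 h2'
    obtain ⟨g, hg⟩ := hconj H₁ H₂ hc1 h2
    refine ⟨g, ?_⟩
    rw [← hsmul]
    apply Subgroup.eq_of_le_of_card_ge hg
    rw [Cfsg.Agent.Lib.card_conj_smul, hc1, hc2]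
  · intro U hU
    obtain ⟨g, hg⟩ := hconj H₀ U hH₀ hU
    have hc : Nat.card (MulAut.conj g • H₀ : Subgroup G) = m := by
      rw [Cfsg.Agent.Lib.card_conj_smul, hH₀]
    refine ⟨MulAut.conj g • H₀, hc ▸ hcop, ⟨a, hidx _ hc⟩, 1, ?_⟩
    rw [map_one]
    intro x hx
    obtain ⟨y, hy, rfl⟩ := hx
    exact hg hy

end Cfsg.Agent.S3744
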