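-- Statement S4177: a spanning orbit in coprime characteristic.
import Cfsg.Statements.S4177

set_option autoImplicit false
open Cfsg

namespace Cfsg.Agent.S4177

theorem rep_inv_apply {k V K : Type*} [Field k] [AddCommGroup V] [Module k V] [Group K]
    (τ : Representation k K V) (g : K) (v : V) : τ g⁻¹ (τ g v) = v := by
  have h : (τ g⁻¹ * τ g) v = v := by
    rw [← map_mul, inv_mul_cancel, map_one]; rfl
  exact h

theorem rep_apply_inv {k V K : Type*} [Field k] [AddCommGroup V] [Module k V] [Group K]
    (τ : Representation k K V) (g : K) (v : V) : τ g (τ g⁻¹ v) = v := by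
  have h : (τ g * τ g⁻¹) v = v := by
    rw [← map_mul, mul_inv_cancel, map_one]; rfl
  exact h

/-- If a finite group `K` acts linearly and permutes a finite set `O` transitively, then the sum over `K` of
the images of a point of `O` is a multiple of the sum of `O`. -/
theorem sum_mem_span_of_transitive {k V K : Type*} [Field k] [AddCommGroup V] [Module k V] [Group K]
    [Fintype K] [DecidableEq V] (τ : Representation k K V) (O : Finset V)
    (hO : ∀ x : K, ∀ u ∈ O, τ x u ∈ O) (htrans : ∀ u ∈ O, ∀ w ∈ O, ∃ x : K, τ x u = w)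
    (u : V) (hu : u ∈ O) :
    ∑ x : K, τ x u ∈ Submodule.span k {∑ w ∈ O, w} := by
  classical
  have h1 : ∑ w ∈ O, ∑ x ∈ (Finset.univ : Finset K) with τ x u = w, τ x u = ∑ x : K, τ x u :=
    Finset.sum_fiberwise_of_maps_to (fun x _ => hO x u hu) (fun x => τ x u)
  set n : ℕ := (Finset.univ.filter (fun x : K => τ x u = u)).card with hn
  have h2 : ∀ w ∈ O, ∑ x ∈ (Finset.univ : Finset K) with τ x u = w, τ x u = n • w := by
    intro w hw
    obtain ⟨x₀, hx₀⟩ := htrans u hu w hw
    have hcard : (Finset.univ.filter (fun x : K => τ x u = w)).card = n := by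
      rw [hn]
      symm
      refine Finset.card_nbij' (fun x => x₀ * x) (fun x => x₀⁻¹ * x) ?_ ?_ ?_ ?_
      · intro x hx
        simp only [Finset.coe_filter, Finset.mem_univ, true_and, Set.mem_setOf_eq] at hx ⊢
        rw [map_mul, Module.End.mul_apply, hx, hx₀]
      · intro x hx
        simp only [Finset.coe_filter, Finset.mem_univ, true_and, Set.mem_setOf_eq] at hx ⊢
        rw [map_mul, Module.End.mul_apply, hx, ← hx₀, rep_inv_apply]
      · intro x _
        simp
      · intro x _
        simp
    rw [Finset.sum_congr rfl (fun x hx => (Finset.mem_filter.mp hx).2), Finset.sum_const, hcard]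
  rw [← h1, Finset.sum_congr rfl h2, ← Finset.smul_sum]
  exact nsmul_mem (S := Submodule.span k {∑ w ∈ O, w}) (Submodule.subset_span (Set.mem_singleton _)) n

/-- Coprime orbit sizes: the stabilizer of `b` is transitive on the orbit of `a`. -/
theorem exists_mem_stabilizer_smul_eq {H X : Type*} [Group H] [Finite H] [MulAction H X] (a b : X)
    (hcop : ((MulAction.orbit H a).ncard).Coprime (MulAction.orbit H b).ncard) (u : X)
    (hu : u ∈ MulAction.orbit H a) : ∃ x ∈ MulAction.stabilizer H b, x • a = u := by
  classical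
  set A := MulAction.stabilizer H a with hA
  set B := MulAction.stabilizer H b with hB
  rw [← MulAction.index_stabilizer, ← MulAction.index_stabilizer, ← hA, ← hB] at hcop
  have h1 : (A ⊓ B).relIndex B * B.index = (A ⊓ B).index := Subgroup.relIndex_mul_index inf_le_right
  rw [Subgroup.inf_relIndex_right] at h1
  have h2 : A.index ∣ A.relIndex B * B.index := by
    rw [h1]; exact Subgroup.index_dvd_of_le inf_le_left
  have h3 : A.index ∣ A.relIndex B := hcop.dvd_of_dvd_mul_right h2
  -- the orbit of `a` under `B`
  have hstab : MulAction.stabilizer B a = A.subgroupOf B := by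
    ext x
    rw [MulAction.mem_stabilizer_iff, Subgroup.mem_subgroupOf, hA, MulAction.mem_stabilizer_iff]
    rfl
  have h4 : (MulAction.orbit B a).ncard = A.relIndex B := by
    rw [← MulAction.index_stabilizer, hstab, Subgroup.relIndex]
  have h5 : A.relIndex B ≠ 0 := by
    rw [Subgroup.relIndex]; exact Subgroup.index_ne_zero_of_finite
  have h6 : (MulAction.orbit H a).ncard ≤ (MulAction.orbit B a).ncard := by
    rw [h4, ← MulAction.index_stabilizer, ← hA]
    exact Nat.le_of_dvd (Nat.pos_of_ne_zero h5) h3
  have hfin : (MulAction.orbit H a).Finite := Set.finite_range _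
  have h7 : MulAction.orbit B a = MulAction.orbit H a :=
    Set.eq_of_subset_of_ncard_le (MulAction.orbit_subgroup_subset B a) h6 hfin
  rw [← h7] at hu
  obtain ⟨x, hx⟩ := hu
  exact ⟨x.1, x.2, hx⟩

theorem result {k V H : Type*} [Field k] [AddCommGroup V] [Module k V] [Group H] [Finite H]
    (hchar : ¬ ringChar k ∣ Nat.card H) (ρ : Representation k H V) (a : V)
    (hspan : Submodule.span k {u : V | ∃ h : H, ρ h a = u} = ⊤) :
    Module.finrank k ρ.invariants ≤ 1 ∧
    ∀ b : V, (Nat.card {u : V | ∃ h : H, ρ h a = u}).Coprime (Nat.card {u : V | ∃ h : H, ρ h b = u}) → ∀ h : H, ρ h b = b := by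
  classical
  letI act : MulAction H V := MulAction.compHom V ρ
  have hsmul : ∀ (h : H) (v : V), h • v = ρ h v := fun h v => rfl
  have horb : ∀ v : V, {u : V | ∃ h : H, ρ h v = u} = MulAction.orbit H v := fun v => rfl
  haveI : Fintype H := Fintype.ofFinite H
  have hcardk : ∀ K : Subgroup H, (Nat.card K : k) ≠ 0 := by
    intro K h0
    exact hchar (((ringChar.spec k (Nat.card K)).mp h0).trans (Subgroup.card_subgroup_dvd_card K))
  refine ⟨?_, ?_⟩
  · -- the invariants are spanned by the sum of the orbit
    set sH : V →ₗ[k] V := ∑ h : H, ρ h with hsH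
    have hsHapp : ∀ v, sH v = ∑ h : H, ρ h v := fun v => by rw [hsH, LinearMap.sum_apply]
    have hsHorb : ∀ g : H, sH (ρ g a) = sH a := by
      intro g
      rw [hsHapp, hsHapp]
      refine Fintype.sum_equiv (Equiv.mulRight g) _ _ (fun x => ?_)
      rw [Equiv.coe_mulRight, map_mul, Module.End.mul_apply]
    have htop : (Submodule.span k {sH a}).comap sH = ⊤ := by
      rw [eq_top_iff, ← hspan, Submodule.span_le]
      rintro u ⟨g, rfl⟩
      rw [SetLike.mem_coe, Submodule.mem_comap, hsHorb]
      exact Submodule.subset_span rfl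
    have hle : ρ.invariants ≤ Submodule.span k {sH a} := by
      intro w hw
      rw [Representation.mem_invariants] at hw
      have h1 : sH w ∈ Submodule.span k {sH a} := by
        have : w ∈ (Submodule.span k {sH a}).comap sH := by rw [htop]; trivial
        exact this
      have h2 : sH w = (Nat.card H : k) • w := by
        rw [hsHapp, Finset.sum_congr rfl (fun h _ => hw h), Finset.sum_const, Finset.card_univ,
          Nat.card_eq_fintype_card, Nat.cast_smul_eq_nsmul]
      have h3 : (Nat.card H : k) ≠ 0 := by
        have := hcardk ⊤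
        rwa [Subgroup.card_top] at this
      have h4 : w = (Nat.card H : k)⁻¹ • sH w := by
        rw [h2, smul_smul, inv_mul_cancel₀ h3, one_smul]
      rw [h4]
      exact Submodule.smul_mem _ _ h1
    calc Module.finrank k ρ.invariants ≤ Module.finrank k (Submodule.span k {sH a}) :=
          Submodule.finrank_mono hle
      _ ≤ ({sH a} : Set V).toFinset.card := finrank_span_le_card _
      _ = 1 := by simp
  · intro b hcop h
    rw [horb a, horb b, Nat.card_coe_set_eq, Nat.card_coe_set_eq] at hcop
    set B : Subgroup H := MulAction.stabilizer H b with hB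
    haveI : Fintype B := Fintype.ofFinite B
    set τ : Representation k B V := ρ.comp B.subtype with hτ
    have hτapp : ∀ (x : B) (v : V), τ x v = ρ (x : H) v := fun x v => rfl
    have hfin : (MulAction.orbit H a).Finite := Set.finite_range _
    set O : Finset V := hfin.toFinset with hOdef
    have hmemO : ∀ u, u ∈ O ↔ u ∈ MulAction.orbit H a := fun u => hfin.mem_toFinset
    have hOclosed : ∀ (g : H), ∀ u ∈ O, ρ g u ∈ O := by
      intro g u hu
      rw [hmemO] at hu ⊢
      obtain ⟨g', rfl⟩ := hu
      exact ⟨g * g', mul_smul g g' a⟩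
    have hO : ∀ x : B, ∀ u ∈ O, τ x u ∈ O := fun x u hu => hOclosed x u hu
    have htrans : ∀ u ∈ O, ∀ w ∈ O, ∃ x : B, τ x u = w := by
      intro u hu w hw
      rw [hmemO] at hu hw
      obtain ⟨x₁, hx₁B, hx₁⟩ := exists_mem_stabilizer_smul_eq a b hcop u hu
      obtain ⟨x₂, hx₂B, hx₂⟩ := exists_mem_stabilizer_smul_eq a b hcop w hw
      refine ⟨⟨x₂ * x₁⁻¹, B.mul_mem hx₂B (B.inv_mem hx₁B)⟩, ?_⟩
      rw [hτapp, ← hx₁, ← hx₂, ← hsmul, smul_smul, inv_mul_cancel_right]
    set σ : V := ∑ w ∈ O, w with hσ
    -- `σ` is invariant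
    have hσinv : ∀ g : H, ρ g σ = σ := by
      intro g
      rw [hσ, map_sum]
      refine Finset.sum_nbij' (fun u => ρ g u) (fun u => ρ g⁻¹ u) ?_ ?_ ?_ ?_ ?_
      · intro u hu; exact hOclosed g u hu
      · intro u hu; exact hOclosed g⁻¹ u hu
      · intro u _
        exact rep_inv_apply ρ g u
      · intro u _
        exact rep_apply_inv ρ g u
      · intro u _; rfl
    -- the sum over `B`
    set sB : V →ₗ[k] V := ∑ x : B, τ x with hsB
    have hsBapp : ∀ v, sB v = ∑ x : B, τ x v := fun v => by rw [hsB, LinearMap.sum_apply]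
    have htop : (Submodule.span k {σ}).comap sB = ⊤ := by
      rw [eq_top_iff, ← hspan, Submodule.span_le]
      intro u hu
      rw [horb a] at hu
      rw [SetLike.mem_coe, Submodule.mem_comap, hsBapp]
      exact sum_mem_span_of_transitive τ O hO htrans u ((hmemO u).mpr hu)
    have h1 : sB b ∈ Submodule.span k {σ} := by
      have : b ∈ (Submodule.span k {σ}).comap sB := by rw [htop]; trivial
      exact this
    have h2 : sB b = (Nat.card B : k) • b := by
      have hfix : ∀ x : B, τ x b = b := by
        intro x
        exact MulAction.mem_stabilizer_iff.mp x.2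
      rw [hsBapp, Finset.sum_congr rfl (fun x _ => hfix x), Finset.sum_const, Finset.card_univ,
        Nat.card_eq_fintype_card, Nat.cast_smul_eq_nsmul]
    have h3 : (Nat.card B : k) ≠ 0 := hcardk B
    have h4 : b = (Nat.card B : k)⁻¹ • sB b := by
      rw [h2, smul_smul, inv_mul_cancel₀ h3, one_smul]
    obtain ⟨c, hc⟩ := Submodule.mem_span_singleton.mp h1
    rw [h4, ← hc, map_smul, map_smul, hσinv]

end Cfsg.Agent.S4177
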