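-- Statement S4176: a spanning orbit of a vector fixed by a Sylow p-subgroup, p-soluble case.
import Cfsg.Statements.S4176
import Cfsg.Agent.S4177
import Cfsg.Agent.S3744
import Cfsg.Agent.Helper11.PSolvable

set_option autoImplicit false
open Cfsg

namespace Cfsg.Agent.S4176

/-- A subgroup of a `p`-soluble group is `p`-soluble. -/
theorem isPSolvable_subgroup {G : Type*} [Group G] {p : ℕ} [hp : Fact p.Prime] (B : Subgroup G)
    (h : Cfsg.IsPSolvable p G) : Cfsg.IsPSolvable p B := by
  obtain ⟨n, K, h0, hlast, hmono, hnorm, hstep⟩ := h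
  refine ⟨n, fun i => (K i).subgroupOf B, ?_, ?_, ?_, ?_, ?_⟩
  · simp [h0]
  · simp [hlast]
  · intro i j hij
    exact Subgroup.comap_mono (hmono hij)
  · intro i; exact (hnorm i).subgroupOf B
  · intro i
    haveI := hnorm i.castSucc
    have hle : K i.castSucc ≤ K i.succ := hmono (Fin.castSucc_lt_succ).le
    have hdvd : ((K i.castSucc).subgroupOf B).relIndex ((K i.succ).subgroupOf B) ∣
        (K i.castSucc).relIndex (K i.succ) := by
      rw [← Subgroup.inf_subgroupOf_right (K i.castSucc) B, ← Subgroup.inf_subgroupOf_right (K i.succ) B,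
        Subgroup.relIndex_subgroupOf inf_le_right]
      have h1 : K i.castSucc ⊓ B = K i.castSucc ⊓ (K i.succ ⊓ B) := by
        rw [← inf_assoc, inf_of_le_left hle]
      rw [h1, Subgroup.inf_relIndex_right]
      exact Cfsg.Agent.Helper11.relIndex_dvd_relIndex_of_le_right inf_le_left
    exact Cfsg.Agent.Helper11.ppow_or_coprime_of_dvd hp.out hdvd (hstep i)

/-- A subgroup of index coprime to `p` contains a Sylow `p`-subgroup. -/
theorem exists_sylow_le_of_coprime_index {G : Type*} [Group G] [Finite G] {p : ℕ} [hp : Fact p.Prime]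
    (C : Subgroup G) (hC : (C.index).Coprime p) : ∃ Q : Sylow p G, (Q : Subgroup G) ≤ C := by
  classical
  obtain ⟨Q'⟩ := (inferInstance : Nonempty (Sylow p C))
  have hcard : Nat.card ((Q' : Subgroup C).map C.subtype) = p ^ (Nat.card G).factorization p := by
    rw [Subgroup.card_map_of_injective C.subtype_injective, Q'.card_eq_multiplicity]
    congr 1
    have h1 : Nat.card C * C.index = Nat.card G := Subgroup.card_mul_index C
    rw [← h1, Nat.factorization_mul Nat.card_pos.ne' Subgroup.index_ne_zero_of_finite]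
    have h2 : (C.index).factorization p = 0 :=
      Nat.factorization_eq_zero_of_not_dvd ((Nat.Prime.coprime_iff_not_dvd hp.out).mp hC.symm)
    simp [h2]
  refine ⟨Sylow.ofCard _ hcard, ?_⟩
  change (Q' : Subgroup C).map C.subtype ≤ C
  exact Subgroup.map_subtype_le _

/-- The orbit sum `σ` of a spanning orbit is invariant, and spans the fixed space of any subgroup of
invertible order that is transitive on the orbit. -/
theorem exists_sigma {k V H : Type*} [Field k] [AddCommGroup V] [Module k V] [Group H] [Finite H]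
    (ρ : Representation k H V) (a : V)
    (hspan : Submodule.span k {u : V | ∃ h : H, ρ h a = u} = ⊤) :
    ∃ σ : V, (∀ g : H, ρ g σ = σ) ∧
      ∀ L : Subgroup H, (Nat.card L : k) ≠ 0 → (∀ h : H, ∃ x ∈ L, ρ x a = ρ h a) →
        ∀ w : V, (∀ x ∈ L, ρ x w = w) → w ∈ Submodule.span k {σ} := by
  classical
  letI act : MulAction H V := MulAction.compHom V ρ
  have hsmul : ∀ (h : H) (v : V), h • v = ρ h v := fun h v => rfl
  have horb : ∀ v : V, {u : V | ∃ h : H, ρ h v = u} = MulAction.orbit H v := fun v => rfl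
  have hfin : (MulAction.orbit H a).Finite := Set.finite_range _
  set O : Finset V := hfin.toFinset with hOdef
  have hmemO : ∀ u, u ∈ O ↔ u ∈ MulAction.orbit H a := fun u => hfin.mem_toFinset
  have hOclosed : ∀ (g : H), ∀ u ∈ O, ρ g u ∈ O := by
    intro g u hu
    rw [hmemO] at hu ⊢
    obtain ⟨g', rfl⟩ := hu
    exact ⟨g * g', mul_smul g g' a⟩
  set σ : V := ∑ w ∈ O, w with hσ
  have hσinv : ∀ g : H, ρ g σ = σ := by
    intro g
    rw [hσ, map_sum]
    refine Finset.sum_nbij' (fun u => ρ g u) (fun u => ρ g⁻¹ u) ?_ ?_ ?_ ?_ ?_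
    · intro u hu; exact hOclosed g u hu
    · intro u hu; exact hOclosed g⁻¹ u hu
    · intro u _
      exact Cfsg.Agent.S4177.rep_inv_apply ρ g u
    · intro u _
      exact Cfsg.Agent.S4177.rep_apply_inv ρ g u
    · intro u _; rfl
  refine ⟨σ, hσinv, ?_⟩
  intro L hL htr w hw
  haveI : Fintype L := Fintype.ofFinite L
  set τ : Representation k L V := ρ.comp L.subtype with hτ
  have hτapp : ∀ (x : L) (v : V), τ x v = ρ (x : H) v := fun x v => rfl
  have hO : ∀ x : L, ∀ u ∈ O, τ x u ∈ O := fun x u hu => hOclosed x u hu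
  have htrans : ∀ u ∈ O, ∀ w ∈ O, ∃ x : L, τ x u = w := by
    intro u hu w hw
    rw [hmemO] at hu hw
    obtain ⟨g₁, rfl⟩ := hu
    obtain ⟨g₂, rfl⟩ := hw
    obtain ⟨x₁, hx₁L, hx₁⟩ := htr g₁
    obtain ⟨x₂, hx₂L, hx₂⟩ := htr g₂
    refine ⟨⟨x₂ * x₁⁻¹, L.mul_mem hx₂L (L.inv_mem hx₁L)⟩, ?_⟩
    rw [hτapp]
    change ρ (x₂ * x₁⁻¹) (ρ g₁ a) = ρ g₂ a
    rw [← hx₁, ← hx₂, map_mul, Module.End.mul_apply, Cfsg.Agent.S4177.rep_inv_apply]
  set sL : V →ₗ[k] V := ∑ x : L, τ x with hsL
  have hsLapp : ∀ v, sL v = ∑ x : L, τ x v := fun v => by rw [hsL, LinearMap.sum_apply]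
  have htop : (Submodule.span k {σ}).comap sL = ⊤ := by
    rw [eq_top_iff, ← hspan, Submodule.span_le]
    intro u hu
    rw [horb a] at hu
    rw [SetLike.mem_coe, Submodule.mem_comap, hsLapp]
    exact Cfsg.Agent.S4177.sum_mem_span_of_transitive τ O hO htrans u ((hmemO u).mpr hu)
  have h1 : sL w ∈ Submodule.span k {σ} := by
    have : w ∈ (Submodule.span k {σ}).comap sL := by rw [htop]; trivial
    exact this
  have h2 : sL w = (Nat.card L : k) • w := by
    have hfix : ∀ x : L, τ x w = w := fun x => hw x x.2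
    rw [hsLapp, Finset.sum_congr rfl (fun x _ => hfix x), Finset.sum_const, Finset.card_univ,
      Nat.card_eq_fintype_card, Nat.cast_smul_eq_nsmul]
  have h4 : w = (Nat.card L : k)⁻¹ • sL w := by
    rw [h2, smul_smul, inv_mul_cancel₀ hL, one_smul]
  rw [h4]
  exact Submodule.smul_mem _ _ h1

/-- Let k be a field of prime characteristic p, H a finite p-soluble group and ρ a k-linear representation of H on V. Let a be a vector that is fixed by some Sylow p-subgroup of H and whose H-orbit spans V. Then the space of H-fixed vectors has dimension at most 1, and every vector b whose H-orbit has size coprime to the size of the orbit of a is fixed by H. -/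
theorem result {k V H : Type*} [Field k] (p : ℕ) [Fact p.Prime] [CharP k p] [AddCommGroup V] [Module k V]
    [Group H] [Finite H] (hsol : Cfsg.IsPSolvable p H) (ρ : Representation k H V) (a : V)
    (hfix : ∃ P : Sylow p H, ∀ x : H, x ∈ (P : Subgroup H) → ρ x a = a)
    (hspan : Submodule.span k {u : V | ∃ h : H, ρ h a = u} = ⊤) :
    Module.finrank k ρ.invariants ≤ 1 ∧
    ∀ b : V, (Nat.card {u : V | ∃ h : H, ρ h a = u}).Coprime (Nat.card {u : V | ∃ h : H, ρ h b = u}) → ∀ h : H, ρ h b = b := by
  classical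
  have hp : p.Prime := Fact.out
  letI act : MulAction H V := MulAction.compHom V ρ
  have hsmul : ∀ (h : H) (v : V), h • v = ρ h v := fun h v => rfl
  have horb : ∀ v : V, {u : V | ∃ h : H, ρ h v = u} = MulAction.orbit H v := fun v => rfl
  obtain ⟨σ, hσinv, hσ⟩ := exists_sigma ρ a hspan
  obtain ⟨P, hP⟩ := hfix
  -- the orbit size is coprime to `p`
  have hm : ((MulAction.orbit H a).ncard).Coprime p := by
    rw [← MulAction.index_stabilizer]
    have hle : (P : Subgroup H) ≤ MulAction.stabilizer H a :=
      fun x hx => MulAction.mem_stabilizer_iff.mpr (hP x hx)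
    have hdvd := Subgroup.index_dvd_of_le hle
    exact Nat.Coprime.coprime_dvd_left hdvd
      ((Nat.Prime.coprime_iff_not_dvd hp).mpr P.not_dvd_index).symm
  have key : ∀ B : Subgroup H, (∀ h : H, ∃ x ∈ B, ρ x a = ρ h a) →
      ∀ w : V, (∀ x ∈ B, ρ x w = w) → w ∈ Submodule.span k {σ} := by
    intro B htr w hw
    have hBsol : Cfsg.IsPSolvable p B := isPSolvable_subgroup B hsol
    obtain ⟨⟨K', hK'cop, n, hK'idx⟩, -, -⟩ := Cfsg.Agent.S3744.result hBsol
    set AB : Subgroup B := MulAction.stabilizer B a with hAB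
    have hAB_idx : AB.index = (MulAction.orbit H a).ncard := by
      rw [hAB, MulAction.index_stabilizer]
      congr 1
      apply Set.Subset.antisymm (MulAction.orbit_subgroup_subset B a)
      rintro u ⟨h, rfl⟩
      obtain ⟨x, hxB, hx⟩ := htr h
      exact ⟨⟨x, hxB⟩, hx⟩
    obtain ⟨S, hS⟩ := exists_sylow_le_of_coprime_index AB (by rw [hAB_idx]; exact hm)
    have hcardB : Nat.card K' * Nat.card (S : Subgroup B) = Nat.card B := by
      have e1 : Nat.card K' * K'.index = Nat.card B := Subgroup.card_mul_index K'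
      rw [hK'idx] at e1
      have e2 : Nat.card (S : Subgroup B) = p ^ (Nat.card B).factorization p :=
        S.card_eq_multiplicity
      have e3 : (Nat.card B).factorization p = n := by
        rw [← e1, Nat.factorization_mul Nat.card_pos.ne' (pow_ne_zero _ hp.ne_zero),
          Nat.Prime.factorization_pow hp]
        have h2 : (Nat.card K').factorization p = 0 :=
          Nat.factorization_eq_zero_of_not_dvd
            ((Nat.Prime.coprime_iff_not_dvd hp).mp hK'cop.symm)
        simp [h2]
      rw [e2, e3]; exact e1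
    have hcompl : Subgroup.IsComplement' K' (S : Subgroup B) := by
      apply Subgroup.isComplement'_of_coprime hcardB
      rw [S.card_eq_multiplicity]; exact Nat.Coprime.pow_right _ hK'cop
    set L : Subgroup H := K'.map B.subtype with hL
    have hLcard : (Nat.card L : k) ≠ 0 := by
      rw [hL, Subgroup.card_map_of_injective B.subtype_injective]
      intro h0
      rw [CharP.cast_eq_zero_iff k p] at h0
      exact (Nat.Prime.coprime_iff_not_dvd hp).mp hK'cop.symm h0
    apply hσ L hLcard
    · intro h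
      obtain ⟨y, hyB, hy⟩ := htr h
      obtain ⟨⟨x, s⟩, hxs, -⟩ := hcompl.existsUnique (⟨y, hyB⟩ : B)
      have hxs' : (x : B) * (s : B) = ⟨y, hyB⟩ := hxs
      have hsa : ρ ((s : B) : H) a = a := by
        have := hS s.2
        rw [hAB, MulAction.mem_stabilizer_iff] at this
        exact this
      refine ⟨((x : B) : H), ⟨(x : B), x.2, rfl⟩, ?_⟩
      rw [← hy]
      have hyxs : y = ((x : B) : H) * ((s : B) : H) := (congrArg Subtype.val hxs').symm
      rw [hyxs, map_mul, Module.End.mul_apply, hsa]
    · intro x hx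
      obtain ⟨x', -, rfl⟩ := hx
      exact hw _ x'.2
  refine ⟨?_, ?_⟩
  · have hle : ρ.invariants ≤ Submodule.span k {σ} := by
      intro w hw
      rw [Representation.mem_invariants] at hw
      exact key ⊤ (fun h => ⟨h, Subgroup.mem_top h, rfl⟩) w (fun x _ => hw x)
    calc Module.finrank k ρ.invariants ≤ Module.finrank k (Submodule.span k {σ}) :=
          Submodule.finrank_mono hle
      _ ≤ ({σ} : Set V).toFinset.card := finrank_span_le_card _
      _ = 1 := by simp
  · intro b hcop h
    rw [horb a, horb b, Nat.card_coe_set_eq, Nat.card_coe_set_eq] at hcop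
    have hb := key (MulAction.stabilizer H b) (fun g => by
      obtain ⟨x, hxB, hx⟩ :=
        Cfsg.Agent.S4177.exists_mem_stabilizer_smul_eq a b hcop (ρ g a) ⟨g, rfl⟩
      exact ⟨x, hxB, hx⟩) b (fun x hx => MulAction.mem_stabilizer_iff.mp hx)
    obtain ⟨c, hc⟩ := Submodule.mem_span_singleton.mp hb
    rw [← hc, map_smul, hσinv]

end Cfsg.Agent.S4176
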