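import Mathlib
import Cfsg.Statements.S3740
import Cfsg.Agent.Helper62.SL2QuatC
import Cfsg.Agent.Helper5.Q8Recog
import Cfsg.Agent.Helper2.SL23Rec

set_option autoImplicit false
open Cfsg

namespace Cfsg.Agent.S3740

open Cfsg.Agent.Helper62.SL2C

/-- Let F be a finite field of odd characteristic p and let a be a p-element of SL₂(F) normalizing a subgroup R of order prime to p with [R, a] ≠ 1. Then p = 3, R is a quaternion group of order 8, and R⟨a⟩ is isomorphic to SL₂(3). -/
theorem result (F : Type) [Field F] [Fintype F] {p : ℕ} [Fact p.Prime] [CharP F p] (hp : p ≠ 2) (a : Matrix.SpecialLinearGroup (Fin 2) F) (ha : IsPGroup p ↥(Subgroup.zpowers a)) (R : Subgroup (Matrix.SpecialLinearGroup (Fin 2) F)) (hR : (Nat.card R).Coprime p) (haR : a ∈ Subgroup.normalizer (R : Set (Matrix.SpecialLinearGroup (Fin 2) F))) (hnt : ⁅R, Subgroup.zpowers a⁆ ≠ ⊥) : p = 3 ∧ Nonempty (↥R ≃* QuaternionGroup 2) ∧ Nonempty (↥(R ⊔ Subgroup.zpowers a) ≃* Matrix.SpecialLinearGroup (Fin 2) (ZMod 3)) := by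
  classical
  have h2 := two_ne_zero_of_char (F := F) p hp
  -- some element of `R` is not centralized by `a`
  have hnc : ∃ g ∈ R, ¬ Commute a g := by
    by_contra hcon
    push Not at hcon
    apply hnt
    rw [Subgroup.commutator_eq_bot_iff_le_centralizer]
    intro g hg
    rw [Subgroup.mem_centralizer_iff]
    intro h hh
    obtain ⟨k, rfl⟩ := Subgroup.mem_zpowers_iff.mp hh
    exact ((hcon g hg).zpow_left k).eq
  have ha1 : a ≠ 1 := by
    rintro rfl
    obtain ⟨g, -, hg⟩ := hnc
    exact hg (Commute.one_left g)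
  obtain ⟨k, hk⟩ := ha ⟨a, Subgroup.mem_zpowers a⟩
  have hk' : a ^ (p ^ k) = 1 := by
    have := congrArg (fun g : Subgroup.zpowers a => (g : Matrix.SpecialLinearGroup (Fin 2) F)) hk
    simpa using this
  have hao : orderOf a = p := orderOf_eq_of_pelement p hp a ha1 k hk'
  have hR2 : IsPGroup 2 R := isPGroup_two_of_normalized p hp a hao R hR haR
  have hn : ∀ g, g ∈ R ↔ a * g * a⁻¹ ∈ R := Subgroup.mem_normalizer_iff.mp haR
  obtain ⟨hp3, x, y, hxR, hyR, hx2, hy2, hyx, hax, hay, h8⟩ :=
    structure_of_two_group p hp a hao R hR2 hn hnc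
  refine ⟨hp3, ?_, ?_⟩
  · -- `R ≃* Q₈`
    have hneg1R : (-1 : Matrix.SpecialLinearGroup (Fin 2) F) ∈ R := by
      rw [← hx2]; exact R.pow_mem hxR 2
    have hxy2 : (x * y) ^ 2 = -1 := by
      rw [pow_two]
      calc x * y * (x * y) = x * (y * x) * y := by simp only [mul_assoc]
        _ = -(x * x * (y * y)) := by rw [hyx]; simp only [mul_neg, neg_mul, mul_assoc]
        _ = -1 := by rw [← pow_two, ← pow_two, hx2, hy2]; simp
    have hsq : ∀ g ∈ R, g ^ 2 = 1 ∨ g ^ 2 = -1 := by
      intro g hg
      rcases h8 g hg with h | h | h | h | h | h | h | h <;> rw [h]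
      · left; simp
      · left; simp
      · right; exact hx2
      · right; rw [neg_sq, hx2]
      · right; exact hy2
      · right; rw [neg_sq, hy2]
      · right; exact hxy2
      · right; rw [neg_sq, hxy2]
    have h4 : ∀ g : R, g ^ 4 = 1 := by
      intro g
      apply Subtype.ext
      have : ((g : Matrix.SpecialLinearGroup (Fin 2) F)) ^ 4 = 1 := by
        rw [show 4 = 2 * 2 from rfl, pow_mul]
        rcases hsq g g.2 with h | h <;> rw [h] <;> simp
      simpa using this
    have h1 : ∀ g : R, g ^ 2 = 1 → g = 1 ∨ g = ⟨-1, hneg1R⟩ := by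
      intro g hg
      have hg' : (g : Matrix.SpecialLinearGroup (Fin 2) F) ^ 2 = 1 := by
        have := congrArg (fun g : R => (g : Matrix.SpecialLinearGroup (Fin 2) F)) hg
        simpa using this
      rcases (sq_eq_one_iff h2 _).1 hg' with h | h
      · left; exact Subtype.ext h
      · right; exact Subtype.ext h
    -- the cardinality
    have hle : Nat.card R ≤ 8 := by
      have hsub : (R : Set (Matrix.SpecialLinearGroup (Fin 2) F)) ⊆
          ↑([1, -1, x, -x, y, -y, x * y, -(x * y)] :
            List (Matrix.SpecialLinearGroup (Fin 2) F)).toFinset := by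
        intro g hg
        have := h8 g hg
        simp only [List.coe_toFinset, List.mem_cons, List.not_mem_nil, or_false, Set.mem_ofPred_eq]
        tauto
      have h3 := Set.ncard_le_ncard hsub (Finset.finite_toSet _)
      rw [Set.ncard_coe_finset] at h3
      have h5 := List.toFinset_card_le ([1, -1, x, -x, y, -y, x * y, -(x * y)] :
            List (Matrix.SpecialLinearGroup (Fin 2) F))
      have h6 : Nat.card R = (R : Set (Matrix.SpecialLinearGroup (Fin 2) F)).ncard :=
        (Nat.card_coe_set_eq (R : Set (Matrix.SpecialLinearGroup (Fin 2) F)))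
      rw [h6]
      exact h3.trans h5
    obtain ⟨m, hm⟩ := IsPGroup.iff_card.mp hR2
    have hncomm : ¬ ∀ u v : R, u * v = v * u := by
      intro hcomm
      have := hcomm ⟨y, hyR⟩ ⟨x, hxR⟩
      have h7 : y * x = x * y := congrArg (fun g : R => (g : Matrix.SpecialLinearGroup (Fin 2) F)) this
      rw [hyx] at h7
      exact neg_ne_self h2 _ h7
    have hm3 : m ≤ 3 := by
      by_contra hcon
      have : 2 ^ 4 ≤ 2 ^ m := Nat.pow_le_pow_right (by norm_num) (by omega)
      omega
    have hcard : Nat.card R = 8 := by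
      interval_cases m
      · exfalso
        apply hncomm
        have : Subsingleton R := (Nat.card_eq_one_iff_unique.mp (by simpa using hm)).1
        intro u v
        rw [Subsingleton.elim u v]
      · exfalso
        apply hncomm
        have : Fact (Nat.Prime 2) := ⟨Nat.prime_two⟩
        have hcyc : IsCyclic R := isCyclic_of_card_dvd_prime (p := 2) (by rw [hm]; norm_num)
        obtain ⟨g, hg⟩ := hcyc.exists_generator
        intro u v
        obtain ⟨i, rfl⟩ := Subgroup.mem_zpowers_iff.mp (hg u)
        obtain ⟨j, rfl⟩ := Subgroup.mem_zpowers_iff.mp (hg v)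
        exact zpow_mul_comm g i j
      · exfalso
        have : Fact (Nat.Prime 2) := ⟨Nat.prime_two⟩
        exact hncomm (fun u v => (IsPGroup.isMulCommutative_of_card_eq_prime_sq hm).is_comm.comm u v)
      · simpa using hm
    exact Cfsg.Agent.Helper5.quaternion_of_unique_involution hcard ⟨-1, hneg1R⟩ h1 h4
  · -- `R ⟨a⟩ ≃* SL₂(3)`
    have hxX : x ∈ R ⊔ Subgroup.zpowers a := (le_sup_left : R ≤ _) hxR
    have hyX : y ∈ R ⊔ Subgroup.zpowers a := (le_sup_left : R ≤ _) hyR
    have haX : a ∈ R ⊔ Subgroup.zpowers a :=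
      (le_sup_right : Subgroup.zpowers a ≤ _) (Subgroup.mem_zpowers a)
    have hcomm1 : x * y * x⁻¹ * y⁻¹ = -1 := by
      have : x * y = -(y * x) := by rw [hyx, neg_neg]
      rw [this]
      simp only [neg_mul, mul_assoc, mul_inv_cancel, mul_one]
    have ha3 : a ^ 3 = 1 := by rw [← hp3, ← hao]; exact pow_orderOf_eq_one a
    have hgen0 : Subgroup.closure ({x, y, a} : Set (Matrix.SpecialLinearGroup (Fin 2) F)) =
        R ⊔ Subgroup.zpowers a := by
      apply le_antisymm
      · rw [Subgroup.closure_le]
        intro g hg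
        rcases hg with rfl | rfl | rfl
        · exact hxX
        · exact hyX
        · exact haX
      · have hxc : x ∈ Subgroup.closure ({x, y, a} : Set (Matrix.SpecialLinearGroup (Fin 2) F)) :=
          Subgroup.subset_closure (by simp)
        have hyc : y ∈ Subgroup.closure ({x, y, a} : Set (Matrix.SpecialLinearGroup (Fin 2) F)) :=
          Subgroup.subset_closure (by simp)
        have hac : a ∈ Subgroup.closure ({x, y, a} : Set (Matrix.SpecialLinearGroup (Fin 2) F)) :=
          Subgroup.subset_closure (by simp)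
        have hnc1 : (-1 : Matrix.SpecialLinearGroup (Fin 2) F) ∈
            Subgroup.closure ({x, y, a} : Set (Matrix.SpecialLinearGroup (Fin 2) F)) := by
          rw [← hx2]; exact Subgroup.pow_mem _ hxc 2
        have hneg : ∀ g ∈ Subgroup.closure ({x, y, a} : Set (Matrix.SpecialLinearGroup (Fin 2) F)),
            -g ∈ Subgroup.closure ({x, y, a} : Set (Matrix.SpecialLinearGroup (Fin 2) F)) := by
          intro g hg
          rw [← neg_one_mul]
          exact Subgroup.mul_mem _ hnc1 hg
        rw [sup_le_iff]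
        constructor
        · intro g hg
          rcases h8 g hg with h | h | h | h | h | h | h | h <;> rw [h]
          · exact Subgroup.one_mem _
          · exact hnc1
          · exact hxc
          · exact hneg _ hxc
          · exact hyc
          · exact hneg _ hyc
          · exact Subgroup.mul_mem _ hxc hyc
          · exact hneg _ (Subgroup.mul_mem _ hxc hyc)
        · exact Subgroup.zpowers_le.mpr hac
    refine Cfsg.Agent.Helper2.nonempty_mulEquiv_sl23
      (X := ↥(R ⊔ Subgroup.zpowers a)) ⟨x, hxX⟩ ⟨y, hyX⟩ ⟨a, haX⟩ ?_ ?_ ?_ ?_ ?_ ?_ ?_ ?_ ?_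
    · apply Subtype.ext
      show x ^ 2 = x * y * x⁻¹ * y⁻¹
      rw [hcomm1, hx2]
    · apply Subtype.ext
      show y ^ 2 = x * y * x⁻¹ * y⁻¹
      rw [hcomm1, hy2]
    · apply Subtype.ext
      show (x * y * x⁻¹ * y⁻¹) ^ 2 = 1
      rw [hcomm1]; simp
    · intro h
      have h' : x * y * x⁻¹ * y⁻¹ = 1 :=
        congrArg (fun g : ↥(R ⊔ Subgroup.zpowers a) => (g : Matrix.SpecialLinearGroup (Fin 2) F)) h
      rw [hcomm1] at h'
      exact neg_one_ne_one h2 h'
    · apply Subtype.ext
      exact hax
    · apply Subtype.ext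
      exact hay
    · apply Subtype.ext
      exact ha3
    · intro h
      exact ha1 (congrArg (fun g : ↥(R ⊔ Subgroup.zpowers a) =>
        (g : Matrix.SpecialLinearGroup (Fin 2) F)) h)
    · apply Subgroup.map_injective (R ⊔ Subgroup.zpowers a).subtype_injective
      rw [MonoidHom.map_closure, ← MonoidHom.range_eq_map, Subgroup.range_subtype]
      have himg : (⇑(R ⊔ Subgroup.zpowers a).subtype ''
          ({⟨x, hxX⟩, ⟨y, hyX⟩, ⟨a, haX⟩} : Set ↥(R ⊔ Subgroup.zpowers a))) = {x, y, a} := by
        simp [Set.image_insert_eq]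
      rw [himg]
      exact hgen0

end Cfsg.Agent.S3740
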