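import Cfsg.Statements.S5120
import Cfsg.Agent.Helper85.PPowerNormal

set_option autoImplicit false
open Cfsg

namespace Cfsg.Agent.S5120



/-- Let F be a saturated fusion system over a finite p-group S and T a subgroup of S containing the hyperfocal subgroup of F and normal in S. Then every saturated subsystem of F over T of p-power index is a normal subsystem of F. -/
theorem result {Ω : Type*} [Group Ω] {S : Subgroup Ω} [Finite S] (p : ℕ) [Fact p.Prime] (hS : IsPGroup p S) (F : Cfsg.FusionSystem S) (hF : F.IsSaturated p) (T : Subgroup Ω) (hTS : T ≤ S) (hTn : (T.subgroupOf S).Normal) (hT : F.hyperfocalSubgroup p ≤ T) (E : Cfsg.FusionSystem T) (hEs : E.IsSaturated p) (hEi : E.HasPPowerIndexIn F p) : E.IsNormalIn F p := by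
  have hH : ∀ g ∈ S, ∀ x : Ω, g * x * g⁻¹ ∈ T ↔ x ∈ T := by
    have key : ∀ g ∈ S, ∀ x ∈ T, g * x * g⁻¹ ∈ T := by
      intro g hg x hx
      have := hTn.conj_mem ⟨x, hTS hx⟩ (by rw [Subgroup.mem_subgroupOf]; exact hx) ⟨g, hg⟩
      rw [Subgroup.mem_subgroupOf] at this
      exact this
    intro g hg x
    refine ⟨fun h => ?_, key g hg x⟩
    have := key g⁻¹ (S.inv_mem hg) _ h
    have e : g⁻¹ * (g * x * g⁻¹) * g⁻¹⁻¹ = x := by group
    rwa [e] at this
  have hTsc := Cfsg.Agent.Helper85.stronglyClosed_of_hyperfocal_le hS F hF hTS hH hT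
  have hAI : Cfsg.Agent.Helper85.AutInv E (F.autGroup T) := Cfsg.Agent.Helper85.autInv_of_pPowerIndex hS F E hEs hEi
  have hFr := Cfsg.Agent.Helper85.frattini_of_pPowerIndex hS F hF E hTsc hEi hAI
  refine ⟨⟨hEs, hF, hEi.1, hTsc, ?_, ?_⟩, Cfsg.Agent.Helper85.extension_of_pPowerIndex hS F hF E hTsc hEs hEi⟩
  · intro P hPT φ hφ α hα
    obtain ⟨χ, hχ, hχx⟩ := hAI hPT hφ hα _ (Cfsg.Agent.Helper85.imgT_spec α hPT)
    exact ⟨χ, hχ, fun x hφx hαx => hχx x hαx hφx⟩
  · intro P hPT φ hφ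
    exact hFr P hPT φ hφ

end Cfsg.Agent.S5120
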