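import Cfsg.Statements.S5114
import Cfsg.Agent.Helper88.FusionFrattini
import Cfsg.Agent.Helper87.SylowNormal

set_option autoImplicit false
open Cfsg

namespace Cfsg.Agent.S5114

open Cfsg.FusionSystem Cfsg.Agent.Helper87 Cfsg.Agent.Helper88.FS

variable {Ω : Type*} [Group Ω] {S : Subgroup Ω}

theorem isCentric_of_isConj (F : FusionSystem S) {R P : Subgroup Ω} (hR : F.IsCentric R) (h : F.IsConj R P) :
    F.IsCentric P := by
  obtain ⟨e, he⟩ := (isConj_iff F R P).mp h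
  exact ⟨he.le_right, fun Q hQ => hR.2 Q (isConj_trans F h hQ)⟩

/-- The hypothesis passes to the invariant core. -/
theorem oPrime_le_invCore (p : ℕ) (F E : FusionSystem S)
    (h : ∀ P : Subgroup Ω, F.IsCentric P →
      (Subgroup.closure {α : ↥(F.autGroup P) | ∃ k : ℕ, orderOf α = p ^ k}).map (F.autGroup P).subtype ≤ E.autGroup P)
    {R : Subgroup Ω} (hRc : F.IsCentric R) :
    (Subgroup.closure {α : ↥(F.autGroup R) | ∃ k : ℕ, orderOf α = p ^ k}).map (F.autGroup R).subtype ≤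
      (invCore E F).autGroup R := by
  have hRS : R ≤ S := hRc.1
  rw [Subgroup.map_le_iff_le_comap, Subgroup.closure_le]
  rintro n ⟨k, hk⟩
  show (n : MulAut R) ∈ (invCore E F).autGroup R
  rw [mem_autGroup_iff _ hRS]
  have hnE : (n : MulAut R) ∈ E.autGroup R := h R hRc ⟨n, Subgroup.subset_closure ⟨k, hk⟩, rfl⟩
  have hnF : IsIso F ((n : MulAut R) : R ≃* R) := (mem_autGroup_iff F hRS _).mp n.2
  refine ⟨(mem_autGroup_iff E hRS _).mp hnE, fun α hα P' χ hχ => ?_⟩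
  -- the restriction of `α` to `R`, an isomorphism onto `P'`
  have hαF : S.subtype.comp (α : S ≃* S).toMonoidHom ∈ F.Hom S := (mem_autGroup_iff F le_rfl α).mp hα
  have hres := restrict_mem F hαF hRS
  have hrange : ((S.subtype.comp (α : S ≃* S).toMonoidHom).comp (Subgroup.inclusion hRS)).range = P' := by
    ext y
    rw [hχ.1 y]
    constructor
    · rintro ⟨x, rfl⟩
      exact ⟨⟨x, hRS x.2⟩, x.2, rfl⟩
    · rintro ⟨x, hx, rfl⟩
      exact ⟨⟨x, hx⟩, rfl⟩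
  have he : IsIso F (isoOfRange F hres hrange) := isIso_isoOfRange F hres hrange
  have hP'c : F.IsCentric P' := isCentric_of_isConj F hRc ((isConj_iff F R P').mpr ⟨_, he⟩)
  have hP'S : P' ≤ S := hP'c.1
  have hcF : MulAut.congr (isoOfRange F hres hrange) (n : MulAut R) ∈ F.autGroup P' := by
    rw [mem_autGroup_iff F hP'S]
    exact he.symm.trans (hnF.trans he)
  have hord : orderOf (⟨MulAut.congr (isoOfRange F hres hrange) (n : MulAut R), hcF⟩ : F.autGroup P') = p ^ k := by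
    rw [Subgroup.orderOf_mk, MulEquiv.orderOf_eq, Subgroup.orderOf_coe, hk]
  have hcE : MulAut.congr (isoOfRange F hres hrange) (n : MulAut R) ∈ E.autGroup P' :=
    h P' hP'c ⟨_, Subgroup.subset_closure ⟨k, hord⟩, rfl⟩
  refine mem_of_eq E ((mem_autGroup_iff E hP'S _).mp hcE) (fun y => ?_)
  obtain ⟨x, hx, hx', rfl⟩ := hχ.exists_eq y
  have hφ : (R.subtype.comp ((n : MulAut R) : R ≃* R).toMonoidHom) ⟨x, hx⟩ ∈ S := hRS ((n : MulAut R) ⟨x, hx⟩).2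
  rw [hχ.2 x hx hx' hφ]
  show _ = (((isoOfRange F hres hrange) ((n : MulAut R) ((isoOfRange F hres hrange).symm ⟨α x, hx'⟩)) : P') : Ω)
  have e1 : (isoOfRange F hres hrange).symm ⟨α x, hx'⟩ = ⟨x, hx⟩ := by
    rw [MulEquiv.symm_apply_eq]
    exact Subtype.ext rfl
  rw [e1, isoOfRange_apply]
  rfl

theorem oPrime_normal (p : ℕ) (A : Type*) [Group A] :
    (Subgroup.closure {α : A | ∃ k : ℕ, orderOf α = p ^ k}).Normal := by
  have : (Subgroup.closure {α : A | ∃ k : ℕ, orderOf α = p ^ k}).Characteristic := by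
    rw [Subgroup.characteristic_iff_map_le]
    intro φ
    rw [MonoidHom.map_closure]
    apply Subgroup.closure_mono
    rintro _ ⟨g, ⟨k, hk⟩, rfl⟩
    exact ⟨k, by rw [← hk]; exact MulEquiv.orderOf_eq φ g⟩
  infer_instance

theorem autGroup_invCore_le_frSystem (E F : FusionSystem S) {R : Subgroup Ω} (hRS : R ≤ S) :
    (invCore E F).autGroup R ≤ (frSystem (invCore E F) F (pushAut_invCore E F)).autGroup R := by
  intro β hβ
  rw [mem_autGroup_iff _ hRS] at hβ ⊢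
  exact Fr.of_mem hβ

theorem autGroup_top_le_frSystem (E F : FusionSystem S) :
    F.autGroup S ≤ (frSystem (invCore E F) F (pushAut_invCore E F)).autGroup S := by
  intro α hα
  rw [mem_autGroup_iff _ le_rfl]
  exact ⟨α, hα, S.subtype, subtype_mem _ le_rfl, fun x hx => rfl⟩

/-- The essential case of the induction. -/
theorem autGroup_le_frSystem_of_essential [Finite S] {p : ℕ} [Fact p.Prime] (hS : IsPGroup p S)
    (F E : FusionSystem S) (hF : F.IsSaturated p)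
    (h : ∀ P : Subgroup Ω, F.IsCentric P →
      (Subgroup.closure {α : ↥(F.autGroup P) | ∃ k : ℕ, orderOf α = p ^ k}).map (F.autGroup P).subtype ≤ E.autGroup P)
    {R : Subgroup Ω} (hR : F.IsEssential p R)
    (ih : ∀ (N : Subgroup Ω) (ψ : N →* Ω), R < N → ψ ∈ F.Hom N →
      ψ ∈ (frSystem (invCore E F) F (pushAut_invCore E F)).Hom N) :
    F.autGroup R ≤ (frSystem (invCore E F) F (pushAut_invCore E F)).autGroup R := by
  obtain ⟨hRc, hRn, -⟩ := hR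
  have hRS : R ≤ S := hRc.1
  by_cases hReq : R = S
  · subst hReq
    exact autGroup_top_le_frSystem E F
  have hRlt : R < S := lt_of_le_of_ne hRS hReq
  obtain ⟨hfc, hfa⟩ := fullyAutomized_fullyCentralized_of_fullyNormalized hS F hF hRn
  have hrec := receptive_of_fullyCentralized hS F hF hfc
  have : Finite (MulAut R) := finite_mulAut_of_le hRS
  obtain ⟨Sy, hSy⟩ := hfa.2
  have hNn : (Subgroup.closure {α : ↥(F.autGroup R) | ∃ k : ℕ, orderOf α = p ^ k}).Normal := oPrime_normal p _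
  have hSyN : (Sy : Subgroup (F.autGroup R)) ≤ Subgroup.closure {α : ↥(F.autGroup R) | ∃ k : ℕ, orderOf α = p ^ k} := by
    intro a ha
    apply Subgroup.subset_closure
    obtain ⟨k, hk⟩ := (IsPGroup.iff_orderOf.mp Sy.2) ⟨a, ha⟩
    exact ⟨k, by rw [← hk]; exact (Subgroup.orderOf_mk a ha).symm⟩
  -- an element of `N_S(R)` outside `R`
  obtain ⟨s, hsN, hsR⟩ := SetLike.exists_of_lt (lt_normalizerIn hS hRlt)
  intro a ha
  obtain ⟨g, hg, n, hn, hgn⟩ := exists_mul_of_normal Sy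
    (Subgroup.closure {α : ↥(F.autGroup R) | ∃ k : ℕ, orderOf α = p ^ k}) ⟨a, ha⟩
  have ha' : a = (g : MulAut R) * (n : MulAut R) := congrArg Subtype.val hgn
  rw [ha']
  refine Subgroup.mul_mem _ ?_ ?_
  · -- the part normalizing `Aut_S(R)` extends
    rw [inf_eq_left.mpr hSyN] at hg
    have hgF : IsIso F ((g : MulAut R) : R ≃* R) := (mem_autGroup_iff F hRS _).mp g.2
    rw [mem_autGroup_iff _ hRS]
    refine isIso_of_extender_gt F _ hrec (g : MulAut R) hgF ih s ?_ hsR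
    rw [mem_extender_iff]
    refine ⟨hsN.1, hsN.2, ?_⟩
    have hcs : conjAut R s hsN.2 ∈ F.autGroup R := (mem_autGroup_iff F hRS _).mpr (isIso_conjAut F hRS hsN.1 hsN.2)
    have hcsSy : (⟨conjAut R s hsN.2, hcs⟩ : F.autGroup R) ∈ (Sy : Subgroup (F.autGroup R)) := by
      rw [hSy, Subgroup.mem_subgroupOf]
      exact (mem_autInducedBy_iff S R _).mpr ⟨s, hsN.1, fun x => rfl⟩
    have h1 := (Subgroup.mem_normalizer_iff.mp hg _).mp hcsSy
    rw [hSy, Subgroup.mem_subgroupOf] at h1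
    obtain ⟨t, htS, htx⟩ := (mem_autInducedBy_iff S R _).mp h1
    refine ⟨t, htS, fun x hx => ?_⟩
    have h2 := htx ((g : MulAut R) x)
    rw [← show (((g : MulAut R) x : R) : Ω) = (R.subtype.comp ((g : MulAut R) : R ≃* R).toMonoidHom) x from rfl, ← h2]
    show (((g : MulAut R) ⟨s * x * s⁻¹, hx⟩ : R) : Ω) =
      (((g : MulAut R) ((conjAut R s hsN.2) ((g : MulAut R)⁻¹ ((g : MulAut R) x))) : R) : Ω)
    rw [MulAut.inv_apply_self]
    rfl
  · exact autGroup_invCore_le_frSystem E F hRS (oPrime_le_invCore p F E h hRc ⟨n, hn, rfl⟩)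

/-- The Frattini property relative to the invariant core. -/
theorem frattini [Finite S] {p : ℕ} [Fact p.Prime] (hS : IsPGroup p S) (F E : FusionSystem S) (hF : F.IsSaturated p)
    (h : ∀ P : Subgroup Ω, F.IsCentric P →
      (Subgroup.closure {α : ↥(F.autGroup P) | ∃ k : ℕ, orderOf α = p ^ k}).map (F.autGroup P).subtype ≤ E.autGroup P)
    {P : Subgroup Ω} {φ : P →* Ω} (hφ : φ ∈ F.Hom P) : Fr (invCore E F) F φ :=
  alperin_ind hS F (frSystem (invCore E F) F (pushAut_invCore E F)) hF (autGroup_top_le_frSystem E F)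
    (fun _ hR ih => autGroup_le_frSystem_of_essential hS F E hF h hR ih) P hφ

/-- Automorphisms of `p`-power order of the big system lie in the subsystem. -/
theorem mem_autGroup_of_orderOf [Finite S] {p : ℕ} [Fact p.Prime] (hS : IsPGroup p S) (F E : FusionSystem S)
    (hF : F.IsSaturated p)
    (h : ∀ P : Subgroup Ω, F.IsCentric P →
      (Subgroup.closure {α : ↥(F.autGroup P) | ∃ k : ℕ, orderOf α = p ^ k}).map (F.autGroup P).subtype ≤ E.autGroup P)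
    {P : Subgroup Ω} (hPS : P ≤ S) (β : F.autGroup P) (k : ℕ) (hk : orderOf β = p ^ k) :
    (β : MulAut P) ∈ E.autGroup P := by
  obtain ⟨P₁, hconj, hP₁n⟩ := exists_isConj_fullyNormalized F hPS
  obtain ⟨e, he⟩ := (isConj_iff F P P₁).mp hconj
  have hP₁S : P₁ ≤ S := hP₁n.1
  obtain ⟨-, hfa⟩ := fullyAutomized_fullyCentralized_of_fullyNormalized hS F hF hP₁n
  obtain ⟨Sy, hSy⟩ := hfa.2
  have : Finite (MulAut P₁) := finite_mulAut_of_le hP₁S
  have hβF : IsIso F ((β : MulAut P) : P ≃* P) := (mem_autGroup_iff F hPS _).mp β.2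
  have hβ₁ : MulAut.congr e (β : MulAut P) ∈ F.autGroup P₁ := by
    rw [mem_autGroup_iff F hP₁S]
    exact he.symm.trans (hβF.trans he)
  have hB : IsPGroup p (Subgroup.zpowers (⟨MulAut.congr e (β : MulAut P), hβ₁⟩ : F.autGroup P₁)) := by
    have hord : orderOf (⟨MulAut.congr e (β : MulAut P), hβ₁⟩ : F.autGroup P₁) = p ^ k := by
      rw [Subgroup.orderOf_mk, MulEquiv.orderOf_eq, Subgroup.orderOf_coe, hk]
    rw [IsPGroup.iff_card]
    exact ⟨k, by rw [Nat.card_zpowers, hord]⟩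
  obtain ⟨γ, hγ⟩ := exists_conj_mem_sylow_of_isPGroup Sy _ hB
  have h1 := hγ _ (Subgroup.mem_zpowers _)
  rw [hSy, Subgroup.mem_subgroupOf] at h1
  obtain ⟨s, hsS, hsx⟩ := (mem_autInducedBy_iff S P₁ _).mp h1
  have hγF : IsIso F ((γ : MulAut P₁) : P₁ ≃* P₁) := (mem_autGroup_iff F hP₁S _).mp γ.2
  have he' : IsIso F (e.trans ((γ : MulAut P₁) : P₁ ≃* P₁)) := he.trans hγF
  obtain ⟨α, hα, φ₀, hφ₀, hφ₀x⟩ := frattini hS F E hF h he'
  have hφ₀E : φ₀ ∈ E.Hom P := hφ₀.1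
  have hφ₀S : ∀ x, φ₀ x ∈ S := (E.le_of_mem hφ₀E).2
  -- the conjugating element
  have key : ∀ x : P, φ₀ ((β : MulAut P) x) = ((α⁻¹ ⟨s, hsS⟩ : S) : Ω) * φ₀ x * ((α⁻¹ ⟨s, hsS⟩ : S) : Ω)⁻¹ := by
    intro x
    have e1 := hφ₀x ((β : MulAut P) x) (hφ₀S _)
    have e2 := hφ₀x x (hφ₀S _)
    have e3 := hsx ((γ : MulAut P₁) (e x))
    have e4 : (((γ * ⟨MulAut.congr e (β : MulAut P), hβ₁⟩ * γ⁻¹ : F.autGroup P₁) : MulAut P₁)
        ((γ : MulAut P₁) (e x)) : P₁) = (γ : MulAut P₁) (e ((β : MulAut P) x)) := by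
      show (γ : MulAut P₁) ((MulAut.congr e (β : MulAut P)) ((γ : MulAut P₁)⁻¹ ((γ : MulAut P₁) (e x)))) = _
      rw [MulAut.inv_apply_self]
      show (γ : MulAut P₁) (e ((β : MulAut P) (e.symm (e x)))) = _
      rw [MulEquiv.symm_apply_apply]
    rw [e4] at e3
    have e5 : ((α ⟨φ₀ ((β : MulAut P) x), hφ₀S _⟩ : S) : Ω) =
        s * ((α ⟨φ₀ x, hφ₀S _⟩ : S) : Ω) * s⁻¹ := by
      rw [← e1, ← e2]
      exact e3
    have e6 : α ⟨φ₀ ((β : MulAut P) x), hφ₀S _⟩ = ⟨s, hsS⟩ * α ⟨φ₀ x, hφ₀S _⟩ * ⟨s, hsS⟩⁻¹ := Subtype.ext e5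
    have e7 : (⟨φ₀ ((β : MulAut P) x), hφ₀S _⟩ : S) = α⁻¹ ⟨s, hsS⟩ * ⟨φ₀ x, hφ₀S _⟩ * (α⁻¹ ⟨s, hsS⟩)⁻¹ := by
      apply α.injective
      rw [e6, map_mul, map_mul, map_inv, MulAut.apply_inv_self]
    exact congrArg (fun z : S => (z : Ω)) e7
  have hP₀S : φ₀.range ≤ S := by
    rintro y ⟨x, rfl⟩
    exact hφ₀S x
  have hconjE : conjHom φ₀.range ((α⁻¹ ⟨s, hsS⟩ : S) : Ω) ∈ E.Hom φ₀.range := E.conj_mem hP₀S (α⁻¹ ⟨s, hsS⟩ : S).2
  obtain ⟨ρ₀, hρ₀, hρ₀x⟩ := E.inv_mem hφ₀E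
  have hv1 : ∀ x : P, φ₀ x ∈ φ₀.range := fun x => ⟨x, rfl⟩
  have hc1 := E.comp_mem hφ₀E hconjE hv1
  have hv2 : ∀ x : P, ((conjHom φ₀.range ((α⁻¹ ⟨s, hsS⟩ : S) : Ω)).comp (φ₀.codRestrict φ₀.range hv1)) x ∈ φ₀.range := by
    intro x
    refine ⟨(β : MulAut P) x, ?_⟩
    rw [key x]
    rfl
  have hc2 := E.comp_mem hc1 hρ₀ hv2
  rw [mem_autGroup_iff E hPS]
  refine mem_of_eq E hc2 (fun x => ?_)
  show (((β : MulAut P) x : P) : Ω) = ρ₀ ⟨_, hv2 x⟩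
  have e8 : (⟨((conjHom φ₀.range ((α⁻¹ ⟨s, hsS⟩ : S) : Ω)).comp (φ₀.codRestrict φ₀.range hv1)) x, hv2 x⟩ : φ₀.range) =
      ⟨φ₀ ((β : MulAut P) x), ⟨_, rfl⟩⟩ := by
    apply Subtype.ext
    show _ = φ₀ ((β : MulAut P) x)
    exact (key x).symm
  rw [e8, hρ₀x]

/-- If Aut_E(P) ≥ O^{p'}(Aut_F(P)) for all F-centric P then E has index prime to p, the Frattini condition holds, and E^c = F^c. -/
theorem result {Ω : Type*} [Group Ω] {S : Subgroup Ω} [Finite S] (p : ℕ) [Fact p.Prime] (hS : IsPGroup p S) (F : Cfsg.FusionSystem S) (hF : F.IsSaturated p) (E : Cfsg.FusionSystem S) (hEF : E.IsSubsystemOf F) (h : ∀ P : Subgroup Ω, F.IsCentric P → (Subgroup.closure {α : ↥(F.autGroup P) | ∃ k : ℕ, orderOf α = p ^ k}).map (F.autGroup P).subtype ≤ E.autGroup P) : E.HasPrimeToPIndexIn F p ∧ (∀ (P : Subgroup Ω) (φ : P →* Ω), φ ∈ F.Hom P → ∃ α ∈ F.autGroup S, ∃ φ₀ ∈ E.Hom P, ∀ (x : P) (hx : φ₀ x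 ∈ S), φ x = ((α ⟨φ₀ x, hx⟩ : S) : Ω)) ∧ ∀ P : Subgroup Ω, E.IsCentric P ↔ F.IsCentric P := by
  have hfr : ∀ (P : Subgroup Ω) (φ : P →* Ω), φ ∈ F.Hom P → ∃ α ∈ F.autGroup S, ∃ φ₀ ∈ E.Hom P,
      ∀ (x : P) (hx : φ₀ x ∈ S), φ x = ((α ⟨φ₀ x, hx⟩ : S) : Ω) := by
    intro P φ hφ
    obtain ⟨α, hα, φ₀, hφ₀, hx⟩ := frattini hS F E hF h hφ
    exact ⟨α, hα, φ₀, hφ₀.1, hx⟩
  refine ⟨⟨hEF, fun P hPS => ?_⟩, hfr, fun P => ⟨fun hPE => ?_, fun hPF => ?_⟩⟩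
  · rw [Subgroup.map_le_iff_le_comap, Subgroup.closure_le]
    rintro β ⟨k, hk⟩
    exact mem_autGroup_of_orderOf hS F E hF h hPS β k hk
  · refine ⟨hPE.1, ?_⟩
    rintro Q ⟨φ, hφ, hrange⟩
    obtain ⟨α, hα, φ₀, hφ₀, hx⟩ := hfr P φ hφ
    have hφ₀S : ∀ x, φ₀ x ∈ S := (E.le_of_mem hφ₀).2
    have hQ₀ := hPE.2 φ₀.range ⟨φ₀, hφ₀, rfl⟩
    rintro c ⟨hcS, hcC⟩
    have hc₀ : ((α⁻¹ ⟨c, hcS⟩ : S) : Ω) ∈ centralizerIn S φ₀.range := by
      refine ⟨(α⁻¹ ⟨c, hcS⟩ : S).2, ?_⟩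
      show ((α⁻¹ ⟨c, hcS⟩ : S) : Ω) ∈ Subgroup.centralizer (φ₀.range : Set Ω)
      rw [Subgroup.mem_centralizer_iff]
      rintro y ⟨x, rfl⟩
      have h1 : φ x ∈ Q := by rw [← hrange]; exact ⟨x, rfl⟩
      have h2 : φ x * c = c * φ x := (Subgroup.mem_centralizer_iff.mp hcC) _ h1
      rw [hx x (hφ₀S x)] at h2
      have h3 : α ⟨φ₀ x, hφ₀S x⟩ * ⟨c, hcS⟩ = ⟨c, hcS⟩ * α ⟨φ₀ x, hφ₀S x⟩ := Subtype.ext h2
      have h4 : (⟨φ₀ x, hφ₀S x⟩ : S) * α⁻¹ ⟨c, hcS⟩ = α⁻¹ ⟨c, hcS⟩ * ⟨φ₀ x, hφ₀S x⟩ := by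
        apply α.injective
        rw [map_mul, map_mul, MulAut.apply_inv_self]
        exact h3
      exact congrArg (fun z : S => (z : Ω)) h4
    obtain ⟨x, hxc⟩ := hQ₀ hc₀
    rw [← hrange]
    refine ⟨x, ?_⟩
    rw [hx x (hφ₀S x)]
    have h5 : (⟨φ₀ x, hφ₀S x⟩ : S) = α⁻¹ ⟨c, hcS⟩ := Subtype.ext hxc
    rw [h5, MulAut.apply_inv_self]
  · exact ⟨hPF.1, fun Q hQ => hPF.2 Q (by
      obtain ⟨φ, hφ, hr⟩ := hQ
      exact ⟨φ, hEF P hφ, hr⟩)⟩

end Cfsg.Agent.S5114
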