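import Cfsg.Statements.S0740
import Cfsg.Agent.Helper60.Zassenhaus

set_option autoImplicit false
open Cfsg

namespace Cfsg.Agent.S0740

open MulAction Cfsg.Agent.Helper60.Zassenhaus

section helpers

variable {G Ω : Type*} [Group G] [MulAction G Ω]

/-- an involution swapping two given points, from 2-transitivity -/
theorem exists_involution_swap [Finite G] (hfaith : FaithfulSMul G Ω)
    (h2 : IsMultiplyPretransitive G Ω 2) {a b : Ω}
    (hab : a ≠ b) : ∃ s : G, orderOf s = 2 ∧ s • a = b ∧ s • b = a := by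
  obtain ⟨s₀, sa, sb⟩ := exists_map2 h2 hab hab.symm
  -- powers of s₀
  have hpow : ∀ k : ℕ, (s₀ ^ k) • a = if Even k then a else b := by
    intro k
    induction k with
    | zero => simp
    | succ k ih =>
      rw [pow_succ', mul_smul, ih]
      by_cases hk : Even k
      · rw [if_pos hk, if_neg (by rw [Nat.even_add_one]; exact not_not.mpr hk), sa]
      · rw [if_neg hk, if_pos (by rw [Nat.even_add_one]; exact hk), sb]
  have hpos : 0 < orderOf s₀ := orderOf_pos s₀
  have heven : Even (orderOf s₀) := by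
    by_contra hodd
    have := hpow (orderOf s₀)
    rw [pow_orderOf_eq_one, one_smul, if_neg hodd] at this
    exact hab this
  obtain ⟨m, hm⟩ := heven
  have hm0 : m ≠ 0 := by omega
  have h2m : orderOf s₀ = 2 * m := by omega
  -- the involution
  set t := s₀ ^ m with ht
  have hto : orderOf t = 2 := by
    rw [ht, orderOf_pow_of_dvd hm0 ⟨2, by omega⟩, h2m]
    exact Nat.mul_div_cancel _ (by omega)
  -- t moves some point
  have htne : t ≠ 1 := by
    intro h
    rw [h, orderOf_one] at hto
    omega
  have : ∃ c : Ω, t • c ≠ c := by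
    by_contra hcon
    push Not at hcon
    apply htne
    apply hfaith.eq_of_smul_eq_smul
    intro c
    rw [hcon c, one_smul]
  obtain ⟨c, hc⟩ := this
  have htt : t * t = 1 := by
    rw [← pow_two, ← hto, pow_orderOf_eq_one]
  have htd : t • t • c = c := by rw [← mul_smul, htt, one_smul]
  obtain ⟨g, gc, gd⟩ := exists_map2 h2 (Ne.symm hc) hab
  refine ⟨g * t * g⁻¹, ?_, ?_, ?_⟩
  · have hs : SemiconjBy g t (g * t * g⁻¹) := by
      unfold SemiconjBy; group
    rw [← hs.orderOf_eq, hto]
  · rw [mul_smul, mul_smul, ← gc, inv_smul_smul, gd]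
  · rw [mul_smul, mul_smul, ← gd, inv_smul_smul, htd, gc]

/-- a non-identity element of a Zassenhaus group has at most two fixed points -/
theorem card_fixedBy_le_two [Fintype Ω]
    (h3 : ∀ g : G, ∀ a b c : Ω, a ≠ b → b ≠ c → a ≠ c → g • a = a → g • b = b → g • c = c → g = 1)
    {s : G} (hs : s ≠ 1) : Nat.card (fixedBy Ω s) ≤ 2 := by
  classical
  by_contra hcon
  push Not at hcon
  rw [Nat.card_eq_fintype_card, Fintype.two_lt_card_iff] at hcon
  obtain ⟨x, y, z, hxy, hxz, hyz⟩ := hcon
  apply hs
  exact h3 s x y z (fun h => hxy (Subtype.ext h)) (fun h => hyz (Subtype.ext h))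
    (fun h => hxz (Subtype.ext h)) x.2 y.2 z.2

/-- parity of the number of fixed points of an involution -/
theorem card_fixedBy_modEq [Fintype Ω] {s : G} (hs : orderOf s = 2) :
    Nat.card (fixedBy Ω s) ≡ Fintype.card Ω [MOD 2] := by
  classical
  have hss : s ^ 2 = 1 := by rw [← hs, pow_orderOf_eq_one]
  have hσ : (MulAction.toPerm s : Equiv.Perm Ω) ^ 2 ^ 1 = 1 := by
    ext y
    simp only [pow_one, Equiv.Perm.coe_one, id_eq]
    rw [pow_two, Equiv.Perm.mul_apply, MulAction.toPerm_apply, MulAction.toPerm_apply,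
      ← mul_smul, ← pow_two, hss, one_smul]
  have h1 := Equiv.Perm.card_compl_support_modEq (p := 2) (n := 1) hσ
  have h2 : Nat.card (fixedBy Ω s) = (MulAction.toPerm s : Equiv.Perm Ω).supportᶜ.card := by
    rw [Nat.card_eq_fintype_card]
    apply Fintype.card_of_subtype
    intro x
    simp [mem_fixedBy]
  rw [h2]
  exact h1

theorem ne_one_of_orderOf_two {s : G} (hs : orderOf s = 2) : s ≠ 1 := by
  rintro rfl
  rw [orderOf_one] at hs
  omega

end helpers

/-- In a finite Zassenhaus group any two points `a ≠ b` are swapped by an involution; every such involution has exactly one fixed point when the degree is odd and 0 or 2 fixed points when the degree is even; and if the two-point stabiliser has even order, some such involution has exactly 2 fixed points. -/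
theorem result {G Ω : Type*} [Group G] [Finite G] [MulAction G Ω] [Fintype Ω] (hZ : Cfsg.IsZassenhausGroup G Ω) {a b : Ω} (hab : a ≠ b) : (∃ s : G, orderOf s = 2 ∧ s • a = b ∧ s • b = a) ∧ (∀ s : G, orderOf s = 2 → s • a = b → s • b = a → (Odd (Fintype.card Ω) → Nat.card (MulAction.fixedBy Ω s) = 1) ∧ (Even (Fintype.card Ω) → Nat.card (MulAction.fixedBy Ω s) = 0 ∨ Nat.card (MulAction.fixedBy Ω s) = 2)) ∧ (Even (Fintype.card Ω) → Even (Nat.card ↥(MulAction.stabilizer G a ⊓ MulAction.stabilizer G b)) → ∃ s : G, orderOf s = 2 ∧ s • a = b ∧ s • b = a ∧ Nat.card (MulAction.fixedBy Ω s) = 2) := by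
  have hn := three_le_card hZ
  obtain ⟨hfaith, h2, h3, -, -⟩ := hZ
  have key : ∀ s : G, orderOf s = 2 →
      (Odd (Fintype.card Ω) → Nat.card (MulAction.fixedBy Ω s) = 1) ∧
      (Even (Fintype.card Ω) → Nat.card (MulAction.fixedBy Ω s) = 0 ∨
        Nat.card (MulAction.fixedBy Ω s) = 2) := by
    intro s hs
    have h1 := card_fixedBy_le_two h3 (ne_one_of_orderOf_two hs)
    have h2' := card_fixedBy_modEq (Ω := Ω) hs
    unfold Nat.ModEq at h2'
    constructor
    · intro hodd
      have := Nat.odd_iff.mp hodd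
      omega
    · intro heven
      have := Nat.even_iff.mp heven
      omega
  refine ⟨exists_involution_swap hfaith h2 hab, fun s hs _ _ => key s hs, ?_⟩
  intro heven hE
  -- an involution in the two point stabilizer
  obtain ⟨z, hzo, za, zb⟩ : ∃ z : G, orderOf z = 2 ∧ z • a = a ∧ z • b = b := by
    obtain ⟨z, hz⟩ := exists_prime_orderOf_dvd_card' (G := ↥(stabilizer G a ⊓ stabilizer G b)) 2
      (even_iff_two_dvd.mp hE)
    have hzab := z.2
    simp only [Subgroup.mem_inf, mem_stabilizer_iff] at hzab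
    exact ⟨(z : G), by rw [Subgroup.orderOf_coe, hz], hzab.1, hzab.2⟩
  have hz1 : z ≠ 1 := ne_one_of_orderOf_two hzo
  -- a third point
  classical
  have hlt : ({a, b} : Finset Ω).card < (Finset.univ : Finset Ω).card := by
    have := Finset.card_le_two (a := a) (b := b)
    rw [Finset.card_univ]
    omega
  obtain ⟨c, -, hc⟩ := Finset.exists_mem_notMem_of_card_lt_card hlt
  simp only [Finset.mem_insert, Finset.mem_singleton, not_or] at hc
  have hzc : z • c ≠ c := fun h => hz1 (h3 _ a b c hab (Ne.symm hc.2) (Ne.symm hc.1) za zb h)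
  have hzz : z * z = 1 := by rw [← pow_two, ← hzo, pow_orderOf_eq_one]
  have hzd : z • z • c = c := by rw [← mul_smul, hzz, one_smul]
  obtain ⟨g, gc, gd⟩ := exists_map2 h2 (Ne.symm hzc) hab
  have ic : g⁻¹ • a = c := by rw [inv_smul_eq_iff, gc]
  have id' : g⁻¹ • b = z • c := by rw [inv_smul_eq_iff, gd]
  have hso : orderOf (g * z * g⁻¹) = 2 := by
    have hs : SemiconjBy g z (g * z * g⁻¹) := by
      unfold SemiconjBy; group
    rw [← hs.orderOf_eq, hzo]
  refine ⟨g * z * g⁻¹, hso, ?_, ?_, ?_⟩
  · rw [mul_smul, mul_smul, ic, gd]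
  · rw [mul_smul, mul_smul, id', hzd, gc]
  · rcases (key _ hso).2 heven with h0 | h
    · exfalso
      have hmem : g • a ∈ fixedBy Ω (g * z * g⁻¹) := by
        rw [mem_fixedBy, mul_smul, mul_smul, inv_smul_smul, za]
      have : 0 < Nat.card (fixedBy Ω (g * z * g⁻¹)) := by
        rw [Nat.card_eq_fintype_card]
        exact Fintype.card_pos_iff.mpr ⟨⟨_, hmem⟩⟩
      omega
    · exact h

end Cfsg.Agent.S0740
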