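-- Statement S4163: the subgroup generated by the classes of the two smallest sizes has class at most 3
-- (in the presence of a self-centralizing normal abelian subgroup).
import Cfsg.Statements.S4163

set_option autoImplicit false
open Cfsg

namespace Cfsg.Agent.S4163

theorem index_le_card_of_map {H X : Type*} [Group H] [Finite X] (K : Subgroup H) (f : H → X)
    (hf : ∀ a b : H, f a = f b → a⁻¹ * b ∈ K) : K.index ≤ Nat.card X := by
  rw [Subgroup.index_eq_card]
  refine Nat.card_le_card_of_injective (fun q : H ⧸ K => f q.out) ?_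
  intro q₁ q₂ h
  have h1 := hf _ _ h
  rw [← QuotientGroup.eq, QuotientGroup.out_eq', QuotientGroup.out_eq'] at h1
  exact h1

theorem card_inf_mul_relIndex {G : Type*} [Group G] (H K : Subgroup G) :
    Nat.card (H ⊓ K : Subgroup G) * H.relIndex K = Nat.card K := by
  have h1 := Subgroup.card_mul_index (H.subgroupOf K)
  rw [← Subgroup.relIndex] at h1
  rw [← h1]
  congr 1
  rw [← Subgroup.subgroupOf_map_subtype H K]
  exact Subgroup.card_map_of_injective K.subtype_injective

/-- The key lemma: commutators of elements of `A` with an element of minimal non-central class size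
are central. -/
theorem key_lemma {G : Type*} [Group G] [Finite G] (A : Subgroup G) [hAn : A.Normal]
    (hA : IsMulCommutative A) (m : ℕ)
    (hmin : ∀ y : G, 1 < (Subgroup.centralizer ({y} : Set G)).index → m ≤ (Subgroup.centralizer ({y} : Set G)).index)
    (x : G) (hx : (Subgroup.centralizer ({x} : Set G)).index = m) (a : G) (ha : a ∈ A) :
    a * x * a⁻¹ * x⁻¹ ∈ Subgroup.center G := by
  classical
  set b : G := a * x * a⁻¹ * x⁻¹ with hb
  by_cases hb1 : b = 1
  · rw [hb1]; exact Subgroup.one_mem _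
  have hbA : b ∈ A := by
    have : b = a * (x * a⁻¹ * x⁻¹) := by rw [hb]; group
    rw [this]
    exact A.mul_mem ha (hAn.conj_mem a⁻¹ (A.inv_mem ha) x)
  set C := Subgroup.centralizer ({x} : Set G) with hC
  set Cb := Subgroup.centralizer ({b} : Set G) with hCb
  set D := C ⊓ Cb with hD
  have hACb : A ≤ Cb := by
    intro y hy
    rw [hCb, Subgroup.mem_centralizer_singleton_iff]
    exact congrArg Subtype.val (mul_comm' (⟨y, hy⟩ : A) ⟨b, hbA⟩)
  -- the set of commutators
  set B : Set G := Set.range (fun a' : A => (a' : G) * x * (a' : G)⁻¹ * x⁻¹) with hB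
  -- Step 1: `|B| ≤ |A : C_A(x)|`
  have hstep1 : Nat.card B ≤ C.relIndex A := by
    rw [Subgroup.relIndex, Subgroup.index_eq_card]
    refine Nat.card_le_card_of_injective
      (fun y : B => (QuotientGroup.mk (Classical.choose y.2) : A ⧸ C.subgroupOf A)) ?_
    intro y₁ y₂ h
    have h1 : ((Classical.choose y₁.2 : A) : G) * x * ((Classical.choose y₁.2 : A) : G)⁻¹ * x⁻¹ = y₁ :=
      Classical.choose_spec y₁.2
    have h2 : ((Classical.choose y₂.2 : A) : G) * x * ((Classical.choose y₂.2 : A) : G)⁻¹ * x⁻¹ = y₂ :=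
      Classical.choose_spec y₂.2
    set a₁ := Classical.choose y₁.2
    set a₂ := Classical.choose y₂.2
    have h3 : a₁⁻¹ * a₂ ∈ C.subgroupOf A := QuotientGroup.eq.mp h
    rw [Subgroup.mem_subgroupOf, hC, Subgroup.mem_centralizer_singleton_iff] at h3
    apply Subtype.ext
    rw [← h1, ← h2]
    -- from `(a₁⁻¹ a₂) x = x (a₁⁻¹ a₂)`
    have h4 : (a₂ : G) * x * (a₂ : G)⁻¹ = (a₁ : G) * x * (a₁ : G)⁻¹ := by
      have h5 : ((a₁⁻¹ * a₂ : A) : G) = (a₁ : G)⁻¹ * (a₂ : G) := rfl
      rw [h5] at h3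
      have h6 : x = ((a₁ : G)⁻¹ * (a₂ : G)) * x * ((a₁ : G)⁻¹ * (a₂ : G))⁻¹ := by
        rw [h3]; group
      calc (a₂ : G) * x * (a₂ : G)⁻¹
          = (a₁ : G) * (((a₁ : G)⁻¹ * (a₂ : G)) * x * ((a₁ : G)⁻¹ * (a₂ : G))⁻¹) * (a₁ : G)⁻¹ := by group
        _ = (a₁ : G) * x * (a₁ : G)⁻¹ := by rw [← h6]
    rw [h4]
  -- Step 2: `|C : D| < |B|`
  have h1B : (1 : G) ∈ B := ⟨1, by simp⟩
  have hstep2 : D.relIndex C < Nat.card B := by
    have hle : D.relIndex C ≤ Nat.card {y : B // (y : G) ≠ 1} := by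
      rw [Subgroup.relIndex]
      refine index_le_card_of_map (D.subgroupOf C)
        (fun c : C => (⟨⟨(c : G) * b * (c : G)⁻¹, ?_⟩, ?_⟩ : {y : B // (y : G) ≠ 1})) ?_
      · have hcx : (c : G) * x = x * (c : G) := Subgroup.mem_centralizer_singleton_iff.mp c.2
        have hcx' : (c : G) * x * (c : G)⁻¹ = x := by rw [hcx]; group
        refine ⟨⟨(c : G) * a * (c : G)⁻¹, hAn.conj_mem a ha c⟩, ?_⟩
        change (c : G) * a * (c : G)⁻¹ * x * ((c : G) * a * (c : G)⁻¹)⁻¹ * x⁻¹ = (c : G) * b * (c : G)⁻¹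
        rw [hb]
        calc (c : G) * a * (c : G)⁻¹ * x * ((c : G) * a * (c : G)⁻¹)⁻¹ * x⁻¹
            = (c : G) * a * (c : G)⁻¹ * ((c : G) * x * (c : G)⁻¹) * ((c : G) * a * (c : G)⁻¹)⁻¹ *
                ((c : G) * x * (c : G)⁻¹)⁻¹ := by rw [hcx']
          _ = (c : G) * (a * x * a⁻¹ * x⁻¹) * (c : G)⁻¹ := by group
      · intro h
        apply hb1
        have : (c : G) * b * (c : G)⁻¹ = 1 := h
        calc b = (c : G)⁻¹ * ((c : G) * b * (c : G)⁻¹) * (c : G) := by group
          _ = 1 := by rw [this]; group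
      · intro c₁ c₂ h
        have h' : (c₁ : G) * b * (c₁ : G)⁻¹ = (c₂ : G) * b * (c₂ : G)⁻¹ :=
          congrArg (fun y : {y : B // (y : G) ≠ 1} => ((y : B) : G)) h
        rw [Subgroup.mem_subgroupOf, hD, Subgroup.mem_inf]
        refine ⟨(c₁⁻¹ * c₂).2, ?_⟩
        rw [hCb, Subgroup.mem_centralizer_singleton_iff]
        change (c₁ : G)⁻¹ * (c₂ : G) * b = b * ((c₁ : G)⁻¹ * (c₂ : G))
        symm
        calc b * ((c₁ : G)⁻¹ * (c₂ : G))
            = (c₁ : G)⁻¹ * ((c₁ : G) * b * (c₁ : G)⁻¹) * (c₂ : G) := by group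
          _ = (c₁ : G)⁻¹ * ((c₂ : G) * b * (c₂ : G)⁻¹) * (c₂ : G) := by rw [h']
          _ = (c₁ : G)⁻¹ * (c₂ : G) * b := by group
    have hsub : Nat.card {y : B // (y : G) ≠ 1} < Nat.card B :=
      Finite.card_subtype_lt (x := (⟨1, h1B⟩ : B)) (fun h => h rfl)
    exact lt_of_le_of_lt hle hsub
  -- Step 3: arithmetic
  set j := D.relIndex C with hj
  set k := C.relIndex A with hk
  have hjk : j < k := lt_of_lt_of_le hstep2 hstep1
  have hDC : D ≤ C := inf_le_left
  have e1 : Nat.card D * j = Nat.card C := by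
    have := card_inf_mul_relIndex D C
    rwa [inf_of_le_left hDC] at this
  have e2 : Nat.card (C ⊓ A : Subgroup G) * k = Nat.card A := card_inf_mul_relIndex C A
  set r := A.relIndex D with hr
  have e3 : Nat.card (A ⊓ D : Subgroup G) * r = Nat.card D := card_inf_mul_relIndex A D
  have hAD : A ⊓ D = C ⊓ A := by
    rw [hD]
    ext y
    simp only [Subgroup.mem_inf]
    constructor
    · rintro ⟨hyA, hyC, -⟩; exact ⟨hyC, hyA⟩
    · rintro ⟨hyC, hyA⟩; exact ⟨hyA, hyC, hACb hyA⟩
  have e4 : Nat.card A * r = Nat.card (A ⊔ D : Subgroup G) := by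
    have := card_inf_mul_relIndex A (A ⊔ D)
    rw [inf_of_le_left le_sup_left, Subgroup.relIndex_sup_left D A] at this
    exact this
  have e5 : Nat.card (A ⊔ D : Subgroup G) ≤ Nat.card Cb :=
    Subgroup.card_le_of_le (sup_le hACb inf_le_right)
  have hDpos : 0 < Nat.card D := Nat.card_pos
  have e6 : Nat.card C < Nat.card Cb := by
    calc Nat.card C = Nat.card D * j := e1.symm
      _ < Nat.card D * k := Nat.mul_lt_mul_of_pos_left hjk hDpos
      _ = Nat.card (C ⊓ A : Subgroup G) * k * r := by rw [← e3, hAD]; ring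
      _ = Nat.card A * r := by rw [e2]
      _ = Nat.card (A ⊔ D : Subgroup G) := e4
      _ ≤ Nat.card Cb := e5
  have e7 : Nat.card Cb * Cb.index = Nat.card G := Subgroup.card_mul_index Cb
  have e8 : Nat.card C * m = Nat.card G := by rw [← hx]; exact Subgroup.card_mul_index C
  have hmpos : 0 < m := by
    rw [← hx]; exact Nat.pos_of_ne_zero Subgroup.index_ne_zero_of_finite
  have e9 : Cb.index < m := by
    by_contra hge
    push Not at hge
    have : Nat.card G < Nat.card G := by
      calc Nat.card G = Nat.card C * m := e8.symm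
        _ < Nat.card Cb * m := Nat.mul_lt_mul_of_pos_right e6 hmpos
        _ ≤ Nat.card Cb * Cb.index := Nat.mul_le_mul_left _ hge
        _ = Nat.card G := e7
    exact lt_irrefl _ this
  have e10 : Cb.index = 1 := by
    by_contra hne
    have h0 : Cb.index ≠ 0 := Subgroup.index_ne_zero_of_finite
    have h1 : 1 < Cb.index := by omega
    exact absurd (hmin b h1) (not_le.mpr e9)
  rw [Subgroup.index_eq_one, hCb, Subgroup.centralizer_eq_top_iff_subset, Set.singleton_subset_iff] at e10
  exact e10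



/-- The general form: the subgroup generated by the central elements and the elements of minimal
non-central class size is nilpotent of class at most 3. -/
theorem class_le_three {G : Type*} [Group G] [Finite G]
    (A : Subgroup G) [hAn : A.Normal] (hA : IsMulCommutative A) (hCA : Subgroup.centralizer (A : Set G) = A)
    (m : ℕ) (hmin : ∀ x : G, 1 < (Subgroup.centralizer ({x} : Set G)).index → m ≤ (Subgroup.centralizer ({x} : Set G)).index) :
    Subgroup.upperCentralSeries ↥(Subgroup.closure {x : G | (Subgroup.centralizer ({x} : Set G)).index = 1 ∨ (Subgroup.centralizer ({x} : Set G)).index = m}) 3 = ⊤ := by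
  classical
  set Z := Subgroup.center G with hZ
  set φ := QuotientGroup.mk' Z with hφ
  set W : Subgroup G := (Subgroup.centralizer ((A.map φ : Subgroup (G ⧸ Z)) : Set (G ⧸ Z))).comap φ with hW
  have hmemW : ∀ g : G, g ∈ W ↔ ∀ a ∈ A, φ a * φ g = φ g * φ a := by
    intro g
    rw [hW, Subgroup.mem_comap, Subgroup.mem_centralizer_iff]
    constructor
    · intro hh a haA; exact hh (φ a) (Subgroup.mem_map_of_mem φ haA)
    · rintro hh _ ⟨a, haA, rfl⟩; exact hh a haA
  set S' : Set G := {x : G | (Subgroup.centralizer ({x} : Set G)).index = 1 ∨ (Subgroup.centralizer ({x} : Set G)).index = m} with hS'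
  set M := Subgroup.closure S' with hM
  have hMW : M ≤ W := by
    rw [hM, Subgroup.closure_le]
    intro x hx
    rw [SetLike.mem_coe, hmemW]
    intro a haA
    rcases hx with hx | hx
    · rw [Subgroup.index_eq_one, Subgroup.centralizer_eq_top_iff_subset, Set.singleton_subset_iff] at hx
      have : φ x = 1 := (QuotientGroup.eq_one_iff x).mpr hx
      rw [this, mul_one, one_mul]
    · have hk := key_lemma A hA m hmin x hx a haA
      have h1 : φ (a * x * a⁻¹ * x⁻¹) = 1 := (QuotientGroup.eq_one_iff _).mpr hk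
      rw [map_mul, map_mul, map_mul, map_inv, map_inv] at h1
      have h2 : φ a * φ x * (φ a)⁻¹ = φ x := mul_inv_eq_one.mp h1
      exact mul_inv_eq_iff_eq_mul.mp h2
  -- commutator calculus
  have hAW : ⁅A, W⁆ ≤ Z := by
    rw [Subgroup.commutator_le]
    intro a haA g hg
    rw [commutatorElement_def, ← QuotientGroup.eq_one_iff (N := Z)]
    have h1 := (hmemW g).mp hg a haA
    change φ (a * g * a⁻¹ * g⁻¹) = 1
    rw [map_mul, map_mul, map_mul, map_inv, map_inv, h1]
    group
  have hZW : ∀ T : Subgroup G, T ≤ Z → ⁅T, W⁆ = ⊥ := by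
    intro T hT
    rw [Subgroup.commutator_eq_bot_iff_le_centralizer]
    exact hT.trans (Subgroup.center_le_centralizer _)
  have h1 : ⁅⁅A, W⁆, W⁆ = ⊥ := hZW _ hAW
  have h2 : ⁅⁅W, A⁆, W⁆ = ⊥ := by rw [Subgroup.commutator_comm W A]; exact h1
  have h3 : ⁅⁅W, W⁆, A⁆ = ⊥ := Subgroup.commutator_commutator_eq_bot_of_rotate h2 h1
  have h4 : ⁅W, W⁆ ≤ A := by
    rw [Subgroup.commutator_eq_bot_iff_le_centralizer, hCA] at h3
    exact h3
  have h5 : ⁅⁅W, W⁆, W⁆ ≤ Z := (Subgroup.commutator_mono h4 le_rfl).trans hAW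
  -- conclusion
  rw [eq_top_iff]
  intro x _
  rw [Subgroup.mem_upperCentralSeries_succ_iff]
  intro y
  rw [Subgroup.mem_upperCentralSeries_succ_iff]
  intro z
  rw [Subgroup.upperCentralSeries_one, Subgroup.mem_center_iff]
  intro w
  apply Subtype.ext
  have hx : (x : G) ∈ W := hMW x.2
  have hy : (y : G) ∈ W := hMW y.2
  have hz : (z : G) ∈ W := hMW z.2
  have h6 :=
    h5 (Subgroup.commutator_mem_commutator (Subgroup.commutator_mem_commutator hx hy) hz)
  have h7 := Subgroup.mem_center_iff.mp h6 (w : G)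
  exact h7

theorem result {G : Type*} [Group G] [Finite G]
    (A : Subgroup G) [A.Normal] (hA : IsMulCommutative A) (hCA : Subgroup.centralizer (A : Set G) = A)
    (m : ℕ) (hm1 : 1 < m) (hm : ∃ x : G, (Subgroup.centralizer ({x} : Set G)).index = m) (hmin : ∀ x : G, 1 < (Subgroup.centralizer ({x} : Set G)).index → m ≤ (Subgroup.centralizer ({x} : Set G)).index) :
    Subgroup.upperCentralSeries ↥(Subgroup.closure {x : G | (Subgroup.centralizer ({x} : Set G)).index = 1 ∨ (Subgroup.centralizer ({x} : Set G)).index = m}) 3 = ⊤ :=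
  class_le_three A hA hCA m hmin

end Cfsg.Agent.S4163
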