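-- Statement S4169: a p-group with class sizes {1, m} has nilpotency class at most 3 (Ishikawa),
-- via Isaacs' argument (see S4163) and a self-centralizing normal abelian subgroup.
import Cfsg.Statements.S4169
import Cfsg.Agent.S4163

set_option autoImplicit false
open Cfsg

namespace Cfsg.Agent.S4169

/-- In a finite `p`-group a nontrivial normal subgroup contains a nontrivial central element. -/
theorem exists_central_of_normal {P : Type*} [Group P] [Finite P] {p : ℕ} [Fact p.Prime]
    (hP : IsPGroup p P) (N : Subgroup P) [hN : N.Normal] (hne : N ≠ ⊥) :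
    ∃ z ∈ N, z ≠ 1 ∧ z ∈ Subgroup.center P := by
  have hP' : IsPGroup p (ConjAct P) := hP
  have hNp : IsPGroup p N := hP.to_subgroup N
  have hdvd : p ∣ Nat.card N := by
    rcases hNp.card_eq_or_dvd with h | h
    · exact absurd (Subgroup.card_eq_one.mp h) hne
    · exact h
  have h1 : (1 : N) ∈ MulAction.fixedPoints (ConjAct P) N := fun g => smul_one g
  obtain ⟨b, hb, hb1⟩ := hP'.exists_fixed_point_of_prime_dvd_card_of_fixed_point (α := N) hdvd h1
  refine ⟨(b : P), b.2, ?_, ?_⟩
  · intro h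
    exact hb1 (Subtype.ext h.symm)
  · rw [Subgroup.mem_center_iff]
    intro g
    have h2 : ((ConjAct.toConjAct g • b : N) : P) = (b : P) := by rw [hb (ConjAct.toConjAct g)]
    rw [ConjAct.Subgroup.val_conj_smul, ConjAct.smul_def, ConjAct.ofConjAct_toConjAct] at h2
    calc g * (b : P) = (g * b * g⁻¹) * g := by group
      _ = b * g := by rw [h2]

/-- A finite `p`-group has a normal abelian subgroup equal to its own centralizer. -/
theorem exists_self_centralizing {P : Type*} [Group P] [Finite P] {p : ℕ} [Fact p.Prime]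
    (hP : IsPGroup p P) :
    ∃ A : Subgroup P, A.Normal ∧ IsMulCommutative A ∧ Subgroup.centralizer (A : Set P) = A := by
  classical
  have h0 : (⊥ : Subgroup P).Normal ∧ IsMulCommutative (⊥ : Subgroup P) :=
    ⟨inferInstance, ⟨⟨fun a b => Subsingleton.elim _ _⟩⟩⟩
  obtain ⟨A, -, hAmax⟩ := Finite.exists_le_maximal
    (p := fun B : Subgroup P => B.Normal ∧ IsMulCommutative B) (a := ⊥) h0
  obtain ⟨hAn, hA⟩ := hAmax.prop
  refine ⟨A, hAn, hA, ?_⟩
  have hAC : A ≤ Subgroup.centralizer (A : Set P) := by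
    intro x hx
    rw [Subgroup.mem_centralizer_iff]
    intro y hy
    exact congrArg Subtype.val (mul_comm' (⟨y, hy⟩ : A) ⟨x, hx⟩)
  by_contra hne
  set C := Subgroup.centralizer (A : Set P) with hC
  have hCn : C.Normal := Subgroup.normal_centralizer
  set φ := QuotientGroup.mk' A with hφ
  have hφs : Function.Surjective φ := QuotientGroup.mk'_surjective A
  have hNn : (C.map φ).Normal := hCn.map φ hφs
  have hNne : C.map φ ≠ ⊥ := by
    intro hbot
    apply hne
    apply le_antisymm _ hAC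
    intro c hc
    have : φ c ∈ C.map φ := Subgroup.mem_map_of_mem φ hc
    rw [hbot, Subgroup.mem_bot] at this
    exact (QuotientGroup.eq_one_iff c).mp this
  have hQ : IsPGroup p (P ⧸ A) := hP.to_quotient A
  obtain ⟨z, hzN, hz1, hzc⟩ := exists_central_of_normal hQ (C.map φ) hNne
  obtain ⟨c, hcC, rfl⟩ := hzN
  have hcA : c ∉ A := fun h => hz1 ((QuotientGroup.eq_one_iff c).mpr h)
  -- the bigger subgroup
  set B : Subgroup P := (Subgroup.zpowers (φ c)).comap φ with hB
  have hBn : B.Normal := by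
    have : (Subgroup.zpowers (φ c)).Normal := by
      refine ⟨fun n hn g => ?_⟩
      obtain ⟨k, rfl⟩ := Subgroup.mem_zpowers_iff.mp hn
      have hk : (φ c) ^ k ∈ Subgroup.center (P ⧸ A) := Subgroup.zpow_mem _ hzc k
      have := Subgroup.mem_center_iff.mp hk g
      rw [this, mul_inv_cancel_right]
      exact hn
    exact this.comap φ
  have hmemB : ∀ x ∈ B, ∃ k : ℤ, ∃ a ∈ A, x = c ^ k * a := by
    intro x hx
    rw [hB, Subgroup.mem_comap] at hx
    obtain ⟨k, hk⟩ := Subgroup.mem_zpowers_iff.mp hx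
    refine ⟨k, (c ^ k)⁻¹ * x, ?_, by group⟩
    rw [← QuotientGroup.eq_one_iff (N := A)]
    change φ ((c ^ k)⁻¹ * x) = 1
    rw [map_mul, map_inv, map_zpow, hk]
    group
  have hcomm : ∀ a ∈ A, a * c = c * a := fun a ha => (Subgroup.mem_centralizer_iff.mp hcC a ha)
  have hcommk : ∀ (k : ℤ), ∀ a ∈ A, a * c ^ k = c ^ k * a := by
    intro k a ha
    exact ((Commute.zpow_right (hcomm a ha) k) : a * c ^ k = c ^ k * a)
  have hBc : IsMulCommutative B := by
    refine ⟨⟨fun x y => ?_⟩⟩
    apply Subtype.ext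
    obtain ⟨i, a, ha, hx⟩ := hmemB x x.2
    obtain ⟨j, b, hb, hy⟩ := hmemB y y.2
    change (x : P) * (y : P) = (y : P) * (x : P)
    rw [hx, hy]
    have hab : a * b = b * a := congrArg Subtype.val (mul_comm' (⟨a, ha⟩ : A) ⟨b, hb⟩)
    calc c ^ i * a * (c ^ j * b) = c ^ i * (a * c ^ j) * b := by group
      _ = c ^ i * (c ^ j * a) * b := by rw [hcommk j a ha]
      _ = c ^ i * c ^ j * (a * b) := by group
      _ = c ^ j * c ^ i * (b * a) := by rw [hab, (Commute.zpow_zpow_self c i j).eq]
      _ = c ^ j * (c ^ i * b) * a := by group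
      _ = c ^ j * (b * c ^ i) * a := by rw [hcommk i b hb]
      _ = c ^ j * b * (c ^ i * a) := by group
  have hAB : A ≤ B := by
    intro a ha
    rw [hB, Subgroup.mem_comap]
    have : φ a = 1 := (QuotientGroup.eq_one_iff a).mpr ha
    rw [this]
    exact Subgroup.one_mem _
  have hcB : c ∈ B := by
    rw [hB, Subgroup.mem_comap]
    exact Subgroup.mem_zpowers _
  have hBA : B ≤ A := hAmax.le_of_ge ⟨hBn, hBc⟩ hAB
  exact hcA (hBA hcB)

/-- Let P be a finite p-group whose conjugacy classes have exactly two sizes (1 and one other value). Then P has nilpotency class at most 3. -/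
theorem result {P : Type*} [Group P] [Finite P] {p : ℕ} [Fact p.Prime] (hP : IsPGroup p P)
    (m : ℕ) (hm : 1 < m) (h : ∀ x : P, (Subgroup.centralizer ({x} : Set P)).index = 1 ∨ (Subgroup.centralizer ({x} : Set P)).index = m) :
    upperCentralSeries P 3 = ⊤ := by
  classical
  obtain ⟨A, hAn, hA, hCA⟩ := exists_self_centralizing hP
  have hmin : ∀ y : P, 1 < (Subgroup.centralizer ({y} : Set P)).index →
      m ≤ (Subgroup.centralizer ({y} : Set P)).index := by
    intro y hy
    rcases h y with h1 | h1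
    · omega
    · omega
  set Z := Subgroup.center P with hZ
  have key : ∀ a ∈ A, ∀ x : P, a * x * a⁻¹ * x⁻¹ ∈ Z := by
    intro a ha x
    rcases h x with hx | hx
    · rw [Subgroup.index_eq_one, Subgroup.centralizer_eq_top_iff_subset,
        Set.singleton_subset_iff] at hx
      have h1 := Subgroup.mem_center_iff.mp hx a
      have : a * x * a⁻¹ * x⁻¹ = 1 := by
        rw [h1]; group
      rw [this]
      exact Subgroup.one_mem _
    · exact Cfsg.Agent.S4163.key_lemma A hA m hmin x hx a ha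
  have hAW : ⁅A, (⊤ : Subgroup P)⁆ ≤ Z := by
    rw [Subgroup.commutator_le]
    intro a haA g _
    rw [commutatorElement_def]
    exact key a haA g
  have hZW : ∀ T : Subgroup P, T ≤ Z → ⁅T, (⊤ : Subgroup P)⁆ = ⊥ := by
    intro T hT
    rw [Subgroup.commutator_eq_bot_iff_le_centralizer]
    exact hT.trans (Subgroup.center_le_centralizer _)
  have h1 : ⁅⁅A, (⊤ : Subgroup P)⁆, (⊤ : Subgroup P)⁆ = ⊥ := hZW _ hAW
  have h2 : ⁅⁅(⊤ : Subgroup P), A⁆, (⊤ : Subgroup P)⁆ = ⊥ := by
    rw [Subgroup.commutator_comm ⊤ A]; exact h1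
  have h3 : ⁅⁅(⊤ : Subgroup P), (⊤ : Subgroup P)⁆, A⁆ = ⊥ :=
    Subgroup.commutator_commutator_eq_bot_of_rotate h2 h1
  have h4 : ⁅(⊤ : Subgroup P), (⊤ : Subgroup P)⁆ ≤ A := by
    rw [Subgroup.commutator_eq_bot_iff_le_centralizer, hCA] at h3
    exact h3
  have h5 : ⁅⁅(⊤ : Subgroup P), (⊤ : Subgroup P)⁆, (⊤ : Subgroup P)⁆ ≤ Z :=
    (Subgroup.commutator_mono h4 le_rfl).trans hAW
  change Subgroup.upperCentralSeries P 3 = ⊤
  rw [eq_top_iff]
  intro x _
  rw [Subgroup.mem_upperCentralSeries_succ_iff]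
  intro y
  rw [Subgroup.mem_upperCentralSeries_succ_iff]
  intro z
  rw [Subgroup.upperCentralSeries_one]
  exact h5 (Subgroup.commutator_mem_commutator
    (Subgroup.commutator_mem_commutator (Subgroup.mem_top x) (Subgroup.mem_top y)) (Subgroup.mem_top z))

end Cfsg.Agent.S4169
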