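import Cfsg.Statements.S1190
import Cfsg.Agent.Helper20.QD3
import Cfsg.Agent.Helper20.SylowConj

set_option autoImplicit false
open Cfsg

namespace Cfsg.Agent.S1190

open Cfsg.Agent.Helper20

variable {S : Type*} [Group S] {k : ℕ} {x y : S}

theorem conj_kleinFour [Finite S] (h : QDData S k x y) (T₁ T₂ : Subgroup S) (h₁ : IsKleinFour T₁)
    (h₂ : IsKleinFour T₂) : ∃ s : S, T₁.map (MulAut.conj s).toMonoidHom = T₂ := by
  obtain ⟨hz₁, c₁, hc₁, hall₁⟩ := h.kleinFour_structure T₁ h₁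
  obtain ⟨hz₂, c₂, hc₂, hall₂⟩ := h.kleinFour_structure T₂ h₂
  set s := x ^ ((c₂ - c₁) * (1 + 2 * 2 ^ k + 4 * 2 ^ k * 2 ^ k)) with hs
  refine ⟨s, ?_⟩
  have hle : T₁.map (MulAut.conj s).toMonoidHom ≤ T₂ := by
    rintro _ ⟨t, ht, rfl⟩
    show s * t * s⁻¹ ∈ T₂
    have hc₂' : x ^ (2 * c₂ + 4 * 2 ^ k) * y ∈ T₂ := by
      rw [← QDData.z_mul_xpow_y]; exact T₂.mul_mem hz₂ hc₂
    rcases hall₁ t ht with rfl | rfl | rfl | rfl
    · rw [mul_one, mul_inv_cancel]; exact T₂.one_mem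
    · rw [h.z_central s, mul_assoc, mul_inv_cancel, mul_one]; exact hz₂
    · rw [hs, h.conj_shift]
      have : 2 * c₁ + 2 * (c₂ - c₁) = 2 * c₂ := by ring
      rw [this]; exact hc₂
    · rw [hs, h.conj_shift]
      have : 2 * c₁ + 4 * 2 ^ k + 2 * (c₂ - c₁) = 2 * c₂ + 4 * 2 ^ k := by ring
      rw [this]; exact hc₂'
  apply Subgroup.eq_of_le_of_card_ge hle
  rw [Subgroup.card_map_of_injective (MulAut.conj s).injective, h₁.card_four, h₂.card_four]

theorem centralizer_kleinFour (h : QDData S k x y) (T : Subgroup S) (hT : IsKleinFour T) :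
    Subgroup.centralizer (T : Set S) = T := by
  obtain ⟨hz, c, hc, hall⟩ := h.kleinFour_structure T hT
  have hc' : x ^ (2 * c + 4 * 2 ^ k) * y ∈ T := by
    rw [← QDData.z_mul_xpow_y]; exact T.mul_mem hz hc
  apply le_antisymm
  · intro s hs
    rw [Subgroup.mem_centralizer_iff] at hs
    have h1 := hs _ hc
    rcases h.cases s with ⟨i, rfl⟩ | ⟨i, rfl⟩
    · have h2 := (h.xpow_comm_xpow_y_iff i (2 * c)).mp h1.symm
      obtain ⟨d, rfl⟩ := h2
      rcases Int.even_or_odd' d with ⟨e, rfl | rfl⟩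
      · have : x ^ (4 * 2 ^ k * (2 * e) : ℤ) = 1 := by
          rw [h.xpow_eq_one_iff]; exact ⟨e, by ring⟩
        rw [this]; exact T.one_mem
      · have : x ^ (4 * 2 ^ k * (2 * e + 1) : ℤ) = x ^ (4 * 2 ^ k : ℤ) := by
          rw [h.xpow_eq_iff]; exact ⟨e, by ring⟩
        rw [this]; exact hz
    · have h2 := (h.xpow_y_comm_xpow_y_iff i (2 * c)).mp h1.symm
      obtain ⟨d, hd⟩ := h2
      have hi : i = 2 * c + 4 * 2 ^ k * d := by linarith
      rcases Int.even_or_odd' d with ⟨e, rfl | rfl⟩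
      · have : x ^ i * y = x ^ (2 * c) * y := by
          rw [h.xpow_y_eq_iff]; exact ⟨e, by rw [hi]; ring⟩
        rw [this]; exact hc
      · have : x ^ i * y = x ^ (2 * c + 4 * 2 ^ k) * y := by
          rw [h.xpow_y_eq_iff]; exact ⟨e, by rw [hi]; ring⟩
        rw [this]; exact hc'
  · intro s hs
    rw [Subgroup.mem_centralizer_iff]
    intro t ht
    have ht' : t ∈ T := ht
    have hcomm : ∀ u ∈ T, ∀ v ∈ T, u * v = v * u := by
      intro u hu v hv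
      have h1 := kleinFour_sq hT (T.mul_mem hu hv)
      have h2 := kleinFour_sq hT hu
      have h3 := kleinFour_sq hT hv
      calc u * v = (v * v) * (u * v) * (u * u) := by rw [h2, h3, one_mul, mul_one]
        _ = v * ((v * u) * (v * u)) * u := by group
        _ = v * u := by rw [kleinFour_sq hT (T.mul_mem hv hu), mul_one]
    exact hcomm t ht' s hs

theorem relIndex_normalizer_kleinFour (h : QDData S k x y) (T : Subgroup S) (hT : IsKleinFour T) :
    T.relIndex (Subgroup.normalizer (T : Set S)) = 2 := by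
  obtain ⟨hz, c, hc, hall⟩ := h.kleinFour_structure T hT
  have hc' : x ^ (2 * c + 4 * 2 ^ k) * y ∈ T := by
    rw [← QDData.z_mul_xpow_y]; exact T.mul_mem hz hc
  -- membership of x-powers in T
  have hxT : ∀ i : ℤ, x ^ i ∈ T ↔ (4 * 2 ^ k : ℤ) ∣ i := by
    intro i
    constructor
    · intro hi
      rcases hall _ hi with h1 | h1 | h1 | h1
      · rw [h.xpow_eq_one_iff] at h1
        exact Dvd.dvd.trans ⟨2, by ring⟩ h1
      · rw [h.xpow_eq_iff] at h1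
        obtain ⟨d, hd⟩ := h1
        exact ⟨2 * d + 1, by linarith⟩
      · exact absurd h1 (h.xpow_ne_xpow_y _ _)
      · exact absurd h1 (h.xpow_ne_xpow_y _ _)
    · rintro ⟨d, rfl⟩
      rcases Int.even_or_odd' d with ⟨e, rfl | rfl⟩
      · have : x ^ (4 * 2 ^ k * (2 * e) : ℤ) = 1 := by
          rw [h.xpow_eq_one_iff]; exact ⟨e, by ring⟩
        rw [this]; exact T.one_mem
      · have : x ^ (4 * 2 ^ k * (2 * e + 1) : ℤ) = x ^ (4 * 2 ^ k : ℤ) := by
          rw [h.xpow_eq_iff]; exact ⟨e, by ring⟩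
        rw [this]; exact hz
  have hxyT : ∀ i : ℤ, x ^ i * y ∈ T ↔ (4 * 2 ^ k : ℤ) ∣ i - 2 * c := by
    intro i
    constructor
    · intro hi
      rcases hall _ hi with h1 | h1 | h1 | h1
      · exact absurd h1 (h.xpow_y_ne_one _)
      · exact absurd h1.symm (h.xpow_ne_xpow_y _ _)
      · rw [h.xpow_y_eq_iff] at h1
        exact Dvd.dvd.trans ⟨2, by ring⟩ h1
      · rw [h.xpow_y_eq_iff] at h1
        obtain ⟨d, hd⟩ := h1
        exact ⟨2 * d + 1, by linarith⟩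
    · rintro ⟨d, hd⟩
      have hi : i = 2 * c + 4 * 2 ^ k * d := by linarith
      rcases Int.even_or_odd' d with ⟨e, rfl | rfl⟩
      · have : x ^ i * y = x ^ (2 * c) * y := by
          rw [h.xpow_y_eq_iff]; exact ⟨e, by rw [hi]; ring⟩
        rw [this]; exact hc
      · have : x ^ i * y = x ^ (2 * c + 4 * 2 ^ k) * y := by
          rw [h.xpow_y_eq_iff]; exact ⟨e, by rw [hi]; ring⟩
        rw [this]; exact hc'
  -- x^i normalizes T iff 2P ∣ i
  have hnorm_x : ∀ i : ℤ, x ^ i ∈ Subgroup.normalizer (T : Set S) → (2 * 2 ^ k : ℤ) ∣ i := by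
    intro i hi
    rw [Subgroup.mem_normalizer_iff] at hi
    have h1 := (hi _).mp hc
    rw [h.conj_xpow_y_by_xpow, hxyT] at h1
    have h2 : 2 * c + i * (2 - 4 * 2 ^ k) - 2 * c = i * (2 - 4 * 2 ^ k) := by ring
    rw [h2] at h1
    -- 4P ∣ i (2 - 4P) → 4P ∣ 2 i → 2P ∣ i
    obtain ⟨d, hd⟩ := h1
    exact ⟨d + i, by linarith⟩
  have hx2P : x ^ (2 * 2 ^ k : ℤ) ∈ Subgroup.normalizer (T : Set S) := by
    rw [Subgroup.mem_normalizer_iff]
    have hfwd : ∀ t ∈ T, x ^ (2 * 2 ^ k : ℤ) * t * (x ^ (2 * 2 ^ k : ℤ))⁻¹ ∈ T := by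
      intro t ht
      rcases hall t ht with rfl | rfl | rfl | rfl
      · rw [mul_one, mul_inv_cancel]; exact T.one_mem
      · rw [h.z_central, mul_assoc, mul_inv_cancel, mul_one]; exact hz
      · rw [h.conj_xpow_y_by_xpow, hxyT]
        exact ⟨1 - 2 * 2 ^ k, by ring⟩
      · rw [h.conj_xpow_y_by_xpow, hxyT]
        exact ⟨2 - 2 * 2 ^ k, by ring⟩
    intro t
    constructor
    · exact hfwd t
    · intro ht
      -- conjugate back three more times (x^(2P) has order 4 and its square is central)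
      have h1 := hfwd _ ht
      have h2 := hfwd _ h1
      have h3 := hfwd _ h2
      have e : x ^ (2 * 2 ^ k : ℤ) * (x ^ (2 * 2 ^ k : ℤ) * (x ^ (2 * 2 ^ k : ℤ) *
          (x ^ (2 * 2 ^ k : ℤ) * t * (x ^ (2 * 2 ^ k : ℤ))⁻¹) * (x ^ (2 * 2 ^ k : ℤ))⁻¹) *
          (x ^ (2 * 2 ^ k : ℤ))⁻¹) * (x ^ (2 * 2 ^ k : ℤ))⁻¹ = t := by
        have h4 : x ^ (2 * 2 ^ k : ℤ) * x ^ (2 * 2 ^ k : ℤ) * x ^ (2 * 2 ^ k : ℤ) * x ^ (2 * 2 ^ k : ℤ) = 1 := by
          rw [← zpow_add, ← zpow_add, ← zpow_add, h.xpow_eq_one_iff]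
          exact ⟨1, by ring⟩
        calc _ = (x ^ (2 * 2 ^ k : ℤ) * x ^ (2 * 2 ^ k : ℤ) * x ^ (2 * 2 ^ k : ℤ) * x ^ (2 * 2 ^ k : ℤ)) * t *
              (x ^ (2 * 2 ^ k : ℤ) * x ^ (2 * 2 ^ k : ℤ) * x ^ (2 * 2 ^ k : ℤ) * x ^ (2 * 2 ^ k : ℤ))⁻¹ := by group
          _ = t := by rw [h4]; group
      rwa [e] at h3
  rw [Subgroup.relIndex_eq_two_iff]
  refine ⟨x ^ (2 * 2 ^ k : ℤ), hx2P, ?_⟩
  intro b hb
  have hTN : T ≤ Subgroup.normalizer (T : Set S) := Subgroup.le_normalizer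
  rcases h.cases b with ⟨i, rfl⟩ | ⟨i, rfl⟩
  · obtain ⟨d, rfl⟩ := hnorm_x i hb
    rw [← zpow_add, hxT, hxT]
    rcases Int.even_or_odd' d with ⟨e, rfl | rfl⟩
    · right
      refine ⟨⟨e, by ring⟩, ?_⟩
      rintro ⟨f, hf⟩
      have : (2 * 2 ^ k : ℤ) * (2 * e + 1) = 2 * 2 ^ k * (2 * f) := by linarith
      have := mul_left_cancel₀ (by positivity : (2 * 2 ^ k : ℤ) ≠ 0) this
      omega
    · left
      refine ⟨⟨e + 1, by ring⟩, ?_⟩
      rintro ⟨f, hf⟩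
      have : (2 * 2 ^ k : ℤ) * (2 * e + 1) = 2 * 2 ^ k * (2 * f) := by linarith
      have := mul_left_cancel₀ (by positivity : (2 * 2 ^ k : ℤ) ≠ 0) this
      omega
  · -- x^i y = x^(i - 2c) * (x^(2c) y), so x^(i-2c) normalizes T
    have h1 : x ^ (i - 2 * c) ∈ Subgroup.normalizer (T : Set S) := by
      have : x ^ (i - 2 * c) = (x ^ i * y) * (x ^ (2 * c) * y)⁻¹ := by
        rw [h.xpow_y_inv, h.xpow_y_mul_xpow_y, h.xpow_eq_iff]
        exact ⟨c * (4 * 2 ^ k - 2), by ring⟩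
      rw [this]
      exact Subgroup.mul_mem _ hb (Subgroup.inv_mem _ (hTN hc))
    obtain ⟨d, hd⟩ := hnorm_x _ h1
    have hi : i = 2 * c + 2 * 2 ^ k * d := by linarith
    rw [h.xpow_mul_y_mul_xpow, hxyT, hxyT]
    rcases Int.even_or_odd' d with ⟨e, rfl | rfl⟩
    · right
      refine ⟨⟨e, by rw [hi]; ring⟩, ?_⟩
      rintro ⟨f, hf⟩
      have : (2 * 2 ^ k : ℤ) * (2 * (e + 2 * 2 ^ k) - 1) = 2 * 2 ^ k * (2 * f) := by
        rw [hi] at hf; linarith
      have := mul_left_cancel₀ (by positivity : (2 * 2 ^ k : ℤ) ≠ 0) this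
      omega
    · left
      refine ⟨⟨e + 2 * 2 ^ k, by rw [hi]; ring⟩, ?_⟩
      rintro ⟨f, hf⟩
      have : (2 * 2 ^ k : ℤ) * (2 * e + 1) = 2 * 2 ^ k * (2 * f) := by
        rw [hi] at hf; linarith
      have := mul_left_cancel₀ (by positivity : (2 * 2 ^ k : ℤ) ≠ 0) this
      omega

/-- In a quasi-dihedral 2-group S, any two Klein four-subgroups are conjugate, and every Klein four-subgroup T satisfies C_S(T) = T and |N_S(T) : T| = 2. -/
theorem result {S : Type*} [Group S] [Finite S] (hS : Cfsg.IsQuasiDihedral S) : (∀ T₁ T₂ : Subgroup S, IsKleinFour T₁ → IsKleinFour T₂ → ∃ s : S, T₁.map (MulAut.conj s).toMonoidHom = T₂) ∧ (∀ T : Subgroup S, IsKleinFour T → Subgroup.centralizer (T : Set S) = T ∧ T.relIndex (Subgroup.normalizer (T : Set S)) = 2) := by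
  obtain ⟨k, x, y, h⟩ := exists_qdData hS
  exact ⟨fun T₁ T₂ h₁ h₂ => conj_kleinFour h T₁ T₂ h₁ h₂,
    fun T hT => ⟨centralizer_kleinFour h T hT, relIndex_normalizer_kleinFour h T hT⟩⟩

end Cfsg.Agent.S1190
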