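import Cfsg.Statements.S1191
import Cfsg.Agent.Helper20.QD4
import Mathlib.GroupTheory.SpecificGroups.Quaternion

set_option autoImplicit false
open Cfsg

namespace Cfsg.Agent.S1191

open Cfsg.Agent.Helper20

variable {S : Type*} [Group S] {k : ℕ} {x y : S}

theorem pow_four_of_mem {Q : Subgroup S} (e : Q ≃* QuaternionGroup 2) {q : S} (hq : q ∈ Q) :
    q ^ 4 = 1 := by
  have h1 : (e ⟨q, hq⟩) ^ 4 = 1 := by
    have := Monoid.pow_exponent_eq_one (e ⟨q, hq⟩)
    rw [QuaternionGroup.exponent] at this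
    simpa using this
  have h2 : (⟨q, hq⟩ : Q) ^ 4 = 1 := by
    apply e.injective
    rw [map_pow, h1, map_one]
  have := congrArg Subtype.val h2
  simpa using this

theorem card_of_iso {Q : Subgroup S} (e : Q ≃* QuaternionGroup 2) : Nat.card Q = 8 := by
  rw [Nat.card_congr e.toEquiv, Nat.card_eq_fintype_card, QuaternionGroup.card]

/-- A quaternion subgroup of order 8 contains `x^(2P)` and some `x^i₀ y`. -/
theorem quat_gens (h : QDData S k x y) (Q : Subgroup S) (e : Q ≃* QuaternionGroup 2) :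
    x ^ (2 * 2 ^ k : ℤ) ∈ Q ∧ ∃ i₀ : ℤ, x ^ i₀ * y ∈ Q := by
  set A : Q := e.symm (QuaternionGroup.a 1) with hA
  set B : Q := e.symm (QuaternionGroup.xa 0) with hB
  have hoA : orderOf (A : S) = 4 := by
    rw [Subgroup.orderOf_coe, hA, MulEquiv.orderOf_eq, QuaternionGroup.orderOf_a_one]
  have hoB : orderOf (B : S) = 4 := by
    rw [Subgroup.orderOf_coe, hB, MulEquiv.orderOf_eq, QuaternionGroup.orderOf_xa]
  have hoAB : orderOf ((A * B : Q) : S) = 4 := by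
    rw [Subgroup.orderOf_coe, hA, hB, ← map_mul, MulEquiv.orderOf_eq, QuaternionGroup.a_mul_xa,
      QuaternionGroup.orderOf_xa]
  have hneg : ∀ q : S, q ∈ Q → q = x ^ (-(2 * 2 ^ k) : ℤ) → x ^ (2 * 2 ^ k : ℤ) ∈ Q := by
    intro q hq he
    have : x ^ (2 * 2 ^ k : ℤ) = q⁻¹ := by rw [he, ← zpow_neg, neg_neg]
    rw [this]; exact Q.inv_mem hq
  rcases (h.order_four_iff _).mp hoA with h1 | h1 | ⟨c, h1⟩
  · -- A = x^(2P)
    have hx : x ^ (2 * 2 ^ k : ℤ) ∈ Q := by rw [← h1]; exact A.2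
    refine ⟨hx, ?_⟩
    rcases (h.order_four_iff _).mp hoAB with h2 | h2 | ⟨d, h2⟩
    · -- A * B = x^(2P) = A → B = 1, impossible
      exfalso
      have : (B : S) = 1 := by
        have h3 : (A : S) * (B : S) = (A : S) := by
          rw [← Subgroup.coe_mul, h2, h1]
        exact mul_eq_left.mp h3
      rw [this, orderOf_one] at hoB
      omega
    · -- then B = x^(-4P) which is not of order four... B = A⁻¹ * x^(-2P)
      exfalso
      have h3 : (A : S) * (B : S) = x ^ (-(2 * 2 ^ k) : ℤ) := h2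
      rw [h1] at h3
      have h4 : (B : S) = x ^ (-(4 * 2 ^ k) : ℤ) := by
        have : (B : S) = (x ^ (2 * 2 ^ k : ℤ))⁻¹ * x ^ (-(2 * 2 ^ k) : ℤ) := by
          rw [← h3]; group
        rw [this, ← zpow_neg, ← zpow_add]
        congr 1; ring
      have h5 : (B : S) * (B : S) = 1 := by
        rw [h4, ← zpow_add, h.xpow_eq_one_iff]
        exact ⟨-1, by ring⟩
      have := (orderOf_eq_four_iff (B : S)).mp hoB
      exact this.2 h5
    · refine ⟨2 * d + 1 - 2 * 2 ^ k, ?_⟩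
      have h3 : (B : S) = x ^ (2 * d + 1 - 2 * 2 ^ k) * y := by
        have h4 : (A : S) * (B : S) = x ^ (2 * d + 1) * y := h2
        have : (B : S) = (A : S)⁻¹ * ((A : S) * (B : S)) := by group
        rw [this, h4, h1, ← zpow_neg, QDData.xpow_mul_xpow_y]
        congr 2; ring
      rw [← h3]; exact B.2
  · -- A = x^(-2P)
    have hx : x ^ (2 * 2 ^ k : ℤ) ∈ Q := hneg _ A.2 h1
    refine ⟨hx, ?_⟩
    rcases (h.order_four_iff _).mp hoB with h2 | h2 | ⟨d, h2⟩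
    · -- B = x^(2P): then A*B = 1, contradiction
      exfalso
      have : ((A * B : Q) : S) = 1 := by
        show (A : S) * (B : S) = 1
        rw [h1, h2, ← zpow_add]
        have : -(2 * 2 ^ k) + 2 * 2 ^ k = (0 : ℤ) := by ring
        rw [this, zpow_zero]
      rw [this, orderOf_one] at hoAB
      omega
    · -- B = A: then A * B has order 2
      exfalso
      have h5 : ((A * B : Q) : S) * ((A * B : Q) : S) = 1 := by
        show ((A : S) * (B : S)) * ((A : S) * (B : S)) = 1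
        rw [h1, h2, ← zpow_add, ← zpow_add, h.xpow_eq_one_iff]
        exact ⟨-1, by ring⟩
      have := (orderOf_eq_four_iff ((A * B : Q) : S)).mp hoAB
      exact this.2 h5
    · exact ⟨2 * d + 1, by rw [← h2]; exact B.2⟩
  · -- A = x^(2c+1) y
    have hA' : x ^ (2 * c + 1) * y ∈ Q := by rw [← h1]; exact A.2
    refine ⟨?_, 2 * c + 1, hA'⟩
    rcases (h.order_four_iff _).mp hoB with h2 | h2 | ⟨d, h2⟩
    · rw [← h2]; exact B.2
    · exact hneg _ B.2 h2
    · -- A * B ∈ ⟨x⟩ of order four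
      rcases (h.order_four_iff _).mp hoAB with h3 | h3 | ⟨f, h3⟩
      · rw [← h3]; exact (A * B).2
      · exact hneg _ (A * B).2 h3
      · exfalso
        have h4 : (A : S) * (B : S) = x ^ (2 * f + 1) * y := h3
        rw [h1, h2, h.xpow_y_mul_xpow_y] at h4
        exact h.xpow_ne_xpow_y _ _ h4

/-- membership in a quaternion subgroup of order 8 -/
theorem quat_structure (h : QDData S k x y) (Q : Subgroup S) (e : Q ≃* QuaternionGroup 2) :
    ∃ i₀ : ℤ, (∀ i : ℤ, x ^ i ∈ Q ↔ (2 * 2 ^ k : ℤ) ∣ i) ∧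
      (∀ i : ℤ, x ^ i * y ∈ Q ↔ (2 * 2 ^ k : ℤ) ∣ i - i₀) := by
  obtain ⟨hx, i₀, hi₀⟩ := quat_gens h Q e
  have hxQ : ∀ i : ℤ, x ^ i ∈ Q ↔ (2 * 2 ^ k : ℤ) ∣ i := by
    intro i
    constructor
    · intro hi
      have h4 := pow_four_of_mem e hi
      rw [← zpow_natCast, ← zpow_mul, h.xpow_eq_one_iff] at h4
      obtain ⟨d, hd⟩ := h4
      push_cast at hd
      exact ⟨d, by linarith⟩
    · rintro ⟨d, rfl⟩
      rw [zpow_mul]
      exact Q.zpow_mem hx d
  refine ⟨i₀, hxQ, ?_⟩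
  intro i
  have key : (x ^ i * y) * (x ^ i₀ * y)⁻¹ = x ^ (i - i₀) := by
    rw [h.xpow_y_inv, h.xpow_y_mul_xpow_y, h.xpow_eq_iff]
    exact ⟨i₀ * (1 - 2 * 2 ^ k), by ring⟩
  constructor
  · intro hi
    rw [← hxQ, ← key]
    exact Q.mul_mem hi (Q.inv_mem hi₀)
  · intro hi
    have h1 : x ^ (i - i₀) ∈ Q := (hxQ _).mpr hi
    have : x ^ i * y = x ^ (i - i₀) * (x ^ i₀ * y) := by
      rw [QDData.xpow_mul_xpow_y]; congr 2; ring
    rw [this]
    exact Q.mul_mem h1 hi₀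

theorem conj_quat [Finite S] (h : QDData S k x y) (Q₁ Q₂ : Subgroup S) (e₁ : Q₁ ≃* QuaternionGroup 2)
    (e₂ : Q₂ ≃* QuaternionGroup 2) : ∃ s : S, Q₁.map (MulAut.conj s).toMonoidHom = Q₂ := by
  obtain ⟨i₁, hx₁, hy₁⟩ := quat_structure h Q₁ e₁
  obtain ⟨i₂, hx₂, hy₂⟩ := quat_structure h Q₂ e₂
  -- i₁, i₂ are both odd: x^(i) y ∈ Q has order four
  have hodd : ∀ (Q : Subgroup S) (e : Q ≃* QuaternionGroup 2) (i : ℤ), x ^ i * y ∈ Q → ¬ (2 : ℤ) ∣ i := by
    intro Q e i hi hdvd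
    -- an involution outside ⟨x⟩ together with z would give two involutions in Q
    obtain ⟨j₀, hxQ, hyQ⟩ := quat_structure h Q e
    have hz : x ^ (4 * 2 ^ k : ℤ) ∈ Q := (hxQ _).mpr ⟨2, by ring⟩
    have ho1 : orderOf (x ^ i * y) = 2 := by
      obtain ⟨c, rfl⟩ := hdvd
      exact (h.involution_iff _).mpr (Or.inr ⟨c, rfl⟩)
    have ho2 : orderOf (x ^ (4 * 2 ^ k : ℤ)) = 2 := (h.involution_iff _).mpr (Or.inl rfl)
    -- in the quaternion group the only involution is a 2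
    have huniq : ∀ q : QuaternionGroup 2, orderOf q = 2 → q = QuaternionGroup.a 2 := by
      intro q hq
      cases q with
      | a j =>
        have h2 : (QuaternionGroup.a j : QuaternionGroup 2) ^ 2 = 1 := by
          have := pow_orderOf_eq_one (QuaternionGroup.a j : QuaternionGroup 2)
          rwa [hq] at this
        have h1 : (QuaternionGroup.a j : QuaternionGroup 2) ≠ 1 := by
          intro h1; rw [h1, orderOf_one] at hq; omega
        rw [pow_two, QuaternionGroup.a_mul_a, QuaternionGroup.one_def] at h2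
        rw [QuaternionGroup.one_def] at h1
        have h3 : j + j = 0 := QuaternionGroup.a.inj h2
        have h4 : j ≠ 0 := fun h0 => h1 (by rw [h0])
        congr 1
        have key : ∀ j : ZMod (2 * 2), j + j = 0 → j ≠ 0 → j = 2 := by decide
        exact key j h3 h4
      | xa j =>
        rw [QuaternionGroup.orderOf_xa] at hq
        omega
    have e1 := huniq (e ⟨_, hi⟩) (by rw [MulEquiv.orderOf_eq, ← Subgroup.orderOf_coe]; exact ho1)
    have e2 := huniq (e ⟨_, hz⟩) (by rw [MulEquiv.orderOf_eq, ← Subgroup.orderOf_coe]; exact ho2)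
    have := e.injective (e1.trans e2.symm)
    have := congrArg Subtype.val this
    exact h.xpow_ne_xpow_y _ _ this.symm
  have ho₁ : ¬ (2 : ℤ) ∣ i₁ := hodd Q₁ e₁ i₁ ((hy₁ i₁).mpr ⟨0, by ring⟩)
  have ho₂ : ¬ (2 : ℤ) ∣ i₂ := hodd Q₂ e₂ i₂ ((hy₂ i₂).mpr ⟨0, by ring⟩)
  obtain ⟨c, hc⟩ : (2 : ℤ) ∣ i₂ - i₁ := by omega
  set s := x ^ (c * (1 + 2 * 2 ^ k + 4 * 2 ^ k * 2 ^ k)) with hs
  refine ⟨s, ?_⟩
  have hle : Q₁.map (MulAut.conj s).toMonoidHom ≤ Q₂ := by
    rintro _ ⟨t, ht, rfl⟩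
    show s * t * s⁻¹ ∈ Q₂
    rcases h.cases t with ⟨i, rfl⟩ | ⟨i, rfl⟩
    · have : s * x ^ i * s⁻¹ = x ^ i := by
        rw [hs, ← zpow_neg, ← zpow_add, ← zpow_add]; congr 1; ring
      rw [this, hx₂]
      exact (hx₁ i).mp ht
    · rw [hs, h.conj_shift, hy₂]
      obtain ⟨d, hd⟩ := (hy₁ i).mp ht
      exact ⟨d, by linarith⟩
  apply Subgroup.eq_of_le_of_card_ge hle
  rw [Subgroup.card_map_of_injective (MulAut.conj s).injective, card_of_iso e₁, card_of_iso e₂]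

theorem centralizer_quat (h : QDData S k x y) (Q : Subgroup S) (e : Q ≃* QuaternionGroup 2) :
    Subgroup.centralizer (Q : Set S) = (Subgroup.center Q).map Q.subtype := by
  obtain ⟨i₀, hxQ, hyQ⟩ := quat_structure h Q e
  have hx2P : x ^ (2 * 2 ^ k : ℤ) ∈ Q := (hxQ _).mpr ⟨1, by ring⟩
  have hy₀ : x ^ i₀ * y ∈ Q := (hyQ _).mpr ⟨0, by ring⟩
  apply le_antisymm
  · intro s hs
    rw [Subgroup.mem_centralizer_iff] at hs
    rcases h.cases s with ⟨i, rfl⟩ | ⟨i, rfl⟩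
    · have h1 := hs _ hy₀
      obtain ⟨d, rfl⟩ := (h.xpow_comm_xpow_y_iff i i₀).mp h1.symm
      have hmem : x ^ (4 * 2 ^ k * d : ℤ) ∈ Q := (hxQ _).mpr ⟨2 * d, by ring⟩
      refine ⟨⟨_, hmem⟩, ?_, rfl⟩
      rw [SetLike.mem_coe, Subgroup.mem_center_iff]
      intro g
      apply Subtype.ext
      show (g : S) * x ^ (4 * 2 ^ k * d : ℤ) = x ^ (4 * 2 ^ k * d : ℤ) * (g : S)
      rw [zpow_mul]
      exact ((Commute.zpow_right (show Commute (g : S) (x ^ (4 * 2 ^ k : ℤ)) from h.z_central g)) d)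
    · exfalso
      have h1 := hs _ hx2P
      obtain ⟨d, hd⟩ := (h.xpow_comm_xpow_y_iff (2 * 2 ^ k) i).mp h1
      have h2 : (2 * 2 ^ k : ℤ) * 1 = 2 * 2 ^ k * (2 * d) := by linarith
      have := mul_left_cancel₀ (by positivity : (2 * 2 ^ k : ℤ) ≠ 0) h2
      omega
  · rintro _ ⟨q, hq, rfl⟩
    rw [SetLike.mem_coe, Subgroup.mem_center_iff] at hq
    rw [Subgroup.mem_centralizer_iff]
    intro g hg
    have := hq ⟨g, hg⟩
    exact congrArg Subtype.val this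

theorem relIndex_normalizer_quat (h : QDData S k x y) (Q : Subgroup S) (e : Q ≃* QuaternionGroup 2) :
    Q.relIndex (Subgroup.normalizer (Q : Set S)) = 2 := by
  obtain ⟨i₀, hxQ, hyQ⟩ := quat_structure h Q e
  have hy₀ : x ^ i₀ * y ∈ Q := (hyQ _).mpr ⟨0, by ring⟩
  have hQN : Q ≤ Subgroup.normalizer (Q : Set S) := Subgroup.le_normalizer
  -- x^i normalizes Q iff P ∣ i
  have hnorm_x : ∀ i : ℤ, x ^ i ∈ Subgroup.normalizer (Q : Set S) → (2 ^ k : ℤ) ∣ i := by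
    intro i hi
    rw [Subgroup.mem_normalizer_iff] at hi
    have h1 := (hi _).mp hy₀
    rw [h.conj_xpow_y_by_xpow, hyQ] at h1
    obtain ⟨d, hd⟩ := h1
    have h2 : (2 : ℤ) * (i * (1 - 2 * 2 ^ k)) = 2 * (2 ^ k * d) := by linarith
    have h3 := mul_left_cancel₀ (by norm_num : (2 : ℤ) ≠ 0) h2
    exact ⟨d + 2 * i, by linarith⟩
  have hxP : x ^ (2 ^ k : ℤ) ∈ Subgroup.normalizer (Q : Set S) := by
    rw [Subgroup.mem_normalizer_iff]
    intro t
    rcases h.cases t with ⟨i, rfl⟩ | ⟨i, rfl⟩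
    · have : x ^ (2 ^ k : ℤ) * x ^ i * (x ^ (2 ^ k : ℤ))⁻¹ = x ^ i := by
        rw [← zpow_neg, ← zpow_add, ← zpow_add]; congr 1; ring
      rw [this]
    · rw [h.conj_xpow_y_by_xpow, hyQ, hyQ]
      have : i + 2 ^ k * (2 - 4 * 2 ^ k) - i₀ = (i - i₀) + 2 * 2 ^ k * (1 - 2 * 2 ^ k) := by ring
      rw [this]
      constructor
      · intro hd; exact dvd_add hd ⟨1 - 2 * 2 ^ k, rfl⟩
      · intro hd
        have := dvd_sub hd (⟨1 - 2 * 2 ^ k, rfl⟩ : (2 * 2 ^ k : ℤ) ∣ 2 * 2 ^ k * (1 - 2 * 2 ^ k))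
        simpa using this
  rw [Subgroup.relIndex_eq_two_iff]
  refine ⟨x ^ (2 ^ k : ℤ), hxP, ?_⟩
  intro b hb
  rcases h.cases b with ⟨i, rfl⟩ | ⟨i, rfl⟩
  · obtain ⟨d, rfl⟩ := hnorm_x i hb
    rw [← zpow_add, hxQ, hxQ]
    rcases Int.even_or_odd' d with ⟨f, rfl | rfl⟩
    · right
      refine ⟨⟨f, by ring⟩, ?_⟩
      rintro ⟨g, hg⟩
      have h2 : (2 ^ k : ℤ) * (2 * f + 1) = 2 ^ k * (2 * g) := by linarith
      have := mul_left_cancel₀ (by positivity : (2 ^ k : ℤ) ≠ 0) h2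
      omega
    · left
      refine ⟨⟨f + 1, by ring⟩, ?_⟩
      rintro ⟨g, hg⟩
      have h2 : (2 ^ k : ℤ) * (2 * f + 1) = 2 ^ k * (2 * g) := by linarith
      have := mul_left_cancel₀ (by positivity : (2 ^ k : ℤ) ≠ 0) h2
      omega
  · have h1 : x ^ (i - i₀) ∈ Subgroup.normalizer (Q : Set S) := by
      have : x ^ (i - i₀) = (x ^ i * y) * (x ^ i₀ * y)⁻¹ := by
        rw [h.xpow_y_inv, h.xpow_y_mul_xpow_y, h.xpow_eq_iff]
        exact ⟨i₀ * (2 * 2 ^ k - 1), by ring⟩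
      rw [this]
      exact Subgroup.mul_mem _ hb (Subgroup.inv_mem _ (hQN hy₀))
    obtain ⟨d, hd⟩ := hnorm_x _ h1
    rw [h.xpow_mul_y_mul_xpow, hyQ, hyQ]
    rcases Int.even_or_odd' d with ⟨f, rfl | rfl⟩
    · right
      refine ⟨⟨f, by linarith⟩, ?_⟩
      rintro ⟨g, hg⟩
      have h2 : (2 ^ k : ℤ) * (2 * (f + 2 * 2 ^ k) - 1) = 2 ^ k * (2 * g) := by
        have : i = i₀ + 2 ^ k * (2 * f) := by linarith
        rw [this] at hg
        linarith
      have := mul_left_cancel₀ (by positivity : (2 ^ k : ℤ) ≠ 0) h2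
      omega
    · left
      refine ⟨⟨f + 2 * 2 ^ k, ?_⟩, ?_⟩
      · have : i = i₀ + 2 ^ k * (2 * f + 1) := by linarith
        rw [this]; ring
      · rintro ⟨g, hg⟩
        have h2 : (2 ^ k : ℤ) * (2 * f + 1) = 2 ^ k * (2 * g) := by linarith
        have := mul_left_cancel₀ (by positivity : (2 ^ k : ℤ) ≠ 0) h2
        omega

/-- In a quasi-dihedral 2-group S, any two subgroups isomorphic to the quaternion group of order 8 are conjugate, and each such subgroup Q satisfies C_S(Q) = Z(Q) and |N_S(Q) : Q| = 2. -/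
theorem result {S : Type*} [Group S] [Finite S] (hS : Cfsg.IsQuasiDihedral S) : (∀ Q₁ Q₂ : Subgroup S, Nonempty (Q₁ ≃* QuaternionGroup 2) → Nonempty (Q₂ ≃* QuaternionGroup 2) → ∃ s : S, Q₁.map (MulAut.conj s).toMonoidHom = Q₂) ∧ (∀ Q : Subgroup S, Nonempty (Q ≃* QuaternionGroup 2) → Subgroup.centralizer (Q : Set S) = (Subgroup.center Q).map Q.subtype ∧ Q.relIndex (Subgroup.normalizer (Q : Set S)) = 2) := by
  obtain ⟨k, x, y, h⟩ := exists_qdData hS
  refine ⟨?_, ?_⟩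
  · rintro Q₁ Q₂ ⟨e₁⟩ ⟨e₂⟩
    exact conj_quat h Q₁ Q₂ e₁ e₂
  · rintro Q ⟨e⟩
    exact ⟨centralizer_quat h Q e, relIndex_normalizer_quat h Q e⟩

end Cfsg.Agent.S1191
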