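import Cfsg.Statements.S1203
import Cfsg.Agent.S1190
import Cfsg.Agent.S1191
import Cfsg.Agent.S3742
import Cfsg.Agent.Helper17.Klein

set_option autoImplicit false
open Cfsg

namespace Cfsg.Agent.S1203

open Subgroup

variable {G : Type*} [Group G]

theorem two_dvd_relIndex [Finite G] (M N : Subgroup G) [hn : (M.subgroupOf N).Normal]
    (s : G) (hsN : s ∈ N) (hsM : s ∉ M) (a : ℕ) (hs : s ^ (2 ^ a) = 1) : 2 ∣ M.relIndex N := by
  by_contra h2
  have hodd : Nat.Coprime (M.relIndex N) (2 ^ a) := by
    apply Nat.Coprime.pow_right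
    exact ((Nat.Prime.coprime_iff_not_dvd Nat.prime_two).mpr h2).symm
  have h1 : (⟨s, hsN⟩ : N) ^ (M.subgroupOf N).index ∈ M.subgroupOf N := Subgroup.pow_index_mem _ _
  have h1' : s ^ (M.relIndex N) ∈ M := by
    rw [Subgroup.mem_subgroupOf] at h1
    simpa [Subgroup.relIndex] using h1
  have hco : Nat.Coprime (M.relIndex N) (orderOf s) :=
    Nat.Coprime.coprime_dvd_right (orderOf_dvd_of_pow_eq_one hs) hodd
  obtain ⟨m, hm⟩ := exists_pow_eq_self_of_coprime hco
  apply hsM
  rw [← hm]
  exact Subgroup.pow_mem _ h1' m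

theorem two_or_six {d : ℕ} (h6 : d ∣ 6) (h2 : 2 ∣ d) : d = 2 ∨ d = 6 := by
  have hle : d ≤ 6 := Nat.le_of_dvd (by norm_num) h6
  interval_cases d <;> omega

theorem relIndex_cent_norm_dvd [Finite G] (H : Subgroup G) :
    (centralizer (H : Set G)).relIndex (normalizer (H : Set G)) ∣ Nat.card (MulAut H) := by
  have key := Subgroup.card_dvd_of_injective _ (QuotientGroup.kerLift_injective H.normalizerMonoidHom)
  rwa [normalizerMonoidHom_ker, ← index, ← relIndex] at key

instance cent_normal_in_norm (H : Subgroup G) :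
    ((centralizer (H : Set G)).subgroupOf (normalizer (H : Set G))).Normal := by
  rw [← normalizerMonoidHom_ker]; infer_instance

theorem isKleinFour_of_mulEquiv {A B : Type*} [Group A] [Group B] (e : A ≃* B) (hB : IsKleinFour B) :
    IsKleinFour A :=
  ⟨by rw [Nat.card_congr e.toEquiv]; exact hB.card_four,
   by rw [Monoid.exponent_eq_of_mulEquiv e]; exact hB.exponent_two⟩

/-- transfer of normalizer membership from `S` to `G`. -/
theorem coe_mem_normalizer {S H : Subgroup G} (hHS : H ≤ S) {s : S}
    (hs : s ∈ normalizer ((H.subgroupOf S : Subgroup S) : Set S)) :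
    (s : G) ∈ normalizer (H : Set G) := by
  rw [mem_normalizer_iff] at hs ⊢
  intro h
  constructor
  · intro hh
    have := (hs ⟨h, hHS hh⟩).mp (by rw [mem_subgroupOf]; exact hh)
    rw [mem_subgroupOf] at this
    simpa using this
  · intro hh
    have hS' : h ∈ S := by
      have h1 : (s : G) * h * (s : G)⁻¹ ∈ S := hHS hh
      have : h = (s : G)⁻¹ * ((s : G) * h * (s : G)⁻¹) * (s : G) := by group
      rw [this]
      exact S.mul_mem (S.mul_mem (S.inv_mem s.2) h1) s.2
    have := (hs ⟨h, hS'⟩).mpr (by rw [mem_subgroupOf]; simpa using hh)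
    rw [mem_subgroupOf] at this
    simpa using this

theorem part_T [Finite G] (S : Sylow 2 G) (hS : Cfsg.IsQuasiDihedral (S : Subgroup G))
    (T : Subgroup G) (hT : IsKleinFour T) (hTS : T ≤ S) :
    (centralizer (T : Set G)).relIndex (normalizer (T : Set G)) = 2 ∨
      (centralizer (T : Set G)).relIndex (normalizer (T : Set G)) = 6 := by
  have hT' : IsKleinFour (T.subgroupOf (S : Subgroup G)) :=
    isKleinFour_of_mulEquiv (Subgroup.subgroupOfEquivOfLe hTS) hT
  obtain ⟨hcent, hidx⟩ := (Cfsg.Agent.S1190.result hS).2 _ hT'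
  have hex : ∃ s' : (S : Subgroup G), s' ∈ normalizer ((T.subgroupOf (S : Subgroup G) : Subgroup S) : Set S) ∧
      s' ∉ T.subgroupOf (S : Subgroup G) := by
    by_contra hcon
    simp only [not_exists, not_and, not_not] at hcon
    have : (T.subgroupOf (S : Subgroup G)).relIndex
        (normalizer ((T.subgroupOf (S : Subgroup G) : Subgroup S) : Set S)) = 1 :=
      Subgroup.relIndex_eq_one.mpr hcon
    omega
  obtain ⟨s', hs'N, hs'T⟩ := hex
  obtain ⟨a, ha⟩ := S.2 s'
  have hsa : (s' : G) ^ (2 ^ a) = 1 := by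
    have := congrArg Subtype.val ha
    simpa using this
  have hsN : (s' : G) ∈ normalizer (T : Set G) := coe_mem_normalizer hTS hs'N
  have hsC : (s' : G) ∉ centralizer (T : Set G) := by
    intro hc
    apply hs'T
    rw [← hcent, mem_centralizer_iff]
    intro t ht
    rw [mem_centralizer_iff] at hc
    apply Subtype.ext
    have := hc (t : G) (by rw [SetLike.mem_coe, mem_subgroupOf] at ht; exact ht)
    simpa using this
  haveI := hT
  have h6 : (centralizer (T : Set G)).relIndex (normalizer (T : Set G)) ∣ 6 :=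
    (relIndex_cent_norm_dvd T).trans Cfsg.Agent.Helper17.card_mulAut_kleinFour_dvd
  exact two_or_six h6 (two_dvd_relIndex _ _ _ hsN hsC a hsa)

theorem card_center_quat : Nat.card (Subgroup.center (QuaternionGroup 2)) = 2 := by
  rw [Nat.card_eq_fintype_card]
  decide

theorem card_mulAut_quat : Nat.card (MulAut (QuaternionGroup 2)) = 24 := by
  obtain ⟨e⟩ := Cfsg.Agent.S3742.result
  rw [Nat.card_congr e.toEquiv, Nat.card_eq_fintype_card, Fintype.card_perm, Fintype.card_fin]
  rfl

theorem subgroupOf_centralizer_eq_center (Q : Subgroup G) :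
    (centralizer (Q : Set G)).subgroupOf Q = Subgroup.center Q := by
  ext x
  rw [mem_subgroupOf, mem_centralizer_iff, Subgroup.mem_center_iff]
  constructor
  · intro h g
    apply Subtype.ext
    simpa using h g g.2
  · intro h g hg
    have := congrArg Subtype.val (h ⟨g, hg⟩)
    simpa using this

theorem relIndex_centralizer_quat [Finite G] (Q : Subgroup G) (eQ : Q ≃* QuaternionGroup 2) :
    (centralizer (Q : Set G)).relIndex Q = 4 := by
  rw [Subgroup.relIndex, subgroupOf_centralizer_eq_center]
  have h1 := Subgroup.card_mul_index (Subgroup.center Q)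
  have h2 : Nat.card (Subgroup.center Q) = 2 := by
    rw [Nat.card_congr (Subgroup.centerCongr eQ).toEquiv]; exact card_center_quat
  have h3 : Nat.card Q = 8 := by
    rw [Nat.card_congr eQ.toEquiv, Nat.card_eq_fintype_card, QuaternionGroup.card]
  rw [h2, h3] at h1
  omega

theorem relIndex_centralizer_sup [Finite G] (Q : Subgroup G) :
    (centralizer (Q : Set G)).relIndex (Q ⊔ centralizer (Q : Set G)) =
      (centralizer (Q : Set G)).relIndex Q := by
  have hQN : Q ≤ normalizer (Q : Set G) := le_normalizer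
  have hCN : centralizer (Q : Set G) ≤ normalizer (Q : Set G) := centralizer_le_normalizer _
  have hMN : Q ⊔ centralizer (Q : Set G) ≤ normalizer (Q : Set G) := sup_le hQN hCN
  rw [← relIndex_subgroupOf hMN, subgroupOf_sup hQN hCN, relIndex_sup_right, relIndex_subgroupOf hQN]

instance sup_cent_normal_in_norm (Q : Subgroup G) :
    ((Q ⊔ centralizer (Q : Set G)).subgroupOf (normalizer (Q : Set G))).Normal := by
  have hQN : Q ≤ normalizer (Q : Set G) := le_normalizer
  have hCN : centralizer (Q : Set G) ≤ normalizer (Q : Set G) := centralizer_le_normalizer _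
  rw [subgroupOf_sup hQN hCN]
  infer_instance

theorem centralizer_le_normalizer_self (Q : Subgroup G) :
    Q ≤ normalizer ((centralizer (Q : Set G) : Subgroup G) : Set G) := by
  have hCN : centralizer (Q : Set G) ≤ normalizer (Q : Set G) := centralizer_le_normalizer _
  exact le_normalizer.trans ((normal_subgroupOf_iff_le_normalizer hCN).mp (cent_normal_in_norm Q))

theorem part_Q [Finite G] (S : Sylow 2 G) (hS : Cfsg.IsQuasiDihedral (S : Subgroup G))
    (Q : Subgroup G) (hQS : Q ≤ S) (eQ : Q ≃* QuaternionGroup 2) :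
    (Q ⊔ centralizer (Q : Set G)).relIndex (normalizer (Q : Set G)) = 2 ∨
      (Q ⊔ centralizer (Q : Set G)).relIndex (normalizer (Q : Set G)) = 6 := by
  have e' : Q.subgroupOf (S : Subgroup G) ≃* QuaternionGroup 2 :=
    (Subgroup.subgroupOfEquivOfLe hQS).trans eQ
  obtain ⟨hcent, hidx⟩ := (Cfsg.Agent.S1191.result hS).2 _ ⟨e'⟩
  have hex : ∃ s' : (S : Subgroup G), s' ∈ normalizer ((Q.subgroupOf (S : Subgroup G) : Subgroup S) : Set S) ∧
      s' ∉ Q.subgroupOf (S : Subgroup G) := by
    by_contra hcon
    simp only [not_exists, not_and, not_not] at hcon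
    have : (Q.subgroupOf (S : Subgroup G)).relIndex
        (normalizer ((Q.subgroupOf (S : Subgroup G) : Subgroup S) : Set S)) = 1 :=
      Subgroup.relIndex_eq_one.mpr hcon
    omega
  obtain ⟨s', hs'N, hs'Q⟩ := hex
  obtain ⟨a, ha⟩ := S.2 s'
  have hsa : (s' : G) ^ (2 ^ a) = 1 := by
    have := congrArg Subtype.val ha
    simpa using this
  have hsN : (s' : G) ∈ normalizer (Q : Set G) := coe_mem_normalizer hQS hs'N
  have hsM : (s' : G) ∉ Q ⊔ centralizer (Q : Set G) := by
    intro hc
    rw [← SetLike.mem_coe, coe_mul_of_left_le_normalizer_right _ _ (centralizer_le_normalizer_self Q)] at hc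
    obtain ⟨q, hq, c, hc, hqc⟩ := hc
    have hcS : c ∈ (S : Subgroup G) := by
      have : c = q⁻¹ * (s' : G) := by rw [← hqc]; group
      rw [this]
      exact Subgroup.mul_mem _ (Subgroup.inv_mem _ (hQS hq)) s'.2
    have hc' : (⟨c, hcS⟩ : (S : Subgroup G)) ∈
        centralizer ((Q.subgroupOf (S : Subgroup G) : Subgroup S) : Set S) := by
      rw [mem_centralizer_iff]
      intro t ht
      rw [SetLike.mem_coe, mem_centralizer_iff] at hc
      apply Subtype.ext
      have := hc (t : G) (by rw [SetLike.mem_coe, mem_subgroupOf] at ht; exact ht)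
      simpa using this
    rw [hcent] at hc'
    obtain ⟨z, -, hz⟩ := hc'
    have hcQ : c ∈ Q := by
      have h1 : ((z : (S : Subgroup G)) : G) ∈ Q := by
        have := z.2
        rwa [mem_subgroupOf] at this
      have h2 : ((z : (S : Subgroup G)) : G) = c := by
        have := congrArg Subtype.val hz
        simpa using this
      rwa [h2] at h1
    apply hs'Q
    rw [mem_subgroupOf, ← hqc]
    exact Subgroup.mul_mem _ hq hcQ
  have h24 : (centralizer (Q : Set G)).relIndex (normalizer (Q : Set G)) ∣ 24 := by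
    have h1 := relIndex_cent_norm_dvd Q
    rwa [Nat.card_congr (MulAut.congr eQ).toEquiv, card_mulAut_quat] at h1
  have hQN : Q ≤ normalizer (Q : Set G) := le_normalizer
  have hCN : centralizer (Q : Set G) ≤ normalizer (Q : Set G) := centralizer_le_normalizer _
  have hMN : Q ⊔ centralizer (Q : Set G) ≤ normalizer (Q : Set G) := sup_le hQN hCN
  have hmul := relIndex_mul_relIndex (centralizer (Q : Set G)) (Q ⊔ centralizer (Q : Set G))
    (normalizer (Q : Set G)) le_sup_right hMN
  rw [relIndex_centralizer_sup, relIndex_centralizer_quat Q eQ] at hmul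
  have h6 : (Q ⊔ centralizer (Q : Set G)).relIndex (normalizer (Q : Set G)) ∣ 6 := by
    rw [← hmul] at h24
    have : (4 : ℕ) * (Q ⊔ centralizer (Q : Set G)).relIndex (normalizer (Q : Set G)) ∣ 4 * 6 := h24
    exact (Nat.mul_dvd_mul_iff_left (by norm_num)).mp this
  exact two_or_six h6 (two_dvd_relIndex _ _ _ hsN hsM a hsa)

/-- Let G be a finite group with quasi-dihedral Sylow 2-subgroup S, T a Klein four-subgroup of S and Q a quaternion subgroup of order 8 of S. Then |N_G(T) : C_G(T)| ∈ {2, 6} and |N_G(Q) : Q C_G(Q)| ∈ {2, 6}. -/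
theorem result {G : Type*} [Group G] [Finite G] (S : Sylow 2 G) (hS : Cfsg.IsQuasiDihedral (S : Subgroup G)) (T : Subgroup G) (hT : IsKleinFour T) (hTS : T ≤ S) (Q : Subgroup G) (hQS : Q ≤ S) (eQ : Q ≃* QuaternionGroup 2) : ((Subgroup.centralizer (T : Set G)).relIndex (Subgroup.normalizer (T : Set G)) = 2 ∨ (Subgroup.centralizer (T : Set G)).relIndex (Subgroup.normalizer (T : Set G)) = 6) ∧ ((Q ⊔ Subgroup.centralizer (Q : Set G)).relIndex (Subgroup.normalizer (Q : Set G)) = 2 ∨ (Q ⊔ Subgroup.centralizer (Q : Set G)).relIndex (Subgroup.normalizer (Q : Set G)) = 6) :=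
  ⟨part_T S hS T hT hTS, part_Q S hS Q hQS eQ⟩

end Cfsg.Agent.S1203
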