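import Cfsg.Statements.S1204
import Cfsg.Agent.Helper20.QD4
import Cfsg.Agent.Helper20.Fusion3
import Cfsg.Agent.Helper20.Quat8b
import Cfsg.Agent.Helper20.SylowConj

set_option autoImplicit false
open Cfsg

namespace Cfsg.Agent.S1204

open Cfsg.Agent.Helper20 Subgroup

/-- Let G be a finite group with quasi-dihedral Sylow 2-subgroup S, T a Klein four-subgroup and Q a quaternion subgroup of order 8 of S, with |N_G(T) : C_G(T)| = 6 and |N_G(Q) : Q C_G(Q)| = 6. Then G has no subgroup of index 2, exactly one conjugacy class of involutions and exactly one conjugacy class of elements of order 4. -/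
theorem result {G : Type*} [Group G] [Finite G] (S : Sylow 2 G) (hS : Cfsg.IsQuasiDihedral (S : Subgroup G)) (T : Subgroup G) (hT : IsKleinFour T) (hTS : T ≤ S) (Q : Subgroup G) (hQS : Q ≤ S) (eQ : Q ≃* QuaternionGroup 2) (h₁ : (Subgroup.centralizer (T : Set G)).relIndex (Subgroup.normalizer (T : Set G)) = 6) (h₂ : (Q ⊔ Subgroup.centralizer (Q : Set G)).relIndex (Subgroup.normalizer (Q : Set G)) = 6) : (∀ H : Subgroup G, H.index ≠ 2) ∧ Nat.card {C : ConjClasses G // ∃ t : G, orderOf t = 2 ∧ ConjClasses.mk t = C} = 1 ∧ Nat.card {C : ConjClasses G // ∃ t : G, orderOf t = 4 ∧ ConjClasses.mk t = C} = 1 := by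
  obtain ⟨k, x, y, h⟩ := exists_qdData hS
  -- `T` inside `S`
  have hT' : IsKleinFour (T.subgroupOf (S : Subgroup G)) :=
    isKleinFour_of_equiv (Subgroup.subgroupOfEquivOfLe hTS) hT
  obtain ⟨hzT', c, hcT', -⟩ := h.kleinFour_structure _ hT'
  obtain ⟨z₀, hz₀def⟩ : ∃ z₀ : (S : Subgroup G), z₀ = x ^ (4 * 2 ^ k : ℤ) := ⟨_, rfl⟩
  have hz₀T : (z₀ : G) ∈ T := mem_subgroupOf.mp (hz₀def ▸ hzT')
  have hz₀sq : (z₀ : G) * (z₀ : G) = 1 := by
    have := congrArg Subtype.val (hz₀def ▸ h.z_sq : z₀ * z₀ = 1)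
    simpa using this
  have hz₀1 : (z₀ : G) ≠ 1 := fun hc => h.z_ne_one (hz₀def ▸ Subtype.ext hc)
  obtain ⟨t₁, ht₁def⟩ : ∃ t₁ : (S : Subgroup G), t₁ = x ^ (2 * c) * y := ⟨_, rfl⟩
  have ht₁T : (t₁ : G) ∈ T := mem_subgroupOf.mp (ht₁def ▸ hcT')
  have ht₁1 : (t₁ : G) ≠ 1 := fun hc => h.xpow_y_ne_one (2 * c) (ht₁def ▸ Subtype.ext hc)
  -- Step T
  have h3T : 3 ∣ (centralizer (T : Set G)).relIndex (normalizer (T : Set G)) := by
    rw [h₁]; norm_num
  haveI : Fact (Nat.Prime 3) := ⟨Nat.prime_three⟩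
  obtain ⟨g, hgN, hgC, hg3⟩ := exists_pow_mem_of_prime_dvd_relIndex _ _ h3T
  have hfpf : ∀ t ∈ T, t ≠ 1 → g * t * g⁻¹ ≠ t := by
    intro t ht ht1 hfix
    rcases kleinFour_fix_imp_sq_centralizes hT hgN ht ht1 hfix with hc | hc
    · exact hgC hc
    · apply hgC
      have : g = g ^ 3 * (g * g)⁻¹ := by group
      rw [this]; exact mul_mem hg3 (inv_mem hc)
  have hTconj := kleinFour_isConj_of_fpf hT hgN hfpf
  have hz₀t₁ : IsConj (t₁ : G) (z₀ : G) := hTconj _ ht₁T _ hz₀T ht₁1 hz₀1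
  have hmapConj : ∀ a b : (S : Subgroup G), IsConj a b → IsConj (a : G) (b : G) := by
    intro a b hab
    have := (S : Subgroup G).subtype.map_isConj hab
    simpa using this
  have hSinv : ∀ t : (S : Subgroup G), orderOf t = 2 → IsConj (t : G) (z₀ : G) := by
    intro t ht
    rcases (h.involution_iff t).mp ht with h' | ⟨c', h'⟩
    · rw [h', hz₀def]
    · have h1 : IsConj t t₁ := by
        rw [h', ht₁def]; exact h.isConj_xpow_y _ _ ⟨c - c', by ring⟩
      exact (hmapConj _ _ h1).trans hz₀t₁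
  -- every 2-element is conjugate into `S`
  have hintoS : ∀ t : G, ∀ e : ℕ, orderOf t = 2 ^ e →
      ∃ t' : (S : Subgroup G), IsConj t (t' : G) ∧ orderOf t' = 2 ^ e := by
    intro t e ht
    have hp : IsPGroup 2 (zpowers t) := by
      apply IsPGroup.of_card (n := e); rw [Nat.card_zpowers, ht]
    obtain ⟨b, hb⟩ := exists_conj_le_sylow S hp
    have hbt : b * t * b⁻¹ ∈ (S : Subgroup G) := hb (conj_mem_map_conj _ b t (mem_zpowers t))
    refine ⟨⟨b * t * b⁻¹, hbt⟩, isConj_iff.mpr ⟨b, rfl⟩, ?_⟩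
    rw [← Subgroup.orderOf_coe]
    show orderOf (b * t * b⁻¹) = 2 ^ e
    rw [← ht]
    exact (MulAut.conj b).orderOf_eq t
  have hcard2 : Nat.card {C : ConjClasses G // ∃ t : G, orderOf t = 2 ∧ ConjClasses.mk t = C} = 1 := by
    apply card_subtype_eq_one _ (ConjClasses.mk (z₀ : G))
    intro C
    constructor
    · rintro ⟨t, ht, rfl⟩
      obtain ⟨t', htt', ht'⟩ := hintoS t 1 (by rw [ht, pow_one])
      rw [pow_one] at ht'
      exact ConjClasses.mk_eq_mk_iff_isConj.mpr (htt'.trans (hSinv t' ht'))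
    · rintro rfl
      exact ⟨z₀, (Cfsg.Agent.Helper20.orderOf_eq_two_iff _).mpr ⟨hz₀sq, hz₀1⟩, rfl⟩
  -- Step Q
  have h3Q : 3 ∣ (Q ⊔ centralizer (Q : Set G)).relIndex (normalizer (Q : Set G)) := by
    rw [h₂]; norm_num
  obtain ⟨g', hg'N, hg'M, hg'3⟩ := exists_pow_mem_of_prime_dvd_relIndex _ _ h3Q
  obtain ⟨X, hX⟩ : ∃ X : Subgroup G, X = (zpowers x).map (S : Subgroup G).subtype := ⟨_, rfl⟩
  have hmemX : ∀ s : (S : Subgroup G), (s : G) ∈ X ↔ s ∈ zpowers x := by
    intro s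
    rw [hX]
    constructor
    · rintro ⟨s', hs', hss'⟩
      have : s' = s := Subtype.ext hss'
      rwa [← this]
    · intro hs
      exact ⟨s, hs, rfl⟩
  have hXS : X ≤ S := by
    rw [hX]
    rintro _ ⟨s, -, rfl⟩
    exact s.2
  have hXcomm : ∀ a ∈ X, ∀ b ∈ X, a * b = b * a := by
    intro a ha b hb
    rw [hX] at ha hb
    obtain ⟨a', ha', rfl⟩ := ha
    obtain ⟨b', hb', rfl⟩ := hb
    obtain ⟨i, rfl⟩ := mem_zpowers_iff.mp ha'
    obtain ⟨j, rfl⟩ := mem_zpowers_iff.mp hb'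
    have : (x ^ i * x ^ j : (S : Subgroup G)) = x ^ j * x ^ i := by
      rw [← zpow_add, ← zpow_add, add_comm]
    exact congrArg Subtype.val this
  have hidx : ∀ a ∈ Q, ∀ b ∈ Q, a ∉ X → b ∉ X → a * b ∈ X := by
    intro a ha b hb haX hbX
    have := (Subgroup.mul_mem_iff_of_index_two h.index_zpowers (a := ⟨a, hQS ha⟩)
      (b := ⟨b, hQS hb⟩)).mpr
      (iff_of_false (fun h' => haX ((hmemX _).mpr h')) (fun h' => hbX ((hmemX _).mpr h')))
    exact (hmemX _).mpr this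
  obtain ⟨i, hiQ, hiX, hi2, hiuniq⟩ := exists_order_four_inter Q eQ X hXcomm hidx
  obtain ⟨hmv1, hmv2⟩ := quat_normalizer_moves Q eQ hg'N hg'3 hg'M hiQ hi2
  obtain ⟨cq, -, -, -, -, hcqsq, -, -, hqsq, -⟩ := exists_q8_data Q eQ
  have hfour : ∀ q ∈ Q, (q * q) * (q * q) = 1 := by
    intro q hq
    rcases hqsq q hq with h' | h'
    · rw [h', one_mul]
    · rw [h', hcqsq]
  have hgiQ : g' * i * g'⁻¹ ∈ Q := (mem_normalizer_iff.mp hg'N i).mp hiQ
  have hgi2 : (g' * i * g'⁻¹) * (g' * i * g'⁻¹) ≠ 1 := by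
    intro hc
    apply hi2
    have : g' * (i * i) * g'⁻¹ = 1 := by rw [← hc]; group
    exact conj_eq_one_imp this
  have hgiX : g' * i * g'⁻¹ ∉ X := fun hc => by
    rcases hiuniq _ hgiQ hc hgi2 with h' | h'
    · exact hmv1 h'
    · exact hmv2 h'
  -- the elements in `S`
  have hi4 : orderOf (⟨i, hQS hiQ⟩ : (S : Subgroup G)) = 4 := by
    rw [orderOf_eq_four_iff]
    exact ⟨Subtype.ext (hfour i hiQ), fun hc => hi2 (congrArg Subtype.val hc)⟩
  have hw4 : orderOf (⟨g' * i * g'⁻¹, hQS hgiQ⟩ : (S : Subgroup G)) = 4 := by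
    rw [orderOf_eq_four_iff]
    exact ⟨Subtype.ext (hfour _ hgiQ), fun hc => hgi2 (congrArg Subtype.val hc)⟩
  obtain ⟨v, hvdef⟩ : ∃ v : (S : Subgroup G), v = x ^ (2 * 2 ^ k : ℤ) := ⟨_, rfl⟩
  have hvinv : IsConj (x ^ (-(2 * 2 ^ k) : ℤ) : (S : Subgroup G)) v := by
    rw [hvdef]; exact h.isConj_xpow_twoP.symm
  -- `i` is `v` or its inverse
  have hiv : IsConj i (v : G) := by
    rcases (h.order_four_iff _).mp hi4 with h' | h' | ⟨c', h'⟩
    · have : i = (v : G) := by rw [hvdef, ← h']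
      rw [this]
    · have h1 := hmapConj _ _ hvinv
      rw [← h'] at h1
      exact h1
    · exfalso
      have h1 : (⟨i, hQS hiQ⟩ : (S : Subgroup G)) ∈ zpowers x := (hmemX _).mp hiX
      obtain ⟨j, hj⟩ := mem_zpowers_iff.mp h1
      rw [h'] at hj
      exact h.xpow_ne_xpow_y _ _ hj
  obtain ⟨c'', hw⟩ : ∃ c'' : ℤ,
      (⟨g' * i * g'⁻¹, hQS hgiQ⟩ : (S : Subgroup G)) = x ^ (2 * c'' + 1) * y := by
    rcases (h.order_four_iff _).mp hw4 with h' | h' | ⟨c', h'⟩
    · exfalso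
      apply hgiX
      have : (⟨g' * i * g'⁻¹, hQS hgiQ⟩ : (S : Subgroup G)) ∈ zpowers x := by
        rw [h']; exact zpow_mem_zpowers x _
      exact (hmemX _).mpr this
    · exfalso
      apply hgiX
      have : (⟨g' * i * g'⁻¹, hQS hgiQ⟩ : (S : Subgroup G)) ∈ zpowers x := by
        rw [h']; exact zpow_mem_zpowers x _
      exact (hmemX _).mpr this
    · exact ⟨c', h'⟩
  have hwv : IsConj (g' * i * g'⁻¹) (v : G) := by
    have h1 : IsConj (g' * i * g'⁻¹) i := by
      rw [isConj_comm]; exact isConj_iff.mpr ⟨g', rfl⟩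
    exact h1.trans hiv
  have hS4 : ∀ t : (S : Subgroup G), orderOf t = 4 → IsConj (t : G) (v : G) := by
    intro t ht
    rcases (h.order_four_iff t).mp ht with h' | h' | ⟨c', h'⟩
    · rw [h', hvdef]
    · rw [h']; exact hmapConj _ _ hvinv
    · have h1 : IsConj t (⟨g' * i * g'⁻¹, hQS hgiQ⟩ : (S : Subgroup G)) := by
        rw [h', hw]; exact h.isConj_xpow_y _ _ ⟨c'' - c', by ring⟩
      exact (hmapConj _ _ h1).trans hwv
  have hv4 : orderOf (v : G) = 4 := by
    rw [Subgroup.orderOf_coe]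
    exact (h.order_four_iff v).mpr (Or.inl hvdef)
  have hcard4 : Nat.card {C : ConjClasses G // ∃ t : G, orderOf t = 4 ∧ ConjClasses.mk t = C} = 1 := by
    apply card_subtype_eq_one _ (ConjClasses.mk (v : G))
    intro C
    constructor
    · rintro ⟨t, ht, rfl⟩
      obtain ⟨t', htt', ht'⟩ := hintoS t 2 (by rw [ht]; norm_num)
      have ht'4 : orderOf t' = 4 := by rw [ht']; norm_num
      exact ConjClasses.mk_eq_mk_iff_isConj.mpr (htt'.trans (hS4 t' ht'4))
    · rintro rfl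
      exact ⟨v, hv4, rfl⟩
  -- no subgroup of index two
  have hmapcomm : ∀ s : (S : Subgroup G), s ∈ commutator (S : Subgroup G) → (s : G) ∈ commutator G := by
    intro s hs
    have h1 : (commutator (S : Subgroup G)).map (S : Subgroup G).subtype ≤ commutator G := by
      rw [_root_.commutator_def, _root_.commutator_def, Subgroup.map_commutator]
      exact Subgroup.commutator_mono le_top le_top
    exact h1 ⟨s, hs, rfl⟩
  have hxsq : ∀ c' : ℤ, ((x ^ (2 * c') : (S : Subgroup G)) : G) ∈ commutator G :=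
    fun c' => hmapcomm _ (h.xsq_mem_commutator c')
  have hz₀G' : (z₀ : G) ∈ commutator G := by
    rw [hz₀def]
    have := hxsq (2 * 2 ^ k)
    have e : (2 * (2 * 2 ^ k) : ℤ) = 4 * 2 ^ k := by ring
    rwa [e] at this
  have hyG' : ((y : (S : Subgroup G)) : G) ∈ commutator G := by
    have h1 : (t₁ : G) ∈ commutator G := mem_commutator_of_isConj hz₀t₁.symm hz₀G'
    have h2 : (y : (S : Subgroup G)) = (x ^ (2 * c))⁻¹ * t₁ := by rw [ht₁def]; group
    rw [h2, Subgroup.coe_mul, Subgroup.coe_inv]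
    exact mul_mem (inv_mem (hxsq c)) h1
  have hvG' : (v : G) ∈ commutator G := by
    rw [hvdef]
    have := hxsq (2 ^ k)
    exact this
  have hxG' : ((x : (S : Subgroup G)) : G) ∈ commutator G := by
    have h1 : g' * i * g'⁻¹ ∈ commutator G := mem_commutator_of_isConj hwv.symm hvG'
    have h2 : ((x ^ (2 * c'' + 1) * y : (S : Subgroup G)) : G) ∈ commutator G := by
      rw [← hw]; exact h1
    have h3 : (x : (S : Subgroup G)) = (x ^ (2 * c'' + 1) * y) * y⁻¹ * (x ^ (2 * c''))⁻¹ := by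
      have : x ^ (2 * c'' + 1) = x ^ (2 * c'') * x := by rw [zpow_add, zpow_one]
      rw [this]; group
    rw [h3, Subgroup.coe_mul, Subgroup.coe_mul, Subgroup.coe_inv, Subgroup.coe_inv]
    exact mul_mem (mul_mem h2 (inv_mem hyG')) (inv_mem (hxsq c''))
  have hSG' : (S : Subgroup G) ≤ commutator G := by
    intro s hs
    have hxpow : ∀ j : ℤ, ((x ^ j : (S : Subgroup G)) : G) ∈ commutator G := by
      intro j
      rw [Subgroup.coe_zpow]
      exact zpow_mem hxG' j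
    rcases h.cases ⟨s, hs⟩ with ⟨j, hj⟩ | ⟨j, hj⟩
    · have := hxpow j
      rw [← hj] at this
      exact this
    · have := mul_mem (hxpow j) hyG'
      rw [← Subgroup.coe_mul, ← hj] at this
      exact this
  exact ⟨no_index_two_of_sylow_le_commutator S hSG', hcard2, hcard4⟩

end Cfsg.Agent.S1204
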