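import Cfsg.Statements.S3224
import Mathlib.GroupTheory.IndexNormal
import Mathlib.GroupTheory.SpecificGroups.Cyclic
import Mathlib.GroupTheory.Exponent
import Mathlib.GroupTheory.QuotientGroup.Basic
import Mathlib.Data.ZMod.Basic
import Mathlib.Tactic

set_option autoImplicit false
set_option linter.style.haveILetI false
set_option linter.unusedVariables false
open Cfsg

namespace Cfsg.Agent.S3224

section general
variable {S : Type*} [Group S]

/-- A finite nontrivial 2-group has a central involution. -/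
theorem exists_central_involution [Finite S] [Nontrivial S] (hS : IsPGroup 2 S) :
    ∃ z : S, z ∈ Subgroup.center S ∧ orderOf z = 2 := by
  haveI : Fact (Nat.Prime 2) := ⟨Nat.prime_two⟩
  haveI := hS.center_nontrivial
  have hZ : IsPGroup 2 (Subgroup.center S) := hS.to_subgroup _
  obtain ⟨k, hk⟩ := IsPGroup.iff_card.mp hZ
  have hk0 : k ≠ 0 := by
    rintro rfl
    rw [pow_zero] at hk
    have := Finite.one_lt_card (α := Subgroup.center S)
    omega
  have h2 : 2 ∣ Nat.card (Subgroup.center S) := by
    rw [hk]; exact dvd_pow_self 2 hk0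
  obtain ⟨z, hz⟩ := exists_prime_orderOf_dvd_card' 2 h2
  refine ⟨z, z.2, ?_⟩
  rwa [Subgroup.orderOf_coe]

/-- The basic configuration: the centralizer of `x` is `{1, x, z, x z}` for a central involution `z`. -/
theorem exists_setup [Finite S] (hS : IsPGroup 2 S) (x : S) (hx : orderOf x = 2)
    (hcard : 8 ≤ Nat.card S) (hC : Nat.card (Subgroup.centralizer ({x} : Set S)) ≤ 4) :
    ∃ z : S, z ∈ Subgroup.center S ∧ orderOf z = 2 ∧ x ∉ Subgroup.center S ∧
      ∀ c : S, c * x = x * c → c = 1 ∨ c = x ∨ c = z ∨ c = x * z := by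
  classical
  haveI : Nontrivial S := by
    rw [← Finite.one_lt_card_iff_nontrivial]; omega
  obtain ⟨z, hzc, hz⟩ := exists_central_involution hS
  have hxc : x ∉ Subgroup.center S := by
    intro hxc
    have : Subgroup.centralizer ({x} : Set S) = ⊤ := by
      rw [eq_top_iff]
      intro g _
      rw [Subgroup.mem_centralizer_singleton_iff]
      exact (Subgroup.mem_center_iff.mp hxc g)
    rw [this, Subgroup.card_top] at hC
    omega
  have hzx : z ≠ x := fun h => hxc (h ▸ hzc)
  refine ⟨z, hzc, hz, hxc, ?_⟩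
  intro c hc
  by_contra hcon
  push Not at hcon
  obtain ⟨hc1, hcx, hcz, hcxz⟩ := hcon
  have hx1 : x ≠ 1 := by
    intro h; rw [h, orderOf_one] at hx; omega
  have hz1 : z ≠ 1 := by
    intro h; rw [h, orderOf_one] at hz; omega
  have hx2 : x * x = 1 := by rw [← pow_two, ← hx, pow_orderOf_eq_one]
  have hz2 : z * z = 1 := by rw [← pow_two, ← hz, pow_orderOf_eq_one]
  have hzcomm : ∀ g : S, g * z = z * g := fun g => Subgroup.mem_center_iff.mp hzc g
  -- five distinct elements in the centralizer
  have hmem : ∀ g ∈ ({1, x, z, x * z, c} : Finset S), g ∈ Subgroup.centralizer ({x} : Set S) := by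
    intro g hg
    simp only [Finset.mem_insert, Finset.mem_singleton] at hg
    rw [Subgroup.mem_centralizer_singleton_iff]
    rcases hg with rfl | rfl | rfl | rfl | rfl
    · simp
    · rfl
    · exact (hzcomm x).symm
    · rw [mul_assoc, ← hzcomm x]
    · exact hc
  have hcard5 : ({1, x, z, x * z, c} : Finset S).card = 5 := by
    have hxz1 : x * z ≠ 1 := by
      intro h
      have : x = z := by
        calc x = x * (z * z) := by rw [hz2, mul_one]
          _ = (x * z) * z := by rw [mul_assoc]
          _ = z := by rw [h, one_mul]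
      exact hzx this.symm
    have hxzx : x * z ≠ x := by
      intro h; exact hz1 (mul_eq_left.mp h)
    have hxzz : x * z ≠ z := by
      intro h; exact hx1 (mul_eq_right.mp h)
    rw [Finset.card_insert_of_notMem, Finset.card_insert_of_notMem, Finset.card_insert_of_notMem,
      Finset.card_insert_of_notMem, Finset.card_singleton]
    · simp only [Finset.mem_singleton]; exact fun h => hcxz h.symm
    · simp only [Finset.mem_insert, Finset.mem_singleton, not_or]
      exact ⟨fun h => hxzz h.symm, fun h => hcz h.symm⟩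
    · simp only [Finset.mem_insert, Finset.mem_singleton, not_or]
      exact ⟨fun h => hzx h.symm, fun h => hxzx h.symm, fun h => hcx h.symm⟩
    · simp only [Finset.mem_insert, Finset.mem_singleton, not_or]
      exact ⟨fun h => hx1 h.symm, fun h => hz1 h.symm, fun h => hxz1 h.symm, fun h => hc1 h.symm⟩
  have : 5 ≤ Nat.card (Subgroup.centralizer ({x} : Set S)) := by
    rw [← hcard5]
    change _ ≤ Nat.card ((Subgroup.centralizer ({x} : Set S) : Set S))
    rw [Nat.card_coe_set_eq]
    calc ({1, x, z, x * z, c} : Finset S).card = (({1, x, z, x * z, c} : Finset S) : Set S).ncard := by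
          rw [Set.ncard_coe_finset]
      _ ≤ _ := Set.ncard_le_ncard (fun g hg => hmem g hg) (Set.toFinite _)
  omega


end general

section setup

variable {S : Type*} [Group S] {x z : S}

theorem sq_of_commute (hx : orderOf x = 2) (hz : orderOf z = 2) (hzc : z ∈ Subgroup.center S)
    (hcent : ∀ c : S, c * x = x * c → c = 1 ∨ c = x ∨ c = z ∨ c = x * z)
    {c : S} (hc : c * x = x * c) : c * c = 1 := by
  have hx2 : x * x = 1 := by rw [← pow_two, ← hx, pow_orderOf_eq_one]
  have hz2 : z * z = 1 := by rw [← pow_two, ← hz, pow_orderOf_eq_one]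
  have hzcomm : ∀ g : S, g * z = z * g := fun g => Subgroup.mem_center_iff.mp hzc g
  rcases hcent c hc with rfl | rfl | rfl | rfl
  · simp
  · exact hx2
  · exact hz2
  · calc x * z * (x * z) = x * (z * x) * z := by simp only [mul_assoc]
      _ = x * (x * z) * z := by rw [hzcomm x]
      _ = (x * x) * (z * z) := by simp only [mul_assoc]
      _ = 1 := by rw [hx2, hz2, mul_one]

theorem center_cases (hz : orderOf z = 2) (hzc : z ∈ Subgroup.center S)
    (hxc : x ∉ Subgroup.center S)
    (hcent : ∀ c : S, c * x = x * c → c = 1 ∨ c = x ∨ c = z ∨ c = x * z)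
    {t : S} (ht : t ∈ Subgroup.center S) : t = 1 ∨ t = z := by
  have hz2 : z * z = 1 := by rw [← pow_two, ← hz, pow_orderOf_eq_one]
  rcases hcent t (Subgroup.mem_center_iff.mp ht x).symm with h | h | h | h
  · exact Or.inl h
  · exact absurd (h ▸ ht) hxc
  · exact Or.inr h
  · exfalso
    apply hxc
    have : x = t * z := by rw [h, mul_assoc, hz2, mul_one]
    rw [this]
    exact Subgroup.mul_mem _ ht hzc

/-- If `b` commutes with its conjugate by the involution `x`, then `x b x⁻¹ b` squares to one. -/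
theorem sq_conj_mul (hx : orderOf x = 2) (hz : orderOf z = 2) (hzc : z ∈ Subgroup.center S)
    (hcent : ∀ c : S, c * x = x * c → c = 1 ∨ c = x ∨ c = z ∨ c = x * z)
    {b : S} (hb : b * (x * b * x⁻¹) = x * b * x⁻¹ * b) :
    (x * b * x⁻¹ * b) * (x * b * x⁻¹ * b) = 1 := by
  apply sq_of_commute hx hz hzc hcent
  have hx2 : x * x = 1 := by rw [← pow_two, ← hx, pow_orderOf_eq_one]
  have hxinv : x⁻¹ = x := inv_eq_of_mul_eq_one_left hx2
  rw [hxinv] at hb ⊢
  calc x * b * x * b * x = x * (b * (x * b * x)) := by simp only [mul_assoc]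
    _ = x * (x * b * x * b) := by rw [hb]
    _ = (x * x) * b * x * b := by simp only [mul_assoc]
    _ = 1 * b * x * b := by rw [hx2]
    _ = b * (x * b) := by simp only [one_mul, mul_assoc]
    _ = x * (x * (b * (x * b))) := by rw [← mul_assoc x x, hx2, one_mul]
    _ = x * (x * b * x * b) := by simp only [mul_assoc]
  
theorem base_case {S : Type*} [Group S] [Finite S] (x : S) (hcard : Nat.card S = 8)
    (hxc : x ∉ Subgroup.center S) : ∃ a : S, orderOf a = 4 := by
  by_contra hno
  push Not at hno
  apply hxc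
  rw [Subgroup.mem_center_iff]
  -- every element has order dividing 2, or the group is cyclic
  by_cases hcyc : ∃ g : S, orderOf g = 8
  · obtain ⟨g, hg⟩ := hcyc
    haveI : IsCyclic S := isCyclic_of_orderOf_eq_card g (hg.trans hcard.symm)
    intro y
    exact (IsCyclic.commGroup (α := S)).mul_comm y x
  · push Not at hcyc
    have h2 : ∀ g : S, orderOf g ∣ 2 := by
      intro g
      have hdvd : orderOf g ∣ 2 ^ 3 := by
        have := orderOf_dvd_natCard g
        rwa [hcard] at this
      obtain ⟨k, hk3, hk⟩ := (Nat.dvd_prime_pow Nat.prime_two).mp hdvd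
      interval_cases k
      · rw [hk]; norm_num
      · rw [hk]; norm_num
      · exact absurd hk (hno g)
      · exact absurd hk (hcyc g)
    intro y
    exact (Commute.of_orderOf_dvd_two h2 y x).eq


theorem card_center (hz : orderOf z = 2) (hzc : z ∈ Subgroup.center S)
    (hxc : x ∉ Subgroup.center S)
    (hcent : ∀ c : S, c * x = x * c → c = 1 ∨ c = x ∨ c = z ∨ c = x * z) :
    Nat.card (Subgroup.center S) = 2 := by
  have : Subgroup.center S = Subgroup.zpowers z := by
    apply le_antisymm
    · intro t ht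
      rcases center_cases hz hzc hxc hcent ht with rfl | rfl
      · exact Subgroup.one_mem _
      · exact Subgroup.mem_zpowers _
    · exact Subgroup.zpowers_le.mpr hzc
  rw [this, Nat.card_zpowers, hz]

theorem card_quotient_center [Finite S] (hz : orderOf z = 2) (hzc : z ∈ Subgroup.center S)
    (hxc : x ∉ Subgroup.center S)
    (hcent : ∀ c : S, c * x = x * c → c = 1 ∨ c = x ∨ c = z ∨ c = x * z)
    {m : ℕ} (hcard : Nat.card S = 2 ^ (m + 1)) :
    Nat.card (S ⧸ Subgroup.center S) = 2 ^ m := by
  have h := Subgroup.card_eq_card_quotient_mul_card_subgroup (Subgroup.center S)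
  rw [card_center hz hzc hxc hcent, hcard, pow_succ] at h
  omega

theorem orderOf_mk_eq_two (hx : orderOf x = 2) (hxc : x ∉ Subgroup.center S) :
    orderOf (QuotientGroup.mk x : S ⧸ Subgroup.center S) = 2 := by
  apply orderOf_eq_prime
  · rw [← QuotientGroup.mk_pow, ← hx, pow_orderOf_eq_one, QuotientGroup.mk_one]
  · rwa [Ne, QuotientGroup.eq_one_iff]

theorem card_centralizer_image_le {Q : Type*} [Group Q] (π : S →* Q)
    (hsurj : Function.Surjective π) (hker : ∀ g : S, π g = 1 ↔ g ∈ Subgroup.center S)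
    (hz : orderOf z = 2) (hzc : z ∈ Subgroup.center S)
    (hxc : x ∉ Subgroup.center S)
    (hcent : ∀ c : S, c * x = x * c → c = 1 ∨ c = x ∨ c = z ∨ c = x * z) :
    Nat.card (Subgroup.centralizer ({π x} : Set Q)) ≤ 4 := by
  classical
  have hz2 : z * z = 1 := by rw [← pow_two, ← hz, pow_orderOf_eq_one]
  have hzcomm : ∀ g : S, g * z = z * g := fun g => Subgroup.mem_center_iff.mp hzc g
  have hπz : π z = 1 := (hker z).mpr hzc
  -- a fixed element with `x * h = h * x * z`, if there is one
  obtain ⟨h₀, hh₀⟩ : ∃ h₀ : S, ∀ g : S, x * g = g * x * z → x * h₀ = h₀ * x * z := by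
    by_cases hex : ∃ h : S, x * h = h * x * z
    · obtain ⟨h, hh⟩ := hex
      exact ⟨h, fun _ _ => hh⟩
    · exact ⟨1, fun g hg => absurd ⟨g, hg⟩ hex⟩
  set T : Finset Q := {1, π x, π h₀, π h₀ * π x} with hT
  have hsub : ((Subgroup.centralizer ({π x} : Set Q) : Subgroup Q) : Set Q) ⊆ (T : Set Q) := by
    intro q hq
    rw [SetLike.mem_coe, Subgroup.mem_centralizer_singleton_iff] at hq
    obtain ⟨g, rfl⟩ := hsurj q
    rw [hT]
    simp only [Finset.coe_insert, Finset.coe_singleton, Set.mem_insert_iff, Set.mem_singleton_iff]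
    have hq' : π ((g * x)⁻¹ * (x * g)) = 1 := by
      rw [map_mul, map_inv, inv_mul_eq_one, map_mul, map_mul]; exact hq
    rw [hker] at hq'
    rcases center_cases hz hzc hxc hcent hq' with h1 | h1
    · -- g commutes with x
      have hgx : g * x = x * g := by
        rw [inv_mul_eq_one] at h1; exact h1
      rcases hcent g hgx with rfl | rfl | rfl | rfl
      · left; exact map_one π
      · right; left; rfl
      · left; exact hπz
      · right; left
        rw [map_mul, hπz, mul_one]
    · -- x * g = g * x * z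
      have hg : x * g = g * x * z := by
        rw [inv_mul_eq_iff_eq_mul] at h1; exact h1
      have hh := hh₀ g hg
      -- c = h₀⁻¹ * g commutes with x
      have hxh : x * h₀⁻¹ = h₀⁻¹ * x * z := by
        have h3 : h₀⁻¹ * (x * h₀) * h₀⁻¹ = h₀⁻¹ * (h₀ * x * z) * h₀⁻¹ := by rw [hh]
        have e1 : h₀⁻¹ * (x * h₀) * h₀⁻¹ = h₀⁻¹ * x := by group
        have e2 : h₀⁻¹ * (h₀ * x * z) * h₀⁻¹ = x * h₀⁻¹ * z := by
          rw [mul_assoc x h₀⁻¹ z, hzcomm h₀⁻¹]; group
        rw [e1, e2] at h3
        rw [h3, mul_assoc, hz2, mul_one]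
      have hc : (h₀⁻¹ * g) * x = x * (h₀⁻¹ * g) := by
        calc h₀⁻¹ * g * x = h₀⁻¹ * (g * x) * (z * z) := by rw [hz2, mul_one, mul_assoc]
          _ = h₀⁻¹ * (g * x * z) * z := by simp only [mul_assoc]
          _ = h₀⁻¹ * (x * g) * z := by rw [hg]
          _ = h₀⁻¹ * x * (g * z) := by simp only [mul_assoc]
          _ = h₀⁻¹ * x * (z * g) := by rw [hzcomm g]
          _ = (h₀⁻¹ * x * z) * g := by simp only [mul_assoc]
          _ = x * h₀⁻¹ * g := by rw [hxh]
          _ = x * (h₀⁻¹ * g) := by rw [mul_assoc]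
      have hgeq : ∀ c : S, h₀⁻¹ * g = c → π g = π h₀ * π c := by
        intro c hc'
        rw [← map_mul, ← hc', mul_inv_cancel_left]
      rcases hcent _ hc with h | h | h | h
      · right; right; left
        rw [hgeq _ h, map_one, mul_one]
      · right; right; right
        rw [hgeq _ h]
      · right; right; left
        rw [hgeq _ h, hπz, mul_one]
      · right; right; right
        rw [hgeq _ h, map_mul, hπz, mul_one]
  calc Nat.card (Subgroup.centralizer ({π x} : Set Q))
      = ((Subgroup.centralizer ({π x} : Set Q) : Subgroup Q) : Set Q).ncard := by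
        rw [← Nat.card_coe_set_eq]; rfl
    _ ≤ (T : Set Q).ncard :=
        Set.ncard_le_ncard hsub (Finset.finite_toSet _)
    _ = T.card := Set.ncard_coe_finset _
    _ ≤ 4 := Finset.card_le_four

/-- Lifting an element of order `2^(m-1)` of the central quotient to an element of order `2^m`. -/
theorem lift_order {Q : Type*} [Group Q] [Finite Q] (π : S →* Q)
    (hsurj : Function.Surjective π) (hker : ∀ g : S, π g = 1 ↔ g ∈ Subgroup.center S)
    (hx : orderOf x = 2) (hz : orderOf z = 2) (hzc : z ∈ Subgroup.center S)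
    (hxc : x ∉ Subgroup.center S)
    (hcent : ∀ c : S, c * x = x * c → c = 1 ∨ c = x ∨ c = z ∨ c = x * z)
    (m : ℕ) (hm : 3 ≤ m) (hQ : Nat.card Q = 2 ^ m) (b : Q) (hb : orderOf b = 2 ^ (m - 1)) :
    ∃ a : S, orderOf a = 2 ^ m := by
  have hz2 : z * z = 1 := by rw [← pow_two, ← hz, pow_orderOf_eq_one]
  have hzcomm : ∀ g : S, g * z = z * g := fun g => Subgroup.mem_center_iff.mp hzc g
  have hz1 : z ≠ 1 := by
    intro h; rw [h, orderOf_one] at hz; omega
  obtain ⟨a, rfl⟩ := hsurj b
  refine ⟨a, ?_⟩
  have hpow : a ^ 2 ^ (m - 1) ∈ Subgroup.center S := by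
    rw [← hker, map_pow, ← hb, pow_orderOf_eq_one]
  rcases center_cases hz hzc hxc hcent hpow with h1 | h1
  · -- the bad case: derive a contradiction
    exfalso
    -- the cyclic subgroup generated by `π a` has index two, hence is normal
    have hidx : (Subgroup.zpowers (π a)).index = 2 := by
      have h := Subgroup.index_mul_card (Subgroup.zpowers (π a))
      rw [Nat.card_zpowers, hb, hQ] at h
      have h2 : (2 : ℕ) ^ m = 2 * 2 ^ (m - 1) := by
        rw [← pow_succ']; congr 1; omega
      rw [h2] at h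
      exact Nat.eq_of_mul_eq_mul_right (by positivity) h
    haveI : (Subgroup.zpowers (π a)).Normal := Subgroup.normal_of_index_eq_two hidx
    have hmem : π x * π a * (π x)⁻¹ ∈ Subgroup.zpowers (π a) :=
      Subgroup.Normal.conj_mem inferInstance _ (Subgroup.mem_zpowers _) _
    obtain ⟨k, hk⟩ := Subgroup.mem_zpowers_iff.mp hmem
    -- write `x a x⁻¹ = A ζ` with `A` a power of `a` and `ζ` central
    obtain ⟨A, hA⟩ : ∃ A : S, A = a ^ k := ⟨_, rfl⟩
    obtain ⟨ζ, hζ⟩ : ∃ ζ : S, ζ = A⁻¹ * (x * a * x⁻¹) := ⟨_, rfl⟩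
    have hAa : A * a = a * A := by
      rw [hA]; exact ((Commute.refl a).zpow_left k).eq
    have hζc : ζ ∈ Subgroup.center S := by
      rw [← hker, hζ, map_mul, map_inv, hA, map_zpow, hk, map_mul, map_mul, map_inv, inv_mul_cancel]
    have hζcomm : ∀ g : S, g * ζ = ζ * g := fun g => Subgroup.mem_center_iff.mp hζc g
    have hζ2 : ζ * ζ = 1 := by
      rcases center_cases hz hzc hxc hcent hζc with h | h
      · rw [h, mul_one]
      · rw [h, hz2]
    have hconj : x * a * x⁻¹ = A * ζ := by
      rw [hζ, mul_inv_cancel_left]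
    have hcomm : a * (x * a * x⁻¹) = x * a * x⁻¹ * a := by
      rw [hconj, ← mul_assoc, ← hAa, mul_assoc, mul_assoc, hζcomm a]
    have hw := sq_conj_mul hx hz hzc hcent hcomm
    rw [hconj] at hw
    -- hence `A * A = (a * a)⁻¹`
    have hBB : (A * a) * (A * a) = 1 := by
      have e1 : A * ζ * a = A * a * ζ := by rw [mul_assoc, ← hζcomm a, ← mul_assoc]
      rw [e1] at hw
      calc (A * a) * (A * a) = (A * a) * (A * a) * (ζ * ζ) := by rw [hζ2, mul_one]
        _ = (A * a * ζ) * (A * a * ζ) := by
            rw [mul_assoc (A * a) ζ, ← mul_assoc ζ, ← hζcomm (A * a)]; simp only [mul_assoc]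
        _ = 1 := hw
    have hAA : A * A * (a * a) = 1 := by
      calc A * A * (a * a) = A * (A * a) * a := by simp only [mul_assoc]
        _ = A * (a * A) * a := by rw [hAa]
        _ = (A * a) * (A * a) := by simp only [mul_assoc]
        _ = 1 := hBB
    -- conjugation by `x` inverts `a * a`
    have hinv : x * (a * a) * x⁻¹ = (a * a)⁻¹ := by
      have e1 : x * (a * a) * x⁻¹ = (x * a * x⁻¹) * (x * a * x⁻¹) := by group
      rw [e1, hconj]
      have e2 : A * ζ * (A * ζ) = A * A := by
        calc A * ζ * (A * ζ) = A * (ζ * A) * ζ := by simp only [mul_assoc]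
          _ = A * (A * ζ) * ζ := by rw [hζcomm A]
          _ = A * A * (ζ * ζ) := by simp only [mul_assoc]
          _ = A * A := by rw [hζ2, mul_one]
      rw [e2]
      exact eq_inv_of_mul_eq_one_left hAA
    -- the involution `u` of `⟨a⟩` commutes with `x`
    obtain ⟨u, hu⟩ : ∃ u : S, u = a ^ 2 ^ (m - 2) := ⟨_, rfl⟩
    have hu' : u = (a * a) ^ 2 ^ (m - 3) := by
      rw [hu, ← pow_two, ← pow_mul, ← pow_succ']; congr 2; omega
    have huu : u * u = 1 := by
      rw [hu, ← pow_add, ← two_mul, ← pow_succ']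
      have : m - 2 + 1 = m - 1 := by omega
      rw [this, h1]
    have hux : u * x = x * u := by
      have e1 : x * u * x⁻¹ = u⁻¹ := by
        rw [hu', ← conj_pow, hinv, inv_pow]
      have e2 : u⁻¹ = u := inv_eq_of_mul_eq_one_left huu
      rw [e2] at e1
      calc u * x = (x * u * x⁻¹) * x := by rw [e1]
        _ = x * u := by group
    -- but `u` is not central
    have huc : u ∉ Subgroup.center S := by
      rw [← hker, hu, map_pow]
      apply pow_ne_one_of_lt_orderOf (by positivity)
      rw [hb]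
      apply Nat.pow_lt_pow_right (by norm_num); omega
    have hua : a * u = u * a := by
      rw [hu]; exact ((Commute.refl a).pow_right _).eq
    have hax : a * x = x * a := by
      rcases hcent u hux with h | h | h | h
      · exact absurd (h ▸ Subgroup.one_mem _) huc
      · rw [← h]; exact hua
      · exact absurd (h ▸ hzc) huc
      · have hxu : x = u * z := by rw [h, mul_assoc, hz2, mul_one]
        rw [hxu]
        calc a * (u * z) = (a * u) * z := (mul_assoc _ _ _).symm
          _ = (u * a) * z := by rw [hua]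
          _ = u * (a * z) := mul_assoc _ _ _
          _ = u * (z * a) := by rw [hzcomm a]
          _ = u * z * a := (mul_assoc _ _ _).symm
    have haa := sq_of_commute hx hz hzc hcent hax
    have : orderOf (π a) ∣ 2 := by
      apply orderOf_dvd_of_pow_eq_one
      rw [pow_two, ← map_mul, haa, map_one]
    rw [hb] at this
    have hle := Nat.le_of_dvd (by norm_num) this
    have : 2 ^ 2 ≤ 2 ^ (m - 1) := Nat.pow_le_pow_right (by norm_num) (by omega)
    omega
  · -- the good case
    have hne : ¬ a ^ 2 ^ (m - 1) = 1 := by rw [h1]; exact hz1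
    have h2 : a ^ 2 ^ (m - 1 + 1) = 1 := by
      rw [pow_succ, pow_mul, h1, pow_two, hz2]
    have := orderOf_eq_prime_pow hne h2
    rwa [Nat.sub_add_cancel (by omega)] at this

/-- The action of `x` on a cyclic subgroup of index two. -/
theorem relation [Finite S] (hx : orderOf x = 2) (hz : orderOf z = 2) (hzc : z ∈ Subgroup.center S)
    (hcent : ∀ c : S, c * x = x * c → c = 1 ∨ c = x ∨ c = z ∨ c = x * z)
    (m : ℕ) (hm : 3 ≤ m) (hS : Nat.card S = 2 ^ m) (a : S) (ha : orderOf a = 2 ^ (m - 1)) :
    x ∉ Subgroup.zpowers a ∧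
      (x * a * x⁻¹ = a⁻¹ ∨ (4 ≤ m ∧ x * a * x⁻¹ = a ^ (2 ^ (m - 2) - 1))) := by
  have h4 : 2 ^ 2 ≤ 2 ^ (m - 1) := Nat.pow_le_pow_right (by norm_num) (by omega)
  -- `a` does not commute with `x`
  have hnc : a * x ≠ x * a := by
    intro hax
    have haa := sq_of_commute hx hz hzc hcent hax
    have : orderOf a ∣ 2 := by
      apply orderOf_dvd_of_pow_eq_one
      rw [pow_two, haa]
    rw [ha] at this
    have hle := Nat.le_of_dvd (by norm_num) this
    omega
  have hxa : x ∉ Subgroup.zpowers a := by
    intro hmem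
    obtain ⟨j, hj⟩ := Subgroup.mem_zpowers_iff.mp hmem
    apply hnc
    rw [← hj]; exact ((Commute.refl a).zpow_right j).eq
  refine ⟨hxa, ?_⟩
  -- the cyclic subgroup generated by `a` has index two, hence is normal
  have hidx : (Subgroup.zpowers a).index = 2 := by
    have h := Subgroup.index_mul_card (Subgroup.zpowers a)
    rw [Nat.card_zpowers, ha, hS] at h
    have h2 : (2 : ℕ) ^ m = 2 * 2 ^ (m - 1) := by
      rw [← pow_succ']; congr 1; omega
    rw [h2] at h
    exact Nat.eq_of_mul_eq_mul_right (by positivity) h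
  haveI : (Subgroup.zpowers a).Normal := Subgroup.normal_of_index_eq_two hidx
  have hmem : x * a * x⁻¹ ∈ Subgroup.zpowers a :=
    Subgroup.Normal.conj_mem inferInstance _ (Subgroup.mem_zpowers _) _
  obtain ⟨k, hk⟩ := Subgroup.mem_zpowers_iff.mp hmem
  have hcomm : a * (x * a * x⁻¹) = x * a * x⁻¹ * a := by
    rw [← hk]; exact ((Commute.refl a).zpow_right k).eq
  have hw := sq_conj_mul hx hz hzc hcent hcomm
  rw [← hk] at hw
  have hw' : a ^ (2 * (k + 1)) = 1 := by
    rw [two_mul, zpow_add, zpow_add_one]; exact hw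
  rw [← orderOf_dvd_iff_zpow_eq_one, ha] at hw'
  have h2 : ((2 ^ (m - 1) : ℕ) : ℤ) = 2 * ((2 ^ (m - 2) : ℕ) : ℤ) := by
    have : (2 : ℕ) ^ (m - 1) = 2 * 2 ^ (m - 2) := by rw [← pow_succ']; congr 1; omega
    rw [this]; push_cast; ring
  rw [h2] at hw'
  have hdvd : ((2 ^ (m - 2) : ℕ) : ℤ) ∣ k + 1 := by
    exact (mul_dvd_mul_iff_left (by norm_num)).mp hw'
  obtain ⟨i, hi⟩ := hdvd
  obtain ⟨v, hv⟩ : ∃ v : S, v = a ^ 2 ^ (m - 2) := ⟨_, rfl⟩
  have hvv : v * v = 1 := by
    rw [hv, ← pow_add, ← two_mul, ← pow_succ']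
    have : m - 2 + 1 = m - 1 := by omega
    rw [this, ← ha, pow_orderOf_eq_one]
  have hk' : x * a * x⁻¹ = v ^ i * a⁻¹ := by
    have : k = (2 ^ (m - 2) : ℕ) * i - 1 := by omega
    rw [← hk, this, zpow_sub_one, zpow_mul, zpow_natCast, ← hv]
  rcases Int.even_or_odd' i with ⟨j, hj | hj⟩
  · left
    rw [hk', hj, zpow_mul, zpow_two, hvv, one_zpow, one_mul]
  · right
    have hcase : x * a * x⁻¹ = a ^ (2 ^ (m - 2) - 1) := by
      rw [hk', hj, zpow_add_one, zpow_mul, zpow_two, hvv, one_zpow, one_mul, hv]
      have hpos : 1 ≤ 2 ^ (m - 2) := Nat.one_le_two_pow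
      rw [eq_comm, ← mul_inv_eq_iff_eq_mul, inv_inv, ← pow_succ, Nat.sub_add_cancel hpos]
    refine ⟨?_, hcase⟩
    by_contra hm4
    have hm3 : m = 3 := by omega
    subst hm3
    apply hnc
    norm_num at hcase
    calc a * x = (x * a * x⁻¹) * x := by rw [hcase]
      _ = x * a := by group


end setup

section iso

variable {S : Type*} [Group S]

/-- The homomorphism `i ↦ a ^ i` from `ZMod n`, for `a ^ n = 1`. -/
noncomputable def powHom (n : ℕ) (a : S) (han : a ^ n = 1) : ZMod n →+ Additive S :=
  ZMod.lift n ⟨zmultiplesHom (Additive S) (Additive.ofMul a), by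
    show (n : ℤ) • Additive.ofMul a = 0
    rw [natCast_zsmul, ← ofMul_pow, han, ofMul_one]⟩

theorem powHom_intCast (n : ℕ) (a : S) (han : a ^ n = 1) (k : ℤ) :
    (powHom n a han (k : ZMod n)).toMul = a ^ k := by
  rw [powHom, ZMod.lift_coe]
  show (k • Additive.ofMul a).toMul = a ^ k
  rw [← ofMul_zpow, toMul_ofMul]

theorem powHom_mem (n : ℕ) (a : S) (han : a ^ n = 1) (i : ZMod n) :
    (powHom n a han i).toMul ∈ Subgroup.zpowers a := by
  obtain ⟨k, rfl⟩ := ZMod.intCast_surjective i
  rw [powHom_intCast]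
  exact Subgroup.zpow_mem_zpowers a k

theorem powHom_eq_one (a : S) (i : ZMod (orderOf a)) 
    (h : (powHom (orderOf a) a (pow_orderOf_eq_one a) i).toMul = 1) : i = 0 := by
  obtain ⟨k, rfl⟩ := ZMod.intCast_surjective i
  rw [powHom_intCast, ← orderOf_dvd_iff_zpow_eq_one] at h
  exact (ZMod.intCast_zmod_eq_zero_iff_dvd k (orderOf a)).mpr h

theorem powHom_add (n : ℕ) (a : S) (han : a ^ n = 1) (i j : ZMod n) :
    (powHom n a han (i + j)).toMul = (powHom n a han i).toMul * (powHom n a han j).toMul := by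
  rw [map_add, toMul_add]

theorem powHom_sub (n : ℕ) (a : S) (han : a ^ n = 1) (i j : ZMod n) :
    (powHom n a han (j - i)).toMul = ((powHom n a han i).toMul)⁻¹ * (powHom n a han j).toMul := by
  rw [sub_eq_neg_add, map_add, toMul_add, map_neg, toMul_neg]

theorem powHom_conj (n : ℕ) (a x : S) (han : a ^ n = 1) (hrel : x * a * x⁻¹ = a⁻¹) (i : ZMod n) :
    x * (powHom n a han i).toMul = ((powHom n a han i).toMul)⁻¹ * x := by
  obtain ⟨k, rfl⟩ := ZMod.intCast_surjective i
  rw [powHom_intCast]
  have : x * a ^ k * x⁻¹ = (a ^ k)⁻¹ := by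
    rw [← conj_zpow, hrel, inv_zpow]
  rw [← this]; group

theorem powHom_conj' (n : ℕ) (a x : S) (han : a ^ n = 1) (hrel : x * a * x⁻¹ = a⁻¹) (i : ZMod n) :
    (powHom n a han i).toMul * x = x * ((powHom n a han i).toMul)⁻¹ := by
  have h := powHom_conj n a x han hrel i
  rw [eq_mul_inv_iff_mul_eq, mul_assoc, h, mul_inv_cancel_left]

/-- The homomorphism from the dihedral group determined by `a` and an involution `x` inverting it. -/
noncomputable def dihedralHom (n : ℕ) (a x : S) (han : a ^ n = 1) (hx2 : x * x = 1)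
    (hrel : x * a * x⁻¹ = a⁻¹) : DihedralGroup n →* S where
  toFun
    | .r i => (powHom n a han i).toMul
    | .sr i => x * (powHom n a han i).toMul
  map_one' := by
    show (powHom n a han 0).toMul = 1
    rw [map_zero, toMul_zero]
  map_mul' := by
    rintro (i | i) (j | j)
    · show (powHom n a han (i + j)).toMul = _
      rw [powHom_add]
    · show x * (powHom n a han (j - i)).toMul = (powHom n a han i).toMul * (x * (powHom n a han j).toMul)
      rw [powHom_sub, ← mul_assoc, ← mul_assoc, powHom_conj' n a x han hrel i]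
    · show x * (powHom n a han (i + j)).toMul = x * (powHom n a han i).toMul * (powHom n a han j).toMul
      rw [powHom_add, mul_assoc]
    · show (powHom n a han (j - i)).toMul = x * (powHom n a han i).toMul * (x * (powHom n a han j).toMul)
      rw [powHom_sub, powHom_conj n a x han hrel i, mul_assoc, ← mul_assoc x x, hx2, one_mul]

theorem dihedral_iso [Finite S] (a x : S) (hx2 : x * x = 1) (hrel : x * a * x⁻¹ = a⁻¹)
    (hxa : x ∉ Subgroup.zpowers a) (hcard : Nat.card S = 2 * orderOf a) :
    Nonempty (S ≃* DihedralGroup (orderOf a)) := by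
  set f := dihedralHom (orderOf a) a x (pow_orderOf_eq_one a) hx2 hrel with hf
  have hinj : Function.Injective f := by
    rw [injective_iff_map_eq_one]
    rintro (i | i) hy
    · have hy' : (powHom (orderOf a) a (pow_orderOf_eq_one a) i).toMul = 1 := hy
      rw [powHom_eq_one a i hy']; rfl
    · exfalso
      have hy' : x * (powHom (orderOf a) a (pow_orderOf_eq_one a) i).toMul = 1 := hy
      apply hxa
      rw [eq_inv_of_mul_eq_one_left hy']
      exact Subgroup.inv_mem _ (powHom_mem _ _ _ _)
  have hbij : Function.Bijective f := by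
    apply hinj.bijective_of_nat_card_le
    rw [hcard, DihedralGroup.nat_card]
  exact ⟨(MulEquiv.ofBijective f hbij).symm⟩


end iso

universe u

/-- A 2-group of order `2^m ≥ 8` with an involution whose centralizer has order at most four has a
cyclic subgroup of index two. -/
theorem core (m : ℕ) (hm : 3 ≤ m) : ∀ (S : Type u) [Group S] [Finite S] (x : S),
    Nat.card S = 2 ^ m → orderOf x = 2 → Nat.card (Subgroup.centralizer ({x} : Set S)) ≤ 4 →
    ∃ a : S, orderOf a = 2 ^ (m - 1) := by
  induction m, hm using Nat.le_induction with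
  | base =>
    intro S _ _ x hcard hx hC
    haveI : Fact (Nat.Prime 2) := ⟨Nat.prime_two⟩
    have hS : IsPGroup 2 S := IsPGroup.of_card hcard
    obtain ⟨z, hzc, hz, hxc, hcent⟩ := exists_setup hS x hx (by rw [hcard]; norm_num) hC
    exact base_case x (by rw [hcard]; norm_num) hxc
  | succ m hm IH =>
    intro S _ _ x hcard hx hC
    haveI : Fact (Nat.Prime 2) := ⟨Nat.prime_two⟩
    have hS : IsPGroup 2 S := IsPGroup.of_card hcard
    have h8 : 8 ≤ Nat.card S := by
      rw [hcard]
      calc 8 = 2 ^ 3 := by norm_num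
        _ ≤ 2 ^ (m + 1) := Nat.pow_le_pow_right (by norm_num) (by omega)
    obtain ⟨z, hzc, hz, hxc, hcent⟩ := exists_setup hS x hx h8 hC
    have hker : ∀ g : S, QuotientGroup.mk' (Subgroup.center S) g = 1 ↔ g ∈ Subgroup.center S := by
      intro g; rw [QuotientGroup.mk'_apply, QuotientGroup.eq_one_iff]
    have hQ := card_quotient_center hz hzc hxc hcent hcard
    have hxQ : orderOf (QuotientGroup.mk' (Subgroup.center S) x) = 2 := orderOf_mk_eq_two hx hxc
    have hCQ := card_centralizer_image_le (QuotientGroup.mk' (Subgroup.center S))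
      (QuotientGroup.mk'_surjective _) hker hz hzc hxc hcent
    obtain ⟨b, hb⟩ := IH (S ⧸ Subgroup.center S) _ hQ hxQ hCQ
    exact lift_order (QuotientGroup.mk' (Subgroup.center S)) (QuotientGroup.mk'_surjective _) hker
      hx hz hzc hxc hcent m hm hQ b hb

/-- A finite 2-group containing an involution whose centralizer has order 4 is dihedral, quasi-dihedral (semidihedral), or of order 4. -/
theorem result {S : Type*} [Group S] [Finite S] (hS : IsPGroup 2 S)
    (x : S) (hx : orderOf x = 2) (hC : Nat.card ↥(Subgroup.centralizer ({x} : Set S)) = 4) :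
    (∃ n : ℕ, Nonempty (S ≃* DihedralGroup n)) ∨ Cfsg.IsQuasiDihedral S ∨ Nat.card S = 4 := by
  haveI : Fact (Nat.Prime 2) := ⟨Nat.prime_two⟩
  obtain ⟨m, hm⟩ := IsPGroup.iff_card.mp hS
  have hle : Nat.card (Subgroup.centralizer ({x} : Set S)) ≤ Nat.card S :=
    Subgroup.card_le_card_group _
  rw [hC, hm] at hle
  have hm2 : 2 ≤ m := by
    by_contra h
    have : m ≤ 1 := by omega
    have : 2 ^ m ≤ 2 ^ 1 := Nat.pow_le_pow_right (by norm_num) this
    omega
  rcases Nat.eq_or_lt_of_le hm2 with h2 | h3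
  · right; right; rw [hm, ← h2]; norm_num
  · have hm3 : 3 ≤ m := h3
    obtain ⟨a, ha⟩ := core m hm3 S x hm hx hC.le
    have h8 : 8 ≤ Nat.card S := by
      rw [hm]
      calc 8 = 2 ^ 3 := by norm_num
        _ ≤ 2 ^ m := Nat.pow_le_pow_right (by norm_num) hm3
    obtain ⟨z, hzc, hz, hxc, hcent⟩ := exists_setup hS x hx h8 hC.le
    obtain ⟨hxa, hrel⟩ := relation hx hz hzc hcent m hm3 hm a ha
    have hx2 : x * x = 1 := by rw [← pow_two, ← hx, pow_orderOf_eq_one]
    rcases hrel with hrel | ⟨hm4, hrel⟩
    · left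
      refine ⟨orderOf a, dihedral_iso a x hx2 hrel hxa ?_⟩
      rw [hm, ha, ← pow_succ']; congr 1; omega
    · right; left
      refine ⟨m - 1, by omega, ?_, a, x, ha, hx, ?_⟩
      · rw [hm]; congr 1; omega
      · have : m - 1 - 1 = m - 2 := by omega
        rw [this]; exact hrel

end Cfsg.Agent.S3224
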