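import Cfsg.Statements.S1193
import Cfsg.Agent.Helper20.QD4
import Cfsg.Agent.Helper2.Basic
import Cfsg.Agent.S3224

set_option autoImplicit false
open Cfsg

namespace Cfsg.Agent.S1193

open Cfsg.Agent.Helper20

variable {S : Type*} [Group S] {k : ℕ} {x y : S}

theorem orderOf_xsq (h : QDData S k x y) : orderOf (x ^ (2 : ℤ)) = 2 ^ (k + 2) := by
  have : x ^ (2 : ℤ) = x ^ (2 : ℕ) := by norm_cast
  rw [this, orderOf_pow' x (by norm_num), h.ox]
  have hg : Nat.gcd (2 ^ (k + 3)) 2 = 2 := by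
    apply Nat.gcd_eq_right
    exact ⟨2 ^ (k + 2), by ring⟩
  rw [hg]
  have : 2 ^ (k + 3) = 2 ^ (k + 2) * 2 := by ring
  rw [this, Nat.mul_div_cancel _ (by norm_num)]

theorem center_eq (h : QDData S k x y) : Subgroup.center S = Subgroup.zpowers (x ^ (4 * 2 ^ k : ℤ)) := by
  apply le_antisymm
  · intro s hs
    rw [Subgroup.mem_center_iff] at hs
    rcases h.cases s with ⟨i, rfl⟩ | ⟨i, rfl⟩
    · have h1 := hs (x ^ (0 : ℤ) * y)
      obtain ⟨d, rfl⟩ := (h.xpow_comm_xpow_y_iff i 0).mp h1.symm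
      rw [Subgroup.mem_zpowers_iff]
      exact ⟨d, by rw [← zpow_mul]⟩
    · exfalso
      have h1 := hs (x ^ (1 : ℤ))
      obtain ⟨d, hd⟩ := (h.xpow_comm_xpow_y_iff 1 i).mp h1
      have : (4 : ℤ) ∣ 1 := ⟨2 ^ k * d, by linarith⟩
      omega
  · rw [Subgroup.zpowers_le, Subgroup.mem_center_iff]
    intro g
    exact h.z_central g

theorem card_center (h : QDData S k x y) : Nat.card (Subgroup.center S) = 2 := by
  rw [center_eq h, Nat.card_zpowers]
  exact (h.involution_iff _).mpr (Or.inl rfl)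

theorem closure_involutions (h : QDData S k x y) :
    Subgroup.closure {s : S | orderOf s = 2} = h.maxSub 0 := by
  apply le_antisymm
  · rw [Subgroup.closure_le]
    intro s hs
    rcases (h.involution_iff s).mp hs with rfl | ⟨c, rfl⟩
    · exact (h.xpow_mem_maxSub 0 _).mpr ⟨2 * 2 ^ k, by ring⟩
    · exact (h.xpow_y_mem_maxSub 0 _).mpr ⟨c, by ring⟩
  · have hy : ∀ c : ℤ, x ^ (2 * c) * y ∈ Subgroup.closure {s : S | orderOf s = 2} := by
      intro c
      apply Subgroup.subset_closure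
      exact (h.involution_iff _).mpr (Or.inr ⟨c, rfl⟩)
    rintro s (⟨c, rfl⟩ | ⟨c, rfl⟩)
    · have : x ^ (2 * c) = (x ^ (2 * c) * y) * (x ^ (2 * (0 : ℤ)) * y) := by
        rw [h.xpow_y_mul_xpow_y]; congr 1; ring
      rw [this]
      exact Subgroup.mul_mem _ (hy c) (hy 0)
    · have := hy c
      rwa [add_zero]

theorem card_maxSub [Finite S] (h : QDData S k x y) (ε : ℤ) : Nat.card (h.maxSub ε) = 2 ^ (k + 3) := by
  have h1 := Subgroup.card_mul_index (h.maxSub ε)
  rw [h.index_maxSub, h.card] at h1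
  have : 2 ^ (k + 4) = 2 ^ (k + 3) * 2 := by ring
  rw [this] at h1
  exact Nat.eq_of_mul_eq_mul_right (by norm_num) h1

theorem maxSub_zero_iso [Finite S] (h : QDData S k x y) :
    Nonempty (↥(h.maxSub 0) ≃* DihedralGroup (2 ^ (k + 2))) := by
  have hxm : x ^ (2 : ℤ) ∈ h.maxSub 0 := (h.xpow_mem_maxSub 0 2).mpr ⟨1, by ring⟩
  have hym : y ∈ h.maxSub 0 := by
    have := (h.xpow_y_mem_maxSub 0 0).mpr ⟨0, by ring⟩
    rwa [zpow_zero, one_mul] at this
  set a : ↥(h.maxSub 0) := ⟨x ^ (2 : ℤ), hxm⟩ with ha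
  set b : ↥(h.maxSub 0) := ⟨y, hym⟩ with hb
  have hoa : orderOf a = 2 ^ (k + 2) := by
    rw [← orderOf_xsq h]
    exact (Subgroup.orderOf_coe a).symm
  have hb2 : b * b = 1 := Subtype.ext h.y_sq
  have hrel : b * a * b⁻¹ = a⁻¹ := by
    apply Subtype.ext
    show y * x ^ (2 : ℤ) * y⁻¹ = (x ^ (2 : ℤ))⁻¹
    rw [h.conj_xpow, ← zpow_neg, h.xpow_eq_iff]
    exact ⟨1, by ring⟩
  have hba : b ∉ Subgroup.zpowers a := by
    intro hmem
    obtain ⟨i, hi⟩ := Subgroup.mem_zpowers_iff.mp hmem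
    have h1 : (x ^ (2 : ℤ)) ^ i = y := by
      have := congrArg Subtype.val hi
      rwa [Subgroup.coe_zpow] at this
    rw [← zpow_mul] at h1
    have := h.xpow_ne_xpow_y (2 * i) 0
    rw [zpow_zero, one_mul] at this
    exact this h1
  have hcard : Nat.card ↥(h.maxSub 0) = 2 * orderOf a := by
    rw [card_maxSub h, hoa]; ring
  have := Cfsg.Agent.S3224.dihedral_iso a b hb2 hrel hba hcard
  rwa [hoa] at this

/-- Let S be quasi-dihedral of order 2^(n+1). Then S' = Φ(S) is cyclic of order 2^(n-1), the centre of S has order 2, and the subgroup generated by the involutions of S is dihedral of order 2^n. -/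
theorem result {S : Type*} [Group S] [Finite S] (hS : Cfsg.IsQuasiDihedral S) (n : ℕ) (hn : Nat.card S = 2 ^ (n + 1)) : commutator S = frattini S ∧ IsCyclic (commutator S) ∧ Nat.card (commutator S) = 2 ^ (n - 1) ∧ Nat.card (Subgroup.center S) = 2 ∧ Nonempty (↥(Subgroup.closure {x : S | orderOf x = 2}) ≃* DihedralGroup (2 ^ (n - 1))) := by
  obtain ⟨k, x, y, h⟩ := exists_qdData hS
  have hnk : n = k + 3 := by
    have h1 := h.card
    rw [hn] at h1
    have := Nat.pow_right_injective (le_refl 2) h1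
    omega
  subst hnk
  have hn1 : k + 3 - 1 = k + 2 := by omega
  rw [hn1]
  have hprime : Fact (Nat.Prime 2) := ⟨Nat.prime_two⟩
  have hp : IsPGroup 2 S := IsPGroup.of_card h.card
  have hnil : Group.IsNilpotent S := hp.isNilpotent
  refine ⟨?_, ?_, ?_, card_center h, ?_⟩
  · apply le_antisymm Cfsg.Agent.Helper2.commutator_le_frattini
    intro s hs
    have h1 : s ∈ Subgroup.zpowers x := frattini_le_coatom h.isCoatom_zpowers hs
    have h2 : s ∈ h.maxSub 0 := frattini_le_coatom (h.isCoatom_maxSub 0) hs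
    obtain ⟨i, rfl⟩ := Subgroup.mem_zpowers_iff.mp h1
    rw [h.xpow_mem_maxSub] at h2
    obtain ⟨c, rfl⟩ := h2
    exact (h.mem_commutator_iff _).mpr ⟨c, rfl⟩
  · rw [h.commutator_eq]
    infer_instance
  · rw [h.commutator_eq, Nat.card_zpowers, orderOf_xsq h]
  · rw [closure_involutions h]
    exact maxSub_zero_iso h

end Cfsg.Agent.S1193
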