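import Cfsg.Statements.S1192
import Cfsg.Agent.Helper20.QD4
import Cfsg.Agent.Helper20.QuatIso
import Cfsg.Agent.Helper2.Basic
import Cfsg.Agent.S1193

set_option autoImplicit false
open Cfsg

namespace Cfsg.Agent.S1192

open Cfsg.Agent.Helper20

variable {S : Type*} [Group S] {k : ℕ} {x y : S}

theorem maxSub_one_iso [Finite S] (h : QDData S k x y) :
    Nonempty (↥(h.maxSub 1) ≃* QuaternionGroup (2 ^ (k + 1))) := by
  have hxm : x ^ (2 : ℤ) ∈ h.maxSub 1 := (h.xpow_mem_maxSub 1 2).mpr ⟨1, by ring⟩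
  have hym : x ^ (1 : ℤ) * y ∈ h.maxSub 1 := (h.xpow_y_mem_maxSub 1 1).mpr ⟨0, by ring⟩
  set a : ↥(h.maxSub 1) := ⟨x ^ (2 : ℤ), hxm⟩ with ha
  set b : ↥(h.maxSub 1) := ⟨x ^ (1 : ℤ) * y, hym⟩ with hb
  have hoa : orderOf a = 2 * 2 ^ (k + 1) := by
    have : orderOf a = orderOf (x ^ (2 : ℤ)) := (Subgroup.orderOf_coe a).symm
    rw [this, Cfsg.Agent.S1193.orderOf_xsq h]; ring
  have hb2 : b * b = a ^ (2 ^ (k + 1)) := by
    apply Subtype.ext
    show (x ^ (1 : ℤ) * y) * (x ^ (1 : ℤ) * y) = ((a ^ (2 ^ (k + 1)) : ↥(h.maxSub 1)) : S)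
    rw [Subgroup.coe_pow, h.xpow_y_sq]
    show x ^ (4 * 2 ^ k * 1 : ℤ) = (x ^ (2 : ℤ)) ^ (2 ^ (k + 1))
    rw [← zpow_natCast, ← zpow_mul]
    congr 1
    push_cast
    ring
  have hrel : b * a * b⁻¹ = a⁻¹ := by
    apply Subtype.ext
    show (x ^ (1 : ℤ) * y) * x ^ (2 : ℤ) * (x ^ (1 : ℤ) * y)⁻¹ = (x ^ (2 : ℤ))⁻¹
    rw [h.xpow_mul_y_mul_xpow, h.xpow_y_inv, h.xpow_y_mul_xpow_y, ← zpow_neg, h.xpow_eq_iff]
    exact ⟨2 - 2 * 2 ^ k, by ring⟩
  have hba : b ∉ Subgroup.zpowers a := by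
    intro hmem
    obtain ⟨i, hi⟩ := Subgroup.mem_zpowers_iff.mp hmem
    have h1 : (x ^ (2 : ℤ)) ^ i = x ^ (1 : ℤ) * y := by
      have := congrArg Subtype.val hi
      rwa [Subgroup.coe_zpow] at this
    rw [← zpow_mul] at h1
    exact h.xpow_ne_xpow_y (2 * i) 1 h1
  have hcard : Nat.card ↥(h.maxSub 1) = 4 * 2 ^ (k + 1) := by
    rw [Cfsg.Agent.S1193.card_maxSub h]; ring
  exact quaternion_iso (2 ^ (k + 1)) a b hoa hb2 hrel hba hcard

theorem coatom_cases [Finite S] (h : QDData S k x y) (M : Subgroup S) (hM : IsCoatom M) :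
    M = Subgroup.zpowers x ∨ M = h.maxSub 1 ∨ M = h.maxSub 0 := by
  have hprime : Fact (Nat.Prime 2) := ⟨Nat.prime_two⟩
  have hp : IsPGroup 2 S := IsPGroup.of_card h.card
  have hnil : Group.IsNilpotent S := hp.isNilpotent
  have hcomm : commutator S ≤ M := Cfsg.Agent.Helper2.commutator_le_of_isCoatom M hM
  have hsq : ∀ c : ℤ, x ^ (2 * c) ∈ M := fun c => hcomm (h.xsq_mem_commutator c)
  by_cases hx : x ∈ M
  · left
    have hle : Subgroup.zpowers x ≤ M := by rw [Subgroup.zpowers_le]; exact hx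
    rcases h.isCoatom_zpowers.le_iff.mp hle with h4 | h4
    · exact absurd h4 hM.1
    · exact h4
  by_cases hy : y ∈ M
  · right; right
    have hle : h.maxSub 0 ≤ M := by
      rintro s (⟨c, rfl⟩ | ⟨c, rfl⟩)
      · exact hsq c
      · rw [add_zero]; exact M.mul_mem (hsq c) hy
    rcases (h.isCoatom_maxSub 0).le_iff.mp hle with h4 | h4
    · exact absurd h4 hM.1
    · exact h4
  by_cases hxy : x ^ (1 : ℤ) * y ∈ M
  · right; left
    have hle : h.maxSub 1 ≤ M := by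
      rintro s (⟨c, rfl⟩ | ⟨c, rfl⟩)
      · exact hsq c
      · have : x ^ (2 * c + 1) * y = x ^ (2 * c) * (x ^ (1 : ℤ) * y) := by
          rw [QDData.xpow_mul_xpow_y]
        rw [this]; exact M.mul_mem (hsq c) hxy
    rcases (h.isCoatom_maxSub 1).le_iff.mp hle with h4 | h4
    · exact absurd h4 hM.1
    · exact h4
  · exfalso
    have hle : M ≤ Subgroup.zpowers x := by
      intro s hs
      rcases h.cases s with ⟨i, rfl⟩ | ⟨i, rfl⟩
      · exact Subgroup.zpow_mem_zpowers x i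
      · exfalso
        rcases Int.even_or_odd' i with ⟨d, rfl | rfl⟩
        · apply hy
          have : y = x ^ (2 * (-d)) * (x ^ (2 * d) * y) := by
            rw [QDData.xpow_mul_xpow_y]
            have : 2 * -d + 2 * d = 0 := by ring
            rw [this, zpow_zero, one_mul]
          rw [this]; exact M.mul_mem (hsq _) hs
        · apply hxy
          have : x ^ (1 : ℤ) * y = x ^ (2 * (-d)) * (x ^ (2 * d + 1) * y) := by
            rw [QDData.xpow_mul_xpow_y]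
            congr 2; ring
          rw [this]; exact M.mul_mem (hsq _) hs
    rcases hM.le_iff.mp hle with h4 | h4
    · exact h.isCoatom_zpowers.1 h4
    · apply hx
      rw [← h4]
      exact Subgroup.mem_zpowers x

/-- A quasi-dihedral group S of order 2^(n+1) has exactly three maximal subgroups; one is cyclic, one is isomorphic to the generalized quaternion group of order 2^n and one to the dihedral group of order 2^n. -/
theorem result {S : Type*} [Group S] [Finite S] (hS : Cfsg.IsQuasiDihedral S) (n : ℕ) (hn : Nat.card S = 2 ^ (n + 1)) : ∃ M₁ M₂ M₃ : Subgroup S, IsCoatom M₁ ∧ IsCoatom M₂ ∧ IsCoatom M₃ ∧ M₁ ≠ M₂ ∧ M₁ ≠ M₃ ∧ M₂ ≠ M₃ ∧ (∀ M : Subgroup S, IsCoatom M → M = M₁ ∨ M = M₂ ∨ M = M₃) ∧ IsCyclic M₁ ∧ Nonempty (M₂ ≃* QuaternionGroup (2 ^ (n - 2))) ∧ Nonempty (M₃ ≃* DihedralGroup (2 ^ (n - 1))) := by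
  obtain ⟨k, x, y, h⟩ := exists_qdData hS
  have hnk : n = k + 3 := by
    have h1 := h.card
    rw [hn] at h1
    have := Nat.pow_right_injective (le_refl 2) h1
    omega
  subst hnk
  have hn1 : k + 3 - 1 = k + 2 := by omega
  have hn2 : k + 3 - 2 = k + 1 := by omega
  rw [hn1, hn2]
  refine ⟨Subgroup.zpowers x, h.maxSub 1, h.maxSub 0, h.isCoatom_zpowers, h.isCoatom_maxSub 1,
    h.isCoatom_maxSub 0, h.zpowers_ne_maxSub 1, h.zpowers_ne_maxSub 0, h.maxSub_ne.symm,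
    fun M hM => coatom_cases h M hM, inferInstance, maxSub_one_iso h,
    Cfsg.Agent.S1193.maxSub_zero_iso h⟩

end Cfsg.Agent.S1192
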