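import Cfsg.Statements.S1205
import Cfsg.Agent.Helper20.QD5
import Cfsg.Agent.Helper20.Fusion5
import Cfsg.Agent.Helper20.Quat8b
import Cfsg.Agent.S0111
import Cfsg.Agent.S1192
import Cfsg.Agent.S1193

set_option autoImplicit false
open Cfsg

namespace Cfsg.Agent.S1205

open Cfsg.Agent.Helper20 Subgroup

/-- Let G be a finite group with quasi-dihedral Sylow 2-subgroup S, T a Klein four-subgroup and Q a quaternion subgroup of order 8 of S, with |N_G(T) : C_G(T)| = 2 and |N_G(Q) : Q C_G(Q)| = 6. Then G has a normal subgroup K of index 2 whose Sylow 2-subgroups are generalized quaternion and which has no subgroup of index 2; the centre of S is weakly closed in S; and G has exactly two classes of involutions and one class of elements of order 4. -/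
theorem result {G : Type*} [Group G] [Finite G] (S : Sylow 2 G) (hS : Cfsg.IsQuasiDihedral (S : Subgroup G)) (T : Subgroup G) (hT : IsKleinFour T) (hTS : T ≤ S) (Q : Subgroup G) (hQS : Q ≤ S) (eQ : Q ≃* QuaternionGroup 2) (h₁ : (Subgroup.centralizer (T : Set G)).relIndex (Subgroup.normalizer (T : Set G)) = 2) (h₂ : (Q ⊔ Subgroup.centralizer (Q : Set G)).relIndex (Subgroup.normalizer (Q : Set G)) = 6) : (∃ K : Subgroup G, K.Normal ∧ K.index = 2 ∧ (∀ P : Sylow 2 ↥K, ∃ m : ℕ, 1 ≤ m ∧ Nonempty ((P : Subgroup ↥K) ≃* QuaternionGroup (2 ^ m))) ∧ (∀ H : Subgroup ↥K, H.index ≠ 2)) ∧ Cfsg.IsWeaklyClosed ((Subgroup.center (S : Subgroup G)).map (S : Subgroup G).subtype) (S : Subgroup G) ∧ Nat.card {C : ConjClasses G // ∃ t : G, orderOf t = 2 ∧ ConjClasses.mk t = C} = 2 ∧ Nat.card {C : ConjClasses G // ∃ t : G, orderOf t = 4 ∧ ConjClasses.mk t = C} = 1 := by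
  obtain ⟨k, x, y, h⟩ := exists_qdData hS
  haveI : Fact (Nat.Prime 2) := ⟨Nat.prime_two⟩
  haveI : Fact (Nat.Prime 3) := ⟨Nat.prime_three⟩
  -- `T` inside `S`
  have hT' : IsKleinFour (T.subgroupOf (S : Subgroup G)) :=
    isKleinFour_of_equiv (Subgroup.subgroupOfEquivOfLe hTS) hT
  obtain ⟨hzT', c, hcT', -⟩ := h.kleinFour_structure _ hT'
  obtain ⟨z₀, hz₀def⟩ : ∃ z₀ : (S : Subgroup G), z₀ = x ^ (4 * 2 ^ k : ℤ) := ⟨_, rfl⟩
  have hz₀T : (z₀ : G) ∈ T := mem_subgroupOf.mp (hz₀def ▸ hzT')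
  have hz₀sq : (z₀ : G) * (z₀ : G) = 1 := by
    have := congrArg Subtype.val (hz₀def ▸ h.z_sq : z₀ * z₀ = 1)
    simpa using this
  have hz₀1 : (z₀ : G) ≠ 1 := fun hc => h.z_ne_one (hz₀def ▸ Subtype.ext hc)
  obtain ⟨t₁, ht₁def⟩ : ∃ t₁ : (S : Subgroup G), t₁ = x ^ (2 * c) * y := ⟨_, rfl⟩
  have ht₁T : (t₁ : G) ∈ T := mem_subgroupOf.mp (ht₁def ▸ hcT')
  have ht₁1 : (t₁ : G) ≠ 1 := fun hc => h.xpow_y_ne_one (2 * c) (ht₁def ▸ Subtype.ext hc)
  have ht₁sq : (t₁ : G) * (t₁ : G) = 1 := kleinFour_sq hT ht₁T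
  have hz₀t₁ne : (z₀ : G) ≠ (t₁ : G) := by
    intro hc
    have : z₀ = t₁ := Subtype.ext hc
    rw [hz₀def, ht₁def] at this
    exact h.xpow_ne_xpow_y _ _ this
  have hzc : ∀ s ∈ (S : Subgroup G), s * (z₀ : G) = (z₀ : G) * s := by
    intro s hs
    have := h.z_central ⟨s, hs⟩
    rw [← hz₀def] at this
    exact congrArg Subtype.val this
  -- Part 1: no fusion of the central involution
  have hnz : ¬ IsConj (z₀ : G) (t₁ : G) :=
    not_isConj_of_relIndex_two S T hT hTS h₁ hz₀T ht₁T hz₀1 ht₁1 hz₀t₁ne hzc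
      (fun T' h1 h2 => exists_swap_of_quasiDihedral S hS T' h1 h2)
  have hmapConj : ∀ a b : (S : Subgroup G), IsConj a b → IsConj (a : G) (b : G) := by
    intro a b hab
    have := (S : Subgroup G).subtype.map_isConj hab
    simpa using this
  have hSinv : ∀ t : (S : Subgroup G), orderOf t = 2 → (t : G) = (z₀ : G) ∨ IsConj (t : G) (t₁ : G) := by
    intro t ht
    rcases (h.involution_iff t).mp ht with h' | ⟨c', h'⟩
    · left; rw [h', hz₀def]
    · right
      have h1 : IsConj t t₁ := by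
        rw [h', ht₁def]; exact h.isConj_xpow_y _ _ ⟨c - c', by ring⟩
      exact hmapConj _ _ h1
  -- every 2-element is conjugate into `S`
  have hintoS : ∀ t : G, ∀ e : ℕ, orderOf t = 2 ^ e →
      ∃ t' : (S : Subgroup G), IsConj t (t' : G) ∧ orderOf t' = 2 ^ e := by
    intro t e ht
    have hp : IsPGroup 2 (zpowers t) := by
      apply IsPGroup.of_card (n := e); rw [Nat.card_zpowers, ht]
    obtain ⟨b, hb⟩ := exists_conj_le_sylow S hp
    have hbt : b * t * b⁻¹ ∈ (S : Subgroup G) := hb (conj_mem_map_conj _ b t (mem_zpowers t))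
    refine ⟨⟨b * t * b⁻¹, hbt⟩, isConj_iff.mpr ⟨b, rfl⟩, ?_⟩
    rw [← Subgroup.orderOf_coe]
    show orderOf (b * t * b⁻¹) = 2 ^ e
    rw [← ht]
    exact (MulAut.conj b).orderOf_eq t
  have hz₀o : orderOf (z₀ : G) = 2 := (Cfsg.Agent.Helper20.orderOf_eq_two_iff _).mpr ⟨hz₀sq, hz₀1⟩
  have ht₁o : orderOf (t₁ : G) = 2 := (Cfsg.Agent.Helper20.orderOf_eq_two_iff _).mpr ⟨ht₁sq, ht₁1⟩
  have hcard2 : Nat.card {C : ConjClasses G // ∃ t : G, orderOf t = 2 ∧ ConjClasses.mk t = C} = 2 := by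
    apply card_subtype_eq_two _ (ConjClasses.mk (z₀ : G)) (ConjClasses.mk (t₁ : G))
    · intro hc
      exact hnz (ConjClasses.mk_eq_mk_iff_isConj.mp hc)
    intro C
    constructor
    · rintro ⟨t, ht, rfl⟩
      obtain ⟨t', htt', ht'⟩ := hintoS t 1 (by rw [ht, pow_one])
      rw [pow_one] at ht'
      rcases hSinv t' ht' with h' | h'
      · left
        rw [h'] at htt'
        exact ConjClasses.mk_eq_mk_iff_isConj.mpr htt'
      · right
        exact ConjClasses.mk_eq_mk_iff_isConj.mpr (htt'.trans h')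
    · rintro (rfl | rfl)
      · exact ⟨z₀, hz₀o, rfl⟩
      · exact ⟨t₁, ht₁o, rfl⟩
  -- Step Q
  have h3Q : 3 ∣ (Q ⊔ centralizer (Q : Set G)).relIndex (normalizer (Q : Set G)) := by
    rw [h₂]; norm_num
  obtain ⟨g', hg'N, hg'M, hg'3⟩ := exists_pow_mem_of_prime_dvd_relIndex _ _ h3Q
  obtain ⟨g₂, hg₂def⟩ : ∃ g₂ : G, g₂ = g' * g' := ⟨_, rfl⟩
  have hg₂N : g₂ ∈ normalizer (Q : Set G) := by rw [hg₂def]; exact mul_mem hg'N hg'N
  have hg₂3 : g₂ ^ 3 ∈ Q ⊔ centralizer (Q : Set G) := by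
    have : g₂ ^ 3 = g' ^ 3 * g' ^ 3 := by
      rw [hg₂def, ← pow_two, ← pow_mul, ← pow_add]
    rw [this]; exact mul_mem hg'3 hg'3
  have hg₂M : g₂ ∉ Q ⊔ centralizer (Q : Set G) := by
    intro hc
    apply hg'M
    have : g' = g' ^ 3 * (g' * g')⁻¹ := by group
    rw [this]
    exact mul_mem hg'3 (inv_mem (hg₂def ▸ hc))
  obtain ⟨X, hX⟩ : ∃ X : Subgroup G, X = (zpowers x).map (S : Subgroup G).subtype := ⟨_, rfl⟩
  have hmemX : ∀ s : (S : Subgroup G), (s : G) ∈ X ↔ s ∈ zpowers x := by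
    intro s
    rw [hX]
    constructor
    · rintro ⟨s', hs', hss'⟩
      have : s' = s := Subtype.ext hss'
      rwa [← this]
    · intro hs
      exact ⟨s, hs, rfl⟩
  have hXS : X ≤ S := by
    rw [hX]
    rintro _ ⟨s, -, rfl⟩
    exact s.2
  have hXcomm : ∀ a ∈ X, ∀ b ∈ X, a * b = b * a := by
    intro a ha b hb
    rw [hX] at ha hb
    obtain ⟨a', ha', rfl⟩ := ha
    obtain ⟨b', hb', rfl⟩ := hb
    obtain ⟨i, rfl⟩ := mem_zpowers_iff.mp ha'
    obtain ⟨j, rfl⟩ := mem_zpowers_iff.mp hb'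
    have : (x ^ i * x ^ j : (S : Subgroup G)) = x ^ j * x ^ i := by
      rw [← zpow_add, ← zpow_add, add_comm]
    exact congrArg Subtype.val this
  have hidx : ∀ a ∈ Q, ∀ b ∈ Q, a ∉ X → b ∉ X → a * b ∈ X := by
    intro a ha b hb haX hbX
    have := (Subgroup.mul_mem_iff_of_index_two h.index_zpowers (a := ⟨a, hQS ha⟩)
      (b := ⟨b, hQS hb⟩)).mpr
      (iff_of_false (fun h' => haX ((hmemX _).mpr h')) (fun h' => hbX ((hmemX _).mpr h')))
    exact (hmemX _).mpr this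
  obtain ⟨i, hiQ, hiX, hi2, hiuniq⟩ := exists_order_four_inter Q eQ X hXcomm hidx
  obtain ⟨hmv1, hmv2⟩ := quat_normalizer_moves Q eQ hg₂N hg₂3 hg₂M hiQ hi2
  obtain ⟨cq, -, -, -, -, hcqsq, -, -, hqsq, -⟩ := exists_q8_data Q eQ
  have hfour : ∀ q ∈ Q, (q * q) * (q * q) = 1 := by
    intro q hq
    rcases hqsq q hq with h' | h'
    · rw [h', one_mul]
    · rw [h', hcqsq]
  have hgiQ : g₂ * i * g₂⁻¹ ∈ Q := (mem_normalizer_iff.mp hg₂N i).mp hiQ
  have hgi2 : (g₂ * i * g₂⁻¹) * (g₂ * i * g₂⁻¹) ≠ 1 := by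
    intro hc
    apply hi2
    have : g₂ * (i * i) * g₂⁻¹ = 1 := by rw [← hc]; group
    exact conj_eq_one_imp this
  have hgiX : g₂ * i * g₂⁻¹ ∉ X := fun hc => by
    rcases hiuniq _ hgiQ hc hgi2 with h' | h'
    · exact hmv1 h'
    · exact hmv2 h'
  -- the elements in `S`
  have hi4 : orderOf (⟨i, hQS hiQ⟩ : (S : Subgroup G)) = 4 := by
    rw [orderOf_eq_four_iff]
    exact ⟨Subtype.ext (hfour i hiQ), fun hc => hi2 (congrArg Subtype.val hc)⟩
  have hw4 : orderOf (⟨g₂ * i * g₂⁻¹, hQS hgiQ⟩ : (S : Subgroup G)) = 4 := by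
    rw [orderOf_eq_four_iff]
    exact ⟨Subtype.ext (hfour _ hgiQ), fun hc => hgi2 (congrArg Subtype.val hc)⟩
  obtain ⟨v, hvdef⟩ : ∃ v : (S : Subgroup G), v = x ^ (2 * 2 ^ k : ℤ) := ⟨_, rfl⟩
  have hvinv : IsConj (x ^ (-(2 * 2 ^ k) : ℤ) : (S : Subgroup G)) v := by
    rw [hvdef]; exact h.isConj_xpow_twoP.symm
  -- `i` is `v` or its inverse
  obtain ⟨ei, hei⟩ : ∃ ei : ℤ, (⟨i, hQS hiQ⟩ : (S : Subgroup G)) = x ^ (2 * ei) := by
    rcases (h.order_four_iff _).mp hi4 with h' | h' | ⟨c', h'⟩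
    · exact ⟨2 ^ k, h'⟩
    · exact ⟨-2 ^ k, by rw [h']; congr 1; ring⟩
    · exfalso
      have h1 : (⟨i, hQS hiQ⟩ : (S : Subgroup G)) ∈ zpowers x := (hmemX _).mp hiX
      obtain ⟨j, hj⟩ := mem_zpowers_iff.mp h1
      rw [h'] at hj
      exact h.xpow_ne_xpow_y _ _ hj
  have hiv : IsConj i (v : G) := by
    rcases (h.order_four_iff _).mp hi4 with h' | h' | ⟨c', h'⟩
    · have : i = (v : G) := by rw [hvdef, ← h']
      rw [this]
    · have h1 := hmapConj _ _ hvinv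
      rw [← h'] at h1
      exact h1
    · exfalso
      have h1 : (⟨i, hQS hiQ⟩ : (S : Subgroup G)) ∈ zpowers x := (hmemX _).mp hiX
      obtain ⟨j, hj⟩ := mem_zpowers_iff.mp h1
      rw [h'] at hj
      exact h.xpow_ne_xpow_y _ _ hj
  obtain ⟨c'', hw⟩ : ∃ c'' : ℤ,
      (⟨g₂ * i * g₂⁻¹, hQS hgiQ⟩ : (S : Subgroup G)) = x ^ (2 * c'' + 1) * y := by
    rcases (h.order_four_iff _).mp hw4 with h' | h' | ⟨c', h'⟩
    · exfalso
      apply hgiX
      have : (⟨g₂ * i * g₂⁻¹, hQS hgiQ⟩ : (S : Subgroup G)) ∈ zpowers x := by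
        rw [h']; exact zpow_mem_zpowers x _
      exact (hmemX _).mpr this
    · exfalso
      apply hgiX
      have : (⟨g₂ * i * g₂⁻¹, hQS hgiQ⟩ : (S : Subgroup G)) ∈ zpowers x := by
        rw [h']; exact zpow_mem_zpowers x _
      exact (hmemX _).mpr this
    · exact ⟨c', h'⟩
  have hwv : IsConj (g₂ * i * g₂⁻¹) (v : G) := by
    have h1 : IsConj (g₂ * i * g₂⁻¹) i := by
      rw [isConj_comm]; exact isConj_iff.mpr ⟨g₂, rfl⟩
    exact h1.trans hiv
  have hS4 : ∀ t : (S : Subgroup G), orderOf t = 4 → IsConj (t : G) (v : G) := by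
    intro t ht
    rcases (h.order_four_iff t).mp ht with h' | h' | ⟨c', h'⟩
    · rw [h', hvdef]
    · rw [h']; exact hmapConj _ _ hvinv
    · have h1 : IsConj t (⟨g₂ * i * g₂⁻¹, hQS hgiQ⟩ : (S : Subgroup G)) := by
        rw [h', hw]; exact h.isConj_xpow_y _ _ ⟨c'' - c', by ring⟩
      exact (hmapConj _ _ h1).trans hwv
  have hv4 : orderOf (v : G) = 4 := by
    rw [Subgroup.orderOf_coe]
    exact (h.order_four_iff v).mpr (Or.inl hvdef)
  have hcard4 : Nat.card {C : ConjClasses G // ∃ t : G, orderOf t = 4 ∧ ConjClasses.mk t = C} = 1 := by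
    apply card_subtype_eq_one _ (ConjClasses.mk (v : G))
    intro C
    constructor
    · rintro ⟨t, ht, rfl⟩
      obtain ⟨t', htt', ht'⟩ := hintoS t 2 (by rw [ht]; norm_num)
      have ht'4 : orderOf t' = 4 := by rw [ht']; norm_num
      exact ConjClasses.mk_eq_mk_iff_isConj.mpr (htt'.trans (hS4 t' ht'4))
    · rintro rfl
      exact ⟨v, hv4, rfl⟩
  -- Part 2: Thompson transfer
  obtain ⟨Q₁, hQ₁def⟩ : ∃ Q₁ : Subgroup G, Q₁ = (h.maxSub 1).map (S : Subgroup G).subtype := ⟨_, rfl⟩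
  have hmemQ₁ : ∀ s : (S : Subgroup G), (s : G) ∈ Q₁ ↔ s ∈ h.maxSub 1 := by
    intro s
    rw [hQ₁def]
    constructor
    · rintro ⟨s', hs', hss'⟩
      have : s' = s := Subtype.ext hss'
      rwa [← this]
    · intro hs
      exact ⟨s, hs, rfl⟩
  have hQ₁S : Q₁ ≤ S := by
    rw [hQ₁def]
    rintro _ ⟨s, -, rfl⟩
    exact s.2
  have hQ₁idx : Q₁.relIndex (S : Subgroup G) = 2 := by
    rw [Subgroup.relIndex, hQ₁def, Subgroup.subgroupOf,
      Subgroup.comap_map_eq_self_of_injective (Subgroup.subtype_injective _)]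
    exact h.index_maxSub 1
  have ht₁Q₁ : (t₁ : G) ∉ Q₁ := by
    rw [hmemQ₁, ht₁def, h.xpow_y_mem_maxSub]
    omega
  obtain ⟨K, hKn, hKi, ht₁K⟩ : ∃ K : Subgroup G, K.Normal ∧ K.index = 2 ∧ (t₁ : G) ∉ K := by
    rcases Cfsg.Agent.S0111.result S Q₁ hQ₁S hQ₁idx t₁ ht₁o t₁.2 ht₁Q₁ with hM | ⟨g, hg⟩
    · exact hM
    · exfalso
      apply hnz
      have hgS : g * t₁ * g⁻¹ ∈ (S : Subgroup G) := hQ₁S hg
      have h2 : orderOf (⟨g * t₁ * g⁻¹, hgS⟩ : (S : Subgroup G)) = 2 := by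
        rw [← Subgroup.orderOf_coe]
        show orderOf (g * t₁ * g⁻¹) = 2
        exact ((MulAut.conj g).orderOf_eq _).trans ht₁o
      have h3 := h.involution_maxSub_one _ ((hmemQ₁ _).mp hg) h2
      have h4 : g * t₁ * g⁻¹ = (z₀ : G) := by rw [hz₀def, ← h3]
      rw [isConj_comm, isConj_iff]
      exact ⟨g, h4⟩
  -- Part 3: `K ∩ S`
  have hKS2 : (K.subgroupOf (S : Subgroup G)).index = 2 := by
    have h1 : K.relIndex (S : Subgroup G) ∣ K.index := Subgroup.relIndex_dvd_index_of_normal K S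
    rw [hKi] at h1
    have h2 : K.relIndex (S : Subgroup G) ≠ 1 := by
      intro hc
      rw [Subgroup.relIndex_eq_one] at hc
      exact ht₁K (hc t₁.2)
    rcases (Nat.dvd_prime Nat.prime_two).mp h1 with h' | h'
    · exact absurd h' h2
    · exact h'
  have hKSeq : K.subgroupOf (S : Subgroup G) = h.maxSub 1 := by
    rcases Cfsg.Agent.S1192.coatom_cases h _ (isCoatom_of_index_two _ hKS2) with h' | h' | h'
    · exfalso
      have h1 : (⟨i, hQS hiQ⟩ : (S : Subgroup G)) ∈ K.subgroupOf (S : Subgroup G) := by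
        rw [h']; exact (hmemX _).mp hiX
      have h2 : i ∈ K := mem_subgroupOf.mp h1
      have h3 : g₂ * i * g₂⁻¹ ∈ K := hKn.conj_mem i h2 g₂
      have h4 : (⟨g₂ * i * g₂⁻¹, hQS hgiQ⟩ : (S : Subgroup G)) ∈ K.subgroupOf (S : Subgroup G) :=
        mem_subgroupOf.mpr h3
      rw [h'] at h4
      exact hgiX ((hmemX _).mpr h4)
    · exact h'
    · exfalso
      apply ht₁K
      have : t₁ ∈ K.subgroupOf (S : Subgroup G) := by
        rw [h', ht₁def, h.xpow_y_mem_maxSub]; exact ⟨c, by ring⟩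
      exact mem_subgroupOf.mp this
  -- Part 4: `K ∩ S ≤ [K, K]`
  have hg₂K : g₂ ∈ K := by
    rw [hg₂def]; exact Subgroup.mul_self_mem_of_index_two hKi g'
  have hiK : i ∈ K := by
    have : (⟨i, hQS hiQ⟩ : (S : Subgroup G)) ∈ K.subgroupOf (S : Subgroup G) := by
      rw [hKSeq, hei, h.xpow_mem_maxSub]; exact ⟨ei, rfl⟩
    exact mem_subgroupOf.mp this
  obtain ⟨Kc, hKcdef⟩ : ∃ Kc : Subgroup G, Kc = ⁅K, K⁆ := ⟨_, rfl⟩
  have hKcn : Kc.Normal := by rw [hKcdef]; exact Subgroup.commutator_normal K K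
  have hcomm_mem : g₂ * i * g₂⁻¹ * i⁻¹ ∈ Kc := by
    rw [hKcdef]; exact Subgroup.commutator_mem_commutator hg₂K hiK
  obtain ⟨a, ha⟩ : ∃ a : ℤ, (⟨g₂ * i * g₂⁻¹, hQS hgiQ⟩ * (⟨i, hQS hiQ⟩ : (S : Subgroup G))⁻¹
      : (S : Subgroup G)) = x ^ (2 * a + 1) * y := by
    rw [hw, hei, ← zpow_neg, h.xpow_mul_y_mul_xpow]
    exact ⟨c'' - (4 * 2 ^ k - 1) * ei, by congr 2; ring⟩
  haveI hNn : (Kc.subgroupOf (S : Subgroup G)).Normal := hKcn.subgroupOf _
  have haN : x ^ (2 * a + 1) * y ∈ Kc.subgroupOf (S : Subgroup G) := by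
    rw [← ha, mem_subgroupOf]
    exact hcomm_mem
  have hle := h.maxSub_one_le_of_normal _ a haN
  -- Part 5: Sylow subgroups of `K`
  have hcardSK : Nat.card ((S : Subgroup G).subgroupOf K) = 2 ^ (k + 3) := by
    rw [← Nat.card_congr (subgroupOfSwap K (S : Subgroup G)).toEquiv, hKSeq]
    exact Cfsg.Agent.S1193.card_maxSub h 1
  obtain ⟨P₀, hP₀⟩ := exists_sylow_subgroupOf S K hKi (k + 3) h.card hcardSK
  have hP₀comm : (P₀ : Subgroup ↥K) ≤ commutator ↥K := by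
    intro r hr
    rw [hP₀, mem_subgroupOf] at hr
    have h1 : (⟨(r : G), hr⟩ : (S : Subgroup G)) ∈ K.subgroupOf (S : Subgroup G) :=
      mem_subgroupOf.mpr r.2
    rw [hKSeq] at h1
    have h2 : (r : G) ∈ Kc := mem_subgroupOf.mp (hle h1)
    rw [hKcdef, ← Subgroup.map_subtype_commutator] at h2
    obtain ⟨r', hr', hrr'⟩ := h2
    have : r' = r := Subtype.ext hrr'
    rwa [← this]
  obtain ⟨eM⟩ := Cfsg.Agent.S1192.maxSub_one_iso h
  have hpartA : ∃ K : Subgroup G, K.Normal ∧ K.index = 2 ∧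
      (∀ P : Sylow 2 ↥K, ∃ m : ℕ, 1 ≤ m ∧ Nonempty ((P : Subgroup ↥K) ≃* QuaternionGroup (2 ^ m))) ∧
      (∀ H : Subgroup ↥K, H.index ≠ 2) := by
    refine ⟨K, hKn, hKi, ?_, no_index_two_of_sylow_le_commutator P₀ hP₀comm⟩
    intro P
    refine ⟨k + 1, by omega, ⟨?_⟩⟩
    exact (((P.equiv P₀).trans (MulEquiv.subgroupCongr hP₀)).trans
      (subgroupOfSwap K (S : Subgroup G)).symm).trans ((MulEquiv.subgroupCongr hKSeq).trans eM)
  -- Part 6: weak closure
  have hWC : Cfsg.IsWeaklyClosed ((Subgroup.center (S : Subgroup G)).map (S : Subgroup G).subtype)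
      (S : Subgroup G) := by
    have hW : ∀ w : G, w ∈ (Subgroup.center (S : Subgroup G)).map (S : Subgroup G).subtype ↔
        w = 1 ∨ w = (z₀ : G) := by
      intro w
      constructor
      · rintro ⟨s, hs, rfl⟩
        rcases h.center_cases s hs with h' | h'
        · left; rw [h']; rfl
        · right; rw [h', hz₀def]; rfl
      · rintro (rfl | rfl)
        · exact one_mem _
        · exact ⟨z₀, hz₀def ▸ h.center_mem, rfl⟩
    refine ⟨?_, ?_⟩
    · rintro _ ⟨s, -, rfl⟩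
      exact s.2
    · intro g hg
      have hgz : g * (z₀ : G) * g⁻¹ = (z₀ : G) := by
        have hin : g * (z₀ : G) * g⁻¹ ∈ (S : Subgroup G) :=
          hg (conj_mem_map_conj _ g _ ((hW _).mpr (Or.inr rfl)))
        have h2 : orderOf (⟨g * (z₀ : G) * g⁻¹, hin⟩ : (S : Subgroup G)) = 2 := by
          rw [← Subgroup.orderOf_coe]
          show orderOf (g * (z₀ : G) * g⁻¹) = 2
          exact ((MulAut.conj g).orderOf_eq _).trans hz₀o
        rcases hSinv _ h2 with h' | h'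
        · exact h'
        · exfalso
          apply hnz
          exact (isConj_iff.mpr ⟨g, rfl⟩).trans h'
      ext w
      rw [mem_map_conj_iff, hW, hW]
      constructor
      · rintro (h' | h')
        · left
          have : w = g * (g⁻¹ * w * g) * g⁻¹ := by group
          rw [this, h']; group
        · right
          have : w = g * (g⁻¹ * w * g) * g⁻¹ := by group
          rw [this, h', hgz]
      · rintro (rfl | rfl)
        · left; group
        · right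
          have : g⁻¹ * (z₀ : G) * g = g⁻¹ * (g * (z₀ : G) * g⁻¹) * g := by rw [hgz]
          rw [this]; group
  exact ⟨hpartA, hWC, hcard2, hcard4⟩

end Cfsg.Agent.S1205
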