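import Cfsg.Statements.S1206
import Cfsg.Agent.Helper20.QD6
import Cfsg.Agent.Helper20.Fusion6
import Cfsg.Agent.Helper20.Transfer2
import Cfsg.Agent.S1192
import Cfsg.Agent.S1193

set_option autoImplicit false
open Cfsg

namespace Cfsg.Agent.S1206

open Cfsg.Agent.Helper20 Subgroup

/-- Let G be a finite group with quasi-dihedral Sylow 2-subgroup S, T a Klein four-subgroup and Q a quaternion subgroup of order 8 of S, with |N_G(T) : C_G(T)| = 6 and |N_G(Q) : Q C_G(Q)| = 2. Then G has a normal subgroup K of index 2 whose Sylow 2-subgroups are dihedral and which has no subgroup of index 2, and G has exactly one class of involutions and two classes of elements of order 4. -/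
theorem result {G : Type*} [Group G] [Finite G] (S : Sylow 2 G) (hS : Cfsg.IsQuasiDihedral (S : Subgroup G)) (T : Subgroup G) (hT : IsKleinFour T) (hTS : T ≤ S) (Q : Subgroup G) (hQS : Q ≤ S) (eQ : Q ≃* QuaternionGroup 2) (h₁ : (Subgroup.centralizer (T : Set G)).relIndex (Subgroup.normalizer (T : Set G)) = 6) (h₂ : (Q ⊔ Subgroup.centralizer (Q : Set G)).relIndex (Subgroup.normalizer (Q : Set G)) = 2) : (∃ K : Subgroup G, K.Normal ∧ K.index = 2 ∧ (∀ P : Sylow 2 ↥K, ∃ m : ℕ, Nonempty ((P : Subgroup ↥K) ≃* DihedralGroup m)) ∧ (∀ H : Subgroup ↥K, H.index ≠ 2)) ∧ Nat.card {C : ConjClasses G // ∃ t : G, orderOf t = 2 ∧ ConjClasses.mk t = C} = 1 ∧ Nat.card {C : ConjClasses G // ∃ t : G, orderOf t = 4 ∧ ConjClasses.mk t = C} = 2 := by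
  obtain ⟨k, x, y, h⟩ := exists_qdData hS
  haveI : Fact (Nat.Prime 2) := ⟨Nat.prime_two⟩
  haveI : Fact (Nat.Prime 3) := ⟨Nat.prime_three⟩
  -- `T` inside `S`
  have hT' : IsKleinFour (T.subgroupOf (S : Subgroup G)) :=
    isKleinFour_of_equiv (Subgroup.subgroupOfEquivOfLe hTS) hT
  obtain ⟨hzT', c, hcT', -⟩ := h.kleinFour_structure _ hT'
  obtain ⟨z₀, hz₀def⟩ : ∃ z₀ : (S : Subgroup G), z₀ = x ^ (4 * 2 ^ k : ℤ) := ⟨_, rfl⟩
  have hz₀T : (z₀ : G) ∈ T := mem_subgroupOf.mp (hz₀def ▸ hzT')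
  have hz₀sq : (z₀ : G) * (z₀ : G) = 1 := by
    have := congrArg Subtype.val (hz₀def ▸ h.z_sq : z₀ * z₀ = 1)
    simpa using this
  have hz₀1 : (z₀ : G) ≠ 1 := fun hc => h.z_ne_one (hz₀def ▸ Subtype.ext hc)
  obtain ⟨t₁, ht₁def⟩ : ∃ t₁ : (S : Subgroup G), t₁ = x ^ (2 * c) * y := ⟨_, rfl⟩
  have ht₁T : (t₁ : G) ∈ T := mem_subgroupOf.mp (ht₁def ▸ hcT')
  have ht₁1 : (t₁ : G) ≠ 1 := fun hc => h.xpow_y_ne_one (2 * c) (ht₁def ▸ Subtype.ext hc)
  -- Step T
  have h3T : 3 ∣ (centralizer (T : Set G)).relIndex (normalizer (T : Set G)) := by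
    rw [h₁]; norm_num
  obtain ⟨g, hgN, hgC, hg3⟩ := exists_pow_mem_of_prime_dvd_relIndex _ _ h3T
  have hfpf : ∀ t ∈ T, t ≠ 1 → g * t * g⁻¹ ≠ t := by
    intro t ht ht1 hfix
    rcases kleinFour_fix_imp_sq_centralizes hT hgN ht ht1 hfix with hc | hc
    · exact hgC hc
    · apply hgC
      have : g = g ^ 3 * (g * g)⁻¹ := by group
      rw [this]; exact mul_mem hg3 (inv_mem hc)
  have hTconj := kleinFour_isConj_of_fpf hT hgN hfpf
  have hz₀t₁ : IsConj (t₁ : G) (z₀ : G) := hTconj _ ht₁T _ hz₀T ht₁1 hz₀1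
  have hmapConj : ∀ a b : (S : Subgroup G), IsConj a b → IsConj (a : G) (b : G) := by
    intro a b hab
    have := (S : Subgroup G).subtype.map_isConj hab
    simpa using this
  have hSinv : ∀ t : (S : Subgroup G), orderOf t = 2 → IsConj (t : G) (z₀ : G) := by
    intro t ht
    rcases (h.involution_iff t).mp ht with h' | ⟨c', h'⟩
    · rw [h', hz₀def]
    · have h1 : IsConj t t₁ := by
        rw [h', ht₁def]; exact h.isConj_xpow_y _ _ ⟨c - c', by ring⟩
      exact (hmapConj _ _ h1).trans hz₀t₁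
  -- every 2-element is conjugate into `S`
  have hintoS : ∀ t : G, ∀ e : ℕ, orderOf t = 2 ^ e →
      ∃ t' : (S : Subgroup G), IsConj t (t' : G) ∧ orderOf t' = 2 ^ e := by
    intro t e ht
    have hp : IsPGroup 2 (zpowers t) := by
      apply IsPGroup.of_card (n := e); rw [Nat.card_zpowers, ht]
    obtain ⟨b, hb⟩ := exists_conj_le_sylow S hp
    have hbt : b * t * b⁻¹ ∈ (S : Subgroup G) := hb (conj_mem_map_conj _ b t (mem_zpowers t))
    refine ⟨⟨b * t * b⁻¹, hbt⟩, isConj_iff.mpr ⟨b, rfl⟩, ?_⟩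
    rw [← Subgroup.orderOf_coe]
    show orderOf (b * t * b⁻¹) = 2 ^ e
    exact ((MulAut.conj b).orderOf_eq t).trans ht
  have hz₀o : orderOf (z₀ : G) = 2 := (Cfsg.Agent.Helper20.orderOf_eq_two_iff _).mpr ⟨hz₀sq, hz₀1⟩
  have hcard2 : Nat.card {C : ConjClasses G // ∃ t : G, orderOf t = 2 ∧ ConjClasses.mk t = C} = 1 := by
    apply card_subtype_eq_one _ (ConjClasses.mk (z₀ : G))
    intro C
    constructor
    · rintro ⟨t, ht, rfl⟩
      obtain ⟨t', htt', ht'⟩ := hintoS t 1 (by rw [ht, pow_one])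
      rw [pow_one] at ht'
      exact ConjClasses.mk_eq_mk_iff_isConj.mpr (htt'.trans (hSinv t' ht'))
    · rintro rfl
      exact ⟨z₀, hz₀o, rfl⟩
  -- elements of order four of `Q`
  obtain ⟨X, hX⟩ : ∃ X : Subgroup G, X = (zpowers x).map (S : Subgroup G).subtype := ⟨_, rfl⟩
  have hmemX : ∀ s : (S : Subgroup G), (s : G) ∈ X ↔ s ∈ zpowers x := by
    intro s
    rw [hX]
    constructor
    · rintro ⟨s', hs', hss'⟩
      have : s' = s := Subtype.ext hss'
      rwa [← this]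
    · intro hs
      exact ⟨s, hs, rfl⟩
  have hXcomm : ∀ a ∈ X, ∀ b ∈ X, a * b = b * a := by
    intro a ha b hb
    rw [hX] at ha hb
    obtain ⟨a', ha', rfl⟩ := ha
    obtain ⟨b', hb', rfl⟩ := hb
    obtain ⟨i, rfl⟩ := mem_zpowers_iff.mp ha'
    obtain ⟨j, rfl⟩ := mem_zpowers_iff.mp hb'
    have : (x ^ i * x ^ j : (S : Subgroup G)) = x ^ j * x ^ i := by
      rw [← zpow_add, ← zpow_add, add_comm]
    exact congrArg Subtype.val this
  have hidx : ∀ a ∈ Q, ∀ b ∈ Q, a ∉ X → b ∉ X → a * b ∈ X := by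
    intro a ha b hb haX hbX
    have := (Subgroup.mul_mem_iff_of_index_two h.index_zpowers (a := ⟨a, hQS ha⟩)
      (b := ⟨b, hQS hb⟩)).mpr
      (iff_of_false (fun h' => haX ((hmemX _).mpr h')) (fun h' => hbX ((hmemX _).mpr h')))
    exact (hmemX _).mpr this
  obtain ⟨i, hiQ, hiX, hi2, hiuniq⟩ := exists_order_four_inter Q eQ X hXcomm hidx
  obtain ⟨w, hwQ, hwX⟩ : ∃ w ∈ Q, w ∉ X := by
    obtain ⟨p, hp, q, hq, hpq⟩ := exists_noncomm_q8 Q eQ
    by_cases hpX : p ∈ X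
    · by_cases hqX : q ∈ X
      · exact absurd (hXcomm p hpX q hqX) hpq
      · exact ⟨q, hq, hqX⟩
    · exact ⟨p, hp, hpX⟩
  obtain ⟨cq, -, hcqQ, -, hcq1, hcqsq, -, -, hqsq, hqinv⟩ := exists_q8_data Q eQ
  have hfour : ∀ q ∈ Q, (q * q) * (q * q) = 1 := by
    intro q hq
    rcases hqsq q hq with h' | h'
    · rw [h', one_mul]
    · rw [h', hcqsq]
  -- `cq` is the central involution
  have hcqz : cq = (z₀ : G) := by
    have h2 : orderOf (⟨cq, hQS hcqQ⟩ : (S : Subgroup G)) = 2 := by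
      rw [Cfsg.Agent.Helper20.orderOf_eq_two_iff]
      exact ⟨Subtype.ext hcqsq, fun hc => hcq1 (congrArg Subtype.val hc)⟩
    rcases (h.involution_iff _).mp h2 with h' | ⟨c', h'⟩
    · rw [hz₀def, ← h']
    · exfalso
      have h3 : i * i = cq := by
        rcases hqsq i hiQ with h'' | h''
        · exact absurd h'' hi2
        · exact h''
      have h4 : cq ∈ X := by rw [← h3]; exact X.mul_mem hiX hiX
      have h5 := (hmemX ⟨cq, hQS hcqQ⟩).mp h4
      obtain ⟨j, hj⟩ := mem_zpowers_iff.mp h5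
      rw [h'] at hj
      exact h.xpow_ne_xpow_y _ _ hj
  have hw2 : w * w ≠ 1 := by
    intro hc
    rcases hqinv w hwQ hc with h' | h'
    · exact hwX (h' ▸ X.one_mem)
    · apply hwX
      rw [h', hcqz, hmemX, hz₀def]
      exact zpow_mem_zpowers x _
  have hwsq : w * w = (z₀ : G) := by
    rcases hqsq w hwQ with h' | h'
    · exact absurd h' hw2
    · rw [h', hcqz]
  have hi4 : orderOf (⟨i, hQS hiQ⟩ : (S : Subgroup G)) = 4 := by
    rw [orderOf_eq_four_iff]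
    exact ⟨Subtype.ext (hfour i hiQ), fun hc => hi2 (congrArg Subtype.val hc)⟩
  have hw4 : orderOf (⟨w, hQS hwQ⟩ : (S : Subgroup G)) = 4 := by
    rw [orderOf_eq_four_iff]
    exact ⟨Subtype.ext (hfour _ hwQ), fun hc => hw2 (congrArg Subtype.val hc)⟩
  have hw4G : orderOf w = 4 := by
    have := Subgroup.orderOf_coe (⟨w, hQS hwQ⟩ : (S : Subgroup G))
    rw [hw4] at this
    exact this
  obtain ⟨v, hvdef⟩ : ∃ v : (S : Subgroup G), v = x ^ (2 * 2 ^ k : ℤ) := ⟨_, rfl⟩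
  have hvinv : IsConj (x ^ (-(2 * 2 ^ k) : ℤ) : (S : Subgroup G)) v := by
    rw [hvdef]; exact h.isConj_xpow_twoP.symm
  have hiv : IsConj i (v : G) := by
    rcases (h.order_four_iff _).mp hi4 with h' | h' | ⟨c', h'⟩
    · have : i = (v : G) := by rw [hvdef, ← h']
      rw [this]
    · have h1 := hmapConj _ _ hvinv
      rw [← h'] at h1
      exact h1
    · exfalso
      have h1 : (⟨i, hQS hiQ⟩ : (S : Subgroup G)) ∈ zpowers x := (hmemX _).mp hiX
      obtain ⟨j, hj⟩ := mem_zpowers_iff.mp h1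
      rw [h'] at hj
      exact h.xpow_ne_xpow_y _ _ hj
  obtain ⟨c'', hw⟩ : ∃ c'' : ℤ,
      (⟨w, hQS hwQ⟩ : (S : Subgroup G)) = x ^ (2 * c'' + 1) * y := by
    rcases (h.order_four_iff _).mp hw4 with h' | h' | ⟨c', h'⟩
    · exfalso
      apply hwX
      have : (⟨w, hQS hwQ⟩ : (S : Subgroup G)) ∈ zpowers x := by
        rw [h']; exact zpow_mem_zpowers x _
      exact (hmemX _).mpr this
    · exfalso
      apply hwX
      have : (⟨w, hQS hwQ⟩ : (S : Subgroup G)) ∈ zpowers x := by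
        rw [h']; exact zpow_mem_zpowers x _
      exact (hmemX _).mpr this
    · exact ⟨c', h'⟩
  -- non-fusion of the elements of order four
  have hnwi : ¬ IsConj w i :=
    not_isConj_order_four S hS h Q hQS eQ h₂ hiQ hwQ (hX ▸ hiX) (hX ▸ hwX)
  have hnwv : ¬ IsConj w (v : G) := fun hc => hnwi (hc.trans hiv.symm)
  have hS4 : ∀ t : (S : Subgroup G), orderOf t = 4 → IsConj (t : G) (v : G) ∨ IsConj (t : G) w := by
    intro t ht
    rcases (h.order_four_iff t).mp ht with h' | h' | ⟨c', h'⟩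
    · left; rw [h', hvdef]
    · left; rw [h']; exact hmapConj _ _ hvinv
    · right
      have h1 : IsConj t (⟨w, hQS hwQ⟩ : (S : Subgroup G)) := by
        rw [h', hw]; exact h.isConj_xpow_y _ _ ⟨c'' - c', by ring⟩
      exact hmapConj _ _ h1
  have hv4 : orderOf (v : G) = 4 := by
    rw [Subgroup.orderOf_coe]
    exact (h.order_four_iff v).mpr (Or.inl hvdef)
  have hcard4 : Nat.card {C : ConjClasses G // ∃ t : G, orderOf t = 4 ∧ ConjClasses.mk t = C} = 2 := by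
    apply card_subtype_eq_two _ (ConjClasses.mk (v : G)) (ConjClasses.mk w)
    · intro hc
      exact hnwv (ConjClasses.mk_eq_mk_iff_isConj.mp hc).symm
    intro C
    constructor
    · rintro ⟨t, ht, rfl⟩
      obtain ⟨t', htt', ht'⟩ := hintoS t 2 (by rw [ht]; norm_num)
      have ht'4 : orderOf t' = 4 := by rw [ht']; norm_num
      rcases hS4 t' ht'4 with h' | h'
      · left; exact ConjClasses.mk_eq_mk_iff_isConj.mpr (htt'.trans h')
      · right; exact ConjClasses.mk_eq_mk_iff_isConj.mpr (htt'.trans h')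
    · rintro (rfl | rfl)
      · exact ⟨v, hv4, rfl⟩
      · exact ⟨w, hw4G, rfl⟩
  -- transfer for `w`
  obtain ⟨Q₀, hQ₀def⟩ : ∃ Q₀ : Subgroup G, Q₀ = (h.maxSub 0).map (S : Subgroup G).subtype := ⟨_, rfl⟩
  have hmemQ₀ : ∀ s : (S : Subgroup G), (s : G) ∈ Q₀ ↔ s ∈ h.maxSub 0 := by
    intro s
    rw [hQ₀def]
    constructor
    · rintro ⟨s', hs', hss'⟩
      have : s' = s := Subtype.ext hss'
      rwa [← this]
    · intro hs
      exact ⟨s, hs, rfl⟩
  have hQ₀idx : Q₀.relIndex (S : Subgroup G) = 2 := by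
    rw [Subgroup.relIndex, hQ₀def, Subgroup.subgroupOf,
      Subgroup.comap_map_eq_self_of_injective (Subgroup.subtype_injective _)]
    exact h.index_maxSub 0
  obtain ⟨K, hKn, hKi, hwK⟩ : ∃ K : Subgroup G, K.Normal ∧ K.index = 2 ∧ w ∉ K := by
    apply transfer_index_two S Q₀ hQ₀idx w (hQS hwQ)
    intro g₀ m hm hmem
    rw [hw4G] at hm
    have hm4 : m ≤ 4 := Nat.le_of_dvd (by norm_num) hm
    have hpow2 : w ^ 2 = (z₀ : G) := by rw [pow_two]; exact hwsq
    have hpow4 : w ^ 4 = 1 := by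
      have : w ^ 4 = (w * w) * (w * w) := by
        rw [show (4 : ℕ) = 2 + 2 from rfl, pow_add, pow_two]
      rw [this]; exact hfour w hwQ
    interval_cases m
    · simp at hm
    · -- `m = 1`
      rw [pow_one] at hmem ⊢
      have h2 : orderOf (⟨g₀⁻¹ * w * g₀, hmem⟩ : (S : Subgroup G)) = 4 := by
        rw [← Subgroup.orderOf_coe]
        show orderOf (g₀⁻¹ * w * g₀) = 4
        have := (MulAut.conj g₀⁻¹).orderOf_eq w
        rw [MulAut.conj_apply, inv_inv] at this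
        exact this.trans hw4G
      have hnot : g₀⁻¹ * w * g₀ ∉ Q₀ := by
        intro hin
        have hin' := (hmemQ₀ ⟨g₀⁻¹ * w * g₀, hmem⟩).mp hin
        have hcj : IsConj w (g₀⁻¹ * w * g₀) := isConj_iff.mpr ⟨g₀⁻¹, by rw [inv_inv]⟩
        rcases (h.order_four_iff _).mp h2 with h' | h' | ⟨c', h'⟩
        · apply hnwv
          have : g₀⁻¹ * w * g₀ = (v : G) := by rw [hvdef, ← h']
          rw [← this]; exact hcj
        · apply hnwv
          have h5 := hmapConj _ _ hvinv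
          rw [← h'] at h5
          exact hcj.trans h5
        · rw [h', h.xpow_y_mem_maxSub] at hin'
          omega
      exact iff_of_false hnot (by decide)
    · -- `m = 2`
      rw [hpow2] at hmem ⊢
      have h2 : orderOf (⟨g₀⁻¹ * (z₀ : G) * g₀, hmem⟩ : (S : Subgroup G)) = 2 := by
        rw [← Subgroup.orderOf_coe]
        show orderOf (g₀⁻¹ * (z₀ : G) * g₀) = 2
        have := (MulAut.conj g₀⁻¹).orderOf_eq (z₀ : G)
        rw [MulAut.conj_apply, inv_inv] at this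
        exact this.trans hz₀o
      have hin : g₀⁻¹ * (z₀ : G) * g₀ ∈ Q₀ := by
        rw [hmemQ₀ ⟨g₀⁻¹ * (z₀ : G) * g₀, hmem⟩]
        rcases (h.involution_iff _).mp h2 with h' | ⟨c', h'⟩
        · rw [h', h.xpow_mem_maxSub]; exact ⟨2 * 2 ^ k, by ring⟩
        · rw [h', h.xpow_y_mem_maxSub]; exact ⟨c', by ring⟩
      exact iff_of_true hin (by decide)
    · omega
    · -- `m = 4`
      rw [hpow4]
      have : g₀⁻¹ * 1 * g₀ = 1 := by group
      rw [this]
      exact iff_of_true (one_mem _) (by decide)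
  -- `K ∩ S`
  have hKS2 : (K.subgroupOf (S : Subgroup G)).index = 2 := by
    have h1 : K.relIndex (S : Subgroup G) ∣ K.index := Subgroup.relIndex_dvd_index_of_normal K S
    rw [hKi] at h1
    have h2 : K.relIndex (S : Subgroup G) ≠ 1 := by
      intro hc
      rw [Subgroup.relIndex_eq_one] at hc
      exact hwK (hc (hQS hwQ))
    rcases (Nat.dvd_prime Nat.prime_two).mp h1 with h' | h'
    · exact absurd h' h2
    · exact h'
  have hgz₀T : g * (z₀ : G) * g⁻¹ ∈ T := (mem_normalizer_iff.mp hgN _).mp hz₀T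
  have hKSeq : K.subgroupOf (S : Subgroup G) = h.maxSub 0 := by
    rcases Cfsg.Agent.S1192.coatom_cases h _ (isCoatom_of_index_two _ hKS2) with h' | h' | h'
    · exfalso
      have h1 : z₀ ∈ K.subgroupOf (S : Subgroup G) := by
        rw [h', hz₀def]; exact zpow_mem_zpowers x _
      have h2 : (z₀ : G) ∈ K := mem_subgroupOf.mp h1
      have h3 : g * (z₀ : G) * g⁻¹ ∈ K := hKn.conj_mem _ h2 g
      have h4 : (⟨g * (z₀ : G) * g⁻¹, hTS hgz₀T⟩ : (S : Subgroup G)) ∈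
          K.subgroupOf (S : Subgroup G) := mem_subgroupOf.mpr h3
      rw [h'] at h4
      have h5 : orderOf (⟨g * (z₀ : G) * g⁻¹, hTS hgz₀T⟩ : (S : Subgroup G)) = 2 := by
        rw [← Subgroup.orderOf_coe]
        show orderOf (g * (z₀ : G) * g⁻¹) = 2
        exact ((MulAut.conj g).orderOf_eq _).trans hz₀o
      rcases (h.involution_iff _).mp h5 with h6 | ⟨c', h6⟩
      · apply hfpf _ hz₀T hz₀1
        have := congrArg Subtype.val h6
        exact this.trans (congrArg Subtype.val hz₀def.symm)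
      · obtain ⟨j, hj⟩ := mem_zpowers_iff.mp h4
        rw [h6] at hj
        exact h.xpow_ne_xpow_y _ _ hj
    · exfalso
      apply hwK
      have : (⟨w, hQS hwQ⟩ : (S : Subgroup G)) ∈ K.subgroupOf (S : Subgroup G) := by
        rw [h', hw, h.xpow_y_mem_maxSub]; exact ⟨c'', by ring⟩
      exact mem_subgroupOf.mp this
    · exact h'
  -- `K ∩ S ≤ [K, K]`
  obtain ⟨g₂, hg₂def⟩ : ∃ g₂ : G, g₂ = g * g := ⟨_, rfl⟩
  have hg₂K : g₂ ∈ K := by
    rw [hg₂def]; exact Subgroup.mul_self_mem_of_index_two hKi g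
  have hg₂N : g₂ ∈ normalizer (T : Set G) := by rw [hg₂def]; exact mul_mem hgN hgN
  have hz₀K : (z₀ : G) ∈ K := by
    have : z₀ ∈ K.subgroupOf (S : Subgroup G) := by
      rw [hKSeq, hz₀def, h.xpow_mem_maxSub]; exact ⟨2 * 2 ^ k, by ring⟩
    exact mem_subgroupOf.mp this
  have hg₂z₀ : g₂ * (z₀ : G) * g₂⁻¹ ≠ (z₀ : G) := by
    intro hfix
    rcases kleinFour_fix_imp_sq_centralizes hT hgN hz₀T hz₀1
      (by
        -- `g` fixes `z₀` since `g = g³ (g²)⁻¹`
        have h3 : g ^ 3 * (z₀ : G) * (g ^ 3)⁻¹ = (z₀ : G) := by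
          rw [mem_centralizer_iff] at hg3
          have := hg3 _ hz₀T
          rw [← this]; group
        have h4 : g₂⁻¹ * (z₀ : G) * g₂ = (z₀ : G) := by
          have : g₂⁻¹ * (z₀ : G) * g₂ = g₂⁻¹ * (g₂ * (z₀ : G) * g₂⁻¹) * g₂ := by rw [hfix]
          rw [this]; group
        have h5 : g * (z₀ : G) * g⁻¹ = g ^ 3 * (g₂⁻¹ * (z₀ : G) * g₂) * (g ^ 3)⁻¹ := by
          rw [hg₂def]; group
        rw [h5, h4, h3]) with hc | hc
    · exact hgC hc
    · apply hgC
      have : g = g ^ 3 * (g * g)⁻¹ := by group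
      rw [this]; exact mul_mem hg3 (inv_mem hc)
  obtain ⟨Kc, hKcdef⟩ : ∃ Kc : Subgroup G, Kc = ⁅K, K⁆ := ⟨_, rfl⟩
  have hKcn : Kc.Normal := by rw [hKcdef]; exact Subgroup.commutator_normal K K
  have hcomm_mem : g₂ * (z₀ : G) * g₂⁻¹ * (z₀ : G)⁻¹ ∈ Kc := by
    rw [hKcdef]; exact Subgroup.commutator_mem_commutator hg₂K hz₀K
  have hg₂z₀T : g₂ * (z₀ : G) * g₂⁻¹ ∈ T := (mem_normalizer_iff.mp hg₂N _).mp hz₀T
  have hcT : g₂ * (z₀ : G) * g₂⁻¹ * (z₀ : G)⁻¹ ∈ T := T.mul_mem hg₂z₀T (T.inv_mem hz₀T)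
  obtain ⟨a, ha⟩ : ∃ a : ℤ, (⟨g₂ * (z₀ : G) * g₂⁻¹ * (z₀ : G)⁻¹, hTS hcT⟩ : (S : Subgroup G)) =
      x ^ (2 * a) * y := by
    have h5 : orderOf (⟨g₂ * (z₀ : G) * g₂⁻¹ * (z₀ : G)⁻¹, hTS hcT⟩ : (S : Subgroup G)) = 2 := by
      rw [Cfsg.Agent.Helper20.orderOf_eq_two_iff]
      refine ⟨Subtype.ext (kleinFour_sq hT hcT), ?_⟩
      intro hc
      have h6 : g₂ * (z₀ : G) * g₂⁻¹ * (z₀ : G)⁻¹ = 1 := congrArg Subtype.val hc
      exact hg₂z₀ (mul_inv_eq_one.mp h6)
    rcases (h.involution_iff _).mp h5 with h6 | ⟨c', h6⟩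
    · exfalso
      have h7 : g₂ * (z₀ : G) * g₂⁻¹ * (z₀ : G)⁻¹ = (z₀ : G) := by
        have := congrArg Subtype.val h6
        exact this.trans (congrArg Subtype.val hz₀def.symm)
      have h8 : g₂ * (z₀ : G) * g₂⁻¹ = 1 := by
        have : g₂ * (z₀ : G) * g₂⁻¹ = (g₂ * (z₀ : G) * g₂⁻¹ * (z₀ : G)⁻¹) * (z₀ : G) := by group
        rw [this, h7, hz₀sq]
      exact hz₀1 (conj_eq_one_imp h8)
    · exact ⟨c', h6⟩
  haveI hNn : (Kc.subgroupOf (S : Subgroup G)).Normal := hKcn.subgroupOf _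
  have haN : x ^ (2 * a) * y ∈ Kc.subgroupOf (S : Subgroup G) := by
    rw [← ha, mem_subgroupOf]
    exact hcomm_mem
  have hle := h.maxSub_zero_le_of_normal _ a haN
  -- Sylow subgroups of `K`
  have hcardSK : Nat.card ((S : Subgroup G).subgroupOf K) = 2 ^ (k + 3) := by
    rw [← Nat.card_congr (subgroupOfSwap K (S : Subgroup G)).toEquiv, hKSeq]
    exact Cfsg.Agent.S1193.card_maxSub h 0
  obtain ⟨P₀, hP₀⟩ := exists_sylow_subgroupOf S K hKi (k + 3) h.card hcardSK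
  have hP₀comm : (P₀ : Subgroup ↥K) ≤ commutator ↥K := by
    intro r hr
    rw [hP₀, mem_subgroupOf] at hr
    have h1 : (⟨(r : G), hr⟩ : (S : Subgroup G)) ∈ K.subgroupOf (S : Subgroup G) :=
      mem_subgroupOf.mpr r.2
    rw [hKSeq] at h1
    have h2 : (r : G) ∈ Kc := mem_subgroupOf.mp (hle h1)
    rw [hKcdef, ← Subgroup.map_subtype_commutator] at h2
    obtain ⟨r', hr', hrr'⟩ := h2
    have : r' = r := Subtype.ext hrr'
    rwa [← this]
  obtain ⟨eM⟩ := Cfsg.Agent.S1193.maxSub_zero_iso h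
  have hpartA : ∃ K : Subgroup G, K.Normal ∧ K.index = 2 ∧
      (∀ P : Sylow 2 ↥K, ∃ m : ℕ, Nonempty ((P : Subgroup ↥K) ≃* DihedralGroup m)) ∧
      (∀ H : Subgroup ↥K, H.index ≠ 2) := by
    refine ⟨K, hKn, hKi, ?_, no_index_two_of_sylow_le_commutator P₀ hP₀comm⟩
    intro P
    refine ⟨2 ^ (k + 2), ⟨?_⟩⟩
    exact (((P.equiv P₀).trans (MulEquiv.subgroupCongr hP₀)).trans
      (subgroupOfSwap K (S : Subgroup G)).symm).trans ((MulEquiv.subgroupCongr hKSeq).trans eM)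
  exact ⟨hpartA, hcard2, hcard4⟩

end Cfsg.Agent.S1206
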