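import Cfsg.Statements.S1207
import Cfsg.Agent.Helper20.QD5
import Cfsg.Agent.Helper20.Fusion6
import Cfsg.Agent.Helper20.Transfer2
import Cfsg.Agent.Helper53.NormalComplement
import Cfsg.Agent.S0111
import Cfsg.Agent.S1192

set_option autoImplicit false
open Cfsg

namespace Cfsg.Agent.S1207

open Cfsg.Agent.Helper20 Subgroup

/-- Let G be a finite group with quasi-dihedral Sylow 2-subgroup S, T a Klein four-subgroup and Q a quaternion subgroup of order 8 of S, with |N_G(T) : C_G(T)| = 2 and |N_G(Q) : Q C_G(Q)| = 2. Then G has a normal 2-complement, exactly two classes of involutions and exactly two classes of elements of order 4. -/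
theorem result {G : Type*} [Group G] [Finite G] (S : Sylow 2 G) (hS : Cfsg.IsQuasiDihedral (S : Subgroup G)) (T : Subgroup G) (hT : IsKleinFour T) (hTS : T ≤ S) (Q : Subgroup G) (hQS : Q ≤ S) (eQ : Q ≃* QuaternionGroup 2) (h₁ : (Subgroup.centralizer (T : Set G)).relIndex (Subgroup.normalizer (T : Set G)) = 2) (h₂ : (Q ⊔ Subgroup.centralizer (Q : Set G)).relIndex (Subgroup.normalizer (Q : Set G)) = 2) : Cfsg.HasNormalPComplement 2 G ∧ Nat.card {C : ConjClasses G // ∃ t : G, orderOf t = 2 ∧ ConjClasses.mk t = C} = 2 ∧ Nat.card {C : ConjClasses G // ∃ t : G, orderOf t = 4 ∧ ConjClasses.mk t = C} = 2 := by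
  obtain ⟨k, x, y, h⟩ := exists_qdData hS
  haveI : Fact (Nat.Prime 2) := ⟨Nat.prime_two⟩
  -- `T` inside `S`
  have hT' : IsKleinFour (T.subgroupOf (S : Subgroup G)) :=
    isKleinFour_of_equiv (Subgroup.subgroupOfEquivOfLe hTS) hT
  obtain ⟨hzT', c, hcT', -⟩ := h.kleinFour_structure _ hT'
  obtain ⟨z₀, hz₀def⟩ : ∃ z₀ : (S : Subgroup G), z₀ = x ^ (4 * 2 ^ k : ℤ) := ⟨_, rfl⟩
  have hz₀T : (z₀ : G) ∈ T := mem_subgroupOf.mp (hz₀def ▸ hzT')
  have hz₀sq : (z₀ : G) * (z₀ : G) = 1 := by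
    have := congrArg Subtype.val (hz₀def ▸ h.z_sq : z₀ * z₀ = 1)
    simpa using this
  have hz₀1 : (z₀ : G) ≠ 1 := fun hc => h.z_ne_one (hz₀def ▸ Subtype.ext hc)
  obtain ⟨t₁, ht₁def⟩ : ∃ t₁ : (S : Subgroup G), t₁ = x ^ (2 * c) * y := ⟨_, rfl⟩
  have ht₁T : (t₁ : G) ∈ T := mem_subgroupOf.mp (ht₁def ▸ hcT')
  have ht₁1 : (t₁ : G) ≠ 1 := fun hc => h.xpow_y_ne_one (2 * c) (ht₁def ▸ Subtype.ext hc)
  have ht₁sq : (t₁ : G) * (t₁ : G) = 1 := kleinFour_sq hT ht₁T
  have hz₀t₁ne : (z₀ : G) ≠ (t₁ : G) := by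
    intro hc
    have : z₀ = t₁ := Subtype.ext hc
    rw [hz₀def, ht₁def] at this
    exact h.xpow_ne_xpow_y _ _ this
  have hzc : ∀ s ∈ (S : Subgroup G), s * (z₀ : G) = (z₀ : G) * s := by
    intro s hs
    have := h.z_central ⟨s, hs⟩
    rw [← hz₀def] at this
    exact congrArg Subtype.val this
  -- no fusion of the central involution
  have hnz : ¬ IsConj (z₀ : G) (t₁ : G) :=
    not_isConj_of_relIndex_two S T hT hTS h₁ hz₀T ht₁T hz₀1 ht₁1 hz₀t₁ne hzc
      (fun T' h1 h2 => exists_swap_of_quasiDihedral S hS T' h1 h2)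
  have hmapConj : ∀ a b : (S : Subgroup G), IsConj a b → IsConj (a : G) (b : G) := by
    intro a b hab
    have := (S : Subgroup G).subtype.map_isConj hab
    simpa using this
  have hSinv : ∀ t : (S : Subgroup G), orderOf t = 2 → (t : G) = (z₀ : G) ∨ IsConj (t : G) (t₁ : G) := by
    intro t ht
    rcases (h.involution_iff t).mp ht with h' | ⟨c', h'⟩
    · left; rw [h', hz₀def]
    · right
      have h1 : IsConj t t₁ := by
        rw [h', ht₁def]; exact h.isConj_xpow_y _ _ ⟨c - c', by ring⟩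
      exact hmapConj _ _ h1
  -- every 2-element is conjugate into `S`
  have hintoS : ∀ t : G, ∀ e : ℕ, orderOf t = 2 ^ e →
      ∃ t' : (S : Subgroup G), IsConj t (t' : G) ∧ orderOf t' = 2 ^ e := by
    intro t e ht
    have hp : IsPGroup 2 (zpowers t) := by
      apply IsPGroup.of_card (n := e); rw [Nat.card_zpowers, ht]
    obtain ⟨b, hb⟩ := exists_conj_le_sylow S hp
    have hbt : b * t * b⁻¹ ∈ (S : Subgroup G) := hb (conj_mem_map_conj _ b t (mem_zpowers t))
    refine ⟨⟨b * t * b⁻¹, hbt⟩, isConj_iff.mpr ⟨b, rfl⟩, ?_⟩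
    rw [← Subgroup.orderOf_coe]
    show orderOf (b * t * b⁻¹) = 2 ^ e
    exact ((MulAut.conj b).orderOf_eq t).trans ht
  have hz₀o : orderOf (z₀ : G) = 2 := (Cfsg.Agent.Helper20.orderOf_eq_two_iff _).mpr ⟨hz₀sq, hz₀1⟩
  have ht₁o : orderOf (t₁ : G) = 2 := (Cfsg.Agent.Helper20.orderOf_eq_two_iff _).mpr ⟨ht₁sq, ht₁1⟩
  have hcard2 : Nat.card {C : ConjClasses G // ∃ t : G, orderOf t = 2 ∧ ConjClasses.mk t = C} = 2 := by
    apply card_subtype_eq_two _ (ConjClasses.mk (z₀ : G)) (ConjClasses.mk (t₁ : G))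
    · intro hc
      exact hnz (ConjClasses.mk_eq_mk_iff_isConj.mp hc)
    intro C
    constructor
    · rintro ⟨t, ht, rfl⟩
      obtain ⟨t', htt', ht'⟩ := hintoS t 1 (by rw [ht, pow_one])
      rw [pow_one] at ht'
      rcases hSinv t' ht' with h' | h'
      · left
        rw [h'] at htt'
        exact ConjClasses.mk_eq_mk_iff_isConj.mpr htt'
      · right
        exact ConjClasses.mk_eq_mk_iff_isConj.mpr (htt'.trans h')
    · rintro (rfl | rfl)
      · exact ⟨z₀, hz₀o, rfl⟩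
      · exact ⟨t₁, ht₁o, rfl⟩
  -- elements of order four of `Q`
  obtain ⟨X, hX⟩ : ∃ X : Subgroup G, X = (zpowers x).map (S : Subgroup G).subtype := ⟨_, rfl⟩
  have hmemX : ∀ s : (S : Subgroup G), (s : G) ∈ X ↔ s ∈ zpowers x := by
    intro s
    rw [hX]
    constructor
    · rintro ⟨s', hs', hss'⟩
      have : s' = s := Subtype.ext hss'
      rwa [← this]
    · intro hs
      exact ⟨s, hs, rfl⟩
  have hXcomm : ∀ a ∈ X, ∀ b ∈ X, a * b = b * a := by
    intro a ha b hb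
    rw [hX] at ha hb
    obtain ⟨a', ha', rfl⟩ := ha
    obtain ⟨b', hb', rfl⟩ := hb
    obtain ⟨i, rfl⟩ := mem_zpowers_iff.mp ha'
    obtain ⟨j, rfl⟩ := mem_zpowers_iff.mp hb'
    have : (x ^ i * x ^ j : (S : Subgroup G)) = x ^ j * x ^ i := by
      rw [← zpow_add, ← zpow_add, add_comm]
    exact congrArg Subtype.val this
  have hidx : ∀ a ∈ Q, ∀ b ∈ Q, a ∉ X → b ∉ X → a * b ∈ X := by
    intro a ha b hb haX hbX
    have := (Subgroup.mul_mem_iff_of_index_two h.index_zpowers (a := ⟨a, hQS ha⟩)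
      (b := ⟨b, hQS hb⟩)).mpr
      (iff_of_false (fun h' => haX ((hmemX _).mpr h')) (fun h' => hbX ((hmemX _).mpr h')))
    exact (hmemX _).mpr this
  obtain ⟨i, hiQ, hiX, hi2, hiuniq⟩ := exists_order_four_inter Q eQ X hXcomm hidx
  obtain ⟨w, hwQ, hwX⟩ : ∃ w ∈ Q, w ∉ X := by
    obtain ⟨p, hp, q, hq, hpq⟩ := exists_noncomm_q8 Q eQ
    by_cases hpX : p ∈ X
    · by_cases hqX : q ∈ X
      · exact absurd (hXcomm p hpX q hqX) hpq
      · exact ⟨q, hq, hqX⟩
    · exact ⟨p, hp, hpX⟩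
  obtain ⟨cq, -, hcqQ, -, hcq1, hcqsq, -, -, hqsq, hqinv⟩ := exists_q8_data Q eQ
  have hfour : ∀ q ∈ Q, (q * q) * (q * q) = 1 := by
    intro q hq
    rcases hqsq q hq with h' | h'
    · rw [h', one_mul]
    · rw [h', hcqsq]
  -- `cq` is the central involution
  have hcqz : cq = (z₀ : G) := by
    have h2 : orderOf (⟨cq, hQS hcqQ⟩ : (S : Subgroup G)) = 2 := by
      rw [Cfsg.Agent.Helper20.orderOf_eq_two_iff]
      exact ⟨Subtype.ext hcqsq, fun hc => hcq1 (congrArg Subtype.val hc)⟩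
    rcases (h.involution_iff _).mp h2 with h' | ⟨c', h'⟩
    · rw [hz₀def, ← h']
    · exfalso
      -- `cq = i * i` lies in `X`
      have h3 : i * i = cq := by
        rcases hqsq i hiQ with h'' | h''
        · exact absurd h'' hi2
        · exact h''
      have h4 : cq ∈ X := by rw [← h3]; exact X.mul_mem hiX hiX
      have h5 := (hmemX ⟨cq, hQS hcqQ⟩).mp h4
      obtain ⟨j, hj⟩ := mem_zpowers_iff.mp h5
      rw [h'] at hj
      exact h.xpow_ne_xpow_y _ _ hj
  have hw2 : w * w ≠ 1 := by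
    intro hc
    rcases hqinv w hwQ hc with h' | h'
    · exact hwX (h' ▸ X.one_mem)
    · apply hwX
      rw [h', hcqz, hmemX, hz₀def]
      exact zpow_mem_zpowers x _
  have hwsq : w * w = (z₀ : G) := by
    rcases hqsq w hwQ with h' | h'
    · exact absurd h' hw2
    · rw [h', hcqz]
  have hi4 : orderOf (⟨i, hQS hiQ⟩ : (S : Subgroup G)) = 4 := by
    rw [orderOf_eq_four_iff]
    exact ⟨Subtype.ext (hfour i hiQ), fun hc => hi2 (congrArg Subtype.val hc)⟩
  have hw4 : orderOf (⟨w, hQS hwQ⟩ : (S : Subgroup G)) = 4 := by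
    rw [orderOf_eq_four_iff]
    exact ⟨Subtype.ext (hfour _ hwQ), fun hc => hw2 (congrArg Subtype.val hc)⟩
  have hw4G : orderOf w = 4 := by
    have := Subgroup.orderOf_coe (⟨w, hQS hwQ⟩ : (S : Subgroup G))
    rw [hw4] at this
    exact this
  obtain ⟨v, hvdef⟩ : ∃ v : (S : Subgroup G), v = x ^ (2 * 2 ^ k : ℤ) := ⟨_, rfl⟩
  have hvinv : IsConj (x ^ (-(2 * 2 ^ k) : ℤ) : (S : Subgroup G)) v := by
    rw [hvdef]; exact h.isConj_xpow_twoP.symm
  have hiv : IsConj i (v : G) := by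
    rcases (h.order_four_iff _).mp hi4 with h' | h' | ⟨c', h'⟩
    · have : i = (v : G) := by rw [hvdef, ← h']
      rw [this]
    · have h1 := hmapConj _ _ hvinv
      rw [← h'] at h1
      exact h1
    · exfalso
      have h1 : (⟨i, hQS hiQ⟩ : (S : Subgroup G)) ∈ zpowers x := (hmemX _).mp hiX
      obtain ⟨j, hj⟩ := mem_zpowers_iff.mp h1
      rw [h'] at hj
      exact h.xpow_ne_xpow_y _ _ hj
  obtain ⟨c'', hw⟩ : ∃ c'' : ℤ,
      (⟨w, hQS hwQ⟩ : (S : Subgroup G)) = x ^ (2 * c'' + 1) * y := by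
    rcases (h.order_four_iff _).mp hw4 with h' | h' | ⟨c', h'⟩
    · exfalso
      apply hwX
      have : (⟨w, hQS hwQ⟩ : (S : Subgroup G)) ∈ zpowers x := by
        rw [h']; exact zpow_mem_zpowers x _
      exact (hmemX _).mpr this
    · exfalso
      apply hwX
      have : (⟨w, hQS hwQ⟩ : (S : Subgroup G)) ∈ zpowers x := by
        rw [h']; exact zpow_mem_zpowers x _
      exact (hmemX _).mpr this
    · exact ⟨c', h'⟩
  -- non-fusion of the elements of order four
  have hnwi : ¬ IsConj w i :=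
    not_isConj_order_four S hS h Q hQS eQ h₂ hiQ hwQ (hX ▸ hiX) (hX ▸ hwX)
  have hnwv : ¬ IsConj w (v : G) := fun hc => hnwi (hc.trans hiv.symm)
  have hS4 : ∀ t : (S : Subgroup G), orderOf t = 4 → IsConj (t : G) (v : G) ∨ IsConj (t : G) w := by
    intro t ht
    rcases (h.order_four_iff t).mp ht with h' | h' | ⟨c', h'⟩
    · left; rw [h', hvdef]
    · left; rw [h']; exact hmapConj _ _ hvinv
    · right
      have h1 : IsConj t (⟨w, hQS hwQ⟩ : (S : Subgroup G)) := by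
        rw [h', hw]; exact h.isConj_xpow_y _ _ ⟨c'' - c', by ring⟩
      exact hmapConj _ _ h1
  have hv4 : orderOf (v : G) = 4 := by
    rw [Subgroup.orderOf_coe]
    exact (h.order_four_iff v).mpr (Or.inl hvdef)
  have hcard4 : Nat.card {C : ConjClasses G // ∃ t : G, orderOf t = 4 ∧ ConjClasses.mk t = C} = 2 := by
    apply card_subtype_eq_two _ (ConjClasses.mk (v : G)) (ConjClasses.mk w)
    · intro hc
      exact hnwv (ConjClasses.mk_eq_mk_iff_isConj.mp hc).symm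
    intro C
    constructor
    · rintro ⟨t, ht, rfl⟩
      obtain ⟨t', htt', ht'⟩ := hintoS t 2 (by rw [ht]; norm_num)
      have ht'4 : orderOf t' = 4 := by rw [ht']; norm_num
      rcases hS4 t' ht'4 with h' | h'
      · left; exact ConjClasses.mk_eq_mk_iff_isConj.mpr (htt'.trans h')
      · right; exact ConjClasses.mk_eq_mk_iff_isConj.mpr (htt'.trans h')
    · rintro (rfl | rfl)
      · exact ⟨v, hv4, rfl⟩
      · exact ⟨w, hw4G, rfl⟩
  -- Thompson transfer for `t₁`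
  obtain ⟨Q₁, hQ₁def⟩ : ∃ Q₁ : Subgroup G, Q₁ = (h.maxSub 1).map (S : Subgroup G).subtype := ⟨_, rfl⟩
  have hmemQ₁ : ∀ s : (S : Subgroup G), (s : G) ∈ Q₁ ↔ s ∈ h.maxSub 1 := by
    intro s
    rw [hQ₁def]
    constructor
    · rintro ⟨s', hs', hss'⟩
      have : s' = s := Subtype.ext hss'
      rwa [← this]
    · intro hs
      exact ⟨s, hs, rfl⟩
  have hQ₁S : Q₁ ≤ S := by
    rw [hQ₁def]
    rintro _ ⟨s, -, rfl⟩
    exact s.2
  have hQ₁idx : Q₁.relIndex (S : Subgroup G) = 2 := by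
    rw [Subgroup.relIndex, hQ₁def, Subgroup.subgroupOf,
      Subgroup.comap_map_eq_self_of_injective (Subgroup.subtype_injective _)]
    exact h.index_maxSub 1
  have ht₁Q₁ : (t₁ : G) ∉ Q₁ := by
    rw [hmemQ₁, ht₁def, h.xpow_y_mem_maxSub]
    omega
  obtain ⟨K₁, hK₁n, hK₁i, ht₁K₁⟩ : ∃ K : Subgroup G, K.Normal ∧ K.index = 2 ∧ (t₁ : G) ∉ K := by
    rcases Cfsg.Agent.S0111.result S Q₁ hQ₁S hQ₁idx t₁ ht₁o t₁.2 ht₁Q₁ with hM | ⟨g, hg⟩
    · exact hM
    · exfalso
      apply hnz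
      have hgS : g * t₁ * g⁻¹ ∈ (S : Subgroup G) := hQ₁S hg
      have h2 : orderOf (⟨g * t₁ * g⁻¹, hgS⟩ : (S : Subgroup G)) = 2 := by
        rw [← Subgroup.orderOf_coe]
        show orderOf (g * t₁ * g⁻¹) = 2
        exact ((MulAut.conj g).orderOf_eq _).trans ht₁o
      have h3 := h.involution_maxSub_one _ ((hmemQ₁ _).mp hg) h2
      have h4 : g * t₁ * g⁻¹ = (z₀ : G) := by rw [hz₀def, ← h3]
      rw [isConj_comm, isConj_iff]
      exact ⟨g, h4⟩
  -- transfer for `w`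
  obtain ⟨Q₀, hQ₀def⟩ : ∃ Q₀ : Subgroup G, Q₀ = (h.maxSub 0).map (S : Subgroup G).subtype := ⟨_, rfl⟩
  have hmemQ₀ : ∀ s : (S : Subgroup G), (s : G) ∈ Q₀ ↔ s ∈ h.maxSub 0 := by
    intro s
    rw [hQ₀def]
    constructor
    · rintro ⟨s', hs', hss'⟩
      have : s' = s := Subtype.ext hss'
      rwa [← this]
    · intro hs
      exact ⟨s, hs, rfl⟩
  have hQ₀idx : Q₀.relIndex (S : Subgroup G) = 2 := by
    rw [Subgroup.relIndex, hQ₀def, Subgroup.subgroupOf,
      Subgroup.comap_map_eq_self_of_injective (Subgroup.subtype_injective _)]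
    exact h.index_maxSub 0
  obtain ⟨K₂, hK₂n, hK₂i, hwK₂⟩ : ∃ K : Subgroup G, K.Normal ∧ K.index = 2 ∧ w ∉ K := by
    apply transfer_index_two S Q₀ hQ₀idx w (hQS hwQ)
    intro g₀ m hm hmem
    rw [hw4G] at hm
    have hm4 : m ≤ 4 := Nat.le_of_dvd (by norm_num) hm
    have hpow2 : w ^ 2 = (z₀ : G) := by rw [pow_two]; exact hwsq
    have hpow4 : w ^ 4 = 1 := by
      have : w ^ 4 = (w * w) * (w * w) := by
        rw [show (4 : ℕ) = 2 + 2 from rfl, pow_add, pow_two]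
      rw [this]; exact hfour w hwQ
    interval_cases m
    · simp at hm
    · -- `m = 1`
      rw [pow_one] at hmem ⊢
      have h2 : orderOf (⟨g₀⁻¹ * w * g₀, hmem⟩ : (S : Subgroup G)) = 4 := by
        rw [← Subgroup.orderOf_coe]
        show orderOf (g₀⁻¹ * w * g₀) = 4
        have := (MulAut.conj g₀⁻¹).orderOf_eq w
        rw [MulAut.conj_apply, inv_inv] at this
        exact this.trans hw4G
      have hnot : g₀⁻¹ * w * g₀ ∉ Q₀ := by
        intro hin
        have hin' := (hmemQ₀ ⟨g₀⁻¹ * w * g₀, hmem⟩).mp hin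
        have hcj : IsConj w (g₀⁻¹ * w * g₀) := isConj_iff.mpr ⟨g₀⁻¹, by rw [inv_inv]⟩
        rcases (h.order_four_iff _).mp h2 with h' | h' | ⟨c', h'⟩
        · apply hnwv
          have : g₀⁻¹ * w * g₀ = (v : G) := by rw [hvdef, ← h']
          rw [← this]; exact hcj
        · apply hnwv
          have h5 := hmapConj _ _ hvinv
          rw [← h'] at h5
          exact hcj.trans h5
        · rw [h', h.xpow_y_mem_maxSub] at hin'
          omega
      exact iff_of_false hnot (by decide)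
    · -- `m = 2`
      rw [hpow2] at hmem ⊢
      have h2 : orderOf (⟨g₀⁻¹ * (z₀ : G) * g₀, hmem⟩ : (S : Subgroup G)) = 2 := by
        rw [← Subgroup.orderOf_coe]
        show orderOf (g₀⁻¹ * (z₀ : G) * g₀) = 2
        have := (MulAut.conj g₀⁻¹).orderOf_eq (z₀ : G)
        rw [MulAut.conj_apply, inv_inv] at this
        exact this.trans hz₀o
      have hin : g₀⁻¹ * (z₀ : G) * g₀ ∈ Q₀ := by
        rw [hmemQ₀ ⟨g₀⁻¹ * (z₀ : G) * g₀, hmem⟩]
        rcases (h.involution_iff _).mp h2 with h' | ⟨c', h'⟩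
        · rw [h', h.xpow_mem_maxSub]; exact ⟨2 * 2 ^ k, by ring⟩
        · rw [h', h.xpow_y_mem_maxSub]; exact ⟨c', by ring⟩
      exact iff_of_true hin (by decide)
    · omega
    · -- `m = 4`
      rw [hpow4]
      have : g₀⁻¹ * 1 * g₀ = 1 := by group
      rw [this]
      exact iff_of_true (one_mem _) (by decide)
  -- the intersection
  obtain ⟨K₀, hK₀def⟩ : ∃ K₀ : Subgroup G, K₀ = K₁ ⊓ K₂ := ⟨_, rfl⟩
  haveI hK₀n : K₀.Normal := by rw [hK₀def]; exact Subgroup.normal_inf_normal K₁ K₂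
  have hK₀i : ∃ a : ℕ, K₀.index = 2 ^ a := by
    have h1 : (K₁ ⊓ K₂).relIndex K₁ * K₁.index = (K₁ ⊓ K₂).index :=
      Subgroup.relIndex_mul_index inf_le_left
    rw [Subgroup.inf_relIndex_left, hK₁i] at h1
    have h2 : K₂.relIndex K₁ ∣ K₂.index := Subgroup.relIndex_dvd_index_of_normal K₂ K₁
    rw [hK₂i] at h2
    rcases (Nat.dvd_prime Nat.prime_two).mp h2 with h' | h'
    · exact ⟨1, by rw [hK₀def, ← h1, h']; norm_num⟩
    · exact ⟨2, by rw [hK₀def, ← h1, h']; norm_num⟩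
  obtain ⟨a, ha⟩ := hK₀i
  have hKS : ∀ K : Subgroup G, K.Normal → K.index = 2 → ∀ u : (S : Subgroup G), (u : G) ∉ K →
      IsCoatom (K.subgroupOf (S : Subgroup G)) := by
    intro K hKn hKi u hu
    apply isCoatom_of_index_two
    haveI := hKn
    have h1 : K.relIndex (S : Subgroup G) ∣ K.index := Subgroup.relIndex_dvd_index_of_normal K S
    rw [hKi] at h1
    have h2 : K.relIndex (S : Subgroup G) ≠ 1 := by
      intro hc
      rw [Subgroup.relIndex_eq_one] at hc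
      exact hu (hc u.2)
    rcases (Nat.dvd_prime Nat.prime_two).mp h1 with h' | h'
    · exact absurd h' h2
    · exact h'
  have hle : K₀.subgroupOf (S : Subgroup G) ≤ zpowers x := by
    intro s hs
    rw [hK₀def, mem_subgroupOf] at hs
    have hs1 : s ∈ K₁.subgroupOf (S : Subgroup G) := mem_subgroupOf.mpr hs.1
    have hs2 : s ∈ K₂.subgroupOf (S : Subgroup G) := mem_subgroupOf.mpr hs.2
    rcases Cfsg.Agent.S1192.coatom_cases h _ (hKS K₁ hK₁n hK₁i t₁ ht₁K₁) with h' | h' | h'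
    · rw [h'] at hs1; exact hs1
    · rcases Cfsg.Agent.S1192.coatom_cases h _ (hKS K₂ hK₂n hK₂i ⟨w, hQS hwQ⟩ hwK₂) with
        h'' | h'' | h''
      · rw [h''] at hs2; exact hs2
      · exfalso
        apply hwK₂
        have : (⟨w, hQS hwQ⟩ : (S : Subgroup G)) ∈ K₂.subgroupOf (S : Subgroup G) := by
          rw [h'', hw, h.xpow_y_mem_maxSub]; exact ⟨c'', by ring⟩
        exact mem_subgroupOf.mp this
      · rw [h'] at hs1
        rw [h''] at hs2
        rcases h.cases s with ⟨j, rfl⟩ | ⟨j, rfl⟩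
        · exact zpow_mem_zpowers x j
        · exfalso
          rw [h.xpow_y_mem_maxSub] at hs1 hs2
          omega
    · exfalso
      apply ht₁K₁
      have : t₁ ∈ K₁.subgroupOf (S : Subgroup G) := by
        rw [h', ht₁def, h.xpow_y_mem_maxSub]; exact ⟨c, by ring⟩
      exact mem_subgroupOf.mp this
  -- cyclic Sylow 2-subgroup of `K₀`
  have hcyc : IsCyclic ↥((S : Subgroup G).subgroupOf K₀) := by
    apply isCyclic_of_injective
      ((Subgroup.inclusion hle).comp (subgroupOfSwap K₀ (S : Subgroup G)).symm.toMonoidHom)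
    exact (Subgroup.inclusion_injective hle).comp (subgroupOfSwap K₀ (S : Subgroup G)).symm.injective
  have hK₀c : Cfsg.HasNormalPComplement 2 ↥K₀ :=
    Cfsg.Agent.Helper53.hasNormalPComplement_two_of_isCyclic
      (Cfsg.Agent.Helper53.sylowInfNormal S K₀) hcyc
  exact ⟨Cfsg.Agent.Helper53.hasNormalPComplement_of_normal_of_index_pow K₀ a ha hK₀c, hcard2, hcard4⟩

end Cfsg.Agent.S1207
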