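import Cfsg.Statements.S1208
import Cfsg.Agent.Helper20.WrU
import Cfsg.Agent.Helper20.WrGlobal

set_option autoImplicit false
open Cfsg

namespace Cfsg.Agent.S1208

open Cfsg.Agent.Helper20 Subgroup

theorem n_eq {S : Type*} [Group S] {x y z : S} {m : ℕ} (h : WrData S m x y z) (n : ℕ)
    (hn : Nat.card S = 2 ^ (2 * n + 1)) : n = m := by
  have h1 := h.card
  rw [hn] at h1
  have := Nat.pow_right_injective (le_refl 2) h1
  omega

/-- Let G be a finite group whose Sylow 2-subgroup S is wreathed of order 2^(2n+1), U the commutative subgroup of index 2 in S, Q a quaternion subgroup of order 8 of S and V = Q Z(S). Then |N_G(U) : C_G(U)| ∈ {2, 6} and |N_G(V) : V C_G(V)| ∈ {2, 6}. -/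
theorem result {G : Type*} [Group G] [Finite G] (S : Sylow 2 G) (hS : Cfsg.IsWreathed (S : Subgroup G)) (n : ℕ) (hn : Nat.card S = 2 ^ (2 * n + 1)) (U : Subgroup G) (hUS : U ≤ S) (hUab : IsMulCommutative U) (hUcard : Nat.card U = 2 ^ (2 * n)) (Q : Subgroup G) (hQS : Q ≤ S) (eQ : Q ≃* QuaternionGroup 2) : ((Subgroup.centralizer (U : Set G)).relIndex (Subgroup.normalizer (U : Set G)) = 2 ∨ (Subgroup.centralizer (U : Set G)).relIndex (Subgroup.normalizer (U : Set G)) = 6) ∧ (((Q ⊔ ((Subgroup.center (S : Subgroup G)).map (S : Subgroup G).subtype)) ⊔ Subgroup.centralizer ((Q ⊔ ((Subgroup.center (S : Subgroup G)).map (S : Subgroup G).subtype) : Subgroup G) : Set G)).relIndex (Subgroup.normalizer ((Q ⊔ ((Subgroup.center (S : Subgroup G)).map (S : Subgroup G).subtype) : Subgroup G) : Set G)) = 2 ∨ ((Q ⊔ ((Subgroup.center (S : Subgroup G)).map (S : Subgroup G).subtype)) ⊔ Subgroup.centralizer ((Q ⊔ ((Subgroup.center (S : Subgroup G)).map (S : Subgroup G).subtype) : Subgroup G) : Set G)).relIndex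 (Subgroup.normalizer ((Q ⊔ ((Subgroup.center (S : Subgroup G)).map (S : Subgroup G).subtype) : Subgroup G) : Set G)) = 6) := by
  obtain ⟨m, x, y, z, h⟩ := exists_wrData hS
  obtain rfl := n_eq h n hn
  constructor
  · -- Part 1
    have hU' : U.subgroupOf (S : Subgroup G) = h.U := by
      apply h.unique_U
      · refine ⟨⟨fun a b => ?_⟩⟩
        apply Subtype.ext
        apply Subtype.ext
        have := hUab.is_comm.comm (⟨(a : (S : Subgroup G)), mem_subgroupOf.mp a.2⟩ : U)
          ⟨(b : (S : Subgroup G)), mem_subgroupOf.mp b.2⟩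
        have h2 := congrArg Subtype.val this
        simpa using h2
      · rw [Nat.card_congr (Subgroup.subgroupOfEquivOfLe hUS).toEquiv, hUcard]
    have hmemU : ∀ s : (S : Subgroup G), (s : G) ∈ U ↔ s ∈ h.U := by
      intro s
      rw [← hU', mem_subgroupOf]
    apply relIndex_two_or_six_of_self_centralizing S U hUS
    · rw [← normal_subgroupOf_iff_le_normalizer hUS, hU']
      exact h.normal_U
    · intro s hs hc
      have : (⟨s, hs⟩ : (S : Subgroup G)) ∈ h.U := by
        apply h.mem_U_of_centralizes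
        intro u hu
        apply Subtype.ext
        exact hc (u : G) ((hmemU u).mpr hu)
      exact (hmemU ⟨s, hs⟩).mpr this
    · intro a ha b hb
      exact congrArg Subtype.val (hUab.is_comm.comm (⟨a, ha⟩ : U) ⟨b, hb⟩)
    · rw [Subgroup.relIndex, hU', h.index_U]
    · obtain ⟨k, hk⟩ := h.exists_card_mulAut_U
      refine ⟨k, ?_⟩
      have e : U ≃* h.U :=
        (Subgroup.subgroupOfEquivOfLe hUS).symm.trans (MulEquiv.subgroupCongr hU')
      rwa [Nat.card_congr (MulAut.congr e).toEquiv]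
  · -- Part 2
    have hQ' : Q.subgroupOf (S : Subgroup G) ≃* QuaternionGroup 2 :=
      (Subgroup.subgroupOfEquivOfLe hQS).trans eQ
    have hmemZ : ∀ ζ : G, ζ ∈ (Subgroup.center (S : Subgroup G)).map (S : Subgroup G).subtype ↔
        ∃ hζ : ζ ∈ (S : Subgroup G), (⟨ζ, hζ⟩ : (S : Subgroup G)) ∈ Subgroup.center (S : Subgroup G) := by
      intro ζ
      constructor
      · rintro ⟨ζ', hζ', rfl⟩
        exact ⟨ζ'.2, hζ'⟩
      · rintro ⟨hζ, hc⟩
        exact ⟨⟨ζ, hζ⟩, hc, rfl⟩
    apply relIndex_two_or_six_of_quat_central S Q _ hQS eQ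
    · -- Z ≤ S
      intro ζ hζ
      obtain ⟨hζS, -⟩ := (hmemZ ζ).mp hζ
      exact hζS
    · -- H1
      intro ζ hζ s hs
      obtain ⟨hζS, hc⟩ := (hmemZ ζ).mp hζ
      have := Subgroup.mem_center_iff.mp hc ⟨s, hs⟩
      exact congrArg Subtype.val this
    · -- H2
      have e : Subgroup.center (S : Subgroup G) ≃*
          (Subgroup.center (S : Subgroup G)).map (S : Subgroup G).subtype :=
        Subgroup.equivMapOfInjective _ _ (Subgroup.subtype_injective _)
      exact (h.isPGroup_mulAut_of_isCyclic _ h.isCyclic_center).of_equiv (MulAut.congr e)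
    · -- H3
      intro X hXS hnc c hcX hcc
      obtain ⟨p, hp, q, hq, hpq⟩ := hnc
      have hnc' : ¬ IsMulCommutative (X.subgroupOf (S : Subgroup G)) := by
        intro hcomm
        apply hpq
        have := hcomm.is_comm.comm
          (⟨⟨p, hXS hp⟩, mem_subgroupOf.mpr hp⟩ : X.subgroupOf (S : Subgroup G))
          ⟨⟨q, hXS hq⟩, mem_subgroupOf.mpr hq⟩
        exact congrArg (fun t : X.subgroupOf (S : Subgroup G) => ((t : (S : Subgroup G)) : G)) this
      have hle := Cfsg.Agent.S1201.result h.isWreathed (X.subgroupOf (S : Subgroup G)) hnc'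
      rw [hmemZ]
      refine ⟨hXS hcX, ?_⟩
      apply hle
      refine ⟨⟨⟨c, hXS hcX⟩, mem_subgroupOf.mpr hcX⟩, ?_, rfl⟩
      rw [SetLike.mem_coe, Subgroup.mem_center_iff]
      intro g
      apply Subtype.ext
      apply Subtype.ext
      exact (hcc _ (mem_subgroupOf.mp g.2)).symm
    · -- H4
      intro s hs hc
      rw [hmemZ]
      refine ⟨hs, ?_⟩
      apply h.centralizer_quat_le_center (Q.subgroupOf (S : Subgroup G)) hQ'
      intro q hq
      apply Subtype.ext
      exact hc (q : G) (mem_subgroupOf.mp hq)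
    · -- H5
      refine ⟨(x : G), x.2, ?_⟩
      intro hmem
      obtain ⟨hxS, hc⟩ := (hmemZ _).mp hmem
      apply h.x_sq_not_mem_center
      have : (⟨(x : G) * (x : G), hxS⟩ : (S : Subgroup G)) = x * x := Subtype.ext rfl
      rwa [this] at hc
    · -- H6
      intro ζ hζ hsq
      obtain ⟨hζS, hc⟩ := (hmemZ ζ).mp hζ
      have := h.central_involution_mem_quat (Q.subgroupOf (S : Subgroup G)) hQ' ⟨ζ, hζS⟩ hc
        (Subtype.ext hsq)
      exact mem_subgroupOf.mp this

end Cfsg.Agent.S1208
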