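import Cfsg.Statements.S1209
import Cfsg.Agent.Helper20.WrV
import Cfsg.Agent.Helper20.WrGlobal
import Cfsg.Agent.Helper20.Fusion3

set_option autoImplicit false
open Cfsg

namespace Cfsg.Agent.S1209

open Cfsg.Agent.Helper20 Subgroup

theorem n_eq {S : Type*} [Group S] {x y z : S} {m : ℕ} (h : WrData S m x y z) (n : ℕ)
    (hn : Nat.card S = 2 ^ (2 * n + 1)) : n = m := by
  have h1 := h.card
  rw [hn] at h1
  have := Nat.pow_right_injective (le_refl 2) h1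
  omega

/-- Let G be a finite group whose Sylow 2-subgroup S is wreathed of order 2^(2n+1), U the commutative subgroup of index 2 in S, Q a quaternion subgroup of order 8 of S and V = Q Z(S). If |N_G(U) : C_G(U)| = 6 and |N_G(V) : V C_G(V)| = 6, then G has no subgroup of index 2 and exactly one conjugacy class of involutions. -/
theorem result {G : Type*} [Group G] [Finite G] (S : Sylow 2 G) (hS : Cfsg.IsWreathed (S : Subgroup G)) (n : ℕ) (hn : Nat.card S = 2 ^ (2 * n + 1)) (U : Subgroup G) (hUS : U ≤ S) (hUab : IsMulCommutative U) (hUcard : Nat.card U = 2 ^ (2 * n)) (Q : Subgroup G) (hQS : Q ≤ S) (eQ : Q ≃* QuaternionGroup 2) (h₁ : (Subgroup.centralizer (U : Set G)).relIndex (Subgroup.normalizer (U : Set G)) = 6) (h₂ : ((Q ⊔ ((Subgroup.center (S : Subgroup G)).map (S : Subgroup G).subtype)) ⊔ Subgroup.centralizer ((Q ⊔ ((Subgroup.center (S : Subgroup G)).map (S : Subgroup G).subtype) : Subgroup G) : Set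 G)).relIndex (Subgroup.normalizer ((Q ⊔ ((Subgroup.center (S : Subgroup G)).map (S : Subgroup G).subtype) : Subgroup G) : Set G)) = 6) : (∀ H : Subgroup G, H.index ≠ 2) ∧ Nat.card {C : ConjClasses G // ∃ t : G, orderOf t = 2 ∧ ConjClasses.mk t = C} = 1 := by
  obtain ⟨m, x, y, z, h⟩ := exists_wrData hS
  obtain rfl := n_eq h n hn
  -- basic facts on `U`
  have hU' : U.subgroupOf (S : Subgroup G) = h.U := by
    apply h.unique_U
    · refine ⟨⟨fun a b => ?_⟩⟩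
      apply Subtype.ext
      apply Subtype.ext
      have := hUab.is_comm.comm (⟨(a : (S : Subgroup G)), mem_subgroupOf.mp a.2⟩ : U)
        ⟨(b : (S : Subgroup G)), mem_subgroupOf.mp b.2⟩
      have h2 := congrArg Subtype.val this
      simpa using h2
    · rw [Nat.card_congr (Subgroup.subgroupOfEquivOfLe hUS).toEquiv, hUcard]
  have hmemU : ∀ s : (S : Subgroup G), (s : G) ∈ U ↔ s ∈ h.U := by
    intro s
    rw [← hU', mem_subgroupOf]
  have hUcomm : ∀ a ∈ U, ∀ b ∈ U, a * b = b * a := fun a ha b hb =>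
    congrArg Subtype.val (hUab.is_comm.comm (⟨a, ha⟩ : U) ⟨b, hb⟩)
  have hU2 : ∀ u ∈ U, ∃ e : ℕ, u ^ 2 ^ e = 1 := by
    intro u hu
    obtain ⟨e, he⟩ := S.2 ⟨u, hUS hu⟩
    exact ⟨e, by simpa using congrArg Subtype.val he⟩
  -- the central involution and `T = Ω₁(U)`
  obtain ⟨c₀, hc₀def⟩ : ∃ c₀ : (S : Subgroup G),
      c₀ = x ^ (2 ^ (n - 1) : ℤ) * y ^ (2 ^ (n - 1) : ℤ) := ⟨_, rfl⟩
  have hc₀Z : c₀ ∈ Subgroup.center (S : Subgroup G) := hc₀def ▸ h.c_mem_center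
  have hc₀sq : c₀ * c₀ = 1 := hc₀def ▸ h.c_sq
  have hc₀1 : c₀ ≠ 1 := hc₀def ▸ h.c_ne_one
  have hc₀sq' : (c₀ : G) * (c₀ : G) = 1 := by
    have := congrArg Subtype.val hc₀sq
    simpa using this
  have hc₀1' : (c₀ : G) ≠ 1 := fun hc => hc₀1 (Subtype.ext hc)
  have hc₀U : (c₀ : G) ∈ U := (hmemU c₀).mpr (h.center_le_U hc₀Z)
  obtain ⟨T, hT⟩ : ∃ T : Subgroup G, T = h.T.map (S : Subgroup G).subtype := ⟨_, rfl⟩
  have hTK : IsKleinFour T := by
    rw [hT]
    exact isKleinFour_of_equiv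
      (Subgroup.equivMapOfInjective _ _ (Subgroup.subtype_injective _)).symm h.isKleinFour_T
  have hmemT : ∀ t : G, t ∈ T ↔ t ∈ U ∧ t * t = 1 := by
    intro t
    rw [hT]
    constructor
    · rintro ⟨t', ht', rfl⟩
      obtain ⟨h1, h2⟩ := (h.mem_T_iff t').mp ht'
      refine ⟨(hmemU t').mpr h1, ?_⟩
      have := congrArg Subtype.val h2
      simpa using this
    · rintro ⟨htU, hsq⟩
      exact ⟨⟨t, hUS htU⟩, (h.mem_T_iff _).mpr ⟨(hmemU ⟨t, hUS htU⟩).mp htU, Subtype.ext hsq⟩, rfl⟩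
  have hc₀T : (c₀ : G) ∈ T := (hmemT _).mpr ⟨hc₀U, hc₀sq'⟩
  -- Step U
  have h3U : 3 ∣ (centralizer (U : Set G)).relIndex (normalizer (U : Set G)) := by
    rw [h₁]; norm_num
  haveI : Fact (Nat.Prime 3) := ⟨Nat.prime_three⟩
  obtain ⟨g, hgN, hgC, hg3⟩ := exists_pow_mem_of_prime_dvd_relIndex _ _ h3U
  have hconjU : ∀ k ∈ normalizer (U : Set G), ∀ u ∈ U, k * u * k⁻¹ ∈ U :=
    fun k hk u hu => (mem_normalizer_iff.mp hk u).mp hu
  have hconjT : ∀ k ∈ normalizer (U : Set G), ∀ t ∈ T, k * t * k⁻¹ ∈ T := by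
    intro k hk t ht
    obtain ⟨htU, hsq⟩ := (hmemT t).mp ht
    refine (hmemT _).mpr ⟨hconjU k hk t htU, ?_⟩
    calc k * t * k⁻¹ * (k * t * k⁻¹) = k * (t * t) * k⁻¹ := by group
      _ = 1 := by rw [hsq]; group
  have hNT : normalizer (U : Set G) ≤ normalizer (T : Set G) := by
    intro k hk
    rw [mem_normalizer_iff]
    intro t
    constructor
    · exact hconjT k hk t
    · intro ht
      have := hconjT k⁻¹ (inv_mem hk) _ ht
      have e : k⁻¹ * (k * t * k⁻¹) * k⁻¹⁻¹ = t := by group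
      rwa [e] at this
  have hCT : ∀ k ∈ normalizer (U : Set G), k ^ 3 ∈ centralizer (U : Set G) →
      k ∈ centralizer (T : Set G) → k ∈ centralizer (U : Set G) := by
    intro k hk hk3 hkT
    apply mem_centralizer_of_fix_involutions U hUcomm hU2 hk (by norm_num : Odd 3) hk3
    intro u hu hsq
    have huT : u ∈ T := (hmemT u).mpr ⟨hu, hsq⟩
    have := mem_centralizer_iff.mp hkT u huT
    rw [← this]; group
  have hfpf : ∀ t ∈ T, t ≠ 1 → g * t * g⁻¹ ≠ t := by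
    intro t ht ht1 hfix
    rcases kleinFour_fix_imp_sq_centralizes hTK (hNT hgN) ht ht1 hfix with hc | hc
    · exact hgC (hCT g hgN hg3 hc)
    · have hgg : g * g ∈ centralizer (U : Set G) := by
        apply hCT (g * g) (mul_mem hgN hgN) _ hc
        have : (g * g) ^ 3 = g ^ 3 * g ^ 3 := by
          rw [← pow_two, ← pow_mul, ← pow_add]
        rw [this]; exact mul_mem hg3 hg3
      apply hgC
      have : g = g ^ 3 * (g * g)⁻¹ := by group
      rw [this]; exact mul_mem hg3 (inv_mem hgg)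
  have hTconj := kleinFour_isConj_of_fpf hTK (hNT hgN) hfpf
  -- Step V
  have hQ' : Q.subgroupOf (S : Subgroup G) ≃* QuaternionGroup 2 :=
    (Subgroup.subgroupOfEquivOfLe hQS).trans eQ
  obtain ⟨Z, hZ⟩ : ∃ Z : Subgroup G,
      Z = (Subgroup.center (S : Subgroup G)).map (S : Subgroup G).subtype := ⟨_, rfl⟩
  rw [← hZ] at h₂
  have hmemZ : ∀ ζ : G, ζ ∈ Z ↔
      ∃ hζ : ζ ∈ (S : Subgroup G), (⟨ζ, hζ⟩ : (S : Subgroup G)) ∈ Subgroup.center (S : Subgroup G) := by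
    intro ζ
    rw [hZ]
    constructor
    · rintro ⟨ζ', hζ', rfl⟩
      exact ⟨ζ'.2, hζ'⟩
    · rintro ⟨hζ, hc⟩
      exact ⟨⟨ζ, hζ⟩, hc, rfl⟩
  have hZS : Z ≤ S := by
    intro ζ hζ
    obtain ⟨hζS, -⟩ := (hmemZ ζ).mp hζ
    exact hζS
  have H1 : ∀ ζ ∈ Z, ∀ s ∈ (S : Subgroup G), s * ζ = ζ * s := by
    intro ζ hζ s hs
    obtain ⟨hζS, hc⟩ := (hmemZ ζ).mp hζ
    have := Subgroup.mem_center_iff.mp hc ⟨s, hs⟩
    exact congrArg Subtype.val this
  have H2 : IsPGroup 2 (MulAut Z) := by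
    have e : Subgroup.center (S : Subgroup G) ≃* Z := by
      rw [hZ]
      exact Subgroup.equivMapOfInjective _ _ (Subgroup.subtype_injective _)
    exact (h.isPGroup_mulAut_of_isCyclic _ h.isCyclic_center).of_equiv (MulAut.congr e)
  have H3 : ∀ X : Subgroup G, X ≤ S → (∃ p ∈ X, ∃ q ∈ X, p * q ≠ q * p) →
      ∀ c ∈ X, (∀ v ∈ X, c * v = v * c) → c ∈ Z := by
    intro X hXS hnc c hcX hcc
    obtain ⟨p, hp, q, hq, hpq⟩ := hnc
    have hnc' : ¬ IsMulCommutative (X.subgroupOf (S : Subgroup G)) := by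
      intro hcomm
      apply hpq
      have := hcomm.is_comm.comm
        (⟨⟨p, hXS hp⟩, mem_subgroupOf.mpr hp⟩ : X.subgroupOf (S : Subgroup G))
        ⟨⟨q, hXS hq⟩, mem_subgroupOf.mpr hq⟩
      exact congrArg (fun t : X.subgroupOf (S : Subgroup G) => ((t : (S : Subgroup G)) : G)) this
    have hle := Cfsg.Agent.S1201.result h.isWreathed (X.subgroupOf (S : Subgroup G)) hnc'
    rw [hmemZ]
    refine ⟨hXS hcX, ?_⟩
    apply hle
    refine ⟨⟨⟨c, hXS hcX⟩, mem_subgroupOf.mpr hcX⟩, ?_, rfl⟩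
    rw [SetLike.mem_coe, Subgroup.mem_center_iff]
    intro g
    apply Subtype.ext
    apply Subtype.ext
    exact (hcc _ (mem_subgroupOf.mp g.2)).symm
  have H6 : ∀ ζ ∈ Z, ζ * ζ = 1 → ζ ∈ Q := by
    intro ζ hζ hsq
    obtain ⟨hζS, hc⟩ := (hmemZ ζ).mp hζ
    have := h.central_involution_mem_quat (Q.subgroupOf (S : Subgroup G)) hQ' ⟨ζ, hζS⟩ hc
      (Subtype.ext hsq)
    exact mem_subgroupOf.mp this
  obtain ⟨hNQ, hNcZ, hCiff, hVset, hcenV⟩ := quat_central_facts S Q Z hQS eQ hZS H1 H2 H3 H6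
  have h3V : 3 ∣ ((Q ⊔ Z) ⊔ centralizer ((Q ⊔ Z : Subgroup G) : Set G)).relIndex
      (normalizer ((Q ⊔ Z : Subgroup G) : Set G)) := by
    rw [h₂]; norm_num
  obtain ⟨g', hg'N, hg'M, hg'3⟩ := exists_pow_mem_of_prime_dvd_relIndex _ _ h3V
  have hQV : Q ≤ Q ⊔ Z := le_sup_left
  have hZcQ : Z ≤ centralizer (Q : Set G) := fun ζ hζ =>
    mem_centralizer_iff.mpr (fun q hq => H1 ζ hζ q (hQS hq))
  have hMle : (Q ⊔ Z) ⊔ centralizer ((Q ⊔ Z : Subgroup G) : Set G) ≤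
      Q ⊔ centralizer (Q : Set G) :=
    sup_le (sup_le le_sup_left (hZcQ.trans le_sup_right))
      ((centralizer_le (SetLike.coe_subset_coe.mpr hQV)).trans le_sup_right)
  have hg'Q3 : g' ^ 3 ∈ Q ⊔ centralizer (Q : Set G) := hMle hg'3
  have hg'QM : g' ∉ Q ⊔ centralizer (Q : Set G) := by
    intro hc
    rw [← SetLike.mem_coe,
      coe_mul_of_left_le_normalizer_right _ _ (le_normalizer_centralizer_self Q)] at hc
    obtain ⟨q, hq, c, hc', hqc⟩ := hc
    have hcN : c ∈ normalizer ((Q ⊔ Z : Subgroup G) : Set G) := by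
      have : c = q⁻¹ * g' := by rw [← hqc]; group
      rw [this]
      exact mul_mem (inv_mem (le_normalizer (hQV hq))) hg'N
    have hcV : c ∈ centralizer ((Q ⊔ Z : Subgroup G) : Set G) := (hCiff c hcN).mpr hc'
    apply hg'M
    rw [← hqc]
    exact mul_mem (mem_sup_left (hQV hq)) (mem_sup_right hcV)
  have hidx : ∀ a ∈ Q, ∀ b ∈ Q, a ∉ U → b ∉ U → a * b ∈ U := by
    intro a ha b hb haU hbU
    have := (Subgroup.mul_mem_iff_of_index_two h.index_U (a := ⟨a, hQS ha⟩) (b := ⟨b, hQS hb⟩)).mpr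
      (iff_of_false (fun h' => haU ((hmemU _).mpr h')) (fun h' => hbU ((hmemU _).mpr h')))
    exact (hmemU _).mpr this
  obtain ⟨i, hiQ, hiU, hi2, hiuniq⟩ := exists_order_four_inter Q eQ U hUcomm hidx
  obtain ⟨hmv1, hmv2⟩ := quat_normalizer_moves Q eQ (hNQ hg'N) hg'Q3 hg'QM hiQ hi2
  have hgiQ : g' * i * g'⁻¹ ∈ Q := (mem_normalizer_iff.mp (hNQ hg'N) i).mp hiQ
  have hgi2 : (g' * i * g'⁻¹) * (g' * i * g'⁻¹) ≠ 1 := by
    intro hc
    apply hi2
    have : g' * (i * i) * g'⁻¹ = 1 := by rw [← hc]; group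
    exact conj_eq_one_imp this
  have hgiU : g' * i * g'⁻¹ ∉ U := fun hc => by
    rcases hiuniq _ hgiQ hc hgi2 with h' | h'
    · exact hmv1 h'
    · exact hmv2 h'
  obtain ⟨ω, hωZ, hωsq⟩ := h.exists_omega
  rw [← hc₀def] at hωsq
  have hωsq' : (ω : G) * (ω : G) = (c₀ : G) := by
    have := congrArg Subtype.val hωsq
    simpa using this
  have hii : i * i = (c₀ : G) := by
    rcases h.quat_sq_cases (Q.subgroupOf (S : Subgroup G)) hQ' ⟨i, hQS hiQ⟩
      (mem_subgroupOf.mpr hiQ) with h' | h'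
    · exact absurd (congrArg Subtype.val h') hi2
    · rw [← hc₀def] at h'; exact congrArg Subtype.val h'
  have hωU : (ω : G) ∈ U := (hmemU ω).mpr (h.center_le_U hωZ)
  have hωcomm : ∀ s ∈ (S : Subgroup G), s * (ω : G) = (ω : G) * s := fun s hs =>
    congrArg Subtype.val (Subgroup.mem_center_iff.mp hωZ ⟨s, hs⟩)
  obtain ⟨t₁, ht₁def⟩ : ∃ t₁ : G, t₁ = i * (ω : G) := ⟨_, rfl⟩
  have ht₁U : t₁ ∈ U := ht₁def ▸ U.mul_mem hiU hωU
  have ht₁sq : t₁ * t₁ = 1 := by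
    rw [ht₁def]
    calc i * (ω : G) * (i * (ω : G)) = i * ((ω : G) * i) * (ω : G) := by group
      _ = i * (i * (ω : G)) * (ω : G) := by rw [← hωcomm i (hQS hiQ)]
      _ = (i * i) * ((ω : G) * (ω : G)) := by group
      _ = 1 := by rw [hii, hωsq', hc₀sq']
  have ht₁1 : t₁ ≠ 1 := by
    intro hc
    apply h.quat_order4_not_central (Q.subgroupOf (S : Subgroup G)) hQ' ⟨i, hQS hiQ⟩
      (mem_subgroupOf.mpr hiQ) (by intro h'; exact hi2 (congrArg Subtype.val h'))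
    have : (⟨i, hQS hiQ⟩ : (S : Subgroup G)) = ω⁻¹ := by
      apply Subtype.ext
      rw [Subgroup.coe_inv]
      exact eq_inv_of_mul_eq_one_left (ht₁def ▸ hc)
    rw [this]; exact inv_mem hωZ
  have ht₁T : t₁ ∈ T := (hmemT t₁).mpr ⟨ht₁U, ht₁sq⟩
  obtain ⟨t₂, ht₂def⟩ : ∃ t₂ : G, t₂ = g' * t₁ * g'⁻¹ := ⟨_, rfl⟩
  have hωZ' : (ω : G) ∈ Z := (hmemZ _).mpr ⟨ω.2, hωZ⟩
  have hg'ω : g' * (ω : G) * g'⁻¹ = ω := by
    have := mem_centralizer_iff.mp (hNcZ hg'N) _ hωZ'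
    rw [← this]; group
  have ht₂eq : t₂ = (g' * i * g'⁻¹) * ω := by
    rw [ht₂def, ht₁def]
    calc g' * (i * (ω : G)) * g'⁻¹ = (g' * i * g'⁻¹) * (g' * (ω : G) * g'⁻¹) := by group
      _ = _ := by rw [hg'ω]
  have ht₂S : t₂ ∈ (S : Subgroup G) := by rw [ht₂eq]; exact mul_mem (hQS hgiQ) ω.2
  have ht₂U : t₂ ∉ U := by
    intro hc
    apply hgiU
    have : g' * i * g'⁻¹ = t₂ * (ω : G)⁻¹ := by rw [ht₂eq]; group
    rw [this]; exact U.mul_mem hc (U.inv_mem hωU)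
  have ht₂sq : t₂ * t₂ = 1 := by
    rw [ht₂def]
    calc g' * t₁ * g'⁻¹ * (g' * t₁ * g'⁻¹) = g' * (t₁ * t₁) * g'⁻¹ := by group
      _ = 1 := by rw [ht₁sq]; group
  -- all involutions are conjugate to `c₀`
  have hSinv : ∀ t ∈ (S : Subgroup G), t * t = 1 → t ≠ 1 → IsConj t (c₀ : G) := by
    intro t htS htsq ht1
    by_cases htU : t ∈ U
    · exact hTconj t ((hmemT t).mpr ⟨htU, htsq⟩) _ hc₀T ht1 hc₀1'
    · have h1 : IsConj (⟨t, htS⟩ : (S : Subgroup G)) ⟨t₂, ht₂S⟩ :=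
        h.involutions_outside_U_isConj (fun hc => htU ((hmemU _).mpr hc))
          (fun hc => ht₂U ((hmemU _).mpr hc)) (Subtype.ext htsq) (Subtype.ext ht₂sq)
      have h2 : IsConj t t₂ := by
        have := (S : Subgroup G).subtype.map_isConj h1
        simpa using this
      have h3 : IsConj t₂ t₁ := by
        rw [isConj_comm]; exact isConj_iff.mpr ⟨g', ht₂def.symm⟩
      exact (h2.trans h3).trans (hTconj t₁ ht₁T _ hc₀T ht₁1 hc₀1')
  have hall : ∀ t : G, orderOf t = 2 → IsConj t (c₀ : G) := by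
    intro t ht
    obtain ⟨htsq, ht1⟩ := (Cfsg.Agent.Helper20.orderOf_eq_two_iff t).mp ht
    have hp : IsPGroup 2 (zpowers t) := by
      apply IsPGroup.of_card (n := 1); rw [Nat.card_zpowers, ht, pow_one]
    obtain ⟨b, hb⟩ := exists_conj_le_sylow S hp
    have hbt : b * t * b⁻¹ ∈ (S : Subgroup G) := hb (conj_mem_map_conj _ b t (mem_zpowers t))
    have h1 : IsConj t (b * t * b⁻¹) := isConj_iff.mpr ⟨b, rfl⟩
    refine h1.trans (hSinv _ hbt ?_ ?_)
    · calc b * t * b⁻¹ * (b * t * b⁻¹) = b * (t * t) * b⁻¹ := by group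
        _ = 1 := by rw [htsq]; group
    · exact fun hc => ht1 (conj_eq_one_imp hc)
  have hcard : Nat.card {C : ConjClasses G // ∃ t : G, orderOf t = 2 ∧ ConjClasses.mk t = C} = 1 := by
    apply card_subtype_eq_one _ (ConjClasses.mk (c₀ : G))
    intro C
    constructor
    · rintro ⟨t, ht, rfl⟩
      exact ConjClasses.mk_eq_mk_iff_isConj.mpr (hall t ht)
    · rintro rfl
      exact ⟨c₀, (Cfsg.Agent.Helper20.orderOf_eq_two_iff _).mpr ⟨hc₀sq', hc₀1'⟩, rfl⟩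
  -- no subgroup of index two
  have hfpfU : ∀ w ∈ U, g * w * g⁻¹ = w → w = 1 := by
    intro w hw hfix
    by_contra hw1
    obtain ⟨e, he⟩ := hU2 w hw
    obtain ⟨e', -, he'⟩ := (Nat.dvd_prime_pow Nat.prime_two).mp (orderOf_dvd_of_pow_eq_one he)
    have he'0 : e' ≠ 0 := by
      rintro rfl
      rw [pow_zero, orderOf_eq_one_iff] at he'
      exact hw1 he'
    obtain ⟨e'', rfl⟩ := Nat.exists_eq_succ_of_ne_zero he'0
    have ht1 : w ^ 2 ^ e'' ≠ 1 :=
      pow_ne_one_of_lt_orderOf (by positivity)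
        (by rw [he']; exact Nat.pow_lt_pow_right (by norm_num) (Nat.lt_succ_self _))
    have htsq : w ^ 2 ^ e'' * w ^ 2 ^ e'' = 1 := by
      rw [← pow_add, ← two_mul, ← pow_succ', ← he', pow_orderOf_eq_one]
    have htT : w ^ 2 ^ e'' ∈ T := (hmemT _).mpr ⟨U.pow_mem hw _, htsq⟩
    apply hfpf _ htT ht1
    rw [← conj_pow, hfix]
  have hUG' : U ≤ commutator G := by
    intro u hu
    let f : U → U := fun v =>
      ⟨(v : G)⁻¹ * (g * v * g⁻¹), U.mul_mem (U.inv_mem v.2) (hconjU g hgN v v.2)⟩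
    have hinj : Function.Injective f := by
      intro v w hvw
      have h1 : (v : G)⁻¹ * (g * v * g⁻¹) = (w : G)⁻¹ * (g * w * g⁻¹) := congrArg Subtype.val hvw
      have h2 : g * ((v : G) * (w : G)⁻¹) * g⁻¹ = (v : G) * (w : G)⁻¹ := by
        calc g * ((v : G) * (w : G)⁻¹) * g⁻¹ = (g * v * g⁻¹) * (g * w * g⁻¹)⁻¹ := by group
          _ = (v : G) * ((v : G)⁻¹ * (g * v * g⁻¹)) * (g * w * g⁻¹)⁻¹ := by group
          _ = (v : G) * ((w : G)⁻¹ * (g * w * g⁻¹)) * (g * w * g⁻¹)⁻¹ := by rw [h1]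
          _ = (v : G) * (w : G)⁻¹ := by group
      have h3 := hfpfU _ (U.mul_mem v.2 (U.inv_mem w.2)) h2
      exact Subtype.ext (mul_inv_eq_one.mp h3)
    have hsurj : Function.Surjective f := Finite.injective_iff_surjective.mp hinj
    obtain ⟨v, hv⟩ := hsurj ⟨u, hu⟩
    have h1 : (v : G)⁻¹ * (g * v * g⁻¹) = u := congrArg Subtype.val hv
    rw [← h1]
    have : (v : G)⁻¹ * (g * v * g⁻¹) = (v : G)⁻¹ * g * (v : G)⁻¹⁻¹ * g⁻¹ := by group
    rw [this]
    exact conj_mul_inv_mem_commutator _ _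
  have hzG' : ((z : (S : Subgroup G)) : G) ∈ commutator G := by
    have hzsq : (z : G) * z = 1 := by
      have := congrArg Subtype.val h.z_sq
      simpa using this
    have hz1 : (z : G) ≠ 1 := fun hc => h.z_ne_one (Subtype.ext hc)
    have hconj := hSinv (z : G) z.2 hzsq hz1
    exact mem_commutator_of_isConj hconj.symm (hUG' hc₀U)
  have hSG' : (S : Subgroup G) ≤ commutator G := by
    intro s hs
    rcases h.cases ⟨s, hs⟩ with ⟨a, b, hab⟩ | ⟨a, b, hab⟩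
    · apply hUG'
      have : (⟨s, hs⟩ : (S : Subgroup G)) ∈ h.U := hab ▸ h.el_mem_U a b
      exact (hmemU ⟨s, hs⟩).mpr this
    · have h1 : s = ((x ^ a * y ^ b : (S : Subgroup G)) : G) * (z : G) := by
        have := congrArg Subtype.val hab
        simpa using this
      rw [h1]
      exact mul_mem (hUG' ((hmemU _).mpr (h.el_mem_U a b))) hzG'
  exact ⟨no_index_two_of_sylow_le_commutator S hSG', hcard⟩

end Cfsg.Agent.S1209
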