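import Mathlib
import Cfsg.Statements.S1201
import Cfsg.Agent.Helper99.WreathedIso
import Cfsg.Agent.Helper99.WreathedModel

set_option autoImplicit false
open Cfsg

namespace Cfsg.Agent.S1201

open Cfsg.Agent.Helper99

/-- model version -/
theorem model {N : ℕ} [Fact (1 < N)] (X : Subgroup (Wr N)) (hX : ∃ u ∈ X, ∃ v ∈ X, u * v ≠ v * u)
    (w : Wr N) (hw : ∀ v ∈ X, w * v = v * w) : ∀ s : Wr N, w * s = s * w := by
  rw [Wr.central_iff]
  obtain ⟨u₀, hu₀, v₀, hv₀, hne⟩ := hX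
  cases hc : w.c
  · refine ⟨rfl, ?_⟩
    -- some element of X has c = true
    have : ∃ v ∈ X, v.c = true := by
      by_contra hcon
      push Not at hcon
      apply hne
      exact Wr.comm_ff (by simpa using hcon u₀ hu₀) (by simpa using hcon v₀ hv₀)
    obtain ⟨v, hvX, hv⟩ := this
    exact (Wr.comm_ft_iff hc hv).mp (hw v hvX)
  · exfalso
    apply hne
    have key : ∀ u ∈ X, (u.c = false ∧ u.a = u.b) ∨ (u.c = true ∧ w.a + u.b = u.a + w.b) := by
      intro u hu
      cases huc : u.c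
      · left
        exact ⟨rfl, (Wr.comm_tf_iff hc huc).mp (hw u hu)⟩
      · right
        exact ⟨rfl, (Wr.comm_tt_iff hc huc).mp (hw u hu)⟩
    rcases key u₀ hu₀ with ⟨h1, h2⟩ | ⟨h1, h2⟩
    · exact ((Wr.central_iff u₀).mpr ⟨h1, h2⟩) v₀
    · rcases key v₀ hv₀ with ⟨h3, h4⟩ | ⟨h3, h4⟩
      · exact (((Wr.central_iff v₀).mpr ⟨h3, h4⟩) u₀).symm
      · rw [Wr.comm_tt_iff h1 h3]
        linear_combination h4 - h2

/-- If X is a non-commutative subgroup of a wreathed 2-group S, then Z(X) ≤ Z(S). -/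
theorem result {S : Type*} [Group S] [Finite S] (hS : Cfsg.IsWreathed S) (X : Subgroup S) (hX : ¬ IsMulCommutative X) : (Subgroup.center X).map X.subtype ≤ Subgroup.center S := by
  obtain ⟨n, x, y, z, h⟩ := exists_wrData hS
  haveI : Fact (1 < 2 ^ n) := ⟨Nat.one_lt_two_pow (by have := h.hn; omega)⟩
  let φ : S ≃* Wr (2 ^ n) := h.iso.symm
  have hX' : ∃ a ∈ X, ∃ b ∈ X, a * b ≠ b * a := by
    by_contra hcon
    push Not at hcon
    apply hX
    exact ⟨⟨fun a b => Subtype.ext (hcon a.1 a.2 b.1 b.2)⟩⟩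
  obtain ⟨a, ha, b, hb, hab⟩ := hX'
  rintro _ ⟨w, hw, rfl⟩
  rw [SetLike.mem_coe, Subgroup.mem_center_iff] at hw
  rw [Subgroup.mem_center_iff]
  have hmodel := model (X.map φ.toMonoidHom)
    ⟨φ a, Subgroup.mem_map_of_mem _ ha, φ b, Subgroup.mem_map_of_mem _ hb, by
      rw [← map_mul, ← map_mul]
      exact fun he => hab (φ.injective he)⟩
    (φ (w : S)) (by
      rintro _ ⟨v, hv, rfl⟩
      show φ ↑w * φ v = φ v * φ ↑w
      rw [← map_mul, ← map_mul]
      congr 1
      have := hw ⟨v, hv⟩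
      exact (congrArg Subtype.val this).symm)
  intro g
  have := hmodel (φ g)
  rw [← map_mul, ← map_mul] at this
  exact (φ.injective this).symm

end Cfsg.Agent.S1201
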