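import Cfsg.Statements.S1195
import Cfsg.Agent.Helper20.Wr2

set_option autoImplicit false
open Cfsg

namespace Cfsg.Agent.S1195

open Cfsg.Agent.Helper20

/-- A wreathed 2-group has exactly three conjugacy classes of elements of order 2. -/
theorem result {S : Type*} [Group S] [Finite S] (hS : Cfsg.IsWreathed S) : Nat.card {C : ConjClasses S // ∃ t : S, orderOf t = 2 ∧ ConjClasses.mk t = C} = 3 := by
  obtain ⟨n, x, y, z, h⟩ := exists_wrData hS
  have hz0 : z = x ^ (0 : ℤ) * y ^ (0 : ℤ) * z := by simp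
  apply card_subtype_eq_three _ (ConjClasses.mk (x ^ (2 ^ (n - 1) : ℤ)))
    (ConjClasses.mk (x ^ (2 ^ (n - 1) : ℤ) * y ^ (2 ^ (n - 1) : ℤ))) (ConjClasses.mk z)
  · rw [Ne, ConjClasses.mk_eq_mk_iff_isConj, isConj_comm, isConj_iff]
    rintro ⟨g, hg⟩
    have hc := Subgroup.mem_center_iff.mp h.c_mem_center g
    rw [hc, mul_inv_cancel_right] at hg
    have : x ^ (2 ^ (n - 1) : ℤ) * y ^ (2 ^ (n - 1) : ℤ) = x ^ (2 ^ (n - 1) : ℤ) * y ^ (0 : ℤ) := by
      rw [hg]; simp
    have := ((h.el_eq_iff _ _ _ _).mp this).2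
    rw [sub_zero] at this
    exact h.N_not_dvd_P this
  · rw [Ne, ConjClasses.mk_eq_mk_iff_isConj, isConj_iff]
    rintro ⟨g, hg⟩
    have h1 : g * x ^ (2 ^ (n - 1) : ℤ) * g⁻¹ ∈ h.U := by
      rw [h.conj_mem_U_iff]
      have := h.el_mem_U (2 ^ (n - 1)) 0
      simpa using this
    rw [hg] at h1
    exact h.z_not_mem_U h1
  · rw [Ne, ConjClasses.mk_eq_mk_iff_isConj, isConj_iff]
    rintro ⟨g, hg⟩
    have h1 : g * (x ^ (2 ^ (n - 1) : ℤ) * y ^ (2 ^ (n - 1) : ℤ)) * g⁻¹ ∈ h.U := by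
      rw [h.conj_mem_U_iff]
      exact h.el_mem_U _ _
    rw [hg] at h1
    exact h.z_not_mem_U h1
  · intro C
    constructor
    · rintro ⟨t, ht, rfl⟩
      by_cases htU : t ∈ h.U
      · rcases (h.el_involution_iff t htU).mp ht with rfl | rfl | rfl
        · left; rfl
        · left
          rw [ConjClasses.mk_eq_mk_iff_isConj]
          exact h.isConj_xP_yP.symm
        · right; left; rfl
      · right; right
        rcases h.cases t with ⟨i, j, rfl⟩ | ⟨i, j, rfl⟩
        · exact absurd (h.el_mem_U i j) htU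
        · rw [ConjClasses.mk_eq_mk_iff_isConj]
          have hd := (h.elz_involution_iff i j).mp ht
          have := h.isConj_elz i j 0 0 (by simpa using hd)
          rwa [← hz0] at this
    · rintro (rfl | rfl | rfl)
      · refine ⟨_, ?_, rfl⟩
        have hm : x ^ (2 ^ (n - 1) : ℤ) ∈ h.U := by
          have := h.el_mem_U (2 ^ (n - 1)) 0
          simpa using this
        exact (h.el_involution_iff _ hm).mpr (Or.inl rfl)
      · exact ⟨_, (h.el_involution_iff _ (h.el_mem_U _ _)).mpr (Or.inr (Or.inr rfl)), rfl⟩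
      · exact ⟨z, h.oz, rfl⟩

end Cfsg.Agent.S1195
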