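import Mathlib
import Cfsg.Statements.S1211
import Cfsg.Agent.S1195
import Cfsg.Agent.Helper99.WreathedFocal
import Cfsg.Agent.Helper99.FocalIndexTwo
import Cfsg.Agent.Helper99.OddKlein
import Cfsg.Agent.Helper99.InvClasses
import Cfsg.Agent.Helper53.NormalComplement

set_option autoImplicit false
open Cfsg

namespace Cfsg.Agent.S1211

open Cfsg.Agent.Helper99 Subgroup

/-- Let G be a finite group whose Sylow 2-subgroup S is wreathed of order 2^(2n+1), U the commutative subgroup of index 2 in S, Q a quaternion subgroup of order 8 of S and V = Q Z(S). If |N_G(U) : C_G(U)| = 6 and |N_G(V) : V C_G(V)| = 2, then G has a normal subgroup K of index 2 containing U (so U is a Sylow 2-subgroup of K) which has no subgroup of index 2, and G has exactly two classes of involutions. -/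
theorem result {G : Type*} [Group G] [Finite G] (S : Sylow 2 G) (hS : Cfsg.IsWreathed (S : Subgroup G)) (n : ℕ) (hn : Nat.card S = 2 ^ (2 * n + 1)) (U : Subgroup G) (hUS : U ≤ S) (hUab : IsMulCommutative U) (hUcard : Nat.card U = 2 ^ (2 * n)) (Q : Subgroup G) (hQS : Q ≤ S) (eQ : Q ≃* QuaternionGroup 2) (h₁ : (Subgroup.centralizer (U : Set G)).relIndex (Subgroup.normalizer (U : Set G)) = 6) (h₂ : ((Q ⊔ ((Subgroup.center (S : Subgroup G)).map (S : Subgroup G).subtype)) ⊔ Subgroup.centralizer ((Q ⊔ ((Subgroup.center (S : Subgroup G)).map (S : Subgroup G).subtype) : Subgroup G) : Set G)).relIndex (Subgroup.normalizer ((Q ⊔ ((Subgroup.center (S : Subgroup G)).map (S : Subgroup G).subtype) : Subgroup G) : Set G)) = 2) : (∃ K : Subgroup G, K.Normal ∧ K.index = 2 ∧ U ≤ K ∧ (∀ H : Subgroup ↥K, H.index ≠ 2)) ∧ Nat.card {C : ConjClasses G // ∃ t : G, orderOf t = 2 ∧ ConjClasses.mk t = C} = 2 := by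
  have : Fact (Nat.Prime 2) := ⟨Nat.prime_two⟩
  have hidx := wreathed_relIndex_abel S n hn U hUS hUcard
  have hfoc := wreathed_focal_le S hS n hn U hUS hUab hUcard Q hQS eQ h₂
  obtain ⟨K, hKn, hKidx, hUK, hKS⟩ := exists_normal_index_two_of_focal_le S U hUS hidx hfoc
  obtain ⟨⟨z, hzU, hzz, hz1, hzc⟩, hKlein, ⟨t, htS, htt, htU⟩⟩ :=
    wreathed_involutions S hS n hn U hUS hUab hUcard
  have hUp : IsPGroup 2 U := IsPGroup.of_card hUcard
  have hbad : BadPair 2 U := by
    by_contra hnb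
    have hR := isPGroup_range_of_not_badPair U hUp hnb
    obtain ⟨j, hj⟩ := IsPGroup.iff_card.mp hR
    have h6 : Nat.card U.normalizerMonoidHom.range = 6 := by
      rw [← Subgroup.index_ker, normalizerMonoidHom_ker]; exact h₁
    rw [h6] at hj
    have h3 : 3 ∣ 2 ^ j := ⟨2, by omega⟩
    have := Nat.Prime.dvd_of_dvd_pow Nat.prime_three h3
    omega
  obtain ⟨-, k, hk, hcop, hkc⟩ := hbad
  obtain ⟨φ, hφ⟩ : ∃ φ : MulAut U, φ = U.normalizerMonoidHom ⟨k, hk⟩ := ⟨_, rfl⟩
  have hφapp : ∀ x : U, ((φ x : U) : G) = k * x * k⁻¹ := by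
    intro x
    rw [hφ, normalizerMonoidHom_apply_apply_coe]
  have hodd : Odd (orderOf k) := Nat.Coprime.odd_of_right hcop
  have hφpow : φ ^ orderOf k = 1 := by
    rw [hφ, ← map_pow]
    have : (⟨k, hk⟩ : normalizer (U : Set G)) ^ (orderOf k) = 1 :=
      Subtype.ext (by rw [Subgroup.coe_pow, Subgroup.coe_one]; exact pow_orderOf_eq_one k)
    rw [this, map_one]
  have hφne : φ ≠ 1 := by
    intro h
    apply hkc
    have h1 : (⟨k, hk⟩ : normalizer (U : Set G)) ∈ U.normalizerMonoidHom.ker := by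
      rw [MonoidHom.mem_ker, ← hφ, h]
    rw [normalizerMonoidHom_ker, mem_subgroupOf] at h1
    exact h1
  have hcommU : ∀ a b : U, a * b = b * a := fun a b => hUab.is_comm.comm a b
  have h2U : ∀ u : U, ∃ e : ℕ, u ^ (2 ^ e) = 1 := fun u =>
    ⟨2 * n, by rw [← hUcard]; exact pow_card_eq_one'⟩
  have hKleinU : ∀ x y w : U, x * x = 1 → y * y = 1 → w * w = 1 → x ≠ 1 → y ≠ 1 → x ≠ y →
      w ≠ 1 → w ≠ x → w ≠ y → w = x * y := by
    intro x y w hx hy hw hx1 hy1 hxy hw1 hwx hwy
    apply Subtype.ext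
    rw [Subgroup.coe_mul]
    exact hKlein x x.2 y y.2 w w.2 (congrArg Subtype.val hx) (congrArg Subtype.val hy)
      (congrArg Subtype.val hw) (fun h => hx1 (Subtype.ext h)) (fun h => hy1 (Subtype.ext h))
      (fun h => hxy (Subtype.ext h)) (fun h => hw1 (Subtype.ext h)) (fun h => hwx (Subtype.ext h))
      (fun h => hwy (Subtype.ext h))
  have hnofix : ∀ w₀ : U, w₀ * w₀ = 1 → w₀ ≠ 1 → φ w₀ ≠ w₀ := fun w₀ h1 h2 h3 =>
    hφne (odd_aut_trivial_of_fix_one hcommU h2U hKleinU φ hodd hφpow w₀ h1 h2 h3)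
  have hkK : k ∈ K := by
    obtain ⟨b, hb⟩ := exists_pow_eq_self_of_coprime (x := k) (n := 2) hcop.symm
    rw [← hb]
    exact pow_mem (Subgroup.sq_mem_of_index_two hKidx k) b
  refine ⟨⟨K, hKn, hKidx, hUK, ?_⟩, ?_⟩
  · intro H hH
    have hHn : H.Normal := Subgroup.normal_of_index_eq_two hH
    have hFtop : H.comap (Subgroup.inclusion hUK) ≠ ⊤ := by
      intro htop
      have hle : U.subgroupOf K ≤ H := by
        intro x hx
        rw [mem_subgroupOf] at hx
        have h1 : (⟨(x : G), hx⟩ : U) ∈ H.comap (Subgroup.inclusion hUK) := by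
          rw [htop]; trivial
        rw [mem_comap] at h1
        have e : Subgroup.inclusion hUK ⟨(x : G), hx⟩ = x := Subtype.ext rfl
        rwa [e] at h1
      have h1 : H.index ∣ (U.subgroupOf K).index := Subgroup.index_dvd_of_le hle
      rw [hH] at h1
      have h2 : (U.subgroupOf K).index = (S : Subgroup G).relIndex K := by
        show U.relIndex K = _
        rw [← hKS, inf_relIndex_left]
      rw [h2] at h1
      exact Cfsg.Agent.Helper53.not_dvd_relIndex_sylow_of_normal S K h1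
    have hφF : ∀ x : U, x⁻¹ * φ x ∈ H.comap (Subgroup.inclusion hUK) := by
      intro x
      rw [mem_comap]
      have e : Subgroup.inclusion hUK (x⁻¹ * φ x) =
          (Subgroup.inclusion hUK x)⁻¹ *
            ((⟨k, hkK⟩ : K) * Subgroup.inclusion hUK x * (⟨k, hkK⟩ : K)⁻¹) := by
        apply Subtype.ext
        simp only [Subgroup.coe_inclusion, Subgroup.coe_mul, Subgroup.coe_inv, hφapp]
      rw [e, Subgroup.mul_mem_iff_of_index_two hH, inv_mem_iff]
      constructor
      · intro h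
        exact hHn.conj_mem _ h _
      · intro h
        have := hHn.conj_mem _ h (⟨k, hkK⟩ : K)⁻¹
        have e2 : (⟨k, hkK⟩ : K)⁻¹ * ((⟨k, hkK⟩ : K) * Subgroup.inclusion hUK x * (⟨k, hkK⟩ : K)⁻¹) *
            (⟨k, hkK⟩ : K)⁻¹⁻¹ = Subgroup.inclusion hUK x := by group
        rwa [e2] at this
    obtain ⟨w₀, h1, h2, h3⟩ := exists_fixed_involution hcommU h2U φ _ hFtop hφF
    exact hnofix w₀ h1 h2 h3
  · have hzo : orderOf z = 2 := (Wr.orderOf_eq_two_iff z).mpr ⟨hzz, hz1⟩
    have hz'U : k * z * k⁻¹ ∈ U := (mem_normalizer_iff.mp hk z).mp hzU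
    have hz'ne : k * z * k⁻¹ ≠ z := by
      intro h
      apply hnofix ⟨z, hzU⟩ (Subtype.ext hzz) (fun h => hz1 (congrArg Subtype.val h))
      apply Subtype.ext
      rw [hφapp]
      exact h
    have hz'o : orderOf (k * z * k⁻¹) = 2 := by
      have : k * z * k⁻¹ = MulAut.conj k z := rfl
      rw [this, MulEquiv.orderOf_eq, hzo]
    have hto : orderOf t = 2 := by
      rw [Wr.orderOf_eq_two_iff]
      refine ⟨htt, ?_⟩
      rintro rfl
      exact htU (one_mem U)
    apply card_involution_classes_eq_two S (Cfsg.Agent.S1195.result hS) z (k * z * k⁻¹) t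
      (hUS hzU) (hUS hz'U) hzo hz'o hto ⟨k, rfl⟩
    · intro s hs h
      apply hz'ne
      rw [← h, hzc s hs, mul_assoc, mul_inv_cancel, mul_one]
    · intro g h
      have h1 : g * z * g⁻¹ ∈ K := hKn.conj_mem z (hUK hzU) g
      rw [h] at h1
      apply htU
      rw [← hKS]
      exact ⟨h1, htS⟩

end Cfsg.Agent.S1211
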