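import Mathlib
import Cfsg.Statements.S1212
import Cfsg.Agent.S1195
import Cfsg.Agent.Helper99.WreathedFus2

set_option autoImplicit false
open Cfsg

namespace Cfsg.Agent.S1212

open Cfsg.Agent.Helper99

/-- Let G be a finite group whose Sylow 2-subgroup S is wreathed of order 2^(2n+1), U the commutative subgroup of index 2 in S, Q a quaternion subgroup of order 8 of S and V = Q Z(S). If |N_G(U) : C_G(U)| = 2 and |N_G(V) : V C_G(V)| = 2, then G has a normal 2-complement and exactly three conjugacy classes of involutions. -/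
theorem result {G : Type*} [Group G] [Finite G] (S : Sylow 2 G) (hS : Cfsg.IsWreathed (S : Subgroup G)) (n : ℕ) (hn : Nat.card S = 2 ^ (2 * n + 1)) (U : Subgroup G) (hUS : U ≤ S) (hUab : IsMulCommutative U) (hUcard : Nat.card U = 2 ^ (2 * n)) (Q : Subgroup G) (hQS : Q ≤ S) (eQ : Q ≃* QuaternionGroup 2) (h₁ : (Subgroup.centralizer (U : Set G)).relIndex (Subgroup.normalizer (U : Set G)) = 2) (h₂ : ((Q ⊔ ((Subgroup.center (S : Subgroup G)).map (S : Subgroup G).subtype)) ⊔ Subgroup.centralizer ((Q ⊔ ((Subgroup.center (S : Subgroup G)).map (S : Subgroup G).subtype) : Subgroup G) : Set G)).relIndex (Subgroup.normalizer ((Q ⊔ ((Subgroup.center (S : Subgroup G)).map (S : Subgroup G).subtype) : Subgroup G) : Set G)) = 2) : Cfsg.HasNormalPComplement 2 G ∧ Nat.card {C : ConjClasses G // ∃ t : G, orderOf t = 2 ∧ ConjClasses.mk t = C} = 3 := by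
  have : Fact (Nat.Prime 2) := ⟨Nat.prime_two⟩
  have hcomp : ∃ N : Subgroup G, N.Normal ∧ N.IsComplement' (S : Subgroup G) := by
    by_contra hno
    obtain ⟨E, hES, hbad, hcen⟩ := exists_centric_bad_of_not_complement S hno
    obtain ⟨hEp, k, hk, hcop, hkc⟩ := hbad
    have hA : ¬ IsPGroup 2 (MulAut E) := not_isPGroup_mulAut_of_normalizer E k hk hcop hkc
    rcases wreathed_centric_cases S hS n hn U hUS hUab hUcard Q hQS eQ E hES hcen hA with
      rfl | ⟨s, hsS, hs⟩
    · exact hkc (mem_centralizer_of_relIndex_two E k hk hcop h₁)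
    · have hbadV := BadPair.conj (p := 2) ⟨hEp, k, hk, hcop, hkc⟩ s
      rw [hs] at hbadV
      obtain ⟨hVp, k', hk', hcop', hkc'⟩ := hbadV
      obtain ⟨a, ha⟩ := IsPGroup.iff_card.mp hVp
      apply hkc'
      apply mem_centralizer_of_relIndex_two_sup _ k' hk' hcop' h₂ a
      intro v hv
      have h3 : (⟨v, hv⟩ : (Q ⊔ ((Subgroup.center (S : Subgroup G)).map (S : Subgroup G).subtype) :
          Subgroup G)) ^ (2 ^ a) = 1 := by
        rw [← ha]; exact pow_card_eq_one'
      exact congrArg Subtype.val h3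
  obtain ⟨N, hNn, hNc⟩ := hcomp
  refine ⟨⟨S, N, hNn, hNc⟩, ?_⟩
  rw [card_involution_classes_eq S N hNc]
  exact Cfsg.Agent.S1195.result hS

end Cfsg.Agent.S1212
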