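import Cfsg.Statements.S0001
import Cfsg.Agent.Helper1.SZ

set_option autoImplicit false
open Pointwise
open Cfsg

namespace Cfsg.Agent.S0001

/-- Conjugacy half of the Schur–Zassenhaus Theorem, under a solvability assumption on the normal Hall subgroup or on its quotient. -/
theorem result {G : Type*} [Group G] [Finite G] (N : Subgroup G) [N.Normal]
    (hN : (Nat.card N).Coprime N.index) (hsolv : Group.IsSolvable N ∨ Group.IsSolvable (G ⧸ N))
    (H K : Subgroup G) (hH : Subgroup.IsComplement' N H) (hK : Subgroup.IsComplement' N K) :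
    ∃ g : G, MulAut.conj g • H = K := by
  have hidx : N.index = Nat.card H := hH.symm.index_eq_card
  rw [hidx] at hN
  have hdisj : N ⊓ H = ⊥ := disjoint_iff.mp hH.disjoint
  refine Cfsg.Agent.Helper1.sz_conj N H K hN hH hK ?_
  rcases hsolv with h | h
  · exact Or.inl h
  · right
    have hinj : Function.Injective ((QuotientGroup.mk' N).comp H.subtype) := by
      intro a b hab
      simp only [MonoidHom.coe_comp, Subgroup.coe_subtype, Function.comp_apply,
        QuotientGroup.mk'_apply] at hab
      rw [QuotientGroup.eq] at hab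
      have h1 : (a : G)⁻¹ * b ∈ N ⊓ H := Subgroup.mem_inf.mpr ⟨hab, H.mul_mem (H.inv_mem a.2) b.2⟩
      rw [hdisj, Subgroup.mem_bot] at h1
      exact Subtype.ext (inv_mul_eq_one.mp h1)
    exact Group.isSolvable_of_isSolvable_injective hinj

end Cfsg.Agent.S0001
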