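import Cfsg.Statements.S2507
import Cfsg.Agent.Helper42.SL2Char2Count
import Cfsg.Agent.Helper5.PSL2

set_option autoImplicit false
open Cfsg

namespace Cfsg.Agent.S2507

open Cfsg.Agent.Helper42 Matrix

/-- centralizer indices are preserved by isomorphisms -/
theorem index_centralizer_equiv {G H : Type*} [Group G] [Group H] (e : G ≃* H) (g : G) :
    (Subgroup.centralizer ({e g} : Set H)).index = (Subgroup.centralizer ({g} : Set G)).index := by
  have : Subgroup.centralizer ({e g} : Set H) = (Subgroup.centralizer ({g} : Set G)).map e.toMonoidHom := by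
    ext k
    rw [Subgroup.mem_map_equiv, Subgroup.mem_centralizer_singleton_iff,
      Subgroup.mem_centralizer_singleton_iff]
    constructor
    · intro h
      apply e.injective
      rw [map_mul, map_mul, e.apply_symm_apply, h]
    · intro h
      have := congrArg e h
      rwa [map_mul, map_mul, e.apply_symm_apply] at this
  rw [this]
  exact Subgroup.index_map_equiv _ e

section

variable {F : Type*} [Field F] [Fintype F]

theorem eq_one_of_not_nonScalar [CharP F 2] (M : Matrix (Fin 2) (Fin 2) F) (hdet : M.det = 1)
    (h : ¬ IsNonScalarMat M) : M = 1 := by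
  unfold IsNonScalarMat at h
  rw [not_not] at h
  obtain ⟨h01, h10, h00⟩ := h
  rw [Matrix.det_fin_two, h01, h10, ← h00] at hdet
  have h20 : (2 : F) = 0 := CharTwo.two_eq_zero
  have h1 : (M 0 0 - 1) ^ 2 = 0 := by
    linear_combination hdet + (1 - M 0 0) * h20
  have h3 : M 0 0 = 1 := sub_eq_zero.mp (pow_eq_zero_iff (two_ne_zero) |>.mp h1)
  apply ext2
  · rw [h3]; rfl
  · rw [h01]; rfl
  · rw [h10]; rfl
  · rw [← h00, h3]; rfl

theorem nonScalar_of_ne_one [CharP F 2] (g : Matrix.SpecialLinearGroup (Fin 2) F) (hg : g ≠ 1) :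
    IsNonScalarMat (g : Matrix (Fin 2) (Fin 2) F) := by
  by_contra h
  apply hg
  have := eq_one_of_not_nonScalar (g : Matrix (Fin 2) (Fin 2) F) g.2 h
  apply Matrix.SpecialLinearGroup.ext
  intro i j
  rw [this]
  rfl

theorem card_centralizer_add [CharP F 2] [DecidableEq F] (g : Matrix.SpecialLinearGroup (Fin 2) F)
    (hg : IsNonScalarMat (g : Matrix (Fin 2) (Fin 2) F)) :
    Nat.card (Subgroup.centralizer ({g} : Set (Matrix.SpecialLinearGroup (Fin 2) F))) +
      rootCount ((g : Matrix (Fin 2) (Fin 2) F).trace) = Fintype.card F + 1 := by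
  rw [card_centralizer g hg, ← card_normOne_add_rootCount ((g : Matrix (Fin 2) (Fin 2) F).trace)]
  congr 1
  show Nat.card {p : F × F // qform ((g : Matrix (Fin 2) (Fin 2) F).trace) p = 1} = _
  rw [Nat.card_eq_fintype_card, Fintype.card_subtype]

/-- the three possible centralizer indices -/
theorem index_of_rootCount [CharP F 2] [DecidableEq F] (g : Matrix.SpecialLinearGroup (Fin 2) F)
    (hg : IsNonScalarMat (g : Matrix (Fin 2) (Fin 2) F)) :
    (rootCount ((g : Matrix (Fin 2) (Fin 2) F).trace) = 0 →
      (Subgroup.centralizer ({g} : Set (Matrix.SpecialLinearGroup (Fin 2) F))).index =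
        Fintype.card F * (Fintype.card F - 1)) ∧
    (rootCount ((g : Matrix (Fin 2) (Fin 2) F).trace) = 1 →
      (Subgroup.centralizer ({g} : Set (Matrix.SpecialLinearGroup (Fin 2) F))).index =
        Fintype.card F ^ 2 - 1) ∧
    (rootCount ((g : Matrix (Fin 2) (Fin 2) F).trace) = 2 →
      (Subgroup.centralizer ({g} : Set (Matrix.SpecialLinearGroup (Fin 2) F))).index =
        Fintype.card F * (Fintype.card F + 1)) := by
  have hadd := card_centralizer_add g hg
  have hmul := Subgroup.card_mul_index (Subgroup.centralizer ({g} : Set (Matrix.SpecialLinearGroup (Fin 2) F)))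
  rw [Cfsg.Agent.Helper5.card_SL2] at hmul
  have hq : 2 ≤ Fintype.card F := Fintype.one_lt_card
  obtain ⟨m, hm⟩ : ∃ m, Fintype.card F = m + 1 := ⟨Fintype.card F - 1, by omega⟩
  rw [hm] at hadd hmul ⊢
  have hm0 : 0 < m := by omega
  have hsq : (m + 1) ^ 2 - 1 = m * (m + 2) := by
    have : (m + 1) ^ 2 = m * (m + 2) + 1 := by ring
    rw [this, Nat.add_sub_cancel]
  simp only [Nat.add_sub_cancel]
  rw [hsq] at hmul ⊢
  set N := Nat.card (Subgroup.centralizer ({g} : Set (Matrix.SpecialLinearGroup (Fin 2) F))) with hN
  set I := (Subgroup.centralizer ({g} : Set (Matrix.SpecialLinearGroup (Fin 2) F))).index with hI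
  refine ⟨?_, ?_, ?_⟩
  · intro hr
    rw [hr] at hadd
    have hNv : N = m + 2 := by omega
    rw [hNv] at hmul
    have : (m + 2) * I = (m + 2) * ((m + 1) * m) := by rw [hmul]; ring
    exact Nat.eq_of_mul_eq_mul_left (by omega) this
  · intro hr
    rw [hr] at hadd
    have hNv : N = m + 1 := by omega
    rw [hNv] at hmul
    have : (m + 1) * I = (m + 1) * (m * (m + 2)) := by rw [hmul]
    exact Nat.eq_of_mul_eq_mul_left (by omega) this
  · intro hr
    rw [hr] at hadd
    have hNv : N = m := by omega
    rw [hNv] at hmul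
    have : m * I = m * ((m + 1) * (m + 1 + 1)) := by rw [hmul]; ring
    exact Nat.eq_of_mul_eq_mul_left hm0 this

end

/-- Let F be a finite field with q = 2^f ≥ 4 elements. The conjugacy class sizes of PSL(2,F) are exactly 1, q(q − 1), q² − 1 and q(q + 1). -/
theorem result {F : Type*} [Field F] [Fintype F]
    (h2 : 2 ∣ Fintype.card F) (h4 : 4 ≤ Fintype.card F) :
    Set.range (fun g : (Matrix.ProjectiveSpecialLinearGroup (Fin 2) F) => (Subgroup.centralizer ({g} : Set (Matrix.ProjectiveSpecialLinearGroup (Fin 2) F))).index) =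
      {1, Fintype.card F * (Fintype.card F - 1), Fintype.card F ^ 2 - 1, Fintype.card F * (Fintype.card F + 1)} := by
  classical
  have h20 : (2 : F) = 0 := Cfsg.Agent.Helper5.two_eq_zero_of_even_card (even_iff_two_dvd.mpr h2)
  have : CharP F 2 := CharTwo.of_one_ne_zero_of_two_eq_zero one_ne_zero h20
  have hcenter : Subgroup.center (Matrix.SpecialLinearGroup (Fin 2) F) = ⊥ := by
    rw [Subgroup.eq_bot_iff_forall]
    intro x hx
    by_contra hx1
    have hns := nonScalar_of_ne_one x hx1
    rw [Matrix.SpecialLinearGroup.mem_center_iff] at hx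
    obtain ⟨r, -, hrx⟩ := hx
    apply hns
    rw [← hrx]
    simp
  -- the isomorphism SL ≃* PSL
  have hbij : Function.Bijective (QuotientGroup.mk' (Subgroup.center (Matrix.SpecialLinearGroup (Fin 2) F))) := by
    refine ⟨?_, QuotientGroup.mk'_surjective _⟩
    rw [← MonoidHom.ker_eq_bot_iff, QuotientGroup.ker_mk', hcenter]
  let e : Matrix.SpecialLinearGroup (Fin 2) F ≃* Matrix.ProjectiveSpecialLinearGroup (Fin 2) F :=
    MulEquiv.ofBijective (QuotientGroup.mk' (Subgroup.center (Matrix.SpecialLinearGroup (Fin 2) F))) hbij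
  have hrange : Set.range (fun g : (Matrix.ProjectiveSpecialLinearGroup (Fin 2) F) => (Subgroup.centralizer ({g} : Set (Matrix.ProjectiveSpecialLinearGroup (Fin 2) F))).index) =
      Set.range (fun g : Matrix.SpecialLinearGroup (Fin 2) F =>
        (Subgroup.centralizer ({g} : Set (Matrix.SpecialLinearGroup (Fin 2) F))).index) := by
    ext n
    constructor
    · rintro ⟨k, rfl⟩
      refine ⟨e.symm k, ?_⟩
      simp only
      rw [← index_centralizer_equiv e (e.symm k), e.apply_symm_apply]
    · rintro ⟨g, rfl⟩
      exact ⟨e g, index_centralizer_equiv e g⟩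
  rw [hrange]
  apply Set.eq_of_subset_of_subset
  · rintro _ ⟨g, rfl⟩
    simp only [Set.mem_insert_iff, Set.mem_singleton_iff]
    by_cases hg : g = 1
    · left
      subst hg
      have : Subgroup.centralizer ({1} : Set (Matrix.SpecialLinearGroup (Fin 2) F)) = ⊤ := by
        ext k
        simp [Subgroup.mem_centralizer_singleton_iff]
      rw [this, Subgroup.index_top]
    · have hns := nonScalar_of_ne_one g hg
      obtain ⟨h0, h1, h2'⟩ := index_of_rootCount g hns
      have hle := rootCount_le_two ((g : Matrix (Fin 2) (Fin 2) F).trace)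
      interval_cases hr : rootCount ((g : Matrix (Fin 2) (Fin 2) F).trace)
      · right; left; exact h0 rfl
      · right; right; left; exact h1 rfl
      · right; right; right; exact h2' rfl
  · intro n hn
    simp only [Set.mem_insert_iff, Set.mem_singleton_iff] at hn
    rcases hn with rfl | rfl | rfl | rfl
    · refine ⟨1, ?_⟩
      have : Subgroup.centralizer ({1} : Set (Matrix.SpecialLinearGroup (Fin 2) F)) = ⊤ := by
        ext k
        simp [Subgroup.mem_centralizer_singleton_iff]
      simp only
      rw [this, Subgroup.index_top]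
    · -- irreducible case
      obtain ⟨t, ht⟩ := exists_rootCount_eq_zero (F := F)
      let g : Matrix.SpecialLinearGroup (Fin 2) F := ⟨!![0, 1; 1, t], by
        rw [Matrix.det_fin_two]
        simp only [Matrix.of_apply, Matrix.cons_val', Matrix.cons_val_zero, Matrix.cons_val_one,
          Matrix.cons_val_fin_one]
        rw [zero_mul, mul_one, zero_sub, CharTwo.neg_eq]⟩
      have hns : IsNonScalarMat (g : Matrix (Fin 2) (Fin 2) F) := by
        rintro ⟨h01, -, -⟩
        have : (g : Matrix (Fin 2) (Fin 2) F) 0 1 = 1 := rfl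
        rw [this] at h01
        exact one_ne_zero h01
      have htr : (g : Matrix (Fin 2) (Fin 2) F).trace = t := by
        rw [Matrix.trace_fin_two]
        show (0 : F) + t = t
        rw [zero_add]
      refine ⟨g, ?_⟩
      have := (index_of_rootCount g hns).1
      rw [htr] at this
      exact this ht
    · -- unipotent case
      let g : Matrix.SpecialLinearGroup (Fin 2) F := ⟨!![1, 1; 0, 1], by
        rw [Matrix.det_fin_two]
        simp⟩
      have hns : IsNonScalarMat (g : Matrix (Fin 2) (Fin 2) F) := by
        rintro ⟨h01, -, -⟩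
        have : (g : Matrix (Fin 2) (Fin 2) F) 0 1 = 1 := rfl
        rw [this] at h01
        exact one_ne_zero h01
      have htr : (g : Matrix (Fin 2) (Fin 2) F).trace = 0 := by
        rw [Matrix.trace_fin_two]
        show (1 : F) + 1 = 0
        have : (1 : F) + 1 = 2 := by norm_num
        rw [this, CharTwo.two_eq_zero]
      refine ⟨g, ?_⟩
      have := (index_of_rootCount g hns).2.1
      rw [htr] at this
      exact this rootCount_zero
    · -- split case
      obtain ⟨l, hl0, hl1⟩ : ∃ l : F, l ≠ 0 ∧ l ≠ 1 := by
        by_contra hcon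
        push Not at hcon
        have : Fintype.card F ≤ 2 := by
          have hsub : (Finset.univ : Finset F) ⊆ {0, 1} := by
            intro x _
            by_cases hx : x = 0
            · simp [hx]
            · simp [hcon x hx]
          calc Fintype.card F = (Finset.univ : Finset F).card := rfl
            _ ≤ ({0, 1} : Finset F).card := Finset.card_le_card hsub
            _ ≤ 2 := Finset.card_le_two
        omega
      let g : Matrix.SpecialLinearGroup (Fin 2) F := ⟨!![l, 0; 0, l⁻¹], by
        rw [Matrix.det_fin_two]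
        simp [hl0]⟩
      have hns : IsNonScalarMat (g : Matrix (Fin 2) (Fin 2) F) := by
        rintro ⟨-, -, h00⟩
        have h1 : (g : Matrix (Fin 2) (Fin 2) F) 0 0 = l := rfl
        have h2 : (g : Matrix (Fin 2) (Fin 2) F) 1 1 = l⁻¹ := rfl
        rw [h1, h2] at h00
        have h3 := rootCount_of_root l hl0 hl1
        -- l = l⁻¹ forces l = 1
        have h4 : l * l = 1 := by
          have := congrArg (fun z => l * z) h00
          simpa [hl0] using this
        have h5 : (l + 1) ^ 2 = 0 := by
          have : (l + 1) ^ 2 = l * l + 1 + 2 * l := by ring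
          rw [this, h4, CharTwo.two_eq_zero]
          have : (1 : F) + 1 = 2 := by norm_num
          rw [this, CharTwo.two_eq_zero]; ring
        have h6 := pow_eq_zero_iff (two_ne_zero) |>.mp h5
        have h7 : l = -1 := eq_neg_of_add_eq_zero_left h6
        rw [CharTwo.neg_eq] at h7
        exact hl1 h7
      have htr : (g : Matrix (Fin 2) (Fin 2) F).trace = l + l⁻¹ := by
        rw [Matrix.trace_fin_two]
        rfl
      refine ⟨g, ?_⟩
      have := (index_of_rootCount g hns).2.2
      rw [htr] at this
      exact this (rootCount_of_root l hl0 hl1)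

end Cfsg.Agent.S2507
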