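import Cfsg.Statements.S2503
import Cfsg.Agent.Helper42.SL2Torus
import Cfsg.Agent.S2507
import Cfsg.Agent.Helper5.PSL2

set_option autoImplicit false
open Cfsg

namespace Cfsg.Agent.S2503

open Cfsg.Agent.Helper42 Matrix

section

variable {F : Type*} [Field F]

/-- the upper unitriangular matrices -/
def upperU (F : Type*) [Field F] : Multiplicative F →* Matrix.SpecialLinearGroup (Fin 2) F where
  toFun z := ⟨!![1, Multiplicative.toAdd z; 0, 1], by
    rw [Matrix.det_fin_two]
    simp⟩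
  map_one' := by
    apply Matrix.SpecialLinearGroup.ext
    intro i j
    fin_cases i <;> fin_cases j <;> simp
  map_mul' := by
    intro z w
    apply Subtype.ext
    show !![1, Multiplicative.toAdd (z * w); 0, 1] =
      !![1, Multiplicative.toAdd z; 0, 1] * !![1, Multiplicative.toAdd w; 0, 1]
    rw [Matrix.mul_fin_two]
    simp [add_comm]

theorem upperU_apply (z : Multiplicative F) :
    ((upperU F z : Matrix.SpecialLinearGroup (Fin 2) F) : Matrix (Fin 2) (Fin 2) F) =
      !![1, Multiplicative.toAdd z; 0, 1] := rfl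

theorem upperU_injective : Function.Injective (upperU F) := by
  intro z w h
  have := congrArg (fun m : Matrix.SpecialLinearGroup (Fin 2) F => (m : Matrix (Fin 2) (Fin 2) F) 0 1) h
  simp only [upperU_apply] at this
  exact this

theorem mem_range_upperU (h : Matrix.SpecialLinearGroup (Fin 2) F)
    (h00 : (h : Matrix (Fin 2) (Fin 2) F) 0 0 = 1) (h10 : (h : Matrix (Fin 2) (Fin 2) F) 1 0 = 0) :
    h ∈ (upperU F).range := by
  have hdet := h.2
  rw [Matrix.det_fin_two, h00, h10, one_mul, mul_zero, sub_zero] at hdet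
  refine ⟨Multiplicative.ofAdd ((h : Matrix (Fin 2) (Fin 2) F) 0 1), ?_⟩
  apply Matrix.SpecialLinearGroup.ext
  intro i j
  rw [upperU_apply]
  fin_cases i <;> fin_cases j
  · exact h00.symm
  · rfl
  · exact h10.symm
  · exact hdet.symm

/-- first column of `M⁻¹ * N` when `M` and `N` have the same first column -/
theorem inv_mul_col (M N : Matrix.SpecialLinearGroup (Fin 2) F)
    (h0 : (N : Matrix (Fin 2) (Fin 2) F) 0 0 = (M : Matrix (Fin 2) (Fin 2) F) 0 0)
    (h1 : (N : Matrix (Fin 2) (Fin 2) F) 1 0 = (M : Matrix (Fin 2) (Fin 2) F) 1 0) :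
    ((M⁻¹ * N : Matrix.SpecialLinearGroup (Fin 2) F) : Matrix (Fin 2) (Fin 2) F) 0 0 = 1 ∧
    ((M⁻¹ * N : Matrix.SpecialLinearGroup (Fin 2) F) : Matrix (Fin 2) (Fin 2) F) 1 0 = 0 := by
  have hinv : ((M⁻¹ * M : Matrix.SpecialLinearGroup (Fin 2) F) : Matrix (Fin 2) (Fin 2) F) = 1 := by
    rw [inv_mul_cancel]; rfl
  rw [Matrix.SpecialLinearGroup.coe_mul] at hinv ⊢
  constructor
  · rw [mul00, h0, h1, ← mul00, hinv]; rfl
  · rw [mul10, h0, h1, ← mul10, hinv]; rfl

/-- the companion matrix of `X² + tX + 1` in characteristic 2 -/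
def comp2 [CharP F 2] (t : F) : Matrix.SpecialLinearGroup (Fin 2) F :=
  ⟨!![0, 1; 1, t], by
    rw [Matrix.det_fin_two]
    simp only [Matrix.of_apply, Matrix.cons_val', Matrix.cons_val_zero, Matrix.cons_val_one,
      Matrix.cons_val_fin_one]
    rw [zero_mul, mul_one, zero_sub, CharTwo.neg_eq]⟩

theorem comp2_nonScalar [CharP F 2] (t : F) :
    IsNonScalarMat ((comp2 t : Matrix.SpecialLinearGroup (Fin 2) F) : Matrix (Fin 2) (Fin 2) F) := by
  rintro ⟨h01, -, -⟩
  have : ((comp2 t : Matrix.SpecialLinearGroup (Fin 2) F) : Matrix (Fin 2) (Fin 2) F) 0 1 = 1 := rfl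
  rw [this] at h01
  exact one_ne_zero h01

theorem comp2_trace [CharP F 2] (t : F) :
    ((comp2 t : Matrix.SpecialLinearGroup (Fin 2) F) : Matrix (Fin 2) (Fin 2) F).trace = t := by
  rw [Matrix.trace_fin_two]
  show (0 : F) + t = t
  rw [zero_add]

variable [Fintype F] [DecidableEq F]

theorem exists_unit_vec [CharP F 2] (t : F) (hr : rootCount t = 0) (l m : F) :
    ∃ x y : F, qform t (x, y) = 1 ∧ l * x + m * y = 0 := by
  have h20 : (2 : F) = 0 := CharTwo.two_eq_zero
  by_cases h : l = 0 ∧ m = 0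
  · refine ⟨1, 0, ?_, ?_⟩
    · simp [qform]
    · rw [h.1]; ring
  · have hN : qform t (m, l) ≠ 0 := by
      intro h0
      have := qform_ne_zero_of_rootCount t hr m l h0
      exact h ⟨this.2, this.1⟩
    obtain ⟨s, hs⟩ := FiniteField.isSquare_of_char_two (ringChar.eq F 2) (qform t (m, l))⁻¹
    refine ⟨s * m, s * l, ?_, ?_⟩
    · have h1 : qform t (s * m, s * l) = (s * s) * qform t (m, l) := by
        simp only [qform]; ring
      rw [h1, ← hs, inv_mul_cancel₀ hN]
    · linear_combination (l * s * m) * h20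

/-- the key step: a vector of norm one whose image has norm one -/
theorem exists_norm_one_vec [CharP F 2] (t : F) (hr : rootCount t = 0)
    (g : Matrix.SpecialLinearGroup (Fin 2) F) :
    ∃ x y : F, qform t (x, y) = 1 ∧
      qform t ((g : Matrix (Fin 2) (Fin 2) F) 0 0 * x + (g : Matrix (Fin 2) (Fin 2) F) 0 1 * y,
        (g : Matrix (Fin 2) (Fin 2) F) 1 0 * x + (g : Matrix (Fin 2) (Fin 2) F) 1 1 * y) = 1 := by
  have h20 : (2 : F) = 0 := CharTwo.two_eq_zero
  set a := (g : Matrix (Fin 2) (Fin 2) F) 0 0 with ha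
  set b := (g : Matrix (Fin 2) (Fin 2) F) 0 1 with hb
  set c := (g : Matrix (Fin 2) (Fin 2) F) 1 0 with hc
  set d := (g : Matrix (Fin 2) (Fin 2) F) 1 1 with hd
  have hdet : a * d - b * c = 1 := by
    have := g.2
    rwa [Matrix.det_fin_two] at this
  obtain ⟨l, hl⟩ := FiniteField.isSquare_of_char_two (ringChar.eq F 2) (a ^ 2 + a * c * t + c ^ 2 + 1)
  obtain ⟨m, hm⟩ := FiniteField.isSquare_of_char_two (ringChar.eq F 2) (b ^ 2 + b * d * t + d ^ 2 + 1)
  obtain ⟨x, y, hx, hlin⟩ := exists_unit_vec t hr l m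
  refine ⟨x, y, hx, ?_⟩
  simp only [qform] at hx ⊢
  linear_combination (l * x + m * y) * hlin + x ^ 2 * hl + y ^ 2 * hm + t * x * y * hdet - hx +
    (t * x * y - 1 - l * m * x * y + (a * b + c * d) * x * y + b * c * t * x * y) * h20


/-- the `ABA` factorization in `SL(2,F)` -/
theorem sl2_ABA [CharP F 2] (t : F) (hr : rootCount t = 0)
    (g : Matrix.SpecialLinearGroup (Fin 2) F) :
    ∃ a ∈ Subgroup.centralizer ({comp2 t} : Set (Matrix.SpecialLinearGroup (Fin 2) F)),
      ∃ b ∈ (upperU F).range,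
        ∃ c ∈ Subgroup.centralizer ({comp2 t} : Set (Matrix.SpecialLinearGroup (Fin 2) F)),
          g = a * b * c := by
  obtain ⟨x, y, hx, hgx⟩ := exists_norm_one_vec t hr g
  -- the two torus elements
  have htr := comp2_trace (F := F) t
  let p1 : normOneSet ((comp2 t : Matrix.SpecialLinearGroup (Fin 2) F) : Matrix (Fin 2) (Fin 2) F).trace :=
    ⟨(x, y), by
      show x ^ 2 + x * y * _ + y ^ 2 = 1
      rw [htr]; exact hx⟩
  let p2 : normOneSet ((comp2 t : Matrix.SpecialLinearGroup (Fin 2) F) : Matrix (Fin 2) (Fin 2) F).trace :=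
    ⟨((g : Matrix (Fin 2) (Fin 2) F) 0 0 * x + (g : Matrix (Fin 2) (Fin 2) F) 0 1 * y,
        (g : Matrix (Fin 2) (Fin 2) F) 1 0 * x + (g : Matrix (Fin 2) (Fin 2) F) 1 1 * y), by
      show _ ^ 2 + _ * _ * _ + _ ^ 2 = 1
      rw [htr]; exact hgx⟩
  set c' := linSL (comp2 t) p1 with hc'
  set a' := linSL (comp2 t) p2 with ha'
  have hc'mem := linSL_mem (comp2 t) p1
  have ha'mem := linSL_mem (comp2 t) p2
  have hc00 : (c' : Matrix (Fin 2) (Fin 2) F) 0 0 = x := by
    rw [hc', coe_linSL, lin00]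
    show x + y * (0 : F) = x
    ring
  have hc10 : (c' : Matrix (Fin 2) (Fin 2) F) 1 0 = y := by
    rw [hc', coe_linSL, lin10]
    show y * (1 : F) = y
    ring
  have ha00 : (a' : Matrix (Fin 2) (Fin 2) F) 0 0 =
      (g : Matrix (Fin 2) (Fin 2) F) 0 0 * x + (g : Matrix (Fin 2) (Fin 2) F) 0 1 * y := by
    rw [ha', coe_linSL, lin00]
    show _ + _ * (0 : F) = _
    ring
  have ha10 : (a' : Matrix (Fin 2) (Fin 2) F) 1 0 =
      (g : Matrix (Fin 2) (Fin 2) F) 1 0 * x + (g : Matrix (Fin 2) (Fin 2) F) 1 1 * y := by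
    rw [ha', coe_linSL, lin10]
    show _ * (1 : F) = _
    ring
  have hcol := inv_mul_col a' (g * c')
    (by rw [Matrix.SpecialLinearGroup.coe_mul, mul00, hc00, hc10, ha00])
    (by rw [Matrix.SpecialLinearGroup.coe_mul, mul10, hc00, hc10, ha10])
  refine ⟨a', ha'mem, a'⁻¹ * (g * c'), mem_range_upperU _ hcol.1 hcol.2, c'⁻¹,
    Subgroup.inv_mem _ hc'mem, ?_⟩
  group

end

/-- Let F be a finite field with q = 2^t ≥ 4 elements and L = PSL(2,F). Then L has a cyclic subgroup A of order q + 1 and an elementary abelian 2-subgroup B of order q such that L = ABA: every element of L is a product a·b·a' with a, a' ∈ A and b ∈ B. -/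
theorem result {F : Type*} [Field F] [Fintype F]
    (h2 : 2 ∣ Fintype.card F) (h4 : 4 ≤ Fintype.card F) :
    ∃ A B : Subgroup (Matrix.ProjectiveSpecialLinearGroup (Fin 2) F),
      IsCyclic A ∧ Nat.card A = Fintype.card F + 1 ∧ IsMulCommutative B ∧ (∀ b ∈ B, b * b = 1) ∧
        Nat.card B = Fintype.card F ∧
        ∀ g : Matrix.ProjectiveSpecialLinearGroup (Fin 2) F, ∃ a ∈ A, ∃ b ∈ B, ∃ c ∈ A, g = a * b * c := by
  classical
  have h20 : (2 : F) = 0 := Cfsg.Agent.Helper5.two_eq_zero_of_even_card (even_iff_two_dvd.mpr h2)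
  have : CharP F 2 := CharTwo.of_one_ne_zero_of_two_eq_zero one_ne_zero h20
  have hcenter : Subgroup.center (Matrix.SpecialLinearGroup (Fin 2) F) = ⊥ := by
    rw [Subgroup.eq_bot_iff_forall]
    intro x hx
    by_contra hx1
    have hns := Cfsg.Agent.S2507.nonScalar_of_ne_one x hx1
    rw [Matrix.SpecialLinearGroup.mem_center_iff] at hx
    obtain ⟨r, -, hrx⟩ := hx
    apply hns
    rw [← hrx]
    simp
  have hbij : Function.Bijective (QuotientGroup.mk' (Subgroup.center (Matrix.SpecialLinearGroup (Fin 2) F))) := by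
    refine ⟨?_, QuotientGroup.mk'_surjective _⟩
    rw [← MonoidHom.ker_eq_bot_iff, QuotientGroup.ker_mk', hcenter]
  let e : Matrix.SpecialLinearGroup (Fin 2) F ≃* Matrix.ProjectiveSpecialLinearGroup (Fin 2) F :=
    MulEquiv.ofBijective (QuotientGroup.mk' (Subgroup.center (Matrix.SpecialLinearGroup (Fin 2) F))) hbij
  obtain ⟨t, ht⟩ := exists_rootCount_eq_zero (F := F)
  set A₀ := Subgroup.centralizer ({comp2 t} : Set (Matrix.SpecialLinearGroup (Fin 2) F)) with hA₀
  set B₀ := (upperU F).range with hB₀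
  have hinj : Function.Injective e.toMonoidHom := e.injective
  refine ⟨A₀.map e.toMonoidHom, B₀.map e.toMonoidHom, ?_, ?_, ?_, ?_, ?_, ?_⟩
  · haveI : IsCyclic A₀ := isCyclic_centralizer (comp2 t) (comp2_nonScalar t) (by rw [comp2_trace]; exact ht)
    exact isCyclic_of_surjective _ (e.toMonoidHom.subgroupMap_surjective A₀)
  · rw [Subgroup.card_map_of_injective hinj]
    have := Cfsg.Agent.S2507.card_centralizer_add (comp2 t) (comp2_nonScalar t)
    rw [comp2_trace, ht, add_zero] at this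
    exact this
  · refine ⟨⟨?_⟩⟩
    rintro ⟨_, ⟨b, ⟨z, rfl⟩, rfl⟩⟩ ⟨_, ⟨b', ⟨z', rfl⟩, rfl⟩⟩
    apply Subtype.ext
    show e.toMonoidHom (upperU F z) * e.toMonoidHom (upperU F z') =
      e.toMonoidHom (upperU F z') * e.toMonoidHom (upperU F z)
    rw [← map_mul, ← map_mul, ← map_mul, ← map_mul, mul_comm]
  · rintro _ ⟨b, ⟨z, rfl⟩, rfl⟩
    rw [← map_mul, ← map_mul]
    have : z * z = 1 := by
      apply Multiplicative.toAdd.injective
      show Multiplicative.toAdd z + Multiplicative.toAdd z = 0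
      exact CharTwo.add_self_eq_zero _
    rw [this, map_one, map_one]
  · rw [Subgroup.card_map_of_injective hinj, hB₀]
    rw [Nat.card_congr (MonoidHom.ofInjective (upperU_injective (F := F))).toEquiv.symm]
    rw [Nat.card_eq_fintype_card]
    exact Fintype.card_congr Multiplicative.toAdd
  · intro g
    obtain ⟨a, ha, b, hb, c, hc, habc⟩ := sl2_ABA t ht (e.symm g)
    refine ⟨e a, Subgroup.mem_map_of_mem _ ha, e b, Subgroup.mem_map_of_mem _ hb, e c,
      Subgroup.mem_map_of_mem _ hc, ?_⟩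
    rw [← map_mul, ← map_mul, ← habc, e.apply_symm_apply]

end Cfsg.Agent.S2503
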