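import Cfsg.Statements.S1515
import Cfsg.Agent.Helper25.GenChar

set_option autoImplicit false
open Cfsg

namespace Cfsg.Agent.S1515

open Cfsg.Agent.Helper25 in
/-- Let (S, τ, R) be a coherence system from L to G, χ ∈ S, and ψ an integer combination of S with ⟨χ, ψ⟩ = ⟨conj χ, ψ⟩ = 0. Let τ₁ be a linear isometry on the integer combinations of χ − ψ and χ − conj χ, with virtual-character values, agreeing with τ on integer multiples of χ − conj χ. Then the sum over α ∈ R χ of the squared absolute values of ⟨τ₁(χ − ψ), α⟩ is at least ⟨χ, χ⟩; and if ⟨τ₁(χ − ψ), τ₁(χ − ψ)⟩ minus that sum is at least ⟨ψ, ψ⟩, then the sum equals ⟨χ, χ⟩ and every ⟨τ₁(χ − ψ), α⟩ with α ∈ R χ is 0 or 1. -/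
theorem result {L : Type*} [Group L] [Fintype L] {G : Type*} [Group G] [Fintype G] (S : Set (L → ℂ)) (τ : (L → ℂ) → (G → ℂ)) (R : (L → ℂ) → Finset (G → ℂ)) (hS : Cfsg.IsCoherenceSystem S τ R) (χ : L → ℂ) (hχ : χ ∈ S) (ψ : L → ℂ) (hψ : ψ ∈ Cfsg.zspan S) (h1 : Cfsg.classInner χ ψ = 0) (h2 : Cfsg.classInner (Cfsg.conjFun χ) ψ = 0) (τ₁ : (L → ℂ) → (G → ℂ)) (hτ₁ : Cfsg.IsLinearIsometryOn (Cfsg.zspan {χ - ψ, χ - Cfsg.conjFun χ}) τ₁) (hagree : ∀ n : ℤ, τ₁ (n • (χ - Cfsg.conjFun χ)) = τ (n • (χ - Cfsg.conjFun χ))) : (Cfsg.classInner χ χ).re ≤ ∑ α ∈ R χ, ‖Cfsg.classInner (τ₁ (χ - ψ)) α‖ ^ 2 ∧ ((Cfsg.classInner ψ ψ).re ≤ (Cfsg.classInner (τ₁ (χ - ψ)) (τ₁ (χ - ψ))).re - ∑ α ∈ R χ, ‖Cfsg.classInner (τ₁ (χ - ψ)) α‖ ^ 2 → (∑ α ∈ R χ, ‖Cfsg.classInner (τ₁ (χ - ψ)) α‖ ^ 2 = (Cfsg.classInner χ χ).re ∧ ∀ α ∈ R χ, Cfsg.classInner (τ₁ (χ - ψ)) α = 0 ∨ Cfsg.classInner (τ₁ (χ - ψ)) α = 1)) := by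
  classical
  obtain ⟨hadd, hsmul, hinner, hgen⟩ := hτ₁
  have mem1 : χ - ψ ∈ zspan {χ - ψ, χ - conjFun χ} :=
    Submodule.subset_span (Set.mem_insert _ _)
  have mem2 : χ - conjFun χ ∈ zspan {χ - ψ, χ - conjFun χ} :=
    Submodule.subset_span (Set.mem_insert_of_mem _ rfl)
  set X := τ₁ (χ - ψ) with hXdef
  have hX : IsGeneralizedCharacter G X := hgen _ mem1
  have hτeq : τ₁ (χ - conjFun χ) = ∑ α ∈ R χ, α := by
    have := hagree 1
    rw [one_smul] at this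
    rw [this, hS.sum_eq χ hχ]
  -- integrality
  have hint : ∀ α : G → ℂ, ∃ m : ℤ, α ∈ R χ → classInner X α = m := by
    intro α
    by_cases hα : α ∈ R χ
    · obtain ⟨m, hm⟩ := isGenChar_inner_int hX (hS.virtual χ hχ α hα)
      exact ⟨m, fun _ => hm⟩
    · exact ⟨0, fun h => absurd h hα⟩
  choose m hm using hint
  -- the sum of the inner products
  have h3 : classInner ψ χ = 0 := by
    rw [← Helper74.classInner_conj_symm, h1, map_zero]
  have h4 : classInner ψ (conjFun χ) = 0 := by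
    rw [← Helper74.classInner_conj_symm, h2, map_zero]
  have h5 : classInner χ (conjFun χ) = 0 :=
    hS.orthogonal χ hχ (conjFun χ) (hS.conj_mem χ hχ) (fun h => hS.conj_ne χ hχ h.symm)
  have hsum : ∑ α ∈ R χ, classInner X α = classInner χ χ := by
    rw [← Helper74.classInner_sum_right, ← hτeq, hXdef, hinner _ mem1 _ mem2,
      Helper74.classInner_sub_left, Helper74.classInner_sub_right, Helper74.classInner_sub_right,
      h5, h3, h4]
    ring
  have hsumm : (classInner χ χ).re = ∑ α ∈ R χ, (m α : ℝ) := by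
    rw [← hsum, Complex.re_sum]
    refine Finset.sum_congr rfl (fun α hα => ?_)
    rw [hm α hα]; simp
  have hsq : ∑ α ∈ R χ, ‖classInner X α‖ ^ 2 = ∑ α ∈ R χ, (m α : ℝ) ^ 2 := by
    refine Finset.sum_congr rfl (fun α hα => ?_)
    rw [hm α hα, Complex.norm_intCast, sq_abs]
  have hle : ∀ α, (m α : ℝ) ≤ (m α : ℝ) ^ 2 := by
    intro α
    exact_mod_cast Int.le_self_sq (m α)
  refine ⟨?_, ?_⟩
  · rw [hsumm, hsq]
    exact Finset.sum_le_sum (fun α _ => hle α)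
  · intro hhyp
    have hXX : (classInner X X).re = (classInner χ χ).re + (classInner ψ ψ).re := by
      rw [hXdef, hinner _ mem1 _ mem1, Helper74.classInner_sub_left, Helper74.classInner_sub_right,
        Helper74.classInner_sub_right, h1, h3]
      simp
    rw [hXX, hsq, hsumm] at hhyp
    have hle2 : ∑ α ∈ R χ, (m α : ℝ) ^ 2 ≤ ∑ α ∈ R χ, (m α : ℝ) := by linarith
    have hge2 : ∑ α ∈ R χ, (m α : ℝ) ≤ ∑ α ∈ R χ, (m α : ℝ) ^ 2 :=
      Finset.sum_le_sum (fun α _ => hle α)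
    have heq : ∑ α ∈ R χ, (m α : ℝ) ^ 2 = ∑ α ∈ R χ, (m α : ℝ) := le_antisymm hle2 hge2
    refine ⟨by rw [hsq, hsumm, heq], ?_⟩
    have hzero : ∑ α ∈ R χ, ((m α : ℝ) ^ 2 - (m α : ℝ)) = 0 := by
      rw [Finset.sum_sub_distrib, heq, sub_self]
    have hterm := (Finset.sum_eq_zero_iff_of_nonneg (fun α _ => sub_nonneg.mpr (hle α))).mp hzero
    intro α hα
    have h := hterm α hα
    have h' : (m α : ℝ) * ((m α : ℝ) - 1) = 0 := by linear_combination h
    rw [hm α hα]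
    rcases mul_eq_zero.mp h' with h0 | h0
    · left
      have : m α = 0 := by exact_mod_cast h0
      rw [this]; simp
    · right
      have : (m α : ℝ) = 1 := by linarith
      have : m α = 1 := by exact_mod_cast this
      rw [this]; simp

end Cfsg.Agent.S1515
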