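import Cfsg.Statements.S1492
import Cfsg.Agent.Helper25.CentralBound

set_option autoImplicit false
open Cfsg

namespace Cfsg.Agent.S1492

open Cfsg.Agent.Helper25 Cfsg.Agent.Helper80 in
/-- Let ψ be an irreducible character of the finite group G and B ≤ D ≤ C subgroups with B normal in C, every commutator of an element of D with an element of C lying in B (so D/B is central in C/B), and ψ constant equal to ψ 1 on B. Then ψ(1) ^ 2 * |C| * |D| ≤ |G| ^ 2. -/
theorem result {G : Type*} [Group G] [Finite G] (ψ : G → ℂ) (hψ : Cfsg.IsIrrCharacter G ψ) (B C D : Subgroup G) (hBD : B ≤ D) (hDC : D ≤ C) (hBn : ∀ c ∈ C, ∀ b ∈ B, c * b * c⁻¹ ∈ B) (hcent : ∀ d ∈ D, ∀ c ∈ C, d * c * d⁻¹ * c⁻¹ ∈ B) (hker : ∀ b ∈ B, ψ b = ψ 1) : ‖ψ 1‖ ^ 2 * (Nat.card C : ℝ) * (Nat.card D : ℝ) ≤ (Nat.card G : ℝ) ^ 2 := by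
  classical
  have : Fintype G := Fintype.ofFinite G
  have : Fintype C := Fintype.ofFinite C
  -- restriction to C and a constituent
  have hψC : IsCharacter C (fun c : C => ψ c) :=
    Helper74.isCharacter_restrict C (IsIrrCharacter.isCharacter hψ)
  have h1ne : (fun c : C => ψ c) 1 ≠ 0 := IsIrrCharacter.map_one_ne_zero hψ
  obtain ⟨θ, hθm⟩ := exists_constituent hψC h1ne
  -- θ is trivial on B
  have hθB : ∀ k ∈ B.subgroupOf C, (θ : C → ℂ) k = (θ : C → ℂ) 1 := by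
    intro k hk
    exact constituent_apply_eq hψC θ hθm (hker k (Subgroup.mem_subgroupOf.mp hk))
  have hBnormal : (B.subgroupOf C).Normal := by
    constructor
    intro n hn g
    rw [Subgroup.mem_subgroupOf] at hn ⊢
    exact hBn g g.2 n hn
  -- elements of D act as scalars
  have hθD : ∀ d ∈ D.subgroupOf C, ‖(θ : C → ℂ) d‖ = (charDegree (θ : C → ℂ) : ℝ) := by
    intro d hd
    apply norm_eq_of_central_mod θ.2 (B.subgroupOf C) hθB
    intro c
    rw [Subgroup.mem_subgroupOf]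
    exact hcent d (Subgroup.mem_subgroupOf.mp hd) c c.2
  have hbound := charDegree_sq_mul_card_le θ.2 (D.subgroupOf C) hθD
  have hcardD : Nat.card (D.subgroupOf C) = Nat.card D :=
    Nat.card_congr (Subgroup.subgroupOfEquivOfLe hDC).toEquiv
  rw [hcardD] at hbound
  -- degree bound
  have hne : classInner (fun c : C => ψ c) (θ : C → ℂ) ≠ 0 := by
    rw [mult_spec _ hψC θ]
    have : mult _ hψC θ ≠ 0 := by omega
    exact_mod_cast this
  have hdeg := charDegree_le_index_mul hψ C (IsIrrCharacter.isCharacter θ.2) hne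
  -- combine
  have hnorm : ‖ψ 1‖ = (charDegree ψ : ℝ) := by
    rw [← IsCharacter.charDegree_cast (IsIrrCharacter.isCharacter hψ)]
    simp
  rw [hnorm]
  have hGC : Nat.card G = Nat.card C * C.index := (Subgroup.card_mul_index C).symm
  have e1 : (charDegree ψ : ℝ) ≤ (C.index : ℝ) * (charDegree (θ : C → ℂ) : ℝ) := by
    exact_mod_cast hdeg
  have e2 : (charDegree (θ : C → ℂ) : ℝ) ^ 2 * (Nat.card D : ℝ) ≤ (Nat.card C : ℝ) := by
    exact_mod_cast hbound
  have e3 : (Nat.card G : ℝ) = (Nat.card C : ℝ) * (C.index : ℝ) := by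
    exact_mod_cast hGC
  rw [e3]
  have hnn : (0 : ℝ) ≤ (charDegree ψ : ℝ) := Nat.cast_nonneg _
  have hsq : (charDegree ψ : ℝ) ^ 2 ≤ ((C.index : ℝ) * (charDegree (θ : C → ℂ) : ℝ)) ^ 2 :=
    pow_le_pow_left₀ hnn e1 2
  have hCnn : (0 : ℝ) ≤ (Nat.card C : ℝ) := Nat.cast_nonneg _
  have hDnn : (0 : ℝ) ≤ (Nat.card D : ℝ) := Nat.cast_nonneg _
  have hInn : (0 : ℝ) ≤ (C.index : ℝ) := Nat.cast_nonneg _
  calc (charDegree ψ : ℝ) ^ 2 * (Nat.card C : ℝ) * (Nat.card D : ℝ)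
      ≤ ((C.index : ℝ) * (charDegree (θ : C → ℂ) : ℝ)) ^ 2 * (Nat.card C : ℝ) * (Nat.card D : ℝ) := by
        apply mul_le_mul_of_nonneg_right _ hDnn
        exact mul_le_mul_of_nonneg_right hsq hCnn
    _ = (C.index : ℝ) ^ 2 * (Nat.card C : ℝ) *
          ((charDegree (θ : C → ℂ) : ℝ) ^ 2 * (Nat.card D : ℝ)) := by ring
    _ ≤ (C.index : ℝ) ^ 2 * (Nat.card C : ℝ) * (Nat.card C : ℝ) := by
        apply mul_le_mul_of_nonneg_left e2
        positivity
    _ = ((Nat.card C : ℝ) * (C.index : ℝ)) ^ 2 := by ring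

end Cfsg.Agent.S1492
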