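import Cfsg.Statements.S0882
import Cfsg.Agent.Helper15.ZassInv

set_option autoImplicit false
open Cfsg

namespace Cfsg.Agent.S0882

open MulAction
open Cfsg.Agent.Helper15.Zass
open Cfsg.Agent.Helper60.Zassenhaus

/-- Let G be a finite simple Zassenhaus group on Ω with n = h + 1 points whose two-point stabilizer E has odd order e with 2e < h - 1. Then any two involutions of G are conjugate, and the number of involutions is e * (h + 1) if h is even and e * h if h is odd. -/
theorem result {G Ω : Type*} [Group G] [Finite G] [MulAction G Ω] [Fintype Ω] (hZ : Cfsg.IsZassenhausGroup G Ω) {a b : Ω} (hab : a ≠ b) [IsSimpleGroup G] (h e : ℕ) (hh : Fintype.card Ω = h + 1) (he : Nat.card ↥(MulAction.stabilizer G a ⊓ MulAction.stabilizer G b : Subgroup G) = e) (hodd : Odd e) (hlt : 2 * e < h - 1) : (∀ x y : G, orderOf x = 2 → orderOf y = 2 → IsConj x y) ∧ Nat.card {x : G // orderOf x = 2} = (if Even h then e * (h + 1) else e * h) := by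
  classical
  have := Fintype.ofFinite G
  have hodd' : Odd (Nat.card ↥(stabilizer G a ⊓ stabilizer G b)) := by rw [he]; exact hodd
  refine ⟨fun x y hx hy => isConj_of_involutions hZ hab hodd' hx hy, ?_⟩
  have hn := three_le_card hZ
  have hcount := card_involutions_mul hZ hab hodd'
  rw [he, hh] at hcount
  have e1 : (h + 1) * (h + 1) - (h + 1) = (h + 1) * h := by
    rw [Nat.sub_eq_iff_eq_add (Nat.le_mul_self _)]; ring
  rw [e1] at hcount
  by_cases hev : Even h
  · rw [if_pos hev]
    have h1 : (h + 1) % 2 = 1 := by
      obtain ⟨k, hk⟩ := hev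
      omega
    rw [h1, Nat.add_sub_cancel] at hcount
    have hpos : 0 < h := by omega
    apply Nat.eq_of_mul_eq_mul_right hpos
    rw [hcount]; ring
  · rw [if_neg hev]
    have h1 : (h + 1) % 2 = 0 := by
      rcases Nat.even_or_odd h with h' | h'
      · exact absurd h' hev
      · obtain ⟨k, hk⟩ := h'
        omega
    rw [h1, Nat.sub_zero] at hcount
    apply Nat.eq_of_mul_eq_mul_right (show 0 < h + 1 by omega)
    rw [hcount]; ring

end Cfsg.Agent.S0882
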