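import Cfsg.Statements.S0883
import Cfsg.Agent.Helper15.ZassKernel

set_option autoImplicit false
open Cfsg

namespace Cfsg.Agent.S0883

open MulAction
open Cfsg.Agent.Helper15.Zass

/-- Let G be a finite simple Zassenhaus group on Ω with h + 1 points whose two-point stabilizer E has odd order e with 2e < h - 1, and let H be the subgroup of the stabilizer of a consisting of the identity and the elements fixing no point other than a (given here as a subgroup of the stabilizer of order one less than the number of points whose non-identity elements fix only a; it is the Frobenius kernel of the stabilizer). If a non-identity element u of H is a product of two involutions of G, then u is an involution. -/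
theorem result {G Ω : Type*} [Group G] [Finite G] [MulAction G Ω] [Fintype Ω] (hZ : Cfsg.IsZassenhausGroup G Ω) {a b : Ω} (hab : a ≠ b) [IsSimpleGroup G] (h e : ℕ) (hh : Fintype.card Ω = h + 1) (he : Nat.card ↥(MulAction.stabilizer G a ⊓ MulAction.stabilizer G b : Subgroup G) = e) (hodd : Odd e) (hlt : 2 * e < h - 1) (H : Subgroup G) (hHa : H ≤ MulAction.stabilizer G a) (hHcard : Nat.card H + 1 = Fintype.card Ω) (hHfix : ∀ u ∈ H, u ≠ 1 → ∀ c : Ω, u • c = c → c = a) (u : G) (hu : u ∈ H) (hu1 : u ≠ 1) (x y : G) (hx : orderOf x = 2) (hy : orderOf y = 2) (hxy : x * y = u) : orderOf u = 2 := by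
  have hodd' : Odd (Nat.card ↥(stabilizer G a ⊓ stabilizer G b)) := by rw [he]; exact hodd
  have hxx : x * x = 1 := by
    rw [← pow_two, ← hx]; exact pow_orderOf_eq_one x
  have hyy : y * y = 1 := by
    rw [← pow_two, ← hy]; exact pow_orderOf_eq_one y
  have hxinv : x⁻¹ = x := inv_eq_of_mul_eq_one_right hxx
  have hyinv : y⁻¹ = y := inv_eq_of_mul_eq_one_right hyy
  -- `x` inverts `u`
  have hinv : x * u * x⁻¹ = u⁻¹ := by
    rw [← hxy, mul_inv_rev, hxinv, hyinv, ← mul_assoc, hxx, one_mul]
  -- hence `x` fixes `a`
  have hua : u • a = a := hHa hu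
  have hxa : x • a = a := by
    apply hHfix u⁻¹ (H.inv_mem hu) (by simpa using hu1)
    rw [← hinv, mul_smul, mul_smul, inv_smul_smul, hua]
  -- so `x` commutes with `u`
  have hcomm := commute_kernel_of_involution hZ hab hodd' H hHa hHcard hHfix hx hxa hu
  have huu : u * u = 1 := by
    have h1 : x * u * x⁻¹ = u := by rw [← hcomm]; group
    rw [h1] at hinv
    calc u * u = u * u⁻¹ := by rw [← hinv]
      _ = 1 := mul_inv_cancel u
  exact orderOf_eq_prime (by rw [pow_two]; exact huu) hu1

end Cfsg.Agent.S0883
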