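import Cfsg.Statements.S0884
import Cfsg.Agent.S0882
import Cfsg.Agent.S0883
import Cfsg.Agent.Helper15.ZassCount
import Cfsg.Agent.Helper95.ClassSum

set_option autoImplicit false
open Cfsg

namespace Cfsg.Agent.S0884

/-- Let G be a finite simple Zassenhaus group on Ω with h + 1 points whose two-point stabilizer E has odd order e with 2e < h - 1, and let H be the subgroup of the stabilizer of a consisting of the identity and the elements fixing no point other than a (given here as a subgroup of the stabilizer of order one less than the number of points whose non-identity elements fix only a; it is the Frobenius kernel of the stabilizer). Then at least e conjugacy classes of G contain no element of H. -/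
theorem result {G Ω : Type*} [Group G] [Finite G] [MulAction G Ω] [Fintype Ω] (hZ : Cfsg.IsZassenhausGroup G Ω) {a b : Ω} (hab : a ≠ b) [IsSimpleGroup G] (h e : ℕ) (hh : Fintype.card Ω = h + 1) (he : Nat.card ↥(MulAction.stabilizer G a ⊓ MulAction.stabilizer G b : Subgroup G) = e) (hodd : Odd e) (hlt : 2 * e < h - 1) (H : Subgroup G) (hHa : H ≤ MulAction.stabilizer G a) (hHcard : Nat.card H + 1 = Fintype.card Ω) (hHfix : ∀ u ∈ H, u ≠ 1 → ∀ c : Ω, u • c = c → c = a) : e ≤ Nat.card {C : ConjClasses G // ∀ g : G, ConjClasses.mk g = C → g ∉ H} := by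
  classical
  open Cfsg.Agent.Helper21 Cfsg.Agent.Helper4 Cfsg.Agent.Helper95.ClassSum in
  haveI : Fintype G := Fintype.ofFinite G
  obtain ⟨hconj, hI⟩ := Cfsg.Agent.S0882.result hZ hab h e hh he hodd hlt
  have hG := Cfsg.Agent.Helper15.Zass.card_group_eq hZ.2.1 hab
  rw [he, hh] at hG
  have hG' : Nat.card G = (h + 1) * h * e := by
    rw [hG]
    have : (h + 1) * (h + 1) - (h + 1) = (h + 1) * h := by
      rw [Nat.sub_eq_iff_eq_add (Nat.le_mul_self _)]; ring
    rw [this]
  have hHc : Nat.card H = h := by omega
  have hepos : 0 < e := hodd.pos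
  have hh2 : 2 * e + 2 ≤ h := by omega
  let P : ConjClasses G → Prop := fun C => ∀ g : G, ConjClasses.mk g = C → g ∉ H
  let R : Finset G := Finset.univ.filter (fun z => P (ConjClasses.mk z))
  let Inv : Finset G := Finset.univ.filter (fun i => orderOf i = 2)
  let nb : G → Finset G := fun i => Inv.filter (fun j => j ≠ i ∧ (Even h → ¬ Commute i j))
  have hInv : ∀ i ∈ Inv, orderOf i = 2 := fun i hi => (Finset.mem_filter.mp hi).2
  have hnb : ∀ i ∈ Inv, ∀ j ∈ nb i, orderOf j = 2 ∧ i * j ∈ R := by
    intro i hi j hj
    have hi2 := hInv i hi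
    obtain ⟨hjInv, hji, hcomm⟩ := Finset.mem_filter.mp hj
    have hj2 := hInv j hjInv
    refine ⟨hj2, ?_⟩
    rw [Finset.mem_filter]
    refine ⟨Finset.mem_univ _, ?_⟩
    intro g hg hgH
    obtain ⟨c, hc⟩ := isConj_iff.mp (ConjClasses.mk_eq_mk_iff_isConj.mp hg)
    have hii : i * i = 1 := sq_one_of_orderOf_two hi2
    have hjj : j * j = 1 := sq_one_of_orderOf_two hj2
    have hx : orderOf (c⁻¹ * i * c) = 2 := by rw [orderOf_conj_eq', hi2]
    have hy : orderOf (c⁻¹ * j * c) = 2 := by rw [orderOf_conj_eq', hj2]
    have hxy : (c⁻¹ * i * c) * (c⁻¹ * j * c) = g := by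
      calc (c⁻¹ * i * c) * (c⁻¹ * j * c) = c⁻¹ * (i * j) * c := by group
        _ = c⁻¹ * (c * g * c⁻¹) * c := by rw [hc]
        _ = g := by group
    have hg1 : g ≠ 1 := by
      intro h1
      rw [h1] at hc
      have h2 : i * j = 1 := by rw [← hc]; group
      apply hji
      have h3 : i = j⁻¹ := eq_inv_of_mul_eq_one_left h2
      rw [h3, invol_inv hj2]
    have hg2 : orderOf g = 2 :=
      Cfsg.Agent.S0883.result hZ hab h e hh he hodd hlt H hHa hHcard hHfix g hgH hg1 _ _ hx hy hxy
    by_cases hev : Even h
    · apply hcomm hev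
      have hgg : g * g = 1 := sq_one_of_orderOf_two hg2
      have hijij : (i * j) * (i * j) = 1 := by
        calc (i * j) * (i * j) = (c * g * c⁻¹) * (c * g * c⁻¹) := by rw [hc]
          _ = c * (g * g) * c⁻¹ := by group
          _ = 1 := by rw [hgg]; group
      show i * j = j * i
      calc i * j = i * j * ((i * j) * (j * i)) := by
            have : (i * j) * (j * i) = 1 := by
              calc (i * j) * (j * i) = i * (j * j) * i := by group
                _ = 1 := by rw [hjj, mul_one, hii]
            rw [this, mul_one]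
        _ = ((i * j) * (i * j)) * (j * i) := by group
        _ = j * i := by rw [hijij, one_mul]
    · have hdvd : orderOf g ∣ Nat.card H := by
        have := orderOf_dvd_natCard (⟨g, hgH⟩ : H)
        rwa [Subgroup.orderOf_mk] at this
      rw [hg2, hHc] at hdvd
      exact hev (even_iff_two_dvd.mpr hdvd)
  have hle := invol_pairs_le R Inv nb hInv hnb
  have hsum := sum_card_centralizer_filter (G := G) P
  have hR : ∑ z ∈ R, Nat.card (Subgroup.centralizer ({z} : Set G))
      = Nat.card {C : ConjClasses G // P C} * Nat.card G := hsum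
  rw [hR] at hle
  have hIcard : Inv.card = Nat.card {x : G // orderOf x = 2} := by
    rw [Nat.card_eq_fintype_card, Fintype.card_subtype]
  -- it suffices to show a strict inequality
  suffices hstrict : (e - 1) * Nat.card G < ∑ i ∈ Inv, (nb i).card by
    have h1 : (e - 1) * Nat.card G < Nat.card {C : ConjClasses G // P C} * Nat.card G :=
      lt_of_lt_of_le hstrict hle
    have h2 : e - 1 < Nat.card {C : ConjClasses G // P C} := Nat.lt_of_mul_lt_mul_right h1
    show e ≤ Nat.card {C : ConjClasses G // P C}
    omega
  obtain ⟨e', rfl⟩ : ∃ e', e = e' + 1 := ⟨e - 1, by omega⟩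
  rw [Nat.add_sub_cancel, hG']
  by_cases hev : Even h
  · -- `h` even
    rw [if_pos hev] at hI
    have hIc : Inv.card = (e' + 1) * (h + 1) := by rw [hIcard, hI]
    -- the centralizer of an involution has order `h`
    have hcent : ∀ i ∈ Inv, Nat.card (Subgroup.centralizer ({i} : Set G)) = h := by
      intro i hi
      have hi2 := hInv i hi
      have h1 := Cfsg.Agent.Helper74.card_isConj_mul_card_centralizer i
      have h2 : Nat.card {x : G // IsConj x i} = Nat.card {x : G // orderOf x = 2} := by
        apply Nat.card_congr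
        refine Equiv.subtypeEquivRight (fun x => ?_)
        constructor
        · intro hx
          obtain ⟨d, hd⟩ := isConj_iff.mp hx
          have : x = d⁻¹ * i * d := by rw [← hd]; group
          rw [this, orderOf_conj_eq', hi2]
        · intro hx
          exact hconj x i hx hi2
      rw [h2, hI, hG'] at h1
      have hpos : 0 < (e' + 1) * (h + 1) := by positivity
      apply Nat.eq_of_mul_eq_mul_left hpos
      rw [h1]; ring
    have hnbcard : ∀ i ∈ Inv, (e' + 1) * (h + 1) - (h - 1) ≤ (nb i).card := by
      intro i hi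
      have hi2 := hInv i hi
      let cF : Finset G := Inv.filter (fun j => Commute i j)
      have hsub : Inv \ cF ⊆ nb i := by
        intro j hj
        rw [Finset.mem_sdiff] at hj
        rw [Finset.mem_filter]
        refine ⟨hj.1, ?_, fun _ hc => hj.2 (Finset.mem_filter.mpr ⟨hj.1, hc⟩)⟩
        intro hji
        apply hj.2
        rw [Finset.mem_filter]
        exact ⟨hj.1, by rw [hji]⟩
      have hcF : cF.card ≤ h - 1 := by
        have hsub2 : cF ⊆ (Finset.univ.filter
            (fun x => x ∈ Subgroup.centralizer ({i} : Set G))).erase 1 := by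
          intro j hj
          obtain ⟨hjI, hjc⟩ := Finset.mem_filter.mp hj
          rw [Finset.mem_erase, Finset.mem_filter]
          refine ⟨?_, Finset.mem_univ _, ?_⟩
          · intro h1
            have := hInv j hjI
            rw [h1, orderOf_one] at this
            omega
          · rw [Subgroup.mem_centralizer_singleton_iff]
            exact hjc.eq.symm
        have h1 := Finset.card_le_card hsub2
        rw [Finset.card_erase_of_mem] at h1
        · have h2 : (Finset.univ.filter (fun x => x ∈ Subgroup.centralizer ({i} : Set G))).card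
              = Nat.card (Subgroup.centralizer ({i} : Set G)) := by
            rw [Nat.card_eq_fintype_card, Fintype.card_subtype]
          rw [h2, hcent i hi] at h1
          exact h1
        · rw [Finset.mem_filter]
          exact ⟨Finset.mem_univ _, Subgroup.one_mem _⟩
      have h3 : (Inv \ cF).card = Inv.card - cF.card :=
        Finset.card_sdiff_of_subset (Finset.filter_subset _ _)
      have h4 := Finset.card_le_card hsub
      rw [h3, hIc] at h4
      omega
    have hsumle : Inv.card * ((e' + 1) * (h + 1) - (h - 1)) ≤ ∑ i ∈ Inv, (nb i).card := by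
      rw [← smul_eq_mul, ← Finset.sum_const]
      exact Finset.sum_le_sum hnbcard
    refine lt_of_lt_of_le ?_ hsumle
    rw [hIc]
    have e1 : (e' + 1) * (h + 1) - (h - 1) = e' * h + e' + 2 := by
      have : (e' + 1) * (h + 1) = e' * h + e' + 2 + (h - 1) := by
        have hh1 : h - 1 + 1 = h := by omega
        calc (e' + 1) * (h + 1) = e' * h + e' + (h + 1) := by ring
          _ = e' * h + e' + ((h - 1 + 1) + 1) := by rw [hh1]
          _ = e' * h + e' + 2 + (h - 1) := by ring
      rw [this, Nat.add_sub_cancel]
    rw [e1]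
    have e2 : e' * ((h + 1) * h * (e' + 1)) + ((e' + 1) * (h + 1)) * (e' + 2)
        = (e' + 1) * (h + 1) * (e' * h + e' + 2) := by ring
    have hpos : 0 < ((e' + 1) * (h + 1)) * (e' + 2) := by positivity
    omega
  · -- `h` odd
    rw [if_neg hev] at hI
    have hIc : Inv.card = (e' + 1) * h := by rw [hIcard, hI]
    have hnbcard : ∀ i ∈ Inv, (nb i).card = (e' + 1) * h - 1 := by
      intro i hi
      have h1 : nb i = Inv.erase i := by
        ext j
        rw [Finset.mem_filter, Finset.mem_erase]
        constructor
        · rintro ⟨hj, hji, -⟩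
          exact ⟨hji, hj⟩
        · rintro ⟨hji, hj⟩
          exact ⟨hj, hji, fun h' => absurd h' hev⟩
      rw [h1, Finset.card_erase_of_mem hi, hIc]
    rw [Finset.sum_congr rfl hnbcard, Finset.sum_const, smul_eq_mul, hIc]
    obtain ⟨m, rfl⟩ : ∃ m, h = 2 * (e' + 1) + 2 + m := ⟨h - (2 * (e' + 1) + 2), by omega⟩
    have e1 : (e' + 1) * (2 * (e' + 1) + 2 + m) - 1
        = (e' + 1) * (2 * (e' + 1) + 2 + m) - 1 := rfl
    have hpos : 1 ≤ (e' + 1) * (2 * (e' + 1) + 2 + m) := by
      have : 0 < (e' + 1) * (2 * (e' + 1) + 2 + m) := by positivity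
      omega
    obtain ⟨q, hq⟩ : ∃ q, (e' + 1) * (2 * (e' + 1) + 2 + m) = q + 1 :=
      ⟨(e' + 1) * (2 * (e' + 1) + 2 + m) - 1, by omega⟩
    rw [hq, Nat.add_sub_cancel]
    -- `e' * ((h+1) * h * (e'+1)) < (q+1) * q`
    have e3 : e' * ((2 * (e' + 1) + 2 + m + 1) * (2 * (e' + 1) + 2 + m) * (e' + 1))
        = (q + 1) * (e' * (2 * (e' + 1) + 2 + m + 1)) := by
      rw [← hq]; ring
    rw [e3]
    apply Nat.mul_lt_mul_of_pos_left _ (Nat.succ_pos q)
    -- `e' * (h + 1) < q`
    have : e' * (2 * (e' + 1) + 2 + m + 1) + 1 < q + 1 := by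
      rw [← hq]
      nlinarith
    omega

end Cfsg.Agent.S0884
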