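import Cfsg.Statements.S0738
import Cfsg.Agent.Helper60.Zassenhaus
import Cfsg.Agent.Helper60.FpfAction

set_option autoImplicit false
open Cfsg

namespace Cfsg.Agent.S0738

open MulAction Cfsg.Agent.Helper60.Zassenhaus Cfsg.Agent.Helper60.FpfAction

/-- Let a finite Zassenhaus group of degree `n + 1` have two-point stabilisers of order `d` with `2d ≥ n - 1`. Then a normal subgroup of a point stabiliser acting regularly on the remaining points is elementary abelian, and the degree is a prime power plus one. -/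
theorem result {G Ω : Type*} [Group G] [Finite G] [MulAction G Ω] [Fintype Ω] (hZ : Cfsg.IsZassenhausGroup G Ω) {a b : Ω} (hab : a ≠ b) (hd : Fintype.card Ω - 2 ≤ 2 * Nat.card ↥(MulAction.stabilizer G a ⊓ MulAction.stabilizer G b)) (F : Subgroup G) (hFle : F ≤ MulAction.stabilizer G a) (hFn : (F.subgroupOf (MulAction.stabilizer G a)).Normal) (hreg : ∀ y z : Ω, y ≠ a → z ≠ a → ∃! u : F, (u : G) • y = z) : IsMulCommutative F ∧ ∃ p f : ℕ, p.Prime ∧ (∀ u ∈ F, u ^ p = 1) ∧ Fintype.card Ω = p ^ f + 1 := by
  classical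
  have hN3 := three_le_card hZ
  obtain ⟨-, -, h3, -, -⟩ := hZ
  set E := stabilizer G a ⊓ stabilizer G b with hE
  -- normalization
  have hnorm : ∀ h ∈ E, ∀ u ∈ F, h * u * h⁻¹ ∈ F := by
    intro h hh u hu
    have hha : h ∈ stabilizer G a := hh.1
    have := hFn.conj_mem ⟨u, hFle hu⟩ (Subgroup.mem_subgroupOf.mpr hu) ⟨h, hha⟩
    exact Subgroup.mem_subgroupOf.mp this
  -- the action on b
  have hub : ∀ u ∈ F, u • b = b → u = 1 := by
    intro u hu hfix
    obtain ⟨u', -, huniq⟩ := hreg b b hab.symm hab.symm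
    have h1 := huniq ⟨u, hu⟩ hfix
    have h2 := huniq 1 (by simp)
    have : (⟨u, hu⟩ : F) = 1 := h1.trans h2.symm
    exact congrArg Subtype.val this
  have hfpf : ∀ h ∈ E, ∀ u ∈ F, u ≠ 1 → h * u * h⁻¹ = u → h = 1 := by
    intro h hh u hu hu1 hconj
    have hha : h • a = a := mem_stabilizer_iff.mp hh.1
    have hhb : h • b = b := mem_stabilizer_iff.mp hh.2
    have hua : u • a = a := mem_stabilizer_iff.mp (hFle hu)
    have hcomm : h * u = u * h := by
      calc h * u = (h * u * h⁻¹) * h := by group
        _ = u * h := by rw [hconj]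
    have h1 : u • b ≠ b := fun hfix => hu1 (hub u hu hfix)
    have h2 : u • b ≠ a := by
      intro hcon
      rw [← hua] at hcon
      exact hab (MulAction.injective u hcon).symm
    have h4 : h • (u • b) = u • b := by
      rw [← mul_smul, hcomm, mul_smul, hhb]
    exact h3 h a b (u • b) hab (Ne.symm h1) (Ne.symm h2) hha hhb h4
  -- cardinality of F
  have hcardF : Nat.card F + 1 = Fintype.card Ω := by
    have hbij : Function.Bijective (fun u : F => (⟨(u : G) • b, by
        intro hcon
        have hua : (u : G) • a = a := mem_stabilizer_iff.mp (hFle u.2)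
        rw [← hua] at hcon
        exact hab (MulAction.injective (u : G) hcon).symm⟩ : {z : Ω // z ≠ a})) := by
      constructor
      · intro u v huv
        have huv' : (u : G) • b = (v : G) • b := congrArg Subtype.val huv
        obtain ⟨w, -, huniq⟩ := hreg b ((v : G) • b) hab.symm (by
          intro hcon
          have hva : (v : G) • a = a := mem_stabilizer_iff.mp (hFle v.2)
          rw [← hva] at hcon
          exact hab (MulAction.injective (v : G) hcon).symm)
        exact (huniq u huv').trans (huniq v rfl).symm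
      · rintro ⟨z, hz⟩
        obtain ⟨w, hw, -⟩ := hreg b z hab.symm hz
        exact ⟨w, Subtype.ext hw⟩
    rw [Nat.card_congr (Equiv.ofBijective _ hbij), Nat.card_eq_fintype_card,
      Fintype.card_subtype_compl, Fintype.card_subtype_eq]
    omega
  have hfinF : Finite F := inferInstance
  have hcard : Nat.card F ≤ 2 * Nat.card E + 1 := by omega
  have hFne : F ≠ ⊥ := by
    intro h
    rw [h, Subgroup.card_bot] at hcardF
    omega
  obtain ⟨hcomm, p, hp, hexp⟩ := elementary_abelian_of_fpf F E hnorm hfpf hcard hFne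
  refine ⟨⟨⟨fun u v => Subtype.ext (hcomm u u.2 v v.2)⟩⟩, ?_⟩
  have : Fact p.Prime := ⟨hp⟩
  have hpg : IsPGroup p F := fun g => ⟨1, by
    rw [pow_one]
    exact Subtype.ext (hexp g g.2)⟩
  obtain ⟨f, hf⟩ := (IsPGroup.iff_card).mp hpg
  exact ⟨p, f, hp, hexp, by omega⟩

end Cfsg.Agent.S0738
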