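import Cfsg.Statements.S0741
import Cfsg.Agent.Helper60.Zassenhaus
import Cfsg.Agent.S0740

set_option autoImplicit false
open Cfsg

namespace Cfsg.Agent.S0741

open MulAction Cfsg.Agent.Helper60.Zassenhaus Cfsg.Agent.S0740

section helpers

variable {G Ω : Type*} [Group G] [MulAction G Ω]

/-- the counting inequality behind Feit's bound. -/
theorem feit_count [Fintype G] [Fintype Ω] [DecidableEq G] [DecidableEq Ω]
    (h2 : IsMultiplyPretransitive G Ω 2)
    (h3 : ∀ g : G, ∀ a b c : Ω, a ≠ b → b ≠ c → a ≠ c → g • a = a → g • b = b → g • c = c → g = 1)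
    {a b : Ω} (hab : a ≠ b) {z : G} (hzo : orderOf z = 2) (za : z • a = a) (zb : z • b = b) :
    Fintype.card Ω - 2 ≤
      2 * (Finset.univ.filter (fun h : G => h • a = a ∧ h • b = b)).card := by
  set N := Fintype.card Ω with hN
  set d := (Finset.univ.filter (fun h : G => h • a = a ∧ h • b = b)).card with hd
  have hz1 : z ≠ 1 := ne_one_of_orderOf_two hzo
  -- N is even
  have hfixz : Nat.card (fixedBy Ω z) = 2 := by
    apply le_antisymm (card_fixedBy_le_two h3 hz1)
    rw [Nat.card_eq_fintype_card]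
    have : 1 < Fintype.card (fixedBy Ω z) :=
      Fintype.one_lt_card_iff.mpr ⟨⟨a, za⟩, ⟨b, zb⟩, fun h => hab (congrArg Subtype.val h)⟩
    omega
  have hNeven : N % 2 = 0 := by
    have := card_fixedBy_modEq (Ω := Ω) hzo
    rw [hfixz] at this
    unfold Nat.ModEq at this
    omega
  -- the set T
  set T : Finset G := Finset.univ.filter (fun s : G => orderOf s = 2 ∧ ∃ x : Ω, s • x = x) with hT
  have hTfix : ∀ s ∈ T, (Finset.univ.filter (fun x : Ω => s • x = x)).card = 2 := by
    intro s hs
    rw [hT, Finset.mem_filter] at hs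
    obtain ⟨-, hso, x, hx⟩ := hs
    have h1 := card_fixedBy_le_two h3 (ne_one_of_orderOf_two hso)
    have h2' := card_fixedBy_modEq (Ω := Ω) hso
    have h3' : Nat.card (fixedBy Ω s) = (Finset.univ.filter (fun x : Ω => s • x = x)).card := by
      rw [Nat.card_eq_fintype_card]
      apply Fintype.card_of_subtype
      intro y
      simp [mem_fixedBy]
    have h4 : 0 < (Finset.univ.filter (fun x : Ω => s • x = x)).card :=
      Finset.card_pos.mpr ⟨x, by simp [hx]⟩
    unfold Nat.ModEq at h2'
    omega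
  -- conjugation preserves T
  have hTconj : ∀ (g : G) (s : G), s ∈ T → g * s * g⁻¹ ∈ T := by
    intro g s hs
    rw [hT, Finset.mem_filter] at hs ⊢
    obtain ⟨-, hso, x, hx⟩ := hs
    refine ⟨Finset.mem_univ _, ?_, g • x, ?_⟩
    · have hsc : SemiconjBy g s (g * s * g⁻¹) := by unfold SemiconjBy; group
      rw [← hsc.orderOf_eq, hso]
    · rw [mul_smul, mul_smul, inv_smul_smul, hx]
  have htrans : IsPretransitive G Ω := isPretransitive_of_is_two_pretransitive
  -- the number of elements of T fixing a point is constant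
  set k := (T.filter (fun s => s • a = a)).card with hk
  have hconst : ∀ x : Ω, (T.filter (fun s => s • x = x)).card = k := by
    intro x
    obtain ⟨g, hg⟩ := MulAction.exists_smul_eq G a x
    symm
    apply Finset.card_bij (fun s _ => g * s * g⁻¹)
    · intro s hs
      rw [Finset.mem_filter] at hs ⊢
      refine ⟨hTconj g s hs.1, ?_⟩
      rw [mul_smul, mul_smul, ← hg, inv_smul_smul, hs.2]
    · intro s _ s' _ h
      have : g⁻¹ * (g * s * g⁻¹) * g = g⁻¹ * (g * s' * g⁻¹) * g := by rw [h]
      simpa [mul_assoc] using this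
    · intro s' hs'
      rw [Finset.mem_filter] at hs'
      refine ⟨g⁻¹ * s' * g, ?_, by group⟩
      rw [Finset.mem_filter]
      refine ⟨?_, ?_⟩
      · have := hTconj g⁻¹ s' hs'.1
        rwa [inv_inv] at this
      · rw [mul_smul, mul_smul, hg, hs'.2, ← hg, inv_smul_smul]
  -- double counting of fixed points
  have hdouble : N * k = 2 * T.card := by
    have h := Finset.sum_card_bipartiteAbove_eq_sum_card_bipartiteBelow
      (s := (Finset.univ : Finset Ω)) (t := T) (r := fun (x : Ω) (s : G) => s • x = x)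
    have h1 : ∀ x ∈ (Finset.univ : Finset Ω),
        (T.bipartiteAbove (fun (x : Ω) (s : G) => s • x = x) x).card = k := by
      intro x _
      exact hconst x
    have h2' : ∀ s ∈ T,
        ((Finset.univ : Finset Ω).bipartiteBelow (fun (x : Ω) (s : G) => s • x = x) s).card = 2 := by
      intro s hs
      exact hTfix s hs
    rw [Finset.sum_congr rfl h1, Finset.sum_congr rfl h2', Finset.sum_const, Finset.sum_const,
      smul_eq_mul, smul_eq_mul, Finset.card_univ] at h
    rw [h, mul_comm]
  -- elements moving b to a given point, fixing a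
  have hex : ∀ y : Ω, y ≠ a → ∃ g : G, g • a = a ∧ g • b = y := fun y hy =>
    exists_map2 h2 hab (Ne.symm hy)
  choose! gy hgy using hex
  -- k ≥ N - 1
  have hkN : N - 1 ≤ k := by
    have hmaps : ∀ y ∈ (Finset.univ : Finset Ω).erase a,
        gy y * z * (gy y)⁻¹ ∈ T.filter (fun s => s • a = a) := by
      intro y hy
      have hya : y ≠ a := Finset.ne_of_mem_erase hy
      obtain ⟨g1, g2⟩ := hgy y hya
      rw [Finset.mem_filter]
      refine ⟨hTconj _ z ?_, ?_⟩
      · rw [hT, Finset.mem_filter]
        exact ⟨Finset.mem_univ _, hzo, a, za⟩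
      · have : (gy y)⁻¹ • a = a := by rw [inv_smul_eq_iff, g1]
        rw [mul_smul, mul_smul, this, za, g1]
    have hinj : Set.InjOn (fun y => gy y * z * (gy y)⁻¹)
        (((Finset.univ : Finset Ω).erase a : Finset Ω) : Set Ω) := by
      intro y hy y' hy' h
      simp only at h
      have hya : y ≠ a := Finset.ne_of_mem_erase hy
      have hy'a : y' ≠ a := Finset.ne_of_mem_erase hy'
      obtain ⟨g1, g2⟩ := hgy y hya
      obtain ⟨g1', g2'⟩ := hgy y' hy'a
      by_contra hyy
      have hne : gy y * z * (gy y)⁻¹ ≠ 1 := by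
        intro hcon
        apply hz1
        have : z = (gy y)⁻¹ * (gy y * z * (gy y)⁻¹) * gy y := by group
        rw [this, hcon]; group
      apply hne
      have f1 : (gy y * z * (gy y)⁻¹) • a = a := by
        have : (gy y)⁻¹ • a = a := by rw [inv_smul_eq_iff, g1]
        rw [mul_smul, mul_smul, this, za, g1]
      have f2 : (gy y * z * (gy y)⁻¹) • y = y := by
        have : (gy y)⁻¹ • y = b := by rw [inv_smul_eq_iff, g2]
        rw [mul_smul, mul_smul, this, zb, g2]
      have f3 : (gy y * z * (gy y)⁻¹) • y' = y' := by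
        have : (gy y')⁻¹ • y' = b := by rw [inv_smul_eq_iff, g2']
        rw [h, mul_smul, mul_smul, this, zb, g2']
      exact h3 _ a y y' (Ne.symm hya) hyy (Ne.symm hy'a) f1 f2 f3
    have := Finset.card_le_card_of_injOn _ hmaps hinj
    rw [Finset.card_erase_of_mem (Finset.mem_univ a), Finset.card_univ] at this
    exact this
  -- elements of T mapping a to y ≠ a: at most d
  have hcoset : ∀ y ∈ (Finset.univ : Finset Ω).erase a,
      (T.filter (fun s => s • a = y)).card ≤ d := by
    intro y hy
    have hya : y ≠ a := Finset.ne_of_mem_erase hy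
    obtain ⟨g1, g2⟩ := hgy y hya
    rcases (T.filter (fun s => s • a = y)).eq_empty_or_nonempty with hemp | ⟨s₀, hs₀⟩
    · rw [hemp]; simp
    · -- involutions swap
      have hswap : ∀ s ∈ T.filter (fun s => s • a = y), s • y = a ∧ s⁻¹ • y = a ∧ s⁻¹ • a = y := by
        intro s hs
        rw [Finset.mem_filter, hT, Finset.mem_filter] at hs
        obtain ⟨⟨-, hso, -⟩, hsa⟩ := hs
        have hss : s * s = 1 := by rw [← pow_two, ← hso, pow_orderOf_eq_one]
        have e1 : s • y = a := by rw [← hsa, ← mul_smul, hss, one_smul]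
        refine ⟨e1, by rw [inv_smul_eq_iff, hsa], by rw [inv_smul_eq_iff, e1]⟩
      apply Finset.card_le_card_of_injOn (fun s => (gy y)⁻¹ * (s₀⁻¹ * s) * gy y)
      · intro s hs
        have hs := Finset.mem_coe.mp hs
        obtain ⟨e1, e2, e3⟩ := hswap s hs
        obtain ⟨e1', e2', e3'⟩ := hswap s₀ hs₀
        have hsa : s • a = y := (Finset.mem_filter.mp hs).2
        refine Finset.mem_coe.mpr (Finset.mem_filter.mpr ⟨Finset.mem_univ _, ?_, ?_⟩)
        · rw [mul_smul, mul_smul, g1, mul_smul, hsa, e2', inv_smul_eq_iff, g1]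
        · rw [mul_smul, mul_smul, g2, mul_smul, e1, e3', inv_smul_eq_iff, g2]
      · intro s _ s' _ h
        have h : (gy y)⁻¹ * (s₀⁻¹ * s) * gy y = (gy y)⁻¹ * (s₀⁻¹ * s') * gy y := h
        have h' : s₀⁻¹ * s = s₀⁻¹ * s' := by
          have this : gy y * ((gy y)⁻¹ * (s₀⁻¹ * s) * gy y) * (gy y)⁻¹ =
              gy y * ((gy y)⁻¹ * (s₀⁻¹ * s') * gy y) * (gy y)⁻¹ := by rw [h]
          have e : ∀ w : G, gy y * ((gy y)⁻¹ * w * gy y) * (gy y)⁻¹ = w := fun w => by group
          rwa [e, e] at this
        exact mul_left_cancel h'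
  -- partition of T
  have hpart : T.card = k + ∑ y ∈ (Finset.univ : Finset Ω).erase a,
      (T.filter (fun s => s • a = y)).card := by
    rw [Finset.card_eq_sum_card_fiberwise (f := fun s : G => s • a) (s := T)
      (t := (Finset.univ : Finset Ω)) (fun _ _ => Finset.mem_univ _)]
    rw [← Finset.add_sum_erase _ _ (Finset.mem_univ a)]
  have hsumle : ∑ y ∈ (Finset.univ : Finset Ω).erase a, (T.filter (fun s => s • a = y)).card
      ≤ (N - 1) * d := by
    have := Finset.sum_le_card_nsmul _ _ d hcoset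
    rwa [Finset.card_erase_of_mem (Finset.mem_univ a), Finset.card_univ, smul_eq_mul] at this
  -- arithmetic
  have hN2 : 2 ≤ N := by
    have : 1 < Fintype.card Ω := Fintype.one_lt_card_iff.mpr ⟨a, b, hab⟩
    omega
  have hTle : T.card ≤ k + (N - 1) * d := by omega
  -- N k = 2 |T| ≤ 2k + 2 (N-1) d, so (N-2) k ≤ 2 (N-1) d and k ≥ N - 1
  have h1 : (N - 2) * k ≤ 2 * ((N - 1) * d) := by
    have : N * k ≤ 2 * k + 2 * ((N - 1) * d) := by rw [hdouble]; omega
    have e : N * k = (N - 2) * k + 2 * k := by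
      rw [← add_mul]; congr 1; omega
    omega
  have h2'' : (N - 2) * (N - 1) ≤ (N - 1) * (2 * d) := by
    calc (N - 2) * (N - 1) ≤ (N - 2) * k := Nat.mul_le_mul_left _ hkN
      _ ≤ 2 * ((N - 1) * d) := h1
      _ = (N - 1) * (2 * d) := by ring
  rw [mul_comm] at h2''
  exact Nat.le_of_mul_le_mul_left h2'' (by omega)

end helpers

/-- If the two-point stabilisers of a finite Zassenhaus group of degree `n + 1` have even order `d`, then `2d ≥ n - 1`. -/
theorem result {G Ω : Type*} [Group G] [Finite G] [MulAction G Ω] [Fintype Ω] (hZ : Cfsg.IsZassenhausGroup G Ω) {a b : Ω} (hab : a ≠ b) (heven : Even (Nat.card ↥(MulAction.stabilizer G a ⊓ MulAction.stabilizer G b))) : Fintype.card Ω - 2 ≤ 2 * Nat.card ↥(MulAction.stabilizer G a ⊓ MulAction.stabilizer G b) := by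
  classical
  have : Fintype G := Fintype.ofFinite G
  obtain ⟨-, h2, h3, -, -⟩ := hZ
  obtain ⟨z, hzo, za, zb⟩ : ∃ z : G, orderOf z = 2 ∧ z • a = a ∧ z • b = b := by
    obtain ⟨z, hz⟩ := exists_prime_orderOf_dvd_card' (G := ↥(stabilizer G a ⊓ stabilizer G b)) 2
      (even_iff_two_dvd.mp heven)
    have hzab := z.2
    simp only [Subgroup.mem_inf, mem_stabilizer_iff] at hzab
    exact ⟨(z : G), by rw [Subgroup.orderOf_coe, hz], hzab.1, hzab.2⟩
  have hcard : Nat.card ↥(stabilizer G a ⊓ stabilizer G b) =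
      (Finset.univ.filter (fun h : G => h • a = a ∧ h • b = b)).card := by
    rw [Nat.card_eq_fintype_card]
    apply Fintype.card_of_subtype
    intro x
    simp [Subgroup.mem_inf, mem_stabilizer_iff]
  rw [hcard]
  exact feit_count h2 h3 hab hzo za zb

end Cfsg.Agent.S0741
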