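import Cfsg.Statements.S0885
import Cfsg.Agent.Helper95.ZassNormal
import Cfsg.Agent.Helper79.FeitCore7
import Cfsg.Agent.Helper21.FeitP3
import Cfsg.Agent.Helper80.FeitT
import Cfsg.Agent.Helper79.FeitZGroup

set_option autoImplicit false
open Cfsg

namespace Cfsg.Agent.S0885

open MulAction Cfsg.Agent.Helper79.Feit

/-- Transfer of the structural conclusion along `H.subgroupOf N ≃* H`. -/
theorem transfer_conclusion {G : Type*} [Group G] [Finite G] (H N : Subgroup G) (hHN : H ≤ N)
    (e₀ e : ℕ) (hle : e₀ ≤ e)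
    (h : IsPGroup 2 (H.subgroupOf N) ∧ (∃ u v : H.subgroupOf N, u * v ≠ v * u) ∧
      (commutator (H.subgroupOf N)).index ≤ 4 * e₀ ^ 2 + 1) :
    IsPGroup 2 H ∧ (∃ u v : H, u * v ≠ v * u) ∧ (commutator H).index ≤ 4 * e ^ 2 + 1 := by
  obtain ⟨h1, ⟨u, v, huv⟩, h3⟩ := h
  let E : H.subgroupOf N ≃* H := Subgroup.subgroupOfEquivOfLe hHN
  refine ⟨h1.of_equiv E, ⟨E u, E v, ?_⟩, ?_⟩
  · intro hc
    apply huv
    apply E.injective
    rw [map_mul, map_mul, hc]
  · have hidx : (commutator (H.subgroupOf N)).index = (commutator H).index := by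
      rw [Subgroup.index_eq_card, Subgroup.index_eq_card]
      exact Nat.card_congr (MulEquiv.abelianizationCongr E).toEquiv
    rw [← hidx]
    have : 4 * e₀ ^ 2 + 1 ≤ 4 * e ^ 2 + 1 := by
      have := Nat.pow_le_pow_left hle 2
      omega
    omega

/-- Let G be a finite Zassenhaus group on Ω with h + 1 points whose two-point stabilizer E has odd order e, and let H be the subgroup of the stabilizer of a consisting of the identity and the elements fixing no point other than a (given here as a subgroup of the stabilizer of order one less than the number of points whose non-identity elements fix only a; it is the Frobenius kernel of the stabilizer). Then h - 1 ≤ 2e, or H is a non-abelian 2-group whose commutator factor group has order at most 4e² + 1 (Feit). -/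
theorem result {G Ω : Type*} [Group G] [Finite G] [MulAction G Ω] [Fintype Ω] (hZ : Cfsg.IsZassenhausGroup G Ω) {a b : Ω} (hab : a ≠ b) (h e : ℕ) (hh : Fintype.card Ω = h + 1) (he : Nat.card ↥(MulAction.stabilizer G a ⊓ MulAction.stabilizer G b : Subgroup G) = e) (hodd : Odd e) (H : Subgroup G) (hHa : H ≤ MulAction.stabilizer G a) (hHcard : Nat.card H + 1 = Fintype.card Ω) (hHfix : ∀ u ∈ H, u ≠ 1 → ∀ c : Ω, u • c = c → c = a) : h - 1 ≤ 2 * e ∨ (IsPGroup 2 H ∧ (∃ u v : H, u * v ≠ v * u) ∧ (commutator H).index ≤ 4 * e ^ 2 + 1) := by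
  classical
  obtain ⟨N, hNn, hNbot, hHN, hZN, hsimple⟩ :=
    Cfsg.Agent.Helper95.ZassNormal.exists_simple_normal hZ H hHa hHcard hHfix
  have : Fintype ↥N := Fintype.ofFinite _
  have hdvd : Nat.card ↥(stabilizer N a ⊓ stabilizer N b : Subgroup N) ∣ e := by
    rw [← he]
    exact Cfsg.Agent.Helper95.ZassNormal.card_stab2_dvd N a b
  set e₀ := Nat.card ↥(stabilizer N a ⊓ stabilizer N b : Subgroup N) with he₀
  have hodd₀ : Odd e₀ := Odd.of_dvd_nat hodd hdvd
  have hepos : 0 < e := by rw [← he]; exact Nat.card_pos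
  have hle : e₀ ≤ e := Nat.le_of_dvd hepos hdvd
  have hH'a : H.subgroupOf N ≤ stabilizer N a := by
    intro x hx
    rw [Subgroup.mem_subgroupOf] at hx
    have := hHa hx
    rw [mem_stabilizer_iff] at this ⊢
    exact this
  have hH'card : Nat.card (H.subgroupOf N) + 1 = Fintype.card Ω := by
    rw [Nat.card_congr (Subgroup.subgroupOfEquivOfLe hHN).toEquiv]
    exact hHcard
  have hH'fix : ∀ u ∈ H.subgroupOf N, u ≠ 1 → ∀ c : Ω, u • c = c → c = a := by
    intro u hu hu1 c hc
    apply hHfix (u : G) (Subgroup.mem_subgroupOf.mp hu) (fun h1 => hu1 (Subtype.ext h1)) c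
    exact hc
  have : Fintype ↥(Subgroup.normalizer ((H.subgroupOf N : Subgroup N) : Set N)) :=
    Fintype.ofFinite _
  have key := Cfsg.Agent.Helper80.FeitW.feit_simple_case hZN hab h e₀ hh he₀.symm hodd₀
    (H.subgroupOf N) hH'a hH'card hH'fix
    (fun hlt => feitData_of_zassenhaus' hZN hab h e₀ hh he₀.symm hodd₀ hlt
      (H.subgroupOf N) hH'a hH'card hH'fix)
    (fun star D hS => Cfsg.Agent.Helper21.FeitP3.feit_core_zero D hS (feit_c_zero D hS))
  rcases key with h1 | h2
  · left
    omega
  · right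
    exact transfer_conclusion H N hHN e₀ e hle h2

end Cfsg.Agent.S0885
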