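import Cfsg.Statements.S1441
-- import your own Cfsg.Agent.* helpers here

set_option autoImplicit false
open Cfsg
open scoped commutatorElement

namespace Cfsg.Agent.S1441

/-- An element `a` whose order is coprime to `#H` and which stabilises the chain centralises `H`. -/
theorem stab_chain_centralizes {G : Type*} [Group G] [Finite G] (H A : Subgroup G)
    (n : ℕ) (c : Fin (n + 1) → Subgroup G) (hc0 : c 0 = H) (hcn : c (Fin.last n) = ⊥) (hanti : Antitone c)
    (htriv : ∀ i : Fin n, ⁅c i.castSucc, A⁆ ≤ c i.succ)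
    (a : G) (ha : a ∈ A) (hcop : (orderOf a).Coprime (Nat.card H)) :
    ∀ i : Fin (n + 1), ∀ h ∈ c i, h * a = a * h := by
  intro i
  induction i using Fin.reverseInduction with
  | last =>
    intro h hh
    rw [hcn, Subgroup.mem_bot] at hh
    subst hh
    simp
  | cast i ih =>
    intro h hh
    have hz : ⁅h, a⁆ ∈ c i.succ := htriv i (Subgroup.commutator_mem_commutator hh ha)
    set z := ⁅h, a⁆ with hzdef
    have hza : z * a = a * z := ih z hz
    have hconj : h * a * h⁻¹ = z * a := by
      rw [hzdef, commutatorElement_def]; group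
    have hpow : ∀ k : ℕ, h * a ^ k * h⁻¹ = z ^ k * a ^ k := by
      intro k
      have h1 : h * a ^ k * h⁻¹ = (h * a * h⁻¹) ^ k := by
        rw [conj_pow]
      rw [h1, hconj, (Commute.mul_pow hza k)]
    have hzk : z ^ orderOf a = 1 := by
      have := hpow (orderOf a)
      rw [pow_orderOf_eq_one] at this
      simpa using this.symm
    have hzH : z ∈ H := by
      rw [← hc0]
      exact hanti (Fin.zero_le _) hz
    have hzord : orderOf z ∣ Nat.card H := by
      have : orderOf (⟨z, hzH⟩ : H) ∣ Nat.card H := orderOf_dvd_natCard _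
      rwa [Subgroup.orderOf_mk] at this
    have hz1 : orderOf z = 1 := by
      have h1 : orderOf z ∣ orderOf a := orderOf_dvd_of_pow_eq_one hzk
      exact Nat.eq_one_of_dvd_coprimes hcop h1 hzord
    rw [orderOf_eq_one_iff] at hz1
    rw [hzdef, commutatorElement_eq_one_iff_mul_comm] at hz1
    exact hz1

/-- Let G be a finite group, H a solvable subgroup and A a subgroup normalizing H. Suppose there is a chain H = H₀ ≥ H₁ ≥ ⋯ ≥ H_n = 1 of subgroups normal in H and normalized by A such that A acts trivially on each factor H_{i-1}/H_i (that is, [H_{i-1}, A] ≤ H_i). Then every prime dividing the index of C_A(H) in A divides the order of H. -/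
theorem result {G : Type*} [Group G] [Finite G] (H A : Subgroup G) (hH : Group.IsSolvable H) (hA : (A ≤ Subgroup.normalizer (H : Set G)))
    (n : ℕ) (c : Fin (n + 1) → Subgroup G) (hc0 : c 0 = H) (hcn : c (Fin.last n) = ⊥) (hanti : Antitone c)
    (hcN : ∀ i, H ≤ Subgroup.normalizer ((c i : Subgroup G) : Set G)) (hcA : ∀ i, A ≤ Subgroup.normalizer ((c i : Subgroup G) : Set G))
    (htriv : ∀ i : Fin n, ⁅c i.castSucc, A⁆ ≤ c i.succ) :
    ∀ p : ℕ, p.Prime → p ∣ (A ⊓ Subgroup.centralizer (H : Set G)).relIndex A → p ∣ Nat.card H := by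
  intro p hp hdvd
  by_contra hndvd
  have : Fact p.Prime := ⟨hp⟩
  obtain ⟨P⟩ : Nonempty (Sylow p A) := inferInstance
  have hPle : (P : Subgroup A) ≤ (A ⊓ Subgroup.centralizer (H : Set G)).subgroupOf A := by
    intro x hx
    rw [Subgroup.mem_subgroupOf]
    refine Subgroup.mem_inf.mpr ⟨x.2, ?_⟩
    obtain ⟨k, hk⟩ := (P.2 ⟨x, hx⟩)
    have hxk : (x : G) ^ p ^ k = 1 := by
      have := congrArg (fun y : (P : Subgroup A) => ((y : A) : G)) hk
      simpa using this
    have hord : orderOf (x : G) ∣ p ^ k := orderOf_dvd_of_pow_eq_one hxk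
    have hcop : (orderOf (x : G)).Coprime (Nat.card H) := by
      have h1 : (p ^ k).Coprime (Nat.card H) :=
        Nat.Coprime.pow_left k ((Nat.Prime.coprime_iff_not_dvd hp).mpr hndvd)
      exact Nat.Coprime.coprime_dvd_left hord h1
    have key := stab_chain_centralizes H A n c hc0 hcn hanti htriv (x : G) x.2 hcop 0
    rw [Subgroup.mem_centralizer_iff]
    intro h hh
    rw [hc0] at key
    exact key h hh
  have h1 : ((A ⊓ Subgroup.centralizer (H : Set G)).subgroupOf A).index ∣ (P : Subgroup A).index :=
    Subgroup.index_dvd_of_le hPle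
  have h2 : ¬ p ∣ (P : Subgroup A).index := P.not_dvd_index
  exact h2 (dvd_trans hdvd h1)

end Cfsg.Agent.S1441
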