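import Mathlib
import Cfsg.Prelude.Def_Local
import Cfsg.Agent.Helper23.DiagComp2

set_option autoImplicit false
open scoped commutatorElement

namespace Cfsg.Agent.S1270

open Cfsg Cfsg.Agent.Helper22 Cfsg.Agent.Helper23

/-- Case of a component normalized by `x`. -/
theorem of_mem_normalizer {G : Type*} [Group G] [Finite G] (p : ℕ) [Fact p.Prime]
    (hO : Cfsg.pPrimeCore p G = ⊥) (x : G) (L : Subgroup G)
    (hL : Cfsg.IsComponent L) (hne : ⁅L, Subgroup.zpowers x⁆ ≠ L)
    (hxN : x ∈ Subgroup.normalizer (L : Set G)) :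
    ⁅L, Cfsg.centralizerPPrimeCore p x⁆ = ⊥ := by
  have hXN : Subgroup.zpowers x ≤ Subgroup.normalizer (L : Set G) :=
    (Subgroup.zpowers_le).mpr hxN
  have hRL : ⁅L, Subgroup.zpowers x⁆ ≤ L := by
    rw [Subgroup.commutator_le]
    intro l hl g hg
    have h1 : g * l⁻¹ * g⁻¹ ∈ L :=
      (Subgroup.mem_normalizer_iff.mp (hXN hg) l⁻¹).mp (L.inv_mem hl)
    have e : ⁅l, g⁆ = l * (g * l⁻¹ * g⁻¹) := by rw [commutatorElement_def]; group
    rw [e]
    exact L.mul_mem hl h1
  have hcent : ⁅Subgroup.zpowers x, L⁆ = ⊥ := by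
    rcases Cfsg.Agent.Helper21.IsComponent.le_or_commutator_eq_bot hL ⁅L, Subgroup.zpowers x⁆
      (le_normalizer_commutator L (Subgroup.zpowers x)) with h | h
    · exact absurd (le_antisymm hRL h) hne
    · apply Cfsg.Agent.Helper21.commutator_eq_bot_of_perfect (IsComponent.commutator_self hL)
      rw [Subgroup.commutator_comm, Subgroup.commutator_comm (Subgroup.zpowers x) L]
      exact h
  rw [Subgroup.commutator_comm, Subgroup.commutator_eq_bot_iff_le_centralizer] at hcent
  have hLC : L ≤ Subgroup.centralizer ({x} : Set G) := by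
    intro l hl
    rw [Subgroup.mem_centralizer_iff]
    intro y hy
    rw [Set.mem_singleton_iff] at hy
    subst hy
    exact Subgroup.mem_centralizer_iff.mp (hcent hl) y (Subgroup.mem_zpowers y)
  set C := Subgroup.centralizer ({x} : Set G) with hC
  have hLc : IsComponent (L.subgroupOf C) := IsComponent.subgroupOf hL hLC
  have hWn : L.subgroupOf C ≤ Subgroup.normalizer ((pPrimeCore p ↥C : Subgroup ↥C) : Set ↥C) := by
    rw [Subgroup.normalizer_eq_top]; exact le_top
  rcases Cfsg.Agent.Helper21.IsComponent.le_or_commutator_eq_bot hLc (pPrimeCore p ↥C) hWn with h | h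
  · exfalso
    have hcopW : (Nat.card ↥(pPrimeCore p ↥C)).Coprime p := Cfsg.Agent.Lib.card_pPrimeCore_coprime p
    have h1 : Nat.card ↥(L.subgroupOf C) ∣ Nat.card ↥(pPrimeCore p ↥C) := Subgroup.card_dvd_of_le h
    have h2 : Nat.card ↥(L.subgroupOf C) = Nat.card ↥L :=
      Nat.card_congr (Subgroup.subgroupOfEquivOfLe hLC).toEquiv
    rw [h2] at h1
    have h3 : (Nat.card ↥L).Coprime p := Nat.Coprime.coprime_dvd_left h1 hcopW
    exact not_dvd_of_coprime_card h3 (IsComponent.dvd_card_of_pPrimeCore_eq_bot hO hL)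
  · have h1 := congrArg (Subgroup.map C.subtype) h
    rw [Subgroup.map_commutator, Subgroup.map_bot, Subgroup.map_subgroupOf_eq_of_le hLC] at h1
    exact h1

theorem result {G : Type*} [Group G] [Finite G] (p : ℕ) [Fact p.Prime] (hO : Cfsg.pPrimeCore p G = ⊥) (x : G) (hx : orderOf x = p) (L : Subgroup G) (hL : Cfsg.IsComponent L) (hne : ⁅L, Subgroup.zpowers x⁆ ≠ L) : ⁅L, Cfsg.centralizerPPrimeCore p x⁆ = ⊥ := by
  by_cases hxN : x ∈ Subgroup.normalizer (L : Set G)
  · exact of_mem_normalizer p hO x L hL hne hxN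
  · exact commutator_centralizerPPrimeCore_eq_bot_of_cj_ne hO hx hL
      (fun h => hxN (cj_eq_iff_mem_normalizer.mp h))

end Cfsg.Agent.S1270
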