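import Cfsg.Statements.S1281
import Mathlib
import Cfsg.Agent.Helper22.Coprime

set_option autoImplicit false
open Cfsg

namespace Cfsg.Agent.S1281

open Cfsg.Agent.Helper22

theorem result {G : Type*} [Group G] [Finite G] (p : ℕ) [Fact p.Prime] (A : Subgroup G) (hA : Cfsg.IsElementaryAbelian p A) (hA2 : p ^ 2 ≤ Nat.card ↥A) (θ : G → Subgroup G) (hθ : Cfsg.IsSolvableSignalizerFunctor p A θ) (N : Subgroup G) [N.Normal] (hN : ¬ p ∣ Nat.card ↥N) (a b : G) (ha : a ∈ A) (ha1 : a ≠ 1) (hb : b ∈ A) (hb1 : b ≠ 1) : (θ a).map (QuotientGroup.mk' N) ⊓ Subgroup.centralizer {QuotientGroup.mk' N b} ≤ (θ b).map (QuotientGroup.mk' N) := by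
  obtain ⟨⟨hcent, hcard, hinvar, hbal⟩, _⟩ := hθ
  intro y hy
  obtain ⟨⟨x, hx, rfl⟩, hxb⟩ := Subgroup.mem_inf.mp hy
  replace hx : x ∈ θ a := hx
  rw [Subgroup.mem_centralizer_iff] at hxb
  have hxb' := hxb _ rfl
  -- `b x b⁻¹ x⁻¹ ∈ N`... we use the coset `x (θ a ⊓ N)`
  have hcomm : ∀ z ∈ Subgroup.zpowers b,
      (QuotientGroup.mk' N z) * (QuotientGroup.mk' N x) = (QuotientGroup.mk' N x) * (QuotientGroup.mk' N z) := by
    intro z hz
    obtain ⟨k, rfl⟩ := Subgroup.mem_zpowers_iff.mp hz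
    rw [map_zpow]
    have : Commute (QuotientGroup.mk' N b) (QuotientGroup.mk' N x) := hxb'
    exact (this.zpow_left k).eq
  have hzA : ∀ z ∈ Subgroup.zpowers b, z ∈ A := by
    intro z hz
    exact (Subgroup.zpowers_le.mpr hb) hz
  have hH : ¬ p ∣ Nat.card ↥(θ a ⊓ N) := not_dvd_card_of_le inf_le_left (hcard a ha ha1)
  obtain ⟨h, hh, hfix⟩ := exists_fixed_in_coset_elt p b (hA.2 b hb) (θ a ⊓ N) hH x (by
    intro z hz h hh
    refine Subgroup.mem_inf.mpr ⟨?_, ?_⟩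
    · apply (θ a).mul_mem ((θ a).inv_mem hx)
      exact hinvar a ha ha1 z (hzA z hz) _ ((θ a).mul_mem hx hh.1)
    · rw [← QuotientGroup.eq_one_iff, ← QuotientGroup.mk'_apply]
      simp only [map_mul, map_inv]
      have h1 : QuotientGroup.mk' N h = 1 := by
        rw [QuotientGroup.mk'_apply, QuotientGroup.eq_one_iff]; exact hh.2
      rw [h1, mul_one, hcomm z hz]
      group)
  refine ⟨x * h, ?_, ?_⟩
  · apply hbal a ha ha1 b hb hb1
    refine Subgroup.mem_inf.mpr ⟨(θ a).mul_mem hx hh.1, ?_⟩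
    rw [Subgroup.mem_centralizer_iff]
    intro y hy
    rw [Set.mem_singleton_iff] at hy
    subst hy
    calc y * (x * h) = (y * (x * h) * y⁻¹) * y := by group
      _ = x * h * y := by rw [hfix]
  · have h1 : QuotientGroup.mk' N h = 1 := by
      rw [QuotientGroup.mk'_apply, QuotientGroup.eq_one_iff]; exact hh.2
    rw [map_mul, h1, mul_one]

end Cfsg.Agent.S1281
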