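import Cfsg.Statements.S1285
import Cfsg.Agent.Helper31.Transitivity2

set_option autoImplicit false
open Cfsg

namespace Cfsg.Agent.S1285

/-- Let θ be a solvable A-signalizer functor on the finite group G with A elementary abelian of rank at least 3, and suppose that for some prime q every θ a (a ∈ A non-identity) is a q-group. Then θ is complete. -/
theorem result {G : Type*} [Group G] [Finite G] (p : ℕ) [Fact p.Prime] (A : Subgroup G) (hA : Cfsg.IsElementaryAbelian p A) (hA3 : p ^ 3 ≤ Nat.card ↥A) (θ : G → Subgroup G) (hθ : Cfsg.IsSolvableSignalizerFunctor p A θ) (q : ℕ) [Fact q.Prime] (hq : ∀ a ∈ A, a ≠ 1 → IsPGroup q ↥(θ a)) : Cfsg.IsCompleteSignalizerFunctor p A θ := by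
  open Cfsg.Agent.Helper31 in
  obtain ⟨Q, -, hQ⟩ := exists_isMaxQ_ge (G := G) (p := p) (A := A) (θ := θ) (q := q)
    bot_mem_signalizerFamily (IsPGroup.of_bot)
  refine ⟨hθ.1, Q, hQ.mem.2.2.1, hQ.mem.2.1, ?_⟩
  intro a ha ha1
  refine le_antisymm (hQ.mem.2.2.2 a ha ha1) (le_inf ?_ (hθ.1.1 a ha ha1))
  obtain ⟨c, hc, S, hS⟩ := maxQ_meets_member p A hA hA3 θ hθ q hQ
    (theta_mem_signalizerFamily hθ ha ha1)
  have hca : c ∈ θ a := mem_signalizerInf_iff.mp hc a ha ha1
  have hStop : (S : Subgroup ↥(θ a)) = ⊤ := by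
    have h1 : IsPGroup q ↥(⊤ : Subgroup ↥(θ a)) := (hq a ha ha1).to_subgroup ⊤
    exact (S.is_maximal' h1 le_top).symm
  have hle : θ a ≤ Q.map (MulAut.conj c).toMonoidHom := by
    have h2 : (S : Subgroup ↥(θ a)).map (θ a).subtype = θ a := by
      rw [hStop, ← MonoidHom.range_eq_map, Subgroup.range_subtype]
    rw [← h2, hS]
    exact inf_le_left
  intro x hx
  have h3 : c * x * c⁻¹ ∈ θ a := (θ a).mul_mem ((θ a).mul_mem hca hx) ((θ a).inv_mem hca)
  have h4 := hle h3
  rw [mem_map_conj_iff] at h4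
  have e : c⁻¹ * (c * x * c⁻¹) * c = x := by group
  rw [e] at h4
  exact h4

end Cfsg.Agent.S1285
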