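import Cfsg.Statements.S1428
import Cfsg.Agent.S1403
import Cfsg.Agent.S1414
import Cfsg.Agent.S1416
import Cfsg.Agent.S1417
import Cfsg.Agent.S1418
import Cfsg.Agent.Helper23.BG13E
import Cfsg.Agent.Helper63.BG13C
import Cfsg.Agent.Helper71.BG13W2
import Cfsg.Agent.Helper23.BG13G

set_option autoImplicit false
open Cfsg

namespace Cfsg.Agent.S1428

/-- Let G be a minimal simple group of odd order, M a maximal subgroup, E a complement to M_σ in M, p ∈ τ₁(M), P ≤ E a subgroup of order p, and R a subgroup of prime order of E ∩ C_G(P). Then M_σ ∩ C_G(P) ≤ M_σ ∩ C_G(R). -/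
theorem result {G : Type*} [Group G] [Finite G] (hG : Cfsg.IsMinSimpleOddOrder G)
    (M : Subgroup G) (hM : IsCoatom M) (E : Subgroup G) (hE : Cfsg.IsComplIn E (Cfsg.sigmaCore M) M) (p : ℕ) (hp : p ∈ Cfsg.tau1 M) (P : Subgroup G) (hPE : P ≤ E) (hP : Nat.card P = p)
    (R : Subgroup G) (hRE : R ≤ E ⊓ Subgroup.centralizer (P : Set G)) (hR : (Nat.card R).Prime) :
    Cfsg.sigmaCore M ⊓ Subgroup.centralizer (P : Set G) ≤ Cfsg.sigmaCore M ⊓ Subgroup.centralizer (R : Set G) := by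
  have hU : Cfsg.Agent.Helper29.BG10.UniquenessThm G :=
    fun K hK hK2 hK3 => Cfsg.Agent.S1403.result hG K hK hK2 hK3
  have h1414 : Cfsg.Agent.Helper23.BG13.NormalComplComm G :=
    fun H hH q hq hqH hqβ => ((Cfsg.Agent.S1414.result hG H hH).2.2.2.2 q hq hqH hqβ).1
  have hW : Cfsg.Agent.Helper23.BG13.NilpHallSigma G :=
    fun L hL => (Cfsg.Agent.S1414.result hG L hL).2.2.2.1
  have hβ : Cfsg.Agent.Helper64.BG1217D.BetaHall G :=
    fun L hL => (Cfsg.Agent.S1414.result hG L hL).1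
  have hidx : Cfsg.Agent.Helper64.BG1217D.H1414idx G :=
    fun L hL s hs hsL hsβ => ((Cfsg.Agent.S1414.result hG L hL).2.2.2.2 s hs hsL hsβ).2.2
  have h1416 : Cfsg.Agent.Helper23.BG13.H1416 G :=
    fun L hL q _ A hAL hAe hAc => (Cfsg.Agent.S1416.result hG L hL q A ⟨hAL, hAe, hAc⟩).1
  have h1417 : Cfsg.Agent.Helper23.BG13.H1417 G := by
    intro L hL q _ hq A hAL hAe hAc
    have h := Cfsg.Agent.S1417.result hG L hL q hq A ⟨hAL, hAe, hAc⟩
    exact ⟨h.1, fun P => (h.2.1 P).1, h.2.2.1, h.2.2.2.2.1⟩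
  have h1418 : Cfsg.Agent.Helper64.BG1217D.H1418 G := by
    intro L hL E' hE' s _ hs A hAE hAe hAc
    have h := Cfsg.Agent.S1418.result hG L hL E' hE' s hs A ⟨hAE, hAe, hAc⟩
    exact h.2.1.1.trans (le_of_eq h.2.1.2.1)
  have h1418n : ∀ (H E' : Subgroup G) (x : ℕ) [Fact x.Prime] (A : Subgroup G), IsCoatom H →
      Cfsg.IsComplIn E' (Cfsg.sigmaCore H) H → x ∈ Cfsg.tau2 H → A ≤ E' →
      Cfsg.IsElementaryAbelian x A → Nat.card A = x ^ 2 →
      E' ≤ Subgroup.normalizer (A : Set G) :=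
    fun H E' x _ A hH hE' hx hAE hAe hAc =>
      (Cfsg.Agent.S1418.result hG H hH E' hE' x hx A ⟨hAE, hAe, hAc⟩).1.1
  have h17 : ∀ L : Subgroup G, IsCoatom L → Cfsg.Agent.Helper64.BG1218.Hyp1217 L :=
    fun L hL => Cfsg.Agent.Helper64.BG1217D.hyp1217_of hG hU h1416 h1417 h1418 hW hβ hidx hL
  have hA3 : Cfsg.Agent.Helper23.BG13.LemmaA3 G :=
    fun L H hL hH hnc x _ hx hxL hxσ =>
      Cfsg.Agent.Helper71.BG13W2.lemma_A_tau2 hG hU h17 h1417 h1418n hL hH hnc hx hxL hxσ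
  have hC : Cfsg.Agent.Helper23.BG13.LemmaC G :=
    fun L H hL hH hnc s _ hs hsH Y hY1 hYσ hYH =>
      (Cfsg.Agent.Helper63.BG13C.lemma_13_1c_sigma hG hU (h17 L hL) hs hH hsH
        (fun q hq hqH hqβ => ((Cfsg.Agent.S1414.result hG H hH).2.2.2.2 q hq hqH hqβ).1)
        hY1 hYσ hYH).1
  have h15 := Cfsg.Agent.Helper23.BG13.steps15 hG hU h1414 hW h1416 h1417 hβ hA3 hC
  haveI : Fact p.Prime := ⟨hp.1⟩
  haveI : Fact (Nat.card R).Prime := ⟨hR⟩
  have h := Cfsg.Agent.Helper23.BG13.claim_sigma hG hU h15 hM hE hp hPE hP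
    (hRE.trans inf_le_left) (hRE.trans inf_le_right) rfl
  exact le_inf inf_le_left (Subgroup.commutator_eq_bot_iff_le_centralizer.1 h)

end Cfsg.Agent.S1428
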