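import Cfsg.Statements.S1422
import Cfsg.Agent.S1403
import Cfsg.Agent.S1410
import Cfsg.Agent.S1412
import Cfsg.Agent.S1416
import Cfsg.Agent.S1417
import Cfsg.Agent.Helper63.BG1214

set_option autoImplicit false
open Cfsg

namespace Cfsg.Agent.S1422

/-- Let G be a minimal simple group of odd order, p a prime and P a non-abelian p-subgroup of G. Then P lies in exactly one maximal subgroup of G. -/
theorem result {G : Type*} [Group G] [Finite G] (hG : Cfsg.IsMinSimpleOddOrder G) (p : ℕ) [Fact p.Prime] (P : Subgroup G) (hP : IsPGroup p P) (hPna : ¬ IsMulCommutative P) :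
    Cfsg.InUniqueMaximal P :=
  Cfsg.Agent.Helper63.BG12.nonabelian_inUniqueMaximal hG
    (fun K hK hK2 hK3 => Cfsg.Agent.S1403.result hG K hK hK2 hK3)
    (fun q _ H hH => Cfsg.Agent.S1410.result hG q H hH)
    (fun q _ Q hr => Cfsg.Agent.S1412.result hG q Q hr)
    (fun M hM q _ A hA => Cfsg.Agent.S1416.result hG M hM q A hA)
    (fun M hM q _ hτ A hA Q => ((Cfsg.Agent.S1417.result hG M hM q hτ A hA).2.1 Q).1)
    hP hPna

end Cfsg.Agent.S1422
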