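import Cfsg.Statements.S1378
import Cfsg.Agent.Helper32.BGSigmaR2

set_option autoImplicit false
open Cfsg

namespace Cfsg.Agent.S1378

/-- Let G be a minimal simple group of odd order. Then every prime dividing the order of G belongs to σ(M) for some maximal subgroup M, and if σ(M) and σ(N) have a prime in common for maximal subgroups M, N then N is conjugate to M; so the sets σ(M_i) over representatives of the conjugacy classes of maximal subgroups partition the prime divisors of #G. -/
theorem result {G : Type*} [Group G] [Finite G] (hG : Cfsg.IsMinSimpleOddOrder G) :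
    (∀ p : ℕ, p.Prime → p ∣ Nat.card G → ∃ M : Subgroup G, IsCoatom M ∧ p ∈ Cfsg.sigma M) ∧
      ∀ M N : Subgroup G, IsCoatom M → IsCoatom N → (Cfsg.sigma M ∩ Cfsg.sigma N).Nonempty → ∃ g : G, N = M.map (MulAut.conj g).toMonoidHom := by
  haveI : IsSimpleGroup G := hG.2.1
  refine ⟨?_, ?_⟩
  · intro p hp hpG
    haveI : Fact p.Prime := ⟨hp⟩
    obtain ⟨P⟩ : Nonempty (Sylow p G) := inferInstance
    have hP1 : (P : Subgroup G) ≠ ⊥ := by
      intro hb
      have h1 := P.not_dvd_index
      rw [hb, Subgroup.index_bot] at h1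
      exact h1 hpG
    have hPtop : (P : Subgroup G) ≠ ⊤ := Cfsg.Agent.Helper29.BG10.isPGroup_ne_top hG P.isPGroup'
    have hN := Cfsg.Agent.Helper31.bgt_normalizer_ne_top_of_simple hP1 hPtop
    rcases eq_top_or_exists_le_coatom (Subgroup.normalizer ((P : Subgroup G) : Set G)) with
      h0 | ⟨M, hM, hNM⟩
    · exact absurd h0 hN
    have hPM : (P : Subgroup G) ≤ M := Subgroup.le_normalizer.trans hNM
    have hsyl : Cfsg.Agent.Helper29.BG10.IsSylowIn p (P : Subgroup G) M := by
      refine ⟨hPM, P.isPGroup', ?_⟩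
      intro hd
      apply P.not_dvd_index
      rw [← Subgroup.relIndex_top_right,
        ← Subgroup.relIndex_mul_relIndex (P : Subgroup G) M ⊤ hPM le_top]
      exact Dvd.dvd.mul_right hd _
    have hpM : p ∣ Nat.card M := by
      obtain ⟨k, hk⟩ := IsPGroup.iff_card.1 P.isPGroup'
      have hk0 : k ≠ 0 := by
        rintro rfl
        rw [pow_zero] at hk
        exact hP1 (Subgroup.card_eq_one.1 hk)
      have h1 : p ∣ Nat.card (P : Subgroup G) := by rw [hk]; exact dvd_pow_self p hk0
      exact h1.trans (Subgroup.card_dvd_of_le hPM)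
    exact ⟨M, hM, Cfsg.Agent.Helper29.BG11.mem_sigma_iff.2 ⟨hpM, _, hsyl, hNM⟩⟩
  · intro M N hM hN ⟨q, hqM, hqN⟩
    by_contra hcon
    push Not at hcon
    exact Cfsg.Agent.Helper32.BGSigma.sigma_partition hG M N hM hN
      (fun g hg => hcon g hg.symm) q hqM hqN

end Cfsg.Agent.S1378
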