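import Cfsg.Statements.S0009
import Cfsg.Agent.Lib.Cores

set_option autoImplicit false
open Pointwise
open Cfsg

namespace Cfsg.Agent.S0009

open Cfsg.Agent.Lib

/-- A normal nilpotent subgroup of a finite group lies in the join of the `p`-cores. -/
theorem nilpotent_le_iSup_pCore {G : Type*} [Group G] [Finite G] {N : Subgroup G} (hN : N.Normal)
    (hnil : Group.IsNilpotent N) : N ≤ ⨆ p : Nat.Primes, Cfsg.pCore (p : ℕ) G := by
  classical
  have := hN
  -- `N` is generated by its Sylow subgroups, each of which is normal in `G`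
  intro x hx
  -- Work inside N: the subgroup M of N of elements mapping into the join.
  set J : Subgroup G := ⨆ p : Nat.Primes, Cfsg.pCore (p : ℕ) G with hJ
  have hSyl : ∀ (p : ℕ) [Fact p.Prime] (Q : Sylow p N), (Q : Subgroup N).map N.subtype ≤ J := by
    intro p hp Q
    have hQn : (Q : Subgroup N).Normal := inferInstance
    have hQc : (Q : Subgroup N).Characteristic := Q.characteristic_of_normal hQn
    have hQG : ((Q : Subgroup N).map N.subtype).Normal := inferInstance
    have hle : (Q : Subgroup N).map N.subtype ≤ Cfsg.pCore p G :=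
      le_pCore hQG (Q.2.map N.subtype)
    exact hle.trans (le_iSup (fun p : Nat.Primes => Cfsg.pCore (p : ℕ) G) ⟨p, hp.out⟩)
  -- the subgroup `J.subgroupOf N` of `N` contains all Sylow subgroups of `N`, hence is `⊤`
  have htop : J.subgroupOf N = ⊤ := by
    apply Subgroup.eq_top_of_card_eq
    apply Nat.dvd_antisymm (Subgroup.card_subgroup_dvd_card _)
    -- every prime power dividing |N| divides |J ∩ N|
    rw [← Nat.factorization_prime_le_iff_dvd Nat.card_pos.ne' Nat.card_pos.ne']
    intro p hp
    haveI : Fact p.Prime := ⟨hp⟩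
    obtain ⟨Q⟩ : Nonempty (Sylow p N) := inferInstance
    have hQle : (Q : Subgroup N) ≤ J.subgroupOf N := by
      intro y hy
      rw [Subgroup.mem_subgroupOf]
      exact hSyl p Q (Subgroup.mem_map_of_mem _ hy)
    have h1 : Nat.card (Q : Subgroup N) = p ^ (Nat.card N).factorization p := Q.card_eq_multiplicity
    have h2 : Nat.card (Q : Subgroup N) ∣ Nat.card (J.subgroupOf N) := Subgroup.card_dvd_of_le hQle
    rw [h1] at h2
    exact (hp.pow_dvd_iff_le_factorization Nat.card_pos.ne').mp h2
  have : (⟨x, hx⟩ : N) ∈ J.subgroupOf N := by rw [htop]; trivial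
  exact Subgroup.mem_subgroupOf.mp this

/-- The Fitting subgroup of a finite group is generated by the p-cores, p ranging over the primes. -/
theorem result {G : Type*} [Group G] [Finite G] :
    Cfsg.fittingSubgroup G = ⨆ p : Nat.Primes, Cfsg.pCore (p : ℕ) G := by
  apply le_antisymm
  · exact sSup_le fun N hN => nilpotent_le_iSup_pCore hN.1 hN.2
  · refine iSup_le fun p => ?_
    haveI : Fact (p : ℕ).Prime := ⟨p.2⟩
    exact pCore_le_fittingSubgroup (p : ℕ)

end Cfsg.Agent.S0009
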