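import Cfsg.Statements.S0552
import Cfsg.Agent.S0044

set_option autoImplicit false
open Cfsg

namespace Cfsg.Agent.S0552

/-- Let σ be an automorphism of a finite solvable group G fixing every element of the Fitting subgroup. If σ is not the identity then the order of σ and the order of G have a common prime factor. -/
theorem result {G : Type*} [Group G] [Finite G] [Group.IsSolvable G] (σ : G ≃* G) (hσ : ∀ x ∈ Cfsg.fittingSubgroup G, σ x = x) (hne : σ ≠ MulEquiv.refl G) : ¬ (orderOf σ).Coprime (Nat.card G) := by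
  intro hcop
  apply hne
  have hFn : (fittingSubgroup G).Normal := Cfsg.Agent.Lib.fittingSubgroup_normal
  -- `c = g⁻¹ σ(g)` lies in `C_G(F) ≤ F`
  have hc : ∀ g : G, g⁻¹ * σ g ∈ fittingSubgroup G := by
    intro g
    apply Cfsg.Agent.S0044.result
    rw [Subgroup.mem_centralizer_iff]
    intro f hf
    have h1 : g * f * g⁻¹ ∈ fittingSubgroup G := hFn.conj_mem f hf g
    have h2 : σ (g * f * g⁻¹) = g * f * g⁻¹ := hσ _ h1
    rw [map_mul, map_mul, map_inv, hσ f hf] at h2
    -- `σ g * f * (σ g)⁻¹ = g * f * g⁻¹`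
    calc f * (g⁻¹ * σ g) = g⁻¹ * (g * f * g⁻¹) * σ g := by group
      _ = g⁻¹ * (σ g * f * (σ g)⁻¹) * σ g := by rw [h2]
      _ = g⁻¹ * σ g * f := by group
  -- powers of `σ`
  have hpow : ∀ (g : G) (k : ℕ), (σ ^ k) g = g * (g⁻¹ * σ g) ^ k := by
    intro g k
    induction k with
    | zero => simp
    | succ k ih =>
      have h1 : (σ ^ (k + 1)) g = σ ((σ ^ k) g) := by
        rw [pow_succ']; rfl
      rw [h1, ih, map_mul, map_pow, hσ _ (hc g), pow_succ']
      calc σ g * (g⁻¹ * σ g) ^ k = g * (g⁻¹ * σ g) * (g⁻¹ * σ g) ^ k := by group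
        _ = g * (g⁻¹ * σ g * (g⁻¹ * σ g) ^ k) := by rw [mul_assoc]
  ext g
  have h1 := hpow g (orderOf σ)
  rw [pow_orderOf_eq_one] at h1
  have h2 : (g⁻¹ * σ g) ^ orderOf σ = 1 := by
    have h3 : g = g * (g⁻¹ * σ g) ^ orderOf σ := h1
    exact (mul_eq_left.mp h3.symm)
  have h4 : orderOf (g⁻¹ * σ g) ∣ orderOf σ := orderOf_dvd_of_pow_eq_one h2
  have h5 : orderOf (g⁻¹ * σ g) ∣ Nat.card G := orderOf_dvd_natCard _
  have h6 : orderOf (g⁻¹ * σ g) = 1 := Nat.eq_one_of_dvd_coprimes hcop h4 h5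
  have h7 : g⁻¹ * σ g = 1 := orderOf_eq_one_iff.mp h6
  have h8 : σ g = g := by
    calc σ g = g * (g⁻¹ * σ g) := by group
      _ = g := by rw [h7, mul_one]
  simpa using h8

end Cfsg.Agent.S0552
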