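-- Statement S1445 (row 1445): prime action of a complement with no fixed points on F(K): [K, R] ≤ F(K).
import Cfsg.Statements.S1445
import Cfsg.Agent.S0026
import Cfsg.Agent.S3766
import Cfsg.Agent.Helper71.PrimeActionMain

set_option autoImplicit false
open Cfsg

namespace Cfsg.Agent.S1445

open Subgroup Cfsg.Agent.Helper71.Shult Cfsg.Agent.Helper97
open scoped commutatorElement

/-- Let G be a solvable group of odd order, K a normal subgroup and R a subgroup with G = KR and the orders of K and R coprime. Suppose K ∩ C_G(x) = K ∩ C_G(R) for every non-identity x ∈ R, and F(K) ∩ C_G(R) = 1. Then [K, R] is contained in the Fitting subgroup of K. -/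
theorem result {G : Type*} [Group G] [Finite G] [Group.IsSolvable G] (hodd : Odd (Nat.card G)) (K R : Subgroup G) [K.Normal] (hKR : K ⊔ R = ⊤) (hcop : (Nat.card K).Coprime (Nat.card R))
    (hprime : ∀ x ∈ R, x ≠ 1 → K ⊓ Subgroup.centralizer ({x} : Set G) = (K ⊓ Subgroup.centralizer (R : Set G)))
    (hF : Cfsg.fittingOf K ⊓ Subgroup.centralizer (R : Set G) = ⊥) :
    ⁅K, R⁆ ≤ Cfsg.fittingOf K := by
  by_cases hR1 : R = ⊥
  · subst hR1
    rw [commutator_bot_right]
    exact bot_le
  have hRcard : Nat.card R ≠ 1 := fun h => hR1 (Subgroup.card_eq_one.mp h)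
  obtain ⟨r, hr, hrd⟩ := Nat.exists_prime_and_dvd hRcard
  haveI : Fact r.Prime := ⟨hr⟩
  obtain ⟨e, he⟩ := exists_prime_orderOf_dvd_card' (G := ↥R) r hrd
  have hx : orderOf (e : G) = r := by rw [Subgroup.orderOf_coe]; exact he
  have hxR : (e : G) ∈ R := e.2
  have hx1 : (e : G) ≠ 1 := by
    intro h1
    rw [h1, orderOf_one] at hx
    exact hr.one_lt.ne hx
  have hcopr : (Nat.card K).Coprime r := Nat.Coprime.coprime_dvd_right hrd hcop
  have hfixF : Cfsg.fittingOf K ⊓ centralizer ({(e : G)} : Set G) = ⊥ := by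
    rw [eq_bot_iff]
    intro f hf
    have h1 : f ∈ K ⊓ centralizer ({(e : G)} : Set G) := ⟨map_subtype_le _ hf.1, hf.2⟩
    rw [hprime _ hxR hx1] at h1
    have h2 : f ∈ Cfsg.fittingOf K ⊓ centralizer (R : Set G) := ⟨hf.1, h1.2⟩
    rw [hF] at h2
    exact h2
  -- the prime-order subgroup
  have hstep : ⁅K, zpowers (e : G)⁆ ≤ Cfsg.fittingOf K := by
    intro g hg
    have hgK : g ∈ K := commutator_le_left K (zpowers (e : G)) hg
    unfold Cfsg.fittingOf
    rw [(Cfsg.Agent.S3766.result inferInstance K g).2]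
    refine ⟨hgK, ?_⟩
    intro U V hUV hUF u hu
    have hU : U.Normal := hUV.1
    have hV : V.Normal := hUV.2.1
    have h1 := commutator_le_chiefCent_of_chief hodd K hr hx hcopr hfixF (U := U) (V := V)
      hUV hUF
    exact (h1 hg) u hu
  -- from the prime-order subgroup to `R`
  have hnormK : zpowers (e : G) ≤ normalizer (K : Set G) := by
    rw [normalizer_eq_top]; exact le_top
  have hcop0 : (Nat.card (zpowers (e : G))).Coprime (Nat.card K) := by
    rw [Nat.card_zpowers, hx]; exact hcopr.symm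
  have h26 := Cfsg.Agent.S0026.result (zpowers (e : G)) K hnormK hcop0 (Or.inr inferInstance)
  haveI hFn : (Cfsg.fittingOf K).Normal := map_fittingSubgroup_normal K
  rw [commutator_le]
  intro k hk y hy
  have hk' : k ∈ Cfsg.fittingOf K ⊔ (K ⊓ centralizer (R : Set G)) := by
    have h1 : k ∈ ⁅K, zpowers (e : G)⁆ ⊔ (K ⊓ centralizer (zpowers (e : G) : Set G)) := by
      rw [h26]; exact hk
    refine (sup_le_sup hstep ?_) h1
    intro c hc
    have h2 : c ∈ K ⊓ centralizer ({(e : G)} : Set G) := by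
      refine ⟨hc.1, ?_⟩
      show c ∈ centralizer _
      rw [mem_centralizer_iff]
      intro z hz
      rw [Set.mem_singleton_iff] at hz
      subst hz
      exact mem_centralizer_iff.mp hc.2 _ (mem_zpowers _)
    rw [hprime _ hxR hx1] at h2
    exact h2
  rw [mem_sup_of_normal_left] at hk'
  obtain ⟨f, hf, c, hc, rfl⟩ := hk'
  have hcy : c * y = y * c := (mem_centralizer_iff.mp hc.2 y hy).symm
  have e1 : ⁅f * c, y⁆ = f * (y * f⁻¹ * y⁻¹) := by
    have e2 : ⁅f * c, y⁆ = f * (c * y) * c⁻¹ * f⁻¹ * y⁻¹ := by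
      simp only [commutatorElement_def]; group
    rw [e2, hcy]; group
  rw [e1]
  exact (Cfsg.fittingOf K).mul_mem hf (hFn.conj_mem _ ((Cfsg.fittingOf K).inv_mem hf) y)

end Cfsg.Agent.S1445
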