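import Mathlib
import Cfsg.Statements.S0581
import Cfsg.Agent.S0536
-- import your own Cfsg.Agent.* helpers here

set_option autoImplicit false
set_option linter.unusedSectionVars false
open Pointwise
open Cfsg

namespace Cfsg.Agent.S0581

open Subgroup

/-- A finite nilpotent group has a normal `p`-complement. -/
lemma exists_normal_compl {M : Type*} [Group M] [Finite M] [hM : Group.IsNilpotent M] (p : ℕ)
    [hp : Fact p.Prime] :
    ∃ T : Subgroup M, T.Normal ∧ ¬ p ∣ Nat.card T ∧ ∃ k, T.index = p ^ k := by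
  by_cases hpd : p ∣ Nat.card M
  · obtain ⟨e⟩ := ((Group.isNilpotent_of_finite_tfae (G := M)).out 0 4 rfl rfl).mp hM
    have hpm : p ∈ (Nat.card M).primeFactors :=
      Nat.mem_primeFactors.mpr ⟨hp.out, hpd, Nat.card_pos.ne'⟩
    let φ : M →* (∀ P : Sylow p M, (P : Subgroup M)) :=
      (Pi.evalMonoidHom (fun q : (Nat.card M).primeFactors => ∀ P : Sylow q M, (P : Subgroup M))
        ⟨p, hpm⟩).comp e.symm.toMonoidHom
    have hφ : Function.Surjective φ := by
      intro f
      classical
      refine ⟨e (Function.update 1 ⟨p, hpm⟩ f), ?_⟩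
      simp [φ]
    let P₁ : Sylow p M := default
    have hP₁n : (P₁ : Subgroup M).Normal := inferInstance
    have hu : Unique (Sylow p M) := Sylow.unique_of_normal P₁ hP₁n
    let P₀ : Sylow p M := hu.default
    have hcard : Nat.card (∀ P : Sylow p M, (P : Subgroup M)) = Nat.card P₀ :=
      Nat.card_congr (Equiv.piUnique (fun P : Sylow p M => (P : Subgroup M)))
    refine ⟨φ.ker, inferInstance, ?_, ?_⟩
    · have hidx : φ.ker.index = Nat.card P₀ := by
        rw [Subgroup.index_ker, MonoidHom.range_eq_top.mpr hφ, Subgroup.card_top, hcard]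
      have h1 : Nat.card φ.ker * φ.ker.index = Nat.card M := Subgroup.card_mul_index _
      have h2 : Nat.card P₀ * (P₀ : Subgroup M).index = Nat.card M := Subgroup.card_mul_index _
      have h3 : Nat.card φ.ker = (P₀ : Subgroup M).index := by
        rw [hidx] at h1
        have hpos : 0 < Nat.card P₀ := Nat.card_pos
        apply Nat.eq_of_mul_eq_mul_right hpos
        rw [h1, ← h2, mul_comm]
      rw [h3]
      exact P₀.not_dvd_index
    · obtain ⟨k, hk⟩ := P₀.2.exists_card_eq
      refine ⟨k, ?_⟩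
      rw [Subgroup.index_ker, MonoidHom.range_eq_top.mpr hφ, Subgroup.card_top, hcard, hk]
  · refine ⟨⊤, inferInstance, ?_, 0, ?_⟩
    · rwa [Subgroup.card_top]
    · rw [Subgroup.index_top, pow_zero]


section general
variable {G : Type*} [Group G] [Finite G]

lemma relIndex_map_subtype' (X : Subgroup G) (T₀ : Subgroup X) :
    (T₀.map X.subtype).relIndex X = T₀.index := by
  rw [Subgroup.relIndex, Subgroup.subgroupOf, comap_map_eq_self_of_injective X.subtype_injective]

/-- The `p`-complement of a nilpotent subgroup, described inside the ambient group. -/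
lemma exists_pcompl (X : Subgroup G) (hX : Group.IsNilpotent X) (p : ℕ) [hp : Fact p.Prime] :
    ∃ T : Subgroup G, (∀ g, g ∈ T ↔ g ∈ X ∧ ¬ p ∣ orderOf g) ∧ ∃ k, T.relIndex X = p ^ k := by
  obtain ⟨T₀, hT₀n, hT₀c, k, hk⟩ := exists_normal_compl (M := X) p
  refine ⟨T₀.map X.subtype, ?_, k, ?_⟩
  · intro g
    constructor
    · rintro ⟨x, hx, rfl⟩
      refine ⟨x.2, ?_⟩
      intro hdvd
      apply hT₀c
      have h1 : orderOf (⟨x, hx⟩ : T₀) ∣ Nat.card T₀ := orderOf_dvd_natCard _
      have h2 : orderOf (⟨x, hx⟩ : T₀) = orderOf ((x : X) : G) := by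
        rw [Subgroup.orderOf_mk, Subgroup.orderOf_coe]
      rw [h2] at h1
      exact dvd_trans hdvd h1
    · rintro ⟨hgX, hg⟩
      refine ⟨⟨g, hgX⟩, ?_, rfl⟩
      have h1 : (⟨g, hgX⟩ : X) ^ (p ^ k) ∈ T₀ := by
        rw [← QuotientGroup.eq_one_iff, QuotientGroup.mk_pow, ← hk, Subgroup.index_eq_card]
        exact pow_card_eq_one'
      have hcop : (p ^ k).Coprime (orderOf (⟨g, hgX⟩ : X)) := by
        apply Nat.Coprime.pow_left
        rw [Nat.Prime.coprime_iff_not_dvd hp.out, Subgroup.orderOf_mk]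
        exact hg
      obtain ⟨m, hm⟩ := exists_pow_eq_self_of_coprime hcop
      rw [SetLike.mem_coe, ← hm]
      exact T₀.pow_mem h1 m
  · rw [relIndex_map_subtype', hk]

lemma nilpotent_of_le {L H' : Subgroup G} (h : L ≤ H') (hH' : Group.IsNilpotent H') :
    Group.IsNilpotent L :=
  Group.nilpotent_of_mulEquiv (Subgroup.subgroupOfEquivOfLe h)

lemma nilpotent_smul (x : G) (H : Subgroup G) (hH : Group.IsNilpotent H) :
    Group.IsNilpotent ↥(MulAut.conj x • H) :=
  Group.nilpotent_of_mulEquiv (Subgroup.equivSMul (MulAut.conj x) H)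

/-- Sylow conjugacy inside a subgroup `N` containing a Sylow subgroup of `G`. -/
lemma exists_conj_mem_sylow {p : ℕ} [Fact p.Prime] (S : Sylow p G) (N P : Subgroup G)
    (hSN : (S : Subgroup G) ≤ N) (hPN : P ≤ N) (hP : IsPGroup p P) :
    ∃ x ∈ N, ∀ g ∈ P, x * g * x⁻¹ ∈ (S : Subgroup G) := by
  have hP' : IsPGroup p (P.subgroupOf N) :=
    hP.of_equiv (Subgroup.subgroupOfEquivOfLe hPN).symm
  obtain ⟨S', hS'⟩ := hP'.exists_le_sylow
  obtain ⟨n, hn⟩ := MulAction.exists_smul_eq N S' (S.subtype hSN)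
  refine ⟨n, n.2, fun g hg => ?_⟩
  have h1 : (⟨g, hPN hg⟩ : N) ∈ (S' : Subgroup N) := hS' (mem_subgroupOf.mpr hg)
  have h2 : MulAut.conj n • (⟨g, hPN hg⟩ : N) ∈ ((n • S' : Sylow p N) : Subgroup N) := by
    rw [Sylow.coe_subgroup_smul]
    exact Subgroup.smul_mem_pointwise_smul _ _ _ h1
  rw [hn, Sylow.coe_subtype, mem_subgroupOf] at h2
  simpa [MulAut.smul_def] using h2


lemma orderOf_conj' (g x : G) : orderOf (g * x * g⁻¹) = orderOf x := by
  rw [← MulAut.conj_apply]
  exact MulEquiv.orderOf_eq _ _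

lemma step {p : ℕ} [hp : Fact p.Prime] (H K M : Subgroup G) (hH : Group.IsNilpotent H)
    (hHall : (Nat.card H).Coprime H.index) (hpH : p ∣ Nat.card H) (hMK : M ≤ K)
    (hMn : ∀ k ∈ K, ∀ g ∈ M, k * g * k⁻¹ ∈ M) (hidx : M.relIndex K = p) (hMH : M ≤ H) :
    ∃ x : G, K ≤ MulAut.conj x • H := by
  have hMnil : Group.IsNilpotent M := nilpotent_of_le hMH hH
  obtain ⟨T, hT, a, hTa⟩ := exists_pcompl M hMnil p
  obtain ⟨TH, hTH, b, hTHb⟩ := exists_pcompl H hH p
  have hTTH : T ≤ TH := fun g hg => (hTH g).mpr ⟨hMH ((hT g).mp hg).1, ((hT g).mp hg).2⟩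
  have hTM : T ≤ M := fun g hg => ((hT g).mp hg).1
  let HP₀ : Sylow p H := default
  have hHP₀n : (HP₀ : Subgroup H).Normal := inferInstance
  have hidxG : ¬ p ∣ ((HP₀ : Subgroup H).map H.subtype).index := by
    rw [Subgroup.index_map_subtype]
    intro h
    rcases (Nat.Prime.dvd_mul hp.out).mp h with h | h
    · exact HP₀.not_dvd_index h
    · have h1 : Nat.Coprime p H.index := Nat.Coprime.coprime_dvd_left hpH hHall
      exact (Nat.Prime.coprime_iff_not_dvd hp.out).mp h1 h
  let S : Sylow p G := (HP₀.2.map H.subtype).toSylow hidxG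
  have hS : (S : Subgroup G) = (HP₀ : Subgroup H).map H.subtype := IsPGroup.toSylow_coe _ _
  have hSH : (S : Subgroup G) ≤ H := by
    rw [hS]
    exact map_subtype_le _
  have hcomm : ∀ s ∈ (S : Subgroup G), ∀ t ∈ TH, Commute s t := by
    intro s hs t ht
    have hTHn : (TH.subgroupOf H).Normal := by
      refine ⟨fun y hy h => ?_⟩
      rw [mem_subgroupOf] at hy ⊢
      rw [hTH] at hy ⊢
      refine ⟨(h * y * h⁻¹).2, ?_⟩
      have : ((h * y * h⁻¹ : H) : G) = (h : G) * y * (h : G)⁻¹ := by simp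
      rw [this, orderOf_conj']
      exact hy.2
    have hdisj : Disjoint (HP₀ : Subgroup H) (TH.subgroupOf H) := by
      rw [Subgroup.disjoint_def]
      intro y hy1 hy2
      rw [mem_subgroupOf, hTH] at hy2
      obtain ⟨k, hk⟩ := (IsPGroup.iff_orderOf.mp HP₀.2) ⟨y, hy1⟩
      rw [Subgroup.orderOf_mk, ← Subgroup.orderOf_coe] at hk
      rcases Nat.eq_zero_or_pos k with h0 | h0
      · rw [h0, pow_zero, orderOf_eq_one_iff] at hk
        exact Subtype.ext hk
      · exfalso
        apply hy2.2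
        rw [hk]
        exact dvd_pow_self p h0.ne'
    rw [hS] at hs
    obtain ⟨s', hs', rfl⟩ := hs
    have htH : t ∈ H := ((hTH t).mp ht).1
    have ht' : (⟨t, htH⟩ : H) ∈ TH.subgroupOf H := mem_subgroupOf.mpr ht
    have := Subgroup.commute_of_normal_of_disjoint _ _ hHP₀n hTHn hdisj s' ⟨t, htH⟩ hs' ht'
    exact congrArg Subtype.val this.eq
  set N := normalizer (T : Set G) with hN
  have hKN : K ≤ N := by
    intro k hk
    rw [hN, mem_set_normalizer_iff]
    intro g
    rw [SetLike.mem_coe, SetLike.mem_coe, hT, hT, orderOf_conj']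
    constructor
    · rintro ⟨h1, h2⟩
      exact ⟨hMn k hk g h1, h2⟩
    · rintro ⟨h1, h2⟩
      refine ⟨?_, h2⟩
      have := hMn k⁻¹ (K.inv_mem hk) _ h1
      simpa [mul_assoc] using this
  have hSN : (S : Subgroup G) ≤ N := by
    refine le_trans ?_ (centralizer_le_normalizer _)
    intro s hs
    rw [mem_centralizer_iff]
    intro t ht
    exact ((hcomm s hs t (hTTH ht)).eq).symm
  let PK₀ : Sylow p K := default
  set PK : Subgroup G := (PK₀ : Subgroup K).map K.subtype with hPK
  have hPKK : PK ≤ K := map_subtype_le _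
  have hPKp : IsPGroup p PK := PK₀.2.map _
  obtain ⟨x, hxN, hx⟩ := exists_conj_mem_sylow S N PK hSN (hPKK.trans hKN) hPKp
  have hKle : K ≤ T ⊔ PK := by
    rw [← relIndex_eq_one]
    have h1 : (T ⊔ PK).relIndex K ∣ T.relIndex K :=
      relIndex_dvd_of_le_left K (le_sup_left : T ≤ T ⊔ PK)
    have h2 : (T ⊔ PK).relIndex K ∣ PK.relIndex K :=
      relIndex_dvd_of_le_left K (le_sup_right : PK ≤ T ⊔ PK)
    have h3 : T.relIndex K = p ^ a * p := by
      rw [← relIndex_mul_relIndex T M K hTM hMK, hTa, hidx]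
    have h4 : PK.relIndex K = (PK₀ : Subgroup K).index := relIndex_map_subtype' K _
    have h5 : ¬ p ∣ PK.relIndex K := h4 ▸ PK₀.not_dvd_index
    rw [h3, ← pow_succ] at h1
    obtain ⟨j, -, hj⟩ := (Nat.dvd_prime_pow hp.out).mp h1
    rcases Nat.eq_zero_or_pos j with h0 | h0
    · rw [hj, h0, pow_zero]
    · exfalso
      apply h5
      exact dvd_trans (hj ▸ dvd_pow_self p h0.ne') h2
  refine ⟨x⁻¹, ?_⟩
  have hle : T ⊔ PK ≤ H.comap (MulAut.conj x).toMonoidHom := by
    apply sup_le
    · intro t ht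
      rw [mem_comap]
      show x * t * x⁻¹ ∈ H
      exact hMH (hTM ((mem_set_normalizer_iff.mp hxN t).mp ht))
    · intro t ht
      exact hSH (hx t ht)
  intro g hg
  rw [mem_pointwise_smul_iff_inv_smul_mem]
  have := hle (hKle hg)
  rw [mem_comap] at this
  simpa [MulAut.smul_def] using this


theorem main : ∀ (n : ℕ) (H K : Subgroup G), Group.IsNilpotent H →
    (Nat.card H).Coprime H.index →
    (∀ p : ℕ, p.Prime → p ∣ Nat.card K → p ∣ Nat.card H) → Nat.card K = n →
    ∃ x : G, K ≤ MulAut.conj x • H := by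
  intro n
  induction n using Nat.strong_induction_on with
  | _ n ih =>
    intro H K hH hHall hK hn
    by_cases hKbot : K = ⊥
    · exact ⟨1, hKbot ▸ bot_le⟩
    have hKnt : Nontrivial K := (Subgroup.nontrivial_iff_ne_bot K).mpr hKbot
    have hprop : ∀ L : Subgroup G, L ≤ K → Nat.card L < n → Group.IsNilpotent L := by
      intro L hLK hlt
      have hL : ∀ p : ℕ, p.Prime → p ∣ Nat.card L → p ∣ Nat.card H := fun p hp hpl =>
        hK p hp (dvd_trans hpl (Subgroup.card_dvd_of_le hLK))
      obtain ⟨y, hy⟩ := ih _ hlt H L hH hHall hL rfl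
      exact nilpotent_of_le hy (nilpotent_smul y H hH)
    have hsol : Group.IsSolvable K := by
      apply S0046.main (Nat.card K) K rfl
      intro L' hL'
      have hlt : Nat.card (L'.map K.subtype) < n := by
        rw [← hn, Nat.card_congr
          (Subgroup.equivMapOfInjective L' K.subtype K.subtype_injective).symm.toEquiv]
        exact lt_of_le_of_ne (Subgroup.card_le_card_group L')
          (fun h => hL'.1 (Subgroup.eq_top_of_card_eq L' h))
      have := hprop (L'.map K.subtype) (map_subtype_le _) hlt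
      exact Group.nilpotent_of_mulEquiv
        (Subgroup.equivMapOfInjective L' K.subtype K.subtype_injective).symm
    obtain ⟨M', hM'n, hM'p⟩ := S0536.exists_normal_prime_index (G := K)
    set p := M'.index with hp
    have := Fact.mk hM'p
    set M := M'.map K.subtype with hM
    have hMK : M ≤ K := map_subtype_le _
    have hidx : M.relIndex K = p := relIndex_map_subtype' K M'
    have hMn : ∀ k ∈ K, ∀ g ∈ M, k * g * k⁻¹ ∈ M := by
      rintro k hk g ⟨g', hg', rfl⟩
      exact ⟨⟨k, hk⟩ * g' * ⟨k, hk⟩⁻¹, hM'n.conj_mem g' hg' ⟨k, hk⟩, by simp⟩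
    have hcardM : Nat.card M * p = Nat.card K := by
      have := relIndex_mul_relIndex ⊥ M K bot_le hMK
      rwa [relIndex_bot_left, relIndex_bot_left, hidx] at this
    have hpK : p ∣ Nat.card K := Dvd.intro_left _ hcardM
    have hpH : p ∣ Nat.card H := hK p hM'p hpK
    have hMlt : Nat.card M < n := by
      rw [← hn, ← hcardM]
      have h1 := hM'p.one_lt
      have h2 : 0 < Nat.card M := Nat.card_pos
      nlinarith
    have hMprimes : ∀ q : ℕ, q.Prime → q ∣ Nat.card M → q ∣ Nat.card H := fun q hq hqm =>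
      hK q hq (dvd_trans hqm (Subgroup.card_dvd_of_le hMK))
    obtain ⟨g, hg⟩ := ih _ hMlt H M hH hHall hMprimes rfl
    have hH₁ := nilpotent_smul g H hH
    have hcardH₁ : Nat.card ↥(MulAut.conj g • H) = Nat.card H :=
      Nat.card_congr (Subgroup.equivSMul (MulAut.conj g) H).symm.toEquiv
    have hidxH₁ : (MulAut.conj g • H).index = H.index := by
      have h1 := (MulAut.conj g • H).card_mul_index
      have h2 := H.card_mul_index
      rw [hcardH₁, ← h2] at h1
      exact Nat.eq_of_mul_eq_mul_left Nat.card_pos h1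
    obtain ⟨x, hx⟩ := step (MulAut.conj g • H) K M hH₁ (by rw [hcardH₁, hidxH₁]; exact hHall)
      (by rw [hcardH₁]; exact hpH) hMK hMn hidx hg
    refine ⟨x * g, ?_⟩
    rw [map_mul, mul_smul]
    exact hx

end general

/-- Let H be a nilpotent subgroup of a finite group G whose order is coprime to its index, and K a subgroup every prime divisor of whose order divides the order of H. Then K lies in some conjugate of H. -/
theorem result {G : Type*} [Group G] [Finite G] (H K : Subgroup G) (hH : Group.IsNilpotent H) (hHall : (Nat.card H).Coprime H.index) (hK : ∀ p : ℕ, p.Prime → p ∣ Nat.card K → p ∣ Nat.card H) : ∃ x : G, K ≤ MulAut.conj x • H := by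
  exact main (Nat.card K) H K hH hHall hK rfl

end Cfsg.Agent.S0581
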