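import Cfsg.Statements.S1419
import Mathlib
import Cfsg.Agent.S1403
import Cfsg.Agent.S1412
import Cfsg.Agent.S1414
import Cfsg.Agent.S1416
import Cfsg.Agent.S1417
import Cfsg.Agent.Helper22.BG127g

set_option autoImplicit false
open Cfsg

namespace Cfsg.Agent.S1419

/-- Let G be a minimal simple group of odd order whose Sylow p-subgroups are nonabelian, M a maximal subgroup with p ∈ τ₂(M), E a complement to M_σ in M and A ≤ E elementary abelian of order p ^ 2. Then τ₂(M) = {p}; A₀ = A ∩ C_G(M_σ) has order p and F(M) is generated by M_σ and A₀ (a direct product); and every subgroup X ≠ A₀ of E of order p satisfies M_σ ∩ C_G(X) = 1 and C_G(X) ⊄ M. -/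
theorem result {G : Type*} [Group G] [Finite G] (hG : Cfsg.IsMinSimpleOddOrder G)
    (M : Subgroup G) (hM : IsCoatom M) (E : Subgroup G) (hE : Cfsg.IsComplIn E (Cfsg.sigmaCore M) M) (p : ℕ) [Fact p.Prime] (hp : p ∈ Cfsg.tau2 M) (hS : ∀ S : Sylow p G, ¬ IsMulCommutative (S : Subgroup G))
    (A : Subgroup G) (hA : (A ≤ E ∧ Cfsg.IsElementaryAbelian p A ∧ Nat.card A = p ^ 2)) :
    Cfsg.tau2 M = {p} ∧
      (Nat.card ↥(A ⊓ Subgroup.centralizer (Cfsg.sigmaCore M : Set G)) = p ∧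
        Cfsg.fittingOf M = Cfsg.sigmaCore M ⊔ (A ⊓ Subgroup.centralizer (Cfsg.sigmaCore M : Set G))) ∧
      ∀ X : Subgroup G, X ≤ E → Nat.card X = p → X ≠ A ⊓ Subgroup.centralizer (Cfsg.sigmaCore M : Set G) →
        Cfsg.sigmaCore M ⊓ Subgroup.centralizer (X : Set G) = ⊥ ∧ ¬ Subgroup.centralizer (X : Set G) ≤ M := by
  have hU : Cfsg.Agent.Helper29.BG10.UniquenessThm G :=
    fun K hK hK2 hK3 => Cfsg.Agent.S1403.result hG K hK hK2 hK3
  have h124 : Cfsg.Agent.Helper22.BG127.Hyp124 G := fun L hL q _ B hBL hBel hBc =>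
    (Cfsg.Agent.S1416.result hG L hL q B ⟨hBL, hBel, hBc⟩).1
  have h125 : Cfsg.Agent.Helper22.BG127.Hyp125 G := fun L hL q _ hq B hBL hBel hBc =>
    Cfsg.Agent.S1417.result hG L hL q hq B ⟨hBL, hBel, hBc⟩
  have h108 : Cfsg.Agent.Helper22.BG127.Hyp108 G := fun H hH q hq hqH hqβ =>
    ((Cfsg.Agent.S1414.result hG H hH).2.2.2.2 q hq hqH hqβ).2.1
  have h1412 : Cfsg.Agent.Helper22.BG127.Hyp1412 p G := fun P hr =>
    Cfsg.Agent.S1412.result hG p P hr
  exact Cfsg.Agent.Helper22.BG127.thm_12_7 hG hU h124 h125 h108 M hM E hE p hp hS A hA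
    (Cfsg.Agent.Helper22.BG127.hypE2_of_1010 hG hM hp hS (hA.1.trans hE.1) hA.2.1 hA.2.2 h1412)

end Cfsg.Agent.S1419
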