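-- Statement S1353 (B-G: C_U(k) = 1 for k ∈ K#), conditional on S1430 (helper60).
import Cfsg.Statements.S1353
import Cfsg.Agent.S1430
import Cfsg.Agent.Helper60.BGAsmA

set_option autoImplicit false
open Cfsg

namespace Cfsg.Agent.S1353

/-- Let G be a minimal simple group of odd order, M a maximal subgroup with standard factorisation M = K U M_σ. Then C_U(k) = 1 for every non-identity element k of K. -/
theorem result {G : Type*} [Group G] [Finite G] (hG : Cfsg.IsMinSimpleOddOrder G)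
    (M : Subgroup G) (hM : IsCoatom M) (K U : Subgroup G) (hKU : Cfsg.IsSigmaDecomposition M K U) :
    ∀ k ∈ K, k ≠ 1 → U ⊓ Subgroup.centralizer ({k} : Set G) = ⊥ := by
  intro k hk hk1
  have hK1 : K ≠ ⊥ := by
    intro h
    rw [h] at hk
    exact hk1 (Subgroup.mem_bot.mp hk)
  have h30 := (Cfsg.Agent.S1430.result hG M hM K hKU.hall hK1).2.2
  obtain ⟨X, hXk, hXp⟩ := Cfsg.Agent.Helper60.BGAsm.exists_prime_card_le_zpowers hk1
  have hXK : X ≤ K := hXk.trans ((Subgroup.zpowers_le).mpr hk)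
  have h1 := (h30 X hXK hXp).1
  rw [eq_bot_iff]
  intro u hu
  have huU : u ∈ U := hu.1
  have huk : k * u = u * k := (Subgroup.mem_centralizer_iff.mp hu.2) k (Set.mem_singleton k)
  have huN : u ∈ Subgroup.normalizer (X : Set G) :=
    Cfsg.Agent.Helper60.BGAsm.mem_normalizer_of_commute_of_le_zpowers hXk huk.symm
  have huM : u ∈ M := hKU.compl.1 huU
  have h2 : u ∈ M ⊓ Subgroup.normalizer (X : Set G) := ⟨huM, huN⟩
  rw [h1] at h2
  have h3 : K ⊔ (Cfsg.sigmaCore M ⊓ Subgroup.centralizer (K : Set G)) ≤ K ⊔ Cfsg.sigmaCore M :=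
    sup_le_sup_left inf_le_left K
  have h4 : u ∈ U ⊓ (K ⊔ Cfsg.sigmaCore M) := ⟨huU, h3 h2⟩
  rw [hKU.compl.2.2.1] at h4
  exact h4

end Cfsg.Agent.S1353
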