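import Cfsg.Statements.S1446
import Cfsg.Agent.Helper62.FrobActComm

set_option autoImplicit false
open Cfsg

namespace Cfsg.Agent.S1446

/-- Let X be a finite group with subgroups K, R, M such that: K and R are nontrivial, K ∩ R = 1, R normalizes K, no non-identity element of R centralizes a non-identity element of K, K ⊔ R is solvable of odd order; M is nilpotent and nontrivial, normalized by K and by R, with order coprime to that of K ⊔ R, M ∩ C(K) = 1, and M ∩ C(x) = M ∩ C(R) for all non-identity x ∈ R. Then R has prime order p, #M = #(M ∩ C(R)) ^ p, and if M ∩ C(R) is cyclic then [K, K] centralizes M. -/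
theorem result {X : Type*} [Group X] [Finite X] (K R M : Subgroup X) (hK1 : K ≠ ⊥) (hR1 : R ≠ ⊥) (hKR : K ⊓ R = ⊥)
    (hRK : R ≤ Subgroup.normalizer (K : Set X)) (hfrob : ∀ r ∈ R, r ≠ 1 → K ⊓ Subgroup.centralizer ({r} : Set X) = ⊥)
    (hsolv : Group.IsSolvable ↥(K ⊔ R)) (hodd : Odd (Nat.card ↥(K ⊔ R)))
    (hM1 : M ≠ ⊥) (hMn : Group.IsNilpotent M) (hKM : K ≤ Subgroup.normalizer (M : Set X)) (hRM : R ≤ Subgroup.normalizer (M : Set X))
    (hcop : (Nat.card ↥(K ⊔ R)).Coprime (Nat.card M)) (hCK : M ⊓ Subgroup.centralizer (K : Set X) = ⊥)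
    (hpr : ∀ x ∈ R, x ≠ 1 → M ⊓ Subgroup.centralizer ({x} : Set X) = M ⊓ Subgroup.centralizer (R : Set X)) :
    (Nat.card R).Prime ∧ Nat.card M = Nat.card ↥(M ⊓ Subgroup.centralizer (R : Set X)) ^ Nat.card R ∧
      (IsCyclic ↥(M ⊓ Subgroup.centralizer (R : Set X)) → ⁅K, K⁆ ≤ Subgroup.centralizer (M : Set X)) := by
  have hMsolv : Group.IsSolvable M := inferInstance
  -- the Frobenius configuration, for every nontrivial subgroup `R₀ ≤ R`
  have hUn : ∀ R₀ : Subgroup X, R₀ ≤ R → ∀ e ∈ R₀, ∀ u ∈ K, e * u * e⁻¹ ∈ K := by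
    intro R₀ hR₀ e he u hu
    exact (Subgroup.mem_normalizer_iff.mp (hRK (hR₀ he)) u).mp hu
  have hfpf : ∀ R₀ : Subgroup X, R₀ ≤ R → ∀ e ∈ R₀, e ≠ 1 → ∀ u ∈ K, e * u = u * e → u = 1 := by
    intro R₀ hR₀ e he he1 u hu hcomm
    have h1 : u ∈ K ⊓ Subgroup.centralizer ({e} : Set X) := by
      refine Subgroup.mem_inf.mpr ⟨hu, ?_⟩
      rw [Subgroup.mem_centralizer_iff]
      intro x hx
      rw [Set.mem_singleton_iff] at hx
      rw [hx]
      exact hcomm
    rw [hfrob e (hR₀ he) he1, Subgroup.mem_bot] at h1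
    exact h1
  have hSN : K ⊔ R ≤ Subgroup.normalizer (M : Set X) := sup_le hKM hRM
  have hHn : ∀ R₀ : Subgroup X, R₀ ≤ R → ∀ x ∈ K ⊔ R₀, ∀ m ∈ M, x * m * x⁻¹ ∈ M := by
    intro R₀ hR₀ x hx m hm
    exact (Subgroup.mem_normalizer_iff.mp (hSN ((sup_le_sup_left hR₀ K) hx)) m).mp hm
  have hcop₀ : ∀ R₀ : Subgroup X, R₀ ≤ R → Nat.Coprime (Nat.card M) (Nat.card ↥(K ⊔ R₀)) := by
    intro R₀ hR₀
    exact (Nat.Coprime.coprime_dvd_left (Subgroup.card_dvd_of_le (sup_le_sup_left hR₀ K)) hcop).symm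
  -- the formula for `R₀`
  have hform : ∀ R₀ : Subgroup X, R₀ ≤ R → R₀ ≠ ⊥ →
      Nat.card M = Nat.card ↥(M ⊓ Subgroup.centralizer (R : Set X)) ^ Nat.card R₀ := by
    intro R₀ hR₀ hR₀1
    have h := Cfsg.Agent.Helper62.FrobAct.frobenius_fixed_point_formula K R₀ hR₀1 (hUn R₀ hR₀)
      (hfpf R₀ hR₀) _ M rfl (hHn R₀ hR₀) hMsolv (hcop₀ R₀ hR₀)
    have h1 : M ⊓ Subgroup.centralizer ((K ⊔ R₀ : Subgroup X) : Set X) = ⊥ := by
      rw [eq_bot_iff, ← hCK]
      exact inf_le_inf_left _ (Subgroup.centralizer_le (by exact_mod_cast (le_sup_left : K ≤ K ⊔ R₀)))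
    have h2 : M ⊓ Subgroup.centralizer (R₀ : Set X) = M ⊓ Subgroup.centralizer (R : Set X) := by
      apply le_antisymm
      · obtain ⟨x, hx, hx1⟩ : ∃ x ∈ R₀, x ≠ 1 := by
          obtain ⟨y, hy⟩ := (Subgroup.ne_bot_iff_exists_ne_one).mp hR₀1
          exact ⟨(y : X), y.2, fun h => hy (Subtype.ext h)⟩
        rw [← hpr x (hR₀ hx) hx1]
        exact inf_le_inf_left _ (Subgroup.centralizer_le (by
          intro y hy
          rw [Set.mem_singleton_iff] at hy
          rw [hy]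
          exact hx))
      · exact inf_le_inf_left _ (Subgroup.centralizer_le (by exact_mod_cast hR₀))
    rw [h1, hCK, h2] at h
    simpa using h
  have hii := hform R le_rfl hR1
  refine ⟨?_, hii, ?_⟩
  · -- `R` has prime order
    set c := Nat.card ↥(M ⊓ Subgroup.centralizer (R : Set X)) with hc
    have hMcard : 1 < Nat.card M := by
      have h0 : 0 < Nat.card M := Nat.card_pos
      have h1 : Nat.card M ≠ 1 := fun h => hM1 (Subgroup.card_eq_one.mp h)
      omega
    have hc2 : 2 ≤ c := by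
      by_contra hlt
      push Not at hlt
      have hc0 : 0 < c := Nat.card_pos
      have : c = 1 := by omega
      rw [this, one_pow] at hii
      omega
    have hRcard : Nat.card R ≠ 1 := fun h => hR1 (Subgroup.card_eq_one.mp h)
    obtain ⟨p, hp, hpd⟩ := Nat.exists_prime_and_dvd hRcard
    haveI : Fact p.Prime := ⟨hp⟩
    obtain ⟨x, hx⟩ := exists_prime_orderOf_dvd_card' (G := ↥R) p hpd
    have hx' : orderOf (x : X) = p := by rw [Subgroup.orderOf_coe]; exact hx
    set R₀ : Subgroup X := Subgroup.zpowers (x : X) with hR₀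
    have hR₀R : R₀ ≤ R := by
      rw [hR₀, Subgroup.zpowers_le]
      exact x.2
    have hR₀card : Nat.card R₀ = p := by rw [hR₀, Nat.card_zpowers, hx']
    have hR₀1 : R₀ ≠ ⊥ := by
      intro h
      rw [h, Subgroup.card_bot] at hR₀card
      exact hp.one_lt.ne hR₀card
    have h3 := hform R₀ hR₀R hR₀1
    rw [hii, hR₀card] at h3
    have := Nat.pow_right_injective hc2 h3
    rw [this]
    exact hp
  · intro hcyc
    have hcop' : Nat.Coprime (Nat.card M) (Nat.card ↥(K ⊔ R)) := hcop.symm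
    exact Cfsg.Agent.Helper62.FrobAct.frobenius_commutator_centralizes K R hR1 (hUn R le_rfl)
      (hfpf R le_rfl) _ M rfl (hHn R le_rfl) hMsolv hcop' hcyc

end Cfsg.Agent.S1446
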