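-- Statement S1377 (B-G Lemma 14.5: the count of the union of the conjugates of the cosets x R(x)).
-- CONDITIONAL assembly (helper57): derived from the statements S1374, S1375, S1378
-- (B-G Theorem 14.4 and the σ-partition) through Helper57/BG145A and helper31's TildeCount.
import Cfsg.Statements.S1377
import Cfsg.Agent.S1374
import Cfsg.Agent.S1375
import Cfsg.Agent.S1378
import Cfsg.Agent.S1403
import Cfsg.Agent.Helper57.BG145A

set_option autoImplicit false
open Cfsg

namespace Cfsg.Agent.S1377

/-- Let G be a minimal simple group of odd order and M a maximal subgroup. For x ≠ 1 in M_σ let R(x) = 1 if C_G(x) ≤ M and otherwise R(x) = C_{N_F}(x) for the unique maximal subgroup N containing C_G(x). Then the union over G-conjugates of the cosets x R(x) has cardinality (#M_σ − 1) times the index of M. -/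
theorem result {G : Type*} [Group G] [Finite G] (hG : Cfsg.IsMinSimpleOddOrder G)
    (M : Subgroup G) (hM : IsCoatom M) :
    Set.ncard (Cfsg.tildeOf M ((Cfsg.sigmaCore M : Set G) \ {1})) = (Nat.card (Cfsg.sigmaCore M) - 1) * M.index := by
  have hU : Cfsg.Agent.Helper29.BG10.UniquenessThm G :=
    fun K hK hK2 hK3 => Cfsg.Agent.S1403.result hG K hK hK2 hK3
  exact Cfsg.Agent.Helper57.BG145.s1377 hG hU
    (Cfsg.Agent.Helper57.BG145.hTrans_of
      (fun M hM x hx hx1 => Cfsg.Agent.S1374.result hG M hM x hx hx1))
    (Cfsg.Agent.Helper57.BG145.hData_of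
      (fun M hM x hx hx1 hxM => Cfsg.Agent.S1375.result hG M hM x hx hx1 hxM))
    (Cfsg.Agent.Helper57.BG145.hPart_of (Cfsg.Agent.S1378.result hG).2)
    M hM

end Cfsg.Agent.S1377
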