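-- Statement S1437 (B-G Corollary 15.3: structure of `M_σ` when `M_F ≠ M_σ`), helper35.
-- CONDITIONAL on S1351, S1366, S1369, S1430 (not yet on main when this was written) and on
-- S1350, S1414, S1426, S1429.  The abstract core is `Cfsg.Agent.Helper35.BG153.core_sub`
-- (Helper35/BG153A-I, unconditional).
import Cfsg.Statements.S1437
import Cfsg.Agent.S1350
import Cfsg.Agent.S1351
import Cfsg.Agent.S1366
import Cfsg.Agent.S1369
import Cfsg.Agent.S1414
import Cfsg.Agent.S1426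
import Cfsg.Agent.S1429
import Cfsg.Agent.S1430
import Cfsg.Agent.Helper60.BGAsmC
import Cfsg.Agent.Helper60.BGAsmE
import Cfsg.Agent.Helper35.BG153I

set_option autoImplicit false
set_option linter.style.haveILetI false
open Cfsg

namespace Cfsg.Agent.S1437

open Cfsg.Agent.Helper60.BGAsm Cfsg.Agent.Helper35.BG153

/-- `|K*|` is prime when `U = 1` (via the partner `M*` of S1366, which is not of type `P₁` by S1369,
the fixed-point formula for the Frobenius-like group `U* K*` acting on `M*_σ`, and S1429 for `M*`). -/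
theorem kstar_card_prime {G : Type*} [Group G] [Finite G] (hG : Cfsg.IsMinSimpleOddOrder G)
    (M : Subgroup G) (hM : IsCoatom M) (K U : Subgroup G) (hKU : Cfsg.IsSigmaDecomposition M K U)
    (hK1 : K ≠ ⊥) (hU : U = ⊥) :
    (Nat.card ↥(Cfsg.sigmaCore M ⊓ Subgroup.centralizer (K : Set G))).Prime := by
  have hK := hKU.hall
  obtain ⟨Mstar, ⟨hMstar, hKst, hKstH⟩, -⟩ := Cfsg.Agent.S1366.result hG M hM K U hKU hK1
  have hKs1 : Cfsg.sigmaCore M ⊓ Subgroup.centralizer (K : Set G) ≠ ⊥ := kstar_ne_bot hG hM hK hK1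
  have hKsc : IsCyclic ↥(Cfsg.sigmaCore M ⊓ Subgroup.centralizer (K : Set G)) :=
    (Cfsg.Agent.S1351.result hG Mstar hMstar).2 _ hKstH
  have h69 := (Cfsg.Agent.S1369.result hG M hM K U hKU hK1 Mstar hMstar hKst hKstH).1
  obtain ⟨hact, ⟨U₀, -, hU₀H, hKsU₀, hU₀fpf⟩, -⟩ :=
    Cfsg.Agent.S1430.result hG Mstar hMstar _ hKstH hKs1
  have h50s := (Cfsg.Agent.S1350.result hG Mstar hMstar).1
  obtain ⟨Ks, hKs⟩ : ∃ Ks : Subgroup G, Ks = Cfsg.sigmaCore M ⊓ Subgroup.centralizer (K : Set G) :=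
    ⟨_, rfl⟩
  have hKst' : K = Cfsg.sigmaCore Mstar ⊓ Subgroup.centralizer
      ((Cfsg.sigmaCore M ⊓ Subgroup.centralizer (K : Set G) : Subgroup G) : Set G) := hKst
  rw [← hKs] at hKs1 hKsc h69 hact hKsU₀ hU₀fpf hKstH hKst' ⊢
  have hdec : Cfsg.IsSigmaDecomposition Mstar Ks U₀ :=
    isSigmaDecomposition_of_hall hG hMstar hKsc hKstH hU₀H hKsU₀
  have hU₀1 : U₀ ≠ ⊥ := (h69.resolve_left (not_not.mpr hU)) U₀ hdec
  have hc1 : Nat.card U₀ ≠ 1 := fun h => hU₀1 (Subgroup.card_eq_one.mp h)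
  obtain ⟨r, hr, hrU⟩ := Nat.exists_prime_and_dvd hc1
  haveI : Fact r.Prime := ⟨hr⟩
  have hrκσ := hU₀H.2.1 r hr hrU
  have hrM : r ∣ Nat.card Mstar := hrU.trans (Subgroup.card_dvd_of_le hU₀H.1)
  have hP1 : ¬ (∀ q : ℕ, q.Prime → q ∣ Nat.card Mstar → q ∉ Cfsg.sigma Mstar →
      q ∈ Cfsg.kappa Mstar) := fun h => hrκσ.2.1 (h r hr hrM hrκσ.2.2)
  have hidx : ¬ r ∣ (U₀.subgroupOf Mstar).index := hU₀H.2.2 r hr hrκσ
  obtain ⟨S, hS⟩ := exists_sylow_le_of_not_dvd_index (U₀.subgroupOf Mstar) hidx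
  have h29 := (Cfsg.Agent.S1429.result hG Mstar hMstar hP1 r hrM
    (by rintro (h | h); exacts [hrκσ.2.2 h, hrκσ.2.1 h]) S).2.1
  have hcl : Subgroup.closure {x : G | x ∈ (S : Subgroup Mstar).map Mstar.subtype ∧ x ^ r = 1}
      ≤ U₀ := by
    rw [Subgroup.closure_le]
    rintro x ⟨⟨y, hy, rfl⟩, -⟩
    exact Subgroup.mem_subgroupOf.mp (hS hy)
  have hKC : ¬ (Cfsg.sigmaCore Mstar ⊓ Subgroup.centralizer (Ks : Set G)) ≤
      Subgroup.centralizer (U₀ : Set G) := by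
    intro hle
    rw [← hKst'] at hle
    have h1 : K ≤ Cfsg.sigmaCore Mstar ⊓ Subgroup.centralizer ((Subgroup.closure
        {x : G | x ∈ (S : Subgroup Mstar).map Mstar.subtype ∧ x ^ r = 1} : Subgroup G) : Set G) := by
      refine le_inf ?_ (hle.trans (Subgroup.centralizer_le (by exact_mod_cast hcl)))
      rw [hKst']; exact inf_le_left
    rw [h29] at h1
    exact hK1 (le_bot_iff.mp h1)
  apply card_prime_of_fpf U₀ Ks (Cfsg.sigmaCore Mstar) hKs1
  · intro e he u hu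
    exact (Subgroup.mem_normalizer_iff.mp (hKsU₀ he) u).mp hu
  · intro e he he1 u hu hc
    have h1 : u ∈ U₀ ⊓ Subgroup.centralizer ({e} : Set G) := by
      refine Subgroup.mem_inf.mpr ⟨hu, ?_⟩
      rw [Subgroup.mem_centralizer_iff]
      intro y hy
      rw [Set.mem_singleton_iff] at hy
      rw [hy]; exact hc
    rw [hU₀fpf e he he1] at h1
    exact Subgroup.mem_bot.mp h1
  · intro x hx h hh
    have hxM : x ∈ Mstar := (sup_le hU₀H.1 hKstH.1) hx
    exact (Subgroup.mem_normalizer_iff.mp (le_normalizer_sigmaCore Mstar hxM) h).mp hh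
  · exact isSolvable_of_le' (sigmaCore_le' Mstar) (hG.2.2.2 Mstar hMstar.1)
  · apply Nat.coprime_of_dvd
    intro q hq hq1 hq2
    have hqσ : q ∈ Cfsg.sigma Mstar := h50s.2.1 q hq hq1
    have h3 : Nat.card ↥(U₀ ⊔ Ks) = Nat.card ↥(Ks ⊔ U₀) := by rw [sup_comm]
    rw [h3] at hq2
    have h2 := hq2.trans (Cfsg.Agent.Helper22.card_sup_dvd_of_le_normalizer Ks U₀ hKsU₀)
    rcases (Nat.Prime.dvd_mul hq).mp h2 with h4 | h4
    · exact (hKstH.2.1 q hq h4).2.2.1 hqσ
    · exact (hU₀H.2.1 q hq h4).2.2 hqσ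
  · exact hact
  · exact hKC


/-- Let G be a minimal simple group of odd order and M a maximal subgroup with standard factorisation M = K U M_σ such that M_F ≠ M_σ; put K* = M_σ ∩ C_G(K), p = #K, q = #K*. Then U = 1 and M_σ = M'; p and q are prime, q divides #M_F and q ∈ β(M); M_σ has a Sylow q-subgroup Q normal in M and contained in M_F; every complement D of Q in M_σ is nilpotent, and Q₀ = Q ∩ C_G(D) is normal in M; Q₀ < Q with #Q = #Q₀ · q ^ p, every element of Q has its q-th power and all its commutators with Q in Q₀, and every subgroup strictly between Q₀ and Q fails to be normal in M. -/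
theorem result {G : Type*} [Group G] [Finite G] (hG : Cfsg.IsMinSimpleOddOrder G)
    (M : Subgroup G) (hM : IsCoatom M) (K U : Subgroup G) (hKU : Cfsg.IsSigmaDecomposition M K U) (hne : Cfsg.fittingHallOf M ≠ Cfsg.sigmaCore M) :
    U = ⊥ ∧ Cfsg.sigmaCore M = ⁅M, M⁆ ∧ (Nat.card K).Prime ∧ (Nat.card ↥(Cfsg.sigmaCore M ⊓ Subgroup.centralizer (K : Set G))).Prime ∧
      Nat.card ↥(Cfsg.sigmaCore M ⊓ Subgroup.centralizer (K : Set G)) ∣ Nat.card (Cfsg.fittingHallOf M) ∧ Nat.card ↥(Cfsg.sigmaCore M ⊓ Subgroup.centralizer (K : Set G)) ∈ Cfsg.beta M ∧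
      ∃ Q : Subgroup G, Q ≤ Cfsg.fittingHallOf M ∧ M ≤ Subgroup.normalizer (Q : Set G) ∧ IsPGroup (Nat.card ↥(Cfsg.sigmaCore M ⊓ Subgroup.centralizer (K : Set G))) Q ∧
        ¬ Nat.card ↥(Cfsg.sigmaCore M ⊓ Subgroup.centralizer (K : Set G)) ∣ Q.relIndex (Cfsg.sigmaCore M) ∧
        ∀ D : Subgroup G, Cfsg.IsComplIn Q D (Cfsg.sigmaCore M) →
          Group.IsNilpotent D ∧ M ≤ Subgroup.normalizer ((Q ⊓ Subgroup.centralizer (D : Set G) : Subgroup G) : Set G) ∧
          Q ⊓ Subgroup.centralizer (D : Set G) < Q ∧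
          Nat.card Q = Nat.card ↥(Q ⊓ Subgroup.centralizer (D : Set G)) * Nat.card ↥(Cfsg.sigmaCore M ⊓ Subgroup.centralizer (K : Set G)) ^ Nat.card K ∧
          (∀ a ∈ Q, ∀ b ∈ Q, a ^ Nat.card ↥(Cfsg.sigmaCore M ⊓ Subgroup.centralizer (K : Set G)) ∈ Q ⊓ Subgroup.centralizer (D : Set G) ∧
            a * b * a⁻¹ * b⁻¹ ∈ Q ⊓ Subgroup.centralizer (D : Set G)) ∧
          ∀ N : Subgroup G, Q ⊓ Subgroup.centralizer (D : Set G) < N → N < Q → ¬ M ≤ Subgroup.normalizer (N : Set G) := by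
  have hK := hKU.hall
  have h50 := (Cfsg.Agent.S1350.result hG M hM).1
  have hsolvM : Group.IsSolvable ↥M := hG.2.2.2 M hM.1
  have hMsM : Cfsg.sigmaCore M ≤ M := sigmaCore_le' M
  -- `M_σ` is not nilpotent
  have hnil : ¬ Group.IsNilpotent ↥(Cfsg.sigmaCore M) := fun h =>
    hne (fittingHallOf_eq_sigmaCore_of_isNilpotent hG hM h)
  -- `M` is of type `P₁`
  have hP1 : ∀ q : ℕ, q.Prime → q ∣ Nat.card M → q ∉ Cfsg.sigma M → q ∈ Cfsg.kappa M := by
    by_contra hcon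
    have hcon2 := hcon
    push Not at hcon2
    obtain ⟨q, hq, hqM, hqσ, hqκ⟩ := hcon2
    haveI : Fact q.Prime := ⟨hq⟩
    obtain ⟨S⟩ : Nonempty (Sylow q ↥M) := inferInstance
    exact hnil (Cfsg.Agent.S1429.result hG M hM hcon q hqM
      (by rintro (h | h); exacts [hqσ h, hqκ h]) S).2.2
  -- `U = 1`
  have hU : U = ⊥ := by
    rw [← Subgroup.card_eq_one]
    by_contra hc1
    obtain ⟨q, hq, hqU⟩ := Nat.exists_prime_and_dvd hc1
    have h1 := not_mem_of_dvd_card_U' hG hM hKU hq hqU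
    exact h1.1 (hP1 q hq (hqU.trans (Subgroup.card_dvd_of_le hKU.compl.1)) h1.2)
  obtain ⟨hE, hsup⟩ := isComplIn_of_U_eq_bot hG hM hKU hU
  have hcomm : ⁅Cfsg.sigmaCore M, K⁆ = Cfsg.sigmaCore M := (Cfsg.Agent.S1426.result hG M hM K hE).2.1
  -- `K ≠ 1`
  have hK1 : K ≠ ⊥ := by
    intro hKb
    apply hnil
    have h1 : Cfsg.sigmaCore M = ⊥ := by
      rw [← hcomm, hKb, Subgroup.commutator_bot_right]
    rw [h1]
    infer_instance
  have hact := (Cfsg.Agent.S1430.result hG M hM K hK hK1).1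
  have hq := kstar_card_prime hG M hM K U hKU hK1 hU
  have hcopLK : (Nat.card (Cfsg.sigmaCore M)).Coprime (Nat.card K) := by
    apply Nat.coprime_of_dvd
    intro p hp h1 h2
    exact (hK.2.1 p hp h2).2.2.1 (h50.2.1 p hp h1)
  have hodd : Odd (Nat.card ↥M) := hG.1.of_dvd_nat (Subgroup.card_subgroup_dvd_card M)
  obtain ⟨hKp, Q, hQL, hQn, hQp, hQidx, hCQ, hD⟩ := core_sub hsolvM hodd hMsM hK.1
    (le_normalizer_sigmaCore M) hsup hcopLK hK1 hact hq rfl hcomm hnil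
  haveI : Fact (Nat.card ↥(Cfsg.sigmaCore M ⊓ Subgroup.centralizer (K : Set G))).Prime := ⟨hq⟩
  have hQM : Q ≤ M := hQL.trans hMsM
  have hqMs : Nat.card ↥(Cfsg.sigmaCore M ⊓ Subgroup.centralizer (K : Set G)) ∣
      Nat.card (Cfsg.sigmaCore M) := Subgroup.card_dvd_of_le inf_le_left
  have hqσ : Nat.card ↥(Cfsg.sigmaCore M ⊓ Subgroup.centralizer (K : Set G)) ∈ Cfsg.sigma M :=
    h50.2.1 _ hq hqMs
  -- `Q ≤ M_F`
  have hQF : Q ≤ Cfsg.fittingHallOf M := by
    haveI hQ'n : (Q.subgroupOf M).Normal := Subgroup.normal_subgroupOf_of_le_normalizer hQn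
    have hQ'p : IsPGroup (Nat.card ↥(Cfsg.sigmaCore M ⊓ Subgroup.centralizer (K : Set G)))
        ↥(Q.subgroupOf M) := hQp.of_equiv (Subgroup.subgroupOfEquivOfLe hQM).symm
    have hidx : ¬ Nat.card ↥(Cfsg.sigmaCore M ⊓ Subgroup.centralizer (K : Set G)) ∣
        (Q.subgroupOf M).index := by
      change ¬ _ ∣ Q.relIndex M
      rw [← Subgroup.relIndex_mul_relIndex Q _ M hQL hMsM]
      intro hd
      rcases (Nat.Prime.dvd_mul hq).mp hd with h1 | h1
      · exact hQidx h1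
      · exact h50.2.2 _ hq hqσ h1
    have hcop : (Nat.card ↥(Q.subgroupOf M)).Coprime (Q.subgroupOf M).index := by
      obtain ⟨n, hn⟩ := hQ'p.exists_card_eq
      rw [hn]
      exact Nat.Coprime.pow_left n ((Nat.Prime.coprime_iff_not_dvd hq).mpr hidx)
    have h1 : Q.subgroupOf M ≤ Cfsg.fittingHall ↥M :=
      Cfsg.Agent.Helper23.le_fittingHall hQ'n hQ'p.isNilpotent hcop
    have h2 := Subgroup.map_mono (f := M.subtype) h1
    rwa [Subgroup.map_subgroupOf_eq_of_le hQM] at h2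
  refine ⟨hU, ?_, hKp, hq, ?_, ?_, Q, hQF, hQn, hQp, hQidx, ?_⟩
  · -- `M_σ = M'`
    apply le_antisymm
    · calc Cfsg.sigmaCore M = ⁅Cfsg.sigmaCore M, K⁆ := hcomm.symm
        _ ≤ ⁅M, M⁆ := Subgroup.commutator_mono hMsM hK.1
    · rw [Subgroup.commutator_le]
      intro a ha b hb
      have hKσ : K ≤ Subgroup.normalizer ((Cfsg.sigmaCore M : Subgroup G) : Set G) :=
        hK.1.trans (le_normalizer_sigmaCore M)
      have hsup' : K ⊔ Cfsg.sigmaCore M = M := by rw [sup_comm]; exact hsup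
      have hab : ∀ x ∈ K, ∀ y ∈ K, x * y = y * x := by
        intro x hx y hy
        haveI := hKU.cyclic
        letI := IsCyclic.commGroup (α := ↥K)
        exact congrArg Subtype.val (mul_comm (⟨x, hx⟩ : ↥K) ⟨y, hy⟩)
      have := commutator_mem_of_commute_sup hab hKσ (x := a) (y := b)
        (by rw [hsup']; exact ha) (by rw [hsup']; exact hb)
      rwa [commutatorElement_def]
  · -- `q ∣ |M_F|`
    exact (Subgroup.card_dvd_of_le hCQ).trans (Subgroup.card_dvd_of_le hQF)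
  · -- `q ∈ β(M)`
    by_contra hqβ
    have hqM : Nat.card ↥(Cfsg.sigmaCore M ⊓ Subgroup.centralizer (K : Set G)) ∣ Nat.card M :=
      hqMs.trans (Subgroup.card_dvd_of_le hMsM)
    obtain ⟨P, N, hNn, hNP⟩ := ((Cfsg.Agent.S1414.result hG M hM).2.2.2.2 _ hq hqM hqβ).2.1
    haveI hQ'n : (Q.subgroupOf (Cfsg.sigmaCore M)).Normal :=
      Subgroup.normal_subgroupOf_of_le_normalizer (hMsM.trans hQn)
    have hQ'p : IsPGroup (Nat.card ↥(Cfsg.sigmaCore M ⊓ Subgroup.centralizer (K : Set G)))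
        ↥(Q.subgroupOf (Cfsg.sigmaCore M)) := hQp.of_equiv (Subgroup.subgroupOfEquivOfLe hQL).symm
    have hidx : ¬ Nat.card ↥(Cfsg.sigmaCore M ⊓ Subgroup.centralizer (K : Set G)) ∣
        (Q.subgroupOf (Cfsg.sigmaCore M)).index := hQidx
    have hPQ : P = hQ'p.toSylow hidx := by
      haveI := Sylow.unique_of_normal (hQ'p.toSylow hidx)
        (by rw [IsPGroup.toSylow_coe]; exact hQ'n)
      exact Subsingleton.elim _ _
    have hNQ : N.IsComplement' (Q.subgroupOf (Cfsg.sigmaCore M)) := by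
      rw [hPQ, IsPGroup.toSylow_coe] at hNP
      exact hNP
    have hcompl := isComplIn_of_isComplement' _ _ hNQ.symm
    rw [Subgroup.map_subgroupOf_eq_of_le hQL] at hcompl
    have hlt := (hD _ hcompl).2.2.1
    have hle : Q ≤ Subgroup.centralizer ((N.map (Cfsg.sigmaCore M).subtype : Subgroup G) : Set G) := by
      intro a ha
      rw [Subgroup.mem_centralizer_iff]
      rintro _ ⟨d, hd, rfl⟩
      have hc := Subgroup.commute_of_normal_of_disjoint _ _ hQ'n hNn hNQ.symm.disjoint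
        (⟨a, hQL ha⟩ : ↥(Cfsg.sigmaCore M)) d (Subgroup.mem_subgroupOf.mpr ha) hd
      exact (congrArg Subtype.val hc.eq).symm
    rw [inf_eq_left.mpr hle] at hlt
    exact lt_irrefl _ hlt
  · intro D hDc
    obtain ⟨d1, d2, d3, d4, d5, d6, -⟩ := hD D hDc
    exact ⟨d1, d2, d3, d4, d5, d6⟩

end Cfsg.Agent.S1437
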