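import Cfsg.Statements.S0779
import Cfsg.Agent.Helper13.Herm

set_option autoImplicit false
open Cfsg

namespace Cfsg.Agent.S0779

open Cfsg.Agent.Helper13 in
/-- Unitary transvections: let |F| = q², h the standard Hermitian form Σ x_i y_i^q and v ≠ 0 with h(v, v) = 0. The linear map x ↦ x + c h(x,v) v is an isometry of h if and only if c = 0 or c^(q−1) = −1. -/
theorem result {F : Type*} [Field F] [Fintype F] {q : ℕ} (hF : Fintype.card F = q ^ 2) (n : ℕ) (v : Fin n → F) (hv : v ≠ 0) (hv0 : Cfsg.hermForm n F q v v = 0) (c : F) : (∀ x y : Fin n → F, Cfsg.hermForm n F q ((Cfsg.unitaryTransvection n q v c).mulVec x) ((Cfsg.unitaryTransvection n q v c).mulVec y) = Cfsg.hermForm n F q x y) ↔ (c = 0 ∨ c ^ (q - 1) = -1) := by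
  have hq : 2 ≤ q := two_le_of_card_eq_sq hF
  have key : (c ^ q + c = 0) ↔ (c = 0 ∨ c ^ (q - 1) = -1) := by
    have hpow : c ^ q = c ^ (q - 1) * c := by
      rw [← pow_succ, show q - 1 + 1 = q by omega]
    constructor
    · intro h
      by_cases hc : c = 0
      · exact Or.inl hc
      · right
        rw [hpow] at h
        have : (c ^ (q - 1) + 1) * c = 0 := by linear_combination h
        rcases mul_eq_zero.mp this with h1 | h1
        · exact eq_neg_of_add_eq_zero_left h1
        · exact absurd h1 hc
    · rintro (rfl | h)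
      · rw [zero_pow (by omega), add_zero]
      · rw [hpow, h]; ring
  rw [← key]
  constructor
  · intro h
    obtain ⟨i, hi⟩ := Function.ne_iff.mp hv
    have h1 := h (Pi.single i 1) (Pi.single i 1)
    rw [hermForm_unitaryTransvection hF v hv0, hermForm_single_left (y := v),
      hermForm_single_right hF i v] at h1
    have h2 : (c ^ q + c) * (v i ^ q * v i) = 0 := by
      linear_combination h1
    rcases mul_eq_zero.mp h2 with h3 | h3
    · exact h3
    · exfalso
      have hvi : v i ≠ 0 := hi
      exact mul_ne_zero (pow_ne_zero _ hvi) hvi h3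
  · intro h x y
    rw [hermForm_unitaryTransvection hF v hv0, h, zero_mul, add_zero]

end Cfsg.Agent.S0779
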