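import Mathlib
import Cfsg.Prelude.Def_Local
import Cfsg.Agent.Helper22.PComponent2

set_option autoImplicit false

namespace Cfsg.Agent.S1273

open Cfsg Cfsg.Agent.Helper22

variable {G : Type*} [Group G]

/-- A subnormal subgroup `H` of a `p`-component `K` containing all `p`-elements of `K` is `K`. -/
theorem eq_of_forall_pElement_mem [Finite G] {p : ℕ} [Fact p.Prime] {K : Subgroup G}
    (hK : IsPComponent p K) {H : Subgroup G} (hH : H.IsSubnormal) (hHK : H ≤ K)
    (hpel : ∀ x ∈ K, (∃ a : ℕ, x ^ p ^ a = 1) → x ∈ H) : H = K := by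
  set π := QuotientGroup.mk' (pPrimeCore p G) with hπ
  rcases IsPComponent.map_eq_or_le_centralizer hK hH hHK with h | h
  · exact IsPComponent.eq_of_map_eq hK hH hHK h
  · exfalso
    have hq := (IsPComponent.isComponent_map hK).2
    have hfin : Finite ↥(K.map π) := inferInstance
    obtain ⟨⟨ybar, hybar⟩, ⟨a, hya⟩, hnc⟩ := exists_pElement_not_mem_center p hq.1
      (dvd_card_of_isComponent_quotient p (IsPComponent.isComponent_map hK))
    apply hnc
    obtain ⟨k, hkK, hky⟩ := hybar
    have hya' : ybar ^ p ^ a = 1 := by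
      have := congrArg Subtype.val hya
      simpa using this
    have hn0 : orderOf k ≠ 0 := (orderOf_pos k).ne'
    obtain ⟨e, m, hpm, hnm⟩ := Nat.exists_eq_pow_mul_and_not_dvd hn0 p (Fact.out : p.Prime).ne_one
    have hxK : k ^ m ∈ K := K.pow_mem hkK m
    have hxp : ∃ a : ℕ, (k ^ m) ^ p ^ a = 1 := by
      refine ⟨e, ?_⟩
      rw [← pow_mul, mul_comm, ← hnm]
      exact pow_orderOf_eq_one k
    have hxN := hpel _ hxK hxp
    have hcent : π (k ^ m) ∈ Subgroup.centralizer ((K.map π : Subgroup _) : Set _) :=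
      h (Subgroup.mem_map_of_mem π hxN)
    have hcop : m.Coprime (orderOf ybar) := by
      have h1 : orderOf ybar ∣ p ^ a := orderOf_dvd_of_pow_eq_one hya'
      have h2 : m.Coprime (p ^ a) :=
        Nat.Coprime.pow_right a (coprime_card_of_not_dvd hpm)
      exact Nat.Coprime.coprime_dvd_right h1 h2
    obtain ⟨j, hj⟩ := exists_pow_eq_self_of_coprime hcop
    have hyc : ybar ∈ Subgroup.centralizer ((K.map π : Subgroup _) : Set _) := by
      rw [← hj, ← hky, ← map_pow]
      exact Subgroup.pow_mem _ hcent j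
    rw [Subgroup.mem_center_iff]
    intro g
    apply Subtype.ext
    exact Subgroup.mem_centralizer_iff.mp hyc g g.2

theorem result {X : Type*} [Group X] [Finite X] (p : ℕ) [Fact p.Prime] (K : Subgroup X) (hK : Cfsg.IsPComponent p K) (N : Subgroup ↥K) [N.Normal] (hidx : (N.index).Coprime p) : N = ⊤ := by
  have hle : N.map K.subtype ≤ K := by
    rintro _ ⟨y, _, rfl⟩
    exact y.2
  have hso : (N.map K.subtype).subgroupOf K = N := by
    ext y
    rw [Subgroup.mem_subgroupOf]
    constructor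
    · rintro ⟨z, hz, hzy⟩
      have : z = y := Subtype.ext hzy
      exact this ▸ hz
    · intro hy
      exact ⟨y, hy, rfl⟩
  have hsn : (N.map K.subtype).IsSubnormal := by
    refine Subgroup.IsSubnormal.step _ K hle hK.1 ?_
    rw [hso]
    infer_instance
  have hpel : ∀ x ∈ K, (∃ a : ℕ, x ^ p ^ a = 1) → x ∈ N.map K.subtype := by
    intro x hx ⟨a, ha⟩
    refine ⟨⟨x, hx⟩, ?_, rfl⟩
    have h1 : orderOf ((QuotientGroup.mk' N) ⟨x, hx⟩) ∣ p ^ a := by
      apply orderOf_dvd_of_pow_eq_one
      rw [← map_pow]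
      have : (⟨x, hx⟩ : ↥K) ^ p ^ a = 1 := Subtype.ext (by simpa using ha)
      rw [this, map_one]
    have h2 : orderOf ((QuotientGroup.mk' N) ⟨x, hx⟩) ∣ N.index := by
      rw [Subgroup.index_eq_card]
      exact orderOf_dvd_natCard _
    have h3 : orderOf ((QuotientGroup.mk' N) ⟨x, hx⟩) = 1 :=
      Nat.eq_one_of_dvd_coprimes (Nat.Coprime.pow_right a hidx) h2 h1
    rw [orderOf_eq_one_iff, QuotientGroup.mk'_apply, QuotientGroup.eq_one_iff] at h3
    exact h3
  have heq := eq_of_forall_pElement_mem hK hsn hle hpel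
  rw [← hso, heq]
  exact Subgroup.subgroupOf_self K

end Cfsg.Agent.S1273
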