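import Mathlib
import Cfsg.Statements.S4117
import Cfsg.Agent.Helper62.CoprimeZ
-- import your own Cfsg.Agent.* helpers here

set_option autoImplicit false
open Cfsg

namespace Cfsg.Agent.S4117

/-- Let A be a finite group acting on the finite group G by automorphisms with the orders of A and G coprime, and suppose every Sylow subgroup of G is cyclic. Then the fixed-point subgroup C_G(A) is a Hall subgroup of G (its order is coprime to its index), the subgroup [G, A] generated by the elements g⁻¹·a(g) is cyclic and normal with [G, A] ∩ C_G(A) = 1 and [G, A]·C_G(A) = G. -/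
theorem result {G A : Type*} [Group G] [Finite G] [Group A] [Finite A]
    [MulDistribMulAction A G] (hcop : (Nat.card A).Coprime (Nat.card G))
    (hcyc : ∀ (p : ℕ) [Fact p.Prime] (P : Sylow p G), IsCyclic (P : Subgroup G)) :
    (Nat.card (MulAction.fixedPoints A G : Set G)).Coprime (Nat.card G / Nat.card (MulAction.fixedPoints A G : Set G)) ∧
    IsCyclic (Subgroup.closure {y : G | ∃ (a : A) (g : G), y = g⁻¹ * a • g}) ∧
    (Subgroup.closure {y : G | ∃ (a : A) (g : G), y = g⁻¹ * a • g}).Normal ∧
    (Subgroup.closure {y : G | ∃ (a : A) (g : G), y = g⁻¹ * a • g} : Set G) ∩ MulAction.fixedPoints A G = {1} ∧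
    Subgroup.closure {y : G | ∃ (a : A) (g : G), y = g⁻¹ * a • g} ⊔ Subgroup.closure (MulAction.fixedPoints A G) = ⊤ := by
  classical
  haveI hZ : IsZGroup G := ⟨fun p hp P => by
    haveI : Fact p.Prime := ⟨hp⟩
    exact hcyc p P⟩
  have hN : Subgroup.closure {y : G | ∃ (a : A) (g : G), y = g⁻¹ * a • g} =
      Cfsg.Agent.Helper62.commAct G A := rfl
  rw [hN]
  -- the fixed points as a subgroup
  have hCset : (MulAction.fixedPoints A G : Set G) = ((FixedPoints.subgroup A G : Subgroup G) : Set G) := rfl
  have hCcl : Subgroup.closure (MulAction.fixedPoints A G) = FixedPoints.subgroup A G := by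
    rw [hCset, Subgroup.closure_eq]
  have hinter : ∀ x : G, x ∈ Cfsg.Agent.Helper62.commAct G A → x ∈ FixedPoints.subgroup A G → x = 1 :=
    fun x hxN hxC => Cfsg.Agent.Helper62.eq_one_of_mem_commAct_of_fixed hcop hxN
      (fun a => (FixedPoints.mem_subgroup A (α := G) x).mp hxC a)
  have hsup : Cfsg.Agent.Helper62.commAct G A ⊔ FixedPoints.subgroup A G = ⊤ := by
    rw [eq_top_iff]
    intro g _
    obtain ⟨m, hm, hfix⟩ := Cfsg.Agent.Helper62.exists_mul_mem_fixed hcop g
    have hgm : g * m ∈ FixedPoints.subgroup A G :=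
      (FixedPoints.mem_subgroup A (α := G) _).mpr hfix
    have : g = (g * m) * m⁻¹ := by group
    rw [this]
    exact Subgroup.mul_mem _ (Subgroup.mem_sup_right hgm)
      (Subgroup.mem_sup_left (Subgroup.inv_mem _ hm))
  have hcompl : Subgroup.IsComplement' (Cfsg.Agent.Helper62.commAct G A) (FixedPoints.subgroup A G) := by
    apply Subgroup.isComplement'_of_disjoint_and_mul_eq_univ
    · rw [Subgroup.disjoint_def]
      exact fun hxN hxC => hinter _ hxN hxC
    · rw [← Subgroup.normal_mul, hsup]; rfl
  have hcard : Nat.card (Cfsg.Agent.Helper62.commAct G A) * Nat.card (FixedPoints.subgroup A G) =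
      Nat.card G := hcompl.card_mul
  refine ⟨?_, Cfsg.Agent.Helper62.isCyclic_commAct, inferInstance, ?_, ?_⟩
  · have h1 : Nat.card (MulAction.fixedPoints A G : Set G) = Nat.card (FixedPoints.subgroup A G) := rfl
    rw [h1, ← hcard, Nat.mul_div_cancel _ Nat.card_pos]
    exact Cfsg.Agent.Helper62.coprime_card_fixed_commAct hcop
  · ext x
    simp only [Set.mem_inter_iff, SetLike.mem_coe, Set.mem_singleton_iff]
    constructor
    · rintro ⟨hxN, hxC⟩
      exact hinter x hxN hxC
    · rintro rfl
      exact ⟨Subgroup.one_mem _, (FixedPoints.subgroup A G).one_mem⟩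
  · rw [hCcl]; exact hsup

end Cfsg.Agent.S4117
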