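import Cfsg.Statements.S1470
import Cfsg.Agent.Helper75.NormField

set_option autoImplicit false
open Cfsg

namespace Cfsg.Agent.S1470

/-- Let p and q be odd primes with (p^q − 1)/(p − 1) coprime to p − 1, and let E be the set of elements a of the field with p ^ q elements whose norm to the prime field is 1 and for which 2 − a also has norm 1. If a⁻¹ ∈ E for every a ∈ E and E has at least two elements, then p ≤ q. -/
theorem result (p q : ℕ) [Fact p.Prime] [Fact q.Prime] (hp : p ≠ 2) (hq : q ≠ 2) (hA : Nat.Coprime ((p ^ q - 1) / (p - 1)) (p - 1))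
    (hinv : ∀ a ∈ {a : GaloisField p q | Algebra.norm (ZMod p) a = 1 ∧ Algebra.norm (ZMod p) (2 - a) = 1}, a⁻¹ ∈ {a : GaloisField p q | Algebra.norm (ZMod p) a = 1 ∧ Algebra.norm (ZMod p) (2 - a) = 1})
    (h2 : 2 ≤ Set.ncard {a : GaloisField p q | Algebra.norm (ZMod p) a = 1 ∧ Algebra.norm (ZMod p) (2 - a) = 1}) :
    p ≤ q := by
  classical
  have hq0 : q ≠ 0 := (Fact.out : q.Prime).ne_zero
  have h1E : (1 : GaloisField p q) ∈ {a : GaloisField p q | Algebra.norm (ZMod p) a = 1 ∧
      Algebra.norm (ZMod p) (2 - a) = 1} := by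
    refine ⟨by simp, ?_⟩
    have : (2 : GaloisField p q) - 1 = 1 := by norm_num
    rw [this]; simp
  obtain ⟨a, haE, ha1⟩ := Set.exists_ne_of_one_lt_ncard (by omega : 1 < Set.ncard
    {a : GaloisField p q | Algebra.norm (ZMod p) a = 1 ∧ Algebra.norm (ZMod p) (2 - a) = 1}) 1
  have hb : a - 1 ≠ 0 := sub_ne_zero.mpr ha1
  -- the arithmetic progression `s k = 1 + k (a - 1)`
  let s : ℕ → GaloisField p q := fun k => 1 + (k : GaloisField p q) * (a - 1)
  have hs2 : ∀ k, s (k + 2) = 2 * s (k + 1) - s k := by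
    intro k
    simp only [s]
    push_cast
    ring
  have hstep : ∀ k, s (k + 1) * (s k)⁻¹ ∈ {a : GaloisField p q | Algebra.norm (ZMod p) a = 1 ∧
      Algebra.norm (ZMod p) (2 - a) = 1} := by
    intro k
    induction k with
    | zero =>
      have : s (0 + 1) * (s 0)⁻¹ = a := by simp [s]
      rw [this]; exact haE
    | succ k ih =>
      have hne : s (k + 1) * (s k)⁻¹ ≠ 0 := by
        intro h0
        have := ih.1
        rw [h0, Algebra.norm_zero] at this
        exact zero_ne_one this
      have hk1 : s (k + 1) ≠ 0 := fun h => hne (by rw [h, zero_mul])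
      have hk0 : s k ≠ 0 := fun h => hne (by rw [h, inv_zero, mul_zero])
      have hi := hinv _ ih
      have e1 : s (k + 1 + 1) * (s (k + 1))⁻¹ = 2 - (s (k + 1) * (s k)⁻¹)⁻¹ := by
        rw [hs2 k]
        field_simp
      have e2 : 2 - s (k + 1 + 1) * (s (k + 1))⁻¹ = (s (k + 1) * (s k)⁻¹)⁻¹ := by
        rw [e1]; ring
      exact ⟨by rw [e1]; exact hi.2, by rw [e2]; exact hi.1⟩
  have hnorm : ∀ k, Algebra.norm (ZMod p) (s k) = 1 := by
    intro k
    induction k with
    | zero => simp [s]
    | succ k ih =>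
      have hne : s (k + 1) * (s k)⁻¹ ≠ 0 := by
        intro h0
        have := (hstep k).1
        rw [h0, Algebra.norm_zero] at this
        exact zero_ne_one this
      have hk0 : s k ≠ 0 := fun h => hne (by rw [h, inv_zero, mul_zero])
      have : s (k + 1) = (s (k + 1) * (s k)⁻¹) * s k := by field_simp
      rw [this, map_mul, (hstep k).1, ih, one_mul]
  -- linear algebra
  let B := Module.finBasis (ZMod p) (GaloisField p q)
  have hfr : Module.finrank (ZMod p) (GaloisField p q) = q := GaloisField.finrank p hq0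
  have hne : Nonempty (Fin (Module.finrank (ZMod p) (GaloisField p q))) := by
    rw [hfr]; exact ⟨⟨0, Nat.pos_of_ne_zero hq0⟩⟩
  have hdet : (Algebra.leftMulMatrix B (a - 1)).det ≠ 0 := by
    rw [← Algebra.norm_eq_matrix_det]
    exact fun h => hb (Algebra.norm_eq_zero_iff.mp h)
  have hall : ∀ κ : ZMod p, (κ • Algebra.leftMulMatrix B (a - 1) + 1).det = 1 := by
    intro κ
    have h1 : κ • Algebra.leftMulMatrix B (a - 1) + 1
        = Algebra.leftMulMatrix B (κ • (a - 1) + 1) := by
      rw [map_add, map_smul, map_one]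
    rw [h1, ← Algebra.norm_eq_matrix_det]
    have h2 : κ • (a - 1) + 1 = s κ.val := by
      simp only [s]
      rw [Algebra.smul_def, add_comm]
      congr 2
      have : (κ.val : GaloisField p q) = algebraMap (ZMod p) (GaloisField p q) (κ.val : ZMod p) := by
        rw [map_natCast]
      rw [this, ZMod.natCast_val, ZMod.cast_id', id]
    rw [h2]
    exact hnorm _
  have := Helper75.nf_card_le_of_det_eq_one _ hdet hall
  rwa [ZMod.card, Fintype.card_fin, hfr] at this

end Cfsg.Agent.S1470
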