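import Cfsg.Statements.S1471
-- import your own Cfsg.Agent.* helpers here

set_option autoImplicit false
open Cfsg

namespace Cfsg.Agent.S1471

open scoped BigOperators
open Polynomial

/-!
Proof outline.  For `q = 3` we take `D` with `X^3 - X + D` irreducible over `ZMod p`; a root `t`
in the field with `p^3` elements has `N(t-1) = N(t) = N(t+1) = -D`, so `a = (t+1)/t` works.
For `q ≥ 5` we count the set with multiplicative characters lifted through the norm: the count
times `(p-1)^2` is a sum of Jacobi sums, whose main term is `p^q - 2` and whose other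
`(p-1)^2 - 1` terms have absolute value at most `sqrt (p^q)`.
-/

section lift

variable {p q : ℕ} [Fact p.Prime]

/-- Lift of a multiplicative character of `ZMod p` through the norm. -/
noncomputable def normLift (χ : MulChar (ZMod p) ℂ) : MulChar (GaloisField p q) ℂ :=
  MulChar.ofUnitHom (χ.toUnitHom.comp
    (Units.map (Algebra.norm (ZMod p) : GaloisField p q →* ZMod p)))

lemma normLift_apply (χ : MulChar (ZMod p) ℂ) (x : GaloisField p q) :
    normLift χ x = χ (Algebra.norm (ZMod p) x) := by
  by_cases hx : x = 0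
  · subst hx
    rw [MulChar.map_zero, Algebra.norm_zero, MulChar.map_zero]
  · have : x = ((Units.mk0 x hx : (GaloisField p q)ˣ) : GaloisField p q) := rfl
    rw [this, normLift, MulChar.ofUnitHom_coe]
    simp

lemma normLift_one : (normLift (1 : MulChar (ZMod p) ℂ) : MulChar (GaloisField p q) ℂ) = 1 := by
  ext x
  rw [normLift_apply, MulChar.one_apply_coe]
  apply MulChar.one_apply
  exact (x.isUnit.map (Algebra.norm (ZMod p)))

lemma normLift_eq_one_iff (χ : MulChar (ZMod p) ℂ) :
    (normLift χ : MulChar (GaloisField p q) ℂ) = 1 ↔ χ = 1 := by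
  constructor
  · intro h
    ext y
    obtain ⟨x, hx⟩ := FiniteField.norm_surjective (ZMod p) (GaloisField p q) (y : ZMod p)
    have hx0 : x ≠ 0 := by
      rintro rfl
      rw [Algebra.norm_zero] at hx
      exact y.ne_zero hx.symm
    have h1 : normLift χ x = (1 : MulChar (GaloisField p q) ℂ) x := by rw [h]
    rw [normLift_apply, hx, MulChar.one_apply (isUnit_iff_ne_zero.mpr hx0)] at h1
    rw [h1, MulChar.one_apply_coe]
  · rintro rfl
    exact normLift_one

end lift

section jac

variable {F : Type*} [Field F] [Fintype F]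

lemma mulChar_norm_le_one (χ : MulChar F ℂ) (a : F) : ‖χ a‖ ≤ 1 := by
  by_cases ha : a = 0
  · subst ha
    rw [MulChar.map_zero]; simp
  · have h1 : (χ a) ^ (Fintype.card F - 1) = 1 := by
      rw [← map_pow, FiniteField.pow_card_sub_one_eq_one a ha, map_one]
    have hpos : Fintype.card F - 1 ≠ 0 := by
      have := Fintype.one_lt_card (α := F)
      omega
    exact (Complex.norm_eq_one_of_pow_eq_one h1 hpos).le

lemma shifted_sum_eq (χ ψ : MulChar F ℂ) (h2 : (2 : F) ≠ 0) :
    ∑ x : F, χ x * ψ (2 - x) = χ 2 * ψ 2 * jacobiSum χ ψ := by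
  rw [jacobiSum, Finset.mul_sum]
  rw [← Fintype.sum_bijective (fun y : F => 2 * y) (mulLeft_bijective₀ 2 h2) 
    (fun y => χ (2 * y) * ψ (2 - 2 * y)) (fun x => χ x * ψ (2 - x)) (fun y => rfl)]
  refine Finset.sum_congr rfl fun y _ => ?_
  have : (2 : F) - 2 * y = 2 * (1 - y) := by ring
  rw [this, map_mul, map_mul]
  ring

lemma jacobiSum_norm_le (χ ψ : MulChar F ℂ) (h : ¬ (χ = 1 ∧ ψ = 1)) :
    ‖jacobiSum χ ψ‖ ≤ Real.sqrt (Fintype.card F) := by
  have hcard : (1 : ℝ) ≤ Real.sqrt (Fintype.card F) := by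
    rw [Real.one_le_sqrt]
    exact_mod_cast Fintype.card_pos
  by_cases hχ : χ = 1
  · have hψ : ψ ≠ 1 := fun hψ => h ⟨hχ, hψ⟩
    rw [hχ, jacobiSum_one_nontrivial hψ]
    simpa using hcard
  by_cases hψ : ψ = 1
  · rw [hψ, jacobiSum_comm, jacobiSum_one_nontrivial hχ]
    simpa using hcard
  by_cases hχψ : χ * ψ = 1
  · have : ψ = χ⁻¹ := by
      rw [eq_inv_iff_mul_eq_one, mul_comm]; exact hχψ
    rw [this, jacobiSum_nontrivial_inv hχ, norm_neg]
    exact (mulChar_norm_le_one χ (-1)).trans hcard
  · have hJ := jacobiSum_mul_jacobiSum_inv (F := F) (F' := ℂ) (by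
      rw [ringChar.eq_zero]
      obtain ⟨n, hp, hc⟩ := FiniteField.card F (ringChar F)
      exact hp.ne_zero.symm) hχ hψ hχψ
    have hconj : jacobiSum χ⁻¹ ψ⁻¹ = (starRingEnd ℂ) (jacobiSum χ ψ) := by
      rw [← jacobiSum_ringHomComp, ← MulChar.star_eq_inv, ← MulChar.star_eq_inv]
      rfl
    rw [hconj, Complex.mul_conj] at hJ
    have h3 : ‖jacobiSum χ ψ‖ ^ 2 = (Fintype.card F : ℝ) := by
      rw [← Complex.normSq_eq_norm_sq]
      exact_mod_cast hJ
    rw [← h3, Real.sqrt_sq (norm_nonneg _)]

end jac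

section count

variable (p q : ℕ) [Fact p.Prime]

/-- The set of the statement. -/
def pairSet : Set (GaloisField p q) :=
  {a | Algebra.norm (ZMod p) a = 1 ∧ Algebra.norm (ZMod p) (2 - a) = 1}

open Classical in
lemma count_identity [Fintype (GaloisField p q)] :
    ((pairSet p q).ncard : ℂ) * ((p : ℂ) - 1) ^ 2 =
      ∑ χ : DirichletCharacter ℂ p, ∑ ψ : DirichletCharacter ℂ p, ∑ x : GaloisField p q,
        (normLift χ : MulChar (GaloisField p q) ℂ) x *
          (normLift ψ : MulChar (GaloisField p q) ℂ) (2 - x) := by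
  have hp : (p.totient : ℂ) = (p : ℂ) - 1 := by
    rw [Nat.totient_prime (Fact.out : p.Prime), Nat.cast_sub (Fact.out : p.Prime).one_le]
    simp
  have h1 : ∀ x : GaloisField p q,
      (∑ χ : DirichletCharacter ℂ p, (normLift χ : MulChar (GaloisField p q) ℂ) x) =
        if Algebra.norm (ZMod p) x = 1 then (p : ℂ) - 1 else 0 := by
    intro x
    simp_rw [normLift_apply]
    rw [DirichletCharacter.sum_characters_eq ℂ, hp]
  calc ((pairSet p q).ncard : ℂ) * ((p : ℂ) - 1) ^ 2
      = ∑ x : GaloisField p q,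
          (if Algebra.norm (ZMod p) x = 1 then (p : ℂ) - 1 else 0) *
          (if Algebra.norm (ZMod p) (2 - x) = 1 then (p : ℂ) - 1 else 0) := by
        have : ∀ x : GaloisField p q,
          (if Algebra.norm (ZMod p) x = 1 then (p : ℂ) - 1 else 0) *
          (if Algebra.norm (ZMod p) (2 - x) = 1 then (p : ℂ) - 1 else 0) =
          if x ∈ pairSet p q then ((p : ℂ) - 1) ^ 2 else 0 := by
          intro x
          unfold pairSet
          simp only [Set.mem_ofPred_eq]
          split_ifs <;> simp_all [sq]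
        simp_rw [this]
        rw [Finset.sum_ite, Finset.sum_const_zero, add_zero, Finset.sum_const, nsmul_eq_mul]
        congr 2
        rw [Set.ncard_eq_toFinset_card']
        congr 1
        ext x
        simp
    _ = ∑ x : GaloisField p q,
          (∑ χ : DirichletCharacter ℂ p, (normLift χ : MulChar (GaloisField p q) ℂ) x) *
          (∑ ψ : DirichletCharacter ℂ p, (normLift ψ : MulChar (GaloisField p q) ℂ) (2 - x)) := by
        simp_rw [h1]
    _ = _ := by
        simp_rw [Finset.sum_mul_sum]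
        rw [Finset.sum_comm]
        refine Finset.sum_congr rfl fun χ _ => ?_
        rw [Finset.sum_comm]


lemma arith_final (P s : ℝ) (n : ℕ) (hP : 3 ≤ P) (hs : P ^ 2 < s) 
    (h : (s ^ 2 - 2) - ((P - 1) ^ 2 - 1) * s ≤ n * (P - 1) ^ 2) : 2 ≤ n := by
  by_contra hn
  have hn1 : (n : ℝ) ≤ 1 := by
    have : n ≤ 1 := by omega
    exact_mod_cast this
  have h1 : (n : ℝ) * (P - 1) ^ 2 ≤ (P - 1) ^ 2 := by
    have : 0 ≤ (P - 1) ^ 2 := sq_nonneg _
    nlinarith
  have h2 : s * (s - P ^ 2 + 2 * P) ≤ (P - 1) ^ 2 + 2 := by nlinarith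
  have h3 : P ^ 2 * (2 * P) < s * (s - P ^ 2 + 2 * P) := by
    have hP2 : 0 < P ^ 2 := by positivity
    have : 2 * P < s - P ^ 2 + 2 * P := by linarith
    have hs0 : 0 < s := by linarith
    nlinarith
  nlinarith

theorem case_ge_five (hp : p ≠ 2) (hq : 5 ≤ q) : 2 ≤ (pairSet p q).ncard := by
  classical
  have : Fintype (GaloisField p q) := Fintype.ofFinite _
  have hpp : p.Prime := Fact.out
  have hp3 : 3 ≤ p := by
    have := hpp.two_le
    omega
  have hcardF : Fintype.card (GaloisField p q) = p ^ q := by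
    rw [Fintype.card_eq_nat_card, GaloisField.card p q (by omega)]
  have h2 : (2 : GaloisField p q) ≠ 0 := by
    intro h
    have hchar : CharP (GaloisField p q) p := inferInstance
    have : (p : ℕ) ∣ 2 := by
      rw [← CharP.cast_eq_zero_iff (GaloisField p q) p]
      exact_mod_cast h
    have := (Nat.prime_dvd_prime_iff_eq hpp Nat.prime_two).mp this
    exact hp this
  set s : ℝ := Real.sqrt (Fintype.card (GaloisField p q)) with hs
  have hs2 : s ^ 2 = (p : ℝ) ^ q := by
    rw [hs, Real.sq_sqrt (by positivity), hcardF]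
    push_cast; rfl
  have hs_gt : (p : ℝ) ^ 2 < s := by
    have h0 : (0 : ℝ) ≤ s := Real.sqrt_nonneg _
    have h1 : ((p : ℝ) ^ 2) ^ 2 < s ^ 2 := by
      rw [hs2, ← pow_mul]
      apply pow_lt_pow_right₀
      · exact_mod_cast hpp.one_lt
      · omega
    exact lt_of_pow_lt_pow_left₀ 2 h0 h1
  apply arith_final (p : ℝ) s _ (by exact_mod_cast hp3) hs_gt
  -- the main estimate
  have hid := count_identity p q
  simp_rw [shifted_sum_eq _ _ h2] at hid
  rw [← Finset.sum_product', Finset.univ_product_univ] at hid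
  rw [← Finset.add_sum_erase _ _ (Finset.mem_univ
    ((1 : DirichletCharacter ℂ p), (1 : DirichletCharacter ℂ p)))] at hid
  have hmain : (normLift (1 : DirichletCharacter ℂ p) : MulChar (GaloisField p q) ℂ) 2 *
      (normLift (1 : DirichletCharacter ℂ p) : MulChar (GaloisField p q) ℂ) 2 *
      jacobiSum (normLift (1 : DirichletCharacter ℂ p) : MulChar (GaloisField p q) ℂ)
        (normLift (1 : DirichletCharacter ℂ p)) = ((p : ℂ) ^ q - 2) := by
    rw [normLift_one, MulChar.one_apply (isUnit_iff_ne_zero.mpr h2), jacobiSum_one_one, hcardF]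
    push_cast; ring
  simp only [] at hid
  rw [hmain] at hid
  -- bound the rest
  have hrest : ‖∑ x ∈ Finset.univ.erase ((1 : DirichletCharacter ℂ p), (1 : DirichletCharacter ℂ p)),
      (normLift x.1 : MulChar (GaloisField p q) ℂ) 2 * (normLift x.2 : MulChar (GaloisField p q) ℂ) 2 *
        jacobiSum (normLift x.1 : MulChar (GaloisField p q) ℂ) (normLift x.2)‖ ≤
      (((p : ℝ) - 1) ^ 2 - 1) * s := by
    refine (norm_sum_le _ _).trans ?_
    have hcardpairs : ((Finset.univ.erase
        ((1 : DirichletCharacter ℂ p), (1 : DirichletCharacter ℂ p))).card : ℝ) =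
        ((p : ℝ) - 1) ^ 2 - 1 := by
      rw [Finset.card_erase_of_mem (Finset.mem_univ _), Finset.card_univ, Fintype.card_prod,
        Fintype.card_eq_nat_card,
        DirichletCharacter.card_eq_totient_of_hasEnoughRootsOfUnity ℂ p,
        Nat.totient_prime hpp]
      have h1 : 1 ≤ (p - 1) * (p - 1) := by
        have : 1 ≤ p - 1 := by omega
        exact Nat.mul_le_mul this this
      rw [Nat.cast_sub h1, Nat.cast_mul, Nat.cast_sub hpp.one_le]
      push_cast; ring
    rw [← hcardpairs, ← nsmul_eq_mul]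
    refine Finset.sum_le_card_nsmul _ _ _ fun x hx => ?_
    have hx1 : x ≠ (1, 1) := Finset.ne_of_mem_erase hx
    have hne : ¬ ((normLift x.1 : MulChar (GaloisField p q) ℂ) = 1 ∧
        (normLift x.2 : MulChar (GaloisField p q) ℂ) = 1) := by
      rw [normLift_eq_one_iff, normLift_eq_one_iff]
      rintro ⟨h1, h2⟩
      exact hx1 (Prod.ext h1 h2)
    rw [norm_mul, norm_mul]
    have ha := mulChar_norm_le_one (normLift x.1 : MulChar (GaloisField p q) ℂ) 2
    have hb := mulChar_norm_le_one (normLift x.2 : MulChar (GaloisField p q) ℂ) 2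
    have hc := jacobiSum_norm_le _ _ hne
    have h0a := norm_nonneg ((normLift x.1 : MulChar (GaloisField p q) ℂ) 2)
    have h0b := norm_nonneg ((normLift x.2 : MulChar (GaloisField p q) ℂ) 2)
    have h0c := norm_nonneg (jacobiSum (normLift x.1 : MulChar (GaloisField p q) ℂ) (normLift x.2))
    calc _ ≤ 1 * 1 * s := by
          apply mul_le_mul _ hc h0c (by norm_num)
          exact mul_le_mul ha hb h0b (by norm_num)
      _ = s := by ring
  -- conclude
  have hnorm : ‖((pairSet p q).ncard : ℂ) * ((p : ℂ) - 1) ^ 2‖ =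
      ((pairSet p q).ncard : ℝ) * ((p : ℝ) - 1) ^ 2 := by
    rw [norm_mul, norm_pow, Complex.norm_natCast]
    congr 2
    have : ((p : ℂ) - 1) = (((p : ℝ) - 1 : ℝ) : ℂ) := by push_cast; ring
    rw [this, Complex.norm_real, Real.norm_of_nonneg]
    have : (1 : ℝ) ≤ p := by exact_mod_cast hpp.one_le
    linarith
  rw [← hnorm, hid]
  have hA : ‖((p : ℂ) ^ q - 2)‖ = s ^ 2 - 2 := by
    have : ((p : ℂ) ^ q - 2) = (((p : ℝ) ^ q - 2 : ℝ) : ℂ) := by push_cast; ring
    rw [this, Complex.norm_real, Real.norm_of_nonneg, hs2]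
    have : (2 : ℝ) ≤ (p : ℝ) ^ q := by
      have h1 : (1 : ℝ) ≤ p := by exact_mod_cast hpp.one_le
      calc (2 : ℝ) ≤ p := by exact_mod_cast hpp.two_le
        _ = (p : ℝ) ^ 1 := (pow_one _).symm
        _ ≤ (p : ℝ) ^ q := pow_le_pow_right₀ h1 (by omega)
    linarith
  rw [← hA]
  have := norm_sub_norm_le ((p : ℂ) ^ q - 2) (-(∑ x ∈ Finset.univ.erase ((1 : DirichletCharacter ℂ p), (1 : DirichletCharacter ℂ p)),
      (normLift x.1 : MulChar (GaloisField p q) ℂ) 2 * (normLift x.2 : MulChar (GaloisField p q) ℂ) 2 *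
        jacobiSum (normLift x.1 : MulChar (GaloisField p q) ℂ) (normLift x.2)))
  rw [norm_neg, sub_neg_eq_add] at this
  linarith

end count

section cubic

variable {p : ℕ} [Fact p.Prime]

lemma norm_root_add (f : (ZMod p)[X]) (hf : f.Monic) [hirr : Fact (Irreducible f)] (k : ZMod p) :
    Algebra.norm (ZMod p) (AdjoinRoot.root f + algebraMap (ZMod p) (AdjoinRoot f) k) =
      (-1) ^ f.natDegree * f.eval (-k) := by
  set x : AdjoinRoot f := AdjoinRoot.root f + algebraMap (ZMod p) (AdjoinRoot f) k with hxdef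
  have hx : IsIntegral (ZMod p) x :=
    (AdjoinRoot.isIntegral_root hf.ne_zero).add isIntegral_algebraMap
  have hx' : Algebra.adjoin (ZMod p) ({x} : Set (AdjoinRoot f)) = ⊤ := by
    rw [eq_top_iff, ← AdjoinRoot.adjoinRoot_eq_top (f := f)]
    apply Algebra.adjoin_le
    intro y hy
    rw [Set.mem_singleton_iff] at hy
    subst hy
    have : AdjoinRoot.root f = x - algebraMap (ZMod p) (AdjoinRoot f) k := by
      rw [hxdef]; ring
    rw [this]
    exact Subalgebra.sub_mem _ (Algebra.subset_adjoin (Set.mem_singleton x))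
      (Subalgebra.algebraMap_mem _ k)
  have hmin : minpoly (ZMod p) x = f.comp (X - C k) := by
    rw [hxdef, minpoly.add_algebraMap, AdjoinRoot.minpoly_root hf.ne_zero, hf.leadingCoeff]
    simp
  have h := Algebra.PowerBasis.norm_gen_eq_coeff_zero_minpoly (PowerBasis.ofAdjoinEqTop hx hx')
  rw [PowerBasis.ofAdjoinEqTop_gen, PowerBasis.ofAdjoinEqTop_dim, hmin] at h
  rw [h, natDegree_comp, natDegree_X_sub_C, mul_one, coeff_zero_eq_eval_zero, eval_comp]
  simp

lemma exists_cubic_no_root : ∃ D : ZMod p, ∀ x : ZMod p, x ^ 3 - x + D ≠ 0 := by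
  have hninj : ¬ Function.Injective (fun x : ZMod p => x ^ 3 - x) := by
    intro h
    have : (0 : ZMod p) = 1 := h (by simp)
    exact zero_ne_one this
  have hnsurj : ¬ Function.Surjective (fun x : ZMod p => x ^ 3 - x) := by
    rwa [← Finite.injective_iff_surjective]
  rw [Function.Surjective] at hnsurj
  push Not at hnsurj
  obtain ⟨c, hc⟩ := hnsurj
  refine ⟨-c, fun x hx => hc x ?_⟩
  show x ^ 3 - x = c
  linear_combination hx

theorem case_three : 2 ≤ (pairSet p 3).ncard := by
  obtain ⟨D, hD⟩ := exists_cubic_no_root (p := p)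
  set f : (ZMod p)[X] := X ^ 3 - X + C D with hf
  have hdeg : f.natDegree = 3 := by
    rw [hf]; compute_degree!
  have hmonic : f.Monic := by
    rw [hf]; monicity!
  have hirr : Irreducible f := by
    rw [hmonic.irreducible_iff_roots_eq_zero_of_degree_le_three (by omega) (by omega)]
    rw [Multiset.eq_zero_iff_forall_notMem]
    intro x hx
    rw [mem_roots hmonic.ne_zero, IsRoot.def, hf] at hx
    simp only [eval_add, eval_sub, eval_pow, eval_X, eval_C] at hx
    exact hD x hx
  have : Fact (Irreducible f) := ⟨hirr⟩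
  have hD0 : D ≠ 0 := by
    intro h
    have := hD 0
    simp [h] at this
  -- norms
  have hN : ∀ k : ZMod p, k ^ 3 = k →
      Algebra.norm (ZMod p) (AdjoinRoot.root f + algebraMap (ZMod p) (AdjoinRoot f) k) = - D := by
    intro k hk
    rw [norm_root_add f hmonic k, hdeg, hf]
    simp only [eval_add, eval_sub, eval_pow, eval_X, eval_C]
    linear_combination hk
  have hN0 := hN 0 (by ring)
  have hN1 := hN 1 (by ring)
  have hNm1 := hN (-1) (by ring)
  rw [map_zero, add_zero] at hN0
  rw [map_one] at hN1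
  rw [map_neg, map_one] at hNm1
  set t : AdjoinRoot f := AdjoinRoot.root f with ht
  have : Module.Finite (ZMod p) (AdjoinRoot f) := (AdjoinRoot.powerBasis hmonic.ne_zero).finite
  have ht0 : t ≠ 0 := by
    intro h
    rw [h, Algebra.norm_zero] at hN0
    exact hD0 (by linear_combination hN0)
  -- cardinality
  have hcard : Nat.card (AdjoinRoot f) = p ^ 3 := by
    have hfin : Module.finrank (ZMod p) (AdjoinRoot f) = 3 := by
      rw [(AdjoinRoot.powerBasis hmonic.ne_zero).finrank, AdjoinRoot.powerBasis_dim, hdeg]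
    rw [Module.natCard_eq_pow_finrank (K := ZMod p), hfin, Nat.card_zmod]
  let e := GaloisField.algEquivGaloisField p 3 hcard
  set a : AdjoinRoot f := (t + 1) / t with ha
  have hnD : -D ≠ 0 := neg_ne_zero.mpr hD0
  have ha1 : Algebra.norm (ZMod p) a = 1 := by
    have h1 : a * t = t + 1 := by
      rw [ha]; field_simp
    have h2 := congrArg (Algebra.norm (ZMod p)) h1
    rw [map_mul, hN1, hN0] at h2
    exact mul_right_cancel₀ hnD (by rw [h2, one_mul])
  have ha2 : Algebra.norm (ZMod p) (2 - a) = 1 := by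
    have h1 : (2 - a) * t = t + -1 := by
      rw [ha]; field_simp; ring
    have h2 := congrArg (Algebra.norm (ZMod p)) h1
    rw [map_mul, hNm1, hN0] at h2
    exact mul_right_cancel₀ hnD (by rw [h2, one_mul])
  have hane : a ≠ 1 := by
    intro h
    rw [ha, div_eq_one_iff_eq ht0] at h
    simp at h
  have hsub : ({1, e a} : Set (GaloisField p 3)) ⊆ pairSet p 3 := by
    intro y hy
    rcases hy with rfl | rfl
    · refine ⟨map_one _, ?_⟩
      have : (2 : GaloisField p 3) - 1 = 1 := by ring
      rw [this, map_one]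
    · refine ⟨?_, ?_⟩
      · rw [Algebra.norm_eq_of_algEquiv, ha1]
      · have : (2 : GaloisField p 3) - e a = e (2 - a) := by
          rw [map_sub]; congr 1; exact (map_ofNat e 2).symm
        rw [this, Algebra.norm_eq_of_algEquiv, ha2]
  have hne : (1 : GaloisField p 3) ≠ e a := by
    intro h
    apply hane
    apply e.injective
    rw [← h, map_one]
  calc 2 = ({1, e a} : Set (GaloisField p 3)).ncard := (Set.ncard_pair hne).symm
    _ ≤ (pairSet p 3).ncard := Set.ncard_le_ncard hsub (Set.toFinite _)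

end cubic

/-- Let p and q be odd primes with (p^q − 1)/(p − 1) coprime to p − 1. Then there are at least two elements a of the field with p ^ q elements such that both a and 2 − a have norm 1 to the prime field. -/
theorem result (p q : ℕ) [Fact p.Prime] [Fact q.Prime] (hp : p ≠ 2) (hq : q ≠ 2) (hA : Nat.Coprime ((p ^ q - 1) / (p - 1)) (p - 1)) :
    2 ≤ Set.ncard {a : GaloisField p q | Algebra.norm (ZMod p) a = 1 ∧ Algebra.norm (ZMod p) (2 - a) = 1} := by
  have hqp : q.Prime := Fact.out
  have h2 := hqp.two_le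
  by_cases h3 : q = 3
  · subst h3
    exact case_three
  · have h4 : q ≠ 4 := by
      rintro rfl
      norm_num at hqp
    exact case_ge_five p q hp (by omega)

end Cfsg.Agent.S1471
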