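import Mathlib
import Cfsg.Statements.S1531
import Cfsg.Agent.Helper25.UniformCoh
import Cfsg.Agent.Helper25.SignedIrr

set_option autoImplicit false
open Cfsg

namespace Cfsg.Agent.S1531

open Cfsg.Agent.Helper25
open scoped ComplexConjugate

universe u v

section
variable {N : Type u} [Group N] [Fintype N] {G : Type v} [Group G] [Fintype G]

/-- distinct irreducible characters are orthogonal -/
theorem irr_orth {φ ψ : N → ℂ} (hφ : IsIrrCharacter N φ) (hψ : IsIrrCharacter N ψ) (h : φ ≠ ψ) :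
    classInner φ ψ = 0 := by
  have := Helper74.irr_inner_ne (χ := (⟨φ, hφ⟩ : IrrCharacter N)) (ψ := ⟨ψ, hψ⟩)
    (fun h' => h (congrArg Subtype.val h'))
  exact this

theorem irr_norm {φ : N → ℂ} (hφ : IsIrrCharacter N φ) : classInner φ φ = 1 :=
  Helper74.irr_inner_self ⟨φ, hφ⟩

/-- positive integer degree -/
theorem irr_deg {φ : N → ℂ} (hφ : IsIrrCharacter N φ) : ∃ k : ℕ, 0 < k ∧ φ 1 = (k : ℂ) := by
  obtain ⟨k, hk⟩ := Helper74.isCharacter_apply_one (Helper74.isCharacter_of_isIrr hφ)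
  refine ⟨k, Nat.pos_of_ne_zero ?_, hk⟩
  intro h0
  have := irr_apply_one_ne_zero (⟨φ, hφ⟩ : IrrCharacter N)
  apply this
  show φ 1 = 0
  rw [hk, h0]; simp

theorem orthExt_zero (s : Finset (N → ℂ)) (T : (N → ℂ) → (G → ℂ)) : orthExt s T 0 = 0 := by
  have := orthExt_zsmul s T 0 0
  simpa using this

theorem orthExt_neg (s : Finset (N → ℂ)) (T : (N → ℂ) → (G → ℂ)) (x : N → ℂ) :
    orthExt s T (-x) = -orthExt s T x := by
  have := orthExt_zsmul s T (-1) x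
  simpa using this

theorem orthExt_sub (s : Finset (N → ℂ)) (T : (N → ℂ) → (G → ℂ)) (x y : N → ℂ) :
    orthExt s T (x - y) = orthExt s T x - orthExt s T y := by
  rw [sub_eq_add_neg, orthExt_add, orthExt_neg, ← sub_eq_add_neg]

theorem orthExt_sum' (s : Finset (N → ℂ)) (T : (N → ℂ) → (G → ℂ)) {ι : Type*} (t : Finset ι)
    (m : ι → ℤ) (f : ι → N → ℂ) :
    orthExt s T (∑ i ∈ t, m i • f i) = ∑ i ∈ t, m i • orthExt s T (f i) := by
  classical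
  induction t using Finset.induction_on with
  | empty => simp [orthExt_zero]
  | insert a t ha ih =>
    rw [Finset.sum_insert ha, Finset.sum_insert ha, orthExt_add, orthExt_zsmul, ih]

end

/-- Part 1: orthogonality of the two extensions. -/
theorem part1 {G : Type*} [Group G] [Fintype G] (N : Subgroup G) [Fintype N] (S X Y : Set (N → ℂ)) (hirr : ∀ ξ ∈ S, Cfsg.IsIrrCharacter N ξ) (hXS : X ⊆ S) (hYS : Y ⊆ S) (hXY : Disjoint X Y) (hX2 : ∃ a ∈ X, ∃ b ∈ X, a ≠ b) (hY2 : ∃ a ∈ Y, ∃ b ∈ Y, a ≠ b) (α : (N → ℂ) → (G → ℂ)) (hα : Cfsg.IsLinearIsometryOn (Cfsg.zspanOn S {1}ᶜ) α) (hα1 : ∀ θ ∈ Cfsg.zspanOn S {1}ᶜ, α θ 1 = 0) (σ τ : (N → ℂ) → (G → ℂ)) (hσ : Cfsg.IsLinearIsometryOn (Cfsg.zspan X) σ) (hσα : ∀ θ ∈ Cfsg.zspanOn X {1}ᶜ, σ θ = α θ) (hτ : Cfsg.IsLinearIsometryOn (Cfsg.zspan Y) τ) (hτα : ∀ θ ∈ Cfsg.zspanOn Y {1}ᶜ, τ θ = α θ) : ∀ χ ∈ X, ∀ η ∈ Y, Cfsg.classInner (σ χ) (τ η) =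 0 := by
  classical
  intro χ hχ η hη
  -- second members
  obtain ⟨χ', hχ', hχne⟩ : ∃ χ' ∈ X, χ' ≠ χ := by
    obtain ⟨a, ha, b, hb, hab⟩ := hX2
    by_cases h : a = χ
    · exact ⟨b, hb, fun h' => hab (h.trans h'.symm)⟩
    · exact ⟨a, ha, h⟩
  obtain ⟨η', hη', hηne⟩ : ∃ η' ∈ Y, η' ≠ η := by
    obtain ⟨a, ha, b, hb, hab⟩ := hY2
    by_cases h : a = η
    · exact ⟨b, hb, fun h' => hab (h.trans h'.symm)⟩
    · exact ⟨a, ha, h⟩
  have hXz : ∀ φ ∈ X, φ ∈ zspan X := fun φ h => mem_zspan_of_mem h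
  have hYz : ∀ φ ∈ Y, φ ∈ zspan Y := fun φ h => mem_zspan_of_mem h
  have hXs : ∀ x ∈ zspan X, ∀ n : ℤ, n • x ∈ zspan X := fun x hx n => zspan_zsmul hx n
  have hYs : ∀ x ∈ zspan Y, ∀ n : ℤ, n • x ∈ zspan Y := fun x hx n => zspan_zsmul hx n
  have iχ := hirr χ (hXS hχ)
  have iχ' := hirr χ' (hXS hχ')
  have iη := hirr η (hYS hη)
  have iη' := hirr η' (hYS hη')
  obtain ⟨c, hc0, hc⟩ := irr_deg iχ
  obtain ⟨c', hc'0, hc'⟩ := irr_deg iχ'
  obtain ⟨e, he0, he⟩ := irr_deg iη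
  obtain ⟨e', he'0, he'⟩ := irr_deg iη'
  -- signed irreducibility
  have sσχ : SignedIrr G (σ χ) := signedIrr_of_inner_self_eq_one (hσ.2.2.2 χ (hXz χ hχ))
    (by rw [hσ.2.2.1 χ (hXz χ hχ) χ (hXz χ hχ), irr_norm iχ])
  have sσχ' : SignedIrr G (σ χ') := signedIrr_of_inner_self_eq_one (hσ.2.2.2 χ' (hXz χ' hχ'))
    (by rw [hσ.2.2.1 χ' (hXz χ' hχ') χ' (hXz χ' hχ'), irr_norm iχ'])
  have sτη : SignedIrr G (τ η) := signedIrr_of_inner_self_eq_one (hτ.2.2.2 η (hYz η hη))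
    (by rw [hτ.2.2.1 η (hYz η hη) η (hYz η hη), irr_norm iη])
  have sτη' : SignedIrr G (τ η') := signedIrr_of_inner_self_eq_one (hτ.2.2.2 η' (hYz η' hη'))
    (by rw [hτ.2.2.1 η' (hYz η' hη') η' (hYz η' hη'), irr_norm iη'])
  rcases sσχ.inner_eq_zero_or sτη with h0 | ⟨t, ht, hteq, htin⟩
  · exact h0
  exfalso
  -- the two differences
  set a : N → ℂ := (c' : ℤ) • χ - (c : ℤ) • χ' with ha
  set b : N → ℂ := (e' : ℤ) • η - (e : ℤ) • η' with hb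
  have haX : a ∈ zspanOn X {1}ᶜ := by
    refine ⟨zspan_sub (zspan_zsmul (hXz χ hχ) _) (zspan_zsmul (hXz χ' hχ') _), ?_⟩
    intro x hx
    have hx1 : x = 1 := by simpa using hx
    rw [hx1, ha]
    simp only [Pi.sub_apply, Pi.smul_apply]
    simp only [zsmul_eq_mul, hc, hc']
    push_cast; ring
  have hbY : b ∈ zspanOn Y {1}ᶜ := by
    refine ⟨zspan_sub (zspan_zsmul (hYz η hη) _) (zspan_zsmul (hYz η' hη') _), ?_⟩
    intro x hx
    have hx1 : x = 1 := by simpa using hx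
    rw [hx1, hb]
    simp only [Pi.sub_apply, Pi.smul_apply]
    simp only [zsmul_eq_mul, he, he']
    push_cast; ring
  have haS : a ∈ zspanOn S {1}ᶜ := zspanOn_mono hXS haX
  have hbS : b ∈ zspanOn S {1}ᶜ := zspanOn_mono hYS hbY
  have hσa : α a = (c' : ℤ) • σ χ - (c : ℤ) • σ χ' := by
    rw [← hσα a haX, ha, isoOn_map_sub hσ hXs (zspan_zsmul (hXz χ hχ) _)
      (zspan_zsmul (hXz χ' hχ') _), hσ.2.1 χ (hXz χ hχ), hσ.2.1 χ' (hXz χ' hχ')]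
  have hτb : α b = (e' : ℤ) • τ η - (e : ℤ) • τ η' := by
    rw [← hτα b hbY, hb, isoOn_map_sub hτ hYs (zspan_zsmul (hYz η hη) _)
      (zspan_zsmul (hYz η' hη') _), hτ.2.1 η (hYz η hη), hτ.2.1 η' (hYz η' hη')]
  -- orthogonality of a and b
  have hne : ∀ φ ∈ X, ∀ ψ ∈ Y, φ ≠ ψ := by
    intro φ hφ ψ hψ h
    exact (Set.disjoint_left.mp hXY hφ) (h ▸ hψ)
  have hab : classInner a b = 0 := by
    rw [ha, hb]
    simp only [Helper74.classInner_sub_left, Helper74.classInner_sub_right,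
      classInner_zsmul_left, classInner_zsmul_right,
      irr_orth iχ iη (hne χ hχ η hη), irr_orth iχ iη' (hne χ hχ η' hη'),
      irr_orth iχ' iη (hne χ' hχ' η hη), irr_orth iχ' iη' (hne χ' hχ' η' hη')]
    ring
  have hαab : classInner (α a) (α b) = 0 := by
    rw [hα.2.2.1 a haS b hbS, hab]
  -- consequences of τ η = t • σ χ
  have htt : t * t = 1 := by rcases ht with rfl | rfl <;> norm_num
  have htc : conj t = t := by rcases ht with rfl | rfl <;> simp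
  have h1 : classInner (σ χ') (τ η) = 0 := by
    rw [hteq, Helper74.classInner_smul_right, hσ.2.2.1 χ' (hXz χ' hχ') χ (hXz χ hχ),
      irr_orth iχ' iχ hχne, mul_zero]
  have hσχ : σ χ = t • τ η := by
    rw [hteq, smul_smul, htt, one_smul]
  have h2 : classInner (σ χ) (τ η') = 0 := by
    rw [hσχ, Helper74.classInner_smul_left, hτ.2.2.1 η (hYz η hη) η' (hYz η' hη'),
      irr_orth iη iη' (Ne.symm hηne), mul_zero]
  rw [hσa, hτb] at hαab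
  simp only [Helper74.classInner_sub_left, Helper74.classInner_sub_right,
    classInner_zsmul_left, classInner_zsmul_right, h1, h2, htin] at hαab
  -- hαab : c' * (e' * t) - ... 
  rcases sσχ'.inner_eq_zero_or sτη' with h0 | ⟨t', ht', hteq', htin'⟩
  · rw [h0] at hαab
    have hpos : ((c' : ℤ) : ℂ) * (((e' : ℤ) : ℂ) * t) ≠ 0 := by
      have h1 : ((c' : ℤ) : ℂ) ≠ 0 := by exact_mod_cast hc'0.ne'
      have h2 : ((e' : ℤ) : ℂ) ≠ 0 := by exact_mod_cast he'0.ne'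
      have h3 : t ≠ 0 := by rcases ht with rfl | rfl <;> norm_num
      exact mul_ne_zero h1 (mul_ne_zero h2 h3)
    apply hpos
    have := hαab
    simp only [mul_zero, sub_zero, zero_sub] at this
    linear_combination this
  · rw [htin'] at hαab
    -- degrees
    have d1 := hα1 a haS
    have d2 := hα1 b hbS
    rw [hσa] at d1
    rw [hτb, hteq, hteq'] at d2
    simp only [Pi.sub_apply, Pi.smul_apply] at d1 d2
    simp only [zsmul_eq_mul, smul_eq_mul] at d1 d2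
    have hne0 := sσχ.apply_one_ne_zero
    have hne0' := sσχ'.apply_one_ne_zero
    set p := σ χ 1 with hp
    set q := σ χ' 1 with hq
    have hcpos : (0 : ℝ) < c := by exact_mod_cast hc0
    have hc'pos : (0 : ℝ) < c' := by exact_mod_cast hc'0
    have hepos : (0 : ℝ) < e := by exact_mod_cast he0
    have he'pos : (0 : ℝ) < e' := by exact_mod_cast he'0
    push_cast at d1 d2 hαab
    -- four sign cases
    rcases ht with rfl | rfl <;> rcases ht' with rfl | rfl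
    · -- t = 1, t' = 1 : c'e' + ce = 0
      have : ((c' * e' + c * e : ℝ) : ℂ) = 0 := by push_cast; linear_combination hαab
      have h3 : (c' * e' + c * e : ℝ) = 0 := by exact_mod_cast this
      nlinarith
    · -- t = 1, t' = -1
      have hq' : (c : ℂ) * q = c' * p := by linear_combination -d1
      have hq'' : (e : ℂ) * q = -(e' * p) := by linear_combination d2
      have : ((c' * e + c * e' : ℝ) : ℂ) * p = 0 := by
        push_cast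
        linear_combination (e : ℂ) * (-hq') + (c : ℂ) * hq''
      rcases mul_eq_zero.mp this with h | h
      · have h3 : (c' * e + c * e' : ℝ) = 0 := by exact_mod_cast h
        nlinarith
      · exact hne0 h
    · -- t = -1, t' = 1
      have hq' : (c : ℂ) * q = c' * p := by linear_combination -d1
      have hq'' : (e : ℂ) * q = -(e' * p) := by linear_combination -d2
      have : ((c' * e + c * e' : ℝ) : ℂ) * p = 0 := by
        push_cast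
        linear_combination (e : ℂ) * (-hq') + (c : ℂ) * hq''
      rcases mul_eq_zero.mp this with h | h
      · have h3 : (c' * e + c * e' : ℝ) = 0 := by exact_mod_cast h
        nlinarith
      · exact hne0 h
    · -- t = -1, t' = -1
      have : ((c' * e' + c * e : ℝ) : ℂ) = 0 := by push_cast; linear_combination -hαab
      have h3 : (c' * e' + c * e : ℝ) = 0 := by exact_mod_cast this
      nlinarith

/-- Part 2: gluing the two extensions. -/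
theorem part2 {G : Type*} [Group G] [Fintype G] (N : Subgroup G) [Fintype N] (S X Y : Set (N → ℂ)) (hirr : ∀ ξ ∈ S, Cfsg.IsIrrCharacter N ξ) (hXS : X ⊆ S) (hYS : Y ⊆ S) (hXY : Disjoint X Y) (hX2 : ∃ a ∈ X, ∃ b ∈ X, a ≠ b) (α : (N → ℂ) → (G → ℂ)) (hα : Cfsg.IsLinearIsometryOn (Cfsg.zspanOn S {1}ᶜ) α) (σ τ : (N → ℂ) → (G → ℂ)) (hσ : Cfsg.IsLinearIsometryOn (Cfsg.zspan X) σ) (hσα : ∀ θ ∈ Cfsg.zspanOn X {1}ᶜ, σ θ = α θ) (hτ : Cfsg.IsLinearIsometryOn (Cfsg.zspan Y) τ) (hτα : ∀ θ ∈ Cfsg.zspanOn Y {1}ᶜ, τ θ = α θ)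
    (h1 : ∀ χ ∈ X, ∀ η ∈ Y, Cfsg.classInner (σ χ) (τ η) = 0)
    (hlink : ∃ χ₀ ∈ X, ∃ η₀ ∈ Y, α (χ₀ 1 • η₀ - η₀ 1 • χ₀) = χ₀ 1 • τ η₀ - η₀ 1 • σ χ₀) :
    Cfsg.IsCoherent (X ∪ Y) {1}ᶜ α := by
  classical
  obtain ⟨χ₀, hχ₀, η₀, hη₀, hlink⟩ := hlink
  have hirrXY : ∀ φ ∈ X ∪ Y, IsIrrCharacter N φ := by
    intro φ hφ
    rcases hφ with h | h
    · exact hirr φ (hXS h)
    · exact hirr φ (hYS h)
  have hXYS : X ∪ Y ⊆ S := Set.union_subset hXS hYS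
  have hfin : (X ∪ Y).Finite := finite_of_orthogonal _
    (fun φ hφ ψ hψ hne => irr_orth (hirrXY φ hφ) (hirrXY ψ hψ) hne)
    (fun φ hφ => by rw [irr_norm (hirrXY φ hφ)]; exact one_ne_zero)
  set s : Finset (N → ℂ) := hfin.toFinset with hs
  have hsS : (↑s : Set (N → ℂ)) = X ∪ Y := hfin.coe_toFinset
  have hmem : ∀ φ, φ ∈ s ↔ φ ∈ X ∪ Y := fun φ => hfin.mem_toFinset
  have hnotX : ∀ φ ∈ Y, φ ∉ X := fun φ hφ hφX => (Set.disjoint_left.mp hXY hφX) hφ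
  set T : (N → ℂ) → (G → ℂ) := fun φ => if φ ∈ X then σ φ else τ φ with hT
  have hTX : ∀ φ ∈ X, T φ = σ φ := fun φ hφ => by simp only [hT, if_pos hφ]
  have hTY : ∀ φ ∈ Y, T φ = τ φ := fun φ hφ => by simp only [hT, if_neg (hnotX φ hφ)]
  have hXz : ∀ φ ∈ X, φ ∈ zspan X := fun φ h => mem_zspan_of_mem h
  have hYz : ∀ φ ∈ Y, φ ∈ zspan Y := fun φ h => mem_zspan_of_mem h
  have horth : ∀ φ ∈ s, ∀ φ' ∈ s, φ ≠ φ' → classInner φ φ' = 0 := by
    intro φ hφ φ' hφ' hne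
    exact irr_orth (hirrXY φ ((hmem φ).mp hφ)) (hirrXY φ' ((hmem φ').mp hφ')) hne
  have hne' : ∀ φ ∈ s, classInner φ φ ≠ 0 := by
    intro φ hφ
    rw [irr_norm (hirrXY φ ((hmem φ).mp hφ))]; exact one_ne_zero
  have hTiso : ∀ φ ∈ s, ∀ φ' ∈ s, classInner (T φ) (T φ') = classInner φ φ' := by
    intro φ hφ φ' hφ'
    rcases (hmem φ).mp hφ with hφX | hφY <;> rcases (hmem φ').mp hφ' with hφ'X | hφ'Y
    · rw [hTX φ hφX, hTX φ' hφ'X, hσ.2.2.1 φ (hXz φ hφX) φ' (hXz φ' hφ'X)]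
    · rw [hTX φ hφX, hTY φ' hφ'Y, h1 φ hφX φ' hφ'Y,
        irr_orth (hirr φ (hXS hφX)) (hirr φ' (hYS hφ'Y))
          (fun h => hnotX φ' hφ'Y (h ▸ hφX))]
    · rw [hTY φ hφY, hTX φ' hφ'X, ← Helper74.classInner_conj_symm, h1 φ' hφ'X φ hφY, map_zero,
        irr_orth (hirr φ (hYS hφY)) (hirr φ' (hXS hφ'X))
          (fun h => hnotX φ hφY (h ▸ hφ'X))]
    · rw [hTY φ hφY, hTY φ' hφ'Y, hτ.2.2.1 φ (hYz φ hφY) φ' (hYz φ' hφ'Y)]
  have hTg : ∀ φ ∈ s, IsGeneralizedCharacter G (T φ) := by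
    intro φ hφ
    rcases (hmem φ).mp hφ with hφX | hφY
    · rw [hTX φ hφX]; exact hσ.2.2.2 φ (hXz φ hφX)
    · rw [hTY φ hφY]; exact hτ.2.2.2 φ (hYz φ hφY)
  have hiso := orthExt_isLinearIsometryOn s T horth hne' hTiso hTg
  rw [hsS] at hiso
  set τ₁ := orthExt s T with hτ₁
  have hτ₁mem : ∀ φ ∈ s, τ₁ φ = T φ := fun φ hφ => orthExt_apply_mem s T horth hne' hφ
  -- the two parts of s
  set sX : Finset (N → ℂ) := s.filter (· ∈ X) with hsX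
  set sY : Finset (N → ℂ) := s.filter (· ∉ X) with hsY
  have hsXm : ∀ φ, φ ∈ sX ↔ φ ∈ X := by
    intro φ
    rw [hsX, Finset.mem_filter, hmem]
    exact ⟨fun h => h.2, fun h => ⟨Or.inl h, h⟩⟩
  have hsYm : ∀ φ, φ ∈ sY ↔ φ ∈ Y := by
    intro φ
    rw [hsY, Finset.mem_filter, hmem]
    constructor
    · rintro ⟨h | h, h'⟩
      · exact absurd h h'
      · exact h
    · intro h; exact ⟨Or.inr h, hnotX φ h⟩
  have hsXc : (↑sX : Set (N → ℂ)) = X := by ext φ; exact hsXm φ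
  have hsYc : (↑sY : Set (N → ℂ)) = Y := by ext φ; exact hsYm φ
  have hXa : ∀ x ∈ zspan X, ∀ y ∈ zspan X, x + y ∈ zspan X := fun x hx y hy => zspan_add hx hy
  have hXs : ∀ x ∈ zspan X, ∀ n : ℤ, n • x ∈ zspan X := fun x hx n => zspan_zsmul hx n
  have hYa : ∀ x ∈ zspan Y, ∀ y ∈ zspan Y, x + y ∈ zspan Y := fun x hx y hy => zspan_add hx hy
  have hYs : ∀ x ∈ zspan Y, ∀ n : ℤ, n • x ∈ zspan Y := fun x hx n => zspan_zsmul hx n
  have hσagree : ∀ x ∈ zspan X, τ₁ x = σ x := by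
    intro x hx
    have hx' : x ∈ zspan (↑sX : Set (N → ℂ)) := by rw [hsXc]; exact hx
    obtain ⟨m, rfl⟩ := exists_coeff_of_mem_zspan hx'
    rw [hτ₁, orthExt_sum', isoOn_map_sum hσ hXa hXs sX (fun φ => φ) m
      (fun φ hφ => hXz φ ((hsXm φ).mp hφ)) (hXz χ₀ hχ₀)]
    refine Finset.sum_congr rfl (fun φ hφ => ?_)
    have hφX := (hsXm φ).mp hφ
    rw [← hτ₁, hτ₁mem φ ((hmem φ).mpr (Or.inl hφX)), hTX φ hφX]
  have hτagree : ∀ y ∈ zspan Y, τ₁ y = τ y := by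
    intro y hy
    have hy' : y ∈ zspan (↑sY : Set (N → ℂ)) := by rw [hsYc]; exact hy
    obtain ⟨m, rfl⟩ := exists_coeff_of_mem_zspan hy'
    rw [hτ₁, orthExt_sum', isoOn_map_sum hτ hYa hYs sY (fun φ => φ) m
      (fun φ hφ => hYz φ ((hsYm φ).mp hφ)) (hYz η₀ hη₀)]
    refine Finset.sum_congr rfl (fun φ hφ => ?_)
    have hφY := (hsYm φ).mp hφ
    rw [← hτ₁, hτ₁mem φ ((hmem φ).mpr (Or.inr hφY)), hTY φ hφY]
  -- degrees
  have hdeg : ∀ φ : N → ℂ, ∃ k : ℕ, φ ∈ X ∪ Y → (0 < k ∧ φ 1 = (k : ℂ)) := by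
    intro φ
    by_cases hφ : φ ∈ X ∪ Y
    · obtain ⟨k, hk0, hk⟩ := irr_deg (hirrXY φ hφ)
      exact ⟨k, fun _ => ⟨hk0, hk⟩⟩
    · exact ⟨0, fun h => absurd h hφ⟩
  choose d hd using hdeg
  obtain ⟨hc0, hc⟩ := hd χ₀ (Or.inl hχ₀)
  obtain ⟨he0, he⟩ := hd η₀ (Or.inr hη₀)
  set c := d χ₀ with hcdef
  set e := d η₀ with hedef
  -- the link in integer form
  have hcs : ∀ f : N → ℂ, (c : ℂ) • f = (c : ℤ) • f := by
    intro f; rw [← Int.cast_smul_eq_zsmul ℂ]; simp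
  have hes : ∀ f : N → ℂ, (e : ℂ) • f = (e : ℤ) • f := by
    intro f; rw [← Int.cast_smul_eq_zsmul ℂ]; simp
  have hcs' : ∀ f : G → ℂ, (c : ℂ) • f = (c : ℤ) • f := by
    intro f; rw [← Int.cast_smul_eq_zsmul ℂ]; simp
  have hes' : ∀ f : G → ℂ, (e : ℂ) • f = (e : ℤ) • f := by
    intro f; rw [← Int.cast_smul_eq_zsmul ℂ]; simp
  rw [hc, he, hcs, hes, hcs', hes'] at hlink
  set w : N → ℂ := (c : ℤ) • η₀ - (e : ℤ) • χ₀ with hw
  have hwS : w ∈ zspanOn S {1}ᶜ := by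
    refine ⟨zspan_sub (zspan_zsmul (mem_zspan_of_mem (hYS hη₀)) _)
      (zspan_zsmul (mem_zspan_of_mem (hXS hχ₀)) _), ?_⟩
    intro x hx
    have hx1 : x = 1 := by simpa using hx
    rw [hx1, hw]
    simp only [Pi.sub_apply, Pi.smul_apply]
    simp only [zsmul_eq_mul, hc, he]
    push_cast; ring
  have hSa : ∀ x ∈ zspanOn S ({1}ᶜ : Set N), ∀ y ∈ zspanOn S ({1}ᶜ : Set N),
      x + y ∈ zspanOn S ({1}ᶜ : Set N) := fun x hx y hy => zspanOn_add hx hy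
  have hSs : ∀ x ∈ zspanOn S ({1}ᶜ : Set N), ∀ n : ℤ, n • x ∈ zspanOn S ({1}ᶜ : Set N) :=
    fun x hx n => zspanOn_zsmul hx n
  refine ⟨?_, τ₁, hiso, ?_⟩
  · -- a nonzero member
    obtain ⟨a₁, ha₁, b₁, hb₁, hab⟩ := hX2
    obtain ⟨hp0, hp⟩ := hd a₁ (Or.inl ha₁)
    obtain ⟨hq0, hq⟩ := hd b₁ (Or.inl hb₁)
    refine ⟨(d b₁ : ℤ) • a₁ - (d a₁ : ℤ) • b₁, ⟨zspan_sub
      (zspan_zsmul (mem_zspan_of_mem (Or.inl ha₁)) _)
      (zspan_zsmul (mem_zspan_of_mem (Or.inl hb₁)) _), ?_⟩, ?_⟩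
    · intro x hx
      have hx1 : x = 1 := by simpa using hx
      rw [hx1]
      simp only [Pi.sub_apply, Pi.smul_apply]
      simp only [zsmul_eq_mul, hp, hq]
      push_cast; ring
    · intro h0
      have h2 : classInner ((d b₁ : ℤ) • a₁ - (d a₁ : ℤ) • b₁) a₁ = (d b₁ : ℂ) := by
        rw [Helper74.classInner_sub_left, classInner_zsmul_left, classInner_zsmul_left,
          irr_norm (hirr a₁ (hXS ha₁)),
          irr_orth (hirr b₁ (hXS hb₁)) (hirr a₁ (hXS ha₁)) (Ne.symm hab)]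
        simp
      rw [h0, Helper74.classInner_zero_left] at h2
      have : (d b₁ : ℂ) ≠ 0 := by exact_mod_cast hq0.ne'
      exact this h2.symm
  · intro θ hθ
    have hθS : θ ∈ zspanOn S {1}ᶜ := zspanOn_mono hXYS hθ
    have hθ' : θ ∈ zspan (↑s : Set (N → ℂ)) := by rw [hsS]; exact hθ.1
    obtain ⟨m, hm⟩ := exists_coeff_of_mem_zspan hθ'
    set θX : N → ℂ := ∑ φ ∈ sX, m φ • φ with hθX
    set θY : N → ℂ := ∑ φ ∈ sY, m φ • φ with hθY
    have hsplit : θ = θX + θY := by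
      rw [hm, hθX, hθY, hsX, hsY, Finset.sum_filter_add_sum_filter_not]
    have hθXz : θX ∈ zspan X :=
      zspan_sum _ (fun φ hφ => zspan_zsmul (hXz φ ((hsXm φ).mp hφ)) _)
    have hθYz : θY ∈ zspan Y :=
      zspan_sum _ (fun φ hφ => zspan_zsmul (hYz φ ((hsYm φ).mp hφ)) _)
    set u : ℤ := ∑ φ ∈ sX, m φ * (d φ : ℤ) with hu
    have hθX1 : θX 1 = (u : ℂ) := by
      rw [hθX, Finset.sum_apply, hu]
      push_cast
      refine Finset.sum_congr rfl (fun φ hφ => ?_)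
      rw [Pi.smul_apply, zsmul_eq_mul, (hd φ (Or.inl ((hsXm φ).mp hφ))).2]
    have hθY1 : θY 1 = -(u : ℂ) := by
      have h0 := hθ.2 1 (by simp)
      rw [hsplit, Pi.add_apply, hθX1] at h0
      linear_combination h0
    set x₀ : N → ℂ := ((c : ℤ) * (e : ℤ)) • θX - (u * (e : ℤ)) • χ₀ with hx₀
    set y₀ : N → ℂ := ((c : ℤ) * (e : ℤ)) • θY + (u * (c : ℤ)) • η₀ with hy₀
    have hx₀X : x₀ ∈ zspanOn X {1}ᶜ := by
      refine ⟨zspan_sub (zspan_zsmul hθXz _) (zspan_zsmul (hXz χ₀ hχ₀) _), ?_⟩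
      intro x hx
      have hx1 : x = 1 := by simpa using hx
      rw [hx1, hx₀]
      simp only [Pi.sub_apply, Pi.smul_apply]
      simp only [zsmul_eq_mul, hθX1, hc]
      push_cast; ring
    have hy₀Y : y₀ ∈ zspanOn Y {1}ᶜ := by
      refine ⟨zspan_add (zspan_zsmul hθYz _) (zspan_zsmul (hYz η₀ hη₀) _), ?_⟩
      intro x hx
      have hx1 : x = 1 := by simpa using hx
      rw [hx1, hy₀]
      simp only [Pi.add_apply, Pi.smul_apply]
      simp only [zsmul_eq_mul, hθY1, he]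
      push_cast; ring
    have hkey : ((c : ℤ) * (e : ℤ)) • θ = (x₀ + y₀) - u • w := by
      rw [hsplit, hx₀, hy₀, hw]
      module
    have hx₀S : x₀ ∈ zspanOn S {1}ᶜ := zspanOn_mono hXS hx₀X
    have hy₀S : y₀ ∈ zspanOn S {1}ᶜ := zspanOn_mono hYS hy₀Y
    have hαside : ((c : ℤ) * (e : ℤ)) • α θ =
        (σ x₀ + τ y₀) - u • ((c : ℤ) • τ η₀ - (e : ℤ) • σ χ₀) := by
      rw [← hα.2.1 θ hθS, hkey, isoOn_map_sub hα hSs (hSa _ hx₀S _ hy₀S) (hSs w hwS u),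
        hα.1 _ hx₀S _ hy₀S, hα.2.1 w hwS, hlink, hσα x₀ hx₀X, hτα y₀ hy₀Y]
    have hτside : ((c : ℤ) * (e : ℤ)) • τ₁ θ =
        (σ x₀ + τ y₀) - u • ((c : ℤ) • τ η₀ - (e : ℤ) • σ χ₀) := by
      have e1 : τ₁ (x₀ + y₀ - u • w) = τ₁ x₀ + τ₁ y₀ - u • τ₁ w := by
        rw [hτ₁, orthExt_sub s T (x₀ + y₀) (u • w), orthExt_add s T x₀ y₀, orthExt_zsmul s T u w]
      have e2 : τ₁ w = (c : ℤ) • τ₁ η₀ - (e : ℤ) • τ₁ χ₀ := by
        rw [hτ₁, hw, orthExt_sub s T ((c : ℤ) • η₀) ((e : ℤ) • χ₀), orthExt_zsmul, orthExt_zsmul]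
      have e3 : τ₁ (((c : ℤ) * (e : ℤ)) • θ) = ((c : ℤ) * (e : ℤ)) • τ₁ θ := by
        rw [hτ₁, orthExt_zsmul]
      rw [← e3, hkey, e1, e2, hσagree x₀ hx₀X.1, hτagree y₀ hy₀Y.1,
        hτagree η₀ (hYz η₀ hη₀), hσagree χ₀ (hXz χ₀ hχ₀)]
    have hce : ((c : ℤ) * (e : ℤ)) ≠ 0 := by
      have h1 : (c : ℤ) ≠ 0 := by exact_mod_cast hc0.ne'
      have h2 : (e : ℤ) ≠ 0 := by exact_mod_cast he0.ne'
      exact mul_ne_zero h1 h2
    have := hτside.trans hαside.symm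
    exact smul_right_injective (G → ℂ) hce this

/-- Let N be a subgroup of the finite group G, S a set of irreducible characters of N, and α a linear isometry on the integer combinations of S vanishing at 1 with values virtual characters of G vanishing at 1. Let X, Y ⊆ S be disjoint, each with at least two members, and σ, τ linear isometries on ℤ[X], ℤ[Y] into virtual characters agreeing with α on the members vanishing at 1. Then ⟨σ χ, τ η⟩ = 0 for χ ∈ X, η ∈ Y; and if for some χ₀ ∈ X, η₀ ∈ Y with degrees c = χ₀ 1, e = η₀ 1 one has α (c • η₀ − e • χ₀) = c • τ η₀ − e • σ χ₀, then (X ∪ Y, N minus 1, α) is coherent. -/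
theorem result {G : Type*} [Group G] [Fintype G] (N : Subgroup G) [Fintype N] (S X Y : Set (N → ℂ)) (hirr : ∀ ξ ∈ S, Cfsg.IsIrrCharacter N ξ) (hXS : X ⊆ S) (hYS : Y ⊆ S) (hXY : Disjoint X Y) (hX2 : ∃ a ∈ X, ∃ b ∈ X, a ≠ b) (hY2 : ∃ a ∈ Y, ∃ b ∈ Y, a ≠ b) (α : (N → ℂ) → (G → ℂ)) (hα : Cfsg.IsLinearIsometryOn (Cfsg.zspanOn S {1}ᶜ) α) (hα1 : ∀ θ ∈ Cfsg.zspanOn S {1}ᶜ, α θ 1 = 0) (σ τ : (N → ℂ) → (G → ℂ)) (hσ : Cfsg.IsLinearIsometryOn (Cfsg.zspan X) σ) (hσα : ∀ θ ∈ Cfsg.zspanOn X {1}ᶜ, σ θ = α θ) (hτ : Cfsg.IsLinearIsometryOn (Cfsg.zspan Y) τ) (hτα : ∀ θ ∈ Cfsg.zspanOn Y {1}ᶜ, τ θ = α θ) : (∀ χ ∈ X, ∀ η ∈ Y, Cfsg.classInner (σ χ) (τ η) = 0) ∧ ((∃ χ₀ ∈ X, ∃ η₀ ∈ Y, α (χ₀ 1 • η₀ - η₀ 1 • χ₀) = χ₀ 1 • τ η₀ - η₀ 1 • σ χ₀) → Cfsg.IsCoherent (X ∪ Y) {1}ᶜ α) := by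
  have h1 := part1 N S X Y hirr hXS hYS hXY hX2 hY2 α hα hα1 σ τ hσ hσα hτ hτα
  exact ⟨h1, fun hlink => part2 N S X Y hirr hXS hYS hXY hX2 α hα σ τ hσ hσα hτ hτα h1 hlink⟩

end Cfsg.Agent.S1531
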