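import Cfsg.Statements.S1486
import Cfsg.Agent.Helper25.ConjChar

set_option autoImplicit false
open Cfsg

namespace Cfsg.Agent.S1486

open Cfsg.Agent.Helper25
open scoped ComplexConjugate

/-- Let H be a normal subgroup of the finite group G and θ, φ irreducible characters of H. If φ is a G-conjugate of θ then the functions induced from θ and φ coincide; if φ is not a G-conjugate of θ then the induced functions are orthogonal. -/
theorem result {G : Type*} [Group G] [Fintype G] (H : Subgroup G) [hN : H.Normal] (θ φ : H → ℂ) (hθ : Cfsg.IsIrrCharacter H θ) (hφ : Cfsg.IsIrrCharacter H φ) : ((∃ g : G, φ = fun h : H => θ ⟨g * h * g⁻¹, hN.conj_mem h h.2 g⟩) → Cfsg.indFun H φ = Cfsg.indFun H θ) ∧ ((¬ ∃ g : G, φ = fun h : H => θ ⟨g * h * g⁻¹, hN.conj_mem h h.2 g⟩) → Cfsg.classInner (Cfsg.indFun H φ) (Cfsg.indFun H θ) = 0) := by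
  classical
  constructor
  · rintro ⟨g, rfl⟩
    exact indFun_conjFn H θ g
  · intro hnc
    have hfH : Fintype H := Fintype.ofFinite H
    rw [Helper15.frobenius_reciprocity H φ _ (Helper15.isClassFunction_indFun H θ)]
    rw [restrict_indFun_normal H θ]
    rw [setOf_conj_eq_conjOrbit, finsum_mem_coe_finset, Helper74.classInner_smul_right, Helper74.classInner_sum_right]
    have hz : ∀ ψ ∈ conjOrbit H θ, Cfsg.classInner φ ψ = 0 := by
      intro ψ hψ
      obtain ⟨g, rfl⟩ := (mem_conjOrbit H θ ψ).mp hψ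
      have hirr : Cfsg.IsIrrCharacter H (conjFn H θ g) := isIrrCharacter_conjFn H hθ g
      have hne : (⟨φ, hφ⟩ : Cfsg.IrrCharacter H) ≠ ⟨conjFn H θ g, hirr⟩ := by
        intro h
        apply hnc
        exact ⟨g, congrArg Subtype.val h⟩
      exact Helper74.irr_inner_ne hne
    rw [Finset.sum_eq_zero hz, mul_zero]

end Cfsg.Agent.S1486
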