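import Cfsg.Statements.S1487
import Cfsg.Agent.Helper80.CharLevel
import Cfsg.Agent.Helper15.IndFun

set_option autoImplicit false
open Cfsg

namespace Cfsg.Agent.S1487

open Cfsg.Agent.Helper15

/-- If complex numbers `y x` all have norm at most `d` and sum to `card * d`, they all equal `d`. -/
theorem eq_of_sum_eq {ι : Type*} [Fintype ι] (y : ι → ℂ) (d : ℝ) (hy : ∀ i, ‖y i‖ ≤ d)
    (hs : ∑ i, y i = (Fintype.card ι : ℂ) * (d : ℂ)) : ∀ i, y i = (d : ℂ) := by
  have hre : ∀ i, (y i).re ≤ d := fun i => (Complex.re_le_norm _).trans (hy i)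
  have hsum : ∑ i, (d - (y i).re) = 0 := by
    rw [Finset.sum_sub_distrib, Finset.sum_const, Finset.card_univ, nsmul_eq_mul]
    have h1 : (∑ i, y i).re = ∑ i, (y i).re := Complex.re_sum _ _
    rw [← h1, hs]
    simp
  have hzero : ∀ i, d - (y i).re = 0 := by
    intro i
    have := (Finset.sum_eq_zero_iff_of_nonneg (fun i _ => sub_nonneg.mpr (hre i))).mp hsum i
      (Finset.mem_univ i)
    exact this
  intro i
  have hrei : (y i).re = d := by linarith [hzero i]
  have hnorm := hy i
  have him : (y i).im = 0 := by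
    have h2 : ‖y i‖ ^ 2 = (y i).re ^ 2 + (y i).im ^ 2 := by
      rw [Complex.sq_norm, Complex.normSq_apply]; ring
    have hd0 : 0 ≤ d := (norm_nonneg _).trans hnorm
    have h3 : ‖y i‖ ^ 2 ≤ d ^ 2 := pow_le_pow_left₀ (norm_nonneg _) hnorm 2
    rw [h2, hrei] at h3
    have : (y i).im ^ 2 ≤ 0 := by linarith
    have h4 : (y i).im ^ 2 = 0 := le_antisymm this (sq_nonneg _)
    exact pow_eq_zero_iff (two_ne_zero) |>.mp h4
  apply Complex.ext
  · simpa using hrei
  · simpa using him

/-- Let A ≤ H be normal subgroups of the finite group G and θ an irreducible character of H. Then θ takes the value θ 1 on all of A if and only if the function induced from θ to G takes its value at 1 on all of A. -/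
theorem result {G : Type*} [Group G] [Fintype G] (A H : Subgroup G) [A.Normal] [H.Normal] (hAH : A ≤ H) (θ : H → ℂ) (hθ : Cfsg.IsIrrCharacter H θ) : (∀ a : H, (a : G) ∈ A → θ a = θ 1) ↔ (∀ a : G, a ∈ A → Cfsg.indFun H θ a = Cfsg.indFun H θ 1) := by
  have hAn : ∀ (a : G), a ∈ A → ∀ x : G, x⁻¹ * a * x ∈ A := by
    intro a ha x
    have := (inferInstance : A.Normal).conj_mem a ha x⁻¹
    simpa using this
  have hone : ∀ x : G, extendByZero H θ (x⁻¹ * 1 * x) = θ 1 := by
    intro x
    have : x⁻¹ * 1 * x = ((1 : H) : G) := by simp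
    rw [this, extendByZero_coe]
  constructor
  · intro h a ha
    rw [indFun_apply, indFun_apply]
    congr 1
    apply Finset.sum_congr rfl
    intro x _
    rw [hone, extendByZero_of_mem H θ (hAH (hAn a ha x))]
    exact h ⟨_, hAH (hAn a ha x)⟩ (hAn a ha x)
  · intro h a ha
    have hc : Cfsg.IsCharacter H θ := Helper80.IsIrrCharacter.isCharacter hθ
    have hd := Helper80.IsCharacter.charDegree_cast hc
    have h1 := h (a : G) ha
    rw [indFun_apply, indFun_apply] at h1
    have hH : (Nat.card H : ℂ)⁻¹ ≠ 0 := by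
      apply inv_ne_zero
      have : Nat.card H ≠ 0 := Nat.card_pos.ne'
      exact_mod_cast this
    have h2 := mul_left_cancel₀ hH h1
    simp only [hone] at h2
    rw [Finset.sum_const, Finset.card_univ, nsmul_eq_mul] at h2
    -- each term is θ of an element of A
    have hterm : ∀ x : G, extendByZero H θ (x⁻¹ * (a : G) * x) =
        θ ⟨x⁻¹ * (a : G) * x, hAH (hAn a ha x)⟩ := fun x =>
      extendByZero_of_mem H θ (hAH (hAn a ha x))
    simp only [hterm] at h2
    have hbound : ∀ x : G, ‖θ ⟨x⁻¹ * (a : G) * x, hAH (hAn a ha x)⟩‖ ≤ (Cfsg.charDegree θ : ℝ) :=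
      fun x => Helper80.IsCharacter.norm_le hc _
    have h3 : ∑ x : G, θ ⟨x⁻¹ * (a : G) * x, hAH (hAn a ha x)⟩ =
        (Fintype.card G : ℂ) * ((Cfsg.charDegree θ : ℝ) : ℂ) := by
      rw [h2]
      congr 1
      rw [← hd]
      simp
    have h4 := eq_of_sum_eq _ _ hbound h3 1
    have h5 : (⟨(1 : G)⁻¹ * (a : G) * 1, hAH (hAn a ha 1)⟩ : H) = a := by
      apply Subtype.ext
      simp
    rw [h5] at h4
    rw [h4, ← hd]
    simp

end Cfsg.Agent.S1487
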