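import Cfsg.Statements.S0160
import Cfsg.Agent.Helper74.FSCount
import Cfsg.Agent.Helper80.Integrality
import Cfsg.Agent.Helper3.Orthogonality

set_option autoImplicit false
open Cfsg

namespace Cfsg.Agent.S0160

open Cfsg.Agent.Helper80 in
theorem card_centralizer_conj {G : Type*} [Group G] [Fintype G] (g x : G) :
    Nat.card (Subgroup.centralizer ({x * g * x⁻¹} : Set G)) =
      Nat.card (Subgroup.centralizer ({g} : Set G)) := by
  have h1 := Subgroup.card_mul_index (Subgroup.centralizer ({x * g * x⁻¹} : Set G))
  have h2 := Subgroup.card_mul_index (Subgroup.centralizer ({g} : Set G))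
  rw [← card_classFinset] at h1 h2
  have h3 : classFinset (x * g * x⁻¹) = classFinset g := by
    ext y
    rw [mem_classFinset, mem_classFinset]
    have h1 : IsConj g (x * g * x⁻¹) := isConj_iff.mpr ⟨x, rfl⟩
    exact ⟨fun h => h1.trans h, fun h => h1.symm.trans h⟩
  rw [h3] at h1
  have hpos : 0 < (classFinset g).card := by
    apply Finset.card_pos.mpr
    exact ⟨g, mem_classFinset.mpr (IsConj.refl g)⟩
  exact Nat.eq_of_mul_eq_mul_right hpos (h1.trans h2.symm)

theorem isConj_inv_conj_iff {G : Type*} [Group G] (g x : G) :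
    IsConj (x * g * x⁻¹) (x * g * x⁻¹)⁻¹ ↔ IsConj g g⁻¹ := by
  have h1 : IsConj g (x * g * x⁻¹) := isConj_iff.mpr ⟨x, rfl⟩
  have h2 : IsConj g⁻¹ (x * g * x⁻¹)⁻¹ := by
    rw [isConj_iff]
    exact ⟨x, by group⟩
  constructor
  · intro h
    exact (h1.trans h).trans h2.symm
  · intro h
    exact (h1.symm.trans h).trans h2

/-- A finite group has as many real-valued irreducible complex characters as conjugacy classes closed under taking inverses. -/
theorem result {G : Type*} [Group G] [Finite G] : Nat.card {χ : Cfsg.IrrCharacter G // ∀ g : G, ((χ : G → ℂ) g).im = 0} = Nat.card {C : ConjClasses G // ∀ g : G, ConjClasses.mk g = C → IsConj g g⁻¹} := by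
  classical
  have : Fintype G := Fintype.ofFinite G
  have : Fintype (Cfsg.IrrCharacter G) := Fintype.ofFinite _
  have : Fintype (ConjClasses G) := Fintype.ofFinite _
  have hG : (Nat.card G : ℂ) ≠ 0 := by exact_mod_cast Nat.card_pos.ne'
  have h1 := Cfsg.Agent.Helper74.sum_real_elements_centralizer (G := G)
  have h2 := Cfsg.Agent.Helper80.sum_eq_sum_classes (G := G)
    (fun g => if IsConj g g⁻¹ then (Nat.card (Subgroup.centralizer ({g} : Set G)) : ℂ) else 0)
    (by
      intro g x
      simp only [isConj_inv_conj_iff, card_centralizer_conj])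
  rw [h2] at h1
  have h3 : ∀ C : ConjClasses G,
      (Cfsg.Agent.Helper80.classFinset (Quotient.out C)).card •
        (if IsConj (Quotient.out C) (Quotient.out C)⁻¹ then
          (Nat.card (Subgroup.centralizer ({Quotient.out C} : Set G)) : ℂ) else 0) =
      if (∀ g : G, ConjClasses.mk g = C → IsConj g g⁻¹) then (Nat.card G : ℂ) else 0 := by
    intro C
    have hiff : IsConj (Quotient.out C) (Quotient.out C)⁻¹ ↔
        (∀ g : G, ConjClasses.mk g = C → IsConj g g⁻¹) := by
      constructor
      · intro h g hg
        have hgc : IsConj (Quotient.out C) g := by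
          rw [← ConjClasses.mk_eq_mk_iff_isConj, hg]
          exact Quotient.out_eq C
        obtain ⟨x, hx⟩ := isConj_iff.mp hgc
        rw [← hx, isConj_inv_conj_iff]
        exact h
      · intro h
        exact h _ (Quotient.out_eq C)
    by_cases hc : IsConj (Quotient.out C) (Quotient.out C)⁻¹
    · rw [if_pos hc, if_pos (hiff.mp hc), Cfsg.Agent.Helper80.card_classFinset, nsmul_eq_mul,
        mul_comm]
      have := Subgroup.card_mul_index (Subgroup.centralizer ({Quotient.out C} : Set G))
      exact_mod_cast this
    · rw [if_neg hc, if_neg (fun h => hc (hiff.mpr h)), smul_zero]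
  simp only [h3] at h1
  rw [← Finset.sum_filter, Finset.sum_const, nsmul_eq_mul, mul_comm] at h1
  have h4 := mul_left_cancel₀ hG h1
  rw [Nat.card_eq_fintype_card, Nat.card_eq_fintype_card, Fintype.card_subtype,
    Fintype.card_subtype]
  exact_mod_cast h4.symm

end Cfsg.Agent.S0160
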