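import Cfsg.Statements.S0161
import Cfsg.Agent.S0160

set_option autoImplicit false
open Cfsg

namespace Cfsg.Agent.S0161

/-- In a group of odd order, an element conjugate to its inverse is trivial. -/
theorem eq_one_of_isConj_inv {G : Type*} [Group G] [Finite G] (hodd : Odd (Nat.card G)) (g : G)
    (h : IsConj g g⁻¹) : g = 1 := by
  obtain ⟨x, hx⟩ := isConj_iff.mp h
  -- x ^ 2 commutes with g
  have h2 : x ^ 2 * g = g * x ^ 2 := by
    have h3 : x * g = g⁻¹ * x := by
      rw [← hx]; group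
    have h4 : x * g⁻¹ = g * x := by
      have h6 : g * (x * g) = x := by rw [h3]; group
      calc x * g⁻¹ = (g * (x * g)) * g⁻¹ := by rw [h6]
        _ = g * x := by group
    calc x ^ 2 * g = x * (x * g) := by rw [sq, mul_assoc]
      _ = x * (g⁻¹ * x) := by rw [h3]
      _ = (x * g⁻¹) * x := by rw [mul_assoc]
      _ = g * x * x := by rw [h4]
      _ = g * x ^ 2 := by rw [sq, mul_assoc]
  -- x is a power of x ^ 2
  have hxodd : Odd (orderOf x) := Odd.of_dvd_nat hodd (orderOf_dvd_natCard x)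
  obtain ⟨k, hk⟩ := hxodd
  have hxpow : x = (x ^ 2) ^ (k + 1) := by
    rw [← pow_mul, show 2 * (k + 1) = orderOf x + 1 by omega, pow_succ, pow_orderOf_eq_one, one_mul]
  have hcomm : x * g = g * x := by
    have : Commute (x ^ 2) g := h2
    have h5 : Commute ((x ^ 2) ^ (k + 1)) g := this.pow_left (k + 1)
    rw [← hxpow] at h5
    exact h5
  have hg2 : g = g⁻¹ := by
    rw [← hx, hcomm, mul_assoc, mul_inv_cancel, mul_one]
  have hg3 : g ^ 2 = 1 := by
    rw [sq]
    nth_rewrite 1 [hg2]
    exact inv_mul_cancel g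
  have hg4 : orderOf g ∣ 2 := orderOf_dvd_of_pow_eq_one hg3
  have hg5 : Odd (orderOf g) := Odd.of_dvd_nat hodd (orderOf_dvd_natCard g)
  have hg6 : orderOf g = 1 := by
    rcases (Nat.dvd_prime Nat.prime_two).mp hg4 with h1 | h1
    · exact h1
    · rw [h1] at hg5; exact absurd hg5 (by decide)
  exact orderOf_eq_one_iff.mp hg6

/-- In a finite group of odd order, a real-valued irreducible complex character is the trivial character. -/
theorem result {G : Type*} [Group G] [Finite G] (hodd : Odd (Nat.card G)) (χ : Cfsg.IrrCharacter G) (hreal : ∀ g : G, ((χ : G → ℂ) g).im = 0) : (χ : G → ℂ) = fun _ => 1 := by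
  classical
  have : Fintype G := Fintype.ofFinite G
  have hcard := Cfsg.Agent.S0160.result (G := G)
  have hsub : Subsingleton {C : ConjClasses G // ∀ g : G, ConjClasses.mk g = C → IsConj g g⁻¹} := by
    constructor
    rintro ⟨C, hC⟩ ⟨D, hD⟩
    apply Subtype.ext
    obtain ⟨c, rfl⟩ := ConjClasses.mk_surjective C
    obtain ⟨d, rfl⟩ := ConjClasses.mk_surjective D
    change ConjClasses.mk c = ConjClasses.mk d
    rw [eq_one_of_isConj_inv hodd c (hC c rfl), eq_one_of_isConj_inv hodd d (hD d rfl)]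
  have hle : Nat.card {C : ConjClasses G // ∀ g : G, ConjClasses.mk g = C → IsConj g g⁻¹} ≤ 1 :=
    Finite.card_le_one_iff_subsingleton.mpr hsub
  rw [← hcard] at hle
  have hsub2 : Subsingleton {χ : Cfsg.IrrCharacter G // ∀ g : G, ((χ : G → ℂ) g).im = 0} :=
    Finite.card_le_one_iff_subsingleton.mp hle
  have h1 : (⟨χ, hreal⟩ : {χ : Cfsg.IrrCharacter G // ∀ g : G, ((χ : G → ℂ) g).im = 0}) =
      ⟨Cfsg.Agent.Helper74.irrTriv G, fun g => by simp⟩ := Subsingleton.elim _ _
  have h2 : χ = Cfsg.Agent.Helper74.irrTriv G := congrArg Subtype.val h1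
  rw [h2]
  rfl

end Cfsg.Agent.S0161
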