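import Cfsg.Statements.S1514
import Cfsg.Agent.Helper25.GenCharTwo

set_option autoImplicit false
open Cfsg

namespace Cfsg.Agent.S1514

open Cfsg.Agent.Helper25
open scoped ComplexConjugate

theorem classInner_conjFun_conjFun {L : Type*} [Group L] [Fintype L] (f g : L → ℂ) :
    classInner (conjFun f) (conjFun g) = conj (classInner f g) := by
  simp only [Helper74.classInner_def, conjFun, map_mul, map_sum, map_inv₀, Complex.conj_natCast,
    Complex.conj_conj]

theorem conjFun_conjFun {X : Type*} (f : X → ℂ) : conjFun (conjFun f) = f := by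
  funext x; simp [conjFun]

theorem irr_inner {L : Type*} [Group L] [Fintype L] {χ φ : L → ℂ} (hχ : IsIrrCharacter L χ)
    (hφ : IsIrrCharacter L φ) [Decidable (χ = φ)] :
    classInner χ φ = if χ = φ then 1 else 0 := by
  classical
  have h := Helper74.irr_orthonormal (⟨χ, hχ⟩ : IrrCharacter L) ⟨φ, hφ⟩
  simp only [Subtype.mk.injEq] at h
  rw [h]

/-- Let S be a nonempty set of irreducible characters of the finite group L, closed under complex conjugation and containing no real-valued member, and τ a linear isometry on the integer combinations of S vanishing at 1, with values virtual characters of G vanishing at 1. Then there is a choice R making (S, τ, R) a coherence system. -/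
theorem result {L : Type*} [Group L] [Fintype L] {G : Type*} [Group G] [Fintype G] (S : Set (L → ℂ)) (hS : S.Nonempty) (hirr : ∀ χ ∈ S, Cfsg.IsIrrCharacter L χ) (hconj : ∀ χ ∈ S, Cfsg.conjFun χ ∈ S ∧ Cfsg.conjFun χ ≠ χ) (τ : (L → ℂ) → (G → ℂ)) (hτ : Cfsg.IsLinearIsometryOn (Cfsg.zspanOn S {1}ᶜ) τ) (hτ1 : ∀ α ∈ Cfsg.zspanOn S {1}ᶜ, τ α 1 = 0) : ∃ R : (L → ℂ) → Finset (G → ℂ), Cfsg.IsCoherenceSystem S τ R := by
  classical
  obtain ⟨hadd, hsmul, hinner, hgen⟩ := hτ
  -- χ - conj χ lies in the domain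
  have hmem : ∀ χ ∈ S, χ - conjFun χ ∈ zspanOn S {1}ᶜ := by
    intro χ hχ
    refine ⟨Submodule.sub_mem _ (Submodule.subset_span hχ) (Submodule.subset_span (hconj χ hχ).1),
      ?_⟩
    intro x hx
    have hx1 : x = 1 := by simpa using hx
    subst hx1
    obtain ⟨n, hn⟩ := Helper74.isCharacter_apply_one (Helper74.isCharacter_of_isIrr (hirr χ hχ))
    simp [conjFun, hn]
  -- the norm is two
  have hnorm : ∀ χ ∈ S, classInner (τ (χ - conjFun χ)) (τ (χ - conjFun χ)) = 2 := by
    intro χ hχ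
    have hχc := (hconj χ hχ).1
    rw [hinner _ (hmem χ hχ) _ (hmem χ hχ), Helper74.classInner_sub_left,
      Helper74.classInner_sub_right, Helper74.classInner_sub_right,
      irr_inner (hirr χ hχ) (hirr χ hχ), irr_inner (hirr χ hχ) (hirr _ hχc),
      irr_inner (hirr _ hχc) (hirr χ hχ), irr_inner (hirr _ hχc) (hirr _ hχc),
      if_pos rfl, if_pos rfl, if_neg (fun h => (hconj χ hχ).2 h.symm), if_neg (hconj χ hχ).2]
    norm_num
  have hpair : ∀ χ ∈ S, ∃ α₁ α₂ : G → ℂ, SignedIrr G α₁ ∧ SignedIrr G α₂ ∧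
      classInner α₁ α₂ = 0 ∧ τ (χ - conjFun χ) = α₁ + α₂ := fun χ hχ =>
    exists_two_signedIrr (hgen _ (hmem χ hχ)) (hnorm χ hχ)
  choose! a₁ a₂ hs₁ hs₂ horth hsum using hpair
  have hne : ∀ χ ∈ S, a₁ χ ≠ a₂ χ := by
    intro χ hχ h
    have h1 := signedIrr_inner_self (hs₁ χ hχ)
    have h0 := horth χ hχ
    rw [← h, h1] at h0
    exact one_ne_zero h0
  have horth' : ∀ χ ∈ S, classInner (a₂ χ) (a₁ χ) = 0 := by
    intro χ hχ
    rw [← Helper74.classInner_conj_symm, horth χ hχ, map_zero]
  have hone : ∀ χ ∈ S, a₁ χ 1 + a₂ χ 1 = 0 := by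
    intro χ hχ
    have := hτ1 _ (hmem χ hχ)
    rw [hsum χ hχ] at this
    exact this
  refine ⟨fun χ => {a₁ χ, a₂ χ}, ?_⟩
  refine
    { nonempty := hS
      isCharacter := fun χ hχ => Helper74.isCharacter_of_isIrr (hirr χ hχ)
      conj_mem := fun χ hχ => (hconj χ hχ).1
      conj_ne := fun χ hχ => (hconj χ hχ).2
      isometry := ⟨hadd, hsmul, hinner, hgen⟩
      map_one := hτ1
      orthogonal := ?_
      orthonormal := ?_
      virtual := ?_
      sum_eq := ?_
      disjoint := ?_ }
  · intro χ hχ φ hφ hne'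
    rw [irr_inner (hirr χ hχ) (hirr φ hφ), if_neg hne']
  · intro χ hχ α hα β hβ
    simp only [Finset.mem_insert, Finset.mem_singleton] at hα hβ
    rcases hα with rfl | rfl <;> rcases hβ with rfl | rfl
    · rw [if_pos rfl]; exact signedIrr_inner_self (hs₁ χ hχ)
    · rw [if_neg (hne χ hχ)]; exact horth χ hχ
    · rw [if_neg (fun h => hne χ hχ h.symm)]; exact horth' χ hχ
    · rw [if_pos rfl]; exact signedIrr_inner_self (hs₂ χ hχ)
  · intro χ hχ α hα
    simp only [Finset.mem_insert, Finset.mem_singleton] at hα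
    rcases hα with rfl | rfl
    · exact SignedIrr.isGenChar (hs₁ χ hχ)
    · exact SignedIrr.isGenChar (hs₂ χ hχ)
  · intro χ hχ
    rw [Finset.sum_pair (hne χ hχ)]
    exact hsum χ hχ
  · intro χ hχ φ hφ h1 h2 α hα β hβ
    have hχc := (hconj χ hχ).1
    have hφc := (hconj φ hφ).1
    have h3 : classInner (conjFun φ) (conjFun χ) = 0 := by
      rw [classInner_conjFun_conjFun, h1, map_zero]
    have h4 : classInner (conjFun φ) χ = 0 := by
      have := classInner_conjFun_conjFun φ (conjFun χ)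
      rw [conjFun_conjFun, h2, map_zero] at this
      exact this
    have hsums : classInner (a₁ φ + a₂ φ) (a₁ χ + a₂ χ) = 0 := by
      rw [← hsum φ hφ, ← hsum χ hχ, hinner _ (hmem φ hφ) _ (hmem χ hχ),
        Helper74.classInner_sub_left, Helper74.classInner_sub_right,
        Helper74.classInner_sub_right, h1, h2, h3, h4]
      ring
    obtain ⟨k1, k2, k3, k4⟩ := signedIrr_pairs_orthogonal (hs₁ φ hφ) (hs₂ φ hφ) (hs₁ χ hχ)
      (hs₂ χ hχ) (horth φ hφ) (horth χ hχ) (hone φ hφ) (hone χ hχ) hsums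
    simp only [Finset.mem_insert, Finset.mem_singleton] at hα hβ
    rcases hα with rfl | rfl <;> rcases hβ with rfl | rfl
    · exact k1
    · exact k2
    · exact k3
    · exact k4

end Cfsg.Agent.S1514
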