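import Cfsg.Statements.S0921
import Cfsg.Agent.Helper16.Covering2
import Cfsg.Agent.Helper16.Idempotent
import Cfsg.Agent.Lib.Cores

set_option autoImplicit false
open Cfsg

namespace Cfsg.Agent.S0921

open Cfsg.Agent.Helper16 Cfsg.Agent.Helper15
open scoped ComplexConjugate

/-- General form: `N ⊴ G` of order prime to `p`. -/
theorem main {G : Type*} [Group G] [Fintype G] (p : ℕ) (M : Ideal AlgInt) (hM : IsPModular p M)
    (N : Subgroup G) [hN : N.Normal] [Fintype N] (hpN : ¬ p ∣ Nat.card N)
    (χ ψ : IrrCharacter G) (h : SameBlock M (χ : G → ℂ) (ψ : G → ℂ)) (θ : IrrCharacter N) :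
    classInner (fun n : N => (χ : G → ℂ) n) (θ : N → ℂ) ≠ 0 ↔
      classInner (fun n : N => (ψ : G → ℂ) n) (θ : N → ℂ) ≠ 0 := by
  classical
  haveI hMp : M.IsPrime := IsPModular.isPrime hM
  let O : Set (IrrCharacter N) := {θ' | ∃ g : G, θ' = irrConj N g θ}
  have hO : GStable N O := by
    rintro θ' ⟨g, rfl⟩ k
    exact ⟨g * k, irrConj_irrConj N g k θ⟩
  have hR : ∀ n : N, MemLocalRing M (blockCoeff O n) := by
    intro n
    rw [blockCoeff_eq_sum]
    refine memLocalRing_mul (memLocalRing_inv_natCast hM hpN) (memLocalRing_sum _ _ (fun θ' _ => ?_))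
    refine memLocalRing_mul (memLocalRing_mul ?_ ?_) ?_
    · by_cases hθ' : θ' ∈ O
      · rw [if_pos hθ']; exact memLocalRing_one
      · rw [if_neg hθ']; exact memLocalRing_zero
    · exact memLocalRing_of_isIntegral
        (Helper80.IsCharacter.isIntegral (Helper79.irr_isCharacter θ') 1)
    · exact memLocalRing_of_isIntegral (map_isIntegral_int (starRingEnd ℂ)
        (Helper80.IsCharacter.isIntegral (Helper79.irr_isCharacter θ') n))
  have hiff : ∀ η : IrrCharacter G, LiesOver N (η : G → ℂ) O ↔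
      classInner (fun n : N => (η : G → ℂ) n) (θ : N → ℂ) ≠ 0 := by
    intro η
    constructor
    · rintro ⟨θ', ⟨g, rfl⟩, hθ'⟩
      rw [irrConj_coe, classInner_restrict_conjFun N (irr_isClassFunction η)] at hθ'
      exact hθ'
    · intro hη
      exact ⟨θ, ⟨1, (irrConj_one N θ).symm⟩, hη⟩
  rw [← hiff χ, ← hiff ψ]
  exact liesOver_iff_of_sameBlock N hO hR h

/-- Let N = O_p'(G) be the largest normal subgroup of the finite group G of order prime to p, and fix a maximal ideal M of the algebraic integers containing p. If two irreducible characters χ, ψ of G lie in the same block relative to M, then an irreducible character of N occurs in the restriction of χ exactly when it occurs in the restriction of ψ. -/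
theorem result {G : Type*} [Group G] [Finite G] (p : ℕ) [Fact p.Prime] (M : Ideal Cfsg.AlgInt) (hM : Cfsg.IsPModular p M) [Fintype G] (χ ψ : Cfsg.IrrCharacter G) (h : Cfsg.SameBlock M (χ : G → ℂ) (ψ : G → ℂ)) (θ : Cfsg.IrrCharacter (Cfsg.pPrimeCore p G)) [Fintype (Cfsg.pPrimeCore p G)] : Cfsg.classInner (fun n : Cfsg.pPrimeCore p G => (χ : G → ℂ) n) (θ : Cfsg.pPrimeCore p G → ℂ) ≠ 0 ↔ Cfsg.classInner (fun n : Cfsg.pPrimeCore p G => (ψ : G → ℂ) n) (θ : Cfsg.pPrimeCore p G → ℂ) ≠ 0 := by
  haveI : (pPrimeCore p G).Characteristic := Cfsg.Agent.Lib.pPrimeCore_characteristic p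
  haveI : (pPrimeCore p G).Normal := Subgroup.normal_of_characteristic _
  have hcop := Cfsg.Agent.Lib.card_pPrimeCore_coprime (G := G) p
  have hpN : ¬ p ∣ Nat.card (pPrimeCore p G) := by
    intro hd
    have hp : p.Prime := Fact.out
    have := Nat.Coprime.eq_one_of_dvd hcop.symm hd
    exact hp.one_lt.ne' this
  exact main p M hM (pPrimeCore p G) hpN χ ψ h θ

end Cfsg.Agent.S0921
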