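import Cfsg.Statements.S0970
import Cfsg.Agent.Helper78.Fong

set_option autoImplicit false
open Cfsg

namespace Cfsg.Agent.S0970

open Cfsg.Agent.Helper78 in
/-- Let N be a normal subgroup of the finite group G and fix a maximal ideal M of the algebraic integers containing the prime p. Let b be a block of N that is invariant under conjugation by G, and B a block of G covering b (some χ ∈ B has a constituent in b) whose defect is at least that of every block covering b. If P is a defect group of B, then p does not divide the index of P ⊔ N, the subgroup P ∩ N of N is a defect group of b, and the defect of B equals the defect of b plus the exponent of p in the index of N. -/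
theorem result {G : Type*} [Group G] [Fintype G] (p : ℕ) [Fact p.Prime] (M : Ideal Cfsg.AlgInt) (hM : Cfsg.IsPModular p M) (N : Subgroup G) [hN : N.Normal] [Fintype N] (b : Set (Cfsg.IrrCharacter N)) (hb : Cfsg.IsPBlock M b) (hinv : ∀ g : G, ∀ θ ∈ b, ∀ θ' : Cfsg.IrrCharacter N, (∀ n : N, (θ' : N → ℂ) n = (θ : N → ℂ) ⟨g * n * g⁻¹, hN.conj_mem n n.2 g⟩) → θ' ∈ b) (B : Set (Cfsg.IrrCharacter G)) (hB : Cfsg.IsPBlock M B) (hcov : ∃ χ ∈ B, ∃ θ ∈ b, Cfsg.classInner (fun n : N => (χ : G → ℂ) n) (θ : N → ℂ) ≠ 0) (hmax : ∀ B' : Set (Cfsg.IrrCharacter G), Cfsg.IsPBlock M B' → (∃ χ ∈ B', ∃ θ ∈ b, Cfsg.classInner (fun n : N => (χ : G → ℂ) n) (θ : N → ℂ) ≠ 0) → Cfsg.blockDefect p B' ≤ Cfsg.blockDefect p B) (P : Subgroup G) (hP : Cfsg.IsDefectGroup p M B P) : ¬ p ∣ (P ⊔ N).index ∧ Cfsg.IsDefectGroup p M b ((P ⊓ N).subgroupOf N) ∧ Cfsg.blockDefect p B = Cfsg.blockDefect p b + N.index.factorization p := by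
  classical
  haveI hMp : M.IsPrime := isPrime_of_isPModular hM
  have hp : p.Prime := Fact.out
  have hst : Helper16.GStable N b := fun θ hθ g =>
    hinv g θ hθ (Helper16.irrConj N g θ) (fun n => rfl)
  obtain ⟨χ, hχB, θ, hθ, h⟩ := hcov
  obtain ⟨n, hdc, hPle, hcount⟩ := fong_upper N hM hb hst hB χ hχB θ hθ h P hP
  obtain ⟨B'', hB'', ⟨χ'', hχ''B, θ'', hθ'', h''⟩, hlow⟩ := fong_lower (p := p) N hM hb hst
  have h1 := hmax B'' hB'' ⟨χ'', hχ''B, θ'', hθ'', h''⟩
  have hdb : blockDefect p b =
      (Nat.card (Subgroup.centralizer ({n} : Set N))).factorization p :=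
    blockDefect_eq_of_defectClass hM hb hdc
  have hPcard : Nat.card P = p ^ blockDefect p B := Helper77.card_defectGroup hM hB P hP
  have hN0 : N.index ≠ 0 := Subgroup.index_ne_zero_of_finite
  have hc0' : Nat.card (Subgroup.centralizer ({n} : Set N)) ≠ 0 := Nat.card_pos.ne'
  -- decomposition of `|P|`
  have hrs : Nat.card P = N.relIndex P * Nat.card (P ⊓ N : Subgroup G) :=
    Helper16.card_eq_relIndex_mul_card_inf N P
  have hr1 : N.relIndex P ∣ p ^ blockDefect p B := by
    rw [← hPcard]; exact Subgroup.relIndex_dvd_card N P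
  have hs1 : Nat.card (P ⊓ N : Subgroup G) ∣ p ^ blockDefect p B := by
    rw [← hPcard]; exact Subgroup.card_dvd_of_le inf_le_left
  obtain ⟨i, -, hi⟩ := (Nat.dvd_prime_pow hp).mp hr1
  obtain ⟨j, -, hj⟩ := (Nat.dvd_prime_pow hp).mp hs1
  have hia : i ≤ N.index.factorization p := by
    rw [← hp.pow_dvd_iff_le_factorization hN0, ← hi]
    exact Subgroup.relIndex_dvd_index_of_normal N P
  have hcard' : Nat.card (Subgroup.centralizer ({n} : Set N)) =
      Nat.card (Subgroup.centralizer ({(n : G)} : Set G) ⊓ N : Subgroup G) :=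
    Helper16.card_centralizer_subgroup N n
  have hjc : j ≤ (Nat.card (Subgroup.centralizer ({n} : Set N))).factorization p := by
    rw [← hp.pow_dvd_iff_le_factorization hc0', ← hj, hcard']
    exact Subgroup.card_dvd_of_le (inf_le_inf_right N hPle)
  have hd : blockDefect p B = i + j := by
    apply Nat.pow_right_injective hp.two_le
    show p ^ blockDefect p B = p ^ (i + j)
    rw [pow_add, ← hi, ← hj, ← hrs, hPcard]
  have hi' : i = N.index.factorization p := by omega
  have hj' : j = (Nat.card (Subgroup.centralizer ({n} : Set N))).factorization p := by omega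
  refine ⟨?_, ?_, ?_⟩
  · -- `p ∤ |G : PN|`
    intro hdvd
    have h2 : N.relIndex (P ⊔ N) * (P ⊔ N).index = N.index :=
      Subgroup.relIndex_mul_index le_sup_right
    rw [Subgroup.relIndex_sup_right, hi, hi'] at h2
    obtain ⟨k, hk⟩ := hdvd
    have h3 : p ^ (N.index.factorization p + 1) ∣ N.index := by
      refine ⟨k, ?_⟩
      rw [pow_succ, mul_assoc, ← hk]
      exact h2.symm
    exact Nat.pow_succ_factorization_not_dvd hN0 hp h3
  · -- `P ∩ N` is a defect group of `b`
    rw [Helper16.isDefectGroup_iff]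
    refine ⟨n, hdc, ?_, ?_⟩
    · intro y hy
      rw [Subgroup.mem_subgroupOf] at hy
      have := hPle hy.1
      rw [Subgroup.mem_centralizer_singleton_iff] at this ⊢
      exact Subtype.ext this
    · have e1 : Nat.card ((P ⊓ N).subgroupOf N) = Nat.card (P ⊓ N : Subgroup G) :=
        Nat.card_congr (Subgroup.subgroupOfEquivOfLe inf_le_right).toEquiv
      rw [e1, hj, hj']
  · omega

end Cfsg.Agent.S0970
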