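import Cfsg.Statements.S4435
import Cfsg.Agent.Helper78.FongReynolds

set_option autoImplicit false
open Cfsg

namespace Cfsg.Agent.S4435

open Cfsg.Agent.Helper78 Cfsg.Agent in
/-- Let N be a normal subgroup of the finite group G, b a block of N (relative to a maximal ideal M of the algebraic integers containing p), and T the stabilizer of b in G (the elements g such that conjugating any member of b by g gives a member of b); N ≤ T. Say that a block of T (or of G) covers b when some member has a constituent in b on restriction to N. Then: (i) every block B′ of T covering b induces a block B of G, B covers b, every ψ ∈ B′ induces to an irreducible character of G, and B consists exactly of the characters induced from members of B′; (ii) distinct blocks of T covering b induce distinct blocks of G; (iii) every block of G covering b is induced by some block of T covering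 b. -/
theorem result {G : Type*} [Group G] [Fintype G] (p : ℕ) [Fact p.Prime] (M : Ideal Cfsg.AlgInt) (hM : Cfsg.IsPModular p M) (N : Subgroup G) [hN : N.Normal] [Fintype N] (b : Set (Cfsg.IrrCharacter N)) (hb : Cfsg.IsPBlock M b) (T : Subgroup G) [Fintype T] (hT : ∀ g : G, g ∈ T ↔ ∀ θ ∈ b, ∀ θ' : Cfsg.IrrCharacter N, (∀ n : N, (θ' : N → ℂ) n = (θ : N → ℂ) ⟨g * n * g⁻¹, hN.conj_mem n n.2 g⟩) → θ' ∈ b) (hNT : N ≤ T) : (∀ B' : Set (Cfsg.IrrCharacter T), Cfsg.IsPBlock M B' → (∃ ψ ∈ B', ∃ θ ∈ b, Cfsg.classInner (fun n : N => (ψ : T → ℂ) ⟨(n : G), hNT n.2⟩) (θ : N → ℂ) ≠ 0) → ∃ B : Set (Cfsg.IrrCharacter G), Cfsg.IsInducedBlock M T B' B ∧ (∃ χ ∈ B, ∃ θ ∈ b, Cfsg.classInner (fun n : N => (χ : G → ℂ) n) (θ : N → ℂ) ≠ 0) ∧ (∀ ψ ∈ B', Cfsg.IsIrrCharacter G (Cfsg.indFun T (ψ : T → ℂ))) ∧ ∀ χ : Cfsg.IrrCharacter G, χ ∈ B ↔ ∃ ψ ∈ B', (χ : G → ℂ) = Cfsg.indFun T (ψ : T → ℂ))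 ∧ (∀ B'₁ B'₂ : Set (Cfsg.IrrCharacter T), Cfsg.IsPBlock M B'₁ → Cfsg.IsPBlock M B'₂ → (∃ ψ ∈ B'₁, ∃ θ ∈ b, Cfsg.classInner (fun n : N => (ψ : T → ℂ) ⟨(n : G), hNT n.2⟩) (θ : N → ℂ) ≠ 0) → (∃ ψ ∈ B'₂, ∃ θ ∈ b, Cfsg.classInner (fun n : N => (ψ : T → ℂ) ⟨(n : G), hNT n.2⟩) (θ : N → ℂ) ≠ 0) → ∀ B : Set (Cfsg.IrrCharacter G), Cfsg.IsInducedBlock M T B'₁ B → Cfsg.IsInducedBlock M T B'₂ B → B'₁ = B'₂) ∧ (∀ B : Set (Cfsg.IrrCharacter G), Cfsg.IsPBlock M B → (∃ χ ∈ B, ∃ θ ∈ b, Cfsg.classInner (fun n : N => (χ : G → ℂ) n) (θ : N → ℂ) ≠ 0) → ∃ B' : Set (Cfsg.IrrCharacter T), Cfsg.IsPBlock M B' ∧ (∃ ψ ∈ B', ∃ θ ∈ b, Cfsg.classInner (fun n : N => (ψ : T → ℂ) ⟨(n : G), hNT n.2⟩) (θ : N → ℂ) ≠ 0) ∧ Cfsg.IsInducedBlock M T B' B) := by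
  classical
  have hMp : M.IsPrime := hM.2.1.isPrime
  -- the two stabilizer properties
  have hstab : ∀ t ∈ T, ∀ θ : IrrCharacter N, Helper16.irrConj N t θ ∈ b ↔ θ ∈ b := by
    intro t ht θ
    constructor
    · intro h
      have h1 := (hT t⁻¹).mp (T.inv_mem ht) (Helper16.irrConj N t θ) h
        (Helper16.irrConj N t⁻¹ (Helper16.irrConj N t θ)) (fun n => rfl)
      rwa [Helper16.irrConj_irrConj, mul_inv_cancel, Helper16.irrConj_one] at h1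
    · intro h
      exact (hT t).mp ht θ h (Helper16.irrConj N t θ) (fun n => rfl)
  have hnot : ∀ x : G, x ∉ T → ∃ θ ∈ b, Helper16.irrConj N x θ ∉ b := by
    intro x hx
    by_contra hcon
    push_neg at hcon
    apply hx
    rw [hT x]
    intro θ hθ θ' hθ'
    have : θ' = Helper16.irrConj N x θ := Subtype.ext (funext hθ')
    rw [this]
    exact hcon θ hθ
  refine ⟨?_, ?_, ?_⟩
  · -- (i)
    rintro B' hB' ⟨ψ₀, h₀, θ₀, hθ₀, hcov₀⟩
    have hω₀ : Helper16.omega (ψ₀ : T → ℂ) (eT N T b) = 1 :=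
      omega_eT_eq_one N T hNT b hb hstab ψ₀ θ₀ hθ₀ hcov₀
    have hcov : ∀ ξ ∈ B', Helper16.omega (ξ : T → ℂ) (eT N T b) = 1 := fun ξ hξ =>
      omega_eT_eq_one_of_mem_block N T hNT b hb hstab hB' h₀ hξ hω₀
    let χ₀ : IrrCharacter G :=
      ⟨_, isIrrCharacter_indFun_of_omega N T hNT b hb hstab hnot ψ₀ hω₀⟩
    refine ⟨blockOf M (χ₀ : G → ℂ), isInducedBlock_blockOf_indFun T hB' h₀ χ₀ rfl, ?_, ?_, ?_⟩
    · obtain ⟨θ, hθ, hθχ⟩ := liesOver_indFun_of_omega N T hNT b hb hstab hnot ψ₀ hω₀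
      exact ⟨χ₀, mem_blockOf_self hMp χ₀, θ, hθ, hθχ⟩
    · intro ψ hψ
      exact isIrrCharacter_indFun_of_omega N T hNT b hb hstab hnot ψ (hcov ψ hψ)
    · intro χ
      constructor
      · intro hχ
        exact exists_mem_indFun_eq N T hNT b hb hstab hnot hB' h₀ hω₀ χ₀ rfl χ hχ
      · rintro ⟨ψ, hψ, hχψ⟩
        show SameBlock M (χ₀ : G → ℂ) (χ : G → ℂ)
        rw [hχψ]
        exact sameBlock_indFun_of_mem T hB' h₀ hψ
  · -- (ii)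
    rintro B'₁ B'₂ hB'₁ hB'₂ ⟨ψ₁, h₁, θ₁, hθ₁, hc₁⟩ ⟨ψ₂, h₂, θ₂, hθ₂, hc₂⟩ B hind₁ hind₂
    have hω₁ : Helper16.omega (ψ₁ : T → ℂ) (eT N T b) = 1 :=
      omega_eT_eq_one N T hNT b hb hstab ψ₁ θ₁ hθ₁ hc₁
    have hω₂ : Helper16.omega (ψ₂ : T → ℂ) (eT N T b) = 1 :=
      omega_eT_eq_one N T hNT b hb hstab ψ₂ θ₂ hθ₂ hc₂
    obtain ⟨χ, hχ⟩ := isPBlock_nonempty hMp hind₁.2.1
    apply block_eq_of_sameBlock_indFun N T hNT b hb hstab hnot hB'₁ hB'₂ h₁ h₂ hω₁ hω₂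
    intro g
    have e1 := hind₁.2.2 ψ₁ h₁ χ hχ g
    have e2 := hind₂.2.2 ψ₂ h₂ χ hχ g
    rw [Cfsg.Agent.S0932.result T (ψ₁ : T → ℂ) (Helper74.irr_isCharacter ψ₁) g] at e1
    rw [Cfsg.Agent.S0932.result T (ψ₂ : T → ℂ) (Helper74.irr_isCharacter ψ₂) g] at e2
    have e3 := Helper16.memLocalIdeal_sub e1 e2
    have e : centralChar (indFun T (ψ₁ : T → ℂ)) g - centralChar (χ : G → ℂ) g -
        (centralChar (indFun T (ψ₂ : T → ℂ)) g - centralChar (χ : G → ℂ) g) =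
        centralChar (indFun T (ψ₁ : T → ℂ)) g - centralChar (indFun T (ψ₂ : T → ℂ)) g := by ring
    rwa [e] at e3
  · -- (iii)
    rintro B hB ⟨χ, hχ, θ, hθ, hθχ⟩
    obtain ⟨ξ, hωξ, hχξ⟩ :=
      exists_indFun_eq_of_liesOver N T hNT b hb hstab hnot χ θ hθ hθχ
    refine ⟨blockOf M (ξ : T → ℂ), ⟨ξ, rfl⟩, ?_, ?_⟩
    · obtain ⟨θ', hθ', h'⟩ := exists_of_omega_eT_eq_one N T hNT b ξ hωξ
      exact ⟨ξ, mem_blockOf_self hMp ξ, θ', hθ', h'⟩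
    · rw [isPBlock_eq_blockOf_of_mem hMp hB hχ]
      exact isInducedBlock_blockOf_indFun T ⟨ξ, rfl⟩ (mem_blockOf_self hMp ξ) χ hχξ

end Cfsg.Agent.S4435
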