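import Cfsg.Statements.S4436
import Cfsg.Agent.Helper78.FongReynoldsDefect

set_option autoImplicit false
open Cfsg

namespace Cfsg.Agent.S4436

open Cfsg.Agent.Helper78 Cfsg.Agent in
/-- Let N be a normal subgroup of the finite group G, b a block of N (relative to a maximal ideal M of the algebraic integers containing p), T the stabilizer of b in G, N ≤ T, and B′ a block of T covering b (some member of B′ has a constituent in b on restriction to N) that induces the block B of G. Then every defect group of B′ is a defect group of B, and for every ψ ∈ B′ the induced character ψ^G is an irreducible character of G lying in B with the same height as ψ. -/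
theorem result {G : Type*} [Group G] [Fintype G] (p : ℕ) [Fact p.Prime] (M : Ideal Cfsg.AlgInt) (hM : Cfsg.IsPModular p M) (N : Subgroup G) [hN : N.Normal] [Fintype N] (b : Set (Cfsg.IrrCharacter N)) (hb : Cfsg.IsPBlock M b) (T : Subgroup G) [Fintype T] (hT : ∀ g : G, g ∈ T ↔ ∀ θ ∈ b, ∀ θ' : Cfsg.IrrCharacter N, (∀ n : N, (θ' : N → ℂ) n = (θ : N → ℂ) ⟨g * n * g⁻¹, hN.conj_mem n n.2 g⟩) → θ' ∈ b) (hNT : N ≤ T) (B' : Set (Cfsg.IrrCharacter T)) (hB' : Cfsg.IsPBlock M B') (hcov : (∃ ψ ∈ B', ∃ θ ∈ b, Cfsg.classInner (fun n : N => (ψ : T → ℂ) ⟨(n : G), hNT n.2⟩) (θ : N → ℂ) ≠ 0)) (B : Set (Cfsg.IrrCharacter G)) (hind : Cfsg.IsInducedBlock M T B' B) : (∀ D : Subgroup T, Cfsg.IsDefectGroup p M B' D → Cfsg.IsDefectGroup p M B (D.map T.subtype)) ∧ ∀ ψ ∈ B', ∃ χ ∈ B, (χ : G → ℂ) = Cfsg.indFun T (ψ : T → ℂ) ∧ Cfsg.blockHeight p B (χ : G → ℂ) = Cfsg.blockHeight p B' (ψ : T → ℂ) := by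
  classical
  have hMp : M.IsPrime := hM.2.1.isPrime
  have hstab : ∀ t ∈ T, ∀ θ : IrrCharacter N, Helper16.irrConj N t θ ∈ b ↔ θ ∈ b := by
    intro t ht θ
    constructor
    · intro h
      have h1 := (hT t⁻¹).mp (T.inv_mem ht) (Helper16.irrConj N t θ) h
        (Helper16.irrConj N t⁻¹ (Helper16.irrConj N t θ)) (fun n => rfl)
      rwa [Helper16.irrConj_irrConj, mul_inv_cancel, Helper16.irrConj_one] at h1
    · intro h
      exact (hT t).mp ht θ h (Helper16.irrConj N t θ) (fun n => rfl)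
  have hnot : ∀ x : G, x ∉ T → ∃ θ ∈ b, Helper16.irrConj N x θ ∉ b := by
    intro x hx
    by_contra hcon
    push_neg at hcon
    apply hx
    rw [hT x]
    intro θ hθ θ' hθ'
    have : θ' = Helper16.irrConj N x θ := Subtype.ext (funext hθ')
    rw [this]
    exact hcon θ hθ
  obtain ⟨ψ₀, h₀, θ₀, hθ₀, hcov₀⟩ := hcov
  have hω₀ : Helper16.omega (ψ₀ : T → ℂ) (eT N T b) = 1 :=
    omega_eT_eq_one N T hNT b hb hstab ψ₀ θ₀ hθ₀ hcov₀
  have hcov : ∀ ξ ∈ B', Helper16.omega (ξ : T → ℂ) (eT N T b) = 1 := fun ξ hξ =>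
    omega_eT_eq_one_of_mem_block N T hNT b hb hstab hB' h₀ hξ hω₀
  have hirr : ∀ ψ ∈ B', IsIrrCharacter G (indFun T (ψ : T → ℂ)) := fun ψ hψ =>
    isIrrCharacter_indFun_of_omega N T hNT b hb hstab hnot ψ (hcov ψ hψ)
  let χ₀ : IrrCharacter G := ⟨_, hirr ψ₀ h₀⟩
  have hBeq : B = blockOf M (χ₀ : G → ℂ) :=
    Helper77.isInducedBlock_unique T hind (isInducedBlock_blockOf_indFun T hB' h₀ χ₀ rfl)
  have hmemB : ∀ ψ (hψ : ψ ∈ B'), (⟨_, hirr ψ hψ⟩ : IrrCharacter G) ∈ B := by
    intro ψ hψ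
    rw [hBeq]
    exact sameBlock_indFun_of_mem T hB' h₀ hψ
  -- the comparison of minimal `p`-parts of degrees
  have hshift : sInf ((fun χ : IrrCharacter G => (charDegree (χ : G → ℂ)).factorization p) '' B) =
      T.index.factorization p +
        sInf ((fun ψ : IrrCharacter T => (charDegree (ψ : T → ℂ)).factorization p) '' B') := by
    apply sInf_image_shift B' B _ _ _ ⟨ψ₀, h₀⟩
    · intro ψ hψ
      exact ⟨⟨_, hirr ψ hψ⟩, hmemB ψ hψ, factorization_charDegree_indFun p T ψ (hirr ψ hψ)⟩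
    · intro χ hχ
      rw [hBeq] at hχ
      obtain ⟨ψ, hψ, hχψ⟩ :=
        exists_mem_indFun_eq N T hNT b hb hstab hnot hB' h₀ hω₀ χ₀ rfl χ hχ
      refine ⟨ψ, hψ, ?_⟩
      show (charDegree (χ : G → ℂ)).factorization p = _
      rw [hχψ]
      exact factorization_charDegree_indFun p T ψ (hirr ψ hψ)
  have hdef : blockDefect p B = blockDefect p B' := by
    unfold blockDefect
    rw [hshift, factorization_card_eq_index_add p T, Nat.add_sub_add_left]
  refine ⟨?_, ?_⟩
  · intro D hD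
    obtain ⟨P, hP⟩ := Helper16.exists_defectGroup (M := M) p χ₀
    rw [← hBeq] at hP
    obtain ⟨x, hx⟩ := defectGroup_le_of_induced hM T B' B hind D hD P hP
    have hc1 : Nat.card ((D.map T.subtype).map (MulAut.conj x).toMonoidHom) = Nat.card D := by
      rw [Subgroup.card_map_of_injective (MulAut.conj x).injective,
        Subgroup.card_map_of_injective T.subtype_injective]
    have hc2 : Nat.card D = p ^ blockDefect p B' := Helper77.card_defectGroup hM hB' D hD
    have hc3 : Nat.card P = p ^ blockDefect p B := Helper77.card_defectGroup hM hind.2.1 P hP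
    have heq : (D.map T.subtype).map (MulAut.conj x).toMonoidHom = P := by
      apply Subgroup.eq_of_le_of_card_ge hx
      rw [hc1, hc2, hc3, hdef]
    have h2 : D.map T.subtype = P.map (MulAut.conj x⁻¹).toMonoidHom := by
      rw [← heq, Subgroup.map_map]
      have : (MulAut.conj x⁻¹).toMonoidHom.comp (MulAut.conj x).toMonoidHom = MonoidHom.id G := by
        ext y
        simp [mul_assoc]
      rw [this, Subgroup.map_id]
    rw [h2, hBeq]
    rw [hBeq] at hP
    exact isDefectGroup_map_conj χ₀ hP x⁻¹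
  · intro ψ hψ
    refine ⟨⟨_, hirr ψ hψ⟩, hmemB ψ hψ, rfl, ?_⟩
    unfold blockHeight
    rw [hshift, factorization_charDegree_indFun p T ψ (hirr ψ hψ), Nat.add_sub_add_left]

end Cfsg.Agent.S4436
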