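import Cfsg.Statements.S4491
import Cfsg.Agent.S4426
import Cfsg.Agent.Helper77.BlockOrth
import Cfsg.Agent.Helper16.DefectClasses

set_option autoImplicit false
open Cfsg
open scoped ComplexConjugate

namespace Cfsg.Agent.S4491

open Cfsg.Agent.S4426

universe u

section

variable {G : Type u} [Group G] [Fintype G] {p : ℕ} {M : Ideal AlgInt}

/-- `Σ_{ξ ∈ B} ξ(1) ξ(x) = 0` for `p`-singular `x`. -/
theorem sum_deg_mul_eq_zero (hM : IsPModular p M) {B : Set (IrrCharacter G)} (hB : IsPBlock M B)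
    (x : G) (hx : p ∣ orderOf x) :
    ∑ ξ ∈ (Set.toFinite B).toFinset, (ξ : G → ℂ) 1 * (ξ : G → ℂ) x = 0 := by
  have h := Helper77.blockCoeff_eq_zero_of_dvd_orderOf hM hB x⁻¹ (by rwa [orderOf_inv])
  unfold blockCoeff at h
  have hG0 : (Nat.card G : ℂ)⁻¹ ≠ 0 := inv_ne_zero (by exact_mod_cast Nat.card_pos.ne')
  rcases mul_eq_zero.1 h with h | h
  · exact absurd h hG0
  · rw [finsum_mem_eq_finite_toFinset_sum _ (Set.toFinite B)] at h
    rw [← h]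
    refine Finset.sum_congr rfl fun ξ _ => ?_
    rw [Helper74.char_inv (Helper74.irr_isCharacter ξ), Complex.conj_conj]

end

/-- Let B be a p-block of defect d of the finite group G (relative to a maximal ideal M of the algebraic integers containing p), and let p^a be the p-part of the order of G. Then the exact power of p dividing the sum of the squares of the degrees of the irreducible characters in B is p^(2a − d). -/
theorem result {G : Type*} [Group G] [Finite G] (p : ℕ) [Fact p.Prime] (M : Ideal Cfsg.AlgInt) (hM : Cfsg.IsPModular p M) (B : Set (Cfsg.IrrCharacter G)) (hB : Cfsg.IsPBlock M B) : (∑ᶠ χ ∈ B, Cfsg.charDegree (χ : G → ℂ) ^ 2).factorization p = 2 * (Nat.card G).factorization p - Cfsg.blockDefect p B := by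
  classical
  have : Fintype G := Fintype.ofFinite G
  let _ := Helper74.irrFintype G
  have hMp : M.IsPrime := Helper78.isPrime_of_isPModular hM
  have hp : p.Prime := hM.1
  have hpP : Prime (p : ℤ) := Nat.prime_iff_prime_int.1 hp
  set a := (Nat.card G).factorization p with ha
  set h0 := Helper16.minExp p B with hh0
  have hne : B.Nonempty := Helper78.isPBlock_nonempty hMp hB
  have hh0a : h0 ≤ a := Helper16.minExp_le_card p hne
  have hdef : blockDefect p B = a - h0 := rfl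
  rw [hdef]
  -- a character of height zero
  obtain ⟨χ, hχ, -, hmin⟩ := Helper16.exists_height_zero' p B hne
  have hχh0 : (charDegree (χ : G → ℂ)).factorization p = h0 :=
    le_antisymm (by
      unfold h0 Helper16.minExp
      obtain ⟨ψ, hψ, hψe⟩ := Nat.sInf_mem (hne.image
        (fun χ : IrrCharacter G => (charDegree (χ : G → ℂ)).factorization p))
      rw [← hψe]; exact hmin ψ hψ) (Helper16.minExp_le_of_mem p hχ)
  have hzero : blockHeight p B (χ : G → ℂ) = 0 := by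
    rw [Helper16.blockHeight_eq_zero_iff p hχ]; exact hχh0
  set Bf := (Set.toFinite B).toFinset with hBf
  have hmemBf : ∀ ξ, ξ ∈ Bf ↔ ξ ∈ B := fun ξ => Set.Finite.mem_toFinset _
  set d : IrrCharacter G → ℕ := fun ξ => charDegree (ξ : G → ℂ) with hd
  have hd0 : ∀ ξ, d ξ ≠ 0 := fun ξ => (Helper78.charDegree_pos_of_isIrrCharacter ξ.2).ne'
  have hd1 : ∀ ξ : IrrCharacter G, (ξ : G → ℂ) 1 = (d ξ : ℂ) := fun ξ => irr_one_eq ξ
  -- the sum of squares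
  have hS : (∑ᶠ χ ∈ B, Cfsg.charDegree (χ : G → ℂ) ^ 2) = ∑ ξ ∈ Bf, d ξ ^ 2 :=
    finsum_mem_eq_finite_toFinset_sum _ (Set.toFinite B)
  rw [hS]
  set S : ℕ := ∑ ξ ∈ Bf, d ξ ^ 2 with hSdef
  have hS0 : S ≠ 0 := by
    have : d χ ^ 2 ≤ S := Finset.single_le_sum (f := fun ξ => d ξ ^ 2) (fun _ _ => Nat.zero_le _)
      ((hmemBf χ).2 hχ)
    have h2 : 0 < d χ ^ 2 := pow_pos (Nat.pos_of_ne_zero (hd0 χ)) 2
    omega
  -- the integers `n ξ = [χ̃, ξ]`
  choose n hn using fun ξ : IrrCharacter G => exists_int_inner p χ ξ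
  -- (F1)
  have hF1 : ∑ ξ ∈ Bf, n ξ * (d ξ : ℤ) = ((p ^ a : ℕ) : ℤ) * (d χ : ℤ) := by
    have h := Helper76.blockPart_pRegular_cutoff p M hM B hB χ hχ ((p ^ a : ℕ) : ℂ) 1
    rw [finsum_mem_eq_finite_toFinset_sum _ (Set.toFinite B)] at h
    have h1 : ¬ p ∣ orderOf (1 : G) := by rw [orderOf_one]; exact hp.not_dvd_one
    rw [if_neg h1] at h
    have h2 : ((∑ ξ ∈ Bf, n ξ * (d ξ : ℤ) : ℤ) : ℂ) = ((((p ^ a : ℕ) : ℤ) * (d χ : ℤ) : ℤ) : ℂ) := by
      push_cast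
      rw [hd1 χ] at h
      push_cast at h
      rw [← h]
      refine Finset.sum_congr rfl fun ξ _ => ?_
      have h3 := hn ξ
      unfold cut at h3
      push_cast at h3
      rw [h3, hd1 ξ]
    exact_mod_cast h2
  -- (F5)
  obtain ⟨n', hn', hn0, hnv⟩ := (pred_iff p hM B hB χ χ hχ hχ).2
    ((height_zero_iff p hM B hB χ hχ).1 hzero)
  have hnn : n' = n χ := by exact_mod_cast (hn'.symm.trans (hn χ))
  subst hnn
  rw [hχh0] at hnv
  -- (F2)
  have hF2 : ∀ ξ ∈ B, (p : ℤ) ^ (2 * h0 + 1) ∣ n ξ * (d χ : ℤ) - n χ * (d ξ : ℤ) := by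
    intro ξ hξ
    have hsame : ∀ g : G, MemLocalIdeal M
        (centralChar (ξ : G → ℂ) g - centralChar (χ : G → ℂ) g) :=
      Helper78.sameBlock_symm (Helper78.sameBlock_of_mem_of_mem hMp hB hχ hξ)
    have hdiff := memLocalIdeal_U_sub hM χ.2 ξ.2 hsame
    rw [hn ξ, hn χ, hd1 ξ, hd1 χ] at hdiff
    have hDne : d ξ * d χ ≠ 0 := mul_ne_zero (hd0 ξ) (hd0 χ)
    have hquot : ((n ξ * (d χ : ℤ) - n χ * (d ξ : ℤ) : ℤ) : ℂ) / ((d ξ * d χ : ℕ) : ℂ)
        = (n ξ : ℂ) / (d ξ : ℂ) - (n χ : ℂ) / (d χ : ℂ) := by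
      have h1 : (d ξ : ℂ) ≠ 0 := by exact_mod_cast hd0 ξ
      have h2 : (d χ : ℂ) ≠ 0 := by exact_mod_cast hd0 χ
      push_cast
      field_simp
    rw [← hquot] at hdiff
    have hdvd := (memLocalIdeal_div_iff hM hDne (Helper78.memLocalRing_of_memLocalIdeal hdiff)).1
      hdiff
    refine dvd_trans (pow_dvd_pow _ ?_) hdvd
    rw [Nat.factorization_mul (hd0 ξ) (hd0 χ), Finsupp.add_apply]
    have h1 : h0 ≤ (d ξ).factorization p := Helper16.minExp_le_of_mem p hξ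
    have h2 : (d χ).factorization p = h0 := hχh0
    omega
  choose! k hk using hF2
  -- (F3): Sylow restriction
  have hgen : IsGeneralizedCharacter G (∑ ξ ∈ Bf, k ξ • (ξ : G → ℂ)) :=
    Helper25.isGenChar_sum _ fun ψ _ =>
      Helper25.isGenChar_zsmul _ (Helper25.isGenChar_of_isCharacter (Helper74.irr_isCharacter ψ))
  have hpc0 : ((p : ℂ) ^ (2 * h0 + 1)) ≠ 0 := pow_ne_zero _ (by exact_mod_cast hp.ne_zero)
  have hvan : ∀ x : G, p ∣ orderOf x → (∑ ξ ∈ Bf, k ξ • (ξ : G → ℂ)) x = 0 := by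
    intro x hx
    have h1 : ((p : ℂ) ^ (2 * h0 + 1)) * (∑ ξ ∈ Bf, k ξ • (ξ : G → ℂ)) x = 0 := by
      rw [Finset.sum_apply, Finset.mul_sum]
      have h2 : ∀ ξ ∈ Bf, ((p : ℂ) ^ (2 * h0 + 1)) * (k ξ • (ξ : G → ℂ)) x
          = (d χ : ℂ) * ((n ξ : ℂ) * (ξ : G → ℂ) x) -
            (n χ : ℂ) * ((ξ : G → ℂ) 1 * (ξ : G → ℂ) x) := by
        intro ξ hξ
        have h3 := hk ξ ((hmemBf ξ).1 hξ)
        have h4 : ((n ξ * (d χ : ℤ) - n χ * (d ξ : ℤ) : ℤ) : ℂ)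
            = (((p : ℤ) ^ (2 * h0 + 1) * k ξ : ℤ) : ℂ) := by rw [h3]
        push_cast at h4
        rw [Pi.smul_apply, zsmul_eq_mul, ← mul_assoc, ← h4, hd1 ξ]
        ring
      rw [Finset.sum_congr rfl h2, Finset.sum_sub_distrib, ← Finset.mul_sum, ← Finset.mul_sum,
        sum_deg_mul_eq_zero hM hB x hx, mul_zero, sub_zero]
      have h5 := Helper76.blockPart_pRegular_cutoff p M hM B hB χ hχ ((p ^ a : ℕ) : ℂ) x
      rw [finsum_mem_eq_finite_toFinset_sum _ (Set.toFinite B), if_pos hx] at h5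
      have h6 : ∑ ξ ∈ Bf, (n ξ : ℂ) * (ξ : G → ℂ) x = 0 := by
        rw [← h5]
        refine Finset.sum_congr rfl fun ξ _ => ?_
        have h7 := hn ξ
        unfold cut at h7
        rw [h7]
      rw [h6, mul_zero]
    rcases mul_eq_zero.1 h1 with h | h
    · exact absurd h hpc0
    · exact h
  have hgen' : IsGeneralizedCharacter G (fun x : G => if p ∣ orderOf x then (0 : ℂ) else
      (1 : ℂ) * (∑ ξ ∈ Bf, k ξ • (ξ : G → ℂ)) x) := by
    have : (fun x : G => if p ∣ orderOf x then (0 : ℂ) else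
        (1 : ℂ) * (∑ ξ ∈ Bf, k ξ • (ξ : G → ℂ)) x) = ∑ ξ ∈ Bf, k ξ • (ξ : G → ℂ) := by
      funext x
      split_ifs with hx
      · exact (hvan x hx).symm
      · rw [one_mul]
    rw [this]; exact hgen
  obtain ⟨m, hm⟩ := Helper76.exists_int_of_isGenChar_pRegular_cutoff p _ 1 hgen'
  have hF3 : ∑ ξ ∈ Bf, k ξ * (d ξ : ℤ) = m * ((p ^ a : ℕ) : ℤ) := by
    have h2 : ((∑ ξ ∈ Bf, k ξ * (d ξ : ℤ) : ℤ) : ℂ) = ((m * ((p ^ a : ℕ) : ℤ) : ℤ) : ℂ) := by
      push_cast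
      push_cast at hm
      rw [← hm, one_mul, Finset.sum_apply]
      refine Finset.sum_congr rfl fun ξ _ => ?_
      rw [Pi.smul_apply, zsmul_eq_mul, hd1 ξ]
    exact_mod_cast h2
  -- (F4): the key identity
  have hkey : n χ * (S : ℤ) = ((p ^ a : ℕ) : ℤ) * (d χ : ℤ) ^ 2
      - (p : ℤ) ^ (2 * h0 + 1) * (m * ((p ^ a : ℕ) : ℤ)) := by
    have h1 : ∑ ξ ∈ Bf, (n ξ * (d χ : ℤ) - n χ * (d ξ : ℤ)) * (d ξ : ℤ)
        = (p : ℤ) ^ (2 * h0 + 1) * ∑ ξ ∈ Bf, k ξ * (d ξ : ℤ) := by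
      rw [Finset.mul_sum]
      refine Finset.sum_congr rfl fun ξ hξ => ?_
      rw [hk ξ ((hmemBf ξ).1 hξ)]; ring
    have h2 : ∑ ξ ∈ Bf, (n ξ * (d χ : ℤ) - n χ * (d ξ : ℤ)) * (d ξ : ℤ)
        = (d χ : ℤ) * ∑ ξ ∈ Bf, n ξ * (d ξ : ℤ) - n χ * (S : ℤ) := by
      rw [hSdef]
      push_cast
      rw [Finset.mul_sum, Finset.mul_sum, ← Finset.sum_sub_distrib]
      refine Finset.sum_congr rfl fun ξ _ => ?_
      ring
    rw [h2, hF1, hF3] at h1
    linear_combination (-1 : ℤ) * h1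
  -- valuations
  obtain ⟨x', hx'⟩ : ∃ x' : ℕ, d χ = p ^ h0 * x' ∧ ¬ p ∣ x' := by
    refine ⟨d χ / p ^ h0, ?_, ?_⟩
    · rw [← hχh0]; exact (Nat.ordProj_mul_ordCompl_eq_self (d χ) p).symm
    · rw [← hχh0]; exact Nat.not_dvd_ordCompl hp (hd0 χ)
  obtain ⟨hx'1, hx'2⟩ := hx'
  obtain ⟨n'', hn''⟩ : (p : ℤ) ^ h0 ∣ n χ := by
    rw [padicValInt_dvd_iff]; right; omega
  have hn''p : ¬ (p : ℤ) ∣ n'' := by
    intro hdv
    have : (p : ℤ) ^ (h0 + 1) ∣ n χ := by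
      rw [hn'', pow_succ]; exact mul_dvd_mul_left _ hdv
    rw [padicValInt_dvd_iff] at this
    rcases this with h | h
    · exact hn0 h
    · omega
  have hpz : (p : ℤ) ^ h0 ≠ 0 := pow_ne_zero _ (by exact_mod_cast hp.ne_zero)
  have hkey2 : n'' * (S : ℤ) = (p : ℤ) ^ (a + h0) * ((x' : ℤ) ^ 2 - (p : ℤ) * m) := by
    have h1 : (p : ℤ) ^ h0 * (n'' * (S : ℤ))
        = (p : ℤ) ^ h0 * ((p : ℤ) ^ (a + h0) * ((x' : ℤ) ^ 2 - (p : ℤ) * m)) := by
      have h2 : (d χ : ℤ) = (p : ℤ) ^ h0 * (x' : ℤ) := by rw [hx'1]; push_cast; ring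
      rw [← mul_assoc, ← hn'', hkey, h2]
      push_cast
      ring
    exact mul_left_cancel₀ hpz h1
  have hSz : (p : ℤ) ^ (a + h0) ∣ (S : ℤ) :=
    hpP.pow_dvd_of_dvd_mul_left _ hn''p ⟨_, hkey2⟩
  have hSn : p ^ (a + h0) ∣ S := by exact_mod_cast hSz
  have hle : a + h0 ≤ S.factorization p := (hp.pow_dvd_iff_le_factorization hS0).1 hSn
  have hge : S.factorization p ≤ a + h0 := by
    by_contra hlt
    push Not at hlt
    have h1 : p ^ (a + h0 + 1) ∣ S := (hp.pow_dvd_iff_le_factorization hS0).2 hlt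
    have h2 : (p : ℤ) ^ (a + h0 + 1) ∣ (S : ℤ) := by exact_mod_cast h1
    have h3 : (p : ℤ) ^ (a + h0 + 1) ∣ (p : ℤ) ^ (a + h0) * ((x' : ℤ) ^ 2 - (p : ℤ) * m) := by
      rw [← hkey2]; exact Dvd.dvd.mul_left h2 _
    rw [pow_succ] at h3
    have h4 : (p : ℤ) ∣ (x' : ℤ) ^ 2 - (p : ℤ) * m :=
      (mul_dvd_mul_iff_left (pow_ne_zero _ (by exact_mod_cast hp.ne_zero))).1 h3
    have h5 : (p : ℤ) ∣ (x' : ℤ) ^ 2 := by
      have := dvd_add h4 (dvd_mul_right (p : ℤ) m)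
      simpa using this
    have h6 : (p : ℤ) ∣ (x' : ℤ) := hpP.dvd_of_dvd_pow h5
    exact hx'2 (by exact_mod_cast h6)
  omega

end Cfsg.Agent.S4491
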