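import Cfsg.Statements.S2119
import Mathlib

set_option autoImplicit false
open Cfsg

namespace Cfsg.Agent.S2119

open Equiv Equiv.Perm

section numeric

open Nat in
theorem num_aux1 : ∀ j : ℕ, 2 ≤ j → 2 * 3 ^ j * (j + 1)! < (3 * j)! := by
  intro j hj
  induction j, hj using Nat.le_induction with
  | base => decide
  | succ j hj ih =>
    have e1 : (3 * (j + 1))! = (3 * j + 3) * ((3 * j + 2) * ((3 * j + 1) * (3 * j)!)) := by
      have : 3 * (j + 1) = 3 * j + 1 + 1 + 1 := by ring
      rw [this, Nat.factorial_succ, Nat.factorial_succ, Nat.factorial_succ]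
    have e2 : (j + 1 + 1)! = (j + 2) * (j + 1)! := by
      rw [Nat.factorial_succ]
    rw [e1, e2, pow_succ]
    have h1 : 3 * (j + 2) ≤ (3 * j + 3) * ((3 * j + 2) * (3 * j + 1)) := by
      have a : 2 * 1 ≤ (3 * j + 2) * (3 * j + 1) :=
        Nat.mul_le_mul (by omega) (by omega)
      have b := Nat.mul_le_mul_left (3 * j + 3) a
      omega
    calc 2 * (3 ^ j * 3) * ((j + 2) * (j + 1)!) = (3 * (j + 2)) * (2 * 3 ^ j * (j + 1)!) := by ring
      _ ≤ ((3 * j + 3) * ((3 * j + 2) * (3 * j + 1))) * (2 * 3 ^ j * (j + 1)!) :=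
          Nat.mul_le_mul_right _ h1
      _ < ((3 * j + 3) * ((3 * j + 2) * (3 * j + 1))) * (3 * j)! := by
          apply Nat.mul_lt_mul_of_pos_left ih
          positivity
      _ = (3 * j + 3) * ((3 * j + 2) * ((3 * j + 1) * (3 * j)!)) := by ring

open Nat in
theorem num_aux2 (m j : ℕ) (hj : 1 ≤ j) (hm : j = 1 → 1 ≤ m) :
    2 * 3 ^ j * (j + 1)! * m ! < (m + 3 * j)! := by
  rcases Nat.lt_or_ge j 2 with h | h
  · have hj1 : j = 1 := by omega
    subst hj1
    have hm1 := hm rfl
    have e : (m + 3 * 1)! = (m + 3) * ((m + 2) * ((m + 1) * m !)) := by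
      have : m + 3 * 1 = m + 1 + 1 + 1 := by ring
      rw [this, Nat.factorial_succ, Nat.factorial_succ, Nat.factorial_succ]
    rw [e]
    have hpos : 0 < m ! := Nat.factorial_pos m
    have : 12 < (m + 3) * ((m + 2) * (m + 1)) := by
      have a : 3 * 2 ≤ (m + 2) * (m + 1) := Nat.mul_le_mul (by omega) (by omega)
      have b : 4 * (3 * 2) ≤ (m + 3) * ((m + 2) * (m + 1)) := Nat.mul_le_mul (by omega) a
      omega
    calc 2 * 3 ^ 1 * (1 + 1)! * m ! = 12 * m ! := by norm_num [Nat.factorial]
      _ < ((m + 3) * ((m + 2) * (m + 1))) * m ! := Nat.mul_lt_mul_of_pos_right this hpos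
      _ = (m + 3) * ((m + 2) * ((m + 1) * m !)) := by ring
  · have h1 := num_aux1 j h
    have h2 : m ! * (3 * j)! ≤ (m + 3 * j)! :=
      Nat.le_of_dvd (Nat.factorial_pos _) (Nat.factorial_mul_factorial_dvd_factorial_add m (3 * j))
    have hpos : 0 < m ! := Nat.factorial_pos m
    calc 2 * 3 ^ j * (j + 1)! * m ! < (3 * j)! * m ! := Nat.mul_lt_mul_of_pos_right h1 hpos
      _ = m ! * (3 * j)! := by ring
      _ ≤ (m + 3 * j)! := h2

open Nat in
/-- the numeric heart: centralizer orders force `k = 1` -/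
theorem num_main (n k c r r' : ℕ) (hn6 : n ≠ 6) (hk : 1 ≤ k) (hkn : 3 * k ≤ n)
    (hr : r ∣ 2) (hr' : r' ∣ 2)
    (h1 : (n - 3 * k)! * 3 ^ k * k ! = c * r') (h2 : (n - 3 * 1)! * 3 ^ 1 * 1! = c * r) :
    k = 1 := by
  by_contra hk1
  have hk2 : 2 ≤ k := by omega
  obtain ⟨j, rfl⟩ : ∃ j, k = j + 1 := ⟨k - 1, by omega⟩
  obtain ⟨m, rfl⟩ : ∃ m, n = m + 3 * (j + 1) := ⟨n - 3 * (j + 1), by omega⟩
  have hj : 1 ≤ j := by omega
  have hm : j = 1 → 1 ≤ m := by
    intro hj1
    subst hj1
    omega
  have key := num_aux2 m j hj hm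
  have e1 : m + 3 * (j + 1) - 3 * (j + 1) = m := by omega
  have e2 : m + 3 * (j + 1) - 3 * 1 = m + 3 * j := by omega
  rw [e1] at h1
  rw [e2] at h2
  have hr2 : r ≤ 2 := Nat.le_of_dvd (by norm_num) hr
  have hr'1 : 1 ≤ r' := Nat.pos_of_dvd_of_pos hr' (by norm_num)
  -- (m+3j)! * 3 = c * r ≤ 2 c ≤ 2 c r' = 2 * (m! 3^(j+1) (j+1)!)
  have h3 : (m + 3 * j)! * 3 ≤ 2 * (m ! * 3 ^ (j + 1) * (j + 1)!) := by
    have : (m + 3 * j)! * 3 = c * r := by simpa using h2
    rw [this, h1]
    calc c * r ≤ c * 2 := Nat.mul_le_mul_left _ hr2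
      _ = 2 * (c * 1) := by ring
      _ ≤ 2 * (c * r') := by
        apply Nat.mul_le_mul_left
        exact Nat.mul_le_mul_left _ hr'1
  have h4 : 2 * (m ! * 3 ^ (j + 1) * (j + 1)!) = (2 * 3 ^ j * (j + 1)! * m !) * 3 := by
    rw [pow_succ]; ring
  rw [h4] at h3
  have := Nat.le_of_mul_le_mul_right h3 (by norm_num)
  omega


end numeric

section centralizers

theorem card_centralizer_map {G : Type*} [Group G] (φ : G ≃* G) (g : G) :
    Nat.card (Subgroup.centralizer {φ g}) = Nat.card (Subgroup.centralizer {g}) := by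
  apply Nat.card_congr
  exact {
    toFun := fun x => ⟨φ.symm x, by
      have := x.2
      rw [Subgroup.mem_centralizer_singleton_iff] at this ⊢
      apply φ.injective
      simp [this]⟩
    invFun := fun x => ⟨φ x, by
      have := x.2
      rw [Subgroup.mem_centralizer_singleton_iff] at this ⊢
      rw [← map_mul, ← map_mul, this]⟩
    left_inv := fun x => by simp
    right_inv := fun x => by simp }

variable {α : Type*} [Fintype α] [DecidableEq α]

/-- the centralizer in `Perm α` of an even permutation has order `r` times the order of its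
centralizer in the alternating group, with `r ∣ 2` -/
theorem card_centralizer_alt [Nontrivial α] (g : alternatingGroup α) :
    ∃ r : ℕ, r ∣ 2 ∧ Nat.card (Subgroup.centralizer {(g : Perm α)}) =
      Nat.card (Subgroup.centralizer {g}) * r := by
  refine ⟨((alternatingGroup α).subgroupOf (Subgroup.centralizer {(g : Perm α)})).index, ?_, ?_⟩
  · have := Subgroup.relIndex_dvd_index_of_normal (alternatingGroup α)
      (Subgroup.centralizer {(g : Perm α)})
    rwa [alternatingGroup.index_eq_two] at this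
  · rw [← Subgroup.card_mul_index
      ((alternatingGroup α).subgroupOf (Subgroup.centralizer {(g : Perm α)}))]
    congr 1
    apply Nat.card_congr
    exact {
      invFun := fun x => ⟨⟨(x.1 : Perm α), by
          have := x.2
          rw [Subgroup.mem_centralizer_singleton_iff] at this ⊢
          exact congrArg Subtype.val this⟩, by
          rw [Subgroup.mem_subgroupOf]
          exact x.1.2⟩
      toFun := fun y => ⟨⟨(y.1 : Perm α), by
          have := y.2
          rwa [Subgroup.mem_subgroupOf] at this⟩, by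
          have := y.1.2
          rw [Subgroup.mem_centralizer_singleton_iff] at this ⊢
          exact Subtype.ext this⟩
      left_inv := fun x => by simp
      right_inv := fun y => by simp }

theorem card_centralizer_of_cycleType_replicate (g : Perm α) (k : ℕ) (hk : 1 ≤ k)
    (hg : g.cycleType = Multiset.replicate k 3) :
    Nat.card (Subgroup.centralizer {g}) = (Fintype.card α - 3 * k).factorial * 3 ^ k * k.factorial := by
  rw [nat_card_centralizer, hg]
  have h1 : (Multiset.replicate k 3).toFinset = {3} := by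
    rw [Multiset.toFinset_replicate, if_neg (by omega)]
  simp [h1, Multiset.count_replicate_self, mul_comm]


end centralizers

section stepone

/-- Step 1: automorphisms of `A_n`, `n ≠ 6`, preserve three-cycles. -/
theorem isThreeCycle_map {n : ℕ} (hn : 4 ≤ n) (h6 : n ≠ 6)
    (φ : MulAut (alternatingGroup (Fin n))) (g : alternatingGroup (Fin n))
    (hg : IsThreeCycle (g : Perm (Fin n))) :
    IsThreeCycle ((φ g : alternatingGroup (Fin n)) : Perm (Fin n)) := by
  have : Nontrivial (Fin n) := Fin.nontrivial_iff_two_le.mpr (by omega)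
  have ho : orderOf ((φ g : alternatingGroup (Fin n)) : Perm (Fin n)) = 3 := by
    rw [Subgroup.orderOf_coe, MulEquiv.orderOf_eq, ← Subgroup.orderOf_coe, hg.orderOf]
  obtain ⟨k', hk'⟩ := cycleType_prime_order (σ := ((φ g : alternatingGroup (Fin n)) : Perm (Fin n)))
    (by rw [ho]; norm_num)
  rw [ho] at hk'
  have hkn : 3 * (k' + 1) ≤ n := by
    have := sum_cycleType_le ((φ g : alternatingGroup (Fin n)) : Perm (Fin n))
    rw [hk', Multiset.sum_replicate, Fintype.card_fin, smul_eq_mul] at this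
    omega
  have hg1 : (g : Perm (Fin n)).cycleType = Multiset.replicate 1 3 := by
    rw [hg.cycleType]; rfl
  have c1 := card_centralizer_of_cycleType_replicate _ (k' + 1) (by omega) hk'
  have c2 := card_centralizer_of_cycleType_replicate _ 1 le_rfl hg1
  obtain ⟨r, hr, e2⟩ := card_centralizer_alt g
  obtain ⟨r', hr', e1⟩ := card_centralizer_alt (φ g)
  rw [card_centralizer_map φ g] at e1
  rw [c1, Fintype.card_fin] at e1
  rw [c2, Fintype.card_fin] at e2
  have hk1 := num_main n (k' + 1) _ r r' h6 (by omega) hkn hr hr' e1 e2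
  rw [IsThreeCycle, hk', hk1]
  rfl


end stepone

section points

/-- two distinct points outside a given pair -/
theorem exists_two_not_mem {n : ℕ} (hn : 4 ≤ n) (a b : Fin n) :
    ∃ c d : Fin n, c ≠ a ∧ c ≠ b ∧ d ≠ a ∧ d ≠ b ∧ c ≠ d := by
  have h : 1 < (Finset.univ \ ({a, b} : Finset (Fin n))).card := by
    have h1 : ({a, b} : Finset (Fin n)).card ≤ 2 := Finset.card_le_two
    have h2 := Finset.card_sdiff_add_card_inter (Finset.univ : Finset (Fin n)) {a, b}
    have h3 : (Finset.univ ∩ ({a, b} : Finset (Fin n))).card ≤ 2 :=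
      le_trans (Finset.card_le_card Finset.inter_subset_right) h1
    simp only [Finset.card_univ, Fintype.card_fin] at h2
    omega
  obtain ⟨c, hc, d, hd, hcd⟩ := Finset.one_lt_card.mp h
  simp only [Finset.mem_sdiff, Finset.mem_univ, Finset.mem_insert, Finset.mem_singleton,
    true_and, not_or] at hc hd
  exact ⟨c, d, hc.1, hc.2, hd.1, hd.2, hcd⟩

theorem conjNormal_injective (n : ℕ) (hn : 4 ≤ n) :
    Function.Injective
      (MulAut.conjNormal : Equiv.Perm (Fin n) →* MulAut ↥(alternatingGroup (Fin n))) := by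
  rw [injective_iff_map_eq_one]
  intro σ hσ
  by_contra hne
  obtain ⟨a, ha⟩ : ∃ a, σ a ≠ a := by
    by_contra h
    push Not at h
    exact hne (Equiv.ext h)
  obtain ⟨c, d, hca, hcb, hda, hdb, hcd⟩ := exists_two_not_mem hn a (σ a)
  have h3 : IsThreeCycle (swap (σ a) c * swap (σ a) d) :=
    isThreeCycle_swap_mul_swap_same hcb.symm hdb.symm hcd
  have key := congrArg (fun f : MulAut (alternatingGroup (Fin n)) =>
    ((f ⟨_, h3.mem_alternatingGroup⟩ : alternatingGroup (Fin n)) : Perm (Fin n))) hσ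
  simp only [MulAut.conjNormal_apply, MulAut.one_apply] at key
  have key2 := congrArg (fun f : Perm (Fin n) => (f * σ) a) key
  simp only [inv_mul_cancel_right, Perm.mul_apply, swap_apply_left] at key2
  rw [swap_apply_of_ne_of_ne ha.symm hda.symm, swap_apply_of_ne_of_ne ha.symm hca.symm,
    swap_apply_of_ne_of_ne hdb hcd.symm] at key2
  exact hdb key2.symm


end points

section cycles

variable {α : Type*} [DecidableEq α]

/-- the three-cycle `x → y → z → x` -/
def cyc (x y z : α) : Perm α := swap x y * swap y z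

theorem cyc_mul_cyc {o i y z : α} (h1 : o ≠ i) (h2 : o ≠ y) (h3 : i ≠ y) (h4 : o ≠ z) (h5 : i ≠ z)
    (h6 : y ≠ z) :
    cyc o i y * cyc o i z = swap o y * swap i z := by
  ext w
  simp only [cyc, Perm.mul_apply, swap_apply_def]
  split_ifs <;> simp_all

theorem cyc_mul_cyc_sq {o i y z : α} (h1 : o ≠ i) (h2 : o ≠ y) (h3 : i ≠ y) (h4 : o ≠ z)
    (h5 : i ≠ z) (h6 : y ≠ z) :
    (cyc o i y * cyc o i z) * (cyc o i y * cyc o i z) = 1 := by
  rw [cyc_mul_cyc h1 h2 h3 h4 h5 h6]
  ext w
  simp only [Perm.mul_apply, swap_apply_def, Perm.one_apply]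
  split_ifs <;> simp_all

theorem cyc_mul_cyc_ne_one {o i y z : α} (h1 : o ≠ i) (h2 : o ≠ y) (h3 : i ≠ y) (h4 : o ≠ z)
    (h5 : i ≠ z) (h6 : y ≠ z) :
    cyc o i y * cyc o i z ≠ 1 := by
  rw [cyc_mul_cyc h1 h2 h3 h4 h5 h6]
  intro h
  have := congrArg (fun f : Perm α => f o) h
  simp only [Perm.mul_apply, Perm.one_apply] at this
  rw [swap_apply_of_ne_of_ne h1 h4, swap_apply_left] at this
  exact h2 this.symm

theorem cyc_apply_mid {o i y : α} (h2 : o ≠ y) (h3 : i ≠ y) : cyc o i y i = y := by
  simp only [cyc, Perm.mul_apply, swap_apply_left]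
  exact swap_apply_of_ne_of_ne h2.symm h3.symm

theorem isThreeCycle_cyc [Fintype α] {x y z : α} (h1 : x ≠ y) (h2 : x ≠ z) (h3 : y ≠ z) :
    IsThreeCycle (cyc x y z) := by
  rw [cyc, swap_comm x y]
  exact isThreeCycle_swap_mul_swap_same h1.symm h3 h2

theorem conj_cyc (σ : Perm α) (x y z : α) :
    σ * cyc x y z * σ⁻¹ = cyc (σ x) (σ y) (σ z) := by
  simp only [cyc, swap_apply_apply]
  group


theorem cyc_J1 {o i y : α} (h1 : o ≠ i) (h2 : o ≠ y) (h3 : i ≠ y) :
    cyc o y i * cyc o i y = 1 := by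
  ext w
  simp only [cyc, Perm.mul_apply, swap_apply_def, Perm.one_apply]
  split_ifs <;> simp_all

theorem cyc_J2 {o i y z : α} (h1 : o ≠ i) (h2 : o ≠ y) (h3 : i ≠ y) (h4 : o ≠ z) (h5 : i ≠ z)
    (h6 : y ≠ z) :
    cyc o y z * cyc o i y = cyc o i z := by
  ext w
  simp only [cyc, Perm.mul_apply, swap_apply_def]
  split_ifs <;> simp_all

theorem cyc_J3 {o a b c : α} (h1 : o ≠ a) (h2 : o ≠ b) (h3 : o ≠ c) (h4 : a ≠ b) (h5 : a ≠ c)
    (h6 : b ≠ c) :
    cyc a b c = cyc o a b * cyc o b c := by
  ext w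
  simp only [cyc, Perm.mul_apply, swap_apply_def]
  split_ifs <;> simp_all

theorem cyc_mem_base {K : Subgroup (Perm α)} {o i : α} (hoi : o ≠ i)
    (hK : ∀ y, y ≠ o → y ≠ i → cyc o i y ∈ K) {y z : α} (hy : o ≠ y) (hz : o ≠ z) (hyz : y ≠ z) :
    cyc o y z ∈ K := by
  by_cases h1 : y = i
  · subst h1
    exact hK z hz.symm hyz.symm
  by_cases h2 : z = i
  · subst h2
    have e := cyc_J1 hz hy hyz.symm
    rw [eq_inv_of_mul_eq_one_left e]
    exact K.inv_mem (hK y hy.symm hyz)
  · have e := cyc_J2 hoi hy (Ne.symm h1) hz (Ne.symm h2) hyz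
    have e' : cyc o y z = cyc o i z * (cyc o i y)⁻¹ := by
      rw [← e, mul_inv_cancel_right]
    rw [e']
    exact K.mul_mem (hK z hz.symm h2) (K.inv_mem (hK y hy.symm h1))

variable [Fintype α]

theorem eq_cyc {t : Perm α} (ht : IsThreeCycle t) {a : α} (ha : a ∈ t.support) :
    t = cyc a (t a) (t (t a)) :=
  ht.eq_swap_mul_swap_iff_mem_support.mpr ha

/-- Lemma D: a subgroup containing the three-cycles `(o i y)` contains all three-cycles. -/
theorem mem_of_isThreeCycle {K : Subgroup (Perm α)} {o i : α} (hoi : o ≠ i)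
    (hK : ∀ y, y ≠ o → y ≠ i → cyc o i y ∈ K) (t : Perm α) (ht : IsThreeCycle t) : t ∈ K := by
  by_cases ho : o ∈ t.support
  · have nd := ht.nodup_iff_mem_support.mpr ho
    simp only [List.nodup_cons, List.mem_cons, List.not_mem_nil, or_false, not_or,
      List.nodup_nil, and_true, not_false_eq_true] at nd
    rw [eq_cyc ht ho]
    exact cyc_mem_base hoi hK nd.1.1 nd.1.2 nd.2
  · obtain ⟨a, ha⟩ : ∃ x, x ∈ t.support := by
      apply Finset.card_pos.mp
      rw [ht.card_support]; norm_num
    have nd := ht.nodup_iff_mem_support.mpr ha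
    simp only [List.nodup_cons, List.mem_cons, List.not_mem_nil, or_false, not_or,
      List.nodup_nil, and_true, not_false_eq_true] at nd
    have hb : t a ∈ t.support := apply_mem_support.mpr ha
    have hc : t (t a) ∈ t.support := apply_mem_support.mpr hb
    have h1 : o ≠ a := fun h => ho (h ▸ ha)
    have h2 : o ≠ t a := fun h => ho (h ▸ hb)
    have h3 : o ≠ t (t a) := fun h => ho (h ▸ hc)
    rw [eq_cyc ht ha, cyc_J3 h1 h2 h3 nd.1.1 nd.1.2 nd.2]
    exact K.mul_mem (cyc_mem_base hoi hK h1 h2 nd.1.1) (cyc_mem_base hoi hK h2 h3 nd.2)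


theorem apply3 {t : Perm α} (ht : IsThreeCycle t) (x : α) : t (t (t x)) = x := by
  have h : (t ^ 3) x = x := by rw [← ht.orderOf, pow_orderOf_eq_one]; rfl
  simpa [pow_succ] using h

/-- Lemma A: two three-cycles whose product is an involution share an arc. -/
theorem exists_common_arc {t u : Perm α} (ht : IsThreeCycle t) (hu : IsThreeCycle u)
    (h2 : ∀ x, t (u (t (u x))) = x) (hne : t * u ≠ 1) :
    ∃ a, t a = u a ∧ t a ≠ a := by
  by_cases hx : ∃ x, u x = x ∧ t x ≠ x
  · obtain ⟨x, hux, htx⟩ := hx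
    refine ⟨t x, ?_, ?_⟩
    · have h := h2 x
      rw [hux] at h
      have h3 := apply3 ht x
      exact (t.injective (h.trans h3.symm)).symm
    · intro h; exact htx (t.injective h)
  · push Not at hx
    have hsub : t.support ⊆ u.support := by
      intro x hx'
      rw [mem_support] at hx' ⊢
      exact fun h => hx' (hx x h)
    have hsupp : t.support = u.support :=
      Finset.eq_of_subset_of_card_le hsub (by rw [ht.card_support, hu.card_support])
    obtain ⟨x, hxt⟩ : ∃ x, x ∈ t.support := by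
      apply Finset.card_pos.mp
      rw [ht.card_support]; norm_num
    have hxu : x ∈ u.support := hsupp ▸ hxt
    have st := ht.support_eq_iff_mem_support.mpr hxt
    have nt := ht.nodup_iff_mem_support.mpr hxt
    have nu := hu.nodup_iff_mem_support.mpr hxu
    have h1 : u x ∈ t.support := by rw [hsupp]; exact apply_mem_support.mpr hxu
    have h1' : u (u x) ∈ t.support := by
      rw [hsupp]; exact apply_mem_support.mpr (apply_mem_support.mpr hxu)
    rw [st] at h1 h1'
    simp only [Finset.mem_insert, Finset.mem_singleton] at h1 h1'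
    simp only [List.nodup_cons, List.mem_cons, List.not_mem_nil, or_false, not_or,
      List.nodup_nil, and_true, not_false_eq_true] at nt nu
    by_cases hc : u x = t x
    · exact ⟨x, hc.symm, mem_support.mp hxt⟩
    · exfalso
      apply hne
      have e1 : u x = t (t x) := by grind
      have e2 : u (u x) = t x := by grind
      have e3 := apply3 ht x
      have e4 := apply3 hu x
      ext z
      by_cases hz : z ∈ t.support
      · rw [st] at hz
        simp only [Finset.mem_insert, Finset.mem_singleton] at hz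
        simp only [Perm.mul_apply, Perm.one_apply]
        rcases hz with hz | hz | hz
        · rw [hz, e1, e3]
        · have h' : u (t x) = x := by rw [← e2, e4]
          rw [hz, h']
        · have h' : u (t (t x)) = t x := by rw [← e1, e2]
          rw [hz, h']
      · have hz' : z ∉ u.support := hsupp ▸ hz
        rw [notMem_support] at hz hz'
        simp [hz, hz']

/-- Lemma B -/
theorem common_arc_of_three {t u v : Perm α} (ht : IsThreeCycle t) (hu : IsThreeCycle u)
    (hv : IsThreeCycle v) {a : α} (hab : t a = u a) (ha : t a ≠ a) (htu : t ≠ u)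
    (h1 : ∃ p, t p = v p ∧ t p ≠ p) (h2 : ∃ q, u q = v q ∧ u q ≠ q) : v a = t a := by
  obtain ⟨p, hp, hp'⟩ := h1
  obtain ⟨q, hq, hq'⟩ := h2
  have hat : a ∈ t.support := mem_support.mpr ha
  have hau : a ∈ u.support := mem_support.mpr (hab ▸ ha)
  have hpt : p ∈ t.support := mem_support.mpr hp'
  have hqu : q ∈ u.support := mem_support.mpr hq'
  have hpv : p ∈ v.support := mem_support.mpr (hp ▸ hp')
  have hqv : q ∈ v.support := mem_support.mpr (hq ▸ hq')
  have st := ht.support_eq_iff_mem_support.mpr hat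
  have su := hu.support_eq_iff_mem_support.mpr hau
  have nt := ht.nodup_iff_mem_support.mpr hat
  have nu := hu.nodup_iff_mem_support.mpr hau
  have et := ht.eq_swap_mul_swap_iff_mem_support.mpr hat
  have eu := hu.eq_swap_mul_swap_iff_mem_support.mpr hau
  have sv := hv.support_eq_iff_mem_support.mpr hpv
  have nv := hv.nodup_iff_mem_support.mpr hpv
  have sv' := hv.support_eq_iff_mem_support.mpr hqv
  have nv' := hv.nodup_iff_mem_support.mpr hqv
  have hxy : t (t a) ≠ u (u a) := by
    intro h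
    apply htu
    have e : swap a (t a) * swap (t a) (t (t a)) = swap a (u a) * swap (u a) (u (u a)) := by
      rw [h, hab]
    exact et.trans (e.trans eu.symm)
  have t3 := apply3 ht a
  have u3 := apply3 hu a
  have v3p := apply3 hv p
  have v3q := apply3 hv q
  rw [st] at hpt
  rw [su] at hqu
  simp only [Finset.mem_insert, Finset.mem_singleton] at hpt hqu
  simp only [List.nodup_cons, List.mem_cons, List.not_mem_nil, or_false, not_or,
      List.nodup_nil, and_true, not_false_eq_true] at nt nu nv nv'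
  have hqv2 : q ∈ v.support := hqv
  rw [sv] at hqv2
  simp only [Finset.mem_insert, Finset.mem_singleton] at hqv2
  grind


end cycles

section main

variable {n : ℕ}

/-- surjectivity: every automorphism is conjugation by a permutation -/
theorem exists_conj (hn : 4 ≤ n) (h6 : n ≠ 6) (φ : MulAut (alternatingGroup (Fin n))) :
    ∃ σ : Perm (Fin n), MulAut.conjNormal σ = φ := by
  classical
  -- base points
  obtain ⟨o, i, y0, z0, hoi, hy0o, hy0i, hz0o, hz0i, hy0z0⟩ :
      ∃ o i y0 z0 : Fin n, o ≠ i ∧ y0 ≠ o ∧ y0 ≠ i ∧ z0 ≠ o ∧ z0 ≠ i ∧ y0 ≠ z0 := by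
    refine ⟨⟨0, by omega⟩, ⟨1, by omega⟩, ⟨2, by omega⟩, ⟨3, by omega⟩, ?_, ?_, ?_, ?_, ?_, ?_⟩ <;>
    simp [Fin.ext_iff]
  -- the generators
  let c : ∀ y : Fin n, y ≠ o → y ≠ i → alternatingGroup (Fin n) := fun y h1 h2 =>
    ⟨cyc o i y, (isThreeCycle_cyc hoi h1.symm h2.symm).mem_alternatingGroup⟩
  have hc : ∀ y (h1 : y ≠ o) (h2 : y ≠ i), ((c y h1 h2 : alternatingGroup (Fin n)) : Perm (Fin n)) =
      cyc o i y := fun y h1 h2 => rfl
  -- their images
  let d : Fin n → Perm (Fin n) := fun y =>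
    if h : y ≠ o ∧ y ≠ i then ((φ (c y h.1 h.2) : alternatingGroup (Fin n)) : Perm (Fin n)) else 1
  have hd : ∀ y (h1 : y ≠ o) (h2 : y ≠ i),
      d y = ((φ (c y h1 h2) : alternatingGroup (Fin n)) : Perm (Fin n)) := by
    intro y h1 h2
    simp only [d, dif_pos (And.intro h1 h2)]
  have hd3 : ∀ y, y ≠ o → y ≠ i → IsThreeCycle (d y) := by
    intro y h1 h2
    rw [hd y h1 h2]
    exact isThreeCycle_map hn h6 φ _ (isThreeCycle_cyc hoi h1.symm h2.symm)
  have hdinj : ∀ y z, y ≠ o → y ≠ i → z ≠ o → z ≠ i → d y = d z → y = z := by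
    intro y z hy1 hy2 hz1 hz2 h
    rw [hd y hy1 hy2, hd z hz1 hz2] at h
    have h' := φ.injective (Subtype.ext h)
    have h'' := congrArg (fun g : alternatingGroup (Fin n) => (g : Perm (Fin n)) i) h'
    simp only [hc] at h''
    rwa [cyc_apply_mid hy1.symm hy2.symm, cyc_apply_mid hz1.symm hz2.symm] at h''
  have hrel : ∀ y z, y ≠ o → y ≠ i → z ≠ o → z ≠ i → y ≠ z →
      (∀ x, d y (d z (d y (d z x))) = x) ∧ d y * d z ≠ 1 := by
    intro y z hy1 hy2 hz1 hz2 hyz
    have e : d y * d z =
        ((φ (c y hy1 hy2 * c z hz1 hz2) : alternatingGroup (Fin n)) : Perm (Fin n)) := by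
      rw [hd y hy1 hy2, hd z hz1 hz2, map_mul]; rfl
    constructor
    · intro x
      have hsq : (d y * d z) * (d y * d z) = 1 := by
        rw [e, ← Subgroup.coe_mul, ← map_mul]
        have h1 : (c y hy1 hy2 * c z hz1 hz2) * (c y hy1 hy2 * c z hz1 hz2) = 1 := by
          apply Subtype.ext
          simp only [Subgroup.coe_mul, Subgroup.coe_one, hc]
          exact cyc_mul_cyc_sq hoi hy1.symm hy2.symm hz1.symm hz2.symm hyz
        rw [h1, map_one]; rfl
      have h2 := congrArg (fun f : Perm (Fin n) => f x) hsq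
      simpa using h2
    · rw [e]
      intro h
      have h1 : c y hy1 hy2 * c z hz1 hz2 = 1 := by
        apply φ.injective
        rw [map_one]
        exact Subtype.ext h
      have h2 := congrArg (fun g : alternatingGroup (Fin n) => (g : Perm (Fin n))) h1
      simp only [Subgroup.coe_mul, Subgroup.coe_one, hc] at h2
      exact cyc_mul_cyc_ne_one hoi hy1.symm hy2.symm hz1.symm hz2.symm hyz h2
  -- the common arc
  obtain ⟨a, hab, ha⟩ := exists_common_arc (hd3 y0 hy0o hy0i) (hd3 z0 hz0o hz0i)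
    (hrel y0 z0 hy0o hy0i hz0o hz0i hy0z0).1 (hrel y0 z0 hy0o hy0i hz0o hz0i hy0z0).2
  have hall : ∀ w, w ≠ o → w ≠ i → d w a = d y0 a := by
    intro w hw1 hw2
    by_cases h1 : w = y0
    · rw [h1]
    by_cases h2 : w = z0
    · rw [h2, hab]
    · apply common_arc_of_three (hd3 y0 hy0o hy0i) (hd3 z0 hz0o hz0i) (hd3 w hw1 hw2) hab ha
      · intro h; exact hy0z0 (hdinj _ _ hy0o hy0i hz0o hz0i h)
      · exact exists_common_arc (hd3 y0 hy0o hy0i) (hd3 w hw1 hw2)
          (hrel y0 w hy0o hy0i hw1 hw2 (Ne.symm h1)).1 (hrel y0 w hy0o hy0i hw1 hw2 (Ne.symm h1)).2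
      · exact exists_common_arc (hd3 z0 hz0o hz0i) (hd3 w hw1 hw2)
          (hrel z0 w hz0o hz0i hw1 hw2 (Ne.symm h2)).1 (hrel z0 w hz0o hz0i hw1 hw2 (Ne.symm h2)).2
  obtain ⟨b, hb⟩ : ∃ b, b = d y0 a := ⟨_, rfl⟩
  rw [← hb] at hall ha
  -- structure of `d w`
  have hdw : ∀ w (h1 : w ≠ o) (h2 : w ≠ i), d w = cyc a b (d w b) ∧ a ≠ d w b ∧ b ≠ d w b := by
    intro w h1 h2
    have h3 := hd3 w h1 h2
    have hwa : d w a = b := hall w h1 h2
    have hmem : a ∈ (d w).support := by rw [mem_support, hwa]; exact ha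
    have e := eq_cyc h3 hmem
    have nd := h3.nodup_iff_mem_support.mpr hmem
    rw [hwa] at e nd
    simp only [List.nodup_cons, List.mem_cons, List.not_mem_nil, or_false, not_or,
      List.nodup_nil, and_true, not_false_eq_true] at nd
    exact ⟨e, nd.1.2, nd.2⟩
  -- the permutation
  let f : Fin n → Fin n := fun w => if w = o then a else if w = i then b else d w b
  have hfo : f o = a := by simp [f]
  have hfi : f i = b := by simp [f, hoi.symm]
  have hfw : ∀ w, w ≠ o → w ≠ i → f w = d w b := by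
    intro w h1 h2; simp [f, h1, h2]
  have hfinj : Function.Injective f := by
    intro w w' h
    by_cases h1 : w = o
    · by_cases h1' : w' = o
      · rw [h1, h1']
      · by_cases h2' : w' = i
        · exfalso; rw [h1, h2', hfo, hfi] at h; exact ha h.symm
        · exfalso; rw [h1, hfo, hfw w' h1' h2'] at h; exact (hdw w' h1' h2').2.1 h
    · by_cases h2 : w = i
      · by_cases h1' : w' = o
        · exfalso; rw [h2, h1', hfo, hfi] at h; exact ha h
        · by_cases h2' : w' = i
          · rw [h2, h2']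
          · exfalso; rw [h2, hfi, hfw w' h1' h2'] at h; exact (hdw w' h1' h2').2.2 h
      · by_cases h1' : w' = o
        · exfalso; rw [h1', hfo, hfw w h1 h2] at h; exact (hdw w h1 h2).2.1 h.symm
        · by_cases h2' : w' = i
          · exfalso; rw [h2', hfi, hfw w h1 h2] at h; exact (hdw w h1 h2).2.2 h.symm
          · rw [hfw w h1 h2, hfw w' h1' h2'] at h
            apply hdinj w w' h1 h2 h1' h2'
            rw [(hdw w h1 h2).1, (hdw w' h1' h2').1, h]
  let σ : Perm (Fin n) := Equiv.ofBijective f (Finite.injective_iff_bijective.mp hfinj)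
  have hσ : ∀ w, σ w = f w := fun w => rfl
  refine ⟨σ, ?_⟩
  -- agreement on the generators
  have hagree : ∀ w (h1 : w ≠ o) (h2 : w ≠ i),
      MulAut.conjNormal σ (c w h1 h2) = φ (c w h1 h2) := by
    intro w h1 h2
    apply Subtype.ext
    rw [MulAut.conjNormal_apply, ← hd w h1 h2, (hdw w h1 h2).1, hc w h1 h2, conj_cyc, hσ, hσ, hσ, hfo, hfi,
      hfw w h1 h2]
  -- agreement everywhere
  let E : Subgroup (alternatingGroup (Fin n)) :=
    MonoidHom.eqLocus ((MulAut.conjNormal σ : MulAut (alternatingGroup (Fin n))).toMonoidHom)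
      φ.toMonoidHom
  let K : Subgroup (Perm (Fin n)) := E.map (alternatingGroup (Fin n)).subtype
  have hK : ∀ y, y ≠ o → y ≠ i → cyc o i y ∈ K := by
    intro y h1 h2
    exact ⟨c y h1 h2, hagree y h1 h2, rfl⟩
  have h3 : ∀ g : alternatingGroup (Fin n), IsThreeCycle (g : Perm (Fin n)) → g ∈ E := by
    intro g hg
    obtain ⟨g', hg', e⟩ := mem_of_isThreeCycle hoi hK _ hg
    have : g' = g := Subtype.ext e
    rwa [← this]
  have hE : E = ⊤ := by
    rw [eq_top_iff, ← alternatingGroup.closure_isThreeCycles_eq_top, Subgroup.closure_le]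
    exact fun g hg => h3 g hg
  apply MulEquiv.ext
  intro g
  have hg : g ∈ E := hE ▸ Subgroup.mem_top g
  exact hg

end main

/-- Automorphisms of the alternating groups: for n ≥ 4 with n ≠ 6, every automorphism of the alternating group of degree n is conjugation by a unique permutation, i.e. conjugation induces an isomorphism from the symmetric group of degree n onto the automorphism group of the alternating group (so the outer automorphism group has order 2). -/
theorem result (n : ℕ) (hn : 4 ≤ n) (h6 : n ≠ 6) : Function.Bijective (MulAut.conjNormal : Equiv.Perm (Fin n) →* MulAut ↥(alternatingGroup (Fin n))) := by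
  exact ⟨conjNormal_injective n hn, fun φ => exists_conj hn h6 φ⟩

end Cfsg.Agent.S2119
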