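import Cfsg.Statements.S3375

set_option autoImplicit false
open Cfsg

namespace Cfsg.Agent.S3375

/-- core counting step: a γ-invariant subgroup of index 2 is inverted elementwise -/
theorem inverted_of_invariant {H : Type*} [Group H] [Finite H] (γ : MulAut H)
    (hγ2 : ∀ h : H, γ (γ h) = h)
    (hfix : Nat.card {h : H // γ h = h} = 2)
    (M : Subgroup H) (hM : M.index = 2) (hinv : ∀ h : H, γ h ∈ M ↔ h ∈ M) :
    ∀ a ∈ M, γ a = a⁻¹ := by
  classical
  -- the fixed point subgroup
  let Fx : Subgroup H :=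
    { carrier := {h | γ h = h}
      mul_mem' := by
        intro a b ha hb
        simp only [Set.mem_setOf_eq] at ha hb ⊢
        rw [map_mul, ha, hb]
      one_mem' := by simp
      inv_mem' := by
        intro a ha
        simp only [Set.mem_setOf_eq] at ha ⊢
        rw [map_inv, ha] }
  have hFxmem : ∀ h : H, h ∈ Fx ↔ γ h = h := fun h => Iff.rfl
  have hFxcard : Nat.card Fx = 2 := hfix
  -- the map f
  have claim1 : ∀ h : H, h * (γ h)⁻¹ ∈ M := by
    intro h
    rw [Subgroup.mul_mem_iff_of_index_two hM, inv_mem_iff, hinv]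
  let F : H ⧸ Fx → M := Quotient.lift (fun h => (⟨h * (γ h)⁻¹, claim1 h⟩ : M)) (by
    intro a b hab
    have hab' : a⁻¹ * b ∈ Fx := QuotientGroup.leftRel_apply.mp hab
    rw [hFxmem, map_mul, map_inv] at hab'
    apply Subtype.ext
    show a * (γ a)⁻¹ = b * (γ b)⁻¹
    have h1 : γ b = γ a * (a⁻¹ * b) := by rw [← hab']; group
    rw [h1]; group)
  have hFinj : Function.Injective F := by
    intro x y
    refine Quotient.inductionOn₂ x y ?_
    intro a b hab
    have h1 : a * (γ a)⁻¹ = b * (γ b)⁻¹ := congrArg Subtype.val hab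
    apply Quotient.sound
    show QuotientGroup.leftRel Fx a b
    rw [QuotientGroup.leftRel_apply, hFxmem, map_mul, map_inv]
    have h2 : (γ a)⁻¹ = a⁻¹ * (b * (γ b)⁻¹) := by rw [← h1]; group
    rw [h2]; group
  have hcard : Nat.card M ≤ Nat.card (H ⧸ Fx) := by
    have e1 := Subgroup.card_eq_card_quotient_mul_card_subgroup Fx
    have e2 := Subgroup.card_mul_index M
    rw [hFxcard] at e1
    rw [hM] at e2
    omega
  have hFsurj : Function.Surjective F := (hFinj.bijective_of_nat_card_le hcard).2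
  intro a ha
  obtain ⟨x, hx⟩ := hFsurj ⟨a, ha⟩
  revert hx
  refine Quotient.inductionOn x ?_
  intro h hx
  have h1 : h * (γ h)⁻¹ = a := congrArg Subtype.val hx
  rw [← h1, map_mul, map_inv, hγ2]
  group

/-- existence of a γ-invariant subgroup of index 2 -/
theorem exists_invariant {H : Type*} [Group H] (γ : MulAut H)
    (hγ2 : ∀ h : H, γ (γ h) = h) (M : Subgroup H) (hM : M.index = 2) :
    ∃ M' : Subgroup H, M'.index = 2 ∧ ∀ h : H, γ h ∈ M' ↔ h ∈ M' := by
  by_cases hinv : ∀ h : H, γ h ∈ M ↔ h ∈ M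
  · exact ⟨M, hM, hinv⟩
  push_neg at hinv
  obtain ⟨a, ha⟩ := hinv
  let D : Subgroup H :=
    { carrier := {h | γ h ∈ M ↔ h ∈ M}
      mul_mem' := by
        intro x y hx hy
        simp only [Set.mem_setOf_eq] at hx hy ⊢
        rw [map_mul, Subgroup.mul_mem_iff_of_index_two hM, Subgroup.mul_mem_iff_of_index_two hM, hx, hy]
      one_mem' := by simp
      inv_mem' := by
        intro x hx
        simp only [Set.mem_setOf_eq] at hx ⊢
        rw [map_inv, inv_mem_iff, inv_mem_iff, hx] }
  have hDmem : ∀ h : H, h ∈ D ↔ (γ h ∈ M ↔ h ∈ M) := fun h => Iff.rfl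
  refine ⟨D, ?_, ?_⟩
  · rw [Subgroup.index_eq_two_iff]
    refine ⟨a, fun b => ?_⟩
    rw [hDmem, hDmem, map_mul, Subgroup.mul_mem_iff_of_index_two hM, Subgroup.mul_mem_iff_of_index_two hM]
    by_cases h1 : γ b ∈ M <;> by_cases h2 : b ∈ M <;> by_cases h3 : γ a ∈ M <;> by_cases h4 : a ∈ M <;>
      simp_all [Xor']
  · intro h
    rw [hDmem, hDmem, hγ2]
    tauto

/-- Let γ be an automorphism of order 2 of a finite group H. (i) If γ fixes only the identity, then H is abelian and γ inverts every element. (ii) If γ has exactly two fixed points and H has a subgroup of index 2, then H has a γ-invariant abelian subgroup of index 2 on which γ acts by inversion. -/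
theorem result {H : Type*} [Group H] [Finite H] (γ : MulAut H) (hγ : orderOf γ = 2) :
    ((∀ h : H, γ h = h → h = 1) → (∀ a b : H, a * b = b * a) ∧ ∀ h : H, γ h = h⁻¹) ∧
    ((Nat.card {h : H // γ h = h} = 2 ∧ ∃ M : Subgroup H, M.index = 2) →
      ∃ A : Subgroup H, A.index = 2 ∧ IsMulCommutative A ∧ (∀ a ∈ A, γ a ∈ A) ∧ ∀ a ∈ A, γ a = a⁻¹) := by
  have hγ2 : ∀ h : H, γ (γ h) = h := by
    intro h
    have := pow_orderOf_eq_one γ
    rw [hγ, pow_two] at this
    have h2 := congrArg (fun φ : MulAut H => φ h) this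
    simpa using h2
  constructor
  · intro hfpf
    have hinj : Function.Injective (fun h : H => h * (γ h)⁻¹) := by
      intro a b hab
      have hab' : a * (γ a)⁻¹ = b * (γ b)⁻¹ := hab
      have h1 : γ (b⁻¹ * a) = b⁻¹ * a := by
        rw [map_mul, map_inv]
        have h2 : (γ a)⁻¹ = a⁻¹ * (b * (γ b)⁻¹) := by rw [← hab']; group
        have h3 : γ a = γ b * b⁻¹ * a := by
          have := congrArg (·⁻¹) h2
          simp only [inv_inv, mul_inv_rev] at this
          exact this.trans (by simp only [mul_assoc])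
        rw [h3]; group
      have h4 := hfpf _ h1
      have : a = b * (b⁻¹ * a) := by group
      rw [this, h4, mul_one]
    have hsurj : Function.Surjective (fun h : H => h * (γ h)⁻¹) := Finite.surjective_of_injective hinj
    have hinvert : ∀ h : H, γ h = h⁻¹ := by
      intro g
      obtain ⟨h, hh⟩ := hsurj g
      have hh' : h * (γ h)⁻¹ = g := hh
      rw [← hh', map_mul, map_inv, hγ2]
      group
    refine ⟨?_, hinvert⟩
    intro a b
    have h1 := hinvert (a * b)
    rw [map_mul, hinvert a, hinvert b] at h1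
    have h2 := congrArg (·⁻¹) h1
    simp only [mul_inv_rev, inv_inv] at h2
    exact h2.symm
  · rintro ⟨hfix, M, hM⟩
    obtain ⟨A, hA2, hAinv⟩ := exists_invariant γ hγ2 M hM
    have hinvert := inverted_of_invariant γ hγ2 hfix A hA2 hAinv
    refine ⟨A, hA2, ?_, ?_, hinvert⟩
    · refine ⟨⟨?_⟩⟩
      rintro ⟨a, ha⟩ ⟨b, hb⟩
      apply Subtype.ext
      show a * b = b * a
      have h1 := hinvert (a * b) (A.mul_mem ha hb)
      rw [map_mul, hinvert a ha, hinvert b hb] at h1
      have h2 := congrArg (·⁻¹) h1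
      simp only [mul_inv_rev, inv_inv] at h2
      exact h2.symm
    · intro a ha
      rw [hinvert a ha]
      exact A.inv_mem ha

end Cfsg.Agent.S3375
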