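import Mathlib
import Cfsg.Statements.S1500
import Cfsg.Agent.Helper25.DadeIso

set_option autoImplicit false
open Cfsg

namespace Cfsg.Agent.S1500

open Cfsg.Agent.Helper25 in
/-- Under the Dade hypothesis for (A, L, H), let α be a class function of L vanishing outside A. Then (i) for every class function β of L vanishing outside A, the inner product over G of the Dade images of α and β equals the inner product of α and β over L; and (ii) for every class function χ of G and every function ψ on L whose value at each a ∈ A is the average of χ over the coset a·H(a), the inner product over G of the Dade image of α with χ equals the inner product over L of α with ψ. -/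
theorem result {G : Type*} [Group G] [Fintype G] (A : Set G) (L : Subgroup G) [Fintype L] (H : G → Subgroup G) (hD : Cfsg.DadeHypothesis A L H) (α : L → ℂ) (hα : Cfsg.IsClassFunction L α) (hαA : ∀ x : L, (x : G) ∉ A → α x = 0) : (∀ β : L → ℂ, Cfsg.IsClassFunction L β → (∀ x : L, (x : G) ∉ A → β x = 0) → Cfsg.classInner (Cfsg.dadeIsometry A L H α) (Cfsg.dadeIsometry A L H β) = Cfsg.classInner α β) ∧ (∀ (χ : G → ℂ) (ψ : L → ℂ), Cfsg.IsClassFunction G χ → (∀ a : L, (a : G) ∈ A → ψ a = (Nat.card (H a) : ℂ)⁻¹ * ∑ᶠ u ∈ (H a : Set G), χ (a * u)) → Cfsg.classInner (Cfsg.dadeIsometry A L H α) χ = Cfsg.classInner α ψ) := by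
  classical
  refine ⟨?_, ?_⟩
  · intro β hβ _
    refine dade_inner hD hα hαA _ β (isClassFunction_dadeIsometry hD hβ) ?_
    intro a ha
    rw [finsum_mem_subgroup_eq_sum]
    have h1 : ∀ u : G, (if u ∈ H a then dadeIsometry A L H β ((a : G) * u) else 0) =
        if u ∈ H a then β a else 0 := by
      intro u
      split_ifs with hu
      · exact dadeIsometry_apply hD hβ (x := 1) ha hu (by simp)
      · rfl
    simp only [h1]
    rw [← Finset.sum_filter, Finset.sum_const, nsmul_eq_mul]
    have hcard : (Finset.univ.filter (fun u : G => u ∈ H a)).card = Nat.card (H a) := by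
      rw [Nat.card_eq_fintype_card, Fintype.card_subtype]
    rw [hcard]
    have hH0 : (Nat.card (H a) : ℂ) ≠ 0 := by
      have : 0 < Nat.card (H a) := Nat.card_pos
      exact_mod_cast this.ne'
    field_simp
  · intro χ ψ hχ hψ
    exact dade_inner hD hα hαA χ ψ hχ hψ

end Cfsg.Agent.S1500
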