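import Cfsg.Statements.S1535
import Cfsg.Agent.Helper25.CohSplit
import Cfsg.Agent.Helper25.Sibley1
import Cfsg.Agent.Helper9.FP3
import Cfsg.Agent.Helper75.TIFNExc

set_option autoImplicit false
open Cfsg

namespace Cfsg.Agent.S1535

open Cfsg.Agent.Helper25

/-- In a group with a normal subgroup `H` containing the centralizers of its nonidentity elements,
the irreducible characters not containing `H` in their kernel are exactly the characters induced
from nonprincipal irreducible characters of `H`. -/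
theorem relevant_eq_induced {N : Type*} [Group N] [Fintype N] (H : Subgroup N) [H.Normal]
    (hC : ∀ h ∈ H, h ≠ 1 → Subgroup.centralizer ({h} : Set N) ≤ H) :
    {χ : N → ℂ | Cfsg.IsIrrCharacter N χ ∧ ∃ h ∈ H, χ h ≠ χ 1} = inducedIrrAbove H ⊥ := by
  ext φ
  constructor
  · rintro ⟨hirr, k, hk, hne⟩
    obtain ⟨φ', hφ', hχφ⟩ := Helper75.ii_exists_induced hC hirr ⟨k, hk, hne⟩
    refine ⟨φ', hφ', ?_, ?_, hχφ⟩
    · intro h1
      apply hne
      rw [hχφ, h1]
      exact Helper75.tf_ind_one_apply (⟨k, hk⟩ : H)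
    · intro a ha
      have h2 : a = 1 := Subtype.ext (Subgroup.mem_bot.mp ha)
      rw [h2]
  · rintro ⟨θ, hθ, hθ1, _, rfl⟩
    exact Helper75.tf_ind_relevant hC hθ hθ1

/-- Let N be a finite group with a proper nontrivial normal subgroup H such that every element commuting with a non-identity element of H lies in H (N is a Frobenius group with kernel H); let e be the index of H and suppose Nat.card H ≠ e + 1. Let S be the set of irreducible characters χ of N with χ h ≠ χ 1 for some h ∈ H, and τ a linear isometry on the integer combinations of S vanishing at 1, with values virtual characters of a finite group G vanishing at 1. Then (S, N minus 1, τ) is coherent, or there is a prime p with Nat.card H a power of p, H non-abelian and [H : [H,H]] ≤ 4e² + 1. -/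
theorem result {N : Type*} [Group N] [Fintype N] {G : Type*} [Group G] [Fintype G] (H : Subgroup N) [H.Normal] (hH1 : H ≠ ⊥) (hH2 : H ≠ ⊤) (hC : ∀ h ∈ H, h ≠ 1 → Subgroup.centralizer ({h} : Set N) ≤ H) (he : Nat.card H ≠ H.index + 1) (τ : (N → ℂ) → (G → ℂ)) (hτ : Cfsg.IsLinearIsometryOn (Cfsg.zspanOn {χ : N → ℂ | Cfsg.IsIrrCharacter N χ ∧ ∃ h ∈ H, χ h ≠ χ 1} {1}ᶜ) τ) (hτ1 : ∀ α ∈ Cfsg.zspanOn {χ : N → ℂ | Cfsg.IsIrrCharacter N χ ∧ ∃ h ∈ H, χ h ≠ χ 1} {1}ᶜ, τ α 1 = 0) : Cfsg.IsCoherent {χ : N → ℂ | Cfsg.IsIrrCharacter N χ ∧ ∃ h ∈ H, χ h ≠ χ 1} {1}ᶜ τ ∨ ∃ p : ℕ, p.Prime ∧ (∃ m : ℕ, Nat.card H = p ^ m) ∧ ¬ IsMulCommutative H ∧ (⁅H, H⁆.subgroupOf H).index ≤ 4 * H.index ^ 2 + 1 := by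
  classical
  obtain ⟨hnil, W, hWbot, hinf, hsup, hfpf⟩ := Helper9.FP.fp_frob_type H hH2 hC
  have hSeq := relevant_eq_induced H hC
  rw [hSeq] at hτ hτ1 ⊢
  have hirr : ∀ χ ∈ inducedIrrAbove H ⊥, IsIrrCharacter N χ := by
    rintro χ ⟨θ, hθ, hθ1, _, rfl⟩
    exact (Helper75.tf_ind_relevant hC hθ hθ1).1
  have hfrob : ∀ A : Subgroup N, A.Normal → A ≤ H →
      ∀ k ∈ H, k ∉ A → ∀ x : N, x * k * x⁻¹ * k⁻¹ ∈ A → x ∈ H := by
    intro A hA hAH
    have := hA
    exact frob_hfrob hsup hfpf A hAH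
  have he0 : 0 < H.index := Nat.pos_of_ne_zero Subgroup.index_ne_zero_of_finite
  have hsolv : Group.IsSolvable H := inferInstance
  have hH'H : ⁅H, H⁆ < H := commutator_lt_of_solvable H hsolv hH1
  by_cases hab : ⁅H, H⁆ = ⊥
  · -- abelian kernel
    left
    apply coh_linear_base H hirr τ hτ hτ1 ⊥ (by rw [hab])
    rw [Subgroup.relIndex_bot_left]
    have h1 := succ_index_le_relIndex H ⊥ H (bot_lt_iff_ne_bot.mpr hH1) le_rfl
      (hfrob ⊥ inferInstance bot_le)
    rw [Subgroup.relIndex_bot_left] at h1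
    omega
  · by_cases hbig : 4 * H.index ^ 2 + 1 < (⁅H, H⁆).relIndex H
    · -- large abelianization
      left
      have hbase : IsCoherent (inducedIrrAbove H ⁅H, H⁆) {1}ᶜ τ := by
        apply coh_linear_base H hirr τ hτ hτ1 ⁅H, H⁆ le_rfl
        nlinarith
      apply coh_descend H hnil hirr τ hτ hτ1 ⊥ ⁅H, H⁆ ⊥ bot_le hH'H bot_le ?_ hbase ?_
      · intro z hz y _
        rw [Subgroup.mem_bot] at hz
        rw [hz, Subgroup.mem_bot]
        group
      · intro X hXn _ hXH'
        rw [sup_bot_eq]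
        have h1 : (⁅H, H⁆).relIndex H ∣ X.relIndex H := Subgroup.relIndex_dvd_of_le_left H hXH'
        have h2 : (⁅H, H⁆).relIndex H ≤ X.relIndex H :=
          Nat.le_of_dvd (Nat.pos_of_ne_zero (by
            rw [Subgroup.relIndex]; exact Subgroup.index_ne_zero_of_finite)) h1
        have h3 := coh_nilpotent_arith H.index 1 (X.relIndex H) le_rfl (by omega)
        simpa using h3
    · by_cases hpp : ∃ p m : ℕ, p.Prime ∧ Nat.card H = p ^ m
      · -- the exceptional case
        right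
        obtain ⟨p, m, hp, hm⟩ := hpp
        refine ⟨p, hp, ⟨m, hm⟩, ?_, ?_⟩
        · intro hcomm
          exact hab (Subgroup.commutator_self_eq_bot_iff.mpr hcomm)
        · exact not_lt.mp hbig
      · -- not of prime power order
        left
        obtain ⟨P, Q, hPn, hQn, hP, hQ, hPQ, hPQsup⟩ := exists_normal_split H hnil hpp
        have := hPn
        have := hQn
        exact coh_of_split H hnil hirr τ hτ hτ1 hfrob P Q hP hQ hPQ hPQsup

end Cfsg.Agent.S1535
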