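-- Statement S1352 (B-G: the standard factorisation M = K U M_σ exists), conditional on S1430 (helper60).
import Cfsg.Statements.S1352
import Cfsg.Agent.S1350
import Cfsg.Agent.S1430
import Cfsg.Agent.Helper60.BGAsmA
import Cfsg.Agent.Helper60.BGAsmB

set_option autoImplicit false
open Cfsg

namespace Cfsg.Agent.S1352

open Cfsg.Agent.Helper60.BGAsm

/-- normality of `U M_σ` -/
theorem normal_part {G : Type*} [Group G] (M K U : Subgroup G)
    (hKU : Cfsg.IsSigmaDecomposition M K U) :
    M ≤ Subgroup.normalizer ((U ⊔ Cfsg.sigmaCore M : Subgroup G) : Set G) := by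
  have hσ := le_normalizer_sigmaCore M
  have hU : U ≤ Subgroup.normalizer ((U ⊔ Cfsg.sigmaCore M : Subgroup G) : Set G) :=
    le_sup_left.trans Subgroup.le_normalizer
  have hS : Cfsg.sigmaCore M ≤ Subgroup.normalizer ((U ⊔ Cfsg.sigmaCore M : Subgroup G) : Set G) :=
    le_sup_right.trans Subgroup.le_normalizer
  have hK : K ≤ Subgroup.normalizer ((U ⊔ Cfsg.sigmaCore M : Subgroup G) : Set G) := fun k hk =>
    mem_normalizer_sup (hKU.normal hk) (hσ (hKU.hall.1 hk))
  intro m hm
  obtain ⟨a, ha, b, hb, rfl⟩ := hKU.compl.2.2.2 m hm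
  exact Subgroup.mul_mem _ (hU ha) ((sup_le hK hS) hb)

/-- Let G be a minimal simple group of odd order, M a maximal subgroup and K a cyclic Hall κ(M)-subgroup of M. Then there is a subgroup U of M, normalized by K, with U ∩ K M_σ = 1 and M = U K M_σ; moreover U M_σ is normal in M for any such U. -/
theorem result {G : Type*} [Group G] [Finite G] (hG : Cfsg.IsMinSimpleOddOrder G)
    (M : Subgroup G) (hM : IsCoatom M) (K : Subgroup G)
    (hKc : IsCyclic K) (hK : Cfsg.IsPiHallOf (Cfsg.kappa M) K M) :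
    (∃ U : Subgroup G, Cfsg.IsSigmaDecomposition M K U) ∧
      ∀ U : Subgroup G, Cfsg.IsSigmaDecomposition M K U → M ≤ Subgroup.normalizer ((U ⊔ Cfsg.sigmaCore M : Subgroup G) : Set G) := by
  refine ⟨?_, fun U hU => normal_part M K U hU⟩
  have h50 := (Cfsg.Agent.S1350.result hG M hM).1
  by_cases hK1 : K = ⊥
  · -- Schur–Zassenhaus for the normal Hall subgroup `M_σ`
    have hcop : (Nat.card (Cfsg.piCore (Cfsg.sigma M) ↥M)).Coprime (Cfsg.piCore (Cfsg.sigma M) ↥M).index := by
      rw [Nat.coprime_comm]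
      apply Nat.Coprime.symm
      apply Nat.coprime_of_dvd
      intro q hq hq1 hq2
      have h1 : Nat.card (Cfsg.sigmaCore M) = Nat.card (Cfsg.piCore (Cfsg.sigma M) ↥M) :=
        Subgroup.card_subtype _ _
      have h2 : (Cfsg.sigmaCore M).relIndex M = (Cfsg.piCore (Cfsg.sigma M) ↥M).index := by
        unfold Subgroup.relIndex Cfsg.sigmaCore
        congr 1
        ext x
        rw [Subgroup.mem_subgroupOf]
        constructor
        · rintro ⟨y, hy, hyx⟩
          have : y = x := Subtype.ext hyx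
          rwa [← this]
        · intro hx
          exact ⟨x, hx, rfl⟩
      have hqσ : q ∈ Cfsg.sigma M := h50.2.1 q hq (h1 ▸ hq1)
      exact h50.2.2 q hq hqσ (h2 ▸ hq2)
    obtain ⟨H, hH⟩ := Subgroup.exists_left_complement'_of_coprime hcop
    refine ⟨H.map M.subtype, hKc, hK, ?_, ?_⟩
    · have := isComplIn_of_isComplement' H _ hH
      rw [hK1, bot_sup_eq]
      exact this
    · rw [hK1]; exact bot_le
  · obtain ⟨U, hUc, hUH, hKU, -⟩ := (Cfsg.Agent.S1430.result hG M hM K hK hK1).2.1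
    refine ⟨U, hKc, hK, ?_, hKU⟩
    have hσ := le_normalizer_sigmaCore M
    have hKσ : K ≤ Subgroup.normalizer ((Cfsg.sigmaCore M : Subgroup G) : Set G) := hK.1.trans hσ
    have hKS : K ⊔ Cfsg.sigmaCore M ≤ M := sup_le hK.1 (sigmaCore_le' M)
    refine ⟨hUH.1, hKS, ?_, ?_⟩
    · -- trivial intersection
      rw [eq_bot_iff]
      intro x hx
      rw [Subgroup.mem_bot]
      by_contra hx1
      have h1 : orderOf x ≠ 1 := fun h => hx1 (orderOf_eq_one_iff.mp h)
      obtain ⟨q, hq, hqx⟩ := Nat.exists_prime_and_dvd h1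
      have h2 : orderOf x ∣ Nat.card U := by
        have := Subgroup.orderOf_dvd_natCard U hx.1
        exact this
      have h3 : orderOf x ∣ Nat.card K * Nat.card (Cfsg.sigmaCore M) := by
        have h4 := Subgroup.orderOf_dvd_natCard (K ⊔ Cfsg.sigmaCore M) hx.2
        exact h4.trans (Cfsg.Agent.Helper22.card_sup_dvd_of_le_normalizer K _ hKσ)
      have h5 := hUH.2.1 q hq (hqx.trans h2)
      rcases (Nat.Prime.dvd_mul hq).mp (hqx.trans h3) with h6 | h6
      · exact h5.2.1 (hK.2.1 q hq h6)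
      · exact h5.2.2 (h50.2.1 q hq h6)
    · -- product
      have hcover : M ≤ (U ⊔ Cfsg.sigmaCore M) ⊔ K := by
        apply le_sup_of_hall_cover
        intro q hq
        by_cases h1 : q ∈ Cfsg.sigma M
        · exact ⟨Cfsg.sigmaCore M, le_sup_right.trans le_sup_left, h50.2.2 q hq h1⟩
        · by_cases h2 : q ∈ Cfsg.kappa M
          · exact ⟨K, le_sup_right, hK.2.2 q hq h2⟩
          · exact ⟨U, le_sup_left.trans le_sup_left, hUH.2.2 q hq ⟨hq, h2, h1⟩⟩
      have hUσ : U ≤ Subgroup.normalizer ((Cfsg.sigmaCore M : Subgroup G) : Set G) := hUH.1.trans hσ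
      have hKn : K ≤ Subgroup.normalizer ((U ⊔ Cfsg.sigmaCore M : Subgroup G) : Set G) := fun k hk =>
        mem_normalizer_sup (hKU hk) (hKσ hk)
      intro m hm
      have h1 : m ∈ ((((U ⊔ Cfsg.sigmaCore M) ⊔ K : Subgroup G)) : Set G) := hcover hm
      rw [Subgroup.coe_mul_of_right_le_normalizer_left _ _ hKn] at h1
      obtain ⟨y, hy, k, hk, rfl⟩ := h1
      have h2 : y ∈ ((U ⊔ Cfsg.sigmaCore M : Subgroup G) : Set G) := hy
      rw [Subgroup.coe_mul_of_left_le_normalizer_right _ _ hUσ] at h2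
      obtain ⟨u, hu, s, hs, rfl⟩ := h2
      refine ⟨u, hu, s * k, ?_, by simp only [mul_assoc]⟩
      exact Subgroup.mul_mem _ (Subgroup.mem_sup_right hs) (Subgroup.mem_sup_left hk)

end Cfsg.Agent.S1352
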