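import Cfsg.Statements.S1355
import Cfsg.Agent.S1403
import Cfsg.Agent.S1415
import Cfsg.Agent.S1351
import Cfsg.Agent.S1352
import Cfsg.Agent.S1437
import Cfsg.Agent.Helper33.BG1355B

set_option autoImplicit false
open Cfsg

namespace Cfsg.Agent.S1355

/-- Let G be a minimal simple group of odd order and M a maximal subgroup. Then the largest normal nilpotent Hall subgroup M_F of M is nontrivial and contained in M_σ, M_σ is contained in the derived subgroup M', M' is proper in M, and the image of M' in M/M_F is nilpotent. -/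
theorem result {G : Type*} [Group G] [Finite G] (hG : Cfsg.IsMinSimpleOddOrder G)
    (M : Subgroup G) (hM : IsCoatom M) :
    Cfsg.fittingHallOf M ≠ ⊥ ∧ Cfsg.fittingHallOf M ≤ Cfsg.sigmaCore M ∧ Cfsg.sigmaCore M ≤ ⁅M, M⁆ ∧ ⁅M, M⁆ < M ∧
      Group.IsNilpotent ↥((commutator ↥M).map (QuotientGroup.mk' (Cfsg.fittingHall ↥M))) := by
  have hU : Cfsg.Agent.Helper29.BG10.UniquenessThm G :=
    fun K hK hK2 hK3 => Cfsg.Agent.S1403.result hG K hK hK2 hK3
  refine Cfsg.Agent.Helper33.BG1355.thm_1355 hG hU M hM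
    (fun E hE => (Cfsg.Agent.S1415.result hG M hM E hE).1) ?_
  intro hne
  obtain ⟨⟨K, hK⟩, hKc⟩ := Cfsg.Agent.S1351.result hG M hM
  obtain ⟨⟨U, hKU⟩, -⟩ := Cfsg.Agent.S1352.result hG M hM K (hKc K hK) hK
  obtain ⟨-, hS, -, hq, -, -, Q, hQF, hMQ, hQp, hqidx, hD⟩ :=
    Cfsg.Agent.S1437.result hG M hM K U hKU hne
  refine ⟨hS, _, Q, hq, hQF, hMQ, hQp, hqidx, fun D hDc => ?_⟩
  obtain ⟨h1, -, h3, -⟩ := hD D hDc
  exact ⟨h1, h3⟩

end Cfsg.Agent.S1355
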