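-- Statement S1354 (B-G: K* ≠ 1 and C_M(k) = K K*), conditional on S1430 and S1418 (helper60).
import Cfsg.Statements.S1354
import Cfsg.Agent.S1430
import Cfsg.Agent.Helper60.BGAsmA
import Cfsg.Agent.Helper60.BGSigmaNe

set_option autoImplicit false
open Cfsg

namespace Cfsg.Agent.S1354

/-- Let G be a minimal simple group of odd order, M a maximal subgroup and K a cyclic Hall κ(M)-subgroup of M, and put K* = M_σ ∩ C_G(K). Then K* ≠ 1, and if K ≠ 1 then for every non-identity k ∈ K the centralizer C_M(k) is the subgroup generated by K and K* (an internal direct product, as K ∩ M_σ = 1 and K* centralizes K). -/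
theorem result {G : Type*} [Group G] [Finite G] (hG : Cfsg.IsMinSimpleOddOrder G)
    (M : Subgroup G) (hM : IsCoatom M) (K : Subgroup G)
    (hKc : IsCyclic K) (hK : Cfsg.IsPiHallOf (Cfsg.kappa M) K M) :
    Cfsg.sigmaCore M ⊓ Subgroup.centralizer (K : Set G) ≠ ⊥ ∧
      (K ≠ ⊥ → ∀ k ∈ K, k ≠ 1 →
        M ⊓ Subgroup.centralizer ({k} : Set G) = K ⊔ (Cfsg.sigmaCore M ⊓ Subgroup.centralizer (K : Set G))) := by
  constructor
  · by_cases hK1 : K = ⊥
    · -- `K = 1`: `K* = M_σ ≠ 1`
      have h1 : Cfsg.sigmaCore M ≤ Subgroup.centralizer (K : Set G) := by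
        intro g _
        rw [Subgroup.mem_centralizer_iff]
        intro v hv
        rw [hK1] at hv
        have : v = 1 := by simpa using hv
        subst this; simp
      rw [inf_eq_left.mpr h1]
      exact Cfsg.Agent.Helper60.BGSigmaNe.sigmaCore_ne_bot hG M hM
    · -- `K ≠ 1`: use the definition of `κ(M)`
      have h30 := (Cfsg.Agent.S1430.result hG M hM K hK hK1).1
      have hcard : Nat.card K ≠ 1 := fun h => hK1 (Subgroup.card_eq_one.mp h)
      obtain ⟨p, hp, hpK⟩ := Nat.exists_prime_and_dvd hcard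
      haveI : Fact p.Prime := ⟨hp⟩
      have hpκ : p ∈ Cfsg.kappa M := hK.2.1 p hp hpK
      have hidx : ¬ p ∣ (K.subgroupOf M).index := hK.2.2 p hp hpκ
      obtain ⟨P, hP⟩ := Cfsg.Agent.Helper60.BGAsm.exists_sylow_le_of_not_dvd_index (K.subgroupOf M) hidx
      obtain ⟨-, x, hxP, hx1, y, hy, hy1, hxy⟩ := hpκ.2.2.2 P
      have hxK : (x : G) ∈ K := Subgroup.mem_subgroupOf.mp (hP hxP)
      have hx1' : (x : G) ≠ 1 := fun h => hx1 (Subtype.ext h)
      have h1 := h30 (x : G) hxK hx1'
      intro hbot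
      have h2 : y ∈ Cfsg.sigmaCore M ⊓ Subgroup.centralizer ({(x : G)} : Set G) := by
        refine Subgroup.mem_inf.mpr ⟨hy, ?_⟩
        rw [Subgroup.mem_centralizer_iff]
        intro z hz
        rw [Set.mem_singleton_iff] at hz
        subst hz
        exact hxy
      rw [h1, hbot] at h2
      exact hy1 (Subgroup.mem_bot.mp h2)
  · intro hK1 k hk hk1
    have h30 := (Cfsg.Agent.S1430.result hG M hM K hK hK1).2.2
    obtain ⟨X, hXk, hXp⟩ := Cfsg.Agent.Helper60.BGAsm.exists_prime_card_le_zpowers hk1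
    have hXK : X ≤ K := hXk.trans ((Subgroup.zpowers_le).mpr hk)
    have h1 := (h30 X hXK hXp).1
    apply le_antisymm
    · intro u hu
      have huk : k * u = u * k := (Subgroup.mem_centralizer_iff.mp hu.2) k (Set.mem_singleton k)
      have huN : u ∈ Subgroup.normalizer (X : Set G) :=
        Cfsg.Agent.Helper60.BGAsm.mem_normalizer_of_commute_of_le_zpowers hXk huk.symm
      have h2 : u ∈ M ⊓ Subgroup.normalizer (X : Set G) := ⟨hu.1, huN⟩
      rw [h1] at h2
      exact h2
    · apply sup_le
      · refine le_inf hK.1 ?_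
        intro a ha
        rw [Subgroup.mem_centralizer_iff]
        intro z hz
        rw [Set.mem_singleton_iff] at hz
        subst hz
        -- `K` is cyclic, hence commutative
        obtain ⟨g, hg⟩ := IsCyclic.exists_generator (α := ↥K)
        obtain ⟨i, hi⟩ := Subgroup.mem_zpowers_iff.mp (hg ⟨z, hk⟩)
        obtain ⟨j, hj⟩ := Subgroup.mem_zpowers_iff.mp (hg ⟨a, ha⟩)
        have h3 : (⟨z, hk⟩ : ↥K) * ⟨a, ha⟩ = ⟨a, ha⟩ * ⟨z, hk⟩ := by
          rw [← hi, ← hj]
          exact (Commute.zpow_zpow_self g i j).eq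
        exact congrArg Subtype.val h3
      · refine le_inf (inf_le_left.trans (Subgroup.map_subtype_le _)) ?_
        intro a ha
        rw [Subgroup.mem_centralizer_iff]
        intro z hz
        rw [Set.mem_singleton_iff] at hz
        subst hz
        exact (Subgroup.mem_centralizer_iff.mp ha.2) z hk

end Cfsg.Agent.S1354
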