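import Cfsg.Statements.S1288
import Cfsg.Agent.S3734
import Cfsg.Agent.Helper55.SolvCore
import Cfsg.Agent.Helper22.PComponent
import Cfsg.Agent.Helper46.CharSkeleton
import Cfsg.Agent.Helper1.Compl
import Cfsg.Agent.Lib.Cores

set_option autoImplicit false
open Cfsg

namespace Cfsg.Agent.S1288

open scoped commutatorElement

/-- The preimage of a characteristic subgroup of the quotient by a characteristic subgroup is
characteristic. -/
theorem comap_mk_characteristic {G : Type*} [Group G] (N : Subgroup G) [hN : N.Characteristic]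
    (P : Subgroup (G ⧸ N)) [hP : P.Characteristic] :
    (P.comap (QuotientGroup.mk' N)).Characteristic := by
  rw [Subgroup.characteristic_iff_le_comap]
  intro φ x hx
  rw [Subgroup.mem_comap] at hx ⊢
  have hmap : N.map φ.toMonoidHom = N := Subgroup.characteristic_iff_map_eq.mp hN φ
  have h1 : (QuotientGroup.congr N N φ hmap) (QuotientGroup.mk' N x) ∈ P :=
    (Subgroup.characteristic_iff_map_le.mp hP (QuotientGroup.congr N N φ hmap)) ⟨_, hx, rfl⟩
  have h2 : (QuotientGroup.congr N N φ hmap) (QuotientGroup.mk' N x) = QuotientGroup.mk' N (φ x) :=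
    QuotientGroup.congr_mk N N φ hmap x
  rw [h2] at h1
  exact h1

/-- In an elementary abelian group of order at least `p²`, a subgroup `B` with `B⟨a⟩ = A` contains a
hyperplane of `A`. -/
theorem exists_hyperplane_le {H : Type*} [Group H] [Finite H] {p : ℕ} [hp : Fact p.Prime]
    {A B : Subgroup H} (hA : Cfsg.IsElementaryAbelian p A) (hA2 : p ^ 2 ≤ Nat.card ↥A)
    (hBA : B ≤ A) {a : H} (ha : a ∈ A) (hsup : B ⊔ Subgroup.zpowers a = A) :
    ∃ B₁ : Subgroup H, B₁ ≤ B ∧ B₁ ≤ A ∧ B₁.relIndex A = p := by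
  haveI := hA.1
  have hnormal : ∀ S : Subgroup ↥A, S.Normal := by
    intro S
    refine ⟨fun n hn g => ?_⟩
    have : g * n * g⁻¹ = n := by rw [mul_comm' g n, mul_inv_cancel_right]
    rw [this]; exact hn
  by_cases hBeq : B = A
  · -- choose any hyperplane
    obtain ⟨n, hn⟩ := Cfsg.Agent.Lib.isElementaryAbelian_card_eq_pow hA
    have hn2 : 2 ≤ n := by
      by_contra h
      push Not at h
      have : p ^ n < p ^ 2 := Nat.pow_lt_pow_right hp.out.one_lt h
      omega
    obtain ⟨m, rfl⟩ : ∃ m, n = m + 1 := ⟨n - 1, by omega⟩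
    have hdvd : p ^ m ∣ Nat.card ↥A := by rw [hn]; exact pow_dvd_pow p (Nat.le_succ m)
    obtain ⟨K', hK'⟩ := Sylow.exists_subgroup_card_pow_prime p hdvd
    refine ⟨K'.map A.subtype, ?_, Subgroup.map_subtype_le _, ?_⟩
    · rw [hBeq]; exact Subgroup.map_subtype_le _
    · have h1 : (K'.map A.subtype).relIndex A = K'.index := by
        rw [Subgroup.relIndex]
        congr 1
        ext x
        rw [Subgroup.mem_subgroupOf]
        constructor
        · rintro ⟨y, hy, hyx⟩
          have : y = x := Subtype.ext hyx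
          rwa [← this]
        · intro hx; exact ⟨x, hx, rfl⟩
      rw [h1]
      have h2 := Subgroup.card_mul_index K'
      rw [hK', hn, pow_succ] at h2
      exact Nat.eq_of_mul_eq_mul_left (pow_pos hp.out.pos m) h2
  · refine ⟨B, le_rfl, hBA, ?_⟩
    set B' := B.subgroupOf A with hB'
    set Z' := (Subgroup.zpowers a).subgroupOf A with hZ'
    have hZA : Subgroup.zpowers a ≤ A := by rw [Subgroup.zpowers_le]; exact ha
    haveI : B'.Normal := hnormal B'
    have htop : B' ⊔ Z' = ⊤ := by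
      rw [hB', hZ', ← Subgroup.subgroupOf_sup hBA hZA, hsup, Subgroup.subgroupOf_self]
    have h1 : B'.index = B'.relIndex Z' := by
      rw [← Subgroup.relIndex_top_right, ← htop, Subgroup.relIndex_sup_left]
    have h2 : B'.relIndex Z' ∣ Nat.card Z' := Subgroup.relIndex_dvd_card B' Z'
    have h3 : Nat.card Z' = orderOf a := by
      rw [hZ', Cfsg.Agent.Helper1.card_subgroupOf_of_le hZA, Nat.card_zpowers]
    have h4 : orderOf a ∣ p := orderOf_dvd_of_pow_eq_one (hA.2 a ha)
    have h5 : B.relIndex A ∣ p := by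
      rw [Subgroup.relIndex, ← hB', h1]
      exact h2.trans (h3 ▸ h4)
    rcases (Nat.dvd_prime hp.out).mp h5 with h6 | h6
    · exfalso
      apply hBeq
      apply le_antisymm hBA
      exact Subgroup.relIndex_eq_one.mp h6
    · exact h6

/-- Let A be a noncyclic elementary abelian p-subgroup of a finite group H normalizing a solvable subgroup K of order prime to p, q a prime dividing |K|, and U ≤ K a subgroup of order prime to q such that ⁅U, C_K(B)⁆ has order prime to q for every subgroup B of index p in A. Then U ≤ O_{q'}(K). -/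
theorem result {H : Type*} [Group H] [Finite H] (p : ℕ) [Fact p.Prime] (A K : Subgroup H) (hA : Cfsg.IsElementaryAbelian p A) (hA2 : p ^ 2 ≤ Nat.card ↥A) (hK : ¬ p ∣ Nat.card ↥K) (hKs : Group.IsSolvable ↥K) (hAK : A ≤ Subgroup.normalizer (K : Set H)) (q : ℕ) [Fact q.Prime] (hqK : q ∣ Nat.card ↥K) (U : Subgroup H) (hU : U ≤ K) (hUq : ¬ q ∣ Nat.card ↥U) (hcomm : ∀ B : Subgroup H, B ≤ A → B.relIndex A = p → ¬ q ∣ Nat.card ↥⁅U, K ⊓ Subgroup.centralizer (B : Set H)⁆) : U ≤ (Cfsg.pPrimeCore q ↥K).map K.subtype := by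
  classical
  have hpP : p.Prime := Fact.out
  have hqP : q.Prime := Fact.out
  set N' := Cfsg.pPrimeCore q ↥K with hN'
  haveI hN'char : N'.Characteristic := Cfsg.Agent.Lib.pPrimeCore_characteristic q
  have hG0 : Cfsg.pPrimeCore q (↥K ⧸ N') = ⊥ := Cfsg.Agent.Helper22.pPrimeCore_quotient_eq_bot q
  have hHH : Subgroup.centralizer (Cfsg.pCore q (↥K ⧸ N') : Set (↥K ⧸ N')) ≤ Cfsg.pCore q (↥K ⧸ N') :=
    Cfsg.Agent.Helper55.centralizer_pCore_le q hG0
  set P' := Cfsg.pCore q (↥K ⧸ N') with hP'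
  haveI hP'char : P'.Characteristic := Cfsg.Agent.Lib.pCore_characteristic q
  have hP'q : IsPGroup q P' := Cfsg.Agent.Lib.isPGroup_pCore q
  set Q' := P'.comap (QuotientGroup.mk' N') with hQ'
  haveI hQ'char : Q'.Characteristic := comap_mk_characteristic N' P'
  set Q := Q'.map K.subtype with hQ
  have hQK : Q ≤ K := Subgroup.map_subtype_le _
  have hAQ : A ≤ Subgroup.normalizer (Q : Set H) :=
    hAK.trans (Cfsg.Agent.Helper46.normalizer_le_normalizer_of_characteristic K Q' hQ'char)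
  have hAab : IsMulCommutative A := hA.1
  have hcop : (Nat.card A).Coprime (Nat.card Q) := by
    obtain ⟨n, hn⟩ := Cfsg.Agent.Lib.isElementaryAbelian_card_eq_pow hA
    rw [hn]
    apply Nat.Coprime.pow_left
    rw [Nat.Prime.coprime_iff_not_dvd hpP]
    intro hdvd
    exact hK (hdvd.trans (Subgroup.card_dvd_of_le hQK))
  obtain ⟨hgen, -⟩ := Cfsg.Agent.S3734.result A Q hAab hAQ hcop
  -- key: a q'-element of K whose class lies in P' lies in N'
  have key : ∀ y : ↥K, (orderOf y).Coprime q → (QuotientGroup.mk' N' y) ∈ P' → y ∈ N' := by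
    intro y hy hyP
    have h1 : orderOf (QuotientGroup.mk' N' y) ∣ orderOf y := orderOf_map_dvd _ y
    obtain ⟨k, hk⟩ := hP'q ⟨_, hyP⟩
    have hk' : (QuotientGroup.mk' N' y) ^ q ^ k = 1 := by
      have := congrArg Subtype.val hk
      simpa using this
    have h2 : orderOf (QuotientGroup.mk' N' y) ∣ q ^ k := orderOf_dvd_of_pow_eq_one hk'
    have h3 : (orderOf y).Coprime (q ^ k) := Nat.Coprime.pow_right k hy
    have h4 : orderOf (QuotientGroup.mk' N' y) = 1 := Nat.eq_one_of_dvd_coprimes h3 h1 h2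
    have h5 : QuotientGroup.mk' N' y = 1 := orderOf_eq_one_iff.mp h4
    rwa [QuotientGroup.mk'_apply, QuotientGroup.eq_one_iff] at h5
  -- the centralizer of the image of U in the quotient, pulled back
  set Ubar := (U.subgroupOf K).map (QuotientGroup.mk' N') with hUbar
  set Z' := (Subgroup.centralizer (Ubar : Set (↥K ⧸ N'))).comap (QuotientGroup.mk' N') with hZ'
  have hpieces : ∀ B : Subgroup H, B ≤ A → (∃ a ∈ A, B ⊔ Subgroup.zpowers a = A) →
      Q ⊓ Subgroup.centralizer (B : Set H) ≤ Z'.map K.subtype := by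
    rintro B hBA ⟨a, ha, hsup⟩
    obtain ⟨B₁, hB₁B, hB₁A, hB₁⟩ := exists_hyperplane_le hA hA2 hBA ha hsup
    have hR := hcomm B₁ hB₁A hB₁
    intro x hx
    have hxQ : x ∈ Q := hx.1
    have hxC : x ∈ Subgroup.centralizer (B₁ : Set H) := Subgroup.centralizer_le hB₁B hx.2
    obtain ⟨y, hyQ', rfl⟩ := hxQ
    refine ⟨y, ?_, rfl⟩
    show y ∈ Z'
    rw [hZ', Subgroup.mem_comap, Subgroup.mem_centralizer_iff]
    rintro _ ⟨u, hu, rfl⟩
    have hu : (u : H) ∈ U := Subgroup.mem_subgroupOf.mp hu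
    -- the commutator ⁅u, y⁆ lies in N'
    have hcommem : ⁅(u : H), (y : H)⁆ ∈ ⁅U, K ⊓ Subgroup.centralizer (B₁ : Set H)⁆ :=
      Subgroup.commutator_mem_commutator hu ⟨y.2, hxC⟩
    have hord : (orderOf ⁅u, y⁆).Coprime q := by
      have h1 : orderOf ⁅(u : H), (y : H)⁆ ∣ Nat.card ↥⁅U, K ⊓ Subgroup.centralizer (B₁ : Set H)⁆ := by
        have := orderOf_dvd_natCard (⟨_, hcommem⟩ : ↥⁅U, K ⊓ Subgroup.centralizer (B₁ : Set H)⁆)
        rwa [Subgroup.orderOf_mk] at this
      have h2 : (Nat.card ↥⁅U, K ⊓ Subgroup.centralizer (B₁ : Set H)⁆).Coprime q :=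
        (Nat.Coprime.symm ((Nat.Prime.coprime_iff_not_dvd hqP).mpr hR))
      have h3 : orderOf (⁅u, y⁆ : ↥K) = orderOf ⁅(u : H), (y : H)⁆ := by
        rw [← Subgroup.orderOf_coe]; rfl
      rw [h3]
      exact Nat.Coprime.coprime_dvd_left h1 h2
    have hmemP : QuotientGroup.mk' N' ⁅u, y⁆ ∈ P' := by
      -- Q' is normal, so ⁅u, y⁆ ∈ Q'
      have hQ'n : Q'.Normal := inferInstance
      have : ⁅u, y⁆ ∈ Q' := by
        rw [commutatorElement_def]
        exact Q'.mul_mem (hQ'n.conj_mem y hyQ' u) (Q'.inv_mem hyQ')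
      exact this
    have hN := key _ hord hmemP
    -- so the images commute
    have h1 : QuotientGroup.mk' N' ⁅u, y⁆ = 1 := by
      rw [QuotientGroup.mk'_apply, QuotientGroup.eq_one_iff]; exact hN
    rw [map_commutatorElement, commutatorElement_eq_one_iff_commute] at h1
    exact h1.eq
  have hQZ : Q ≤ Z'.map K.subtype := by
    rw [← hgen]
    apply iSup_le
    intro B
    apply iSup_le
    rintro ⟨hBA, hB⟩
    exact hpieces B hBA hB
  -- hence Ubar centralizes P'
  have hUcent : Ubar ≤ Subgroup.centralizer (P' : Set (↥K ⧸ N')) := by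
    rintro _ ⟨u, hu, rfl⟩
    rw [Subgroup.mem_centralizer_iff]
    intro z hz
    obtain ⟨y, rfl⟩ := QuotientGroup.mk'_surjective N' z
    have hyQ' : y ∈ Q' := hz
    have hyQ : (y : H) ∈ Q := ⟨y, hyQ', rfl⟩
    obtain ⟨y', hy'Z, hy'⟩ := hQZ hyQ
    have : y' = y := Subtype.ext hy'
    have hy'Z : y' ∈ Z' := hy'Z
    rw [this, hZ', Subgroup.mem_comap, Subgroup.mem_centralizer_iff] at hy'Z
    exact (hy'Z _ ⟨u, hu, rfl⟩).symm
  have hUP : Ubar ≤ P' := hUcent.trans hHH
  -- conclude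
  intro u hu
  have huK : u ∈ K := hU hu
  refine ⟨⟨u, huK⟩, ?_, rfl⟩
  apply key
  · have h1 : orderOf (⟨u, huK⟩ : ↥K) = orderOf u := Subgroup.orderOf_mk u huK
    rw [h1]
    have h2 : orderOf u ∣ Nat.card ↥U := by
      have := orderOf_dvd_natCard (⟨u, hu⟩ : ↥U)
      rwa [Subgroup.orderOf_mk] at this
    exact Nat.Coprime.coprime_dvd_left h2 (Nat.Coprime.symm ((Nat.Prime.coprime_iff_not_dvd hqP).mpr hUq))
  · apply hUP
    exact ⟨⟨u, huK⟩, (Subgroup.mem_subgroupOf.mpr hu : (⟨u, huK⟩ : ↥K) ∈ U.subgroupOf K), rfl⟩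

end Cfsg.Agent.S1288
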