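-- Statement S1356 (B-G Theorem 15.2(b),(c): M'' ≤ F(M), F(M) = C_M(M_F) M_F, κ(M) ≠ ∅ ⇒ F(M) ≤ M'), helper35.
-- CONDITIONAL on S1351 S1352 S1355 S1430 S1437 S1438 (and what they import); the other statement
-- imports (S1350 S1403 S1420 S1426 S1439) are on main.  Generic lemmas: Helper35/BG152A, BG153A-I.
import Cfsg.Statements.S1356
import Cfsg.Agent.S1350
import Cfsg.Agent.S1351
import Cfsg.Agent.S1352
import Cfsg.Agent.S1355
import Cfsg.Agent.S1403
import Cfsg.Agent.S1420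
import Cfsg.Agent.S1426
import Cfsg.Agent.S1430
import Cfsg.Agent.S1437
import Cfsg.Agent.S1438
import Cfsg.Agent.S1439
import Cfsg.Agent.Helper29.BenderC
import Cfsg.Agent.Helper33.BG1365B
import Cfsg.Agent.Helper48.BG142B
import Cfsg.Agent.Helper60.BGAsmE
import Cfsg.Agent.Helper60.BGSigmaNe
import Cfsg.Agent.Helper62.CoprimeHall
import Cfsg.Agent.Helper71.BGHall
import Cfsg.Agent.Helper35.BG152A

set_option autoImplicit false
set_option linter.style.haveILetI false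
open Cfsg

namespace Cfsg.Agent.S1356

open Cfsg.Agent.Helper60.BGAsm Cfsg.Agent.Helper35.BG153 Cfsg.Agent.Helper35.BG152
open scoped commutatorElement

/-- the case `M_σ` nilpotent -/
theorem caseB {G : Type*} [Group G] [Finite G] (hG : Cfsg.IsMinSimpleOddOrder G)
    (M : Subgroup G) (hM : IsCoatom M) (hn : Group.IsNilpotent ↥(Cfsg.sigmaCore M)) :
    ⁅⁅M, M⁆, ⁅M, M⁆⁆ ≤ Cfsg.fittingOf M ∧
      Cfsg.fittingOf M = (M ⊓ Subgroup.centralizer (Cfsg.fittingHallOf M : Set G)) ⊔ Cfsg.fittingHallOf M ∧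
      ((Cfsg.kappa M).Nonempty → Cfsg.fittingOf M ≤ ⁅M, M⁆) := by
  have hU : Cfsg.Agent.Helper29.BG10.UniquenessThm G :=
    fun K hK hK2 hK3 => Cfsg.Agent.S1403.result hG K hK hK2 hK3
  haveI hsolvM : Group.IsSolvable ↥M := hG.2.2.2 M hM.1
  have hMsM : Cfsg.sigmaCore M ≤ M := sigmaCore_le' M
  have hMsn := le_normalizer_sigmaCore M
  have hF : Cfsg.fittingHallOf M = Cfsg.sigmaCore M :=
    fittingHallOf_eq_sigmaCore_of_isNilpotent hG hM hn
  have hMsF : Cfsg.sigmaCore M ≤ Cfsg.fittingOf M :=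
    Cfsg.Agent.Helper29.Bender.le_fittingOf hMsM hMsn hn
  have hMs' : Cfsg.sigmaCore M ≤ ⁅M, M⁆ := (Cfsg.Agent.S1355.result hG M hM).2.2.1
  refine ⟨?_, ?_, ?_⟩
  · obtain ⟨E, hE⟩ := Cfsg.Agent.Helper71.BGHall.exists_isComplIn_sigmaCore hG hU hM
    have hEc : IsMulCommutative ↥⁅E, E⁆ := (Cfsg.Agent.S1420.result hG M hM E hE).2.1
    have h1 := derived2_le_of_compl hE hMsn (fun a ha b hb => by
      have := hEc.is_comm.comm ⟨a, ha⟩ ⟨b, hb⟩
      exact congrArg Subtype.val this)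
    exact h1.trans hMsF
  · have hHall : (Nat.card (Cfsg.sigmaCore M)).Coprime
        ((Cfsg.sigmaCore M).relIndex (Cfsg.sigmaCore M)) := by
      rw [Subgroup.relIndex_self]; exact Nat.coprime_one_right _
    obtain ⟨X, hXc, -, hXeq⟩ := (Cfsg.Agent.S1438.result hG M hM (Cfsg.sigmaCore M) le_rfl
      (Cfsg.Agent.Helper60.BGSigmaNe.sigmaCore_ne_bot hG M hM) hHall).1
    have hnilC := isNilpotent_centralizer_of_cyclic_cover hXc hXeq
    apply fittingOf_eq_of_isNilpotent M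
    rw [hF]; exact hnilC
  · rintro ⟨p, hp⟩
    obtain ⟨K, hK⟩ := Cfsg.Agent.Helper62.exists_isPiHallOf (Cfsg.kappa M) M
    have hK1 : K ≠ ⊥ := by
      intro hKb
      have h1 : ¬ p ∣ K.relIndex M := hK.2.2 p hp.1 hp
      have h2 : Nat.card K * K.relIndex M = Nat.card M := card_mul_relIndex_of_le hK.1
      rw [hKb, Subgroup.card_bot, one_mul] at h2
      rw [hKb, h2] at h1
      exact h1 hp.2.1
    obtain ⟨-, ⟨U, -, hUH, hKU, hUfpf⟩, -⟩ := Cfsg.Agent.S1430.result hG M hM K hK hK1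
    obtain ⟨k, hk, hk1⟩ := K.bot_or_exists_ne_one.resolve_left hK1
    have hUM' : U ≤ ⁅M, M⁆ := Cfsg.Agent.Helper33.BG1365.le_commutator_of_fpf M U hUH.1 k
      (hK.1 hk) (hKU hk) (hUfpf k hk hk1)
    obtain ⟨-, hYτ, hFeq⟩ := Cfsg.Agent.S1439.result hG M hM
    rw [hFeq]
    refine sup_le (((Cfsg.Agent.Helper29.Bender.fittingOf_le _).trans hMs')) ?_
    refine le_trans ?_ hUM'
    apply le_of_normal_of_isPiHallOf hUH
    · exact (Subgroup.map_subtype_le _).trans (Cfsg.Agent.Helper29.Bender.fittingOf_le M)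
    · refine (Cfsg.Agent.Helper29.Bender.le_normalizer_fittingOf M).trans ?_
      exact Cfsg.Agent.Helper53.char_map_normalizer_le _ _
        (Cfsg.Agent.Helper29.Bender.piCore_characteristic _ _)
    · intro r hr hrd
      have hτ := hYτ r hr hrd
      refine ⟨hr, ?_, hτ.2.1⟩
      intro hrκ
      haveI : Fact r.Prime := ⟨hr⟩
      exact hτ.2.2.2 (Cfsg.Agent.Helper48.BG142.pRankLE_one_of_cyclic_sylow
        (fun P => (hrκ.2.2.2 P).1))


/-- the case `M_σ` not nilpotent (`M` of type `P₁` with `M_F ≠ M_σ`, B-G Corollary 15.3) -/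
theorem caseC {G : Type*} [Group G] [Finite G] (hG : Cfsg.IsMinSimpleOddOrder G)
    (M : Subgroup G) (hM : IsCoatom M) (hn : ¬ Group.IsNilpotent ↥(Cfsg.sigmaCore M)) :
    ⁅⁅M, M⁆, ⁅M, M⁆⁆ ≤ Cfsg.fittingOf M ∧
      Cfsg.fittingOf M = (M ⊓ Subgroup.centralizer (Cfsg.fittingHallOf M : Set G)) ⊔ Cfsg.fittingHallOf M ∧
      ((Cfsg.kappa M).Nonempty → Cfsg.fittingOf M ≤ ⁅M, M⁆) := by
  haveI hsolvM : Group.IsSolvable ↥M := hG.2.2.2 M hM.1
  have hMsM : Cfsg.sigmaCore M ≤ M := sigmaCore_le' M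
  have hMsn := le_normalizer_sigmaCore M
  have h50 := (Cfsg.Agent.S1350.result hG M hM).1
  have hne : Cfsg.fittingHallOf M ≠ Cfsg.sigmaCore M := by
    intro h
    apply hn
    rw [← h]
    exact fittingHallOf_isNilpotent M
  obtain ⟨⟨K, hK⟩, hcyc⟩ := Cfsg.Agent.S1351.result hG M hM
  obtain ⟨U, hKU⟩ := (Cfsg.Agent.S1352.result hG M hM K (hcyc K hK) hK).1
  obtain ⟨hU, hMs', hKp, hq, -, -, -⟩ := Cfsg.Agent.S1437.result hG M hM K U hKU hne
  have hK1 : K ≠ ⊥ := by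
    intro hKb
    rw [hKb, Subgroup.card_bot] at hKp
    exact Nat.not_prime_one hKp
  obtain ⟨hE, hsup⟩ := isComplIn_of_U_eq_bot hG hM hKU hU
  have hcomm : ⁅Cfsg.sigmaCore M, K⁆ = Cfsg.sigmaCore M := (Cfsg.Agent.S1426.result hG M hM K hE).2.1
  have hact := (Cfsg.Agent.S1430.result hG M hM K hK hK1).1
  have hcopLK : (Nat.card (Cfsg.sigmaCore M)).Coprime (Nat.card K) := by
    apply Nat.coprime_of_dvd
    intro p hp h1 h2
    exact (hK.2.1 p hp h2).2.2.1 (h50.2.1 p hp h1)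
  have hodd : Odd (Nat.card ↥M) := hG.1.of_dvd_nat (Subgroup.card_subgroup_dvd_card M)
  obtain ⟨-, Q, hQL, hQn, hQp, hQidx, hCQ, hD⟩ := core_sub hsolvM hodd hMsM hK.1
    hMsn hsup hcopLK hK1 hact hq rfl hcomm hn
  haveI : Fact (Nat.card ↥(Cfsg.sigmaCore M ⊓ Subgroup.centralizer (K : Set G))).Prime := ⟨hq⟩
  have hQM : Q ≤ M := hQL.trans hMsM
  have hLQn : Cfsg.sigmaCore M ≤ Subgroup.normalizer (Q : Set G) := hMsM.trans hQn
  -- a complement `D` of `Q` in `M_σ` (Schur-Zassenhaus)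
  obtain ⟨D, hDc⟩ : ∃ D : Subgroup G, Cfsg.IsComplIn Q D (Cfsg.sigmaCore M) := by
    haveI hQ'n : (Q.subgroupOf (Cfsg.sigmaCore M)).Normal :=
      Subgroup.normal_subgroupOf_of_le_normalizer hLQn
    have hQ'p : IsPGroup (Nat.card ↥(Cfsg.sigmaCore M ⊓ Subgroup.centralizer (K : Set G)))
        ↥(Q.subgroupOf (Cfsg.sigmaCore M)) := hQp.of_equiv (Subgroup.subgroupOfEquivOfLe hQL).symm
    have hcop : (Nat.card ↥(Q.subgroupOf (Cfsg.sigmaCore M))).Coprime
        (Q.subgroupOf (Cfsg.sigmaCore M)).index := by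
      obtain ⟨n, hn'⟩ := hQ'p.exists_card_eq
      rw [hn']
      exact Nat.Coprime.pow_left n ((Nat.Prime.coprime_iff_not_dvd hq).mpr hQidx)
    obtain ⟨D', hD'⟩ := Subgroup.exists_right_complement'_of_coprime hcop
    have := isComplIn_of_isComplement' _ _ hD'
    rw [Subgroup.map_subgroupOf_eq_of_le hQL] at this
    exact ⟨_, this⟩
  obtain ⟨dnil, -, -, dcard, -, -, dcomm⟩ := hD D hDc
  have hDL : D ≤ Cfsg.sigmaCore M := hDc.2.1
  -- `Q ≤ M_F`
  have hqσ : Nat.card ↥(Cfsg.sigmaCore M ⊓ Subgroup.centralizer (K : Set G)) ∈ Cfsg.sigma M :=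
    h50.2.1 _ hq (Subgroup.card_dvd_of_le inf_le_left)
  have hQF : Q ≤ Cfsg.fittingHallOf M := by
    apply le_fittingHallOf_of_normal_sylow hQM hQn hQp
    rw [← Subgroup.relIndex_mul_relIndex Q _ M hQL hMsM]
    intro hd
    rcases (Nat.Prime.dvd_mul hq).mp hd with h1 | h1
    · exact hQidx h1
    · exact h50.2.2 _ hq hqσ h1
  -- `C_M(Q) ≤ M_σ`
  have hC1 : M ⊓ Subgroup.centralizer (Q : Set G) ≤ Cfsg.sigmaCore M := by
    have hCn : M ≤ Subgroup.normalizer ((M ⊓ Subgroup.centralizer (Q : Set G) : Subgroup G) : Set G) :=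
      le_normalizer_inf_centralizer hQn
    by_cases hp : Nat.card K ∣ Nat.card ↥(M ⊓ Subgroup.centralizer (Q : Set G))
    · exfalso
      haveI : Fact (Nat.card K).Prime := ⟨hKp⟩
      obtain ⟨c', hc'⟩ := exists_prime_orderOf_dvd_card'
        (G := ↥(M ⊓ Subgroup.centralizer (Q : Set G))) (Nat.card K) hp
      have hc'o : orderOf (c' : G) = Nat.card K := by rw [Subgroup.orderOf_coe]; exact hc'
      have hc'M : (c' : G) ∈ M := c'.2.1
      have hc'C : (c' : G) ∈ Subgroup.centralizer (Q : Set G) := c'.2.2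
      have hpow : (c' : G) ^ Nat.card K = 1 := by rw [← hc'o]; exact pow_orderOf_eq_one _
      obtain ⟨g, hg, c, hc, hcc⟩ := exists_conj_mem_K hG hM hK hc'M hpow
      have hc1 : c ≠ 1 := by
        intro h
        rw [h, mul_one, mul_inv_cancel] at hcc
        rw [hcc, orderOf_one] at hc'o
        exact hKp.one_lt.ne hc'o
      have hcC : c ∈ Subgroup.centralizer (Q : Set G) := by
        have h1 : g⁻¹ ∈ Subgroup.normalizer ((Subgroup.centralizer (Q : Set G) : Subgroup G) : Set G) :=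
          mem_normalizer_centralizer (hQn (M.inv_mem hg))
        have h2 := (Subgroup.mem_normalizer_iff.mp h1 (c' : G)).mp hc'C
        have h3 : g⁻¹ * (c' : G) * g⁻¹⁻¹ = c := by rw [hcc]; group
        rwa [h3] at h2
      have hQle : Q ≤ Cfsg.sigmaCore M ⊓ Subgroup.centralizer (K : Set G) := by
        rw [← hact c hc hc1]
        intro a ha
        refine Subgroup.mem_inf.mpr ⟨hQL ha, ?_⟩
        rw [Subgroup.mem_centralizer_iff]
        intro y hy
        rw [Set.mem_singleton_iff] at hy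
        rw [hy]
        exact ((Subgroup.mem_centralizer_iff.mp hcC) a ha).symm
      have h4 : Nat.card Q ∣ Nat.card ↥(Cfsg.sigmaCore M ⊓ Subgroup.centralizer (K : Set G)) :=
        Subgroup.card_dvd_of_le hQle
      have h5 : Nat.card ↥(Cfsg.sigmaCore M ⊓ Subgroup.centralizer (K : Set G)) ^ 2 ∣ Nat.card Q := by
        rw [dcard]
        exact Dvd.dvd.mul_left (pow_dvd_pow _ hKp.two_le) _
      have h6 := Nat.le_of_dvd hq.pos (h5.trans h4)
      have h7 := hq.one_lt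
      nlinarith
    · apply le_of_coprime_relIndex hMsn inf_le_left
      rw [← card_eq_relIndex_of_isComplIn hE]
      exact ((Nat.Prime.coprime_iff_not_dvd hKp).mpr hp).symm
  have hC1nil : Group.IsNilpotent ↥(M ⊓ Subgroup.centralizer (Q : Set G)) :=
    isNilpotent_of_centralizes_normal_compl hDc hLQn dnil hC1 inf_le_right
  have hCle : M ⊓ Subgroup.centralizer (Cfsg.fittingHallOf M : Set G) ≤
      M ⊓ Subgroup.centralizer (Q : Set G) :=
    inf_le_inf_left _ (Subgroup.centralizer_le (by exact_mod_cast hQF))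
  have hFeq := fittingOf_eq_of_isNilpotent M (isNilpotent_of_le' hCle hC1nil)
  refine ⟨?_, hFeq, ?_⟩
  · obtain ⟨h1, h2⟩ := derived2_facts M
    apply Cfsg.Agent.Helper29.Bender.le_fittingOf h1 h2
    have h3 : ⁅⁅M, M⁆, ⁅M, M⁆⁆ ≤ Q ⊔ ⁅D, D⁆ := by
      rw [← hMs']
      exact commutator_le_sup_of_cover _ Q D hLQn hDL (fun m hm => hDc.2.2.2 m hm)
    have hD'D : ⁅D, D⁆ ≤ D := by
      rw [Subgroup.commutator_le]
      intro a ha b hb
      rw [commutatorElement_def]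
      exact D.mul_mem (D.mul_mem (D.mul_mem ha hb) (D.inv_mem ha)) (D.inv_mem hb)
    have h4 : Group.IsNilpotent ↥(Q ⊔ ⁅D, D⁆) :=
      isNilpotent_sup_of_commute' hQp.isNilpotent (isNilpotent_of_le' hD'D dnil)
        (fun a ha b hb => (Subgroup.mem_centralizer_iff.mp (dcomm hb)) a ha)
    exact isNilpotent_of_le' h3 h4
  · intro _
    rw [hFeq, ← hMs']
    exact sup_le (hCle.trans hC1) (fittingHallOf_le_sigmaCore hG hM)

/-- Let G be a minimal simple group of odd order and M a maximal subgroup. Then the second derived subgroup M'' lies in the Fitting subgroup F(M), F(M) is generated by M_F together with C_M(M_F), and if κ(M) is nonempty then F(M) ≤ M'. -/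
theorem result {G : Type*} [Group G] [Finite G] (hG : Cfsg.IsMinSimpleOddOrder G)
    (M : Subgroup G) (hM : IsCoatom M) :
    ⁅⁅M, M⁆, ⁅M, M⁆⁆ ≤ Cfsg.fittingOf M ∧
      Cfsg.fittingOf M = (M ⊓ Subgroup.centralizer (Cfsg.fittingHallOf M : Set G)) ⊔ Cfsg.fittingHallOf M ∧
      ((Cfsg.kappa M).Nonempty → Cfsg.fittingOf M ≤ ⁅M, M⁆) := by
  by_cases hn : Group.IsNilpotent ↥(Cfsg.sigmaCore M)
  · exact caseB hG M hM hn
  · exact caseC hG M hM hn

end Cfsg.Agent.S1356
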