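-- Statement S1364 (B-G: K* cyclic, nontrivial, inside M_F; M_F not cyclic),
-- conditional on S1351, S1366, S1430, S1431, S1437 (helper60).
import Cfsg.Statements.S1364
import Cfsg.Agent.S0055
import Cfsg.Agent.S1350
import Cfsg.Agent.S1351
import Cfsg.Agent.S1366
import Cfsg.Agent.S1430
import Cfsg.Agent.S1431
import Cfsg.Agent.S1437
import Cfsg.Agent.Helper23.FittingHall
import Cfsg.Agent.Helper67.CyclicSub
import Cfsg.Agent.Helper60.BGAsmC
import Cfsg.Agent.Helper60.BGAsmD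

set_option autoImplicit false
open Cfsg
open scoped commutatorElement

namespace Cfsg.Agent.S1364

open Cfsg.Agent.Helper60.BGAsm

/-- Cauchy inside a subgroup -/
theorem exists_le_card_eq_prime {G : Type*} [Group G] [Finite G] {p : ℕ} (hp : p.Prime)
    {H : Subgroup G} (hdvd : p ∣ Nat.card H) : ∃ X : Subgroup G, X ≤ H ∧ Nat.card X = p := by
  have : Fact p.Prime := ⟨hp⟩
  obtain ⟨x, hx⟩ := exists_prime_orderOf_dvd_card' p hdvd
  refine ⟨Subgroup.zpowers (x : G), ?_, ?_⟩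
  · rw [Subgroup.zpowers_le]; exact x.2
  · rw [Nat.card_zpowers, Subgroup.orderOf_coe, hx]

/-- `M_F` is normalized by `M` -/
theorem le_normalizer_fittingHallOf {G : Type*} [Group G] (M : Subgroup G) :
    M ≤ Subgroup.normalizer ((Cfsg.fittingHallOf M : Subgroup G) : Set G) := by
  apply le_normalizer_of_forall_conj_mem
  rintro m hm _ ⟨x, hx, rfl⟩
  refine ⟨⟨m, hm⟩ * x * ⟨m, hm⟩⁻¹, ?_, rfl⟩
  exact (Cfsg.fittingHall_normal ↥M).conj_mem x hx _

/-- the relative index of `M_F` in `M` -/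
theorem relIndex_fittingHallOf {G : Type*} [Group G] (M : Subgroup G) :
    (Cfsg.fittingHallOf M).relIndex M = (Cfsg.fittingHall ↥M).index := by
  unfold Subgroup.relIndex Cfsg.fittingHallOf Subgroup.subgroupOf
  rw [Subgroup.comap_map_eq_self_of_injective M.subtype_injective]

theorem card_fittingHallOf {G : Type*} [Group G] (M : Subgroup G) :
    Nat.card (Cfsg.fittingHallOf M) = Nat.card (Cfsg.fittingHall ↥M) :=
  Subgroup.card_subtype _ _

/-- Let G be a minimal simple group of odd order, M a maximal subgroup with standard factorisation M = K U M_σ and K ≠ 1, and put K* = M_σ ∩ C_G(K). Then K* is cyclic, nontrivial and contained in M_F, while M_F itself is not cyclic. -/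
theorem result {G : Type*} [Group G] [Finite G] (hG : Cfsg.IsMinSimpleOddOrder G)
    (M : Subgroup G) (hM : IsCoatom M) (K U : Subgroup G) (hKU : Cfsg.IsSigmaDecomposition M K U) (hK1 : K ≠ ⊥) :
    IsCyclic ↥(Cfsg.sigmaCore M ⊓ Subgroup.centralizer (K : Set G)) ∧ (Cfsg.sigmaCore M ⊓ Subgroup.centralizer (K : Set G)) ≠ ⊥ ∧ (Cfsg.sigmaCore M ⊓ Subgroup.centralizer (K : Set G)) ≤ Cfsg.fittingHallOf M ∧ ¬ IsCyclic (Cfsg.fittingHallOf M) := by
  have hK := hKU.hall
  obtain ⟨Mstar, ⟨hMstar, hKst, hKstH⟩, -⟩ := Cfsg.Agent.S1366.result hG M hM K U hKU hK1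
  have hcyc : IsCyclic ↥(Cfsg.sigmaCore M ⊓ Subgroup.centralizer (K : Set G)) :=
    (Cfsg.Agent.S1351.result hG Mstar hMstar).2 _ hKstH
  have hKs1 := kstar_ne_bot hG hM hK hK1
  have hcopK := coprime_K_kstar hG hM hK
  have h31 := (Cfsg.Agent.S1431.result hG M hM K hK hK1).2.2.1
  obtain ⟨Ks, hKs⟩ : ∃ Ks : Subgroup G, Ks = Cfsg.sigmaCore M ⊓ Subgroup.centralizer (K : Set G) :=
    ⟨_, rfl⟩
  -- (3) `K* ≤ M_F`
  have hle : Cfsg.sigmaCore M ⊓ Subgroup.centralizer (K : Set G) ≤ Cfsg.fittingHallOf M := by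
    by_cases hne : Cfsg.fittingHallOf M = Cfsg.sigmaCore M
    · rw [hne]; exact inf_le_left
    · obtain ⟨-, -, -, hq, -, -, Q, hQF, hQn, hQq, hQidx, -⟩ :=
        Cfsg.Agent.S1437.result hG M hM K U hKU hne
      rw [← hKs] at hq hQq hQidx ⊢
      have hP : Ks ≤ Q ⊓ Cfsg.sigmaCore M := by
        apply le_of_coprime_relIndex (M := Cfsg.sigmaCore M)
        · intro g hg
          exact mem_normalizer_inf (hQn (sigmaCore_le' M hg))
            (le_normalizer_sigmaCore M (sigmaCore_le' M hg))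
        · rw [hKs]; exact inf_le_left
        · rw [Subgroup.inf_relIndex_right]
          exact (Nat.Prime.coprime_iff_not_dvd hq).mpr hQidx
      exact hP.trans (inf_le_left.trans hQF)
  refine ⟨hcyc, hKs1, hle, ?_⟩
  -- (4) `M_F` is not cyclic
  intro hc
  rw [← hKs] at hcyc hKs1 hcopK h31 hle
  have hcard : Nat.card Ks ≠ 1 := fun h => hKs1 (Subgroup.card_eq_one.mp h)
  obtain ⟨p, hp, hpKs⟩ := Nat.exists_prime_and_dvd hcard
  have : Fact p.Prime := ⟨hp⟩
  obtain ⟨S⟩ : Nonempty (Sylow p ↥(Cfsg.sigmaCore M)) := inferInstance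
  have h31' := (h31 p hp hpKs S).2.2
  obtain ⟨S', hS'⟩ : ∃ S' : Subgroup G,
      S' = (S : Subgroup ↥(Cfsg.sigmaCore M)).map (Cfsg.sigmaCore M).subtype := ⟨_, rfl⟩
  rw [← hS'] at h31'
  have hS'σ : S' ≤ Cfsg.sigmaCore M := by rw [hS']; exact Subgroup.map_subtype_le _
  have hS'p : IsPGroup p S' := by rw [hS']; exact S.2.map _
  -- `S' ≤ M_F`
  have hpF : p ∣ Nat.card (Cfsg.fittingHallOf M) := hpKs.trans (Subgroup.card_dvd_of_le hle)
  have hpidx : ¬ p ∣ (Cfsg.fittingHallOf M).relIndex M := by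
    rw [relIndex_fittingHallOf]
    intro h
    have h1 := Cfsg.Agent.Helper23.fittingHall_coprime ↥M
    rw [← card_fittingHallOf] at h1
    exact hp.one_lt.ne' (Nat.eq_one_of_dvd_coprimes h1 hpF h)
  have hS'F : S' ≤ Cfsg.fittingHallOf M := by
    apply le_of_coprime_relIndex (le_normalizer_fittingHallOf M) (hS'σ.trans (sigmaCore_le' M))
    obtain ⟨k, hk⟩ := IsPGroup.iff_card.mp hS'p
    rw [hk]
    exact Nat.Coprime.pow_left k ((Nat.Prime.coprime_iff_not_dvd hp).mpr hpidx)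
  -- `S'` is normal in `M`
  have hS'n : M ≤ Subgroup.normalizer (S' : Set G) := by
    apply le_normalizer_of_forall_conj_mem
    intro m hm y hy
    have h1 : S'.map (MulAut.conj m).toMonoidHom ≤ Cfsg.fittingHallOf M := by
      rintro _ ⟨z, hz, rfl⟩
      exact (Subgroup.mem_normalizer_iff.mp (le_normalizer_fittingHallOf M hm) z).mp (hS'F hz)
    have h2 : S'.map (MulAut.conj m).toMonoidHom = S' := by
      apply Cfsg.Agent.Helper67.eq_of_card_eq_of_le_cyclic (Cfsg.fittingHallOf M) _ _ h1 hS'F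
      exact Subgroup.card_map_of_injective (MulAut.conj m).injective
    rw [← h2]
    exact ⟨y, hy, rfl⟩
  -- a subgroup `X` of order `p` of `K*`
  obtain ⟨X, hXKs, hXp⟩ := exists_le_card_eq_prime hp hpKs
  have hS'1 : p ∣ Nat.card S' := by
    have h1 : Nat.card S' = Nat.card (S : Subgroup ↥(Cfsg.sigmaCore M)) := by
      rw [hS']; exact Subgroup.card_subtype _ _
    rw [h1]
    have h2 : p ∣ Nat.card ↥(Cfsg.sigmaCore M) := by
      have : Ks ≤ Cfsg.sigmaCore M := by rw [hKs]; exact inf_le_left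
      exact hpKs.trans (Subgroup.card_dvd_of_le this)
    exact S.dvd_card_of_dvd_card h2
  obtain ⟨Y, hYS', hYp⟩ := exists_le_card_eq_prime hp hS'1
  have hXY : X = Y :=
    Cfsg.Agent.Helper67.eq_of_card_eq_of_le_cyclic (Cfsg.fittingHallOf M) X Y (hXKs.trans hle)
      (hYS'.trans hS'F) (hXp.trans hYp.symm)
  have hXS' : X ≤ S' := hXY ▸ hYS'
  have hXcK : X ≤ Subgroup.centralizer (K : Set G) := by
    refine hXKs.trans ?_
    rw [hKs]; exact inf_le_right
  -- coprime action of `K` on the cyclic group `S'`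
  have hKS' : K ≤ Subgroup.normalizer (S' : Set G) := hK.1.trans hS'n
  have hS'comm : IsMulCommutative S' := by
    have hFc : ∀ a ∈ Cfsg.fittingHallOf M, ∀ b ∈ Cfsg.fittingHallOf M, a * b = b * a := by
      intro a ha b hb
      obtain ⟨g, hg⟩ := IsCyclic.exists_generator (α := ↥(Cfsg.fittingHallOf M))
      obtain ⟨i, hi⟩ := Subgroup.mem_zpowers_iff.mp (hg ⟨a, ha⟩)
      obtain ⟨j, hj⟩ := Subgroup.mem_zpowers_iff.mp (hg ⟨b, hb⟩)
      have h3 : (⟨a, ha⟩ : ↥(Cfsg.fittingHallOf M)) * ⟨b, hb⟩ = ⟨b, hb⟩ * ⟨a, ha⟩ := by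
        rw [← hi, ← hj]
        exact (Commute.zpow_zpow_self g i j).eq
      exact congrArg Subtype.val h3
    exact ⟨⟨fun a b => Subtype.ext (hFc a (hS'F a.2) b (hS'F b.2))⟩⟩
  have hcopS : (Nat.card K).Coprime (Nat.card S') := by
    obtain ⟨k, hk⟩ := IsPGroup.iff_card.mp hS'p
    rw [hk]
    exact Nat.Coprime.pow_right k (Nat.Coprime.coprime_dvd_right hpKs hcopK)
  have h55 := Cfsg.Agent.S0055.result K S' hKS' hcopS
  -- `[S', K] = 1`
  have hcomm_bot : ⁅S', K⁆ = ⊥ := by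
    by_contra hne
    have hcS' : ⁅S', K⁆ ≤ S' := by
      rw [Subgroup.commutator_le]
      intro s hs k hk
      have h1 : k * s⁻¹ * k⁻¹ ∈ S' :=
        (Subgroup.mem_normalizer_iff.mp (hKS' hk) s⁻¹).mp (S'.inv_mem hs)
      have h2 : ⁅s, k⁆ = s * (k * s⁻¹ * k⁻¹) := by
        rw [commutatorElement_def]; group
      rw [h2]
      exact S'.mul_mem hs h1
    have hpc : p ∣ Nat.card ↥⁅S', K⁆ := by
      obtain ⟨k, hk⟩ := IsPGroup.iff_card.mp (hS'p.to_le hcS')
      have hk0 : k ≠ 0 := by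
        intro h0
        rw [h0, pow_zero] at hk
        exact hne (Subgroup.card_eq_one.mp hk)
      rw [hk]
      exact dvd_pow_self p hk0
    obtain ⟨Y', hY'c, hY'p⟩ := exists_le_card_eq_prime hp hpc
    have hXY' : X = Y' :=
      Cfsg.Agent.Helper67.eq_of_card_eq_of_le_cyclic (Cfsg.fittingHallOf M) X Y' (hXKs.trans hle)
        ((hY'c.trans hcS').trans hS'F) (hXp.trans hY'p.symm)
    have h1 : X ≤ (S' ⊓ Subgroup.centralizer (K : Set G)) ⊓ ⁅S', K⁆ :=
      le_inf (le_inf hXS' hXcK) (hXY' ▸ hY'c)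
    rw [h55.1, le_bot_iff] at h1
    rw [h1, Subgroup.card_bot] at hXp
    exact hp.one_lt.ne hXp
  have hS'cK : S' ≤ Subgroup.centralizer (K : Set G) :=
    Subgroup.commutator_eq_bot_iff_le_centralizer.mp hcomm_bot
  apply h31'
  rw [hKs]
  exact le_inf hS'σ hS'cK

end Cfsg.Agent.S1364
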