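-- Statement S1370 (B-G: Ẑ = K K* \ (K ∪ K*) is a TI-subset with normalizer K K*),
-- conditional on S1366, S1430, S1431, S1434 (helper60).
import Cfsg.Statements.S1370
import Cfsg.Agent.S1350
import Cfsg.Agent.S1366
import Cfsg.Agent.S1430
import Cfsg.Agent.S1431
import Cfsg.Agent.S1434
import Cfsg.Agent.Helper60.BGAsmC

set_option autoImplicit false
open Cfsg

namespace Cfsg.Agent.S1370

open Cfsg.Agent.Helper60.BGAsm

/-- the abstract statement: `K`, `Ks` commuting subgroups of coprime orders in `M` -/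
theorem ti_of_data {G : Type*} [Group G] [Finite G] {M K Ks : Subgroup G} (hK1 : K ≠ ⊥)
    (hKs1 : Ks ≠ ⊥) (hZM : K ⊔ Ks ≤ M)
    (hcomm : ∀ a ∈ K, ∀ b ∈ Ks, a * b = b * a) (hcop : (Nat.card K).Coprime (Nat.card Ks))
    (h34 : ∀ g : G, g ∉ M → ∀ z ∈ ((↑(K ⊔ Ks) : Set G) \ ((K : Set G) ∪ ↑Ks)),
      z ∉ M.map (MulAut.conj g).toMonoidHom)
    (h31 : ∀ g ∈ M, g ∉ K ⊔ Ks → K ⊓ K.map (MulAut.conj g).toMonoidHom = ⊥) :
    Cfsg.IsTISubset ((↑(K ⊔ Ks) : Set G) \ ((K : Set G) ∪ ↑Ks)) ∧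
      Subgroup.normalizer ((↑(K ⊔ Ks) : Set G) \ ((K : Set G) ∪ ↑Ks)) = K ⊔ Ks := by
  have hdisj : K ⊓ Ks = ⊥ := inf_eq_bot_of_coprime_card hcop
  -- (A) `Z` normalizes `Ẑ`
  have hZN : K ⊔ Ks ≤ Subgroup.normalizer ((↑(K ⊔ Ks) : Set G) \ ((K : Set G) ∪ ↑Ks)) := by
    intro g hg
    have hgK : g ∈ Subgroup.normalizer (K : Set G) :=
      (sup_le Subgroup.le_normalizer
        (le_normalizer_of_commute (fun b hb a ha => (hcomm a ha b hb).symm))) hg
    have hgKs : g ∈ Subgroup.normalizer (Ks : Set G) :=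
      (sup_le (le_normalizer_of_commute hcomm) Subgroup.le_normalizer) hg
    have hgZ : g ∈ Subgroup.normalizer ((K ⊔ Ks : Subgroup G) : Set G) := Subgroup.le_normalizer hg
    rw [Subgroup.mem_set_normalizer_iff]
    intro n
    simp only [Set.mem_sdiff, Set.mem_union, SetLike.mem_coe]
    exact and_congr (Subgroup.mem_normalizer_iff.mp hgZ n)
      (not_congr (or_congr (Subgroup.mem_normalizer_iff.mp hgK n)
        (Subgroup.mem_normalizer_iff.mp hgKs n)))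
  -- (B) fusion of elements of `Ẑ` is controlled by `Z`
  have hB : ∀ x ∈ ((↑(K ⊔ Ks) : Set G) \ ((K : Set G) ∪ ↑Ks)), ∀ g : G,
      g * x * g⁻¹ ∈ ((↑(K ⊔ Ks) : Set G) \ ((K : Set G) ∪ ↑Ks)) → g ∈ K ⊔ Ks := by
    intro x hx g hgx
    have hxZ : x ∈ K ⊔ Ks := hx.1
    have hgM : g ∈ M := by
      by_contra hgM
      exact h34 g hgM (g * x * g⁻¹) hgx ⟨x, hZM hxZ, rfl⟩
    by_contra hgZ
    have h1 := h31 g hgM hgZ
    have hx_n : x ^ Nat.card Ks ∈ K := pow_card_mem_of_commute hcomm hxZ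
    have hx_n1 : x ^ Nat.card Ks ≠ 1 :=
      pow_card_ne_one_of_commute hcomm hcop hxZ (fun h => hx.2 (Or.inr h))
    have hy_n : (g * x * g⁻¹) ^ Nat.card Ks ∈ K := pow_card_mem_of_commute hcomm hgx.1
    rw [conj_pow] at hy_n
    have h2 : g * x ^ Nat.card Ks * g⁻¹ ∈ K ⊓ K.map (MulAut.conj g).toMonoidHom :=
      ⟨hy_n, ⟨x ^ Nat.card Ks, hx_n, rfl⟩⟩
    rw [h1, Subgroup.mem_bot] at h2
    apply hx_n1
    have h3 : x ^ Nat.card Ks = g⁻¹ * (g * x ^ Nat.card Ks * g⁻¹) * g := by group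
    rw [h3, h2]; group
  refine ⟨?_, ?_⟩
  · intro g hg x hx hgx
    exact absurd (hZN (hB x hx g hgx)) hg
  · apply le_antisymm
    · intro g hg
      obtain ⟨a, ha, ha1⟩ := K.bot_or_exists_ne_one.resolve_left hK1
      obtain ⟨b, hb, hb1⟩ := Ks.bot_or_exists_ne_one.resolve_left hKs1
      have hx : a * b ∈ ((↑(K ⊔ Ks) : Set G) \ ((K : Set G) ∪ ↑Ks)) := by
        refine ⟨Subgroup.mul_mem _ (Subgroup.mem_sup_left ha) (Subgroup.mem_sup_right hb), ?_⟩
        rintro (h | h)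
        · have h4 : b ∈ K ⊓ Ks :=
            ⟨by have := K.mul_mem (K.inv_mem ha) h; simpa using this, hb⟩
          rw [hdisj, Subgroup.mem_bot] at h4
          exact hb1 h4
        · have h4 : a ∈ K ⊓ Ks :=
            ⟨ha, by have := Ks.mul_mem h (Ks.inv_mem hb); simpa using this⟩
          rw [hdisj, Subgroup.mem_bot] at h4
          exact ha1 h4
      exact hB _ hx g ((Subgroup.mem_set_normalizer_iff.mp hg _).mp hx)
    · exact hZN

/-- Let G be a minimal simple group of odd order, M a maximal subgroup with standard factorisation M = K U M_σ, K ≠ 1, K* = M_σ ∩ C_G(K) and Z the subgroup generated by K and K*. Then the set of elements of Z lying in neither K nor K* is a TI-subset of G, and its set-normalizer in G is exactly Z. -/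
theorem result {G : Type*} [Group G] [Finite G] (hG : Cfsg.IsMinSimpleOddOrder G)
    (M : Subgroup G) (hM : IsCoatom M) (K U : Subgroup G) (hKU : Cfsg.IsSigmaDecomposition M K U) (hK1 : K ≠ ⊥) :
    Cfsg.IsTISubset ((↑(K ⊔ (Cfsg.sigmaCore M ⊓ Subgroup.centralizer (K : Set G))) : Set G) \ ((K : Set G) ∪ ↑(Cfsg.sigmaCore M ⊓ Subgroup.centralizer (K : Set G)))) ∧ Subgroup.normalizer ((↑(K ⊔ (Cfsg.sigmaCore M ⊓ Subgroup.centralizer (K : Set G))) : Set G) \ ((K : Set G) ∪ ↑(Cfsg.sigmaCore M ⊓ Subgroup.centralizer (K : Set G)))) = K ⊔ (Cfsg.sigmaCore M ⊓ Subgroup.centralizer (K : Set G)) := by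
  have hK := hKU.hall
  obtain ⟨Mstar, ⟨hMstar, hKst, hKstH⟩, -⟩ := Cfsg.Agent.S1366.result hG M hM K U hKU hK1
  have h34 := (Cfsg.Agent.S1434.result hG M hM K U hKU hK1 Mstar hMstar hKst hKstH).2.2.2.1
  have h31 := (Cfsg.Agent.S1431.result hG M hM K hK hK1).2.1
  exact ti_of_data hK1 (kstar_ne_bot hG hM hK hK1) (K_le_sup_le M K hK.1) (commute_K_kstar M K)
    (coprime_K_kstar hG hM hK) h34 h31

end Cfsg.Agent.S1370
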