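import Cfsg.Statements.S1357
import Cfsg.Agent.S1404
import Cfsg.Agent.S1426
import Cfsg.Agent.S1431
import Cfsg.Agent.S1437
import Cfsg.Agent.S1439
import Cfsg.Agent.Helper64.BG157B

set_option autoImplicit false
open Cfsg

namespace Cfsg.Agent.S1357

/-- Let G be a minimal simple group of odd order and M a maximal subgroup with standard factorisation M = K U M_σ. If M_F ≠ M_σ then U = 1, the Fitting subgroup F(M) meets its conjugates by elements outside its normalizer trivially, and K has prime order. -/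
theorem result {G : Type*} [Group G] [Finite G] (hG : Cfsg.IsMinSimpleOddOrder G)
    (M : Subgroup G) (hM : IsCoatom M) (K U : Subgroup G) (hKU : Cfsg.IsSigmaDecomposition M K U) (hne : Cfsg.fittingHallOf M ≠ Cfsg.sigmaCore M) :
    U = ⊥ ∧ Cfsg.IsTISubset (Cfsg.fittingOf M : Set G) ∧ (Nat.card K).Prime := by
  obtain ⟨hU, -, hKp, hqp, -, hqβ, Q, hQF, hMQ, hQq, hQs, -⟩ :=
    Cfsg.Agent.S1437.result hG M hM K U hKU hne
  refine ⟨hU, ?_, hKp⟩
  subst hU
  have hcompl := Cfsg.Agent.Helper64.BG157B.isComplIn_of_sigmaDecomposition_bot hKU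
  obtain ⟨-, h39a, h39b⟩ := Cfsg.Agent.S1439.result hG M hM
  have hFσ := Cfsg.Agent.Helper64.BG157B.fittingOf_le_sigmaCore hcompl hKp h39a h39b
  haveI : Fact (Nat.card ↥(Cfsg.sigmaCore M ⊓ Subgroup.centralizer (K : Set G))).Prime := ⟨hqp⟩
  have hK1 : K ≠ ⊥ := by
    rintro rfl
    rw [Subgroup.card_bot] at hKp
    exact Nat.not_prime_one hKp
  have h31 := (Cfsg.Agent.S1431.result hG M hM K hKU.hall hK1).2.2.1 _ hqp (dvd_refl _)
  exact Cfsg.Agent.Helper64.BG157B.isTISubset_fittingOf' hG hM hFσ hqβ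
    (hQF.trans (Subgroup.map_subtype_le _)) hMQ hQq hQs
    (fun g hg => ((Cfsg.Agent.S1426.result hG M hM K hcompl).2.2 g hg).2.1)
    (fun S => (h31 S).1)
    (fun r _ hr X hXr hX1 hXM => (Cfsg.Agent.S1404.result hG M hM r hr X hXr hX1 hXM).1)

end Cfsg.Agent.S1357
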