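-- Statement S1368 (B-G: M ∩ M* = K K* is cyclic), conditional on S1351, S1430, S1434 (helper60).
import Cfsg.Statements.S1368
import Cfsg.Agent.S1350
import Cfsg.Agent.S1351
import Cfsg.Agent.S1430
import Cfsg.Agent.S1434
import Cfsg.Agent.Helper32.BG36A
import Cfsg.Agent.Helper60.BGAsmC

set_option autoImplicit false
open Cfsg

namespace Cfsg.Agent.S1368

open Cfsg.Agent.Helper60.BGAsm

/-- Let G be a minimal simple group of odd order, M a maximal subgroup with standard factorisation M = K U M_σ, K ≠ 1, K* = M_σ ∩ C_G(K), and M* a maximal subgroup with K = M*_σ ∩ C_G(K*) and K* a Hall κ(M*)-subgroup of M*. Then M ∩ M* is the subgroup generated by K and K*, and it is cyclic. -/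
theorem result {G : Type*} [Group G] [Finite G] (hG : Cfsg.IsMinSimpleOddOrder G)
    (M : Subgroup G) (hM : IsCoatom M) (K U : Subgroup G) (hKU : Cfsg.IsSigmaDecomposition M K U) (hK1 : K ≠ ⊥) (Mstar : Subgroup G) (hMstar : IsCoatom Mstar)
    (hKst : K = Cfsg.sigmaCore Mstar ⊓ Subgroup.centralizer ((Cfsg.sigmaCore M ⊓ Subgroup.centralizer (K : Set G)) : Set G))
    (hKstH : Cfsg.IsPiHallOf (Cfsg.kappa Mstar) (Cfsg.sigmaCore M ⊓ Subgroup.centralizer (K : Set G)) Mstar) :
    M ⊓ Mstar = K ⊔ (Cfsg.sigmaCore M ⊓ Subgroup.centralizer (K : Set G)) ∧ IsCyclic ↥(K ⊔ (Cfsg.sigmaCore M ⊓ Subgroup.centralizer (K : Set G))) := by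
  have hK := hKU.hall
  have h50 := (Cfsg.Agent.S1350.result hG M hM).1
  have h34 := (Cfsg.Agent.S1434.result hG M hM K U hKU hK1 Mstar hMstar hKst hKstH).2.1
  have hKMs : K ≤ Mstar := by
    intro y hy
    have h1 : y ∈ Cfsg.sigmaCore Mstar ⊓ Subgroup.centralizer ((Cfsg.sigmaCore M ⊓ Subgroup.centralizer (K : Set G)) : Set G) :=
      hKst ▸ hy
    exact sigmaCore_le' Mstar h1.1
  constructor
  · apply le_antisymm
    · -- `D = M ∩ M*` normalizes `K* = D ∩ M_σ` and then `K`
      have hT : (M ⊓ Mstar) ⊓ Cfsg.sigmaCore M =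
          Cfsg.sigmaCore M ⊓ Subgroup.centralizer (K : Set G) := by
        apply le_antisymm
        · -- a `σ(M)`-subgroup of `M*` containing the Hall `σ(M)`-subgroup `K*`
          have hle : Cfsg.sigmaCore M ⊓ Subgroup.centralizer (K : Set G) ≤
              (M ⊓ Mstar) ⊓ Cfsg.sigmaCore M :=
            le_inf (le_inf (inf_le_left.trans (sigmaCore_le' M)) hKstH.1) inf_le_left
          rw [← Subgroup.relIndex_eq_one]
          by_contra hne
          obtain ⟨q, hq, hqd⟩ := Nat.exists_prime_and_dvd hne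
          have h1 : q ∣ Nat.card ↥((M ⊓ Mstar) ⊓ Cfsg.sigmaCore M) :=
            hqd.trans (Subgroup.relIndex_dvd_card _ _)
          have h2 : q ∈ Cfsg.sigma M :=
            h50.2.1 q hq (h1.trans (Subgroup.card_dvd_of_le inf_le_right))
          have h3 := Subgroup.relIndex_mul_relIndex
            (Cfsg.sigmaCore M ⊓ Subgroup.centralizer (K : Set G))
            ((M ⊓ Mstar) ⊓ Cfsg.sigmaCore M) Mstar hle (inf_le_left.trans inf_le_right)
          exact h34.2.2 q hq h2 (h3 ▸ Dvd.dvd.mul_right hqd _)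
        · exact le_inf (le_inf (inf_le_left.trans (sigmaCore_le' M)) hKstH.1) inf_le_left
      intro g hg
      have hgT : g ∈ Subgroup.normalizer
          (((Cfsg.sigmaCore M ⊓ Subgroup.centralizer (K : Set G) : Subgroup G)) : Set G) := by
        rw [← hT]
        exact mem_normalizer_inf (Subgroup.le_normalizer hg) (le_normalizer_sigmaCore M hg.1)
      have hKst' : K = Cfsg.sigmaCore Mstar ⊓ Subgroup.centralizer
          (((Cfsg.sigmaCore M ⊓ Subgroup.centralizer (K : Set G) : Subgroup G)) : Set G) :=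
        hKst.trans (by rw [Subgroup.coe_inf]; rfl)
      obtain ⟨X, hXdef⟩ : ∃ X : Subgroup G, X = Cfsg.sigmaCore Mstar ⊓ Subgroup.centralizer
          (((Cfsg.sigmaCore M ⊓ Subgroup.centralizer (K : Set G) : Subgroup G)) : Set G) := ⟨_, rfl⟩
      have hKX : K = X := by rw [hXdef]; exact hKst'
      have hgX : g ∈ Subgroup.normalizer (X : Set G) := by
        rw [hXdef]
        exact Cfsg.Agent.Helper32.BG36.mem_normalizer_fix (le_normalizer_sigmaCore Mstar hg.2) hgT
      have hgK : g ∈ Subgroup.normalizer (K : Set G) := by rw [hKX]; exact hgX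
      rw [← inf_normalizer_K hG hM hK hK1]
      exact ⟨hg.1, hgK⟩
    · exact le_inf (K_le_sup_le M K hK.1) (sup_le hKMs hKstH.1)
  · have hcyc : IsCyclic ↥(Cfsg.sigmaCore M ⊓ Subgroup.centralizer (K : Set G)) :=
      (Cfsg.Agent.S1351.result hG Mstar hMstar).2 _ hKstH
    exact isCyclic_sup_of_commute hKU.cyclic hcyc (commute_K_kstar M K) (coprime_K_kstar hG hM hK)

end Cfsg.Agent.S1368
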