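import Cfsg.Statements.S1435
import Cfsg.Agent.S1352
import Cfsg.Agent.S1353
import Cfsg.Agent.S1364
import Cfsg.Agent.S1367
import Cfsg.Agent.S1368
import Cfsg.Agent.S1369
import Cfsg.Agent.S1372
import Cfsg.Agent.S1378
import Cfsg.Agent.S1403
import Cfsg.Agent.S1430
import Cfsg.Agent.S1432
import Cfsg.Agent.Helper60.BG147U
import Cfsg.Agent.Helper50.BG159B
import Cfsg.Agent.Helper91.BG159P4
import Cfsg.Agent.Helper33.BG147B
import Cfsg.Agent.Helper60.BG159D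

set_option autoImplicit false
open Cfsg

namespace Cfsg.Agent.S1435

/-- Let G be a minimal simple group of odd order, M a maximal subgroup with standard factorisation M = K U M_σ, K ≠ 1, U ≠ 1, K* = M_σ ∩ C_G(K), M* a maximal subgroup with K = M*_σ ∩ C_G(K*) and K* a Hall κ(M*)-subgroup of M*, r a prime dividing the order of U, R a Sylow r-subgroup of U, and H a maximal subgroup containing N_G(R). Then κ(H) is empty, U ≤ H_σ, M ∩ H = U ⊔ K, H ∩ N_G(U) ⊄ M, K ≤ F(H ∩ M*), and H ∩ M* is a complement to H_σ in H. -/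
theorem result {G : Type*} [Group G] [Finite G] (hG : Cfsg.IsMinSimpleOddOrder G)
    (M : Subgroup G) (hM : IsCoatom M) (K U : Subgroup G) (hKU : Cfsg.IsSigmaDecomposition M K U) (hK1 : K ≠ ⊥) (hU1 : U ≠ ⊥) (Mstar : Subgroup G) (hMstar : IsCoatom Mstar)
    (hKst : K = Cfsg.sigmaCore Mstar ⊓ Subgroup.centralizer ((Cfsg.sigmaCore M ⊓ Subgroup.centralizer (K : Set G)) : Set G))
    (hKstH : Cfsg.IsPiHallOf (Cfsg.kappa Mstar) (Cfsg.sigmaCore M ⊓ Subgroup.centralizer (K : Set G)) Mstar)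
    (r : ℕ) [Fact r.Prime] (hr : r ∣ Nat.card U) (R : Sylow r U) (H : Subgroup G) (hH : IsCoatom H)
    (hNR : Subgroup.normalizer (((R : Subgroup U).map U.subtype : Subgroup G) : Set G) ≤ H) :
    Cfsg.kappa H = ∅ ∧ U ≤ Cfsg.sigmaCore H ∧ M ⊓ H = U ⊔ K ∧ ¬ H ⊓ Subgroup.normalizer (U : Set G) ≤ M ∧
      K ≤ Cfsg.fittingOf (H ⊓ Mstar) ∧ Cfsg.IsComplIn (H ⊓ Mstar) (Cfsg.sigmaCore H) H := by
  have hU : Cfsg.Agent.Helper29.BG10.UniquenessThm G :=
    fun L h1 h2 h3 => Cfsg.Agent.S1403.result hG L h1 h2 h3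
  have hKσ : K ≤ Cfsg.sigmaCore Mstar := hKst.le.trans inf_le_left
  have hUab : IsMulCommutative U := Cfsg.Agent.Helper60.BG147U.isMulCommutative_U hG M hM K U hKU hK1
  have h53 := Cfsg.Agent.S1353.result hG M hM K U hKU
  have h30 := (Cfsg.Agent.S1430.result hG M hM K hKU.hall hK1).1
  have h72 := Cfsg.Agent.S1372.result hG M hM K U hKU hK1 hU1
  have hKp : (Nat.card K).Prime := h72.1
  have h67' := (Cfsg.Agent.S1367.result hG M hM K U hKU hK1 Mstar hMstar hKst hKstH).2 K le_rfl hKp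
  have h67 : Subgroup.centralizer (K : Set G) ≤ Mstar := h67'.1
  have h68 := (Cfsg.Agent.S1368.result hG M hM K U hKU hK1 Mstar hMstar hKst hKstH).1
  have h69 := (Cfsg.Agent.S1369.result hG M hM K U hKU hK1 Mstar hMstar hKst hKstH).2
  have h78 := (Cfsg.Agent.S1378.result hG).2
  have h32 : Cfsg.Agent.Helper33.BG147.H1432 G :=
    fun L hL x hx hx1 x' hx' hx'1 hσ => Cfsg.Agent.S1432.result hG L hL x hx hx1 x' hx' hx'1 hσ
  obtain ⟨hUKH, hHMσ, hMH, hnM, hnMs, hκ, hqσ, hnil, hfpf, hp0, hKS, hN⟩ :=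
    Cfsg.Agent.Helper50.BG159.partI hG hM hKU hK1 hU1 hMstar hKσ hr R hH hNR hUab h53 h30 hKp h67 h68
      h69 h78 (fun x hx hx1 x' hx' hx'1 hσ => h32 H hH x hx hx1 x' hx' hx'1 hσ)
  have hHM : H ≠ M := by
    have := hnM 1
    intro h
    apply this
    rw [h]
    ext x
    simp
  have hqMs : Nat.card K ∈ Cfsg.sigma Mstar :=
    Cfsg.Agent.Helper50.BG159.card_mem_sigma_of_le_sigmaCore hG hMstar hKp hKσ
  have hKMs : K ≤ Mstar := hKσ.trans (Cfsg.Agent.Helper68.BG12.sigmaCore_le Mstar)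
  have hfpf' : Cfsg.sigmaCore H ⊓ Subgroup.centralizer (K : Set G) = ⊥ := by
    rw [eq_bot_iff, ← hp0]
    exact inf_le_inf_left _ h67
  -- every complement of `H_σ` in `H` over `K` lies in `M*`
  have hE : ∀ E : Subgroup G, Cfsg.IsComplIn E (Cfsg.sigmaCore H) H → K ≤ E → E ≤ Mstar := by
    intro E hE hKE
    by_cases hτ : Cfsg.tau2 H = ∅
    · exact Cfsg.Agent.Helper33.BG147.le_Mstar_of_tau2_empty hG h32 hH hMstar hKp rfl hqMs hKMs h67
        hκ hτ hfpf' hE hKE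
    · obtain ⟨s, hs⟩ := Set.nonempty_iff_ne_empty.2 hτ
      exact Cfsg.Agent.Helper60.BG159D.compl_le_Mstar_of_tau2 hG (Cfsg.Agent.S1378.result hG)
        (fun L hL x hx hx1 x' hx' hx'1 hσ => h32 L hL x hx hx1 x' hx' hx'1 hσ) hH hE hKE hKp rfl
        hfpf' hMstar hqMs hKσ h67 h67'.2 hM
        (Cfsg.Agent.Helper60.BG159D.centralizer_le_of_TI hG hM h72.2.1 h72.2.2) h69 hs
  obtain ⟨h2, h4, h5, h6⟩ := Cfsg.Agent.Helper91.BG159.concl2456 hG hU
    (fun M hM K hKc hK => Cfsg.Agent.S1352.result hG M hM K hKc hK)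
    (fun M hM K U hKU hK1 => Cfsg.Agent.S1364.result hG M hM K U hKU hK1)
    (fun M hM K U hKU hK1 Mstar hMstar hKst hKstH =>
      Cfsg.Agent.S1368.result hG M hM K U hKU hK1 Mstar hMstar hKst hKstH)
    M hM K U hKU hK1 hU1 Mstar hMstar hKst hKstH H hH hKp
    (fun a ha b hb => by
      have := hUab.is_comm.comm ⟨a, ha⟩ ⟨b, hb⟩
      exact congrArg Subtype.val this)
    hMH hHM hqσ hnil hE hp0
  exact ⟨hκ, h2, hMH, h4, h5, h6⟩

end Cfsg.Agent.S1435
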