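-- Statement S1363 (B-G: K ≠ 1 ⟹ U abelian and N_G(U) ⊄ M), conditional on S1366, S1430, S1435 (helper60).
import Cfsg.Statements.S1363
import Cfsg.Agent.S1350
import Cfsg.Agent.S1366
import Cfsg.Agent.S1430
import Cfsg.Agent.S1435
import Cfsg.Agent.Helper60.BGAsmC
import Cfsg.Agent.Helper60.BGAsmD

set_option autoImplicit false
open Cfsg

namespace Cfsg.Agent.S1363

open Cfsg.Agent.Helper60.BGAsm

/-- the order of `U` in a standard factorisation is prime to `κ(M) ∪ σ(M)` -/
theorem not_mem_of_dvd_card_U {G : Type*} [Group G] [Finite G] (hG : Cfsg.IsMinSimpleOddOrder G)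
    {M : Subgroup G} (hM : IsCoatom M) {K U : Subgroup G} (hKU : Cfsg.IsSigmaDecomposition M K U)
    {q : ℕ} (hq : q.Prime) (hqU : q ∣ Nat.card U) : q ∉ Cfsg.kappa M ∧ q ∉ Cfsg.sigma M := by
  have h50 := (Cfsg.Agent.S1350.result hG M hM).1
  have hcard : Nat.card U = (K ⊔ Cfsg.sigmaCore M).relIndex M :=
    card_eq_relIndex_of_isComplIn hKU.compl
  rw [hcard] at hqU
  constructor
  · intro h
    exact hKU.hall.2.2 q hq h (hqU.trans (Subgroup.relIndex_dvd_of_le_left M le_sup_left))
  · intro h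
    exact h50.2.2 q hq h (hqU.trans (Subgroup.relIndex_dvd_of_le_left M le_sup_right))

/-- Let G be a minimal simple group of odd order and M a maximal subgroup with standard factorisation M = K U M_σ and K ≠ 1. Then U is abelian and the normalizer of U in G is not contained in M. -/
theorem result {G : Type*} [Group G] [Finite G] (hG : Cfsg.IsMinSimpleOddOrder G)
    (M : Subgroup G) (hM : IsCoatom M) (K U : Subgroup G) (hKU : Cfsg.IsSigmaDecomposition M K U) (hK1 : K ≠ ⊥) :
    IsMulCommutative U ∧ ¬ Subgroup.normalizer (U : Set G) ≤ M := by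
  have hK := hKU.hall
  have h50 := (Cfsg.Agent.S1350.result hG M hM).1
  have hσ := le_normalizer_sigmaCore M
  constructor
  · obtain ⟨U', hU'c, hU'H, hKU', -⟩ := (Cfsg.Agent.S1430.result hG M hM K hK hK1).2.1
    have hU'comm : ∀ a ∈ U', ∀ b ∈ U', a * b = b * a := fun a ha b hb =>
      congrArg Subtype.val (mul_comm' (⟨a, ha⟩ : ↥U') ⟨b, hb⟩)
    have hU'σ : U' ≤ Subgroup.normalizer ((Cfsg.sigmaCore M : Subgroup G) : Set G) := hU'H.1.trans hσ
    -- `U' M_σ` is normal in `M`
    have hN'n : M ≤ Subgroup.normalizer ((U' ⊔ Cfsg.sigmaCore M : Subgroup G) : Set G) := by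
      have hcover : M ≤ (U' ⊔ Cfsg.sigmaCore M) ⊔ K := by
        apply le_sup_of_hall_cover
        intro q hq
        by_cases h1 : q ∈ Cfsg.sigma M
        · exact ⟨Cfsg.sigmaCore M, le_sup_right.trans le_sup_left, h50.2.2 q hq h1⟩
        · by_cases h2 : q ∈ Cfsg.kappa M
          · exact ⟨K, le_sup_right, hK.2.2 q hq h2⟩
          · exact ⟨U', le_sup_left.trans le_sup_left, hU'H.2.2 q hq ⟨hq, h2, h1⟩⟩
      refine hcover.trans (sup_le Subgroup.le_normalizer ?_)
      intro k hk
      exact mem_normalizer_sup (hKU' hk) (hσ (hK.1 hk))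
    have hN'M : U' ⊔ Cfsg.sigmaCore M ≤ M := sup_le hU'H.1 (sigmaCore_le' M)
    -- `U ≤ U' M_σ`
    have hUle : U ≤ U' ⊔ Cfsg.sigmaCore M := by
      apply le_of_coprime_relIndex hN'n hKU.compl.1
      apply Nat.coprime_of_dvd
      intro q hq hq1 hq2
      have h1 := not_mem_of_dvd_card_U hG hM hKU hq hq1
      exact hU'H.2.2 q hq ⟨hq, h1.1, h1.2⟩ (hq2.trans (Subgroup.relIndex_dvd_of_le_left M le_sup_left))
    refine ⟨⟨fun a b => ?_⟩⟩
    apply Subtype.ext
    have h1 : (a : G) * (b : G) * (a : G)⁻¹ * (b : G)⁻¹ ∈ Cfsg.sigmaCore M :=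
      commutator_mem_of_commute_sup hU'comm hU'σ (hUle a.2) (hUle b.2)
    have h2 : (a : G) * (b : G) * (a : G)⁻¹ * (b : G)⁻¹ ∈ U ⊓ (K ⊔ Cfsg.sigmaCore M) :=
      ⟨U.mul_mem (U.mul_mem (U.mul_mem a.2 b.2) (U.inv_mem a.2)) (U.inv_mem b.2),
        Subgroup.mem_sup_right h1⟩
    rw [hKU.compl.2.2.1, Subgroup.mem_bot] at h2
    have h3 : (a : G) * (b : G) = (b : G) * (a : G) := by
      have h4 : (a : G) * (b : G) = ((a : G) * (b : G) * (a : G)⁻¹ * (b : G)⁻¹) * ((b : G) * (a : G)) := by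
        group
      rw [h4, h2, one_mul]
    exact h3
  · by_cases hU1 : U = ⊥
    · intro h
      have h1 : Subgroup.normalizer ((U : Subgroup G) : Set G) = ⊤ := by
        rw [hU1]
        exact Subgroup.normalizer_eq_top_iff.mpr inferInstance
      rw [h1] at h
      exact hM.1 (top_le_iff.mp h)
    · obtain ⟨Mstar, ⟨hMstar, hKst, hKstH⟩, -⟩ := Cfsg.Agent.S1366.result hG M hM K U hKU hK1
      have hcard : Nat.card U ≠ 1 := fun h => hU1 (Subgroup.card_eq_one.mp h)
      obtain ⟨r, hr, hrU⟩ := Nat.exists_prime_and_dvd hcard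
      haveI : Fact r.Prime := ⟨hr⟩
      obtain ⟨R⟩ : Nonempty (Sylow r U) := inferInstance
      have hR1 : (R : Subgroup U).map U.subtype ≠ ⊥ := by
        intro h
        rw [Subgroup.map_eq_bot_iff_of_injective _ U.subtype_injective] at h
        exact R.ne_bot_of_dvd_card hrU h
      have hR2 : (R : Subgroup U).map U.subtype ≠ ⊤ := by
        intro h
        have h1 : (R : Subgroup U).map U.subtype ≤ M :=
          (Subgroup.map_subtype_le _).trans hKU.compl.1
        rw [h] at h1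
        exact hM.1 (top_le_iff.mp h1)
      obtain ⟨H, hH, hNR⟩ := exists_coatom_normalizer_le hG hR1 hR2
      have h35 := (Cfsg.Agent.S1435.result hG M hM K U hKU hK1 hU1 Mstar hMstar hKst hKstH r hrU R H hH
        hNR).2.2.2.1
      intro h
      exact h35 (inf_le_right.trans h)

end Cfsg.Agent.S1363
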