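import Cfsg.Statements.S1382
-- CONDITIONAL on S1354, S1355, S1356, S1357, S1363, S1364, S1365, S1370, S1437 (helper50)
import Cfsg.Agent.S1357
import Cfsg.Agent.S1363
import Cfsg.Agent.S1437
import Cfsg.Agent.Helper50.BG16Glue
import Cfsg.Agent.Helper50.BG16E

set_option autoImplicit false
open Cfsg

namespace Cfsg.Agent.S1382

/-- Let G be a minimal simple group of odd order and M a maximal subgroup with standard factorisation M = K U M_σ. Then M is of Type III or of Type IV if and only if K ≠ 1, U = 1 and M_F ≠ M_σ. -/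
theorem result {G : Type*} [Group G] [Finite G] (hG : Cfsg.IsMinSimpleOddOrder G)
    (M : Subgroup G) (hM : IsCoatom M) (K U : Subgroup G) (hKU : Cfsg.IsSigmaDecomposition M K U) :
    (Cfsg.IsOfTypeIII M ∨ Cfsg.IsOfTypeIV M) ↔ (K ≠ ⊥ ∧ U = ⊥ ∧ Cfsg.fittingHallOf M ≠ Cfsg.sigmaCore M) := by
  have h50 := (Cfsg.Agent.S1350.result hG M hM).1
  obtain ⟨-, h55b, h55c, -, -⟩ := Cfsg.Agent.S1355.result hG M hM
  constructor
  · intro h
    exact Cfsg.Agent.Helper50.BG16.of_isOfTypeIII_or_IV hG hM hKU h50 h55b h55c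
      (fun hK1 => (Cfsg.Agent.S1365.result hG M hM K U hKU hK1).1)
      (fun h => (Cfsg.Agent.S1357.result hG M hM K U hKU h).1)
      (fun hK1 => (Cfsg.Agent.S1363.result hG M hM K U hKU hK1).2) h
  · rintro ⟨hK1, hUb, hHN⟩
    have f := Cfsg.Agent.Helper50.BG16.kStarFacts_of hG M hM K U hKU hK1
    obtain ⟨-, h57b, h57c⟩ := Cfsg.Agent.S1357.result hG M hM K U hKU hHN
    obtain ⟨-, -, -, hqp, hqH, -, Q, hQH, -, hQp, hQrel, hQD⟩ :=
      Cfsg.Agent.S1437.result hG M hM K U hKU hHN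
    exact Cfsg.Agent.Helper50.BG16.isOfTypeIII_or_IV_of hG hM hKU hK1 hUb f hHN h57c h57b
      ⟨_, hqp, hqH, Q, hQH, hQp, hQrel, fun D hD => (hQD D hD).1⟩

end Cfsg.Agent.S1382
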