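import Cfsg.Statements.S4488
import Cfsg.Agent.Helper82.AutComplex
import Cfsg.Agent.Helper80.CharBasic
import Cfsg.Agent.Helper80.CharLevel
import Cfsg.Agent.Helper74.CharBasic
import Cfsg.Agent.Helper74.DefectZero
import Cfsg.Agent.Helper78.PSection
import Cfsg.Agent.Helper78.LocalRing
import Cfsg.Agent.Helper25.GenChar

set_option autoImplicit false
set_option linter.style.haveILetI false
open Cfsg

namespace Cfsg.Agent.S4488

open Finset


/-- geometric sum of a root of unity -/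
theorem geom_root (ω : ℂ) (M : ℕ) (hω : ω ^ M = 1) :
    ∑ j ∈ range M, ω ^ j = if ω = 1 then (M : ℂ) else 0 := by
  split_ifs with h
  · subst h; simp
  · have := geom_sum_eq h M
    rw [this, hω, sub_self, zero_div]

theorem sum_range_split (p k : ℕ) (hp : 0 < p) (f : ℕ → ℂ) (z : ℂ)
    (hz : ∀ t, ¬ p ∣ t → f t = z) :
    ∑ j ∈ range (p ^ (k + 1)), f j =
      ∑ j ∈ range (p ^ k), f (p * j) + ((p : ℂ) ^ (k + 1) - (p : ℂ) ^ k) * z := by
  classical
  rw [← Finset.sum_filter_add_sum_filter_not (range (p ^ (k + 1))) (fun j => p ∣ j)]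
  have himg : (range (p ^ (k + 1))).filter (fun j => p ∣ j) = (range (p ^ k)).image (fun j => p * j) := by
    ext j
    simp only [mem_filter, mem_range, mem_image]
    constructor
    · rintro ⟨hj, c, rfl⟩
      refine ⟨c, ?_, rfl⟩
      rw [pow_succ, mul_comm (p ^ k) p] at hj
      exact Nat.lt_of_mul_lt_mul_left hj
    · rintro ⟨c, hc, rfl⟩
      refine ⟨?_, dvd_mul_right _ _⟩
      rw [pow_succ, mul_comm (p ^ k) p]
      exact Nat.mul_lt_mul_of_pos_left hc hp
  have hinj : Set.InjOn (fun j => p * j) (range (p ^ k) : Set ℕ) := by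
    intro a _ b _ hab
    exact Nat.eq_of_mul_eq_mul_left hp hab
  rw [himg, Finset.sum_image hinj]
  congr 1
  have hcard : ((range (p ^ (k + 1))).filter (fun j => ¬ p ∣ j)).card = p ^ (k + 1) - p ^ k := by
    have h1 := Finset.card_filter_add_card_filter_not (s := range (p ^ (k + 1))) (fun j => p ∣ j)
    rw [himg, Finset.card_image_of_injOn hinj, card_range, card_range] at h1
    omega
  rw [Finset.sum_congr rfl (fun j hj => hz j (mem_filter.mp hj).2), Finset.sum_const, hcard,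
    nsmul_eq_mul, Nat.cast_sub (Nat.pow_le_pow_right hp (Nat.le_succ k))]
  push_cast
  rw [pow_succ]

theorem eigen_average (p k : ℕ) (hp : p.Prime) {ι : Type*} [Fintype ι] (μ : ι → ℂ)
    (hμ : ∀ i, μ i ^ (p ^ (k + 1)) = 1) (z : ℂ)
    (hz : ∀ t, ¬ p ∣ t → ∑ i, μ i ^ t = z) :
    ∃ a b : ℕ, a ≤ b ∧ b ≤ Fintype.card ι ∧ ((p : ℂ) - 1) * z = (p : ℂ) * a - b := by
  classical
  refine ⟨(univ.filter (fun i => μ i = 1)).card, (univ.filter (fun i => μ i ^ p = 1)).card, ?_, ?_, ?_⟩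
  · apply Finset.card_le_card
    intro i hi
    simp only [mem_filter, mem_univ, true_and] at hi ⊢
    rw [hi, one_pow]
  · exact Finset.card_le_univ _
  · have h1 : ∑ j ∈ range (p ^ (k + 1)), ∑ i, μ i ^ j =
        (p : ℂ) ^ (k + 1) * ((univ.filter (fun i => μ i = 1)).card : ℂ) := by
      rw [Finset.sum_comm]
      rw [Finset.sum_congr rfl (fun i _ => geom_root (μ i) _ (hμ i))]
      rw [Finset.sum_ite, Finset.sum_const_zero, add_zero, Finset.sum_const, nsmul_eq_mul]
      push_cast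
      ring
    have h2 : ∑ j ∈ range (p ^ k), ∑ i, μ i ^ (p * j) =
        (p : ℂ) ^ k * ((univ.filter (fun i => μ i ^ p = 1)).card : ℂ) := by
      rw [Finset.sum_comm]
      have : ∀ i, ∑ j ∈ range (p ^ k), μ i ^ (p * j) = if μ i ^ p = 1 then ((p ^ k : ℕ) : ℂ) else 0 := by
        intro i
        rw [← geom_root (μ i ^ p) (p ^ k) (by rw [← pow_mul, ← pow_succ']; exact hμ i)]
        exact Finset.sum_congr rfl (fun j _ => by rw [pow_mul])
      rw [Finset.sum_congr rfl (fun i _ => this i)]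
      rw [Finset.sum_ite, Finset.sum_const_zero, add_zero, Finset.sum_const, nsmul_eq_mul]
      push_cast
      ring
    have h3 := sum_range_split p k hp.pos (fun t => ∑ i, μ i ^ t) z hz
    rw [h1, h2] at h3
    have hpk : ((p : ℂ) ^ k) ≠ 0 := pow_ne_zero _ (by exact_mod_cast hp.ne_zero)
    apply mul_left_cancel₀ hpk
    rw [pow_succ] at h3
    linear_combination -h3



theorem fixes_adjoin (τ : ℂ ≃+* ℂ) (ζ : ℂ) (hζ : τ ζ = ζ) (x : ℂ)
    (hx : x ∈ IntermediateField.adjoin ℚ ({ζ} : Set ℂ)) : τ x = x := by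
  induction hx using IntermediateField.adjoin_induction with
  | mem y hy =>
    rw [Set.mem_singleton_iff] at hy
    rw [hy, hζ]
  | algebraMap q =>
    rw [eq_ratCast, map_ratCast]
  | add y z _ _ hy hz => rw [map_add, hy, hz]
  | inv y _ hy => rw [map_inv₀, hy]
  | mul y z _ _ hy hz => rw [map_mul, hy, hz]

theorem ringAut_char_pow {G : Type*} [Group G] [Finite G] (τ : ℂ ≃+* ℂ) (N k : ℕ)
    (hτ : ∀ μ : ℂ, μ ^ N = 1 → τ μ = μ ^ k)
    {χ : G → ℂ} (hχ : IsCharacter G χ) (g : G) (hg : g ^ N = 1) : τ (χ g) = χ (g ^ k) := by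
  obtain ⟨n, ρ, rfl⟩ := hχ
  obtain ⟨b, μ, -, h2, -, h4⟩ :=
    Cfsg.Agent.Helper80.exists_eigen_data_rep ρ g (isOfFinOrder_of_finite g)
  have h41 := h4 1
  simp only [pow_one] at h41
  rw [h41, h4, map_sum]
  refine Finset.sum_congr rfl (fun i _ => ?_)
  apply hτ
  obtain ⟨c, hc⟩ := orderOf_dvd_of_pow_eq_one hg
  rw [hc, pow_mul, h2, one_pow]

theorem char_pow_eq (p : ℕ) (hp : p.Prime) {G : Type*} [Group G] [Finite G] {χ : G → ℂ}
    (hχ : IsCharacter G χ) (r : ℕ) (hr : 0 < r) (hpr : ¬ p ∣ r)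
    (hrat : ∀ g : G, χ g ∈ IntermediateField.adjoin ℚ
      ({Complex.exp (2 * Real.pi * Complex.I / r)} : Set ℂ))
    (g : G) (k : ℕ) (hg : g ^ (p ^ k) = 1) (t : ℕ) (ht : ¬ p ∣ t) : χ (g ^ t) = χ g := by
  have hcop : Nat.Coprime r (p ^ k) :=
    Nat.Coprime.pow_right k ((Nat.Prime.coprime_iff_not_dvd hp).mpr hpr).symm
  obtain ⟨k', hk1, hk2⟩ := Nat.chineseRemainder hcop 1 t
  have hc1 : Nat.Coprime k' r := by
    have := hk1.gcd_eq
    rw [Nat.Coprime, this]; simp
  have hc2 : Nat.Coprime k' (p ^ k) := by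
    have := hk2.gcd_eq
    rw [Nat.Coprime, this]
    exact Nat.Coprime.pow_right k ((Nat.Prime.coprime_iff_not_dvd hp).mpr ht).symm
  have hN : 0 < r * p ^ k := Nat.mul_pos hr (pow_pos hp.pos k)
  obtain ⟨τ, hτ⟩ := Helper82.exists_ringAut_complex_pow (r * p ^ k) hN k' (hc1.mul_right hc2)
  set ζ : ℂ := Complex.exp (2 * Real.pi * Complex.I / r) with hζdef
  have hζ : ζ ^ r = 1 := (Complex.isPrimitiveRoot_exp r hr.ne').pow_eq_one
  have hτζ : τ ζ = ζ := by
    rw [hτ ζ (by rw [pow_mul, hζ, one_pow]), pow_eq_pow_mod k' hζ, hk1]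
    by_cases h1 : r = 1
    · subst h1; simp at hζ ⊢; exact hζ.symm ▸ rfl
    · rw [Nat.mod_eq_of_lt (by omega), pow_one]
  have h1 : τ (χ g) = χ g := fixes_adjoin τ ζ hτζ _ (hrat g)
  have h2 : τ (χ g) = χ (g ^ k') :=
    ringAut_char_pow τ (r * p ^ k) k' hτ hχ g (by rw [mul_comm, pow_mul, hg, one_pow])
  have h3 : g ^ k' = g ^ t := by
    rw [pow_eq_pow_mod k' hg, pow_eq_pow_mod t hg, hk2]
  rw [← h3, ← h2, h1]

/-- pointwise description of the values on nontrivial `p`-elements -/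
theorem value_on_pElement (p : ℕ) (hp : p.Prime) {G : Type*} [Group G] [Finite G] {χ : G → ℂ}
    (hχ : IsCharacter G χ) (hfaith : ∀ g : G, χ g = χ 1 → g = 1)
    (r : ℕ) (hr : 0 < r) (hpr : ¬ p ∣ r)
    (hrat : ∀ g : G, χ g ∈ IntermediateField.adjoin ℚ
      ({Complex.exp (2 * Real.pi * Complex.I / r)} : Set ℂ))
    (n : ℕ) (hn : charDegree χ = n)
    (g : G) (k : ℕ) (hg : g ^ (p ^ k) = 1) (hg1 : g ≠ 1) :
    ∃ s : ℕ, 1 ≤ s ∧ s ≤ n / (p - 1) ∧ χ g = (n : ℂ) - (p : ℂ) * s := by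
  have hn1 : χ 1 = (n : ℂ) := by rw [← hn, Helper74.charDegree_cast hχ]
  -- k ≥ 1
  obtain ⟨k, rfl⟩ : ∃ k', k = k' + 1 := by
    cases k with
    | zero => exact absurd (by simpa using hg) hg1
    | succ k' => exact ⟨k', rfl⟩
  have hpow := char_pow_eq p hp hχ r hr hpr hrat g (k + 1) hg
  -- eigen data
  obtain ⟨a, b, hab, hbn, hz⟩ : ∃ a b : ℕ, a ≤ b ∧ b ≤ n ∧
      ((p : ℂ) - 1) * χ g = (p : ℂ) * a - b := by
    obtain ⟨d, ρ, rfl⟩ := hχ
    obtain ⟨bs, μ, -, h2, -, h4⟩ :=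
      Cfsg.Agent.Helper80.exists_eigen_data_rep ρ g (isOfFinOrder_of_finite g)
    have hμ : ∀ i, μ i ^ (p ^ (k + 1)) = 1 := by
      intro i
      obtain ⟨c, hc⟩ := orderOf_dvd_of_pow_eq_one hg
      rw [hc, pow_mul, h2, one_pow]
    obtain ⟨a, b, hab, hb, hz⟩ := eigen_average p k hp μ hμ (ρ.character g)
      (fun t ht => by rw [← h4, hpow t ht])
    refine ⟨a, b, hab, ?_, hz⟩
    have h40 := h4 0
    simp only [pow_zero, Finset.sum_const, Finset.card_univ, nsmul_eq_mul, mul_one] at h40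
    rw [hn1] at h40
    have : n = Fintype.card (Fin (Module.finrank ℂ (Fin d → ℂ))) := by exact_mod_cast h40
    rw [this]; exact hb
  -- integrality
  have hp1 : ((p : ℂ) - 1) ≠ 0 := by
    intro h
    have h' : (p : ℂ) = 1 := by linear_combination h
    have : (p : ℕ) = 1 := by exact_mod_cast h'
    exact hp.one_lt.ne' this
  have hq : χ g = (((p * a - b : ℤ) / (p - 1 : ℤ) : ℚ) : ℂ) := by
    push_cast
    field_simp
    linear_combination hz
  have hint : IsIntegral ℤ (χ g) := Helper80.IsCharacter.isIntegral hχ g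
  obtain ⟨w, hw⟩ : ∃ w : ℤ, χ g = (w : ℂ) := by
    rw [hq] at hint ⊢
    have h1 : IsIntegral ℤ (((p * a - b : ℤ) / (p - 1 : ℤ) : ℚ)) := by
      have := hint
      rwa [show ((((p * a - b : ℤ) / (p - 1 : ℤ) : ℚ)) : ℂ) = algebraMap ℚ ℂ (((p * a - b : ℤ) / (p - 1 : ℤ) : ℚ)) from rfl,
        isIntegral_algebraMap_iff (algebraMap ℚ ℂ).injective] at this
    obtain ⟨w, hw⟩ := IsIntegrallyClosed.isIntegral_iff.mp h1
    refine ⟨w, ?_⟩
    rw [← hw]; simp
  -- the relation in ℤ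
  have hrel : ((p : ℤ) - 1) * w = p * a - b := by
    have : (((p : ℤ) - 1) * w : ℂ) = ((p * a - b : ℤ) : ℂ) := by
      push_cast; rw [← hw]; exact hz
    exact_mod_cast this
  -- congruence
  have hcong : (p : ℤ) ∣ (n : ℤ) - w := by
    obtain ⟨M, hM⟩ := Helper74.exists_isPModular p hp
    obtain ⟨d, ρ, rfl⟩ := hχ
    have h := Helper78.character_mul_sub_memLocalIdeal hM ρ g 1 (Commute.one_right g) hg
      (by rw [orderOf_one]; exact hp.one_lt.ne' ∘ Nat.dvd_one.mp)
    rw [mul_one, hn1, hw] at h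
    have h' : MemLocalIdeal M (((w - n : ℤ)) : ℂ) := by push_cast; exact h
    rw [Helper78.memLocalIdeal_intCast_iff hM] at h'
    have : (n : ℤ) - w = -(w - n) := by ring
    rw [this]; exact (dvd_neg).mpr h'
  have hp1' : (1 : ℤ) ≤ (p : ℤ) - 1 := by have := hp.two_le; omega
  have hwn : w ≤ n := by
    have h1 : ((p : ℤ) - 1) * w ≤ ((p : ℤ) - 1) * n := by
      rw [hrel]
      have : (p : ℤ) * a - b ≤ (p : ℤ) * b - b := by
        have : (p : ℤ) * a ≤ p * b := by
          apply mul_le_mul_of_nonneg_left (by exact_mod_cast hab) (by positivity)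
        linarith
      have h2 : (p : ℤ) * b - b = ((p : ℤ) - 1) * b := by ring
      rw [h2] at this
      refine this.trans ?_
      apply mul_le_mul_of_nonneg_left (by exact_mod_cast hbn) (by linarith)
    exact le_of_mul_le_mul_left h1 (by linarith)
  have hwne : w ≠ n := by
    intro h
    apply hg1
    apply hfaith
    rw [hn1, hw, h]; simp
  obtain ⟨s, hs⟩ := hcong
  have hspos : 0 < s := by
    have : 0 < (n : ℤ) - w := by
      rcases lt_or_eq_of_le hwn with h | h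
      · linarith
      · exact absurd h hwne
    rw [hs] at this
    by_contra h
    push Not at h
    have : (p : ℤ) * s ≤ 0 := mul_nonpos_of_nonneg_of_nonpos (by positivity) h
    linarith
  have hsb : ((p : ℤ) - 1) * s ≤ n := by
    have h1 : (p : ℤ) * (((p : ℤ) - 1) * s) ≤ p * n := by
      have e : (p : ℤ) * (((p : ℤ) - 1) * s) = ((p : ℤ) - 1) * ((n : ℤ) - w) := by rw [hs]; ring
      rw [e, mul_sub, hrel]
      have : (0 : ℤ) ≤ (p : ℤ) * a := by positivity
      have hbn' : (b : ℤ) ≤ n := by exact_mod_cast hbn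
      nlinarith
    exact le_of_mul_le_mul_left h1 (by exact_mod_cast hp.pos)
  refine ⟨s.toNat, ?_, ?_, ?_⟩
  · omega
  · rw [Nat.le_div_iff_mul_le (by have := hp.two_le; omega)]
    have h1 : ((s.toNat : ℤ)) = s := Int.toNat_of_nonneg hspos.le
    have h2 : ((p - 1 : ℕ) : ℤ) = (p : ℤ) - 1 := by
      rw [Nat.cast_sub hp.one_lt.le]; simp
    have : ((s.toNat * (p - 1) : ℕ) : ℤ) ≤ (n : ℤ) := by
      push_cast
      rw [h1, h2, mul_comm]; exact hsb
    exact_mod_cast this
  · have h1 : ((s.toNat : ℤ)) = s := Int.toNat_of_nonneg hspos.le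
    have h2 : w = (n : ℤ) - p * s := by linarith
    rw [hw, h2]
    have : ((s.toNat : ℕ) : ℂ) = ((s : ℤ) : ℂ) := by
      rw [← Int.cast_natCast, h1]
    rw [this]; push_cast; ring

theorem isGenChar_mul {G : Type*} [Group G] {α β : G → ℂ} (hα : IsGeneralizedCharacter G α)
    (hβ : IsGeneralizedCharacter G β) : IsGeneralizedCharacter G (α * β) := by
  obtain ⟨χ, ψ, hχ, hψ, rfl⟩ := hα
  obtain ⟨χ', ψ', hχ', hψ', rfl⟩ := hβ
  exact ⟨χ * χ' + ψ * ψ', χ * ψ' + ψ * χ',
    Helper74.isCharacter_add (Helper74.isCharacter_mul hχ hχ') (Helper74.isCharacter_mul hψ hψ'),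
    Helper74.isCharacter_add (Helper74.isCharacter_mul hχ hψ') (Helper74.isCharacter_mul hψ hχ'),
    by ring⟩

theorem arith (p n : ℕ) (hp : p.Prime) :
    (p ^ (n / (p - 1)) * (n / (p - 1)).factorial).factorization p =
      ∑ i ∈ Finset.range (n + 1), n / ((p - 1) * p ^ i) := by
  set m := n / (p - 1) with hm
  have h1 : ∀ i, n / ((p - 1) * p ^ i) = m / p ^ i := fun i => by
    rw [hm, Nat.div_div_eq_div_mul]
  rw [Finset.sum_congr rfl (fun i _ => h1 i)]
  rw [Nat.factorization_mul (pow_ne_zero _ hp.ne_zero) (Nat.factorial_ne_zero _)]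
  rw [Finsupp.add_apply, Nat.Prime.factorization_pow hp, Finsupp.single_eq_same]
  have hlog : Nat.log p m < n + 1 := by
    have h1 : Nat.log p m ≤ m := Nat.log_le_self p m
    have h2 : m ≤ n := Nat.div_le_self n (p - 1)
    omega
  rw [Nat.factorization_factorial hp hlog]
  rw [Finset.range_eq_Ico, Finset.sum_eq_sum_Ico_succ_bot (by omega : 0 < n + 1)]
  simp

theorem main {G : Type*} [Group G] [Finite G] (p : ℕ) (hp : p.Prime) (χ : G → ℂ) (hχ : Cfsg.IsCharacter G χ) (hfaith : ∀ g : G, χ g = χ 1 → g = 1) (hrat : (∃ r : ℕ, 0 < r ∧ ¬ p ∣ r ∧ ∀ g : G, χ g ∈ IntermediateField.adjoin ℚ ({Complex.exp (2 * Real.pi * Complex.I / r)} : Set ℂ))) (n : ℕ) (hn : Cfsg.charDegree χ = n) : (Nat.card G).factorization p ≤ ∑ i ∈ Finset.range (n + 1), n / ((p - 1) * p ^ i) := by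
  classical
  obtain ⟨r, hr, hpr, hrat⟩ := hrat
  haveI : Fintype G := Fintype.ofFinite G
  haveI : Fact p.Prime := ⟨hp⟩
  set a := (Nat.card G).factorization p with ha
  obtain ⟨P, hcardP⟩ : ∃ Q : Subgroup G, Nat.card Q = p ^ a := by
    obtain ⟨P⟩ : Nonempty (Sylow p G) := inferInstance
    exact ⟨(P : Subgroup G), Sylow.card_eq_multiplicity P⟩
  set m := n / (p - 1) with hm
  have hn1 : χ 1 = (n : ℂ) := by rw [← hn, Helper74.charDegree_cast hχ]
  -- the product function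
  let F : ℕ → (P → ℂ) := fun s x => χ (x : G) - ((n : ℂ) - (p : ℂ) * s)
  let θ : P → ℂ := ∏ s ∈ Finset.Ico 1 (m + 1), F s
  have hχP : IsCharacter P (fun x : P => χ (x : G)) := Helper74.isCharacter_restrict P hχ
  have hF : ∀ s, IsGeneralizedCharacter P (F s) := by
    intro s
    have h1 : IsGeneralizedCharacter P (fun _ : P => (1 : ℂ)) :=
      Helper25.isGenChar_of_isCharacter Helper74.isCharacter_one
    have h2 := Helper25.isGenChar_sub (Helper25.isGenChar_of_isCharacter hχP)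
      (Helper25.isGenChar_zsmul ((n : ℤ) - p * s) h1)
    convert h2 using 1
    funext x
    simp [F]
  have hθ : IsGeneralizedCharacter P θ := by
    apply Finset.prod_induction F (IsGeneralizedCharacter P)
    · intro α β hα hβ; exact isGenChar_mul hα hβ
    · exact Helper25.isGenChar_of_isCharacter Helper74.isCharacter_one
    · intro s _; exact hF s
  -- vanishing
  have hvan : ∀ x : P, x ≠ 1 → θ x = 0 := by
    intro x hx
    have hxg : (x : G) ≠ 1 := fun h => hx (Subtype.ext h)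
    have hxp : (x : G) ^ (p ^ a) = 1 := by
      have := pow_card_eq_one' (G := P) (x := x)
      rw [hcardP] at this
      have h2 := congrArg (Subtype.val) this
      simpa using h2
    obtain ⟨s, hs1, hs2, hs3⟩ := value_on_pElement p hp hχ hfaith r hr hpr hrat n hn (x : G) a hxp hxg
    show (∏ s ∈ Finset.Ico 1 (m + 1), F s) x = 0
    rw [Finset.prod_apply]
    apply Finset.prod_eq_zero (Finset.mem_Ico.mpr ⟨hs1, Nat.lt_succ_of_le hs2⟩)
    show χ (x : G) - ((n : ℂ) - (p : ℂ) * s) = 0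
    rw [hs3, sub_self]
  have hone : θ 1 = ((p ^ m * m.factorial : ℕ) : ℂ) := by
    show (∏ s ∈ Finset.Ico 1 (m + 1), F s) 1 = _
    rw [Finset.prod_apply]
    have : ∀ s ∈ Finset.Ico 1 (m + 1), F s 1 = (p : ℂ) * s := by
      intro s _
      show χ ((1 : P) : G) - ((n : ℂ) - (p : ℂ) * s) = _
      rw [OneMemClass.coe_one, hn1]; ring
    rw [Finset.prod_congr rfl this, Finset.prod_mul_distrib, Finset.prod_const, Nat.card_Ico]
    rw [← Finset.prod_Ico_id_eq_factorial]
    push_cast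
    simp
  -- the integrality
  obtain ⟨c, hc⟩ := Helper25.isGenChar_inner_int hθ
    (Helper25.isGenChar_of_isCharacter (Helper74.isCharacter_one (G := P)))
  rw [Helper74.classInner_def] at hc
  simp only [map_one, mul_one] at hc
  rw [Finset.sum_eq_single (1 : P) (fun x _ hx => hvan x hx) (fun h => absurd (Finset.mem_univ _) h),
    hone, hcardP] at hc
  have hdvd : p ^ a ∣ p ^ m * m.factorial := by
    have hpa : ((p ^ a : ℕ) : ℂ) ≠ 0 := by exact_mod_cast (pow_pos hp.pos a).ne'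
    have h1 : ((p ^ m * m.factorial : ℕ) : ℂ) = ((p ^ a : ℕ) : ℂ) * (c : ℂ) := by
      rw [← hc]; field_simp
    have h2 : ((p ^ m * m.factorial : ℕ) : ℤ) = ((p ^ a : ℕ) : ℤ) * c := by exact_mod_cast h1
    have h3 : ((p ^ a : ℕ) : ℤ) ∣ ((p ^ m * m.factorial : ℕ) : ℤ) := ⟨c, h2⟩
    exact Int.natCast_dvd_natCast.mp h3
  have hne : p ^ m * m.factorial ≠ 0 := Nat.mul_ne_zero (pow_ne_zero _ hp.ne_zero) (Nat.factorial_ne_zero _)
  have := (Nat.Prime.pow_dvd_iff_le_factorization hp hne).mp hdvd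
  rw [arith p n hp] at this
  exact this

/-- Let the finite group G have a faithful p-rational character χ of degree n (all values of χ lie in the field generated over ℚ by a root of unity of order prime to p), and let p^a be the order of a Sylow p-subgroup of G. Then a ≤ Σ_{i ≥ 0} ⌊n / ((p − 1)·p^i)⌋ (a finite sum; the terms vanish once (p − 1)p^i > n). -/
theorem result {G : Type*} [Group G] [Finite G] (p : ℕ) (hp : p.Prime) (χ : G → ℂ) (hχ : Cfsg.IsCharacter G χ) (hfaith : ∀ g : G, χ g = χ 1 → g = 1) (hrat : (∃ r : ℕ, 0 < r ∧ ¬ p ∣ r ∧ ∀ g : G, χ g ∈ IntermediateField.adjoin ℚ ({Complex.exp (2 * Real.pi * Complex.I / r)} : Set ℂ))) (n : ℕ) (hn : Cfsg.charDegree χ = n) : (Nat.card G).factorization p ≤ ∑ i ∈ Finset.range (n + 1), n / ((p - 1) * p ^ i) := by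
  exact main p hp χ hχ hfaith hrat n hn

end Cfsg.Agent.S4488
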