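import Cfsg.Statements.S5545

set_option autoImplicit false
open Cfsg

namespace Cfsg.Agent.S5545

open Cfsg.Axial

section transport
variable {V : Type*} [AddCommGroup V] [Module ℝ V]

/-- eigenspaces are transported by an algebra automorphism -/
theorem eigen_map (mul : V →ₗ[ℝ] V →ₗ[ℝ] V) (g : V ≃ₗ[ℝ] V)
    (hg : ∀ u v : V, g (mul u v) = mul (g u) (g v)) (a : V) (c : ℝ) :
    eigen mul (g a) c = (eigen mul a c).map (g : V →ₗ[ℝ] V) := by
  ext v
  simp only [eigen, Module.End.mem_eigenspace_iff, Submodule.mem_map]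
  constructor
  · intro h
    refine ⟨g.symm v, ?_, by simp⟩
    apply g.injective
    rw [hg, map_smul]
    simp only [LinearEquiv.apply_symm_apply]
    exact h
  · rintro ⟨v', hv', rfl⟩
    have : mul (g a) (g v') = g (mul a v') := (hg a v').symm
    simp only [LinearEquiv.coe_coe]
    rw [this, hv', map_smul]

theorem eigenSum_map (mul : V →ₗ[ℝ] V →ₗ[ℝ] V) (g : V ≃ₗ[ℝ] V)
    (hg : ∀ u v : V, g (mul u v) = mul (g u) (g v)) (a : V) (S : Set ℝ) :
    eigenSum mul (g a) S = (eigenSum mul a S).map (g : V →ₗ[ℝ] V) := by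
  unfold eigenSum
  simp only [Submodule.map_iSup, eigen_map mul g hg]

/-- Transport of a Majorana pair by a commuting automorphism. -/
theorem majorana_transport (mul : V →ₗ[ℝ] V →ₗ[ℝ] V) (B : LinearMap.BilinForm ℝ V)
    (μ g : V ≃ₗ[ℝ] V) (a : V) (h : IsMajoranaPair mul B μ a)
    (hg : ∀ u v : V, g (mul u v) = mul (g u) (g v)) (hc : μ * g = g * μ) :
    IsMajoranaPair mul B μ (g a) := by
  obtain ⟨hμm, hμB, ⟨⟨ha0, haa, htop, hfus⟩, hprim⟩, hM1, hM2⟩ := h
  have hcomm : ∀ v, μ (g v) = g (μ v) := by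
    intro v
    have := congrArg (fun f : V ≃ₗ[ℝ] V => f v) hc
    simpa using this
  refine ⟨hμm, hμB, ⟨⟨?_, ?_, ?_, ?_⟩, ?_⟩, ?_, ?_⟩
  · intro h0
    apply ha0
    apply g.injective
    rw [h0, map_zero]
  · rw [← hg, haa]
  · rw [eigenSum_map mul g hg, htop, Submodule.map_top]
    exact LinearMap.range_eq_top.2 g.surjective
  · intro c hcS d hdS u hu v hv
    rw [eigen_map mul g hg] at hu hv
    obtain ⟨u', hu', rfl⟩ := Submodule.mem_map.1 hu
    obtain ⟨v', hv', rfl⟩ := Submodule.mem_map.1 hv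
    rw [eigenSum_map mul g hg]
    refine Submodule.mem_map.2 ⟨mul u' v', hfus c hcS d hdS u' hu' v' hv', ?_⟩
    simp only [LinearEquiv.coe_coe]
    exact hg u' v'
  · rw [eigen_map mul g hg, hprim, Submodule.map_span, Set.image_singleton]
    rfl
  · intro v hv
    rw [eigenSum_map mul g hg] at hv
    obtain ⟨v', hv', rfl⟩ := Submodule.mem_map.1 hv
    have := hM1 v' hv'
    simp only [LinearEquiv.coe_coe] at this ⊢
    rw [hcomm, this]
  · intro v hv
    rw [eigen_map mul g hg] at hv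
    obtain ⟨v', hv', rfl⟩ := Submodule.mem_map.1 hv
    have := hM2 v' hv'
    simp only [LinearEquiv.coe_coe] at this ⊢
    rw [hcomm, this, map_neg]

end transport

section algebra
variable {V : Type*} [AddCommGroup V] [Module ℝ V]

/-- A vector that is a `1/4`-eigenvector and lies in the sum of the `1`- and `0`-eigenspaces is zero. -/
theorem eq_zero_of_mem (f : V →ₗ[ℝ] V) (w : V)
    (h4 : f w = (1 / 4 : ℝ) • w)
    (h10 : w ∈ Module.End.eigenspace f 1 ⊔ Module.End.eigenspace f 0) : w = 0 := by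
  obtain ⟨w1, hw1, w0, hw0, rfl⟩ := Submodule.mem_sup.1 h10
  rw [Module.End.mem_eigenspace_iff] at hw1 hw0
  rw [one_smul] at hw1
  rw [zero_smul] at hw0
  rw [map_add, hw1, hw0, add_zero] at h4
  have h5 : (3 : ℝ) • w1 = w0 := by
    linear_combination (norm := module) (4 : ℝ) • h4
  have h7 : f ((3 : ℝ) • w1) = f w0 := by rw [h5]
  rw [map_smul, hw1, hw0] at h7
  have hw1z : w1 = 0 := by
    have : (3 : ℝ) ≠ 0 := by norm_num
    exact (smul_eq_zero.1 h7).resolve_left this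
  rw [hw1z, smul_zero] at h5
  rw [hw1z, ← h5, add_zero]

/-- decomposition of a vector fixed by the Majorana involution -/
theorem decomp (mul : V →ₗ[ℝ] V →ₗ[ℝ] V) (B : LinearMap.BilinForm ℝ V)
    (μ : V ≃ₗ[ℝ] V) (a b : V) (h : IsMajoranaPair mul B μ a) (hb : μ b = b) :
    ∃ (l : ℝ) (u w : V), b = l • a + u + w ∧ mul a u = 0 ∧ mul a w = (1 / 4 : ℝ) • w := by
  obtain ⟨-, -, ⟨⟨-, -, htop, -⟩, hprim⟩, hM1, hM2⟩ := h
  have hS : eigenSum mul a majoranaSpectrum =
      eigen mul a 1 ⊔ (eigen mul a 0 ⊔ (eigen mul a (1 / 4) ⊔ eigen mul a (1 / 32))) := by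
    unfold eigenSum majoranaSpectrum
    rw [iSup_insert, iSup_insert, iSup_insert, iSup_singleton]
  have hSp : eigenSum mul a {1, 0, 1 / 4} =
      eigen mul a 1 ⊔ (eigen mul a 0 ⊔ eigen mul a (1 / 4)) := by
    unfold eigenSum
    rw [iSup_insert, iSup_insert, iSup_singleton]
  have hbtop : b ∈ eigenSum mul a majoranaSpectrum := by rw [htop]; exact Submodule.mem_top
  rw [hS] at hbtop
  obtain ⟨v1, hv1, r1, hr1, hb1⟩ := Submodule.mem_sup.1 hbtop
  obtain ⟨v0, hv0, r2, hr2, hb2⟩ := Submodule.mem_sup.1 hr1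
  obtain ⟨v4, hv4, v32, hv32, hb3⟩ := Submodule.mem_sup.1 hr2
  have f1 : μ v1 = v1 := hM1 v1 (by rw [hSp]; exact Submodule.mem_sup_left hv1)
  have f0 : μ v0 = v0 := hM1 v0 (by
    rw [hSp]; exact Submodule.mem_sup_right (Submodule.mem_sup_left hv0))
  have f4 : μ v4 = v4 := hM1 v4 (by
    rw [hSp]; exact Submodule.mem_sup_right (Submodule.mem_sup_right hv4))
  have f32 : μ v32 = -v32 := hM2 v32 hv32
  have hbeq : b = v1 + (v0 + (v4 + v32)) := by rw [hb3, hb2, hb1]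
  have hμb : μ b = v1 + (v0 + (v4 - v32)) := by
    rw [hbeq, map_add, map_add, map_add, f1, f0, f4, f32, sub_eq_add_neg]
  rw [hb, hbeq] at hμb
  have h32 : (2 : ℝ) • v32 = 0 := by
    linear_combination (norm := module) hμb
  have h32' : v32 = 0 := (smul_eq_zero.1 h32).resolve_left (by norm_num)
  rw [hprim] at hv1
  obtain ⟨l, hl⟩ := Submodule.mem_span_singleton.1 hv1
  refine ⟨l, v0, v4, ?_, ?_, ?_⟩
  · rw [hbeq, h32', hl, add_zero, add_assoc]
  · have := hv0
    rw [eigen, Module.End.mem_eigenspace_iff, zero_smul] at this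
    exact this
  · have := hv4
    rw [eigen, Module.End.mem_eigenspace_iff] at this
    exact this

theorem one_side (mul : V →ₗ[ℝ] V →ₗ[ℝ] V) (B : LinearMap.BilinForm ℝ V)
    (hcomm : IsCommMul mul)
    (hBassoc : ∀ u v w : V, B u (mul v w) = B (mul u v) w)
    (a b u w : V) (l : ℝ)
    (haa : mul a a = a) (hBa : B a a = 1) (hbb : mul b b = b)
    (hdec : b = l • a + u + w) (hu : mul a u = 0) (hw : mul a w = (1 / 4 : ℝ) • w)
    (huw : mul a (mul u w) = (1 / 4 : ℝ) • mul u w)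
    (huu : mul a (mul u u) = 0)
    (hww : mul w w ∈ Module.End.eigenspace (mul a) 1 ⊔ Module.End.eigenspace (mul a) 0) :
    l = B a b ∧ mul a b = l • a + (1 / 4 : ℝ) • w ∧ mul u w = ((2 - l) / 4) • w ∧
      B w w = 4 * l * (1 - l) := by
  have hx : mul a b = l • a + (1 / 4 : ℝ) • w := by
    rw [hdec, map_add, map_add, map_smul, haa, hu, hw, add_zero]
  have hBau : B a u = 0 := by
    have h1 : B a u = B (mul a a) u := by rw [haa]
    rw [h1, ← hBassoc, hu, map_zero]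
  have hBaw : B a w = 0 := by
    have h1 : B a w = B (mul a a) w := by rw [haa]
    rw [← hBassoc, hw, map_smul, smul_eq_mul] at h1
    linarith
  have hl : l = B a b := by
    rw [hdec, map_add, map_add, map_smul, hBa, hBau, hBaw, smul_eq_mul]
    ring
  have hua : mul u a = 0 := by rw [hcomm u a]; exact hu
  have hwa : mul w a = (1 / 4 : ℝ) • w := by rw [hcomm w a]; exact hw
  have hwu : mul w u = mul u w := hcomm w u
  have hexp : b = (l * l) • a + (mul u u + mul w w) + (l / 2) • w + (2 : ℝ) • mul u w := by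
    have h1 : mul b b = (l * l) • a + (mul u u + mul w w) + (l / 2) • w + (2 : ℝ) • mul u w := by
      rw [hdec]
      simp only [map_add, map_smul, LinearMap.add_apply, LinearMap.smul_apply, haa, hu, hua, hw,
        hwa, hwu]
      module
    rw [← h1, hbb]
  -- z is both a 1/4-eigenvector and in E1 ⊔ E0
  have hz1 : mul a ((1 - l / 2) • w - (2 : ℝ) • mul u w) =
      (1 / 4 : ℝ) • ((1 - l / 2) • w - (2 : ℝ) • mul u w) := by
    rw [map_sub, map_smul, map_smul, hw, huw]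
    module
  have hz2 : (1 - l / 2) • w - (2 : ℝ) • mul u w =
      (l * l - l) • a + (mul u u - u) + mul w w := by
    have h2 := hexp
    rw [hdec] at h2
    linear_combination (norm := module) h2
  have ha1 : a ∈ Module.End.eigenspace (mul a) 1 := by
    rw [Module.End.mem_eigenspace_iff, one_smul]; exact haa
  have hu0 : u ∈ Module.End.eigenspace (mul a) 0 := by
    rw [Module.End.mem_eigenspace_iff, zero_smul]; exact hu
  have huu0 : mul u u ∈ Module.End.eigenspace (mul a) 0 := by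
    rw [Module.End.mem_eigenspace_iff, zero_smul]; exact huu
  have hz3 : (1 - l / 2) • w - (2 : ℝ) • mul u w ∈
      Module.End.eigenspace (mul a) 1 ⊔ Module.End.eigenspace (mul a) 0 := by
    rw [hz2]
    refine Submodule.add_mem _ (Submodule.add_mem _ ?_ ?_) hww
    · exact Submodule.mem_sup_left (Submodule.smul_mem _ _ ha1)
    · exact Submodule.mem_sup_right (Submodule.sub_mem _ huu0 hu0)
  have hz := eq_zero_of_mem (mul a) _ hz1 hz3
  have huw' : mul u w = ((2 - l) / 4) • w := by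
    linear_combination (norm := module) (-1 / 2 : ℝ) • hz
  refine ⟨hl, hx, huw', ?_⟩
  rw [hz] at hz2
  have h3 := congrArg (fun v => B a v) hz2
  simp only [map_zero, map_add, map_sub, map_smul, smul_eq_mul, hBa, hBau] at h3
  have h4 : B a (mul u u) = 0 := by rw [hBassoc, hu]; simp
  have h5 : B a (mul w w) = (1 / 4) * B w w := by
    rw [hBassoc, hw]; simp
  rw [h4, h5] at h3
  linarith

/-- fusion facts extracted from a Majorana pair -/
theorem fusion_facts (mul : V →ₗ[ℝ] V →ₗ[ℝ] V) (B : LinearMap.BilinForm ℝ V)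
    (μ : V ≃ₗ[ℝ] V) (a : V) (h : IsMajoranaPair mul B μ a) (u w : V)
    (hu : mul a u = 0) (hw : mul a w = (1 / 4 : ℝ) • w) :
    mul a (mul u w) = (1 / 4 : ℝ) • mul u w ∧ mul a (mul u u) = 0 ∧
      mul w w ∈ Module.End.eigenspace (mul a) 1 ⊔ Module.End.eigenspace (mul a) 0 := by
  have hfus := h.2.2.1.1.2.2.2
  have hu0 : u ∈ eigen mul a 0 := by
    rw [eigen, Module.End.mem_eigenspace_iff, zero_smul]; exact hu
  have hw4 : w ∈ eigen mul a (1 / 4) := by
    rw [eigen, Module.End.mem_eigenspace_iff]; exact hw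
  have hS4 : (1 / 4 : ℝ) ∈ majoranaSpectrum := by
    unfold majoranaSpectrum; simp
  have hS0 : (0 : ℝ) ∈ majoranaSpectrum := by
    unfold majoranaSpectrum; simp
  have hlaw1 : monsterLaw (1 / 4 : ℝ) (1 / 32) 0 (1 / 4) = {1 / 4} := by
    unfold monsterLaw
    norm_num
  have hlaw2 : monsterLaw (1 / 4 : ℝ) (1 / 32) 0 0 = {0} := by
    unfold monsterLaw
    norm_num
  have hlaw3 : monsterLaw (1 / 4 : ℝ) (1 / 32) (1 / 4) (1 / 4) = {1, 0} := by
    unfold monsterLaw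
    norm_num
  have m1 := hfus 0 hS0 (1 / 4) hS4 u hu0 w hw4
  have m2 := hfus 0 hS0 0 hS0 u hu0 u hu0
  have m3 := hfus (1 / 4) hS4 (1 / 4) hS4 w hw4 w hw4
  rw [hlaw1] at m1
  rw [hlaw2] at m2
  rw [hlaw3] at m3
  unfold eigenSum at m1 m2 m3
  rw [iSup_singleton] at m1 m2
  rw [iSup_insert, iSup_singleton] at m3
  refine ⟨?_, ?_, m3⟩
  · rw [eigen, Module.End.mem_eigenspace_iff] at m1; exact m1
  · rw [eigen, Module.End.mem_eigenspace_iff, zero_smul] at m2; exact m2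

end algebra

theorem result {V : Type*} [AddCommGroup V] [Module ℝ V] [FiniteDimensional ℝ V] (mul : V →ₗ[ℝ] V →ₗ[ℝ] V) (B : LinearMap.BilinForm ℝ V) (hV : Cfsg.Axial.IsMajoranaAmbient mul B) (μ₀ μ₁ : V ≃ₗ[ℝ] V) (a₀ a₁ : V) (h₀ : Cfsg.Axial.IsMajoranaPair mul B μ₀ a₀) (h₁ : Cfsg.Axial.IsMajoranaPair mul B μ₁ a₁) (hu₀ : ∀ a : V, Cfsg.Axial.IsMajoranaPair mul B μ₀ a → a = a₀) (hu₁ : ∀ a : V, Cfsg.Axial.IsMajoranaPair mul B μ₁ a → a = a₁) (hn₀ : B a₀ a₀ = 1) (hn₁ : B a₁ a₁ = 1) (hc : μ₀ * μ₁ = μ₁ * μ₀) (hne : a₀ ≠ a₁) : (B a₀ a₁ = 0 ∧ mul a₀ a₁ = 0) ∨ (B a₀ a₁ = 1 / 8 ∧ mul (a₀ + a₁ - (8 : ℝ) • mul a₀ a₁) (a₀ + a₁ - (8 : ℝ) • mul a₀ a₁) = a₀ + a₁ - (8 : ℝ) • mul a₀ a₁ ∧ mul a₀ (a₀ + a₁ - (8 : ℝ) • mul a₀ a₁) = (1 / 8 : ℝ) • (a₀ + (a₀ + a₁ - (8 : ℝ) • mul a₀ a₁) - a₁) ∧ mul a₁ (a₀ + a₁ - (8 : ℝ) • mul a₀ a₁) = (1 / 8 : ℝ) • (a₁ + (a₀ + a₁ - (8 : ℝ) • mul a₀ a₁) - a₀)) := by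
  obtain ⟨hcomm, hBs, hBpos, hBassoc, -⟩ := hV
  -- each axis is fixed by the other involution
  have hfix0 : μ₁ a₀ = a₀ := hu₀ _ (majorana_transport mul B μ₀ μ₁ a₀ h₀ h₁.1 hc)
  have hfix1 : μ₀ a₁ = a₁ := hu₁ _ (majorana_transport mul B μ₁ μ₀ a₁ h₁ h₀.1 hc.symm)
  have haa0 : mul a₀ a₀ = a₀ := h₀.2.2.1.1.2.1
  have haa1 : mul a₁ a₁ = a₁ := h₁.2.2.1.1.2.1
  -- decompositions
  obtain ⟨l1, u1, w1, hdec1, hu1, hw1⟩ := decomp mul B μ₁ a₁ a₀ h₁ hfix0
  obtain ⟨l0, u0, w0, hdec0, hu0', hw0⟩ := decomp mul B μ₀ a₀ a₁ h₀ hfix1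
  obtain ⟨f1a, f1b, f1c⟩ := fusion_facts mul B μ₁ a₁ h₁ u1 w1 hu1 hw1
  obtain ⟨f0a, f0b, f0c⟩ := fusion_facts mul B μ₀ a₀ h₀ u0 w0 hu0' hw0
  obtain ⟨hl1, hx1, huw1, hBw1⟩ := one_side mul B hcomm hBassoc a₁ a₀ u1 w1 l1 haa1 hn₁ haa0
    hdec1 hu1 hw1 f1a f1b f1c
  obtain ⟨hl0, hx0, huw0, hBw0⟩ := one_side mul B hcomm hBassoc a₀ a₁ u0 w0 l0 haa0 hn₀ haa1
    hdec0 hu0' hw0 f0a f0b f0c
  set x := mul a₀ a₁ with hx
  have hx' : mul a₁ a₀ = x := hcomm a₁ a₀
  rw [hx'] at hx1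
  have hl : l1 = l0 := by rw [hl1, hl0, hBs]
  subst hl
  -- express w's and u's
  have ew1 : w1 = (4 : ℝ) • x - (4 * l1) • a₁ := by
    linear_combination (norm := module) (-4 : ℝ) • hx1
  have ew0 : w0 = (4 : ℝ) • x - (4 * l1) • a₀ := by
    linear_combination (norm := module) (-4 : ℝ) • hx0
  have eu1 : u1 = a₀ + (3 * l1) • a₁ - (4 : ℝ) • x := by
    rw [ew1] at hdec1
    linear_combination (norm := module) (-1 : ℝ) • hdec1
  have eu0 : u0 = a₁ + (3 * l1) • a₀ - (4 : ℝ) • x := by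
    rw [ew0] at hdec0
    linear_combination (norm := module) (-1 : ℝ) • hdec0
  -- products with x
  have m1x : mul a₁ x = (1 / 4 : ℝ) • (x + (3 * l1) • a₁) := by
    have := hw1
    rw [ew1, map_sub, map_smul, map_smul, haa1] at this
    linear_combination (norm := module) (1 / 4 : ℝ) • this
  have m0x : mul a₀ x = (1 / 4 : ℝ) • (x + (3 * l1) • a₀) := by
    have := hw0
    rw [ew0, map_sub, map_smul, map_smul, haa0] at this
    linear_combination (norm := module) (1 / 4 : ℝ) • this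
  have mx1 : mul x a₁ = (1 / 4 : ℝ) • (x + (3 * l1) • a₁) := by rw [hcomm x a₁]; exact m1x
  have mx0 : mul x a₀ = (1 / 4 : ℝ) • (x + (3 * l1) • a₀) := by rw [hcomm x a₀]; exact m0x
  -- the two expressions for x*x
  have E1 : (16 : ℝ) • mul x x = (4 * l1 - 1) • x + (3 * l1) • a₀ + (8 * l1 * l1 + 2 * l1) • a₁ := by
    have := huw1
    rw [eu1, ew1] at this
    simp only [map_add, map_sub, map_smul, LinearMap.add_apply, LinearMap.sub_apply,
      LinearMap.smul_apply, haa1, ← hx, m0x, m1x, mx1] at this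
    linear_combination (norm := module) (-1 : ℝ) • this
  have E0 : (16 : ℝ) • mul x x = (4 * l1 - 1) • x + (3 * l1) • a₁ + (8 * l1 * l1 + 2 * l1) • a₀ := by
    have := huw0
    rw [eu0, ew0] at this
    simp only [map_add, map_sub, map_smul, LinearMap.add_apply, LinearMap.sub_apply,
      LinearMap.smul_apply, haa0, hx', m0x, m1x, mx0] at this
    linear_combination (norm := module) (-1 : ℝ) • this
  have hkey : (l1 * (1 - 8 * l1)) • (a₀ - a₁) = 0 := by
    linear_combination (norm := module) E0 - E1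
  have hl18 : l1 * (1 - 8 * l1) = 0 :=
    (smul_eq_zero.1 hkey).resolve_right (sub_ne_zero.2 hne)
  rcases mul_eq_zero.1 hl18 with hz | hz
  · left
    refine ⟨by rw [← hl0, hz], ?_⟩
    rw [hz] at hBw0
    have hw00 : w0 = 0 := by
      by_contra hne0
      have := hBpos w0 hne0
      rw [hBw0] at this
      norm_num at this
    rw [hx0, hz, hw00, zero_smul, smul_zero, add_zero]
  · right
    have hl8 : l1 = 1 / 8 := by linarith
    rw [hl8] at E1 m0x m1x mx0 mx1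
    refine ⟨by rw [← hl0, hl8], ?_, ?_, ?_⟩
    · simp only [map_add, map_sub, map_smul, LinearMap.add_apply, LinearMap.sub_apply,
        LinearMap.smul_apply, haa0, haa1, ← hx, hx', m0x, m1x, mx0, mx1]
      linear_combination (norm := module) (4 : ℝ) • E1
    · simp only [map_add, map_sub, map_smul, haa0, ← hx, m0x]
      module
    · simp only [map_add, map_sub, map_smul, haa1, hx', m1x]
      module

end Cfsg.Agent.S5545
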