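import Cfsg.Statements.S0390
import Cfsg.Agent.Helper7.Basic

set_option autoImplicit false
open Cfsg

namespace Cfsg.Agent.S0390

open Cfsg.Agent.Helper7

theorem mem_cls (x : GolayPt → ℤ) (k : ℤ) (i : GolayPt) :
    i ∈ (Finset.univ.filter fun i => x i ≡ k [ZMOD 4]) ↔ x i % 4 = k % 4 := by
  rw [Finset.mem_filter]
  simp [Int.ModEq]

theorem empty_mem_supports : (∅ : Finset GolayPt) ∈ supports (golayCode : Set V) :=
  ⟨0, golayCode.zero_mem, by ext p; simp [mem_support₂]⟩

theorem univ_mem_supports : (Finset.univ : Finset GolayPt) ∈ supports (golayCode : Set V) :=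
  ⟨1, one_mem_golayCode, by ext p; simp [mem_support₂]⟩

theorem zmod2_aux : ∀ u v : ZMod 2, (1 + u + v ≠ 0) ↔ (u ≠ 0 ↔ v ≠ 0) := by decide

theorem zero_mem : (0 : GolayPt → ℤ) ∈ leechSet := by
  refine ⟨0, fun i => by simp [Int.ModEq], by simp [Int.ModEq], fun k => ?_⟩
  by_cases hk : k % 4 = 0
  · have : (Finset.univ.filter fun i : GolayPt => (0 : GolayPt → ℤ) i ≡ k [ZMOD 4]) = Finset.univ := by
      ext i
      rw [mem_cls]
      simp only [Pi.zero_apply, Finset.mem_univ, iff_true]
      omega
    rw [this]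
    exact univ_mem_supports
  · have : (Finset.univ.filter fun i : GolayPt => (0 : GolayPt → ℤ) i ≡ k [ZMOD 4]) = ∅ := by
      ext i
      rw [mem_cls]
      simp only [Pi.zero_apply, Finset.notMem_empty, iff_false]
      omega
    rw [this]
    exact empty_mem_supports

theorem neg_mem {x : GolayPt → ℤ} (hx : x ∈ leechSet) : -x ∈ leechSet := by
  obtain ⟨m, h1, h2, h3⟩ := hx
  refine ⟨-m, fun i => ?_, ?_, fun k => ?_⟩
  · have := h1 i
    simp only [Int.ModEq, Pi.neg_apply] at this ⊢
    omega
  · simp only [Pi.neg_apply, Finset.sum_neg_distrib]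
    simp only [Int.ModEq] at h2 ⊢
    omega
  · have : (Finset.univ.filter fun i : GolayPt => (-x) i ≡ k [ZMOD 4])
        = (Finset.univ.filter fun i : GolayPt => x i ≡ -k [ZMOD 4]) := by
      ext i
      rw [mem_cls, mem_cls]
      simp only [Pi.neg_apply]
      omega
    rw [this]
    exact h3 (-k)

theorem add_mem {x y : GolayPt → ℤ} (hx : x ∈ leechSet) (hy : y ∈ leechSet) : x + y ∈ leechSet := by
  obtain ⟨m, h1, h2, h3⟩ := hx
  obtain ⟨m', h1', h2', h3'⟩ := hy
  refine ⟨m + m', fun i => ?_, ?_, fun k => ?_⟩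
  · have := h1 i
    have := h1' i
    simp only [Int.ModEq, Pi.add_apply] at *
    omega
  · simp only [Pi.add_apply, Finset.sum_add_distrib]
    simp only [Int.ModEq] at h2 h2' ⊢
    omega
  · by_cases hk : k % 2 = (m + m') % 2
    · obtain ⟨wa, hwa, hsa⟩ := h3 (m + 2)
      obtain ⟨wb, hwb, hsb⟩ := h3' (k - m - 2)
      refine ⟨1 + wa + wb, golayCode.add_mem (golayCode.add_mem one_mem_golayCode hwa) hwb, ?_⟩
      ext i
      have ha : wa i ≠ 0 ↔ x i % 4 = (m + 2) % 4 := by
        rw [← mem_support₂, hsa, mem_cls]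
      have hb : wb i ≠ 0 ↔ y i % 4 = (k - m - 2) % 4 := by
        rw [← mem_support₂, hsb, mem_cls]
      rw [mem_support₂, mem_cls]
      simp only [Pi.add_apply, Pi.one_apply]
      rw [zmod2_aux, ha, hb]
      have e1 := h1 i
      have e2 := h1' i
      simp only [Int.ModEq] at e1 e2
      omega
    · have : (Finset.univ.filter fun i : GolayPt => (x + y) i ≡ k [ZMOD 4]) = ∅ := by
        ext i
        have e1 := h1 i
        have e2 := h1' i
        rw [mem_cls]
        simp only [Pi.add_apply, Int.ModEq, Finset.notMem_empty, iff_false] at e1 e2 ⊢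
        omega
      rw [this]
      exact empty_mem_supports

/-- The set leechSet is the carrier of an additive subgroup (hence equals leechLattice). -/
theorem result : ∃ L : AddSubgroup (Cfsg.GolayPt → ℤ), (L : Set (Cfsg.GolayPt → ℤ)) = Cfsg.leechSet := by
  exact ⟨{ carrier := leechSet
           add_mem' := fun hx hy => add_mem hx hy
           zero_mem' := zero_mem
           neg_mem' := fun hx => neg_mem hx }, rfl⟩

end Cfsg.Agent.S0390
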