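import Cfsg.Statements.S0432

set_option autoImplicit false
open Cfsg

namespace Cfsg.Agent.S0432

open scoped Pointwise

/-- Coordinate permutations from the code's group preserve the lattice. -/
theorem result (σ : Equiv.Perm Cfsg.GolayPt) (hσ : σ ∈ Cfsg.M24) (x : Cfsg.GolayPt → ℤ) (hx : x ∈ Cfsg.leechLattice) : (fun i => x (σ i)) ∈ Cfsg.leechLattice := by
  have hinv : σ⁻¹ ∈ Cfsg.M24 := Subgroup.inv_mem _ hσ
  have hstab : ∀ b ∈ Cfsg.supports (Cfsg.golayCode : Set (Cfsg.GolayPt → ZMod 2)),
      σ⁻¹ • b ∈ Cfsg.supports (Cfsg.golayCode : Set (Cfsg.GolayPt → ZMod 2)) := by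
    intro b hb
    have h1 : σ⁻¹ • Cfsg.supports (Cfsg.golayCode : Set (Cfsg.GolayPt → ZMod 2)) =
        Cfsg.supports (Cfsg.golayCode : Set (Cfsg.GolayPt → ZMod 2)) :=
      MulAction.mem_stabilizer_iff.mp hinv
    rw [← h1]
    exact Set.smul_mem_smul_set hb
  unfold Cfsg.leechLattice at hx ⊢
  refine AddSubgroup.closure_induction
    (p := fun y _ => (fun i => y (σ i)) ∈ AddSubgroup.closure Cfsg.leechSet) ?_ ?_ ?_ ?_ hx
  · intro y hy
    apply AddSubgroup.subset_closure
    obtain ⟨m, h1, h2, h3⟩ := hy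
    refine ⟨m, fun i => h1 (σ i), ?_, fun k => ?_⟩
    · rw [Equiv.sum_comp σ y]; exact h2
    · have := hstab _ (h3 k)
      convert this using 1
      ext i
      simp only [Finset.mem_filter, Finset.mem_univ, true_and]
      rw [Finset.mem_smul_finset]
      constructor
      · intro h
        refine ⟨σ i, ?_, ?_⟩
        · simp only [Finset.mem_filter, Finset.mem_univ, true_and]; exact h
        · simp [Equiv.Perm.smul_def]
      · rintro ⟨j, hj, rfl⟩
        simp only [Finset.mem_filter, Finset.mem_univ, true_and] at hj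
        simpa [Equiv.Perm.smul_def] using hj
  · exact AddSubgroup.zero_mem _
  · intro y z _ _ hy hz
    exact AddSubgroup.add_mem _ hy hz
  · intro y _ hy
    exact AddSubgroup.neg_mem _ hy

end Cfsg.Agent.S0432
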