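import Cfsg.Statements.S0433
import Cfsg.Agent.Helper8.Golay

set_option autoImplicit false
open Cfsg

namespace Cfsg.Agent.S0433

/-- a sum of integers is congruent modulo 2 to the number of odd terms -/
theorem sum_mod_two {ι : Type*} (s : Finset ι) (f : ι → ℤ) :
    (∑ i ∈ s, f i) % 2 = ((s.filter (fun i => f i % 2 = 1)).card : ℤ) % 2 := by
  rw [Finset.sum_int_mod]
  have h : ∀ i, f i % 2 = if f i % 2 = 1 then 1 else 0 := by
    intro i
    split_ifs with h
    · exact h
    · omega
  rw [Finset.sum_congr rfl (fun i _ => h i), Finset.sum_boole]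

/-- the key congruence: the sum of the coordinates of a lattice-set vector over the support of a
code word is divisible by 4 -/
theorem sum_support_mod_four {w : GolayPt → ZMod 2} (hw : w ∈ golayCode) {x : GolayPt → ℤ} {m : ℤ}
    (h1 : ∀ i, x i ≡ m [ZMOD 2])
    (h3 : ∀ k : ℤ, (Finset.univ.filter fun i => x i ≡ k [ZMOD 4]) ∈
      supports (golayCode : Set (GolayPt → ZMod 2))) :
    ∃ q : ℤ, ∑ i ∈ support₂ w, x i = 4 * q := by
  obtain ⟨a, ha⟩ := Helper8.four_dvd_card_support hw
  obtain ⟨v, hv, hvk⟩ := h3 (m + 2)
  have hev := Helper8.even_card_inter_support hw hv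
  -- rewrite x i = m + 2 z i
  have hxz : ∀ i, x i = m + 2 * ((x i - m) / 2) := by
    intro i
    have := h1 i
    simp only [Int.ModEq] at this
    omega
  have hsum : ∑ i ∈ support₂ w, x i = (support₂ w).card * m + 2 * ∑ i ∈ support₂ w, ((x i - m) / 2) := by
    have h5 : ∑ i ∈ support₂ w, x i = ∑ i ∈ support₂ w, (m + 2 * ((x i - m) / 2)) :=
      Finset.sum_congr rfl (fun i _ => hxz i)
    rw [h5, Finset.sum_add_distrib, Finset.sum_const, ← Finset.mul_sum, nsmul_eq_mul]
  have hfilter : (support₂ w).filter (fun i => ((x i - m) / 2) % 2 = 1) = support₂ w ∩ support₂ v := by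
    rw [hvk]
    ext i
    simp only [Finset.mem_filter, Finset.mem_inter, Finset.mem_univ, true_and]
    have := h1 i
    simp only [Int.ModEq] at this ⊢
    constructor
    · rintro ⟨hi, h⟩
      exact ⟨hi, by omega⟩
    · rintro ⟨hi, h⟩
      exact ⟨hi, by omega⟩
  have hz := sum_mod_two (support₂ w) (fun i => (x i - m) / 2)
  rw [hfilter] at hz
  obtain ⟨b, hb⟩ := hev
  rw [hsum, ha]
  rw [hb] at hz
  push_cast at hz ⊢
  obtain ⟨t, ht⟩ : ∃ t : ℤ, (∑ i ∈ support₂ w, ((x i - m) / 2)) = 2 * t :=
    ⟨(∑ i ∈ support₂ w, ((x i - m) / 2)) / 2, by omega⟩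
  refine ⟨a * m + t, ?_⟩
  rw [ht]
  ring

/-- the sign change maps the generating set of the lattice into itself -/
theorem leechSet_sign (c : Finset GolayPt) (hc : c ∈ supports (golayCode : Set (GolayPt → ZMod 2)))
    (x : GolayPt → ℤ) (hx : x ∈ leechSet) : (fun i => if i ∈ c then -x i else x i) ∈ leechSet := by
  obtain ⟨w, hw, rfl⟩ := hc
  obtain ⟨m, h1, h2, h3⟩ := hx
  have hw' : w ∈ golayCode := hw
  refine ⟨m, ?_, ?_, ?_⟩
  · intro i
    have := h1 i
    simp only [Int.ModEq] at this ⊢
    split_ifs <;> omega
  · obtain ⟨q, hq⟩ := sum_support_mod_four hw' h1 h3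
    have hy : ∀ i, (if i ∈ support₂ w then -x i else x i) = x i - 2 * (if i ∈ support₂ w then x i else 0) := by
      intro i
      split_ifs <;> ring
    have hs : ∑ i, (if i ∈ support₂ w then -x i else x i) = ∑ i, x i - 2 * ∑ i ∈ support₂ w, x i := by
      rw [Finset.sum_congr rfl (fun i _ => hy i), Finset.sum_sub_distrib, ← Finset.mul_sum,
        Finset.sum_ite_mem, Finset.univ_inter]
    rw [hs, hq]
    simp only [Int.ModEq] at h2 ⊢
    omega
  · intro k
    rcases Int.emod_two_eq_zero_or_one k with hk | hk
    · -- k even: the class is unchanged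
      have : (Finset.univ.filter fun i => (if i ∈ support₂ w then -x i else x i) ≡ k [ZMOD 4]) =
          (Finset.univ.filter fun i => x i ≡ k [ZMOD 4]) := by
        ext i
        simp only [Finset.mem_filter, Finset.mem_univ, true_and]
        simp only [Int.ModEq]
        split_ifs <;> omega
      rw [this]; exact h3 k
    · rcases Int.emod_two_eq_zero_or_one m with hm | hm
      · -- m even, k odd: both classes are empty
        have : (Finset.univ.filter fun i => (if i ∈ support₂ w then -x i else x i) ≡ k [ZMOD 4]) =
            (Finset.univ.filter fun i => x i ≡ k [ZMOD 4]) := by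
          ext i
          have := h1 i
          simp only [Finset.mem_filter, Finset.mem_univ, true_and]
          simp only [Int.ModEq] at this ⊢
          split_ifs <;> omega
        rw [this]; exact h3 k
      · -- m odd, k odd: symmetric difference
        obtain ⟨v, hv, hvk⟩ := h3 k
        refine ⟨v + w, golayCode.add_mem hv hw', ?_⟩
        rw [Helper8.support₂_add, hvk]
        ext i
        have := h1 i
        simp only [Finset.mem_symmDiff, Finset.mem_filter, Finset.mem_univ, true_and]
        simp only [Int.ModEq] at this ⊢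
        by_cases hi : i ∈ support₂ w
        · simp only [hi, not_true_eq_false, and_false, true_and, false_or, if_true]
          omega
        · simp only [hi, not_false_eq_true, and_true, false_and, or_false, if_false]

/-- Sign changes on the support of a codeword preserve the lattice. -/
theorem result (c : Finset Cfsg.GolayPt) (hc : c ∈ Cfsg.supports (Cfsg.golayCode : Set (Cfsg.GolayPt → ZMod 2))) (x : Cfsg.GolayPt → ℤ) (hx : x ∈ Cfsg.leechLattice) : (fun i => if i ∈ c then -x i else x i) ∈ Cfsg.leechLattice := by
  unfold Cfsg.leechLattice at hx ⊢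
  refine AddSubgroup.closure_induction
    (p := fun y _ => (fun i => if i ∈ c then -y i else y i) ∈ AddSubgroup.closure Cfsg.leechSet) ?_ ?_ ?_ ?_ hx
  · intro y hy
    exact AddSubgroup.subset_closure (leechSet_sign c hc y hy)
  · have : (fun i => if i ∈ c then -(0 : GolayPt → ℤ) i else (0 : GolayPt → ℤ) i) = 0 := by
      funext i; simp
    rw [this]; exact AddSubgroup.zero_mem _
  · intro y z _ _ hy hz
    have : (fun i => if i ∈ c then -(y + z) i else (y + z) i) =
        (fun i => if i ∈ c then -y i else y i) + (fun i => if i ∈ c then -z i else z i) := by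
      funext i
      simp only [Pi.add_apply]
      split_ifs <;> ring
    rw [this]; exact AddSubgroup.add_mem _ hy hz
  · intro y _ hy
    have : (fun i => if i ∈ c then -(-y) i else (-y) i) =
        -(fun i => if i ∈ c then -y i else y i) := by
      funext i
      simp only [Pi.neg_apply]
      split_ifs <;> ring
    rw [this]; exact AddSubgroup.neg_mem _ hy

end Cfsg.Agent.S0433
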