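import Cfsg.Statements.S1567
import Cfsg.Agent.Helper92.LeechIndex
import Cfsg.Agent.Helper7.OctadSpan

set_option autoImplicit false
open scoped Pointwise
open Cfsg

namespace Cfsg.Agent.S1567

open Cfsg.Agent.Helper92 Cfsg.Agent.Helper7

/-- the subgroup generated by the minimal vectors -/
def minSub : AddSubgroup ZV :=
  AddSubgroup.closure {x : GolayPt → ℤ | x ∈ leechLattice ∧ sqNorm x = 32}

theorem sqNorm_dbl (y : ZV) : sqNorm (dbl y) = 4 * sqNorm y := by
  unfold sqNorm
  rw [Finset.mul_sum]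
  refine Finset.sum_congr rfl fun i _ => ?_
  rw [dbl_apply]
  ring

theorem dbl_mem_of_sqNorm {y : ZV} (hy : y ∈ latE) (h8 : sqNorm y = 8) : dbl y ∈ minSub := by
  apply AddSubgroup.subset_closure
  refine ⟨lam0_le ⟨y, hy, rfl⟩, ?_⟩
  rw [sqNorm_dbl, h8]
  rfl

theorem oddVec_mem_minSub : oddVec ∈ minSub := by
  apply AddSubgroup.subset_closure
  refine ⟨(mem_leechLattice_iff _).2 oddVec_mem, ?_⟩
  decide

/-- the vectors whose double lies in `minSub` -/
def halfSub : AddSubgroup ZV := minSub.comap dbl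

theorem mem_halfSub (y : ZV) : y ∈ halfSub ↔ dbl y ∈ minSub := Iff.rfl

/-- the integer indicator vector of a binary word -/
def lift (w : FV) : ZV := fun i => ((w i).val : ℤ)

theorem red_lift (w : FV) : red (lift w) = w := by
  ext i
  rw [red_apply]
  simp [lift]

theorem zmod2_val_sq : ∀ a : ZMod 2, ((a.val : ℤ)) ^ 2 = (a.val : ℤ) := by decide

theorem zmod2_val_eq : ∀ a : ZMod 2, (a.val : ℤ) = if a ≠ 0 then 1 else 0 := by decide

theorem sum_lift (w : FV) : ∑ i, lift w i = ((support₂ w).card : ℤ) := by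
  unfold lift
  rw [Finset.sum_congr rfl (fun i _ => zmod2_val_eq (w i)), Finset.sum_ite, Finset.sum_const_zero,
    add_zero, Finset.sum_const, nsmul_eq_mul, mul_one]
  congr 2

theorem sqNorm_lift (w : FV) : sqNorm (lift w) = ((support₂ w).card : ℤ) := by
  unfold sqNorm
  rw [← sum_lift]
  exact Finset.sum_congr rfl fun i _ => zmod2_val_sq (w i)

theorem lift_octW {w : FV} (hw : w ∈ octW) : lift w ∈ latE ⊓ halfSub := by
  have hE : lift w ∈ latE := by
    rw [mem_latE, sum_lift, hw.2, red_lift]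
    exact ⟨by decide, hw.1⟩
  refine AddSubgroup.mem_inf.2 ⟨hE, ?_⟩
  rw [mem_halfSub]
  apply dbl_mem_of_sqNorm hE
  rw [sqNorm_lift, hw.2]
  rfl

theorem exists_lift_code {c : FV} (hc : c ∈ golayCode) : ∃ y ∈ latE ⊓ halfSub, red y = c := by
  rw [golayCode_eq_span_octW] at hc
  induction hc using Submodule.span_induction with
  | mem w hw => exact ⟨lift w, lift_octW hw, red_lift w⟩
  | zero => exact ⟨0, AddSubgroup.zero_mem _, map_zero red⟩
  | add a b _ _ ha hb =>
    obtain ⟨ya, hya, rfl⟩ := ha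
    obtain ⟨yb, hyb, rfl⟩ := hb
    exact ⟨ya + yb, AddSubgroup.add_mem _ hya hyb, map_add red ya yb⟩
  | smul r a _ ha =>
    obtain ⟨ya, hya, rfl⟩ := ha
    have hr : r = 0 ∨ r = 1 := by
      revert r
      decide
    rcases hr with rfl | rfl
    · exact ⟨0, AddSubgroup.zero_mem _, by rw [zero_smul, map_zero]⟩
    · exact ⟨ya, hya, by rw [one_smul]⟩

/-! ### the root lattice part -/

/-- `2 e_i + 2 e_j` and `2 e_i - 2 e_j` -/
def rootV (i j : GolayPt) (s : ℤ) : ZV := fun k => (if k = i then 2 else 0) + (if k = j then 2 * s else 0)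

theorem red_eq_zero_of_even {y : ZV} (h : ∀ k, y k % 2 = 0) : red y = 0 := by
  ext k
  rw [Pi.zero_apply, red_apply_eq_zero_iff]
  exact h k

theorem rootV_mem {i j : GolayPt} (hij : i ≠ j) {s : ℤ} (hs : s = 1 ∨ s = -1) :
    rootV i j s ∈ halfSub := by
  have hsum : ∑ k, rootV i j s k = 2 + 2 * s := by
    unfold rootV
    rw [Finset.sum_add_distrib, Finset.sum_ite_eq' Finset.univ i, Finset.sum_ite_eq' Finset.univ j]
    simp
  have hE : rootV i j s ∈ latE := by
    rw [mem_latE, hsum]
    refine ⟨by rcases hs with rfl | rfl <;> decide, ?_⟩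
    rw [red_eq_zero_of_even]
    · exact golayCode.zero_mem
    · intro k
      unfold rootV
      split_ifs <;> omega
  rw [mem_halfSub]
  apply dbl_mem_of_sqNorm hE
  unfold sqNorm
  have : ∀ k, rootV i j s k ^ 2 = (if k = i then 4 else 0) + (if k = j then 4 else 0) := by
    intro k
    unfold rootV
    by_cases h1 : k = i
    · have h2 : k ≠ j := fun h => hij (h1.symm.trans h)
      rw [if_pos h1, if_neg h2, if_pos h1, if_neg h2]
      norm_num
    · by_cases h2 : k = j
      · rw [if_neg h1, if_pos h2, if_neg h1, if_pos h2]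
        rcases hs with rfl | rfl <;> norm_num
      · rw [if_neg h1, if_neg h2, if_neg h1, if_neg h2]
        norm_num
  rw [Finset.sum_congr rfl (fun k _ => this k), Finset.sum_add_distrib,
    Finset.sum_ite_eq' Finset.univ i, Finset.sum_ite_eq' Finset.univ j]
  simp

/-- `4 e_i ∈ halfSub` -/
theorem four_single_mem (i : GolayPt) : (fun k => if k = i then (4 : ℤ) else 0) ∈ halfSub := by
  obtain ⟨j, hj⟩ : ∃ j : GolayPt, i ≠ j := by
    by_cases h : i = none
    · exact ⟨some 0, by rw [h]; exact fun h' => by cases h'⟩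
    · exact ⟨none, h⟩
  have h1 := rootV_mem hj (Or.inl rfl : (1 : ℤ) = 1 ∨ (1 : ℤ) = -1)
  have h2 := rootV_mem hj (Or.inr rfl : (-1 : ℤ) = 1 ∨ (-1 : ℤ) = -1)
  have := AddSubgroup.add_mem _ h1 h2
  convert this using 1
  ext k
  simp only [Pi.add_apply, rootV]
  split_ifs <;> norm_num

/-- `2 e_i - 2 e_∞ ∈ halfSub` -/
theorem diff_mem (i : GolayPt) :
    (fun k => (if k = i then (2 : ℤ) else 0) - (if k = none then 2 else 0)) ∈ halfSub := by
  by_cases h : i = none
  · subst h
    convert AddSubgroup.zero_mem halfSub using 1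
    ext k
    simp
  · have := rootV_mem h (Or.inr rfl : (-1 : ℤ) = 1 ∨ (-1 : ℤ) = -1)
    convert this using 1
    ext k
    simp only [rootV]
    split_ifs <;> norm_num

theorem dbl_mem_halfSub {z : ZV} (hz : (∑ i, z i) % 2 = 0) : dbl z ∈ halfSub := by
  have hdecomp : dbl z = ∑ i, z i • (fun k => (if k = i then (2 : ℤ) else 0) -
      (if k = none then 2 else 0)) + ((∑ i, z i) / 2) • (fun k => if k = none then (4 : ℤ) else 0) := by
    ext k
    rw [dbl_apply, Pi.add_apply, Finset.sum_apply]
    simp only [Pi.smul_apply, smul_eq_mul, mul_sub, Finset.sum_sub_distrib, mul_ite, mul_zero]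
    rw [Finset.sum_ite_eq Finset.univ k, if_pos (Finset.mem_univ k)]
    by_cases hk : k = none
    · simp only [hk, if_true]
      rw [← Finset.sum_mul]
      omega
    · simp only [hk, if_false, Finset.sum_const_zero]
      ring
  rw [hdecomp]
  refine AddSubgroup.add_mem _ (AddSubgroup.sum_mem _ fun i _ => ?_) ?_
  · exact AddSubgroup.zsmul_mem _ (diff_mem i) _
  · exact AddSubgroup.zsmul_mem _ (four_single_mem none) _

theorem latE_le_halfSub : latE ≤ halfSub := by
  intro y hy
  obtain ⟨y₀, hy₀, hred⟩ := exists_lift_code ((mem_latE y).1 hy).2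
  have hker : y - y₀ ∈ red.ker := by
    rw [AddMonoidHom.mem_ker, map_sub, hred, sub_self]
  rw [← range_dbl] at hker
  obtain ⟨z, hz⟩ := hker
  have hy₀' := AddSubgroup.mem_inf.1 hy₀
  have hE : y - y₀ ∈ latE := AddSubgroup.sub_mem _ hy hy₀'.1
  have hsum : (∑ i, z i) % 2 = 0 := by
    have h4 := ((mem_latE _).1 hE).1
    rw [← hz] at h4
    simp only [dbl_apply, ← Finset.mul_sum] at h4
    omega
  have := dbl_mem_halfSub hsum
  rw [hz] at this
  have h2 := AddSubgroup.add_mem _ this hy₀'.2
  rwa [sub_add_cancel] at h2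

theorem lam0_le_minSub : lam0 ≤ minSub := by
  rintro _ ⟨y, hy, rfl⟩
  exact latE_le_halfSub hy

/-- The rank-24 lattice is the additive subgroup generated by its 196560 minimal vectors. -/
theorem result : AddSubgroup.closure {x : Cfsg.GolayPt → ℤ | x ∈ Cfsg.leechLattice ∧ Cfsg.sqNorm x = 32} = Cfsg.leechLattice := by
  apply le_antisymm
  · rw [AddSubgroup.closure_le]
    intro x hx
    exact hx.1
  · intro x hx
    show x ∈ minSub
    have hpar : par x = 0 ∨ par x = 1 := by
      generalize par x = a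
      revert a
      decide
    rcases hpar with h | h
    · apply lam0_le_minSub
      rw [lam0_eq]
      exact AddSubgroup.mem_inf.2 ⟨h, hx⟩
    · have h1 : x - oddVec ∈ lam0 := by
        rw [lam0_eq]
        refine AddSubgroup.mem_inf.2
          ⟨?_, AddSubgroup.sub_mem _ hx ((mem_leechLattice_iff _).2 oddVec_mem)⟩
        rw [AddMonoidHom.mem_ker, map_sub, h]
        decide
      have := AddSubgroup.add_mem _ (lam0_le_minSub h1) oddVec_mem_minSub
      rwa [sub_add_cancel] at this

end Cfsg.Agent.S1567
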