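import Mathlib
import Cfsg.Statements.S0296
import Cfsg.Agent.Helper5.OrthSimpleStd

set_option autoImplicit false
open Cfsg

namespace Cfsg.Agent.S0296

open Cfsg.Agent.Helper5 Cfsg.Agent.Helper44

/-- PΩ^+_{2m}(q) is simple for m at least 4. -/
theorem result {F : Type*} [Field F] [Fintype F] (m : ℕ) (hm : 4 ≤ m) : IsSimpleGroup (Cfsg.POmega F (Cfsg.quadFormPlus m F)) := by
  have h3 : 3 ≤ m := by omega
  have T : HypTriple (plusForm m F) :=
    HypTriple.ofPairs (plusForm m F) (fun i => Sum.inl (Fin.castLE h3 i))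
      (fun i => Sum.inr (Fin.castLE h3 i))
      (fun i j hij => Fin.castLE_injective h3 (Sum.inr_injective hij))
      (fun i j => Sum.inl_ne_inr)
      (fun i => isHypPair_plusForm m (Fin.castLE h3 i))
  exact isSimpleGroup_POmega_of_hypTriple (plusForm m F) (nondegenerate_plusForm m)
    (by simp; omega) T

end Cfsg.Agent.S0296
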