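import Cfsg.Statements.S0401
import Cfsg.Agent.Helper8.Decomp48b
import Cfsg.Agent.S1575

set_option autoImplicit false
open Cfsg

namespace Cfsg.Agent.S0401

/-- Automorphisms of the lattice act transitively on vectors of sum of squares 48. -/
theorem result (v w : Cfsg.leechLattice) (hv : Cfsg.sqNorm (v : Cfsg.GolayPt → ℤ) = 48) (hw : Cfsg.sqNorm (w : Cfsg.GolayPt → ℤ) = 48) : ∃ g : Cfsg.Co0, g • v = w := by
  classical
  have key : ∀ u : Cfsg.leechLattice, Cfsg.sqNorm (u : Cfsg.GolayPt → ℤ) = 48 →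
      ∃ a b : Cfsg.leechLattice, u = a + b ∧ Cfsg.sqNorm (a : Cfsg.GolayPt → ℤ) = 32 ∧
        Cfsg.sqNorm (b : Cfsg.GolayPt → ℤ) = 32 ∧
        Cfsg.dotInt (a : Cfsg.GolayPt → ℤ) (b : Cfsg.GolayPt → ℤ) = -8 := by
    intro u hu
    have hc := Cfsg.Agent.Helper8.card_summands u.2 hu
    have hne : (Cfsg.Agent.Helper8.summands (u : Cfsg.GolayPt → ℤ)).Nonempty := by
      rw [← Finset.card_pos, hc]
      norm_num
    obtain ⟨a, ha⟩ := hne
    have hd := Cfsg.Agent.Helper8.dot_of_mem_summands hu ha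
    rw [Cfsg.Agent.Helper8.mem_summands] at ha
    refine ⟨⟨a, ha.1⟩, u - ⟨a, ha.1⟩, by abel, ha.2.1, ?_, ?_⟩
    · rw [AddSubgroup.coe_sub]
      exact ha.2.2
    · rw [AddSubgroup.coe_sub]
      show Cfsg.dotInt a ((u : Cfsg.GolayPt → ℤ) - a) = -8
      rw [Cfsg.Agent.Helper8.dotInt_sub_right, Cfsg.Agent.Helper8.dotInt_self, ha.2.1,
        Cfsg.Agent.Helper8.dotInt_comm, hd]
      norm_num
  obtain ⟨a, b, rfl, ha, hb, hab⟩ := key v hv
  obtain ⟨a', b', rfl, ha', hb', hab'⟩ := key w hw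
  obtain ⟨g1, hg1⟩ := Cfsg.Agent.Helper8.co0_transitive_min32 a a' ha ha'
  obtain ⟨g2, hg2a, hg2b⟩ := Cfsg.Agent.S1575.result a' (g1 • b) b' ha'
    (by rw [Cfsg.Agent.Helper8.co0_sqNorm]; exact hb) hb'
    (by rw [← hg1, Cfsg.Agent.Helper8.co0_dotInt]; exact hab) hab'
  refine ⟨g2 * g1, ?_⟩
  calc (g2 * g1) • (a + b) = (g2 * g1) • a + (g2 * g1) • b := (g2 * g1).2.1 _ _
    _ = a' + b' := by rw [mul_smul, mul_smul, hg1, hg2a, hg2b]

end Cfsg.Agent.S0401
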