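import Cfsg.Statements.S5612
import Cfsg.Agent.Helper93.GrpTrio
import Cfsg.Agent.Helper93.Classes
import Cfsg.Agent.Helper93.Assemble

set_option autoImplicit false
open scoped Pointwise
open Cfsg

namespace Cfsg.Agent.S5612

/-- The stabiliser of a trio in the group of the length-24 code has exactly three orbits on the 759 octads, of sizes 3, 84 and 672, and exactly four orbits on the 1771 sextets, of sizes 7, 84, 336 and 1344. -/
theorem result (T : Finset (Finset Cfsg.GolayPt)) (hT : T ∈ Cfsg.trios) : (∃ X₁ ∈ Cfsg.octads, ∃ X₂ ∈ Cfsg.octads, ∃ X₃ ∈ Cfsg.octads, (MulAction.orbit ↥(MulAction.stabilizer Cfsg.M24 T) X₁).ncard = 3 ∧ (MulAction.orbit ↥(MulAction.stabilizer Cfsg.M24 T) X₂).ncard = 84 ∧ (MulAction.orbit ↥(MulAction.stabilizer Cfsg.M24 T) X₃).ncard = 672 ∧ Cfsg.octads = MulAction.orbit ↥(MulAction.stabilizer Cfsg.M24 T) X₁ ∪ MulAction.orbit ↥(MulAction.stabilizer Cfsg.M24 T) X₂ ∪ MulAction.orbit ↥(MulAction.stabilizer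 Cfsg.M24 T) X₃) ∧ (∃ Y₁ ∈ Cfsg.sextets, ∃ Y₂ ∈ Cfsg.sextets, ∃ Y₃ ∈ Cfsg.sextets, ∃ Y₄ ∈ Cfsg.sextets, (MulAction.orbit ↥(MulAction.stabilizer Cfsg.M24 T) Y₁).ncard = 7 ∧ (MulAction.orbit ↥(MulAction.stabilizer Cfsg.M24 T) Y₂).ncard = 84 ∧ (MulAction.orbit ↥(MulAction.stabilizer Cfsg.M24 T) Y₃).ncard = 336 ∧ (MulAction.orbit ↥(MulAction.stabilizer Cfsg.M24 T) Y₄).ncard = 1344 ∧ Cfsg.sextets = MulAction.orbit ↥(MulAction.stabilizer Cfsg.M24 T) Y₁ ∪ MulAction.orbit ↥(MulAction.stabilizer Cfsg.M24 T) Y₂ ∪ MulAction.orbit ↥(MulAction.stabilizer Cfsg.M24 T) Y₃ ∪ MulAction.orbit ↥(MulAction.stabilizer Cfsg.M24 T) Y₄) := by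
  open Cfsg.Agent.Helper93 in
  have base1 : Decomp3 ((encFam 3).dec (trioArr.a 1)) Cfsg.octads 3 84 672 :=
    decomp3_of_labels encSet kt_closure (A := octArr) octads_eq (fun i hi => ktOct_orbit hi)
      (r₁ := 324) (r₂ := 0) (r₃ := 1) (by decide) (by decide) (by decide)
      (by decide +kernel) (by decide +kernel) (by decide +kernel)
      ktOct_ncard2 ktOct_ncard0 ktOct_ncard1 (fun i hi => by have := labels_lt ktOct_labels i hi; omega)
  open Cfsg.Agent.Helper93 in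
  have base2 : Decomp4 ((encFam 3).dec (trioArr.a 1)) Cfsg.sextets 7 84 336 1344 :=
    decomp4_of_labels (encFam 6) kt_closure (A := sextArr) sextets_eq (fun i hi => ktSext_orbit hi)
      (r₁ := 18) (r₂ := 5) (r₃ := 1) (r₄ := 0) (by decide) (by decide) (by decide) (by decide)
      (by decide +kernel) (by decide +kernel) (by decide +kernel) (by decide +kernel)
      ktSext_ncard3 ktSext_ncard2 ktSext_ncard1 ktSext_ncard0 (fun i hi => by have := labels_lt ktSext_labels i hi; omega)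
  open Cfsg.Agent.Helper93 in
  obtain ⟨i, hi, rfl⟩ : ∃ i < 3795, T = (encFam 3).dec (trioArr.a i) := by
    rw [trios_eq] at hT; exact hT
  open Cfsg.Agent.Helper93 in
  obtain ⟨h, hh, hho⟩ := trio_exists_smul (i := 1) (i' := i) (by decide) hi
  rw [← hho]
  exact ⟨base1.smul (fun g hg y hy => Cfsg.Agent.Helper93.smul_mem_octads hg hy) hh,
    base2.smul (fun g hg y hy => Cfsg.Agent.Helper93.smul_mem_sextets hg hy) hh⟩

end Cfsg.Agent.S5612
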