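import Cfsg.Statements.S0082
import Cfsg.Agent.Helper2.AbelianSylow
import Cfsg.Agent.Helper2.Residual
import Cfsg.Agent.Helper2.CyclicP
import Cfsg.Agent.Helper2.PComplement

set_option autoImplicit false
open Cfsg

namespace Cfsg.Agent.S0082

/-- With a cyclic Sylow p-subgroup, either there is a normal p-complement or the elements of order prime to p generate the whole group. -/
theorem result {G : Type*} [Group G] [Finite G] {p : ℕ} [Fact p.Prime] (P : Sylow p G) (hP : IsCyclic P) : Cfsg.HasNormalPComplement p G ∨ Cfsg.pResidual p G = ⊤ := by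
  have hp : p.Prime := Fact.out
  have hc : IsMulCommutative (P : Subgroup G) := IsCyclic.isMulCommutative
  obtain ⟨-, h2, h3⟩ := Cfsg.Agent.Helper2.abelian_sylow_decomp P hc
  set N := Subgroup.normalizer ((P : Subgroup G) : Set G) with hN
  set X := ⁅N, N⁆ ⊓ (P : Subgroup G) with hX
  set Y := (P : Subgroup G) ⊓ Subgroup.centralizer (N : Set G) with hY
  have hXP : X ≤ (P : Subgroup G) := inf_le_right
  have hYP : Y ≤ (P : Subgroup G) := inf_le_left
  -- one of X, Y is trivial
  have hdisj : (X.subgroupOf (P : Subgroup G)) ⊓ (Y.subgroupOf (P : Subgroup G)) = ⊥ := by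
    show Subgroup.comap (P : Subgroup G).subtype X ⊓ Subgroup.comap (P : Subgroup G).subtype Y = ⊥
    rw [← Subgroup.comap_inf, h2]
    exact Subgroup.bot_subgroupOf (H := (P : Subgroup G))
  have hcyc : IsCyclic (P : Subgroup G) := hP
  have hnot : ¬ (p ∣ Nat.card (X.subgroupOf (P : Subgroup G)) ∧
      p ∣ Nat.card (Y.subgroupOf (P : Subgroup G))) := by
    rintro ⟨hx, hy⟩
    exact Cfsg.Agent.Helper2.inf_ne_bot_of_dvd_card_of_isCyclic _ _ hx hy hdisj
  have hcardX : Nat.card (X.subgroupOf (P : Subgroup G)) = Nat.card X :=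
    Nat.card_congr (Subgroup.subgroupOfEquivOfLe hXP).toEquiv
  have hcardY : Nat.card (Y.subgroupOf (P : Subgroup G)) = Nat.card Y :=
    Nat.card_congr (Subgroup.subgroupOfEquivOfLe hYP).toEquiv
  have hbot_of_not_dvd : ∀ K : Subgroup G, K ≤ (P : Subgroup G) → ¬ p ∣ Nat.card K → K = ⊥ := by
    intro K hK hnd
    obtain ⟨j, hj⟩ := IsPGroup.iff_card.mp (P.2.to_le hK)
    rcases Nat.eq_zero_or_pos j with rfl | hpos
    · rw [pow_zero] at hj
      exact Subgroup.card_eq_one.mp hj
    · exfalso; apply hnd; rw [hj]; exact dvd_pow_self p hpos.ne'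
  rw [hcardX, hcardY, not_and_or] at hnot
  rcases hnot with hx | hy
  · left
    have hXbot : X = ⊥ := hbot_of_not_dvd X hXP hx
    rw [hXbot, bot_sup_eq] at h3
    have hPC : (P : Subgroup G) ≤ Subgroup.centralizer (N : Set G) := by
      rw [← h3]; exact inf_le_right
    apply Cfsg.Agent.Helper2.hasNormalPComplement_of_normalizer_le_centralizer P
    rw [← hN]
    exact Subgroup.le_centralizer_iff.mp hPC
  · right
    have hYbot : Y = ⊥ := hbot_of_not_dvd Y hYP hy
    rw [hYbot, sup_bot_eq] at h3
    have hPle : (P : Subgroup G) ≤ Cfsg.pResidual p G := by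
      rw [← h3]
      refine inf_le_left.trans (le_trans ?_ (Cfsg.Agent.Helper2.commutator_le_pResidual_of_abelian_sylow P hc))
      rw [commutator_def]
      exact Subgroup.commutator_mono le_top le_top
    have := Cfsg.Agent.Helper2.pResidual_sup_sylow_eq_top P
    rwa [sup_eq_left.mpr hPle] at this

end Cfsg.Agent.S0082
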