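import Cfsg.Statements.S0134
import Cfsg.Agent.Helper3.ColumnOrth

set_option autoImplicit false
open Cfsg

namespace Cfsg.Agent.S0134

/-- The sum of the squares of the degrees of the irreducible complex characters of a finite group is the order of the group. -/
theorem result {G : Type*} [Group G] [Finite G] : ∑ᶠ χ : Cfsg.IrrCharacter G, (χ : G → ℂ) 1 ^ 2 = (Nat.card G : ℂ) := by
  classical
  have : Fintype G := Fintype.ofFinite G
  have : Fintype (Cfsg.IrrCharacter G) := Fintype.ofFinite _
  rw [finsum_eq_sum_of_fintype]
  have h := Cfsg.Agent.Helper3.column_orthogonality_self (1 : G)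
  have hc : Subgroup.centralizer ({1} : Set G) = ⊤ := by
    rw [Subgroup.centralizer_eq_top_iff_subset]
    intro x hx
    rw [Set.mem_singleton_iff] at hx
    rw [hx]
    exact (Subgroup.center G).one_mem
  rw [hc, Subgroup.card_top] at h
  rw [← h]
  refine Finset.sum_congr rfl fun χ _ => ?_
  rw [Cfsg.Agent.Helper3.conj_irr, inv_one, sq]

end Cfsg.Agent.S0134
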