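import Cfsg.Statements.S0154
import Cfsg.Agent.Helper80.Linear
import Cfsg.Agent.Helper3.ClassFunction

set_option autoImplicit false
open Cfsg

namespace Cfsg.Agent.S0154

/-- Linear irreducible characters correspond to homomorphisms into `ℂˣ`. -/
noncomputable def linearEquiv (G : Type*) [Group G] :
    (G →* ℂˣ) ≃ {χ : Cfsg.IrrCharacter G // (χ : G → ℂ) 1 = 1} :=
  Equiv.ofBijective
    (fun φ => ⟨⟨fun g => ((φ g : ℂˣ) : ℂ), Cfsg.Agent.Helper80.isIrrCharacter_of_monoidHom φ⟩,
      by simp⟩)
    (by
      constructor
      · intro φ ψ h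
        have h1 : (fun g => ((φ g : ℂˣ) : ℂ)) = fun g => ((ψ g : ℂˣ) : ℂ) :=
          congrArg (fun x : {χ : Cfsg.IrrCharacter G // (χ : G → ℂ) 1 = 1} =>
            ((x : Cfsg.IrrCharacter G) : G → ℂ)) h
        ext g
        exact congrFun h1 g
      · rintro ⟨χ, hχ⟩
        obtain ⟨φ, hφ⟩ := Cfsg.Agent.Helper80.IsCharacter.exists_monoidHom
          (Cfsg.Agent.Helper3.isCharacter_of_isIrrCharacter χ.2) hχ
        refine ⟨φ, ?_⟩
        apply Subtype.ext
        apply Subtype.ext
        funext g
        exact (hφ g).symm)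

/-- A finite group has exactly as many irreducible complex characters of degree 1 as the index of its commutator subgroup. -/
theorem result {G : Type*} [Group G] [Finite G] : Nat.card {χ : Cfsg.IrrCharacter G // (χ : G → ℂ) 1 = 1} = (commutator G).index := by
  have hfin : Finite (Abelianization G) :=
    Finite.of_surjective Abelianization.of (fun x => QuotientGroup.mk_surjective x)
  have hexp : NeZero ((Monoid.exponent (Abelianization G) : ℕ) : ℂ) := by
    constructor
    have : Monoid.exponent (Abelianization G) ≠ 0 := Monoid.exponent_ne_zero_of_finite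
    exact_mod_cast this
  rw [← Nat.card_congr (linearEquiv G), Nat.card_congr (Abelianization.lift (G := G) (A := ℂˣ)),
    CommGroup.card_monoidHom_of_hasEnoughRootsOfUnity (Abelianization G) ℂ,
    Subgroup.index_eq_card]
  rfl

end Cfsg.Agent.S0154
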