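import Cfsg.Statements.S0964
import Cfsg.Agent.Helper16.Covering2
import Cfsg.Agent.Helper78.BlockBasic

set_option autoImplicit false
open Cfsg

namespace Cfsg.Agent.S0964

open Cfsg.Agent.Helper16 Cfsg.Agent.Helper15

/-- Let N be a normal subgroup of the finite group G, B a block of G and b a block of N relative to a maximal ideal M of the algebraic integers containing the prime p. Suppose some χ ∈ B has a constituent θ ∈ b on restriction to N. Then for every χ' ∈ B and every constituent ψ of the restriction of χ' to N there are g ∈ G and θ' ∈ b with ψ n = θ' (g n g⁻¹) for all n ∈ N. -/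
theorem result {G : Type*} [Group G] [Fintype G] (p : ℕ) [Fact p.Prime] (M : Ideal Cfsg.AlgInt) (hM : Cfsg.IsPModular p M) (N : Subgroup G) [hN : N.Normal] [Fintype N] (B : Set (Cfsg.IrrCharacter G)) (hB : Cfsg.IsPBlock M B) (b : Set (Cfsg.IrrCharacter N)) (hb : Cfsg.IsPBlock M b) (χ : Cfsg.IrrCharacter G) (hχ : χ ∈ B) (θ : Cfsg.IrrCharacter N) (hθ : θ ∈ b) (hcon : Cfsg.classInner (fun n : N => (χ : G → ℂ) n) (θ : N → ℂ) ≠ 0) (χ' : Cfsg.IrrCharacter G) (hχ' : χ' ∈ B) (ψ : Cfsg.IrrCharacter N) (hψ : Cfsg.classInner (fun n : N => (χ' : G → ℂ) n) (ψ : N → ℂ) ≠ 0) : ∃ g : G, ∃ θ' ∈ b, ∀ n : N, (ψ : N → ℂ) n = (θ' : N → ℂ) ⟨g * n * g⁻¹, hN.conj_mem n n.2 g⟩ := by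
  classical
  haveI hMp : M.IsPrime := IsPModular.isPrime hM
  have hsame : SameBlock M (χ : G → ℂ) (χ' : G → ℂ) :=
    Helper78.sameBlock_of_mem_of_mem hMp hB hχ hχ'
  have hO := gStable_conjUnion N b
  have hR := memLocalRing_blockCoeff_conjUnion (M := M) N hb
  have h1 : LiesOver N (χ : G → ℂ) (conjUnion N b) := ⟨θ, subset_conjUnion N b hθ, hcon⟩
  obtain ⟨θ'', hθ''O, hθ''⟩ := (liesOver_iff_of_sameBlock N hO hR hsame).mp h1
  obtain ⟨g, hg⟩ := exists_conj_of_constituents N χ'.2 θ''.2 ψ.2 hθ'' hψ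
  have hψeq : ψ = irrConj N g θ'' := Subtype.ext hg
  have hψO : ψ ∈ conjUnion N b := by
    rw [hψeq]
    exact hO θ'' hθ''O g
  obtain ⟨h, hh⟩ := hψO
  refine ⟨h⁻¹, irrConj N h ψ, hh, ?_⟩
  intro n
  have := congrFun (conjFun_inv_conjFun N h (ψ : N → ℂ)) n
  rw [conjFun_apply] at this
  exact this.symm

end Cfsg.Agent.S0964
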