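import Cfsg.Statements.S0827
import Cfsg.Agent.Helper98.Order72
import Cfsg.Agent.Helper98.PSU32
import Cfsg.Agent.S0282

set_option autoImplicit false
open Cfsg

namespace Cfsg.Agent.S0827

open Cfsg.Agent.Helper98 Cfsg.Agent.Helper98.PSU32 in
/-- U_3(2) ≅ 3².Q_8: PSU_3(2) (form over the field with 4 elements) has a normal subgroup N which is elementary abelian of order 9 such that the quotient by N is isomorphic to the quaternion group of order 8. -/
theorem result {F : Type*} [Field F] [Fintype F] (hF : Fintype.card F = 4) : ∃ (N : Subgroup (Cfsg.PSU 3 F 2)) (_ : N.Normal), Nat.card N = 9 ∧ (∀ x ∈ N, x ^ 3 = 1) ∧ Nonempty (Cfsg.PSU 3 F 2 ⧸ N ≃* QuaternionGroup 2) := by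
  have hcard : Nat.card (Cfsg.PSU 3 F 2) = 72 := (Cfsg.Agent.S0282.result hF).1
  have : Finite (Cfsg.PSU 3 F 2) := Nat.finite_of_card_ne_zero (by rw [hcard]; norm_num)
  set θ := theta hF with hθ
  have hz : θ z0 = 1 := theta_scalar hF z0 _ z0_scalar
  have ha3 : θ a0 ^ 3 = 1 := by
    have h := congrArg θ rel_a3
    rw [map_mul, map_mul, map_one] at h
    rw [pow_succ, pow_succ, pow_one]
    exact h
  have hb3 : θ b0 ^ 3 = 1 := by
    have h := congrArg θ rel_b3
    rw [map_mul, map_mul, map_one] at h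
    rw [pow_succ, pow_succ, pow_one]
    exact h
  have hab : θ a0 * θ b0 = θ b0 * θ a0 := by
    have h := congrArg θ rel_ab
    rw [map_mul, map_mul, map_mul, hz, one_mul] at h
    exact h
  have ha1 : θ a0 ≠ 1 := theta_ne_one hF a0 b0 ne_ab
  have hb1 : θ b0 ≠ 1 := theta_ne_one hF b0 a0 (fun h => ne_ab h.symm)
  have hba : θ b0 ≠ θ a0 := by
    intro h
    have h1 : θ (b0 * a0 * a0) = 1 := by
      rw [map_mul, map_mul, h, ← ha3, pow_succ, pow_succ, pow_one]
    exact theta_ne_one hF (b0 * a0 * a0) a0 ne_ba2 h1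
  have hba2 : θ b0 ≠ θ a0 ^ 2 := by
    intro h
    have h1 : θ (b0 * a0) = 1 := by
      rw [map_mul, h, ← pow_succ]
      exact ha3
    exact theta_ne_one hF (b0 * a0) a0 ne_ba h1
  have hxa : θ x0 * θ a0 * (θ x0)⁻¹ ∈ Subgroup.closure ({θ a0, θ b0} : Set (Cfsg.PSU 3 F 2)) := by
    have h := congrArg θ rel_xa
    rw [map_mul, map_mul] at h
    rw [h, mul_inv_cancel_right]
    exact Subgroup.subset_closure (by simp)
  have hxb : θ x0 * θ b0 * (θ x0)⁻¹ ∈ Subgroup.closure ({θ a0, θ b0} : Set (Cfsg.PSU 3 F 2)) := by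
    have h := congrArg θ rel_xb
    rw [map_mul, map_mul, map_mul] at h
    rw [h, mul_inv_cancel_right]
    have : θ a0 ∈ Subgroup.closure ({θ a0, θ b0} : Set (Cfsg.PSU 3 F 2)) :=
      Subgroup.subset_closure (by simp)
    exact Subgroup.mul_mem _ this this
  have hx4 : θ x0 ^ 4 = 1 := by
    have h := congrArg θ rel_x4
    rw [map_mul, map_mul, map_mul, map_one] at h
    rw [pow_succ, pow_succ, pow_succ, pow_one]
    exact h
  have hx2 : θ x0 ^ 2 ≠ 1 := by
    intro h
    have h1 : θ (x0 * x0) = 1 := by rw [map_mul, ← h, pow_succ, pow_one]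
    exact theta_ne_one hF (x0 * x0) a0 ne_x2 h1
  have hy2 : θ y0 ^ 2 = θ x0 ^ 2 := by
    have h := congrArg θ rel_y2
    rw [map_mul, map_mul] at h
    rw [pow_succ, pow_one, pow_succ, pow_one]
    exact h
  have hyx : θ y0 * θ x0 * (θ y0)⁻¹ = (θ x0)⁻¹ := by
    have h := congrArg θ rel_yx
    rw [map_mul, map_mul, map_mul, map_mul] at h
    rw [h, mul_inv_cancel_right]
    apply eq_inv_of_mul_eq_one_left
    rw [← hx4, pow_succ, pow_succ, pow_succ, pow_one]
  exact structure_order_72 hcard (θ a0) (θ b0) (θ x0) (θ y0) ha3 hb3 hab ha1 hb1 hba hba2 hxa hxb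
    hx4 hx2 hy2 hyx

end Cfsg.Agent.S0827
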