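import Cfsg.Statements.S0732
import Cfsg.Agent.Helper61.ZpoMain
import Cfsg.Agent.Helper61.ZpoTwo
import Cfsg.Agent.Helper61.ZpoOdd

set_option autoImplicit false
open Cfsg

namespace Cfsg.Agent.S0732

/-- A transitive permutation group on `p + 1` points (`p` prime) of order `(p+1) p d` with `d < p` is isomorphic to `PGL(2,p)` with `d = p - 1`, or to `PSL(2,p)` with `2d = p - 1`, or else `p + 1 = 2^q` for a prime `q`, `d = 1` or `d = q`, and the group is permutation-isomorphic to a group of semi-affine maps `x ↦ a φ(x) + b` of the field with `2^q` elements. -/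
theorem result {α : Type*} [Fintype α] [DecidableEq α] {p d : ℕ} (hp : p.Prime) (hα : Fintype.card α = p + 1) (G : Subgroup (Equiv.Perm α)) [MulAction.IsPretransitive G α] (hG : Nat.card G = (p + 1) * p * d) (hd : d < p) : (d = p - 1 ∧ Nonempty (G ≃* Matrix.ProjGenLinGroup (Fin 2) (ZMod p))) ∨ (2 * d = p - 1 ∧ Nonempty (G ≃* Matrix.ProjectiveSpecialLinearGroup (Fin 2) (ZMod p))) ∨ (∃ q : ℕ, q.Prime ∧ p + 1 = 2 ^ q ∧ (d = 1 ∨ d = q) ∧ ∃ e : α ≃ GaloisField 2 q, ∀ g : G, (e.symm.trans (((g : Equiv.Perm α)).trans e)) ∈ Cfsg.semiaffineGroup (GaloisField 2 q)) := by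
  classical
  have hd0 : d ≠ 0 := by
    rintro rfl
    rw [mul_zero] at hG
    exact Nat.card_pos.ne' hG
  by_cases hp2 : p = 2
  · -- the symmetric group of degree three
    subst hp2
    have hd1 : d = 1 := by omega
    subst hd1
    left
    refine ⟨rfl, ?_⟩
    exact Cfsg.Agent.Helper61.Zpo.iso_pgl_two (G := G) (Ω := α) hα (by rw [hG])
  rcases Nat.even_or_odd d with heven | hodd
  · rcases Cfsg.Agent.Helper61.Zpo.iso_of_even (G := G) (Ω := α) hp hp2 hα hG hd heven with h | h
    · exact Or.inl h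
    · exact Or.inr (Or.inl h)
  · right
    have key : (∃ N : Subgroup G, N.Normal ∧ (∀ x y : α, ∃ n ∈ N, n • x = y) ∧
        ∀ n ∈ N, ∀ x : α, n • x = x → n = 1) →
        ∃ q : ℕ, q.Prime ∧ p + 1 = 2 ^ q ∧ (d = 1 ∨ d = q) ∧ ∃ e : α ≃ GaloisField 2 q,
          ∀ g : G, (e.symm.trans (((g : Equiv.Perm α)).trans e)) ∈
            Cfsg.semiaffineGroup (GaloisField 2 q) := by
      rintro ⟨N, hNn, hNtr, hNfree⟩
      obtain ⟨q, hq, hpq, hdq, e, he⟩ :=
        Cfsg.Agent.Helper61.Zpo.semiaffine_galois (G := G) (Ω := α) hp hp2 hα hG hd N hNtr hNfree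
      refine ⟨q, hq, hpq, hdq, e, fun g => ?_⟩
      have := he g
      have h1 : MulAction.toPerm g = (g : Equiv.Perm α) := by
        ext x
        rfl
      rwa [h1] at this
    by_cases hd1 : d = 1
    · right
      apply key
      subst hd1
      exact Cfsg.Agent.Helper61.Zpo.exists_regular_normal (G := G) (Ω := α) hp hp2 hα hG
    · by_cases hreg : ∃ N : Subgroup G, N.Normal ∧ (∀ x y : α, ∃ n ∈ N, n • x = y) ∧
          ∀ n ∈ N, ∀ x : α, n • x = x → n = 1
      · right
        exact key hreg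
      · left
        exact Cfsg.Agent.Helper61.Zpo.iso_of_odd_zassenhaus (G := G) (Ω := α) hp hp2 hα hG hd hodd
          hd1 hreg

end Cfsg.Agent.S0732
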