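import Cfsg.Statements.S0242
import Mathlib


set_option autoImplicit false
open Cfsg

namespace Cfsg.Agent.S0242

open Matrix in
theorem card_GL_eq {F : Type*} [Field F] [Fintype F] (n : ℕ) (hn : 1 ≤ n) :
    Nat.card (GL (Fin n) F) = (Fintype.card F - 1) * Nat.card (Matrix.SpecialLinearGroup (Fin n) F) := by
  classical
  let d : GL (Fin n) F →* Fˣ := Matrix.GeneralLinearGroup.det
  have hsurj : Function.Surjective d := by
    intro u
    have hn0 : 0 < n := hn
    let i0 : Fin n := ⟨0, hn0⟩
    let M : Matrix (Fin n) (Fin n) F := Matrix.diagonal (Function.update (fun _ => (1 : F)) i0 (u : F))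
    have hdet : M.det = u := by
      simp only [M, Matrix.det_diagonal]
      rw [Finset.prod_update_of_mem (Finset.mem_univ i0)]
      simp
    have hM : IsUnit M.det := by rw [hdet]; exact u.isUnit
    refine ⟨Matrix.GeneralLinearGroup.mk'' M hM, ?_⟩
    ext
    simp [d, hdet]
  have h1 : Nat.card (GL (Fin n) F) = Nat.card d.ker * Nat.card Fˣ := by
    rw [← Subgroup.card_mul_index d.ker, Subgroup.index_ker, MonoidHom.range_eq_top.mpr hsurj]
    simp
  have h2 : Nat.card d.ker = Nat.card (Matrix.SpecialLinearGroup (Fin n) F) := by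
    apply Nat.card_congr
    refine Equiv.ofBijective (fun g => (⟨g.1.1, ?_⟩ : Matrix.SpecialLinearGroup (Fin n) F)) ⟨?_, ?_⟩
    · have := g.2
      rw [MonoidHom.mem_ker] at this
      have h3 := congrArg Units.val this
      simpa [d] using h3
    · intro a b hab
      have hab' := congrArg Subtype.val hab
      ext1
      ext1
      exact hab'
    · intro s
      refine ⟨⟨Matrix.SpecialLinearGroup.toGL s, ?_⟩, ?_⟩
      · rw [MonoidHom.mem_ker]
        ext
        simp [d]
      · ext1
        rfl
  rw [h1, h2, Nat.card_eq_fintype_card (α := Fˣ), Fintype.card_units, mul_comm]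

/-- Order of the special linear group: (q - 1) |SL_n(q)| = prod_{i<n} (q^n - q^i) = |GL_n(q)|, for n at least 1. -/
theorem result {F : Type*} [Field F] [Fintype F] {q : ℕ} (hF : Fintype.card F = q) (n : ℕ) (hn : 1 ≤ n) : (q - 1) * Nat.card (Matrix.SpecialLinearGroup (Fin n) F) = ∏ i : Fin n, (q ^ n - q ^ (i : ℕ)) := by
  subst hF
  rw [← card_GL_eq n hn, Matrix.card_GL_field]

end Cfsg.Agent.S0242
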