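import Cfsg.Statements.S0255
import Cfsg.Agent.Helper98.L27
import Cfsg.Agent.Helper96.PSLTwoElt
import Cfsg.Agent.S0243

set_option autoImplicit false
open Cfsg

namespace Cfsg.Agent.S0255

/-- PSL_2(7) is isomorphic to PSL_3(2). -/
theorem result {F K : Type*} [Field F] [Fintype F] [Field K] [Fintype K] (hF : Fintype.card F = 7) (hK : Fintype.card K = 2) : Nonempty (Matrix.ProjectiveSpecialLinearGroup (Fin 2) F ≃* Matrix.ProjectiveSpecialLinearGroup (Fin 3) K) := by
  classical
  have : Fact (Nat.Prime 7) := ⟨by norm_num⟩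
  obtain ⟨ψ, hψ⟩ := Cfsg.Agent.Helper98.L27.exists_hom
  -- ring isomorphisms
  let e1 : F ≃+* ZMod 7 := (ZMod.ringEquivOfPrime F (by norm_num) hF).symm
  let τ1 : Matrix.SpecialLinearGroup (Fin 2) F ≃* Matrix.SpecialLinearGroup (Fin 2) (ZMod 7) :=
    Cfsg.Agent.Helper96.slMapEquiv e1
  let e3 : Matrix.SpecialLinearGroup (Fin 3) (ZMod 2) ≃* Matrix.ProjectiveSpecialLinearGroup (Fin 3) K :=
    (Cfsg.Agent.Helper96.slMapEquiv (ZMod.ringEquivOfPrime K Nat.prime_two hK)).trans
      (Cfsg.Agent.Helper96.pslEquivSL hK).symm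
  let Φ : Matrix.SpecialLinearGroup (Fin 2) F →* Matrix.ProjectiveSpecialLinearGroup (Fin 3) K :=
    e3.toMonoidHom.comp (ψ.comp τ1.toMonoidHom)
  have hΦ : ∀ x, Φ x = 1 ↔ x ∈ Subgroup.center (Matrix.SpecialLinearGroup (Fin 2) F) := by
    intro x
    have h1 : Φ x = 1 ↔ ψ (τ1 x) = 1 := by
      change e3 (ψ (τ1 x)) = 1 ↔ _
      exact e3.map_eq_one_iff
    rw [h1, hψ, Matrix.SpecialLinearGroup.mem_center_iff]
    have hτ : (τ1 x).1 = (e1 : F →+* ZMod 7).mapMatrix x.1 := rfl
    have hinj : Function.Injective ((e1 : F →+* ZMod 7).mapMatrix (m := Fin 2)) := by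
      intro A B hAB
      ext i j
      have := congrFun (congrFun hAB i) j
      simpa using this
    have hdiag : (Matrix.diagonal fun _ : Fin 2 => (-1 : F)) = -1 := by
      ext i j
      by_cases h : i = j <;> simp [h, Matrix.neg_apply, Matrix.one_apply]
    have hdiag' : (Matrix.diagonal fun _ : Fin 2 => (-1 : ZMod 7)) = -1 := by
      ext i j
      by_cases h : i = j <;> simp [h, Matrix.neg_apply, Matrix.one_apply]
    have hmap : (-1 : Matrix (Fin 2) (Fin 2) F).map e1 = -1 := by
      ext i j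
      by_cases h : i = j <;> simp [h, Matrix.map_apply, Matrix.neg_apply, Matrix.one_apply]
    constructor
    · rintro (h | h)
      · refine ⟨1, one_pow _, ?_⟩
        apply hinj
        rw [← hτ, h]
        simp
      · refine ⟨-1, by simp, ?_⟩
        apply hinj
        rw [← hτ, h]
        simp [hdiag, hdiag', hmap]
    · rintro ⟨r, hr, hrx⟩
      have hr' : r = 1 ∨ r = -1 := by
        simp only [Fintype.card_fin] at hr
        exact sq_eq_one_iff.1 hr
      rw [hτ, ← hrx]
      rcases hr' with rfl | rfl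
      · left; simp
      · right; simp [hdiag, hdiag', hmap]
  -- the induced map on the quotient
  let Ψ : Matrix.ProjectiveSpecialLinearGroup (Fin 2) F →* Matrix.ProjectiveSpecialLinearGroup (Fin 3) K :=
    QuotientGroup.lift (Subgroup.center (Matrix.SpecialLinearGroup (Fin 2) F)) Φ
      (fun x hx => (hΦ x).2 hx)
  have hΨinj : Function.Injective Ψ := by
    rw [injective_iff_map_eq_one]
    intro y hy
    obtain ⟨x, rfl⟩ := QuotientGroup.mk_surjective y
    have : Φ x = 1 := hy
    exact (QuotientGroup.eq_one_iff x).2 ((hΦ x).1 this)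
  have hc1 : Nat.card (Matrix.ProjectiveSpecialLinearGroup (Fin 2) F) = 168 := by
    have h := Cfsg.Agent.S0243.result hF 2 le_rfl
    simp only [Fin.prod_univ_two] at h
    norm_num at h
    rw [← Nat.card_eq_fintype_card] at h
    omega
  have hc2 : Nat.card (Matrix.ProjectiveSpecialLinearGroup (Fin 3) K) = 168 := by
    have h := Cfsg.Agent.S0243.result hK 3 (by norm_num)
    simp only [Fin.prod_univ_three] at h
    norm_num at h
    rw [← Nat.card_eq_fintype_card] at h
    omega
  have hfin1 : Finite (Matrix.ProjectiveSpecialLinearGroup (Fin 2) F) :=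
    Nat.finite_of_card_ne_zero (by rw [hc1]; norm_num)
  have hfin2 : Finite (Matrix.ProjectiveSpecialLinearGroup (Fin 3) K) :=
    Nat.finite_of_card_ne_zero (by rw [hc2]; norm_num)
  have hbij : Function.Bijective Ψ :=
    (Nat.bijective_iff_injective_and_card Ψ).2 ⟨hΨinj, by rw [hc1, hc2]⟩
  exact ⟨MulEquiv.ofBijective Ψ hbij⟩

end Cfsg.Agent.S0255
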