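import Cfsg.Statements.S3277
import Cfsg.Agent.Helper76.FourCentralizerMain

set_option autoImplicit false
open Cfsg

namespace Cfsg.Agent.S3277

/-- Let G be a finite group containing an involution whose centralizer is elementary abelian of order 4. If G has no normal 2-complement and no normal elementary abelian 2-subgroup of order 2 or 4, then G is isomorphic to the alternating group of degree 5 (that is, to PSL(2, 5)). -/
theorem result {G : Type*} [Group G] [Finite G] (x : G) (hx : orderOf x = 2)
    (hC4 : Nat.card ↥(Subgroup.centralizer ({x} : Set G)) = 4) (hCe : ∀ c ∈ Subgroup.centralizer ({x} : Set G), c ^ 2 = 1)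
    (hnc : ¬ Cfsg.HasNormalPComplement 2 G)
    (hne : ∀ E : Subgroup G, E.Normal → Cfsg.IsElementaryAbelian 2 E → Nat.card ↥E ≠ 2 ∧ Nat.card ↥E ≠ 4) :
    Nonempty (G ≃* ↥(alternatingGroup (Fin 5))) := by
  classical
  have h3 : Nat.card {u : ↥(Subgroup.centralizer ({x} : Set G)) // orderOf u = 2} ≤ 3 := by
    apply Cfsg.Agent.Helper76.card_involutions_le_three _ _ hC4
    · rw [Subgroup.subgroupOf_self]; infer_instance
    · rw [Subgroup.relIndex_self]; norm_num
  have hxx : x * x = 1 := by
    have := pow_orderOf_eq_one x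
    rwa [hx, pow_two] at this
  by_cases hiso : Cfsg.IsIsolated x
  · exfalso
    have hZ : Cfsg.InZStar 2 x :=
      Cfsg.Agent.Helper48.ZStar.zstar_core
        (fun _ _ _ S n e hO => Cfsg.Agent.S0201.result S n e hO) _ G rfl x hx hiso
    exact hnc (Cfsg.Agent.Helper76.hasNormalPComplement_of_inZStar x hZ 2
      (by rw [hC4]; norm_num))
  · unfold Cfsg.IsIsolated at hiso
    push Not at hiso
    obtain ⟨g, hc, hne'⟩ := hiso
    rcases Cfsg.Agent.Helper76.three_involutions_dichotomy x hx h3 g hc hne' with
      ⟨⟨S, hS⟩, hconj⟩ | ⟨-, hcomm⟩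
    · exact Cfsg.Agent.Helper76.alternating_five_of_four_centralizer x hx hC4 hCe S hS hconj hnc hne
    · exfalso
      have haC : x * (g * x * g⁻¹) ∈ Subgroup.centralizer ({x} : Set G) := by
        rw [Subgroup.mem_centralizer_singleton_iff]
        calc x * (g * x * g⁻¹) * x = x * ((g * x * g⁻¹) * x) := by group
          _ = x * (x * (g * x * g⁻¹)) := by rw [hc.eq]
      have ha2 : (x * (g * x * g⁻¹)) * (x * (g * x * g⁻¹)) = 1 := by
        rw [← pow_two]; exact hCe _ haC
      have ha1 : x * (g * x * g⁻¹) ≠ 1 := by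
        intro h
        apply hne'
        have h1 := inv_eq_of_mul_eq_one_right h
        rw [← h1, inv_eq_of_mul_eq_one_right hxx]
      obtain ⟨E, hEn, hEel, hE⟩ :=
        Cfsg.Agent.Helper76.normal_elementary_of_commuting_conjugates x (x * (g * x * g⁻¹)) hx
          ha2 ha1 hC4 hcomm
      rcases hE with h | h
      · exact (hne E hEn hEel).1 h
      · exact (hne E hEn hEel).2 h

end Cfsg.Agent.S3277
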