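import Cfsg.Statements.S0188
import Mathlib
import Cfsg.Agent.Helper79.CharComplete
import Cfsg.Agent.Helper74.FSCount
import Cfsg.Agent.Helper80.Pullback

set_option autoImplicit false
open Cfsg

namespace Cfsg.Agent.S0188

open scoped ComplexConjugate
section
variable {G : Type*} [Group G] {H : Type*} [Group H]

/-- the product function `(g, h) ↦ φ g * ψ h` -/
def prodFun (φ : G → ℂ) (ψ : H → ℂ) : G × H → ℂ := fun x => φ x.1 * ψ x.2

theorem isCharacter_prodFun {φ : G → ℂ} {ψ : H → ℂ} (hφ : IsCharacter G φ) (hψ : IsCharacter H ψ) :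
    IsCharacter (G × H) (prodFun φ ψ) := by
  have h1 := Cfsg.Agent.Helper80.IsCharacter.comp_hom hφ (MonoidHom.fst G H)
  have h2 := Cfsg.Agent.Helper80.IsCharacter.comp_hom hψ (MonoidHom.snd G H)
  exact Cfsg.Agent.Helper74.isCharacter_mul h1 h2

theorem classInner_prodFun [Fintype G] [Fintype H] (φ φ' : G → ℂ) (ψ ψ' : H → ℂ) :
    classInner (prodFun φ ψ) (prodFun φ' ψ') = classInner φ φ' * classInner ψ ψ' := by
  unfold classInner prodFun
  rw [Nat.card_prod, Fintype.sum_prod_type]
  simp only [map_mul]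
  have : ∀ g : G, ∑ h : H, φ g * ψ h * (conj (φ' g) * conj (ψ' h)) =
      (φ g * conj (φ' g)) * ∑ h : H, ψ h * conj (ψ' h) := by
    intro g
    rw [Finset.mul_sum]
    apply Finset.sum_congr rfl
    intro h _
    ring
  simp_rw [this]
  rw [← Finset.sum_mul]
  push_cast
  rw [mul_inv]
  ring

theorem isIrrCharacter_prodFun [Fintype G] [Fintype H] {φ : G → ℂ} {ψ : H → ℂ}
    (hφ : IsIrrCharacter G φ) (hψ : IsIrrCharacter H ψ) :
    IsIrrCharacter (G × H) (prodFun φ ψ) := by
  apply Cfsg.Agent.Helper74.isIrrCharacter_of_norm_one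
    (isCharacter_prodFun (Cfsg.Agent.Helper80.IsIrrCharacter.isCharacter hφ)
      (Cfsg.Agent.Helper80.IsIrrCharacter.isCharacter hψ))
  rw [classInner_prodFun]
  have h1 := Cfsg.Agent.Helper79.classInner_irr_self (⟨φ, hφ⟩ : IrrCharacter G)
  have h2 := Cfsg.Agent.Helper79.classInner_irr_self (⟨ψ, hψ⟩ : IrrCharacter H)
  simp only at h1 h2
  rw [h1, h2, one_mul]

end

/-- The irreducible complex characters of G × H are precisely the functions (g, h) ↦ φ g * ψ h with φ, ψ irreducible characters of G and H. -/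
theorem result {G : Type*} [Group G] [Finite G] {H : Type*} [Group H] [Finite H] (θ : G × H → ℂ) : Cfsg.IsIrrCharacter (G × H) θ ↔ ∃ (φ : G → ℂ) (ψ : H → ℂ), Cfsg.IsIrrCharacter G φ ∧ Cfsg.IsIrrCharacter H ψ ∧ θ = fun x => φ x.1 * ψ x.2 := by
  classical
  have := Fintype.ofFinite G
  have := Fintype.ofFinite H
  constructor
  · intro hθ
    have hfG : Finite (IrrCharacter G) := Cfsg.Agent.Helper79.irr_finite
    have hfH : Finite (IrrCharacter H) := Cfsg.Agent.Helper79.irr_finite
    have hfGH : Finite (IrrCharacter (G × H)) := Cfsg.Agent.Helper79.irr_finite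
    have := Fintype.ofFinite (IrrCharacter G)
    have := Fintype.ofFinite (IrrCharacter H)
    have := Fintype.ofFinite (IrrCharacter (G × H))
    -- the map ι
    let ι : IrrCharacter G × IrrCharacter H → IrrCharacter (G × H) :=
      fun p => ⟨prodFun (p.1 : G → ℂ) (p.2 : H → ℂ), isIrrCharacter_prodFun p.1.2 p.2.2⟩
    have hι : Function.Injective ι := by
      rintro ⟨φ, ψ⟩ ⟨φ', ψ'⟩ h
      have h1 : prodFun (φ : G → ℂ) (ψ : H → ℂ) = prodFun (φ' : G → ℂ) (ψ' : H → ℂ) :=
        congrArg Subtype.val h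
      have h2 : classInner (prodFun (φ : G → ℂ) (ψ : H → ℂ)) (prodFun (φ' : G → ℂ) (ψ' : H → ℂ)) = 1 := by
        rw [← h1, classInner_prodFun, Cfsg.Agent.Helper79.classInner_irr_self,
          Cfsg.Agent.Helper79.classInner_irr_self, one_mul]
      rw [classInner_prodFun, Cfsg.Agent.Helper79.classInner_irr φ φ',
        Cfsg.Agent.Helper79.classInner_irr ψ ψ'] at h2
      by_cases e1 : φ = φ'
      · by_cases e2 : ψ = ψ'
        · rw [e1, e2]
        · rw [if_neg e2, mul_zero] at h2
          exact absurd h2 zero_ne_one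
      · rw [if_neg e1, zero_mul] at h2
        exact absurd h2 zero_ne_one
    -- degree of ι p
    have hdeg : ∀ p : IrrCharacter G × IrrCharacter H,
        charDegree ((ι p : IrrCharacter (G × H)) : G × H → ℂ) =
          charDegree (p.1 : G → ℂ) * charDegree (p.2 : H → ℂ) := by
      intro p
      apply Cfsg.Agent.Helper79.charDegree_natCast_fun
      show prodFun (p.1 : G → ℂ) (p.2 : H → ℂ) 1 = _
      unfold prodFun
      rw [Prod.fst_one, Prod.snd_one, Cfsg.Agent.Helper79.irr_one, Cfsg.Agent.Helper79.irr_one]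
      push_cast
      rfl
    -- sums of squares
    have hsG := Cfsg.Agent.Helper79.sum_charDegree_sq (G := G)
    have hsH := Cfsg.Agent.Helper79.sum_charDegree_sq (G := H)
    have hsGH := Cfsg.Agent.Helper79.sum_charDegree_sq (G := G × H)
    have himage : ∑ χ ∈ Finset.univ.image ι, charDegree (χ : G × H → ℂ) ^ 2 = Nat.card (G × H) := by
      rw [Finset.sum_image (fun a _ b _ h => hι h), Nat.card_prod, ← hsG, ← hsH, Finset.sum_mul_sum,
        ← Finset.sum_product']
      apply Finset.sum_congr rfl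
      intro p _
      rw [hdeg, mul_pow]
    -- hence the complement of the image is empty
    by_contra hnot
    have hθnot : (⟨θ, hθ⟩ : IrrCharacter (G × H)) ∉ Finset.univ.image ι := by
      intro hmem
      rw [Finset.mem_image] at hmem
      obtain ⟨⟨φ, ψ⟩, -, hp⟩ := hmem
      apply hnot
      refine ⟨φ, ψ, φ.2, ψ.2, ?_⟩
      have := congrArg Subtype.val hp
      exact this.symm
    have hlt : ∑ χ ∈ Finset.univ.image ι, charDegree (χ : G × H → ℂ) ^ 2 <
        ∑ χ : IrrCharacter (G × H), charDegree (χ : G × H → ℂ) ^ 2 := by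
      apply Finset.sum_lt_sum_of_subset (Finset.subset_univ _) (Finset.mem_univ ⟨θ, hθ⟩) hθnot
      · have := Cfsg.Agent.Helper79.irr_charDegree_pos (⟨θ, hθ⟩ : IrrCharacter (G × H))
        positivity
      · intro j _ _
        exact Nat.zero_le _
    rw [himage, hsGH] at hlt
    exact lt_irrefl _ hlt
  · rintro ⟨φ, ψ, hφ, hψ, rfl⟩
    exact isIrrCharacter_prodFun hφ hψ

end Cfsg.Agent.S0188
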