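import Mathlib
import Cfsg.Statements.S0678
import Cfsg.Agent.S0675
import Cfsg.Agent.S0676
import Cfsg.Agent.S1013
import Cfsg.Agent.Helper12.Deg7Aux

set_option autoImplicit false
open Cfsg

namespace Cfsg.Agent.S0678

open Cfsg.Agent.Helper12

theorem arith_even {N d n7 : ℕ} (h5040 : N ∣ 5040) (hN : N = 7 * d * n7) (hmod : n7 % 7 = 1)
    (hd : d = 2 ∨ d = 6) (h210 : 210 ∣ N) (h84 : 84 ∣ N) : N = 1680 ∨ N = 5040 := by
  have h420 : 420 ∣ N := by
    have := Nat.lcm_dvd h210 h84
    have h : Nat.lcm 210 84 = 420 := by decide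
    rwa [h] at this
  obtain ⟨s, rfl⟩ := h420
  obtain ⟨r, hr⟩ := h5040
  have hsr : s * r = 12 := by nlinarith
  have hs12 : s ≤ 12 := by
    rcases Nat.eq_zero_or_pos r with h | h
    · rw [h] at hsr; omega
    · nlinarith
  rcases hd with rfl | rfl
  · interval_cases s <;> omega
  · interval_cases s <;> omega

theorem arith_three {N n7 : ℕ} (h5040 : N ∣ 5040) (hN : N = 7 * 3 * n7) (hmod : n7 % 7 = 1)
    (h42 : 42 ∣ N) : N = 168 ∨ N = 2520 := by
  obtain ⟨t, rfl⟩ := h42
  obtain ⟨r, hr⟩ := h5040
  have htr : t * r = 120 := by nlinarith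
  have ht120 : t ≤ 120 := by
    rcases Nat.eq_zero_or_pos r with h | h
    · rw [h] at htr; omega
    · nlinarith
  have hn7 : n7 = 2 * t := by omega
  subst hn7
  have ht : t ∣ 120 := ⟨r, htr.symm⟩
  have key : ∀ t ∈ Nat.divisors 120, (2 * t) % 7 = 1 → t = 4 ∨ t = 60 := by decide
  rcases key t (Nat.mem_divisors.mpr ⟨ht, by norm_num⟩) hmod with rfl | rfl
  · left; rfl
  · right; rfl

/-- A non-solvable transitive permutation group on 7 points that does not contain the alternating group is a simple group of order 168. -/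
theorem result {α : Type*} [Fintype α] [DecidableEq α] (hα : Fintype.card α = 7) (G : Subgroup (Equiv.Perm α)) [MulAction.IsPretransitive G α] (hG : ¬ Group.IsSolvable G) (hA : ¬ alternatingGroup α ≤ G) : Nat.card G = 168 ∧ IsSimpleGroup G := by
  classical
  haveI : Fact (Nat.Prime 7) := ⟨by norm_num⟩
  have h2t : MulAction.IsMultiplyPretransitive G α 2 :=
    (Cfsg.Agent.S0675.result (by rw [hα]; norm_num) G).resolve_left hG
  obtain ⟨P⟩ : Nonempty (Sylow 7 G) := inferInstance
  obtain ⟨hPcard, hd6, hNcard⟩ := PDNorm.card_normalizer hα G P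
  set d := ((P : Subgroup G).subgroupOf
    (Subgroup.normalizer ((P : Subgroup G) : Set G))).index with hd
  set n7 := Nat.card (Sylow 7 G) with hn7
  have hn7mod : n7 % 7 = 1 := card_sylow_modEq_one 7 G
  have hn7idx : n7 = (Subgroup.normalizer ((P : Subgroup G) : Set G)).index :=
    P.card_eq_index_normalizer
  have hN : Nat.card G = 7 * d * n7 := by
    rw [hn7idx, ← hNcard]
    exact (Subgroup.card_mul_index _).symm
  have hfact7 : Nat.factorial 7 = 5040 := by decide
  have hfact5 : Nat.factorial 5 = 120 := by decide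
  have hfact4 : Nat.factorial 4 = 24 := by decide
  have hcardPerm : Nat.card (Equiv.Perm α) = 5040 := by
    rw [Nat.card_perm, Nat.card_eq_fintype_card, hα, hfact7]
  have h5040 : Nat.card G ∣ 5040 := by
    rw [← hcardPerm]
    exact Subgroup.card_subgroup_dvd_card G
  have hidx : G.index * Nat.card G = 5040 := by
    rw [← hcardPerm]
    exact G.index_mul_card
  have h42 : 42 ∣ Nat.card G := by
    obtain ⟨m, hm, hmd⟩ := Deg7.exists_dvd_card_of_multTrans G 2 (by omega) h2t
    rw [hα] at hm
    have h75 : 7 - 2 = 5 := rfl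
    rw [h75, hfact5, hfact7] at hm
    have : m = 42 := by omega
    rwa [this] at hmd
  have hd_cases : d = 1 ∨ d = 2 ∨ d = 3 ∨ d = 6 := by
    have h76 : 7 - 1 = 6 := rfl
    rw [h76] at hd6
    have hle : d ≤ 6 := Nat.le_of_dvd (by norm_num) hd6
    have hpos : 0 < d := Nat.pos_of_dvd_of_pos hd6 (by norm_num)
    interval_cases d
    · exact Or.inl rfl
    · exact Or.inr (Or.inl rfl)
    · exact Or.inr (Or.inr (Or.inl rfl))
    · exfalso; omega
    · exfalso; omega
    · exact Or.inr (Or.inr (Or.inr rfl))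
  -- the even case
  have heven_case : d = 2 ∨ d = 6 → False := by
    intro hd26
    have hdeven : Even d := by
      rcases hd26 with h | h <;> rw [h] <;> decide
    have hNeven : Even (Nat.card (Subgroup.normalizer ((P : Subgroup G) : Set G))) := by
      rw [hNcard]
      exact hdeven.mul_left 7
    have h3t := Cfsg.Agent.S0676.result hα G hG P hNeven
    have h210 : 210 ∣ Nat.card G := by
      obtain ⟨m, hm, hmd⟩ := Deg7.exists_dvd_card_of_multTrans G 3 (by omega) h3t
      rw [hα] at hm
      have h74 : 7 - 3 = 4 := rfl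
      rw [h74, hfact4, hfact7] at hm
      have : m = 210 := by omega
      rwa [this] at hmd
    obtain ⟨σ, τ, hσ, hτ2, hτ1, k, hτσ⟩ := SylowInvol.sylow_invol hα G P hNeven
    have hσ' : orderOf σ.1 = 7 := by
      rw [← hσ]
      exact Subgroup.orderOf_coe σ
    have hτ2' : τ.1 * τ.1 = 1 := by
      rw [← Subgroup.coe_mul, hτ2, Subgroup.coe_one]
    have hτ1' : τ.1 ≠ 1 := fun h => hτ1 (Subtype.ext h)
    have hτσ' : τ.1 * σ.1 * τ.1⁻¹ = σ.1 ^ k := by
      rw [← Subgroup.coe_inv, ← Subgroup.coe_mul, ← Subgroup.coe_mul, hτσ, Subgroup.coe_pow]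
    obtain ⟨e, c, hσlab, hτlab⟩ :=
      SylowInvol.exists_label_invol hα (by norm_num) σ.1 τ.1 hσ' hτ2' hτ1' k hτσ'
    have hsign : Equiv.Perm.sign τ.1 = -1 := by
      rw [PDNorm.sign_reflection hα (by norm_num) e c τ.1 hτlab]
      decide
    obtain ⟨hcard2, hsolv⟩ := Deg7.even_part G τ.1 τ.2 hsign
    have hσG0 : σ.1 ∈ (G ⊓ alternatingGroup α : Subgroup (Equiv.Perm α)) :=
      ⟨σ.2, Equiv.Perm.mem_alternatingGroup.mpr
        (Deg7.sign_eq_one_of_odd_order σ.1 (by rw [hσ']; decide))⟩
    haveI : MulAction.IsPretransitive (G ⊓ alternatingGroup α : Subgroup (Equiv.Perm α)) α :=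
      Deg7.isPretransitive_of_mem hα _ σ.1 hσ' hσG0
    have hG0 : ¬ Group.IsSolvable (G ⊓ alternatingGroup α : Subgroup (Equiv.Perm α)) :=
      fun h => hG (hsolv h)
    have h2t0 : MulAction.IsMultiplyPretransitive
        (G ⊓ alternatingGroup α : Subgroup (Equiv.Perm α)) α 2 :=
      (Cfsg.Agent.S0675.result (by rw [hα]; norm_num) _).resolve_left hG0
    have h42' : 42 ∣ Nat.card (G ⊓ alternatingGroup α : Subgroup (Equiv.Perm α)) := by
      obtain ⟨m, hm, hmd⟩ := Deg7.exists_dvd_card_of_multTrans _ 2 (by omega) h2t0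
      rw [hα] at hm
      have h75 : 7 - 2 = 5 := rfl
      rw [h75, hfact5, hfact7] at hm
      have : m = 42 := by omega
      rwa [this] at hmd
    have h84 : 84 ∣ Nat.card G := by
      rw [hcard2]
      exact Nat.mul_dvd_mul h42' (dvd_refl 2)
    rcases arith_even h5040 hN hn7mod hd26 h210 h84 with h | h
    · apply hA
      apply Deg7.alternatingGroup_le_of_index_three (by omega)
      rw [h] at hidx
      omega
    · apply hA
      have h1 : G.index = 1 := by
        rw [h] at hidx
        omega
      rw [Subgroup.index_eq_one.mp h1]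
      exact le_top
  have h168 : Nat.card G = 168 ∧ d = 3 := by
    rcases hd_cases with h1 | h2 | h3 | h6
    · exfalso
      have hNleP : Subgroup.normalizer ((P : Subgroup G) : Set G) ≤ (P : Subgroup G) :=
        Subgroup.subgroupOf_eq_top.mp (Subgroup.index_eq_one.mp h1)
      haveI : IsCyclic (P : Subgroup G) := isCyclic_of_prime_card hPcard
      have hNP : Subgroup.normalizer ((P : Subgroup G) : Set G) ≤
          Subgroup.centralizer ((P : Subgroup G) : Set G) := by
        intro g hg
        have hgP := hNleP hg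
        rw [Subgroup.mem_centralizer_iff]
        intro h hh
        have := mul_comm' (⟨h, hh⟩ : (P : Subgroup G)) ⟨g, hgP⟩
        exact congrArg Subtype.val this
      have hcompl := MonoidHom.ker_transferSylow_isComplement' P hNP
      have hnd : ¬ 7 ∣ Nat.card (MonoidHom.transferSylow P hNP).ker :=
        MonoidHom.not_dvd_card_ker_transferSylow P hNP
      have hKbot : (MonoidHom.transferSylow P hNP).ker = ⊥ := by
        by_contra hne
        exact hnd (Cfsg.Agent.Helper17.prime_dvd_card_normal hα _ hne)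
      have hcardG : Nat.card G = 7 := by
        have := hcompl.card_mul_card
        rw [hKbot, Subgroup.card_bot, one_mul, hPcard] at this
        exact this.symm
      apply hG
      haveI : IsCyclic G := isCyclic_of_prime_card hcardG
      exact Group.isSolvable_of_comm (fun a b => mul_comm' a b)
    · exact absurd (Or.inl h2) heven_case
    · refine ⟨?_, h3⟩
      rw [h3] at hN
      rcases arith_three h5040 hN hn7mod h42 with h | h
      · exact h
      · exfalso
        apply hA
        apply Equiv.Perm.alternatingGroup_le_of_index_le_two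
        rw [h] at hidx
        omega
    · exact absurd (Or.inr h6) heven_case
  obtain ⟨hcard, hd3⟩ := h168
  refine ⟨hcard, ?_⟩
  apply Cfsg.Agent.S1013.result hα G P
  · rw [hcard, hd3] at hN
    show 1 < n7
    omega
  · rw [← hd, hd3]
    norm_num

end Cfsg.Agent.S0678
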