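import Mathlib
import Cfsg.Statements.S0547
import Cfsg.Agent.Helper10.SolvMinNormal
import Cfsg.Agent.Helper10.Primitive

set_option autoImplicit false
open Cfsg

open Subgroup
open Cfsg.Agent

namespace Cfsg.Agent.S0547


/-- Let a finite solvable group G act faithfully and primitively on a set, and let M be a minimal normal subgroup of G. Then M is transitive with trivial point stabilizers, and the number of points equals the order of M, which is a prime power p ^ d with d ≥ 1. -/
theorem result {G : Type*} [Group G] [Finite G] [Group.IsSolvable G] {Ω : Type*} [Nonempty Ω] [MulAction G Ω] [FaithfulSMul G Ω] (hprim : MulAction.IsPreprimitive G Ω) (M : Subgroup G) [M.Normal] (hM : M ≠ ⊥) (hmin : ∀ K : Subgroup G, K.Normal → K ≤ M → K = ⊥ ∨ K = M) : MulAction.IsPretransitive M Ω ∧ (∀ ω : Ω, MulAction.stabilizer M ω = ⊥) ∧ ∃ p d : ℕ, p.Prime ∧ 0 < d ∧ Nat.card Ω = p ^ d ∧ Nat.card M = p ^ d := by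
  have htr := Helper10.pretransitive_of_normal_of_faithful hprim M hM
  have hab := Helper10.minNormal_commutative_of_solvable M hM hmin
  have hstab := fun ω => Helper10.stabilizer_eq_bot_of_abelian_transitive (Ω := Ω) M hab ω
  refine ⟨htr, hstab, ?_⟩
  obtain ⟨p, hp, _, d, hd, hcard⟩ := Helper10.minNormal_elementary_of_solvable M hM hmin
  refine ⟨p, d, hp, hd, ?_, hcard⟩
  obtain ⟨ω⟩ := (inferInstance : Nonempty Ω)
  have h1 := MulAction.index_stabilizer_of_transitive (G := M) (x := ω)
  rw [hstab ω, Subgroup.index_bot, hcard] at h1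
  exact h1.symm

end Cfsg.Agent.S0547
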