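import Mathlib
import Cfsg.Statements.S0548
import Cfsg.Agent.Helper10.SolvMinNormal
import Cfsg.Agent.Helper10.Primitive

set_option autoImplicit false
open Cfsg

open Subgroup
open Cfsg.Agent

namespace Cfsg.Agent.S0548


/-- Let a finite solvable group G act faithfully and primitively on a set, let M be a minimal normal subgroup and H the stabilizer of a point. Then H is a complement to M, no non-identity element of H centralizes M, and the only subgroups of M normalized by H are the trivial subgroup and M. -/
theorem result {G : Type*} [Group G] [Finite G] [Group.IsSolvable G] {Ω : Type*} [MulAction G Ω] [FaithfulSMul G Ω] (hprim : MulAction.IsPreprimitive G Ω) (M : Subgroup G) [M.Normal] (hM : M ≠ ⊥) (hmin : ∀ K : Subgroup G, K.Normal → K ≤ M → K = ⊥ ∨ K = M) (ω : Ω) : Subgroup.IsComplement' M (MulAction.stabilizer G ω) ∧ MulAction.stabilizer G ω ⊓ Subgroup.centralizer (M : Set G) = ⊥ ∧ ∀ K : Subgroup G, K ≤ M → MulAction.stabilizer G ω ≤ Subgroup.normalizer (K : Set G) → K = ⊥ ∨ K = M := by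
  have htr := Helper10.pretransitive_of_normal_of_faithful hprim M hM
  have hab := Helper10.minNormal_commutative_of_solvable M hM hmin
  have hstab := fun ω => Helper10.stabilizer_eq_bot_of_abelian_transitive (Ω := Ω) M hab ω
  have hcompl : Subgroup.IsComplement' M (MulAction.stabilizer G ω) := by
    apply Subgroup.isComplement'_stabilizer
    · intro m hm
      have : m ∈ MulAction.stabilizer M ω := hm
      rw [hstab ω, Subgroup.mem_bot] at this
      exact this
    · intro g
      exact MulAction.exists_smul_eq M (g • ω) ω
  refine ⟨hcompl, ?_, ?_⟩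
  · rw [eq_bot_iff]
    rintro h ⟨hh1, hh2⟩
    rw [Subgroup.mem_bot]
    apply FaithfulSMul.eq_of_smul_eq_smul (α := Ω)
    intro ω'
    obtain ⟨n, rfl⟩ := MulAction.exists_smul_eq M ω ω'
    rw [one_smul]
    change h • ((n : G) • ω) = (n : G) • ω
    rw [← mul_smul, ← Subgroup.mem_centralizer_iff.mp hh2 n n.2, mul_smul]
    congr 1
  · intro K hKM hKH
    have hKn : K.Normal := by
      rw [← Subgroup.normalizer_eq_top_iff, eq_top_iff, ← hcompl.sup_eq_top]
      apply sup_le _ hKH
      refine le_trans ?_ (Subgroup.centralizer_le_normalizer _)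
      intro m hm
      rw [Subgroup.mem_centralizer_iff]
      intro k hk
      exact hab k (hKM hk) m hm
    exact hmin K hKn hKM

end Cfsg.Agent.S0548
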