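import Mathlib
import Cfsg.Statements.S2472
import Cfsg.Agent.Helper38.SpAdj
import Cfsg.Agent.Helper38.SpBlock
import Cfsg.Agent.Helper99.SympBilin
import Cfsg.Agent.Helper5.SpCard
import Cfsg.Agent.S0246

set_option autoImplicit false
open Cfsg

namespace Cfsg.Agent.S2472

open Matrix Module Cfsg.Agent.Helper38

section general

/-- elements of order prime to the order of the centre keep their order modulo the centre -/
theorem orderOf_mk_of_coprime_center {G : Type*} [Group G] [Finite G] (X : G)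
    (hcop : Nat.Coprime (orderOf X) (Nat.card (Subgroup.center G))) :
    orderOf (QuotientGroup.mk X : G ⧸ Subgroup.center G) = orderOf X := by
  apply Nat.dvd_antisymm
  · exact orderOf_map_dvd (QuotientGroup.mk' (Subgroup.center G)) X
  · have h1 : X ^ orderOf (QuotientGroup.mk X : G ⧸ Subgroup.center G) ∈ Subgroup.center G := by
      rw [← QuotientGroup.eq_one_iff, QuotientGroup.mk_pow]
      exact pow_orderOf_eq_one _
    have h2 : (X ^ orderOf (QuotientGroup.mk X : G ⧸ Subgroup.center G)) ^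
        Nat.card (Subgroup.center G) = 1 := by
      have := pow_card_eq_one' (x := (⟨_, h1⟩ : Subgroup.center G))
      exact congrArg Subtype.val this
    rw [← pow_mul] at h2
    exact hcop.dvd_of_dvd_mul_right (orderOf_dvd_of_pow_eq_one h2)

end general

section sp
variable {F : Type*} [Field F] [Fintype F]

omit [Fintype F] in
theorem sympBilin_nondegenerate (n : ℕ) : (Cfsg.Agent.Helper99.sympBilin n F).Nondegenerate := by
  apply LinearMap.BilinForm.Nondegenerate.ofSeparatingLeft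
  intro u hu
  by_contra hne
  obtain ⟨x, hx⟩ := Cfsg.Agent.Helper13.sympForm_nondeg_left hne
  apply hx
  have h1 := hu x
  rw [Cfsg.Agent.Helper99.sympBilin_apply] at h1
  rw [Cfsg.Agent.Helper13.sympForm_swap, h1, neg_zero]

/-- elements of prime order in `Sp_{2m}(q)` by Cauchy -/
theorem exists_orderOf_sp (m : ℕ) (r : ℕ) [Fact r.Prime] (i : ℕ) (hi1 : 1 ≤ i) (him : i ≤ m)
    (h : r ∣ Fintype.card F ^ (2 * i) - 1) :
    ∃ y : Matrix.symplecticGroup (Fin m) F, orderOf y = r := by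
  apply exists_prime_orderOf_dvd_card' r
  rw [Cfsg.Agent.Helper5.card_sp]
  apply Dvd.dvd.mul_left
  have hmem : i - 1 ∈ Finset.range m := Finset.mem_range.mpr (by omega)
  refine h.trans (Dvd.dvd.trans ?_ (Finset.dvd_prod_of_mem _ hmem))
  rw [show i - 1 + 1 = i by omega]

/-- the order of the centre of `Sp_{2n}(q)` is prime to `r p` -/
theorem coprime_card_center (p : ℕ) [hp : Fact p.Prime] [CharP F p] (n : ℕ) (hn : 1 ≤ n)
    (r : ℕ) (hr : r.Prime) (hr2 : r ≠ 2) :
    Nat.Coprime (r * p) (Nat.card (Subgroup.center (Matrix.symplecticGroup (Fin n) F))) := by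
  rw [Cfsg.Agent.S0246.result rfl n hn]
  have hq : 1 < Fintype.card F := Fintype.one_lt_card
  obtain ⟨f, -, hf⟩ := FiniteField.card F p
  have hpq : p ∣ Fintype.card F := by
    rw [hf]
    exact dvd_pow_self p f.ne_zero
  have hpq1 : ¬ p ∣ Fintype.card F - 1 := by
    intro h
    have := (Nat.dvd_sub hpq h)
    rw [Nat.sub_sub_self (by omega)] at this
    exact hp.out.one_lt.ne' (Nat.dvd_one.mp this)
  apply Nat.Coprime.mul_left
  · exact Nat.Coprime.coprime_dvd_right (Nat.gcd_dvd_left _ _)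
      ((Nat.coprime_primes hr Nat.prime_two).mpr hr2)
  · exact Nat.Coprime.coprime_dvd_right (Nat.gcd_dvd_right _ _)
      ((Nat.Prime.coprime_iff_not_dvd hp.out).mpr hpq1)

/-- existence of elements of order `r p` in `PSp_{2n}(q)` -/
theorem exists_orderOf_psp (p : ℕ) [hp : Fact p.Prime] [CharP F p] (n : ℕ) (hn : 2 ≤ n)
    (r : ℕ) [hr : Fact r.Prime] (hr2 : r ≠ 2) (hrp : r ≠ p) (i : ℕ) (hi1 : 1 ≤ i) (hin : i ≤ n - 1)
    (h : r ∣ Fintype.card F ^ (2 * i) - 1) :
    ∃ x : Cfsg.PSp n F, orderOf x = r * p := by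
  obtain ⟨f, -, hf⟩ := FiniteField.card F p
  have hpq : p ∣ Fintype.card F := by
    rw [hf]
    exact dvd_pow_self p f.ne_zero
  obtain ⟨y, hy⟩ := exists_orderOf_sp (F := F) (n - 1) r i hi1 hin h
  obtain ⟨u, hu⟩ : ∃ u : Matrix.symplecticGroup (Fin 1) F, orderOf u = p := by
    apply exists_prime_orderOf_dvd_card' p
    rw [Cfsg.Agent.Helper5.card_sp]
    apply Dvd.dvd.mul_right
    rw [one_pow, pow_one]
    exact hpq
  set X := spBlock (F := F) (show 1 + (n - 1) = n by omega) (u, y) with hX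
  have hXord : orderOf X = r * p := by
    rw [hX, orderOf_injective _ (spBlock_injective _), Prod.orderOf_mk, hu, hy,
      ((Nat.coprime_primes hp.out hr.out).mpr (Ne.symm hrp)).lcm_eq_mul, mul_comm]
  refine ⟨QuotientGroup.mk X, ?_⟩
  rw [orderOf_mk_of_coprime_center X (by
    rw [hXord]
    exact coprime_card_center p n (by omega) r hr.out hr2), hXord]

/-- non-existence: the bound from an element of order `r p` -/
theorem bound_of_orderOf (p : ℕ) [hp : Fact p.Prime] [CharP F p] (n : ℕ) (hn : 2 ≤ n)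
    (r : ℕ) [hr : Fact r.Prime] (hr2 : r ≠ 2) (hrp : r ≠ p) (x : Cfsg.PSp n F)
    (hx : orderOf x = r * p) :
    (Even (orderOf ((Fintype.card F : ℕ) : ZMod r)) →
      orderOf ((Fintype.card F : ℕ) : ZMod r) + 2 ≤ 2 * n) ∧
    (Odd (orderOf ((Fintype.card F : ℕ) : ZMod r)) →
      2 * orderOf ((Fintype.card F : ℕ) : ZMod r) + 2 ≤ 2 * n) := by
  have hq : 1 < Fintype.card F := Fintype.one_lt_card
  obtain ⟨f, -, hf⟩ := FiniteField.card F p
  have hpq : p ∣ Fintype.card F := by
    rw [hf]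
    exact dvd_pow_self p f.ne_zero
  have hrq : ¬ r ∣ Fintype.card F := by
    rw [hf]
    intro h
    exact hrp ((Nat.prime_dvd_prime_iff_eq hr.out hp.out).mp (hr.out.dvd_of_dvd_pow h))
  have hr0 : (r : F) ≠ 0 := by
    intro h
    have h1 := (CharP.cast_eq_zero_iff F p r).mp h
    exact hrp ((Nat.prime_dvd_prime_iff_eq hp.out hr.out).mp h1).symm
  obtain ⟨X, rfl⟩ := QuotientGroup.mk_surjective x
  set Z := Subgroup.center (Matrix.symplecticGroup (Fin n) F) with hZ
  set m := Nat.card Z with hm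
  have hcop := coprime_card_center (F := F) p n (by omega) r hr.out hr2
  rw [← hZ, ← hm] at hcop
  have hXZ : X ^ (r * p) ∈ Z := by
    rw [← QuotientGroup.eq_one_iff, QuotientGroup.mk_pow, ← hx]
    exact pow_orderOf_eq_one _
  have hX1 : X ^ (r * p * m) = 1 := by
    rw [pow_mul]
    have := pow_card_eq_one' (x := (⟨_, hXZ⟩ : Z))
    exact congrArg Subtype.val this
  have key : ∀ t u : ℕ, t.Prime → t * u = r * p → X ^ (u * m) ≠ 1 := by
    intro t u ht htu h1
    have h2 : (QuotientGroup.mk X : Cfsg.PSp n F) ^ (u * m) = 1 := by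
      rw [← QuotientGroup.mk_pow, h1, QuotientGroup.mk_one]
    have h3 := orderOf_dvd_of_pow_eq_one h2
    rw [hx, ← htu] at h3
    have hu0 : 0 < u := by
      rcases Nat.eq_zero_or_pos u with h | h
      · rw [h, mul_zero] at htu
        have := Nat.mul_pos hr.out.pos hp.out.pos
        omega
      · exact h
    rw [mul_comm t u] at h3
    have h4 : t ∣ m := Nat.dvd_of_mul_dvd_mul_left hu0 h3
    have h5 : t ∣ r * p := ⟨u, htu.symm⟩
    have h6 := Nat.dvd_gcd h5 h4
    rw [hcop.gcd_eq_one] at h6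
    exact ht.one_lt.ne' (Nat.dvd_one.mp h6)
  set g₀ := X ^ (p * m) with hg₀
  set U₀ := X ^ (r * m) with hU₀
  have hg₀r : g₀ ^ r = 1 := by
    rw [hg₀, ← pow_mul, show p * m * r = r * p * m by ring, hX1]
  have hU₀p : U₀ ^ p = 1 := by
    rw [hU₀, ← pow_mul, show r * m * p = r * p * m by ring, hX1]
  have hg₀1 : g₀ ≠ 1 := key r p hr.out rfl
  have hU₀1 : U₀ ≠ 1 := key p r hp.out (mul_comm p r)
  have hcomm : g₀ * U₀ = U₀ * g₀ := by
    rw [hg₀, hU₀, ← pow_add, ← pow_add, add_comm]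
  -- matrices and linear maps
  have : Nonempty (Fin n ⊕ Fin n) := ⟨Sum.inl ⟨0, by omega⟩⟩
  set gM : Matrix (Fin n ⊕ Fin n) (Fin n ⊕ Fin n) F := (g₀ : Matrix (Fin n ⊕ Fin n) (Fin n ⊕ Fin n) F)
    with hgM
  set UM : Matrix (Fin n ⊕ Fin n) (Fin n ⊕ Fin n) F := (U₀ : Matrix (Fin n ⊕ Fin n) (Fin n ⊕ Fin n) F)
    with hUM
  have hgMr : gM ^ r = 1 := by
    rw [hgM, ← SubmonoidClass.coe_pow, hg₀r]
    rfl
  have hUMp : UM ^ p = 1 := by
    rw [hUM, ← SubmonoidClass.coe_pow, hU₀p]
    rfl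
  have hgM1 : gM ≠ 1 := fun h => hg₀1 (Subtype.ext h)
  have hUM1 : UM ≠ 1 := fun h => hU₀1 (Subtype.ext h)
  have hcommM : gM * UM = UM * gM := by
    have := congrArg Subtype.val hcomm
    exact this
  have hUnil : (UM - 1) ^ p = 0 := by
    rw [sub_pow_char_of_commute p (Commute.one_right _), hUMp, one_pow, sub_self]
  have hφ := (Matrix.toLinAlgEquiv' (R := F) (n := Fin n ⊕ Fin n)).injective
  have hiso : ∀ A : Matrix.symplecticGroup (Fin n) F, ∀ u v : Fin n ⊕ Fin n → F,
      Cfsg.Agent.Helper99.sympBilin n F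
        (Matrix.toLinAlgEquiv' (A : Matrix (Fin n ⊕ Fin n) (Fin n ⊕ Fin n) F) u)
        (Matrix.toLinAlgEquiv' (A : Matrix (Fin n ⊕ Fin n) (Fin n ⊕ Fin n) F) v) =
      Cfsg.Agent.Helper99.sympBilin n F u v := by
    intro A u v
    exact Cfsg.Agent.Helper99.sympBilin_toLin A u v
  have hfin : finrank F (Fin n ⊕ Fin n → F) = 2 * n := by
    rw [Module.finrank_fintype_fun_eq_card, Fintype.card_sum, Fintype.card_fin, two_mul]
  have hmain := sp_adjacent_bound (Cfsg.Agent.Helper99.sympBilin n F)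
    Cfsg.Agent.Helper99.sympBilin_isAlt (sympBilin_nondegenerate n)
    (Matrix.toLinAlgEquiv' (R := F) (n := Fin n ⊕ Fin n) gM)
    (Matrix.toLinAlgEquiv' (R := F) (n := Fin n ⊕ Fin n) UM)
    (hiso g₀) (hiso U₀) (by rw [← map_mul, hcommM, map_mul]) r hr2
    (by rw [← map_pow, hgMr, map_one])
    (by
      intro h
      apply hgM1
      apply hφ
      rw [h, map_one])
    hrq hr0
    (by
      intro h
      apply hUM1
      apply hφ
      rw [h, map_one])
    ⟨p, by rw [← map_one (Matrix.toLinAlgEquiv' (R := F) (n := Fin n ⊕ Fin n)), ← map_sub, ← map_pow,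
      hUnil, map_zero]⟩
  rw [hfin] at hmain
  exact hmain

end sp

/-- Adjacency of a prime and the characteristic in the prime graph of PSp(2n,q): let F be a finite field of characteristic p with q elements, n ≥ 2 with PSp(2n,F) simple, and let r ≠ p be an odd prime dividing the order of PSp(2n,F), with k the multiplicative order of q modulo r and η(k) = k for odd k, k/2 for even k. Then PSp(2n,F) has NO element of order r·p if and only if η(k) > n − 1. -/
theorem result {F : Type*} [Field F] [Fintype F] (p : ℕ) [Fact p.Prime] [CharP F p] (n : ℕ) (hn : 2 ≤ n) (hsmall : n = 2 → 3 ≤ Fintype.card F)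
    (r : ℕ) (hr : r.Prime) (hr2 : r ≠ 2) (hrp : r ≠ p) (hrG : r ∣ Nat.card (Cfsg.PSp n F))
    (k ηk : ℕ) (hk : k = orderOf ((Fintype.card F : ℕ) : ZMod r)) (hηk : (Odd k ∧ ηk = k) ∨ (Even k ∧ 2 * ηk = k)) :
    (r * p ∉ Set.range (orderOf : Cfsg.PSp n F → ℕ)) ↔ n - 1 < ηk := by
  have hpp : p.Prime := Fact.out
  have : Fact r.Prime := ⟨hr⟩
  have hq : 1 ≤ Fintype.card F := Fintype.card_pos
  obtain ⟨f, -, hf⟩ := FiniteField.card F p
  have hrq : ¬ r ∣ Fintype.card F := by
    rw [hf]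
    intro h
    exact hrp ((Nat.prime_dvd_prime_iff_eq hr hpp).mp (hr.dvd_of_dvd_pow h))
  have hkpos : 0 < k := by
    rw [hk]
    exact Cfsg.Agent.Helper40.ordq_pos hrq
  constructor
  · intro hno
    by_contra hle
    push Not at hle
    apply hno
    have hη1 : 1 ≤ ηk := by
      rcases hηk with ⟨-, h⟩ | ⟨-, h⟩ <;> omega
    have hdvd : r ∣ Fintype.card F ^ (2 * ηk) - 1 := by
      rw [Cfsg.Agent.Helper40.dvd_pow_sub_one_iff hq, ← hk]
      rcases hηk with ⟨-, h⟩ | ⟨-, h⟩
      · rw [h]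
        exact dvd_mul_left k 2
      · rw [h]
    exact exists_orderOf_psp p n hn r hr2 hrp ηk hη1 hle hdvd
  · rintro hlt ⟨x, hx⟩
    have hb := bound_of_orderOf p n hn r hr2 hrp x hx
    rw [← hk] at hb
    rcases hηk with ⟨hodd, h⟩ | ⟨heven, h⟩
    · have := hb.2 hodd
      omega
    · have := hb.1 heven
      omega

end Cfsg.Agent.S2472
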