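import Mathlib
import Cfsg.Statements.S3103
import Cfsg.Agent.Lib.Cores
import Cfsg.Agent.S0012
import Cfsg.Agent.S4207
import Cfsg.Agent.Helper58.AutGL
import Cfsg.Agent.Helper96.KleinGroup

set_option autoImplicit false
open Cfsg
open scoped commutatorElement

namespace Cfsg.Agent.S3103

section General

variable {Q : Type*} [Group Q]

/-- the action of `Aut Q` on the Frattini quotient -/
noncomputable def frattiniQuotAut : MulAut Q →* MulAut (Q ⧸ frattini Q) where
  toFun α := QuotientGroup.congr (frattini Q) (frattini Q) α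
    (Subgroup.characteristic_iff_map_eq.mp inferInstance α)
  map_one' := by
    ext x
    induction x using QuotientGroup.induction_on with
    | H x => rfl
  map_mul' α β := by
    ext x
    induction x using QuotientGroup.induction_on with
    | H x => rfl

theorem frattiniQuotAut_mk (α : MulAut Q) (x : Q) :
    frattiniQuotAut α (x : Q ⧸ frattini Q) = ((α x : Q) : Q ⧸ frattini Q) := rfl

/-- extending automorphisms by the identity on a second factor -/
def prodAut (V W : Type*) [Group V] [Group W] : MulAut V →* MulAut (V × W) where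
  toFun α := MulEquiv.prodCongr α (MulEquiv.refl W)
  map_one' := by
    ext ⟨v, w⟩ <;> rfl
  map_mul' α β := by
    ext ⟨v, w⟩ <;> rfl

theorem prodAut_injective (V W : Type*) [Group V] [Group W] :
    Function.Injective (prodAut V W) := by
  intro α β h
  ext v
  have := congrArg (fun γ : MulAut (V × W) => (γ (v, 1)).1) h
  exact this

end General

/-- Let X be a finite 2-constrained group with no nontrivial normal subgroup of odd order such that O₂(X) has sectional 2-rank at most 4. Then X/O₂(X) is isomorphic to a subgroup of the alternating group of degree 8. -/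
theorem result {X : Type*} [Group X] [Finite X] (hc : Cfsg.IsPConstrained 2 X) (hO : Cfsg.oddCore X = ⊥)
    (h4 : Cfsg.SectionalPRankLE 2 4 ↥(Cfsg.pCore 2 X)) :
    ∃ f : X ⧸ Cfsg.pCore 2 X →* ↥(alternatingGroup (Fin 8)), Function.Injective f := by
  classical
  have : Fact (Nat.Prime 2) := ⟨Nat.prime_two⟩
  have hQ2 : IsPGroup 2 ↥(Cfsg.pCore 2 X) := Cfsg.Agent.Lib.isPGroup_pCore 2
  -- Step 1: `O_{2',2}(X) = O_2(X)` and the centralizer of `O_2(X)` lies in `O_2(X)`
  have hN : Cfsg.pPrimeCore 2 X = ⊥ := hO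
  have hRQ : Cfsg.pPrimePCore 2 X = Cfsg.pCore 2 X := by
    apply le_antisymm
    · have hn : (Cfsg.pPrimePCore 2 X).Normal := by
        unfold Cfsg.pPrimePCore
        infer_instance
      apply Cfsg.Agent.Lib.le_pCore hn
      unfold Cfsg.pPrimePCore
      apply IsPGroup.comap_of_ker_isPGroup (Cfsg.Agent.Lib.isPGroup_pCore 2)
      rw [QuotientGroup.ker_mk', hN]
      exact IsPGroup.of_bot
    · unfold Cfsg.pPrimePCore
      rw [← Subgroup.map_le_iff_le_comap]
      have hn : ((Cfsg.pCore 2 X).map (QuotientGroup.mk' (Cfsg.pPrimeCore 2 X))).Normal :=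
        Subgroup.Normal.map inferInstance _ (QuotientGroup.mk'_surjective _)
      exact Cfsg.Agent.Lib.le_pCore hn (hQ2.map _)
  have hCQ : Subgroup.centralizer ((Cfsg.pCore 2 X : Subgroup X) : Set X) ≤ Cfsg.pCore 2 X := by
    have hR2 : IsPGroup 2 ↥(Cfsg.pPrimePCore 2 X) := by rw [hRQ]; exact hQ2
    obtain ⟨P⟩ : Nonempty (Sylow 2 ↥(Cfsg.pPrimePCore 2 X)) := inferInstance
    have hPtop : (P : Subgroup ↥(Cfsg.pPrimePCore 2 X)) = ⊤ := by
      have h1 : IsPGroup 2 ↥(⊤ : Subgroup ↥(Cfsg.pPrimePCore 2 X)) := hR2.to_subgroup ⊤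
      exact (P.is_maximal' h1 le_top).symm
    have := hc P
    rw [hPtop, ← MonoidHom.range_eq_map, Subgroup.range_subtype, hRQ] at this
    exact this
  -- Step 2: the Frattini quotient of `O_2(X)`
  obtain ⟨hcomm, hsq⟩ := Cfsg.Agent.S0012.result 2 hQ2
  have hVcomm : ∀ a b : ↥(Cfsg.pCore 2 X) ⧸ frattini ↥(Cfsg.pCore 2 X), a * b = b * a := by
    intro a b
    induction a using QuotientGroup.induction_on with
    | H a =>
      induction b using QuotientGroup.induction_on with
      | H b =>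
        rw [← QuotientGroup.mk_mul, ← QuotientGroup.mk_mul, QuotientGroup.eq]
        apply hcomm
        have : (a * b)⁻¹ * (b * a) = ⁅b⁻¹, a⁻¹⁆ := by
          rw [commutatorElement_def]; group
        rw [this]
        exact Subgroup.commutator_mem_commutator (Subgroup.mem_top _) (Subgroup.mem_top _)
  have hVexp : ∀ a : ↥(Cfsg.pCore 2 X) ⧸ frattini ↥(Cfsg.pCore 2 X), a ^ 2 = 1 := by
    intro a
    induction a using QuotientGroup.induction_on with
    | H a =>
      rw [← QuotientGroup.mk_pow, QuotientGroup.eq_one_iff]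
      exact hsq a
  obtain ⟨e, he⟩ := IsPGroup.exists_card_eq (hQ2.to_quotient (frattini ↥(Cfsg.pCore 2 X)))
  have he4 : e ≤ 4 := by
    have hN' : ((frattini ↥(Cfsg.pCore 2 X)).subgroupOf ⊤).Normal := inferInstance
    have hTcomm : ∀ a b : ↥(⊤ : Subgroup ↥(Cfsg.pCore 2 X)) ⧸
        (frattini ↥(Cfsg.pCore 2 X)).subgroupOf ⊤, a * b = b * a := by
      intro a b
      induction a using QuotientGroup.induction_on with
      | H a =>
        induction b using QuotientGroup.induction_on with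
        | H b =>
          rw [← QuotientGroup.mk_mul, ← QuotientGroup.mk_mul, QuotientGroup.eq,
            Subgroup.mem_subgroupOf]
          apply hcomm
          have : (((a * b)⁻¹ * (b * a) : ↥(⊤ : Subgroup ↥(Cfsg.pCore 2 X))) : ↥(Cfsg.pCore 2 X))
              = ⁅(b : ↥(Cfsg.pCore 2 X))⁻¹, (a : ↥(Cfsg.pCore 2 X))⁻¹⁆ := by
            rw [commutatorElement_def]
            push_cast
            group
          rw [this]
          exact Subgroup.commutator_mem_commutator (Subgroup.mem_top _) (Subgroup.mem_top _)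
    have hTexp : ∀ a : ↥(⊤ : Subgroup ↥(Cfsg.pCore 2 X)) ⧸
        (frattini ↥(Cfsg.pCore 2 X)).subgroupOf ⊤, a ^ 2 = 1 := by
      intro a
      induction a using QuotientGroup.induction_on with
      | H a =>
        rw [← QuotientGroup.mk_pow, QuotientGroup.eq_one_iff, Subgroup.mem_subgroupOf]
        exact hsq (a : ↥(Cfsg.pCore 2 X))
    have hr := h4 ⊤ ((frattini ↥(Cfsg.pCore 2 X)).subgroupOf ⊤) ⊤
      ⟨⟨fun a b => Subtype.ext (hTcomm a.1 b.1)⟩⟩ (fun a _ => hTexp a)
    rw [Subgroup.card_top, ← Subgroup.index_eq_card] at hr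
    have h5 : ((frattini ↥(Cfsg.pCore 2 X)).subgroupOf ⊤).index
        = (frattini ↥(Cfsg.pCore 2 X)).index := Subgroup.relIndex_top_right _
    rw [h5, Subgroup.index_eq_card, he] at hr
    by_contra hlt
    push Not at hlt
    have : 2 ^ 5 ≤ 2 ^ e := Nat.pow_le_pow_right (by norm_num) hlt
    omega
  -- Step 3: the action on the Frattini quotient
  set Ψ : X →* MulAut (↥(Cfsg.pCore 2 X) ⧸ frattini ↥(Cfsg.pCore 2 X)) :=
    frattiniQuotAut.comp (MulAut.conjNormal (H := Cfsg.pCore 2 X)) with hΨ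
  have hΨmk : ∀ (g : X) (x : ↥(Cfsg.pCore 2 X)),
      Ψ g (x : ↥(Cfsg.pCore 2 X) ⧸ frattini ↥(Cfsg.pCore 2 X))
        = ((MulAut.conjNormal g x : ↥(Cfsg.pCore 2 X)) : _ ⧸ frattini ↥(Cfsg.pCore 2 X)) :=
    fun g x => rfl
  -- Step 4: the kernel is `O_2(X)`
  have hQker : Cfsg.pCore 2 X ≤ Ψ.ker := by
    intro q hq
    rw [MonoidHom.mem_ker]
    ext x
    induction x using QuotientGroup.induction_on with
    | H x =>
      rw [hΨmk, MulAut.one_apply, QuotientGroup.eq]
      apply hcomm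
      have : (MulAut.conjNormal q x : ↥(Cfsg.pCore 2 X))⁻¹ * x
          = ⁅(⟨q, hq⟩ : ↥(Cfsg.pCore 2 X)), x⁻¹⁆ := by
        apply Subtype.ext
        rw [commutatorElement_def]
        push_cast
        rw [MulAut.conjNormal_apply]
        group
      rw [this]
      exact Subgroup.commutator_mem_commutator (Subgroup.mem_top _) (Subgroup.mem_top _)
  have hkerQ : Ψ.ker ≤ Cfsg.pCore 2 X := by
    apply Cfsg.Agent.Lib.le_pCore inferInstance
    -- the kernel is a 2-group
    set ρ : ↥Ψ.ker →* MulAut ↥(Cfsg.pCore 2 X) :=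
      (MulAut.conjNormal (H := Cfsg.pCore 2 X)).comp Ψ.ker.subtype with hρ
    have hA : ∀ α ∈ ρ.range, ∀ x : ↥(Cfsg.pCore 2 X),
        α x * x⁻¹ ∈ frattini ↥(Cfsg.pCore 2 X) := by
      rintro α ⟨k, rfl⟩ x
      have hk : Ψ (k : X) = 1 := MonoidHom.mem_ker.mp k.2
      have h1 := hΨmk (k : X) x
      rw [hk, MulAut.one_apply] at h1
      have h2 := (QuotientGroup.eq_iff_div_mem).mp h1.symm
      rw [div_eq_mul_inv] at h2
      exact h2
    obtain ⟨n, hn⟩ := IsPGroup.exists_card_eq hQ2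
    obtain ⟨r, hr⟩ : ∃ r, (frattini ↥(Cfsg.pCore 2 X)).index = 2 ^ r :=
      ⟨e, by rw [Subgroup.index_eq_card]; exact he⟩
    have hdvd := Cfsg.Agent.S4207.result hn hr ρ.range hA
    obtain ⟨j, -, hj⟩ := (Nat.dvd_prime_pow Nat.prime_two).mp hdvd
    have hrange : IsPGroup 2 ↥ρ.range := IsPGroup.of_card hj
    have hker : IsPGroup 2 ↥ρ.ker := by
      intro k
      have hk : ρ (k : ↥Ψ.ker) = 1 := MonoidHom.mem_ker.mp k.2
      have hcen : ((k : ↥Ψ.ker) : X) ∈ Subgroup.centralizer ((Cfsg.pCore 2 X : Subgroup X) : Set X) := by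
        rw [Subgroup.mem_centralizer_iff]
        intro y hy
        have h1 : (MulAut.conjNormal ((k : ↥Ψ.ker) : X) (⟨y, hy⟩ : ↥(Cfsg.pCore 2 X)) : ↥(Cfsg.pCore 2 X))
            = ⟨y, hy⟩ := by
          have : MulAut.conjNormal ((k : ↥Ψ.ker) : X) = (1 : MulAut ↥(Cfsg.pCore 2 X)) := hk
          rw [this, MulAut.one_apply]
        have h2 := congrArg Subtype.val h1
        rw [MulAut.conjNormal_apply] at h2
        -- k y k⁻¹ = y
        have h3 : ((k : ↥Ψ.ker) : X) * y * ((k : ↥Ψ.ker) : X)⁻¹ = y := h2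
        calc y * ((k : ↥Ψ.ker) : X) = (((k : ↥Ψ.ker) : X) * y * ((k : ↥Ψ.ker) : X)⁻¹) * ((k : ↥Ψ.ker) : X) := by
              rw [h3]
          _ = ((k : ↥Ψ.ker) : X) * y := by group
      obtain ⟨m, hm⟩ := hQ2 ⟨((k : ↥Ψ.ker) : X), hCQ hcen⟩
      refine ⟨m, ?_⟩
      apply Subtype.ext
      apply Subtype.ext
      have := congrArg Subtype.val hm
      simpa using this
    have hcomap := IsPGroup.comap_of_ker_isPGroup hrange ρ hker
    have htop : ρ.range.comap ρ = ⊤ := by
      rw [eq_top_iff]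
      intro k _
      exact ⟨k, rfl⟩
    rw [htop] at hcomap
    intro k
    obtain ⟨m, hm⟩ := hcomap ⟨k, Subgroup.mem_top k⟩
    exact ⟨m, congrArg Subtype.val hm⟩
  -- Step 5: the embedding of the quotient
  set Ψ' : X ⧸ Cfsg.pCore 2 X →* MulAut (↥(Cfsg.pCore 2 X) ⧸ frattini ↥(Cfsg.pCore 2 X)) :=
    QuotientGroup.lift (Cfsg.pCore 2 X) Ψ hQker with hΨ'
  have hΨ'inj : Function.Injective Ψ' := by
    rw [injective_iff_map_eq_one]
    intro a ha
    induction a using QuotientGroup.induction_on with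
    | H a =>
      rw [QuotientGroup.eq_one_iff]
      apply hkerQ
      rw [MonoidHom.mem_ker]
      exact ha
  -- Step 6: enlarge to order 16
  let W := Multiplicative (Fin (4 - e) → ZMod 2)
  have hWcard : Nat.card W = 2 ^ (4 - e) := by
    show Nat.card (Multiplicative (Fin (4 - e) → ZMod 2)) = 2 ^ (4 - e)
    rw [Nat.card_eq_fintype_card, Fintype.card_multiplicative, Fintype.card_fun, ZMod.card,
      Fintype.card_fin]
  have hAcard : Nat.card ((↥(Cfsg.pCore 2 X) ⧸ frattini ↥(Cfsg.pCore 2 X)) × W) = 2 ^ 4 := by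
    rw [Nat.card_prod, he, hWcard, ← pow_add]
    congr 1
    omega
  have hAcomm : ∀ a b : (↥(Cfsg.pCore 2 X) ⧸ frattini ↥(Cfsg.pCore 2 X)) × W, a * b = b * a := by
    rintro ⟨a1, a2⟩ ⟨b1, b2⟩
    ext1
    · exact hVcomm a1 b1
    · exact mul_comm a2 b2
  have hAexp : ∀ a : (↥(Cfsg.pCore 2 X) ⧸ frattini ↥(Cfsg.pCore 2 X)) × W, a ^ 2 = 1 := by
    rintro ⟨a1, a2⟩
    ext1
    · exact hVexp a1
    · show a2 ^ 2 = 1
      have : ∀ f : Fin (4 - e) → ZMod 2, (2 : ℕ) • f = 0 := by
        intro f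
        funext i
        show (2 : ℕ) • f i = 0
        rw [two_nsmul]
        exact CharTwo.add_self_eq_zero (f i)
      exact congrArg Multiplicative.ofAdd (this (Multiplicative.toAdd a2))
  obtain ⟨Θ, hΘ⟩ := Cfsg.Agent.Helper58.exists_embedding_GL 2 4 hAcomm hAexp hAcard
  refine ⟨(Cfsg.Agent.Helper96.Klein.glMulEquiv.toMonoidHom).comp
    (Θ.comp ((prodAut _ W).comp Ψ')), ?_⟩
  exact Cfsg.Agent.Helper96.Klein.glMulEquiv.injective.comp
    (hΘ.comp ((prodAut_injective _ W).comp hΨ'inj))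

end Cfsg.Agent.S3103
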