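import Cfsg.Statements.S2530
import Mathlib

set_option autoImplicit false
open Cfsg

namespace Cfsg.Agent.S2530

open Equiv

/-! ### Part 1: abstract coset covering lemma -/

theorem card_le_of_cover {W : Type*} [Group W] (P : Subgroup W) [Finite P] (gen : Set W)
    (hgen : Submonoid.closure gen = ⊤) (m : ℕ) (c : Fin m → W)
    (h1 : ∃ k, ∃ p ∈ P, (1 : W) = p * c k)
    (hstep : ∀ k, ∀ s ∈ gen, ∃ k', ∃ p ∈ P, c k * s = p * c k') :
    Finite W ∧ Nat.card W ≤ Nat.card P * m := by
  have hall : ∀ w : W, ∃ k, ∃ p ∈ P, w = p * c k := by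
    intro w
    have hw : w ∈ Submonoid.closure gen := hgen ▸ Submonoid.mem_top w
    induction hw using Submonoid.closure_induction_right with
    | one => exact h1
    | mul_right y _ s hs ih =>
      obtain ⟨k, p, hp, rfl⟩ := ih
      obtain ⟨k', p', hp', hk'⟩ := hstep k s hs
      exact ⟨k', p * p', P.mul_mem hp hp', by rw [mul_assoc, hk', mul_assoc]⟩
  have hsurj : Function.Surjective (fun x : P × Fin m => (x.1 : W) * c x.2) := by
    intro w
    obtain ⟨k, p, hp, rfl⟩ := hall w
    exact ⟨(⟨p, hp⟩, k), rfl⟩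
  have hfin : Finite W := Finite.of_surjective _ hsurj
  refine ⟨hfin, ?_⟩
  have := Nat.card_le_card_of_surjective _ hsurj
  rwa [Nat.card_prod, Nat.card_fin] at this

/-! ### Part 2: relations in the Coxeter group of type `A` -/

theorem A_apply (n : ℕ) (i j : Fin n) :
    CoxeterMatrix.A n i j = if i = j then 1 else (if (j : ℕ) + 1 = i ∨ (i : ℕ) + 1 = j then 3 else 2) := rfl

/-- from `(ab)^2 = 1` and involutions -/
theorem comm_of_sq {W : Type*} [Group W] (a b : W) (ha : a * a = 1) (hb : b * b = 1)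
    (hab : (a * b) ^ 2 = 1) : a * b = b * a := by
  have h1 : a * b * (a * b) = 1 := by rw [← pow_two]; exact hab
  have hai : a⁻¹ = a := (eq_inv_of_mul_eq_one_right ha).symm
  have hbi : b⁻¹ = b := (eq_inv_of_mul_eq_one_right hb).symm
  have h2 : a * b = (a * b)⁻¹ := eq_inv_of_mul_eq_one_right h1
  rw [h2, mul_inv_rev, hai, hbi]

/-- from `(ab)^3 = 1` and involutions -/
theorem braid_of_cube {W : Type*} [Group W] (a b : W) (ha : a * a = 1) (hb : b * b = 1)
    (hab : (a * b) ^ 3 = 1) : a * b * a = b * a * b := by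
  have hai : a⁻¹ = a := (eq_inv_of_mul_eq_one_right ha).symm
  have hbi : b⁻¹ = b := (eq_inv_of_mul_eq_one_right hb).symm
  have h1 : a * b * a * (b * a * b) = 1 := by
    have : (a * b) ^ 3 = a * b * a * (b * a * b) := by
      rw [pow_succ, pow_two]; group
    rw [← this]; exact hab
  have h2 : a * b * a = (b * a * b)⁻¹ := eq_inv_of_mul_eq_one_left h1
  rw [h2, mul_inv_rev, mul_inv_rev, hai, hbi, mul_assoc]

section step

variable (n : ℕ)

/-- the generators of `W(A_{n+1})`, indexed by naturals (`1` out of range) -/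
noncomputable def sN (j : ℕ) : (CoxeterMatrix.A (n + 1)).Group :=
  if h : j < n + 1 then (CoxeterMatrix.A (n + 1)).simple ⟨j, h⟩ else 1

theorem sN_of_lt {j : ℕ} (h : j < n + 1) : sN n j = (CoxeterMatrix.A (n + 1)).simple ⟨j, h⟩ := by
  simp [sN, h]

theorem sN_of_ge {j : ℕ} (h : n + 1 ≤ j) : sN n j = 1 := by
  simp [sN, Nat.not_lt.mpr h]

theorem sN_mul_self (j : ℕ) : sN n j * sN n j = 1 := by
  by_cases h : j < n + 1
  · rw [sN_of_lt n h]
    exact (CoxeterMatrix.A (n + 1)).toCoxeterSystem.simple_mul_simple_self ⟨j, h⟩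
  · rw [sN_of_ge n (Nat.not_lt.mp h)]; simp

theorem sN_comm {i j : ℕ} (hij : i + 2 ≤ j) : sN n i * sN n j = sN n j * sN n i := by
  by_cases h : j < n + 1
  · have hi : i < n + 1 := by omega
    apply comm_of_sq _ _ (sN_mul_self n i) (sN_mul_self n j)
    rw [sN_of_lt n h, sN_of_lt n hi]
    have := (CoxeterMatrix.A (n + 1)).toCoxeterSystem.simple_mul_simple_pow ⟨i, hi⟩ ⟨j, h⟩
    rw [A_apply] at this
    have h1 : ¬ ((⟨i, hi⟩ : Fin (n + 1)) = ⟨j, h⟩) := by
      intro heq
      have := congrArg Fin.val heq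
      simp at this
      omega
    have h2 : ¬ (((⟨j, h⟩ : Fin (n + 1)) : ℕ) + 1 = ((⟨i, hi⟩ : Fin (n + 1)) : ℕ) ∨
        ((⟨i, hi⟩ : Fin (n + 1)) : ℕ) + 1 = ((⟨j, h⟩ : Fin (n + 1)) : ℕ)) := by
      simp only
      omega
    rw [if_neg h1, if_neg h2] at this
    exact this
  · rw [sN_of_ge n (Nat.not_lt.mp h)]; simp

theorem sN_braid {j : ℕ} (hj : j + 1 < n + 1) :
    sN n j * sN n (j + 1) * sN n j = sN n (j + 1) * sN n j * sN n (j + 1) := by
  have hj' : j < n + 1 := by omega
  apply braid_of_cube _ _ (sN_mul_self n j) (sN_mul_self n (j + 1))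
  rw [sN_of_lt n hj, sN_of_lt n hj']
  have := (CoxeterMatrix.A (n + 1)).toCoxeterSystem.simple_mul_simple_pow ⟨j, hj'⟩ ⟨j + 1, hj⟩
  rw [A_apply] at this
  have h1 : ¬ ((⟨j, hj'⟩ : Fin (n + 1)) = ⟨j + 1, hj⟩) := by
    intro heq
    have := congrArg Fin.val heq
    simp at this
  have h2 : (((⟨j + 1, hj⟩ : Fin (n + 1)) : ℕ) + 1 = ((⟨j, hj'⟩ : Fin (n + 1)) : ℕ) ∨
      ((⟨j, hj'⟩ : Fin (n + 1)) : ℕ) + 1 = ((⟨j + 1, hj⟩ : Fin (n + 1)) : ℕ)) := Or.inr rfl
  rw [if_neg h1, if_pos h2] at this
  exact this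

/-- coset representatives: `d t = s_n s_{n-1} ⋯ s_{n-t+1}` -/
noncomputable def d : ℕ → (CoxeterMatrix.A (n + 1)).Group
  | 0 => 1
  | t + 1 => d t * sN n (n - t)

theorem d_zero : d n 0 = 1 := rfl
theorem d_succ (t : ℕ) : d n (t + 1) = d n t * sN n (n - t) := rfl

theorem comm_d (t j : ℕ) (h : j + t + 1 ≤ n) : sN n j * d n t = d n t * sN n j := by
  induction t with
  | zero => simp [d_zero]
  | succ t ih =>
    rw [d_succ, ← mul_assoc, ih (by omega), mul_assoc, sN_comm n (i := j) (j := n - t) (by omega), mul_assoc]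

theorem shift_d (t j : ℕ) (hj1 : 1 ≤ j) (hjn : j ≤ n) (h : n + 2 ≤ j + t) (ht : t ≤ n + 1) :
    d n t * sN n j = sN n (j - 1) * d n t := by
  induction t with
  | zero => omega
  | succ t ih =>
    rcases Nat.eq_or_lt_of_le h with heq | hlt
    · -- base case: t + 1 = n + 2 - j
      obtain ⟨t', rfl⟩ : ∃ t', t = t' + 1 := ⟨t - 1, by omega⟩
      have e1 : n - (t' + 1) = j - 1 := by omega
      have e2 : n - t' = j := by omega
      rw [d_succ, d_succ, e1, e2]
      have hb := sN_braid n (j := j - 1) (by omega)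
      have e3 : j - 1 + 1 = j := by omega
      rw [e3] at hb
      have hc := comm_d n t' (j - 1) (by omega)
      calc d n t' * sN n j * sN n (j - 1) * sN n j
          = d n t' * (sN n j * sN n (j - 1) * sN n j) := by simp only [mul_assoc]
        _ = d n t' * (sN n (j - 1) * sN n j * sN n (j - 1)) := by rw [hb]
        _ = (d n t' * sN n (j - 1)) * sN n j * sN n (j - 1) := by simp only [mul_assoc]
        _ = (sN n (j - 1) * d n t') * sN n j * sN n (j - 1) := by rw [hc]
        _ = sN n (j - 1) * (d n t' * sN n j * sN n (j - 1)) := by simp only [mul_assoc]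
    · rw [d_succ, mul_assoc, sN_comm n (i := n - t) (j := j) (by omega), ← mul_assoc,
        ih (by omega) (by omega), mul_assoc]

theorem incl_liftable :
    (CoxeterMatrix.A n).IsLiftable (fun i : Fin n => (CoxeterMatrix.A (n + 1)).simple i.castSucc) := by
  intro i j
  have := (CoxeterMatrix.A (n + 1)).toCoxeterSystem.simple_mul_simple_pow i.castSucc j.castSucc
  have hM : CoxeterMatrix.A (n + 1) i.castSucc j.castSucc = CoxeterMatrix.A n i j := by
    rw [A_apply, A_apply]
    simp only [Fin.castSucc_inj, Fin.val_castSucc]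
  rw [hM] at this
  exact this

/-- the inclusion `W(A_n) → W(A_{n+1})` -/
noncomputable def incl : (CoxeterMatrix.A n).Group →* (CoxeterMatrix.A (n + 1)).Group :=
  (CoxeterMatrix.A n).toCoxeterSystem.lift ⟨_, incl_liftable n⟩

theorem incl_simple (i : Fin n) :
    incl n ((CoxeterMatrix.A n).simple i) = (CoxeterMatrix.A (n + 1)).simple i.castSucc :=
  (CoxeterMatrix.A n).toCoxeterSystem.lift_apply_simple (incl_liftable n) i

theorem sN_mem_range {j : ℕ} (hj : j < n) : sN n j ∈ (incl n).range := by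
  refine ⟨(CoxeterMatrix.A n).simple ⟨j, hj⟩, ?_⟩
  rw [incl_simple, sN_of_lt n (by omega)]
  rfl

theorem step (hfin : Finite (CoxeterMatrix.A n).Group)
    (hcard : Nat.card (CoxeterMatrix.A n).Group ≤ (n + 1).factorial) :
    Finite (CoxeterMatrix.A (n + 1)).Group ∧
      Nat.card (CoxeterMatrix.A (n + 1)).Group ≤ (n + 2).factorial := by
  have hPfin : Finite (incl n).range := Finite.of_surjective (incl n).rangeRestrict (incl n).rangeRestrict_surjective
  have hPcard : Nat.card (incl n).range ≤ (n + 1).factorial :=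
    le_trans (Nat.card_le_card_of_surjective _ (incl n).rangeRestrict_surjective) hcard
  have key := card_le_of_cover (incl n).range (Set.range (CoxeterMatrix.A (n + 1)).toCoxeterSystem.simple)
    ((CoxeterMatrix.A (n + 1)).toCoxeterSystem.submonoid_closure_range_simple) (n + 2)
    (fun k => d n k) ⟨0, 1, Subgroup.one_mem _, by simp [d_zero]⟩ (by
      rintro k _ ⟨j, rfl⟩
      have hk : (k : ℕ) ≤ n + 1 := by omega
      have hjn : (j : ℕ) ≤ n := by omega
      have hs : (CoxeterMatrix.A (n + 1)).toCoxeterSystem.simple j = sN n j := by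
        rw [sN_of_lt n j.2]; rfl
      rw [hs]
      rcases Nat.lt_trichotomy ((j : ℕ) + k) n with hlt | heq | hgt
      · -- commuting case
        refine ⟨k, sN n j, sN_mem_range n (by omega), ?_⟩
        exact (comm_d n k j (by omega)).symm
      · -- extends
        refine ⟨⟨k + 1, by omega⟩, 1, Subgroup.one_mem _, ?_⟩
        have : n - (k : ℕ) = j := by omega
        simp only [one_mul]
        rw [d_succ, this]
      · rcases Nat.eq_or_lt_of_le (Nat.succ_le_of_lt hgt) with heq | hlt
        · -- cancels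
          obtain ⟨t, ht⟩ : ∃ t, (k : ℕ) = t + 1 := ⟨k - 1, by omega⟩
          refine ⟨⟨t, by omega⟩, 1, Subgroup.one_mem _, ?_⟩
          have : n - t = j := by omega
          simp only [one_mul]
          rw [ht, d_succ, this, mul_assoc, sN_mul_self, mul_one]
        · refine ⟨k, sN n (j - 1), sN_mem_range n (by omega), ?_⟩
          exact shift_d n k j (by omega) hjn (by omega) hk)
  refine ⟨key.1, le_trans key.2 ?_⟩
  rw [Nat.factorial_succ (n + 1), mul_comm]
  exact Nat.mul_le_mul_left _ hPcard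

end step

theorem card_bound (n : ℕ) : Finite (CoxeterMatrix.A n).Group ∧
    Nat.card (CoxeterMatrix.A n).Group ≤ (n + 1).factorial := by
  induction n with
  | zero =>
    have hsub : Subsingleton (CoxeterMatrix.A 0).Group := by
      have h := (CoxeterMatrix.A 0).toCoxeterSystem.submonoid_closure_range_simple
      have hempty : Set.range (CoxeterMatrix.A 0).toCoxeterSystem.simple = ∅ := Set.range_eq_empty _
      rw [hempty, Submonoid.closure_empty] at h
      constructor
      intro a b
      have ha : a ∈ (⊥ : Submonoid (CoxeterMatrix.A 0).Group) := h ▸ Submonoid.mem_top a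
      have hb : b ∈ (⊥ : Submonoid (CoxeterMatrix.A 0).Group) := h ▸ Submonoid.mem_top b
      rw [Submonoid.mem_bot] at ha hb
      rw [ha, hb]
    refine ⟨inferInstance, ?_⟩
    rw [Nat.card_unique]
    simp
  | succ n ih => exact step n ih.1 ih.2

/-! ### Part 3: the map to the symmetric group -/

theorem swap_liftable (n : ℕ) :
    (CoxeterMatrix.A n).IsLiftable (fun i : Fin n => (swap i.castSucc i.succ : Perm (Fin (n + 1)))) := by
  intro i j
  rw [A_apply]
  by_cases hij : i = j
  · subst hij
    simp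
  rw [if_neg hij]
  by_cases hadj : (j : ℕ) + 1 = i ∨ (i : ℕ) + 1 = j
  · rw [if_pos hadj]
    have h3 : ∀ a b : Fin n, (a : ℕ) + 1 = b →
        ((swap a.castSucc a.succ : Perm (Fin (n + 1))) * swap b.castSucc b.succ) ^ 3 = 1 := by
      intro a b hab
      have e : b.castSucc = a.succ := by
        apply Fin.ext; simp [hab]
      rw [e, swap_comm a.castSucc a.succ]
      have hc : Equiv.Perm.IsThreeCycle (swap a.succ a.castSucc * swap a.succ b.succ) := by
        apply Equiv.Perm.isThreeCycle_swap_mul_swap_same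
        · intro h; have := congrArg Fin.val h; simp at this
        · intro h; have := congrArg Fin.val h; simp at this; omega
        · intro h; have := congrArg Fin.val h; simp at this; omega
      rw [← hc.orderOf]
      exact pow_orderOf_eq_one _
    rcases hadj with h | h
    · have := h3 j i h
      -- (s_j s_i)^3 = 1 → (s_i s_j)^3 = 1
      have hinv : ((swap i.castSucc i.succ : Perm (Fin (n + 1))) * swap j.castSucc j.succ) =
          ((swap j.castSucc j.succ : Perm (Fin (n + 1))) * swap i.castSucc i.succ)⁻¹ := by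
        rw [mul_inv_rev, swap_inv, swap_inv]
      rw [hinv, inv_pow, this, inv_one]
    · exact h3 i j h
  · rw [if_neg hadj]
    push Not at hadj
    have hne : (i : ℕ) ≠ j := fun h => hij (Fin.ext h)
    have hdisj : Equiv.Perm.Disjoint (swap i.castSucc i.succ : Perm (Fin (n + 1))) (swap j.castSucc j.succ) := by
      apply Equiv.Perm.disjoint_swap_swap
      simp only [List.nodup_cons, List.mem_cons, List.not_mem_nil, or_false, not_or, List.nodup_nil,
        and_true, not_false_eq_true]
      refine ⟨⟨?_, ?_, ?_⟩, ⟨?_, ?_⟩, ?_⟩ <;>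
        (intro h; have := congrArg Fin.val h; simp at this <;> omega)
    have hcomm := hdisj.commute.eq
    rw [pow_two, mul_assoc, ← mul_assoc (swap j.castSucc j.succ), ← hcomm]
    simp [mul_assoc]

/-- S_{n+1} is the Coxeter group of type A_n. -/
theorem result (n : ℕ) :
    ∃ cs : CoxeterSystem (CoxeterMatrix.A n) (Equiv.Perm (Fin (n + 1))), ∀ i : Fin n, cs.simple i = Equiv.swap i.castSucc i.succ := by
  let φ : (CoxeterMatrix.A n).Group →* Perm (Fin (n + 1)) :=
    (CoxeterMatrix.A n).toCoxeterSystem.lift ⟨_, swap_liftable n⟩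
  have hφ : ∀ i : Fin n, φ ((CoxeterMatrix.A n).simple i) = swap i.castSucc i.succ := by
    intro i
    rw [← CoxeterMatrix.toCoxeterSystem_simple]
    exact (CoxeterMatrix.A n).toCoxeterSystem.lift_apply_simple (swap_liftable n) i
  have hsurj : Function.Surjective φ := by
    rw [← MonoidHom.mrange_eq_top, eq_top_iff, ← Equiv.Perm.mclosure_swap_castSucc_succ n, Submonoid.closure_le]
    rintro _ ⟨i, rfl⟩
    exact ⟨(CoxeterMatrix.A n).simple i, hφ i⟩
  obtain ⟨hfin, hcard⟩ := card_bound n
  have hbij : Function.Bijective φ := by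
    apply hsurj.bijective_of_nat_card_le
    rw [Nat.card_perm, Nat.card_fin]
    exact hcard
  refine ⟨⟨(MulEquiv.ofBijective φ hbij).symm⟩, ?_⟩
  intro i
  exact hφ i

end Cfsg.Agent.S2530
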