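import Mathlib
import Cfsg.Statements.S4231
import Cfsg.Agent.S2119
import Cfsg.Agent.Helper70.AltAut1
import Cfsg.Agent.Helper70.AltAut2

set_option autoImplicit false
open Cfsg

namespace Cfsg.Agent.S4231

open Equiv Equiv.Perm Cfsg.Agent.Helper70.AltAut

/-- automorphisms of prime power order of `A_n` are induced by permutations (for `n = 6`: odd primes) -/
theorem exists_perm_of_prime_pow (n : ℕ) (hn : 5 ≤ n) (r : ℕ) [hr : Fact r.Prime] (hr6 : n = 6 → r ≠ 2)
    (α : MulAut (alternatingGroup (Fin n))) (hα : ∃ k : ℕ, orderOf α = r ^ k) :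
    ∃ σ : Perm (Fin n), MulAut.conjNormal σ = α := by
  by_cases h6 : n = 6
  · subst h6
    obtain ⟨k, hk⟩ := hα
    have hodd : Odd (orderOf α) := by
      rw [hk]
      exact (hr.out.odd_of_ne_two (hr6 rfl)).pow
    exact exists_conj_of_preserves (by norm_num) α (fun g hg => T1_map_of_odd α hodd g hg)
  · exact (Cfsg.Agent.S2119.result n (by omega) h6).2 α

theorem sylow_comm (n : ℕ) (hn : 5 ≤ n) (G : Subgroup (MulAut (alternatingGroup (Fin n))))
    (r : ℕ) [hr : Fact r.Prime] (hr6 : n = 6 → r ≠ 2) (hnr : n < r ^ 2) (R : Sylow r G) :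
    IsMulCommutative (R : Subgroup G) := by
  let f : Perm (Fin n) →* MulAut (alternatingGroup (Fin n)) := MulAut.conjNormal
  have hf : Function.Injective f := Cfsg.Agent.S2119.conjNormal_injective n (by omega)
  let R' : Subgroup (MulAut (alternatingGroup (Fin n))) := (R : Subgroup G).map G.subtype
  have hR' : IsPGroup r R' := R.isPGroup'.map G.subtype
  let P : Subgroup (Perm (Fin n)) := R'.comap f
  have hP : IsPGroup r P := hR'.comap_of_injective f hf
  refine ⟨⟨fun a b => ?_⟩⟩
  have ha' : (a : G).1 ∈ R' := ⟨a.1, a.2, rfl⟩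
  have hb' : (b : G).1 ∈ R' := ⟨b.1, b.2, rfl⟩
  obtain ⟨ka, hka⟩ := (IsPGroup.iff_orderOf.mp hR') ⟨_, ha'⟩
  obtain ⟨kb, hkb⟩ := (IsPGroup.iff_orderOf.mp hR') ⟨_, hb'⟩
  rw [Subgroup.orderOf_mk] at hka hkb
  obtain ⟨σ, hσ⟩ := exists_perm_of_prime_pow n hn r hr6 (a : G).1 ⟨ka, hka⟩
  obtain ⟨τ, hτ⟩ := exists_perm_of_prime_pow n hn r hr6 (b : G).1 ⟨kb, hkb⟩
  have hσP : σ ∈ P := by show f σ ∈ R'; rw [show f σ = _ from hσ]; exact ha'
  have hτP : τ ∈ P := by show f τ ∈ R'; rw [show f τ = _ from hτ]; exact hb'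
  have hcomm := commute_of_isPGroup P hP (by rw [Fintype.card_fin]; exact hnr) σ τ hσP hτP
  apply Subtype.ext
  apply Subtype.ext
  show (a : G).1 * (b : G).1 = (b : G).1 * (a : G).1
  rw [← hσ, ← hτ, ← map_mul, ← map_mul, hcomm]

/-- Let n ≥ 5 and let G be a group of automorphisms of the alternating group of degree n containing all inner automorphisms. If p ≠ q are primes and G has no element of order pq, then every Sylow p-subgroup of G is abelian or every Sylow q-subgroup of G is abelian. -/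
theorem result (n : ℕ) (hn : 5 ≤ n) (G : Subgroup (MulAut (alternatingGroup (Fin n))))
    (hG : (MulAut.conj : alternatingGroup (Fin n) →* MulAut (alternatingGroup (Fin n))).range ≤ G)
    (p q : ℕ) [Fact p.Prime] [Fact q.Prime] (hpq : p ≠ q) (h : ∀ g : G, orderOf g ≠ p * q) :
    (∀ P : Sylow p G, IsMulCommutative (P : Subgroup G)) ∨ (∀ Q : Sylow q G, IsMulCommutative (Q : Subgroup G)) := by
  have hp : p.Prime := Fact.out
  have hq : q.Prime := Fact.out
  by_contra hcon
  push Not at hcon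
  obtain ⟨⟨P, hP⟩, ⟨Q, hQ⟩⟩ := hcon
  -- an element of `A_n` of order `p q` gives an element of `G` of order `p q`
  have key : ∀ σ : alternatingGroup (Fin n), orderOf σ ≠ p * q := by
    intro σ hσ
    have hmem : MulAut.conj σ ∈ G := hG ⟨σ, rfl⟩
    apply h ⟨MulAut.conj σ, hmem⟩
    rw [← Subgroup.orderOf_coe]
    show orderOf (MulAut.conj σ) = p * q
    have e : (MulAut.conj σ : MulAut (alternatingGroup (Fin n))) =
        MulAut.conjNormal ((σ : Perm (Fin n))) := by
      ext x
      simp [MulAut.conjNormal_apply]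
    rw [e, orderOf_injective _ (Cfsg.Agent.S2119.conjNormal_injective n (by omega)), Subgroup.orderOf_coe, hσ]
  by_cases h6 : n = 6
  · -- one of the primes is odd
    by_cases hp2 : p = 2
    · have hq2 : q ≠ 2 := fun h' => hpq (hp2.trans h'.symm)
      have hq3 : 3 ≤ q := by have := hq.two_le; omega
      exact hQ (sylow_comm n hn G q (fun _ => hq2) (by rw [h6]; nlinarith) Q)
    · have hp3 : 3 ≤ p := by have := hp.two_le; omega
      exact hP (sylow_comm n hn G p (fun _ => hp2) (by rw [h6]; nlinarith) P)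
  · have hpn : p ^ 2 ≤ n := by
      by_contra hlt
      exact hP (sylow_comm n hn G p (fun h' => absurd h' h6) (by omega) P)
    have hqn : q ^ 2 ≤ n := by
      by_contra hlt
      exact hQ (sylow_comm n hn G q (fun h' => absurd h' h6) (by omega) Q)
    rcases Nat.lt_or_gt_of_ne hpq with hlt | hlt
    · obtain ⟨σ, hσ⟩ := exists_alt_orderOf_eq n p q hp hq hlt hqn
      exact key σ hσ
    · obtain ⟨σ, hσ⟩ := exists_alt_orderOf_eq n q p hq hp hlt hpn
      exact key σ (by rw [hσ, mul_comm])

end Cfsg.Agent.S4231
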