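import Cfsg.Statements.S0096
import Cfsg.Agent.Helper2.ClassTwo

set_option autoImplicit false
open Cfsg

namespace Cfsg.Agent.S0096

open scoped commutatorElement

/-- In a group of class at most two and `p` odd, the set of elements with `x ^ p = 1` is closed
under multiplication. -/
theorem pow_eq_one_of_mem_closure {P : Type*} [Group P] {p : ℕ} (hpp : p.Prime) (hp : p ≠ 2)
    (h2 : ⁅commutator P, (⊤ : Subgroup P)⁆ = ⊥) (g : P)
    (hg : g ∈ Subgroup.closure {x : P | x ^ p = 1}) : g ^ p = 1 := by
  induction hg using Subgroup.closure_induction with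
  | mem x hx => exact hx
  | one => exact one_pow p
  | mul x y _ _ hx hy =>
    have hcp : ⁅y, x⁆ ^ p = 1 := by
      rw [← Cfsg.Agent.Helper2.commutatorElement_pow_of_class_two h2 x y p, hy]
      simp
    rw [Cfsg.Agent.Helper2.mul_pow_prime_of_class_two hpp hp h2 x y hcp, hx, hy, one_mul]
  | inv x _ hx => rw [inv_pow, hx, inv_one]

/-- For odd p, in a p-group of class at most two the elements of order dividing p generate a subgroup of exponent dividing p. -/
theorem result {P : Type*} [Group P] [Finite P] {p : ℕ} [Fact p.Prime] (hp : p ≠ 2) (hP : IsPGroup p P) (h2 : ⁅commutator P, (⊤ : Subgroup P)⁆ = ⊥) (g : P) (hg : g ∈ Subgroup.closure {x : P | x ^ p = 1}) : g ^ p = 1 :=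
  pow_eq_one_of_mem_closure Fact.out hp h2 g hg

end Cfsg.Agent.S0096
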