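import Cfsg.Statements.S1302
import Cfsg.Agent.Helper54.SCN

set_option autoImplicit false
open Cfsg

namespace Cfsg.Agent.S1302

open Cfsg.Agent.Helper54

/-- Lifting the hypothesis "every element of order `p` of `C(A)` lies in `A`" through a surjection
with kernel of order prime to `p`. -/
theorem mem_map_of_orderOf_eq {G : Type*} [Group G] [Finite G] {p : ℕ} [hp : Fact p.Prime]
    {H : Type*} [Group H]
    (π : G →* H) (hπ : Function.Surjective π) (hker : (Nat.card π.ker).Coprime p)
    (A : Subgroup G) (hAp : IsPGroup p A)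
    (hΩ : ∀ x ∈ Subgroup.centralizer (A : Set G), orderOf x = p → x ∈ A)
    (x : H) (hxp : orderOf x = p) (hx : x ∈ Subgroup.centralizer ((A.map π : Subgroup H) : Set H)) :
    x ∈ A.map π := by
  have hxp' : x ^ p = 1 := by rw [← hxp]; exact pow_orderOf_eq_one x
  have hx1 : x ≠ 1 := by
    intro h
    rw [h, orderOf_one] at hxp
    exact hp.out.one_lt.ne hxp
  obtain ⟨g₀, rfl⟩ := hπ x
  obtain ⟨g, hg, hgx⟩ := exists_mem_centralizer_map_eq π hker A hAp g₀ hx
  obtain ⟨k, l, hkl, ⟨j, hj⟩, hcop⟩ := Cfsg.Agent.Helper65.exists_pow_decomp g (orderOf_pos g) p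
  have h1 : π (g ^ l) = 1 := by
    have h2 : orderOf (π (g ^ l)) ∣ orderOf (g ^ l) := orderOf_map_dvd π _
    have h3 : orderOf (π (g ^ l)) ∣ p := by
      apply orderOf_dvd_of_pow_eq_one
      rw [map_pow, ← pow_mul, mul_comm, pow_mul, hgx, hxp', one_pow]
    have h4 : orderOf (π (g ^ l)) = 1 :=
      Nat.eq_one_of_dvd_coprimes hcop h2 h3
    exact orderOf_eq_one_iff.mp h4
  have hu : π (g ^ k) = π g₀ := by
    rw [← hgx]
    conv_rhs => rw [← hkl]
    rw [map_mul, h1, mul_one]
  have hup : (g ^ k) ^ p = 1 := by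
    have h2 : (g ^ k) ^ p ∈ π.ker := by
      rw [MonoidHom.mem_ker, map_pow, hu, hxp']
    have h3 : (orderOf ((g ^ k) ^ p)).Coprime p := orderOf_coprime_of_mem hker h2
    have h4 : orderOf ((g ^ k) ^ p) ∣ p ^ j := by
      rw [← hj]; exact orderOf_pow_dvd p
    have h5 : orderOf ((g ^ k) ^ p) = 1 :=
      Nat.eq_one_of_dvd_coprimes (Nat.Coprime.pow_right j h3) dvd_rfl h4
    exact orderOf_eq_one_iff.mp h5
  have hu1 : g ^ k ≠ 1 := by
    intro h
    rw [h, map_one] at hu
    exact hx1 hu.symm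
  have hord : orderOf (g ^ k) = p := orderOf_eq_prime hup hu1
  have huA : g ^ k ∈ Subgroup.centralizer (A : Set G) := Subgroup.pow_mem _ hg k
  rw [← hu]
  exact Subgroup.mem_map_of_mem _ (hΩ _ huA hord)

/-- Let X be a finite p-constrained group, p an odd prime, and A an abelian p-subgroup of X containing every element of order p of C_X(A). Then every subgroup of X of order prime to p that is normalized by A lies in O_{p'}(X). -/
theorem result {X : Type*} [Group X] [Finite X] (p : ℕ) [Fact p.Prime] (hp : p ≠ 2) (hX : Cfsg.IsPConstrained p X) (A : Subgroup X) (hA : IsMulCommutative ↥A) (hAp : IsPGroup p ↥A) (hΩ : ∀ x ∈ Subgroup.centralizer (A : Set X), orderOf x = p → x ∈ A) (Q : Subgroup X) (hQ : ¬ p ∣ Nat.card ↥Q) (hAQ : A ≤ Subgroup.normalizer (Q : Set X)) : Q ≤ Cfsg.pPrimeCore p X := by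
  have hpp : p.Prime := Fact.out
  have hKc : (Nat.card (pPrimeCore p X)).Coprime p := Cfsg.Agent.Lib.card_pPrimeCore_coprime p
  have hker : (QuotientGroup.mk' (pPrimeCore p X)).ker = pPrimeCore p X := QuotientGroup.ker_mk' _
  have hXbar : CharP p (X ⧸ pPrimeCore p X) := isPConstrained_iff_charP.mp hX
  have hQc : (Nat.card Q).Coprime p := ((Nat.Prime.coprime_iff_not_dvd hpp).mpr hQ).symm
  set π := QuotientGroup.mk' (pPrimeCore p X) with hπ
  have hKbar : (Nat.card (Q.map π)).Coprime p :=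
    Nat.Coprime.coprime_dvd_left (Subgroup.card_map_dvd Q π) hQc
  have hnorm : A.map π ≤ Subgroup.normalizer ((Q.map π : Subgroup _) : Set _) := by
    rintro _ ⟨a, ha, rfl⟩
    rw [Subgroup.mem_normalizer_iff]
    have key : ∀ b ∈ A, ∀ y ∈ Q.map π, π b * y * (π b)⁻¹ ∈ Q.map π := by
      rintro b hb _ ⟨q, hq, rfl⟩
      refine ⟨b * q * b⁻¹, (Subgroup.mem_normalizer_iff.mp (hAQ hb) q).mp hq, ?_⟩
      simp only [map_mul, map_inv]
    intro y
    constructor
    · exact key a ha y
    · intro hy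
      have := key a⁻¹ (A.inv_mem ha) _ hy
      simpa [mul_assoc] using this
  have hbot := eq_bot_of_charP_of_invariant p hp hXbar (A.map π) (Q.map π) (hAp.map π)
    (fun x hx hxp => mem_map_of_orderOf_eq π (QuotientGroup.mk'_surjective _)
      (by rw [hker]; exact hKc) A hAp hΩ x hxp hx) hKbar hnorm
  have := (Subgroup.map_eq_bot_iff Q).mp hbot
  rwa [hker] at this

end Cfsg.Agent.S1302
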