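import Cfsg.Statements.S1902
import Cfsg.Agent.S1302
import Cfsg.Agent.Helper11.PSolvable
import Cfsg.Agent.Helper11.Basic
import Cfsg.Agent.Helper53.PGroup

set_option autoImplicit false
open Cfsg

namespace Cfsg.Agent.S1902

open Cfsg.Agent.Helper54

/-- `p`-solvable groups are `p`-constrained. -/
theorem isPConstrained_of_isPSolvable {G : Type*} [Group G] [Finite G] {p : ℕ} [Fact p.Prime]
    (hG : Cfsg.IsPSolvable p G) : Cfsg.IsPConstrained p G := by
  rw [isPConstrained_iff_charP]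
  exact ⟨pPrimeCore_quotient_eq_bot,
    Cfsg.Agent.Helper11.centralizer_pCore_le_of_isPSolvable
      (Cfsg.Agent.Helper11.isPSolvable_quotient _ hG) pPrimeCore_quotient_eq_bot⟩

/-- If `B = Ω₁(P)` is elementary abelian for a Sylow `p`-subgroup `P` of `C_G(b₀)`, `b₀ ∈ B`, then `B`
contains every element of order `p` of its centralizer. -/
theorem mem_of_centralizes {G : Type*} [Group G] [Finite G] {p : ℕ} [Fact p.Prime]
    (B : Subgroup G) (hB : Cfsg.IsElementaryAbelian p B)
    (b₀ : G) (hb₀ : b₀ ∈ B) (C : Subgroup G) (hC : C = Subgroup.centralizer ({b₀} : Set G))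
    (P : Sylow p ↥C)
    (hBP : B = Subgroup.closure {x : G | x ∈ ((P : Subgroup ↥C).map C.subtype : Subgroup G) ∧
      orderOf x = p})
    (x : G) (hx : x ∈ Subgroup.centralizer (B : Set G)) (hxp : orderOf x = p) : x ∈ B := by
  set S : Set G := {x : G | x ∈ ((P : Subgroup ↥C).map C.subtype : Subgroup G) ∧ orderOf x = p}
    with hS
  have hSB : S ⊆ B := by rw [hBP]; exact Subgroup.subset_closure (G := G)
  have hxp' : x ^ p = 1 := by rw [← hxp]; exact pow_orderOf_eq_one x
  have hxB : ∀ a ∈ B, a * x = x * a := Subgroup.mem_centralizer_iff.mp hx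
  have hT := Cfsg.Agent.Helper11.elAb_adjoin p B hB x hxp' hxB
  set T := Subgroup.closure ((B : Set G) ∪ {x}) with hTdef
  have hBT : B ≤ T := fun a ha => Subgroup.subset_closure (Or.inl ha)
  have hxT : x ∈ T := Subgroup.subset_closure (Or.inr rfl)
  have hTC : T ≤ C := by
    intro t ht
    rw [hC, Subgroup.mem_centralizer_iff]
    intro b hb
    rw [Set.mem_singleton_iff] at hb
    rw [hb]
    exact Cfsg.Agent.Lib.isElementaryAbelian_commute hT (hBT hb₀) ht
  have hTp0 : IsPGroup p T := Cfsg.Agent.Lib.isElementaryAbelian_isPGroup hT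
  have hTp : IsPGroup p (T.subgroupOf C) := hTp0.comap_subtype
  obtain ⟨P', hP'⟩ := hTp.exists_le_sylow
  obtain ⟨c, hc⟩ := MulAction.exists_smul_eq ↥C P P'
  have hmem : ∀ u : G, ∀ hu : u ∈ T, orderOf u = p → (c : G)⁻¹ * u * c ∈ S := by
    intro u hu hup
    have h1 : (⟨u, hTC hu⟩ : ↥C) ∈ (P' : Subgroup ↥C) := hP' (Subgroup.mem_subgroupOf.mpr hu)
    rw [← hc, Cfsg.Agent.Helper65.mem_smul_sylow_iff] at h1
    refine ⟨⟨_, h1, rfl⟩, ?_⟩
    have := (MulAut.conj (c : G)⁻¹).orderOf_eq u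
    rw [MulAut.conj_apply, inv_inv] at this
    rw [this, hup]
  have hle : B.map (MulAut.conj (c : G)⁻¹).toMonoidHom ≤ B := by
    rw [Subgroup.map_le_iff_le_comap]
    conv_lhs => rw [hBP]
    rw [Subgroup.closure_le]
    intro y hy0
    have hy : y ∈ S := hy0
    have := hmem y (hBT (hSB hy)) hy.2
    show (MulAut.conj (c : G)⁻¹) y ∈ B
    rw [MulAut.conj_apply, inv_inv]
    exact hSB this
  have heq : B.map (MulAut.conj (c : G)⁻¹).toMonoidHom = B := by
    apply Subgroup.eq_of_le_of_card_ge hle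
    rw [Nat.card_congr (B.equivMapOfInjective (MulAut.conj (c : G)⁻¹).toMonoidHom
      (MulAut.conj (c : G)⁻¹).injective).toEquiv]
  have hxS := hSB (hmem x hxT hxp)
  rw [← heq] at hxS
  obtain ⟨b, hb, hbx⟩ := hxS
  have : (MulAut.conj (c : G)⁻¹) b = (MulAut.conj (c : G)⁻¹) x := by
    rw [MulAut.conj_apply (c : G)⁻¹ x, inv_inv]; exact hbx
  rw [← (MulAut.conj (c : G)⁻¹).injective this]
  exact hb

/-- Let p be an odd prime, G a finite p-solvable group, and B an elementary abelian subgroup of order p² such that B is the subgroup generated by the elements of order p of some Sylow p-subgroup of C_G(b₀), for some nontrivial b₀ ∈ B. Then every B-invariant subgroup of G of order prime to p lies in O_{p'}(G). -/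
theorem result {G : Type*} [Group G] [Finite G] {p : ℕ} [Fact p.Prime] (hp : p ≠ 2)
    (hG : Cfsg.IsPSolvable p G) (B : Subgroup G) (hB : Cfsg.IsElementaryAbelian p B) (hBc : Nat.card B = p ^ 2)
    (b₀ : G) (hb₀ : b₀ ∈ B) (hb₁ : b₀ ≠ 1) (P : Sylow p ↥(Subgroup.centralizer ({b₀} : Set G)))
    (hBP : B = Subgroup.closure {x : G | x ∈ ((P : Subgroup ↥(Subgroup.centralizer ({b₀} : Set G))).map
      (Subgroup.centralizer ({b₀} : Set G)).subtype : Subgroup G) ∧ orderOf x = p})
    (Q : Subgroup G) (hQ : ¬ p ∣ Nat.card Q) (hinv : ∀ b ∈ B, ∀ x ∈ Q, b * x * b⁻¹ ∈ Q) :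
    Q ≤ Cfsg.pPrimeCore p G :=
  Cfsg.Agent.S1302.result p hp (isPConstrained_of_isPSolvable hG) B hB.1
    (Cfsg.Agent.Lib.isElementaryAbelian_isPGroup hB)
    (fun x hx hxp => mem_of_centralizes B hB b₀ hb₀ _ rfl P hBP x hx hxp) Q hQ
    (Cfsg.Agent.Helper53.le_normalizer_of_conj_mem B Q hinv)

end Cfsg.Agent.S1902
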