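import Cfsg.Statements.S1998
import Cfsg.Agent.Helper33.MinTransfer

set_option autoImplicit false
universe u
open Cfsg

namespace Cfsg.Agent.S1998

/-- Let p be a prime, G a finite group with Sylow p-subgroup S, and 𝓦 a nonempty set of isomorphism-invariant p-group functors (W assigns to every group Q a subgroup W(Q), nontrivial whenever Q is a nontrivial finite p-group, and every isomorphism from a finite p-group Q onto a group R carries W(Q) onto W(R)). Suppose the induced conjugacy functors control transfer in every section of G other than G itself, but not in G. Let T be the subgroup generated by the S ∩ (N_G(W(S)))', W ∈ 𝓦, and M = N_G(T ∩ O_p(G)). Then: C_G(O_p(G)) ≤ O_p(G); M is a proper subgroup of G containing every proper subgroup of G that contains S (the unique maximal subgroup over S); [O_p(G), M] ≤ O_p(G) ∩ M' ≤ O_p(G) ∩ T; and every element u of S outside O_p(G) satisfies [X, u, …, u] ≰ Y with p − 1 entries u, for some chief factor X/Y of G with X ≤ O_p(G).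 -/
theorem result {G : Type u} [Group G] [Finite G] {p : ℕ} [Fact p.Prime] (S : Sylow p G) (𝓦 : Set (∀ (Q : Type u) [Group Q], Subgroup Q)) (h𝓦 : ∀ W ∈ 𝓦, Cfsg.IsCharPFunctor.{u} p W) (hne : 𝓦.Nonempty) (hsec : ∀ (K R : Subgroup G) [hR : (R.subgroupOf K).Normal], (K = ⊤ → R ≠ ⊥) → Cfsg.FamilyControlsTransferIn p ((fun W => Cfsg.inducedFunctor (G := (↥K ⧸ R.subgroupOf K)) W) '' 𝓦) ⊤) (hG : ¬ Cfsg.FamilyControlsTransferIn p ((fun W => Cfsg.inducedFunctor (G := G) W) '' 𝓦) ⊤) (T M : Subgroup G) (hT : T = (⨆ W ∈ 𝓦, (S : Subgroup G) ⊓ ⁅Subgroup.normalizer ((Cfsg.inducedFunctor (G := G) W (S : Subgroup G) : Subgroup G) : Set G), Subgroup.normalizer ((Cfsg.inducedFunctor (G := G) W (S : Subgroup G) : Subgroup G) : Set G)⁆)) (hM : M = Subgroup.normalizer ((T ⊓ Cfsg.pCore p G : Subgroup G) : Set G)) : Subgroup.centralizer ((Cfsg.pCore p G : Subgroup G) : Set G) ≤ Cfsg.pCore p G ∧ (M ≠ ⊤ ∧ ∀ H : Subgroup G, (S : Subgroup G) ≤ H → H ≠ ⊤ → H ≤ M) ∧ (⁅Cfsg.pCore p G, M⁆ ≤ Cfsg.pCore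 p G ⊓ ⁅M, M⁆ ∧ Cfsg.pCore p G ⊓ ⁅M, M⁆ ≤ Cfsg.pCore p G ⊓ T) ∧ ∀ u : G, u ∈ (S : Subgroup G) → u ∉ Cfsg.pCore p G → ∃ U V : Subgroup G, Cfsg.IsChiefFactor U V ∧ U ≤ Cfsg.pCore p G ∧ ¬ Cfsg.iterCommutator U (Subgroup.zpowers u) (p - 1) ≤ V := by
  classical
  have hcon : Helper33.Constrained p G := by
    by_contra hcon
    apply hG
    apply Helper33.familyControlsTransfer_of_constrained_sections h𝓦 _ G rfl
    intro K R hR hfin hconKR
    by_cases h : K = ⊤ → R ≠ ⊥
    · exact hsec K R h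
    · push Not at h
      obtain ⟨rfl, rfl⟩ := h
      exact absurd (hconKR.of_equiv (Helper33.sectionTopBot G)) hcon
  have hΦ : Helper33.IsoInvariant (fun (X : Type u) [Group X] => Finite X → Nat.card X < Nat.card G →
      Cfsg.FamilyControlsTransferIn p (Helper33.FamW 𝓦 X) ⊤) := by
    intro X Y _ _ φ h hY hlt
    have hX : Finite X := Finite.of_equiv Y φ.symm.toEquiv
    have hc : Nat.card X = Nat.card Y := Nat.card_congr φ.toEquiv
    have h1 := Helper33.familyControlsTransferIn_range h𝓦 φ.toMonoidHom φ.injective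
      (h hX (hc ▸ hlt))
    have h2 : φ.toMonoidHom.range = ⊤ := MonoidHom.range_eq_top.mpr φ.surjective
    rwa [h2] at h1
  have hSP : Helper33.SectionProp (fun (X : Type u) [Group X] => Finite X →
      Nat.card X < Nat.card G → Cfsg.FamilyControlsTransferIn p (Helper33.FamW 𝓦 X) ⊤) G := by
    intro K R hR hfin hlt
    by_cases h : K = ⊤ → R ≠ ⊥
    · exact hsec K R h
    · push Not at h
      obtain ⟨rfl, rfl⟩ := h
      exfalso
      rw [Nat.card_congr (Helper33.sectionTopBot G).toEquiv] at hlt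
      exact lt_irrefl _ hlt
  have hsub : ∀ H : Subgroup G, H ≠ ⊤ →
      Cfsg.FamilyControlsTransferIn p (Helper33.FamW 𝓦 ↥H) ⊤ := by
    intro H hH
    have hlt : Nat.card H < Nat.card G := by
      have := Helper33.card_lt_card_of_lt' (lt_top_iff_ne_top.mpr hH)
      rwa [Subgroup.card_top] at this
    exact (hSP.subgroup hΦ H).self hΦ inferInstance hlt
  have hquo : ∀ N : Subgroup G, [N.Normal] → N ≠ ⊥ →
      Cfsg.FamilyControlsTransferIn p (Helper33.FamW 𝓦 (G ⧸ N)) ⊤ := by
    intro N _ hN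
    have hlt : Nat.card (G ⧸ N) < Nat.card G := by
      have h1 := Subgroup.card_eq_card_quotient_mul_card_subgroup N
      have h2 : 1 < Nat.card N := (Subgroup.one_lt_card_iff_ne_bot N).mpr hN
      have h3 : 0 < Nat.card (G ⧸ N) := Nat.card_pos
      rw [h1]
      nlinarith
    exact (hSP.quotient hΦ N).self hΦ inferInstance hlt
  have hT' : T = Helper33.focalTarget (Helper33.FamW 𝓦 G) (S : Subgroup G) := by
    rw [hT]
    unfold Helper33.focalTarget Helper33.FamW
    rw [iSup_image]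
  obtain ⟨h2, h3, h4⟩ := Helper33.min_failure_structure h𝓦 hne S hsub hquo hG hcon T M hT' hM
  exact ⟨hcon, h2, h3, h4⟩

end Cfsg.Agent.S1998
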