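import Cfsg.Statements.S1952
import Cfsg.Agent.Helper54.Wreath
import Cfsg.Agent.Lib.Cores

set_option autoImplicit false
set_option linter.style.haveILetI false
open Cfsg

namespace Cfsg.Agent.S1952

open Cfsg.Agent.Helper54
open scoped IsMulCommutative

/-- the `p`-part of `(p ^ 2)!` is `p ^ (p + 1)` -/
theorem factorization_factorial_sq (p : ℕ) [hp : Fact p.Prime] :
    (Nat.factorial (p ^ 2)).factorization p = p + 1 := by
  rw [Nat.factorization_def _ hp.out, pow_two, padicValNat_factorial_mul]
  have h1 : padicValNat p (Nat.factorial p) = 1 := by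
    have := padicValNat_factorial_mul (p := p) 1
    rw [mul_one] at this
    rw [this]
    simp
  rw [h1, add_comm]

/-- Let P be a finite p-group with a normal elementary abelian subgroup A of index p, x ∈ A and y ∉ A such that the product of the conjugates y^{-i} x y^{i} over 0 ≤ i < p is not the identity. Then P has a quotient isomorphic to the wreath product Z_p ≀ Z_p, i.e. P maps onto a Sylow p-subgroup of the symmetric group of degree p². -/
theorem result {P : Type*} [Group P] [Finite P] {p : ℕ} [Fact p.Prime] (hP : IsPGroup p P) (A : Subgroup P) [A.Normal]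
    (hA : Cfsg.IsElementaryAbelian p A) (hidx : A.index = p) (x y : P) (hx : x ∈ A) (hy : y ∉ A)
    (hprod : ((List.range p).map (fun i => (y ^ i)⁻¹ * x * y ^ i)).prod ≠ 1) :
    ∃ (Q : Sylow p (Equiv.Perm (Fin (p ^ 2)))) (f : P →* ↥(Q : Subgroup (Equiv.Perm (Fin (p ^ 2))))), Function.Surjective f := by
  classical
  have hpp : p.Prime := Fact.out
  haveI : IsMulCommutative ↥A := hA.1
  have hA' : ∀ a : ↥A, a ^ p = 1 := fun a => Subtype.ext (by simpa using hA.2 a a.2)
  -- conjugation by `y⁻¹` on `A`
  let s : ↥A →* ↥A := (MulAut.conjNormal y⁻¹ : MulAut ↥A).toMonoidHom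
  have hs_val : ∀ a : ↥A, ((s a : ↥A) : P) = y⁻¹ * a * y := by
    intro a
    show ((MulAut.conjNormal y⁻¹ : MulAut ↥A) a : P) = _
    rw [MulAut.conjNormal_apply, inv_inv]
  have hsk_val : ∀ (k : ℕ) (a : ↥A), ((s^[k] a : ↥A) : P) = (y ^ k)⁻¹ * a * y ^ k := by
    intro k
    induction k with
    | zero => intro a; simp
    | succ k ih =>
      intro a
      rw [Function.iterate_succ_apply', hs_val, ih, pow_succ]
      group
  let xA : ↥A := ⟨x, hx⟩
  -- the norm element
  have hprodA : ∀ k : ℕ, ((∏ i ∈ Finset.range k, s^[i] xA : ↥A) : P) =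
      ((List.range k).map (fun i => (y ^ i)⁻¹ * x * y ^ i)).prod := by
    intro k
    induction k with
    | zero => simp
    | succ k ih =>
      rw [Finset.prod_range_succ, Subgroup.coe_mul, ih, List.range_succ, List.map_append,
        List.prod_append, hsk_val]
      simp [xA]
  have hnA : (∏ i ∈ Finset.range p, s^[i] xA : ↥A) ≠ 1 := by
    intro h
    apply hprod
    rw [← hprodA p, h]; rfl
  obtain ⟨B₀, hnB, hBidx⟩ := exists_index_prime_notMem (p := p) hA' hnA
  set B : Subgroup P := B₀.map A.subtype with hB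
  have hBA : B ≤ A := by
    rintro _ ⟨b, _, rfl⟩
    exact b.2
  have hBindex : B.index = p ^ 2 := by
    rw [hB, Subgroup.index_map_subtype, hBidx, hidx, pow_two]
  set C : Subgroup P := B.normalCore with hC
  have hCB : C ≤ B := Subgroup.normalCore_le B
  have hCn : C.Normal := Subgroup.normalCore_normal B
  -- the bound `p ^ p * |C| ≤ |A|`
  have hsp : ∀ a : ↥A, s^[p] a = a := by
    intro a
    apply Subtype.ext
    rw [hsk_val]
    have hyp : y ^ p ∈ A := by
      have := Subgroup.pow_index_mem A y
      rwa [hidx] at this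
    have hcomm := Cfsg.Agent.Lib.isElementaryAbelian_commute hA hyp a.2
    rw [mul_assoc, ← hcomm, inv_mul_cancel_left]
  have key := card_ge_of_prod_notMem (p := p) hA' s hsp (C.subgroupOf A)
    (by
      intro c hc
      rw [Subgroup.mem_subgroupOf] at hc ⊢
      rw [hs_val]
      have := hCn.conj_mem _ hc y⁻¹
      rwa [inv_inv] at this)
    xA
    (by
      intro h
      apply hnB
      rw [Subgroup.mem_subgroupOf] at h
      have h2 := hCB h
      obtain ⟨b, hb, hbe⟩ := h2
      have : b = ∏ i ∈ Finset.range p, s^[i] xA := Subtype.ext hbe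
      rwa [← this])
  have hcardC : Nat.card (C.subgroupOf A) = Nat.card C := by
    have hCA : C ≤ A := hCB.trans hBA
    exact Nat.card_congr (Subgroup.subgroupOfEquivOfLe hCA).toEquiv
  rw [hcardC] at key
  -- the coset action
  let φ : P →* Equiv.Perm (P ⧸ B) := MulAction.toPermHom P (P ⧸ B)
  have hker : φ.ker = C := (Subgroup.normalCore_eq_ker B).symm
  have hcardQ : Nat.card (P ⧸ B) = p ^ 2 := by
    rw [← hBindex]; rfl
  let e : (P ⧸ B) ≃ Fin (p ^ 2) := (Finite.equivFin (P ⧸ B)).trans (finCongr hcardQ)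
  let f₀ : P →* Equiv.Perm (Fin (p ^ 2)) := (e.permCongrHom.toMonoidHom).comp φ
  have hker₀ : f₀.ker = C := by
    rw [← hker]
    ext g
    rw [MonoidHom.mem_ker, MonoidHom.mem_ker]
    show e.permCongrHom (φ g) = 1 ↔ φ g = 1
    exact EmbeddingLike.map_eq_one_iff
  have hrange : Nat.card f₀.range = C.index := by
    rw [← hker₀, Subgroup.index_ker]
  -- `|range| ≥ p ^ (p + 1)`
  have hge : p ^ (p + 1) ≤ Nat.card f₀.range := by
    rw [hrange]
    have h1 : C.index * Nat.card C = Nat.card P := C.index_mul_card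
    have h2 : A.index * Nat.card A = Nat.card P := A.index_mul_card
    rw [hidx] at h2
    have hCpos : 0 < Nat.card C := Nat.card_pos
    have h3 : p ^ (p + 1) * Nat.card C ≤ C.index * Nat.card C := by
      rw [h1, ← h2, pow_succ, mul_comm (p ^ p) p, mul_assoc]
      exact Nat.mul_le_mul_left _ key
    exact Nat.le_of_mul_le_mul_right h3 hCpos
  -- `range` is a `p`-group, so of order `p ^ (p + 1)` exactly
  have hHp : IsPGroup p f₀.range := IsPGroup.of_surjective hP f₀.rangeRestrict f₀.rangeRestrict_surjective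
  obtain ⟨k, hk⟩ := IsPGroup.iff_card.mp hHp
  have hcardS : Nat.card (Equiv.Perm (Fin (p ^ 2))) = Nat.factorial (p ^ 2) := by
    rw [Nat.card_perm, Nat.card_eq_fintype_card, Fintype.card_fin]
  have hk1 : k ≤ p + 1 := by
    have h1 : p ^ k ∣ Nat.factorial (p ^ 2) := by
      rw [← hk, ← hcardS]; exact Subgroup.card_subgroup_dvd_card _
    have h2 := (hpp.pow_dvd_iff_le_factorization (Nat.factorial_ne_zero _)).mp h1
    rwa [factorization_factorial_sq] at h2
  have hk2 : p + 1 ≤ k := by
    rw [hk] at hge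
    exact (Nat.pow_le_pow_iff_right hpp.one_lt).mp hge
  have hcardH : Nat.card f₀.range =
      p ^ (Nat.card (Equiv.Perm (Fin (p ^ 2)))).factorization p := by
    rw [hcardS, factorization_factorial_sq, hk, le_antisymm hk1 hk2]
  refine ⟨Sylow.ofCard f₀.range hcardH, f₀.codRestrict _ (fun g => ⟨g, rfl⟩), ?_⟩
  rintro ⟨q, g, rfl⟩
  exact ⟨g, rfl⟩

end Cfsg.Agent.S1952
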