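import Cfsg.Statements.S5225
import Cfsg.Agent.Helper88.YoshidaF

set_option autoImplicit false
set_option linter.style.haveILetI false
open Cfsg

namespace Cfsg.Agent.S5225

open Cfsg.FusionSystem Cfsg.Agent.Helper87 Cfsg.Agent.Helper88.Biset

/-- The maps of the normalizer system of `S` are maps of the system. -/
theorem focal_normalizer_le {Ω : Type*} [Group Ω] {S : Subgroup Ω} (F : Cfsg.FusionSystem S)
    (N : Cfsg.FusionSystem (Cfsg.FusionSystem.normalizerIn S S)) (hN : F.IsNormalizerSystem S N) :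
    N.focalSubgroup ≤ F.focalSubgroup := by
  unfold focalSubgroup
  apply Subgroup.closure_mono
  rintro y ⟨P, φ, x, hφ, rfl⟩
  rw [hN P] at hφ
  exact ⟨P, φ, x, hφ.1, rfl⟩

/-- An automorphism of `S` in the system is a map of the normalizer system of `S`. -/
theorem aut_mem_normalizerHom {Ω : Type*} [Group Ω] {S : Subgroup Ω} (F : Cfsg.FusionSystem S)
    (α : MulAut ↥S) (hα : α ∈ F.autGroup S) :
    S.subtype.comp (α : ↥S ≃* ↥S).toMonoidHom ∈ F.normalizerHom S S := by
  have hφ : S.subtype.comp (α : ↥S ≃* ↥S).toMonoidHom ∈ F.Hom S := (mem_autGroup_iff F le_rfl α).mp hα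
  have hSN : S ≤ normalizerIn S S := le_inf le_rfl Subgroup.le_normalizer
  have hle : S ⊔ S ≤ S := sup_le le_rfl le_rfl
  refine ⟨hφ, hSN, fun x => hSN (α x).2, _, restrict_mem F hφ hle, fun x => rfl, ?_⟩
  ext y
  constructor
  · rintro ⟨z, -, rfl⟩
    exact (α (Subgroup.inclusion hle z)).2
  · intro hy
    refine ⟨Subgroup.inclusion le_sup_left (α⁻¹ ⟨y, hy⟩), ?_, ?_⟩
    · show ((Subgroup.inclusion le_sup_left (α⁻¹ ⟨y, hy⟩) : ↥(S ⊔ S)) : Ω) ∈ S
      exact (α⁻¹ ⟨y, hy⟩).2
    · show ((α (Subgroup.inclusion hle (Subgroup.inclusion le_sup_left (α⁻¹ ⟨y, hy⟩))) : ↥S) : Ω) = y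
      have : Subgroup.inclusion hle (Subgroup.inclusion le_sup_left (α⁻¹ ⟨y, hy⟩)) = α⁻¹ ⟨y, hy⟩ :=
        Subtype.ext rfl
      rw [this, MulAut.apply_inv_self]

open scoped commutatorElement in
/-- Yoshida's Theorem for fusion systems. Let F be a saturated fusion system over a finite p-group S and N the normalizer fusion system of S in F. If the focal subgroups of F and N differ (N does not control transfer in F), then S has a quotient isomorphic to the wreath product C_p ≀ C_p (realised as a Sylow p-subgroup of the symmetric group of degree p²). -/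
theorem result {Ω : Type*} [Group Ω] {S : Subgroup Ω} [Finite S] (p : ℕ) [Fact p.Prime] (hS : IsPGroup p S) (F : Cfsg.FusionSystem S) (hF : F.IsSaturated p) (N : Cfsg.FusionSystem (Cfsg.FusionSystem.normalizerIn S S)) (hN : F.IsNormalizerSystem S N) (hne : N.focalSubgroup ≠ F.focalSubgroup) : ∃ (W : Sylow p (Equiv.Perm (Fin (p ^ 2)))) (f : ↥S →* ↥(W : Subgroup (Equiv.Perm (Fin (p ^ 2))))), Function.Surjective f := by
  have hNF := focal_normalizer_le F N hN
  have hSN : S ≤ normalizerIn S S := le_inf le_rfl Subgroup.le_normalizer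
  apply yoshida_fusion hS F hF (N.focalSubgroup.subgroupOf S)
  · -- the commutator subgroup
    rw [commutator_def, Subgroup.commutator_le]
    intro a _ b _
    rw [Subgroup.mem_subgroupOf]
    apply Subgroup.subset_closure
    refine ⟨normalizerIn S S, conjHom (normalizerIn S S) (b : Ω), ⟨(a : Ω)⁻¹, hSN (S.inv_mem a.2)⟩,
      N.conj_mem le_rfl (hSN b.2), ?_⟩
    show ((⁅a, b⁆ : ↥S) : Ω) = ((a : Ω)⁻¹)⁻¹ * ((b : Ω) * (a : Ω)⁻¹ * (b : Ω)⁻¹)
    rw [commutatorElement_def]
    simp only [Subgroup.coe_mul, Subgroup.coe_inv]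
    group
  · intro y hy
    rw [Subgroup.mem_subgroupOf] at hy ⊢
    exact hNF hy
  · intro α hα x
    rw [Subgroup.mem_subgroupOf]
    apply Subgroup.subset_closure
    have h1 := aut_mem_normalizerHom F α hα
    rw [← hN S] at h1
    exact ⟨S, _, x, h1, rfl⟩
  · intro hle
    apply hne
    apply le_antisymm hNF
    intro y hy
    have hyS : y ∈ S := focalSubgroup_le F hy
    have : (⟨y, hyS⟩ : ↥S) ∈ N.focalSubgroup.subgroupOf S := hle (Subgroup.mem_subgroupOf.mpr hy)
    exact Subgroup.mem_subgroupOf.mp this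

end Cfsg.Agent.S5225
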