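import Cfsg.Statements.S0496
import Cfsg.Agent.Helper39.SimpOrd.Blk0
import Cfsg.Agent.Helper39.SimpOrd.Blk1
import Cfsg.Agent.Helper39.SimpOrd.Blk2
import Cfsg.Agent.Helper39.SimpOrd.Blk3
import Cfsg.Agent.Helper39.SimpOrd.Blk4
import Cfsg.Agent.Helper39.SimpOrd.Blk5
import Cfsg.Agent.Helper39.SimpOrd.Blk6
import Cfsg.Agent.Helper39.SimpOrd.Blk7
import Cfsg.Agent.Helper39.SimpOrd.Blk8
import Cfsg.Agent.Helper39.SimpOrd.Blk9
import Cfsg.Agent.Helper39.SimpOrd.Blk10

set_option autoImplicit false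
open Cfsg

namespace Cfsg.Agent.S0496

open Cfsg.Agent.Helper39.SimpOrd

/-- A non-abelian finite simple group of order at most 1092 has order 60, 168, 360, 504, 660 or 1092. -/
theorem result {G : Type*} [Group G] [Finite G] [IsSimpleGroup G]
    (hG : ¬ IsMulCommutative G) (h : Nat.card G ≤ 1092) :
    Nat.card G = 60 ∨ Nat.card G = 168 ∨ Nat.card G = 360 ∨ Nat.card G = 504 ∨ Nat.card G = 660 ∨
      Nat.card G = 1092 := by
  have hpos : 0 < Nat.card G := Nat.card_pos
  by_cases h0 : Nat.card G ≤ 100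
  · exact blk0 hG (by omega) h0
  by_cases h1 : Nat.card G ≤ 200
  · exact blk1 hG (by omega) h1
  by_cases h2 : Nat.card G ≤ 300
  · exact blk2 hG (by omega) h2
  by_cases h3 : Nat.card G ≤ 400
  · exact blk3 hG (by omega) h3
  by_cases h4 : Nat.card G ≤ 500
  · exact blk4 hG (by omega) h4
  by_cases h5 : Nat.card G ≤ 600
  · exact blk5 hG (by omega) h5
  by_cases h6 : Nat.card G ≤ 700
  · exact blk6 hG (by omega) h6
  by_cases h7 : Nat.card G ≤ 800
  · exact blk7 hG (by omega) h7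
  by_cases h8 : Nat.card G ≤ 900
  · exact blk8 hG (by omega) h8
  by_cases h9 : Nat.card G ≤ 1000
  · exact blk9 hG (by omega) h9
  exact blk10 hG (by omega) h

end Cfsg.Agent.S0496
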