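import Cfsg.Statements.S0011

set_option autoImplicit false
open Cfsg

namespace Cfsg.Agent.S0011

open Subgroup

/-- If the Frattini quotient of a finite group is nilpotent then the group is nilpotent. -/
theorem result {G : Type*} [Group G] [Finite G]
    (h : Group.IsNilpotent (G ⧸ frattini G)) : Group.IsNilpotent G := by
  have q := (Group.isNilpotent_of_finite_tfae (G := G)).out 0 3
  rw [q]; clear q
  have q' := (Group.isNilpotent_of_finite_tfae (G := G ⧸ frattini G)).out 0 3
  rw [q'] at h; clear q'
  intro p hp P
  have hπ : Function.Surjective (QuotientGroup.mk' (frattini G)) := QuotientGroup.mk'_surjective _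
  have hQ : ((P.mapSurjective hπ : Sylow p (G ⧸ frattini G)) : Subgroup (G ⧸ frattini G)).Normal :=
    h p hp _
  rw [Sylow.coe_mapSurjective] at hQ
  set N : Subgroup G := ((P : Subgroup G).map (QuotientGroup.mk' (frattini G))).comap
    (QuotientGroup.mk' (frattini G)) with hN
  have hNn : N.Normal := hQ.comap _
  have hNeq : N = (P : Subgroup G) ⊔ frattini G := by
    rw [hN, Subgroup.comap_map_eq, QuotientGroup.ker_mk']
  have hPN : (P : Subgroup G) ≤ N := Subgroup.le_comap_map _ _
  have key := Sylow.normalizer_sup_eq_top (P.subtype hPN)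
  rw [Sylow.coe_subtype, Subgroup.subgroupOf_map_subtype, inf_eq_left.mpr hPN, hNeq,
    ← sup_assoc, sup_eq_left.mpr (Subgroup.le_normalizer : (P : Subgroup G) ≤ _)] at key
  exact normalizer_eq_top_iff.mp (frattini_nongenerating key)

end Cfsg.Agent.S0011
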