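import Cfsg.Statements.S4250
import Cfsg.Agent.Helper71.AlperinChain

set_option autoImplicit false
open Cfsg

namespace Cfsg.Agent.S4250

open scoped commutatorElement
open Cfsg.Agent.Helper71 Cfsg.Agent.Helper34

/-- `⁅K, L⁆ ≤ K` when `L` normalizes `K`. -/
theorem commutator_le_left_of_le_normalizer {G : Type*} [Group G] {K L : Subgroup G}
    (hL : L ≤ Subgroup.normalizer (K : Set G)) : ⁅K, L⁆ ≤ K := by
  rw [Subgroup.commutator_le]
  intro a ha l hl
  have h1 : l * a⁻¹ * l⁻¹ ∈ K := (Subgroup.mem_normalizer_iff.mp (hL hl) a⁻¹).mp (K.inv_mem ha)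
  have : ⁅a, l⁆ = a * (l * a⁻¹ * l⁻¹) := by simp only [commutatorElement_def]; group
  rw [this]
  exact K.mul_mem ha h1

/-- Let P be a Sylow p-subgroup of a finite group G. Call an intersection H = P ∩ Q with a Sylow p-subgroup Q tame when N_P(H) and N_Q(H) are Sylow p-subgroups of N_G(H). Then P ∩ G′ is generated by [P, N_G(P)] together with the commutator subgroups [P ∩ Q, ⟨x⟩] for all tame intersections P ∩ Q and all p-elements x of N_G(P ∩ Q). -/
theorem result {G : Type*} [Group G] [Finite G] (p : ℕ) [Fact p.Prime] (P : Sylow p G) :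
    (P : Subgroup G) ⊓ commutator G =
      ⁅(P : Subgroup G), Subgroup.normalizer ((P : Subgroup G) : Set G)⁆ ⊔
        ⨆ (Q : Sylow p G) (_ : (¬ p ∣ ((P : Subgroup G) ⊓ Subgroup.normalizer (((P : Subgroup G) ⊓ (Q : Subgroup G) : Subgroup G) : Set G)).relIndex (Subgroup.normalizer (((P : Subgroup G) ⊓ (Q : Subgroup G) : Subgroup G) : Set G)) ∧ ¬ p ∣ ((Q : Subgroup G) ⊓ Subgroup.normalizer (((P : Subgroup G) ⊓ (Q : Subgroup G) : Subgroup G) : Set G)).relIndex (Subgroup.normalizer (((P : Subgroup G) ⊓ (Q : Subgroup G) : Subgroup G) : Set G))))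
          (x : G) (_ : x ∈ Subgroup.normalizer (((P : Subgroup G) ⊓ (Q : Subgroup G) : Subgroup G) : Set G) ∧ ∃ k : ℕ, orderOf x = p ^ k),
          ⁅(P : Subgroup G) ⊓ (Q : Subgroup G), Subgroup.zpowers x⁆ := by
  have hGtop : ∀ K L : Subgroup G, ⁅K, L⁆ ≤ commutator G := by
    intro K L
    rw [commutator_def]
    exact Subgroup.commutator_mono le_top le_top
  apply le_antisymm
  · -- ≤ : focal subgroup theorem + Alperin
    rw [inf_comm, Subgroup.commutator_inf_eq_focalSubgroup P, Subgroup.focalSubgroup_def,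
      Subgroup.closure_le]
    rintro g ⟨hgP, a, haP, u, rfl⟩
    set R : Subgroup G := ⁅(P : Subgroup G), Subgroup.normalizer ((P : Subgroup G) : Set G)⁆ ⊔
        ⨆ (Q : Sylow p G) (_ : (¬ p ∣ ((P : Subgroup G) ⊓ Subgroup.normalizer (((P : Subgroup G) ⊓ (Q : Subgroup G) : Subgroup G) : Set G)).relIndex (Subgroup.normalizer (((P : Subgroup G) ⊓ (Q : Subgroup G) : Subgroup G) : Set G)) ∧ ¬ p ∣ ((Q : Subgroup G) ⊓ Subgroup.normalizer (((P : Subgroup G) ⊓ (Q : Subgroup G) : Subgroup G) : Set G)).relIndex (Subgroup.normalizer (((P : Subgroup G) ⊓ (Q : Subgroup G) : Subgroup G) : Set G))))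
          (x : G) (_ : x ∈ Subgroup.normalizer (((P : Subgroup G) ⊓ (Q : Subgroup G) : Subgroup G) : Set G) ∧ ∃ k : ℕ, orderOf x = p ^ k),
          ⁅(P : Subgroup G) ⊓ (Q : Subgroup G), Subgroup.zpowers x⁆ with hR
    change ⁅a, u⁆ ∈ R
    have huau : u * a * u⁻¹ ∈ (P : Subgroup G) := by
      have h1 : a⁻¹ * ⁅a, u⁆ ∈ (P : Subgroup G) := mul_mem (inv_mem haP) hgP
      have h2 : (a⁻¹ * ⁅a, u⁆)⁻¹ = u * a * u⁻¹ := by
        simp only [commutatorElement_def]; group
      rw [← h2]
      exact inv_mem h1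
    obtain ⟨n, Q, x, y, hy0, hyn, hysucc, hstep, hmem⟩ :=
      alperin_chain P {a} u⁻¹ (by
        intro b hb
        rw [Set.mem_singleton_iff] at hb
        subst hb
        exact haP) (by
        rintro _ ⟨b, hb, rfl⟩
        rw [Set.mem_singleton_iff] at hb
        subst hb
        have : u⁻¹⁻¹ * b * u⁻¹ = u * b * u⁻¹ := by group
        change u⁻¹⁻¹ * b * u⁻¹ ∈ (P : Subgroup G)
        rw [this]
        exact huau)
    have key : ∀ i : ℕ, i ≤ n → a * ((y i)⁻¹ * a * y i)⁻¹ ∈ R := by
      intro i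
      induction i with
      | zero =>
        intro _
        rw [hy0]
        simp
      | succ i ih =>
        intro hi
        have hi' : i < n := hi
        have ih' := ih hi'.le
        have hb := hmem ⟨i, hi'⟩ a rfl
        have hys := hysucc ⟨i, hi'⟩
        simp only at hb hys
        obtain ⟨hxN, htP, htQ, hcase⟩ := hstep ⟨i, hi'⟩
        set b := (y i)⁻¹ * a * y i with hbdef
        have e : a * ((y (i + 1))⁻¹ * a * y (i + 1))⁻¹ = (a * b⁻¹) * ⁅b, (x ⟨i, hi'⟩)⁻¹⁆ := by
          rw [hys, hbdef]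
          simp only [commutatorElement_def]; group
        rw [e]
        refine R.mul_mem ih' ?_
        rcases hcase with hQP | hpow
        · -- Q i = P
          have hb' : b ∈ (P : Subgroup G) := hb.1
          have hxN' : x ⟨i, hi'⟩ ∈ Subgroup.normalizer ((P : Subgroup G) : Set G) := by
            have : (P : Subgroup G) ⊓ (Q ⟨i, hi'⟩ : Subgroup G) = (P : Subgroup G) := by
              rw [hQP, inf_idem]
            rwa [this] at hxN
          exact Subgroup.mem_sup_left
            (Subgroup.commutator_mem_commutator hb' (Subgroup.inv_mem _ hxN'))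
        · apply Subgroup.mem_sup_right
          have h1 : ⁅b, (x ⟨i, hi'⟩)⁻¹⁆ ∈
              ⁅(P : Subgroup G) ⊓ (Q ⟨i, hi'⟩ : Subgroup G), Subgroup.zpowers (x ⟨i, hi'⟩)⁆ :=
            Subgroup.commutator_mem_commutator hb
              (Subgroup.inv_mem _ (Subgroup.mem_zpowers _))
          refine Subgroup.mem_iSup_of_mem (Q ⟨i, hi'⟩) ?_
          refine Subgroup.mem_iSup_of_mem ⟨htP, htQ⟩ ?_
          refine Subgroup.mem_iSup_of_mem (x ⟨i, hi'⟩) ?_
          exact Subgroup.mem_iSup_of_mem ⟨hxN, hpow⟩ h1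
    have := key n le_rfl
    rw [hyn] at this
    have e : a * (u⁻¹⁻¹ * a * u⁻¹)⁻¹ = ⁅a, u⁆ := by
      simp only [commutatorElement_def]; group
    rwa [e] at this
  · -- ≥
    apply sup_le
    · exact le_inf (commutator_le_left_of_le_normalizer le_rfl) (hGtop _ _)
    · apply iSup_le; intro Q
      apply iSup_le; intro _
      apply iSup_le; intro x
      apply iSup_le; rintro ⟨hx, _⟩
      refine le_inf ?_ (hGtop _ _)
      refine (commutator_le_left_of_le_normalizer ?_).trans inf_le_left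
      rw [Subgroup.zpowers_le]
      exact hx

end Cfsg.Agent.S4250
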