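import Cfsg.Statements.S0625
import Cfsg.Agent.Helper54.SectionAct
import Cfsg.Agent.Helper63.Frattini
import Cfsg.Agent.Helper70.Regular
import Cfsg.Agent.S4176

set_option autoImplicit false
set_option linter.style.haveILetI false
open Cfsg

namespace Cfsg.Agent.S0625

open Cfsg.Agent.Helper54.Quad Cfsg.Agent.Lib

/-- A finite `p`-solvable group (`p ≥ 5`) acts `p`-stably on its normal abelian subgroups of
exponent `p`. -/
theorem isPStableOn_of_isPSolvable {H : Type*} [Group H] [Finite H] {p : ℕ} [Fact p.Prime]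
    (hp5 : 5 ≤ p) (hH : Cfsg.IsPSolvable p H) (V : Subgroup H) [V.Normal]
    (hab : ∀ u ∈ V, ∀ v ∈ V, u * v = v * u) (hexp : ∀ v ∈ V, v ^ p = 1) :
    Cfsg.IsPStableOn p V := by
  intro a ha
  have hcomm : ⁅V, V⁆ ≤ (⊥ : Subgroup H) := by
    rw [Subgroup.commutator_le]
    intro u hu v hv
    rw [Subgroup.mem_bot, commutatorElement_eq_one_iff_commute]
    exact hab u hu v hv
  have hpow : ∀ v ∈ V, v ^ p ∈ (⊥ : Subgroup H) := by
    intro v hv; rw [Subgroup.mem_bot]; exact hexp v hv
  obtain ⟨D, hDn, hCD, ⟨k, hk⟩, haD⟩ :=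
    isPStableOnSection_of_isPSolvable hp5 hH _ V ⊥ bot_le hcomm hpow rfl a (by rw [ha])
  haveI := hDn
  haveI hskn : (Cfsg.sectionKernel V (⊥ : Subgroup H)).Normal := sectionKernel_normal V ⊥
  have hsk : Cfsg.sectionKernel V (⊥ : Subgroup H) ≤ Subgroup.centralizer (V : Set H) := by
    intro g hg
    rw [mem_sectionKernel_iff] at hg
    rw [Subgroup.mem_centralizer_iff]
    intro v hv
    have h1 := hg v hv
    rw [Subgroup.mem_bot] at h1
    have h2 : v * g = g * v := by
      have := inv_mul_eq_one.mp h1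
      exact this
    exact h2
  have hDmap_n : (D.map (QuotientGroup.mk' (Subgroup.centralizer (V : Set H)))).Normal :=
    hDn.map _ (QuotientGroup.mk'_surjective _)
  have hDmap_p : IsPGroup p (D.map (QuotientGroup.mk' (Subgroup.centralizer (V : Set H)))) := by
    rintro ⟨_, ⟨d, hd, rfl⟩⟩
    refine ⟨k, ?_⟩
    apply Subtype.ext
    show (QuotientGroup.mk' (Subgroup.centralizer (V : Set H)) d) ^ p ^ k = 1
    rw [← map_pow, QuotientGroup.mk'_apply, QuotientGroup.eq_one_iff, ← hk]
    exact hsk (pow_relIndex_mem hd)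
  exact le_pCore hDmap_n hDmap_p (Subgroup.mem_map_of_mem _ haD)

/-- `Ω₁` of an abelian subgroup is abelian of exponent `p`. -/
theorem omegaOne_abelian {P : Type*} [Group P] (p : ℕ) (A : Subgroup P)
    (hA : ∀ x ∈ A, ∀ y ∈ A, x * y = y * x) :
    ∀ x ∈ Cfsg.omegaOne p A, x ∈ A ∧ x ^ p = 1 := by
  intro x hx
  unfold Cfsg.omegaOne at hx
  induction hx using Subgroup.closure_induction with
  | mem x hx => exact hx
  | one => exact ⟨A.one_mem, one_pow _⟩
  | mul x y _ _ hx hy =>
    refine ⟨A.mul_mem hx.1 hy.1, ?_⟩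
    have hc : Commute x y := hA x hx.1 y hy.1
    rw [hc.mul_pow, hx.2, hy.2, one_mul]
  | inv x _ hx => exact ⟨A.inv_mem hx.1, by rw [inv_pow, hx.2, inv_one]⟩

/-- A p-separable group with p at least 5 is p-stable in the action sense. -/
theorem result {G : Type*} [Group G] [Finite G] {p : ℕ} [Fact p.Prime] (hp : 5 ≤ p) (hsep : Cfsg.IsPSolvable p G) : Cfsg.IsActionPStable p G := by
  refine ⟨?_, ?_, ?_⟩
  · -- normal elementary abelian subgroups
    intro V _ hV
    obtain ⟨hVc, hVe⟩ := hV
    apply isPStableOn_of_isPSolvable hp hsep V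
    · intro u hu v hv
      have := hVc.is_comm.comm (⟨u, hu⟩ : V) ⟨v, hv⟩
      exact congrArg Subtype.val this
    · exact hVe
  · -- the Frattini quotient of `O_p(G)`
    haveI hKc : (Cfsg.pCore p G).Characteristic := pCore_characteristic p
    haveI hKn : (Cfsg.pCore p G).Normal := Subgroup.normal_of_characteristic _
    have hKp : IsPGroup p (Cfsg.pCore p G) := isPGroup_pCore p
    have hNK : (frattini ↥(Cfsg.pCore p G)).map (Cfsg.pCore p G).subtype ≤ Cfsg.pCore p G := by
      rintro _ ⟨x, -, rfl⟩; exact x.2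
    have hcomm : ⁅Cfsg.pCore p G, Cfsg.pCore p G⁆ ≤
        (frattini ↥(Cfsg.pCore p G)).map (Cfsg.pCore p G).subtype := by
      rw [← Subgroup.map_subtype_commutator]
      exact Subgroup.map_mono (Cfsg.Agent.Helper70.commutator_le_frattini hKp)
    have hpow : ∀ k ∈ Cfsg.pCore p G, k ^ p ∈
        (frattini ↥(Cfsg.pCore p G)).map (Cfsg.pCore p G).subtype := by
      intro k hk
      exact ⟨⟨k, hk⟩ ^ p, Cfsg.Agent.Helper63.pow_prime_mem_frattini hKp ⟨k, hk⟩, rfl⟩
    exact isPStableOnSection_of_isPSolvable hp hsep _ (Cfsg.pCore p G) _ hNK hcomm hpow rfl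
  · -- normal subgroups of `N_G(J(S))` inside `Ω₁(Z(J(S)))`
    intro S V _ hV
    have hH : Cfsg.IsPSolvable p
        ↥(Subgroup.normalizer (Cfsg.thompsonSubgroupOf p (S : Subgroup G) : Set G)) :=
      Cfsg.Agent.S4176.isPSolvable_subgroup _ hsep
    have hΩ := omegaOne_abelian p
      (Cfsg.thompsonSubgroup p ↥(S : Subgroup G) ⊓
        Subgroup.centralizer (Cfsg.thompsonSubgroup p ↥(S : Subgroup G) : Set ↥(S : Subgroup G)))
      (by
        intro x hx y hy
        have h1 := (Subgroup.mem_inf.mp hx).2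
        rw [Subgroup.mem_centralizer_iff] at h1
        exact (h1 y (Subgroup.mem_inf.mp hy).1).symm)
    have hkey : ∀ v ∈ V, ∃ s : ↥(S : Subgroup G), s ∈ Cfsg.omegaCenterThompson p ↥(S : Subgroup G) ∧
        (s : G) = ((v : ↥(Subgroup.normalizer (Cfsg.thompsonSubgroupOf p (S : Subgroup G) : Set G))) : G) := by
      intro v hv
      obtain ⟨s, hs, hsv⟩ := hV (Subgroup.mem_map_of_mem _ hv)
      exact ⟨s, hs, hsv⟩
    apply isPStableOn_of_isPSolvable hp hH V
    · intro u hu v hv
      obtain ⟨s, hs, hsu⟩ := hkey u hu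
      obtain ⟨t, ht, htv⟩ := hkey v hv
      apply Subtype.ext
      push_cast
      rw [← hsu, ← htv]
      have h1 := (hΩ s hs).1
      have h2 := (hΩ t ht).1
      have h3 := (Subgroup.mem_inf.mp h1).2
      rw [Subgroup.mem_centralizer_iff] at h3
      have h4 := h3 t (Subgroup.mem_inf.mp h2).1
      have := congrArg Subtype.val h4
      push_cast at this
      exact this.symm
    · intro v hv
      obtain ⟨s, hs, hsv⟩ := hkey v hv
      apply Subtype.ext
      push_cast
      rw [← hsv]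
      have h1 := (hΩ s hs).2
      have := congrArg Subtype.val h1
      push_cast at this
      exact this

end Cfsg.Agent.S0625
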