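import Cfsg.Statements.S0190
import Mathlib


set_option autoImplicit false
open Cfsg

namespace Cfsg.Agent.S0190

theorem extendByZero_one_apply {G : Type*} [Group G] (H : Subgroup G) [DecidablePred (· ∈ H)] (w : G) :
    extendByZero H (fun _ => (1 : ℂ)) w = if w ∈ H then 1 else 0 := by
  unfold extendByZero
  split_ifs with h
  · have : w = Subtype.val (⟨w, h⟩ : H) := rfl
    rw [this, Subtype.val_injective.extend_apply]
  · rw [Function.extend_apply']
    · rfl
    · rintro ⟨a, ha⟩
      exact h (ha ▸ a.2)

/-- For a transitive action of a finite group on X, the permutation character g ↦ (number of fixed points of g) is the function induced from the principal character of the stabilizer of any point. -/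
theorem result {G : Type*} [Group G] [Fintype G] (X : Type*) [MulAction G X] [Finite X] [MulAction.IsPretransitive G X] (x : X) : (fun g : G => (Nat.card (MulAction.fixedBy X g) : ℂ)) = Cfsg.indFun (MulAction.stabilizer G x) (fun _ => 1) := by
  classical
  have := Fintype.ofFinite X
  funext g
  unfold indFun
  set H := MulAction.stabilizer G x with hH
  have hHpos : (Nat.card H : ℂ) ≠ 0 := by
    exact_mod_cast (Nat.card_pos (α := H)).ne'
  -- fibers of y ↦ y • x have |H| elements
  have hfiber : ∀ z : X, (Finset.univ.filter (fun y : G => y • x = z)).card = Nat.card H := by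
    intro z
    obtain ⟨y0, hy0⟩ := MulAction.exists_smul_eq G x z
    rw [← Nat.card_eq_finsetCard]
    apply Nat.card_congr
    refine ⟨fun y => ⟨y0⁻¹ * y.1, ?_⟩, fun h => ⟨y0 * h.1, ?_⟩, ?_, ?_⟩
    · have hy := y.2
      rw [Finset.mem_filter] at hy
      show y0⁻¹ * y.1 ∈ MulAction.stabilizer G x
      rw [MulAction.mem_stabilizer_iff, mul_smul, hy.2, ← hy0, inv_smul_smul]
    · rw [Finset.mem_filter]
      refine ⟨Finset.mem_univ _, ?_⟩
      have hx : (h : G) • x = x := MulAction.mem_stabilizer_iff.mp h.2
      rw [mul_smul, hx, hy0]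
    · intro y; ext; simp
    · intro h; ext; simp
  -- rewrite the sum
  have hsum : ∑ y : G, extendByZero H (fun _ => (1 : ℂ)) (y⁻¹ * g * y) =
      ∑ y : G, (if g • (y • x) = y • x then (1 : ℂ) else 0) := by
    apply Finset.sum_congr rfl
    intro y _
    rw [extendByZero_one_apply]
    congr 1
    show (y⁻¹ * g * y ∈ MulAction.stabilizer G x) = _
    rw [MulAction.mem_stabilizer_iff, mul_smul, mul_smul, inv_smul_eq_iff]
  rw [hsum, ← Finset.sum_fiberwise (s := Finset.univ) (g := fun y : G => y • x)
    (f := fun y => if g • (y • x) = y • x then (1 : ℂ) else 0)]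
  have h2 : ∀ z : X, ∑ y ∈ Finset.univ.filter (fun y : G => y • x = z),
      (if g • (y • x) = y • x then (1 : ℂ) else 0) =
      (Nat.card H : ℂ) * (if g • z = z then 1 else 0) := by
    intro z
    rw [Finset.sum_congr rfl (g := fun _ => if g • z = z then (1 : ℂ) else 0)]
    · rw [Finset.sum_const, hfiber, nsmul_eq_mul]
    · intro y hy
      rw [Finset.mem_filter] at hy
      rw [hy.2]
  simp_rw [h2]
  rw [← Finset.mul_sum, ← mul_assoc, inv_mul_cancel₀ hHpos, one_mul]
  -- count fixed points
  rw [Finset.sum_boole]
  congr 1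
  rw [← Nat.card_eq_finsetCard]
  apply Nat.card_congr
  refine Equiv.subtypeEquivRight ?_
  intro z
  simp [MulAction.mem_fixedBy]

end Cfsg.Agent.S0190
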