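import Cfsg.Statements.S4251
import Cfsg.Agent.Helper71.AlperinChain
import Cfsg.Agent.Helper78.PNilpotent

set_option autoImplicit false
open Cfsg

namespace Cfsg.Agent.S4251

open Cfsg.Agent.Helper71 Cfsg.Agent.Helper34 Cfsg.Agent.Helper78

/-- Local factorization: if `N/C` is a `p`-group and `S ≤ N` has index prime to `p` in `N`,
then `N = S C`. -/
theorem exists_mul_of_isPGroup_quotient {G : Type*} [Group G] [Finite G] {p : ℕ} [Fact p.Prime]
    (N C S : Subgroup G) [hn : (C.subgroupOf N).Normal]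
    (hpg : IsPGroup p (↥N ⧸ C.subgroupOf N)) (hS : ¬ p ∣ S.relIndex N) {x : G} (hx : x ∈ N) :
    ∃ s ∈ S, ∃ c ∈ C, x = s * c := by
  have hp : p.Prime := Fact.out
  set π := QuotientGroup.mk' (C.subgroupOf N) with hπ
  have hπs : Function.Surjective π := QuotientGroup.mk'_surjective _
  set T := (S.subgroupOf N).map π with hT
  have h1 : T.index ∣ (S.subgroupOf N).index := Subgroup.index_map_dvd _ hπs
  have h2 : T.index ∣ Nat.card (↥N ⧸ C.subgroupOf N) := Subgroup.index_dvd_card T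
  obtain ⟨k, hk⟩ := IsPGroup.iff_card.mp hpg
  rw [hk] at h2
  obtain ⟨j, _, hj⟩ := (Nat.dvd_prime_pow hp).mp h2
  have hj0 : j = 0 := by
    by_contra hne
    apply hS
    have : p ∣ T.index := by
      rw [hj]; exact dvd_pow_self p hne
    exact this.trans h1
  rw [hj0, pow_zero, Subgroup.index_eq_one] at hj
  have hmem : π ⟨x, hx⟩ ∈ T := hj ▸ Subgroup.mem_top _
  obtain ⟨s, hs, hsx⟩ := hmem
  rw [SetLike.mem_coe, Subgroup.mem_subgroupOf] at hs
  have h3 : s⁻¹ * ⟨x, hx⟩ ∈ C.subgroupOf N := by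
    rw [← QuotientGroup.eq]
    exact hsx
  rw [Subgroup.mem_subgroupOf] at h3
  refine ⟨s, hs, _, h3, ?_⟩
  simp

/-- Control of fusion of subsets under the tame-intersection hypothesis. -/
theorem control_of_tame {G : Type*} [Group G] [Finite G] (p : ℕ) [Fact p.Prime] (P : Sylow p G)
    (h : ∀ Q : Sylow p G, (P : Subgroup G) ⊓ (Q : Subgroup G) ≠ ⊥ → (¬ p ∣ ((P : Subgroup G) ⊓ Subgroup.normalizer (((P : Subgroup G) ⊓ (Q : Subgroup G) : Subgroup G) : Set G)).relIndex (Subgroup.normalizer (((P : Subgroup G) ⊓ (Q : Subgroup G) : Subgroup G) : Set G)) ∧ ¬ p ∣ ((Q : Subgroup G) ⊓ Subgroup.normalizer (((P : Subgroup G) ⊓ (Q : Subgroup G) : Subgroup G) : Set G)).relIndex (Subgroup.normalizer (((P : Subgroup G) ⊓ (Q : Subgroup G) : Subgroup G) : Set G))) →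
      IsPGroup p (Subgroup.normalizer (((P : Subgroup G) ⊓ (Q : Subgroup G) : Subgroup G) : Set G) ⧸
        (Subgroup.centralizer (((P : Subgroup G) ⊓ (Q : Subgroup G) : Subgroup G) : Set G)).subgroupOf
          (Subgroup.normalizer (((P : Subgroup G) ⊓ (Q : Subgroup G) : Subgroup G) : Set G))))
    (A : Set G) (hA : A ⊆ (P : Set G)) (g : G)
    (hAg : (fun a => g⁻¹ * a * g) '' A ⊆ (P : Set G)) :
    ∃ s ∈ (P : Subgroup G), ∀ a ∈ A, g⁻¹ * a * g = s⁻¹ * a * s := by
  by_cases htriv : ∀ a ∈ A, a = 1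
  · refine ⟨1, one_mem _, ?_⟩
    intro a ha
    rw [htriv a ha]
    simp
  push Not at htriv
  obtain ⟨a₀, ha₀, ha₀1⟩ := htriv
  obtain ⟨n, Q, x, y, hy0, hyn, hysucc, hstep, hmem⟩ := alperin_chain P A g hA hAg
  have key : ∀ i : ℕ, i ≤ n → ∃ s ∈ (P : Subgroup G), ∀ a ∈ A,
      (y i)⁻¹ * a * y i = s⁻¹ * a * s := by
    intro i
    induction i with
    | zero =>
      intro _
      refine ⟨1, one_mem _, ?_⟩
      intro a _
      rw [hy0]
    | succ i ih =>
      intro hi
      have hi' : i < n := hi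
      obtain ⟨s, hsP, hs⟩ := ih hi'.le
      obtain ⟨hxN, htP, htQ, -⟩ := hstep ⟨i, hi'⟩
      have hys := hysucc ⟨i, hi'⟩
      simp only at hys
      -- the intersection is nontrivial
      have hne : (P : Subgroup G) ⊓ (Q ⟨i, hi'⟩ : Subgroup G) ≠ ⊥ := by
        intro hbot
        have := hmem ⟨i, hi'⟩ a₀ ha₀
        rw [hbot, Subgroup.mem_bot] at this
        apply ha₀1
        have e : a₀ = y i * ((y i)⁻¹ * a₀ * y i) * (y i)⁻¹ := by group
        rw [e, this]; group
      have hpg := h (Q ⟨i, hi'⟩) hne ⟨htP, htQ⟩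
      obtain ⟨t, ht, c, hc, hxtc⟩ := exists_mul_of_isPGroup_quotient _ _ _ hpg htP hxN
      refine ⟨s * t, mul_mem hsP ht.1, ?_⟩
      intro a ha
      have hb := hmem ⟨i, hi'⟩ a ha
      simp only at hb
      -- t⁻¹ b t ∈ P ∩ Q i, so c commutes with it
      have htb : t⁻¹ * ((y i)⁻¹ * a * y i) * t ∈
          (P : Subgroup G) ⊓ (Q ⟨i, hi'⟩ : Subgroup G) := by
        have htinv : t⁻¹ ∈ Subgroup.normalizer
            (((P : Subgroup G) ⊓ (Q ⟨i, hi'⟩ : Subgroup G) : Subgroup G) : Set G) :=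
          inv_mem ht.2
        have := (Subgroup.mem_normalizer_iff.mp htinv _).mp hb
        simpa using this
      have hcomm := (Subgroup.mem_centralizer_iff.mp hc) _ htb
      rw [hys, hxtc]
      have e1 : (y i * (t * c))⁻¹ * a * (y i * (t * c)) =
          c⁻¹ * ((t⁻¹ * ((y i)⁻¹ * a * y i) * t) * c) := by group
      rw [e1, hcomm, hs a ha]
      group
  obtain ⟨s, hsP, hs⟩ := key n le_rfl
  exact ⟨s, hsP, fun a ha => by rw [← hyn]; exact hs a ha⟩

/-- Let P be a Sylow p-subgroup of a finite group G. Call an intersection H = P ∩ Q with a Sylow p-subgroup Q tame when N_P(H) and N_Q(H) are Sylow p-subgroups of N_G(H). If N_G(H)/C_G(H) is a p-group for every nontrivial tame intersection H = P ∩ Q, then G has a normal p-complement. -/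
theorem result {G : Type*} [Group G] [Finite G] (p : ℕ) [Fact p.Prime] (P : Sylow p G)
    (h : ∀ Q : Sylow p G, (P : Subgroup G) ⊓ (Q : Subgroup G) ≠ ⊥ → (¬ p ∣ ((P : Subgroup G) ⊓ Subgroup.normalizer (((P : Subgroup G) ⊓ (Q : Subgroup G) : Subgroup G) : Set G)).relIndex (Subgroup.normalizer (((P : Subgroup G) ⊓ (Q : Subgroup G) : Subgroup G) : Set G)) ∧ ¬ p ∣ ((Q : Subgroup G) ⊓ Subgroup.normalizer (((P : Subgroup G) ⊓ (Q : Subgroup G) : Subgroup G) : Set G)).relIndex (Subgroup.normalizer (((P : Subgroup G) ⊓ (Q : Subgroup G) : Subgroup G) : Set G))) →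
      IsPGroup p (Subgroup.normalizer (((P : Subgroup G) ⊓ (Q : Subgroup G) : Subgroup G) : Set G) ⧸
        (Subgroup.centralizer (((P : Subgroup G) ⊓ (Q : Subgroup G) : Subgroup G) : Set G)).subgroupOf
          (Subgroup.normalizer (((P : Subgroup G) ⊓ (Q : Subgroup G) : Subgroup G) : Set G)))) :
    Cfsg.HasNormalPComplement p G := by
  have hp : p.Prime := Fact.out
  have hF : ∀ Q : Subgroup G, Q ≤ (P : Subgroup G) → ∀ g ∈ Subgroup.normalizer (Q : Set G),
      (orderOf g).Coprime p → g ∈ Subgroup.centralizer (Q : Set G) := by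
    intro Q hQP g hg hcop
    have hAg : (fun a => g⁻¹ * a * g) '' (Q : Set G) ⊆ (P : Set G) := by
      rintro _ ⟨a, ha, rfl⟩
      have hginv : g⁻¹ ∈ Subgroup.normalizer (Q : Set G) := inv_mem hg
      have := (Subgroup.mem_normalizer_iff.mp hginv a).mp ha
      exact hQP (by simpa using this)
    obtain ⟨s, hsP, hs⟩ := control_of_tame p P h (Q : Set G) hQP g hAg
    -- c = g * s⁻¹ centralizes Q
    have hc : ∀ a ∈ Q, (g * s⁻¹) * a = a * (g * s⁻¹) := by
      intro a ha
      have h1 := hs a ha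
      have h2 : a * g = g * (s⁻¹ * a * s) := by rw [← h1]; group
      calc g * s⁻¹ * a = g * (s⁻¹ * a * s) * s⁻¹ := by group
        _ = a * g * s⁻¹ := by rw [← h2]
        _ = a * (g * s⁻¹) := by group
    -- s normalizes Q
    have hsN : ∀ a ∈ Q, s⁻¹ * a * s ∈ Q := by
      intro a ha
      rw [← hs a ha]
      have hginv : g⁻¹ ∈ Subgroup.normalizer (Q : Set G) := inv_mem hg
      have := (Subgroup.mem_normalizer_iff.mp hginv a).mp ha
      simpa using this
    -- powers: g ^ j * s⁻¹ ^ j centralizes Q ... we show (g^j) a (g^j)⁻¹ = (s^j) a (s^j)⁻¹ form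
    have hpow : ∀ j : ℕ, ∀ a ∈ Q, (g ^ j)⁻¹ * a * g ^ j = (s ^ j)⁻¹ * a * s ^ j ∧
        (s ^ j)⁻¹ * a * s ^ j ∈ Q := by
      intro j
      induction j with
      | zero => intro a ha; simpa using ha
      | succ j ih =>
        intro a ha
        obtain ⟨e1, m1⟩ := ih a ha
        have e2 := hs _ m1
        constructor
        · calc (g ^ (j + 1))⁻¹ * a * g ^ (j + 1)
              = g⁻¹ * ((g ^ j)⁻¹ * a * g ^ j) * g := by rw [pow_succ]; group
            _ = g⁻¹ * ((s ^ j)⁻¹ * a * s ^ j) * g := by rw [e1]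
            _ = s⁻¹ * ((s ^ j)⁻¹ * a * s ^ j) * s := e2
            _ = (s ^ (j + 1))⁻¹ * a * s ^ (j + 1) := by rw [pow_succ]; group
        · have := hsN _ m1
          have e3 : (s ^ (j + 1))⁻¹ * a * s ^ (j + 1) = s⁻¹ * ((s ^ j)⁻¹ * a * s ^ j) * s := by
            rw [pow_succ]; group
          rw [e3]; exact this
    -- s has p-power order
    obtain ⟨k, hk⟩ := (P.2 ⟨s, hsP⟩)
    have hsk : s ^ (p ^ k) = 1 := by
      have := congrArg Subtype.val hk
      simpa using this
    -- so g ^ (p ^ k) centralizes Q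
    have hgk : g ^ (p ^ k) ∈ Subgroup.centralizer (Q : Set G) := by
      rw [Subgroup.mem_centralizer_iff]
      intro a ha
      have := (hpow (p ^ k) a ha).1
      rw [hsk] at this
      simp only [inv_one, one_mul, mul_one] at this
      -- this : (g ^ p ^ k)⁻¹ * a * g ^ p ^ k = a
      calc a * g ^ (p ^ k) = g ^ (p ^ k) * ((g ^ (p ^ k))⁻¹ * a * g ^ (p ^ k)) := by group
        _ = g ^ (p ^ k) * a := by rw [this]
    have hcop' : (p ^ k).Coprime (orderOf g) := (Nat.Coprime.pow_right k hcop).symm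
    obtain ⟨m, hm⟩ := exists_pow_eq_self_of_coprime hcop'
    rw [← hm]
    exact pow_mem hgk m
  obtain ⟨N, hNn, hN⟩ := (frobenius_normal_pComplement_iff P).mpr hF
  exact ⟨P, N, hNn, hN⟩

end Cfsg.Agent.S4251
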