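import Cfsg.Statements.S1954
import Cfsg.Agent.Helper52.ControlLift2

set_option autoImplicit false
open Cfsg

namespace Cfsg.Agent.S1954

open Subgroup

variable {G : Type*} [Group G]

/-- membership in a conjugate subgroup -/
theorem mem_map_conj (V : Subgroup G) (x y : G) :
    y ∈ V.map (MulAut.conj x).toMonoidHom ↔ x⁻¹ * y * x ∈ V := by
  rw [mem_map]
  constructor
  · rintro ⟨v, hv, rfl⟩
    have : x⁻¹ * (MulAut.conj x).toMonoidHom v * x = v := by
      simp only [MulEquiv.coe_toMonoidHom, MulAut.conj_apply]; group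
    rwa [this]
  · intro h
    exact ⟨x⁻¹ * y * x, h, by simp [MulAut.conj_apply, mul_assoc]⟩

/-- conjugating a normalizing element -/
theorem conj_mem_normalizer_map_conj (V : Subgroup G) (x h : G) (hh : h ∈ normalizer (V : Set G)) :
    x * h * x⁻¹ ∈ normalizer ((V.map (MulAut.conj x).toMonoidHom : Subgroup G) : Set G) := by
  rw [mem_normalizer_iff]
  intro y
  rw [mem_map_conj, mem_map_conj]
  have h1 := mem_normalizer_iff.mp hh (x⁻¹ * y * x)
  have h2 : x⁻¹ * (x * h * x⁻¹ * y * (x * h * x⁻¹)⁻¹) * x = h * (x⁻¹ * y * x) * h⁻¹ := by group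
  rw [h2]
  exact h1

/-- if conjugation by `g` maps each generating subgroup into `W`, it maps `W` into `W`. -/
theorem conj_mem_closure (T V : Subgroup G) (g : G)
    (hg : ∀ x ∈ normalizer (T : Set G), ∀ v ∈ V.map (MulAut.conj x).toMonoidHom,
      g * v * g⁻¹ ∈ closure (⋃ x ∈ normalizer (T : Set G),
        ((V.map (MulAut.conj x).toMonoidHom : Subgroup G) : Set G))) :
    ∀ w ∈ closure (⋃ x ∈ normalizer (T : Set G),
        ((V.map (MulAut.conj x).toMonoidHom : Subgroup G) : Set G)),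
      g * w * g⁻¹ ∈ closure (⋃ x ∈ normalizer (T : Set G),
        ((V.map (MulAut.conj x).toMonoidHom : Subgroup G) : Set G)) := by
  intro w hw
  induction hw using closure_induction with
  | mem v hv =>
    obtain ⟨x, hx, hvx⟩ := Set.mem_iUnion₂.mp hv
    exact hg x hx v hvx
  | one => simp
  | mul a b _ _ ha hb =>
    have : g * (a * b) * g⁻¹ = (g * a * g⁻¹) * (g * b * g⁻¹) := by group
    rw [this]
    exact mul_mem ha hb
  | inv a _ ha =>
    have : g * a⁻¹ * g⁻¹ = (g * a * g⁻¹)⁻¹ := by group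
    rw [this]
    exact inv_mem ha

theorem mem_normalizer_closure (T V : Subgroup G) (g : G)
    (hg : ∀ x ∈ normalizer (T : Set G), ∀ v ∈ V.map (MulAut.conj x).toMonoidHom,
      g * v * g⁻¹ ∈ closure (⋃ x ∈ normalizer (T : Set G),
        ((V.map (MulAut.conj x).toMonoidHom : Subgroup G) : Set G)))
    (hg' : ∀ x ∈ normalizer (T : Set G), ∀ v ∈ V.map (MulAut.conj x).toMonoidHom,
      g⁻¹ * v * g⁻¹⁻¹ ∈ closure (⋃ x ∈ normalizer (T : Set G),
        ((V.map (MulAut.conj x).toMonoidHom : Subgroup G) : Set G))) :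
    g ∈ normalizer ((closure (⋃ x ∈ normalizer (T : Set G),
        ((V.map (MulAut.conj x).toMonoidHom : Subgroup G) : Set G)) : Subgroup G) : Set G) := by
  rw [mem_normalizer_iff]
  intro w
  constructor
  · exact conj_mem_closure T V g hg w
  · intro hw
    have := conj_mem_closure T V g⁻¹ hg' _ hw
    have h1 : g⁻¹ * (g * w * g⁻¹) * g⁻¹⁻¹ = w := by group
    rwa [h1] at this

/-- control by the normalizer of a conjugate of `V` -/
theorem ctrl_conj (N T V : Subgroup G) [N.Normal]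
    (hctrl : ∀ A : Subgroup G, A ≤ T → ∀ n ∈ N, (∀ a ∈ A, n * a * n⁻¹ ∈ T) →
      ∃ h ∈ N, h ∈ normalizer (V : Set G) ∧ ∃ c ∈ N, c ∈ centralizer (A : Set G) ∧ n = h * c)
    (x : G) (hx : x ∈ normalizer (T : Set G)) :
    ∀ A : Subgroup G, A ≤ T → ∀ n ∈ N, (∀ a ∈ A, n * a * n⁻¹ ∈ T) →
      ∃ h ∈ N, h ∈ normalizer ((V.map (MulAut.conj x).toMonoidHom : Subgroup G) : Set G) ∧
        ∃ c ∈ N, c ∈ centralizer (A : Set G) ∧ n = h * c := by
  intro A hA n hn hnA
  have hxinv : x⁻¹ ∈ normalizer (T : Set G) := inv_mem hx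
  have hA' : A.map (MulAut.conj x⁻¹).toMonoidHom ≤ T := by
    rintro _ ⟨a, ha, rfl⟩
    have := (mem_normalizer_iff.mp hxinv a).mp (hA ha)
    simpa [MulAut.conj_apply] using this
  have hn' : x⁻¹ * n * x ∈ N := by
    have := Normal.conj_mem (inferInstance : N.Normal) n hn x⁻¹
    simpa using this
  have hcond : ∀ a' ∈ A.map (MulAut.conj x⁻¹).toMonoidHom,
      (x⁻¹ * n * x) * a' * (x⁻¹ * n * x)⁻¹ ∈ T := by
    rintro _ ⟨a, ha, rfl⟩
    have h1 := (mem_normalizer_iff.mp hxinv _).mp (hnA a ha)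
    have h2 : (x⁻¹ * n * x) * (MulAut.conj x⁻¹).toMonoidHom a * (x⁻¹ * n * x)⁻¹ =
        x⁻¹ * (n * a * n⁻¹) * x⁻¹⁻¹ := by
      simp only [MulEquiv.coe_toMonoidHom, MulAut.conj_apply]
      group
    rw [h2]; exact h1
  obtain ⟨h', hh'N, hh'V, c', hc'N, hc'A, hnhc⟩ := hctrl _ hA' _ hn' hcond
  refine ⟨x * h' * x⁻¹, Normal.conj_mem inferInstance h' hh'N x,
    conj_mem_normalizer_map_conj V x h' hh'V, x * c' * x⁻¹, Normal.conj_mem inferInstance c' hc'N x, ?_, ?_⟩
  · rw [mem_centralizer_iff]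
    intro a ha
    rw [mem_centralizer_iff] at hc'A
    have h3 := hc'A (x⁻¹ * a * x) ⟨a, ha, by simp [MulAut.conj_apply]⟩
    calc a * (x * c' * x⁻¹) = x * ((x⁻¹ * a * x) * c') * x⁻¹ := by group
      _ = x * (c' * (x⁻¹ * a * x)) * x⁻¹ := by rw [h3]
      _ = x * c' * x⁻¹ * a := by group
  · have : n = x * (x⁻¹ * n * x) * x⁻¹ := by group
    rw [this, hnhc]; group

/-- control by the intersection of the normalizers of finitely many conjugates of `V` -/
theorem ctrl_finset (N T V : Subgroup G) [N.Normal] (hVT : V ≤ T)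
    (hctrl : ∀ A : Subgroup G, A ≤ T → ∀ n ∈ N, (∀ a ∈ A, n * a * n⁻¹ ∈ T) →
      ∃ h ∈ N, h ∈ normalizer (V : Set G) ∧ ∃ c ∈ N, c ∈ centralizer (A : Set G) ∧ n = h * c)
    (s : Finset G) (hs : ∀ x ∈ s, x ∈ normalizer (T : Set G)) :
    ∀ A : Subgroup G, A ≤ T → ∀ n ∈ N, (∀ a ∈ A, n * a * n⁻¹ ∈ T) →
      ∃ h ∈ N, (∀ x ∈ s, h ∈ normalizer ((V.map (MulAut.conj x).toMonoidHom : Subgroup G) : Set G)) ∧
        ∃ c ∈ N, c ∈ centralizer (A : Set G) ∧ n = h * c := by
  classical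
  induction s using Finset.induction_on with
  | empty =>
    intro A _ n hn _
    exact ⟨n, hn, by simp, 1, one_mem _, one_mem _, by simp⟩
  | insert x₀ s _ ih =>
    intro A hA n hn hnA
    have hx₀ : x₀ ∈ normalizer (T : Set G) := hs x₀ (Finset.mem_insert_self _ _)
    have hs' : ∀ x ∈ s, x ∈ normalizer (T : Set G) := fun x hx => hs x (Finset.mem_insert_of_mem hx)
    obtain ⟨h₀, hh₀N, hh₀V, c₀, hc₀N, hc₀A, hn₀⟩ := ctrl_conj N T V hctrl x₀ hx₀ A hA n hn hnA
    set V₀ : Subgroup G := V.map (MulAut.conj x₀).toMonoidHom with hV₀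
    have hV₀T : V₀ ≤ T := by
      rintro _ ⟨v, hv, rfl⟩
      have := (mem_normalizer_iff.mp hx₀ v).mp (hVT hv)
      simpa [MulAut.conj_apply] using this
    have hA₂ : A ⊔ V₀ ≤ T := sup_le hA hV₀T
    have hcond : ∀ a ∈ A ⊔ V₀, h₀ * a * h₀⁻¹ ∈ T := by
      have hle : A ⊔ V₀ ≤ T.comap (MulAut.conj h₀).toMonoidHom := by
        apply sup_le
        · intro a ha
          rw [mem_comap]
          have h1 : h₀ = n * c₀⁻¹ := by rw [hn₀]; group
          have h2 : c₀⁻¹ * a * c₀ = a := by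
            have := mem_centralizer_iff.mp hc₀A a ha
            calc c₀⁻¹ * a * c₀ = c₀⁻¹ * (a * c₀) := by group
              _ = c₀⁻¹ * (c₀ * a) := by rw [this]
              _ = a := by group
          have h3 : (MulAut.conj h₀).toMonoidHom a = n * (c₀⁻¹ * a * c₀) * n⁻¹ := by
            simp only [MulEquiv.coe_toMonoidHom, MulAut.conj_apply, h1]; group
          rw [h3, h2]
          exact hnA a ha
        · intro v hv
          rw [mem_comap]
          have := (mem_normalizer_iff.mp hh₀V v).mp hv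
          exact hV₀T (by simpa [MulAut.conj_apply] using this)
      intro a ha
      have := hle ha
      rw [mem_comap] at this
      simpa [MulAut.conj_apply] using this
    obtain ⟨h₁, hh₁N, hh₁s, c₁, hc₁N, hc₁A, hn₁⟩ := ih hs' (A ⊔ V₀) hA₂ h₀ hh₀N hcond
    have hc₁A' : c₁ ∈ centralizer (A : Set G) :=
      centralizer_le (by exact_mod_cast (le_sup_left : A ≤ A ⊔ V₀)) hc₁A
    have hc₁V : c₁ ∈ centralizer (V₀ : Set G) :=
      centralizer_le (by exact_mod_cast (le_sup_right : V₀ ≤ A ⊔ V₀)) hc₁A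
    refine ⟨h₁, hh₁N, ?_, c₁ * c₀, mul_mem hc₁N hc₀N, mul_mem hc₁A' hc₀A, ?_⟩
    · intro x hx
      rcases Finset.mem_insert.mp hx with rfl | hx
      · have h1 : h₁ = h₀ * c₁⁻¹ := by rw [hn₁]; group
        rw [h1]
        exact mul_mem hh₀V (inv_mem (centralizer_le_normalizer _ hc₁V))
      · exact hh₁s x hx
    · rw [hn₀, hn₁, mul_assoc]


/-- Let N be a normal subgroup of the finite group G, P a Sylow p-subgroup of G, and V a subgroup of P ∩ N normal in P ∩ N such that N_N(V) controls strong fusion in P ∩ N with respect to N (whenever a subgroup A of P ∩ N has n A n⁻¹ ≤ P ∩ N for some n in N, then n = h c with h in N_N(V) and c in C_N(A)). Let W be the subgroup generated by the conjugates of V under N_G(P ∩ N). Then N_G(W) controls strong fusion in P with respect to G. -/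
theorem result {G : Type*} [Group G] [Finite G] {p : ℕ} [Fact p.Prime] (N : Subgroup G) [N.Normal] (P : Sylow p G) (V : Subgroup G)
    (hV : V ≤ (P : Subgroup G) ⊓ N) (hVn : ∀ x ∈ (P : Subgroup G) ⊓ N, V.map (MulAut.conj x).toMonoidHom = V)
    (hctrl : ∀ A : Subgroup G, A ≤ (P : Subgroup G) ⊓ N → ∀ n ∈ N, A.map (MulAut.conj n).toMonoidHom ≤ (P : Subgroup G) ⊓ N →
      ∃ h ∈ N ⊓ Subgroup.normalizer (V : Set G), ∃ c ∈ N ⊓ Subgroup.centralizer (A : Set G), n = h * c)
    (W : Subgroup G) (hW : W = Subgroup.closure (⋃ x ∈ Subgroup.normalizer (((P : Subgroup G) ⊓ N : Subgroup G) : Set G),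
      ((V.map (MulAut.conj x).toMonoidHom : Subgroup G) : Set G))) :
    ∀ A : Subgroup G, A ≤ (P : Subgroup G) → ∀ g : G, A.map (MulAut.conj g).toMonoidHom ≤ (P : Subgroup G) →
        ∃ h ∈ Subgroup.normalizer (W : Set G), ∃ c ∈ Subgroup.centralizer (A : Set G), g = h * c := by
  classical
  set T : Subgroup G := (P : Subgroup G) ⊓ N with hT
  -- pointwise form of the control hypothesis
  have hctrl' : ∀ A : Subgroup G, A ≤ T → ∀ n ∈ N, (∀ a ∈ A, n * a * n⁻¹ ∈ T) →
      ∃ h ∈ N, h ∈ Subgroup.normalizer (V : Set G) ∧ ∃ c ∈ N, c ∈ Subgroup.centralizer (A : Set G) ∧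
        n = h * c := by
    intro A hA n hn hnA
    have hmap : A.map (MulAut.conj n).toMonoidHom ≤ (P : Subgroup G) ⊓ N := by
      rintro _ ⟨a, ha, rfl⟩
      simp only [MulEquiv.coe_toMonoidHom, MulAut.conj_apply]
      exact hnA a ha
    obtain ⟨h, hh, c, hc, hnhc⟩ := hctrl A hA n hn hmap
    exact ⟨h, (Subgroup.mem_inf.mp hh).1, (Subgroup.mem_inf.mp hh).2, c, (Subgroup.mem_inf.mp hc).1,
      (Subgroup.mem_inf.mp hc).2, hnhc⟩
  -- all of `N_G(T)` as a finset
  set s : Finset G := (Set.toFinite (Subgroup.normalizer (T : Set G) : Set G)).toFinset with hs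
  have hsmem : ∀ x, x ∈ s ↔ x ∈ Subgroup.normalizer (T : Set G) := by
    intro x
    rw [hs, Set.Finite.mem_toFinset]
    rfl
  have hall := ctrl_finset N T V hV hctrl' s (fun x hx => (hsmem x).mp hx)
  -- `N_G(T) ≤ N_G(W)`
  have hNT : Subgroup.normalizer (T : Set G) ≤ Subgroup.normalizer (W : Set G) := by
    intro y hy
    rw [hW]
    have key : ∀ y ∈ Subgroup.normalizer (T : Set G), ∀ x ∈ Subgroup.normalizer (T : Set G),
        ∀ v ∈ V.map (MulAut.conj x).toMonoidHom,
        y * v * y⁻¹ ∈ Subgroup.closure (⋃ x ∈ Subgroup.normalizer (T : Set G),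
          ((V.map (MulAut.conj x).toMonoidHom : Subgroup G) : Set G)) := by
      intro y hy x hx v hv
      apply Subgroup.subset_closure
      refine Set.mem_iUnion₂.mpr ⟨y * x, mul_mem hy hx, ?_⟩
      rw [mem_map_conj] at hv
      rw [SetLike.mem_coe, mem_map_conj]
      have : (y * x)⁻¹ * (y * v * y⁻¹) * (y * x) = x⁻¹ * v * x := by group
      rw [this]; exact hv
    exact mem_normalizer_closure T V y (key y hy) (key y⁻¹ (inv_mem hy))
  -- control of strong fusion in `T` by `N_N(W)`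
  have hctrlM : ∀ B : Subgroup G, B ≤ (P : Subgroup G) ⊓ N → ∀ n ∈ N,
      (∀ b ∈ B, n * b * n⁻¹ ∈ (P : Subgroup G)) →
      ∃ h ∈ Subgroup.normalizer (W : Set G), ∃ c ∈ N, c ∈ Subgroup.centralizer (B : Set G) ∧ n = h * c := by
    intro B hB n hn hnB
    have hnB' : ∀ b ∈ B, n * b * n⁻¹ ∈ T := by
      intro b hb
      exact Subgroup.mem_inf.mpr ⟨hnB b hb,
        Subgroup.Normal.conj_mem inferInstance b (Subgroup.mem_inf.mp (hB hb)).2 n⟩
    obtain ⟨h, -, hhs, c, hcN, hcB, hnhc⟩ := hall B hB n hn hnB'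
    refine ⟨h, ?_, c, hcN, hcB, hnhc⟩
    rw [hW]
    have key : ∀ h' : G, (∀ x ∈ s, h' ∈ Subgroup.normalizer
          ((V.map (MulAut.conj x).toMonoidHom : Subgroup G) : Set G)) →
        ∀ x ∈ Subgroup.normalizer (T : Set G), ∀ v ∈ V.map (MulAut.conj x).toMonoidHom,
        h' * v * h'⁻¹ ∈ Subgroup.closure (⋃ x ∈ Subgroup.normalizer (T : Set G),
          ((V.map (MulAut.conj x).toMonoidHom : Subgroup G) : Set G)) := by
      intro h' hh' x hx v hv
      apply Subgroup.subset_closure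
      refine Set.mem_iUnion₂.mpr ⟨x, hx, ?_⟩
      exact (Subgroup.mem_normalizer_iff.mp (hh' x ((hsmem x).mpr hx)) v).mp hv
    exact mem_normalizer_closure T V h (key h hhs)
      (key h⁻¹ (fun x hx => inv_mem (hhs x hx)))
  -- lift
  intro A hA g hg
  have hPM : (P : Subgroup G) ≤ Subgroup.normalizer (W : Set G) :=
    (Cfsg.Agent.Helper52.sylow_le_normalizer_inf N (P : Subgroup G)).trans hNT
  have hg' : ∀ a ∈ A, g * a * g⁻¹ ∈ Subgroup.normalizer (W : Set G) := by
    intro a ha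
    apply hPM
    have := hg ⟨a, ha, rfl⟩
    simpa [MulAut.conj_apply] using this
  exact Cfsg.Agent.Helper52.lift_control N P (Subgroup.normalizer (W : Set G)) hNT hctrlM _ A
    (hA.trans hPM) (P.isPGroup'.to_le hA) rfl g hg'

end Cfsg.Agent.S1954
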