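import Mathlib
import Cfsg.Statements.S0200
import Cfsg.Agent.S0199

set_option autoImplicit false
open Cfsg

namespace Cfsg.Agent.S0200

/-- An involution lying in no normal 2-subgroup of a finite group inverts a nontrivial element of odd order (a consequence of the Baer–Suzuki Theorem). -/
theorem result {G : Type*} [Group G] [Finite G] (t : G) (ht : orderOf t = 2) (hO : ∀ N : Subgroup G, N.Normal → IsPGroup 2 N → t ∉ N) : ∃ h : G, h ≠ 1 ∧ Odd (orderOf h) ∧ t * h * t⁻¹ = h⁻¹ := by
  by_contra hcon
  push Not at hcon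
  have ht2 : t * t = 1 := by
    have h1 : t ^ 2 = 1 := by rw [← ht]; exact pow_orderOf_eq_one t
    rwa [pow_two] at h1
  have htinv : t⁻¹ = t := inv_eq_of_mul_eq_one_left ht2
  have hXp : IsPGroup 2 (Subgroup.zpowers t) := by
    apply IsPGroup.of_card (n := 1)
    rw [Nat.card_zpowers, ht, pow_one]
  have key : ∀ g : G, IsPGroup 2 ↥(Subgroup.zpowers t ⊔
      (Subgroup.zpowers t).map (MulAut.conj g).toMonoidHom) := by
    intro g
    set s := g * t * g⁻¹ with hs
    have hs2 : s * s = 1 := by
      rw [hs]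
      calc g * t * g⁻¹ * (g * t * g⁻¹) = g * (t * t) * g⁻¹ := by group
        _ = 1 := by rw [ht2]; group
    have hsinv : s⁻¹ = s := inv_eq_of_mul_eq_one_left hs2
    have hmap : (Subgroup.zpowers t).map (MulAut.conj g).toMonoidHom = Subgroup.zpowers s := by
      rw [MonoidHom.map_zpowers]
      rfl
    rw [hmap]
    set u := t * s with hu
    have huinv : u⁻¹ = s * t := by rw [hu, mul_inv_rev, htinv, hsinv]
    have hconj : t * u * t⁻¹ = u⁻¹ := by
      rw [huinv, hu, htinv]
      calc t * (t * s) * t = (t * t) * s * t := by group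
        _ = s * t := by rw [ht2, one_mul]
    have hupos : orderOf u ≠ 0 := (orderOf_pos u).ne'
    obtain ⟨k, m, hm, hkm⟩ := Nat.exists_eq_two_pow_mul_odd hupos
    set h := u ^ (2 ^ k) with hh
    have hordh : orderOf h = m := by
      rw [hh, orderOf_pow_of_dvd (by positivity) ⟨m, hkm⟩, hkm]
      exact Nat.mul_div_cancel_left m (by positivity)
    have hconjh : t * h * t⁻¹ = h⁻¹ := by
      rw [hh, ← inv_pow, ← hconj]
      exact (conj_pow (a := t) (b := u) (i := 2 ^ k)).symm
    have hh1 : h = 1 := by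
      by_contra hne
      exact hcon h hne (hordh ▸ hm) hconjh
    have hm1 : m = 1 := by rw [← hordh, hh1, orderOf_one]
    have hordu : orderOf u = 2 ^ k := by rw [hkm, hm1, mul_one]
    have hUp : IsPGroup 2 (Subgroup.zpowers u) := by
      apply IsPGroup.of_card (n := k)
      rw [Nat.card_zpowers, hordu]
    have hnorm : Subgroup.zpowers t ≤ Subgroup.normalizer (Subgroup.zpowers u : Set G) := by
      rw [Subgroup.zpowers_le, Subgroup.mem_normalizer_iff_map_conj_eq, MonoidHom.map_zpowers]
      show Subgroup.zpowers (t * u * t⁻¹) = _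
      rw [hconj, Subgroup.zpowers_inv]
    have hsup := IsPGroup.to_sup_of_normal_right' hXp hUp hnorm
    refine hsup.to_le (sup_le le_sup_left ?_)
    rw [Subgroup.zpowers_le]
    have hst : s = t⁻¹ * u := by rw [hu]; group
    rw [hst]
    exact Subgroup.mul_mem _ (Subgroup.inv_mem _ (Subgroup.mem_sup_left (Subgroup.mem_zpowers t)))
      (Subgroup.mem_sup_right (Subgroup.mem_zpowers u))
  have : Fact (Nat.Prime 2) := ⟨Nat.prime_two⟩
  obtain ⟨N, hN, hNp, hXN⟩ := Cfsg.Agent.S0199.result (Subgroup.zpowers t) hXp key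
  exact hO N hN hNp (hXN (Subgroup.mem_zpowers t))

end Cfsg.Agent.S0200
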