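import Mathlib
import Cfsg.Statements.S2470
import Cfsg.Agent.Helper38.PSLLift
import Cfsg.Agent.Helper38.CommUnip2
import Cfsg.Agent.Helper38.UnipAdj

set_option autoImplicit false
open Cfsg

namespace Cfsg.Agent.S2470

open Matrix Module Cfsg.Agent.Helper38

section lifts
variable {F : Type*} [Field F] [Fintype F] {n : ℕ}

/-- from commuting `a`, `b` in `PSL_n` of orders `p`, `r` to matrices (no rescaling) -/
theorem exists_lifts (p : ℕ) [Fact p.Prime] [CharP F p] (hn : 1 ≤ n)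
    (a b : Matrix.ProjectiveSpecialLinearGroup (Fin n) F) (ha : orderOf a = p) (hab : Commute a b)
    (r : ℕ) (hr : r.Prime) (hb : orderOf b = r) :
    ∃ (B N : Matrix (Fin n) (Fin n) F) (μ : F), B.det = 1 ∧ N * N = 0 ∧ N ≠ 0 ∧ B * N = N * B ∧
      B ^ r = μ • (1 : Matrix (Fin n) (Fin n) F) ∧
      ¬ ∃ c : F, B = c • (1 : Matrix (Fin n) (Fin n) F) := by
  have hq : 1 < Fintype.card F := Fintype.one_lt_card
  have hp : p.Prime := Fact.out
  obtain ⟨k, -, hk⟩ := FiniteField.card F p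
  have hpq : p ∣ Fintype.card F := by
    rw [hk]
    exact dvd_pow_self p k.ne_zero
  obtain ⟨A, rfl⟩ := QuotientGroup.mk_surjective a
  obtain ⟨B, rfl⟩ := QuotientGroup.mk_surjective b
  set Z := Subgroup.center (SpecialLinearGroup (Fin n) F) with hZ
  -- the unipotent lift
  set E : ℕ := (Fintype.card F - 1) ^ 2 with hE
  have hEmod : E ≡ 1 [MOD p] := by
    obtain ⟨t, ht⟩ := hpq
    have h1 : E = p * (t * (Fintype.card F - 2)) + 1 := by
      rw [hE]
      obtain ⟨u, hu⟩ : ∃ u, Fintype.card F = u + 2 := ⟨Fintype.card F - 2, by omega⟩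
      rw [← mul_assoc, ← ht, hu]
      simp only [Nat.add_sub_cancel, show u + 2 - 1 = u + 1 by omega]
      ring
    rw [h1]
    exact Nat.mul_add_mod _ _ _
  have hAp : A ^ p ∈ Z := by
    rw [← QuotientGroup.eq_one_iff, QuotientGroup.mk_pow, ← ha]
    exact pow_orderOf_eq_one _
  set U : SpecialLinearGroup (Fin n) F := A ^ E with hU
  have hUp : U ^ p = 1 := by
    rw [hU, ← pow_mul, mul_comm, pow_mul, hE, pow_two, pow_mul,
      Cfsg.Agent.S2364.center_pow hn _ hAp, one_pow]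
  have hUa : (QuotientGroup.mk U : Matrix.ProjectiveSpecialLinearGroup (Fin n) F) =
      QuotientGroup.mk A := by
    rw [hU, QuotientGroup.mk_pow]
    have := (pow_eq_pow_iff_modEq (x := (QuotientGroup.mk A :
      Matrix.ProjectiveSpecialLinearGroup (Fin n) F)) (n := E) (m := 1)).mpr (by rw [ha]; exact hEmod)
    rw [this, pow_one]
  have hU1 : U ≠ 1 := by
    intro h
    rw [h, QuotientGroup.mk_one] at hUa
    rw [← hUa, orderOf_one] at ha
    exact hp.one_lt.ne ha
  -- `B` commutes with `U`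
  have hcZ : B * U * B⁻¹ * U⁻¹ ∈ Z := by
    rw [← QuotientGroup.eq_one_iff, QuotientGroup.mk_mul, QuotientGroup.mk_mul,
      QuotientGroup.mk_mul, QuotientGroup.mk_inv, QuotientGroup.mk_inv, hUa]
    have := hab.eq
    rw [← this, mul_inv_cancel_right, mul_inv_cancel]
  set c := B * U * B⁻¹ * U⁻¹ with hc
  have hcU : c * U = B * U * B⁻¹ := by
    rw [hc, inv_mul_cancel_right]
  have hcp : c ^ p = 1 := by
    have hcomm : Commute c U := by
      have := Subgroup.mem_center_iff.mp hcZ U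
      exact this.symm
    have h1 : (c * U) ^ p = c ^ p * U ^ p := hcomm.mul_pow p
    rw [hcU, conj_pow, hUp, mul_one, mul_inv_cancel, mul_one] at h1
    exact h1.symm
  have hc1 : c = 1 := by
    have h1 : orderOf c ∣ p := orderOf_dvd_of_pow_eq_one hcp
    have h2 : orderOf c ∣ Fintype.card F - 1 :=
      orderOf_dvd_of_pow_eq_one (Cfsg.Agent.S2364.center_pow hn c hcZ)
    have h3 : orderOf c ∣ Fintype.card F := h1.trans hpq
    have h4 : orderOf c ∣ 1 := by
      have := (Nat.dvd_sub h3 h2)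
      rwa [Nat.sub_sub_self (by omega)] at this
    exact orderOf_eq_one_iff.mp (Nat.dvd_one.mp h4)
  have hBU : B * U = U * B := by
    have h1 := hcU
    rw [hc1, one_mul] at h1
    calc B * U = (B * U * B⁻¹) * B := by group
      _ = U * B := by rw [← h1]
  -- `B ^ r` is central, `B` is not
  have hBr : B ^ r ∈ Z := by
    rw [← QuotientGroup.eq_one_iff, QuotientGroup.mk_pow, ← hb]
    exact pow_orderOf_eq_one _
  have hBZ : B ∉ Z := by
    intro h
    rw [← QuotientGroup.eq_one_iff] at h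
    rw [h, orderOf_one] at hb
    exact hr.one_lt.ne hb
  rw [Matrix.SpecialLinearGroup.mem_center_iff] at hBr
  obtain ⟨μ, hμn, hμ⟩ := hBr
  rw [Matrix.SpecialLinearGroup.coe_pow] at hμ
  have hUm1 : (U : Matrix (Fin n) (Fin n) F) ≠ 1 := by
    intro h
    apply hU1
    exact Subtype.ext (by rw [h, Matrix.SpecialLinearGroup.coe_one])
  have hUmp : (U : Matrix (Fin n) (Fin n) F) ^ p = 1 := by
    rw [← Matrix.SpecialLinearGroup.coe_pow, hUp, Matrix.SpecialLinearGroup.coe_one]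
  have hBUm : (B : Matrix (Fin n) (Fin n) F) * (U : Matrix (Fin n) (Fin n) F) =
      (U : Matrix (Fin n) (Fin n) F) * (B : Matrix (Fin n) (Fin n) F) := by
    rw [← Matrix.SpecialLinearGroup.coe_mul, hBU, Matrix.SpecialLinearGroup.coe_mul]
  -- the nilpotent element
  have : Nonempty (Fin n) := ⟨⟨0, by omega⟩⟩
  set N0 : Matrix (Fin n) (Fin n) F := (U : Matrix (Fin n) (Fin n) F) - 1 with hN0
  have hN0p : N0 ^ p = 0 := by
    rw [hN0, sub_pow_char_of_commute p (Commute.one_right _), hUmp, one_pow, sub_self]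
  have hN00 : N0 ≠ 0 := fun h => hUm1 (sub_eq_zero.mp h)
  have hex : ∃ s, N0 ^ s = 0 := ⟨p, hN0p⟩
  classical
  set s := Nat.find hex with hs
  have hs0 : N0 ^ s = 0 := Nat.find_spec hex
  have hs2 : 2 ≤ s := by
    by_contra hlt
    push Not at hlt
    interval_cases s
    · rw [pow_zero] at hs0
      exact one_ne_zero hs0
    · rw [pow_one] at hs0
      exact hN00 hs0
  have hsmin : N0 ^ (s - 1) ≠ 0 := Nat.find_min hex (by omega)
  have hBN0 : (B : Matrix (Fin n) (Fin n) F) * N0 = N0 * (B : Matrix (Fin n) (Fin n) F) := by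
    rw [hN0, mul_sub, sub_mul, hBUm, mul_one, one_mul]
  refine ⟨B, N0 ^ (s - 1), μ, B.2, ?_, hsmin, ?_, ?_, ?_⟩
  · rw [← pow_add]
    obtain ⟨t, ht⟩ : ∃ t, s - 1 + (s - 1) = s + t := ⟨s - 2, by omega⟩
    rw [ht, pow_add, hs0, zero_mul]
  · have : Commute (B : Matrix (Fin n) (Fin n) F) N0 := hBN0
    exact (this.pow_right (s - 1)).eq
  · rw [← hμ, Matrix.scalar_apply, Matrix.smul_one_eq_diagonal]
  · rintro ⟨ν, hBm⟩
    apply hBZ
    rw [Matrix.SpecialLinearGroup.mem_center_iff]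
    refine ⟨ν, ?_, ?_⟩
    · have hdet := B.2
      rw [hBm, Matrix.det_smul, Matrix.det_one, mul_one] at hdet
      exact hdet
    · rw [hBm, Matrix.scalar_apply, Matrix.smul_one_eq_diagonal]

omit [Fintype F] in
/-- central elements of `SL_n` are the scalar ones -/
theorem mem_center_iff_smul (Y : SpecialLinearGroup (Fin n) F) :
    Y ∈ Subgroup.center (SpecialLinearGroup (Fin n) F) ↔
      ∃ lam : F, (Y : Matrix (Fin n) (Fin n) F) = lam • (1 : Matrix (Fin n) (Fin n) F) := by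
  rw [Matrix.SpecialLinearGroup.mem_center_iff]
  constructor
  · rintro ⟨lam, -, h⟩
    refine ⟨lam, ?_⟩
    rw [← h, Matrix.scalar_apply, Matrix.smul_one_eq_diagonal]
  · rintro ⟨lam, h⟩
    refine ⟨lam, ?_, ?_⟩
    · have hdet := Y.2
      rw [h, Matrix.det_smul, Matrix.det_one, mul_one] at hdet
      exact hdet
    · rw [h, Matrix.scalar_apply, Matrix.smul_one_eq_diagonal]

end lifts

section construct
variable {F : Type*} [Field F]

/-- the transvection `[[1,1],[0,1]]` -/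
def Jmat : Matrix (Fin 2) (Fin 2) F := !![1, 1; 0, 1]

theorem Jmat_det : (Jmat : Matrix (Fin 2) (Fin 2) F).det = 1 := by
  simp [Jmat, Matrix.det_fin_two_of]

theorem Jmat_pow (j : ℕ) : (Jmat : Matrix (Fin 2) (Fin 2) F) ^ j = !![1, (j : F); 0, 1] := by
  induction j with
  | zero =>
    ext a b
    fin_cases a <;> fin_cases b <;> simp
  | succ j ih =>
    rw [pow_succ, ih, Jmat]
    ext a b
    fin_cases a <;> fin_cases b <;> simp [Matrix.mul_apply, Fin.sum_univ_two, add_comm]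

theorem smulJ_pow_eq_iff {c : F} (hc : c ≠ 0) (j : ℕ) (lam : F) :
    (c • (Jmat : Matrix (Fin 2) (Fin 2) F)) ^ j = lam • (1 : Matrix (Fin 2) (Fin 2) F) ↔
      c ^ j = lam ∧ (j : F) = 0 := by
  rw [smul_pow, Jmat_pow]
  constructor
  · intro h
    have h00 := congrFun (congrFun h 0) 0
    have h01 := congrFun (congrFun h 0) 1
    simp at h00 h01
    refine ⟨h00, ?_⟩
    rcases h01 with ⟨h, -⟩ | h
    · exact absurd h hc
    · exact h
  · rintro ⟨h1, h2⟩
    rw [h1, h2]
    ext a b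
    fin_cases a <;> fin_cases b <;> simp

theorem diagonal_pow_eq_iff {m : ℕ} (t : Fin m → F) (j : ℕ) (lam : F) :
    (Matrix.diagonal t) ^ j = lam • (1 : Matrix (Fin m) (Fin m) F) ↔ ∀ i, t i ^ j = lam := by
  rw [Matrix.diagonal_pow, Matrix.smul_one_eq_diagonal, Matrix.diagonal_eq_diagonal_iff]
  rfl

theorem twoBlock_smul_one {a b n : ℕ} (e : Fin a ⊕ Fin b ≃ Fin n) (lam : F) :
    twoBlock e (lam • (1 : Matrix (Fin a) (Fin a) F), lam • (1 : Matrix (Fin b) (Fin b) F)) =
      lam • (1 : Matrix (Fin n) (Fin n) F) := by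
  have h1 : Matrix.fromBlocks (lam • (1 : Matrix (Fin a) (Fin a) F)) 0 0
      (lam • (1 : Matrix (Fin b) (Fin b) F)) =
      lam • (1 : Matrix (Fin a ⊕ Fin b) (Fin a ⊕ Fin b) F) := by
    rw [← Matrix.fromBlocks_one, Matrix.fromBlocks_smul]
    simp only [smul_zero]
  show Matrix.reindex e e (Matrix.fromBlocks (lam • (1 : Matrix (Fin a) (Fin a) F)) 0 0
      (lam • (1 : Matrix (Fin b) (Fin b) F))) = _
  rw [h1, Matrix.reindex_apply]
  ext i j
  simp [Matrix.submatrix_apply, Matrix.one_apply]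

theorem twoBlock_eq_smul_one_iff {a b n : ℕ} (e : Fin a ⊕ Fin b ≃ Fin n)
    (A : Matrix (Fin a) (Fin a) F) (B : Matrix (Fin b) (Fin b) F) (lam : F) :
    twoBlock e (A, B) = lam • (1 : Matrix (Fin n) (Fin n) F) ↔
      A = lam • (1 : Matrix (Fin a) (Fin a) F) ∧ B = lam • (1 : Matrix (Fin b) (Fin b) F) := by
  rw [← twoBlock_smul_one e lam, (twoBlock_injective e).eq_iff, Prod.mk.injEq]

theorem det_twoBlock {a b n : ℕ} (e : Fin a ⊕ Fin b ≃ Fin n)
    (A : Matrix (Fin a) (Fin a) F) (B : Matrix (Fin b) (Fin b) F) :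
    (twoBlock e (A, B)).det = A.det * B.det := by
  show (Matrix.reindex e e (Matrix.fromBlocks A 0 0 B)).det = _
  rw [Matrix.det_reindex_self, Matrix.det_fromBlocks_zero₂₁]

variable [Fintype F]

/-- elements of prescribed order in `F` -/
theorem exists_orderOf_eq (d : ℕ) (hd : d ∣ Fintype.card F - 1) :
    ∃ c : F, c ≠ 0 ∧ orderOf c = d := by
  have hq : 1 < Fintype.card F := Fintype.one_lt_card
  obtain ⟨γ, hγ⟩ := IsCyclic.exists_ofOrder_eq_natCard (α := Fˣ)
  rw [Nat.card_units, Nat.card_eq_fintype_card] at hγ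
  have hd0 : 0 < d := Nat.pos_of_dvd_of_pos hd (by omega)
  have hle : d ≤ Fintype.card F - 1 := Nat.le_of_dvd (by omega) hd
  have he0 : (Fintype.card F - 1) / d ≠ 0 := by
    rw [Ne, Nat.div_eq_zero_iff]
    omega
  have hed : (Fintype.card F - 1) / d ∣ orderOf γ := by
    rw [hγ]
    exact Nat.div_dvd_of_dvd hd
  refine ⟨((γ ^ ((Fintype.card F - 1) / d) : Fˣ) : F), Units.ne_zero _, ?_⟩
  rw [orderOf_units, orderOf_pow_of_dvd he0 hed, hγ, Nat.div_div_self hd (by omega)]

omit [Fintype F] in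
/-- the main construction: `diag(c J, t)` in `SL_n` maps to an element of order `r p` -/
theorem exists_orderOf_of_diag (p : ℕ) [Fact p.Prime] [CharP F p] (m n : ℕ) (hmn : 2 + m = n)
    (c : F) (hc0 : c ≠ 0) (t : Fin m → F) (hdet : c ^ 2 * ∏ i, t i = 1) (r : ℕ) (hr : r.Prime)
    (hrp : r ≠ p) (ht : ∀ j : ℕ, (∀ i, t i ^ j = c ^ j) ↔ r ∣ j) :
    ∃ x : Matrix.ProjectiveSpecialLinearGroup (Fin n) F, orderOf x = r * p := by
  have hpp : p.Prime := Fact.out
  set X : Matrix (Fin n) (Fin n) F :=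
    twoBlock (splitEquiv hmn) (c • (Jmat : Matrix (Fin 2) (Fin 2) F), Matrix.diagonal t) with hX
  have hXdet : X.det = 1 := by
    rw [hX, det_twoBlock, Matrix.det_smul, Matrix.det_diagonal, Fintype.card_fin, Jmat_det,
      mul_one, hdet]
  have hXpow : ∀ (j : ℕ) (lam : F), X ^ j = lam • (1 : Matrix (Fin n) (Fin n) F) ↔
      (c ^ j = lam ∧ (j : F) = 0) ∧ ∀ i, t i ^ j = lam := by
    intro j lam
    rw [hX, ← map_pow, Prod.pow_mk, twoBlock_eq_smul_one_iff, smulJ_pow_eq_iff hc0,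
      diagonal_pow_eq_iff]
  set Y : SpecialLinearGroup (Fin n) F := ⟨X, hXdet⟩ with hY
  have hYpow : ∀ j : ℕ, (QuotientGroup.mk Y : Matrix.ProjectiveSpecialLinearGroup (Fin n) F) ^ j = 1 ↔
      ∃ lam : F, X ^ j = lam • (1 : Matrix (Fin n) (Fin n) F) := by
    intro j
    rw [← QuotientGroup.mk_pow, QuotientGroup.eq_one_iff, mem_center_iff_smul,
      Matrix.SpecialLinearGroup.coe_pow]
  refine ⟨QuotientGroup.mk Y,
    orderOf_eq_of_pow_and_pow_div_prime (Nat.mul_pos hr.pos hpp.pos) ?_ ?_⟩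
  · rw [hYpow]
    refine ⟨c ^ (r * p), (hXpow _ _).mpr ⟨⟨rfl, ?_⟩, ?_⟩⟩
    · rw [Nat.cast_mul, CharP.cast_eq_zero F p, mul_zero]
    · exact (ht _).mpr (dvd_mul_right r p)
  · intro p' hp' hdvd
    rcases (Nat.Prime.dvd_mul hp').mp hdvd with h | h
    · have h' : p' = r := (Nat.prime_dvd_prime_iff_eq hp' hr).mp h
      rw [h', Nat.mul_div_cancel_left _ hr.pos, Ne, hYpow]
      rintro ⟨lam, hlam⟩
      obtain ⟨⟨h1, h2⟩, h3⟩ := (hXpow _ _).mp hlam
      have h4 : r ∣ p := (ht p).mp (fun i => by rw [h3 i, h1])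
      exact hrp ((Nat.prime_dvd_prime_iff_eq hr hpp).mp h4)
    · have h' : p' = p := (Nat.prime_dvd_prime_iff_eq hp' hpp).mp h
      rw [h', Nat.mul_div_cancel _ hpp.pos, Ne, hYpow]
      rintro ⟨lam, hlam⟩
      obtain ⟨⟨h1, h2⟩, h3⟩ := (hXpow _ _).mp hlam
      have h4 : p ∣ r := (CharP.cast_eq_zero_iff F p r).mp h2
      exact hrp ((Nat.prime_dvd_prime_iff_eq hpp hr).mp h4).symm

omit [Fintype F] in
/-- `J` has order `p` -/
theorem orderOf_Jmat (p : ℕ) [Fact p.Prime] [CharP F p] :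
    orderOf (Jmat : Matrix (Fin 2) (Fin 2) F) = p := by
  apply orderOf_eq_prime
  · rw [Jmat_pow, CharP.cast_eq_zero F p]
    ext a b
    fin_cases a <;> fin_cases b <;> simp
  · intro h
    have h01 := congrFun (congrFun h 0) 1
    simp [Jmat] at h01

/-- the case `r ∣ q - 1`, `n = 3` -/
theorem exists_orderOf_three (p : ℕ) [Fact p.Prime] [CharP F p] (r : ℕ) (hr : r.Prime)
    (hrp : r ≠ p) (hrq1 : r ∣ Fintype.card F - 1) (h9 : r = 3 → 9 ∣ Fintype.card F - 1) :
    ∃ x : Matrix.ProjectiveSpecialLinearGroup (Fin 3) F, orderOf x = r * p := by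
  obtain ⟨c, hc0, hc⟩ : ∃ c : F, c ≠ 0 ∧ ∀ j : ℕ, c ^ (3 * j) = 1 ↔ r ∣ j := by
    by_cases hr3 : r = 3
    · obtain ⟨c, hc0, hc⟩ := exists_orderOf_eq (F := F) 9 (h9 hr3)
      refine ⟨c, hc0, fun j => ?_⟩
      rw [← orderOf_dvd_iff_pow_eq_one, hc, hr3]
      omega
    · obtain ⟨c, hc0, hc⟩ := exists_orderOf_eq (F := F) r hrq1
      refine ⟨c, hc0, fun j => ?_⟩
      rw [← orderOf_dvd_iff_pow_eq_one, hc]
      have hcop : Nat.Coprime r 3 := (Nat.coprime_primes hr Nat.prime_three).mpr hr3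
      exact hcop.dvd_mul_left
  refine exists_orderOf_of_diag p 1 3 rfl c hc0 (fun _ => (c ^ 2)⁻¹) ?_ r hr hrp ?_
  · rw [Finset.prod_const, Finset.card_univ, Fintype.card_fin, pow_one,
      mul_inv_cancel₀ (pow_ne_zero 2 hc0)]
  · intro j
    rw [← hc j]
    constructor
    · intro h
      have h1 := h 0
      rw [inv_pow, ← mul_eq_one_iff_inv_eq₀ (pow_ne_zero j (pow_ne_zero 2 hc0))] at h1
      rw [← h1]
      ring
    · intro h i
      rw [inv_pow, ← mul_eq_one_iff_inv_eq₀ (pow_ne_zero j (pow_ne_zero 2 hc0)), ← h]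
      ring

/-- the case `r ∣ q - 1`, `n ≥ 4` -/
theorem exists_orderOf_four (p : ℕ) [Fact p.Prime] [CharP F p] (n : ℕ) (hn : 4 ≤ n) (r : ℕ)
    (hr : r.Prime) (hrp : r ≠ p) (hrq1 : r ∣ Fintype.card F - 1) :
    ∃ x : Matrix.ProjectiveSpecialLinearGroup (Fin n) F, orderOf x = r * p := by
  obtain ⟨c, hc0, hc⟩ := exists_orderOf_eq (F := F) r hrq1
  have hcj : ∀ j : ℕ, c ^ j = 1 ↔ r ∣ j := by
    intro j
    rw [← orderOf_dvd_iff_pow_eq_one, hc]
  refine exists_orderOf_of_diag p (n - 2) n (by omega) c hc0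
    (fun i => if i = ⟨0, by omega⟩ then (c ^ 2)⁻¹ else 1) ?_ r hr hrp ?_
  · rw [Finset.prod_ite_eq' Finset.univ (⟨0, by omega⟩ : Fin (n - 2)) (fun _ => (c ^ 2)⁻¹),
      if_pos (Finset.mem_univ _), mul_inv_cancel₀ (pow_ne_zero 2 hc0)]
  · intro j
    rw [← hcj j]
    constructor
    · intro h
      have h1 := h ⟨1, by omega⟩
      rw [if_neg (by simp [Fin.ext_iff]), one_pow] at h1
      exact h1.symm
    · intro h i
      by_cases hi : i = ⟨0, by omega⟩
      · rw [if_pos hi, h, inv_pow, ← pow_mul, mul_comm, pow_mul, h, one_pow, inv_one]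
      · rw [if_neg hi, h, one_pow]

/-- the case `r ∤ q - 1` -/
theorem exists_orderOf_singer (p : ℕ) [hp : Fact p.Prime] [CharP F p] (n : ℕ) (r : ℕ)
    [hr : Fact r.Prime] (hrp : r ≠ p) (hrq1 : ¬ r ∣ Fintype.card F - 1)
    (hk : orderOf ((Fintype.card F : ℕ) : ZMod r) + 2 ≤ n)
    (hk0 : 0 < orderOf ((Fintype.card F : ℕ) : ZMod r)) :
    ∃ x : Matrix.ProjectiveSpecialLinearGroup (Fin n) F, orderOf x = r * p := by
  have hq : 1 ≤ Fintype.card F := Fintype.card_pos
  have hq1 : 1 < Fintype.card F := Fintype.one_lt_card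
  obtain ⟨f, -, hf⟩ := FiniteField.card F p
  have hpq : p ∣ Fintype.card F := by
    rw [hf]
    exact dvd_pow_self p f.ne_zero
  have hpq1 : ¬ p ∣ Fintype.card F - 1 := by
    intro h
    have := (Nat.dvd_sub hpq h)
    rw [Nat.sub_sub_self (by omega)] at this
    exact hp.out.one_lt.ne' (Nat.dvd_one.mp this)
  have hcop : Nat.Coprime (p * r) (Fintype.card F - 1) :=
    Nat.Coprime.mul_left ((Nat.Prime.coprime_iff_not_dvd hp.out).mpr hpq1)
      ((Nat.Prime.coprime_iff_not_dvd hr.out).mpr hrq1)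
  have hpr : Nat.Coprime p r := (Nat.coprime_primes hp.out hr.out).mpr (Ne.symm hrp)
  have hpos : 0 < p * r := Nat.mul_pos hp.out.pos hr.out.pos
  obtain ⟨X, hX⟩ : ∃ X : Matrix (Fin n) (Fin n) F, orderOf X = p * r := by
    obtain ⟨S, hS⟩ := exists_matrix_orderOf (F := F)
      (orderOf ((Fintype.card F : ℕ) : ZMod r)) hk0 r
      ((Cfsg.Agent.Helper40.dvd_pow_sub_one_iff hq _).mpr dvd_rfl)
    generalize orderOf ((Fintype.card F : ℕ) : ZMod r) = k at *
    refine ⟨twoBlock (splitEquiv (show 2 + (n - 2) = n by omega))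
      (Jmat, twoBlock (splitEquiv (show k + (n - 2 - k) = n - 2 by omega)) (S, 1)), ?_⟩
    rw [orderOf_twoBlock, orderOf_twoBlock, hS, orderOf_one, Nat.lcm_one_right, orderOf_Jmat p]
    exact hpr.lcm_eq_mul
  obtain ⟨Y, hY⟩ := exists_SL_orderOf X (by rw [hX]; exact hpos) (by rw [hX]; exact hcop)
  refine ⟨QuotientGroup.mk Y, ?_⟩
  rw [orderOf_mk_of_coprime (by omega) Y (by rw [hY, hX]; exact hcop), hY, hX, mul_comm]

end construct

/-- Adjacency of an odd prime and the characteristic in the prime graph of PSL(n,q): let F be a finite field of characteristic p with q elements, n ≥ 2 with PSL(n,F) simple, and let r ≠ p be an odd prime dividing the order of PSL(n,F), with k the multiplicative order of q modulo r. Then PSL(n,F) has NO element of order r·p if and only if either k > n − 2, or n = 3, r = 3 and 3 divides q − 1 exactly once. -/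
theorem result {F : Type*} [Field F] [Fintype F] (p : ℕ) [Fact p.Prime] [CharP F p] (n : ℕ) (hn : 2 ≤ n) (hsmall : n = 2 → 4 ≤ Fintype.card F)
    (r : ℕ) (hr : r.Prime) (hr2 : r ≠ 2) (hrp : r ≠ p) (hrG : r ∣ Nat.card (Matrix.ProjectiveSpecialLinearGroup (Fin n) F))
    (k : ℕ) (hk : k = orderOf ((Fintype.card F : ℕ) : ZMod r)) :
    (r * p ∉ Set.range (orderOf : Matrix.ProjectiveSpecialLinearGroup (Fin n) F → ℕ)) ↔
      (n - 2 < k ∨ (n = 3 ∧ r = 3 ∧ 3 ∣ Fintype.card F - 1 ∧ ¬ 9 ∣ Fintype.card F - 1)) := by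
  have hpp : p.Prime := Fact.out
  have : Fact r.Prime := ⟨hr⟩
  have hq : 1 ≤ Fintype.card F := Fintype.card_pos
  obtain ⟨f, -, hf⟩ := FiniteField.card F p
  have hrq : ¬ r ∣ Fintype.card F := by
    rw [hf]
    intro h
    exact hrp ((Nat.prime_dvd_prime_iff_eq hr hpp).mp (hr.dvd_of_dvd_pow h))
  have hr0 : (r : F) ≠ 0 := by
    intro h
    have h1 := (CharP.cast_eq_zero_iff F p r).mp h
    exact hrp ((Nat.prime_dvd_prime_iff_eq hpp hr).mp h1).symm
  have hkpos : 0 < k := by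
    rw [hk]
    exact Cfsg.Agent.Helper40.ordq_pos hrq
  have hk1 : k = 1 ↔ r ∣ Fintype.card F - 1 := by
    have h1 := Cfsg.Agent.Helper40.dvd_pow_sub_one_iff (r := r) hq 1
    rw [pow_one, Nat.dvd_one, ← hk] at h1
    exact h1.symm
  constructor
  · -- existence of elements of order `r p`
    intro hno
    by_contra hcon
    have hkn : k + 2 ≤ n := by
      by_contra h
      exact hcon (Or.inl (by omega))
    apply hno
    by_cases hrq1 : r ∣ Fintype.card F - 1
    · by_cases hn3 : n = 3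
      · subst hn3
        refine exists_orderOf_three p r hr hrp hrq1 ?_
        intro hr3
        by_contra h9
        exact hcon (Or.inr ⟨rfl, hr3, hr3 ▸ hrq1, h9⟩)
      · have hk1' := hk1.mpr hrq1
        exact exists_orderOf_four p n (by omega) r hr hrp hrq1
    · rw [hk] at hkn hkpos
      exact exists_orderOf_singer p n r hrp hrq1 hkn hkpos
  · -- non-existence
    rintro hcase ⟨x, hx⟩
    have hx0 : orderOf x = r * p := hx
    have ha : orderOf (x ^ r) = p := by
      rw [orderOf_pow_of_dvd hr.ne_zero (by rw [hx0]; exact dvd_mul_right r p), hx0,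
        Nat.mul_div_cancel_left _ hr.pos]
    have hb : orderOf (x ^ p) = r := by
      rw [orderOf_pow_of_dvd hpp.ne_zero (by rw [hx0]; exact dvd_mul_left p r), hx0,
        Nat.mul_div_cancel _ hpp.pos]
    have hab : Commute (x ^ r) (x ^ p) := (Commute.refl x).pow_pow r p
    by_cases hrq1 : r ∣ Fintype.card F - 1
    · have hk1' := hk1.mpr hrq1
      obtain ⟨B, N, μ, hdet, hN2, hN, hBN, hBr, hBsc⟩ :=
        exists_lifts p (by omega) (x ^ r) (x ^ p) ha hab r hr hb
      apply hBsc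
      apply scalar_of_commute_sq_zero n B N hdet hN2 hN hBN r μ hBr hr0
      rcases hcase with h | ⟨h3, hr3, -, h9⟩
      · left
        omega
      · right
        exact ⟨h3, hr3, h9⟩
    · have hk2 : 2 ≤ k := by
        by_contra h
        exact hrq1 (hk1.mp (by omega))
      obtain ⟨g, N, hN2, hN, hgN, hgr, hg1⟩ :=
        Cfsg.Agent.S2364.exists_matrices p (by omega) (x ^ r) (x ^ p) ha hab r hr hb hrq1
      have hφ := (Matrix.toLinAlgEquiv' (R := F) (n := Fin n)).injective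
      obtain ⟨e, he1, he2, he⟩ := exists_dvd_of_commute_sq_zero'
        (Matrix.toLinAlgEquiv' (R := F) (n := Fin n) g)
        (Matrix.toLinAlgEquiv' (R := F) (n := Fin n) N)
        (by rw [← map_mul, hN2, map_zero])
        (by
          intro h
          apply hN
          apply hφ
          rw [h, map_zero])
        (by rw [← map_mul, hgN, map_mul]) r (by rw [← map_pow, hgr, map_one])
        (by
          intro h
          apply hg1
          apply hφ
          rw [h, map_one]) hrq hr0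
      rw [Module.finrank_fin_fun] at he2
      rw [Cfsg.Agent.Helper40.dvd_pow_sub_one_iff hq, ← hk] at he
      have hke := Nat.le_of_dvd (by omega) he
      rcases hcase with h | ⟨h3, hr3, h3q, -⟩
      · omega
      · exact hrq1 (hr3 ▸ h3q)

end Cfsg.Agent.S2470
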