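import Cfsg.Statements.S2476
import Cfsg.Agent.Helper38.SL3Spec
import Cfsg.Agent.Helper38.Singer
import Cfsg.Agent.S2470

set_option autoImplicit false
open Cfsg

namespace Cfsg.Agent.S2476

open Matrix Cfsg.Agent.Helper38 Cfsg.Agent.S2470

section general
variable {F : Type*} [Field F] {n : ℕ}

/-- (P1) scalar power gives a bound on the order in `PSL` -/
theorem orderOf_mk_dvd (X : SpecialLinearGroup (Fin n) F) (N : ℕ) (lam : F)
    (h : (X : Matrix (Fin n) (Fin n) F) ^ N = lam • (1 : Matrix (Fin n) (Fin n) F)) :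
    orderOf (QuotientGroup.mk X : Matrix.ProjectiveSpecialLinearGroup (Fin n) F) ∣ N := by
  apply orderOf_dvd_of_pow_eq_one
  rw [← QuotientGroup.mk_pow, QuotientGroup.eq_one_iff, Cfsg.Agent.S2470.mem_center_iff_smul]
  exact ⟨lam, by rw [Matrix.SpecialLinearGroup.coe_pow, h]⟩

/-- (P2) exact order in `PSL` -/
theorem orderOf_mk_eq (X : SpecialLinearGroup (Fin n) F) (N : ℕ) (lam : F)
    (h : (X : Matrix (Fin n) (Fin n) F) ^ N = lam • (1 : Matrix (Fin n) (Fin n) F))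
    (hmin : ∀ j : ℕ, (∃ μ : F, (X : Matrix (Fin n) (Fin n) F) ^ j =
      μ • (1 : Matrix (Fin n) (Fin n) F)) → N ∣ j) :
    orderOf (QuotientGroup.mk X : Matrix.ProjectiveSpecialLinearGroup (Fin n) F) = N := by
  apply Nat.dvd_antisymm (orderOf_mk_dvd X N lam h)
  apply hmin
  have h1 : (QuotientGroup.mk X : Matrix.ProjectiveSpecialLinearGroup (Fin n) F) ^
      orderOf (QuotientGroup.mk X : Matrix.ProjectiveSpecialLinearGroup (Fin n) F) = 1 :=
    pow_orderOf_eq_one _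
  rw [← QuotientGroup.mk_pow, QuotientGroup.eq_one_iff, Cfsg.Agent.S2470.mem_center_iff_smul] at h1
  obtain ⟨μ, hμ⟩ := h1
  exact ⟨μ, by rw [← hμ, Matrix.SpecialLinearGroup.coe_pow]⟩

end general

/-- `x ∣ i w → x / gcd(x, w) ∣ i` -/
theorem div_gcd_dvd_of_dvd_mul (x w i : ℕ) (hx : 0 < x) (h : x ∣ i * w) : x / Nat.gcd x w ∣ i := by
  have hg : 0 < Nat.gcd x w := Nat.gcd_pos_of_pos_left _ hx
  have hcop : Nat.Coprime (x / Nat.gcd x w) (w / Nat.gcd x w) := Nat.coprime_div_gcd_div_gcd hg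
  apply hcop.dvd_of_dvd_mul_right
  obtain ⟨c, hc⟩ := h
  refine ⟨c, ?_⟩
  apply Nat.eq_of_mul_eq_mul_left hg
  calc Nat.gcd x w * (i * (w / Nat.gcd x w)) = i * (Nat.gcd x w * (w / Nat.gcd x w)) := by ring
    _ = i * w := by rw [Nat.mul_div_cancel' (Nat.gcd_dvd_right _ _)]
    _ = x * c := hc
    _ = Nat.gcd x w * (x / Nat.gcd x w) * c := by rw [Nat.mul_div_cancel' (Nat.gcd_dvd_left _ _)]
    _ = Nat.gcd x w * (x / Nat.gcd x w * c) := by ring

theorem gcd_sq_add (q : ℕ) (hq : 1 ≤ q) : Nat.gcd (q ^ 2 + q + 1) (q - 1) = Nat.gcd 3 (q - 1) := by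
  have h : q ^ 2 + q + 1 = 3 + (q + 2) * (q - 1) := by
    obtain ⟨t, rfl⟩ : ∃ t, q = t + 1 := ⟨q - 1, by omega⟩
    simp only [Nat.add_sub_cancel]
    ring
  rw [h, Nat.gcd_add_mul_right_left]

theorem gcd_add_two (q : ℕ) (hq : 1 ≤ q) : Nat.gcd (q - 1) (q + 2) = Nat.gcd 3 (q - 1) := by
  have h : q + 2 = 3 + 1 * (q - 1) := by omega
  rw [h, Nat.gcd_comm, Nat.gcd_add_mul_right_left]

section
variable {F : Type*} [Field F] [Fintype F]

/-- (E1) Singer element: order `(q² + q + 1)/d` -/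
theorem exists_order_singer :
    ∃ x : Matrix.ProjectiveSpecialLinearGroup (Fin 3) F,
      orderOf x = (Fintype.card F ^ 2 + Fintype.card F + 1) / Nat.gcd 3 (Fintype.card F - 1) := by
  obtain ⟨A, hA, -, hcrit⟩ := exists_singer (F := F) 3 (by norm_num)
  set q := Fintype.card F with hq
  have hq2 : 2 ≤ q := Fintype.one_lt_card
  have hq3 : q ^ 3 - 1 = (q ^ 2 + q + 1) * (q - 1) := by
    have := cube_sub_one_div q hq2
    have hdvd : q - 1 ∣ q ^ 3 - 1 := by
      have := Nat.sub_dvd_pow_sub_pow q 1 3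
      simpa using this
    rw [← this, Nat.div_mul_cancel hdvd]
  have hpos : 0 < q ^ 3 - 1 := by
    rw [hq3]
    exact Nat.mul_pos (by positivity) (by omega)
  have hdetA : A.det ≠ 0 := by
    intro h0
    have h1 : A ^ (q ^ 3 - 1) = 1 := by rw [← hA]; exact pow_orderOf_eq_one A
    have h2 := congrArg Matrix.det h1
    rw [Matrix.det_pow, h0, zero_pow hpos.ne', Matrix.det_one] at h2
    exact zero_ne_one h2
  have hdet : (A ^ (q - 1)).det = 1 := by
    rw [Matrix.det_pow]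
    exact FiniteField.pow_card_sub_one_eq_one _ hdetA
  let X : SpecialLinearGroup (Fin 3) F := ⟨A ^ (q - 1), hdet⟩
  have hXpow : ∀ j : ℕ, (X : Matrix (Fin 3) (Fin 3) F) ^ j = A ^ ((q - 1) * j) := by
    intro j
    show (A ^ (q - 1)) ^ j = _
    rw [← pow_mul]
  have hscal : ∀ j : ℕ, (∃ μ : F, (X : Matrix (Fin 3) (Fin 3) F) ^ j =
      μ • (1 : Matrix (Fin 3) (Fin 3) F)) ↔ q ^ 2 + q + 1 ∣ j * (q - 1) := by
    intro j
    rw [hXpow, hcrit, hq3]
    rw [show (q - 1) * j * (q - 1) = (j * (q - 1)) * (q - 1) by ring]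
    exact Nat.mul_dvd_mul_iff_right (by omega)
  set d := Nat.gcd 3 (q - 1) with hd
  have hd0 : 0 < d := Nat.gcd_pos_of_pos_left _ (by norm_num)
  obtain ⟨e, he⟩ : d ∣ q ^ 2 + q + 1 := gcd3_dvd_sq_add q (by omega)
  have hN1 : (q ^ 2 + q + 1) / d = e := by
    rw [he]; exact Nat.mul_div_cancel_left e hd0
  obtain ⟨μ, hμ⟩ : ∃ μ : F, (X : Matrix (Fin 3) (Fin 3) F) ^ ((q ^ 2 + q + 1) / d) =
      μ • (1 : Matrix (Fin 3) (Fin 3) F) := by
    rw [hscal, hN1, he, mul_comm d e]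
    exact Nat.mul_dvd_mul_left e (Nat.gcd_dvd_right _ _)
  refine ⟨QuotientGroup.mk X, orderOf_mk_eq X _ μ hμ ?_⟩
  intro j hj
  rw [hscal] at hj
  have := div_gcd_dvd_of_dvd_mul (q ^ 2 + q + 1) (q - 1) j (by positivity) hj
  rwa [gcd_sq_add q (by omega)] at this

/-- (E2) order `(q² - 1)/d` -/
theorem exists_order_torus :
    ∃ x : Matrix.ProjectiveSpecialLinearGroup (Fin 3) F,
      orderOf x = (Fintype.card F ^ 2 - 1) / Nat.gcd 3 (Fintype.card F - 1) := by
  obtain ⟨A, hA, hAnorm, hcrit⟩ := exists_singer (F := F) 2 (by norm_num)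
  set q := Fintype.card F with hq
  have hq2 : 2 ≤ q := Fintype.one_lt_card
  have hq3 : q ^ 2 - 1 = (q + 1) * (q - 1) := by
    have := sq_sub_one_div q hq2
    have hdvd : q - 1 ∣ q ^ 2 - 1 := by
      have := Nat.sub_dvd_pow_sub_pow q 1 2
      simpa using this
    rw [← this, Nat.div_mul_cancel hdvd]
  rw [sq_sub_one_div q hq2] at hAnorm
  have hpos : 0 < q ^ 2 - 1 := by
    rw [hq3]
    exact Nat.mul_pos (by positivity) (by omega)
  set δ := A.det with hδ
  have hδ0 : δ ≠ 0 := by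
    intro h0
    have h1 : A ^ (q ^ 2 - 1) = 1 := by rw [← hA]; exact pow_orderOf_eq_one A
    have h2 := congrArg Matrix.det h1
    rw [Matrix.det_pow, ← hδ, h0, zero_pow hpos.ne', Matrix.det_one] at h2
    exact zero_ne_one h2
  -- order of `δ`
  have hδord : orderOf δ = q - 1 := by
    have h1 : orderOf (A ^ (q + 1)) = q - 1 := by
      rw [orderOf_pow_of_dvd (by omega) (by rw [hA, hq3]; exact dvd_mul_right _ _), hA, hq3]
      exact Nat.mul_div_cancel_left _ (by omega)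
    rw [hAnorm] at h1
    have h2 : orderOf (δ • (1 : Matrix (Fin 2) (Fin 2) F)) = orderOf δ := by
      rw [orderOf_eq_orderOf_iff]
      intro k
      rw [smul_pow, one_pow]
      constructor
      · intro h
        have := congrFun (congrFun h 0) 0
        simpa using this
      · intro h
        rw [h, one_smul]
    rw [← h2, h1]
  let e : Fin 2 ⊕ Fin 1 ≃ Fin 3 := splitEquiv (by norm_num)
  set M : Matrix (Fin 3) (Fin 3) F := twoBlock e (A, δ⁻¹ • (1 : Matrix (Fin 1) (Fin 1) F)) with hM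
  have hdet : M.det = 1 := by
    rw [hM, det_twoBlock, Matrix.det_smul, Matrix.det_one, Fintype.card_fin, pow_one, mul_one, ← hδ,
      mul_inv_cancel₀ hδ0]
  let X : SpecialLinearGroup (Fin 3) F := ⟨M, hdet⟩
  have hXpow : ∀ j : ℕ, (X : Matrix (Fin 3) (Fin 3) F) ^ j =
      twoBlock e (A ^ j, (δ⁻¹) ^ j • (1 : Matrix (Fin 1) (Fin 1) F)) := by
    intro j
    show M ^ j = _
    rw [hM, ← map_pow, Prod.pow_mk, smul_pow, one_pow]
  have h11 : ∀ a μ : F, a • (1 : Matrix (Fin 1) (Fin 1) F) = μ • (1 : Matrix (Fin 1) (Fin 1) F) ↔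
      a = μ := by
    intro a μ
    constructor
    · intro h
      have := congrFun (congrFun h 0) 0
      simpa using this
    · rintro rfl; rfl
  set d := Nat.gcd 3 (q - 1) with hd
  have hd0 : 0 < d := Nat.gcd_pos_of_pos_left _ (by norm_num)
  have hdq : d ∣ q - 1 := Nat.gcd_dvd_right _ _
  have hN2 : (q ^ 2 - 1) / d = (q + 1) * ((q - 1) / d) := sq_sub_one_div_gcd q hq2
  -- the scalar criterion
  have hscal : ∀ j : ℕ, (∃ μ : F, (X : Matrix (Fin 3) (Fin 3) F) ^ j =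
      μ • (1 : Matrix (Fin 3) (Fin 3) F)) ↔ ∃ i : ℕ, j = (q + 1) * i ∧ q - 1 ∣ i * (q + 2) := by
    intro j
    constructor
    · rintro ⟨μ, hμ⟩
      rw [hXpow, twoBlock_eq_smul_one_iff, h11] at hμ
      obtain ⟨h1, h2⟩ := hμ
      have h3 := (hcrit j).mp ⟨μ, h1⟩
      rw [hq3, Nat.mul_dvd_mul_iff_right (by omega)] at h3
      obtain ⟨i, hi⟩ := h3
      refine ⟨i, hi, ?_⟩
      rw [hi, pow_mul, hAnorm, smul_pow, one_pow] at h1
      have h4 : δ ^ i = μ := by
        have := congrFun (congrFun h1 0) 0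
        simpa using this
      rw [← hδord, orderOf_dvd_iff_pow_eq_one]
      have h5 : δ ^ i * δ ^ j = 1 := by
        rw [h4, ← h2, ← mul_pow, inv_mul_cancel₀ hδ0, one_pow]
      rw [← h5, ← pow_add, hi]
      congr 1
      ring
    · rintro ⟨i, hi, hdvd⟩
      refine ⟨δ ^ i, ?_⟩
      rw [hXpow, twoBlock_eq_smul_one_iff, h11]
      have h5 : δ ^ (i * (q + 2)) = 1 := by
        rw [← hδord] at hdvd
        exact orderOf_dvd_iff_pow_eq_one.mp hdvd
      constructor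
      · rw [hi, pow_mul, hAnorm, smul_pow, one_pow]
      · have h6 : δ ^ i * δ ^ j = 1 := by
          rw [← pow_add, ← h5, hi]
          congr 1
          ring
        rw [inv_pow]
        exact inv_eq_of_mul_eq_one_left h6
  obtain ⟨μ, hμ⟩ : ∃ μ : F, (X : Matrix (Fin 3) (Fin 3) F) ^ ((q ^ 2 - 1) / d) =
      μ • (1 : Matrix (Fin 3) (Fin 3) F) := by
    rw [hscal, hN2]
    refine ⟨(q - 1) / d, rfl, ?_⟩
    have hd2 : d ∣ q + 2 := by
      have h3 : d ∣ 3 := Nat.gcd_dvd_left _ _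
      have : q + 2 = (q - 1) + 3 := by omega
      rw [this]
      exact Dvd.dvd.add hdq h3
    obtain ⟨c, hc⟩ := hd2
    rw [hc]
    refine ⟨c, ?_⟩
    calc (q - 1) / d * (d * c) = ((q - 1) / d * d) * c := by ring
      _ = (q - 1) * c := by rw [Nat.div_mul_cancel hdq]
  refine ⟨QuotientGroup.mk X, orderOf_mk_eq X _ μ hμ ?_⟩
  intro j hj
  rw [hscal] at hj
  obtain ⟨i, hi, hdvd⟩ := hj
  rw [hN2, hi]
  apply Nat.mul_dvd_mul_left
  have := div_gcd_dvd_of_dvd_mul (q - 1) (q + 2) i (by omega) hdvd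
  rwa [gcd_add_two q (by omega)] at this

/-- (E3) order `q - 1` -/
theorem exists_order_split :
    ∃ x : Matrix.ProjectiveSpecialLinearGroup (Fin 3) F, orderOf x = Fintype.card F - 1 := by
  obtain ⟨c, hc0, hc⟩ := exists_orderOf_eq (F := F) (Fintype.card F - 1) dvd_rfl
  set t : Fin 3 → F := ![c, c⁻¹, 1] with ht
  have hdet : (Matrix.diagonal t).det = 1 := by
    rw [Matrix.det_diagonal, Fin.prod_univ_three, ht]
    simp [mul_inv_cancel₀ hc0]
  let X : SpecialLinearGroup (Fin 3) F := ⟨Matrix.diagonal t, hdet⟩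
  have hscal : ∀ j : ℕ, (∃ μ : F, (X : Matrix (Fin 3) (Fin 3) F) ^ j =
      μ • (1 : Matrix (Fin 3) (Fin 3) F)) ↔ Fintype.card F - 1 ∣ j := by
    intro j
    show (∃ μ : F, (Matrix.diagonal t) ^ j = μ • (1 : Matrix (Fin 3) (Fin 3) F)) ↔ _
    simp only [diagonal_pow_eq_iff]
    rw [← hc, orderOf_dvd_iff_pow_eq_one]
    constructor
    · rintro ⟨μ, hμ⟩
      have h2 := hμ 2
      have h0 := hμ 0
      simp only [ht, Matrix.cons_val_two, Matrix.cons_val_zero, Matrix.tail_cons, Matrix.head_cons,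
        one_pow] at h2 h0
      rw [h0, ← h2]
    · intro h
      refine ⟨1, fun i => ?_⟩
      fin_cases i
      · simpa [ht] using h
      · simp [ht, h]
      · simp [ht]
  obtain ⟨μ, hμ⟩ := (hscal (Fintype.card F - 1)).mpr dvd_rfl
  exact ⟨QuotientGroup.mk X, orderOf_mk_eq X _ μ hμ fun j hj => (hscal j).mp hj⟩

/-- (E4) order `p (q - 1)/d` -/
theorem exists_order_mixed (p : ℕ) [hp : Fact p.Prime] [CharP F p] :
    ∃ x : Matrix.ProjectiveSpecialLinearGroup (Fin 3) F,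
      orderOf x = p * ((Fintype.card F - 1) / Nat.gcd 3 (Fintype.card F - 1)) := by
  obtain ⟨c, hc0, hc⟩ := exists_orderOf_eq (F := F) (Fintype.card F - 1) dvd_rfl
  set q := Fintype.card F with hq
  have hq2 : 2 ≤ q := Fintype.one_lt_card
  let e : Fin 2 ⊕ Fin 1 ≃ Fin 3 := splitEquiv (by norm_num)
  set M : Matrix (Fin 3) (Fin 3) F :=
    twoBlock e (c • (Jmat : Matrix (Fin 2) (Fin 2) F), (c⁻¹) ^ 2 • (1 : Matrix (Fin 1) (Fin 1) F))
    with hM
  have hdet : M.det = 1 := by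
    rw [hM, det_twoBlock, Matrix.det_smul, Matrix.det_smul, Matrix.det_one, Jmat_det,
      Fintype.card_fin, Fintype.card_fin, pow_one, mul_one, mul_one, inv_pow,
      mul_inv_cancel₀ (pow_ne_zero 2 hc0)]
  let X : SpecialLinearGroup (Fin 3) F := ⟨M, hdet⟩
  have hXpow : ∀ j : ℕ, (X : Matrix (Fin 3) (Fin 3) F) ^ j =
      twoBlock e ((c • (Jmat : Matrix (Fin 2) (Fin 2) F)) ^ j,
        ((c⁻¹) ^ 2) ^ j • (1 : Matrix (Fin 1) (Fin 1) F)) := by
    intro j
    show M ^ j = _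
    rw [hM, ← map_pow, Prod.pow_mk]
    congr 2
    rw [smul_pow, one_pow]
  have h11 : ∀ a μ : F, a • (1 : Matrix (Fin 1) (Fin 1) F) = μ • (1 : Matrix (Fin 1) (Fin 1) F) ↔
      a = μ := by
    intro a μ
    constructor
    · intro h
      have := congrFun (congrFun h 0) 0
      simpa using this
    · rintro rfl; rfl
  have hinv : ∀ j : ℕ, (c⁻¹ ^ 2) ^ j * (c ^ j) ^ 2 = 1 := by
    intro j
    have h0 : c⁻¹ ^ 2 * c ^ 2 = 1 := by rw [← mul_pow, inv_mul_cancel₀ hc0, one_pow]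
    rw [← pow_mul c j 2, mul_comm j 2, pow_mul c 2 j, ← mul_pow, h0, one_pow]
  set d := Nat.gcd 3 (q - 1) with hd
  have hdq : d ∣ q - 1 := Nat.gcd_dvd_right _ _
  have hscal : ∀ j : ℕ, (∃ μ : F, (X : Matrix (Fin 3) (Fin 3) F) ^ j =
      μ • (1 : Matrix (Fin 3) (Fin 3) F)) ↔ (p ∣ j ∧ q - 1 ∣ j * 3) := by
    intro j
    rw [hXpow]
    simp only [twoBlock_eq_smul_one_iff, h11, smulJ_pow_eq_iff hc0]
    rw [CharP.cast_eq_zero_iff F p j, ← hc, orderOf_dvd_iff_pow_eq_one]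
    constructor
    · rintro ⟨μ, ⟨h1, h2⟩, h3⟩
      refine ⟨h2, ?_⟩
      have h4 : c ^ j * ((c⁻¹) ^ 2) ^ j = c ^ j * c ^ j := by rw [h3, h1]
      have h5 : c ^ j * ((c⁻¹) ^ 2) ^ j * (c ^ j) ^ 2 = c ^ j := by
        rw [mul_assoc, hinv j, mul_one]
      rw [h4] at h5
      have h6 : c ^ j * (c ^ j * c ^ j * c ^ j) = c ^ j * 1 := by
        rw [mul_one]
        calc c ^ j * (c ^ j * c ^ j * c ^ j) = c ^ j * c ^ j * (c ^ j) ^ 2 := by ring
          _ = c ^ j := h5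
      have h7 := mul_left_cancel₀ (pow_ne_zero j hc0) h6
      rw [pow_mul]
      rw [← h7]
      ring
    · rintro ⟨h2, h3⟩
      refine ⟨c ^ j, ⟨rfl, h2⟩, ?_⟩
      rw [pow_mul] at h3
      have h4 : (c⁻¹ ^ 2) ^ j * (c ^ j) ^ 2 = 1 := hinv j
      calc (c⁻¹ ^ 2) ^ j = (c⁻¹ ^ 2) ^ j * (c ^ j) ^ 3 := by rw [h3, mul_one]
        _ = ((c⁻¹ ^ 2) ^ j * (c ^ j) ^ 2) * c ^ j := by ring
        _ = c ^ j := by rw [h4, one_mul]
  have hpq : ¬ p ∣ q - 1 := by
    obtain ⟨f, -, hf⟩ := FiniteField.card F p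
    intro h
    have hpq' : p ∣ q := by rw [hq, hf]; exact dvd_pow_self p f.ne_zero
    have := Nat.dvd_sub hpq' h
    rw [Nat.sub_sub_self (by omega)] at this
    exact hp.out.one_lt.ne' (Nat.dvd_one.mp this)
  have hcop : Nat.Coprime p ((q - 1) / d) := by
    rw [Nat.Prime.coprime_iff_not_dvd hp.out]
    intro h
    exact hpq (h.trans (Nat.div_dvd_of_dvd hdq))
  obtain ⟨μ, hμ⟩ : ∃ μ : F, (X : Matrix (Fin 3) (Fin 3) F) ^ (p * ((q - 1) / d)) =
      μ • (1 : Matrix (Fin 3) (Fin 3) F) := by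
    rw [hscal]
    refine ⟨dvd_mul_right _ _, ?_⟩
    obtain ⟨c3, hc3⟩ : d ∣ 3 := Nat.gcd_dvd_left _ _
    rw [hc3]
    refine ⟨p * c3, ?_⟩
    calc p * ((q - 1) / d) * (d * c3) = ((q - 1) / d * d) * (p * c3) := by ring
      _ = (q - 1) * (p * c3) := by rw [Nat.div_mul_cancel hdq]
  refine ⟨QuotientGroup.mk X, orderOf_mk_eq X _ μ hμ ?_⟩
  intro j hj
  rw [hscal] at hj
  obtain ⟨h1, h2⟩ := hj
  have h3 := div_gcd_dvd_of_dvd_mul (q - 1) 3 j (by omega) h2
  rw [Nat.gcd_comm] at h3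
  exact hcop.mul_dvd_of_dvd_of_dvd h1 h3

omit [Fintype F] in
/-- (E5) order `4` when `p = 2` -/
theorem exists_order_four [CharP F 2] :
    ∃ x : Matrix.ProjectiveSpecialLinearGroup (Fin 3) F, orderOf x = 4 := by
  have h2 : (2 : F) = 0 := by
    have := CharP.cast_eq_zero F 2
    exact_mod_cast this
  set U : Matrix (Fin 3) (Fin 3) F := !![1, 1, 0; 0, 1, 1; 0, 0, 1] with hU
  have hdet : U.det = 1 := by
    rw [hU, Matrix.det_fin_three]
    simp
  let X : SpecialLinearGroup (Fin 3) F := ⟨U, hdet⟩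
  have hU2 : U ^ 2 = !![1, 0, 1; 0, 1, 0; 0, 0, 1] := by
    rw [hU, pow_two]
    ext a b
    fin_cases a <;> fin_cases b <;> simp [Matrix.mul_apply, Fin.sum_univ_three] <;>
      linear_combination h2
  have hU4 : U ^ 4 = 1 := by
    rw [show 4 = 2 * 2 by norm_num, pow_mul, hU2, pow_two]
    ext a b
    fin_cases a <;> fin_cases b <;> simp [Matrix.mul_apply, Fin.sum_univ_three] <;>
      linear_combination h2
  refine ⟨QuotientGroup.mk X, ?_⟩
  have := orderOf_eq_prime_pow (x := (QuotientGroup.mk X :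
    Matrix.ProjectiveSpecialLinearGroup (Fin 3) F)) (p := 2) (n := 1) ?_ ?_
  · simpa using this
  · rw [pow_one, ← QuotientGroup.mk_pow, QuotientGroup.eq_one_iff, mem_center_iff_smul]
    rintro ⟨μ, hμ⟩
    rw [Matrix.SpecialLinearGroup.coe_pow] at hμ
    have h02 := congrFun (congrFun hμ 0) 2
    change (U ^ 2) 0 2 = _ at h02
    rw [hU2] at h02
    simp at h02
  · rw [← QuotientGroup.mk_pow]
    have : X ^ 2 ^ (1 + 1) = 1 := by
      apply Subtype.ext
      rw [Matrix.SpecialLinearGroup.coe_pow]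
      exact hU4
    rw [this, QuotientGroup.mk_one]

end

/-- divisors of an element order are element orders -/
theorem exists_orderOf_of_dvd {G : Type*} [Group G] (x : G) (N m : ℕ) (hN : 0 < N) (hx : orderOf x = N)
    (hm : m ∣ N) : ∃ y : G, orderOf y = m := by
  obtain ⟨c, hc⟩ := hm
  have hc0 : c ≠ 0 := by
    rintro rfl
    rw [mul_zero] at hc
    omega
  have hm0 : 0 < m := by
    rcases Nat.eq_zero_or_pos m with h | h
    · rw [h, zero_mul] at hc; omega
    · exact h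
  refine ⟨x ^ c, ?_⟩
  rw [orderOf_pow_of_dvd hc0 (by rw [hx, hc]; exact dvd_mul_left _ _), hx, hc]
  exact Nat.mul_div_cancel _ (Nat.pos_of_ne_zero hc0)

/-- The set of element orders of PSL(3,q): let F be a finite field of characteristic p with q elements and d = gcd(3, q − 1). The orders of elements of PSL(3,F) are exactly the divisors of (q² + q + 1)/d, of (q² − 1)/d, of q − 1, of p(q − 1)/d, and, when p = 2, of 4. -/
theorem result {F : Type*} [Field F] [Fintype F] (p : ℕ) [Fact p.Prime] [CharP F p] :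
    Set.range (orderOf : Matrix.ProjectiveSpecialLinearGroup (Fin 3) F → ℕ) =
      {m : ℕ | m ∣ (Fintype.card F ^ 2 + Fintype.card F + 1) / Nat.gcd 3 (Fintype.card F - 1) ∨
        m ∣ (Fintype.card F ^ 2 - 1) / Nat.gcd 3 (Fintype.card F - 1) ∨ m ∣ Fintype.card F - 1 ∨
        m ∣ p * (Fintype.card F - 1) / Nat.gcd 3 (Fintype.card F - 1) ∨ (p = 2 ∧ m ∣ 4)} := by
  have hq2 : 2 ≤ Fintype.card F := Fintype.one_lt_card
  have hd0 : 0 < Nat.gcd 3 (Fintype.card F - 1) := Nat.gcd_pos_of_pos_left _ (by norm_num)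
  have hdq : Nat.gcd 3 (Fintype.card F - 1) ∣ Fintype.card F - 1 := Nat.gcd_dvd_right _ _
  have hN4 : p * (Fintype.card F - 1) / Nat.gcd 3 (Fintype.card F - 1) =
      p * ((Fintype.card F - 1) / Nat.gcd 3 (Fintype.card F - 1)) := Nat.mul_div_assoc p hdq
  ext m
  simp only [Set.mem_range, Set.mem_ofPred_eq]
  constructor
  · rintro ⟨x, rfl⟩
    obtain ⟨X, rfl⟩ := QuotientGroup.mk_surjective x
    rcases Cfsg.Agent.Helper38.sl3_pow_scalar p (X : Matrix (Fin 3) (Fin 3) F) X.2 with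
      ⟨lam, h⟩ | ⟨lam, h⟩ | ⟨lam, h⟩ | ⟨lam, h⟩ | ⟨hp2, lam, h⟩
    · left; exact Cfsg.Agent.S2476.orderOf_mk_dvd X _ lam h
    · right; left; exact Cfsg.Agent.S2476.orderOf_mk_dvd X _ lam h
    · right; right; left; exact Cfsg.Agent.S2476.orderOf_mk_dvd X _ lam h
    · right; right; right; left
      rw [hN4]
      exact Cfsg.Agent.S2476.orderOf_mk_dvd X _ lam h
    · right; right; right; right
      exact ⟨hp2, Cfsg.Agent.S2476.orderOf_mk_dvd X _ lam h⟩
  · rintro (h | h | h | h | ⟨hp2, h⟩)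
    · obtain ⟨x, hx⟩ := Cfsg.Agent.S2476.exists_order_singer (F := F)
      refine Cfsg.Agent.S2476.exists_orderOf_of_dvd x _ m ?_ hx h
      obtain ⟨e, he⟩ := Cfsg.Agent.Helper38.gcd3_dvd_sq_add (Fintype.card F) (by omega)
      rw [he, Nat.mul_div_cancel_left e hd0]
      rcases Nat.eq_zero_or_pos e with h0 | h0
      · rw [h0, mul_zero] at he
        have : 0 < Fintype.card F ^ 2 + Fintype.card F + 1 := by positivity
        omega
      · exact h0
    · obtain ⟨x, hx⟩ := Cfsg.Agent.S2476.exists_order_torus (F := F)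
      refine Cfsg.Agent.S2476.exists_orderOf_of_dvd x _ m ?_ hx h
      rw [Cfsg.Agent.Helper38.sq_sub_one_div_gcd _ hq2]
      apply Nat.mul_pos (by omega)
      exact Nat.div_pos (Nat.le_of_dvd (by omega) hdq) hd0
    · obtain ⟨x, hx⟩ := Cfsg.Agent.S2476.exists_order_split (F := F)
      exact Cfsg.Agent.S2476.exists_orderOf_of_dvd x _ m (by omega) hx h
    · obtain ⟨x, hx⟩ := Cfsg.Agent.S2476.exists_order_mixed (F := F) p
      rw [hN4] at h
      refine Cfsg.Agent.S2476.exists_orderOf_of_dvd x _ m ?_ hx h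
      apply Nat.mul_pos (Fact.out : p.Prime).pos
      exact Nat.div_pos (Nat.le_of_dvd (by omega) hdq) hd0
    · subst hp2
      obtain ⟨x, hx⟩ := Cfsg.Agent.S2476.exists_order_four (F := F)
      exact Cfsg.Agent.S2476.exists_orderOf_of_dvd x _ m (by norm_num) hx h

end Cfsg.Agent.S2476
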