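import Cfsg.Statements.S2330

set_option autoImplicit false
open Cfsg

namespace Cfsg.Agent.S2330

open Matrix

variable {F : Type*} [Field F]

/-- The scalar matrix `a` as an element of `GL₂`. -/
noncomputable def scalarGL (a : Fˣ) : Matrix.GeneralLinearGroup (Fin 2) F :=
  Matrix.GeneralLinearGroup.mkOfDetNeZero !![(a : F), 0; 0, (a : F)]
    (by simp [Matrix.det_fin_two])

/-- The companion matrix of `X² - tX + d` as an element of `GL₂`. -/
noncomputable def compGL (t : F) (d : Fˣ) : Matrix.GeneralLinearGroup (Fin 2) F :=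
  Matrix.GeneralLinearGroup.mkOfDetNeZero !![0, -(d : F); 1, t]
    (by simp [Matrix.det_fin_two])

theorem scalarGL_comm (a : Fˣ) (c : Matrix.GeneralLinearGroup (Fin 2) F) :
    c * scalarGL a = scalarGL a * c := by
  apply Matrix.GeneralLinearGroup.ext
  intro i j
  fin_cases i <;> fin_cases j <;>
    simp [scalarGL, Matrix.GeneralLinearGroup.mkOfDetNeZero, Matrix.mul_apply, Fin.sum_univ_two,
      mul_comm]

theorem conj_scalarGL (a : Fˣ) (c : Matrix.GeneralLinearGroup (Fin 2) F) :
    c * scalarGL a * c⁻¹ = scalarGL a := by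
  rw [scalarGL_comm, mul_inv_cancel_right]

theorem trace_conj (c g : Matrix.GeneralLinearGroup (Fin 2) F) :
    ((c * g * c⁻¹ : Matrix.GeneralLinearGroup (Fin 2) F) : Matrix (Fin 2) (Fin 2) F).trace =
      (g : Matrix (Fin 2) (Fin 2) F).trace := by
  have := Matrix.trace_units_conj c (g : Matrix (Fin 2) (Fin 2) F)
  simpa using this

theorem det_conj (c g : Matrix.GeneralLinearGroup (Fin 2) F) :
    ((c * g * c⁻¹ : Matrix.GeneralLinearGroup (Fin 2) F) : Matrix (Fin 2) (Fin 2) F).det =
      (g : Matrix (Fin 2) (Fin 2) F).det := by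
  have := Matrix.det_units_conj c (g : Matrix (Fin 2) (Fin 2) F)
  simpa using this

/-- Every element of `GL₂` is conjugate to a scalar or to a companion matrix. -/
theorem conj_normal_form (g : Matrix.GeneralLinearGroup (Fin 2) F) :
    (∃ a : Fˣ, g = scalarGL a) ∨ ∃ (t : F) (d : Fˣ), IsConj (compGL t d) g := by
  classical
  set G : Matrix (Fin 2) (Fin 2) F := (g : Matrix (Fin 2) (Fin 2) F) with hG
  have hdet : G.det ≠ 0 := Matrix.GeneralLinearGroup.det_ne_zero g
  have hdet2 : G 0 0 * G 1 1 - G 0 1 * G 1 0 ≠ 0 := by rwa [Matrix.det_fin_two] at hdet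
  by_cases hc : G 1 0 = 0
  · by_cases hb : G 0 1 = 0
    · by_cases had : G 0 0 = G 1 1
      · left
        have ha : G 0 0 ≠ 0 := by
          intro h
          apply hdet2
          rw [h, hb]; ring
        refine ⟨Units.mk0 (G 0 0) ha, ?_⟩
        apply Matrix.GeneralLinearGroup.ext
        intro i j
        fin_cases i <;> fin_cases j <;>
          simp [scalarGL, Matrix.GeneralLinearGroup.mkOfDetNeZero, ← hG, hb, hc, had]
      · right
        refine ⟨G 0 0 + G 1 1, Units.mk0 _ hdet2, ?_⟩
        rw [isConj_iff]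
        refine ⟨Matrix.GeneralLinearGroup.mkOfDetNeZero !![1, G 0 0; 1, G 1 1]
          (by
            simp only [Matrix.det_fin_two_of]
            intro h
            apply had
            linear_combination -h), ?_⟩
        rw [mul_inv_eq_iff_eq_mul]
        apply Matrix.GeneralLinearGroup.ext
        intro i j
        fin_cases i <;> fin_cases j <;>
          simp [compGL, Matrix.GeneralLinearGroup.mkOfDetNeZero, Matrix.mul_apply,
            Fin.sum_univ_two, ← hG, hb, hc] <;> ring
    · right
      refine ⟨G 0 0 + G 1 1, Units.mk0 _ hdet2, ?_⟩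
      rw [isConj_iff]
      refine ⟨Matrix.GeneralLinearGroup.mkOfDetNeZero !![0, G 0 1; 1, G 1 1]
        (by simp [Matrix.det_fin_two_of, hb]), ?_⟩
      rw [mul_inv_eq_iff_eq_mul]
      apply Matrix.GeneralLinearGroup.ext
      intro i j
      fin_cases i <;> fin_cases j <;>
        simp [compGL, Matrix.GeneralLinearGroup.mkOfDetNeZero, Matrix.mul_apply,
          Fin.sum_univ_two, ← hG, hc] <;> ring
  · right
    refine ⟨G 0 0 + G 1 1, Units.mk0 _ hdet2, ?_⟩
    rw [isConj_iff]
    refine ⟨Matrix.GeneralLinearGroup.mkOfDetNeZero !![1, G 0 0; 0, G 1 0]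
      (by simp [Matrix.det_fin_two_of, hc]), ?_⟩
    rw [mul_inv_eq_iff_eq_mul]
    apply Matrix.GeneralLinearGroup.ext
    intro i j
    fin_cases i <;> fin_cases j <;>
      simp [compGL, Matrix.GeneralLinearGroup.mkOfDetNeZero, Matrix.mul_apply,
        Fin.sum_univ_two, ← hG] <;> ring

/-- The parametrisation of conjugacy classes. -/
noncomputable def classMap : Fˣ ⊕ (F × Fˣ) → ConjClasses (Matrix.GeneralLinearGroup (Fin 2) F)
  | Sum.inl a => ConjClasses.mk (scalarGL a)
  | Sum.inr (t, d) => ConjClasses.mk (compGL t d)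

theorem scalarGL_injective : Function.Injective (scalarGL (F := F)) := by
  intro a a' h
  have := congrArg (fun x : Matrix.GeneralLinearGroup (Fin 2) F =>
    (x : Matrix (Fin 2) (Fin 2) F) 0 0) h
  simp [scalarGL, Matrix.GeneralLinearGroup.mkOfDetNeZero] at this
  exact Units.ext this

theorem scalarGL_ne_compGL (a : Fˣ) (t : F) (d : Fˣ) : scalarGL a ≠ compGL t d := by
  intro h
  have := congrArg (fun x : Matrix.GeneralLinearGroup (Fin 2) F =>
    (x : Matrix (Fin 2) (Fin 2) F) 1 0) h
  simp [scalarGL, compGL, Matrix.GeneralLinearGroup.mkOfDetNeZero] at this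

theorem classMap_bijective : Function.Bijective (classMap (F := F)) := by
  constructor
  · rintro (a | ⟨t, d⟩) (a' | ⟨t', d'⟩) h
    · simp only [classMap, ConjClasses.mk_eq_mk_iff_isConj, isConj_iff] at h
      obtain ⟨c, hc⟩ := h
      rw [conj_scalarGL] at hc
      rw [scalarGL_injective hc]
    · exfalso
      simp only [classMap, ConjClasses.mk_eq_mk_iff_isConj, isConj_iff] at h
      obtain ⟨c, hc⟩ := h
      rw [conj_scalarGL] at hc
      exact scalarGL_ne_compGL _ _ _ hc
    · exfalso
      simp only [classMap, ConjClasses.mk_eq_mk_iff_isConj] at h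
      rw [isConj_comm, isConj_iff] at h
      obtain ⟨c, hc⟩ := h
      rw [conj_scalarGL] at hc
      exact scalarGL_ne_compGL _ _ _ hc
    · simp only [classMap, ConjClasses.mk_eq_mk_iff_isConj, isConj_iff] at h
      obtain ⟨c, hc⟩ := h
      have h1 := trace_conj c (compGL t d)
      have h2 := det_conj c (compGL t d)
      rw [hc] at h1 h2
      simp [compGL, Matrix.GeneralLinearGroup.mkOfDetNeZero, Matrix.trace_fin_two,
        Matrix.det_fin_two] at h1 h2
      have hd : d' = d := Units.ext h2
      rw [h1, hd]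
  · intro C
    obtain ⟨g, rfl⟩ := ConjClasses.mk_surjective C
    rcases conj_normal_form g with ⟨a, rfl⟩ | ⟨t, d, h⟩
    · exact ⟨Sum.inl a, rfl⟩
    · exact ⟨Sum.inr (t, d), ConjClasses.mk_eq_mk_iff_isConj.mpr h⟩

/-- Over a finite field with q elements, the general linear group GL₂ has exactly q² − 1 conjugacy classes. -/
theorem result {F : Type*} [Field F] [Fintype F] :
    Nat.card (ConjClasses (Matrix.GeneralLinearGroup (Fin 2) F)) = Fintype.card F ^ 2 - 1 := by
  rw [← Nat.card_eq_of_bijective _ (classMap_bijective (F := F)), Nat.card_sum, Nat.card_prod,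
    Nat.card_units, Nat.card_eq_fintype_card]
  have h1 : 1 ≤ Fintype.card F := Fintype.card_pos
  obtain ⟨k, hk⟩ : ∃ k, Fintype.card F = k + 1 := ⟨Fintype.card F - 1, by omega⟩
  rw [hk]
  simp only [Nat.add_sub_cancel]
  have : (k + 1) ^ 2 = k + (k + 1) * k + 1 := by ring
  rw [this, Nat.add_sub_cancel]

end Cfsg.Agent.S2330
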