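import Cfsg.Statements.S2331

set_option autoImplicit false
open Cfsg

namespace Cfsg.Agent.S2331

open Matrix

variable {F : Type*} [Field F]

/-- Constructor for `SL₂` keeping the type folded. -/
def mkSL (M : Matrix (Fin 2) (Fin 2) F) (h : M.det = 1) : Matrix.SpecialLinearGroup (Fin 2) F :=
  ⟨M, h⟩

theorem coe_mkSL (M : Matrix (Fin 2) (Fin 2) F) (h : M.det = 1) :
    ((mkSL M h : Matrix.SpecialLinearGroup (Fin 2) F) : Matrix (Fin 2) (Fin 2) F) = M := rfl

/-- The companion matrix of `X² - tX + 1` as an element of `SL₂`. -/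
def compSL (t : F) : Matrix.SpecialLinearGroup (Fin 2) F :=
  mkSL !![0, -1; 1, t] (by simp [Matrix.det_fin_two])

theorem coe_compSL (t : F) :
    ((compSL t : Matrix.SpecialLinearGroup (Fin 2) F) : Matrix (Fin 2) (Fin 2) F) =
      !![0, -1; 1, t] := rfl

theorem trace_conj (c g : Matrix.SpecialLinearGroup (Fin 2) F) :
    ((c * g * c⁻¹ : Matrix.SpecialLinearGroup (Fin 2) F) : Matrix (Fin 2) (Fin 2) F).trace =
      (g : Matrix (Fin 2) (Fin 2) F).trace := by
  rw [Matrix.SpecialLinearGroup.coe_mul, Matrix.SpecialLinearGroup.coe_mul, Matrix.trace_mul_cycle,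
    ← Matrix.SpecialLinearGroup.coe_mul, inv_mul_cancel, Matrix.SpecialLinearGroup.coe_one,
    one_mul]

/-- In characteristic 2 (finite field), every element of `SL₂` is `1` or conjugate to a
companion matrix. -/
theorem conj_normal_form [Finite F] [CharP F 2] (g : Matrix.SpecialLinearGroup (Fin 2) F) :
    g = 1 ∨ ∃ t : F, IsConj (compSL t) g := by
  classical
  have h2 : (2 : F) = 0 := by
    have := CharP.cast_eq_zero F 2
    exact_mod_cast this
  set G : Matrix (Fin 2) (Fin 2) F := (g : Matrix (Fin 2) (Fin 2) F) with hG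
  have hdet : G.det = 1 := g.2
  rw [Matrix.det_fin_two] at hdet
  have hsq : ∀ δ : F, δ ≠ 0 → ∃ s : F, s * s * δ = 1 := by
    intro δ hδ
    obtain ⟨s, hs⟩ := FiniteField.isSquare_of_char_two (ringChar.eq F 2) δ⁻¹
    refine ⟨s, ?_⟩
    rw [← hs, inv_mul_cancel₀ hδ]
  by_cases hc : G 1 0 = 0
  · by_cases hb : G 0 1 = 0
    · by_cases had : G 0 0 = G 1 1
      · left
        have ha : G 0 0 = 1 := by
          have h1 : (G 0 0 - 1) * (G 0 0 - 1) = 0 := by
            rw [hb, ← had] at hdet
            linear_combination hdet - (G 0 0 - 1) * h2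
          have := mul_self_eq_zero.mp h1
          linear_combination this
        apply Matrix.SpecialLinearGroup.ext
        intro i j
        fin_cases i <;> fin_cases j <;> simp [← hG, hb, hc, ha, ← had]
      · right
        have hδ : G 1 1 - G 0 0 ≠ 0 := fun h => had (by linear_combination -h)
        obtain ⟨s, hs⟩ := hsq _ hδ
        refine ⟨G 0 0 + G 1 1, ?_⟩
        rw [isConj_iff]
        refine ⟨mkSL !![s, s * G 0 0; s, s * G 1 1] (by
          rw [Matrix.det_fin_two_of]; linear_combination hs), mul_inv_eq_iff_eq_mul.mpr ?_⟩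
        apply Matrix.SpecialLinearGroup.ext
        intro i j
        fin_cases i <;> fin_cases j <;>
          simp [coe_compSL, coe_mkSL, Matrix.SpecialLinearGroup.coe_mul, Matrix.mul_apply, Fin.sum_univ_two, ← hG, hb, hc]
        all_goals (first | ring1 | linear_combination s * hdet + (s * G 1 0) * hb)
    · right
      have hδ : -G 0 1 ≠ 0 := neg_ne_zero.mpr hb
      obtain ⟨s, hs⟩ := hsq _ hδ
      refine ⟨G 0 0 + G 1 1, ?_⟩
      rw [isConj_iff]
      refine ⟨mkSL !![0, s * G 0 1; s, s * G 1 1] (by
        rw [Matrix.det_fin_two_of]; linear_combination hs), mul_inv_eq_iff_eq_mul.mpr ?_⟩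
      apply Matrix.SpecialLinearGroup.ext
      intro i j
      fin_cases i <;> fin_cases j <;>
        simp [coe_compSL, coe_mkSL, Matrix.SpecialLinearGroup.coe_mul, Matrix.mul_apply, Fin.sum_univ_two, ← hG, hc]
      all_goals (first | ring1 | linear_combination s * hdet + (s * G 0 1) * hc)
  · right
    obtain ⟨s, hs⟩ := hsq _ hc
    refine ⟨G 0 0 + G 1 1, ?_⟩
    rw [isConj_iff]
    refine ⟨mkSL !![s, s * G 0 0; 0, s * G 1 0] (by
      rw [Matrix.det_fin_two_of]; linear_combination hs), mul_inv_eq_iff_eq_mul.mpr ?_⟩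
    apply Matrix.SpecialLinearGroup.ext
    intro i j
    fin_cases i <;> fin_cases j <;>
      simp [coe_compSL, coe_mkSL, Matrix.SpecialLinearGroup.coe_mul, Matrix.mul_apply, Fin.sum_univ_two, ← hG]
    all_goals (first | ring1 | linear_combination s * hdet)

/-- The parametrisation of conjugacy classes. -/
def classMap : Option F → ConjClasses (Matrix.SpecialLinearGroup (Fin 2) F)
  | none => ConjClasses.mk 1
  | some t => ConjClasses.mk (compSL t)

theorem compSL_ne_one (t : F) : compSL t ≠ 1 := by
  intro h
  have := congrArg (fun x : Matrix.SpecialLinearGroup (Fin 2) F =>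
    (x : Matrix (Fin 2) (Fin 2) F) 1 0) h
  simp [coe_compSL] at this

theorem classMap_bijective [Finite F] [CharP F 2] : Function.Bijective (classMap (F := F)) := by
  constructor
  · rintro (_ | t) (_ | t') h
    · rfl
    · exfalso
      simp only [classMap, ConjClasses.mk_eq_mk_iff_isConj] at h
      rw [isConj_iff] at h
      obtain ⟨c, hc⟩ := h
      rw [mul_one, mul_inv_cancel] at hc
      exact compSL_ne_one t' hc.symm
    · exfalso
      simp only [classMap, ConjClasses.mk_eq_mk_iff_isConj] at h
      rw [isConj_comm, isConj_iff] at h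
      obtain ⟨c, hc⟩ := h
      rw [mul_one, mul_inv_cancel] at hc
      exact compSL_ne_one t hc.symm
    · simp only [classMap, ConjClasses.mk_eq_mk_iff_isConj, isConj_iff] at h
      obtain ⟨c, hc⟩ := h
      have h1 := trace_conj c (compSL t)
      rw [hc] at h1
      simp [coe_compSL, Matrix.trace_fin_two] at h1
      rw [h1]
  · intro C
    obtain ⟨g, rfl⟩ := ConjClasses.mk_surjective C
    rcases conj_normal_form g with rfl | ⟨t, h⟩
    · exact ⟨none, rfl⟩
    · exact ⟨some t, ConjClasses.mk_eq_mk_iff_isConj.mpr h⟩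

/-- Over a finite field with q elements, q even, the special linear group SL₂ has exactly q + 1 conjugacy classes. -/
theorem result {F : Type*} [Field F] [Fintype F] [CharP F 2] :
    Nat.card (ConjClasses (Matrix.SpecialLinearGroup (Fin 2) F)) = Fintype.card F + 1 := by
  rw [← Nat.card_eq_of_bijective _ (classMap_bijective (F := F)), Nat.card_eq_fintype_card,
    Fintype.card_option]

end Cfsg.Agent.S2331
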