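import Mathlib
import Cfsg.Statements.S0707

set_option autoImplicit false
open Cfsg

namespace Cfsg.Agent.S0707

/-- A group whose trivial subgroup is maximal has prime order. -/
theorem prime_card_of_isCoatom_bot {G : Type*} [Group G] (h : IsCoatom (⊥ : Subgroup G)) :
    (Nat.card G).Prime := by
  have hz : ∀ x : G, x ≠ 1 → Subgroup.zpowers x = ⊤ := by
    intro x hx
    apply h.2
    rw [bot_lt_iff_ne_bot]
    intro h0
    exact hx (Subgroup.zpowers_eq_bot.mp h0)
  have hcard : ∀ x : G, x ≠ 1 → Nat.card G = orderOf x := by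
    intro x hx
    rw [← Nat.card_zpowers, hz x hx, Subgroup.card_top]
  obtain ⟨g, hg⟩ : ∃ g : G, g ≠ 1 := by
    by_contra hcon
    push Not at hcon
    apply h.1
    rw [eq_comm, Subgroup.eq_bot_iff_forall]
    intro x _
    exact hcon x
  have hfin : IsOfFinOrder g := by
    by_cases h2 : g ^ 2 = 1
    · rw [isOfFinOrder_iff_pow_eq_one]
      exact ⟨2, by norm_num, h2⟩
    · have hmem : g ∈ Subgroup.zpowers (g ^ 2) := by rw [hz _ h2]; trivial
      obtain ⟨k, hk⟩ := Subgroup.mem_zpowers_iff.mp hmem
      rw [isOfFinOrder_iff_zpow_eq_one]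
      refine ⟨2 * k - 1, by omega, ?_⟩
      rw [zpow_sub, zpow_mul, zpow_one]
      have : (g ^ (2 : ℤ)) = g ^ 2 := by norm_cast
      rw [this, hk, mul_inv_cancel]
  have hpos : 0 < Nat.card G := by
    rw [hcard g hg]
    exact orderOf_pos_iff.mpr hfin
  have hfinite : Finite G := Nat.finite_of_card_ne_zero hpos.ne'
  have hne1 : Nat.card G ≠ 1 := by
    rw [hcard g hg]
    intro h1
    exact hg (orderOf_eq_one_iff.mp h1)
  have hp : (Nat.card G).minFac.Prime := Nat.minFac_prime hne1
  have : Fact (Nat.card G).minFac.Prime := ⟨hp⟩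
  obtain ⟨x, hx⟩ := exists_prime_orderOf_dvd_card' (G := G) (Nat.card G).minFac
    (Nat.minFac_dvd _)
  have hx1 : x ≠ 1 := by
    rintro rfl
    rw [orderOf_one] at hx
    exact hp.one_lt.ne hx
  rw [hcard x hx1, hx]
  exact hp

/-- In a primitive permutation group, distinct points have distinct stabilisers unless the group is regular of prime degree. -/
theorem result {α : Type*} (G : Subgroup (Equiv.Perm α)) [MulAction.IsPreprimitive G α] (h : ¬ (Nat.card α).Prime ∨ ∃ a : α, MulAction.stabilizer G a ≠ ⊥) {a b : α} (hab : a ≠ b) : MulAction.stabilizer G a ≠ MulAction.stabilizer G b := by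
  intro heq
  have hnt : Nontrivial α := ⟨a, b, hab⟩
  have hco : IsCoatom (MulAction.stabilizer G a) :=
    MulAction.IsPreprimitive.isCoatom_stabilizer_of_isPreprimitive G a
  obtain ⟨g, hg⟩ := MulAction.exists_smul_eq G a b
  -- `g` normalizes the stabilizer
  have hconj : ∀ x : G, MulAction.stabilizer G (x • a) =
      (MulAction.stabilizer G a).map ((MulAut.conj x : G ≃* G) : G →* G) :=
    fun x => MulAction.stabilizer_smul_eq_stabilizer_map_conj x a
  have hgn : g ∈ Subgroup.normalizer ((MulAction.stabilizer G a : Subgroup G) : Set G) := by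
    rw [Subgroup.mem_normalizer_iff_map_conj_eq, ← hconj, hg, heq]
  have hgK : g ∉ MulAction.stabilizer G a := by
    rw [MulAction.mem_stabilizer_iff, hg]
    exact hab.symm
  have hnorm : Subgroup.normalizer ((MulAction.stabilizer G a : Subgroup G) : Set G) = ⊤ := by
    apply hco.2
    apply lt_of_le_of_ne Subgroup.le_normalizer
    intro h'
    apply hgK
    rw [h']
    exact hgn
  -- hence all stabilizers coincide
  have hall : ∀ x : α, MulAction.stabilizer G x = MulAction.stabilizer G a := by
    intro x
    obtain ⟨k, rfl⟩ := MulAction.exists_smul_eq G a x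
    rw [hconj]
    have hk : k ∈ Subgroup.normalizer ((MulAction.stabilizer G a : Subgroup G) : Set G) := by
      rw [hnorm]; trivial
    exact Subgroup.mem_normalizer_iff_map_conj_eq.mp hk
  -- so the stabilizer is trivial
  have hbot : MulAction.stabilizer G a = ⊥ := by
    rw [Subgroup.eq_bot_iff_forall]
    intro k hk
    apply Subtype.ext
    ext x
    have : k ∈ MulAction.stabilizer G x := by rw [hall x]; exact hk
    exact this
  rcases h with h | ⟨c, hc⟩
  · apply h
    rw [hbot] at hco
    have hidx := MulAction.index_stabilizer_of_transitive G a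
    rw [hbot, Subgroup.index_bot] at hidx
    rw [← hidx]
    exact prime_card_of_isCoatom_bot hco
  · apply hc
    rw [hall c, hbot]

end Cfsg.Agent.S0707
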