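import Cfsg.Statements.S2395
-- import your own Cfsg.Agent.* helpers here

set_option autoImplicit false
open Cfsg

namespace Cfsg.Agent.S2395

open Cfsg.Lie

section base
variable (D : ChevalleyDatum) (K : Type*) [Field K]

/-- image of the generator in the abelianization -/
noncomputable def f (γ : ℕ) (t : K) : Abelianization (D.SteinbergCover K) :=
  Abelianization.of (D.scGen K γ t)

theorem f_add (γ : ℕ) (t₁ t₂ : K) : f D K γ (t₁ + t₂) = f D K γ t₁ * f D K γ t₂ := by
  unfold f
  rw [← map_mul]
  congr 1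
  unfold ChevalleyDatum.scGen
  by_cases h : γ < D.nroots
  · rw [← map_mul]
    symm
    apply PresentedGroup.mk_eq_mk_of_mul_inv_mem
    left
    exact ⟨γ, t₁, t₂, h, rfl⟩
  · simp [ChevalleyDatum.stX, h]

theorem f_zero (γ : ℕ) : f D K γ 0 = 1 := by
  have := f_add D K γ 0 0
  rw [add_zero] at this
  exact (mul_eq_left.1 this.symm)

theorem f_neg (γ : ℕ) (t : K) : f D K γ (-t) = (f D K γ t)⁻¹ := by
  have := f_add D K γ t (-t)
  rw [add_neg_cancel, f_zero] at this
  exact eq_inv_of_mul_eq_one_right this.symm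

theorem f_sub (γ : ℕ) (a b : K) : f D K γ (a - b) = f D K γ a / f D K γ b := by
  rw [sub_eq_add_neg, f_add, f_neg, div_eq_mul_inv]

/-- the image of a word is the product of images -/
theorem of_stWord (w : List (ℕ × K)) :
    Abelianization.of (PresentedGroup.mk (D.steinbergRelsAB K) (D.stWord w)) =
      (w.map fun p => f D K p.1 p.2).prod := by
  unfold ChevalleyDatum.stWord
  rw [map_list_prod, map_list_prod, List.map_map, List.map_map]
  rfl

/-- (R2) in the abelianization -/
theorem f_comm (r s : ℕ) (hr : r < D.nroots) (hs : s < D.nroots) (h1 : s ≠ r) (h2 : s ≠ D.neg r) (t u : K) :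
    ((D.commTerms r s).map fun c => f D K c.1 ((c.2.1 : K) * (-t) ^ c.2.2.1 * u ^ c.2.2.2)).prod = 1 := by
  have hrel : (D.stX s u)⁻¹ * (D.stX r t)⁻¹ * D.stX s u * D.stX r t * (D.stWord (D.commWord K r s t u))⁻¹ ∈
      D.steinbergRelsAB K := by
    right
    exact ⟨r, s, t, u, hr, hs, h1, h2, rfl⟩
  have h3 := PresentedGroup.mk_eq_mk_of_mul_inv_mem hrel
  have h4 := congrArg (Abelianization.of) h3
  rw [of_stWord] at h4
  have h5 : Abelianization.of (PresentedGroup.mk (D.steinbergRelsAB K)
      ((D.stX s u)⁻¹ * (D.stX r t)⁻¹ * D.stX s u * D.stX r t)) = 1 := by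
    simp only [map_mul, map_inv]
    rw [mul_comm _ (Abelianization.of _)]
    simp [mul_assoc]
  rw [h5] at h4
  rw [h4]
  unfold ChevalleyDatum.commWord
  rw [List.map_map]
  rfl

theorem perfect_of_forall (h : ∀ γ, γ < D.nroots → ∀ t : K, f D K γ t = 1) :
    commutator (D.SteinbergCover K) = ⊤ := by
  rw [← Abelianization.ker_of, eq_top_iff]
  intro g _
  refine PresentedGroup.generated_by (D.steinbergRelsAB K)
    (Abelianization.of (G := D.SteinbergCover K)).ker ?_ g
  intro j
  rw [MonoidHom.mem_ker]
  have := h j.1.val j.1.isLt j.2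
  unfold f ChevalleyDatum.scGen ChevalleyDatum.stX at this
  rw [dif_pos j.1.isLt] at this
  exact this

end base

/-- core of one certificate step, on the list of not yet killed terms -/
def stepCore (hasC : Bool) : List (ℕ × ℤ × ℕ × ℕ) → Option ℕ
  | [(γ, c, i, j)] => if (c = 1 ∨ c = -1) ∧ (i = 1 ∨ j = 1) then some γ else none
  | [(_, _, i1, j1), (γ, c2, i2, j2)] =>
      if hasC = true ∧ i1 = 1 ∧ j1 = 1 ∧ (c2 = 1 ∨ c2 = -1) ∧ ((i2 = 1 ∧ j2 = 2) ∨ (i2 = 2 ∧ j2 = 1)) then some γ
      else none
  | _ => none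

section algebra

variable {A : Type*} [CommGroup A] {K : Type*} [Field K] (F : ℕ → K → A)
  (hadd : ∀ γ a b, F γ (a + b) = F γ a * F γ b)

include hadd in
theorem F_zero' (γ : ℕ) : F γ 0 = 1 := by
  have := hadd γ 0 0
  rw [add_zero] at this
  exact (mul_eq_left.1 this.symm)

include hadd in
theorem F_neg' (γ : ℕ) (t : K) : F γ (-t) = (F γ t)⁻¹ := by
  have := hadd γ t (-t)
  rw [add_neg_cancel, F_zero' F hadd] at this
  exact eq_inv_of_mul_eq_one_right this.symm

include hadd in
theorem F_sub' (γ : ℕ) (a b : K) : F γ (a - b) = F γ a / F γ b := by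
  rw [sub_eq_add_neg, hadd, F_neg' F hadd, div_eq_mul_inv]

theorem intcast_sq {c : ℤ} (hc : c = 1 ∨ c = -1) : ((c : K)) * (c : K) = 1 := by
  rcases hc with rfl | rfl <;> simp

include hadd in
theorem stepCore_sound (hasC : Bool) (hC : hasC = true → ∃ c : K, c ≠ 0 ∧ c ≠ 1)
    (L : List (ℕ × ℤ × ℕ × ℕ))
    (hL : ∀ t u : K, (L.map fun c => F c.1 ((c.2.1 : K) * (-t) ^ c.2.2.1 * u ^ c.2.2.2)).prod = 1)
    (γ : ℕ) (hγ : stepCore hasC L = some γ) : ∀ v : K, F γ v = 1 := by
  match L, hL, hγ with
  | [(γ', c, i, j)], hL, hγ =>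
    simp only [stepCore] at hγ
    split_ifs at hγ with hcond
    obtain ⟨hc, hij⟩ := hcond
    have hγ' : γ' = γ := by simpa using hγ
    subst hγ'
    intro v
    have hcc := intcast_sq (K := K) hc
    rcases hij with rfl | rfl
    · have := hL (-(c : K) * v) 1
      simp only [List.map_cons, List.map_nil, List.prod_cons, List.prod_nil, mul_one, one_pow, pow_one] at this
      rw [← this]
      congr 1
      rw [neg_mul, neg_neg, ← mul_assoc, hcc, one_mul]
    · have := hL (-1) ((c : K) * v)
      simp only [List.map_cons, List.map_nil, List.prod_cons, List.prod_nil, mul_one, one_pow, pow_one, neg_neg] at this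
      rw [← this]
      congr 1
      rw [← mul_assoc, hcc, one_mul]
  | [(δ, c1, i1, j1), (γ', c2, i2, j2)], hL, hγ =>
    simp only [stepCore] at hγ
    split_ifs at hγ with hcond
    obtain ⟨hhas, rfl, rfl, hc, hij⟩ := hcond
    have hγ' : γ' = γ := by simpa using hγ
    subst hγ'
    obtain ⟨e, he0, he1⟩ := hC hhas
    have hcc := intcast_sq (K := K) hc
    have h1e : (1 - e) ≠ 0 := sub_ne_zero.2 (Ne.symm he1)
    intro v
    rcases hij with ⟨rfl, rfl⟩ | ⟨rfl, rfl⟩
    · -- terms: δ-arg c1*(-t)*u ; γ-arg c2*(-t)*u^2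
      have key : ∀ a : K, F γ' ((c2 : K) * (-a) * (1 - e)) = 1 := by
        intro a
        have e1 := hL a 1
        have e2 := hL (a * e⁻¹) e
        simp only [List.map_cons, List.map_nil, List.prod_cons, List.prod_nil, mul_one, one_pow, pow_one] at e1 e2
        have h3 : (c1 : K) * -(a * e⁻¹) * e = (c1 : K) * -a := by field_simp
        have h4 : (c2 : K) * -(a * e⁻¹) * e ^ 2 = (c2 : K) * -a * e := by field_simp
        rw [h3, h4] at e2
        have h5 : F γ' ((c2 : K) * -a) = F γ' ((c2 : K) * -a * e) := by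
          have := e1.trans e2.symm
          exact mul_left_cancel this
        have h6 : (c2 : K) * (-a) * (1 - e) = (c2 : K) * -a - (c2 : K) * -a * e := by ring
        rw [h6, F_sub' F hadd, h5, div_self']
      have := key (-(c2 : K) * v * (1 - e)⁻¹)
      rw [← this]
      congr 1
      have : (c2 : K) * -(-(c2 : K) * v * (1 - e)⁻¹) * (1 - e) = ((c2 : K) * (c2 : K)) * v * ((1 - e)⁻¹ * (1 - e)) := by ring
      rw [this, hcc, inv_mul_cancel₀ h1e, one_mul, mul_one]
    · -- terms: δ-arg c1*(-t)*u ; γ-arg c2*(-t)^2*u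
      have key : ∀ a : K, F γ' ((c2 : K) * a * (1 - e)) = 1 := by
        intro a
        have e1 := hL 1 a
        have e2 := hL e (a * e⁻¹)
        simp only [List.map_cons, List.map_nil, List.prod_cons, List.prod_nil, mul_one, one_pow, pow_one] at e1 e2
        have h3 : (c1 : K) * -e * (a * e⁻¹) = (c1 : K) * -1 * a := by field_simp
        have h4 : (c2 : K) * (-e) ^ 2 * (a * e⁻¹) = (c2 : K) * a * e := by field_simp
        have h4' : (c2 : K) * (-1) ^ 2 * a = (c2 : K) * a := by ring
        rw [h3, h4] at e2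
        rw [h4'] at e1
        have h5 : F γ' ((c2 : K) * a) = F γ' ((c2 : K) * a * e) := by
          have := e1.trans e2.symm
          exact mul_left_cancel this
        have h6 : (c2 : K) * a * (1 - e) = (c2 : K) * a - (c2 : K) * a * e := by ring
        rw [h6, F_sub' F hadd, h5, div_self']
      have := key ((c2 : K) * v * (1 - e)⁻¹)
      rw [← this]
      congr 1
      have : (c2 : K) * ((c2 : K) * v * (1 - e)⁻¹) * (1 - e) = ((c2 : K) * (c2 : K)) * v * ((1 - e)⁻¹ * (1 - e)) := by ring
      rw [this, hcc, inv_mul_cancel₀ h1e, one_mul, mul_one]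
  | [], _, hγ => simp [stepCore] at hγ
  | _ :: _ :: _ :: _, _, hγ => simp [stepCore] at hγ

end algebra


/-- one certificate step -/
def stepOK (D : ChevalleyDatum) (hasC : Bool) (known : List ℕ) (st : ℕ × ℕ) : Option ℕ :=
  if st.1 < D.nroots ∧ st.2 < D.nroots ∧ st.2 ≠ st.1 ∧ st.2 ≠ D.neg st.1 then
    stepCore hasC ((D.commTerms st.1 st.2).filter (fun c => !(known.contains c.1)))
  else none

/-- run a certificate -/
def run (D : ChevalleyDatum) (hasC : Bool) : List ℕ → List (ℕ × ℕ) → Option (List ℕ)
  | known, [] => some known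
  | known, st :: rest =>
    match stepOK D hasC known st with
    | some γ => run D hasC (γ :: known) rest
    | none => none

/-- check a certificate -/
def check (D : ChevalleyDatum) (hasC : Bool) (steps : List (ℕ × ℕ)) : Bool :=
  match run D hasC [] steps with
  | some known => (List.range D.nroots).all (fun γ => known.contains γ)
  | none => false

theorem prod_filter_eq {A : Type*} [CommGroup A] {α : Type*} (g : α → A) (p : α → Bool) (L : List α)
    (h : ∀ c ∈ L, p c = false → g c = 1) : ((L.filter p).map g).prod = (L.map g).prod := by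
  induction L with
  | nil => rfl
  | cons a L ih =>
    have ih' := ih (fun c hc => h c (List.mem_cons_of_mem _ hc))
    by_cases hp : p a = true
    · rw [List.filter_cons_of_pos hp, List.map_cons, List.prod_cons, ih', List.map_cons, List.prod_cons]
    · have hp' : p a = false := by simpa using hp
      rw [List.filter_cons_of_neg hp, ih', List.map_cons, List.prod_cons, h a (List.mem_cons_self) hp', one_mul]

variable (D : ChevalleyDatum) (K : Type*) [Field K]

theorem stepOK_sound (hasC : Bool) (hC : hasC = true → ∃ c : K, c ≠ 0 ∧ c ≠ 1) (known : List ℕ)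
    (hknown : ∀ γ ∈ known, ∀ v : K, f D K γ v = 1) (st : ℕ × ℕ) (γ : ℕ)
    (h : stepOK D hasC known st = some γ) : ∀ v : K, f D K γ v = 1 := by
  unfold stepOK at h
  split_ifs at h with hcond
  obtain ⟨hr, hs, h1, h2⟩ := hcond
  refine stepCore_sound (f D K) (f_add D K) hasC hC _ ?_ γ h
  intro t u
  rw [prod_filter_eq]
  · exact f_comm D K st.1 st.2 hr hs h1 h2 t u
  · intro c _ hc
    have : c.1 ∈ known := by simpa using hc
    exact hknown c.1 this _

theorem run_sound (hasC : Bool) (hC : hasC = true → ∃ c : K, c ≠ 0 ∧ c ≠ 1) (steps : List (ℕ × ℕ)) :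
    ∀ (known known' : List ℕ), (∀ γ ∈ known, ∀ v : K, f D K γ v = 1) →
      run D hasC known steps = some known' → ∀ γ ∈ known', ∀ v : K, f D K γ v = 1 := by
  induction steps with
  | nil =>
    intro known known' hk h
    simp only [run, Option.some.injEq] at h
    subst h
    exact hk
  | cons st rest ih =>
    intro known known' hk h
    simp only [run] at h
    split at h
    · rename_i γ hγ
      refine ih (γ :: known) known' ?_ h
      intro δ hδ
      rcases List.mem_cons.1 hδ with rfl | hδ
      · exact stepOK_sound D K hasC hC known hk st _ hγ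
      · exact hk δ hδ
    · exact absurd h (by simp)

theorem check_sound (hasC : Bool) (hC : hasC = true → ∃ c : K, c ≠ 0 ∧ c ≠ 1) (steps : List (ℕ × ℕ))
    (h : check D hasC steps = true) : commutator (D.SteinbergCover K) = ⊤ := by
  apply perfect_of_forall
  unfold check at h
  split at h
  · rename_i known hrun
    have hk := run_sound D K hasC hC steps [] known (by simp) hrun
    intro γ hγ
    rw [List.all_eq_true] at h
    have := h γ (List.mem_range.2 hγ)
    exact hk γ (by simpa using this)
  · exact absurd h (by simp)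


/-- certificate for type G2 -/
def certG2 : List (ℕ × ℕ) := [(0, 6), (0, 10), (1, 5), (1, 7), (1, 11), (2, 10), (2, 11), (3, 6), (5, 11), (6, 10), (7, 6), (9, 1)]

/-- certificate for type B2 -/
def certB2 : List (ℕ × ℕ) := [(0, 5), (0, 6), (1, 4), (1, 7), (2, 3), (2, 7), (3, 6), (4, 1)]

/-- certificate for type D4 -/
def certD4 : List (ℕ × ℕ) := [(0, 14), (0, 15), (0, 16), (0, 17), (0, 19), (0, 20), (0, 21), (0, 22), (1, 9), (1, 17), (1, 20), (1, 21), (1, 23), (2, 22), (2, 23), (3, 22), (3, 23), (4, 23), (6, 22), (6, 23), (7, 23), (8, 23), (9, 23), (14, 22)]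

/-- certificate for type F4 -/
def certF4 : List (ℕ × ℕ) := [(0, 24), (0, 26), (0, 31), (0, 32), (0, 42), (0, 43), (0, 45), (0, 46), (1, 23), (1, 28), (1, 32), (1, 35), (1, 37), (1, 43), (1, 45), (1, 47), (2, 37), (2, 38), (2, 46), (2, 47), (3, 37), (3, 38), (3, 39), (3, 40), (3, 41), (3, 42), (3, 43), (3, 45), (3, 46), (3, 47), (4, 39), (4, 44), (4, 46), (4, 47), (5, 44), (6, 44), (7, 44), (7, 45), (7, 46), (7, 47), (8, 46), (8, 47), (9, 47), (11, 47), (15, 39), (15, 46), (15, 47), (18, 47)]

/-- certificate for type E6 -/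
def certE6 : List (ℕ × ℕ) := [(0, 46), (0, 47), (0, 48), (0, 49), (0, 50), (0, 51), (0, 52), (0, 53), (0, 54), (0, 55), (0, 61), (0, 62), (0, 63), (0, 64), (0, 65), (0, 66), (0, 67), (0, 68), (0, 69), (0, 70), (1, 25), (1, 53), (1, 54), (1, 55), (1, 64), (1, 65), (1, 66), (1, 67), (1, 68), (1, 69), (1, 71), (2, 55), (2, 66), (2, 67), (2, 68), (2, 70), (2, 71), (3, 67), (3, 69), (3, 70), (3, 71), (4, 68), (4, 69), (4, 70), (4, 71), (5, 55), (5, 69), (5, 70), (5, 71), (6, 70), (6, 71), (7, 70), (7, 71), (8, 71), (9, 71), (10, 71), (16, 66), (16, 69), (16, 70), (16, 71), (17, 70), (17, 71), (18, 70), (18, 71), (19, 71), (20, 71), (21, 71), (22, 71), (23, 71), (24, 71), (25, 71), (46, 70)]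

/-- certificate for type E7 -/
def certE7 : List (ℕ × ℕ) := [(0, 93), (0, 94), (0, 95), (0, 96), (0, 97), (0, 98), (0, 99), (0, 100), (0, 101), (0, 102), (0, 103), (0, 104), (0, 105), (0, 106), (0, 107), (0, 108), (0, 109), (0, 110), (0, 111), (0, 112), (0, 113), (0, 114), (0, 115), (0, 116), (0, 117), (0, 118), (0, 119), (0, 120), (0, 121), (0, 122), (0, 123), (0, 124), (1, 32), (1, 109), (1, 110), (1, 111), (1, 112), (1, 113), (1, 114), (1, 115), (1, 116), (1, 117), (1, 118), (1, 119), (1, 120), (1, 121), (1, 122), (1, 123), (1, 125), (2, 115), (2, 116), (2, 117), (2, 118), (2, 119), (2, 120), (2, 121), (2, 122), (2, 124), (2, 125), (3, 118), (3, 119), (3, 120), (3, 121), (3, 123), (3, 124), (3, 125), (4, 119), (4, 120), (4, 122), (4, 123), (4, 124), (4, 125), (5, 119), (5, 121), (5, 122), (5, 123), (5, 124), (5, 125), (6, 120), (6, 121), (6, 122), (6, 123), (6, 124), (6, 125), (7, 122), (7, 123), (7, 124), (7, 125), (8, 123), (8, 124), (8, 125), (9, 123), (9, 124), (9, 125), (10, 123), (10, 124), (10, 125),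 (11, 124), (11, 125), (12, 124), (12, 125), (13, 124), (13, 125), (14, 124), (14, 125), (15, 124), (15, 125), (16, 124), (16, 125), (17, 125), (18, 125), (19, 125), (20, 125), (21, 125), (22, 125), (23, 125), (24, 125), (25, 125), (26, 125), (27, 125), (28, 125), (29, 125), (30, 125), (31, 125), (32, 125), (93, 124)]

/-- certificate for type E8 -/
def certE8 : List (ℕ × ℕ) := [(0, 120), (0, 122), (0, 125), (0, 129), (0, 134), (0, 140), (0, 146), (0, 151), (0, 155), (0, 158), (0, 160), (0, 161), (0, 168), (0, 173), (0, 177), (0, 180), (0, 182), (0, 183), (0, 187), (0, 190), (0, 192), (0, 193), (0, 196), (0, 198), (0, 199), (0, 201), (0, 202), (0, 203), (0, 206), (0, 208), (0, 209), (0, 211), (0, 212), (0, 213), (0, 215), (0, 216), (0, 217), (0, 218), (0, 220), (0, 221), (0, 222), (0, 223), (0, 224), (0, 225), (0, 227), (0, 228), (0, 229), (0, 230), (0, 231), (0, 232), (0, 233), (0, 234), (0, 235), (0, 236), (0, 237), (0, 238), (1, 119), (1, 161), (1, 183), (1, 193), (1, 199), (1, 202), (1, 203), (1, 209), (1, 212),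 (1, 213), (1, 216), (1, 217), (1, 218), (1, 221), (1, 222), (1, 223), (1, 224), (1, 225), (1, 228), (1, 229), (1, 230), (1, 231), (1, 232), (1, 233), (1, 234), (1, 235), (1, 236), (1, 237), (1, 239), (2, 203), (2, 213), (2, 217), (2, 218), (2, 222), (2, 223), (2, 224), (2, 225), (2, 229), (2, 230), (2, 231), (2, 232), (2, 233), (2, 234), (2, 235), (2, 236), (2, 238), (2, 239), (3, 218), (3, 223), (3, 224), (3, 225), (3, 230), (3, 231), (3, 232), (3, 233), (3, 234), (3, 235), (3, 237), (3, 238), (3, 239), (4, 224), (4, 225), (4, 231), (4, 232), (4, 233), (4, 234), (4, 236), (4, 237), (4, 238), (4, 239), (5, 225), (5, 232), (5, 233), (5, 235), (5, 236), (5, 237), (5, 238), (5, 239), (6, 225), (6, 234), (6, 235), (6, 236), (6, 237), (6, 238), (6, 239), (7, 234), (7, 235), (7, 236), (7, 237), (7, 238), (7, 239), (8, 235), (8, 236), (8, 237), (8, 238), (8, 239), (9, 236), (9, 237), (9, 238), (9, 239), (10, 237), (10, 238), (10, 239), (11, 238), (11, 239), (12, 239), (14, 233), (14, 234), (14, 235), (14, 236), (14, 237),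 (14, 238), (14, 239), (15, 235), (15, 236), (15, 237), (15, 238), (15, 239), (16, 236), (16, 237), (16, 238), (16, 239), (17, 237), (17, 238), (17, 239), (18, 238), (18, 239), (19, 239), (21, 236), (21, 237), (21, 238), (21, 239), (22, 237), (22, 238), (22, 239), (23, 238), (23, 239), (24, 239), (26, 237), (26, 238), (26, 239), (27, 238), (27, 239), (28, 239), (30, 238), (30, 239), (31, 239), (33, 239), (36, 237), (36, 238), (36, 239), (37, 238), (37, 239), (38, 239), (40, 238), (40, 239), (41, 239), (43, 239), (46, 238), (46, 239), (47, 239), (49, 239), (52, 239), (56, 238), (56, 239), (57, 239), (59, 239), (62, 239), (66, 239), (71, 239), (78, 238), (78, 239), (79, 239), (81, 239), (84, 239), (88, 239), (93, 239), (99, 239), (105, 239), (110, 239), (114, 239), (117, 239), (119, 239), (120, 238)]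


/-- The group presented by Steinberg's generators x̄_r(t) subject only to (R1) (additivity) and (R2) (the commutator formula) is perfect, for each of the types G₂, B₂, D₄, F₄, E₆, E₇, E₈ over any field (for types B₂ and G₂ the field must have more than two elements — the cases where the Chevalley group is not simple are set aside). -/
theorem result {K : Type*} [Field K] (D : Cfsg.Lie.ChevalleyDatum) (hD : D ∈ [Cfsg.Lie.chevG2, Cfsg.Lie.chevB2, Cfsg.Lie.chevD4, Cfsg.Lie.chevF4, Cfsg.Lie.chevE6, Cfsg.Lie.chevE7, Cfsg.Lie.chevE8]) (hK : D ∈ [Cfsg.Lie.chevB2, Cfsg.Lie.chevG2] → ∃ x : K, x ≠ 0 ∧ x ≠ 1) :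
    commutator (D.SteinbergCover K) = ⊤ := by
  simp only [List.mem_cons, List.mem_nil_iff, or_false] at hD
  rcases hD with rfl | rfl | rfl | rfl | rfl | rfl | rfl
  · exact check_sound _ K true (fun _ => hK (by simp)) certG2 (by decide +kernel)
  · exact check_sound _ K true (fun _ => hK (by simp)) certB2 (by decide +kernel)
  · exact check_sound _ K false (fun h => absurd h (by decide)) certD4 (by decide +kernel)
  · exact check_sound _ K false (fun h => absurd h (by decide)) certF4 (by decide +kernel)
  · exact check_sound _ K false (fun h => absurd h (by decide)) certE6 (by decide +kernel)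
  · exact check_sound _ K false (fun h => absurd h (by decide)) certE7 (by decide +kernel)
  · exact check_sound _ K false (fun h => absurd h (by decide)) certE8 (by decide +kernel)

end Cfsg.Agent.S2395
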