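import Cfsg.Statements.S2157
import Cfsg.Agent.Helper36.ChevChain

set_option autoImplicit false
open Cfsg

namespace Cfsg.Agent.S2157

theorem result {F : Type*} [Field F] (D : Cfsg.Lie.ChevalleyDatum) (hD : D ∈ [Cfsg.Lie.chevG2, Cfsg.Lie.chevB2, Cfsg.Lie.chevD4, Cfsg.Lie.chevF4, Cfsg.Lie.chevE6, Cfsg.Lie.chevE7, Cfsg.Lie.chevE8]) (χ : ℕ → Fˣ) (hχ : D.IsRootCharacter χ) (r : ℕ) (hr : r < D.nroots) (t : F) :
    D.charDiag F χ * D.x F r t * D.charDiag F (fun s => (χ s)⁻¹) = D.x F r ((χ r : F) * t) := by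
  have hOK := Cfsg.Agent.Helper36.chainOK_of_mem D hD
  unfold Cfsg.Lie.ChevalleyDatum.x
  rw [dif_pos hr, dif_pos hr]
  exact Cfsg.Agent.Helper36.charDiag_conj_xMat D χ hχ
    (fun r s u hr km hkm => Cfsg.Agent.Helper36.chainCoeff_char D hOK χ hχ r s u hr km hkm) ⟨r, hr⟩ t

end Cfsg.Agent.S2157
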