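import Cfsg.Statements.S2160
import Cfsg.Agent.Helper36.ChevGenAll

set_option autoImplicit false
open Cfsg

namespace Cfsg.Agent.S2160

open scoped MatrixGroups

/-- In a Chevalley group of type G₂, B₂, D₄, F₄, E₆, E₇ or E₈ over a finite field, every field automorphism commutes with every graph automorphism. -/
theorem result {F : Type*} [Field F] [Finite F] (D : Cfsg.Lie.ChevalleyDatum) (hD : D ∈ [Cfsg.Lie.chevG2, Cfsg.Lie.chevB2, Cfsg.Lie.chevD4, Cfsg.Lie.chevF4, Cfsg.Lie.chevE6, Cfsg.Lie.chevE7, Cfsg.Lie.chevE8]) (f g : ↥(D.group F) ≃* ↥(D.group F))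
    (hf : D.IsFieldAut f) (hg : D.IsGraphAut g) (y : ↥(D.group F)) : f (g y) = g (f y) := by
  obtain ⟨σ, hσ⟩ := hf
  obtain ⟨π, _, hgπ⟩ := hg
  let E : Subgroup ↥(D.group F) :=
    (f.toMonoidHom.comp g.toMonoidHom).eqLocus (g.toMonoidHom.comp f.toMonoidHom)
  have hE : E = ⊤ := by
    apply Cfsg.Agent.Helper36.fund_generate D hD E
    intro i hi t γ hγ
    show f (g γ) = g (f γ)
    have hπi := Cfsg.Agent.Helper36.simple_facts D hD (π ⟨i, hi⟩ : ℕ) (π ⟨i, hi⟩).isLt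
    have hsi := Cfsg.Agent.Helper36.simple_facts D hD i hi
    apply Subtype.ext
    apply Units.ext
    rcases hγ with hγ | hγ
    · have h1 := (hgπ γ ⟨i, hi⟩ t).1 hγ
      have h2 := hσ (g γ) _ _ hπi.1 h1
      have h3 := hσ γ _ _ hsi.1 hγ
      have h4 := (hgπ (f γ) ⟨i, hi⟩ (σ t)).1 h3
      rw [h2, h4, map_pow]
    · have h1 := (hgπ γ ⟨i, hi⟩ t).2 hγ
      have h2 := hσ (g γ) _ _ hπi.2 h1
      have h3 := hσ γ _ _ hsi.2 hγ
      have h4 := (hgπ (f γ) ⟨i, hi⟩ (σ t)).2 h3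
      rw [h2, h4, map_pow]
  have hy : y ∈ E := by
    rw [hE]
    trivial
  exact hy

end Cfsg.Agent.S2160
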