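import Cfsg.Statements.S2156
import Cfsg.Agent.Helper18.Aut.G2F2
import Cfsg.Agent.Helper18.Aut.RootChar
import Cfsg.Agent.Helper36.ChevAut
import Cfsg.Agent.Helper36.ChevGenAll
import Cfsg.Agent.S1080

set_option autoImplicit false
open Cfsg

namespace Cfsg.Agent.S2156

open Cfsg.Lie Cfsg.Agent.Helper18 Cfsg.Agent.Helper18.Aut Cfsg.Agent.Helper36.ChevAut

section

variable {F : Type*} [Field F] (D : ChevalleyDatum)
  (hD : D ∈ [chevG2, chevB2, chevD4, chevF4, chevE6, chevE7, chevE8])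

theorem coe_xS (r : ℕ) (t : F) :
    (((xS D hD r t : ↥(D.group F)) : GL D.Idx F) : Matrix D.Idx D.Idx F) = D.x F r t :=
  xGL_val D _ (triOK_of_mem D hD) r t

theorem eq_xS (γ : ↥(D.group F)) (r : ℕ) (t : F)
    (h : ((γ : GL D.Idx F) : Matrix D.Idx D.Idx F) = D.x F r t) : γ = xS D hD r t :=
  Subtype.ext (Units.ext (h.trans (coe_xS D hD r t).symm))

end

/-- Over a finite field, every automorphism of the Chevalley group of type G₂, B₂, D₄, F₄, E₆, E₇ or E₈ is the composite of a field automorphism, a graph automorphism, a diagonal automorphism and an inner automorphism: `θ y = x · d(g(f y)) · x⁻¹` for some group element `x`, diagonal `d`, graph `g` and field `f` (each possibly the identity; diagonal here includes conjugation by elements of the diagonal subgroup H). -/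
theorem result {F : Type*} [Field F] [Finite F] (D : Cfsg.Lie.ChevalleyDatum) (hD : D ∈ [Cfsg.Lie.chevG2, Cfsg.Lie.chevB2, Cfsg.Lie.chevD4, Cfsg.Lie.chevF4, Cfsg.Lie.chevE6, Cfsg.Lie.chevE7, Cfsg.Lie.chevE8]) (θ : ↥(D.group F) ≃* ↥(D.group F)) :
    ∃ (x : ↥(D.group F)) (d g f : ↥(D.group F) ≃* ↥(D.group F)),
      D.IsDiagonalAut d ∧ D.IsGraphAut g ∧ D.IsFieldAut f ∧ ∀ y : ↥(D.group F), θ y = x * d (g (f y)) * x⁻¹ := by
  classical
  haveI : Fintype F := Fintype.ofFinite F
  obtain ⟨p, hp⟩ := CharP.exists F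
  have := hp
  have : Fact p.Prime := ⟨CharP.char_is_prime F p⟩
  have hsim := simpleOK_of_mem D hD
  obtain ⟨g₀, π, c, σ, h1, h2, R1, R2⟩ := chev_step12 D hD p θ
  -- the exceptional case of `G₂` over the field with two elements
  have hex : D = chevG2 → (∀ t : F, t = 0 ∨ t = 1) → π = 1 := by
    intro hDG hF
    subst hDG
    rcases permG2 π with h | h
    · exact h
    · exfalso
      subst h
      have hc : ∀ i, (c i : F) = 1 := fun i => (hF (c i)).resolve_left (Units.ne_zero _)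
      have hc' : ∀ i, (((c i)⁻¹ : Fˣ) : F) = 1 := fun i => (hF _).resolve_left (Units.ne_zero _)
      have hσ : ∀ i t, σ i t = t := by
        intro i t
        rcases hF t with rfl | rfl <;> simp
      apply g2_f2_excl hF (θ.trans (MulAut.conj g₀))
      · intro i t
        rw [h1, hc, hσ, one_mul]
      · intro i t
        rw [h2, hc', hσ, one_mul]
  obtain ⟨hsym, ⟨σ₀, hσ₀⟩, ⟨g, hg⟩⟩ := type_analysis D hD π σ R1 R2 hex
  obtain ⟨χ, hχ, hχs⟩ := exists_rootCharacter D hD
    (fun j => if hj : j < D.rank then c (π.symm ⟨j, hj⟩) else 1)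
  obtain ⟨f, hf⟩ := Cfsg.Agent.S1080.result D hD σ₀
  have hχi : ∀ i : Fin D.rank, χ (D.simple (π i)) = c i := by
    intro i
    rw [hχs _ (π i).2, dif_pos (π i).2]
    simp
  refine ⟨g₀⁻¹, diagAut D hD χ hχ, g, f, isDiagonalAut_diagAut D hD χ hχ, ?_, ⟨σ₀, hf⟩, ?_⟩
  · refine ⟨π, hsym, fun γ i t => ⟨?_, ?_⟩⟩
    · intro hγ
      rw [eq_xS D hD γ _ _ hγ, (hg i t).1]
      exact coe_xS D hD _ _
    · intro hγ
      rw [eq_xS D hD γ _ _ hγ, (hg i t).2]
      exact coe_xS D hD _ _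
  · -- agreement on the fundamental root elements
    have hE : (((θ.trans (MulAut.conj g₀)) : ↥(D.group F) ≃* ↥(D.group F)) : ↥(D.group F) →* ↥(D.group F)).eqLocus
        ((((diagAut D hD χ hχ : ↥(D.group F) ≃* ↥(D.group F)) : ↥(D.group F) →* ↥(D.group F)).comp
          (g : ↥(D.group F) →* ↥(D.group F))).comp (f : ↥(D.group F) →* ↥(D.group F))) = ⊤ := by
      apply Cfsg.Agent.Helper36.fund_generate D hD
      intro i hi t γ hγ
      have hpi := simple_lt D hsim i hi
      show (θ.trans (MulAut.conj g₀)) γ = diagAut D hD χ hχ (g (f γ))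
      rcases hγ with hγ | hγ
      · have e1 : f γ = xS D hD (D.simple i) (σ₀ t) := eq_xS D hD _ _ _ (hf γ _ t hpi hγ)
        rw [eq_xS D hD γ _ _ hγ] at e1 ⊢
        have h1' := h1 ⟨i, hi⟩ t
        have hg' := (hg ⟨i, hi⟩ (σ₀ t)).1
        simp only at h1' hg'
        rw [h1', e1, hg']
        symm
        apply eq_xS
        rw [diagAut_x D hD χ hχ _ _ (simple_lt D hsim _ (π ⟨i, hi⟩).2) _ (coe_xS D hD _ _), hχi, hσ₀]
      · have hni := neg_lt D hD _ hpi
        have e1 : f γ = xS D hD (D.neg (D.simple i)) (σ₀ t) := eq_xS D hD _ _ _ (hf γ _ t hni hγ)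
        rw [eq_xS D hD γ _ _ hγ] at e1 ⊢
        have h2' := h2 ⟨i, hi⟩ t
        have hg' := (hg ⟨i, hi⟩ (σ₀ t)).2
        simp only at h2' hg'
        rw [h2', e1, hg']
        symm
        apply eq_xS
        have hπi := simple_lt D hsim _ (π ⟨i, hi⟩).2
        rw [diagAut_x D hD χ hχ _ _ (neg_lt D hD _ hπi) _ (coe_xS D hD _ _), hχ.1 _ hπi, hχi, hσ₀]
    intro y
    have hy : y ∈ (((θ.trans (MulAut.conj g₀)) : ↥(D.group F) ≃* ↥(D.group F)) :
        ↥(D.group F) →* ↥(D.group F)).eqLocus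
        ((((diagAut D hD χ hχ : ↥(D.group F) ≃* ↥(D.group F)) : ↥(D.group F) →* ↥(D.group F)).comp
          (g : ↥(D.group F) →* ↥(D.group F))).comp (f : ↥(D.group F) →* ↥(D.group F))) := by
      rw [hE]
      exact Subgroup.mem_top y
    have hy' : g₀ * θ y * g₀⁻¹ = diagAut D hD χ hχ (g (f y)) := hy
    rw [← hy', inv_inv]
    group

end Cfsg.Agent.S2156
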