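import Cfsg.Statements.S1104
import Cfsg.Agent.Helper36.TwistE6
import Cfsg.Agent.Helper36.FrobHom
import Cfsg.Agent.S1025
import Cfsg.Agent.S1031
import Cfsg.Agent.S1032

set_option autoImplicit false
open Cfsg

namespace Cfsg.Agent.S1104

open Cfsg.Lie Cfsg.Agent.Helper40.ChevAdd Cfsg.Agent.Helper36 Cfsg.Agent.Helper36.Perfect
  Cfsg.Agent.Helper36.ChevSimple Cfsg.Agent.Helper36.Twist Cfsg.Agent.Helper36.TwistE6

theorem gens_eq {K : Type*} [Field K] (q : ℕ) (φ : K →+* K) (hφ : ∀ x, φ x = x ^ q) :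
    {g : GL chevE6.Idx K | ∃ w ∈ e6Words K q, (g : Matrix chevE6.Idx chevE6.Idx K) = chevE6.wordMat K w}
      = gens φ := by
  ext g
  constructor
  · rintro ⟨w, hw, hg⟩
    rcases hw with ⟨t, ht, r, hr, rfl⟩ | ⟨t, rs, hrs, rfl⟩
    · left
      refine ⟨t, by rw [hφ]; exact ht, r, ?_, ?_⟩
      · simpa [e6p2, e6m2, e6p4, e6m4] using hr
      · apply Units.ext
        rw [hg]
        simp [ChevalleyDatum.wordMat]
    · right
      refine ⟨t, ?_⟩
      simp only [e6p1, e6p6, e6m1, e6m6, e6p3, e6p5, e6m3, e6m5, List.mem_cons, List.not_mem_nil,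
        or_false] at hrs
      rcases hrs with rfl | rfl | rfl | rfl
      · left
        apply Units.ext
        rw [hg]
        simp [ChevalleyDatum.wordMat, P2, hφ]
      · right; left
        apply Units.ext
        rw [hg]
        simp [ChevalleyDatum.wordMat, P2, hφ]
      · right; right; left
        apply Units.ext
        rw [hg]
        simp [ChevalleyDatum.wordMat, P2, hφ]
      · right; right; right
        apply Units.ext
        rw [hg]
        simp [ChevalleyDatum.wordMat, P2, hφ]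
  · rintro (⟨t, ht, r, hr, rfl⟩ | ⟨t, rfl | rfl | rfl | rfl⟩)
    · refine ⟨[(r, t)], Or.inl ⟨t, by rw [← hφ]; exact ht, r, ?_, rfl⟩, ?_⟩
      · simpa [e6p2, e6m2, e6p4, e6m4] using hr
      · simp [ChevalleyDatum.wordMat]
    · refine ⟨[(56, t), (36, t ^ q)], Or.inr ⟨t, (e6p1, e6p6), by simp, rfl⟩, ?_⟩
      simp [ChevalleyDatum.wordMat, P2, hφ]
    · refine ⟨[(15, t), (35, t ^ q)], Or.inr ⟨t, (e6m1, e6m6), by simp, rfl⟩, ?_⟩
      simp [ChevalleyDatum.wordMat, P2, hφ]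
    · refine ⟨[(42, t), (37, t ^ q)], Or.inr ⟨t, (e6p3, e6p5), by simp, rfl⟩, ?_⟩
      simp [ChevalleyDatum.wordMat, P2, hφ]
    · refine ⟨[(29, t), (34, t ^ q)], Or.inr ⟨t, (e6m3, e6m5), by simp, rfl⟩, ?_⟩
      simp [ChevalleyDatum.wordMat, P2, hφ]

/-- ²E₆(q) equals its derived subgroup. -/
theorem result {K : Type*} [Field K] [Fintype K] {q : ℕ} (hq : IsPrimePow q) (hK : Fintype.card K = q ^ 2) : commutator ↥(Cfsg.Lie.twistedE6 K q) = ⊤ := by
  obtain ⟨φ, hφ⟩ := exists_frobHom hq (by norm_num) hK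
  have hD : chevE6 ∈ [chevG2, chevB2, chevD4, chevF4, chevE6, chevE7, chevE8] := by simp
  have hcomm : CommHyp K chevE6 := fun r s hr hs hsr hsn t u =>
    Cfsg.Agent.S1025.result chevE6 hD r s hr hs hsr hsn t u
  have htor : TorHyp K chevE6 := fun i s hi hs c hc t =>
    Cfsg.Agent.S1032.result chevE6 hD i s hi hs c hc t
  have hn : NConjHyp K chevE6 := fun i s hi hs => Cfsg.Agent.S1031.result chevE6 hD i s hi hs
  have hl : ∃ l : K, l ≠ 0 ∧ l ^ 2 ≠ 1 := by
    apply exists_sq_ne_one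
    rw [hK]
    have h2 : 2 ≤ q := hq.two_le
    calc 3 < 2 ^ 2 := by norm_num
      _ ≤ q ^ 2 := Nat.pow_le_pow_left h2 2
  have e : twistedE6 K q = G₁ φ := by
    unfold twistedE6 ChevalleyDatum.genSubgroup G₁
    rw [gens_eq q φ hφ]
  rw [e]
  exact TwistE6.perfect φ hcomm htor hn hl

end Cfsg.Agent.S1104
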