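import Cfsg.Statements.S1070
import Cfsg.Agent.Helper19.Twist.SimpleInst
import Cfsg.Agent.Helper18.BNPairChev
import Cfsg.Agent.Helper18.UpStruct
import Cfsg.Agent.S1025
import Cfsg.Agent.S1031
import Cfsg.Agent.S1038
import Cfsg.Agent.S1050
import Cfsg.Agent.S1104
import Cfsg.Agent.S1105

set_option autoImplicit false
open Cfsg

namespace Cfsg.Agent.S1070

/-- ²E₆(q) is simple for every `q`. -/
theorem result {K : Type*} [Field K] [Fintype K] {q : ℕ} (hq : IsPrimePow q) (hK : Fintype.card K = q ^ 2) :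
    IsSimpleGroup ↥(Cfsg.Lie.twistedE6 K q) ∧ ¬ IsMulCommutative ↥(Cfsg.Lie.twistedE6 K q) := by
  open Cfsg.Lie Cfsg.Agent.Helper18 Cfsg.Agent.Helper19.Twist Cfsg.Agent.S1081 Cfsg.Agent.Helper19.Cox
    Cfsg.Agent.Helper19.Poinc in
  obtain ⟨f, hf⟩ := exists_frob hq hK
  have h25 : CommHyp chevE6 K :=
    fun r s hr hs h1 h2 t u => Cfsg.Agent.S1025.result chevE6 memE6 r s hr hs h1 h2 t u
  have h31 : NConjHyp chevE6 K := fun i s hi hs => Cfsg.Agent.S1031.result chevE6 memE6 i s hi hs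
  have hn : (HN chevE6 K).Normal := Cfsg.Agent.S1038.result chevE6 memE6
  have h42 : H42 chevE6 K := exists_bnPair (F := K) chevE6 memE6 h25
  have h45 : H45 chevE6 K := fun i hi =>
    ⟨rootSubgroup_le_normalizer_Up chevE6 memE6 h25 i hi, Up_sup_rootSubgroup chevE6 memE6 i hi⟩
  exact simple_E6 f hf h31 hq.two_le hK h42 h45 h25 (Cfsg.Agent.S1050.result chevE6 memE6)
    (Cfsg.Agent.S1104.result hq hK) (Cfsg.Agent.S1105.result hq hK)

end Cfsg.Agent.S1070
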