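import Cfsg.Statements.S1066
import Cfsg.Agent.Helper19.Twist.OrdE6
import Cfsg.Agent.Helper18.BNPairChev
import Cfsg.Agent.Helper18.UpStruct
import Cfsg.Agent.S1025
import Cfsg.Agent.S1031
import Cfsg.Agent.S1038
import Cfsg.Agent.S1102

set_option autoImplicit false
open Cfsg

namespace Cfsg.Agent.S1066

/-- `gcd(3, q+1) · |²E₆(q)| = q³⁶ (q² - 1)(q⁵ + 1)(q⁶ - 1)(q⁸ - 1)(q⁹ + 1)(q¹² - 1)`, the group being realised inside E₆ over the field with `q²` elements. -/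
theorem result {K : Type*} [Field K] [Fintype K] {q : ℕ} (hq : IsPrimePow q) (hK : Fintype.card K = q ^ 2) :
    Nat.gcd 3 (q + 1) * Nat.card ↥(Cfsg.Lie.twistedE6 K q) =
      q ^ 36 * (q ^ 2 - 1) * (q ^ 5 + 1) * (q ^ 6 - 1) * (q ^ 8 - 1) * (q ^ 9 + 1) * (q ^ 12 - 1) := by
  open Cfsg.Lie Cfsg.Agent.Helper18 Cfsg.Agent.Helper19.Twist Cfsg.Agent.S1081 Cfsg.Agent.Helper19.Cox
    Cfsg.Agent.Helper19.Poinc in
  obtain ⟨f, hf⟩ := exists_frob hq hK
  have h25 : CommHyp chevE6 K :=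
    fun r s hr hs h1 h2 t u => Cfsg.Agent.S1025.result chevE6 memE6 r s hr hs h1 h2 t u
  have h31 : NConjHyp chevE6 K := fun i s hi hs => Cfsg.Agent.S1031.result chevE6 memE6 i s hi hs
  have hn : (HN chevE6 K).Normal := Cfsg.Agent.S1038.result chevE6 memE6
  have h42 : H42 chevE6 K := exists_bnPair (F := K) chevE6 memE6 h25
  have h45 : H45 chevE6 K := fun i hi =>
    ⟨rootSubgroup_le_normalizer_Up chevE6 memE6 h25 i hi, Up_sup_rootSubgroup chevE6 memE6 i hi⟩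
  have hq1 : 1 ≤ q := le_trans (by norm_num) hq.two_le
  exact card_twistedE6 f hf h31 hq1 hK h42 h45 (Cfsg.Agent.S1102.result hq hK)

end Cfsg.Agent.S1066
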