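import Mathlib
import Cfsg.Statements.S2694
import Cfsg.Agent.Helper5.AutOZ
import Cfsg.Agent.Helper5.PSL2

set_option autoImplicit false
open Cfsg

namespace Cfsg.Agent.S2694

open Cfsg.Agent.Helper5 Cfsg.Agent.Helper44

/-- For m ≥ 3 and a finite field F of odd order, the automorphism group of the orthogonal group Ω_{2m+1}(F) (realised as PΩ of the form x₀² + Σ xᵢ yᵢ, whose centre is trivial) is generated by the automorphisms induced by the semisimilarities v ↦ g σ(v) of the form (the image of the projective semisimilarity group); there are no graph or graph-field automorphisms. -/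
theorem result {F : Type*} [Field F] [Fintype F] (hodd : Odd (Fintype.card F)) {m : ℕ} (hm : 3 ≤ m) :
    Cfsg.gammaPOmega F (Cfsg.quadFormOdd m F) = ⊤ := by
  have h2 : (2 : F) ≠ 0 := Cfsg.Agent.Helper5.two_ne_zero_of_odd_card hodd
  have T : HypTriple (oddForm m F) :=
    HypTriple.ofPairs (oddForm m F) (fun i => Sum.inr (Sum.inl (Fin.castLE hm i)))
      (fun i => Sum.inr (Sum.inr (Fin.castLE hm i)))
      (fun i j hij => Fin.castLE_injective hm (Sum.inr_injective (Sum.inr_injective hij)))
      (fun i j => by simp)
      (fun i => isHypPair_oddForm m (Fin.castLE hm i))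
  have C : AutO.Ctx (oddForm m F) := ⟨nondegenerate_oddForm h2 m, by simp; omega⟩
  have H : AutO.H4 (oddForm m F) := by
    rcases Nat.lt_or_ge m 4 with h | h
    · have h3 : m = 3 := by omega
      subst h3
      exact Or.inr (AutO.noTS4_oddForm h2)
    · exact Or.inl (by simp; omega)
  have key := AutO.gamma_eq_top C T H
  exact key

end Cfsg.Agent.S2694
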