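import Mathlib
import Cfsg.Statements.S0292
import Cfsg.Agent.Helper5.OmegaCard
import Cfsg.Agent.S0286

set_option autoImplicit false
open Cfsg

namespace Cfsg.Agent.S0292

open Cfsg.Agent.Helper5

/-- 2·|PΩ_{2m+1}(q)| = q^(m²) ∏ (q^(2i) − 1), q odd, m ≥ 3. -/
theorem result {F : Type*} [Field F] [Fintype F] {q : ℕ} (hF : Fintype.card F = q) (hodd : Odd q) (m : ℕ) (hm : 3 ≤ m) : 2 * Nat.card (Cfsg.POmega F (Cfsg.quadFormOdd m F)) = q ^ (m ^ 2) * ∏ i ∈ Finset.range m, (q ^ (2 * (i + 1)) - 1) := by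
  have h2 : (2 : F) ≠ 0 := Cfsg.Agent.Helper5.two_ne_zero_of_odd_card (by rw [hF]; exact hodd)
  obtain ⟨k, rfl⟩ : ∃ k, m = k + 3 := ⟨m - 3, by omega⟩
  -- the centre of Ω is trivial
  have hcen : Subgroup.center (Cfsg.Omega F (Cfsg.quadFormOdd (k + 3) F)) = ⊥ := by
    apply center_Omega_eq_bot _ (Hc_odd k)
    intro g hg hgm
    exfalso
    have hdet : (Matrix.GeneralLinearGroup.det.comp
        (Cfsg.isometryGroup F (Cfsg.quadFormOdd (k + 3) F)).subtype) g = 1 :=
      Abelianization.commutator_subset_ker _ hg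
    have h3 := congrArg Units.val hdet
    have h4 : ((g.1 : Matrix.GeneralLinearGroup (Unit ⊕ (Fin (k + 3) ⊕ Fin (k + 3))) F).1).det = 1 := h3
    rw [hgm, Matrix.det_neg, Matrix.det_one, mul_one] at h4
    have hcard : Fintype.card (Unit ⊕ (Fin (k + 3) ⊕ Fin (k + 3))) = 2 * (k + 3) + 1 := by
      simp; ring
    rw [hcard, pow_succ, pow_mul, neg_one_sq, one_pow, one_mul] at h4
    apply h2
    linear_combination -h4
  -- the index of Ω
  obtain ⟨M, hM⟩ := isQF_odd (F := F) (k + 3)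
  have hidx : (Cfsg.Omega F (Cfsg.quadFormOdd (k + 3) F)).index = 4 := by
    have := Cfsg.Agent.Helper44.index_Omega_eq_four (Cfsg.Agent.Helper44.oddForm (k + 3) F) h2
      (nondegenerate_of_isQF (Cfsg.Agent.Helper44.oddForm (k + 3) F) hM h2) (by
        rw [Module.finrank_fintype_fun_eq_card]
        simp; omega)
    exact this
  have hmul := card_POmega_mul (F := F) (Cfsg.quadFormOdd (k + 3) F)
  rw [hcen, Subgroup.card_bot, hidx, Cfsg.Agent.S0286.result hF hodd (k + 3)] at hmul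
  linarith

end Cfsg.Agent.S0292
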