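import Mathlib
import Cfsg.Statements.S0295
import Cfsg.Agent.Helper5.OrthSimpleStd
import Cfsg.Agent.Helper5.PSL2

set_option autoImplicit false
open Cfsg

namespace Cfsg.Agent.S0295

open Cfsg.Agent.Helper5 Cfsg.Agent.Helper44

/-- PΩ_{2m+1}(q) is simple for q odd and m at least 3. -/
theorem result {F : Type*} [Field F] [Fintype F] (hodd : Odd (Fintype.card F)) (m : ℕ) (hm : 3 ≤ m) : IsSimpleGroup (Cfsg.POmega F (Cfsg.quadFormOdd m F)) := by
  have h2 : (2 : F) ≠ 0 := Cfsg.Agent.Helper5.two_ne_zero_of_odd_card hodd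
  have T : HypTriple (oddForm m F) :=
    HypTriple.ofPairs (oddForm m F) (fun i => Sum.inr (Sum.inl (Fin.castLE hm i)))
      (fun i => Sum.inr (Sum.inr (Fin.castLE hm i)))
      (fun i j hij => Fin.castLE_injective hm (Sum.inr_injective (Sum.inr_injective hij)))
      (fun i j => by simp)
      (fun i => isHypPair_oddForm m (Fin.castLE hm i))
  exact isSimpleGroup_POmega_of_hypTriple (oddForm m F) (nondegenerate_oddForm h2 m)
    (by simp; omega) T

end Cfsg.Agent.S0295
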