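import Mathlib
import Cfsg.Statements.S2735
import Cfsg.Agent.S2694
import Cfsg.Agent.Helper5.LangOD
import Cfsg.Agent.Helper5.PSL2

set_option autoImplicit false
open Cfsg

namespace Cfsg.Agent.S2735

open Cfsg.Agent.Helper5 Cfsg.Agent.Helper44

/-- Let T = Ω_{2m+1}(F) (m ≥ 3, |F| odd) and x a field automorphism of T of prime order r. Then an element y of the coset Inndiag(T)·x (y = δ x with δ induced by a similarity of the form) has order r if and only if y is conjugate to x by an element of Inndiag(T). (T has no graph or graph-field automorphisms.) -/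
theorem result {F : Type*} [Field F] [Fintype F] (hodd : Odd (Fintype.card F)) {m : ℕ} (hm : 3 ≤ m) (x δ : MulAut (Cfsg.POmega F (Cfsg.quadFormOdd m F))) (hx : Cfsg.IsFieldAutClassPOmega (Cfsg.quadFormOdd m F) x) {r : ℕ} (hr : r.Prime) (hxr : orderOf x = r) (hδ : δ ∈ Cfsg.inndiagPOmegaOdd m F) :
    orderOf (δ * x) = r ↔ Cfsg.IsConjUnder (Cfsg.inndiagPOmegaOdd m F) x (δ * x) := by
  have h2 : (2 : F) ≠ 0 := Cfsg.Agent.Helper5.two_ne_zero_of_odd_card hodd
  have hQ := nondegenerate_oddForm h2 m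
  have hcard : Fintype.card (Unit ⊕ (Fin m ⊕ Fin m)) = 2 * m + 1 := by
    simp
    omega
  have hn : 7 ≤ Fintype.card (Unit ⊕ (Fin m ⊕ Fin m)) := by
    rw [hcard]
    omega
  have htop : Cfsg.gammaPOmega F ⇑(oddForm m F) = ⊤ := Cfsg.Agent.S2694.result hodd hm
  have hfield : ∀ (σ : F ≃+* F) (v : Unit ⊕ (Fin m ⊕ Fin m) → F),
      oddForm m F (fun i => σ (v i)) = σ (oddForm m F v) := by
    intro σ v
    show Cfsg.quadFormOdd m F (fun i => σ (v i)) = σ (Cfsg.quadFormOdd m F v)
    unfold Cfsg.quadFormOdd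
    simp only [map_add, map_pow, map_sum, map_mul]
  have key := LangO.coset_conj (oddForm m F) hQ hn htop hfield
    (fun σ r hσ hr0 g c hg hiter =>
      LangO.lang_GO_odd h2 (oddForm m F) hQ hcard σ (hfield σ) hσ hr0 g c hg hiter)
    x δ hx hr hxr hδ
  exact key

end Cfsg.Agent.S2735
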