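import Mathlib
import Cfsg.Statements.S0297
import Cfsg.Agent.Helper5.OrthSimpleStd

set_option autoImplicit false
open Cfsg

namespace Cfsg.Agent.S0297

open Cfsg.Agent.Helper5 Cfsg.Agent.Helper44

/-- PΩ^-_{2m}(q) is simple for m at least 4 (the form is quadFormMinus (m-1) with anisotropic binary part). -/
theorem result {F : Type*} [Field F] [Fintype F] (m : ℕ) (hm : 4 ≤ m) (a b : F) (hab : ∀ z₁ z₂ : F, z₁ ^ 2 + a * z₁ * z₂ + b * z₂ ^ 2 = 0 → z₁ = 0 ∧ z₂ = 0) : IsSimpleGroup (Cfsg.POmega F (Cfsg.quadFormMinus (m - 1) F a b)) := by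
  have h3 : 3 ≤ m - 1 := by omega
  have T : HypTriple (minusForm (m - 1) F a b) :=
    HypTriple.ofPairs (minusForm (m - 1) F a b) (fun i => Sum.inl (Sum.inl (Fin.castLE h3 i)))
      (fun i => Sum.inl (Sum.inr (Fin.castLE h3 i)))
      (fun i j hij => Fin.castLE_injective h3 (Sum.inr_injective (Sum.inl_injective hij)))
      (fun i j => by simp)
      (fun i => isHypPair_minusForm (m - 1) a b (Fin.castLE h3 i))
  exact isSimpleGroup_POmega_of_hypTriple (minusForm (m - 1) F a b)
    (nondegenerate_minusForm_of_aniso (m - 1) a b hab) (by simp; omega) T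

end Cfsg.Agent.S0297
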