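-- Statement S2623: over a finite field of odd order, non-degenerate quadratic forms on F^n are isometric
-- iff their discriminants lie in the same square class.
import Cfsg.Statements.S2623
import Cfsg.Agent.Helper44.Classify2
import Cfsg.Agent.Helper44.MinusForm

set_option autoImplicit false
open Cfsg

namespace Cfsg.Agent.S2623

open QuadraticMap

section

variable {F : Type*} [Field F]

/-- the standard Gram determinant -/
noncomputable def disc {n : ℕ} (Q : QuadraticForm F (Fin n → F)) : F :=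
  (Matrix.of (fun i j : Fin n => QuadraticMap.polar ⇑Q (Pi.single i 1) (Pi.single j 1))).det

theorem disc_eq {n : ℕ} (Q : QuadraticForm F (Fin n → F)) :
    disc Q = (LinearMap.BilinForm.toMatrix' (polarBilin Q)).det := by
  unfold disc
  congr 1

theorem isSquare_of_isometry {n : ℕ} (Q₁ Q₂ : QuadraticForm F (Fin n → F))
    (g : (Fin n → F) ≃ₗ[F] (Fin n → F)) (hg : ∀ v, Q₂ (g v) = Q₁ v) :
    IsSquare (disc Q₁ * disc Q₂) := by
  have hcomp : LinearMap.BilinForm.comp (polarBilin Q₂) (g : (Fin n → F) →ₗ[F] (Fin n → F))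
      (g : (Fin n → F) →ₗ[F] (Fin n → F)) = polarBilin Q₁ := by
    refine LinearMap.ext₂ fun u v => ?_
    simp only [LinearMap.BilinForm.comp_apply, LinearEquiv.coe_coe, polarBilin_apply_apply, polar]
    rw [← map_add, hg, hg, hg]
  have hM := congrArg LinearMap.BilinForm.toMatrix' hcomp
  rw [LinearMap.BilinForm.toMatrix'_comp] at hM
  have hdet := congrArg Matrix.det hM
  rw [Matrix.det_mul, Matrix.det_mul, Matrix.det_transpose, ← disc_eq, ← disc_eq] at hdet
  refine ⟨(LinearMap.toMatrix' (g : (Fin n → F) →ₗ[F] (Fin n → F))).det * disc Q₂, ?_⟩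
  rw [← hdet]; ring

theorem isSquare_transfer {D₁ D₂ A₁ A₂ t₁ t₂ : F} (h₁ : A₁ = t₁ * t₁ * D₁) (h₂ : A₂ = t₂ * t₂ * D₂)
    (h : IsSquare (D₁ * D₂)) : IsSquare (A₁ * A₂) := by
  obtain ⟨w, hw⟩ := h
  refine ⟨t₁ * t₂ * w, ?_⟩
  rw [h₁, h₂]
  linear_combination (t₁ * t₁ * t₂ * t₂) * hw

end

/-- Over a finite field of odd order, two quadratic forms on F^n with non-degenerate polar forms are isometric if and only if their discriminants lie in the same square class. -/
theorem result {F : Type*} [Field F] [Fintype F] (h2 : (2 : F) ≠ 0) {n : ℕ} (Q₁ Q₂ : QuadraticForm F (Fin n → F)) (h₁ : (QuadraticMap.polarBilin Q₁).Nondegenerate) (h₂ : (QuadraticMap.polarBilin Q₂).Nondegenerate) : (∃ g : (Fin n → F) ≃ₗ[F] (Fin n → F), ∀ v, Q₂ (g v) = Q₁ v) ↔ IsSquare ((Matrix.of (fun i j : Fin n => QuadraticMap.polar ⇑Q₁ (Pi.single i 1) (Pi.single j 1))).det * (Matrix.of (fun i j : Fin n => QuadraticMap.polar ⇑Q₂ (Pi.single i 1) (Pi.single j 1))).det)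 := by
  classical
  constructor
  · rintro ⟨g, hg⟩
    exact isSquare_of_isometry Q₁ Q₂ g hg
  intro hsq
  change IsSquare (disc Q₁ * disc Q₂) at hsq
  have hnd₁ : ∀ x : Fin n → F, (∀ y, polar Q₁ x y = 0) → x = 0 := by
    intro x hx
    apply h₁.1 x
    intro y
    rw [polarBilin_apply_apply]
    exact hx y
  have hnd₂ : ∀ x : Fin n → F, (∀ y, polar Q₂ x y = 0) → x = 0 := by
    intro x hx
    apply h₂.1 x
    intro y
    rw [polarBilin_apply_apply]
    exact hx y
  have hV : Module.finrank F (Fin n → F) = n := Module.finrank_fin_fun F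
  have hcardn : Fintype.card (Fin n) = n := Fintype.card_fin n
  have h4 : (4 : F) ≠ 0 := by
    have : (4 : F) = 2 * 2 := by norm_num
    rw [this]; exact mul_ne_zero h2 h2
  rcases Helper44.exists_wittData_cases Q₁ hV hnd₁ with
    ⟨k₁, e₁, f₁, r₁, hk₁, hd₁⟩ | ⟨k₁, e₁, f₁, r₁, hk₁, hd₁⟩ | ⟨k₁, e₁, f₁, x₁, y₁, hk₁, hd₁, hx₁, hxy₁, hirr₁⟩ <;>
  rcases Helper44.exists_wittData_cases Q₂ hV hnd₂ with
    ⟨k₂, e₂, f₂, r₂, hk₂, hd₂⟩ | ⟨k₂, e₂, f₂, r₂, hk₂, hd₂⟩ | ⟨k₂, e₂, f₂, x₂, y₂, hk₂, hd₂, hx₂, hxy₂, hirr₂⟩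
  · -- (0,0)
    obtain rfl : k₁ = k₂ := by omega
    exact hd₁.exists_isometry (by omega) hnd₁ e₂ f₂ r₂ hd₂.sing hd₂.pair hd₂.ee hd₂.ff hd₂.er hd₂.fr
      (fun j => Fin.elim0 j) (fun j => Fin.elim0 j)
  · exfalso; omega
  · -- (0,2): impossible by discriminants
    exfalso
    obtain ⟨t₁, ht₁, hD₁⟩ := hd₁.exists_disc (by omega)
    obtain ⟨t₂, ht₂, hD₂⟩ := hd₂.exists_disc (by omega)
    have hsq' := isSquare_transfer hD₁ hD₂ hsq
    simp only [Matrix.det_isEmpty, Matrix.det_fin_two] at hsq'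
    simp only [Matrix.of_apply, Matrix.cons_val_zero, Matrix.cons_val_one, polar_self, hx₂, hxy₂,
      polar_comm Q₂ y₂ x₂] at hsq'
    have hk : k₁ = k₂ + 1 := by omega
    subst hk
    apply Helper44.not_isSquare_of_no_root h2 (Q₂ y₂) hirr₂
    have : (-1 : F) ^ (k₂ + 1) * 1 * ((-1) ^ k₂ * (2 • (1 : F) * 2 • Q₂ y₂ - 1 * 1)) = 1 - 4 * Q₂ y₂ := by
      have hpow : (-1 : F) ^ (k₂ + 1) * (-1) ^ k₂ = -1 := by
        rw [← pow_add, show k₂ + 1 + k₂ = 2 * k₂ + 1 by ring, pow_succ, pow_mul]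
        simp
      simp only [nsmul_eq_mul, Nat.cast_ofNat]
      linear_combination (4 * Q₂ y₂ - 1) * hpow
    rw [this] at hsq'
    exact hsq'
  · exfalso; omega
  · -- (1,1)
    obtain rfl : k₁ = k₂ := by omega
    obtain ⟨t₁, ht₁, hD₁⟩ := hd₁.exists_disc (by omega)
    obtain ⟨t₂, ht₂, hD₂⟩ := hd₂.exists_disc (by omega)
    have hsq' := isSquare_transfer hD₁ hD₂ hsq
    rw [Matrix.det_fin_one, Matrix.det_fin_one] at hsq'
    simp only [Matrix.of_apply, polar_self] at hsq'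
    set a₁ := Q₁ (r₁ 0) with ha₁
    set a₂ := Q₂ (r₂ 0) with ha₂
    have ha₂0 : a₂ ≠ 0 := by
      intro h0
      have := hd₂.aniso (fun _ => 1) (by simpa using h0)
      have h1 := congrFun this 0
      simp at h1
    have hsq2 : IsSquare (a₁ * a₂) := by
      obtain ⟨w, hw⟩ := hsq'
      refine ⟨w / 2, ?_⟩
      have hpow : (-1 : F) ^ k₁ * (-1) ^ k₁ = 1 := by
        rw [← pow_add, ← two_mul, pow_mul]; simp
      simp only [nsmul_eq_mul, Nat.cast_ofNat] at hw
      field_simp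
      linear_combination hw - (4 * a₁ * a₂) * hpow
    obtain ⟨s, hs⟩ := hsq2
    have hc2 : s / a₂ * (s / a₂) * a₂ = a₁ := by
      rw [div_mul_div_comm, ← hs]; field_simp
    refine hd₁.exists_isometry (by omega) hnd₁ e₂ f₂ (fun _ => (s / a₂) • r₂ 0) hd₂.sing hd₂.pair hd₂.ee
      hd₂.ff ?_ ?_ ?_ ?_
    · intro i j
      rw [polar_smul_right, hd₂.er]; simp
    · intro i j
      rw [polar_smul_right, hd₂.fr]; simp
    · intro j j'
      have hj : j = 0 := Subsingleton.elim _ _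
      have hj' : j' = 0 := Subsingleton.elim _ _
      subst hj hj'
      rw [polar_self, polar_self, QuadraticMap.map_smul, ← ha₁, ← ha₂, smul_eq_mul, hc2]
    · intro j
      have hj : j = 0 := Subsingleton.elim _ _
      subst hj
      rw [QuadraticMap.map_smul, ← ha₁, ← ha₂, smul_eq_mul, hc2]
  · exfalso; omega
  · -- (2,0): impossible by discriminants
    exfalso
    obtain ⟨t₁, ht₁, hD₁⟩ := hd₁.exists_disc (by omega)
    obtain ⟨t₂, ht₂, hD₂⟩ := hd₂.exists_disc (by omega)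
    have hsq' := isSquare_transfer hD₁ hD₂ hsq
    simp only [Matrix.det_isEmpty, Matrix.det_fin_two] at hsq'
    simp only [Matrix.of_apply, Matrix.cons_val_zero, Matrix.cons_val_one, polar_self, hx₁, hxy₁,
      polar_comm Q₁ y₁ x₁] at hsq'
    have hk : k₂ = k₁ + 1 := by omega
    subst hk
    apply Helper44.not_isSquare_of_no_root h2 (Q₁ y₁) hirr₁
    have : (-1 : F) ^ k₁ * (2 • (1 : F) * 2 • Q₁ y₁ - 1 * 1) * ((-1) ^ (k₁ + 1) * 1) = 1 - 4 * Q₁ y₁ := by
      have hpow : (-1 : F) ^ (k₁ + 1) * (-1) ^ k₁ = -1 := by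
        rw [← pow_add, show k₁ + 1 + k₁ = 2 * k₁ + 1 by ring, pow_succ, pow_mul]
        simp
      simp only [nsmul_eq_mul, Nat.cast_ofNat]
      linear_combination (4 * Q₁ y₁ - 1) * hpow
    rw [this] at hsq'
    exact hsq'
  · exfalso; omega
  · -- (2,2)
    obtain rfl : k₁ = k₂ := by omega
    set ζ₁ := Q₁ y₁ with hζ₁
    set ζ₂ := Q₂ y₂ with hζ₂
    have hN₁ := Helper44.not_isSquare_of_no_root h2 ζ₁ hirr₁
    have hN₂ := Helper44.not_isSquare_of_no_root h2 ζ₂ hirr₂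
    have hN₂0 : 1 - 4 * ζ₂ ≠ 0 := by
      intro h0; apply hN₂; rw [h0]; exact ⟨0, by simp⟩
    have hN₁0 : 1 - 4 * ζ₁ ≠ 0 := by
      intro h0; apply hN₁; rw [h0]; exact ⟨0, by simp⟩
    have hN₂inv : ¬ IsSquare (1 - 4 * ζ₂)⁻¹ := by
      rintro ⟨w, hw⟩
      apply hN₂
      refine ⟨w⁻¹, ?_⟩
      rw [← mul_inv, ← hw, inv_inv]
    have hratio : IsSquare ((1 - 4 * ζ₁) * (1 - 4 * ζ₂)⁻¹) :=
      (Helper44.isSquare_mul_nonsquare_iff hN₁0 hN₂inv).2 hN₁
    obtain ⟨s, hs⟩ := hratio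
    have hs' : s * s * (1 - 4 * ζ₂) = 1 - 4 * ζ₁ := by
      rw [← hs]; field_simp
    have hyx₂ : polar Q₂ y₂ x₂ = 1 := by rw [polar_comm]; exact hxy₂
    have hlin : ∀ a b : F, Q₂ (a • x₂ + b • y₂) = a * a + b * b * ζ₂ + a * b := by
      intro a b
      rw [QuadraticMap.map_add ⇑Q₂, QuadraticMap.map_smul, QuadraticMap.map_smul, polar_smul_left,
        polar_smul_right, hx₂, hxy₂]
      simp only [smul_eq_mul]
      ring
    have hval : Q₂ (((1 + s) / 2) • x₂ + (-s) • y₂) = ζ₁ := by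
      rw [hlin]
      field_simp
      linear_combination -hs'
    refine hd₁.exists_isometry (by omega) hnd₁ e₂ f₂ ![x₂, ((1 + s) / 2) • x₂ + (-s) • y₂]
      hd₂.sing hd₂.pair hd₂.ee hd₂.ff ?_ ?_ ?_ ?_
    · intro i
      have hx := hd₂.er i 0
      have hy := hd₂.er i 1
      simp only [Matrix.cons_val_zero, Matrix.cons_val_one] at hx hy
      rw [Fin.forall_fin_two]
      constructor
      · simpa using hx
      · simp only [Matrix.cons_val_one, Matrix.cons_val_zero, polar_add_right, polar_smul_right, hx, hy]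
        simp
    · intro i
      have hx := hd₂.fr i 0
      have hy := hd₂.fr i 1
      simp only [Matrix.cons_val_zero, Matrix.cons_val_one] at hx hy
      rw [Fin.forall_fin_two]
      constructor
      · simpa using hx
      · simp only [Matrix.cons_val_one, Matrix.cons_val_zero, polar_add_right, polar_smul_right, hx, hy]
        simp
    · have hxx₂ : polar Q₂ x₂ x₂ = 2 := by rw [polar_self, hx₂]; simp
      have hxx₁ : polar Q₁ x₁ x₁ = 2 := by rw [polar_self, hx₁]; simp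
      have hyy₁ : polar Q₁ y₁ y₁ = 2 * ζ₁ := by rw [polar_self, hζ₁]; simp
      have hyx₁ : polar Q₁ y₁ x₁ = 1 := by rw [polar_comm]; exact hxy₁
      have hyy₂ : polar Q₂ y₂ y₂ = 2 * ζ₂ := by rw [polar_self, hζ₂]; simp
      have hvv : polar Q₂ (((1 + s) / 2) • x₂ + (-s) • y₂) (((1 + s) / 2) • x₂ + (-s) • y₂) = 2 * ζ₁ := by
        rw [polar_self, hval]; simp
      have hxv : polar Q₂ x₂ (((1 + s) / 2) • x₂ + (-s) • y₂) = 1 := by
        simp only [polar_add_right, polar_smul_right, hxx₂, hxy₂, smul_eq_mul]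
        field_simp
        ring
      have hvx : polar Q₂ (((1 + s) / 2) • x₂ + (-s) • y₂) x₂ = 1 := by rw [polar_comm]; exact hxv
      rw [Fin.forall_fin_two]
      constructor <;> rw [Fin.forall_fin_two] <;> constructor <;>
        simp only [Matrix.cons_val_zero, Matrix.cons_val_one, hxx₂, hxx₁, hxv, hvx, hvv, hxy₁, hyx₁, hyy₁]
    · rw [Fin.forall_fin_two]
      constructor <;> simp only [Matrix.cons_val_zero, Matrix.cons_val_one, hx₂, hx₁, hval, hζ₁]

end Cfsg.Agent.S2623
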