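-- Statement S4065: in PSL₂(2ⁿ) every element centralizer is a TI-subgroup.
import Mathlib
import Cfsg.Statements.S4065

set_option autoImplicit false
open Cfsg

namespace Cfsg.Agent.S4065

/-- In a group where commuting is transitive on non-identity elements, every element
centralizer is a TI-subset. -/
theorem ti_of_ct {G : Type*} [Group G]
    (hCT : ∀ a b c : G, b ≠ 1 → Commute a b → Commute b c → Commute a c) (x : G) :
    Cfsg.IsTISubset (Subgroup.centralizer ({x} : Set G) : Set G) := by
  intro g hg y hy hgy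
  by_contra hy1
  apply hg
  have hy' : Commute y x := Subgroup.mem_centralizer_singleton_iff.mp hy
  have hgy' : Commute (g * y * g⁻¹) x := Subgroup.mem_centralizer_singleton_iff.mp hgy
  rw [Subgroup.mem_normalizer_iff]
  by_cases hx1 : x = 1
  · subst hx1
    intro h
    simp [Subgroup.mem_centralizer_singleton_iff]
  · -- y commutes with g⁻¹ x g
    have h1 : Commute y (g⁻¹ * x * g) := by
      have e : y * (g⁻¹ * x * g) = g⁻¹ * ((g * y * g⁻¹) * x) * g := by group
      have e2 : (g⁻¹ * x * g) * y = g⁻¹ * (x * (g * y * g⁻¹)) * g := by group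
      show y * (g⁻¹ * x * g) = (g⁻¹ * x * g) * y
      rw [e, e2, hgy'.eq]
    have h2 : Commute x (g⁻¹ * x * g) := hCT x y _ hy1 hy'.symm h1
    have hne : g⁻¹ * x * g ≠ 1 := by
      intro hcon
      apply hx1
      have : x = g * (g⁻¹ * x * g) * g⁻¹ := by group
      rw [this, hcon]; group
    intro h
    rw [Subgroup.mem_centralizer_singleton_iff, Subgroup.mem_centralizer_singleton_iff]
    constructor
    · intro hh
      have hh' : Commute h x := hh
      have h3 : Commute h (g⁻¹ * x * g) := hCT h x _ hx1 hh' h2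
      have e : g * h * g⁻¹ * x = g * (h * (g⁻¹ * x * g)) * g⁻¹ := by group
      have e2 : x * (g * h * g⁻¹) = g * ((g⁻¹ * x * g) * h) * g⁻¹ := by group
      rw [e, e2, h3.eq]
    · intro hh
      have h3 : Commute h (g⁻¹ * x * g) := by
        have e : h * (g⁻¹ * x * g) = g⁻¹ * ((g * h * g⁻¹) * x) * g := by group
        have e2 : (g⁻¹ * x * g) * h = g⁻¹ * (x * (g * h * g⁻¹)) * g := by group
        show h * (g⁻¹ * x * g) = (g⁻¹ * x * g) * h
        rw [e, e2, hh]
      exact hCT h _ x hne h3 h2.symm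

/-- If `u × v = 0` and `v ≠ 0` then `u` is a multiple of `v` (in a field). -/
theorem parallel {F : Type*} [Field F] (u1 u2 u3 v1 v2 v3 : F)
    (hv : v1 ≠ 0 ∨ v2 ≠ 0 ∨ v3 ≠ 0)
    (h12 : u1 * v2 = v1 * u2) (h13 : v1 * u3 = u1 * v3) (h23 : v2 * u3 = u2 * v3) :
    ∃ β : F, u1 = β * v1 ∧ u2 = β * v2 ∧ u3 = β * v3 := by
  rcases hv with h | h | h
  · refine ⟨u1 / v1, ?_, ?_, ?_⟩
    · field_simp
    · field_simp; linear_combination -h12
    · field_simp; linear_combination h13
  · refine ⟨u2 / v2, ?_, ?_, ?_⟩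
    · field_simp; linear_combination h12
    · field_simp
    · field_simp; linear_combination h23
  · refine ⟨u3 / v3, ?_, ?_, ?_⟩
    · field_simp; linear_combination -h13
    · field_simp; linear_combination -h23
    · field_simp

/-- Commuting with a non-scalar 2×2 matrix is transitive. -/
theorem matrix_comm_trans {F : Type*} [Field F] (A B C : Matrix (Fin 2) (Fin 2) F)
    (hB : B 0 1 ≠ 0 ∨ B 1 0 ≠ 0 ∨ B 0 0 - B 1 1 ≠ 0)
    (hAB : A * B = B * A) (hBC : B * C = C * B) : A * C = C * A := by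
  have e00 := congrFun (congrFun hAB 0) 0
  have e01 := congrFun (congrFun hAB 0) 1
  have e10 := congrFun (congrFun hAB 1) 0
  have f00 := congrFun (congrFun hBC 0) 0
  have f01 := congrFun (congrFun hBC 0) 1
  have f10 := congrFun (congrFun hBC 1) 0
  simp only [Matrix.mul_apply, Fin.sum_univ_two] at e00 e01 e10 f00 f01 f10
  obtain ⟨β, hb1, hb2, hb3⟩ := parallel (A 0 1) (A 1 0) (A 0 0 - A 1 1) (B 0 1) (B 1 0) (B 0 0 - B 1 1) hB
    (by linear_combination e00) (by linear_combination e01) (by linear_combination -e10)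
  obtain ⟨γ, hc1, hc2, hc3⟩ := parallel (C 0 1) (C 1 0) (C 0 0 - C 1 1) (B 0 1) (B 1 0) (B 0 0 - B 1 1) hB
    (by linear_combination -f00) (by linear_combination -f01) (by linear_combination f10)
  have ha : A 0 0 = A 1 1 + β * (B 0 0 - B 1 1) := by linear_combination hb3
  have hc : C 0 0 = C 1 1 + γ * (B 0 0 - B 1 1) := by linear_combination hc3
  ext i j
  fin_cases i <;> fin_cases j <;>
    simp only [Matrix.mul_apply, Fin.sum_univ_two, Fin.zero_eta, Fin.mk_one, Fin.isValue] <;>
    simp only [hb1, hb2, hc1, hc2, ha, hc] <;> ring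

section PSL

variable {F : Type*} [Field F] [CharP F 2]

/-- The centre of `SL₂(F)` is trivial in characteristic 2. -/
theorem center_eq_bot : Subgroup.center (Matrix.SpecialLinearGroup (Fin 2) F) = ⊥ := by
  rw [eq_bot_iff]
  intro A hA
  rw [Matrix.SpecialLinearGroup.mem_center_iff] at hA
  obtain ⟨r, hr, hrA⟩ := hA
  rw [Fintype.card_fin] at hr
  have h2 : (2 : F) = 0 := CharTwo.two_eq_zero
  have h3 : (r - 1) ^ 2 = 0 := by linear_combination hr + (1 - r) * h2
  have hr1 : r = 1 := by
    have := pow_eq_zero_iff (two_ne_zero) |>.mp h3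
    linear_combination this
  rw [Subgroup.mem_bot]
  apply Subtype.ext
  rw [← hrA, hr1]
  simp

/-- A matrix of `SL₂(F)` with zero off-diagonal entries and equal diagonal entries is central. -/
theorem mem_center_of_scalar (B : Matrix.SpecialLinearGroup (Fin 2) F)
    (h01 : (B : Matrix (Fin 2) (Fin 2) F) 0 1 = 0) (h10 : (B : Matrix (Fin 2) (Fin 2) F) 1 0 = 0)
    (hd : (B : Matrix (Fin 2) (Fin 2) F) 0 0 - (B : Matrix (Fin 2) (Fin 2) F) 1 1 = 0) :
    B ∈ Subgroup.center (Matrix.SpecialLinearGroup (Fin 2) F) := by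
  rw [Subgroup.mem_center_iff]
  intro g
  apply Subtype.ext
  rw [Matrix.SpecialLinearGroup.coe_mul, Matrix.SpecialLinearGroup.coe_mul]
  have hd' : (B : Matrix (Fin 2) (Fin 2) F) 0 0 = (B : Matrix (Fin 2) (Fin 2) F) 1 1 := by
    linear_combination hd
  ext i j
  fin_cases i <;> fin_cases j <;>
    simp only [Matrix.mul_apply, Fin.sum_univ_two, Fin.zero_eta, Fin.mk_one, Fin.isValue] <;>
    simp only [h01, h10, hd'] <;> ring

/-- `PSL₂(F)` is a CT-group when `F` has characteristic 2. -/
theorem psl_ct (a b c : Matrix.ProjectiveSpecialLinearGroup (Fin 2) F) (hb : b ≠ 1)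
    (hab : Commute a b) (hbc : Commute b c) : Commute a c := by
  obtain ⟨A, rfl⟩ := QuotientGroup.mk_surjective a
  obtain ⟨B, rfl⟩ := QuotientGroup.mk_surjective b
  obtain ⟨C, rfl⟩ := QuotientGroup.mk_surjective c
  have hBc : B ∉ Subgroup.center (Matrix.SpecialLinearGroup (Fin 2) F) := by
    intro hcon
    exact hb ((QuotientGroup.eq_one_iff B).mpr hcon)
  -- commuting in the quotient means commuting in SL₂
  have lift : ∀ X Y : Matrix.SpecialLinearGroup (Fin 2) F,
      Commute (X : Matrix.ProjectiveSpecialLinearGroup (Fin 2) F) (Y : Matrix.ProjectiveSpecialLinearGroup (Fin 2) F) →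
      X * Y = Y * X := by
    intro X Y h
    have h1 : ((X * Y : Matrix.SpecialLinearGroup (Fin 2) F) : Matrix.ProjectiveSpecialLinearGroup (Fin 2) F)
        = ((Y * X : Matrix.SpecialLinearGroup (Fin 2) F) : Matrix.ProjectiveSpecialLinearGroup (Fin 2) F) := h
    rw [QuotientGroup.eq, center_eq_bot, Subgroup.mem_bot] at h1
    exact inv_mul_eq_one.mp h1
  have hAB := lift A B hab
  have hBC := lift B C hbc
  have hAB' : (A : Matrix (Fin 2) (Fin 2) F) * B = B * A := by
    rw [← Matrix.SpecialLinearGroup.coe_mul, ← Matrix.SpecialLinearGroup.coe_mul, hAB]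
  have hBC' : (B : Matrix (Fin 2) (Fin 2) F) * C = C * B := by
    rw [← Matrix.SpecialLinearGroup.coe_mul, ← Matrix.SpecialLinearGroup.coe_mul, hBC]
  have hBns : (B : Matrix (Fin 2) (Fin 2) F) 0 1 ≠ 0 ∨ (B : Matrix (Fin 2) (Fin 2) F) 1 0 ≠ 0 ∨
      (B : Matrix (Fin 2) (Fin 2) F) 0 0 - (B : Matrix (Fin 2) (Fin 2) F) 1 1 ≠ 0 := by
    by_contra hcon
    push Not at hcon
    exact hBc (mem_center_of_scalar B hcon.1 hcon.2.1 hcon.2.2)
  have hAC := matrix_comm_trans _ _ _ hBns hAB' hBC'
  have hAC' : A * C = C * A := by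
    apply Subtype.ext
    rw [Matrix.SpecialLinearGroup.coe_mul, Matrix.SpecialLinearGroup.coe_mul, hAC]
  show (A : Matrix.ProjectiveSpecialLinearGroup (Fin 2) F) * C = C * A
  rw [← QuotientGroup.mk_mul, ← QuotientGroup.mk_mul, hAC']

end PSL

/-- Let F be a finite field with 2ⁿ elements, n ≥ 2. In PSL₂(F) the centralizer of every element meets each of its conjugates by elements outside its normalizer trivially. -/
theorem result (n : ℕ) (hn : 2 ≤ n)
    (x : Matrix.ProjectiveSpecialLinearGroup (Fin 2) (GaloisField 2 n)) :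
    Cfsg.IsTISubset (Subgroup.centralizer ({x} : Set (Matrix.ProjectiveSpecialLinearGroup (Fin 2) (GaloisField 2 n))) :
      Set (Matrix.ProjectiveSpecialLinearGroup (Fin 2) (GaloisField 2 n))) := by
  exact ti_of_ct (fun a b c hb hab hbc => psl_ct a b c hb hab hbc) x

end Cfsg.Agent.S4065
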