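import Cfsg.Statements.S2299
import Cfsg.Agent.Helper39.SL2Degrees

set_option autoImplicit false
open Cfsg

namespace Cfsg.Agent.S2299

theorem card_subtype_deg {G : Type*} [Group G] [Fintype (IrrCharacter G)] (n : ℕ) (c : ℂ)
    (hc : c = n) [DecidablePred (fun χ : IrrCharacter G => charDegree (χ : G → ℂ) = n)] :
    Nat.card {χ : IrrCharacter G // (χ : G → ℂ) 1 = c} =
      (Finset.univ.filter (fun χ : IrrCharacter G => charDegree (χ : G → ℂ) = n)).card := by
  classical
  rw [Nat.card_eq_fintype_card, Fintype.card_subtype]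
  congr 1
  ext χ
  simp only [Finset.mem_filter, Finset.mem_univ, true_and]
  rw [hc, ← Cfsg.Agent.Helper74.charDegree_cast (Cfsg.Agent.Helper74.irr_isCharacter χ),
    Nat.cast_inj]

/-- Over a finite field F with q elements, q odd, every irreducible complex character of SL₂ has degree 1, q, q + 1, q − 1, (q + 1)/2 or (q − 1)/2; and when q ≥ 5 (so that these six numbers are distinct) there are exactly one irreducible character of degree 1, one of degree q, (q − 3)/2 of degree q + 1, (q − 1)/2 of degree q − 1, two of degree (q + 1)/2 and two of degree (q − 1)/2. -/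
theorem result {F : Type*} [Field F] [Fintype F] (hodd : Odd (Fintype.card F)) :
    (∀ χ : Matrix.SpecialLinearGroup (Fin 2) F → ℂ, Cfsg.IsIrrCharacter (Matrix.SpecialLinearGroup (Fin 2) F) χ →
      χ 1 = 1 ∨ χ 1 = (Fintype.card F : ℂ) ∨ χ 1 = (Fintype.card F : ℂ) + 1 ∨ χ 1 = (Fintype.card F : ℂ) - 1 ∨
        χ 1 = (((Fintype.card F + 1) / 2 : ℕ) : ℂ) ∨ χ 1 = (((Fintype.card F - 1) / 2 : ℕ) : ℂ)) ∧
    (5 ≤ Fintype.card F →
      Nat.card {χ : Cfsg.IrrCharacter (Matrix.SpecialLinearGroup (Fin 2) F) // (χ : Matrix.SpecialLinearGroup (Fin 2) F → ℂ) 1 = 1} = 1 ∧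
      Nat.card {χ : Cfsg.IrrCharacter (Matrix.SpecialLinearGroup (Fin 2) F) // (χ : Matrix.SpecialLinearGroup (Fin 2) F → ℂ) 1 = (Fintype.card F : ℂ)} = 1 ∧
      Nat.card {χ : Cfsg.IrrCharacter (Matrix.SpecialLinearGroup (Fin 2) F) // (χ : Matrix.SpecialLinearGroup (Fin 2) F → ℂ) 1 = (Fintype.card F : ℂ) + 1} = (Fintype.card F - 3) / 2 ∧
      Nat.card {χ : Cfsg.IrrCharacter (Matrix.SpecialLinearGroup (Fin 2) F) // (χ : Matrix.SpecialLinearGroup (Fin 2) F → ℂ) 1 = (Fintype.card F : ℂ) - 1} = (Fintype.card F - 1) / 2 ∧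
      Nat.card {χ : Cfsg.IrrCharacter (Matrix.SpecialLinearGroup (Fin 2) F) // (χ : Matrix.SpecialLinearGroup (Fin 2) F → ℂ) 1 = (((Fintype.card F + 1) / 2 : ℕ) : ℂ)} = 2 ∧
      Nat.card {χ : Cfsg.IrrCharacter (Matrix.SpecialLinearGroup (Fin 2) F) // (χ : Matrix.SpecialLinearGroup (Fin 2) F → ℂ) 1 = (((Fintype.card F - 1) / 2 : ℕ) : ℂ)} = 2) := by
  classical
  let _ : Fintype (IrrCharacter (Matrix.SpecialLinearGroup (Fin 2) F)) :=
    Cfsg.Agent.Helper74.irrFintype _
  obtain ⟨j, hj⟩ := hodd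
  have hodd : Odd (Fintype.card F) := ⟨j, hj⟩
  have hq2 : 2 ≤ Fintype.card F := Fintype.one_lt_card
  have hj1 : 1 ≤ j := by omega
  have hqc : (Fintype.card F : ℂ) = 2 * (j : ℂ) + 1 := by rw [hj]; push_cast; ring
  have hh1 : (Fintype.card F + 1) / 2 = j + 1 := by omega
  have hh2 : (Fintype.card F - 1) / 2 = j := by omega
  rw [hh1, hh2]
  refine ⟨?_, ?_⟩
  · intro χ hχ
    have hc1 : (charDegree χ : ℂ) = χ 1 :=
      Cfsg.Agent.Helper74.charDegree_cast (Cfsg.Agent.Helper74.isCharacter_of_isIrr hχ)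
    by_cases hq5 : 5 ≤ Fintype.card F
    · have table := (Cfsg.Agent.Helper39.sl2_degree_table_odd j hj (by omega)).1 ⟨χ, hχ⟩
      simp only at table
      rcases table with h | h | h | h | h | h
      · left; rw [← hc1, h]; simp
      · right; left; rw [← hc1, h, hqc]; push_cast; ring
      · right; right; left; rw [← hc1, h, hqc]; push_cast; ring
      · right; right; right; left; rw [← hc1, h, hqc]; push_cast; ring
      · right; right; right; right; left; rw [← hc1, h]
      · right; right; right; right; right; rw [← hc1, h]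
    · have hj' : j = 1 := by omega
      subst hj'
      rcases Cfsg.Agent.Helper39.sl2_irr_cases hodd ⟨χ, hχ⟩ (Cfsg.Agent.Helper39.quadC F)
        Cfsg.Agent.Helper39.quadC_sq (Cfsg.Agent.Helper39.quadC_ne_one hodd) with
        h | h | ⟨γ, hγ, h⟩ | h | h
      · left
        simp only at h
        rw [h, Cfsg.Agent.Helper38.trivS_apply]
      · right; left
        simp only at h
        rw [h, Cfsg.Agent.Helper38.Sts_one]
      · right; right; left
        simp only at h
        rw [h, Cfsg.Agent.Helper38.PSs_one]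
      · right; right; right; right; left
        simp only at h
        obtain ⟨χ₁, χ₂, hχ₁, hχ₂, h12, hsum12, hdeg₁, hdeg₂, -⟩ :=
          Cfsg.Agent.S2307.result hodd (Cfsg.Agent.Helper39.quadC F)
            Cfsg.Agent.Helper39.quadC_sq (Cfsg.Agent.Helper39.quadC_ne_one hodd)
        have hPS0 : Cfsg.Agent.Helper38.PSs (Cfsg.Agent.Helper39.quadC F) = χ₁ + χ₂ := by
          rw [← Cfsg.Agent.Helper39.indFun_theta_eq_PSs]
          exact hsum12
        rw [hh1] at hdeg₁ hdeg₂
        rw [hPS0, Cfsg.Agent.Helper74.classInner_add_left] at h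
        by_cases h1 : classInner χ₁ χ = 0
        · rw [h1, zero_add] at h
          rw [← Cfsg.Agent.Helper39.eq_of_inner_ne_zero hχ₂ hχ h]
          exact hdeg₂
        · rw [← Cfsg.Agent.Helper39.eq_of_inner_ne_zero hχ₁ hχ h1]
          exact hdeg₁
      · simp only at h
        rw [hj] at h
        have hle := Nat.le_of_dvd (by norm_num) h
        have hpos := Cfsg.Agent.Helper80.IsIrrCharacter.charDegree_pos hχ
        have hcases : charDegree χ = 1 ∨ charDegree χ = 2 := by omega
        rcases hcases with h' | h'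
        · left; rw [← hc1, h']; simp
        · right; right; right; left; rw [← hc1, h', hqc]; push_cast; ring
  · intro hq5
    have hj2 : 2 ≤ j := by omega
    obtain ⟨-, k1, k2, k3, k4, k5, k6⟩ := Cfsg.Agent.Helper39.sl2_degree_table_odd j hj hj2
    refine ⟨?_, ?_, ?_, ?_, ?_, ?_⟩
    · rw [card_subtype_deg 1 1 (by simp), k1]
    · rw [card_subtype_deg (2 * j + 1) _ (by rw [hqc]; push_cast; ring), k2]
    · rw [card_subtype_deg (2 * j + 2) _ (by rw [hqc]; push_cast; ring)]
      omega
    · rw [card_subtype_deg (2 * j) _ (by rw [hqc]; push_cast; ring), k4]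
    · rw [card_subtype_deg (j + 1) _ rfl, k5]
    · rw [card_subtype_deg j _ rfl, k6]

end Cfsg.Agent.S2299
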