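import Cfsg.Statements.S2300
import Cfsg.Agent.Helper38.SL2Count

set_option autoImplicit false
open Cfsg

namespace Cfsg.Agent.S2300

open Cfsg.Agent.Helper38

theorem card_subtype_degree {G : Type*} [Group G] [Fintype (IrrCharacter G)] (n : ℕ) (c : ℂ)
    (hc : c = n) [DecidablePred (fun χ : IrrCharacter G => charDegree (χ : G → ℂ) = n)] :
    Nat.card {χ : IrrCharacter G // (χ : G → ℂ) 1 = c} =
      (Finset.univ.filter (fun χ : IrrCharacter G => charDegree (χ : G → ℂ) = n)).card := by
  classical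
  rw [Nat.card_eq_fintype_card, Fintype.card_subtype]
  congr 1
  ext χ
  simp only [Finset.mem_filter, Finset.mem_univ, true_and]
  rw [hc, ← Helper74.charDegree_cast (Helper74.irr_isCharacter χ), Nat.cast_inj]

/-- Over a finite field F with q elements, q even, every irreducible complex character of SL₂ has degree 1, q − 1, q or q + 1; and when q ≥ 4 (so that these four numbers are distinct) there are exactly one irreducible character of degree 1, one of degree q, (q − 2)/2 of degree q + 1 and q/2 of degree q − 1. -/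
theorem result {F : Type*} [Field F] [Fintype F] [CharP F 2] :
    (∀ χ : Matrix.SpecialLinearGroup (Fin 2) F → ℂ, Cfsg.IsIrrCharacter (Matrix.SpecialLinearGroup (Fin 2) F) χ →
      χ 1 = 1 ∨ χ 1 = (Fintype.card F : ℂ) - 1 ∨ χ 1 = (Fintype.card F : ℂ) ∨ χ 1 = (Fintype.card F : ℂ) + 1) ∧
    (4 ≤ Fintype.card F →
      Nat.card {χ : Cfsg.IrrCharacter (Matrix.SpecialLinearGroup (Fin 2) F) // (χ : Matrix.SpecialLinearGroup (Fin 2) F → ℂ) 1 = 1} = 1 ∧
      Nat.card {χ : Cfsg.IrrCharacter (Matrix.SpecialLinearGroup (Fin 2) F) // (χ : Matrix.SpecialLinearGroup (Fin 2) F → ℂ) 1 = (Fintype.card F : ℂ)} = 1 ∧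
      Nat.card {χ : Cfsg.IrrCharacter (Matrix.SpecialLinearGroup (Fin 2) F) // (χ : Matrix.SpecialLinearGroup (Fin 2) F → ℂ) 1 = (Fintype.card F : ℂ) + 1} = (Fintype.card F - 2) / 2 ∧
      Nat.card {χ : Cfsg.IrrCharacter (Matrix.SpecialLinearGroup (Fin 2) F) // (χ : Matrix.SpecialLinearGroup (Fin 2) F → ℂ) 1 = (Fintype.card F : ℂ) - 1} = Fintype.card F / 2) := by
  classical
  let _ : Fintype (IrrCharacter (Matrix.SpecialLinearGroup (Fin 2) F)) :=
    Helper74.irrFintype _
  obtain ⟨m, hm⟩ : ∃ m, Fintype.card F = m + 1 :=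
    ⟨Fintype.card F - 1, by have : 0 < Fintype.card F := Fintype.card_pos; omega⟩
  have table := SL2_degree_table (F := F) m hm
  have hqc : (Fintype.card F : ℂ) = (m : ℂ) + 1 := by rw [hm]; push_cast; ring
  refine ⟨?_, ?_⟩
  · intro χ hχ
    have h1 : (charDegree χ : ℂ) = χ 1 :=
      Helper74.charDegree_cast (Helper74.isCharacter_of_isIrr hχ)
    rcases table.1 ⟨χ, hχ⟩ with h | h | h | h <;> simp only at h
    · left; rw [← h1, h]; simp
    · right; left; rw [← h1, h, hqc]; ring
    · right; right; left; rw [← h1, h, hqc]; push_cast; ring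
    · right; right; right; rw [← h1, h, hqc]; push_cast; ring
  · intro h3
    have hm2 : 2 ≤ m := by omega
    obtain ⟨k1, k2, k3, k4⟩ := table.2 hm2
    refine ⟨?_, ?_, ?_, ?_⟩
    · rw [card_subtype_degree 1 1 (by simp), k1]
    · rw [card_subtype_degree (m + 1) _ (by rw [hqc]; push_cast; ring), k2]
    · rw [card_subtype_degree (m + 2) _ (by rw [hqc]; push_cast; ring), hm]
      omega
    · rw [card_subtype_degree m _ (by rw [hqc]; ring), hm]
      omega

end Cfsg.Agent.S2300
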