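import Cfsg.Statements.S2306
import Cfsg.Agent.Helper39.SL2Cosets
import Cfsg.Agent.Helper15.IndChar
import Cfsg.Agent.Helper15.LinChar

set_option autoImplicit false
open Cfsg

namespace Cfsg.Agent.S2306

open Matrix Cfsg.Agent.Helper39
open scoped ComplexConjugate

variable {F : Type*} [Field F]

/-- The linear character `b ↦ α(b₀₀)` of the upper triangular subgroup of `SL₂`. -/
noncomputable def theta (α : MulChar F ℂ) : BSL F → ℂ :=
  fun b => α (((b : Matrix.SpecialLinearGroup (Fin 2) F) : Matrix (Fin 2) (Fin 2) F) 0 0)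

theorem theta_mul (α : MulChar F ℂ) (b b' : BSL F) :
    theta α (b * b') = theta α b * theta α b' := by
  have hb' : ((b' : Matrix.SpecialLinearGroup (Fin 2) F) : Matrix (Fin 2) (Fin 2) F) 1 0 = 0 :=
    (mem_BSL_iff _).mp b'.2
  unfold theta
  rw [Subgroup.coe_mul, Matrix.SpecialLinearGroup.coe_mul, Matrix.mul_apply, Fin.sum_univ_two, hb',
    mul_zero, add_zero, map_mul]

theorem theta_one (α : MulChar F ℂ) : theta α 1 = 1 := by
  unfold theta
  simp

/-- `theta` as a monoid homomorphism. -/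
noncomputable def thetaHom (α : MulChar F ℂ) : BSL F →* ℂ where
  toFun := theta α
  map_one' := theta_one α
  map_mul' := theta_mul α

theorem isCharacter_theta (α : MulChar F ℂ) : IsCharacter (BSL F) (theta α) :=
  (Cfsg.Agent.Helper15.isCharacter_of_hom (thetaHom α)).1

theorem theta_conj (α : MulChar F ℂ) (b y : BSL F) : theta α (b⁻¹ * y * b) = theta α y := by
  have h1 : theta α (b⁻¹ * y * b) = theta α b⁻¹ * theta α y * theta α b := by
    rw [theta_mul, theta_mul]
  have h2 : theta α b⁻¹ * theta α b = 1 := by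
    rw [← theta_mul, inv_mul_cancel, theta_one]
  rw [h1, mul_comm (theta α b⁻¹), mul_assoc, h2, mul_one]

/-- The explicit value of the induced function. -/
noncomputable def indVal [Fintype F] [DecidableEq F] (α : MulChar F ℂ)
    (g : Matrix.SpecialLinearGroup (Fin 2) F) : ℂ :=
  (if (g : Matrix (Fin 2) (Fin 2) F) 1 0 = 0 then α ((g : Matrix (Fin 2) (Fin 2) F) 0 0) else 0) +
    ∑ c : F, if (g : Matrix (Fin 2) (Fin 2) F) 0 0 * c + (g : Matrix (Fin 2) (Fin 2) F) 0 1 -
        c * ((g : Matrix (Fin 2) (Fin 2) F) 1 0 * c + (g : Matrix (Fin 2) (Fin 2) F) 1 1) = 0 then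
      α ((g : Matrix (Fin 2) (Fin 2) F) 1 0 * c + (g : Matrix (Fin 2) (Fin 2) F) 1 1) else 0

theorem extendByZero_theta [DecidableEq F] (α : MulChar F ℂ)
    (y : Matrix.SpecialLinearGroup (Fin 2) F) :
    Cfsg.extendByZero (BSL F) (theta α) y =
      if (y : Matrix (Fin 2) (Fin 2) F) 1 0 = 0 then
        α ((y : Matrix (Fin 2) (Fin 2) F) 0 0) else 0 := by
  split_ifs with h
  · rw [extendByZero_of_mem _ _ _ ((mem_BSL_iff y).mpr h)]
    rfl
  · rw [extendByZero_of_not_mem _ _ _ (fun hy => h ((mem_BSL_iff y).mp hy))]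

theorem indFun_theta [Fintype F] [DecidableEq F] (α : MulChar F ℂ)
    (g : Matrix.SpecialLinearGroup (Fin 2) F) :
    Cfsg.indFun (BSL F) (theta α) g = indVal α g := by
  rw [indFun_BSL (theta α) (theta_conj α) g, Fintype.sum_option, conj_srep_none,
    extendByZero_theta]
  unfold indVal
  congr 1
  apply Finset.sum_congr rfl
  intro c _
  rw [extendByZero_theta, conj_srep_some_10, conj_srep_some_00]
  simp only [neg_eq_zero]

/-- The element `!![a, x; 0, a⁻¹]` of the upper triangular subgroup. -/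
noncomputable def bElt (p : Fˣ × F) : BSL F :=
  ⟨mkSL2 !![(p.1 : F), p.2; 0, ((p.1⁻¹ : Fˣ) : F)] (by simp [Matrix.det_fin_two]),
    (mem_BSL_iff _).mpr rfl⟩

theorem bElt_00 (p : Fˣ × F) :
    (((bElt p : BSL F) : Matrix.SpecialLinearGroup (Fin 2) F) : Matrix (Fin 2) (Fin 2) F) 0 0 =
      p.1 := rfl
theorem bElt_01 (p : Fˣ × F) :
    (((bElt p : BSL F) : Matrix.SpecialLinearGroup (Fin 2) F) : Matrix (Fin 2) (Fin 2) F) 0 1 =
      p.2 := rfl
theorem bElt_10 (p : Fˣ × F) :
    (((bElt p : BSL F) : Matrix.SpecialLinearGroup (Fin 2) F) : Matrix (Fin 2) (Fin 2) F) 1 0 =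
      0 := rfl
theorem bElt_11 (p : Fˣ × F) :
    (((bElt p : BSL F) : Matrix.SpecialLinearGroup (Fin 2) F) : Matrix (Fin 2) (Fin 2) F) 1 1 =
      ((p.1⁻¹ : Fˣ) : F) := rfl

theorem bElt_bijective : Function.Bijective (bElt (F := F)) := by
  constructor
  · intro p p' h
    have h0 := congrArg (fun b : BSL F =>
      ((b : Matrix.SpecialLinearGroup (Fin 2) F) : Matrix (Fin 2) (Fin 2) F) 0 0) h
    have h1 := congrArg (fun b : BSL F =>
      ((b : Matrix.SpecialLinearGroup (Fin 2) F) : Matrix (Fin 2) (Fin 2) F) 0 1) h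
    simp only [bElt_00, bElt_01] at h0 h1
    exact Prod.ext (Units.ext h0) h1
  · intro b
    have hb : ((b : Matrix.SpecialLinearGroup (Fin 2) F) : Matrix (Fin 2) (Fin 2) F) 1 0 = 0 :=
      (mem_BSL_iff _).mp b.2
    have hdet : ((b : Matrix.SpecialLinearGroup (Fin 2) F) : Matrix (Fin 2) (Fin 2) F).det = 1 :=
      (b : Matrix.SpecialLinearGroup (Fin 2) F).2
    rw [Matrix.det_fin_two, hb, mul_zero, sub_zero] at hdet
    have h0 : ((b : Matrix.SpecialLinearGroup (Fin 2) F) : Matrix (Fin 2) (Fin 2) F) 0 0 ≠ 0 := by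
      intro h
      rw [h, zero_mul] at hdet
      exact zero_ne_one hdet
    refine ⟨(Units.mk0 _ h0,
      ((b : Matrix.SpecialLinearGroup (Fin 2) F) : Matrix (Fin 2) (Fin 2) F) 0 1), ?_⟩
    apply Subtype.ext
    apply Matrix.SpecialLinearGroup.ext
    intro i j
    fin_cases i <;> fin_cases j
    · rfl
    · rfl
    · exact hb.symm
    · show ((Units.mk0 _ h0)⁻¹ : Fˣ).val = _
      rw [Units.val_inv_eq_inv_val, Units.val_mk0]
      exact (eq_inv_of_mul_eq_one_right hdet).symm

/-- The parametrisation of the upper triangular subgroup. -/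
noncomputable def bEquiv : Fˣ × F ≃ BSL F := Equiv.ofBijective bElt bElt_bijective

section Inner

variable [Fintype F] [DecidableEq F]

theorem card_BSL : Nat.card (BSL F) = Fintype.card Fˣ * Fintype.card F := by
  rw [← Nat.card_congr (bEquiv (F := F)), Nat.card_eq_fintype_card, Fintype.card_prod]

theorem conj_mulChar (α : MulChar F ℂ) (a : F) : conj (α a) = α a⁻¹ := by
  have := MulChar.star_apply' α a
  rw [MulChar.inv_apply'] at this
  exact this

theorem mulChar_mul_conj (α : MulChar F ℂ) (a : Fˣ) : α a * conj (α a) = 1 := by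
  rw [conj_mulChar, ← map_mul, mul_inv_cancel₀ a.ne_zero, map_one]

theorem sum_units_mulChar (χ : MulChar F ℂ) :
    ∑ a : Fˣ, χ a = if χ = 1 then (Fintype.card Fˣ : ℂ) else 0 := by
  have h1 : ∑ a : F, χ a = ∑ a : Fˣ, χ a := by
    rw [← Finset.sum_subset (Finset.subset_univ (Finset.univ.map ⟨fun a : Fˣ => (a : F), fun _ _ h => Units.ext h⟩))]
    · rw [Finset.sum_map]
      rfl
    · intro a _ ha
      apply MulChar.map_nonunit
      intro hu
      apply ha
      rw [Finset.mem_map]
      exact ⟨hu.unit, Finset.mem_univ _, rfl⟩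
  rw [← h1]
  split_ifs with h
  · rw [h, MulChar.sum_one_eq_card_units]
  · exact MulChar.sum_eq_zero_of_ne_one h

/-- The norm of the induced function. -/
theorem inner_indFun (α : MulChar F ℂ) :
    Cfsg.classInner (Cfsg.indFun (BSL F) (theta α)) (Cfsg.indFun (BSL F) (theta α)) =
      1 + (if α ^ 2 = 1 then 1 else 0) := by
  classical
  rw [Cfsg.Agent.Helper15.frobenius_reciprocity (BSL F) (theta α) _
    (Cfsg.Agent.Helper15.isClassFunction_indFun (BSL F) (theta α))]
  rw [Cfsg.Agent.Helper15.classInner_apply, ← Equiv.sum_comp (bEquiv (F := F)),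
    Fintype.sum_prod_type]
  have hterm : ∀ (a : Fˣ) (x : F),
      theta α (bEquiv (a, x)) * conj (Cfsg.indFun (BSL F) (theta α)
        ((bEquiv (a, x) : BSL F) : Matrix.SpecialLinearGroup (Fin 2) F)) =
      1 + ∑ c : F, if x = c * ((a⁻¹ : Fˣ) : F) - (a : F) * c then (α ^ 2) a else 0 := by
    intro a x
    rw [indFun_theta]
    unfold indVal
    have e : (bEquiv (a, x) : BSL F) = bElt (a, x) := rfl
    rw [e, bElt_00, bElt_01, bElt_10, bElt_11]
    simp only [if_true, zero_mul, zero_add]
    have ht : theta α (bElt (a, x)) = α a := rfl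
    rw [ht, map_add, mul_add, mulChar_mul_conj, map_sum, Finset.mul_sum]
    congr 1
    apply Finset.sum_congr rfl
    intro c _
    have hiff : ((a : F) * c + x - c * ((a⁻¹ : Fˣ) : F) = 0) ↔
        (x = c * ((a⁻¹ : Fˣ) : F) - (a : F) * c) := by
      constructor
      · intro h; linear_combination h
      · intro h; linear_combination h
    simp only [hiff]
    split_ifs with h
    · rw [conj_mulChar, Units.val_inv_eq_inv_val, inv_inv, MulChar.pow_apply_coe, sq]
    · simp
  simp only [hterm]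
  have hsum : ∀ a : Fˣ, ∑ x : F,
      (1 + ∑ c : F, if x = c * ((a⁻¹ : Fˣ) : F) - (a : F) * c then (α ^ 2) a else 0) =
      (Fintype.card F : ℂ) + (Fintype.card F : ℂ) * (α ^ 2) a := by
    intro a
    rw [Finset.sum_add_distrib, Finset.sum_comm]
    simp only [Finset.sum_ite_eq', Finset.mem_univ, if_true, Finset.sum_const, Finset.card_univ,
      nsmul_eq_mul, mul_one]
  simp only [hsum]
  rw [Finset.sum_add_distrib, ← Finset.mul_sum, sum_units_mulChar, card_BSL]
  simp only [Finset.sum_const, Finset.card_univ, nsmul_eq_mul]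
  have hq : (Fintype.card F : ℂ) ≠ 0 := by exact_mod_cast Fintype.card_ne_zero
  have hu : (Fintype.card Fˣ : ℂ) ≠ 0 := by exact_mod_cast Fintype.card_ne_zero
  push_cast
  split_ifs
  · field_simp
  · field_simp
    ring

end Inner

/-- Over a finite field F, for a multiplicative character α of F, the function induced to SL₂ from the linear character b ↦ α(b₁₁) of the upper triangular subgroup is an irreducible character if and only if α² ≠ 1. -/
theorem result {F : Type*} [Field F] [Fintype F] [DecidableEq F] (α : MulChar F ℂ) :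
    Cfsg.IsIrrCharacter (Matrix.SpecialLinearGroup (Fin 2) F) (Cfsg.indFun ((Cfsg.upperTriangularGL 2 F).comap Matrix.SpecialLinearGroup.toGL) (fun b => α (((b : Matrix.SpecialLinearGroup (Fin 2) F) : Matrix (Fin 2) (Fin 2) F) 0 0))) ↔ α ^ 2 ≠ 1 := by
  change Cfsg.IsIrrCharacter _ (Cfsg.indFun (BSL F) (theta α)) ↔ _
  have hchar : IsCharacter (Matrix.SpecialLinearGroup (Fin 2) F)
      (Cfsg.indFun (BSL F) (theta α)) :=
    Cfsg.Agent.Helper15.isCharacter_indFun (BSL F) (isCharacter_theta α)
  rw [Cfsg.Agent.Helper15.isIrrCharacter_iff_inner_self hchar, inner_indFun]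
  split_ifs with h
  · simp [h]
  · simp [h]

end Cfsg.Agent.S2306
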