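-- Statement S2437: the Borel subgroup of SL₂(q), q odd, has q + 3 conjugacy classes.
import Cfsg.Statements.S2437
import Cfsg.Agent.Helper41.BorelInd
import Cfsg.Agent.Helper41.Inverting

set_option autoImplicit false
open Cfsg

namespace Cfsg.Agent.S2437

open Matrix Cfsg.Agent.Helper39 Cfsg.Agent.Helper41

variable {F : Type*} [Field F]

/-- Commutation in the Borel subgroup in coordinates. -/
theorem borelElt_commute_iff (p p' : Fˣ × F) :
    (borelElt p * borelElt p' = borelElt p' * borelElt p) ↔
      p'.2 * ((p.1 : F) - ((p.1⁻¹ : Fˣ) : F)) = p.2 * ((p'.1 : F) - ((p'.1⁻¹ : Fˣ) : F)) := by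
  constructor
  · intro h
    have h1 := congrArg (fun b : BSL F =>
      ((b : Matrix.SpecialLinearGroup (Fin 2) F) : Matrix (Fin 2) (Fin 2) F) 0 1) h
    simp only [Subgroup.coe_mul, Matrix.SpecialLinearGroup.coe_mul, Matrix.mul_apply,
      Fin.sum_univ_two, borelElt_00, borelElt_01, borelElt_10, borelElt_11] at h1
    linear_combination h1
  · intro h
    apply Subtype.ext
    apply Matrix.SpecialLinearGroup.ext
    intro i j
    simp only [Subgroup.coe_mul, Matrix.SpecialLinearGroup.coe_mul, Matrix.mul_apply,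
      Fin.sum_univ_two]
    fin_cases i <;> fin_cases j
    · simp only [Fin.zero_eta, Fin.isValue, borelElt_00, borelElt_01, borelElt_10]; ring
    · simp only [Fin.zero_eta, Fin.isValue, Fin.mk_one, borelElt_00, borelElt_01, borelElt_11]
      linear_combination h
    · simp only [Fin.zero_eta, Fin.isValue, Fin.mk_one, borelElt_00, borelElt_10]; ring
    · simp only [Fin.zero_eta, Fin.isValue, Fin.mk_one, borelElt_01, borelElt_10, borelElt_11]; ring

/-- Number of solutions of a homogeneous linear equation in two unknowns. -/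
theorem card_linear_solutions [Fintype F] [DecidableEq F] (u v : F) :
    (∑ x : F, ∑ y : F, if y * u = x * v then 1 else 0) =
      if u = 0 ∧ v = 0 then Fintype.card F ^ 2 else Fintype.card F := by
  by_cases hu : u = 0
  · by_cases hv : v = 0
    · subst hu hv
      simp [pow_two]
    · subst hu
      rw [if_neg (fun h => hv h.2)]
      have : ∀ x y : F, (y * 0 = x * v) ↔ x = 0 := by
        intro x y
        rw [mul_zero, eq_comm, mul_eq_zero]
        constructor
        · rintro (h | h)
          · exact h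
          · exact absurd h hv
        · intro h; exact Or.inl h
      simp only [this]
      rw [Finset.sum_comm]
      simp
  · rw [if_neg (fun h => hu h.1)]
    have : ∀ x y : F, (y * u = x * v) ↔ y = x * v / u := by
      intro x y
      rw [eq_div_iff hu]
    simp only [this]
    simp

/-- Exactly two units `a` satisfy `a - a⁻¹ = 0`. -/
theorem card_units_sub_inv_eq_zero [Fintype F] [DecidableEq F] (h2 : (2 : F) ≠ 0) :
    (∑ a : Fˣ, if (a : F) - ((a⁻¹ : Fˣ) : F) = 0 then 1 else 0) = 2 := by
  have hiff : ∀ a : Fˣ, ((a : F) - ((a⁻¹ : Fˣ) : F) = 0) ↔ (a = 1 ∨ a = -1) := by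
    intro a
    constructor
    · intro h
      have h1 : (a : F) * (a : F) = 1 := by
        have : (a : F) = ((a⁻¹ : Fˣ) : F) := by linear_combination h
        nth_rewrite 2 [this]
        rw [← Units.val_mul, mul_inv_cancel, Units.val_one]
      have h3 : ((a : F) - 1) * ((a : F) + 1) = 0 := by linear_combination h1
      rcases mul_eq_zero.mp h3 with h | h
      · left
        apply Units.ext
        rw [Units.val_one]
        linear_combination h
      · right
        apply Units.ext
        rw [Units.val_neg, Units.val_one]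
        linear_combination h
    · rintro (rfl | rfl)
      · simp
      · simp
  simp only [hiff]
  have hne : (1 : Fˣ) ≠ -1 := by
    intro h
    have := congrArg Units.val h
    rw [Units.val_neg, Units.val_one] at this
    apply h2
    linear_combination this
  rw [← Finset.card_filter]
  have : Finset.univ.filter (fun a : Fˣ => a = 1 ∨ a = -1) = {1, -1} := by
    ext a
    simp
  rw [this, Finset.card_pair hne]

theorem main [Fintype F] [DecidableEq F] (h2 : (2 : F) ≠ 0) :
    Nat.card (ConjClasses (BSL F)) = Fintype.card F + 3 := by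
  have hfin : Finite (BSL F) := Finite.of_equiv _ (borelEquiv (F := F))
  have hkey := card_comm_eq_card_conjClasses_mul_card (BSL F)
  rw [card_BSL', Fintype.card_units] at hkey
  have hequiv : Nat.card {p : BSL F × BSL F // Commute p.1 p.2} =
      Nat.card {p : (Fˣ × F) × (Fˣ × F) //
        p.2.2 * ((p.1.1 : F) - ((p.1.1⁻¹ : Fˣ) : F)) = p.1.2 * ((p.2.1 : F) - ((p.2.1⁻¹ : Fˣ) : F))} := by
    symm
    apply Nat.card_congr
    refine Equiv.subtypeEquiv (Equiv.prodCongr (borelEquiv (F := F)) (borelEquiv (F := F))) ?_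
    rintro ⟨p, p'⟩
    exact (borelElt_commute_iff p p').symm
  rw [hequiv, Nat.card_eq_fintype_card, Fintype.card_subtype, Finset.card_filter,
    Fintype.sum_prod_type] at hkey
  simp only [Fintype.sum_prod_type] at hkey
  -- reorder sums
  have hre : (∑ a : Fˣ, ∑ x : F, ∑ c : Fˣ, ∑ y : F,
      if y * ((a : F) - ((a⁻¹ : Fˣ) : F)) = x * ((c : F) - ((c⁻¹ : Fˣ) : F)) then 1 else 0) =
      ∑ a : Fˣ, ∑ c : Fˣ, ∑ x : F, ∑ y : F,
      if y * ((a : F) - ((a⁻¹ : Fˣ) : F)) = x * ((c : F) - ((c⁻¹ : Fˣ) : F)) then 1 else 0 := by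
    apply Finset.sum_congr rfl
    intro a _
    rw [Finset.sum_comm]
  rw [hre] at hkey
  simp only [card_linear_solutions] at hkey
  set q := Fintype.card F with hq
  have hq1 : 1 < q := Fintype.one_lt_card
  have hsplit : ∀ a c : Fˣ, (if (a : F) - ((a⁻¹ : Fˣ) : F) = 0 ∧ (c : F) - ((c⁻¹ : Fˣ) : F) = 0
      then q ^ 2 else q) = q + (if (a : F) - ((a⁻¹ : Fˣ) : F) = 0 then 1 else 0) *
        (if (c : F) - ((c⁻¹ : Fˣ) : F) = 0 then 1 else 0) * (q ^ 2 - q) := by
    intro a c
    have : q + (q ^ 2 - q) = q ^ 2 := by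
      have : q ≤ q ^ 2 := by nlinarith
      omega
    by_cases ha : (a : F) - ((a⁻¹ : Fˣ) : F) = 0
    · by_cases hc : (c : F) - ((c⁻¹ : Fˣ) : F) = 0
      · rw [if_pos ⟨ha, hc⟩, if_pos ha, if_pos hc, one_mul, one_mul, this]
      · rw [if_neg (fun h => hc h.2), if_pos ha, if_neg hc, mul_zero, zero_mul, add_zero]
    · rw [if_neg (fun h => ha h.1), if_neg ha, zero_mul, zero_mul, add_zero]
  simp only [hsplit, Finset.sum_add_distrib, Finset.sum_const, Finset.card_univ, smul_eq_mul,
    Fintype.card_units, ← Finset.sum_mul, ← Finset.mul_sum, card_units_sub_inv_eq_zero h2] at hkey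
  rw [← hq] at hkey
  -- hkey : (q-1)*((q-1)*q) + 2*2*(q^2-q) = k * ((q-1)*q)
  obtain ⟨m, hm⟩ : ∃ m, q = m + 2 := ⟨q - 2, by omega⟩
  rw [hm] at hkey ⊢
  have e1 : m + 2 - 1 = m + 1 := by omega
  have e2 : (m + 2) ^ 2 - (m + 2) = (m + 1) * (m + 2) := by
    have : (m + 2) ^ 2 = (m + 1) * (m + 2) + (m + 2) := by ring
    omega
  rw [e1, e2] at hkey
  have : (m + 1) * (m + 2) * (m + 2 + 3) = (m + 1) * (m + 2) * Nat.card (ConjClasses (BSL F)) := by
    rw [mul_comm _ (Nat.card _), ← hkey]; ring
  exact (Nat.eq_of_mul_eq_mul_left (by positivity) this).symm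

/-- Over a finite field F with q elements, q odd, the upper triangular subgroup of SL₂ (a Borel subgroup, of order q(q − 1)) has exactly q + 3 conjugacy classes. -/
theorem result {F : Type*} [Field F] [Fintype F] (hodd : Odd (Fintype.card F)) :
    Nat.card (ConjClasses ((Cfsg.upperTriangularGL 2 F).comap Matrix.SpecialLinearGroup.toGL)) = Fintype.card F + 3 := by
  classical
  have hodd' : Fintype.card F % 2 = 1 := Nat.odd_iff.mp hodd
  have h2 : (2 : F) ≠ 0 := by
    intro h
    have hchar : ringChar F = 2 := by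
      have : ((2 : ℕ) : F) = 0 := by exact_mod_cast h
      have hdvd := (ringChar.spec F 2).mp this
      have hp := CharP.char_is_prime F (ringChar F)
      exact (Nat.prime_dvd_prime_iff_eq hp Nat.prime_two).mp hdvd
    have := FiniteField.even_card_of_char_two hchar
    omega
  exact main h2

end Cfsg.Agent.S2437
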