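-- Statement S0802: PSL_2(p^n) contains A_4 unless p = 2 and n is odd.
import Cfsg.Statements.S0802
import Cfsg.Agent.Helper41.PSL2Klein
import Cfsg.Agent.Helper41.KleinNormIso
import Cfsg.Agent.Helper41.SL2Char2A4

set_option autoImplicit false
open Cfsg

namespace Cfsg.Agent.S0802

open Cfsg.Agent.Helper41

/-- PSL_2(p^n) has a subgroup isomorphic to A_4 if and only if it is not the case that p = 2 and n is odd. -/
theorem result {F : Type*} [Field F] [Fintype F] (p n : ℕ) [Fact p.Prime] [CharP F p] (hF : Fintype.card F = p ^ n) : (∃ H : Subgroup (Matrix.ProjectiveSpecialLinearGroup (Fin 2) F), Nonempty (H ≃* alternatingGroup (Fin 4))) ↔ ¬ (p = 2 ∧ Odd n) := by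
  have hp : p.Prime := Fact.out
  constructor
  · rintro h ⟨rfl, hn⟩
    have h2 : (2 : F) = 0 := by
      have := CharP.cast_eq_zero F 2
      exact_mod_cast this
    obtain ⟨α, hα⟩ := exists_root_of_alternating h2 h
    exact no_root_of_odd h2 n hn hF α hα
  · intro h
    by_cases hp2 : p = 2
    · subst hp2
      have h2 : (2 : F) = 0 := by
        have := CharP.cast_eq_zero F 2
        exact_mod_cast this
      have hn : Even n := by
        rw [← Nat.not_odd_iff_even]
        intro hn
        exact h ⟨rfl, hn⟩
      obtain ⟨ζ, hζ⟩ := exists_root_of_even n hn hF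
      exact exists_alternating_of_root h2 ζ hζ
    · have hodd : Odd (Fintype.card F) := by
        rw [hF]
        exact (hp.odd_of_ne_two hp2).pow
      have h2 : (2 : F) ≠ 0 := Cfsg.Agent.Helper5.two_ne_zero_of_odd_card hodd
      obtain ⟨I, J, hIJ⟩ := exists_quatPair (F := F) (Nat.odd_iff.mp hodd)
      obtain ⟨w, hw⟩ := hIJ.exists_kleinData h2
      exact hw.exists_alternating

end Cfsg.Agent.S0802
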