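-- Statement S0803: PSL_2(q) contains S_4 iff q^2 = 1 mod 16.
import Cfsg.Statements.S0803
import Cfsg.Agent.Helper41.PSL2Klein
import Cfsg.Agent.Helper41.KleinNormIso
import Cfsg.Agent.Helper41.SL2Char2

set_option autoImplicit false
open Cfsg

namespace Cfsg.Agent.S0803

open Cfsg.Agent.Helper41

theorem mod_eight_of_sq_mod_sixteen (q : ℕ) (h : q ^ 2 % 16 = 1) : q % 8 = 1 ∨ q % 8 = 7 := by
  have h1 := Nat.pow_mod q 2 16
  rw [h] at h1
  have hr : q % 16 < 16 := Nat.mod_lt _ (by norm_num)
  have h8 : q % 8 = (q % 16) % 8 := by omega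
  rw [h8]
  generalize q % 16 = r at *
  interval_cases r <;> simp at h1 ⊢

theorem sq_mod_sixteen_of_mod_eight (q : ℕ) (h : q % 8 = 1 ∨ q % 8 = 7) : q ^ 2 % 16 = 1 := by
  have h16 : q % 16 = 1 ∨ q % 16 = 7 ∨ q % 16 = 9 ∨ q % 16 = 15 := by omega
  rcases h16 with h | h | h | h <;> simp [Nat.pow_mod, h]

theorem exists_perm_order_four : ∃ σ : Equiv.Perm (Fin 4), σ ^ 4 = 1 ∧ σ ^ 2 ≠ 1 :=
  ⟨finRotate 4, by decide, by decide⟩

/-- PSL_2(q) has a subgroup isomorphic to S_4 iff q² ≡ 1 (mod 16). -/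
theorem result {F : Type*} [Field F] [Fintype F] {q : ℕ} (hF : Fintype.card F = q) : (∃ H : Subgroup (Matrix.ProjectiveSpecialLinearGroup (Fin 2) F), Nonempty (H ≃* Equiv.Perm (Fin 4))) ↔ q ^ 2 % 16 = 1 := by
  subst hF
  constructor
  · rintro ⟨H, ⟨e⟩⟩
    rcases Nat.even_or_odd (Fintype.card F) with heven | hodd
    · -- characteristic two: no element of order four
      exfalso
      have h2 : (2 : F) = 0 := Cfsg.Agent.Helper5.two_eq_zero_of_even_card heven
      obtain ⟨σ, hσ4, hσ2⟩ := exists_perm_order_four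
      apply hσ2
      obtain ⟨X, hX⟩ := QuotientGroup.mk_surjective ((e.symm σ : H) :
        Matrix.ProjectiveSpecialLinearGroup (Fin 2) F)
      have hx4 : (e.symm σ) ^ 4 = 1 := by rw [← map_pow, hσ4, map_one]
      have hX4 : X ^ 4 = 1 := by
        apply mk_injective_of_two_eq_zero h2
        rw [QuotientGroup.mk_pow, hX, ← Subgroup.coe_pow, hx4, Subgroup.coe_one,
          QuotientGroup.mk_one]
      have hX2 := sl2_mul_self_eq_one_of_pow_four h2 X hX4
      have hx2 : (e.symm σ) ^ 2 = 1 := by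
        apply Subtype.ext
        rw [Subgroup.coe_pow, Subgroup.coe_one, ← hX, ← QuotientGroup.mk_pow, pow_two, hX2,
          QuotientGroup.mk_one]
      rw [← map_pow] at hx2
      have := congrArg e hx2
      rwa [MulEquiv.apply_symm_apply, map_one] at this
    · -- odd order: Lagrange
      apply sq_mod_sixteen_of_mod_eight
      have hcard : Nat.card H = 24 := by
        rw [Nat.card_congr e.toEquiv, Nat.card_perm, Nat.card_eq_fintype_card, Fintype.card_fin]
        rfl
      have hdvd := Subgroup.card_subgroup_dvd_card H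
      rw [hcard] at hdvd
      have h2card := two_mul_card_PSL2 (F := F) hodd
      have h16 : 16 ∣ Fintype.card F * (Fintype.card F ^ 2 - 1) := by
        rw [← h2card]
        obtain ⟨k, hk⟩ := hdvd
        rw [hk]
        exact ⟨3 * k, by ring⟩
      have hodd' := Nat.odd_iff.mp hodd
      by_contra hcon
      have h35 : Fintype.card F % 8 = 3 ∨ Fintype.card F % 8 = 5 := by omega
      exact Cfsg.Agent.S2431.not_sixteen_dvd_of_mod_eight_three_or_five _ h35 h16
  · intro hq
    have h8 := mod_eight_of_sq_mod_sixteen _ hq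
    have hodd : Odd (Fintype.card F) := by
      rw [Nat.odd_iff]; omega
    have h2 : (2 : F) ≠ 0 := Cfsg.Agent.Helper5.two_ne_zero_of_odd_card hodd
    obtain ⟨I, J, hIJ⟩ := exists_quatPair (F := F) (Nat.odd_iff.mp hodd)
    obtain ⟨w, hw⟩ := hIJ.exists_kleinData h2
    have hc := card_normalizer_of_isKleinFour_of_one_or_seven h8 hw.V hw.isKleinFour_V
    exact ⟨_, hw.normalizer_equiv_perm hc⟩

end Cfsg.Agent.S0803
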