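import Cfsg.Statements.S3444
import Cfsg.Agent.Helper57.SemidirectSpec

set_option autoImplicit false
open Cfsg

namespace Cfsg.Agent.S3444

open SemidirectProduct
open scoped commutatorElement

/-- A nontrivial solvable normal subgroup contains a nontrivial abelian subgroup normal in `G`. -/
theorem exists_abelian_normal {G : Type*} [Group G] [Finite G] :
    ∀ (n : ℕ) (K : Subgroup G), K.Normal → K ≠ ⊥ → Group.IsSolvable K → Nat.card K ≤ n →
      ∃ A : Subgroup G, A.Normal ∧ A ≠ ⊥ ∧ ∀ x ∈ A, ∀ y ∈ A, x * y = y * x := by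
  intro n
  induction n with
  | zero =>
    intro K _ _ _ hcard
    exact absurd hcard (by have := Nat.card_pos (α := K); omega)
  | succ n ih =>
    intro K hKn hK hs hcard
    by_cases hc : ⁅K, K⁆ = ⊥
    · refine ⟨K, hKn, hK, ?_⟩
      intro x hx y hy
      have : ⁅x, y⁆ ∈ ⁅K, K⁆ := Subgroup.commutator_mem_commutator hx hy
      rw [hc, Subgroup.mem_bot, commutatorElement_eq_one_iff_mul_comm] at this
      exact this
    · have hlt : ⁅K, K⁆ < K := by
        rw [← Subgroup.nontrivial_iff_ne_bot] at hK
        conv_rhs => rw [← K.range_subtype, MonoidHom.range_eq_map]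
        conv_lhs => rw [← K.range_subtype, MonoidHom.range_eq_map]
        rw [← Subgroup.map_commutator, Subgroup.map_subtype_lt_map_subtype]
        exact Group.IsSolvable.commutator_lt_top_of_nontrivial K
      have hnorm : (⁅K, K⁆ : Subgroup G).Normal := Subgroup.commutator_normal K K
      have hsol : Group.IsSolvable (⁅K, K⁆ : Subgroup G) :=
        Group.isSolvable_of_isSolvable_injective (f := Subgroup.inclusion hlt.le)
          (Subgroup.inclusion_injective hlt.le)
      have hcard' : Nat.card (⁅K, K⁆ : Subgroup G) ≤ n := by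
        by_contra hcon
        have hge : Nat.card K ≤ Nat.card (⁅K, K⁆ : Subgroup G) := by omega
        exact hlt.ne (Subgroup.eq_of_le_of_card_ge hlt.le hge)
      exact ih _ hnorm hc hsol hcard'

/-- A nontrivial abelian normal subgroup contains a nontrivial normal subgroup of prime exponent. -/
theorem exists_exponent_prime_normal {G : Type*} [Group G] [Finite G] (A : Subgroup G)
    (hAn : A.Normal) (hA : A ≠ ⊥) (hcomm : ∀ x ∈ A, ∀ y ∈ A, x * y = y * x) :
    ∃ (p : ℕ) (V : Subgroup G), p.Prime ∧ V.Normal ∧ V ≠ ⊥ ∧ ∀ x : V, x ^ p = 1 := by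
  have hcard : 1 < Nat.card A := (Subgroup.one_lt_card_iff_ne_bot A).2 hA
  obtain ⟨p, hp, hpd⟩ := Nat.exists_prime_and_dvd (Nat.ne_of_gt hcard)
  let V : Subgroup G :=
    { carrier := {x | x ∈ A ∧ x ^ p = 1}
      mul_mem' := by
        rintro x y ⟨hx, hxp⟩ ⟨hy, hyp⟩
        refine ⟨A.mul_mem hx hy, ?_⟩
        have hc : Commute x y := hcomm x hx y hy
        rw [hc.mul_pow, hxp, hyp, one_mul]
      one_mem' := ⟨A.one_mem, one_pow p⟩
      inv_mem' := by
        rintro x ⟨hx, hxp⟩
        exact ⟨A.inv_mem hx, by rw [inv_pow, hxp, inv_one]⟩ }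
  refine ⟨p, V, hp, ?_, ?_, ?_⟩
  · constructor
    rintro x ⟨hx, hxp⟩ g
    refine ⟨hAn.conj_mem x hx g, ?_⟩
    rw [conj_pow, hxp, mul_one, mul_inv_cancel]
  · haveI : Fact p.Prime := ⟨hp⟩
    obtain ⟨x, hx⟩ := exists_prime_orderOf_dvd_card' (G := A) p hpd
    intro hV
    have hmem : (x : G) ∈ V := by
      refine ⟨x.2, ?_⟩
      have : x ^ p = 1 := by rw [← hx]; exact pow_orderOf_eq_one x
      simpa [Subtype.ext_iff] using this
    rw [hV, Subgroup.mem_bot] at hmem
    have hx1 : x = 1 := Subtype.ext hmem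
    rw [hx1, orderOf_one] at hx
    exact hp.one_lt.ne hx
  · rintro ⟨x, hx, hxp⟩
    apply Subtype.ext
    simpa using hxp

/-- The iteration: arbitrarily large groups with the same spectrum, in the same universe. -/
theorem exists_large_same_universe.{u} (p : ℕ) (hp : p.Prime) :
    ∀ (n : ℕ) (G : Type u) [Group G] [Finite G] (V : Subgroup G) [V.Normal], V ≠ ⊥ →
      (∀ x : V, x ^ p = 1) →
      ∃ (H : Type u) (_ : Group H) (_ : Finite H), Nat.card G + n ≤ Nat.card H ∧
        Set.range (orderOf : H → ℕ) = Set.range (orderOf : G → ℕ) := by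
  intro n
  induction n with
  | zero =>
    intro G _ _ V _ _ _
    exact ⟨G, inferInstance, inferInstance, le_rfl, rfl⟩
  | succ n ih =>
    intro G _ _ V _ hV hexp
    -- the next group
    let G' := V ⋊[MulAut.conjNormal] G
    haveI : Finite G' := Finite.of_equiv _ (SemidirectProduct.equivProd (φ := (MulAut.conjNormal : G →* MulAut V))).symm
    let V' : Subgroup G' := (inl : V →* G').range
    haveI hV'n : V'.Normal := by
      show ((inl : V →* G').range).Normal
      rw [range_inl_eq_ker_rightHom]
      infer_instance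
    have hV' : V' ≠ ⊥ := by
      intro h
      apply hV
      rw [Subgroup.eq_bot_iff_forall]
      intro x hx
      have hmem : (inl ⟨x, hx⟩ : G') ∈ V' := ⟨⟨x, hx⟩, rfl⟩
      rw [h, Subgroup.mem_bot] at hmem
      have : (⟨x, hx⟩ : V) = 1 := inl_injective (by rw [hmem, map_one])
      simpa [Subtype.ext_iff] using this
    have hexp' : ∀ x : V', x ^ p = 1 := by
      rintro ⟨x, v, rfl⟩
      apply Subtype.ext
      show (inl v : G') ^ p = 1
      rw [← map_pow, hexp v, map_one]
    obtain ⟨H, hH1, hH2, hcard, hspec⟩ := ih G' V' hV' hexp'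
    refine ⟨H, hH1, hH2, ?_, ?_⟩
    · have h1 : Nat.card G' = Nat.card V * Nat.card G := SemidirectProduct.card
      have h2 : 1 < Nat.card V := (Subgroup.one_lt_card_iff_ne_bot V).2 hV
      have h3 : 0 < Nat.card G := Nat.card_pos
      have h4 : 2 * Nat.card G ≤ Nat.card V * Nat.card G := Nat.mul_le_mul_right _ h2
      omega
    · rw [hspec]
      exact Cfsg.Agent.Helper57.semidirect_conj_spectrum V p hp hexp

/-- Copy of a finite group in `Type`. -/
theorem exists_type0_copy (H : Type*) [Group H] [Finite H] :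
    ∃ (H' : Type) (_ : Group H') (_ : Fintype H'), Fintype.card H' = Nat.card H ∧
      Set.range (orderOf : H' → ℕ) = Set.range (orderOf : H → ℕ) := by
  haveI : Finite (Shrink.{0} H) := Finite.of_equiv H (equivShrink.{0} H)
  let f : Shrink.{0} H ≃* H := Shrink.mulEquiv
  letI : Fintype (Shrink.{0} H) := Fintype.ofFinite _
  refine ⟨Shrink.{0} H, inferInstance, inferInstance, ?_, ?_⟩
  · rw [← Nat.card_eq_fintype_card]
    exact Nat.card_congr f.toEquiv
  · ext n
    constructor
    · rintro ⟨x, rfl⟩
      exact ⟨f x, f.orderOf_eq x⟩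
    · rintro ⟨y, rfl⟩
      exact ⟨f.symm y, by rw [← f.orderOf_eq, f.apply_symm_apply]⟩

/-- A finite group with a non-trivial solvable normal subgroup is not determined by its set of element orders, not even up to finitely many possibilities: for every bound N there is a finite group of order greater than N with exactly the same set of element orders. -/
theorem result {G : Type*} [Group G] [Finite G] (K : Subgroup G) [K.Normal] (hK : K ≠ ⊥)
    (hs : Group.IsSolvable K) (N : ℕ) :
    ∃ (H : Type) (_ : Group H) (_ : Fintype H), N < Fintype.card H ∧ Set.range (orderOf : H → ℕ) = Set.range (orderOf : G → ℕ) := by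
  obtain ⟨A, hAn, hA, hcomm⟩ := exists_abelian_normal (Nat.card K) K inferInstance hK hs le_rfl
  obtain ⟨p, V, hp, hVn, hV, hexp⟩ := exists_exponent_prime_normal A hAn hA hcomm
  haveI := hVn
  obtain ⟨H, hH1, hH2, hcard, hspec⟩ := exists_large_same_universe p hp (N + 1) G V hV hexp
  obtain ⟨H', hG', hF', hcard', hspec'⟩ := exists_type0_copy H
  refine ⟨H', hG', hF', ?_, ?_⟩
  · rw [hcard']; omega
  · rw [hspec', hspec]

end Cfsg.Agent.S3444
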