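import Cfsg.Statements.S2307
import Cfsg.Agent.Helper39.SL2Restrict

set_option autoImplicit false
open Cfsg

namespace Cfsg.Agent.S2307

open Cfsg.Agent.Helper39 in
/-- Over a finite field F with q elements, q odd, let α be the multiplicative character of F of order 2. The character of SL₂ induced from the linear character b ↦ α(b₁₁) of the upper triangular subgroup is the sum of two distinct irreducible characters, each of degree (q + 1)/2, which are conjugate under GL₂: some fixed element of GL₂ conjugates the one into the other. -/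
theorem result {F : Type*} [Field F] [Fintype F] [DecidableEq F] (hodd : Odd (Fintype.card F)) (α : MulChar F ℂ)
    (hα : α ^ 2 = 1) (hα1 : α ≠ 1) :
    ∃ χ₁ χ₂ : Matrix.SpecialLinearGroup (Fin 2) F → ℂ, Cfsg.IsIrrCharacter (Matrix.SpecialLinearGroup (Fin 2) F) χ₁ ∧ Cfsg.IsIrrCharacter (Matrix.SpecialLinearGroup (Fin 2) F) χ₂ ∧ χ₁ ≠ χ₂ ∧
      Cfsg.indFun ((Cfsg.upperTriangularGL 2 F).comap Matrix.SpecialLinearGroup.toGL) (fun b => α (((b : Matrix.SpecialLinearGroup (Fin 2) F) : Matrix (Fin 2) (Fin 2) F) 0 0)) = χ₁ + χ₂ ∧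
      χ₁ 1 = (((Fintype.card F + 1) / 2 : ℕ) : ℂ) ∧ χ₂ 1 = (((Fintype.card F + 1) / 2 : ℕ) : ℂ) ∧
      ∃ x : Matrix.GeneralLinearGroup (Fin 2) F, ∀ g h : Matrix.SpecialLinearGroup (Fin 2) F,
        Matrix.SpecialLinearGroup.toGL h = x * Matrix.SpecialLinearGroup.toGL g * x⁻¹ → χ₂ h = χ₁ g := by
  classical
  change ∃ χ₁ χ₂ : Matrix.SpecialLinearGroup (Fin 2) F → ℂ, _ ∧ _ ∧ _ ∧
    Cfsg.indFun (BSL F) (Cfsg.Agent.S2306.theta α) = χ₁ + χ₂ ∧ _
  set Φ := Cfsg.indFun (BSL F) (Cfsg.Agent.S2306.theta α) with hΦdef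
  have hΦ : Φ = fun s => piFun α 1 (Matrix.SpecialLinearGroup.toGL s) := by
    rw [piFun_toGL_eq_indFun]
    simp [hΦdef]
  have hψ : IsIrrCharacter (Matrix.GeneralLinearGroup (Fin 2) F) (piFun α 1) :=
    isIrrCharacter_piFun α 1 hα1
  have hΦchar : IsCharacter (Matrix.SpecialLinearGroup (Fin 2) F) Φ :=
    Cfsg.Agent.Helper15.isCharacter_indFun (BSL F) (Cfsg.Agent.S2306.isCharacter_theta α)
  have hΦone : Φ 1 = (Fintype.card F : ℂ) + 1 := by
    rw [hΦ]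
    simp only [map_one]
    exact piFun_one α 1
  have hΦ1 : Φ 1 ≠ 0 := by
    rw [hΦone]
    have : ((Fintype.card F + 1 : ℕ) : ℂ) ≠ 0 := Nat.cast_ne_zero.mpr (Nat.succ_ne_zero _)
    simpa using this
  obtain ⟨χ, hχ⟩ := Cfsg.Agent.Helper81.exists_irr_constituent hΦchar hΦ1
  obtain ⟨e, S, he, hχS, hS, hsum⟩ := sl2_clifford_of (piFun α 1) hψ χ.1 χ.2 (by rwa [← hΦ])
  have hΦsum : Φ = fun s => (e : ℂ) * ∑ φ ∈ S, φ s := by
    rw [hΦ]
    funext s
    exact hsum s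
  have hnorm : classInner Φ Φ = 2 := by
    rw [hΦdef, Cfsg.Agent.S2306.inner_indFun, if_pos hα]
    norm_num
  have hnorm' : ((e * e * S.card : ℕ) : ℂ) = ((2 : ℕ) : ℂ) := by
    rw [← inner_smul_sum_irr e S (fun φ hφ => (hS φ hφ).1), ← hΦsum, hnorm]
    norm_num
  have hcard : e * e * S.card = 2 := by exact_mod_cast hnorm'
  have he1 : e = 1 := by
    rcases e with _ | _ | e
    · omega
    · rfl
    · exfalso
      have h4 : (e + 1 + 1) * (e + 1 + 1) * S.card = (e * e + 4 * e + 4) * S.card := by ring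
      have hpos : 0 < S.card := Finset.card_pos.mpr ⟨_, hχS⟩
      rw [h4] at hcard
      have : 4 * S.card ≤ (e * e + 4 * e + 4) * S.card := Nat.mul_le_mul_right _ (by omega)
      omega
  have hS2 : S.card = 2 := by rw [he1] at hcard; simpa using hcard
  obtain ⟨χ₂, hχ₂S, hχ₂ne, hSeq⟩ : ∃ χ₂, χ₂ ∈ S ∧ χ.1 ≠ χ₂ ∧ S = {χ.1, χ₂} := by
    obtain ⟨a, b, hab, hSab⟩ := Finset.card_eq_two.mp hS2
    rw [hSab] at hχS ⊢
    rcases Finset.mem_insert.mp hχS with h | h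
    · refine ⟨b, by simp, by rw [h]; exact hab, by rw [h]⟩
    · rw [Finset.mem_singleton] at h
      refine ⟨a, by simp, by rw [h]; exact hab.symm, ?_⟩
      rw [h]
      exact Finset.pair_comm a b
  obtain ⟨hχ₂irr, x, hx⟩ := hS χ₂ hχ₂S
  have hsplit : Φ = χ.1 + χ₂ := by
    rw [hΦsum, he1, hSeq]
    funext s
    rw [Finset.sum_pair hχ₂ne]
    simp
  have hdeg_eq : χ₂ 1 = χ.1 1 := by
    apply hx 1 1
    simp
  have hsum1 : (Fintype.card F : ℂ) + 1 = χ.1 1 + χ₂ 1 := by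
    rw [← hΦone, hsplit]
    rfl
  have hhalf : (Fintype.card F : ℂ) + 1 = 2 * (((Fintype.card F + 1) / 2 : ℕ) : ℂ) := by
    obtain ⟨k, hk⟩ := hodd
    have : Fintype.card F + 1 = 2 * ((Fintype.card F + 1) / 2) := by omega
    have h2 : ((Fintype.card F + 1 : ℕ) : ℂ) = ((2 * ((Fintype.card F + 1) / 2) : ℕ) : ℂ) := by
      rw [← this]
    push_cast at h2
    exact h2
  have hd1 : χ.1 1 = (((Fintype.card F + 1) / 2 : ℕ) : ℂ) := by
    rw [hdeg_eq, hhalf] at hsum1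
    have h2 : (2 : ℂ) ≠ 0 := two_ne_zero
    apply mul_left_cancel₀ h2
    rw [hsum1]
    ring
  refine ⟨χ.1, χ₂, χ.2, hχ₂irr, hχ₂ne, hsplit, hd1, by rw [hdeg_eq, hd1], x⁻¹, ?_⟩
  intro g h hgh
  apply hx h g
  rw [hgh, inv_inv]
  group

end Cfsg.Agent.S2307
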