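import Mathlib
import Cfsg.Statements.S2403
import Cfsg.Agent.Helper5.SLn

set_option autoImplicit false
open Cfsg

namespace Cfsg.Agent.S2403

open Matrix

variable {K : Type*} [Field K] {n : ℕ}

/-- the monomial matrix -/
def wMat (K : Type*) [Field K] (n : ℕ) : Matrix (Fin (n + 1)) (Fin (n + 1)) K :=
  Matrix.of (fun i j => if j.val = i.val + 1 then 1 else if i.val = n ∧ j.val = 0 then (-1) ^ n else 0)

theorem wMat_mul_single (p q : Fin (n + 1)) (s : K) (k l : Fin (n + 1)) :
    (wMat K n * Matrix.single p q s) k l = if l = q then wMat K n k p * s else 0 := by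
  by_cases h : l = q
  · subst h
    rw [if_pos rfl, Matrix.mul_single_apply_same]
  · rw [if_neg h, Matrix.mul_single_apply_of_ne _ _ _ _ _ h]

theorem single_mul_wMat (i j : Fin (n + 1)) (t : K) (k l : Fin (n + 1)) :
    (Matrix.single i j t * wMat K n) k l = if k = i then t * wMat K n j l else 0 := by
  by_cases h : k = i
  · subst h
    rw [if_pos rfl, Matrix.single_mul_apply_same]
  · rw [if_neg h, Matrix.single_mul_apply_of_ne _ _ _ _ _ h]

/-- non-wrapping shift -/
theorem shift_identity (a b : ℕ) (ha : a < n) (hb : b < n) (t : K) :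
    wMat K n * Matrix.transvection (⟨a + 1, by omega⟩ : Fin (n + 1)) ⟨b + 1, by omega⟩ t =
      Matrix.transvection (⟨a, by omega⟩ : Fin (n + 1)) ⟨b, by omega⟩ t * wMat K n := by
  unfold Matrix.transvection
  rw [Matrix.mul_add, Matrix.add_mul, Matrix.mul_one, Matrix.one_mul]
  congr 1
  ext k l
  rw [wMat_mul_single, single_mul_wMat]
  simp only [wMat, Matrix.of_apply, Fin.ext_iff]
  have hk := k.isLt
  have hl := l.isLt
  by_cases h1 : l.val = b + 1 <;> by_cases h2 : k.val = a
  · rw [if_pos h1, if_pos h2, if_pos (by omega), if_pos (by omega)]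
    simp
  · rw [if_pos h1, if_neg h2, if_neg (by omega), if_neg (by omega)]
    simp
  · rw [if_neg h1, if_pos h2, if_neg (by omega), if_neg (by omega)]
    simp
  · rw [if_neg h1, if_neg h2]

/-- wrapping shift -/
theorem wrap_identity (hn : 1 ≤ n) (t : K) :
    wMat K n * Matrix.transvection (⟨n, by omega⟩ : Fin (n + 1)) ⟨0, by omega⟩ ((-1) ^ n * t) =
      Matrix.transvection (⟨n - 1, by omega⟩ : Fin (n + 1)) ⟨n, by omega⟩ t * wMat K n := by
  unfold Matrix.transvection
  rw [Matrix.mul_add, Matrix.add_mul, Matrix.mul_one, Matrix.one_mul]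
  congr 1
  ext k l
  rw [wMat_mul_single, single_mul_wMat]
  simp only [wMat, Matrix.of_apply, Fin.ext_iff]
  have hk := k.isLt
  have hl := l.isLt
  by_cases h1 : l.val = 0 <;> by_cases h2 : k.val = n - 1
  · rw [if_pos h1, if_pos h2, if_pos (by omega), if_neg (by omega), if_pos ⟨trivial, h1⟩]
    ring
  · rw [if_pos h1, if_neg h2, if_neg (by omega), if_neg (by omega)]
    simp
  · rw [if_neg h1, if_pos h2, if_neg (by omega), if_neg (by omega)]
    simp
  · rw [if_neg h1, if_neg h2]

theorem small_field [Fintype K] (hK : Fintype.card K ≤ 3) (t : K) : t = 0 ∨ t = 1 ∨ t = -1 := by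
  by_cases h0 : t = 0
  · exact Or.inl h0
  · right
    have h1 := FiniteField.pow_card_sub_one_eq_one t h0
    have h2 : 2 ≤ Fintype.card K := Fintype.one_lt_card
    have h3 : Fintype.card K = 2 ∨ Fintype.card K = 3 := by omega
    rcases h3 with h3 | h3
    · rw [h3] at h1
      left; simpa using h1
    · rw [h3] at h1
      have : (t - 1) * (t + 1) = 0 := by ring_nf; ring_nf at h1; rw [h1]; ring
      rcases mul_eq_zero.1 this with h | h
      · left; exact sub_eq_zero.1 h
      · right; exact eq_neg_of_add_eq_zero_left h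

section main
variable [Fintype K]

open scoped commutatorElement

theorem gen_top (hK : Fintype.card K ≤ 3) (hn : 1 ≤ n)
    (x w : Matrix.SpecialLinearGroup (Fin (n + 1)) K)
    (hx : (x : Matrix (Fin (n + 1)) (Fin (n + 1)) K) = Matrix.transvection (0 : Fin (n + 1)) (1 : Fin (n + 1)) 1)
    (hw : (w : Matrix (Fin (n + 1)) (Fin (n + 1)) K) = wMat K n) :
    Subgroup.closure ({x, w} : Set (Matrix.SpecialLinearGroup (Fin (n + 1)) K)) = ⊤ := by
  set H := Subgroup.closure ({x, w} : Set (Matrix.SpecialLinearGroup (Fin (n + 1)) K)) with hH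
  have hxH : x ∈ H := Subgroup.subset_closure (by simp)
  have hwH : w ∈ H := Subgroup.subset_closure (by simp)
  -- Q a b
  let Q : ℕ → ℕ → Prop := fun a b => ∀ (ha : a < n + 1) (hb : b < n + 1) (hab : (⟨a, ha⟩ : Fin (n + 1)) ≠ ⟨b, hb⟩) (t : K),
    Matrix.SpecialLinearGroup.transvection hab t ∈ H
  have hQ01 : Q 0 1 := by
    intro ha hb hab t
    have e1 : Matrix.SpecialLinearGroup.transvection hab (1 : K) = x := by
      apply Subtype.ext
      rw [hx, Matrix.SpecialLinearGroup.transvection_coe]
      have e0 : (⟨0, ha⟩ : Fin (n + 1)) = 0 := rfl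
      have e1 : (⟨1, hb⟩ : Fin (n + 1)) = 1 := by
        apply Fin.ext
        rw [Fin.val_one', Nat.mod_eq_of_lt hb]
      rw [e0, e1]
      rfl
    rcases small_field hK t with h | h | h
    · rw [h]
      have : Matrix.SpecialLinearGroup.transvection hab (0 : K) = 1 := by
        apply Subtype.ext
        simp
      rw [this]; exact one_mem _
    · rw [h, e1]; exact hxH
    · rw [h, ← Matrix.SpecialLinearGroup.transvection_inv, e1]; exact inv_mem hxH
  -- conjugation by w
  have hshift : ∀ a b, a < n → b < n → (Q a b ↔ Q (a + 1) (b + 1)) := by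
    intro a b ha hb
    have key : ∀ (hab : (⟨a, by omega⟩ : Fin (n + 1)) ≠ ⟨b, by omega⟩)
        (hab' : (⟨a + 1, by omega⟩ : Fin (n + 1)) ≠ ⟨b + 1, by omega⟩) (t : K),
        w * Matrix.SpecialLinearGroup.transvection hab' t =
          Matrix.SpecialLinearGroup.transvection hab t * w := by
      intro hab hab' t
      apply Subtype.ext
      rw [Matrix.SpecialLinearGroup.coe_mul, Matrix.SpecialLinearGroup.coe_mul,
        Matrix.SpecialLinearGroup.transvection_coe, Matrix.SpecialLinearGroup.transvection_coe, hw]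
      exact shift_identity a b ha hb t
    constructor
    · intro h ha' hb' hab' t
      have hab : (⟨a, by omega⟩ : Fin (n + 1)) ≠ ⟨b, by omega⟩ := by
        intro h'; apply hab'; simp only [Fin.mk.injEq] at h' ⊢; omega
      have := key hab hab' t
      have e : Matrix.SpecialLinearGroup.transvection hab' t =
          w⁻¹ * Matrix.SpecialLinearGroup.transvection hab t * w := by
        rw [mul_assoc, ← this, inv_mul_cancel_left]
      rw [e]
      exact mul_mem (mul_mem (inv_mem hwH) (h _ _ hab t)) hwH
    · intro h ha' hb' hab t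
      have hab' : (⟨a + 1, by omega⟩ : Fin (n + 1)) ≠ ⟨b + 1, by omega⟩ := by
        intro h'; apply hab; simp only [Fin.mk.injEq] at h' ⊢; omega
      have := key hab hab' t
      have e : Matrix.SpecialLinearGroup.transvection hab t =
          w * Matrix.SpecialLinearGroup.transvection hab' t * w⁻¹ := by
        rw [this, mul_inv_cancel_right]
      rw [e]
      exact mul_mem (mul_mem hwH (h _ _ hab' t)) (inv_mem hwH)
  -- superdiagonal
  have hsup : ∀ a, a < n → Q a (a + 1) := by
    intro a
    induction a with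
    | zero => intro _; exact hQ01
    | succ a ih =>
      intro ha
      exact (hshift a (a + 1) (by omega) (by omega)).1 (ih (by omega))
  -- commutator step
  have hcomm : ∀ a b c, c < n + 1 → a ≠ b → a ≠ c → c ≠ b → Q a c → Q c b → Q a b := by
    intro a b c hc hab hac hcb h1 h2 ha hb hab' t
    have hac' : (⟨a, ha⟩ : Fin (n + 1)) ≠ ⟨c, hc⟩ := by
      intro h'; apply hac; simpa using h'
    have hcb' : (⟨c, hc⟩ : Fin (n + 1)) ≠ ⟨b, hb⟩ := by
      intro h'; apply hcb; simpa using h'
    rw [← Cfsg.Agent.Helper5.commutator_transvection hab' hac' hcb' t, commutatorElement_def]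
    have g1 := h1 ha hc hac' t
    have g2 := h2 hc hb hcb' 1
    exact mul_mem (mul_mem (mul_mem g1 g2) (inv_mem g1)) (inv_mem g2)
  -- upper triangle
  have hupper : ∀ d a, a + d + 1 < n + 1 → Q a (a + d + 1) := by
    intro d
    induction d with
    | zero => intro a ha; exact hsup a (by omega)
    | succ d ih =>
      intro a ha
      have h1 := ih a (by omega)
      have h2 := hsup (a + d + 1) (by omega)
      have := hcomm a (a + (d + 1) + 1) (a + d + 1) (by omega) (by omega) (by omega) (by omega) h1 h2
      exact this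
  have hupper' : ∀ a b, a < b → b < n + 1 → Q a b := by
    intro a b hab hb
    obtain ⟨d, rfl⟩ : ∃ d, b = a + d + 1 := ⟨b - a - 1, by omega⟩
    exact hupper d a hb
  -- wrap
  have hwrap : Q n 0 := by
    intro ha hb hab t
    have hab2 : (⟨n - 1, by omega⟩ : Fin (n + 1)) ≠ ⟨n, by omega⟩ := by
      intro h'; simp only [Fin.mk.injEq] at h'; omega
    have key : w * Matrix.SpecialLinearGroup.transvection hab ((-1) ^ n * ((-1) ^ n * t)) =
          Matrix.SpecialLinearGroup.transvection hab2 ((-1) ^ n * t) * w := by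
      apply Subtype.ext
      rw [Matrix.SpecialLinearGroup.coe_mul, Matrix.SpecialLinearGroup.coe_mul,
        Matrix.SpecialLinearGroup.transvection_coe, Matrix.SpecialLinearGroup.transvection_coe, hw]
      exact wrap_identity hn _
    have e0 : ((-1 : K) ^ n * ((-1) ^ n * t)) = t := by
      rw [← mul_assoc, ← pow_add, ← two_mul, pow_mul]; simp
    rw [e0] at key
    have e : Matrix.SpecialLinearGroup.transvection hab t =
        w⁻¹ * Matrix.SpecialLinearGroup.transvection hab2 ((-1) ^ n * t) * w := by
      rw [mul_assoc, ← key, inv_mul_cancel_left]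
    rw [e]
    exact mul_mem (mul_mem (inv_mem hwH) (hupper' (n - 1) n (by omega) (by omega) _ _ hab2 _)) hwH
  -- first column
  have hcol : ∀ a, 0 < a → a < n + 1 → Q a 0 := by
    intro a ha0 ha
    by_cases han : a = n
    · rw [han]; exact hwrap
    · exact hcomm a 0 n (by omega) (by omega) han (by omega) (hupper' a n (by omega) (by omega)) hwrap
  -- lower triangle
  have hlower : ∀ a b, b < a → a < n + 1 → Q a b := by
    intro a b hba ha
    by_cases hb0 : b = 0
    · rw [hb0]; exact hcol a (by omega) ha
    · exact hcomm a b 0 (by omega) (by omega) (by omega) (by omega) (hcol a (by omega) ha)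
        (hupper' 0 b (by omega) (by omega))
  -- all transvections
  have hall : ∀ (i j : Fin (n + 1)) (hij : i ≠ j) (t : K),
      Matrix.SpecialLinearGroup.transvection hij t ∈ H := by
    intro i j hij t
    have hne : i.val ≠ j.val := fun h => hij (Fin.ext h)
    rcases lt_or_gt_of_ne hne with h | h
    · exact hupper' i.val j.val h j.isLt i.isLt j.isLt hij t
    · exact hlower i.val j.val h i.isLt i.isLt j.isLt hij t
  have : Nontrivial (Fin (n + 1)) := Fin.nontrivial_iff_two_le.2 (by omega)
  rw [eq_top_iff, ← Cfsg.Agent.Helper5.closure_transvection_eq_top, Subgroup.closure_le]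
  rintro M ⟨i, j, hij, a, rfl⟩
  exact hall i j hij a

end main

/-- Explicit two-element generation of `PSL_{n+1}(K)` over the fields with two or three elements: with `x = 1 + E₁₂` and `w` the monomial matrix with entries `1` in positions `(i, i+1)` and `(−1)^n` in position `(n+1, 1)`, the elements `x` and `w` generate `SL_{n+1}(K)` modulo its centre. -/
theorem result {K : Type*} [Field K] [Fintype K] (hK : Fintype.card K ≤ 3) (n : ℕ) (hn : 1 ≤ n)
    (x w : Matrix.SpecialLinearGroup (Fin (n + 1)) K)
    (hx : (x : Matrix (Fin (n + 1)) (Fin (n + 1)) K) = Matrix.transvection (0 : Fin (n + 1)) (1 : Fin (n + 1)) 1)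
    (hw : (w : Matrix (Fin (n + 1)) (Fin (n + 1)) K) =
      Matrix.of (fun i j => if j.val = i.val + 1 then 1 else if i.val = n ∧ j.val = 0 then (-1) ^ n else 0)) :
    Subgroup.closure ({x, w} : Set (Matrix.SpecialLinearGroup (Fin (n + 1)) K)) ⊔
      Subgroup.center (Matrix.SpecialLinearGroup (Fin (n + 1)) K) = ⊤ := by
  rw [gen_top hK hn x w hx hw, top_sup_eq]

end Cfsg.Agent.S2403
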