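import Mathlib
import Cfsg.Statements.S2402
import Cfsg.Agent.Helper40.SLGen

set_option autoImplicit false
open Cfsg

namespace Cfsg.Agent.S2402

open Matrix Cfsg.Agent.S2403 Cfsg.Agent.Helper40

variable {K : Type*} [Field K] {n : ℕ}

theorem diag_mul_transvection {m : Type*} [Fintype m] [DecidableEq m] (d : m → K) (i j : m) (t t' : K)
    (h : d i * t = t' * d j) :
    Matrix.diagonal d * Matrix.transvection i j t = Matrix.transvection i j t' * Matrix.diagonal d := by
  unfold Matrix.transvection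
  rw [Matrix.mul_add, Matrix.add_mul, Matrix.mul_one, Matrix.one_mul]
  congr 1
  ext a b
  rw [Matrix.diagonal_mul, Matrix.mul_diagonal]
  by_cases ha : a = i <;> by_cases hb : b = j
  · subst ha; subst hb; simp [h]
  · simp [ha, Ne.symm hb]
  · simp [hb, Ne.symm ha]
  · simp [Ne.symm ha]

/-- shifted diagonal -/
def shiftIdx (n : ℕ) (i : Fin (n + 1)) : Fin (n + 1) :=
  if h : i.val = n then ⟨0, by omega⟩ else ⟨i.val + 1, by omega⟩

theorem wMat_mul_diagonal (d : Fin (n + 1) → K) :
    wMat K n * Matrix.diagonal d = Matrix.diagonal (fun i => d (shiftIdx n i)) * wMat K n := by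
  ext i j
  rw [Matrix.diagonal_mul, Matrix.mul_diagonal]
  simp only [wMat, Matrix.of_apply]
  have hi := i.isLt
  have hj := j.isLt
  by_cases h1 : j.val = i.val + 1
  · rw [if_pos h1]
    have : shiftIdx n i = j := by
      unfold shiftIdx
      rw [dif_neg (by omega)]
      exact Fin.ext h1.symm
    rw [this, one_mul, mul_one]
  · rw [if_neg h1]
    by_cases h2 : i.val = n ∧ j.val = 0
    · rw [if_pos h2]
      have : shiftIdx n i = j := by
        unfold shiftIdx
        rw [dif_pos h2.1]
        exact Fin.ext h2.2.symm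
      rw [this, mul_comm]
    · rw [if_neg h2, zero_mul, mul_zero]

theorem exists_sq_add_sq [Fintype K] (t : K) : ∃ a b : K, a ^ 2 + b ^ 2 = t := by
  rcases Nat.even_or_odd (Fintype.card K) with hev | hodd
  · have h2 : ringChar K = 2 := FiniteField.even_card_iff_char_two.2 (Nat.even_iff.1 hev)
    obtain ⟨a, ha⟩ := FiniteField.isSquare_of_char_two h2 t
    exact ⟨a, 0, by rw [ha]; ring⟩
  · let f : Polynomial K := Polynomial.X ^ 2
    let g : Polynomial K := Polynomial.X ^ 2 - Polynomial.C t
    obtain ⟨a, b, hab⟩ : ∃ a b, f.eval a + g.eval b = 0 :=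
      FiniteField.exists_root_sum_quadratic (f := f) (g := g) (Polynomial.degree_X_pow 2)
        (Polynomial.degree_X_pow_sub_C (by decide) _) (Nat.odd_iff.1 hodd)
    refine ⟨a, b, ?_⟩
    rw [← sub_eq_zero]
    simpa only [f, g, Polynomial.eval_C, Polynomial.eval_X, Polynomial.eval_pow, Polynomial.eval_sub,
      ← add_sub_assoc] using hab


/-- SL-level: a diagonal element times a transvection. -/
theorem sl_diag_mul_transvection {m : Type*} [Fintype m] [DecidableEq m]
    (g : Matrix.SpecialLinearGroup m K) (d : m → K) (hg : (g : Matrix m m K) = Matrix.diagonal d)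
    {i j : m} (hij : i ≠ j) (t t' : K) (h : d i * t = t' * d j) :
    g * Matrix.SpecialLinearGroup.transvection hij t =
      Matrix.SpecialLinearGroup.transvection hij t' * g := by
  apply Subtype.ext
  rw [Matrix.SpecialLinearGroup.coe_mul, Matrix.SpecialLinearGroup.coe_mul, hg]
  exact diag_mul_transvection d i j t t' h

theorem main [Fintype K] (hK : 3 < Fintype.card K) (n : ℕ) (hn : 1 ≤ n)
    (k : Kˣ) (hk : ∀ u : Kˣ, u ∈ Subgroup.zpowers k)
    (h x w : Matrix.SpecialLinearGroup (Fin (n + 1)) K)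
    (hh : (h : Matrix (Fin (n + 1)) (Fin (n + 1)) K) =
      Matrix.diagonal (fun i => if i.val = 0 then (k : K) else if i.val = 1 then ((k⁻¹ : Kˣ) : K) else 1))
    (hx : (x : Matrix (Fin (n + 1)) (Fin (n + 1)) K) = Matrix.transvection (0 : Fin (n + 1)) (1 : Fin (n + 1)) 1)
    (hw : (w : Matrix (Fin (n + 1)) (Fin (n + 1)) K) = wMat K n) :
    Subgroup.closure ({h, x * w} : Set (Matrix.SpecialLinearGroup (Fin (n + 1)) K)) = ⊤ := by
  set H := Subgroup.closure ({h, x * w} : Set (Matrix.SpecialLinearGroup (Fin (n + 1)) K)) with hH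
  have hhH : h ∈ H := Subgroup.subset_closure (by simp)
  have hgH : x * w ∈ H := Subgroup.subset_closure (by simp)
  have h01 : (⟨0, by omega⟩ : Fin (n + 1)) ≠ ⟨1, by omega⟩ := by
    intro h'; simp only [Fin.mk.injEq] at h'; omega
  set T : K → Matrix.SpecialLinearGroup (Fin (n + 1)) K :=
    fun t => Matrix.SpecialLinearGroup.transvection h01 t with hT
  have hTadd : ∀ s t, T s * T t = T (s + t) := fun s t =>
    (Matrix.SpecialLinearGroup.transvection_add h01 s t).symm
  have hTinv : ∀ t, (T t)⁻¹ = T (-t) := fun t => Matrix.SpecialLinearGroup.transvection_inv h01 t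
  have hT0 : T 0 = 1 := Matrix.SpecialLinearGroup.transvection_coeff_zero h01
  have hxT : x = T 1 := by
    apply Subtype.ext
    rw [hx]
    have e0 : (⟨0, by omega⟩ : Fin (n + 1)) = 0 := rfl
    have e1 : (⟨1, by omega⟩ : Fin (n + 1)) = 1 := by
      apply Fin.ext
      rw [Fin.val_one', Nat.mod_eq_of_lt (by omega)]
    change _ = Matrix.transvection (⟨0, by omega⟩ : Fin (n + 1)) ⟨1, by omega⟩ 1
    rw [e0, e1]
  -- the order of k
  have hord : orderOf k = Fintype.card K - 1 := by
    rw [orderOf_eq_card_of_forall_mem_zpowers hk, Nat.card_units, Nat.card_eq_fintype_card]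
  have hk1 : (k : K) ≠ 1 := by
    intro h1
    have : k = 1 := Units.ext h1
    rw [this, orderOf_one] at hord
    omega
  have hk2 : (k : K) ^ 2 ≠ 1 := by
    intro h1
    have : k ^ 2 = 1 := Units.ext (by push_cast; exact h1)
    have := orderOf_le_of_pow_eq_one (by norm_num) this
    omega
  have hk0 : (k : K) ≠ 0 := Units.ne_zero k
  -- diagonals
  set d : Fin (n + 1) → K :=
    fun i => if i.val = 0 then (k : K) else if i.val = 1 then ((k⁻¹ : Kˣ) : K) else 1 with hd
  set d' : Fin (n + 1) → K := fun i => d (shiftIdx n i) with hd'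
  have hd0 : d ⟨0, by omega⟩ = k := by simp [hd]
  have hd1 : d ⟨1, by omega⟩ = (k : K)⁻¹ := by simp [hd]
  have hd'0 : d' ⟨0, by omega⟩ = (k : K)⁻¹ := by
    have : shiftIdx n (⟨0, by omega⟩ : Fin (n + 1)) = ⟨1, by omega⟩ := by
      unfold shiftIdx
      rw [dif_neg (by simp; omega)]
    change d (shiftIdx n _) = _
    rw [this, hd1]
  have hd'1 : d' ⟨1, by omega⟩ = k ∨ d' ⟨1, by omega⟩ = 1 := by
    by_cases hn1 : n = 1
    · left
      have : shiftIdx n (⟨1, by omega⟩ : Fin (n + 1)) = ⟨0, by omega⟩ := by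
        unfold shiftIdx
        rw [dif_pos (by simp; omega)]
      change d (shiftIdx n _) = _
      rw [this, hd0]
    · right
      have : shiftIdx n (⟨1, by omega⟩ : Fin (n + 1)) = ⟨2, by omega⟩ := by
        unfold shiftIdx
        rw [dif_neg (by simp; omega)]
      change d (shiftIdx n _) = _
      rw [this]
      simp [hd]
  obtain ⟨h', hh'def⟩ : ∃ h' : Matrix.SpecialLinearGroup (Fin (n + 1)) K, h' = w * h * w⁻¹ := ⟨_, rfl⟩
  have hh' : (h' : Matrix (Fin (n + 1)) (Fin (n + 1)) K) = Matrix.diagonal d' := by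
    have e1 : (w : Matrix (Fin (n + 1)) (Fin (n + 1)) K) * (h : Matrix _ _ K) =
        Matrix.diagonal d' * (w : Matrix _ _ K) := by
      rw [hw, hh]; exact wMat_mul_diagonal d
    rw [hh'def, Matrix.SpecialLinearGroup.coe_mul, Matrix.SpecialLinearGroup.coe_mul, e1,
      Matrix.mul_assoc, ← Matrix.SpecialLinearGroup.coe_mul, mul_inv_cancel,
      Matrix.SpecialLinearGroup.coe_one, Matrix.mul_one]
  have hcomm : h * h' = h' * h := by
    apply Subtype.ext
    rw [Matrix.SpecialLinearGroup.coe_mul, Matrix.SpecialLinearGroup.coe_mul, hh, hh',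
      Matrix.diagonal_mul_diagonal, Matrix.diagonal_mul_diagonal]
    congr 1
    funext i
    exact mul_comm _ _
  -- relations
  have hrel1 : ∀ t, h * T t = T ((k : K) ^ 2 * t) * h := by
    intro t
    apply sl_diag_mul_transvection h d hh h01
    rw [hd0, hd1]
    field_simp
  set ρ : K := d' ⟨0, by omega⟩ * (d' ⟨1, by omega⟩)⁻¹ with hρ
  have hd'1ne : d' ⟨1, by omega⟩ ≠ 0 := by
    rcases hd'1 with h1 | h1 <;> rw [h1]
    · exact hk0
    · exact one_ne_zero
  have hρ1 : ρ ≠ 1 := by
    intro h1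
    rw [hρ, hd'0] at h1
    rcases hd'1 with h2 | h2 <;> rw [h2] at h1
    · apply hk2
      field_simp at h1
      exact h1.symm
    · apply hk1
      field_simp at h1
      exact h1.symm
  have hrel2 : ∀ t, h' * T t = T (ρ * t) * h' := by
    intro t
    apply sl_diag_mul_transvection h' d' hh' h01
    rw [hρ]
    field_simp
  -- c₁
  set v : K := 1 - ρ with hv
  have hv0 : v ≠ 0 := by rw [hv]; exact sub_ne_zero.2 (Ne.symm hρ1)
  have hc1 : T v * h' ∈ H := by
    have e : T v * h' = (x * w) * h * (x * w)⁻¹ := by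
      calc T v * h' = T 1 * (T (ρ * (-1)) * h') := by
            rw [← mul_assoc, hTadd, hv]; congr 2; ring
        _ = T 1 * (h' * T (-1)) := by rw [hrel2]
        _ = x * (w * h * w⁻¹) * x⁻¹ := by rw [hxT, hTinv, mul_assoc, hh'def]
        _ = (x * w) * h * (x * w)⁻¹ := by group
    rw [e]
    exact mul_mem (mul_mem hgH hhH) (inv_mem hgH)
  -- c₂
  set u : K := (k : K) ^ 2 * v + -v with hu
  have hu0 : u ≠ 0 := by
    have : u = ((k : K) ^ 2 - 1) * v := by rw [hu]; ring
    rw [this]
    exact mul_ne_zero (sub_ne_zero.2 hk2) hv0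
  have e3 : h' * h⁻¹ = h⁻¹ * h' := by
    calc h' * h⁻¹ = h⁻¹ * (h * h') * h⁻¹ := by group
      _ = h⁻¹ * (h' * h) * h⁻¹ := by rw [hcomm]
      _ = h⁻¹ * h' := by group
  have hTu : T u ∈ H := by
    have e : T u = h * (T v * h') * h⁻¹ * (T v * h')⁻¹ := by
      symm
      calc h * (T v * h') * h⁻¹ * (T v * h')⁻¹
          = h * T v * (h' * h⁻¹) * h'⁻¹ * (T v)⁻¹ := by group
        _ = h * T v * (h⁻¹ * h') * h'⁻¹ * (T v)⁻¹ := by rw [e3]
        _ = (h * T v) * h⁻¹ * (T v)⁻¹ := by group
        _ = T ((k : K) ^ 2 * v) * h * h⁻¹ * (T v)⁻¹ := by rw [hrel1]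
        _ = T ((k : K) ^ 2 * v) * T (-v) := by rw [mul_inv_cancel_right, hTinv]
        _ = T u := hTadd _ _
    rw [e]
    exact mul_mem (mul_mem (mul_mem hhH hc1) (inv_mem hhH)) (inv_mem hc1)
  -- the additive group A
  have hAk : ∀ t, T t ∈ H → T ((k : K) ^ 2 * t) ∈ H := by
    intro t ht
    have e : T ((k : K) ^ 2 * t) = h * T t * h⁻¹ := by
      rw [hrel1, mul_inv_cancel_right]
    rw [e]
    exact mul_mem (mul_mem hhH ht) (inv_mem hhH)
  have hAki : ∀ (i : ℕ) t, T t ∈ H → T (((k : K) ^ 2) ^ i * t) ∈ H := by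
    intro i
    induction i with
    | zero => intro t ht; simpa using ht
    | succ i ih =>
      intro t ht
      have := hAk _ (ih t ht)
      rwa [← mul_assoc, ← pow_succ'] at this
  have hAsq : ∀ (a t : K), T t ∈ H → T (a ^ 2 * t) ∈ H := by
    intro a t ht
    by_cases ha : a = 0
    · rw [ha]; simp only [ne_eq, OfNat.ofNat_ne_zero, not_false_eq_true, zero_pow, zero_mul]
      rw [hT0]; exact one_mem _
    · have hmem := hk (Units.mk0 a ha)
      rw [← mem_powers_iff_mem_zpowers] at hmem
      obtain ⟨i, hi⟩ := hmem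
      have hi' : (k : K) ^ i = a := by
        have := congrArg (fun u : Kˣ => (u : K)) hi
        simpa using this
      have := hAki i t ht
      rwa [← pow_mul, mul_comm 2 i, pow_mul, hi'] at this
  have hall : ∀ t, T t ∈ H := by
    intro t
    obtain ⟨a, b, hab⟩ := exists_sq_add_sq (t / u)
    have e : t = a ^ 2 * u + b ^ 2 * u := by
      rw [← add_mul, hab]; field_simp
    rw [e, ← hTadd]
    exact mul_mem (hAsq a u hTu) (hAsq b u hTu)
  have hxH : x ∈ H := by rw [hxT]; exact hall 1
  have hwH : w ∈ H := by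
    have : w = x⁻¹ * (x * w) := by group
    rw [this]; exact mul_mem (inv_mem hxH) hgH
  exact sl_gen_top_of_root hn H w hw hwH (fun _ _ _ t => hall t)

/-- Explicit two-element generation of `PSL_{n+1}(K)` for a finite field `K` with more than three elements: let `k` generate the multiplicative group of `K`, `h = diag(k, k⁻¹, 1, …, 1)`, `x = 1 + E₁₂` (the elementary transvection) and `w` the monomial matrix with entries `1` in positions `(i, i+1)` and `(−1)^n` in position `(n+1, 1)`. Then `h` and `x·w` generate `SL_{n+1}(K)` modulo its centre: the subgroup they generate together with the centre is everything. -/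
theorem result {K : Type*} [Field K] [Fintype K] (hK : 3 < Fintype.card K) (n : ℕ) (hn : 1 ≤ n)
    (k : Kˣ) (hk : ∀ u : Kˣ, u ∈ Subgroup.zpowers k)
    (h x w : Matrix.SpecialLinearGroup (Fin (n + 1)) K)
    (hh : (h : Matrix (Fin (n + 1)) (Fin (n + 1)) K) =
      Matrix.diagonal (fun i => if i.val = 0 then (k : K) else if i.val = 1 then ((k⁻¹ : Kˣ) : K) else 1))
    (hx : (x : Matrix (Fin (n + 1)) (Fin (n + 1)) K) = Matrix.transvection (0 : Fin (n + 1)) (1 : Fin (n + 1)) 1)
    (hw : (w : Matrix (Fin (n + 1)) (Fin (n + 1)) K) =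
      Matrix.of (fun i j => if j.val = i.val + 1 then 1 else if i.val = n ∧ j.val = 0 then (-1) ^ n else 0)) :
    Subgroup.closure ({h, x * w} : Set (Matrix.SpecialLinearGroup (Fin (n + 1)) K)) ⊔
      Subgroup.center (Matrix.SpecialLinearGroup (Fin (n + 1)) K) = ⊤ := by
  rw [main hK n hn k hk h x w hh hx hw, top_sup_eq]

end Cfsg.Agent.S2402
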