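import Cfsg.Statements.S1079
import Cfsg.Agent.Helper40.StCenter

set_option autoImplicit false
open Cfsg

namespace Cfsg.Agent.S1079

/-- `|Z(Ḡ)| = gcd(3, q-1)` for E₆ and `gcd(2, q-1)` for E₇ over a field with `q` elements (the centre is dual to the weight lattice modulo the root lattice). -/
theorem result {K : Type*} [Field K] [Fintype K] {q : ℕ} (hq : Fintype.card K = q)
    (p : Cfsg.Lie.ChevalleyDatum × ℕ) (hp : p ∈ [(Cfsg.Lie.chevE6, 3), (Cfsg.Lie.chevE7, 2)]) :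
    Nat.card (Subgroup.center (p.1.SteinbergGroup K)) = Nat.gcd p.2 (q - 1) := by
  subst hq
  have hker₂ : (Cfsg.Agent.Helper18.torusChar Cfsg.Lie.chevE8 K).ker = ⊥ := by
    have h := Cfsg.Agent.Helper18.card_torusChar_ker (F := K) Cfsg.Lie.chevE8
      (Cfsg.Agent.Helper18.simpleOK_of_mem Cfsg.Lie.chevE8 (by simp [Cfsg.Agent.Helper18.allData])) Cfsg.Agent.Helper18.certE8
      Cfsg.Agent.Helper18.certOK_E8
    apply Subgroup.eq_bot_of_card_eq
    rw [h]
    show ∏ k : Fin 8, (Fintype.card K - 1).gcd (Cfsg.Agent.Helper18.certE8.d.getD k.val 0) = 1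
    simp [Fin.prod_univ_succ, Cfsg.Agent.Helper18.certE8]
  simp only [List.mem_cons, List.not_mem_nil, or_false] at hp
  rcases hp with rfl | rfl
  · rw [Cfsg.Agent.Helper40.St.card_center_of_emb (K := K) Cfsg.Lie.chevE6 Cfsg.Lie.chevE8 (by simp) (by simp)
      (fun r => Cfsg.Agent.Helper40.StE.iotaE6.getD r 0) Cfsg.Agent.Helper40.StE.embOK_E6 (by decide) (by decide) hker₂,
      Cfsg.Agent.Helper18.card_torusChar_ker (F := K) Cfsg.Lie.chevE6
        (Cfsg.Agent.Helper18.simpleOK_of_mem Cfsg.Lie.chevE6 (by simp [Cfsg.Agent.Helper18.allData])) Cfsg.Agent.Helper18.certE6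
        Cfsg.Agent.Helper18.certOK_E6]
    show ∏ k : Fin 6, (Fintype.card K - 1).gcd (Cfsg.Agent.Helper18.certE6.d.getD k.val 0) = _
    simp [Fin.prod_univ_succ, Cfsg.Agent.Helper18.certE6, Nat.gcd_comm]
  · rw [Cfsg.Agent.Helper40.St.card_center_of_emb (K := K) Cfsg.Lie.chevE7 Cfsg.Lie.chevE8 (by simp) (by simp)
      (fun r => Cfsg.Agent.Helper40.StE.iotaE7.getD r 0) Cfsg.Agent.Helper40.StE.embOK_E7 (by decide) (by decide) hker₂,
      Cfsg.Agent.Helper18.card_torusChar_ker (F := K) Cfsg.Lie.chevE7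
        (Cfsg.Agent.Helper18.simpleOK_of_mem Cfsg.Lie.chevE7 (by simp [Cfsg.Agent.Helper18.allData])) Cfsg.Agent.Helper18.certE7
        Cfsg.Agent.Helper18.certOK_E7]
    show ∏ k : Fin 7, (Fintype.card K - 1).gcd (Cfsg.Agent.Helper18.certE7.d.getD k.val 0) = _
    simp [Fin.prod_univ_succ, Cfsg.Agent.Helper18.certE7, Nat.gcd_comm]

end Cfsg.Agent.S1079
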