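import Cfsg.Statements.S0805
import Cfsg.Agent.Helper46.SubfieldPSL

set_option autoImplicit false
open Cfsg

namespace Cfsg.Agent.S0805

open Cfsg.Agent.Helper46 in
/-- Subfield subgroups: let F be a finite field of odd order q and K a finite field with |K|^m = q, m ≥ 1. Then PSL_2(F) has a subgroup isomorphic to PSL_2(K), and has a subgroup isomorphic to PGL_2(K) if and only if m is even. -/
theorem result {F K : Type*} [Field F] [Fintype F] [Field K] [Fintype K] {q : ℕ} (hF : Fintype.card F = q) (hodd : Odd q) (m : ℕ) (hm : 1 ≤ m) (hK : Fintype.card K ^ m = q) : (∃ H : Subgroup (Matrix.ProjectiveSpecialLinearGroup (Fin 2) F), Nonempty (H ≃* Matrix.ProjectiveSpecialLinearGroup (Fin 2) K)) ∧ ((∃ H : Subgroup (Matrix.ProjectiveSpecialLinearGroup (Fin 2) F), Nonempty (H ≃* Matrix.ProjGenLinGroup (Fin 2) K)) ↔ Even m) := by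
  obtain ⟨ι⟩ := exists_ringHom_of_card_pow (K := K) (F := F) m hm (hK.trans hF.symm)
  have hoddF : Odd (Fintype.card F) := hF ▸ hodd
  refine ⟨exists_psl_subgroup ι, ⟨?_, ?_⟩⟩
  · rintro ⟨H, ⟨e⟩⟩
    by_contra hne
    have hmodd : Odd m := Nat.not_even_iff_odd.1 hne
    set k := Fintype.card K with hk
    have hcardH : Nat.card H = k * (k ^ 2 - 1) := (Nat.card_congr e.toEquiv).trans card_PGL2
    have hdvd : Nat.card H ∣ Nat.card (Matrix.ProjectiveSpecialLinearGroup (Fin 2) F) :=
      Subgroup.card_subgroup_dvd_card H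
    have h2 : (2 : F) ≠ 0 := Cfsg.Agent.Helper5.two_ne_zero_of_odd_card hoddF
    have hpsl : Nat.card (Matrix.ProjectiveSpecialLinearGroup (Fin 2) F) * 2 = q * (q ^ 2 - 1) := by
      have := Cfsg.Agent.Helper5.card_PSL2_mul (F := F)
      rw [Cfsg.Agent.Helper5.card_center_SL2_of_two_ne_zero h2, hF] at this
      exact this
    have hdvd2 : k * (k ^ 2 - 1) * 2 ∣ q * (q ^ 2 - 1) := by
      rw [← hpsl, ← hcardH]
      exact Nat.mul_dvd_mul_right hdvd 2
    -- k is odd
    have hkodd : Odd k := by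
      rcases Nat.even_or_odd k with he | ho
      · exfalso
        have : Even (k ^ m) := Nat.even_pow.2 ⟨he, by omega⟩
        rw [hK] at this
        exact (Nat.not_even_iff_odd.2 hodd) this
      · exact ho
    have hk1 : 1 < k := Fintype.one_lt_card
    have hk2 : 1 ≤ k ^ 2 := Nat.one_le_pow _ _ (by omega)
    -- q^2 - 1 = (k^2-1) * S with S odd
    have hgeom := geom_sum_mul_of_one_le (x := k ^ 2) hk2 m
    have hq2 : q ^ 2 = (k ^ 2) ^ m := by rw [← hK, ← pow_mul, ← pow_mul, mul_comm]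
    set S := ∑ i ∈ Finset.range m, (k ^ 2) ^ i with hS
    have hSodd : Odd S := by
      rw [hS, Finset.odd_sum_iff_odd_card_odd]
      have : (Finset.range m).filter (fun i => Odd ((k ^ 2) ^ i)) = Finset.range m := by
        apply Finset.filter_true_of_mem
        intro i _
        exact (hkodd.pow).pow
      rw [this, Finset.card_range]
      exact hmodd
    have hA : 0 < k ^ 2 - 1 := by
      have : 2 ^ 2 ≤ k ^ 2 := Nat.pow_le_pow_left hk1 2
      omega
    rw [hq2, ← hgeom] at hdvd2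
    have h3 : (k ^ 2 - 1) * (k * 2) ∣ (k ^ 2 - 1) * (q * S) := by
      have e1 : (k ^ 2 - 1) * (k * 2) = k * (k ^ 2 - 1) * 2 := by ring
      have e2 : (k ^ 2 - 1) * (q * S) = q * (S * (k ^ 2 - 1)) := by ring
      rw [e1, e2]; exact hdvd2
    have h4 : k * 2 ∣ q * S := (Nat.mul_dvd_mul_iff_left hA).1 h3
    have h5 : 2 ∣ q * S := Dvd.dvd.trans (Dvd.intro_left k rfl) h4
    have h6 : Odd (q * S) := hodd.mul hSodd
    exact (Nat.not_even_iff_odd.2 h6) (even_iff_two_dvd.2 h5)
  · intro hme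
    exact exists_pgl_subgroup ι
      (fun x => isSquare_of_even_degree ι m hme hoddF (hK.trans hF.symm) x)

end Cfsg.Agent.S0805
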