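import Cfsg.Statements.S2424
import Mathlib
import Cfsg.Agent.S2420
-- import your own Cfsg.Agent.* helpers here

set_option autoImplicit false
open scoped MatrixGroups
open Cfsg

namespace Cfsg.Agent.S2424

section helpers

open Cfsg Cfsg.Agent.Helper40 Polynomial

section arith

variable (q : ℕ)

/-- the q-integer `1 + q + ⋯ + q^(r-1)` -/
def qInt (r : ℕ) : ℕ := ∑ l ∈ Finset.range r, q ^ l

theorem qFact_eq (r : ℕ) : qFact q r = ∏ j ∈ Finset.range r, qInt q (j + 1) := rfl

/-- falling q-factorial `[λ][λ-1]⋯[λ-j+1]` -/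
def qFall (lam j : ℕ) : ℕ := ∏ k ∈ Finset.range j, qInt q (lam - k)

theorem qFact_fall (lam j : ℕ) (hj : j ≤ lam) : qFact q lam = qFact q (lam - j) * qFall q lam j := by
  induction j with
  | zero => simp [qFall]
  | succ j ih =>
    have hj' : j ≤ lam := by omega
    have h1 : qFall q lam (j + 1) = qFall q lam j * qInt q (lam - j) := by
      unfold qFall
      rw [Finset.prod_range_succ]
    have h2 : qFact q (lam - j) = qFact q (lam - (j + 1)) * qInt q (lam - j) := by
      have : lam - j = (lam - (j + 1)) + 1 := by omega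
      rw [this, qFact_eq, Finset.prod_range_succ, ← qFact_eq]
    rw [ih hj', h1, h2]
    ring

theorem qFall_eq_zero (lam j : ℕ) (hj : lam < j) : qFall q lam j = 0 := by
  unfold qFall
  apply Finset.prod_eq_zero (i := lam) (Finset.mem_range.2 hj)
  simp [qInt]

theorem qFact_pos (hq : 1 ≤ q) (r : ℕ) : 0 < qFact q r := by
  unfold qFact
  apply Finset.prod_pos
  intro j _
  apply Finset.sum_pos
  · intro l _
    exact pow_pos hq l
  · exact ⟨0, by simp⟩

/-- `[λ] - [k] = q^k [λ-k]` for `k ≤ λ` -/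
theorem qInt_sub (lam k : ℕ) (hk : k ≤ lam) : qInt q lam = qInt q k + q ^ k * qInt q (lam - k) := by
  unfold qInt
  obtain ⟨d, rfl⟩ := Nat.exists_eq_add_of_le hk
  rw [Finset.sum_range_add, Nat.add_sub_cancel_left, Finset.mul_sum]
  congr 1
  apply Finset.sum_congr rfl
  intro l _
  rw [pow_add]

/-- sum of triangular numbers -/
def tetNum (n : ℕ) : ℕ := ∑ j ∈ Finset.range n, triNum j

theorem tetNum_formula (n : ℕ) : tetNum (n + 2) * 6 = (n + 2) * (n + 1) * n := by
  induction n with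
  | zero => simp [tetNum, triNum, Finset.sum_range_succ]
  | succ n ih =>
    have h1 : tetNum (n + 1 + 2) = tetNum (n + 2) + triNum (n + 2) := by
      simp [tetNum, Finset.sum_range_succ]
    have h2 := two_triNum_add (n + 2)
    rw [h1]
    nlinarith

theorem tetNum_eq (n : ℕ) : n * (n - 1) * (n - 2) / 6 = tetNum n := by
  rcases n with _ | _ | n
  · simp [tetNum]
  · simp [tetNum, triNum]
  · have := tetNum_formula n
    have e1 : n + 1 + 1 - 1 = n + 1 := by omega
    have e2 : n + 1 + 1 - 2 = n := by omega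
    rw [e1, e2]
    have h : (n + 1 + 1) * (n + 1) * n = tetNum (n + 2) * 6 := this.symm
    rw [h]
    exact Nat.mul_div_cancel _ (by norm_num)

end arith


section main

variable {F : Type*} [Field F] [Fintype F] {n : ℕ} (ν : Fin n → ℕ)

theorem fixedPointCharacter_one {G : Type*} [Group G] (H : Subgroup G) :
    Cfsg.fixedPointCharacter H 1 = (Nat.card (G ⧸ H) : ℂ) := by
  unfold Cfsg.fixedPointCharacter
  rw [MulAction.fixedBy_one_eq_univ]
  congr 1
  exact Nat.card_congr (Equiv.Set.univ _)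

/-- the index term, multiplied out -/
theorem index_term (hsum : ∑ i, ν i = n) (κ : Equiv.Perm (Fin n)) (hκ : ∀ i : Fin n, (κ i).val ≤ ν i + i.val) :
    Nat.card (GL (Fin n) F ⧸ Cfsg.parabolicGL n F fun i => ν i + i.val - (κ i).val) *
        ∏ i : Fin n, qFact (Fintype.card F) (ν i + i.val) =
      qFact (Fintype.card F) n * ∏ i : Fin n, qFall (Fintype.card F) (ν i + i.val) (κ i).val := by
  have hμ : ∑ i : Fin n, (ν i + i.val - (κ i).val) = n := by
    have h1 : ∑ i : Fin n, (ν i + i.val - (κ i).val) + ∑ i : Fin n, (κ i).val = ∑ i : Fin n, (ν i + i.val) := by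
      rw [← Finset.sum_add_distrib]
      apply Finset.sum_congr rfl
      intro i _
      exact Nat.sub_add_cancel (hκ i)
    have h2 : ∑ i : Fin n, (κ i).val = ∑ i : Fin n, i.val := Equiv.sum_comp κ (fun i => i.val)
    rw [Finset.sum_add_distrib, hsum, h2] at h1
    omega
  have h := Cfsg.Agent.S2420.index_formula (F := F) (fun i => ν i + i.val - (κ i).val) hμ
  rw [← h]
  have h3 : ∏ i : Fin n, qFact (Fintype.card F) (ν i + i.val) =
      (∏ i : Fin n, qFact (Fintype.card F) (ν i + i.val - (κ i).val)) *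
        ∏ i : Fin n, qFall (Fintype.card F) (ν i + i.val) (κ i).val := by
    rw [← Finset.prod_mul_distrib]
    apply Finset.prod_congr rfl
    intro i _
    exact qFact_fall _ _ _ (hκ i)
  rw [h3]
  ring

theorem prod_qFall_eq_zero (κ : Equiv.Perm (Fin n)) (hκ : ¬ ∀ i : Fin n, (κ i).val ≤ ν i + i.val) (q : ℕ) :
    ∏ i : Fin n, qFall q (ν i + i.val) (κ i).val = 0 := by
  push Not at hκ
  obtain ⟨i, hi⟩ := hκ
  exact Finset.prod_eq_zero (Finset.mem_univ i) (qFall_eq_zero q _ _ hi)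

/-- the matrix of falling q-factorials -/
noncomputable def fallMat (q : ℕ) : Matrix (Fin n) (Fin n) ℂ :=
  Matrix.of fun i j => ((qFall q (ν i + i.val) j.val : ℕ) : ℂ)

theorem degree_mul_prod (hsum : ∑ i, ν i = n) :
    Cfsg.unipotentCharacterGL n F ν 1 * ∏ i : Fin n, ((qFact (Fintype.card F) (ν i + i.val) : ℕ) : ℂ) =
      ((qFact (Fintype.card F) n : ℕ) : ℂ) * (fallMat ν (Fintype.card F)).det := by
  unfold Cfsg.unipotentCharacterGL
  rw [Finset.sum_mul, ← Matrix.det_transpose, Matrix.det_apply', Finset.mul_sum]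
  apply Finset.sum_congr rfl
  intro κ _
  have hB : ∏ i : Fin n, (fallMat ν (Fintype.card F)).transpose (κ i) i =
      ((∏ i : Fin n, qFall (Fintype.card F) (ν i + i.val) (κ i).val : ℕ) : ℂ) := by
    rw [Nat.cast_prod]
    rfl
  rw [hB]
  split_ifs with hκ
  · rw [fixedPointCharacter_one]
    have h := index_term (F := F) ν hsum κ hκ
    have h' := congrArg (Nat.cast (R := ℂ)) h
    rw [Nat.cast_mul, Nat.cast_mul, Nat.cast_prod] at h'
    rw [mul_assoc, h']
    ring
  · rw [prod_qFall_eq_zero ν κ hκ]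
    simp

end main


section vdm

variable {n : ℕ} (ν : Fin n → ℕ) (q : ℕ)

/-- the monic polynomial `∏_{k<j} (X - [k])` -/
noncomputable def fallPoly (j : ℕ) : ℂ[X] := ∏ k ∈ Finset.range j, (X - C ((qInt q k : ℕ) : ℂ))

theorem fallPoly_monic (j : ℕ) : (fallPoly q j).Monic :=
  monic_prod_of_monic _ _ (fun k _ => monic_X_sub_C _)

theorem fallPoly_natDegree (j : ℕ) : (fallPoly q j).natDegree = j := by
  unfold fallPoly
  rw [natDegree_prod_of_monic _ _ (fun _ _ => monic_X_sub_C _)]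
  have : ∀ k ∈ Finset.range j, (X - C ((qInt q k : ℕ) : ℂ)).natDegree = 1 := fun k _ => natDegree_X_sub_C _
  rw [Finset.sum_congr rfl this]
  simp

theorem fallPoly_eval (lam j : ℕ) :
    (fallPoly q j).eval ((qInt q lam : ℕ) : ℂ) = (q : ℂ) ^ triNum j * ((qFall q lam j : ℕ) : ℂ) := by
  unfold fallPoly
  rw [eval_prod]
  by_cases hj : j ≤ lam
  · unfold qFall triNum
    rw [Nat.cast_prod, ← Finset.prod_pow_eq_pow_sum, ← Finset.prod_mul_distrib]
    apply Finset.prod_congr rfl
    intro k hk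
    rw [Finset.mem_range] at hk
    have := qInt_sub q lam k (by omega)
    rw [eval_sub, eval_X, eval_C, this]
    push_cast
    ring
  · rw [not_le] at hj
    rw [qFall_eq_zero q lam j hj, Nat.cast_zero, mul_zero]
    apply Finset.prod_eq_zero (i := lam) (Finset.mem_range.2 hj)
    simp

theorem det_fallMat :
    (q : ℂ) ^ tetNum n * (fallMat ν q).det =
      ∏ i : Fin n, ∏ j ∈ Finset.Ioi i,
        (((qInt q (ν j + j.val) : ℕ) : ℂ) - ((qInt q (ν i + i.val) : ℕ) : ℂ)) := by
  rw [← Matrix.det_vandermonde,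
    Matrix.det_eval_matrixOfPolynomials_eq_det_vandermonde _ (fun j : Fin n => fallPoly q j.val)
      (fun j => fallPoly_natDegree q j.val) (fun j => fallPoly_monic q j.val)]
  have hpow : (q : ℂ) ^ tetNum n = ∏ j : Fin n, (q : ℂ) ^ triNum j.val := by
    unfold tetNum
    rw [Finset.prod_pow_eq_pow_sum, Fin.sum_univ_eq_sum_range (fun j => triNum j) n]
  rw [hpow, ← Matrix.det_mul_row]
  congr 1
  ext i j
  simp only [Matrix.of_apply, fallMat]
  rw [fallPoly_eval]

end vdm


theorem main_formula {F : Type*} [Field F] [Fintype F] {n : ℕ} (ν : Fin n → ℕ) (hsum : ∑ i, ν i = n) :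
    Cfsg.unipotentCharacterGL n F ν 1 * ((Fintype.card F : ℕ) : ℂ) ^ (n * (n - 1) * (n - 2) / 6) *
        ∏ i : Fin n, ((qFact (Fintype.card F) (ν i + i.val) : ℕ) : ℂ) =
      ((qFact (Fintype.card F) n : ℕ) : ℂ) *
        ∏ i : Fin n, ∏ j ∈ Finset.univ.filter (fun j : Fin n => i < j),
          (((qInt (Fintype.card F) (ν j + j.val) : ℕ) : ℂ) - ((qInt (Fintype.card F) (ν i + i.val) : ℕ) : ℂ)) := by
  have h1 := degree_mul_prod (F := F) ν hsum
  have h2 := det_fallMat ν (Fintype.card F)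
  rw [tetNum_eq]
  have h3 : ∀ i : Fin n, Finset.univ.filter (fun j : Fin n => i < j) = Finset.Ioi i := fun i =>
    Finset.filter_lt_eq_Ioi
  simp only [h3]
  rw [← h2]
  calc Cfsg.unipotentCharacterGL n F ν 1 * ((Fintype.card F : ℕ) : ℂ) ^ tetNum n *
        ∏ i : Fin n, ((qFact (Fintype.card F) (ν i + i.val) : ℕ) : ℂ)
      = ((Fintype.card F : ℕ) : ℂ) ^ tetNum n * (Cfsg.unipotentCharacterGL n F ν 1 *
        ∏ i : Fin n, ((qFact (Fintype.card F) (ν i + i.val) : ℕ) : ℂ)) := by ring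
    _ = _ := by rw [h1]; ring

end helpers


/-- Degrees of the partition-indexed irreducible characters of `GL_n(q)`: for `ν` a partition of `n` with `n` non-decreasing parts `ν_0 ≤ ⋯ ≤ ν_{n−1}` (zeros allowed; positions counted from 0) and `λ_i = ν_i + i`, write `Q(r)` for the q-integer `1 + q + ⋯ + q^(r−1)` and `Q!(r)` for `Q(1)Q(2)⋯Q(r)`; then the degree `γ(ν)` of the character satisfies `γ(ν) · q^(n(n−1)(n−2)/6) · ∏_i Q!(λ_i) = Q!(n) · ∏_{i<j} (Q(λ_j) − Q(λ_i))`. For `ν = (1,…,1)` this gives the Steinberg degree `q^(n(n−1)/2)`, for `ν = (0,…,0,n)` degree 1. -/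
theorem result {F : Type*} [Field F] [Fintype F] {q : ℕ} (hq : Fintype.card F = q) {n : ℕ} (ν : Fin n → ℕ) (hmono : Monotone ν) (hsum : ∑ i, ν i = n) :
    Cfsg.unipotentCharacterGL n F ν 1 * (q : ℂ) ^ (n * (n - 1) * (n - 2) / 6) *
        ∏ i : Fin n, ∏ j ∈ Finset.range (ν i + i.val), ((∑ l ∈ Finset.range (j + 1), q ^ l : ℕ) : ℂ) =
      (∏ j ∈ Finset.range n, ((∑ l ∈ Finset.range (j + 1), q ^ l : ℕ) : ℂ)) *
        ∏ i : Fin n, ∏ j ∈ Finset.univ.filter (fun j : Fin n => i < j),
          (((∑ l ∈ Finset.range (ν j + j.val), q ^ l : ℕ) : ℂ) - ((∑ l ∈ Finset.range (ν i + i.val), q ^ l : ℕ) : ℂ)) := by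
  subst hq
  have h := main_formula (F := F) ν hsum
  simp only [Cfsg.Agent.Helper40.qFact, qInt, Nat.cast_prod] at h
  exact h

end Cfsg.Agent.S2424
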