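import Cfsg.Statements.S0955
import Cfsg.Agent.Helper78.InducedDefect
import Cfsg.Agent.S0912
import Cfsg.Agent.Lib.Cores

set_option autoImplicit false
open Cfsg

namespace Cfsg.Agent.S0955

/-- Let D be a defect group of a block of the finite group G relative to a maximal ideal M of the algebraic integers containing the prime p. Then D is the largest normal p-subgroup of its own normalizer: O_p(N_G(D)) = D. -/
theorem result {G : Type*} [Group G] [Finite G] (p : ℕ) [Fact p.Prime] (M : Ideal Cfsg.AlgInt) (hM : Cfsg.IsPModular p M) (B : Set (Cfsg.IrrCharacter G)) (hB : Cfsg.IsPBlock M B) (D : Subgroup G) (hD : Cfsg.IsDefectGroup p M B D) : (Cfsg.pCore p (Subgroup.normalizer (D : Set G))).map (Subgroup.normalizer (D : Set G)).subtype = D := by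
  classical
  haveI : Fintype G := Fintype.ofFinite G
  have hMp : M.IsPrime := Cfsg.Agent.Helper78.isPrime_of_isPModular hM
  set N : Subgroup G := Subgroup.normalizer (D : Set G) with hN
  have hD' := hD
  obtain ⟨g, hg, Q, hQ⟩ := hD'
  have hDp : IsPGroup p D := by rw [hQ]; exact Q.isPGroup'.map _
  have hDN : D ≤ N := Subgroup.le_normalizer
  have hCN : Subgroup.centralizer (D : Set G) ≤ N := Subgroup.centralizer_le_normalizer _
  obtain ⟨χ₀, rfl⟩ := hB
  have hgD : g ∈ Subgroup.centralizer (D : Set G) := by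
    intro u hu
    rw [hQ] at hu
    obtain ⟨v, -, rfl⟩ := hu
    have := v.2
    rw [Subgroup.mem_centralizer_singleton_iff] at this
    exact this
  obtain ⟨b, hind⟩ := Cfsg.Agent.Helper78.exists_induced_of_blockCoeff_not_mem hM hDp hDN hCN
    le_rfl χ₀ g hgD hg.2.1
  obtain ⟨ξ₀, hξ₀⟩ := hind.1
  haveI : Fintype N := Fintype.ofFinite N
  obtain ⟨Db, hDb⟩ := Cfsg.Agent.Helper16.exists_defectGroup (M := M) p ξ₀
  rw [← hξ₀] at hDb
  have h1 : Cfsg.pCore p N ≤ Db := Cfsg.Agent.S0912.result p M hM b hind.1 Db hDb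
  obtain ⟨x, hx⟩ := Cfsg.Agent.Helper78.defectGroup_le_of_induced hM N b _ hind Db hDb D hD
  -- cardinalities
  have hc1 : Nat.card (Cfsg.pCore p N) ≤ Nat.card Db := Subgroup.card_le_of_le h1
  have hc2 : Nat.card ((Db.map N.subtype).map (MulAut.conj x).toMonoidHom) = Nat.card Db := by
    rw [Subgroup.card_map_of_injective (MulAut.conj x).injective,
      Subgroup.card_map_of_injective N.subtype_injective]
  have hc3 : Nat.card Db ≤ Nat.card D := by
    rw [← hc2]; exact Subgroup.card_le_of_le hx
  have hnorm : (D.subgroupOf N).Normal := Subgroup.normal_in_normalizer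
  have h2 : D.subgroupOf N ≤ Cfsg.pCore p N :=
    Cfsg.Agent.Lib.le_pCore hnorm hDp.comap_subtype
  have hc4 : Nat.card (D.subgroupOf N) = Nat.card D :=
    Nat.card_congr (Subgroup.subgroupOfEquivOfLe hDN).toEquiv
  have h3 : D.subgroupOf N = Cfsg.pCore p N := by
    apply Subgroup.eq_of_le_of_card_ge h2
    rw [hc4]
    exact hc1.trans hc3
  rw [← h3]
  exact Subgroup.map_subgroupOf_eq_of_le hDN

end Cfsg.Agent.S0955
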