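import Cfsg.Statements.S0953
import Cfsg.Agent.Helper16.SylowBlocks2
import Cfsg.Agent.Helper77.MaxPair
import Cfsg.Agent.Helper78.BrauerHom
import Cfsg.Agent.S0920

set_option autoImplicit false
open Cfsg

namespace Cfsg.Agent.S0953

open Cfsg.Agent.Helper16 in
/-- Let P be a Sylow p-subgroup of the finite group G with normalizer N, and fix a maximal ideal M of the algebraic integers containing p. The number of blocks of G having P as a defect group equals the number of conjugacy classes of N consisting of elements of order prime to p that centralize P. -/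
theorem result {G : Type*} [Group G] [Finite G] (p : ℕ) [Fact p.Prime] (M : Ideal Cfsg.AlgInt) (hM : Cfsg.IsPModular p M) (P : Sylow p G) : Nat.card {B : Set (Cfsg.IrrCharacter G) // Cfsg.IsPBlock M B ∧ Cfsg.IsDefectGroup p M B (P : Subgroup G)} = Nat.card {C : ConjClasses (Subgroup.normalizer ((P : Subgroup G) : Set G)) // ∀ n : Subgroup.normalizer ((P : Subgroup G) : Set G), ConjClasses.mk n = C → ¬ p ∣ orderOf n ∧ (n : G) ∈ Subgroup.centralizer ((P : Subgroup G) : Set G)} := by
  classical
  haveI : Fintype G := Fintype.ofFinite G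
  haveI hMp : M.IsPrime := IsPModular.isPrime hM
  have hp : p.Prime := Fact.out
  have hPN : (P : Subgroup G) ≤ Subgroup.normalizer ((P : Subgroup G) : Set G) :=
    Subgroup.le_normalizer
  have hP' : IsPGroup p ((P : Subgroup G).subgroupOf
      (Subgroup.normalizer ((P : Subgroup G) : Set G))) := P.isPGroup'.comap_subtype
  have hidx' : ¬ p ∣ ((P : Subgroup G).subgroupOf
      (Subgroup.normalizer ((P : Subgroup G) : Set G))).index := by
    intro h
    exact P.not_dvd_index (h.trans (Subgroup.relIndex_dvd_index_of_le hPN))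
  have hA := card_blocks_eq_card_pRegular_classes (M := M) p hM ((P : Subgroup G).subgroupOf
      (Subgroup.normalizer ((P : Subgroup G) : Set G))) hP' hidx'
  -- every block of the normalizer has defect group `P`
  have hall : ∀ b : Set (IrrCharacter (Subgroup.normalizer ((P : Subgroup G) : Set G))),
      IsPBlock M b → IsDefectGroup p M b ((P : Subgroup G).subgroupOf
        (Subgroup.normalizer ((P : Subgroup G) : Set G))) := by
    intro b hb
    obtain ⟨ξ₀, rfl⟩ := hb
    obtain ⟨D, hD⟩ := exists_defectGroup (M := M) p ξ₀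
    have h1 : (P : Subgroup G).subgroupOf (Subgroup.normalizer ((P : Subgroup G) : Set G)) ≤ D :=
      (Cfsg.Agent.Lib.le_pCore inferInstance hP').trans
        (Cfsg.Agent.S0912.result p M hM _ ⟨ξ₀, rfl⟩ D hD)
    have hDp : IsPGroup p D :=
      IsPGroup.of_card (Helper77.card_defectGroup hM ⟨ξ₀, rfl⟩ D hD)
    have h2 : D ≤ (P : Subgroup G).subgroupOf (Subgroup.normalizer ((P : Subgroup G) : Set G)) :=
      le_of_isPGroup_of_normal_sylow p _ hP' hidx' hDp
    rw [le_antisymm h1 h2]
    exact hD
  have hS := Cfsg.Agent.S0920.result p M hM (P : Subgroup G) P.isPGroup'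
  -- the Brauer correspondence as a bijection
  have e1 : Nat.card {B : Set (IrrCharacter G) // IsPBlock M B ∧
      IsDefectGroup p M B (P : Subgroup G)} =
      Nat.card {b : Set (IrrCharacter (Subgroup.normalizer ((P : Subgroup G) : Set G))) //
        IsPBlock M b} := by
    have hex : ∀ B : {B : Set (IrrCharacter G) // IsPBlock M B ∧
        IsDefectGroup p M B (P : Subgroup G)},
        ∃ b : Set (IrrCharacter (Subgroup.normalizer ((P : Subgroup G) : Set G))),
          IsPBlock M b ∧ IsInducedBlock M (Subgroup.normalizer ((P : Subgroup G) : Set G)) b B.1 := by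
      intro B
      obtain ⟨b, ⟨hb1, -, hb3⟩, -⟩ := hS.2 B.1 B.2.1 B.2.2
      exact ⟨b, hb1, hb3⟩
    choose f hf1 hf2 using hex
    refine Nat.card_eq_of_bijective (fun B => ⟨f B, hf1 B⟩) ⟨?_, ?_⟩
    · intro B₁ B₂ h
      have h' : f B₁ = f B₂ := congrArg Subtype.val h
      apply Subtype.ext
      have h2 := hf2 B₂
      rw [← h'] at h2
      exact Helper77.isInducedBlock_unique _ (hf2 B₁) h2
    · intro b
      obtain ⟨B, hB1, hB2, hB3⟩ := hS.1 b.1 b.2 (hall b.1 b.2)
      refine ⟨⟨B, hB1, hB2⟩, ?_⟩
      apply Subtype.ext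
      show f ⟨B, hB1, hB2⟩ = b.1
      obtain ⟨b', -, huniq⟩ := hS.2 B hB1 hB2
      rw [huniq (f ⟨B, hB1, hB2⟩) ⟨hf1 _, hall _ (hf1 _), hf2 _⟩,
        huniq b.1 ⟨b.2, hall b.1 b.2, hB3⟩]
  rw [e1, hA]
  refine Nat.card_congr (Equiv.subtypeEquivRight (fun C => ?_))
  constructor
  · intro h n hn
    exact ⟨(h n hn).1, (Helper78.mem_centralizer_subgroupOf_iff hPN n).mp (h n hn).2⟩
  · intro h n hn
    exact ⟨(h n hn).1, (Helper78.mem_centralizer_subgroupOf_iff hPN n).mpr (h n hn).2⟩

end Cfsg.Agent.S0953
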