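import Cfsg.Statements.S4652
-- import your own Cfsg.Agent.* helpers here
import Cfsg.Agent.Helper77.BlockOrth
import Cfsg.Agent.Helper16.SylowIn
import Cfsg.Agent.Helper79.Linear

set_option autoImplicit false
open Cfsg

namespace Cfsg.Agent.S4652

/-- Fix a prime p and a maximal ideal M of the algebraic integers containing p. The defect groups of the principal p-block of a finite group G are exactly the Sylow p-subgroups of G: a subgroup D is a defect group of the principal block if and only if D is a Sylow p-subgroup. -/
theorem result {G : Type*} [Group G] [Fintype G] (p : ℕ) [Fact p.Prime] (M : Ideal Cfsg.AlgInt) (hM : Cfsg.IsPModular p M) (D : Subgroup G) : Cfsg.IsDefectGroup p M (Cfsg.principalBlock M G) D ↔ ∃ S : Sylow p G, (S : Subgroup G) = D := by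
  classical
  have hMp : M.IsPrime := Helper77.isPrime_of_isPModular hM
  have hp : p.Prime := hM.1
  set χ₀ : IrrCharacter G := Helper79.principalIrr G with hχ₀def
  have hBeq : principalBlock M G = blockOf M (χ₀ : G → ℂ) := rfl
  have hB : IsPBlock M (principalBlock M G) := ⟨χ₀, hBeq⟩
  have hχ₀ : χ₀ ∈ principalBlock M G := Helper16.sameBlock_refl _
  have hcc : ∀ g : G, centralChar (χ₀ : G → ℂ) g =
      ((Subgroup.centralizer ({g} : Set G)).index : ℂ) := by
    intro g
    show ((Subgroup.centralizer ({g} : Set G)).index : ℂ) * 1 / 1 = _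
    simp
  have key : ∀ g : G, (∀ χ ∈ principalBlock M G, ¬ MemLocalIdeal M (centralChar (χ : G → ℂ) g)) ↔
      ¬ p ∣ (Subgroup.centralizer ({g} : Set G)).index := by
    intro g
    constructor
    · intro h hdvd
      apply h χ₀ hχ₀
      rw [hcc, Helper77.memLocalIdeal_natCast_iff hM]
      exact hdvd
    · intro h χ hχ hmem
      apply h
      rw [← Helper77.memLocalIdeal_natCast_iff hM, ← hcc]
      have h1 : MemLocalIdeal M (centralChar (χ₀ : G → ℂ) g - centralChar (χ : G → ℂ) g) := hχ g
      have h2 := Helper77.memLocalIdeal_add M h1 hmem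
      rwa [sub_add_cancel] at h2
  have hfac : ∀ g : G, ¬ p ∣ (Subgroup.centralizer ({g} : Set G)).index →
      (Nat.card (Subgroup.centralizer ({g} : Set G))).factorization p =
        (Nat.card G).factorization p := by
    intro g hg
    have h1 := Subgroup.card_mul_index (Subgroup.centralizer ({g} : Set G))
    rw [← h1, Nat.factorization_mul Nat.card_pos.ne'
      (Subgroup.index_ne_zero_of_finite), Finsupp.add_apply,
      Nat.factorization_eq_zero_of_not_dvd hg, add_zero]
  constructor
  · rintro ⟨g, ⟨_, _, hcen⟩, P, rfl⟩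
    have hnd := (key g).mp hcen
    have hcard : Nat.card ((P : Subgroup (Subgroup.centralizer ({g} : Set G))).map
        (Subgroup.centralizer ({g} : Set G)).subtype) = p ^ (Nat.card G).factorization p := by
      rw [Subgroup.card_map_of_injective (Subgroup.subtype_injective _), ← hfac g hnd]
      exact P.card_eq_multiplicity
    exact ⟨Sylow.ofCard _ hcard, Sylow.coe_ofCard _ hcard⟩
  · rintro ⟨S, rfl⟩
    -- the sum of the block idempotent's coefficients is 1
    obtain ⟨hcl, hR, hom⟩ := Helper16.osima_strong (M := M) χ₀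
    have hsum1 : ∑ x : G, blockCoeff (principalBlock M G) x = 1 := by
      have h1 := hom χ₀
      rw [if_pos (Helper16.sameBlock_refl _)] at h1
      rw [← h1]
      unfold Helper16.omega
      show _ = (∑ x : G, blockCoeff (blockOf M (χ₀ : G → ℂ)) x * 1) / 1
      simp only [mul_one, div_one]
      rfl
    let _ : MulAction (S : Subgroup G) G := Helper16.conjActionOn (S : Subgroup G)
    obtain ⟨x, hxfix, hxI⟩ := Helper16.exists_fixed_of_sum_not_memLocalIdeal (M := M) hM.2.2
      (Γ := (S : Subgroup G)) (X := G) S.isPGroup' (blockCoeff (principalBlock M G))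
      (fun g => hR g) (fun u g => hcl g (u : G))
      (by rw [hsum1]; exact Helper77.not_memLocalIdeal_one M)
    have hSle : (S : Subgroup G) ≤ Subgroup.centralizer ({x} : Set G) := by
      intro u hu
      rw [Subgroup.mem_centralizer_singleton_iff]
      have h1 : u * x * u⁻¹ = x := hxfix ⟨u, hu⟩
      calc u * x = u * x * u⁻¹ * u := by group
        _ = x * u := by rw [h1]
    have hnd : ¬ p ∣ (Subgroup.centralizer ({x} : Set G)).index := by
      intro hdvd
      exact S.not_dvd_index (dvd_trans hdvd (Subgroup.index_dvd_of_le hSle))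
    refine ⟨x, ⟨hR x, hxI, (key x).mpr hnd⟩, ?_⟩
    have h1 := (Helper16.sylowIn_iff p (Subgroup.centralizer ({x} : Set G)) (S : Subgroup G)).mpr
      ⟨hSle, by rw [hfac x hnd]; exact S.card_eq_multiplicity⟩
    obtain ⟨P, hP⟩ := h1
    exact ⟨P, hP.symm⟩

end Cfsg.Agent.S4652
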