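import Mathlib
import Cfsg.Prelude.Def_Classical
import Cfsg.Agent.Helper45.FiniteFields
import Cfsg.Agent.Helper45.UnitaryOrth

set_option autoImplicit false
open Matrix

namespace Cfsg.Agent.S0281

open Cfsg.Agent.Helper45

section Alg
variable {F : Type*} [Field F] (bar : F →+* F)

/-- the standard symplectic 2x2 matrix -/
def J2 : Matrix (Fin 2) (Fin 2) F := !![0, 1; -1, 0]

theorem J2_mul_J2 : (J2 : Matrix (Fin 2) (Fin 2) F) * J2 = -1 := by
  ext i j
  fin_cases i <;> fin_cases j <;> simp [J2, Matrix.mul_apply, Fin.sum_univ_two]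

theorem J2_map : (J2 : Matrix (Fin 2) (Fin 2) F).map bar = J2 := by
  ext i j
  fin_cases i <;> fin_cases j <;> simp [J2]

theorem transpose_J2_mul (A : Matrix (Fin 2) (Fin 2) F) : Aᵀ * J2 * A = A.det • J2 := by
  ext i j
  fin_cases i <;> fin_cases j <;> simp [J2, Matrix.mul_apply, Fin.sum_univ_two, det_fin_two] <;> ring

/-- the sesquilinear form -/
def herm (u v : Fin 2 → F) : F := ∑ i, u i * bar (v i)

theorem herm_eq (u v : Fin 2 → F) : herm bar u v = u ⬝ᵥ (bar ∘ v) := rfl

theorem herm_mulVec (g : Matrix (Fin 2) (Fin 2) F) (u v : Fin 2 → F) :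
    herm bar (g *ᵥ u) (g *ᵥ v) = u ⬝ᵥ ((gᵀ * g.map bar) *ᵥ (bar ∘ v)) := by
  rw [herm_eq]
  have : bar ∘ (g *ᵥ v) = g.map bar *ᵥ (bar ∘ v) := by
    ext i
    show bar ((g *ᵥ v) i) = _
    exact RingHom.map_mulVec bar g v i
  rw [this]
  conv_rhs => rw [← mulVec_mulVec, dotProduct_mulVec, vecMul_transpose]

theorem herm_of_unitary (g : Matrix (Fin 2) (Fin 2) F) (hg : gᵀ * g.map bar = 1) (u v : Fin 2 → F) :
    herm bar (g *ᵥ u) (g *ᵥ v) = herm bar u v := by
  rw [herm_mulVec, hg, one_mulVec, herm_eq]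

theorem unitary_of_herm (g : Matrix (Fin 2) (Fin 2) F)
    (hg : ∀ u v, herm bar (g *ᵥ u) (g *ᵥ v) = herm bar u v) : gᵀ * g.map bar = 1 := by
  ext i j
  have h := hg (Pi.single i 1) (Pi.single j 1)
  rw [herm_mulVec, herm_eq] at h
  have e : bar ∘ (Pi.single j 1 : Fin 2 → F) = Pi.single j 1 := by
    ext k
    by_cases hk : k = j
    · subst hk; simp
    · simp [hk]
  rw [e, mulVec_single_one, single_one_dotProduct, single_one_dotProduct] at h
  rw [one_apply]
  simpa [Pi.single_apply, eq_comm] using h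

variable (P P' : Matrix (Fin 2) (Fin 2) F) (ε : F) (hPP' : P * P' = 1) (hε : ε ≠ 0)
  (hP : Pᵀ * (ε • J2) * P.map bar = 1)

include hPP' hP in
theorem key_H : P'ᵀ * P'.map bar = ε • J2 := by
  have h1 : P'ᵀ * Pᵀ = 1 := by rw [← transpose_mul, hPP', transpose_one]
  have h2 : P.map bar * P'.map bar = 1 := by
    rw [← Matrix.map_mul, hPP', Matrix.map_one _ (map_zero bar) (map_one bar)]
  calc P'ᵀ * P'.map bar = P'ᵀ * (Pᵀ * (ε • J2) * P.map bar) * P'.map bar := by rw [hP, Matrix.mul_one]
    _ = (P'ᵀ * Pᵀ) * (ε • J2) * (P.map bar * P'.map bar) := by simp only [Matrix.mul_assoc]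
    _ = ε • J2 := by rw [h1, h2, Matrix.one_mul, Matrix.mul_one]

include hPP' hP in
theorem unitary_of_real (A : Matrix (Fin 2) (Fin 2) F) (hA : A.map bar = A) (hdet : A.det = 1) :
    (P' * A * P)ᵀ * (P' * A * P).map bar = 1 := by
  have hH := key_H bar P P' ε hPP' hP
  rw [transpose_mul, transpose_mul, Matrix.map_mul, Matrix.map_mul, hA]
  calc Pᵀ * (Aᵀ * P'ᵀ) * (P'.map bar * A * P.map bar)
      = Pᵀ * (Aᵀ * (P'ᵀ * P'.map bar) * A) * P.map bar := by simp only [Matrix.mul_assoc]
    _ = Pᵀ * (ε • (Aᵀ * J2 * A)) * P.map bar := by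
        rw [hH]
        simp only [Matrix.mul_smul, Matrix.smul_mul]
    _ = 1 := by rw [transpose_J2_mul, hdet, one_smul, hP]

include hPP' hP hε in
theorem real_of_unitary (g : Matrix (Fin 2) (Fin 2) F) (hg : gᵀ * g.map bar = 1) (hdet : g.det = 1) :
    (P * g * P').map bar = P * g * P' := by
  have hH := key_H bar P P' ε hPP' hP
  set A := P * g * P' with hA
  have hdetA : A.det = 1 := by
    rw [hA, det_mul, det_mul, hdet, mul_one, ← det_mul, hPP', det_one]
  have h1 : Aᵀ * (ε • J2) * A.map bar = ε • J2 := by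
    rw [hA, transpose_mul, transpose_mul, Matrix.map_mul, Matrix.map_mul]
    calc P'ᵀ * (gᵀ * Pᵀ) * (ε • J2) * (P.map bar * g.map bar * P'.map bar)
        = P'ᵀ * (gᵀ * (Pᵀ * (ε • J2) * P.map bar) * g.map bar) * P'.map bar := by
          simp only [Matrix.mul_assoc]
      _ = P'ᵀ * P'.map bar := by rw [hP, Matrix.mul_one, hg, Matrix.mul_one]
      _ = ε • J2 := hH
  have h2 : Aᵀ * J2 * A.map bar = J2 := by
    have : ε • (Aᵀ * J2 * A.map bar) = ε • J2 := by
      rw [← h1]
      simp only [Matrix.mul_smul, Matrix.smul_mul]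
    have h3 := congrArg (fun M => ε⁻¹ • M) this
    simpa [smul_smul, inv_mul_cancel₀ hε] using h3
  have h3 : Aᵀ * J2 * A = J2 := by rw [transpose_J2_mul, hdetA, one_smul]
  -- left inverse
  set L := -(J2 * Aᵀ * J2) with hL
  have hLA : L * A = 1 := by
    rw [hL, Matrix.neg_mul]
    calc -(J2 * Aᵀ * J2 * A) = -(J2 * (Aᵀ * J2 * A)) := by simp only [Matrix.mul_assoc]
      _ = 1 := by rw [h3, J2_mul_J2, neg_neg]
  have hLA' : L * A.map bar = 1 := by
    rw [hL, Matrix.neg_mul]
    calc -(J2 * Aᵀ * J2 * A.map bar) = -(J2 * (Aᵀ * J2 * A.map bar)) := by simp only [Matrix.mul_assoc]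
      _ = 1 := by rw [h2, J2_mul_J2, neg_neg]
  have hAL : A * L = 1 := mul_eq_one_comm.1 hLA
  calc A.map bar = (A * L) * A.map bar := by rw [hAL, Matrix.one_mul]
    _ = A * (L * A.map bar) := by rw [Matrix.mul_assoc]
    _ = A := by rw [hLA', Matrix.mul_one]


theorem P_identity (θ l : F) (hinv : bar (bar θ) = θ) (hl : l * bar l = -1) (hd : θ - bar θ ≠ 0) :
    (!![θ, l * bar θ; 1, l] : Matrix (Fin 2) (Fin 2) F)ᵀ * ((θ - bar θ)⁻¹ • J2) *
      (!![θ, l * bar θ; 1, l] : Matrix (Fin 2) (Fin 2) F).map bar = 1 := by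
  ext i j
  fin_cases i <;> fin_cases j
  · simp [J2, Matrix.mul_apply, Fin.sum_univ_two]
    field_simp
    ring
  · simp [J2, Matrix.mul_apply, Fin.sum_univ_two, hinv]
    ring
  · simp [J2, Matrix.mul_apply, Fin.sum_univ_two]
    ring
  · simp [J2, Matrix.mul_apply, Fin.sum_univ_two, hinv]
    field_simp
    linear_combination (bar θ - θ) * hl

end Alg

section Data
variable {F K : Type*} [Field F] [Fintype F] [Field K] [Fintype K] [Algebra K F]

/-- The change-of-basis data: a matrix `P` carrying the standard Hermitian form to `ε • J2`. -/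
theorem exists_data (hF : Fintype.card F = Fintype.card K ^ 2) :
    ∃ (P P' : Matrix (Fin 2) (Fin 2) F) (ε : F), P * P' = 1 ∧ P' * P = 1 ∧ ε ≠ 0 ∧
      Pᵀ * (ε • J2) * P.map (frob K F : F →+* F) = 1 := by
  have hq : 1 < Fintype.card K := Fintype.one_lt_card
  -- an element not fixed by the involution
  obtain ⟨θ, hθ⟩ : ∃ θ : F, frob K F θ ≠ θ := by
    by_contra hne
    simp only [not_exists, not_not] at hne
    have hsurj : Function.Surjective (algebraMap K F) := by
      intro x
      exact mem_range_of_pow_card_eq (F := K) x (hne x)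
    have := Fintype.card_le_of_surjective _ hsurj
    rw [hF] at this
    nlinarith
  obtain ⟨l, hl⟩ := exists_norm_neg_one (F := K) (K := F) hF
  have hinv : ∀ x : F, frob K F (frob K F x) = x := by
    intro x
    show (x ^ Fintype.card K) ^ Fintype.card K = x
    rw [← pow_mul, ← sq, ← hF, FiniteField.pow_card]
  have hd : θ - frob K F θ ≠ 0 := fun h => hθ (sub_eq_zero.1 h).symm
  have hl0 : l ≠ 0 := by
    rintro rfl
    rw [zero_mul] at hl
    exact absurd hl (by norm_num)
  set P : Matrix (Fin 2) (Fin 2) F := !![θ, l * frob K F θ; 1, l] with hPdef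
  have hdet : P.det = l * (θ - frob K F θ) := by
    rw [hPdef, det_fin_two_of]
    ring
  have hunit : IsUnit P.det := by
    rw [hdet]
    exact (mul_ne_zero hl0 hd).isUnit
  exact ⟨P, P⁻¹, (θ - frob K F θ)⁻¹, mul_nonsing_inv P hunit, nonsing_inv_mul P hunit,
    inv_ne_zero hd, P_identity (frob K F : F →+* F) θ l (hinv θ) hl hd⟩

end Data

section Grp
variable {F K : Type*} [Field F] [Fintype F] [Field K] [Fintype K] [Algebra K F]

theorem mem_SU_iff (g : SpecialLinearGroup (Fin 2) F) :
    g ∈ Cfsg.SU 2 F (Fintype.card K) ↔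
      ∀ u v, herm (frob K F : F →+* F) (g.1 *ᵥ u) (g.1 *ᵥ v) = herm (frob K F : F →+* F) u v :=
  Iff.rfl

variable (P P' : Matrix (Fin 2) (Fin 2) F) (ε : F) (hPP' : P * P' = 1) (hP'P : P' * P = 1) (hε : ε ≠ 0)
  (hP : Pᵀ * (ε • J2) * P.map (frob K F : F →+* F) = 1)

/-- conjugation composed with the field embedding -/
def conjHom (hPP' : P * P' = 1) (hP'P : P' * P = 1) :
    Matrix (Fin 2) (Fin 2) K →* Matrix (Fin 2) (Fin 2) F where
  toFun A := P' * A.map (algebraMap K F) * P
  map_one' := by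
    rw [Matrix.map_one _ (map_zero _) (map_one _), Matrix.mul_one, hP'P]
  map_mul' A B := by
    rw [Matrix.map_mul]
    calc P' * (A.map (algebraMap K F) * B.map (algebraMap K F)) * P
        = P' * A.map (algebraMap K F) * 1 * B.map (algebraMap K F) * P := by
          simp only [Matrix.mul_assoc, Matrix.one_mul]
      _ = _ := by
          rw [← hPP']
          simp only [Matrix.mul_assoc]

theorem conjHom_apply (A : Matrix (Fin 2) (Fin 2) K) :
    conjHom P P' hPP' hP'P A = P' * A.map (algebraMap K F) * P := rfl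

theorem det_conjHom (A : Matrix (Fin 2) (Fin 2) K) :
    (conjHom P P' hPP' hP'P A).det = algebraMap K F A.det := by
  rw [conjHom_apply, det_mul, det_mul, mul_right_comm, ← det_mul, hP'P, det_one, one_mul,
    RingHom.map_det]
  rfl

theorem conjHom_injective : Function.Injective (conjHom (K := K) P P' hPP' hP'P) := by
  intro A B h
  rw [conjHom_apply, conjHom_apply] at h
  have h1 : P * (P' * A.map (algebraMap K F) * P) * P' = P * (P' * B.map (algebraMap K F) * P) * P' := by
    rw [h]
  have e : ∀ X : Matrix (Fin 2) (Fin 2) F, P * (P' * X * P) * P' = X := by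
    intro X
    calc P * (P' * X * P) * P' = (P * P') * X * (P * P') := by simp only [Matrix.mul_assoc]
      _ = X := by rw [hPP', Matrix.one_mul, Matrix.mul_one]
  rw [e, e] at h1
  exact Matrix.map_injective (algebraMap K F).injective h1

/-- the hom `SL₂(K) → SL₂(F)` -/
def slHom : SpecialLinearGroup (Fin 2) K →* SpecialLinearGroup (Fin 2) F where
  toFun g := ⟨conjHom P P' hPP' hP'P g.1, by rw [det_conjHom, g.2, map_one]⟩
  map_one' := Subtype.ext (map_one (conjHom P P' hPP' hP'P))
  map_mul' g k := Subtype.ext (map_mul (conjHom P P' hPP' hP'P) g.1 k.1)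

theorem slHom_coe (g : SpecialLinearGroup (Fin 2) K) :
    (slHom P P' hPP' hP'P g).1 = P' * g.1.map (algebraMap K F) * P := rfl

include hP in
theorem slHom_mem (g : SpecialLinearGroup (Fin 2) K) :
    slHom P P' hPP' hP'P g ∈ Cfsg.SU 2 F (Fintype.card K) := by
  rw [mem_SU_iff]
  apply herm_of_unitary
  rw [slHom_coe]
  apply unitary_of_real _ P P' ε hPP' hP
  · ext i j
    simp only [Matrix.map_apply]
    exact (frob K F).commutes (g.1 i j)
  · have := RingHom.map_det (algebraMap K F) g.1
    rw [g.2, map_one] at this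
    exact this.symm

/-- the hom into `SU₂` -/
def suHom : SpecialLinearGroup (Fin 2) K →* Cfsg.SU 2 F (Fintype.card K) :=
  (slHom P P' hPP' hP'P).codRestrict _ (slHom_mem P P' ε hPP' hP'P hP)

theorem suHom_coe (g : SpecialLinearGroup (Fin 2) K) :
    (suHom P P' ε hPP' hP'P hP g).1.1 = P' * g.1.map (algebraMap K F) * P := rfl

include hε in
theorem suHom_bijective : Function.Bijective (suHom P P' ε hPP' hP'P hP) := by
  constructor
  · intro g k h
    have h1 : conjHom P P' hPP' hP'P g.1 = conjHom P P' hPP' hP'P k.1 := by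
      have := congrArg (fun x : Cfsg.SU 2 F (Fintype.card K) => x.1.1) h
      exact this
    exact Subtype.ext (conjHom_injective P P' hPP' hP'P h1)
  · rintro ⟨g, hg⟩
    rw [mem_SU_iff] at hg
    have hM := unitary_of_herm _ _ hg
    have hreal := real_of_unitary _ P P' ε hPP' hε hP g.1 hM g.2
    have hentry : ∀ i j, ∃ c : K, algebraMap K F c = (P * g.1 * P') i j := by
      intro i j
      apply mem_range_of_pow_card_eq (F := K)
      have := congrFun (congrFun hreal i) j
      rw [Matrix.map_apply] at this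
      exact this
    choose A hA using hentry
    have hA' : (Matrix.of A).map (algebraMap K F) = P * g.1 * P' := by
      ext i j
      exact hA i j
    have hdetA : (Matrix.of A).det = 1 := by
      apply (algebraMap K F).injective
      rw [RingHom.map_det, map_one]
      show ((Matrix.of A).map (algebraMap K F)).det = 1
      rw [hA', det_mul, det_mul, g.2, mul_one, ← det_mul, hPP', det_one]
    refine ⟨⟨Matrix.of A, hdetA⟩, ?_⟩
    apply Subtype.ext
    apply Subtype.ext
    show P' * (Matrix.of A).map (algebraMap K F) * P = g.1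
    rw [hA']
    calc P' * (P * g.1 * P') * P = (P' * P) * g.1 * (P' * P) := by simp only [Matrix.mul_assoc]
      _ = g.1 := by rw [hP'P, Matrix.one_mul, Matrix.mul_one]

end Grp

theorem result {F K : Type*} [Field F] [Fintype F] [Field K] [Fintype K] {q : ℕ} (hF : Fintype.card F = q ^ 2) (hK : Fintype.card K = q) : Nonempty (Cfsg.SU 2 F q ≃* Matrix.SpecialLinearGroup (Fin 2) K) := by
  subst hK
  obtain ⟨alg, -⟩ := exists_algebra_of_card_sq (K := F) (F := K) hF rfl
  let _ := alg
  obtain ⟨P, P', ε, hPP', hP'P, hε, hP⟩ := exists_data (F := F) (K := K) hF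
  exact ⟨(MulEquiv.ofBijective (suHom P P' ε hPP' hP'P hP) (suHom_bijective P P' ε hPP' hP'P hε hP)).symm⟩

end Cfsg.Agent.S0281
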