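import Cfsg.Statements.S3784
import Mathlib

set_option autoImplicit false
open Cfsg

namespace Cfsg.Agent.S3784

/-- an odd divisor of a power of two is one -/
theorem eq_one_of_odd_of_dvd_two_pow {k n : ℕ} (hk : Odd k) (hd : k ∣ 2 ^ n) : k = 1 := by
  obtain ⟨i, _, rfl⟩ := (Nat.dvd_prime_pow Nat.prime_two).mp hd
  rcases Nat.eq_zero_or_pos i with rfl | hi
  · simp
  · exfalso
    have : Even (2 ^ i) := (Nat.even_pow' hi.ne').mpr even_two
    exact (Nat.not_odd_iff_even.mpr this) hk

/-- a sum of an odd number of odd naturals is odd -/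
theorem odd_geom_sum {x n : ℕ} (hx : Odd x) (hn : Odd n) : Odd (∑ i ∈ Finset.range n, x ^ i) := by
  rw [Finset.odd_sum_iff_odd_card_odd]
  have : (Finset.range n).filter (fun i => Odd (x ^ i)) = Finset.range n := by
    apply Finset.filter_true_of_mem
    intro i _
    exact hx.pow
  rw [this, Finset.card_range]
  exact hn

theorem int_parity_sum (f : ℕ → ℤ) (hf : ∀ i, Odd (f i)) : ∀ n : ℕ,
    (Even n → Even (∑ i ∈ Finset.range n, f i)) ∧ (Odd n → Odd (∑ i ∈ Finset.range n, f i)) := by
  intro n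
  induction n with
  | zero => simp
  | succ n ih =>
    rw [Finset.sum_range_succ]
    constructor
    · intro h
      have hn : Odd n := by
        rcases Nat.even_or_odd n with h' | h'
        · exact absurd h (Nat.not_even_iff_odd.mpr (Even.add_one h'))
        · exact h'
      exact (ih.2 hn).add_odd (hf n)
    · intro h
      have hn : Even n := by
        rcases Nat.even_or_odd n with h' | h'
        · exact h'
        · exact absurd h (Nat.not_odd_iff_even.mpr (Odd.add_one h'))
      exact (ih.1 hn).add_odd (hf n)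

theorem odd_sq_mod_four {x : ℕ} (hx : Odd x) : x * x % 4 = 1 := by
  have h : x % 4 = 1 ∨ x % 4 = 3 := by
    have := Nat.odd_iff.mp hx
    omega
  rcases h with h | h <;> simp [Nat.mul_mod, h]

/-- case `q = 2`, `a ≥ 2`: the only solution of `p ^ a = 2 ^ b + 1` is `9 = 8 + 1`. -/
theorem case_q_two {p a b : ℕ} (hp : p.Prime) (hpo : Odd p) (ha : 2 ≤ a) (h : p ^ a = 2 ^ b + 1) :
    p ^ a = 9 ∧ 2 ^ b = 8 := by
  have hp2 : 2 ≤ p := hp.two_le
  rcases Nat.even_or_odd a with hae | hao
  · -- a = 2c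
    obtain ⟨c, rfl⟩ := hae
    have hc : 1 ≤ c := by omega
    set x := p ^ c with hx
    have hxx : x * x = 2 ^ b + 1 := by rw [← h, hx, ← pow_add]
    have hx3 : 3 ≤ x := by
      have h1 : p ^ 1 ≤ p ^ c := Nat.pow_le_pow_right hp.pos hc
      have hp3 : 3 ≤ p := by
        rcases hpo with ⟨k, hk⟩
        omega
      simp only [pow_one] at h1
      omega
    have hfac : (x - 1) * (x + 1) = 2 ^ b := by
      have : (x - 1) * (x + 1) = x * x - 1 := by
        zify [show 1 ≤ x by omega, show 1 ≤ x * x by nlinarith]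
        ring
      rw [this, hxx]
      simp
    have hd1 : (x - 1) ∣ 2 ^ b := Dvd.intro _ hfac
    have hd2 : (x + 1) ∣ 2 ^ b := Dvd.intro_left _ hfac
    obtain ⟨i, _, hi⟩ := (Nat.dvd_prime_pow Nat.prime_two).mp hd1
    obtain ⟨j, _, hj⟩ := (Nat.dvd_prime_pow Nat.prime_two).mp hd2
    have hij : 2 ^ j = 2 ^ i + 2 := by omega
    have hi1 : 1 ≤ i := by
      rcases Nat.eq_zero_or_pos i with rfl | hi0
      · simp at hi; omega
      · exact hi0
    have hilt : i < j := by
      have : 2 ^ i < 2 ^ j := by omega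
      exact (Nat.pow_lt_pow_iff_right (by norm_num)).mp this
    have hi_eq : i = 1 := by
      by_contra hne
      have hi2 : 2 ≤ i := by omega
      have h4i : 4 ∣ 2 ^ i := by
        have : (2:ℕ) ^ 2 ∣ 2 ^ i := pow_dvd_pow 2 hi2
        simpa using this
      have h4j : 4 ∣ 2 ^ j := by
        have : (2:ℕ) ^ 2 ∣ 2 ^ j := pow_dvd_pow 2 (by omega)
        simpa using this
      omega
    subst hi_eq
    have hx_eq : x = 3 := by simp at hi; omega
    have hpc : p = 3 ∧ c = 1 := (Nat.Prime.pow_eq_iff Nat.prime_three).mp (hx ▸ hx_eq)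
    obtain ⟨rfl, rfl⟩ := hpc
    constructor
    · norm_num
    · have : (3:ℕ) ^ (1 + 1) = 9 := by norm_num
      omega
  · -- a odd, a ≥ 3: contradiction
    exfalso
    have hgeom : (∑ i ∈ Finset.range a, p ^ i) * (p - 1) = p ^ a - 1 :=
      geom_sum_mul_of_one_le (show 1 ≤ p by omega) a
    have hT : (∑ i ∈ Finset.range a, p ^ i) ∣ 2 ^ b := by
      have : p ^ a - 1 = 2 ^ b := by rw [h]; simp
      rw [← this, ← hgeom]
      exact Dvd.intro _ rfl
    have hTodd := odd_geom_sum hpo hao
    have hT1 := eq_one_of_odd_of_dvd_two_pow hTodd hT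
    have hTbig : 1 + p ≤ ∑ i ∈ Finset.range a, p ^ i := by
      have hsub : Finset.range 2 ⊆ Finset.range a := Finset.range_subset_range.mpr ha
      calc 1 + p = ∑ i ∈ Finset.range 2, p ^ i := by simp [Finset.sum_range_succ]
        _ ≤ ∑ i ∈ Finset.range a, p ^ i := Finset.sum_le_sum_of_subset hsub
    omega

/-- case `p = 2`: `2 ^ a = q ^ b + 1` with `q` odd forces `b = 1`. -/
theorem case_p_two {q a b : ℕ} (hq : q.Prime) (hqo : Odd q) (hb : 1 ≤ b) (h : 2 ^ a = q ^ b + 1) :
    b = 1 := by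
  have hq2 : 2 ≤ q := hq.two_le
  have hqb : 2 ≤ q ^ b := by
    calc 2 ≤ q := hq2
      _ = q ^ 1 := (pow_one q).symm
      _ ≤ q ^ b := Nat.pow_le_pow_right hq.pos hb
  have ha2 : 2 ≤ a := by
    by_contra hlt
    have : a = 0 ∨ a = 1 := by omega
    rcases this with rfl | rfl <;> simp at h <;> omega
  have h4 : 4 ∣ 2 ^ a := by
    have : (2:ℕ) ^ 2 ∣ 2 ^ a := pow_dvd_pow 2 ha2
    simpa using this
  rcases Nat.even_or_odd b with hbe | hbo
  · exfalso
    obtain ⟨c, rfl⟩ := hbe
    have hodd : Odd (q ^ c) := hqo.pow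
    have := odd_sq_mod_four hodd
    rw [← pow_add] at this
    omega
  · -- b odd: work in ℤ
    have hS : (∑ i ∈ Finset.range b, (-(q:ℤ)) ^ i) * ((q:ℤ) + 1) = (2:ℤ) ^ a := by
      have h1 := geom_sum_mul (-(q:ℤ)) b
      rw [hbo.neg_pow] at h1
      have h2 : ((2:ℤ)) ^ a = (q:ℤ) ^ b + 1 := by exact_mod_cast h
      rw [h2]
      linarith
    set S : ℤ := ∑ i ∈ Finset.range b, (-(q:ℤ)) ^ i with hSdef
    have hSodd : Odd S := by
      apply (int_parity_sum (fun i => (-(q:ℤ)) ^ i) _ b).2 hbo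
      intro i
      have : Odd (q : ℤ) := by exact_mod_cast hqo
      exact this.neg.pow
    have hSdvd : S ∣ (2:ℤ) ^ a := Dvd.intro _ hS
    have hSnat : S.natAbs ∣ 2 ^ a := by
      have := Int.natAbs_dvd_natAbs.mpr hSdvd
      simpa [Int.natAbs_pow] using this
    have hSnatodd : Odd S.natAbs := Int.natAbs_odd.mpr hSodd
    have hS1 := eq_one_of_odd_of_dvd_two_pow hSnatodd hSnat
    have hSpos : 0 < S := by
      by_contra hneg
      rw [not_lt] at hneg
      have h1 : S * ((q:ℤ) + 1) ≤ 0 := by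
        apply mul_nonpos_of_nonpos_of_nonneg hneg
        positivity
      rw [hS] at h1
      have : (0:ℤ) < 2 ^ a := by positivity
      omega
    have hSeq : S = 1 := by
      have := Int.natAbs_of_nonneg hSpos.le
      omega
    rw [hSeq, one_mul] at hS
    have hq' : q + 1 = 2 ^ a := by exact_mod_cast hS
    have hqq : q ^ b = q ^ 1 := by rw [pow_one]; omega
    exact Nat.pow_right_injective hq2 hqq

/-- Let p, q be primes and a, b positive integers with p^a = q^b + 1. Then either p = 2, b = 1, a is prime and q = 2^a − 1; or q = 2, a = 1, b is a power of 2 and p = 2^b + 1; or p^a = 9 and q^b = 8. -/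
theorem result (p q a b : ℕ) (hp : p.Prime) (hq : q.Prime) (ha : 1 ≤ a) (hb : 1 ≤ b) (h : p ^ a = q ^ b + 1) : (p = 2 ∧ b = 1 ∧ a.Prime ∧ q + 1 = 2 ^ a) ∨ (q = 2 ∧ a = 1 ∧ (∃ m : ℕ, b = 2 ^ m) ∧ p = 2 ^ b + 1) ∨ (p ^ a = 9 ∧ q ^ b = 8) := by
  rcases hp.eq_two_or_odd' with rfl | hpo
  · -- p = 2
    rcases hq.eq_two_or_odd' with rfl | hqo
    · exfalso
      have h1 : Even (2 ^ a) := (Nat.even_pow' (by omega)).mpr even_two
      have h2 : Even (2 ^ b) := (Nat.even_pow' (by omega)).mpr even_two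
      rw [h] at h1
      have : Odd (2 ^ b + 1) := h2.add_one
      exact (Nat.not_even_iff_odd.mpr this) h1
    · left
      have hb1 := case_p_two hq hqo hb h
      subst hb1
      rw [pow_one] at h
      refine ⟨rfl, rfl, ?_, h.symm⟩
      have ha1 : a ≠ 1 := by
        rintro rfl
        have := hq.two_le
        omega
      have hqeq : q = 2 ^ a - 1 := by omega
      rw [hqeq] at hq
      exact (Nat.prime_of_pow_sub_one_prime ha1 hq).2
  · -- p odd
    rcases hq.eq_two_or_odd' with rfl | hqo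
    · right
      rcases Nat.lt_or_ge a 2 with ha2 | ha2
      · left
        have ha1 : a = 1 := by omega
        subst ha1
        rw [pow_one] at h
        refine ⟨rfl, rfl, ?_, h⟩
        rw [h] at hp
        exact Nat.pow_of_pow_add_prime (by norm_num) (by omega) hp
      · right
        exact case_q_two hp hpo ha2 h
    · exfalso
      have h1 : Odd (p ^ a) := hpo.pow
      have h2 : Odd (q ^ b) := hqo.pow
      rw [h] at h1
      have : Even (q ^ b + 1) := h2.add_one
      exact (Nat.not_odd_iff_even.mpr this) h1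

end Cfsg.Agent.S3784
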