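import Cfsg.Statements.S0881
import Cfsg.Agent.Helper15.ZassInv
import Cfsg.Agent.Helper15.IndChar
import Cfsg.Agent.Helper15.LinChar
import Cfsg.Agent.Helper38.MackeyTwo

set_option autoImplicit false
open Cfsg

namespace Cfsg.Agent.S0881

open MulAction
open Cfsg.Agent.Helper15
open Cfsg.Agent.Helper15.Zass
open Cfsg.Agent.Helper60.Zassenhaus
open scoped ComplexConjugate

/-- The Frobenius kernel `H` of a point stabilizer is transitive on the remaining points. -/
theorem exists_mem_kernel_smul_eq {G Ω : Type*} [Group G] [Finite G] [MulAction G Ω] [Fintype Ω]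
    (a : Ω) (H : Subgroup G) (hHa : H ≤ stabilizer G a)
    (hHcard : Nat.card H + 1 = Fintype.card Ω)
    (hHfix : ∀ u ∈ H, u ≠ 1 → ∀ c : Ω, u • c = c → c = a) {c c' : Ω} (hc : c ≠ a)
    (hc' : c' ≠ a) : ∃ u ∈ H, u • c = c' := by
  classical
  have hne : ∀ u : H, (u : G) • c ≠ a := by
    intro u h
    have hua : (u : G) • a = a := hHa u.2
    rw [← hua] at h
    exact hc (MulAction.injective (u : G) h)
  let f : H → {x : Ω // x ≠ a} := fun u => ⟨(u : G) • c, hne u⟩
  have hinj : Function.Injective f := by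
    intro u u' h
    have h1 : (u : G) • c = (u' : G) • c := congrArg Subtype.val h
    have h2 : ((u' : G)⁻¹ * (u : G)) • c = c := by
      rw [mul_smul, h1, inv_smul_smul]
    by_contra hne'
    have h3 : (u' : G)⁻¹ * (u : G) ≠ 1 := by
      intro h4
      apply hne'
      apply Subtype.ext
      have : (u : G) = (u' : G) * ((u' : G)⁻¹ * (u : G)) := by group
      rw [this, h4, mul_one]
    exact hc (hHfix _ (H.mul_mem (H.inv_mem u'.2) u.2) h3 c h2)
  have hcard : Nat.card {x : Ω // x ≠ a} ≤ Nat.card H := by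
    rw [Nat.card_eq_fintype_card, Fintype.card_subtype_compl, Fintype.card_subtype_eq]
    omega
  have hbij := hinj.bijective_of_nat_card_le hcard
  obtain ⟨u, hu⟩ := hbij.2 ⟨c', hc'⟩
  exact ⟨u, u.2, congrArg Subtype.val hu⟩

/-- Let G be a finite simple Zassenhaus group on Ω with n points, a ≠ b points with two-point stabilizer E of odd order less than n - 2, and let H be the subgroup of the stabilizer of a consisting of the identity and the elements fixing no point other than a (given here as a subgroup of the stabilizer of order one less than the number of points whose non-identity elements fix only a; it is the Frobenius kernel of the stabilizer). Let μ be a character of degree 1 of the stabilizer of a that is identically 1 on H but not identically 1. Then the function induced from μ to G is an irreducible character of G, and it takes the value 1 at every non-identity element of H. -/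
theorem result {G Ω : Type*} [Group G] [Fintype G] [MulAction G Ω] [Fintype Ω] (hZ : Cfsg.IsZassenhausGroup G Ω) {a b : Ω} (hab : a ≠ b) [IsSimpleGroup G] (hodd : Odd (Nat.card ↥(MulAction.stabilizer G a ⊓ MulAction.stabilizer G b : Subgroup G))) (hlt : Nat.card ↥(MulAction.stabilizer G a ⊓ MulAction.stabilizer G b : Subgroup G) < Fintype.card Ω - 2) (H : Subgroup G) (hHa : H ≤ MulAction.stabilizer G a) (hHcard : Nat.card H + 1 = Fintype.card Ω) (hHfix : ∀ u ∈ H, u ≠ 1 → ∀ c : Ω, u • c = c → c = a) (μ : MulAction.stabilizer G a → ℂ) (hμ : Cfsg.IsCharacter (MulAction.stabilizer G a) μ ∧ μ 1 = 1) (hμH : ∀ u : MulAction.stabilizer G a, (u : G) ∈ H → μ u = 1) (hμne : μ ≠ fun _ => 1) : Cfsg.IsIrrCharacter G (Cfsg.indFun (MulAction.stabilizer G a) μ) ∧ ∀ u ∈ H, u ≠ 1 → Cfsg.indFun (MulAction.stabilizer G a) μ u = 1 := by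
  classical
  have h2 := hZ.2.1
  let μ' : ↥(stabilizer G a) →* ℂ := linCharHom hμ.1 hμ.2
  have hμ' : ∀ x : ↥(stabilizer G a), μ' x = μ x := fun x => linCharHom_apply hμ.1 hμ.2 x
  have hNa0 : (Nat.card ↥(stabilizer G a) : ℂ) ≠ 0 := by exact_mod_cast Nat.card_pos.ne'
  constructor
  · -- irreducibility by Mackey
    have hchar : IsCharacter G (indFun (stabilizer G a) μ) := isCharacter_indFun (stabilizer G a) hμ.1
    apply isIrrCharacter_of_inner_self_eq_one hchar
    have hsep : ∀ x : G, x ∉ (stabilizer G a) → ∃ b₀ : ↥(stabilizer G a), ∃ hb : x⁻¹ * (b₀ : G) * x ∈ (stabilizer G a),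
        μ' b₀ ≠ μ' ⟨x⁻¹ * (b₀ : G) * x, hb⟩ := by
      intro x hx
      have hxa : x • a ≠ a := hx
      set c := x • a with hc
      -- an element of `E_{a,c}` on which `μ` is nontrivial
      have hex : ∃ y : ↥(stabilizer G a), (y : G) • c = c ∧ μ y ≠ 1 := by
        by_contra hcon
        push Not at hcon
        apply hμne
        funext g
        have hgc : (g : G) • c ≠ a := by
          intro h
          have hga : (g : G) • a = a := g.2
          exact hxa (MulAction.injective (g : G) (h.trans hga.symm))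
        obtain ⟨u, huH, huc⟩ := exists_mem_kernel_smul_eq a H hHa hHcard hHfix hxa hgc
        have hy : u⁻¹ * (g : G) ∈ (stabilizer G a) := (stabilizer G a).mul_mem ((stabilizer G a).inv_mem (hHa huH)) g.2
        have hyc : (u⁻¹ * (g : G)) • c = c := by
          rw [mul_smul, ← huc, inv_smul_smul]
        have h1 := hcon ⟨u⁻¹ * (g : G), hy⟩ hyc
        have h3 : g = (⟨u, hHa huH⟩ : ↥(stabilizer G a)) * ⟨u⁻¹ * (g : G), hy⟩ := by
          apply Subtype.ext
          show (g : G) = u * (u⁻¹ * (g : G))
          group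
        rw [h3, linChar_mul hμ.1 hμ.2, h1, hμH ⟨u, hHa huH⟩ huH, mul_one]
      obtain ⟨y, hyc, hy1⟩ := hex
      have hya : (y : G) • a = a := y.2
      have hb : x⁻¹ * (y : G) * x ∈ (stabilizer G a) := by
        show (x⁻¹ * (y : G) * x) • a = a
        rw [mul_smul, mul_smul, ← hc, hyc, hc, inv_smul_smul]
      refine ⟨y, hb, ?_⟩
      -- an element of the stabilizer moving `c` to `x⁻¹ a`
      have hda : x⁻¹ • a ≠ a := by
        intro h
        apply hxa
        rw [hc]
        nth_rewrite 1 [← h]
        rw [smul_inv_smul]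
      obtain ⟨k, hka, hkc⟩ := exists_map2 h2 (Ne.symm hxa) (Ne.symm hda)
      -- `s = x k` interchanges `a` and `c`
      have hsa : (x * k) • a = c := by rw [mul_smul, hka]
      have hsc : (x * k) • c = a := by rw [mul_smul, hkc, smul_inv_smul]
      have hsa' : (x * k)⁻¹ • c = a := by rw [inv_smul_eq_iff, hsa]
      have hsc' : (x * k)⁻¹ • a = c := by rw [inv_smul_eq_iff, hsc]
      have hinv := swap_inverts hZ hab hodd (Ne.symm hxa) hsc' hsa' hya hyc
      rw [inv_inv] at hinv
      -- hence `x⁻¹ y x = k y⁻¹ k⁻¹`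
      have hconj : x⁻¹ * (y : G) * x = k * (y : G)⁻¹ * k⁻¹ := by
        rw [← hinv]; group
      have hkN : k ∈ (stabilizer G a) := hka
      have hval : μ' ⟨x⁻¹ * (y : G) * x, hb⟩ = (μ y)⁻¹ := by
        have : (⟨x⁻¹ * (y : G) * x, hb⟩ : ↥(stabilizer G a)) = (⟨k, hkN⟩ : ↥(stabilizer G a)) * y⁻¹ * (⟨k, hkN⟩ : ↥(stabilizer G a))⁻¹ :=
          Subtype.ext hconj
        rw [this, hμ', linChar_conj hμ.1 hμ.2, linChar_inv hμ.1 hμ.2]
      rw [hval, hμ']
      -- `μ y` has odd order, so `μ y ≠ (μ y)⁻¹`
      intro heq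
      apply hy1
      have hodd' : Odd (Nat.card ↥(stabilizer G a ⊓ stabilizer G c)) := by
        rw [card_stab2_eq h2 hab (Ne.symm hxa)]; exact hodd
      obtain ⟨j, hj⟩ := hodd'
      have hyj : (y : G) ^ (2 * j + 1) = 1 := by
        have h1 : orderOf (y : G) ∣ Nat.card ↥(stabilizer G a ⊓ stabilizer G c) :=
          Subgroup.orderOf_dvd_natCard _ (⟨hya, hyc⟩ : (y : G) ∈ stabilizer G a ⊓ stabilizer G c)
        rw [hj] at h1
        exact orderOf_dvd_iff_pow_eq_one.mp h1
      have hyj' : y ^ (2 * j + 1) = 1 := Subtype.ext (by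
        rw [Subgroup.coe_pow]; exact hyj)
      have h1 : μ y ^ (2 * j + 1) = 1 := by
        rw [← linChar_pow hμ.1 hμ.2, hyj', hμ.2]
      have hy0 : μ y ≠ 0 := linChar_ne_zero hμ.1 hμ.2 y
      have h2' : μ y * μ y = 1 := by
        nth_rewrite 2 [heq]
        exact mul_inv_cancel₀ hy0
      calc μ y = (μ y * μ y) ^ j * μ y := by rw [h2', one_pow, one_mul]
        _ = μ y ^ (2 * j + 1) := by ring
        _ = 1 := h1
    have key := Helper38.classInner_indFun_of_sep (stabilizer G a) μ' μ' hsep
    change classInner (indFun (stabilizer G a) (fun b => μ' b))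
      (indFun (stabilizer G a) (fun b => μ' b)) = 1
    rw [key]
    have : ∀ b : ↥(stabilizer G a), μ' b * conj (μ' b) = 1 := fun b => Helper38.monoidHomC_mul_conj μ' b
    rw [Finset.sum_congr rfl (fun b _ => this b), Finset.sum_const, Finset.card_univ,
      nsmul_eq_mul, mul_one, ← Nat.card_eq_fintype_card, inv_mul_cancel₀ hNa0]
  · -- the value at non-identity elements of `H`
    intro u hu hu1
    rw [indFun_apply]
    have hF : ∀ x : G, extendByZero (stabilizer G a) μ (x⁻¹ * u * x) = extendByZero (stabilizer G a) (fun _ => (1 : ℂ)) x := by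
      intro x
      by_cases hx : x ∈ (stabilizer G a)
      · have hmem : x⁻¹ * u * x ∈ (stabilizer G a) := (stabilizer G a).mul_mem ((stabilizer G a).mul_mem ((stabilizer G a).inv_mem hx) (hHa hu)) hx
        rw [extendByZero_of_mem (stabilizer G a) _ hx, extendByZero_of_mem (stabilizer G a) _ hmem]
        have : (⟨x⁻¹ * u * x, hmem⟩ : ↥(stabilizer G a)) =
            (⟨x, hx⟩ : ↥(stabilizer G a))⁻¹ * ⟨u, hHa hu⟩ * ((⟨x, hx⟩ : ↥(stabilizer G a))⁻¹)⁻¹ := by
          apply Subtype.ext
          show x⁻¹ * u * x = x⁻¹ * u * (x⁻¹)⁻¹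
          rw [inv_inv]
        rw [this, linChar_conj hμ.1 hμ.2, hμH ⟨u, hHa hu⟩ hu]
      · have hmem : x⁻¹ * u * x ∉ (stabilizer G a) := by
          intro h
          have h1 : (x⁻¹ * u * x) • a = a := h
          rw [mul_smul, mul_smul, inv_smul_eq_iff] at h1
          exact hx (hHfix u hu hu1 (x • a) h1)
        rw [extendByZero_of_not_mem (stabilizer G a) _ hx, extendByZero_of_not_mem (stabilizer G a) _ hmem]
    rw [Finset.sum_congr rfl (fun x _ => hF x), sum_extendByZero, Finset.sum_const,
      Finset.card_univ, nsmul_eq_mul, mul_one, ← Nat.card_eq_fintype_card, inv_mul_cancel₀ hNa0]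

end Cfsg.Agent.S0881
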