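import Cfsg.Statements.S1449
import Cfsg.Agent.Helper24.CritSub
import Cfsg.Agent.Helper4.RankTwoAut

set_option autoImplicit false
open Cfsg

namespace Cfsg.Agent.S1449

open scoped commutatorElement
open Cfsg.Agent.Helper24 Cfsg.Agent.Helper4

theorem result {G : Type*} [Group G] [Finite G] (p : ℕ) [Fact p.Prime] (hp : p ≠ 2) (R A : Subgroup G) (hR : IsPGroup p R) (hr : Cfsg.PRankLE p 2 R)
    (hA : (A ≤ Subgroup.normalizer (R : Set G))) (hAs : Group.IsSolvable A) (hAodd : Odd (Nat.card A)) (hfaith : A ⊓ Subgroup.centralizer (R : Set G) = ⊥) :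
    IsPGroup p ↥⁅A, A⁆ := by
  classical
  have hpp : p.Prime := Fact.out
  obtain ⟨D, hDR, hDinv, hDexp, hDcl, hDfaith⟩ := exists_small_exponent_crit (p := p) R hR
  -- `A` normalizes `D`
  have hAD : A ≤ Subgroup.normalizer (D : Set G) := by
    intro a ha
    rw [Subgroup.mem_normalizer_iff]
    intro h
    constructor
    · intro hh
      exact hDinv a (hA ha) h hh
    · intro hh
      have := hDinv a⁻¹ (Subgroup.inv_mem _ (hA ha)) _ hh
      simpa [mul_assoc] using this
  set ψ : ↥A →* MulAut ↥D := (D.normalizerMonoidHom).comp (Subgroup.inclusion hAD) with hψ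
  have hψ_apply : ∀ (a : A) (x : D), ((ψ a x : D) : G) = a * x * a⁻¹ := by
    intro a x
    rfl
  have hexp : ∀ x : D, x ^ p = 1 := by
    intro x
    apply Subtype.ext
    rcases hDexp x x.2 with h | ⟨h, -⟩
    · simpa using h
    · exact absurd h hp
  have hcen : ∀ x y : D, ⁅x, y⁆ ∈ Subgroup.center D := by
    intro x y
    rw [Subgroup.mem_center_iff]
    intro w
    apply Subtype.ext
    have := (hDcl x x.2 y (hDR y.2)).2 w w.2
    show (w : G) * ⁅(x : G), (y : G)⁆ = ⁅(x : G), (y : G)⁆ * w
    exact this.symm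
  have hrkD : Cfsg.PRankLE p 2 D := by
    intro B hB hBexp
    have hinj : Function.Injective (Subgroup.inclusion hDR) := Subgroup.inclusion_injective hDR
    have hcard : Nat.card (B.map (Subgroup.inclusion hDR)) = Nat.card B :=
      Nat.card_congr (B.equivMapOfInjective _ hinj).symm.toEquiv
    rw [← hcard]
    apply hr
    · refine ⟨⟨?_⟩⟩
      rintro ⟨_, ⟨a, ha, rfl⟩⟩ ⟨_, ⟨b, hb, rfl⟩⟩
      apply Subtype.ext
      have := hB.is_comm.comm ⟨a, ha⟩ ⟨b, hb⟩
      have h2 := congrArg (fun v : B => Subgroup.inclusion hDR (v : D)) this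
      simpa using h2
    · rintro _ ⟨a, ha, rfl⟩
      rw [← map_pow, hBexp a ha, map_one]
  have hker : IsPGroup p ψ.ker := by
    apply isPGroup_of_p'_mem ψ.ker ⊥ IsPGroup.of_bot
    intro g hg hcop
    rw [Subgroup.mem_bot]
    have hgo : (orderOf (g : G)).Coprime p := by rwa [Subgroup.orderOf_coe]
    have hcent : ∀ x ∈ D, (g : G) * x = x * g := by
      intro x hx
      have h1 : ψ g ⟨x, hx⟩ = ⟨x, hx⟩ := by rw [MonoidHom.mem_ker.mp hg]; rfl
      have h2 : (g : G) * x * (g : G)⁻¹ = x := by
        have := congrArg Subtype.val h1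
        rwa [hψ_apply] at this
      calc (g : G) * x = ((g : G) * x * (g : G)⁻¹) * g := by group
        _ = x * g := by rw [h2]
    have hR' := hDfaith g (hA g.2) hgo hcent
    have hmem : (g : G) ∈ A ⊓ Subgroup.centralizer (R : Set G) := by
      have h3 : (g : G) ∈ Subgroup.centralizer (R : Set G) := by
        rw [Subgroup.mem_centralizer_iff]
        intro x hx
        exact (hR' x hx).symm
      exact ⟨g.2, h3⟩
    rw [hfaith, Subgroup.mem_bot] at hmem
    exact Subtype.ext hmem
  have hfinal := isPGroup_commutator_of_action hp hexp hcen hrkD hAodd hAs ψ hker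
  rw [← Subgroup.map_subtype_commutator A]
  exact hfinal.map A.subtype

end Cfsg.Agent.S1449
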