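-- Statement S1454 (helper62): odd solvable automorphism groups of narrow `p`-groups (BG Theorem 5.5).
-- Uses helper32's narrow-group library, helper4's S1449 (rank ≤ 2) and S1448/S0640.
import Cfsg.Statements.S1454
import Cfsg.Agent.Helper62.RankTwoKey
import Cfsg.Agent.Helper32.Narrow3
import Cfsg.Agent.S1449
import Cfsg.Agent.Lib.Cores

set_option autoImplicit false
open Cfsg

namespace Cfsg.Agent.S1454

open scoped commutatorElement
open Cfsg.Agent.Helper62.RankTwoBad Cfsg.Agent.Helper32.Narrow

/-- Let G be a finite group, p an odd prime, R a narrow p-subgroup and A a solvable subgroup of odd order normalizing R with A ∩ C_G(R) = 1. Then [A, A] ≤ O_p(A) and the index of O_p(A) in A is coprime to p; if R has an elementary abelian subgroup of order p ^ 3 then the order of every element of A of order coprime to p divides p − 1; and if the order of A is a prime not dividing p(p − 1), then 2·#A divides p + 1, and if in addition [R, A] = R and R is non-abelian then #R = p ^ 3. -/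
theorem result {G : Type*} [Group G] [Finite G] (p : ℕ) [Fact p.Prime] (hp : p ≠ 2) (R A : Subgroup G) (hR : IsPGroup p R) (hRn : Cfsg.IsNarrow p R)
    (hA : (A ≤ Subgroup.normalizer (R : Set G))) (hAs : Group.IsSolvable A) (hAodd : Odd (Nat.card A)) (hfaith : A ⊓ Subgroup.centralizer (R : Set G) = ⊥) :
    (commutator ↥A ≤ Cfsg.pCore p ↥A ∧ ((Cfsg.pCore p ↥A).index).Coprime p) ∧
      (¬ Cfsg.PRankLE p 2 R → ∀ a ∈ A, (orderOf a).Coprime p → orderOf a ∣ p - 1) ∧
      ((Nat.card A).Prime → ¬ Nat.card A ∣ p * (p - 1) →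
        2 * Nat.card A ∣ p + 1 ∧ (⁅R, A⁆ = R → ¬ IsMulCommutative R → Nat.card R = p ^ 3)) := by
  classical
  have hpp : p.Prime := Fact.out
  let φ : A →* MulAut R := (Subgroup.normalizerMonoidHom R).comp (Subgroup.inclusion hA)
  have hφ : ∀ (a : A) (r : R), ((φ a r : R) : G) = a * r * (a : G)⁻¹ := fun _ _ => rfl
  have hφinj : Function.Injective φ := by
    rw [injective_iff_map_eq_one]
    intro a ha
    have hmem : (a : G) ∈ A ⊓ Subgroup.centralizer (R : Set G) := by
      refine ⟨a.2, ?_⟩
      show (a : G) ∈ Subgroup.centralizer (R : Set G)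
      rw [Subgroup.mem_centralizer_iff]
      intro r hr'
      have h1 : ((φ a ⟨r, hr'⟩ : R) : G) = r := by rw [ha]; rfl
      rw [hφ] at h1
      calc r * a = (a * r * (a : G)⁻¹) * a := by rw [h1]
        _ = a * r := by group
    rw [hfaith, Subgroup.mem_bot] at hmem
    exact Subtype.ext hmem
  -- elements of order coprime to `p` have order dividing `p - 1` in the rank ≥ 3 case
  have hpart2 : ¬ Cfsg.PRankLE p 2 R → ∀ a ∈ A, (orderOf a).Coprime p → orderOf a ∣ p - 1 := by
    intro hrk a ha hcop
    obtain ⟨E, hE, hCE⟩ := Cfsg.Agent.Helper32.Narrow.exists_of_isNarrow hRn hrk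
    have hpow := narrow_coprime_aut_pow p hp hR hrk E hE hCE (φ ⟨a, ha⟩) (by
      apply Nat.Coprime.coprime_dvd_left (orderOf_map_dvd φ _)
      rwa [Subgroup.orderOf_mk])
    rw [← map_pow] at hpow
    have h1 : (⟨a, ha⟩ : A) ^ (p - 1) = 1 := hφinj (by rw [hpow, map_one])
    have h2 : a ^ (p - 1) = 1 := by
      have := congrArg Subtype.val h1
      simpa using this
    exact orderOf_dvd_of_pow_eq_one h2
  refine ⟨?_, hpart2, ?_⟩
  · -- `A'` is a `p`-group
    have hcommP : IsPGroup p (commutator ↥A) := by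
      by_cases hrk : Cfsg.PRankLE p 2 R
      · have h49 := Cfsg.Agent.S1449.result p hp R A hR hrk hA hAs hAodd hfaith
        rintro ⟨y, hy⟩
        have hy' : (y : G) ∈ ⁅A, A⁆ := by
          rw [← Subgroup.map_subtype_commutator A]
          exact ⟨y, hy, rfl⟩
        obtain ⟨j, hj⟩ := h49 ⟨(y : G), hy'⟩
        refine ⟨j, ?_⟩
        apply Subtype.ext
        apply Subtype.ext
        have := congrArg Subtype.val hj
        simpa using this
      · obtain ⟨E, hE, hCE⟩ := Cfsg.Agent.Helper32.Narrow.exists_of_isNarrow hRn hrk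
        have hcomm_aut := narrow_commutator_aut p hp hR hrk E hE hCE
        rintro ⟨y, hy⟩
        have hcy : φ y ∈ commutator (MulAut ↥R) := by
          have h1 : φ y ∈ (commutator ↥A).map φ := Subgroup.mem_map_of_mem φ hy
          rw [commutator_def, Subgroup.map_commutator] at h1
          rw [commutator_def]
          exact Subgroup.commutator_mono le_top le_top h1
        obtain ⟨i, hi⟩ := hcomm_aut (φ y) hcy
        rw [← map_pow] at hi
        have h2 : y ^ p ^ i = 1 := hφinj (by rw [hi, map_one])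
        exact ⟨i, Subtype.ext h2⟩
    have hcommR : commutator ↥A ≤ Cfsg.pCore p ↥A := Cfsg.Agent.Lib.le_pCore inferInstance hcommP
    refine ⟨hcommR, ?_⟩
    obtain ⟨P⟩ : Nonempty (Sylow p ↥A) := inferInstance
    have hRP : Cfsg.pCore p ↥A ≤ P := Cfsg.Agent.Lib.pCore_le_sylow P
    have hPn : (P : Subgroup ↥A).Normal := Subgroup.Normal.of_commutator_le ↥A (hcommR.trans hRP)
    have hRP' : Cfsg.pCore p ↥A = P := Cfsg.Agent.Lib.pCore_eq_of_normal_sylow P hPn
    rw [hRP', Nat.coprime_comm, Nat.Prime.coprime_iff_not_dvd hpp]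
    exact P.not_dvd_index
  · -- `A` of prime order `q` not dividing `p (p - 1)`
    intro hq hqn
    set q := Nat.card A with hqdef
    have hqp : q ≠ p := by
      intro h
      apply hqn
      rw [h]
      exact dvd_mul_right p (p - 1)
    have hcop : q.Coprime p := (Nat.coprime_primes hq hpp).mpr hqp
    -- a generator of `A`
    have : Fact q.Prime := ⟨hq⟩
    obtain ⟨a, ha⟩ := exists_prime_orderOf_dvd_card' (G := A) q (by rw [← hqdef])
    have haG : orderOf (a : G) = q := by rw [Subgroup.orderOf_coe]; exact ha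
    -- rank at most 2
    have hrk : Cfsg.PRankLE p 2 R := by
      by_contra hrk
      have h1 := hpart2 hrk (a : G) a.2 (by rw [haG]; exact hcop)
      apply hqn
      rw [haG] at h1
      exact h1.trans (dvd_mul_left (p - 1) p)
    have hφa : orderOf (φ a) = q := by
      rw [orderOf_injective φ hφinj, ha]
    have hqAut : q ∣ Nat.card (MulAut ↥R) := by
      rw [← hφa]
      exact orderOf_dvd_natCard _
    have h640 := Cfsg.Agent.S0640.result hp hR hrk q hq hqp hqAut
    have hqodd : Odd q := hAodd
    refine ⟨?_, ?_⟩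
    · -- `2 q ∣ p + 1`
      have h1 : q ∣ (p - 1) * (p + 1) := by
        have : (p - 1) * (p + 1) = p ^ 2 - 1 := by
          have h1 : 1 ≤ p := hpp.one_lt.le
          obtain ⟨k, rfl⟩ : ∃ k, p = k + 1 := ⟨p - 1, by omega⟩
          simp only [Nat.add_sub_cancel]
          have : (k + 1) ^ 2 = k * (k + 1 + 1) + 1 := by ring
          rw [this, Nat.add_sub_cancel]
        rw [this]
        exact h640.1
      have h2 : ¬ q ∣ p - 1 := fun h => hqn (h.trans (dvd_mul_left (p - 1) p))
      have h3 : q ∣ p + 1 := (hq.dvd_mul.mp h1).resolve_left h2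
      have h4 : 2 ∣ p + 1 := by
        have hodd : Odd p := hpp.odd_of_ne_two hp
        obtain ⟨k, hk⟩ := hodd
        exact ⟨k + 1, by omega⟩
      have hcop2 : Nat.Coprime 2 q := by
        rw [Nat.coprime_two_left]
        exact hqodd
      exact hcop2.mul_dvd_of_dvd_of_dvd h4 h3
    · intro hRA hnab
      have hR1 : R ≠ ⊥ := by
        rintro rfl
        apply hnab
        exact ⟨⟨fun x y => by
          have hx : x = 1 := Subtype.ext (Subgroup.mem_bot.mp x.2)
          have hy : y = 1 := Subtype.ext (Subgroup.mem_bot.mp y.2)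
          rw [hx, hy]⟩⟩
      obtain ⟨hbase, hgood⟩ := Cfsg.Agent.Helper62.RankTwoKey.key p hp R A hR hR1 hrk hA
        (by rw [← hqdef]; exact hcop) hAodd hRA hnab
      -- `A` centralizes the cyclic group `C_R(Ω₁(R))`
      have hcyc : IsCyclic ↥(cc p ↥R) := hbase.cc_cyclic
      have hfix : ∀ (x : A), ∀ c ∈ cc p ↥R, φ x c = c := by
        intro x c hc
        set ρ : MulAut ↥R →* MulAut ↥(cc p ↥R) := MulAut.characteristic (cc p ↥R) with hρ
        have h1 : (ρ (φ x)) ^ q = 1 := by
          rw [← map_pow, ← map_pow, hqdef, pow_card_eq_one', map_one, map_one]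
        have h2 : orderOf (ρ (φ x)) ∣ q := orderOf_dvd_of_pow_eq_one h1
        have h3 : orderOf (ρ (φ x)) ∣ Nat.totient (Nat.card ↥(cc p ↥R)) := by
          rw [← IsCyclic.card_mulAut]
          exact orderOf_dvd_natCard _
        obtain ⟨e, he⟩ := IsPGroup.iff_card.mp (hR.to_subgroup (cc p ↥R))
        have h4 : orderOf (ρ (φ x)) = 1 := by
          rcases (Nat.dvd_prime hq).mp h2 with h | h
          · exact h
          · exfalso
            rw [h, he] at h3
            rcases Nat.eq_zero_or_pos e with rfl | hepos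
            · rw [pow_zero, Nat.totient_one] at h3
              exact hq.one_lt.ne' (Nat.dvd_one.mp h3)
            · rw [Nat.totient_prime_pow hpp hepos] at h3
              rcases hq.dvd_mul.mp h3 with h5 | h5
              · exact hqp ((Nat.prime_dvd_prime_iff_eq hq hpp).mp (hq.dvd_of_dvd_pow h5))
              · exact hqn (h5.trans (dvd_mul_left (p - 1) p))
        have h5 : ρ (φ x) = 1 := orderOf_eq_one_iff.mp h4
        have h6 : ρ (φ x) ⟨c, hc⟩ = ⟨c, hc⟩ := by rw [h5]; rfl
        exact congrArg Subtype.val h6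
      -- hence `[R, A] ≤ Ω₁(R)`
      have hle : ⁅R, A⁆ ≤ (om p ↥R).map R.subtype := by
        rw [Subgroup.commutator_le]
        intro r hr' x hx
        have hrtop : (⟨r, hr'⟩ : R) ∈ om p ↥R ⊔ cc p ↥R := by rw [hgood]; trivial
        have h1 : (⟨r, hr'⟩ : R) ∈ ((om p ↥R ⊔ cc p ↥R : Subgroup ↥R) : Set ↥R) := hrtop
        rw [Subgroup.normal_mul] at h1
        obtain ⟨t, ht, c, hc, htc⟩ := Set.mem_mul.mp h1
        have hc' : φ ⟨x, hx⟩ c⁻¹ = c⁻¹ := hfix ⟨x, hx⟩ c⁻¹ ((cc p ↥R).inv_mem hc)
        have ht' : φ ⟨x, hx⟩ t⁻¹ ∈ om p ↥R := mem_of_char _ ((om p ↥R).inv_mem ht)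
        refine ⟨t * φ ⟨x, hx⟩ t⁻¹, (om p ↥R).mul_mem ht ht', ?_⟩
        have e1 : (⟨r, hr'⟩ : R) * φ ⟨x, hx⟩ (⟨r, hr'⟩ : R)⁻¹ = t * φ ⟨x, hx⟩ t⁻¹ := by
          rw [← htc, mul_inv_rev, map_mul, hc']
          group
        have e2 := congrArg Subtype.val e1
        simp only [Subgroup.coe_mul, hφ, Subgroup.coe_inv] at e2
        simp only [Subgroup.subtype_apply, Subgroup.coe_mul, hφ, Subgroup.coe_inv]
        rw [← e2, commutatorElement_def]
        group
      rw [hRA] at hle
      have hcard : Nat.card R ≤ Nat.card ((om p ↥R).map R.subtype) := Subgroup.card_le_of_le hle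
      rw [Subgroup.card_map_of_injective (Subgroup.subtype_injective _), hbase.card] at hcard
      have hcard2 : Nat.card (om p ↥R) ≤ Nat.card R := Subgroup.card_le_card_group _
      rw [hbase.card] at hcard2
      omega

end Cfsg.Agent.S1454
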