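import Cfsg.Statements.S1074
import Cfsg.Agent.Helper56.TiSimple
import Cfsg.Agent.Helper56.CommIdx
import Cfsg.Agent.S1068

set_option autoImplicit false
open Cfsg

namespace Cfsg.Agent.S1074

open Cfsg.Lie Cfsg.Agent.Helper56 Cfsg.Agent.Helper56.Tits

/-- the order of `²F₄(2)`, from the order formula of S1068 -/
theorem card_twisted : Nat.card ↥(Cfsg.Lie.twistedF4 (ZMod 2) 1) = 2 * (2 ^ 11 * 3 ^ 3 * 5 ^ 2 * 13) := by
  have h := Cfsg.Agent.S1068.result (K := ZMod 2) (m := 0) (by rw [ZMod.card]; norm_num)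
  simp only [pow_zero] at h
  rw [h]
  norm_num

/-- ²F₄(2)′ has index 2 in ²F₄(2), is simple, and has order `2¹¹ · 3³ · 5² · 13`. -/
theorem result : (commutator ↥(Cfsg.Lie.twistedF4 (ZMod 2) 1)).index = 2 ∧ IsSimpleGroup Cfsg.Lie.TitsGroup ∧ ¬ IsMulCommutative Cfsg.Lie.TitsGroup ∧
    Nat.card Cfsg.Lie.TitsGroup = 2 ^ 11 * 3 ^ 3 * 5 ^ 2 * 13 :=
  commutator_package TS simple_TS _ card_TS (by norm_num) (by norm_num) card_twisted

end Cfsg.Agent.S1074
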