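import Cfsg.Statements.S0203
import Mathlib
import Cfsg.Agent.Helper4.KleinSylow

set_option autoImplicit false
open Cfsg

namespace Cfsg.Agent.S0203

open Cfsg.Agent.Helper4

/-- If a Sylow 2-subgroup P of a finite group G is a Klein four-group, then G has three classes of involutions if and only if P has a normal complement in G. -/
theorem result {G : Type*} [Group G] [Finite G] (P : Sylow 2 G) (hP : IsKleinFour (P : Subgroup G)) : Nat.card {C : ConjClasses G // ∃ t : G, orderOf t = 2 ∧ ConjClasses.mk t = C} = 3 ↔ ∃ N : Subgroup G, N.Normal ∧ Subgroup.IsComplement' N (P : Subgroup G) := by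
  have : Fact (Nat.Prime 2) := ⟨Nat.prime_two⟩
  have hsurj := kleinClassMap_surjective P hP
  have hI := klein_card_ne_one P hP
  -- three classes iff the class map is injective
  have h3 : Nat.card {C : ConjClasses G // ∃ t : G, orderOf t = 2 ∧ ConjClasses.mk t = C} = 3 ↔
      Function.Injective (kleinClassMap P hP) := by
    constructor
    · intro h
      have hfin : Finite {t : (P : Subgroup G) // t ≠ 1} := inferInstance
      have hcard : Nat.card {t : (P : Subgroup G) // t ≠ 1} = Nat.card (InvClasses G) := by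
        rw [hI]; exact h.symm
      exact ((Nat.bijective_iff_surjective_and_card _).mpr ⟨hsurj, hcard⟩).1
    · intro hinj
      rw [← hI]
      exact (Nat.card_congr (Equiv.ofBijective _ ⟨hinj, hsurj⟩)).symm
  rw [h3]
  constructor
  · intro hinj
    -- normalizer ≤ centralizer
    have hNC : Subgroup.normalizer ((P : Subgroup G) : Set G) ≤ Subgroup.centralizer ((P : Subgroup G) : Set G) := by
      intro n hn
      rw [Subgroup.mem_centralizer_iff]
      intro a ha
      -- n a n⁻¹ ∈ P, conjugate to a
      by_cases ha1 : a = 1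
      · rw [ha1]; simp
      · have hmem : n * a * n⁻¹ ∈ P := (Subgroup.mem_normalizer_iff.mp hn a).mp ha
        have hne1 : n * a * n⁻¹ ≠ 1 := by
          intro h
          apply ha1
          have : a = n⁻¹ * (n * a * n⁻¹) * n := by group
          rw [this, h]; group
        let s : {t : (P : Subgroup G) // t ≠ 1} := ⟨⟨a, ha⟩, fun h => ha1 (congrArg Subtype.val h)⟩
        let t : {t : (P : Subgroup G) // t ≠ 1} := ⟨⟨n * a * n⁻¹, hmem⟩, fun h => hne1 (congrArg Subtype.val h)⟩
        have hst : kleinClassMap P hP s = kleinClassMap P hP t := by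
          rw [kleinClassMap_eq_iff]
          exact isConj_iff.mpr ⟨n, rfl⟩
        have := hinj hst
        have h2 : a = n * a * n⁻¹ := congrArg (fun x => (x.1 : G)) this
        calc a * n = (n * a * n⁻¹) * n := by rw [← h2]
          _ = n * a := by group
    exact ⟨_, inferInstance, MonoidHom.ker_transferSylow_isComplement' P hNC⟩
  · rintro ⟨N, hN, hcomp⟩
    intro s t hst
    rw [kleinClassMap_eq_iff] at hst
    obtain ⟨g, hg⟩ := isConj_iff.mp hst
    -- g = n p
    obtain ⟨⟨⟨n, hn⟩, ⟨p, hp⟩⟩, hnp⟩ := hcomp.2 g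
    simp only at hnp
    subst hnp
    set a : G := (s.1 : G) with ha
    set b : G := (t.1 : G) with hb
    have haP : a ∈ P := s.1.2
    have hbP : b ∈ P := t.1.2
    have hpa : p * a * p⁻¹ = a := by
      rw [klein_comm P hP p a hp haP]; group
    have hb' : b = n * a * n⁻¹ := by
      rw [← hg]
      calc n * p * a * (n * p)⁻¹ = n * (p * a * p⁻¹) * n⁻¹ := by group
        _ = n * a * n⁻¹ := by rw [hpa]
    -- a⁻¹ b ∈ N ⊓ P
    have h1 : a⁻¹ * b ∈ N := by
      rw [hb']
      have : a⁻¹ * (n * a * n⁻¹) = (a⁻¹ * n * a⁻¹⁻¹) * n⁻¹ := by group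
      rw [this]
      exact N.mul_mem (hN.conj_mem n hn a⁻¹) (N.inv_mem hn)
    have h2 : a⁻¹ * b ∈ (P : Subgroup G) := Subgroup.mul_mem _ (Subgroup.inv_mem _ haP) hbP
    have h3 : a⁻¹ * b ∈ N ⊓ (P : Subgroup G) := Subgroup.mem_inf.mpr ⟨h1, h2⟩
    rw [hcomp.disjoint.eq_bot, Subgroup.mem_bot] at h3
    have hab : a = b := by
      have := eq_inv_of_mul_eq_one_left h3
      exact inv_injective this
    exact Subtype.ext (Subtype.ext hab)

end Cfsg.Agent.S0203
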