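import Mathlib
import Cfsg.Statements.S0992
import Cfsg.Agent.Helper17.SylowKit
import Cfsg.Agent.Helper17.Klein

set_option autoImplicit false
open Cfsg

namespace Cfsg.Agent.S0992

open Subgroup Cfsg.Agent.Helper17

/-- A non-abelian finite simple group is not a `p`-group. -/
theorem not_isPGroup_of_simple {G : Type*} [Group G] [Finite G] [IsSimpleGroup G]
    (hG : ¬ IsMulCommutative G) (p : ℕ) [Fact p.Prime] : ¬ IsPGroup p G := by
  intro hp
  haveI : Nontrivial G := IsSimpleGroup.toNontrivial
  have hnt : Nontrivial (center G) := hp.center_nontrivial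
  rcases (inferInstance : (center G).Normal).eq_bot_or_eq_top with h | h
  · rw [h] at hnt
    exact not_nontrivial _ hnt
  · apply hG
    refine ⟨⟨fun a b => ?_⟩⟩
    have ha : a ∈ center G := h ▸ mem_top a
    exact (mem_center_iff.mp ha b).symm

theorem result' {G : Type*} [Group G] [Finite G] [IsSimpleGroup G] (hG : ¬ IsMulCommutative G) (h2 : Even (Nat.card G)) (h8 : ¬ 8 ∣ Nat.card G) (T : Sylow 2 G) : IsKleinFour ↥(T : Subgroup G) ∧ (Subgroup.centralizer ((T : Subgroup G) : Set G)).relIndex (Subgroup.normalizer ((T : Subgroup G) : Set G)) = 3 := by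
  have hcard0 : Nat.card G ≠ 0 := Nat.card_pos.ne'
  have h2' : 2 ∣ Nat.card G := even_iff_two_dvd.mp h2
  set k := (Nat.card G).factorization 2 with hk
  have hTcard : Nat.card (T : Subgroup G) = 2 ^ k := T.card_eq_multiplicity
  have hk1 : 1 ≤ k := by
    have : 2 ^ 1 ∣ Nat.card G := by simpa using h2'
    exact (Nat.Prime.pow_dvd_iff_le_factorization Nat.prime_two hcard0).mp this
  have hk2 : k ≤ 2 := by
    by_contra hlt
    push Not at hlt
    apply h8
    have : 2 ^ 3 ∣ Nat.card G :=
      (Nat.Prime.pow_dvd_iff_le_factorization Nat.prime_two hcard0).mpr hlt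
    simpa using this
  have hT1 : Nat.card (T : Subgroup G) ≠ 1 := by
    rw [hTcard]
    have : 2 ^ 1 ≤ 2 ^ k := Nat.pow_le_pow_right (by norm_num) hk1
    omega
  have hTG : Nat.card (T : Subgroup G) ≠ Nat.card G := by
    intro h
    have htop : (T : Subgroup G) = ⊤ := (Subgroup.card_eq_iff_eq_top _).mp h
    apply not_isPGroup_of_simple hG 2
    have := T.2
    rw [htop] at this
    exact IsPGroup.of_equiv this Subgroup.topEquiv
  have hburn := not_normalizer_le_centralizer_of_simple T hT1 hTG
  have hncyc : ¬ IsCyclic (T : Subgroup G) := by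
    intro hc
    exact hburn (hc.normalizer_le_centralizer ((Nat.minFac_eq_two_iff _).mpr h2'))
  have hk' : k = 2 := by
    by_contra hne
    have hk1' : k = 1 := by omega
    apply hncyc
    haveI : Fact (Nat.card (T : Subgroup G)).Prime := ⟨by rw [hTcard, hk1']; norm_num⟩
    exact isCyclic_of_prime_card rfl
  have hT4 : Nat.card (T : Subgroup G) = 4 := by rw [hTcard, hk']; norm_num
  haveI hK : IsKleinFour (T : Subgroup G) := isKleinFour_of_card_four_of_not_isCyclic hT4 hncyc
  refine ⟨hK, ?_⟩
  set d := (centralizer ((T : Subgroup G) : Set G)).relIndex (normalizer ((T : Subgroup G) : Set G)) with hd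
  have hd6 : d ∣ 6 :=
    (relIndex_centralizer_normalizer_dvd_card_mulAut (T : Subgroup G)).trans card_mulAut_kleinFour_dvd
  have hd1 : d ≠ 1 := fun h => hburn (relIndex_eq_one.mp h)
  have hodd : ¬ 2 ∣ d := by
    intro h2d
    apply h8
    haveI : IsMulCommutative (T : Subgroup G) := IsKleinFour.isMulCommutative
    have hle : (T : Subgroup G) ≤ centralizer ((T : Subgroup G) : Set G) := Subgroup.le_centralizer _
    have h4 : 4 ∣ Nat.card (centralizer ((T : Subgroup G) : Set G)) := by
      have := Subgroup.card_dvd_of_le hle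
      rwa [hT4] at this
    have hN := card_centralizer_mul_relIndex (T : Subgroup G)
    have h8N : 4 * 2 ∣ Nat.card (normalizer ((T : Subgroup G) : Set G)) := by
      rw [← hN]; exact Nat.mul_dvd_mul h4 h2d
    exact h8N.trans (Subgroup.card_subgroup_dvd_card _)
  have hmem : d ∈ Nat.divisors 6 := Nat.mem_divisors.mpr ⟨hd6, by norm_num⟩
  have key : ∀ n ∈ Nat.divisors 6, n ≠ 1 → ¬ 2 ∣ n → n = 3 := by decide
  exact key d hmem hd1 hodd

/-- Let G be a non-abelian finite simple group of even order not divisible by 8, and T a Sylow 2-subgroup. Then T is a Klein four-group and the centralizer of T has index 3 in the normalizer of T. -/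
theorem result {G : Type*} [Group G] [Finite G] [IsSimpleGroup G] (hG : ¬ IsMulCommutative G) (h2 : Even (Nat.card G)) (h8 : ¬ 8 ∣ Nat.card G) (T : Sylow 2 G) : IsKleinFour ↥(T : Subgroup G) ∧ (Subgroup.centralizer ((T : Subgroup G) : Set G)).relIndex (Subgroup.normalizer ((T : Subgroup G) : Set G)) = 3 := by
  exact result' hG h2 h8 T

end Cfsg.Agent.S0992
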