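import Cfsg.Statements.S3058
import Cfsg.Agent.Helper49.StronglyEmbedded
import Cfsg.Agent.Helper49.SylowExtra
import Cfsg.Agent.Helper48.CoprimeGen

set_option autoImplicit false
open Cfsg

namespace Cfsg.Agent.S3058

open Cfsg.Agent.Helper49

/-- Let p be a prime and G a finite group whose Sylow p-subgroups are not chain-connected through nontrivial intersections (so G has a strongly p-embedded subgroup). If N and M are normal subgroups of G whose orders are both divisible by p, then the order of N ∩ M is divisible by p. Consequently, among the normal subgroups of G whose order is divisible by p there is a smallest one (the intersection of all of them). -/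
theorem result {G : Type*} [Group G] [Finite G]
    (p : ℕ) [Fact p.Prime] (hG : ¬ Cfsg.IsSylowChainConnected p G)
    (N M : Subgroup G) [N.Normal] [M.Normal] (hN : p ∣ Nat.card N) (hM : p ∣ Nat.card M) :
    p ∣ Nat.card ↥(N ⊓ M) := by
  by_contra hK
  obtain ⟨H, hSE⟩ := exists_stronglyEmbedded_of_not_connected hG
  obtain ⟨P, hPH, hP1⟩ := hSE.exists_sylow_le
  have hp : p.Prime := Fact.out
  set K : Subgroup G := N ⊓ M with hKdef
  haveI hKn : K.Normal := Subgroup.normal_inf_normal N M
  have hPK : (P : Subgroup G) ⊓ K = ⊥ := by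
    by_contra h
    exact hK ((dvd_card_of_isPGroup_ne_bot P.isPGroup'.to_inf_left h).trans
      (Subgroup.card_dvd_of_le inf_le_right))
  have hPN := isSylowOf_inf_of_normal P N
  have hPM := isSylowOf_inf_of_normal P M
  obtain ⟨a, ha, hoa⟩ := exists_orderOf_eq_of_isPGroup hPN.2.1 (hPN.ne_bot hN)
  obtain ⟨b, hb, hob⟩ := exists_orderOf_eq_of_isPGroup hPM.2.1 (hPM.ne_bot hM)
  have haP : a ∈ (P : Subgroup G) := ha.1
  have haN : a ∈ N := ha.2
  have hbP : b ∈ (P : Subgroup G) := hb.1
  have hbM : b ∈ M := hb.2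
  have ha1 : a ≠ 1 := by
    intro h
    rw [h, orderOf_one] at hoa
    exact hp.one_lt.ne hoa
  have hb1 : b ≠ 1 := by
    intro h
    rw [h, orderOf_one] at hob
    exact hp.one_lt.ne hob
  have hNn : N.Normal := inferInstance
  have hMn : M.Normal := inferInstance
  have hcomm : a * b = b * a := by
    have hc : a * b * a⁻¹ * b⁻¹ ∈ (P : Subgroup G) ⊓ K := by
      refine ⟨?_, ?_, ?_⟩
      · exact Subgroup.mul_mem _ (Subgroup.mul_mem _ (Subgroup.mul_mem _ haP hbP)
          (Subgroup.inv_mem _ haP)) (Subgroup.inv_mem _ hbP)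
      · have h1 : b * a⁻¹ * b⁻¹ ∈ N := hNn.conj_mem a⁻¹ (N.inv_mem haN) b
        have h2 := N.mul_mem haN h1
        have e : a * (b * a⁻¹ * b⁻¹) = a * b * a⁻¹ * b⁻¹ := by group
        rwa [e] at h2
      · have h1 : a * b * a⁻¹ ∈ M := hMn.conj_mem b hbM a
        exact M.mul_mem h1 (M.inv_mem hbM)
    rw [hPK, Subgroup.mem_bot] at hc
    calc a * b = (a * b * a⁻¹ * b⁻¹) * (b * a) := by group
      _ = b * a := by rw [hc, one_mul]
  set A : Subgroup G := Subgroup.closure {a, b} with hAdef
  have haA : a ∈ A := Subgroup.subset_closure (by simp)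
  have hbA : b ∈ A := Subgroup.subset_closure (by simp)
  have hAP : A ≤ (P : Subgroup G) := by
    rw [hAdef, Subgroup.closure_le]
    rintro x (rfl | rfl)
    · exact haP
    · exact hbP
  have hAcomm : ∀ x ∈ A, ∀ y ∈ A, x * y = y * x := by
    have h1 : A ≤ Subgroup.centralizer {a, b} := by
      rw [hAdef, Subgroup.closure_le]
      intro x hx
      rw [SetLike.mem_coe, Subgroup.mem_centralizer_iff]
      intro y hy
      rcases hx with rfl | rfl <;> rcases hy with rfl | rfl
      · rfl
      · exact hcomm.symm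
      · exact hcomm
      · rfl
    intro x hx y hy
    have h2 := h1 hx
    rw [← Subgroup.centralizer_closure, Subgroup.mem_centralizer_iff] at h2
    exact (h2 y hy).symm
  have hAexp : ∀ x ∈ A, x ^ p = 1 := by
    intro x hx
    induction hx using Subgroup.closure_induction with
    | mem x hx =>
      rcases hx with rfl | rfl
      · rw [← hoa]; exact pow_orderOf_eq_one _
      · rw [← hob]; exact pow_orderOf_eq_one _
    | one => exact one_pow _
    | mul x y hx hy ihx ihy =>
      have hc : Commute x y := hAcomm x hx y hy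
      rw [hc.mul_pow, ihx, ihy, one_mul]
    | inv x hx ih => rw [inv_pow, ih, inv_one]
  have hAcard : p ^ 2 ≤ Nat.card A := by
    have hAp : IsPGroup p A := P.isPGroup'.to_le hAP
    obtain ⟨k, hk⟩ := (IsPGroup.iff_card).mp hAp
    have hza : Subgroup.zpowers a ≤ A := Subgroup.zpowers_le.mpr haA
    have hne : Subgroup.zpowers a ≠ A := by
      intro h
      have hbz : b ∈ Subgroup.zpowers a := h ▸ hbA
      have hbN : b ∈ N := (Subgroup.zpowers_le.mpr haN) hbz
      have : b ∈ (P : Subgroup G) ⊓ K := ⟨hbP, hbN, hbM⟩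
      rw [hPK, Subgroup.mem_bot] at this
      exact hb1 this
    have hlt := card_lt_of_le_of_ne hza hne
    rw [Nat.card_zpowers, hoa, hk] at hlt
    rw [hk]
    have h1k : 1 < k := by
      by_contra hcon
      push Not at hcon
      have : p ^ k ≤ p ^ 1 := Nat.pow_le_pow_right hp.pos hcon
      rw [pow_one] at this
      omega
    exact Nat.pow_le_pow_right hp.pos h1k
  have hKH : K ≤ H := by
    have hAK : A ≤ Subgroup.normalizer (K : Set G) := by
      rw [Subgroup.normalizer_eq_top]; exact le_top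
    have h1 := Cfsg.Agent.Helper48.le_cgen_of_le_card K A hK hAK hAcomm hAexp hAcard
    refine h1.trans ?_
    unfold Cfsg.Agent.Helper48.cgen
    apply iSup_le
    rintro ⟨c, hcA, hc1⟩
    refine inf_le_right.trans ?_
    have hz : Subgroup.zpowers c ≤ H := Subgroup.zpowers_le.mpr (hPH (hAP hcA))
    have hzp : IsPGroup p (Subgroup.zpowers c) :=
      P.isPGroup'.to_le (Subgroup.zpowers_le.mpr (hAP hcA))
    have hz1 : Subgroup.zpowers c ≠ ⊥ := by
      rw [Ne, Subgroup.zpowers_eq_bot]; exact hc1
    exact (centralizer_singleton_le_normalizer_zpowers c).trans (hSE.normalizer_le hzp hz1 hz)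
  have hZp : IsPGroup p (Subgroup.zpowers a) := P.isPGroup'.to_le (Subgroup.zpowers_le.mpr haP)
  have hZ1 : Subgroup.zpowers a ≠ ⊥ := by
    rw [Ne, Subgroup.zpowers_eq_bot]; exact ha1
  have hZH : Subgroup.zpowers a ≤ H := Subgroup.zpowers_le.mpr (hPH haP)
  have hMH : M ≤ H := by
    intro m hm
    have hZX : IsSylowOf p (Subgroup.zpowers a) (Subgroup.zpowers a ⊔ K) :=
      isSylowOf_sup_of_normal hZp hK
    have hc : m * a * m⁻¹ * a⁻¹ ∈ K := by
      refine ⟨?_, ?_⟩
      · exact N.mul_mem (hNn.conj_mem a haN m) (N.inv_mem haN)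
      · have h1 : a * m⁻¹ * a⁻¹ ∈ M := hMn.conj_mem m⁻¹ (M.inv_mem hm) a
        have h2 := M.mul_mem hm h1
        have e : m * (a * m⁻¹ * a⁻¹) = m * a * m⁻¹ * a⁻¹ := by group
        rwa [e] at h2
    have h1 : m * a * m⁻¹ ∈ Subgroup.zpowers a ⊔ K := by
      have e : m * a * m⁻¹ = (m * a * m⁻¹ * a⁻¹) * a := by group
      rw [e]
      exact Subgroup.mul_mem _ (Subgroup.mem_sup_right hc)
        (Subgroup.mem_sup_left (Subgroup.mem_zpowers a))
    have hB : subgroupConjRight m⁻¹ (Subgroup.zpowers a) ≤ Subgroup.zpowers a ⊔ K := by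
      intro x hx
      rw [mem_scr, inv_inv] at hx
      obtain ⟨n, hn⟩ := Subgroup.mem_zpowers_iff.mp hx
      have h2 : x = (m * a * m⁻¹) ^ n := by
        rw [conj_zpow, hn]; group
      rw [h2]
      exact Subgroup.zpow_mem _ h1 n
    have hBX : IsSylowOf p (subgroupConjRight m⁻¹ (Subgroup.zpowers a))
        (Subgroup.zpowers a ⊔ K) :=
      isSylowOf_of_card hB (by rw [card_scr, hZX.card_eq])
    obtain ⟨x, hxX, hx⟩ := hBX.exists_conj hZX
    rw [← scr_mul] at hx
    have h3 : m⁻¹ * x ∈ H :=
      hSE.normalizer_le hZp hZ1 hZH (mem_normalizer_of_scr_eq_self hx)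
    have hXH : Subgroup.zpowers a ⊔ K ≤ H := sup_le hZH hKH
    have h4 : m⁻¹ ∈ H := by
      have := H.mul_mem h3 (H.inv_mem (hXH hxX))
      simpa using this
    exact (Subgroup.inv_mem_iff H).mp h4
  obtain ⟨g, hg⟩ : ∃ g : G, g ∉ H := by
    by_contra h
    push Not at h
    exact hSE.1 (eq_top_iff.mpr fun x _ => h x)
  apply hSE.2.2 g hg
  have hle : M ≤ H ⊓ H.map (MulAut.conj g).toMonoidHom := by
    intro x hx
    refine ⟨hMH hx, g⁻¹ * x * g, hMH ?_, by simp [MulAut.conj_apply, mul_assoc]⟩
    have := hMn.conj_mem x hx g⁻¹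
    simpa using this
  exact hM.trans (Subgroup.card_dvd_of_le hle)

end Cfsg.Agent.S3058
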