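-- Statement S3061: D*(S) is a member of its defining family (Glauberman–Solomon).
import Cfsg.Statements.S3061
import Cfsg.Agent.Helper51.DStar

set_option autoImplicit false
open Cfsg

namespace Cfsg.Agent.S3061

open Subgroup Cfsg.Agent.Helper51

/-- `D*(S)` is abelian, for a finite `p`-group `S`. -/
theorem dStar_le_centralizer {S : Type*} [Group S] [Finite S] {p : ℕ} [Fact p.Prime]
    (hS : IsPGroup p S) : Cfsg.dStar S ≤ centralizer (Cfsg.dStar S : Set S) := by
  have hcomm := dStarFamily_commute p (Nat.card S) S hS rfl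
  unfold Cfsg.dStar
  apply sSup_le
  intro A hA
  apply le_centralizer_iff.mp
  apply sSup_le
  intro B hB
  exact hcomm A hA B hB

/-- Let S be a finite p-group. Then D*(S) itself belongs to the family that generates it: D*(S) is abelian, and every x ∈ S with ⟨D*(S), x⟩ of class at most two centralizes D*(S). Hence D*(S) is the unique maximal member of that family. -/
theorem result {S : Type*} [Group S] [Finite S] {p : ℕ} [Fact p.Prime] (hS : IsPGroup p S) :
    Cfsg.dStar S ∈ Cfsg.dStarFamily S := by
  refine ⟨le_centralizer_iff_isMulCommutative.mp (dStar_le_centralizer hS), ?_⟩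
  intro x hx
  have h1 : Cfsg.dStar S ≤ centralizer ({x} : Set S) := by
    unfold Cfsg.dStar
    apply sSup_le
    intro A hA a ha
    have hle : A ⊔ zpowers x ≤ Cfsg.dStar S ⊔ zpowers x := sup_le_sup_right (le_sSup hA) _
    have h2 : ⁅⁅A ⊔ zpowers x, A ⊔ zpowers x⁆, A ⊔ zpowers x⁆ = ⊥ :=
      le_bot_iff.mp (hx ▸ commutator_mono (commutator_mono hle hle) hle)
    rw [mem_centralizer_singleton_iff]
    exact (hA.2 x h2 a ha)
  intro a ha
  have := h1 ha
  rw [mem_centralizer_singleton_iff] at this
  exact this

end Cfsg.Agent.S3061
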