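-- Statement S3062: Z(S) ≤ D*(S) ≤ Z(J(S)) and D*(S) lies in every maximal normal abelian subgroup.
import Cfsg.Statements.S3062
import Cfsg.Agent.S3061
import Cfsg.Agent.Helper51.Offender

set_option autoImplicit false
open Cfsg

namespace Cfsg.Agent.S3062

open Subgroup Cfsg.Agent.Helper51
open scoped commutatorElement

variable {S : Type*} [Group S]

/-- `[U C, B] ≤ [U, B]` inside an abelian normal subgroup `D`, when `C` centralizes `B`. -/
theorem commutator_sup_le {D : Subgroup S} [hn : D.Normal] (hD : IsMulCommutative D)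
    {U C B : Subgroup S} (hU : U ≤ D) (hC : C ≤ cD D B) : ⁅U ⊔ C, B⁆ ≤ ⁅U, B⁆ := by
  rw [commutator_le]
  intro g hg b hb
  have hUD : ⁅U, B⁆ ≤ D := (commutator_mono hU le_rfl).trans (commutator_le_left D B)
  have hsupD : U ⊔ C ≤ D := sup_le hU (hC.trans inf_le_left)
  have hcl : U ⊔ C = closure ((U : Set S) ∪ C) := by
    rw [Subgroup.closure_union, closure_eq, closure_eq]
  rw [hcl] at hg
  induction hg using closure_induction with
  | mem x hx =>
    rcases hx with hx | hx
    · exact commutator_mem_commutator hx hb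
    · have := (mem_cD.mp (hC hx)).2 b hb
      have e : ⁅x, b⁆ = 1 := by
        rw [commutatorElement_def, ← this]; group
      rw [e]; exact one_mem _
  | one => simp
  | mul x y hx hy ihx ihy =>
    rw [← hcl] at hx
    have e : ⁅x * y, b⁆ = x * ⁅y, b⁆ * x⁻¹ * ⁅x, b⁆ := by
      simp only [commutatorElement_def]; group
    have h1 : x * ⁅y, b⁆ * x⁻¹ = ⁅y, b⁆ := by
      rw [comm_of_mem' hD (hsupD hx) (hUD ihy)]; group
    rw [e, h1]; exact mul_mem ihy ihx
  | inv x hx ihx =>
    rw [← hcl] at hx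
    have e : ⁅x⁻¹, b⁆ = x⁻¹ * ⁅x, b⁆⁻¹ * x := by
      simp only [commutatorElement_def]; group
    have h1 : x⁻¹ * ⁅x, b⁆⁻¹ * x = ⁅x, b⁆⁻¹ := by
      rw [comm_of_mem' hD (D.inv_mem (hsupD hx)) (D.inv_mem (hUD ihx))]; group
    rw [e, h1]; exact inv_mem ihx

/-- If `D = [D,B] C_D(B)` and the group is nilpotent then `[D,B] = 1`. -/
theorem commutator_eq_bot_of_le_sup [Group.IsNilpotent S] {D : Subgroup S} [D.Normal]
    (hD : IsMulCommutative D) {B : Subgroup S} (h : D ≤ ⁅D, B⁆ ⊔ cD D B) : ⁅D, B⁆ = ⊥ := by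
  have hT : ∀ i, iterComm D B i ≤ D := iterComm_le D B
  have key : ∀ i, iterComm D B 1 ≤ iterComm D B (i + 1) := by
    intro i
    induction i with
    | zero => exact le_rfl
    | succ i ih =>
      calc iterComm D B 1 = ⁅D, B⁆ := rfl
        _ ≤ ⁅⁅D, B⁆ ⊔ cD D B, B⁆ := commutator_mono h le_rfl
        _ ≤ ⁅iterComm D B (i + 1) ⊔ cD D B, B⁆ :=
          commutator_mono (sup_le_sup_right ih _) le_rfl
        _ ≤ ⁅iterComm D B (i + 1), B⁆ := commutator_sup_le hD (hT _) le_rfl
        _ = iterComm D B (i + 2) := rfl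
  obtain ⟨k, hk⟩ := (Subgroup.nilpotent_iff_lowerCentralSeries (G := S)).mp inferInstance
  have hk' : iterComm D B k = ⊥ := le_bot_iff.mp (hk ▸ iterComm_le_lowerCentralSeries D B k)
  cases k with
  | zero =>
    have hDbot : D = ⊥ := hk'
    rw [hDbot]; exact commutator_bot_left B
  | succ k =>
    have := key k
    rw [hk'] at this
    exact le_bot_iff.mp this

theorem isMulCommutative_sup {D B : Subgroup S} (hD : IsMulCommutative D) (hB : IsMulCommutative B)
    (hDB : D ≤ centralizer (B : Set S)) : IsMulCommutative ↥(D ⊔ B) := by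
  apply le_centralizer_iff_isMulCommutative.mp
  rw [centralizer_sup]
  exact sup_le (le_inf (le_centralizer_iff_isMulCommutative.mpr hD) hDB)
    (le_inf (le_centralizer_iff.mp hDB) (le_centralizer_iff_isMulCommutative.mpr hB))

theorem dStar_normal (S : Type*) [Group S] : (Cfsg.dStar S).Normal := by
  have h : ∀ g : S, cj g (Cfsg.dStar S) ≤ Cfsg.dStar S := by
    intro g
    unfold Cfsg.dStar
    rw [cj, Subgroup.map_le_iff_le_comap]
    apply sSup_le
    intro A hA
    rw [← Subgroup.map_le_iff_le_comap]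
    exact le_sSup (cj_mem_dStarFamily hA g)
  exact ⟨fun n hn g => h g (mem_cj.mpr ⟨n, hn, rfl⟩)⟩

/-- `D*(S)` centralizes every abelian subgroup of maximal order. -/
theorem dStar_le_centralizer_of_maxAbelian [Finite S] {p : ℕ} [Fact p.Prime] (hS : IsPGroup p S)
    {B : Subgroup S} (hB : B ∈ Cfsg.maxAbelianSubgroups S) :
    Cfsg.dStar S ≤ centralizer (B : Set S) := by
  have hnil : Group.IsNilpotent S := hS.isNilpotent
  have hfam := Cfsg.Agent.S3061.result hS
  set D := Cfsg.dStar S with hDdef
  have hDn : D.Normal := dStar_normal S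
  have hD : IsMulCommutative D := hfam.1
  have hBc : IsMulCommutative B := hB.1
  -- B is a best offender on D
  have hBO : ∀ X : Subgroup S, X ≤ B →
      Nat.card X * Nat.card (cD D X) ≤ Nat.card B * Nat.card (cD D B) := by
    intro X hXB
    have hXc : IsMulCommutative X := by
      refine ⟨⟨fun x y => ?_⟩⟩
      apply Subtype.ext
      exact comm_of_mem' hBc (hXB x.2) (hXB y.2)
    have hYc : IsMulCommutative ↥(cD D X) := by
      refine ⟨⟨fun x y => ?_⟩⟩
      apply Subtype.ext
      exact comm_of_mem' hD x.2.1 y.2.1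
    have hcomm : IsMulCommutative ↥(X ⊔ cD D X) := by
      rw [sup_comm]
      exact isMulCommutative_sup hYc hXc inf_le_right
    have h1 : Nat.card ↥(X ⊔ cD D X) ≤ Nat.card B := hB.2 _ hcomm
    have h2 := card_mul_card_le_sup_mul_inf X (cD D X)
    have h3 : X ⊓ cD D X ≤ cD D B :=
      le_inf (inf_le_right.trans inf_le_left)
        (inf_le_left.trans (hXB.trans (le_centralizer_iff_isMulCommutative.mpr hBc)))
    have h4 : Nat.card ↥(X ⊓ cD D X) ≤ Nat.card ↥(cD D B) := Subgroup.card_le_of_le h3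
    calc Nat.card X * Nat.card (cD D X) ≤ Nat.card ↥(X ⊔ cD D X) * Nat.card ↥(X ⊓ cD D X) := h2
      _ ≤ Nat.card B * Nat.card (cD D B) := Nat.mul_le_mul h1 h4
  obtain ⟨X, hXB, hXμ, hXc, hXq⟩ := exists_quadratic_offender D hD B hBc hBO
  -- X centralizes D
  have hXD : ∀ a ∈ X, ∀ d ∈ D, d * a = a * d := by
    intro a ha
    apply commute_of_mem_dStarFamily hfam (Z := cD D X)
    · intro d hd
      have e : ⁅a, d⁆ = ⁅d, a⁆⁻¹ := by simp only [commutatorElement_def]; group
      rw [e]; exact inv_mem (hXq d hd a ha)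
    · exact le_centralizer_iff.mp (inf_le_left.trans (le_centralizer_iff_isMulCommutative.mpr hD))
    · rw [mem_centralizer_iff]
      intro z hz
      exact ((mem_cD.mp hz).2 a ha).symm
  have hcDX : cD D X = D := by
    apply inf_eq_left.mpr
    intro d hd
    rw [mem_centralizer_iff]
    intro a ha
    exact (hXD a ha d hd).symm
  rw [hcDX] at hXc
  have := commutator_eq_bot_of_le_sup hD hXc
  exact commutator_eq_bot_iff_le_centralizer.mp this

/-- Let S be a finite p-group, J(S) the subgroup generated by the abelian subgroups of S of largest order and Z(J(S)) its centre. Then Z(S) ≤ D*(S) ≤ Z(J(S)), and every maximal normal abelian subgroup of S contains D*(S). -/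
theorem result {S : Type*} [Group S] [Finite S] {p : ℕ} [Fact p.Prime]
    (hS : IsPGroup p S) :
    Subgroup.center S ≤ Cfsg.dStar S ∧
    Cfsg.dStar S ≤ Cfsg.thompsonSubgroupA S ⊓ Subgroup.centralizer (Cfsg.thompsonSubgroupA S : Set S) ∧
    ∀ A : Subgroup S, A.Normal → IsMulCommutative A →
      (∀ B : Subgroup S, B.Normal → IsMulCommutative B → A ≤ B → B = A) → Cfsg.dStar S ≤ A := by
  classical
  have hnil : Group.IsNilpotent S := hS.isNilpotent
  have hfam := Cfsg.Agent.S3061.result hS
  have hDn : (Cfsg.dStar S).Normal := dStar_normal S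
  have hD : IsMulCommutative (Cfsg.dStar S) := hfam.1
  refine ⟨?_, ?_, ?_⟩
  · -- the centre is a member of the family
    apply le_sSup
    refine ⟨inferInstance, fun x _ a ha => ?_⟩
    exact (Subgroup.mem_center_iff.mp ha x).symm
  · -- D* ≤ Z(J(S))
    have hle : ∀ B ∈ Cfsg.maxAbelianSubgroups S, Cfsg.dStar S ≤ B := by
      intro B hB
      have hc := dStar_le_centralizer_of_maxAbelian hS hB
      have hcomm := isMulCommutative_sup hD hB.1 hc
      have h1 : Nat.card ↥(Cfsg.dStar S ⊔ B) ≤ Nat.card B := hB.2 _ hcomm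
      have h2 : B = Cfsg.dStar S ⊔ B := Subgroup.eq_of_le_of_card_ge le_sup_right h1
      rw [h2]; exact le_sup_left
    -- an abelian subgroup of maximal order exists
    have hne : Nonempty {A : Subgroup S // IsMulCommutative A} :=
      ⟨⟨⊥, le_centralizer_iff_isMulCommutative.mp bot_le⟩⟩
    obtain ⟨⟨B0, hB0c⟩, hB0⟩ := Finite.exists_max
      (fun A : {A : Subgroup S // IsMulCommutative A} => Nat.card A.1)
    have hB0mem : B0 ∈ Cfsg.maxAbelianSubgroups S := ⟨hB0c, fun B hB => hB0 ⟨B, hB⟩⟩
    apply le_inf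
    · exact (hle B0 hB0mem).trans (le_sSup hB0mem)
    · apply le_centralizer_iff.mp
      unfold Cfsg.thompsonSubgroupA
      apply sSup_le
      intro B hB
      exact le_centralizer_iff.mp (dStar_le_centralizer_of_maxAbelian hS hB)
  · intro A hAn hAc hAmax
    have h1 : A ≤ centralizer (Cfsg.dStar S : Set S) := normal_abelian_le_centralizer hfam A hAc
    have hcomm := isMulCommutative_sup hD hAc (le_centralizer_iff.mp h1)
    have hnorm : (Cfsg.dStar S ⊔ A).Normal := Subgroup.sup_normal _ _
    have := hAmax _ hnorm hcomm le_sup_right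
    rw [← this]; exact le_sup_left

end Cfsg.Agent.S3062
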