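import Cfsg.Statements.S3761
import Cfsg.Agent.Helper63.CycSelfCent

set_option autoImplicit false
open Cfsg

namespace Cfsg.Agent.S3761

open Subgroup Cfsg.Agent.Helper63.CSC in
/-- `C_G(℧¹(⟨u⟩)) = C_G(u^p)`. -/
theorem centralizer_powerClosure_eq {G : Type*} [Group G] (p : ℕ) (u : G) :
    centralizer (Cfsg.powerClosure p 1 (zpowers u) : Set G) = centralizer ({u ^ p} : Set G) := by
  apply le_antisymm
  · apply centralizer_le
    rw [Set.singleton_subset_iff]
    apply Subgroup.subset_closure
    exact ⟨u, mem_zpowers u, by rw [pow_one]⟩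
  · intro g hg
    rw [mem_centralizer_singleton_iff] at hg
    rw [mem_centralizer_iff]
    intro h hh
    have hle : Cfsg.powerClosure p 1 (zpowers u) ≤ centralizer ({g} : Set G) := by
      unfold Cfsg.powerClosure
      rw [closure_le]
      rintro _ ⟨x, hx, rfl⟩
      rw [SetLike.mem_coe, mem_centralizer_singleton_iff, pow_one]
      exact ((commute_pow_of_mem_zpowers hg hx).eq).symm
    exact (mem_centralizer_singleton_iff.1 (hle hh))

/-- Let G be a finite non-abelian p-group with a cyclic normal subgroup U of order p^n such that C_G(U) = U. Then either p = 2 and G is dihedral, generalized quaternion or semidihedral of order 2^(n+1); or, writing U₁ for the subgroup generated by the p-th powers of elements of U and M = C_G(U₁), the subgroup U has index p in M and the subgroup Ω₁(M) generated by the elements of M of order dividing p is elementary abelian of order p² and characteristic in G. -/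
theorem result {G : Type*} [Group G] [Finite G] {p : ℕ} [Fact p.Prime] (hG : IsPGroup p G) (hna : ¬ IsMulCommutative G) (U : Subgroup G) [U.Normal] (hU : IsCyclic U) (n : ℕ) (hUn : Nat.card U = p ^ n) (hC : Subgroup.centralizer (U : Set G) = U) : (p = 2 ∧ Nat.card G = 2 ^ (n + 1) ∧ ((∃ m : ℕ, Nonempty (G ≃* DihedralGroup m)) ∨ (∃ m : ℕ, Nonempty (G ≃* QuaternionGroup m)) ∨ Cfsg.IsQuasiDihedral G)) ∨ (U.relIndex (Subgroup.centralizer (Cfsg.powerClosure p 1 U : Set G)) = p ∧ Cfsg.IsElementaryAbelian p (Cfsg.omegaOne p (Subgroup.centralizer (Cfsg.powerClosure p 1 U : Set G))) ∧ Nat.card ↥(Cfsg.omegaOne p (Subgroup.centralizer (Cfsg.powerClosure p 1 U : Set G))) = p ^ 2 ∧ (Cfsg.omegaOne p (Subgroup.centralizer (Cfsg.powerClosure p 1 U : Set G))).Characteristic) := by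
  classical
  obtain ⟨⟨u, huU⟩, hgen⟩ := hU.exists_generator
  have hUeq : U = Subgroup.zpowers u := by
    apply le_antisymm
    · intro y hy
      obtain ⟨k, hk⟩ := Subgroup.mem_zpowers_iff.1 (hgen ⟨y, hy⟩)
      refine Subgroup.mem_zpowers_iff.2 ⟨k, ?_⟩
      have := congrArg Subtype.val hk
      simpa using this
    · exact Subgroup.zpowers_le.2 huU
  subst hUeq
  have hu : orderOf u = p ^ n := by rw [← Nat.card_zpowers]; exact hUn
  have hnormal : (Subgroup.zpowers u).Normal := inferInstance
  have hnorm : ∀ g : G, g * u * g⁻¹ ∈ Subgroup.zpowers u := fun g =>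
    hnormal.conj_mem u (Subgroup.mem_zpowers u) g
  have hcent : ∀ y : G, y * u = u * y → y ∈ Subgroup.zpowers u := by
    intro y hy
    have h1 : y ∈ Subgroup.centralizer ((Subgroup.zpowers u : Subgroup G) : Set G) := by
      rw [Subgroup.mem_centralizer_iff]
      intro z hz
      obtain ⟨k, rfl⟩ := Subgroup.mem_zpowers_iff.1 hz
      exact ((show Commute y u from hy).zpow_right k).eq.symm
    rwa [hC] at h1
  -- n ≥ 2
  have hn2 : 2 ≤ n := by
    by_contra hlt
    apply hna
    have hucen : ∀ g : G, g * u = u * g := by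
      have hn01 : n = 0 ∨ n = 1 := by omega
      rcases hn01 with rfl | rfl
      · rw [pow_zero, orderOf_eq_one_iff] at hu
        intro g; rw [hu, mul_one, one_mul]
      · have hle := Cfsg.Agent.Helper63.le_center_of_normal_of_card_eq_prime hG (Subgroup.zpowers u)
          (by rw [Nat.card_zpowers, hu, pow_one])
        intro g
        exact Subgroup.mem_center_iff.mp (hle (Subgroup.mem_zpowers u)) g
    refine ⟨⟨fun a b => ?_⟩⟩
    exact (Cfsg.Agent.Helper63.CSC.commute_of_mem_zpowers (hcent a (hucen a)) (hcent b (hucen b))).eq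
  rw [centralizer_powerClosure_eq]
  by_cases hB : (∃ y : G, y * u ^ p = u ^ p * y ∧ y ∉ Subgroup.zpowers u) ∧ ¬ (p = 2 ∧ n = 2)
  · right
    obtain ⟨⟨y0, hy0M, hy0⟩, hpn⟩ := hB
    have hpn' : p = 2 → 3 ≤ n := by
      intro h
      have : n ≠ 2 := fun h2 => hpn ⟨h, h2⟩
      omega
    exact Cfsg.Agent.Helper63.CSC.caseB hG hu (by omega) hpn' hnorm hcent hy0M hy0
  · left
    have htop : Subgroup.zpowers u ≠ ⊤ := by
      intro h
      apply hna
      refine ⟨⟨fun a b => ?_⟩⟩
      have ha : a ∈ Subgroup.zpowers u := by rw [h]; exact Subgroup.mem_top a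
      have hb : b ∈ Subgroup.zpowers u := by rw [h]; exact Subgroup.mem_top b
      exact (Cfsg.Agent.Helper63.CSC.commute_of_mem_zpowers ha hb).eq
    have hp2 : p = 2 := by
      by_contra hp2
      apply hB
      refine ⟨?_, fun h => hp2 h.1⟩
      obtain ⟨x0, hx0⟩ : ∃ x0 : G, x0 ∉ Subgroup.zpowers u := by
        by_contra h
        push Not at h
        exact htop (eq_top_iff.2 fun y _ => h y)
      obtain ⟨k, hk1, hk2⟩ := Cfsg.Agent.Helper73.exists_pow_mem hG (Subgroup.zpowers u) hx0
      exact ⟨x0 ^ p ^ k, Cfsg.Agent.Helper63.CSC.commute_pow_prime_of_odd hp2 hu (hnorm _) hk2, hk1⟩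
    subst hp2
    have hno : 3 ≤ n → ∀ x : G, x * u ^ 2 = u ^ 2 * x → x ∈ Subgroup.zpowers u := by
      intro hn3 x hx
      by_contra hxU
      exact hB ⟨⟨x, hx, hxU⟩, fun h => by omega⟩
    obtain ⟨hcard, hiso⟩ :=
      Cfsg.Agent.Helper63.CSC.dqsd_of_cyclic_selfcentralizing hG hu hnorm hcent htop hno
    exact ⟨rfl, hcard, hiso⟩

end Cfsg.Agent.S3761
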