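import Cfsg.Statements.S3762
import Cfsg.Agent.Helper63.SympTypeC
import Cfsg.Agent.Helper63.Frattini
import Cfsg.Agent.S0093

set_option autoImplicit false
open Cfsg
open scoped commutatorElement

namespace Cfsg.Agent.S3762

/-- Let G be a finite p-group of symplectic type: every characteristic abelian subgroup of G is cyclic. Then G = E ∗ R is a central product of subgroups E and R (they commute elementwise and generate G) where E is extraspecial or trivial, and R is cyclic, or p = 2 and R is dihedral, semidihedral or generalized quaternion of order at least 16. -/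
theorem result {G : Type*} [Group G] [Finite G] {p : ℕ} [Fact p.Prime] (hG : IsPGroup p G) (hsymp : ∀ A : Subgroup G, A.Characteristic → IsMulCommutative A → IsCyclic A) : ∃ E R : Subgroup G, (∀ e ∈ E, ∀ r ∈ R, e * r = r * e) ∧ E ⊔ R = ⊤ ∧ (E = ⊥ ∨ Cfsg.IsExtraspecial p ↥E) ∧ (IsCyclic R ∨ (p = 2 ∧ 16 ≤ Nat.card R ∧ ((∃ m : ℕ, Nonempty (↥R ≃* DihedralGroup m)) ∨ (∃ m : ℕ, Nonempty (↥R ≃* QuaternionGroup m)) ∨ Cfsg.IsQuasiDihedral ↥R))) := by
  classical
  by_cases htriv : Subsingleton G
  · refine ⟨⊥, ⊤, ?_, bot_sup_eq _, Or.inl rfl, Or.inl ?_⟩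
    · intro e he r _
      rw [Subgroup.mem_bot] at he
      subst he
      simp
    · exact isCyclic_of_subsingleton
  · rw [not_subsingleton_iff_nontrivial] at htriv
    obtain ⟨C, hCchar, hfrat, hcomm, hcent⟩ := Cfsg.Agent.S0093.result hG
    have hZchar : (Subgroup.centralizer (C : Set G)).Characteristic := by
      have := hCchar
      infer_instance
    have hZcomm : IsMulCommutative ↥(Subgroup.centralizer (C : Set G)) := by
      refine ⟨⟨fun a b => Subtype.ext ?_⟩⟩
      exact Subgroup.mem_centralizer_iff.1 b.2 a (hcent a.2)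
    have hZcyc := hsymp _ hZchar hZcomm
    obtain ⟨⟨u, huZ⟩, hgen⟩ := hZcyc.exists_generator
    have hZeq : Subgroup.centralizer (C : Set G) = Subgroup.zpowers u := by
      apply le_antisymm
      · intro y hy
        obtain ⟨k, hk⟩ := Subgroup.mem_zpowers_iff.1 (hgen ⟨y, hy⟩)
        refine Subgroup.mem_zpowers_iff.2 ⟨k, ?_⟩
        have := congrArg Subtype.val hk
        simpa using this
      · exact Subgroup.zpowers_le.2 huZ
    obtain ⟨n, hn⟩ := (IsPGroup.iff_orderOf.1 hG) u
    have hn1 : 1 ≤ n := by
      by_contra hlt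
      have hn0 : n = 0 := by omega
      rw [hn0, pow_zero, orderOf_eq_one_iff] at hn
      have hcen : Subgroup.center G ≤ Subgroup.centralizer (C : Set G) :=
        Subgroup.center_le_centralizer _
      rw [hZeq, hn, Subgroup.zpowers_one_eq_bot] at hcen
      have hnt := hG.center_nontrivial
      exact (Subgroup.nontrivial_iff_ne_bot _).1 hnt (le_bot_iff.1 hcen)
    have hdata : Cfsg.Agent.Helper63.Symp.CritData G p C u n :=
      { hG := hG
        hCchar := hCchar
        hZ := hZeq
        hZC := hZeq ▸ hcent
        hu := hn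
        hn := hn1
        hpow := by
          intro c hc
          rw [← hZeq]
          apply hfrat
          refine ⟨(⟨c, hc⟩ : C) ^ p, ?_, rfl⟩
          exact Cfsg.Agent.Helper63.pow_prime_mem_frattini (hG.to_subgroup C) _
        hcomm := by
          intro c hc g
          rw [← hZeq]
          have h1 : ⁅c, g⁆ ∈ ⁅C, (⊤ : Subgroup G)⁆ :=
            Subgroup.commutator_mem_commutator hc (Subgroup.mem_top g)
          have h2 := (hcomm h1).2
          have h3 : g * c * g⁻¹ * c⁻¹ = (⁅c, g⁆)⁻¹ := by
            rw [commutatorElement_def]; group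
          rw [h3]
          exact inv_mem h2
        hsymp := hsymp }
    exact hdata.main

end Cfsg.Agent.S3762
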