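import Cfsg.Statements.S0274
import Cfsg.Agent.Helper52.DicksonSub

set_option autoImplicit false
open Cfsg

namespace Cfsg.Agent.S0274

open Cfsg.Agent.Helper52.DicksonSub

theorem map_injective {F E : Type*} [Field F] [Field E] (f : F →+* E) :
    Function.Injective (Matrix.SpecialLinearGroup.map (n := Fin 2) f) := by
  intro g g' h
  apply Subtype.ext
  ext i j
  have := congrArg (fun M : Matrix.SpecialLinearGroup (Fin 2) E => M.1 i j) h
  simp only [Matrix.SpecialLinearGroup.map_apply_coe, RingHom.mapMatrix_apply,
    Matrix.map_apply] at this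
  exact f.injective this

/-- Dickson's Theorem for SL_2: if p is odd and H is a subgroup of SL_2(q), q a power of p, with more than one Sylow p-subgroup, then H contains a copy of SL_2(p). -/
theorem result {F : Type*} [Field F] [Fintype F] (p : ℕ) [Fact p.Prime] [CharP F p] (hp : p ≠ 2) (H : Subgroup (Matrix.SpecialLinearGroup (Fin 2) F)) (hH : 1 < Nat.card (Sylow p H)) : ∃ K : Subgroup (Matrix.SpecialLinearGroup (Fin 2) F), K ≤ H ∧ Nonempty (K ≃* Matrix.SpecialLinearGroup (Fin 2) (ZMod p)) := by
  classical
  haveI : CharP (AlgebraicClosure F) p :=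
    charP_of_injective_algebraMap (algebraMap F (AlgebraicClosure F)).injective p
  let ρ : H →* Matrix.SpecialLinearGroup (Fin 2) (AlgebraicClosure F) :=
    (Matrix.SpecialLinearGroup.map (algebraMap F (AlgebraicClosure F))).comp H.subtype
  have hinj : Function.Injective ρ :=
    (map_injective (algebraMap F (AlgebraicClosure F))).comp Subtype.val_injective
  obtain ⟨K, ⟨e⟩⟩ := exists_sl2p_of_sylow (ρ := ρ) p hp hinj hH
  refine ⟨K.map H.subtype, ?_, ⟨?_⟩⟩
  · rintro _ ⟨k, _, rfl⟩
    exact k.2
  · exact (Subgroup.equivMapOfInjective K H.subtype Subtype.val_injective).symm.trans e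

end Cfsg.Agent.S0274
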