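import Cfsg.Statements.S1466
import Cfsg.Agent.Helper25.PuigCentralizer

set_option autoImplicit false
open Cfsg

namespace Cfsg.Agent.S1466

theorem ne_bot_of_centralizer_le {R : Type*} [Group R] [Nontrivial R] (L : Subgroup R)
    (h : Subgroup.centralizer (L : Set R) ≤ L) : L ≠ ⊥ := by
  intro hL
  rw [hL] at h
  have : (⊤ : Subgroup R) ≤ ⊥ := by
    intro x _
    apply h
    rw [Subgroup.mem_centralizer_iff]
    intro y hy
    have : y = 1 := by simpa using hy
    subst this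
    simp
  exact top_ne_bot (le_bot_iff.mp this)

/-- Let p be a prime and R a nontrivial finite p-group. Then for every i > 0, Z(R) ≤ C_R(L_i(R)) ≤ L_i(R); likewise Z(R) ≤ C_R(L_*(R)) ≤ L_*(R) and Z(R) ≤ C_R(L(R)) ≤ L(R); and L(R) ≠ 1, L_*(R) ≠ 1. -/
theorem result {R : Type*} [Group R] [Finite R] (p : ℕ) [Fact p.Prime] (hR : IsPGroup p R) [Nontrivial R] :
    (∀ i : ℕ, 0 < i → Subgroup.center R ≤ Subgroup.centralizer ((Cfsg.puigSeq R i : Subgroup R) : Set R) ∧
        Subgroup.centralizer ((Cfsg.puigSeq R i : Subgroup R) : Set R) ≤ Cfsg.puigSeq R i) ∧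
      (Subgroup.center R ≤ Subgroup.centralizer ((Cfsg.puigLower R : Subgroup R) : Set R) ∧ Subgroup.centralizer ((Cfsg.puigLower R : Subgroup R) : Set R) ≤ Cfsg.puigLower R) ∧
      (Subgroup.center R ≤ Subgroup.centralizer ((Cfsg.puigSubgroup R : Subgroup R) : Set R) ∧ Subgroup.centralizer ((Cfsg.puigSubgroup R : Subgroup R) : Set R) ≤ Cfsg.puigSubgroup R) ∧
      Cfsg.puigSubgroup R ≠ ⊥ ∧ Cfsg.puigLower R ≠ ⊥ := by
  have hseq : ∀ i : ℕ, 0 < i →
      Subgroup.centralizer ((Cfsg.puigSeq R i : Subgroup R) : Set R) ≤ Cfsg.puigSeq R i := by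
    intro i hi
    obtain ⟨k, rfl⟩ := Nat.exists_eq_succ_of_ne_zero (Nat.pos_iff_ne_zero.mp hi)
    have := Cfsg.Agent.Helper25.puigSeq_normal (G := R) k
    exact Cfsg.Agent.Helper25.centralizer_puigStep_le hR (Cfsg.puigSeq R k)
  obtain ⟨k, hk⟩ := Cfsg.Agent.Helper25.puigSeq_stab (G := R)
  have hlow : Subgroup.centralizer ((Cfsg.puigLower R : Subgroup R) : Set R) ≤ Cfsg.puigLower R := by
    rw [← (hk (k + 1) (Nat.le_succ k)).1]
    exact hseq _ (by omega)
  have hup : Subgroup.centralizer ((Cfsg.puigSubgroup R : Subgroup R) : Set R) ≤ Cfsg.puigSubgroup R := by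
    rw [← (hk k le_rfl).2]
    exact hseq _ (by omega)
  refine ⟨fun i hi => ⟨Subgroup.center_le_centralizer _, hseq i hi⟩,
    ⟨Subgroup.center_le_centralizer _, hlow⟩, ⟨Subgroup.center_le_centralizer _, hup⟩,
    ne_bot_of_centralizer_le _ hup, ne_bot_of_centralizer_le _ hlow⟩

end Cfsg.Agent.S1466
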