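import Cfsg.Statements.S0910
-- import your own Cfsg.Agent.* helpers here
import Cfsg.Agent.Helper78.BlockBasic
import Cfsg.Agent.Helper78.Kernel

set_option autoImplicit false
open Cfsg

namespace Cfsg.Agent.S0910

open Cfsg.Agent.Helper78

/-- In a finite group there is a non-identity element whose class size is prime to `p`,
unless the group is trivial. -/
theorem exists_ne_one_not_dvd_index {G : Type*} [Group G] [Finite G] [Nontrivial G] (p : ℕ)
    [Fact p.Prime] : ∃ z : G, z ≠ 1 ∧ ¬ p ∣ (Subgroup.centralizer ({z} : Set G)).index := by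
  have hp : p.Prime := Fact.out
  by_cases hdvd : p ∣ Nat.card G
  · -- a nontrivial Sylow subgroup has nontrivial centre
    obtain ⟨P⟩ : Nonempty (Sylow p G) := inferInstance
    have hPne : (P : Subgroup G) ≠ ⊥ := P.ne_bot_of_dvd_card hdvd
    have : Nontrivial (P : Subgroup G) := (Subgroup.nontrivial_iff_ne_bot _).2 hPne
    have hc : Nontrivial (Subgroup.center (P : Subgroup G)) := P.2.center_nontrivial
    obtain ⟨y, hy⟩ := exists_ne (1 : Subgroup.center (P : Subgroup G))
    refine ⟨((y : (P : Subgroup G)) : G), ?_, ?_⟩
    · intro h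
      apply hy
      apply Subtype.ext
      apply Subtype.ext
      simpa using h
    · intro hd
      have hle : (P : Subgroup G) ≤
          Subgroup.centralizer ({((y : (P : Subgroup G)) : G)} : Set G) := by
        intro x hx
        rw [Subgroup.mem_centralizer_iff]
        intro w hw
        rw [Set.mem_singleton_iff] at hw
        subst hw
        have := Subgroup.mem_center_iff.1 y.2 ⟨x, hx⟩
        have h2 := congrArg Subtype.val this
        simpa using h2.symm
      exact P.not_dvd_index (dvd_trans hd (Subgroup.index_dvd_of_le hle))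
  · obtain ⟨z, hz⟩ := exists_ne (1 : G)
    exact ⟨z, hz, fun hd => hdvd (dvd_trans hd (Subgroup.index_dvd_card _))⟩

/-- Let G be a non-abelian finite simple group and p a prime. If an irreducible character χ lies in the principal block (relative to a maximal ideal of the algebraic integers containing p) and χ 1 is a power of p, then χ is the principal character. -/
theorem result {G : Type*} [Group G] [Finite G] (p : ℕ) [Fact p.Prime] (M : Ideal Cfsg.AlgInt) (hM : Cfsg.IsPModular p M) [IsSimpleGroup G] (hna : ∃ a b : G, a * b ≠ b * a) (χ : Cfsg.IrrCharacter G) (hχ : χ ∈ Cfsg.principalBlock M G) (k : ℕ) (hdeg : (χ : G → ℂ) 1 = (p : ℂ) ^ k) : (χ : G → ℂ) = fun _ => 1 := by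
  have hp : p.Prime := Fact.out
  have hM' := isPrime_of_isPModular hM
  obtain ⟨z, hz1, hzp⟩ := exists_ne_one_not_dvd_index (G := G) p
  have hdeg' : charDegree (χ : G → ℂ) = p ^ k := by
    have h1 := irrChar_one_eq_charDegree χ.2
    rw [hdeg] at h1
    have : ((p ^ k : ℕ) : ℂ) = (charDegree (χ : G → ℂ) : ℂ) := by push_cast; exact h1
    exact (Nat.cast_injective this).symm
  have hcop : Nat.Coprime (Subgroup.centralizer ({z} : Set G)).index
      (charDegree (χ : G → ℂ)) := by
    rw [hdeg']
    exact Nat.Coprime.pow_right k ((Nat.Prime.coprime_iff_not_dvd hp).2 hzp).symm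
  rcases irrChar_eq_zero_or_central_of_coprime χ.2 z hcop with h0 | hc
  · -- impossible: the central characters of `1` and `χ` at `z` would differ by a unit
    exfalso
    have hb : MemLocalIdeal M (centralChar (fun _ : G => (1 : ℂ)) z -
        centralChar (χ : G → ℂ) z) := hχ z
    have h1 : centralChar (fun _ : G => (1 : ℂ)) z =
        ((Subgroup.centralizer ({z} : Set G)).index : ℂ) := by
      unfold centralChar; simp
    have h2 : centralChar (χ : G → ℂ) z = 0 := by
      unfold centralChar; rw [h0]; simp
    rw [h1, h2, sub_zero, memLocalIdeal_natCast_iff hM] at hb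
    exact hzp hb
  · -- `z` is central modulo the kernel of a representation affording `χ`
    obtain ⟨χf, n, ρ, hρ, hρχ⟩ := χ
    simp only at hc hdeg ⊢
    subst hρχ
    have hker : ∀ h : G, z * h * z⁻¹ * h⁻¹ ∈ (ρ : G →* Module.End ℂ (Fin n → ℂ)).ker := by
      intro h
      rw [MonoidHom.mem_ker]
      exact rep_eq_one_of_character_eq ρ _ (hc h)
    rcases (MonoidHom.normal_ker (ρ : G →* Module.End ℂ (Fin n → ℂ))).eq_bot_or_eq_top with hbot | htop
    · -- faithful: `z` is central, impossible
      exfalso
      have hzc : z ∈ Subgroup.center G := by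
        rw [Subgroup.mem_center_iff]
        intro g
        have h3 := hker g
        rw [hbot, Subgroup.mem_bot] at h3
        have h4 : z * g * z⁻¹ * g⁻¹ * (g * z) = g * z := by rw [h3, one_mul]
        rw [← h4]; group
      rcases (Subgroup.center G).normal_of_characteristic.eq_bot_or_eq_top with hcb | hct
      · rw [hcb, Subgroup.mem_bot] at hzc
        exact hz1 hzc
      · obtain ⟨a, b, hab⟩ := hna
        apply hab
        have : a ∈ Subgroup.center G := by rw [hct]; exact Subgroup.mem_top a
        exact ((Subgroup.mem_center_iff.1 this) b).symm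
    · -- trivial action: degree one and `χ = 1`
      have hall : ∀ g, ρ g = 1 := by
        intro g
        have : g ∈ (ρ : G →* Module.End ℂ (Fin n → ℂ)).ker := by rw [htop]; exact Subgroup.mem_top g
        exact MonoidHom.mem_ker.1 this
      have hfr := finrank_eq_one_of_forall_eq_one ρ hall
      funext g
      show LinearMap.trace ℂ _ (ρ g) = 1
      rw [hall g, LinearMap.trace_one, hfr, Nat.cast_one]

end Cfsg.Agent.S0910
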