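import Cfsg.Statements.S0904
-- import your own Cfsg.Agent.* helpers here
import Cfsg.Agent.S0907
import Cfsg.Agent.S0910
import Cfsg.Agent.Helper74.DefectZero
import Cfsg.Agent.Helper74.DegP
import Cfsg.Agent.Helper78.IrrBasic
import Cfsg.Agent.Helper79.CharBasic
import Cfsg.Agent.Helper79.Linear

set_option autoImplicit false
open scoped ComplexConjugate
open Cfsg

namespace Cfsg.Agent.S0904

/-- The exponent of `r` in `p ^ a * q ^ b * r` is one. -/
theorem factorization_r (p q r a b : ℕ) (hp : p.Prime) (hq : q.Prime) (hr : r.Prime)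
    (hpr : p ≠ r) (hqr : q ≠ r) : (p ^ a * q ^ b * r).factorization r = 1 := by
  have h1 : p ^ a ≠ 0 := pow_ne_zero _ hp.ne_zero
  have h2 : q ^ b ≠ 0 := pow_ne_zero _ hq.ne_zero
  rw [Nat.factorization_mul (mul_ne_zero h1 h2) hr.ne_zero, Nat.factorization_mul h1 h2,
    Nat.factorization_pow, Nat.factorization_pow, hp.factorization, hq.factorization,
    hr.factorization]
  simp [hpr, hqr]

/-- A simple group of order `p ^ a * q ^ b * r` has no element whose order is divisible
by `p * r`. -/
theorem key {G : Type*} [Group G] [Finite G] [IsSimpleGroup G] (p q r a b : ℕ)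
    (hp : p.Prime) (hq : q.Prime) (hr : r.Prime) (hpq : p ≠ q) (hpr : p ≠ r) (hqr : q ≠ r)
    (hcard : Nat.card G = p ^ a * q ^ b * r) (y : G) (hyp : p ∣ orderOf y)
    (hyr : r ∣ orderOf y) : False := by
  classical
  have : Fintype G := Fintype.ofFinite G
  have : Fact p.Prime := ⟨hp⟩
  have : Fact q.Prime := ⟨hq⟩
  have hpG : p ∣ Nat.card G := hyp.trans (orderOf_dvd_natCard y)
  have hrG : r ∣ Nat.card G := hyr.trans (orderOf_dvd_natCard y)
  -- `G` is not abelian
  have hna : ∃ a b : G, a * b ≠ b * a := by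
    by_contra hcon
    push Not at hcon
    obtain ⟨x0, hx0⟩ := exists_prime_orderOf_dvd_card' p hpG
    have hn : (Subgroup.zpowers x0).Normal :=
      ⟨fun n hn g => by rw [hcon g n, mul_inv_cancel_right]; exact hn⟩
    rcases hn.eq_bot_or_eq_top with h | h
    · have hx1 : x0 = 1 := Subgroup.zpowers_eq_bot.1 h
      rw [hx1, orderOf_one] at hx0
      exact hp.ne_one hx0.symm
    · have hc : Nat.card G = p := by
        rw [← Subgroup.card_top (G := G), ← h, Nat.card_zpowers, hx0]
      rw [hc] at hrG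
      exact hpr ((Nat.prime_dvd_prime_iff_eq hr hp).1 hrG).symm
  obtain ⟨M, hM⟩ := Helper74.exists_isPModular p hp
  obtain ⟨Mq, hMq⟩ := Helper74.exists_isPModular q hq
  have hMP : M.IsPrime := Helper78.isPrime_of_isPModular hM
  have hMqP : Mq.IsPrime := Helper78.isPrime_of_isPModular hMq
  let one : IrrCharacter G := ⟨fun _ => 1, Helper79.isIrrCharacter_one⟩
  have hB : IsPBlock M (principalBlock M G) := ⟨one, rfl⟩
  have horth := S0907.result p M hM (principalBlock M G) hB 1 y
    (by rw [orderOf_one]; exact hp.not_dvd_one) hyp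
  have hfin : Finite (IrrCharacter G) := Helper79.irr_finite'
  rw [finsum_mem_eq_finite_toFinset_sum _ (Set.toFinite _)] at horth
  have hone_mem : one ∈ (Set.toFinite (principalBlock M G)).toFinset := by
    rw [Set.Finite.mem_toFinset]
    exact Helper78.sameBlock_refl hMP _
  rw [← Finset.add_sum_erase _ _ hone_mem] at horth
  have hone_term : (one : G → ℂ) 1 * conj ((one : G → ℂ) y) = 1 := by
    show (1 : ℂ) * conj (1 : ℂ) = 1
    simp
  rw [hone_term] at horth
  have hfacr : (Nat.card G).factorization r = 1 := by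
    rw [hcard]; exact factorization_r p q r a b hp hq hr hpr hqr
  have hrest : MemLocalIdeal Mq
      (∑ χ ∈ ((Set.toFinite (principalBlock M G)).toFinset.erase one),
        (χ : G → ℂ) 1 * conj ((χ : G → ℂ) y)) := by
    refine Helper78.memLocalIdeal_sum hMqP _ _ (fun χ hχ => ?_)
    rw [Finset.mem_erase, Set.Finite.mem_toFinset] at hχ
    obtain ⟨hne, hmem⟩ := hχ
    by_cases hrd : r ∣ charDegree (χ : G → ℂ)
    · have h0 : (χ : G → ℂ) y = 0 := by
        refine Helper74.irr_eq_zero_of_defect_zero χ hr ?_ y hyr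
        rw [hfacr, pow_one]; exact hrd
      rw [h0, map_zero, mul_zero]
      exact Helper78.memLocalIdeal_zero hMqP
    · have hd : charDegree (χ : G → ℂ) ∣ Nat.card G := Helper74.charDegree_dvd_card χ
      rw [hcard] at hd
      have hcop : Nat.Coprime (charDegree (χ : G → ℂ)) r :=
        ((Nat.Prime.coprime_iff_not_dvd hr).2 hrd).symm
      have hd2 : charDegree (χ : G → ℂ) ∣ p ^ a * q ^ b := hcop.dvd_of_dvd_mul_right hd
      have hqd : q ∣ charDegree (χ : G → ℂ) := by
        by_contra hqd
        have hcopq : Nat.Coprime (charDegree (χ : G → ℂ)) (q ^ b) :=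
          Nat.Coprime.pow_right b ((Nat.Prime.coprime_iff_not_dvd hq).2 hqd).symm
        have hd3 : charDegree (χ : G → ℂ) ∣ p ^ a := hcopq.dvd_of_dvd_mul_right hd2
        obtain ⟨k, -, hk⟩ := (Nat.dvd_prime_pow hp).1 hd3
        have hdeg : (χ : G → ℂ) 1 = (p : ℂ) ^ k := by
          rw [Helper78.irrChar_one_eq_charDegree χ.2, hk]; push_cast; rfl
        have h1 := S0910.result p M hM hna χ hmem k hdeg
        exact hne (Subtype.ext h1)
      have h1 : MemLocalIdeal Mq ((χ : G → ℂ) 1) := by
        rw [Helper78.irrChar_one_eq_charDegree χ.2]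
        exact (Helper78.memLocalIdeal_natCast_iff hMq).2 hqd
      have h2 : MemLocalRing Mq (conj ((χ : G → ℂ) y)) := by
        refine Helper78.memLocalRing_of_isIntegral hMqP ?_
        have hi := Helper78.isIntegral_irrChar_apply χ.2 y
        exact hi.map (starRingEnd ℂ).toIntAlgHom
      exact Helper78.memLocalIdeal_mul_right hMqP h1 h2
  -- `1 = - rest` lies in the local ideal: contradiction
  have h1 : (1 : ℂ) = - (∑ χ ∈ ((Set.toFinite (principalBlock M G)).toFinset.erase one),
        (χ : G → ℂ) 1 * conj ((χ : G → ℂ) y)) := by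
    linear_combination horth
  exact Helper78.not_memLocalIdeal_one hMqP (h1 ▸ Helper78.memLocalIdeal_neg hrest)

/-- Let G be a finite simple group of order p ^ a * q ^ b * r with p, q, r distinct primes. Then a Sylow r-subgroup of G is self-centralizing. -/
theorem result {G : Type*} [Group G] [Finite G] [IsSimpleGroup G] (p q r a b : ℕ) (hp : p.Prime) (hq : q.Prime) [Fact r.Prime] (hpq : p ≠ q) (hpr : p ≠ r) (hqr : q ≠ r) (hcard : Nat.card G = p ^ a * q ^ b * r) (S : Sylow r G) : Subgroup.centralizer (S : Set G) = (S : Subgroup G) := by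
  classical
  have hr : r.Prime := Fact.out
  have hfacr : (Nat.card G).factorization r = 1 := by
    rw [hcard]; exact factorization_r p q r a b hp hq hr hpr hqr
  have hScard : Nat.card (S : Subgroup G) = r := by
    rw [Sylow.card_eq_multiplicity, hfacr, pow_one]
  -- a generator of `S`
  have : Fact (Nat.card (S : Subgroup G)).Prime := ⟨by rw [hScard]; exact hr⟩
  have hcyc : IsCyclic (S : Subgroup G) := isCyclic_of_prime_card rfl
  obtain ⟨⟨π, hπS⟩, hπgen⟩ := hcyc.exists_generator
  have hπord : orderOf π = r := by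
    have h1 : orderOf (⟨π, hπS⟩ : (S : Subgroup G)) = Nat.card (S : Subgroup G) :=
      orderOf_eq_card_of_forall_mem_zpowers hπgen
    rw [← hScard, ← h1]
    exact (Subgroup.orderOf_mk π hπS).symm
  have hSz : ∀ g ∈ (S : Subgroup G), g ∈ Subgroup.zpowers π := by
    intro g hg
    obtain ⟨k, hk⟩ := hπgen ⟨g, hg⟩
    refine ⟨k, ?_⟩
    have := congrArg Subtype.val hk
    simpa using this
  have hSC : (S : Subgroup G) ≤ Subgroup.centralizer (S : Set G) := by
    intro g hg
    rw [Subgroup.mem_centralizer_iff]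
    intro h hh
    obtain ⟨k, rfl⟩ := hSz g hg
    obtain ⟨l, rfl⟩ := hSz h hh
    exact (Commute.zpow_zpow_self π l k).eq
  refine le_antisymm ?_ hSC
  by_contra hle
  have hlt : (S : Subgroup G) < Subgroup.centralizer (S : Set G) := lt_of_le_of_ne hSC
    (fun h => hle (h ▸ le_refl _))
  obtain ⟨m, hm⟩ := Subgroup.card_dvd_of_le hSC
  have hCpos : 0 < Nat.card (Subgroup.centralizer (S : Set G)) := Nat.card_pos
  have hm1 : m ≠ 1 := by
    intro h1
    rw [h1, mul_one] at hm
    exact hle (le_of_eq (Subgroup.eq_of_le_of_card_ge hSC (le_of_eq hm)).symm)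
  obtain ⟨s, hs, hsm⟩ := Nat.exists_prime_and_dvd hm1
  have hsC : s ∣ Nat.card (Subgroup.centralizer (S : Set G)) := by
    rw [hm]; exact hsm.mul_left _
  have hCG : Nat.card (Subgroup.centralizer (S : Set G)) ∣ Nat.card G :=
    Subgroup.card_subgroup_dvd_card _
  have hsr : s ≠ r := by
    rintro rfl
    have h2 : s ^ 2 ∣ Nat.card G := by
      refine dvd_trans ?_ hCG
      rw [hm, hScard, pow_two]
      exact mul_dvd_mul_left _ hsm
    have := (Nat.Prime.pow_dvd_iff_le_factorization hs Nat.card_pos.ne').1 h2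
    omega
  have : Fact s.Prime := ⟨hs⟩
  obtain ⟨x, hx⟩ := exists_prime_orderOf_dvd_card' s hsC
  have hxo : orderOf (x : G) = s := by rw [Subgroup.orderOf_coe]; exact hx
  have hcomm : Commute (x : G) π := by
    have := (Subgroup.mem_centralizer_iff.1 x.2) π hπS
    exact this.symm
  have hyord : orderOf ((x : G) * π) = s * r := by
    rw [hcomm.orderOf_mul_eq_mul_orderOf_of_coprime (by
      rw [hxo, hπord]; exact (Nat.coprime_primes hs hr).2 hsr), hxo, hπord]
  have hsG : s ∣ p ^ a * q ^ b * r := hcard ▸ hsC.trans hCG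
  have hspq : s = p ∨ s = q := by
    rcases (Nat.Prime.dvd_mul hs).1 hsG with h | h
    · rcases (Nat.Prime.dvd_mul hs).1 h with h | h
      · exact Or.inl ((Nat.prime_dvd_prime_iff_eq hs hp).1 (hs.dvd_of_dvd_pow h))
      · exact Or.inr ((Nat.prime_dvd_prime_iff_eq hs hq).1 (hs.dvd_of_dvd_pow h))
    · exact absurd ((Nat.prime_dvd_prime_iff_eq hs hr).1 h) hsr
  rcases hspq with rfl | rfl
  · exact key s q r a b hp hq hr hpq hpr hqr hcard ((x : G) * π)
      (by rw [hyord]; exact dvd_mul_right _ _) (by rw [hyord]; exact dvd_mul_left _ _)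
  · exact key s p r b a hq hp hr hpq.symm hqr hpr (by rw [hcard]; ring) ((x : G) * π)
      (by rw [hyord]; exact dvd_mul_right _ _) (by rw [hyord]; exact dvd_mul_left _ _)

end Cfsg.Agent.S0904
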