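import Cfsg.Statements.S0959
import Cfsg.Agent.Helper16.Defect
import Cfsg.Agent.S0911

set_option autoImplicit false
open Cfsg

namespace Cfsg.Agent.S0959

open Cfsg.Agent.Helper16

/-- For a p-block B with defect group D and a p-subgroup P: some class on which the idempotent coefficient of B is a local unit meets C_G(P) if and only if P lies in a conjugate of D. -/
theorem result {G : Type*} [Group G] [Finite G] (p : ℕ) [Fact p.Prime] (M : Ideal Cfsg.AlgInt) (hM : Cfsg.IsPModular p M) (B : Set (Cfsg.IrrCharacter G)) (hB : Cfsg.IsPBlock M B) (D : Subgroup G) (hD : Cfsg.IsDefectGroup p M B D) (P : Subgroup G) (hP : IsPGroup p P) : (∃ g : G, Cfsg.MemLocalRing M (Cfsg.blockCoeff B g) ∧ ¬ Cfsg.MemLocalIdeal M (Cfsg.blockCoeff B g) ∧ ∃ c : G, IsConj g c ∧ c ∈ Subgroup.centralizer (P : Set G)) ↔ ∃ x : G, P.map (MulAut.conj x).toMonoidHom ≤ D := by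
  classical
  have : Fintype G := Fintype.ofFinite G
  have hMp : M.IsPrime := IsPModular.isPrime hM
  have hpM : (p : AlgInt) ∈ M := hM.2.2
  obtain ⟨χ₀, rfl⟩ := hB
  obtain ⟨g₀, hg₀, S, rfl⟩ := hD
  obtain ⟨hg1, hg2, hg3⟩ := hg₀
  constructor
  · rintro ⟨g, _, hgu, c, hgc, hcP⟩
    have hcu : ¬ MemLocalIdeal M (blockCoeff (blockOf M (χ₀ : G → ℂ)) c) := by
      rw [blockCoeff_of_isConj χ₀ hgc]; exact hgu
    have hPc : P ≤ Subgroup.centralizer ({c} : Set G) := by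
      intro u hu
      rw [Subgroup.mem_centralizer_singleton_iff]
      rw [Subgroup.mem_centralizer_iff] at hcP
      exact hcP u hu
    obtain ⟨x₀, hx₀, hPx₀⟩ := minmax_core hpM χ₀ g₀ c hg3 hcu P hP hPc
    obtain ⟨y, rfl⟩ := isConj_iff.mp hx₀
    have hP' := Cfsg.Agent.S0911.map_conj_le_centralizer P g₀ y hPx₀
    obtain ⟨c', _, hc'⟩ := Cfsg.Agent.S0911.pgroup_le_conj_sylow p _ S _ (hP.map _) hP'
    refine ⟨c'⁻¹ * y⁻¹, ?_⟩
    rintro _ ⟨u, hu, rfl⟩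
    have h1 : y⁻¹ * u * y ∈ P.map (MulAut.conj y⁻¹).toMonoidHom := ⟨u, hu, by simp⟩
    obtain ⟨d, hd, hdu⟩ := hc' h1
    have hdu' : c' * d * c'⁻¹ = y⁻¹ * u * y := hdu
    have : (MulAut.conj (c'⁻¹ * y⁻¹)).toMonoidHom u = d := by
      show c'⁻¹ * y⁻¹ * u * (c'⁻¹ * y⁻¹)⁻¹ = d
      calc c'⁻¹ * y⁻¹ * u * (c'⁻¹ * y⁻¹)⁻¹ = c'⁻¹ * (y⁻¹ * u * y) * c' := by simp [mul_assoc]
        _ = d := by rw [← hdu']; simp [mul_assoc]
    rw [this]
    exact hd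
  · rintro ⟨x, hx⟩
    refine ⟨g₀, hg1, hg2, x⁻¹ * g₀ * x, isConj_iff.mpr ⟨x⁻¹, by simp⟩, ?_⟩
    rw [Subgroup.mem_centralizer_iff]
    intro u hu
    have h1 : x * u * x⁻¹ ∈ (S : Subgroup _).map (Subgroup.centralizer ({g₀} : Set G)).subtype :=
      hx ⟨u, hu, rfl⟩
    have h2 : x * u * x⁻¹ ∈ Subgroup.centralizer ({g₀} : Set G) := Subgroup.map_subtype_le _ h1
    rw [Subgroup.mem_centralizer_singleton_iff] at h2
    -- (x u x⁻¹) g₀ = g₀ (x u x⁻¹)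
    have h3 : x⁻¹ * (x * u * x⁻¹ * g₀) * x = x⁻¹ * (g₀ * (x * u * x⁻¹)) * x := by rw [h2]
    have h4 : u * (x⁻¹ * g₀ * x) = x⁻¹ * g₀ * x * u := by
      simpa [mul_assoc] using h3
    exact h4

end Cfsg.Agent.S0959
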