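import Cfsg.Statements.S0087
import Cfsg.Agent.Helper2.Fusion

set_option autoImplicit false
open Cfsg

namespace Cfsg.Agent.S0087

open scoped Pointwise IsMulCommutative

variable {G : Type*} [Group G]

theorem mem_conj_smul_iff (g x : G) (H : Subgroup G) :
    x ∈ MulAut.conj g • H ↔ g⁻¹ * x * g ∈ H := by
  rw [Subgroup.mem_pointwise_smul_iff_inv_smul_mem]
  simp [MulAut.smul_def]

theorem card_conj_smul (g : G) (H : Subgroup G) :
    Nat.card (MulAut.conj g • H : Subgroup G) = Nat.card H :=
  (Nat.card_congr (Subgroup.equivSMul (MulAut.conj g) H).toEquiv).symm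

/-- A Hall subgroup contains a Sylow `p`-subgroup of `G` for each prime `p` dividing its order. -/
theorem exists_sylow_le_of_hall [Finite G] (H : Subgroup G)
    (hHall : Nat.Coprime (Nat.card H) H.index) (p : ℕ) [Fact p.Prime] (hp : p ∣ Nat.card H) :
    ∃ P : Sylow p G, (P : Subgroup G) ≤ H := by
  have hpp : p.Prime := Fact.out
  obtain Q : Sylow p H := default
  have hQ : Nat.card (Q : Subgroup H) = p ^ (Nat.card H).factorization p := Q.card_eq_multiplicity
  have hpi : ¬ p ∣ H.index := by
    intro h
    have := Nat.dvd_gcd hp h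
    rw [hHall] at this
    exact hpp.one_lt.ne' (Nat.dvd_one.mp this)
  have hidx : H.index ≠ 0 := Subgroup.index_ne_zero_of_finite
  have hfac : (Nat.card G).factorization p = (Nat.card H).factorization p := by
    rw [← H.card_mul_index, Nat.factorization_mul Nat.card_pos.ne' hidx]
    simp [Nat.factorization_eq_zero_of_not_dvd hpi]
  refine ⟨Sylow.ofCard ((Q : Subgroup H).map H.subtype) ?_, ?_⟩
  · rw [Subgroup.card_map_of_injective H.subtype_injective, hQ, hfac]
  · rw [Sylow.coe_ofCard]
    exact Subgroup.map_subtype_le _

/-- The fusion lemma: an abelian Hall subgroup that is central in its normalizer has no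
fusion. -/
theorem conj_eq_self [Finite G] (H : Subgroup G) (hHall : Nat.Coprime (Nat.card H) H.index)
    (h : Subgroup.normalizer (H : Set G) ≤ Subgroup.centralizer (H : Set G))
    (x : G) (hx : x ∈ H) :
    ∀ (n : ℕ) (g : G), Nat.card H - Nat.card (H ⊓ MulAut.conj g • H : Subgroup G) = n →
      g⁻¹ * x * g ∈ H → g⁻¹ * x * g = x := by
  have hHc : ∀ a ∈ H, ∀ b ∈ H, a * b = b * a := by
    intro a ha b hb
    have := h (Subgroup.le_normalizer ha)
    rw [Subgroup.mem_centralizer_iff] at this
    exact (this b hb).symm
  intro n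
  induction n using Nat.strong_induction_on with
  | _ n ih =>
    intro g hn hy
    set H' : Subgroup G := MulAut.conj g • H with hH'
    set K : Subgroup G := H ⊓ H' with hK
    by_cases hKH : K = H
    · -- g normalizes H
      have hle : H ≤ H' := by rw [← hKH]; exact inf_le_right
      have heq : H = H' :=
        Subgroup.eq_of_le_of_card_ge hle (by rw [hH', card_conj_smul])
      have hgn : g ∈ Subgroup.normalizer (H : Set G) := by
        rw [Subgroup.mem_normalizer_iff]
        intro z
        constructor
        · intro hz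
          have : g * z * g⁻¹ ∈ H' := by
            rw [hH', mem_conj_smul_iff]
            have : g⁻¹ * (g * z * g⁻¹) * g = z := by group
            rw [this]; exact hz
          rw [heq]; exact this
        · intro hz
          rw [heq, hH', mem_conj_smul_iff] at hz
          have : g⁻¹ * (g * z * g⁻¹) * g = z := by group
          rw [this] at hz; exact hz
      have hgc := h hgn
      rw [Subgroup.mem_centralizer_iff] at hgc
      have := hgc x hx
      calc g⁻¹ * x * g = g⁻¹ * (x * g) := by group
        _ = g⁻¹ * (g * x) := by rw [this]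
        _ = x := by group
    · -- enlarge the intersection
      have hKle : K ≤ H := inf_le_left
      have hKlt : K < H := lt_of_le_of_ne hKle hKH
      have hxK : x ∈ K := by
        refine Subgroup.mem_inf.mpr ⟨hx, ?_⟩
        rw [hH', mem_conj_smul_iff]; exact hy
      -- a prime dividing the index of K in H
      have hrel : K.relIndex H ≠ 1 := by
        intro h1
        rw [Subgroup.relIndex_eq_one] at h1
        exact hKH (le_antisymm hKle h1)
      obtain ⟨p, hp, hpd⟩ := Nat.exists_prime_and_dvd hrel
      have : Fact p.Prime := ⟨hp⟩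
      have hcardKH : Nat.card K * K.relIndex H = Nat.card H := by
        have := (K.subgroupOf H).card_mul_index
        rw [Nat.card_congr (Subgroup.subgroupOfEquivOfLe hKle).toEquiv] at this
        exact this
      have hpH : p ∣ Nat.card H := by
        rw [← hcardKH]; exact dvd_mul_of_dvd_right hpd _
      obtain ⟨P, hPH⟩ := exists_sylow_le_of_hall H hHall p hpH
      -- P is not contained in K
      have hPK : ¬ (P : Subgroup G) ≤ K := by
        intro hle
        have h1 : Nat.card (P : Subgroup G) ∣ Nat.card K := Subgroup.card_dvd_of_le hle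
        rw [Sylow.card_eq_multiplicity] at h1
        have h2 : p ^ ((Nat.card G).factorization p + 1) ∣ Nat.card G := by
          rw [pow_succ]
          calc p ^ (Nat.card G).factorization p * p ∣ Nat.card K * K.relIndex H :=
                mul_dvd_mul h1 hpd
            _ = Nat.card H := hcardKH
            _ ∣ Nat.card G := Subgroup.card_subgroup_dvd_card H
        exact Nat.pow_succ_factorization_not_dvd Nat.card_pos.ne' hp h2
      -- both H and H' centralize K
      set C : Subgroup G := Subgroup.centralizer (K : Set G) with hC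
      have hHC : H ≤ C := by
        intro a ha
        rw [hC, Subgroup.mem_centralizer_iff]
        intro k hk
        exact hHc k (hKle hk) a ha
      have hH'C : H' ≤ C := by
        intro a ha
        rw [hC, Subgroup.mem_centralizer_iff]
        intro k hk
        have hk' : k ∈ H' := hk.2
        rw [hH', mem_conj_smul_iff] at ha hk'
        have := hHc _ hk' _ ha
        -- g⁻¹ k g * g⁻¹ a g = g⁻¹ a g * g⁻¹ k g
        have e : g * (g⁻¹ * k * g * (g⁻¹ * a * g)) * g⁻¹ = g * (g⁻¹ * a * g * (g⁻¹ * k * g)) * g⁻¹ := by
          rw [this]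
        have e1 : g * (g⁻¹ * k * g * (g⁻¹ * a * g)) * g⁻¹ = k * a := by group
        have e2 : g * (g⁻¹ * a * g * (g⁻¹ * k * g)) * g⁻¹ = a * k := by group
        rw [e1, e2] at e
        exact e
      have h1 : (P : Subgroup G) ≤ C := hPH.trans hHC
      have h2 : ((g • P : Sylow p G) : Subgroup G) ≤ C := by
        intro a ha
        rw [Cfsg.Agent.Helper2.mem_smul_sylow_iff] at ha
        apply hH'C
        rw [hH', mem_conj_smul_iff]
        exact hPH ha
      obtain ⟨c, hcC, hcg⟩ := Cfsg.Agent.Helper2.exists_mul_mem_normalizer P C g h1 h2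
      -- the new conjugating element
      have hcx : c * x = x * c := by
        rw [hC, Subgroup.mem_centralizer_iff] at hcC
        exact (hcC x hxK).symm
      have hy' : (c * g)⁻¹ * x * (c * g) = g⁻¹ * x * g := by
        calc (c * g)⁻¹ * x * (c * g) = g⁻¹ * (c⁻¹ * (x * c)) * g := by group
          _ = g⁻¹ * (c⁻¹ * (c * x)) * g := by rw [hcx]
          _ = g⁻¹ * x * g := by group
      -- K ⊔ P ≤ H ⊓ (c g) • H
      have hKnew : K ≤ H ⊓ MulAut.conj (c * g) • H := by
        intro k hk
        refine Subgroup.mem_inf.mpr ⟨hKle hk, ?_⟩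
        rw [mem_conj_smul_iff]
        have hk' : k ∈ H' := hk.2
        rw [hH', mem_conj_smul_iff] at hk'
        have hck : c * k = k * c := by
          rw [hC, Subgroup.mem_centralizer_iff] at hcC
          exact (hcC k hk).symm
        have : (c * g)⁻¹ * k * (c * g) = g⁻¹ * k * g := by
          calc (c * g)⁻¹ * k * (c * g) = g⁻¹ * (c⁻¹ * (k * c)) * g := by group
            _ = g⁻¹ * (c⁻¹ * (c * k)) * g := by rw [hck]
            _ = g⁻¹ * k * g := by group
        rw [this]; exact hk'
      have hPnew : (P : Subgroup G) ≤ H ⊓ MulAut.conj (c * g) • H := by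
        intro a ha
        refine Subgroup.mem_inf.mpr ⟨hPH ha, ?_⟩
        rw [mem_conj_smul_iff]
        apply hPH
        have hn' : (c * g)⁻¹ ∈ Subgroup.normalizer ((P : Subgroup G) : Set G) := inv_mem hcg
        have := (Subgroup.mem_normalizer_iff.mp hn' a).mp ha
        simpa using this
      have hlt : Nat.card K < Nat.card (H ⊓ MulAut.conj (c * g) • H : Subgroup G) := by
        by_contra hnot
        have := Subgroup.eq_of_le_of_card_ge hKnew (not_lt.mp hnot)
        exact hPK (this ▸ hPnew)
      have hle2 : Nat.card (H ⊓ MulAut.conj (c * g) • H : Subgroup G) ≤ Nat.card H :=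
        Subgroup.card_le_of_le inf_le_left
      have hKH' : Nat.card K ≤ Nat.card H := Subgroup.card_le_of_le hKle
      have hres := ih (Nat.card H - Nat.card (H ⊓ MulAut.conj (c * g) • H : Subgroup G))
        (by rw [← hn]; omega) (c * g) rfl (by rw [hy']; exact hy)
      rw [hy'] at hres
      exact hres

/-- A Hall subgroup that is central in its normalizer has a normal complement. -/
theorem result {G : Type*} [Group G] [Finite G] (H : Subgroup G) (hHall : Nat.Coprime (Nat.card H) H.index) (h : Subgroup.normalizer (H : Set G) ≤ Subgroup.centralizer (H : Set G)) : ∃ N : Subgroup G, N.Normal ∧ N.IsComplement' H := by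
  have hcomm : IsMulCommutative H :=
    ⟨⟨fun a b => Subtype.ext (h (Subgroup.le_normalizer b.2) a a.2)⟩⟩
  have key : ∀ (x : G), x ∈ H → ∀ (k : ℕ) (g₀ : G), g₀⁻¹ * x ^ k * g₀ ∈ H → g₀⁻¹ * x ^ k * g₀ = x ^ k := by
    intro x hx k g₀ hk
    exact conj_eq_self H hHall h (x ^ k) (Subgroup.pow_mem H hx k) _ g₀ rfl hk
  have hpow : ∀ x : H, MonoidHom.transfer (MonoidHom.id H) (x : G) = x ^ H.index := by
    intro x
    rw [MonoidHom.transfer_eq_pow (MonoidHom.id H) (x : G) (key x x.2)]
    apply Subtype.ext
    simp
  set V : G →* H := MonoidHom.transfer (MonoidHom.id H) with hV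
  have hbij : Function.Bijective (fun y : H => y ^ H.index) := (powCoprime hHall).bijective
  refine ⟨V.ker, inferInstance, ?_⟩
  apply Subgroup.isComplement'_of_disjoint_and_mul_eq_univ
  · rw [disjoint_iff, eq_bot_iff]
    rintro x ⟨hxk, hxH⟩
    rw [Subgroup.mem_bot]
    have h1 : V x = 1 := hxk
    have h2 := hpow ⟨x, hxH⟩
    simp only at h2
    rw [h1] at h2
    have h3 : (⟨x, hxH⟩ : H) = 1 := by
      apply hbij.1
      simp only [one_pow]
      exact h2.symm
    exact congrArg Subtype.val h3
  · rw [Set.eq_univ_iff_forall]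
    intro g
    obtain ⟨y, hy⟩ := hbij.2 (V g)
    simp only at hy
    refine ⟨g * (y : G)⁻¹, ?_, (y : G), y.2, by group⟩
    show g * (y : G)⁻¹ ∈ V.ker
    rw [MonoidHom.mem_ker, map_mul, map_inv, hpow y, hy, mul_inv_cancel]

end Cfsg.Agent.S0087
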