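-- Statement S3116: Aut of a dihedral 2-group (order ≥ 8) or a semidihedral 2-group is a 2-group.
import Cfsg.Statements.S3116

set_option autoImplicit false
open Cfsg

namespace Cfsg.Agent.S3116

/-- Iterating an automorphism that maps `x` to `x ^ a`. -/
theorem pow_apply_of_apply_eq_pow {X : Type*} [Group X] (φ : MulAut X) (x : X) (a : ℕ)
    (h : φ x = x ^ a) (k : ℕ) : (φ ^ k) x = x ^ (a ^ k) := by
  induction k with
  | zero => simp
  | succ k ih =>
    rw [pow_succ', MulAut.mul_apply, ih, map_pow, h, ← pow_mul, pow_succ']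

/-- Iterating an automorphism that maps `g` to `g * c` and fixes `c`. -/
theorem pow_apply_of_apply_eq_mul {X : Type*} [Group X] (ψ : MulAut X) (g c : X)
    (h : ψ g = g * c) (hc : ψ c = c) (k : ℕ) : (ψ ^ k) g = g * c ^ k := by
  induction k with
  | zero => simp
  | succ k ih =>
    rw [pow_succ', MulAut.mul_apply, ih, map_mul, map_pow, h, hc, mul_assoc, ← pow_succ']

/-- The key lemma: a group of order `2^(n+1)` with an element `x` of order `2^n` such that no element
outside `⟨x⟩` has order `2^n` has a `2`-group of automorphisms. -/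
theorem key {X : Type*} [Group X] [Finite X] (n : ℕ) (x : X) (hx : orderOf x = 2 ^ n)
    (hcard : Nat.card X = 2 ^ (n + 1))
    (hout : ∀ g : X, g ∉ Subgroup.zpowers x → orderOf g ≠ 2 ^ n) : IsPGroup 2 (MulAut X) := by
  classical
  -- index of `C = ⟨x⟩` is 2
  have hCcard : Nat.card (Subgroup.zpowers x) = 2 ^ n := by rw [Nat.card_zpowers, hx]
  have hidx : (Subgroup.zpowers x).index = 2 := by
    have h := Subgroup.index_mul_card (Subgroup.zpowers x)
    rw [hCcard, hcard, pow_succ'] at h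
    exact Nat.eq_of_mul_eq_mul_right (by positivity) h
  -- totient of 2^n is a power of 2
  obtain ⟨j, hj⟩ : ∃ j : ℕ, Nat.totient (2 ^ n) = 2 ^ j := by
    rcases Nat.eq_zero_or_pos n with h0 | hpos
    · subst h0; exact ⟨0, by simp⟩
    · exact ⟨n - 1, by rw [Nat.totient_prime_pow Nat.prime_two hpos]; simp⟩
  intro φ
  refine ⟨j + n, ?_⟩
  -- φ x ∈ ⟨x⟩
  have hφx : φ x ∈ Subgroup.zpowers x := by
    by_contra hcon
    exact hout _ hcon (by rw [MulEquiv.orderOf_eq, hx])
  obtain ⟨a, ha⟩ : ∃ a : ℕ, φ x = x ^ a := by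
    obtain ⟨a, ha⟩ := (mem_powers_iff_mem_zpowers.mpr hφx)
    exact ⟨a, ha.symm⟩
  -- a is coprime to 2^n
  have hcop : Nat.Coprime a (2 ^ n) := by
    have h1 : orderOf (x ^ a) = 2 ^ n := by rw [← ha, MulEquiv.orderOf_eq, hx]
    rcases Nat.eq_zero_or_pos a with h0 | hpos
    · subst h0
      simp only [pow_zero, orderOf_one] at h1
      rw [← h1]; exact Nat.coprime_one_right _
    · rw [orderOf_pow' x (Nat.pos_iff_ne_zero.mp hpos), hx] at h1
      have hg : (2 ^ n).gcd a = 1 := by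
        have hdvd : (2 ^ n).gcd a ∣ 2 ^ n := Nat.gcd_dvd_left _ _
        have h3 := Nat.div_mul_cancel hdvd
        rw [h1] at h3
        have h4 : 2 ^ n * (2 ^ n).gcd a = 2 ^ n * 1 := by rw [h3, mul_one]
        exact Nat.eq_of_mul_eq_mul_left (by positivity) h4
      exact (Nat.coprime_comm.mp hg)
  -- ψ = φ ^ (2^j) fixes x
  set ψ : MulAut X := φ ^ (2 ^ j) with hψ
  have hψx : ψ x = x := by
    rw [hψ, pow_apply_of_apply_eq_pow φ x a ha]
    have hmod : a ^ (2 ^ j) ≡ 1 [MOD orderOf x] := by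
      rw [hx, ← hj]; exact Nat.ModEq.pow_totient hcop
    have := (pow_eq_pow_iff_modEq (x := x)).mpr hmod
    rw [this, pow_one]
  have hψC : ∀ c ∈ Subgroup.zpowers x, ψ c = c := by
    intro c hc
    obtain ⟨i, rfl⟩ := Subgroup.mem_zpowers_iff.mp hc
    rw [map_zpow, hψx]
  have hψinvC : ∀ c ∈ Subgroup.zpowers x, ψ⁻¹ c = c := by
    intro c hc
    have := hψC c hc
    calc ψ⁻¹ c = ψ⁻¹ (ψ c) := by rw [this]
      _ = c := by
        rw [← MulAut.mul_apply]; simp
  -- ψ ^ (2^n) = 1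
  have hψpow : ψ ^ (2 ^ n) = 1 := by
    ext g
    rw [MulAut.one_apply]
    by_cases hg : g ∈ Subgroup.zpowers x
    · have := pow_apply_of_apply_eq_mul ψ g 1 (by rw [mul_one, hψC g hg]) (map_one ψ) (2 ^ n)
      rw [this]; simp
    · have hψg : ψ g ∉ Subgroup.zpowers x := by
        intro hcon
        apply hg
        have := hψinvC _ hcon
        rw [← MulAut.mul_apply] at this
        simp at this
        rw [this]; exact hcon
      have hc : g⁻¹ * ψ g ∈ Subgroup.zpowers x := by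
        rw [Subgroup.mul_mem_iff_of_index_two hidx, inv_mem_iff]
        exact ⟨fun h => absurd h hg, fun h => absurd h hψg⟩
      have h1 := pow_apply_of_apply_eq_mul ψ g (g⁻¹ * ψ g) (by group) (hψC _ hc) (2 ^ n)
      rw [h1]
      have : (g⁻¹ * ψ g) ^ (2 ^ n) = 1 := by
        have h2 : (⟨g⁻¹ * ψ g, hc⟩ : Subgroup.zpowers x) ^ (2 ^ n) = 1 := by
          rw [← hCcard]; exact pow_card_eq_one'
        have := congrArg Subtype.val h2
        simpa using this
      rw [this, mul_one]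
  rw [pow_add, pow_mul, ← hψ, hψpow]

/-- Dihedral case. -/
theorem dihedral_case {X : Type*} [Group X] [Finite X] (h2 : IsPGroup 2 X) (m : ℕ) (hm : 4 ≤ m)
    (e : X ≃* DihedralGroup m) : IsPGroup 2 (MulAut X) := by
  haveI : Fact (Nat.Prime 2) := ⟨Nat.prime_two⟩
  obtain ⟨k, hk⟩ := h2.exists_card_eq
  have hcardX : Nat.card X = 2 * m := by
    rw [Nat.card_congr e.toEquiv, DihedralGroup.nat_card]
  have hk0 : k ≠ 0 := by
    rintro rfl
    rw [hcardX] at hk
    omega
  obtain ⟨n, rfl⟩ : ∃ n, k = n + 1 := ⟨k - 1, by omega⟩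
  have hm2 : m = 2 ^ n := by
    rw [hcardX, pow_succ'] at hk
    exact Nat.eq_of_mul_eq_mul_left (by norm_num) hk
  have hx : orderOf (e.symm (DihedralGroup.r 1)) = 2 ^ n := by
    rw [MulEquiv.orderOf_eq, DihedralGroup.orderOf_r_one, hm2]
  refine key n (e.symm (DihedralGroup.r 1)) hx hk ?_
  intro g hg
  have hcases : ∀ d : DihedralGroup m, e g = d → orderOf g ≠ 2 ^ n := by
    intro d hd
    cases d with
    | r i =>
      exfalso
      apply hg
      have : g = (e.symm (DihedralGroup.r 1)) ^ (ZMod.val i) := by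
        haveI : NeZero m := ⟨by omega⟩
        rw [← map_pow, DihedralGroup.r_one_pow, ZMod.natCast_zmod_val, ← hd]
        simp
      rw [this]
      exact Subgroup.pow_mem _ (Subgroup.mem_zpowers _) _
    | sr i =>
      have h3 : orderOf g = 2 := by
        rw [← MulEquiv.orderOf_eq e g, hd, DihedralGroup.orderOf_sr]
      rw [h3, ← hm2]
      omega
  exact hcases _ rfl

/-- Quasi-dihedral case. -/
theorem quasidihedral_case {X : Type*} [Group X] [Finite X] (h : Cfsg.IsQuasiDihedral X) :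
    IsPGroup 2 (MulAut X) := by
  obtain ⟨n, hn, hcard, x, y, hx, hy, hyx⟩ := h
  refine key n x hx hcard ?_
  have hCcard : Nat.card (Subgroup.zpowers x) = 2 ^ n := by rw [Nat.card_zpowers, hx]
  have hidx : (Subgroup.zpowers x).index = 2 := by
    have h := Subgroup.index_mul_card (Subgroup.zpowers x)
    rw [hCcard, hcard, pow_succ'] at h
    exact Nat.eq_of_mul_eq_mul_right (by positivity) h
  have h8 : 8 ≤ 2 ^ n := by
    calc 8 = 2 ^ 3 := by norm_num
      _ ≤ 2 ^ n := Nat.pow_le_pow_right (by norm_num) hn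
  have hpos : 2 ≤ 2 ^ (n - 1) - 1 := by
    have : 4 ≤ 2 ^ (n - 1) := by
      calc 4 = 2 ^ 2 := by norm_num
        _ ≤ 2 ^ (n - 1) := Nat.pow_le_pow_right (by norm_num) (by omega)
    omega
  have hlt : 2 ^ (n - 1) - 1 < 2 ^ n := by
    have : 2 ^ (n - 1) ≤ 2 ^ n := Nat.pow_le_pow_right (by norm_num) (by omega)
    omega
  -- y ∉ ⟨x⟩
  have hy_out : y ∉ Subgroup.zpowers x := by
    intro hyC
    obtain ⟨i, rfl⟩ := Subgroup.mem_zpowers_iff.mp hyC
    have hcomm : x ^ i * x * (x ^ i)⁻¹ = x := by group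
    rw [hcomm] at hyx
    have h1 : x ^ 1 = x ^ (2 ^ (n - 1) - 1) := by rw [pow_one]; exact hyx
    have h2 := (pow_eq_pow_iff_modEq (x := x)).mp h1
    rw [hx] at h2
    have h3 := Nat.ModEq.eq_of_lt_of_lt h2 (by omega) hlt
    omega
  have hyinv : y⁻¹ = y := by
    have : y ^ 2 = 1 := by rw [← hy]; exact pow_orderOf_eq_one y
    rw [inv_eq_iff_mul_eq_one, ← sq]; exact this
  intro g hg
  -- g = c * y with c ∈ ⟨x⟩
  have hc : g * y⁻¹ ∈ Subgroup.zpowers x := by
    rw [Subgroup.mul_mem_iff_of_index_two hidx, inv_mem_iff]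
    exact ⟨fun h => absurd h hg, fun h => absurd h hy_out⟩
  obtain ⟨i, hi⟩ := (mem_powers_iff_mem_zpowers.mpr hc)
  have hi' : x ^ i = g * y⁻¹ := hi
  have hg' : g = x ^ i * y := by rw [hi']; group
  -- conjugation of powers
  have hconj : y * x ^ i * y⁻¹ = x ^ ((2 ^ (n - 1) - 1) * i) := by
    rw [pow_mul, ← hyx]
    simp [conj_pow]
  have hsq : g ^ 2 = x ^ (2 ^ (n - 1) * i) := by
    have e1 : g ^ 2 = x ^ i * (y * x ^ i * y⁻¹) * (y * y) := by
      rw [hg', sq]; group
    have e2 : y * y = 1 := by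
      have : y ^ 2 = 1 := by rw [← hy]; exact pow_orderOf_eq_one y
      rw [← sq]; exact this
    rw [e1, hconj, e2, mul_one, ← pow_add]
    congr 1
    have : 1 ≤ 2 ^ (n - 1) := Nat.one_le_two_pow
    rw [Nat.sub_mul, one_mul]
    have : i ≤ 2 ^ (n - 1) * i := Nat.le_mul_of_pos_left _ (by positivity)
    omega
  have h4 : g ^ 4 = 1 := by
    have : g ^ 4 = (g ^ 2) ^ 2 := by rw [← pow_mul]
    rw [this, hsq, ← pow_mul]
    have : 2 ^ (n - 1) * i * 2 = 2 ^ n * i := by
      have : 2 ^ n = 2 ^ (n - 1) * 2 := by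
        rw [← pow_succ]; congr 1; omega
      rw [this]; ring
    rw [this, pow_mul, ← hx, pow_orderOf_eq_one, one_pow]
  have hle : orderOf g ≤ 4 := Nat.le_of_dvd (by norm_num) (orderOf_dvd_of_pow_eq_one h4)
  omega

theorem result {X : Type*} [Group X] [Finite X] (h2 : IsPGroup 2 X)
    (h : (∃ n : ℕ, 4 ≤ n ∧ Nonempty (X ≃* DihedralGroup n)) ∨ Cfsg.IsQuasiDihedral X) : IsPGroup 2 (MulAut X) := by
  rcases h with ⟨m, hm, ⟨e⟩⟩ | h
  · exact dihedral_case h2 m hm e
  · exact quasidihedral_case h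

end Cfsg.Agent.S3116
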