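import Cfsg.Statements.S0742
import Cfsg.Agent.Helper61.ZsMain

set_option autoImplicit false
open Cfsg

namespace Cfsg.Agent.S0742

/-- A finite Zassenhaus group of degree `n + 1` with two-point stabilisers of even order `d` satisfying `2d ≤ n - 1` has `n = p^f` for an odd prime `p` and is isomorphic to `PSL(2, p^f)`. -/
theorem result {G Ω : Type*} [Group G] [Finite G] [MulAction G Ω] [Fintype Ω] (hZ : Cfsg.IsZassenhausGroup G Ω) {a b : Ω} (hab : a ≠ b) (heven : Even (Nat.card ↥(MulAction.stabilizer G a ⊓ MulAction.stabilizer G b))) (hd : 2 * Nat.card ↥(MulAction.stabilizer G a ⊓ MulAction.stabilizer G b) ≤ Fintype.card Ω - 2) : ∃ (p f : ℕ) (K : Type) (_ : Field K) (_ : Fintype K), p.Prime ∧ p ≠ 2 ∧ Fintype.card K = p ^ f ∧ Fintype.card Ω = p ^ f + 1 ∧ Nonempty (G ≃* Matrix.ProjectiveSpecialLinearGroup (Fin 2) K) := by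
  obtain ⟨-, h2, h3f, -, -⟩ := hZ
  obtain ⟨R, hRf, hRfin, hcard, hodd, ⟨e⟩⟩ :=
    Cfsg.Agent.Helper61.Zs.zassenhaus_even h2 h3f hab heven hd
  obtain ⟨p, f, K, hKf, hKfin, hp, hcK, hcR, hiso⟩ := Cfsg.Agent.Helper61.Zs.exists_galois_psl e
  refine ⟨p, f, K, hKf, hKfin, hp, ?_, hcK, by rw [← hcard, hcR], hiso⟩
  rintro rfl
  rw [hcR] at hodd
  rcases Nat.eq_zero_or_pos f with hf | hf
  · subst hf
    rw [pow_zero] at hcR
    have : 1 < Fintype.card R := Fintype.one_lt_card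
    omega
  · have : 2 ∣ 2 ^ f := dvd_pow_self 2 (by omega)
    omega

end Cfsg.Agent.S0742
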