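import Mathlib
import Cfsg.Statements.S0558
import Cfsg.Agent.Helper78.Frobenius

set_option autoImplicit false
open Cfsg

open Subgroup
open scoped Pointwise

namespace Cfsg.Agent.S0558

section
variable {G : Type*} [Group G] [Finite G] (H : Subgroup G)

theorem map_eq_one_of_coprime' {N A : Type*} [Group N] [Group A] (φ : N →* A) {g h : N} {m : ℕ}
    (hgh : φ g = φ h) (hm : φ (h ^ m) = 1) (hc : (orderOf g).Coprime m) : φ g = 1 := by
  have h1 : orderOf (φ g) ∣ orderOf g := orderOf_map_dvd φ g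
  have h2 : orderOf (φ g) ∣ m := by
    apply orderOf_dvd_of_pow_eq_one
    rw [hgh, ← map_pow, hm]
  exact orderOf_eq_one_iff.mp (Nat.eq_one_of_dvd_coprimes hc h1 h2)

theorem sylow_of_normalizer_eq {p : ℕ} [Fact p.Prime] (P : Sylow p H)
    (hn : Subgroup.normalizer (((P : Subgroup H).map H.subtype : Subgroup G) : Set G) = H) :
    ∃ S : Sylow p G, (S : Subgroup G) = (P : Subgroup H).map H.subtype := by
  set P' : Subgroup G := (P : Subgroup H).map H.subtype with hP'
  have hPg : IsPGroup p P' := P.2.map _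
  obtain ⟨n, hn'⟩ := IsPGroup.iff_card.mp hPg
  have hmod := Sylow.card_quotient_normalizer_modEq_card_quotient (p := p) (H := P') hn'
  have h1 : P'.relIndex H = (P : Subgroup H).index := by
    rw [Subgroup.relIndex, Subgroup.subgroupOf, hP',
      Subgroup.comap_map_eq_self_of_injective H.subtype_injective]
  have h2 : ¬ p ∣ P'.index := by
    intro hdvd
    have h3 : p ∣ P'.relIndex (normalizer (P' : Set G)) := by
      rw [Subgroup.index_eq_card] at hdvd
      have := hmod.trans (Nat.modEq_zero_iff_dvd.mpr hdvd)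
      exact Nat.modEq_zero_iff_dvd.mp this
    rw [hn, h1] at h3
    exact P.not_dvd_index h3
  exact ⟨hPg.toSylow h2, IsPGroup.toSylow_coe hPg h2⟩

theorem sylow_normal_of_normalizer_eq {p : ℕ} (P : Sylow p H)
    (hn : Subgroup.normalizer (((P : Subgroup H).map H.subtype : Subgroup G) : Set G) = H) :
    (P : Subgroup H).Normal := by
  have h1 : ((P : Subgroup H).map H.subtype).subgroupOf H = (P : Subgroup H) := by
    rw [Subgroup.subgroupOf, Subgroup.comap_map_eq_self_of_injective H.subtype_injective]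
  rw [← h1]
  apply (Subgroup.normal_subgroupOf_iff_le_normalizer (Subgroup.map_subtype_le _)).mpr
  rw [hn]

theorem commute_sylow_of_normalizer_eq
    (hnorm : ∀ p : ℕ, p.Prime → p ∣ Nat.card H → ∀ P : Sylow p H,
      Subgroup.normalizer (((P : Subgroup H).map H.subtype : Subgroup G) : Set G) = H)
    {p q : ℕ} (hp : p.Prime) (hq : q.Prime) (hne : p ≠ q) (hpH : p ∣ Nat.card H)
    (hqH : q ∣ Nat.card H) (P : Sylow p H) (R : Sylow q H) (x r : H) (hx : x ∈ (P : Subgroup H))
    (hr : r ∈ (R : Subgroup H)) : (r : G) * x = x * r := by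
  have hPn := sylow_normal_of_normalizer_eq H P (hnorm p hp hpH P)
  have hRn := sylow_normal_of_normalizer_eq H R (hnorm q hq hqH R)
  have hdis : Disjoint (P : Subgroup H) (R : Subgroup H) := by
    have := Fact.mk hp
    have := Fact.mk hq
    exact IsPGroup.disjoint_of_ne p q hne _ _ P.2 R.2
  have := Subgroup.commute_of_normal_of_disjoint _ _ hPn hRn hdis x r hx hr
  exact (congrArg Subtype.val this.eq).symm

theorem exists_pow_mem_centralizer
    (hnorm : ∀ p : ℕ, p.Prime → p ∣ Nat.card H → ∀ P : Sylow p H,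
      Subgroup.normalizer (((P : Subgroup H).map H.subtype : Subgroup G) : Set G) = H)
    {p : ℕ} [Fact p.Prime] (P : Sylow p H) (hp : p ∣ Nat.card H) :
    ∃ b : ℕ, ∀ h ∈ H, h ^ (p ^ b) ∈
      centralizer (((P : Subgroup H).map H.subtype : Subgroup G) : Set G) := by
  set P' := (P : Subgroup H).map H.subtype with hP'
  have hle : H ≤ normalizer (P' : Set G) := by rw [hnorm p Fact.out hp P]
  let ψ : H →* MulAut P' := (P'.normalizerMonoidHom).comp (Subgroup.inclusion hle)
  have hker : ∀ h : H, h ∈ ψ.ker ↔ (h : G) ∈ centralizer (P' : Set G) := by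
    intro h
    rw [MonoidHom.mem_ker, MonoidHom.comp_apply, ← MonoidHom.mem_ker,
      Subgroup.normalizerMonoidHom_ker, Subgroup.mem_subgroupOf]
    rfl
  have hidx : ∀ q : ℕ, q.Prime → q ∣ ψ.ker.index → q = p := by
    intro q hq hdvd
    by_contra hne
    have := Fact.mk hq
    have hqH : q ∣ Nat.card H := hdvd.trans (Subgroup.index_dvd_card _)
    obtain ⟨R⟩ : Nonempty (Sylow q H) := inferInstance
    have hRle : (R : Subgroup H) ≤ ψ.ker := by
      intro r hr
      rw [hker, mem_centralizer_iff]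
      intro x hx
      obtain ⟨x', hx', rfl⟩ := hx
      exact (commute_sylow_of_normalizer_eq H hnorm Fact.out hq (Ne.symm hne) hp hqH P R x' r
        hx' hr).symm
    exact R.not_dvd_index (hdvd.trans (Subgroup.index_dvd_of_le hRle))
  have hb := Nat.eq_prime_pow_of_unique_prime_dvd (n := ψ.ker.index) (p := p)
    (Subgroup.index_ne_zero_of_finite) (fun {d} hd hdd => hidx d hd hdd)
  refine ⟨ψ.ker.index.primeFactorsList.length, fun h hh => ?_⟩
  have := Subgroup.pow_index_mem ψ.ker (⟨h, hh⟩ : H)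
  rw [hb, hker] at this
  simpa using this

theorem frobHyp_of_wielandt
    (hnorm : ∀ p : ℕ, p.Prime → p ∣ Nat.card H → ∀ P : Sylow p H,
      Subgroup.normalizer (((P : Subgroup H).map H.subtype : Subgroup G) : Set G) = H)
    {p : ℕ} [Fact p.Prime] (hp : p ∣ Nat.card H)
    (hq : ∃ q : ℕ, q.Prime ∧ q ≠ p ∧ q ∣ Nat.card H) (P : Sylow p H) (S : Sylow p G)
    (hS : (S : Subgroup G) = (P : Subgroup H).map H.subtype) :
    Cfsg.Agent.Helper78.FrobHyp p G := by
  obtain ⟨q, hqp, hne, hqH⟩ := hq
  have := Fact.mk hqp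
  obtain ⟨R⟩ : Nonempty (Sylow q H) := inferInstance
  obtain ⟨T, hT⟩ := sylow_of_normalizer_eq H R (hnorm q hqp hqH R)
  obtain ⟨b, hb⟩ := exists_pow_mem_centralizer H hnorm P hp
  apply Cfsg.Agent.Helper78.FrobHyp.of_sylow S
  intro Q hQ g hg hcop
  have hTP : (T : Subgroup G) ≤ centralizer ((S : Subgroup G) : Set G) := by
    rw [hT, hS]
    rintro _ ⟨r, hr, rfl⟩
    rw [mem_centralizer_iff]
    rintro _ ⟨x, hx, rfl⟩
    exact (commute_sylow_of_normalizer_eq H hnorm Fact.out hqp hne.symm hp hqH P R x r hx hr).symm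
  have hTQ : (T : Subgroup G) ≤ centralizer (Q : Set G) :=
    hTP.trans (Subgroup.centralizer_le hQ)
  have hgT : ((g • T : Sylow q G) : Subgroup G) ≤ centralizer (Q : Set G) := by
    intro y hy
    rw [Cfsg.Agent.Helper78.mem_smul_sylow'] at hy
    have h1 := hTQ hy
    rw [mem_centralizer_iff] at h1 ⊢
    intro z hz
    have hz' : g⁻¹ * z * g ∈ Q := by
      apply (mem_normalizer_iff.mp hg _).mpr
      have : g * (g⁻¹ * z * g) * g⁻¹ = z := by group
      rw [this]; exact hz
    have h2 := h1 _ hz'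
    have h3 : g * (g⁻¹ * z * g * (g⁻¹ * y * g)) * g⁻¹ = g * (g⁻¹ * y * g * (g⁻¹ * z * g)) * g⁻¹ := by
      rw [h2]
    have e1 : g * (g⁻¹ * z * g * (g⁻¹ * y * g)) * g⁻¹ = z * y := by group
    have e2 : g * (g⁻¹ * y * g * (g⁻¹ * z * g)) * g⁻¹ = y * z := by group
    rw [e1, e2] at h3
    exact h3
  obtain ⟨c, hc⟩ := MulAction.exists_smul_eq (centralizer (Q : Set G)) (T.subtype hTQ)
    ((g • T).subtype hgT)
  rw [Sylow.smul_subtype] at hc
  have hc' : c • T = g • T := Sylow.subtype_injective hc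
  have h3 : (g⁻¹ * (c : G)) • T = T := by
    rw [mul_smul]
    have : (c : G) • T = c • T := rfl
    rw [this, hc', inv_smul_smul]
  have h4 : g⁻¹ * c ∈ normalizer ((T : Subgroup G) : Set G) :=
    Sylow.smul_eq_iff_mem_normalizer.mp h3
  rw [hT, hnorm q hqp hqH R] at h4
  have hhH : (c : G)⁻¹ * g ∈ H := by
    have := inv_mem h4
    simpa [mul_inv_rev] using this
  have hcN : (c : G) ∈ normalizer (Q : Set G) := Subgroup.centralizer_le_normalizer _ c.2
  have hhN : (c : G)⁻¹ * g ∈ normalizer (Q : Set G) := mul_mem (inv_mem hcN) hg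
  have hkerφ : ∀ y : normalizer (Q : Set G), Q.normalizerMonoidHom y = 1 ↔
      (y : G) ∈ centralizer (Q : Set G) := by
    intro y
    rw [← MonoidHom.mem_ker, Subgroup.normalizerMonoidHom_ker, mem_subgroupOf]
  have hφc : Q.normalizerMonoidHom ⟨c, hcN⟩ = 1 := (hkerφ _).mpr c.2
  have hgh : Q.normalizerMonoidHom ⟨g, hg⟩ = Q.normalizerMonoidHom ⟨(c : G)⁻¹ * g, hhN⟩ := by
    have : (⟨g, hg⟩ : normalizer (Q : Set G)) = ⟨c, hcN⟩ * ⟨(c : G)⁻¹ * g, hhN⟩ := by
      ext; simp
    rw [this, map_mul, hφc, one_mul]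
  have hm : Q.normalizerMonoidHom ((⟨(c : G)⁻¹ * g, hhN⟩ : normalizer (Q : Set G)) ^ (p ^ b)) = 1 := by
    rw [hkerφ]
    have h5 := hb _ hhH
    rw [← hS] at h5
    have h6 := Subgroup.centralizer_le (SetLike.coe_subset_coe.mpr hQ) h5
    simpa using h6
  have hfin := map_eq_one_of_coprime' Q.normalizerMonoidHom hgh hm (by
    rw [← Subgroup.orderOf_coe]
    exact Nat.Coprime.pow_right b hcop)
  exact (hkerφ _).mp hfin

end

/-- Let H be a subgroup of a finite group G that is not a Sylow subgroup of G for any prime, and suppose that for every prime p dividing the order of H and every Sylow p-subgroup P of H the normalizer of P in G is exactly H. Then some normal subgroup of G is a complement to H. -/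
theorem result {G : Type*} [Group G] [Finite G] (H : Subgroup G) (hnot : ∀ p : ℕ, p.Prime → ∀ P : Sylow p G, (P : Subgroup G) ≠ H) (hnorm : ∀ p : ℕ, p.Prime → p ∣ Nat.card H → ∀ P : Sylow p H, Subgroup.normalizer (((P : Subgroup H).map H.subtype : Subgroup G) : Set G) = H) : ∃ N : Subgroup G, N.Normal ∧ Subgroup.IsComplement' N H := by
  have h2 : ∀ p : ℕ, p.Prime → p ∣ Nat.card H → ∃ q : ℕ, q.Prime ∧ q ≠ p ∧ q ∣ Nat.card H := by
    intro p hp hpH
    by_contra hcon
    push_neg at hcon
    have := Fact.mk hp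
    have hpow := Nat.eq_prime_pow_of_unique_prime_dvd (n := Nat.card H) (p := p)
      Nat.card_pos.ne' (fun {d} hd hdd => by
        by_contra hne
        exact hcon d hd hne hdd)
    obtain ⟨P⟩ : Nonempty (Sylow p H) := inferInstance
    obtain ⟨S, hS⟩ := sylow_of_normalizer_eq H P (hnorm p hp hpH P)
    apply hnot p hp S
    rw [hS]
    have hHp : IsPGroup p (⊤ : Subgroup H) := (IsPGroup.of_card hpow).to_subgroup ⊤
    have : (P : Subgroup H) = ⊤ := (P.is_maximal' hHp le_top).symm
    rw [this, ← MonoidHom.range_eq_map, Subgroup.range_subtype]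
  have key : ∀ p ∈ (Nat.card H).primeFactors, ∃ N : Subgroup G, N.Normal ∧
      (Nat.card N).Coprime p ∧ N.index = p ^ (Nat.card H).factorization p := by
    intro p hp
    have hpp := Nat.prime_of_mem_primeFactors hp
    have hpH := Nat.dvd_of_mem_primeFactors hp
    have := Fact.mk hpp
    obtain ⟨P⟩ : Nonempty (Sylow p H) := inferInstance
    obtain ⟨S, hS⟩ := sylow_of_normalizer_eq H P (hnorm p hpp hpH P)
    have hF := frobHyp_of_wielandt H hnorm hpH (h2 p hpp hpH) P S hS
    obtain ⟨N, hNn, hN⟩ := hF.exists_normal_isComplement' S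
    refine ⟨N, hNn, ?_, ?_⟩
    · rw [← hN.index_eq_card]
      exact ((Nat.Prime.coprime_iff_not_dvd hpp).mpr S.not_dvd_index).symm
    · rw [hN.symm.index_eq_card, hS, Subgroup.card_map_of_injective H.subtype_injective,
        Sylow.card_eq_multiplicity]
  choose! Nf hNf using key
  set s := (Nat.card H).primeFactors with hs
  let N : Subgroup G := ⨅ i : s, Nf i
  have hNn : N.Normal := Subgroup.normal_iInf_normal (fun i => (hNf i i.2).1)
  have hidx : N.index ≤ Nat.card H := by
    calc N.index ≤ ∏ i : s, (Nf i).index := Subgroup.index_iInf_le _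
      _ = ∏ i ∈ s, (Nf i).index := Finset.prod_coe_sort s (fun i => (Nf i).index)
      _ = ∏ i ∈ s, i ^ (Nat.card H).factorization i :=
          Finset.prod_congr rfl (fun i hi => (hNf i hi).2.2)
      _ = Nat.card H := by
          have := Nat.factorization_prod_pow_eq_self (n := Nat.card H) Nat.card_pos.ne'
          rw [Finsupp.prod, Nat.support_factorization] at this
          exact this
  have hcop : (Nat.card N).Coprime (Nat.card H) := by
    apply Nat.Coprime.symm
    apply Nat.coprime_of_dvd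
    intro k hk hkH hkN
    have hks : k ∈ s := Nat.mem_primeFactors.mpr ⟨hk, hkH, Nat.card_pos.ne'⟩
    have hle : N ≤ Nf k := iInf_le (fun i : s => Nf i) ⟨k, hks⟩
    have h3 : k ∣ Nat.card (Nf k) := hkN.trans (Subgroup.card_dvd_of_le hle)
    have h4 := (hNf k hks).2.1
    exact (Nat.Prime.coprime_iff_not_dvd hk).mp h4.symm h3
  refine ⟨N, hNn, Subgroup.isComplement'_of_coprime ?_ hcop⟩
  have hd : Nat.card N * Nat.card H ∣ Nat.card G :=
    Nat.Coprime.mul_dvd_of_dvd_of_dvd hcop (Subgroup.card_subgroup_dvd_card N)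
      (Subgroup.card_subgroup_dvd_card H)
  have hmul : Nat.card N * N.index = Nat.card G := N.card_mul_index
  rw [← hmul] at hd
  have hH : Nat.card H ∣ N.index := (Nat.mul_dvd_mul_iff_left Nat.card_pos).mp hd
  have hle2 : Nat.card H ≤ N.index := Nat.le_of_dvd (Nat.pos_of_ne_zero Subgroup.index_ne_zero_of_finite) hH
  rw [← hmul, le_antisymm hle2 hidx]

end Cfsg.Agent.S0558
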