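import Cfsg.Statements.S2427
import Cfsg.Agent.Helper56.SL23

set_option autoImplicit false
open Cfsg
open Cfsg.Agent.Helper56.GL23 Cfsg.Agent.Helper56.SL23
open scoped commutatorElement

namespace Cfsg.Agent.S2427

/-- The subgroup of elements of order dividing `4`. -/
def Qs : Subgroup SL where
  carrier := {g | g ^ 4 = 1}
  one_mem' := one_pow 4
  mul_mem' := by
    intro a b ha hb
    simp only [Set.mem_ofPred_eq] at *
    rw [pow_eq_one_iff] at *
    rw [q_mul]
    exact k_mul _ _ (qdet_q a) (qdet_q b) ha hb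
  inv_mem' := by
    intro a ha
    simp only [Set.mem_ofPred_eq] at *
    rw [inv_pow, ha, inv_one]

theorem mem_Qs (g : SL) : g ∈ Qs ↔ g ^ 4 = 1 := Iff.rfl

theorem comm_eq : commutator SL = Qs := by
  apply le_antisymm
  · rw [commutator_def, Subgroup.commutator_le]
    intro g _ h _
    rw [mem_Qs, pow_eq_one_iff, q_comm]
    exact k_comm _ _ (qdet_q g) (qdet_q h)
  · intro z hz
    rw [mem_Qs, pow_eq_one_iff] at hz
    obtain ⟨x, y, hx, hy, hxy⟩ := k_comm_surj _ (qdet_q z) hz
    have : z = ⁅mk x hx, mk y hy⁆ := by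
      apply q_injective
      rw [q_comm, q_mk, q_mk, hxy]
    rw [this]
    exact Subgroup.commutator_mem_commutator (Subgroup.mem_top _) (Subgroup.mem_top _)

def slEquiv : SL ≃ {x : Q3 // qdet x = 1} where
  toFun g := ⟨q g, qdet_q g⟩
  invFun x := mk x.1 x.2
  left_inv _ := q_injective (q_mk _ _)
  right_inv _ := Subtype.ext (q_mk _ _)

theorem card_SL : Nat.card SL = 24 := by
  rw [Nat.card_congr slEquiv, Nat.card_eq_fintype_card]
  exact k_card

theorem mem_center_iff' (z : SL) : z ∈ Subgroup.center SL ↔ q z = qone ∨ q z = qneg := by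
  rw [Subgroup.mem_center_iff, ← k_center _ (qdet_q z)]
  constructor
  · intro h x hx
    have := h (mk x hx)
    apply_fun q at this
    rwa [q_mul, q_mul, q_mk] at this
  · intro h g
    apply q_injective
    rw [q_mul, q_mul]
    exact h _ (qdet_q g)

def negOne : SL := mk qneg qdet_qneg

theorem card_center : Nat.card (Subgroup.center SL) = 2 := by
  rw [Nat.card_eq_two_iff]
  refine ⟨⟨1, Subgroup.one_mem _⟩, ⟨negOne, (mem_center_iff' _).2 (Or.inr (q_mk _ _))⟩, ?_, ?_⟩
  · intro h
    have h2 := congrArg (fun x => q x.1) h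
    simp only [q_one] at h2
    rw [negOne, q_mk] at h2
    exact absurd h2 (by decide)
  · ext ⟨z, hz⟩
    simp only [Set.mem_insert_iff, Set.mem_singleton_iff, Set.mem_univ, iff_true, Subtype.mk.injEq]
    rcases (mem_center_iff' z).1 hz with h | h
    · left
      exact (eq_one_iff z).2 h
    · right
      apply q_injective
      rw [h, negOne, q_mk]

/-- The explicit embedding of the quaternion group. -/
def qI : Q3 := (0, 1, 2, 0)
def qJ : Q3 := (1, 1, 1, 2)

def fQ : QuaternionGroup 2 → Q3
  | .a i => qpow qI i.val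
  | .xa i => qmul qJ (qpow qI i.val)

theorem fQ_det : ∀ u : QuaternionGroup 2, qdet (fQ u) = 1 := by
  rintro (i | i) <;> fin_cases i <;> decide

theorem fQ_mul : ∀ u v : QuaternionGroup 2, fQ (u * v) = qmul (fQ u) (fQ v) := by
  rintro (i | i) (j | j) <;> fin_cases i <;> fin_cases j <;> decide

theorem fQ_inj : ∀ u v : QuaternionGroup 2, fQ u = fQ v → u = v := by
  rintro (i | i) (j | j) <;> fin_cases i <;> fin_cases j <;> decide

theorem fQ_pow4 : ∀ u : QuaternionGroup 2, qpow (fQ u) 4 = qone := by
  rintro (i | i) <;> fin_cases i <;> decide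

def homQ : QuaternionGroup 2 →* SL where
  toFun u := mk (fQ u) (fQ_det u)
  map_one' := by
    apply q_injective
    rw [q_mk, q_one]
    decide
  map_mul' u v := by
    apply q_injective
    rw [q_mk, q_mul, q_mk, q_mk, fQ_mul]

theorem q_homQ (u : QuaternionGroup 2) : q (homQ u) = fQ u := q_mk (fQ u) (fQ_det u)

theorem homQ_inj : Function.Injective homQ := by
  intro u v h
  apply fQ_inj
  have := congrArg q h
  simpa [homQ, q_mk] using this

set_option maxRecDepth 100000 in
set_option synthInstance.maxSize 4096 in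
theorem k_Q8 : ∀ z : Q3, qdet z = 1 → qpow z 4 = qone →
    ∃ i : Fin 4, z = qpow qI i.val ∨ z = qmul qJ (qpow qI i.val) := by
  decide +kernel

theorem range_homQ : homQ.range = Qs := by
  apply le_antisymm
  · rintro _ ⟨u, rfl⟩
    rw [mem_Qs, pow_eq_one_iff]
    rw [q_homQ]
    exact fQ_pow4 u
  · intro z hz
    rw [mem_Qs, pow_eq_one_iff] at hz
    obtain ⟨i, hi | hi⟩ := k_Q8 _ (qdet_q z) hz
    · refine ⟨.a (i : ZMod 4), ?_⟩
      apply q_injective
      rw [q_homQ, hi]
      rfl
    · refine ⟨.xa (i : ZMod 4), ?_⟩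
      apply q_injective
      rw [q_homQ, hi]
      rfl

noncomputable def isoQ : commutator SL ≃* QuaternionGroup 2 :=
  ((MulEquiv.subgroupCongr (comm_eq.trans range_homQ.symm)).trans
    (MonoidHom.ofInjective homQ_inj).symm)

theorem card_comm : Nat.card (commutator SL) = 8 := by
  rw [Nat.card_congr isoQ.toEquiv, Nat.card_eq_fintype_card, QuaternionGroup.card]

theorem card_sylow (P : Sylow 3 SL) : Nat.card P = 3 := by
  rw [Sylow.card_eq_multiplicity, card_SL]
  have h24 : (24 : ℕ) = 3 * 8 := by norm_num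
  rw [h24, Nat.factorization_mul (by norm_num) (by norm_num), Finsupp.add_apply,
    Nat.Prime.factorization_self Nat.prime_three,
    Nat.factorization_eq_zero_of_not_dvd (by norm_num : ¬ 3 ∣ 8)]
  norm_num

theorem normal_classification (N : Subgroup SL) (hN : N.Normal) :
    N = ⊥ ∨ N = ⊤ ∨ N = Subgroup.center SL ∨ N = commutator SL := by
  -- conjugates and commutators stay in `N`
  have hconj : ∀ n ∈ N, ∀ a : SL, a * n * a⁻¹ ∈ N := fun n hn a => hN.conj_mem n hn a
  -- Step 1: an element of order 4 in `N` forces `Qs ≤ N`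
  have step1 : ∀ h ∈ N, h ^ 4 = 1 → h ^ 2 ≠ 1 → Qs ≤ N := by
    intro h hhN h4 h2 z hz
    rw [mem_Qs, pow_eq_one_iff] at hz
    rw [pow_eq_one_iff] at h4
    rw [Ne, pow_eq_one_iff] at h2
    obtain ⟨a, b, ha, hb, hab⟩ := k_conj _ (qdet_q h) h4 h2 _ (qdet_q z) hz
    have : z = (mk a ha * h * (mk a ha)⁻¹) * (mk b hb * h * (mk b hb)⁻¹) := by
      apply q_injective
      rw [q_mul, q_mul, q_mul, q_mul, q_mul, q_inv, q_inv, q_mk, q_mk, hab]
      rfl
    rw [this]
    exact N.mul_mem (hconj h hhN _) (hconj h hhN _)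
  by_cases hA : ∃ g ∈ N, g ^ 4 ≠ 1
  · -- `N = ⊤`
    right; left
    obtain ⟨g, hgN, hg4⟩ := hA
    rw [Ne, pow_eq_one_iff] at hg4
    obtain ⟨a, ha, ha2⟩ := k_big _ (qdet_q g) hg4
    have hcN : ⁅mk a ha, g⁆ ∈ N := by
      rw [commutatorElement_def]
      exact N.mul_mem (hconj g hgN _) (N.inv_mem hgN)
    have hc4 : ⁅mk a ha, g⁆ ^ 4 = 1 := by
      rw [pow_eq_one_iff, q_comm]
      exact k_comm _ _ (qdet_q _) (qdet_q _)
    have hc2 : ⁅mk a ha, g⁆ ^ 2 ≠ 1 := by
      rw [Ne, pow_eq_one_iff, q_comm, q_mk]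
      exact ha2
    have hQN : Qs ≤ N := step1 _ hcN hc4 hc2
    rw [eq_top_iff]
    intro x _
    obtain ⟨z, hz, hz4, hx⟩ := k_coset _ (qdet_q g) hg4 _ (qdet_q x)
    have hzN : mk z hz ∈ N := hQN (by rw [mem_Qs, pow_eq_one_iff, q_mk]; exact hz4)
    rcases hx with hx | hx | hx
    · have : x = mk z hz := by
        apply q_injective
        rw [q_mk, hx]
      rw [this]; exact hzN
    · have : x = mk z hz * g := by
        apply q_injective
        rw [q_mul, q_mk, hx]
      rw [this]; exact N.mul_mem hzN hgN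
    · have : x = mk z hz * g * g := by
        apply q_injective
        rw [q_mul, q_mul, q_mk, hx]
      rw [this]; exact N.mul_mem (N.mul_mem hzN hgN) hgN
  · simp only [not_exists, not_and, not_not] at hA
    by_cases hB : ∃ h ∈ N, h ^ 2 ≠ 1
    · -- `N = Qs`
      right; right; right
      obtain ⟨h, hhN, hh2⟩ := hB
      rw [comm_eq]
      exact le_antisymm (fun x hx => hA x hx) (step1 h hhN (hA h hhN) hh2)
    · simp only [not_exists, not_and, not_not] at hB
      -- `N ≤ center`
      have hNle : ∀ g ∈ N, g = 1 ∨ g = negOne := by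
        intro g hg
        have := hB g hg
        rw [pow_eq_one_iff] at this
        rcases k_sq _ (qdet_q g) this with h | h
        · left; exact (eq_one_iff g).2 h
        · right
          apply q_injective
          rw [h, negOne, q_mk]
      by_cases hneg : negOne ∈ N
      · right; right; left
        ext z
        rw [mem_center_iff']
        constructor
        · intro hz
          rcases hNle z hz with h | h
          · left; exact (eq_one_iff z).1 h
          · right; rw [h, negOne, q_mk]
        · rintro (h | h)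
          · rw [(eq_one_iff z).2 h]; exact N.one_mem
          · have : z = negOne := by
              apply q_injective
              rw [h, negOne, q_mk]
            rw [this]; exact hneg
      · left
        rw [eq_bot_iff]
        intro g hg
        rcases hNle g hg with h | h
        · rw [h]; exact Subgroup.mem_bot.2 rfl
        · rw [h] at hg; exact absurd hg hneg

theorem result :
    Nat.card (Matrix.SpecialLinearGroup (Fin 2) (ZMod 3)) = 24 ∧
    Nat.card (Subgroup.center (Matrix.SpecialLinearGroup (Fin 2) (ZMod 3))) = 2 ∧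
    Nat.card (commutator (Matrix.SpecialLinearGroup (Fin 2) (ZMod 3))) = 8 ∧
    Nonempty (commutator (Matrix.SpecialLinearGroup (Fin 2) (ZMod 3)) ≃* QuaternionGroup 2) ∧
    (∀ P : Sylow 3 (Matrix.SpecialLinearGroup (Fin 2) (ZMod 3)),
      Subgroup.IsComplement' (commutator (Matrix.SpecialLinearGroup (Fin 2) (ZMod 3)))
        (P : Subgroup (Matrix.SpecialLinearGroup (Fin 2) (ZMod 3)))) ∧
    ∀ N : Subgroup (Matrix.SpecialLinearGroup (Fin 2) (ZMod 3)), N.Normal →
      N = ⊥ ∨ N = ⊤ ∨ N = Subgroup.center (Matrix.SpecialLinearGroup (Fin 2) (ZMod 3)) ∨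
        N = commutator (Matrix.SpecialLinearGroup (Fin 2) (ZMod 3)) := by
  refine ⟨card_SL, card_center, card_comm, ⟨isoQ⟩, ?_, normal_classification⟩
  intro P
  apply Subgroup.isComplement'_of_coprime
  · rw [card_comm, card_sylow P, card_SL]
  · rw [card_comm, card_sylow P]
    norm_num

end Cfsg.Agent.S2427
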