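import Cfsg.Statements.S2879
import Cfsg.Agent.Helper2.QDAut
import Cfsg.Agent.Helper55.SolvCore
import Cfsg.Agent.Lib.Cores
import Cfsg.Agent.S2427

set_option autoImplicit false
open Cfsg

namespace Cfsg.Agent.S2879

open Subgroup

/-- Central elements of `D_n`, `n ≥ 3`, are rotations. -/
theorem dihedral_central_is_r {n : ℕ} (hn : 3 ≤ n) (w : DihedralGroup n)
    (hw : ∀ v, w * v = v * w) : w ∈ zpowers (DihedralGroup.r 1 : DihedralGroup n) := by
  rcases w with i | i
  · exact Helper9.dihedral_r_mem_zpowers i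
  · exfalso
    have := hw (DihedralGroup.r 1)
    rw [DihedralGroup.sr_mul_r, DihedralGroup.r_mul_sr] at this
    injection this with h
    have h2 : ((2 : ℕ) : ZMod n) = 0 := by
      push_cast
      linear_combination h
    have h3 := (ZMod.natCast_eq_zero_iff 2 n).mp h2
    have := Nat.le_of_dvd (by norm_num) h3
    omega

/-- Central elements of a quasi-dihedral group lie in the cyclic maximal subgroup. -/
theorem qd_central_mem_zpowers {S : Type*} [Group S] {k : ℕ} {x y : S}
    (hqd : Helper20.QDData S k x y) (w : S) (hw : ∀ v, w * v = v * w) : w ∈ zpowers x := by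
  rcases hqd.cases w with ⟨i, rfl⟩ | ⟨i, rfl⟩
  · exact zpow_mem_zpowers x i
  · exfalso
    have h1 := hw x
    have h2 : x ^ i * y * x ^ (1 : ℤ) = x ^ (i + (4 * 2 ^ k - 1) * 1) * y :=
      hqd.xpow_mul_y_mul_xpow i 1
    have h3 : x ^ (1 : ℤ) * (x ^ i * y) = x ^ (1 + i) * y := Helper20.QDData.xpow_mul_xpow_y 1 i
    rw [zpow_one] at h2 h3
    rw [h2, h3, hqd.xpow_y_eq_iff] at h1
    obtain ⟨c, hc⟩ := h1
    have : (4 : ℤ) ∣ 2 := ⟨2 ^ k - 2 * 2 ^ k * c, by linarith⟩
    omega

/-- The central involution of a quasi-dihedral group. -/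
theorem qd_z_central {S : Type*} [Group S] {k : ℕ} {x y : S}
    (hqd : Helper20.QDData S k x y) (v : S) :
    x ^ (4 * 2 ^ k : ℤ) * v = v * x ^ (4 * 2 ^ k : ℤ) := by
  rcases hqd.cases v with ⟨i, rfl⟩ | ⟨i, rfl⟩
  · rw [← zpow_add, ← zpow_add, add_comm]
  · rw [Helper20.QDData.xpow_mul_xpow_y, hqd.xpow_mul_y_mul_xpow, hqd.xpow_y_eq_iff]
    exact ⟨-(2 * 2 ^ k - 1), by ring⟩

/-- The centre of a subgroup `T` is cyclic if `T` is isomorphic to a group whose central elements
lie in a cyclic subgroup. -/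
theorem isCyclic_center_of_equiv {G : Type*} [Group G] (T : Subgroup G) {S : Type*} [Group S]
    (ψ : T ≃* S) (c : S) (hc : ∀ w : S, (∀ v, w * v = v * w) → w ∈ zpowers c) :
    IsCyclic ↥(T ⊓ centralizer (T : Set G)) := by
  have hmem : ∀ w : ↥(T ⊓ centralizer (T : Set G)), ψ ⟨w.1, w.2.1⟩ ∈ zpowers c := by
    intro w
    apply hc
    intro v
    obtain ⟨t, rfl⟩ := ψ.surjective v
    rw [← map_mul, ← map_mul]
    congr 1
    apply Subtype.ext
    have := mem_centralizer_iff.mp w.2.2 t.1 t.2
    simpa using this.symm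
  let f : ↥(T ⊓ centralizer (T : Set G)) →* zpowers c :=
    { toFun := fun w => ⟨ψ ⟨w.1, w.2.1⟩, hmem w⟩
      map_one' := by
        apply Subtype.ext
        exact map_one ψ
      map_mul' := by
        intro a b
        apply Subtype.ext
        exact map_mul ψ ⟨a.1, a.2.1⟩ ⟨b.1, b.2.1⟩ }
  have hf : Function.Injective f := by
    intro a b hab
    have h1 := congrArg Subtype.val hab
    have h2 : (⟨a.1, a.2.1⟩ : T) = ⟨b.1, b.2.1⟩ := ψ.injective h1
    have h3 : (a : G) = b := congrArg (fun t : ↥T => (t : G)) h2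
    exact Subtype.ext h3
  exact isCyclic_of_injective f hf


/-- Structure facts about a normal self-centralizing quaternion subgroup of order `8`. -/
theorem q8_facts {G : Type*} [Group G] [Finite G] (R H : Subgroup G) (hRn : R.Normal)
    (u v z : G) (hCR : centralizer (R : Set G) ≤ R)
    (hHR : H ≤ R) (huH : u ∈ H) (hvR : v ∈ R) (hvH : v ∉ H)
    (henum : ∀ h ∈ H, h = 1 ∨ h = u ∨ h = z ∨ h = u * z)
    (hcos : ∀ w ∈ R, w ∉ H → v⁻¹ * w ∈ H)
    (hz1 : z ≠ 1) (hz2 : z * z = 1) (huu : u * u = z) (hvv : v * v = z)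
    (hcomm : u * v * u⁻¹ * v⁻¹ = z) :
    Nat.card G ≤ 72 ∧ (∀ w : G, w * u = u * w → w * v = v * w → w = 1 ∨ w = z) := by
  have huR : u ∈ R := hHR huH
  have hzH : z ∈ H := huu ▸ H.mul_mem huH huH
  have hzR : z ∈ R := hHR hzH
  have hnc : ¬ Commute u v := by
    intro h
    apply hz1
    rw [← hcomm, h.eq]; group
  have hzu : Commute z u := by
    rw [← huu]; exact (Commute.refl u).mul_left (Commute.refl u)
  have hzv : Commute z v := by
    rw [← hvv]; exact (Commute.refl v).mul_left (Commute.refl v)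
  have huzz : u * z * z = u := by rw [mul_assoc, hz2, mul_one]
  -- elements of `H` commute with `u`
  have hHu : ∀ h ∈ H, Commute h u := by
    intro h hh
    rcases henum h hh with rfl | rfl | rfl | rfl
    · exact Commute.one_left u
    · exact Commute.refl _
    · exact hzu
    · exact (Commute.refl u).mul_left hzu
  -- every element of `R` is a word in `u, v`
  have hword : ∀ w ∈ R, w ∈ closure ({u, v} : Set G) := by
    have hu' : u ∈ closure ({u, v} : Set G) := subset_closure (by simp)
    have hv' : v ∈ closure ({u, v} : Set G) := subset_closure (by simp)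
    have hH' : ∀ h ∈ H, h ∈ closure ({u, v} : Set G) := by
      intro h hh
      rcases henum h hh with rfl | rfl | rfl | rfl
      · exact one_mem _
      · exact hu'
      · rw [← huu]; exact mul_mem hu' hu'
      · rw [← huu]; exact mul_mem hu' (mul_mem hu' hu')
    intro w hw
    by_cases hwH : w ∈ H
    · exact hH' w hwH
    · have := mul_mem hv' (hH' _ (hcos w hw hwH))
      simpa using this
  have hC : ∀ w : G, w * u = u * w → w * v = v * w → w = 1 ∨ w = z := by
    intro w hwu hwv
    have hwc : w ∈ centralizer (R : Set G) := by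
      have h1 : closure ({u, v} : Set G) ≤ centralizer ({w} : Set G) := by
        rw [closure_le]
        intro s hs
        simp only [Set.mem_insert_iff, Set.mem_singleton_iff] at hs
        simp only [SetLike.mem_coe, mem_centralizer_iff, Set.mem_singleton_iff, forall_eq]
        rcases hs with rfl | rfl
        · exact hwu
        · exact hwv
      rw [mem_centralizer_iff]
      intro r hr
      have := h1 (hword r hr)
      simp only [mem_centralizer_iff, Set.mem_singleton_iff, forall_eq] at this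
      exact this.symm
    have hwR : w ∈ R := hCR hwc
    by_cases hwH : w ∈ H
    · rcases henum w hwH with rfl | rfl | rfl | rfl
      · left; rfl
      · exact absurd hwv hnc
      · right; rfl
      · exfalso
        apply hnc
        have h1 : Commute (u * z * z) v := (show Commute (u * z) v from hwv).mul_left hzv
        rwa [huzz] at h1
    · exfalso
      apply hnc
      have hh := hcos w hwR hwH
      have h1 : Commute (v⁻¹ * w) u := hHu _ hh
      have h2 : Commute (w * (v⁻¹ * w)⁻¹) u := (show Commute w u from hwu).mul_left h1.inv_left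
      have h3 : w * (v⁻¹ * w)⁻¹ = v := by group
      rw [h3] at h2
      exact h2.symm
  refine ⟨?_, hC⟩
  -- the counting
  have hRcard : (R : Set G).ncard ≤ 8 := by
    have hsub : (R : Set G) ⊆ {1, u, z, u * z, v * 1, v * u, v * z, v * (u * z)} := by
      intro w hw
      by_cases hwH : w ∈ H
      · rcases henum w hwH with rfl | rfl | rfl | rfl <;> simp
      · have hh := hcos w hw hwH
        have hw' : w = v * (v⁻¹ * w) := by group
        rcases henum _ hh with h | h | h | h <;> rw [h] at hw' <;> rw [hw'] <;> simp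
    refine (Set.ncard_le_ncard hsub (Set.toFinite _)).trans ?_
    repeat' apply Helper2.ncard_insert_le_succ
    rw [Set.ncard_singleton]
  have hA : (((R : Set G) \ {1}) \ {z}).ncard ≤ 6 := by
    have h1 : (1 : G) ∈ (R : Set G) := R.one_mem
    have h2 : z ∈ (R : Set G) \ {1} := ⟨hzR, hz1⟩
    rw [Set.ncard_sdiff_singleton_of_mem h2, Set.ncard_sdiff_singleton_of_mem h1]
    omega
  have hCc : ({1, z} : Set G).ncard ≤ 2 := by
    rw [Set.ncard_pair hz1.symm]
  have hu1 : u ≠ 1 := by
    intro h; apply hz1; rw [← huu, h, one_mul]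
  have hv1 : v ≠ 1 := by
    intro h; apply hz1; rw [← hvv, h, one_mul]
  have hconj_ne : ∀ (h a : G), a ∈ R → a * a = z → h * a * h⁻¹ ∈ ((R : Set G) \ {1}) \ {z} := by
    intro h a haR haa
    refine ⟨⟨hRn.conj_mem a haR h, ?_⟩, ?_⟩
    · intro h1
      have h1' : h * a * h⁻¹ = 1 := h1
      have : a = 1 := by
        have h2 : h⁻¹ * (h * a * h⁻¹) * h = h⁻¹ * 1 * h := by rw [h1']
        simpa [mul_assoc] using h2
      apply hz1; rw [← haa, this, one_mul]
    · intro h1
      have h1' : h * a * h⁻¹ = z := h1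
      have h2 : (h * a * h⁻¹) * (h * a * h⁻¹) = 1 := by rw [h1', hz2]
      have h3 : h * (a * a) * h⁻¹ = 1 := by rw [← h2]; group
      rw [haa] at h3
      apply hz1
      have h4 : h⁻¹ * (h * z * h⁻¹) * h = h⁻¹ * 1 * h := by rw [h3]
      simpa [mul_assoc] using h4
  have hbound := Helper2.card_le_of_conj_pairs u v (((R : Set G) \ {1}) \ {z}) {1, z}
    (fun h => ⟨hconj_ne h u huR huu, hconj_ne h v hvR hvv⟩)
    (fun w h1 h2 => by
      rcases hC w h1 h2 with h | h
      · rw [h]; simp
      · rw [h]; simp)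
  calc Nat.card G ≤ _ := hbound
    _ ≤ 6 * 6 * 2 := Nat.mul_le_mul (Nat.mul_le_mul hA hA) hCc
    _ = 72 := by norm_num


/-- G solvable, O(G) = 1, T ∈ Syl₂(G) dihedral (order ≥ 8) or semidihedral, G ≠ T, Z(T) ⊴ G ⇒ G has a normal subgroup ≅ SL₂(3). -/
theorem result {G : Type*} [Group G] [Finite G] (hsol : IsSolvable G) (hO : Cfsg.oddCore G = ⊥) (T : Sylow 2 G) (hT : (∃ n : ℕ, 4 ≤ n ∧ Nonempty (↥(T : Subgroup G) ≃* DihedralGroup n)) ∨ Cfsg.IsQuasiDihedral ↥(T : Subgroup G)) (hne : (T : Subgroup G) ≠ ⊤) (hZ : ((T : Subgroup G) ⊓ Subgroup.centralizer ((T : Subgroup G) : Set G)).Normal) : ∃ U : Subgroup G, U.Normal ∧ Nonempty (↥U ≃* Matrix.SpecialLinearGroup (Fin 2) (ZMod 3)) := by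
  classical
  haveI : Fact (Nat.Prime 2) := ⟨Nat.prime_two⟩
  obtain ⟨R, hRdef⟩ : ∃ R : Subgroup G, R = Cfsg.pCore 2 G := ⟨_, rfl⟩
  have hRn : R.Normal := by
    rw [hRdef]
    haveI := Lib.pCore_characteristic (G := G) 2
    exact Subgroup.normal_of_characteristic _
  have hR2 : IsPGroup 2 R := hRdef ▸ Lib.isPGroup_pCore 2
  have hRT : R ≤ (T : Subgroup G) := hRdef ▸ Lib.pCore_le_sylow T
  have hCR : centralizer (R : Set G) ≤ R := by
    haveI : Group.IsSolvable G := hsol
    rw [hRdef]; exact Helper55.centralizer_pCore_le 2 hO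
  obtain ⟨Z, hZdef⟩ : ∃ Z : Subgroup G,
    Z = (T : Subgroup G) ⊓ centralizer ((T : Subgroup G) : Set G) := ⟨_, rfl⟩
  have hZn : Z.Normal := hZdef ▸ hZ
  have hZT : Z ≤ (T : Subgroup G) := hZdef ▸ inf_le_left
  have hZ2 : IsPGroup 2 Z := T.2.to_le hZT
  have hZR : Z ≤ R := hRdef ▸ Lib.le_pCore hZn hZ2
  -- an element of odd order
  have hnp : ¬ IsPGroup 2 G := by
    intro hG
    exact hne (T.is_maximal' (hG.to_subgroup ⊤) le_top).symm
  obtain ⟨g, hodd, hg1⟩ := Helper2.exists_odd_order_ne_one hnp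
  have hgN : g ∈ normalizer (R : Set G) := by
    rw [Subgroup.normalizer_eq_top_iff.mpr hRn]; exact mem_top g
  have hgNZ : g ∈ normalizer (Z : Set G) := by
    rw [Subgroup.normalizer_eq_top_iff.mpr hZn]; exact mem_top g
  have hgC : g ∉ centralizer (R : Set G) := by
    intro h
    have hgR := hCR h
    obtain ⟨a, ha⟩ := hR2 ⟨g, hgR⟩
    have ha' : g ^ 2 ^ a = 1 := by
      have := congrArg Subtype.val ha
      simpa using this
    have h1 : orderOf g ∣ 2 ^ a := orderOf_dvd_of_pow_eq_one ha'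
    have h2 : (orderOf g).Coprime (2 ^ a) :=
      Nat.Coprime.pow_right _ (Nat.coprime_two_right.mpr hodd)
    have h3 : orderOf g = 1 := Nat.Coprime.eq_one_of_dvd h2 h1
    exact hg1 (orderOf_eq_one_iff.mp h3)
  rcases hT with ⟨n, hn, ⟨ψ⟩⟩ | hqd
  · -- dihedral case: impossible
    exfalso
    have hZcyc : IsCyclic Z := by
      rw [hZdef]
      exact isCyclic_center_of_equiv (T : Subgroup G) ψ (DihedralGroup.r 1)
        (dihedral_central_is_r (by omega))
    have hgZ : g ∈ centralizer (Z : Set G) :=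
      Helper9.mem_centralizer_of_isCyclic_two_group Z hZcyc hZ2 g hgNZ hodd
    -- `Z` is nontrivial
    have hTcard : Nat.card (T : Subgroup G) = 2 * n := by
      rw [Nat.card_congr ψ.toEquiv, DihedralGroup.nat_card]
    haveI : Nontrivial (T : Subgroup G) := by
      rw [← Finite.one_lt_card_iff_nontrivial, hTcard]; omega
    haveI : Nontrivial (center (T : Subgroup G)) := T.2.center_nontrivial
    obtain ⟨c, hc1⟩ := exists_ne (1 : center (T : Subgroup G))
    have hcZ : ((c : (T : Subgroup G)) : G) ∈ Z := by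
      rw [hZdef, Subgroup.mem_inf]
      refine ⟨(c : (T : Subgroup G)).2, ?_⟩
      rw [mem_centralizer_iff]
      intro t ht
      have := mem_center_iff.mp c.2 ⟨t, ht⟩
      exact congrArg Subtype.val this
    have hZnt : Nontrivial Z := by
      refine ⟨⟨⟨_, hcZ⟩, 1, ?_⟩⟩
      intro h
      apply hc1
      have h1 : ((c : (T : Subgroup G)) : G) = 1 := congrArg Subtype.val h
      exact Subtype.ext (Subtype.ext h1)
    obtain ⟨a, ha⟩ := hZ2.exists_card_eq
    have h2dvd : 2 ∣ Nat.card Z := by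
      rw [ha]
      rcases a with _ | a
      · exfalso
        rw [pow_zero] at ha
        have := Finite.one_lt_card_iff_nontrivial.mpr hZnt
        omega
      · exact dvd_pow_self 2 (Nat.succ_ne_zero a)
    obtain ⟨t, ht⟩ := exists_prime_orderOf_dvd_card' (G := Z) 2 h2dvd
    have htR : (t : G) ∈ R := hZR t.2
    have ht2 : orderOf (t : G) = 2 := by rw [Subgroup.orderOf_coe]; exact ht
    have hgt : g * (t : G) = (t : G) * g := (mem_centralizer_iff.mp hgZ (t : G) t.2).symm
    exact hgC (Helper9.mem_centralizer_of_embeds_dihedral R hR2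
      (ψ.toMonoidHom.comp (Subgroup.inclusion hRT))
      (ψ.injective.comp (Subgroup.inclusion_injective hRT)) g hgN hodd (t : G) htR ht2 hgt)
  · -- quasi-dihedral case
    obtain ⟨k, x, y, hqd⟩ := Helper20.exists_qdData hqd
    have hZcyc : IsCyclic Z := by
      rw [hZdef]
      exact isCyclic_center_of_equiv (T : Subgroup G) (MulEquiv.refl _) x
        (qd_central_mem_zpowers hqd)
    have hgZ : g ∈ centralizer (Z : Set G) :=
      Helper9.mem_centralizer_of_isCyclic_two_group Z hZcyc hZ2 g hgNZ hodd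
    obtain ⟨z, hzdef⟩ : ∃ z : G, z = ((x ^ (4 * 2 ^ k : ℤ) : (T : Subgroup G)) : G) := ⟨_, rfl⟩
    have hzT : z ∈ (T : Subgroup G) := hzdef ▸ (x ^ (4 * 2 ^ k : ℤ) : (T : Subgroup G)).2
    have hzZ : z ∈ Z := by
      rw [hZdef, Subgroup.mem_inf]
      refine ⟨hzT, ?_⟩
      rw [mem_centralizer_iff]
      intro t ht
      have := qd_z_central hqd ⟨t, ht⟩
      have h2 := congrArg Subtype.val this
      rw [hzdef]
      exact h2.symm
    have hzR : z ∈ R := hZR hzZ
    have hgz : g * z * g⁻¹ = z := by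
      have := mem_centralizer_iff.mp hgZ z hzZ
      rw [← this]; group
    have hιz : (Subgroup.inclusion hRT) ⟨z, hzR⟩ = x ^ (4 * 2 ^ k : ℤ) := by
      apply Subtype.ext
      rw [Subgroup.coe_inclusion]
      exact hzdef
    obtain ⟨hz1, hz2, H, hHR, u, v, huH, hvR, hvH, henum, hcos, huu, hvv, hcomm, hgu, hgv⟩ :=
      Helper2.qd_aut_embed hqd R hR2 (Subgroup.inclusion hRT) (Subgroup.inclusion_injective hRT)
        g z hzR hιz hgz hgN hodd hgC
    obtain ⟨hcard72, hC⟩ :=
      q8_facts R H hRn u v z hCR hHR huH hvR hvH henum hcos hz1 hz2 huu hvv hcomm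
    obtain ⟨hc3u, hc3v⟩ := Helper2.cube_commute_of_relations u v z g hz2 huu hvv hcomm hgu hgv
    have hg3 : g ^ 3 = 1 := by
      rcases hC (g ^ 3) hc3u.eq hc3v.eq with h | h
      · exact h
      · exfalso
        have h6 : g ^ 6 = 1 := by
          rw [show 6 = 3 * 2 from rfl, pow_mul, h, pow_two, hz2]
        have h1 : orderOf g ∣ 6 := orderOf_dvd_of_pow_eq_one h6
        have h2 : (orderOf g).Coprime 2 := Nat.coprime_two_right.mpr hodd
        have h3 : orderOf g ∣ 3 := by
          have : orderOf g ∣ 2 * 3 := h1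
          exact h2.dvd_of_dvd_mul_left this
        have h4 : g ^ 3 = 1 := orderOf_dvd_iff_pow_eq_one.mp h3
        exact hz1 (h ▸ h4)
    haveI : Fact (Nat.Prime 3) := ⟨Nat.prime_three⟩
    have ho3 : orderOf g = 3 := orderOf_eq_prime hg3 hg1
    obtain ⟨U, hU⟩ : ∃ U : Subgroup G, U = closure ({u, v, g} : Set G) := ⟨_, rfl⟩
    have hUiso : Nonempty (↥U ≃* Matrix.SpecialLinearGroup (Fin 2) (ZMod 3)) :=
      hU ▸ Helper2.nonempty_mulEquiv_sl23_closure u v z g hz1 hz2 huu hvv hcomm hgu hgv hg3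
    have hUcard : Nat.card U = 24 := by
      obtain ⟨e⟩ := hUiso
      rw [Nat.card_congr e.toEquiv]
      exact S2427.result.1
    have h16 : 16 ∣ Nat.card G := by
      have h1 : Nat.card (T : Subgroup G) ∣ Nat.card G := Subgroup.card_subgroup_dvd_card _
      rw [hqd.card] at h1
      exact (Dvd.intro (2 ^ k) (by ring : 16 * 2 ^ k = 2 ^ (k + 4))).trans h1
    have h3 : 3 ∣ Nat.card G := ho3 ▸ orderOf_dvd_natCard g
    have h48 : 16 * 3 ∣ Nat.card G :=
      Nat.Coprime.mul_dvd_of_dvd_of_dvd (by norm_num : Nat.Coprime 16 3) h16 h3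
    have hG48 : Nat.card G = 48 := by
      obtain ⟨c, hc⟩ := h48
      have := Nat.card_pos (α := G)
      omega
    have hidx : U.index = 2 := by
      have := U.index_mul_card
      rw [hUcard, hG48] at this
      omega
    exact ⟨U, Subgroup.normal_of_index_eq_two hidx, hUiso⟩

end Cfsg.Agent.S2879
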