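import Cfsg.Statements.S3611
import Cfsg.Agent.Helper61.NeuMain
import Cfsg.Agent.Helper49.Neu3T

set_option autoImplicit false
open Cfsg

namespace Cfsg.Agent.S3611

open Cfsg.Agent.Helper61.Neu

/-- Let G be an insoluble group acting faithfully and transitively on a finite set of prime size p, and suppose the normalizer of a Sylow p-subgroup of G has order p(p-1)/2. If p ≡ 3 (mod 4), then G is triply transitive, or for any two distinct points the stabilizer of both has exactly four orbits on the set (the two fixed points and exactly two orbits on the remaining p - 2 points). -/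
theorem result {G Ω : Type*} [Group G] [Finite G] [MulAction G Ω] [FaithfulSMul G Ω] [Finite Ω]
    (p : ℕ) (hp : p.Prime) (hΩ : Nat.card Ω = p) (htrans : MulAction.IsPretransitive G Ω)
    (hins : ¬ Group.IsSolvable G) (P : Sylow p G)
    (hN : 2 * Nat.card ↥(Subgroup.normalizer ((P : Subgroup G) : Set G)) = p * (p - 1))
    (hp3 : p % 4 = 3) :
    MulAction.IsMultiplyPretransitive G Ω 3 ∨
    ∀ α β : Ω, α ≠ β →
      Nat.card (MulAction.orbitRel.Quotient ↥(MulAction.stabilizer G α ⊓ MulAction.stabilizer G β) Ω) = 4 := by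
  classical
  haveI : Fintype Ω := Fintype.ofFinite Ω
  haveI : Fact p.Prime := ⟨hp⟩
  have hΩ' : Fintype.card Ω = p := by rw [← Nat.card_eq_fintype_card]; exact hΩ
  have hp2 : p ≠ 2 := by
    rintro rfl
    omega
  by_cases h : ∃ α β : Ω, α ≠ β ∧ Nat.card (MulAction.orbitRel.Quotient
      ↥(MulAction.stabilizer G α ⊓ MulAction.stabilizer G β) Ω) ≤ 3
  · left
    obtain ⟨α, β, hαβ, h3⟩ := h
    exact Cfsg.Agent.Helper49.Neu.three_trans_of_card_le
      (fun a b c d hab hcd => exists_smul_pair' (hΩ' ▸ hp) hins hab hcd) α β hαβ h3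
  · right
    intro α β hαβ
    have h4 := card_orbits_le_four hΩ' hp2 hins P hN α β hαβ
    push Not at h
    have h3 := h α β hαβ
    omega

end Cfsg.Agent.S3611
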