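import Cfsg.Statements.S2352

set_option autoImplicit false
open Cfsg

namespace Cfsg.Agent.S2352

/-- Tracing a word through a finite suffix-closed set: any family of permutations that is
compatible with left multiplication by the generators on the finite set `X` sends the base
point to the point of the word. -/
theorem trace_word (L : List (ℕ × Bool)) :
    ∃ X : Finset (FreeGroup ℕ), 1 ∈ X ∧ FreeGroup.mk L ∈ X ∧
      ∀ (Ω : Type) (e : FreeGroup ℕ → Ω) (σ : ℕ → Equiv.Perm Ω),
        (∀ i, ∀ p ∈ X, FreeGroup.of i * p ∈ X → σ i (e p) = e (FreeGroup.of i * p)) →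
        FreeGroup.lift σ (FreeGroup.mk L) (e 1) = e (FreeGroup.mk L) := by
  classical
  induction L with
  | nil =>
    refine ⟨{1}, by simp, by simp [← FreeGroup.one_eq_mk], fun Ω e σ _ => ?_⟩
    simp [← FreeGroup.one_eq_mk]
  | cons l L ih =>
    obtain ⟨X, h1, hw, hX⟩ := ih
    obtain ⟨i, b⟩ := l
    set w := FreeGroup.mk L with hwdef
    have hsplit : FreeGroup.mk ((i, b) :: L) = FreeGroup.mk [(i, b)] * w := by
      rw [hwdef, FreeGroup.mul_mk]; rfl
    refine ⟨insert (FreeGroup.mk ((i, b) :: L)) X, Finset.mem_insert_of_mem h1,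
      Finset.mem_insert_self _ _, fun Ω e σ hσ => ?_⟩
    have hold : FreeGroup.lift σ w (e 1) = e w := by
      apply hX Ω e σ
      intro j p hp hjp
      exact hσ j p (Finset.mem_insert_of_mem hp) (Finset.mem_insert_of_mem hjp)
    rw [hsplit, map_mul, Equiv.Perm.mul_apply, hold]
    cases b with
    | true =>
      have hof : FreeGroup.mk [(i, true)] = FreeGroup.of i := rfl
      rw [hof, FreeGroup.lift_apply_of]
      apply hσ i w (Finset.mem_insert_of_mem hw)
      rw [← hof, ← hsplit]
      exact Finset.mem_insert_self _ _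
    | false =>
      have hof : FreeGroup.mk [(i, false)] = (FreeGroup.of i)⁻¹ := by
        rw [FreeGroup.of, FreeGroup.inv_mk]; rfl
      rw [hof, map_inv, FreeGroup.lift_apply_of, Equiv.Perm.inv_eq_iff_eq]
      have hmem : (FreeGroup.of i)⁻¹ * w ∈ insert (FreeGroup.mk ((i, false) :: L)) X := by
        rw [hsplit, hof]
        exact Finset.mem_insert_self _ _
      have := hσ i ((FreeGroup.of i)⁻¹ * w) hmem
        (by rw [mul_inv_cancel_left]; exact Finset.mem_insert_of_mem hw)
      rw [this, mul_inv_cancel_left]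

/-- Realisation of a compatible family by even permutations of `Fin n`. -/
theorem exists_even_family (X : Finset (FreeGroup ℕ)) (n : ℕ) (hn : X.card + 2 ≤ n) :
    ∃ (e : FreeGroup ℕ → Fin n) (σ : ℕ → Equiv.Perm (Fin n)),
      (∀ i, σ i ∈ alternatingGroup (Fin n)) ∧ Set.InjOn e (X : Set (FreeGroup ℕ)) ∧
      ∀ i, ∀ p ∈ X, FreeGroup.of i * p ∈ X → σ i (e p) = e (FreeGroup.of i * p) := by
  classical
  have hmn : X.card ≤ n := by omega
  -- the embedding of `X` into `Fin n`
  let ε : ↥X ↪ Fin n := X.equivFin.toEmbedding.trans (Fin.castLEEmb hmn)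
  have hεlt : ∀ x : ↥X, (ε x : ℕ) < X.card := by
    intro x
    simp [ε]
  let e : FreeGroup ℕ → Fin n := fun p => if h : p ∈ X then ε ⟨p, h⟩ else ⟨0, by omega⟩
  have he : ∀ p (h : p ∈ X), e p = ε ⟨p, h⟩ := fun p h => by simp [e, h]
  -- two spare points
  let a : Fin n := ⟨n - 1, by omega⟩
  let b : Fin n := ⟨n - 2, by omega⟩
  have hab : a ≠ b := by
    intro h
    have := congrArg Fin.val h
    simp [a, b] at this
    omega
  have hεa : ∀ x : ↥X, ε x ≠ a := by
    intro x h
    have h1 := hεlt x
    have h2 := congrArg Fin.val h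
    simp [a] at h2
    omega
  have hεb : ∀ x : ↥X, ε x ≠ b := by
    intro x h
    have h1 := hεlt x
    have h2 := congrArg Fin.val h
    simp [b] at h2
    omega
  -- the partial bijections
  let A : ℕ → ↥X → Prop := fun i p => FreeGroup.of i * p.1 ∈ X
  let B : ℕ → ↥X → Prop := fun i q => (FreeGroup.of i)⁻¹ * q.1 ∈ X
  let φ : ∀ i, {p : ↥X // A i p} ≃ {q : ↥X // B i q} := fun i =>
    { toFun := fun p => ⟨⟨FreeGroup.of i * p.1.1, p.2⟩, by
        show (FreeGroup.of i)⁻¹ * (FreeGroup.of i * p.1.1) ∈ X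
        rw [inv_mul_cancel_left]; exact p.1.2⟩
      invFun := fun q => ⟨⟨(FreeGroup.of i)⁻¹ * q.1.1, q.2⟩, by
        show FreeGroup.of i * ((FreeGroup.of i)⁻¹ * q.1.1) ∈ X
        rw [mul_inv_cancel_left]; exact q.1.2⟩
      left_inv := fun p => by
        apply Subtype.ext; apply Subtype.ext
        simp
      right_inv := fun q => by
        apply Subtype.ext; apply Subtype.ext
        simp }
  let τ : ℕ → Equiv.Perm ↥X := fun i => (φ i).extendSubtype
  have hτ : ∀ i (p : ↥X) (h : A i p), τ i p = ⟨FreeGroup.of i * p.1, h⟩ := by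
    intro i p h
    have := Equiv.extendSubtype_apply_of_mem (φ i) p h
    apply Subtype.ext
    rw [show τ i p = (φ i).extendSubtype p from rfl, this]
    rfl
  let ρ : ℕ → Equiv.Perm (Fin n) := fun i => (τ i).viaFintypeEmbedding ε
  let σ : ℕ → Equiv.Perm (Fin n) := fun i =>
    if Equiv.Perm.sign (ρ i) = 1 then ρ i else ρ i * Equiv.swap a b
  refine ⟨e, σ, ?_, ?_, ?_⟩
  · intro i
    rw [Equiv.Perm.mem_alternatingGroup]
    by_cases h : Equiv.Perm.sign (ρ i) = 1
    · simp [σ, h]
    · have h' : Equiv.Perm.sign (ρ i) = -1 := (Int.units_eq_one_or _).resolve_left h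
      simp [σ, Equiv.Perm.sign_mul, Equiv.Perm.sign_swap hab, h']
  · intro p hp q hq hpq
    rw [he p hp, he q hq] at hpq
    have := ε.injective hpq
    exact congrArg Subtype.val this
  · intro i p hp hip
    rw [he p hp, he _ hip]
    have hρ : ρ i (ε ⟨p, hp⟩) = ε ⟨FreeGroup.of i * p, hip⟩ := by
      show (τ i).viaFintypeEmbedding ε (ε ⟨p, hp⟩) = _
      rw [Equiv.Perm.viaFintypeEmbedding_apply_image, hτ i ⟨p, hp⟩ hip]
    by_cases h : Equiv.Perm.sign (ρ i) = 1
    · simp only [σ, h, if_true]
      exact hρ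
    · simp only [σ, h, if_false]
      rw [Equiv.Perm.mul_apply, Equiv.swap_apply_of_ne_of_ne (hεa _) (hεb _)]
      exact hρ

/-- A non-trivial law holds in only finitely many alternating groups: for every non-trivial element w of the free group on countably many generators there is N such that for all n ≥ N some substitution of elements of the alternating group of degree n into w is not the identity. -/
theorem result (w : FreeGroup ℕ) (hw : w ≠ 1) :
    ∃ N : ℕ, ∀ n : ℕ, N ≤ n → ∃ f : ℕ → alternatingGroup (Fin n), FreeGroup.lift f w ≠ 1 := by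
  classical
  obtain ⟨X, h1, hwX, hX⟩ := trace_word w.toWord
  rw [FreeGroup.mk_toWord] at hwX hX
  refine ⟨X.card + 2, fun n hn => ?_⟩
  obtain ⟨e, σ, hσ, hinj, hcompat⟩ := exists_even_family X n hn
  refine ⟨fun i => ⟨σ i, hσ i⟩, fun h => ?_⟩
  have hcomp : ∀ x : FreeGroup ℕ,
      ((FreeGroup.lift (fun i => (⟨σ i, hσ i⟩ : alternatingGroup (Fin n))) x :
        alternatingGroup (Fin n)) : Equiv.Perm (Fin n)) = FreeGroup.lift σ x := by
    intro x
    have := FreeGroup.lift_unique (f := σ)
      ((alternatingGroup (Fin n)).subtype.comp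
        (FreeGroup.lift (fun i => (⟨σ i, hσ i⟩ : alternatingGroup (Fin n)))))
      (fun i => by simp) (x := x)
    simpa using this
  have h2 := hX (Fin n) e σ hcompat
  rw [← hcomp w, h] at h2
  have h3 : e 1 = e w := by simpa using h2
  exact hw (hinj hwX h1 h3.symm)

end Cfsg.Agent.S2352
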