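import Cfsg.Statements.S2353

set_option autoImplicit false
open Cfsg

namespace Cfsg.Agent.S2353

open Polynomial Matrix

section Degree

variable {K : Type*} [Field K]

/-- One step of the degree argument. -/
theorem step_lemma (f x y : K[X]) (k : ℕ) (hk : 0 < k)
    (hf : ∀ p : K[X], p ≠ 0 → (f * p).natDegree = k + p.natDegree)
    (hx : x ≠ 0) (hne : y.natDegree ≠ k + x.natDegree) :
    y + f * x ≠ 0 ∧ (x + f * (y + f * x)).natDegree = k + (y + f * x).natDegree := by
  have h1 : (f * x).natDegree = k + x.natDegree := hf x hx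
  have h2 : k + x.natDegree ≤ (y + f * x).natDegree := by
    rcases lt_or_gt_of_ne hne with h | h
    · rw [natDegree_add_eq_right_of_natDegree_lt (by rw [h1]; exact h), h1]
    · rw [natDegree_add_eq_left_of_natDegree_lt (by rw [h1]; exact h)]
      exact h.le
  have h3 : y + f * x ≠ 0 := ne_zero_of_natDegree_gt (n := 0) (by omega)
  refine ⟨h3, ?_⟩
  have h4 : (f * (y + f * x)).natDegree = k + (y + f * x).natDegree := hf _ h3
  rw [natDegree_add_eq_right_of_natDegree_lt (by rw [h4]; omega), h4]

theorem natDegree_X_pow_mul' (k : ℕ) (p : K[X]) (hp : p ≠ 0) :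
    (X ^ k * p).natDegree = k + p.natDegree := by
  rw [natDegree_X_pow_mul k hp, add_comm]

theorem natDegree_neg_X_pow_mul' (k : ℕ) (p : K[X]) (hp : p ≠ 0) :
    (-X ^ k * p).natDegree = k + p.natDegree := by
  rw [neg_mul, natDegree_neg, natDegree_X_pow_mul' k p hp]

end Degree

section Gen

variable (R : Type*) [CommRing R]

/-- The matrix `u(f) l(f)` with `f = X^(i+1)`. -/
noncomputable def genMat (i : ℕ) : Matrix (Fin 2) (Fin 2) R[X] :=
  !![1 + X ^ (i + 1) * X ^ (i + 1), X ^ (i + 1); X ^ (i + 1), 1]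

theorem det_genMat (i : ℕ) : (genMat R i).det = 1 := by
  simp only [genMat, Matrix.det_fin_two_of]
  ring

/-- The generators in `SL₂(R[X])`. -/
noncomputable def gen (i : ℕ) : Matrix.SpecialLinearGroup (Fin 2) R[X] :=
  ⟨genMat R i, det_genMat R i⟩

theorem coe_gen (i : ℕ) :
    ((gen R i : Matrix.SpecialLinearGroup (Fin 2) R[X]) : Matrix (Fin 2) (Fin 2) R[X]) =
      !![1 + X ^ (i + 1) * X ^ (i + 1), X ^ (i + 1); X ^ (i + 1), 1] := rfl

theorem coe_gen_inv (i : ℕ) :
    (((gen R i)⁻¹ : Matrix.SpecialLinearGroup (Fin 2) R[X]) : Matrix (Fin 2) (Fin 2) R[X]) =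
      !![1, -X ^ (i + 1); -X ^ (i + 1), 1 + X ^ (i + 1) * X ^ (i + 1)] := by
  rw [Matrix.SpecialLinearGroup.coe_inv, Matrix.adjugate_fin_two, coe_gen]
  simp

variable {R}
variable {S : Type*} [CommRing S]

theorem map_gen (φ : R →+* S) (i : ℕ) :
    Matrix.SpecialLinearGroup.map (Polynomial.mapRingHom φ) (gen R i) = gen S i := by
  apply Matrix.SpecialLinearGroup.ext
  intro a b
  rw [Matrix.SpecialLinearGroup.map_apply_coe, coe_gen, coe_gen]
  fin_cases a <;> fin_cases b <;> simp

theorem map_lift (φ : R →+* S) (w : FreeGroup ℕ) :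
    Matrix.SpecialLinearGroup.map (Polynomial.mapRingHom φ) (FreeGroup.lift (gen R) w) =
      FreeGroup.lift (gen S) w := by
  have := FreeGroup.lift_unique (f := gen S)
    ((Matrix.SpecialLinearGroup.map (Polynomial.mapRingHom φ)).comp (FreeGroup.lift (gen R)))
    (fun i => by simp [map_gen]) (x := w)
  simpa using this

end Gen

section Invariant

variable {K : Type*} [Field K]

/-- The vector obtained by applying the word `L` to `(1, 1)`. -/
noncomputable def vec (L : List (ℕ × Bool)) : Fin 2 → K[X] :=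
  ((FreeGroup.lift (gen K) (FreeGroup.mk L) : Matrix.SpecialLinearGroup (Fin 2) K[X]) :
    Matrix (Fin 2) (Fin 2) K[X]).mulVec ![1, 1]

/-- The degree invariant. -/
def Inv : List (ℕ × Bool) → K[X] → K[X] → Prop
  | [], x, y => x = 1 ∧ y = 1
  | (i, true) :: _, x, y => y ≠ 0 ∧ x.natDegree = (i + 1) + y.natDegree
  | (i, false) :: _, x, y => x ≠ 0 ∧ y.natDegree = (i + 1) + x.natDegree

theorem input_true (L : List (ℕ × Bool)) (j : ℕ) (x y : K[X]) (h : Inv L x y)
    (hred : FreeGroup.IsReduced ((j, true) :: L)) :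
    x ≠ 0 ∧ y.natDegree ≠ (j + 1) + x.natDegree := by
  match L, h, hred with
  | [], h, _ =>
    obtain ⟨rfl, rfl⟩ := h
    refine ⟨one_ne_zero, ?_⟩
    simp
  | (i, true) :: _, h, _ =>
    obtain ⟨hy, hdeg⟩ := h
    refine ⟨ne_zero_of_natDegree_gt (n := 0) (by omega), by omega⟩
  | (i, false) :: _, h, hred =>
    obtain ⟨hx, hdeg⟩ := h
    have hij : j ≠ i := by
      intro hji
      have := (List.isChain_cons_cons.mp hred).1
      simp [hji] at this
    refine ⟨hx, by omega⟩

theorem input_false (L : List (ℕ × Bool)) (j : ℕ) (x y : K[X]) (h : Inv L x y)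
    (hred : FreeGroup.IsReduced ((j, false) :: L)) :
    y ≠ 0 ∧ x.natDegree ≠ (j + 1) + y.natDegree := by
  match L, h, hred with
  | [], h, _ =>
    obtain ⟨rfl, rfl⟩ := h
    refine ⟨one_ne_zero, ?_⟩
    simp
  | (i, false) :: _, h, _ =>
    obtain ⟨hx, hdeg⟩ := h
    refine ⟨ne_zero_of_natDegree_gt (n := 0) (by omega), by omega⟩
  | (i, true) :: _, h, hred =>
    obtain ⟨hy, hdeg⟩ := h
    have hij : j ≠ i := by
      intro hji
      have := (List.isChain_cons_cons.mp hred).1
      simp [hji] at this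
    refine ⟨hy, by omega⟩

theorem vec_cons (j : ℕ) (b : Bool) (L : List (ℕ × Bool)) :
    vec (K := K) ((j, b) :: L) =
      ((bif b then gen K j else (gen K j)⁻¹ : Matrix.SpecialLinearGroup (Fin 2) K[X]) :
        Matrix (Fin 2) (Fin 2) K[X]).mulVec (vec L) := by
  unfold vec
  rw [FreeGroup.lift_mk, FreeGroup.lift_mk, List.map_cons, List.prod_cons,
    Matrix.SpecialLinearGroup.coe_mul, Matrix.mulVec_mulVec]

theorem inv_vec (L : List (ℕ × Bool)) (hred : FreeGroup.IsReduced L) :
    Inv L (vec (K := K) L 0) (vec (K := K) L 1) := by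
  induction L with
  | nil =>
    simp [Inv, vec, ← FreeGroup.one_eq_mk]
  | cons l L ih =>
    obtain ⟨j, b⟩ := l
    have hredL : FreeGroup.IsReduced L := List.IsChain.tail hred
    have ih' := ih hredL
    set x := vec (K := K) L 0 with hx
    set y := vec (K := K) L 1 with hy
    cases b with
    | true =>
      obtain ⟨hx0, hne⟩ := input_true L j x y ih' hred
      obtain ⟨h1, h2⟩ := step_lemma (X ^ (j + 1)) x y (j + 1) (Nat.succ_pos j)
        (natDegree_X_pow_mul' (j + 1)) hx0 hne
      have e0 : vec (K := K) ((j, true) :: L) 0 =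
          x + X ^ (j + 1) * (y + X ^ (j + 1) * x) := by
        rw [vec_cons]
        simp only [cond_true, coe_gen, Matrix.mulVec, dotProduct, Fin.sum_univ_two]
        simp only [Matrix.of_apply, Matrix.cons_val_zero, Matrix.cons_val_one, ← hx, ← hy]
        ring
      have e1 : vec (K := K) ((j, true) :: L) 1 = y + X ^ (j + 1) * x := by
        rw [vec_cons]
        simp only [cond_true, coe_gen, Matrix.mulVec, dotProduct, Fin.sum_univ_two]
        simp only [Matrix.of_apply, Matrix.cons_val_zero, Matrix.cons_val_one, ← hx, ← hy]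
        ring
      show _ ∧ _
      rw [e0, e1]
      exact ⟨h1, h2⟩
    | false =>
      obtain ⟨hy0, hne⟩ := input_false L j x y ih' hred
      obtain ⟨h1, h2⟩ := step_lemma (-X ^ (j + 1)) y x (j + 1) (Nat.succ_pos j)
        (natDegree_neg_X_pow_mul' (j + 1)) hy0 hne
      have e0 : vec (K := K) ((j, false) :: L) 0 = x + -X ^ (j + 1) * y := by
        rw [vec_cons]
        simp only [cond_false, coe_gen_inv, Matrix.mulVec, dotProduct, Fin.sum_univ_two]
        simp only [Matrix.of_apply, Matrix.cons_val_zero, Matrix.cons_val_one, ← hx, ← hy]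
        ring
      have e1 : vec (K := K) ((j, false) :: L) 1 =
          y + -X ^ (j + 1) * (x + -X ^ (j + 1) * y) := by
        rw [vec_cons]
        simp only [cond_false, coe_gen_inv, Matrix.mulVec, dotProduct, Fin.sum_univ_two]
        simp only [Matrix.of_apply, Matrix.cons_val_zero, Matrix.cons_val_one, ← hx, ← hy]
        ring
      show _ ∧ _
      rw [e0, e1]
      exact ⟨h1, h2⟩

/-- The key non-vanishing statement over a field. -/
theorem natDegree_ne (w : FreeGroup ℕ) (hw : w ≠ 1) :
    let W : Matrix (Fin 2) (Fin 2) K[X] :=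
      ((FreeGroup.lift (gen K) w : Matrix.SpecialLinearGroup (Fin 2) K[X]) :
        Matrix (Fin 2) (Fin 2) K[X])
    (W 0 0 + W 0 1).natDegree ≠ (W 1 0 + W 1 1).natDegree := by
  intro W
  have hL : w.toWord ≠ [] := by
    intro h
    exact hw (FreeGroup.toWord_eq_nil_iff.mp h)
  have hinv := inv_vec (K := K) w.toWord FreeGroup.isReduced_toWord
  have hv0 : vec (K := K) w.toWord 0 = W 0 0 + W 0 1 := by
    simp [vec, FreeGroup.mk_toWord, Matrix.mulVec, dotProduct, Fin.sum_univ_two, W]
  have hv1 : vec (K := K) w.toWord 1 = W 1 0 + W 1 1 := by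
    simp [vec, FreeGroup.mk_toWord, Matrix.mulVec, dotProduct, Fin.sum_univ_two, W]
  rw [hv0, hv1] at hinv
  match hLw : w.toWord, hL, hinv with
  | [], h, _ => exact absurd rfl h
  | (i, true) :: _, _, hinv =>
    obtain ⟨_, hdeg⟩ := hinv
    omega
  | (i, false) :: _, _, hinv =>
    obtain ⟨_, hdeg⟩ := hinv
    omega

end Invariant

/-- A non-trivial law holds in PSL_2 over only finitely many finite fields: for every non-trivial element w of the free group on countably many generators there is N such that over every finite field with at least N elements some substitution of elements of PSL_2 into w is not the identity. -/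
theorem result (w : FreeGroup ℕ) (hw : w ≠ 1) :
    ∃ N : ℕ, ∀ (F : Type*) [Field F] [Fintype F], N ≤ Fintype.card F →
      ∃ f : ℕ → Matrix.ProjectiveSpecialLinearGroup (Fin 2) F, FreeGroup.lift f w ≠ 1 := by
  classical
  set Wz : Matrix (Fin 2) (Fin 2) ℤ[X] :=
    ((FreeGroup.lift (gen ℤ) w : Matrix.SpecialLinearGroup (Fin 2) ℤ[X]) :
      Matrix (Fin 2) (Fin 2) ℤ[X]) with hWz
  set D : ℕ := (Wz 0 0).natDegree + (Wz 0 1).natDegree + (Wz 1 0).natDegree +
    (Wz 1 1).natDegree with hD
  refine ⟨D + 1, fun F _ _ hcard => ?_⟩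
  set WF : Matrix (Fin 2) (Fin 2) F[X] :=
    ((FreeGroup.lift (gen F) w : Matrix.SpecialLinearGroup (Fin 2) F[X]) :
      Matrix (Fin 2) (Fin 2) F[X]) with hWF
  have hmap : ∀ a b, WF a b = (Wz a b).map (Int.castRingHom F) := by
    intro a b
    rw [hWF, ← map_lift (Int.castRingHom F) w, Matrix.SpecialLinearGroup.map_apply_coe]
    rfl
  have hdeg : ∀ a b, (WF a b).natDegree ≤ (Wz a b).natDegree := by
    intro a b
    rw [hmap]
    exact natDegree_map_le
  set p : F[X] := (WF 0 0 + WF 0 1) - (WF 1 0 + WF 1 1) with hp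
  have hp0 : p ≠ 0 := by
    intro h
    have := natDegree_ne (K := F) w hw
    apply this
    rw [hp, sub_eq_zero] at h
    exact congrArg natDegree h
  have hpdeg : p.natDegree ≤ D := by
    have h1 : p.natDegree ≤ max (WF 0 0 + WF 0 1).natDegree (WF 1 0 + WF 1 1).natDegree :=
      natDegree_sub_le (WF 0 0 + WF 0 1) (WF 1 0 + WF 1 1)
    have h2 := natDegree_add_le (WF 0 0) (WF 0 1)
    have h3 := natDegree_add_le (WF 1 0) (WF 1 1)
    have := hdeg 0 0
    have := hdeg 0 1
    have := hdeg 1 0
    have := hdeg 1 1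
    rw [hD]
    omega
  obtain ⟨c, hc⟩ : ∃ c : F, p.eval c ≠ 0 := by
    by_contra hcon
    apply hp0
    refine eq_zero_of_natDegree_lt_card_of_eval_eq_zero p (f := id) Function.injective_id
      (fun i => ?_) (lt_of_le_of_lt hpdeg (by omega))
    by_contra hi
    exact hcon ⟨i, hi⟩
  let ev : Matrix.SpecialLinearGroup (Fin 2) F[X] →* Matrix.SpecialLinearGroup (Fin 2) F :=
    Matrix.SpecialLinearGroup.map (Polynomial.evalRingHom c)
  let π : Matrix.SpecialLinearGroup (Fin 2) F →* Matrix.ProjectiveSpecialLinearGroup (Fin 2) F :=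
    QuotientGroup.mk' _
  refine ⟨fun i => π (ev (gen F i)), fun h => ?_⟩
  have hlift : FreeGroup.lift (fun i => π (ev (gen F i))) w =
      π (ev (FreeGroup.lift (gen F) w)) := by
    have := FreeGroup.lift_unique (f := fun i => π (ev (gen F i)))
      ((π.comp ev).comp (FreeGroup.lift (gen F))) (fun i => by simp) (x := w)
    simpa using this.symm
  rw [hlift] at h
  have hcen : ev (FreeGroup.lift (gen F) w) ∈
      Subgroup.center (Matrix.SpecialLinearGroup (Fin 2) F) :=
    (QuotientGroup.eq_one_iff _).mp h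
  rw [Matrix.SpecialLinearGroup.mem_center_iff] at hcen
  obtain ⟨r, _, hr⟩ := hcen
  have hM : ∀ a b, ((ev (FreeGroup.lift (gen F) w) : Matrix.SpecialLinearGroup (Fin 2) F) :
      Matrix (Fin 2) (Fin 2) F) a b = (WF a b).eval c := by
    intro a b
    show ((Matrix.SpecialLinearGroup.map (Polynomial.evalRingHom c) (FreeGroup.lift (gen F) w) :
      Matrix.SpecialLinearGroup (Fin 2) F) : Matrix (Fin 2) (Fin 2) F) a b = _
    rw [Matrix.SpecialLinearGroup.map_apply_coe]
    rfl
  apply hc
  rw [hp]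
  simp only [eval_sub, eval_add, ← hM, ← hr]
  simp

end Cfsg.Agent.S2353
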