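import Cfsg.Statements.S1157
import Cfsg.Agent.Helper9.Syl8C
import Cfsg.Agent.Helper9.Syl8D
import Cfsg.Agent.S1114
import Cfsg.Agent.S1116
import Cfsg.Agent.S1152

set_option autoImplicit false
open Cfsg

namespace Cfsg.Agent.S1157

/-- In the small Ree group ²G₂(q), q = 3^(2m+1) with m ≥ 1, realised as G¹ inside the Chevalley group G₂ over the field with q elements (θ the 3^m-th power map): a Sylow 2-subgroup `S` of `G¹` satisfies `C(S) = S` and `|N(S)| = 168`. -/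
theorem result {K : Type*} [Field K] [Fintype K] {m : ℕ} (hm : 1 ≤ m) (hK : Fintype.card K = 3 ^ (2 * m + 1))
    (S : Sylow 2 ↥(Cfsg.Lie.twistedG2 K (3 ^ m))) :
    Subgroup.centralizer ((S : Subgroup ↥(Cfsg.Lie.twistedG2 K (3 ^ m))) : Set ↥(Cfsg.Lie.twistedG2 K (3 ^ m))) = S ∧
      Nat.card (Subgroup.normalizer ((S : Subgroup ↥(Cfsg.Lie.twistedG2 K (3 ^ m))) : Set ↥(Cfsg.Lie.twistedG2 K (3 ^ m)))) = 168 := by
  classical
  -- an involution of `H¹`, from `|H¹| = q - 1`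
  have hc := Cfsg.Agent.S1114.result hK
  have h2 : 2 ∣ Nat.card ↥(Cfsg.Lie.chevG2.diagonalSubgroup K ⊓ Cfsg.Lie.twistedG2 K (3 ^ m)) := by
    rw [hc]
    exact (Nat.Odd.sub_odd (Odd.pow (by decide)) odd_one).two_dvd
  haveI : Fact (Nat.Prime 2) := ⟨Nat.prime_two⟩
  obtain ⟨x, hx⟩ := exists_prime_orderOf_dvd_card' 2 h2
  let a : ↥(Cfsg.Lie.twistedG2 K (3 ^ m)) := ⟨(x : GL Cfsg.Lie.chevG2.Idx K), x.2.2⟩
  have haH : (a : GL Cfsg.Lie.chevG2.Idx K) ∈ Cfsg.Lie.chevG2.diagonalSubgroup K := x.2.1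
  have ha1 : a ≠ 1 := by
    intro h
    have h' : (x : GL Cfsg.Lie.chevG2.Idx K) = 1 := congrArg Subtype.val h
    have : x = 1 := Subtype.ext h'
    rw [this, orderOf_one] at hx
    omega
  have ha2 : a * a = 1 := by
    have := pow_orderOf_eq_one x
    rw [hx, sq] at this
    apply Subtype.ext
    have h' : (x : GL Cfsg.Lie.chevG2.Idx K) * (x : GL Cfsg.Lie.chevG2.Idx K) = 1 :=
      congrArg Subtype.val this
    exact h'
  -- helper6's S1152: `C(a) ≅ Z₂ × PSL₂(q)`, Sylow 2-subgroups elementary abelian of order 8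
  obtain ⟨⟨e⟩, hS8⟩ := Cfsg.Agent.S1152.result hK a haH ha1 ha2
  -- helper18's S1116: perfect, hence no subgroup of index 2
  have hperf := Cfsg.Agent.S1116.result hK hm
  have hG : ∀ H : Subgroup ↥(Cfsg.Lie.twistedG2 K (3 ^ m)), H.index ≠ 2 := by
    intro H hH
    haveI : H.Normal := Subgroup.normal_of_index_eq_two hH
    have hcard : Nat.card (↥(Cfsg.Lie.twistedG2 K (3 ^ m)) ⧸ H) = 2 := by
      rw [← Subgroup.index_eq_card]; exact hH
    haveI : IsCyclic (↥(Cfsg.Lie.twistedG2 K (3 ^ m)) ⧸ H) := isCyclic_of_prime_card hcard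
    let _ : CommGroup (↥(Cfsg.Lie.twistedG2 K (3 ^ m)) ⧸ H) := IsCyclic.commGroup
    have hle : commutator ↥(Cfsg.Lie.twistedG2 K (3 ^ m)) ≤ (QuotientGroup.mk' H).ker :=
      Abelianization.commutator_subset_ker _
    rw [hperf, QuotientGroup.ker_mk', top_le_iff] at hle
    rw [hle, Subgroup.index_top] at hH
    omega
  -- the field has `q ≡ 3 mod 8` elements
  have hq8 : Fintype.card K % 8 = 3 := by
    rw [hK, pow_succ, pow_mul, Nat.mul_mod, Nat.pow_mod]
    norm_num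
  have hodd : Odd (Fintype.card K) := by
    rw [hK]
    exact Odd.pow (by decide)
  exact Cfsg.Agent.Helper9.Syl8.sylow_two_of_centralizer a ha1 ha2 e hS8
    (fun V => Cfsg.Agent.Helper9.Syl8.psl2_sylow_two hodd (Or.inl hq8) V) hG S

end Cfsg.Agent.S1157
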