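import Cfsg.Statements.S0202
import Mathlib
import Cfsg.Agent.Helper4.KleinSylow

set_option autoImplicit false
open Cfsg

namespace Cfsg.Agent.S0202

open Cfsg.Agent.Helper4

/-- If a Sylow 2-subgroup of a finite group is a Klein four-group, the group has one or three conjugacy classes of involutions. -/
theorem result {G : Type*} [Group G] [Finite G] (P : Sylow 2 G) (hP : IsKleinFour (P : Subgroup G)) : Nat.card {C : ConjClasses G // ∃ t : G, orderOf t = 2 ∧ ConjClasses.mk t = C} = 1 ∨ Nat.card {C : ConjClasses G // ∃ t : G, orderOf t = 2 ∧ ConjClasses.mk t = C} = 3 := by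
  have hsurj := kleinClassMap_surjective P hP
  by_cases hinj : Function.Injective (kleinClassMap P hP)
  · right
    rw [← klein_card_ne_one P hP]
    exact (Nat.card_congr (Equiv.ofBijective _ ⟨hinj, hsurj⟩)).symm
  · left
    unfold Function.Injective at hinj
    push Not at hinj
    obtain ⟨a, b, hab, hne⟩ := hinj
    rw [kleinClassMap_eq_iff] at hab
    have ha1 : (a.1 : G) ≠ 1 := fun h => a.2 (Subtype.ext h)
    have hb1 : (b.1 : G) ≠ 1 := fun h => b.2 (Subtype.ext h)
    have hne' : (a.1 : G) ≠ (b.1 : G) := fun h => hne (Subtype.ext (Subtype.ext h))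
    have hac := klein_fusion P hP a.1 b.1 a.1.2 b.1.2 ha1 hb1 hne' hab
    have hall : ∀ t : {t : (P : Subgroup G) // t ≠ 1}, kleinClassMap P hP t = kleinClassMap P hP a := by
      intro t
      rw [kleinClassMap_eq_iff]
      have ht1 : (t.1 : G) ≠ 1 := fun h => t.2 (Subtype.ext h)
      by_cases hta : (t.1 : G) = a.1
      · rw [hta]
      · by_cases htb : (t.1 : G) = b.1
        · rw [htb]; exact hab.symm
        · have := klein_third P hP a.1 b.1 t.1 a.1.2 b.1.2 t.1.2 ha1 hb1 hne' ht1 hta htb
          rw [this]; exact hac.symm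
    rw [Nat.card_eq_one_iff_unique]
    refine ⟨⟨?_⟩, ⟨kleinClassMap P hP a⟩⟩
    intro x y
    obtain ⟨s, rfl⟩ := hsurj x
    obtain ⟨t, rfl⟩ := hsurj y
    rw [hall s, hall t]

end Cfsg.Agent.S0202
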