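import Cfsg.Statements.S5254
import Cfsg.Agent.Helper86.Hyperplane
import Cfsg.Agent.Helper87.FusionRadical
import Cfsg.Agent.Helper87.FusionSeries
import Cfsg.Agent.S5080
import Cfsg.Agent.S5326

set_option autoImplicit false
open Cfsg

namespace Cfsg.Agent.S5254

open Cfsg.FusionSystem Cfsg.Agent.Helper87 Cfsg.Agent.Helper86

section general

variable {Ω : Type*} [Group Ω]

/-- If `u v u⁻¹ = c v` with `c` commuting with `v`, then `u vⁱ u⁻¹ = cⁱ vⁱ`. -/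
theorem conj_pow_eq {u v c : Ω} (h : u * v * u⁻¹ = c * v) (hc : c * v = v * c) (i : ℕ) :
    u * v ^ i * u⁻¹ = c ^ i * v ^ i := by
  have h1 : u * v ^ i * u⁻¹ = (u * v * u⁻¹) ^ i := by
    rw [conj_pow]
  rw [h1, h, Commute.mul_pow hc]

/-- If `a v a⁻¹ = c v` with `c` commuting with `a`, then `aᵏ v a⁻ᵏ = cᵏ v`. -/
theorem pow_conj_eq {a v c : Ω} (h : a * v * a⁻¹ = c * v) (hc : a * c = c * a) (k : ℕ) :
    a ^ k * v * (a ^ k)⁻¹ = c ^ k * v := by
  induction k with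
  | zero => simp
  | succ k ih =>
    have h1 : a ^ (k + 1) * v * (a ^ (k + 1))⁻¹ = a * (a ^ k * v * (a ^ k)⁻¹) * a⁻¹ := by
      rw [pow_succ']
      group
    have h2 : a * c ^ k = c ^ k * a := (Commute.pow_right hc k)
    rw [h1, ih]
    have h3 : a * (c ^ k * v) * a⁻¹ = (a * c ^ k) * (v * a⁻¹) := by group
    rw [h3, h2]
    have h4 : c ^ k * a * (v * a⁻¹) = c ^ k * (a * v * a⁻¹) := by group
    rw [h4, h, pow_succ]
    group

/-- A group generated modulo an abelian subgroup `N` by a central element is abelian. -/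
theorem comm_of_central_gen {G : Type*} [Group G] (N : Subgroup G) (hNc : ∀ u ∈ N, ∀ v ∈ N, u * v = v * u) {w : G}
    (hw : ∀ g : G, g * w = w * g) (hdec : ∀ g : G, ∃ i : ℕ, g * w ^ i ∈ N) : ∀ a b : G, a * b = b * a := by
  intro g₁ g₂
  obtain ⟨i, hi⟩ := hdec g₁
  obtain ⟨j, hj⟩ := hdec g₂
  have e₁ : g₁ = (g₁ * w ^ i) * (w ^ i)⁻¹ := by group
  have e₂ : g₂ = (g₂ * w ^ j) * (w ^ j)⁻¹ := by group
  have hzc : ∀ (g : G) (k : ℕ), Commute ((w ^ k)⁻¹) g := by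
    intro g k
    exact ((Commute.pow_left (hw g).symm k)).inv_left
  have c1 : Commute (g₁ * w ^ i) (g₂ * w ^ j) := hNc _ hi _ hj
  have c2 : Commute (g₁ * w ^ i) ((w ^ j)⁻¹) := (hzc _ j).symm
  have c3 : Commute ((w ^ i)⁻¹) (g₂ * w ^ j) := hzc _ i
  have c4 : Commute ((w ^ i)⁻¹) ((w ^ j)⁻¹) := hzc _ i
  rw [e₁, e₂]
  exact (c1.mul_right c2).mul_left (c3.mul_right c4)

/-- In a finite subgroup, an element conjugating the subgroup into itself normalizes it. -/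
theorem mem_normalizer_of_conj_mem {P : Subgroup Ω} [Finite P] {g : Ω} (h : ∀ y ∈ P, g * y * g⁻¹ ∈ P) :
    g ∈ Subgroup.normalizer (P : Set Ω) := by
  rw [Subgroup.mem_normalizer_iff_map_conj_eq]
  apply Subgroup.eq_of_le_of_card_ge
  · rintro _ ⟨y, hy, rfl⟩
    exact h y hy
  · exact (Subgroup.card_map_of_injective (MulAut.conj g).injective).ge

end general

section setup

variable {Ω : Type*} [Group Ω]

/-- The facts used about a normal abelian subgroup `A` of prime index `p` in `S`. -/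
structure Setup (p : ℕ) (S A : Subgroup Ω) : Prop where
  hAS : A ≤ S
  comm : ∀ a ∈ A, ∀ b ∈ A, a * b = b * a
  conj : ∀ g ∈ S, ∀ a ∈ A, g * a * g⁻¹ ∈ A
  decomp : ∀ x ∈ S, x ∉ A → ∀ g ∈ S, ∃ i : ℕ, g * x ^ i ∈ A
  powp : ∀ g ∈ S, g ^ p ∈ A

theorem setup_of {S A : Subgroup Ω} [Finite S] {p : ℕ} [hp : Fact p.Prime] (hS : IsPGroup p S) (hAS : A ≤ S)
    (hAc : IsMulCommutative ↥A) (hAi : (A.subgroupOf S).index = p) : Setup p S A := by
  obtain ⟨n, hn⟩ := IsPGroup.iff_card.mp hS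
  have hn0 : n ≠ 0 := by
    rintro rfl
    have h1 := Subgroup.index_dvd_card (A.subgroupOf S)
    rw [hAi, hn, pow_zero] at h1
    exact hp.out.one_lt.ne' (Nat.dvd_one.mp h1)
  haveI hnorm : (A.subgroupOf S).Normal :=
    Subgroup.normal_of_index_eq_minFac_card (by rw [hAi, hn, hp.out.pow_minFac hn0])
  refine ⟨hAS, ?_, ?_, ?_, ?_⟩
  · intro a ha b hb
    have := isMulCommutative_iff.mp hAc (⟨a, ha⟩ : A) ⟨b, hb⟩
    exact congrArg Subtype.val this
  · intro g hg a ha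
    have h1 : (⟨a, hAS ha⟩ : S) ∈ A.subgroupOf S := Subgroup.mem_subgroupOf.mpr ha
    have h2 := hnorm.conj_mem _ h1 ⟨g, hg⟩
    exact Subgroup.mem_subgroupOf.mp h2
  · intro x hx hxA g hg
    have hv : (⟨x, hx⟩ : S) ∉ A.subgroupOf S := fun h => hxA (Subgroup.mem_subgroupOf.mp h)
    obtain ⟨i, hi⟩ := exists_mul_pow_mem_of_index_prime hp.out (A.subgroupOf S) hAi hv ⟨g, hg⟩
    exact ⟨i, Subgroup.mem_subgroupOf.mp hi⟩
  · intro g hg
    have := pow_mem_of_index_prime hp.out (A.subgroupOf S) hAi ⟨g, hg⟩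
    exact Subgroup.mem_subgroupOf.mp this

variable {p : ℕ} {S A : Subgroup Ω}

/-- An element outside `A` that is central in `S` forces `S` to be abelian. -/
theorem Setup.comm_of_central (h : Setup p S A) {z : Ω} (hzS : z ∈ S) (hzA : z ∉ A)
    (hz : ∀ g ∈ S, g * z = z * g) : ∀ g₁ ∈ S, ∀ g₂ ∈ S, g₁ * g₂ = g₂ * g₁ := by
  intro g₁ hg₁ g₂ hg₂
  obtain ⟨i, hi⟩ := h.decomp z hzS hzA g₁ hg₁
  obtain ⟨j, hj⟩ := h.decomp z hzS hzA g₂ hg₂
  have e₁ : g₁ = (g₁ * z ^ i) * (z ^ i)⁻¹ := by group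
  have e₂ : g₂ = (g₂ * z ^ j) * (z ^ j)⁻¹ := by group
  have hzc : ∀ g ∈ S, ∀ k : ℕ, Commute ((z ^ k)⁻¹) g := by
    intro g hg k
    exact ((Commute.pow_left (hz g hg).symm k)).inv_left
  have c1 : Commute (g₁ * z ^ i) (g₂ * z ^ j) := h.comm _ hi _ hj
  have c2 : Commute (g₁ * z ^ i) ((z ^ j)⁻¹) := (hzc _ (h.hAS hi) j).symm
  have c3 : Commute ((z ^ i)⁻¹) (g₂ * z ^ j) := hzc _ (h.hAS hj) i
  have c4 : Commute ((z ^ i)⁻¹) ((z ^ j)⁻¹) := hzc _ (S.inv_mem (S.pow_mem hzS j)) i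
  rw [e₁, e₂]
  exact (c1.mul_right c2).mul_left (c3.mul_right c4)

/-- An element of `A` commuting with an element of `S` outside `A` is central in `S`. -/
theorem Setup.central_of_comm (h : Setup p S A) {x : Ω} (hxS : x ∈ S) (hxA : x ∉ A) {a : Ω} (haA : a ∈ A)
    (hax : a * x = x * a) : ∀ g ∈ S, g * a = a * g := by
  intro g hg
  obtain ⟨i, hi⟩ := h.decomp x hxS hxA g hg
  have e : g = (g * x ^ i) * (x ^ i)⁻¹ := by group
  have c1 : Commute (g * x ^ i) a := h.comm _ hi _ haA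
  have c2 : Commute ((x ^ i)⁻¹) a := ((Commute.pow_right (show Commute a x from hax) i).symm).inv_left
  rw [e]
  exact c1.mul_left c2

end setup

section fusion

variable {Ω : Type*} [Group Ω] {S : Subgroup Ω}

/-- If `D ≤ P` is invariant under `Aut_F(P)` for an essential subgroup `P`, and `c ∈ N_S(P)` centralizes `D` and
`[P, c] ≤ D`, then `c ∈ P`. -/
theorem mem_of_stabilizes [Finite S] {p : ℕ} [Fact p.Prime] (hS : IsPGroup p S) (F : FusionSystem S)
    (hF : F.IsSaturated p) {P : Subgroup Ω} (hP : F.IsEssential p P) (D : Subgroup P)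
    (hD : ∀ α ∈ F.autGroup P, ∀ x ∈ D, α x ∈ D) {c : Ω} (hcS : c ∈ S)
    (hcN : c ∈ Subgroup.normalizer (P : Set Ω)) (hfix : ∀ x ∈ D, conjAut P c hcN x = x)
    (hcm : ∀ x : P, x⁻¹ * conjAut P c hcN x ∈ D) : c ∈ P := by
  have hPc : F.IsCentric P := hP.1
  have hPS : P ≤ S := hPc.1
  have hPr := Cfsg.Agent.S5080.result p hS F hF P hP
  have hfinP : Finite P := finite_of_le hPS
  have hβA : conjAut P c hcN ∈ F.autGroup P := (mem_autGroup_iff F hPS _).mpr (isIso_conjAut F hPS hcS hcN)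
  set K : Subgroup (F.autGroup P) :=
    (chainStab (hyperChain D) (hyperChain_antitone D)).subgroupOf (F.autGroup P) with hK
  have hKp : IsPGroup p K := (isPGroup_chainStab_hyperChain (hS.to_le hPS) D).comap_subtype
  have hinv : ∀ b ∈ F.autGroup P, ∀ k, ∀ x ∈ hyperChain D k, b x ∈ hyperChain D k := by
    intro b hb k x hx
    by_cases hk0 : k = 0
    · subst hk0
      simp [hyperChain]
    · by_cases hk1 : k = 1
      · subst hk1
        have hxD : x ∈ D := by simpa [hyperChain] using hx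
        simpa [hyperChain] using hD b hb x hxD
      · have hx1 : x = 1 := by simpa [hyperChain, hk0, hk1] using hx
        subst hx1
        simp
  have hKn : K.Normal := by
    constructor
    intro a ha b
    rw [hK, Subgroup.mem_subgroupOf] at ha ⊢
    have h1 := conj_mem_chainStab (hyperChain D) (hyperChain_antitone D) (b : MulAut P) (a : MulAut P)
      (hinv _ b.2) (hinv _ ((F.autGroup P).inv_mem b.2)) ha
    simpa using h1
  refine mem_of_conjAut_mem_normal_pGroup F hPc hPr K hKn hKp hcS hcN hβA ?_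
  rw [hK, Subgroup.mem_subgroupOf]
  exact mem_chainStab_hyperChain D _ hcm hfix

theorem mem_center_iff' (z : Ω) :
    z ∈ S ⊓ Subgroup.centralizer (S : Set Ω) ↔ z ∈ S ∧ ∀ g ∈ S, g * z = z * g := by
  rw [Subgroup.mem_inf, Subgroup.mem_centralizer_iff]
  rfl

theorem mem_centralizerIn_iff (P : Subgroup Ω) (z : Ω) :
    z ∈ centralizerIn S P ↔ z ∈ S ∧ ∀ g ∈ P, g * z = z * g := by
  unfold centralizerIn
  rw [Subgroup.mem_inf, Subgroup.mem_centralizer_iff]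
  rfl

/-- Membership in the second centre of `S`. -/
theorem mem_Z2_iff (g : Ω) : g ∈ (upperCentralSeries ↥S 2).map S.subtype ↔
    g ∈ S ∧ ∀ h ∈ S, g * h * g⁻¹ * h⁻¹ ∈ S ⊓ Subgroup.centralizer (S : Set Ω) := by
  have key : ∀ s : S, s ∈ Subgroup.upperCentralSeries ↥S 2 ↔
      ∀ h ∈ S, (s : Ω) * h * (s : Ω)⁻¹ * h⁻¹ ∈ S ⊓ Subgroup.centralizer (S : Set Ω) := by
    intro s
    rw [show (2 : ℕ) = 1 + 1 from rfl, Subgroup.mem_upperCentralSeries_succ_iff]
    constructor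
    · intro hs h hh
      have h1 := hs ⟨h, hh⟩
      rw [Subgroup.upperCentralSeries_one, Subgroup.mem_center_iff, commutatorElement_def] at h1
      rw [mem_center_iff']
      refine ⟨S.mul_mem (S.mul_mem (S.mul_mem s.2 hh) (S.inv_mem s.2)) (S.inv_mem hh), fun g hg => ?_⟩
      exact congrArg Subtype.val (h1 ⟨g, hg⟩)
    · intro hs y
      rw [Subgroup.upperCentralSeries_one, Subgroup.mem_center_iff, commutatorElement_def]
      intro g
      have h1 := ((mem_center_iff' _).mp (hs y y.2)).2 g g.2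
      exact Subtype.ext h1
  show g ∈ (Subgroup.upperCentralSeries ↥S 2).map S.subtype ↔ _
  constructor
  · rintro ⟨s, hs, rfl⟩
    exact ⟨s.2, (key s).mp hs⟩
  · rintro ⟨hgS, hg⟩
    exact ⟨⟨g, hgS⟩, (key ⟨g, hgS⟩).mpr hg, rfl⟩

/-- Commutator computation: if `y` commutes with `g tⁱ` and `[y, t]` is central in `S`, then `[y, g]` is central. -/
theorem comm_mem_center {y t g : Ω} (htS : t ∈ S) (i : ℕ) (hbS : g * t ^ i ∈ S)
    (hyb : y * (g * t ^ i) = (g * t ^ i) * y)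
    (hc : y * t * y⁻¹ * t⁻¹ ∈ S ⊓ Subgroup.centralizer (S : Set Ω)) :
    y * g * y⁻¹ * g⁻¹ ∈ S ⊓ Subgroup.centralizer (S : Set Ω) := by
  set c := y * t * y⁻¹ * t⁻¹ with hcdef
  have hcz := (mem_center_iff' c).mp hc
  have hyt : y * t * y⁻¹ = c * t := by rw [hcdef]; group
  have hct : c * t = t * c := (hcz.2 t htS).symm
  have hti := conj_pow_eq hyt hct i
  have e : y * g * y⁻¹ * g⁻¹ = (g * t ^ i) * ((y * t ^ i * y⁻¹)⁻¹ * t ^ i) * (g * t ^ i)⁻¹ := by
    have : y * g = (g * t ^ i) * y * (t ^ i)⁻¹ := by rw [← hyb]; group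
    rw [this]; group
  rw [e, hti]
  have hcomm_i : c ^ i * t ^ i = t ^ i * c ^ i := Commute.pow_pow (show Commute c t from hct) i i
  have e2 : (c ^ i * t ^ i)⁻¹ * t ^ i = (c ^ i)⁻¹ := by rw [hcomm_i]; group
  rw [e2]
  have hmem : (c ^ i)⁻¹ ∈ S ⊓ Subgroup.centralizer (S : Set Ω) :=
    Subgroup.inv_mem _ (Subgroup.pow_mem _ hc i)
  have hcen := ((mem_center_iff' _).mp hmem).2 _ hbS
  rw [hcen]
  have : (c ^ i)⁻¹ * (g * t ^ i) * (g * t ^ i)⁻¹ = (c ^ i)⁻¹ := by group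
  rw [this]
  exact hmem

/-- The centre of `S` lies in `A`. -/
theorem center_le {p : ℕ} {A : Subgroup Ω} (h : Setup p S A) (hna : ¬ IsMulCommutative ↥S) :
    S ⊓ Subgroup.centralizer (S : Set Ω) ≤ A := by
  intro z hz
  rw [mem_center_iff'] at hz
  by_contra hzA
  apply hna
  rw [isMulCommutative_iff]
  intro a b
  exact Subtype.ext (h.comm_of_central hz.1 hzA hz.2 a a.2 b b.2)

/-- The centre of `S` lies in every centric subgroup. -/
theorem center_le_of_centric (F : FusionSystem S) {P : Subgroup Ω} (hPc : F.IsCentric P) :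
    S ⊓ Subgroup.centralizer (S : Set Ω) ≤ P := by
  intro z hz
  rw [mem_center_iff'] at hz
  apply hPc.2 P (isConj_refl F hPc.1)
  rw [mem_centralizerIn_iff]
  exact ⟨hz.1, fun g hg => hz.2 g (hPc.1 hg)⟩

/-- The abelian case. -/
theorem abelian_case [Finite S] {p : ℕ} [hp : Fact p.Prime] (hS : IsPGroup p S) (F : FusionSystem S)
    (hF : F.IsSaturated p) {A : Subgroup Ω} (h : Setup p S A) (hna : ¬ IsMulCommutative ↥S) {P : Subgroup Ω}
    (hP : F.IsEssential p P) {x : Ω} (hxP : x ∈ P) (hxA : x ∉ A) (hPcomm : ∀ a ∈ P, ∀ b ∈ P, a * b = b * a) :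
    P = (S ⊓ Subgroup.centralizer (S : Set Ω)) ⊔ Subgroup.zpowers x ∧
      (P.subgroupOf (S ⊓ Subgroup.normalizer (P : Set Ω))).index = p := by
  have hPlt : P < S := Cfsg.Agent.S5326.lt_of_isEssential hS F hF hP
  obtain ⟨hPc, hPfn, hnorm, M, hM⟩ := hP
  have hPS : P ≤ S := hPc.1
  have hxS : x ∈ S := hPS hxP
  have hfinP : Finite P := finite_of_le hPS
  have hZA := center_le h hna
  have hZP := center_le_of_centric F hPc
  have hP0Z : ∀ a ∈ P, a ∈ A → a ∈ S ⊓ Subgroup.centralizer (S : Set Ω) := by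
    intro a haP haA
    rw [mem_center_iff']
    exact ⟨hPS haP, h.central_of_comm hxS hxA haA (hPcomm a haP x hxP)⟩
  have hdecP : ∀ g ∈ P, ∃ i : ℕ, g * x ^ i ∈ S ⊓ Subgroup.centralizer (S : Set Ω) := by
    intro g hg
    obtain ⟨i, hi⟩ := h.decomp x hxS hxA g (hPS hg)
    exact ⟨i, hP0Z _ (P.mul_mem hg (P.pow_mem hxP i)) hi⟩
  refine ⟨?_, ?_⟩
  · apply le_antisymm
    · intro g hg
      obtain ⟨i, hi⟩ := hdecP g hg
      have e : g = (g * x ^ i) * (x ^ i)⁻¹ := by group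
      rw [e]
      exact Subgroup.mul_mem_sup hi (Subgroup.inv_mem _ (Subgroup.pow_mem _ (Subgroup.mem_zpowers x) i))
    · exact sup_le hZP (by rw [Subgroup.zpowers_le]; exact hxP)
  · set N : Subgroup Ω := S ⊓ Subgroup.normalizer (P : Set Ω) with hN
    have hNp : IsPGroup p N := hS.to_le inf_le_left
    let f : N →* MulAut P := P.normalizerMonoidHom.comp (Subgroup.inclusion (inf_le_right : N ≤ _))
    have hf : ∀ (n : N) (y : P), ((f n y : P) : Ω) = (n : Ω) * y * (n : Ω)⁻¹ := fun n y => rfl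
    have hker : f.ker = P.subgroupOf N := by
      ext n
      rw [MonoidHom.mem_ker, Subgroup.mem_subgroupOf]
      constructor
      · intro hn
        apply hPc.2 P (isConj_refl F hPS)
        rw [mem_centralizerIn_iff]
        refine ⟨n.2.1, ?_⟩
        intro y hy
        have h1 := hf n ⟨y, hy⟩
        rw [hn] at h1
        have h2 : y = (n : Ω) * y * (n : Ω)⁻¹ := h1
        calc y * (n : Ω) = ((n : Ω) * y * (n : Ω)⁻¹) * (n : Ω) := by rw [← h2]
          _ = (n : Ω) * y := by group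
      · intro hn
        ext y
        rw [hf]
        show (n : Ω) * y * (n : Ω)⁻¹ = y
        rw [hPcomm _ hn _ y.2]
        group
    have hidx : (P.subgroupOf N).index = Nat.card f.range := by
      rw [← hker]
      exact Subgroup.index_ker f
    have hTA : f.range ≤ F.autGroup P := by
      rintro _ ⟨n, rfl⟩
      exact (mem_autGroup_iff F hPS _).mpr (isIso_conjAut F hPS n.2.1 n.2.2)
    have hTp : IsPGroup p f.range := IsPGroup.of_surjective hNp f.rangeRestrict f.rangeRestrict_surjective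
    set Z₁ : Subgroup P := (S ⊓ Subgroup.centralizer (S : Set Ω)).subgroupOf P with hZ₁def
    have hcommP : ∀ a b : P, a * b = b * a := fun a b => Subtype.ext (hPcomm a a.2 b b.2)
    haveI hZ₁n : Z₁.Normal := ⟨fun n hn g => by rw [hcommP g n, mul_inv_cancel_right]; exact hn⟩
    have hZ₁ : Z₁.index = p := by
      apply index_eq_prime_of_gen hp.out Z₁ (a := ⟨x, hxP⟩)
      · intro hx
        exact hxA (hZA (Subgroup.mem_subgroupOf.mp hx))
      · rw [hZ₁def, Subgroup.mem_subgroupOf]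
        exact hP0Z _ (P.pow_mem hxP p) (h.powp x hxS)
      · intro g
        obtain ⟨i, hi⟩ := hdecP g g.2
        exact ⟨i, Subgroup.mem_subgroupOf.mpr hi⟩
    have hfix : ∀ t ∈ f.range, ∀ z ∈ Z₁, t z = z := by
      rintro _ ⟨n, rfl⟩ z hz
      apply Subtype.ext
      rw [hf]
      have hz' := (mem_center_iff' _).mp (Subgroup.mem_subgroupOf.mp hz)
      rw [hz'.2 _ n.2.1]
      group
    have hcm : ∀ t ∈ f.range, ∀ y : P, y⁻¹ * t y ∈ Z₁ := by
      rintro _ ⟨n, rfl⟩ y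
      rw [hZ₁def, Subgroup.mem_subgroupOf]
      apply hP0Z _ (Subtype.mem _)
      obtain ⟨i, hi⟩ := h.decomp x hxS hxA n n.2.1
      have hc : x ^ i * (y : Ω) = y * x ^ i := hPcomm _ (P.pow_mem hxP i) _ y.2
      have e1 : x ^ i * (y : Ω) * (x ^ i)⁻¹ = y := by rw [hc]; group
      have e2 : ((y⁻¹ * f n y : P) : Ω) = ((y : Ω)⁻¹ * ((n : Ω) * x ^ i) * ((y : Ω)⁻¹)⁻¹) * ((n : Ω) * x ^ i)⁻¹ := by
        have : ((y : Ω)⁻¹ * ((n : Ω) * x ^ i) * ((y : Ω)⁻¹)⁻¹) * ((n : Ω) * x ^ i)⁻¹ =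
            (y : Ω)⁻¹ * ((n : Ω) * (x ^ i * (y : Ω) * (x ^ i)⁻¹) * (n : Ω)⁻¹) := by group
        rw [this, e1]
        rfl
      rw [e2]
      exact A.mul_mem (h.conj _ (S.inv_mem (hPS y.2)) _ hi) (A.inv_mem hi)
    have hI : (Inn P).subgroupOf (F.autGroup P) = ⊥ := by
      rw [eq_bot_iff]
      intro α hα
      rw [Subgroup.mem_subgroupOf] at hα
      obtain ⟨g, hg⟩ := hα
      rw [Subgroup.mem_bot]
      apply Subtype.ext
      rw [← hg]
      ext y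
      show ((g * y * g⁻¹ : P) : Ω) = y
      rw [hcommP g y]
      simp
    have hlt := card_lt_sq_of_hyperplane (hS.to_le hPS) hcommP (F.autGroup P) _ hI M hM f.range hTA hTp Z₁ hZ₁
      hfix hcm
    obtain ⟨k, hk⟩ := IsPGroup.iff_card.mp hTp
    rw [hk] at hlt
    have hk2 : k < 2 := (Nat.pow_lt_pow_iff_right hp.out.one_lt).mp hlt
    have hk0 : k ≠ 0 := by
      rintro rfl
      rw [hk, pow_zero] at hidx
      have h1 := Subgroup.index_eq_one.mp hidx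
      have h2 : N ≤ P := Subgroup.subgroupOf_eq_top.mp h1
      exact absurd (lt_normalizerIn hS hPlt) (not_lt_of_ge h2)
    have hk1 : k = 1 := by omega
    rw [hidx, hk, hk1, pow_one]

/-- The nonabelian case. -/
theorem nonabelian_case [Finite S] {p : ℕ} [hp : Fact p.Prime] (hS : IsPGroup p S) (F : FusionSystem S)
    (hF : F.IsSaturated p) {A : Subgroup Ω} (h : Setup p S A) (hna : ¬ IsMulCommutative ↥S) {P : Subgroup Ω}
    (hP : F.IsEssential p P) {x : Ω} (hxP : x ∈ P) (hxA : x ∉ A)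
    (hPnc : ¬ ∀ a ∈ P, ∀ b ∈ P, a * b = b * a) :
    (upperCentralSeries ↥S 2).map S.subtype = P ⊓ A ∧ P = (P ⊓ A) ⊔ Subgroup.zpowers x ∧
      (P.subgroupOf (S ⊓ Subgroup.normalizer (P : Set Ω))).index = p ∧
      ∃ c₀ ∈ P ⊓ A, c₀ ∉ S ⊓ Subgroup.centralizer (S : Set Ω) ∧ c₀ ^ p ∈ S ⊓ Subgroup.centralizer (S : Set Ω) ∧
        ∀ b ∈ P ⊓ A, ∃ i : ℕ, b * c₀ ^ i ∈ S ⊓ Subgroup.centralizer (S : Set Ω) := by
  have hPlt : P < S := Cfsg.Agent.S5326.lt_of_isEssential hS F hF hP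
  have hess := hP
  obtain ⟨hPc, hPfn, hnorm, M, hM⟩ := hP
  have hPS : P ≤ S := hPc.1
  have hxS : x ∈ S := hPS hxP
  have hfinP : Finite P := finite_of_le hPS
  have hZA := center_le h hna
  have hZP := center_le_of_centric F hPc
  have hdecP : ∀ g ∈ P, ∃ i : ℕ, g * x ^ i ∈ P ⊓ A := by
    intro g hg
    obtain ⟨i, hi⟩ := h.decomp x hxS hxA g (hPS hg)
    exact ⟨i, P.mul_mem hg (P.pow_mem hxP i), hi⟩
  have hAP : ¬ A ≤ P := by
    intro hAP
    apply hPlt.ne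
    apply le_antisymm hPS
    intro g hg
    obtain ⟨i, hi⟩ := h.decomp x hxS hxA g hg
    have e : g = (g * x ^ i) * (x ^ i)⁻¹ := by group
    rw [e]
    exact P.mul_mem (hAP hi) (P.inv_mem (P.pow_mem hxP i))
  have hSA : S ≤ Subgroup.normalizer (A : Set Ω) := by
    intro g hg
    apply mem_normalizer_of_conj_mem_of_inv_conj_mem (fun y hy => h.conj g hg y hy)
    intro y hy
    have := h.conj g⁻¹ (S.inv_mem hg) y hy
    rwa [inv_inv] at this
  obtain ⟨a₀, ha₀A, ha₀N, ha₀P⟩ := exists_mem_normalizer_not_mem hS hPS h.hAS (hPS.trans hSA) hAP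
  have ha₀S : a₀ ∈ S := h.hAS ha₀A
  -- the abelian subgroup `P ∩ A` of index `p` in `P`
  set P₀ : Subgroup P := A.subgroupOf P with hP₀
  haveI hP₀n : P₀.Normal := by
    constructor
    intro n hn g
    rw [hP₀, Subgroup.mem_subgroupOf] at hn ⊢
    exact h.conj g (hPS g.2) n hn
  have hP₀i : P₀.index = p := by
    apply index_eq_prime_of_gen hp.out P₀ (a := ⟨x, hxP⟩)
    · intro hx
      exact hxA (Subgroup.mem_subgroupOf.mp hx)
    · rw [hP₀, Subgroup.mem_subgroupOf]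
      exact h.powp x hxS
    · intro g
      obtain ⟨i, hi⟩ := hdecP g g.2
      exact ⟨i, Subgroup.mem_subgroupOf.mpr hi.2⟩
  have hP₀c : ∀ u ∈ P₀, ∀ v ∈ P₀, u * v = v * u := by
    intro u hu v hv
    exact Subtype.ext (h.comm u (Subgroup.mem_subgroupOf.mp hu) v (Subgroup.mem_subgroupOf.mp hv))
  -- `P ∩ A` is not invariant
  have hnoninv : ∃ α ∈ F.autGroup P, ∃ y ∈ P₀, α y ∉ P₀ := by
    by_contra hcon
    push Not at hcon
    apply ha₀P
    apply mem_of_stabilizes hS F hF hess P₀ hcon ha₀S ha₀N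
    · intro y hy
      apply Subtype.ext
      show a₀ * (y : Ω) * a₀⁻¹ = y
      rw [h.comm a₀ ha₀A y (Subgroup.mem_subgroupOf.mp hy)]
      group
    · intro y
      rw [hP₀, Subgroup.mem_subgroupOf]
      show (y : Ω)⁻¹ * (a₀ * (y : Ω) * a₀⁻¹) ∈ A
      have e : (y : Ω)⁻¹ * (a₀ * (y : Ω) * a₀⁻¹) = ((y : Ω)⁻¹ * a₀ * ((y : Ω)⁻¹)⁻¹) * a₀⁻¹ := by group
      rw [e]
      exact A.mul_mem (h.conj _ (S.inv_mem (hPS y.2)) _ ha₀A) (A.inv_mem ha₀A)
  obtain ⟨α, hαA, y₀, hy₀, hαy₀⟩ := hnoninv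
  set P₁ : Subgroup P := P₀.map (α : P ≃* P).toMonoidHom with hP₁
  haveI hP₁n : P₁.Normal := hP₀n.map _ (α : P ≃* P).surjective
  have hP₁i : P₁.index = p := by
    rw [← hP₀i]
    exact Subgroup.index_map_equiv P₀ (α : P ≃* P)
  have hP₁c : ∀ u ∈ P₁, ∀ v ∈ P₁, u * v = v * u := by
    rintro _ ⟨u, hu, rfl⟩ _ ⟨v, hv, rfl⟩
    rw [← map_mul, ← map_mul, hP₀c u hu v hv]
  set v₀ : P := α y₀ with hv₀
  have hv₀1 : v₀ ∈ P₁ := ⟨y₀, hy₀, rfl⟩
  -- the intersection of the two abelian subgroups is central in `P`, and lies in the centre of `S`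
  have hCcent : ∀ w : P, w ∈ P₀ → w ∈ P₁ → ∀ g : P, g * w = w * g := by
    intro w hw0 hw1 g
    obtain ⟨i, hi⟩ := exists_mul_pow_mem_of_index_prime hp.out P₀ hP₀i hαy₀ g
    have e : g = (g * v₀ ^ i) * (v₀ ^ i)⁻¹ := by group
    have c1 : Commute (g * v₀ ^ i) w := hP₀c _ hi _ hw0
    have c2 : Commute ((v₀ ^ i)⁻¹) w :=
      (show Commute (v₀ ^ i) w from hP₁c _ (P₁.pow_mem hv₀1 i) _ hw1).inv_left
    rw [e]
    exact c1.mul_left c2
  have hCZ : ∀ w : P, w ∈ P₀ → w ∈ P₁ → (w : Ω) ∈ S ⊓ Subgroup.centralizer (S : Set Ω) := by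
    intro w hw0 hw1
    rw [mem_center_iff']
    refine ⟨hPS w.2, h.central_of_comm hxS hxA (Subgroup.mem_subgroupOf.mp hw0) ?_⟩
    have := hCcent w hw0 hw1 ⟨x, hxP⟩
    exact (congrArg Subtype.val this).symm
  have hcenter : ∀ w : P, (∀ g : P, g * w = w * g) → (w : Ω) ∈ S ⊓ Subgroup.centralizer (S : Set Ω) := by
    intro w hw
    have hw0 : w ∈ P₀ := by
      by_contra hw0
      apply hPnc
      intro a ha b hb
      have := comm_of_central_gen P₀ hP₀c hw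
        (fun g => exists_mul_pow_mem_of_index_prime hp.out P₀ hP₀i hw0 g) ⟨a, ha⟩ ⟨b, hb⟩
      exact congrArg Subtype.val this
    rw [mem_center_iff']
    exact ⟨hPS w.2, h.central_of_comm hxS hxA (Subgroup.mem_subgroupOf.mp hw0)
      (congrArg Subtype.val (hw ⟨x, hxP⟩)).symm⟩
  -- the centre of `S` as an invariant subgroup of `P`
  set D : Subgroup P := (S ⊓ Subgroup.centralizer (S : Set Ω)).subgroupOf P with hD
  have hDinv : ∀ β ∈ F.autGroup P, ∀ w ∈ D, β w ∈ D := by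
    intro β _ w hw
    rw [hD, Subgroup.mem_subgroupOf]
    apply hcenter
    intro g
    have hwc : ∀ g' : P, g' * w = w * g' := fun g' =>
      Subtype.ext (((mem_center_iff' _).mp (Subgroup.mem_subgroupOf.mp hw)).2 g' (hPS g'.2))
    have h2 := congrArg β (hwc (β⁻¹ g))
    rw [map_mul, map_mul, MulAut.apply_inv_self] at h2
    exact h2
  -- elements of `A` whose commutator with `x` is central lie in `P`
  have hB : ∀ a ∈ A, a * x * a⁻¹ * x⁻¹ ∈ S ⊓ Subgroup.centralizer (S : Set Ω) → a ∈ P := by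
    intro a haA hc
    set c := a * x * a⁻¹ * x⁻¹ with hcdef
    have hcz := (mem_center_iff' c).mp hc
    have hax : a * x * a⁻¹ = c * x := by rw [hcdef]; group
    have hcx : c * x = x * c := (hcz.2 x hxS).symm
    have haS : a ∈ S := h.hAS haA
    have hform : ∀ g ∈ P, ∃ i : ℕ, a * g * a⁻¹ = g * (c ^ i)⁻¹ := by
      intro g hg
      obtain ⟨i, hi⟩ := h.decomp x hxS hxA g (hPS hg)
      refine ⟨i, ?_⟩
      have hu : a * (g * x ^ i) * a⁻¹ = g * x ^ i := by rw [h.comm a haA _ hi]; group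
      have hxi := conj_pow_eq hax hcx i
      have e : a * g * a⁻¹ = (a * (g * x ^ i) * a⁻¹) * (a * x ^ i * a⁻¹)⁻¹ := by group
      rw [e, hu, hxi]
      group
    have hcP : ∀ i : ℕ, (c ^ i)⁻¹ ∈ P := fun i => P.inv_mem (P.pow_mem (hZP hc) i)
    have haN : a ∈ Subgroup.normalizer (P : Set Ω) := by
      apply mem_normalizer_of_conj_mem
      intro g hg
      obtain ⟨i, hi⟩ := hform g hg
      rw [hi]
      exact P.mul_mem hg (hcP i)
    apply mem_of_stabilizes hS F hF hess D hDinv haS haN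
    · intro w hw
      apply Subtype.ext
      show a * (w : Ω) * a⁻¹ = w
      have := ((mem_center_iff' _).mp (Subgroup.mem_subgroupOf.mp hw)).2 a haS
      rw [this]
      group
    · intro g
      rw [hD, Subgroup.mem_subgroupOf]
      show (g : Ω)⁻¹ * (a * (g : Ω) * a⁻¹) ∈ _
      obtain ⟨i, hi⟩ := hform g g.2
      rw [hi]
      have e : (g : Ω)⁻¹ * ((g : Ω) * (c ^ i)⁻¹) = (c ^ i)⁻¹ := by group
      rw [e]
      exact Subgroup.inv_mem _ (Subgroup.pow_mem _ hc i)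
  -- commutators of `P ∩ A` with `x` are central
  have hstep4 : ∀ y ∈ P, y ∈ A → y * x * y⁻¹ * x⁻¹ ∈ S ⊓ Subgroup.centralizer (S : Set Ω) := by
    intro y hyP hyA
    obtain ⟨i, hi⟩ := exists_mul_pow_mem_of_index_prime hp.out P₀ hP₀i hαy₀ ⟨x, hxP⟩
    set xP : P := ⟨x, hxP⟩ with hxPdef
    set u : P := xP * v₀ ^ i with hu
    set v : P := (v₀ ^ i)⁻¹ with hv
    have hv1 : v ∈ P₁ := P₁.inv_mem (P₁.pow_mem hv₀1 i)
    have hxuv : xP = u * v := by rw [hu, hv]; group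
    set y' : P := ⟨y, hyP⟩ with hy'
    have hy'0 : y' ∈ P₀ := Subgroup.mem_subgroupOf.mpr hyA
    set c₁ : P := y' * v * y'⁻¹ * v⁻¹ with hc₁
    have hc₁0 : c₁ ∈ P₀ := by
      have e : c₁ = y' * (v * y'⁻¹ * v⁻¹) := by rw [hc₁]; group
      rw [e]
      exact P₀.mul_mem hy'0 (hP₀n.conj_mem _ (P₀.inv_mem hy'0) v)
    have hc₁1 : c₁ ∈ P₁ := P₁.mul_mem (hP₁n.conj_mem _ hv1 y') (P₁.inv_mem hv1)
    have hcc := hCcent c₁ hc₁0 hc₁1
    have key : y' * xP * y'⁻¹ * xP⁻¹ = c₁ := by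
      rw [hxuv]
      have h1 : y' * u = u * y' := hP₀c _ hy'0 _ hi
      have e1 : y' * (u * v) * y'⁻¹ * (u * v)⁻¹ = (y' * u) * (v * y'⁻¹ * v⁻¹) * u⁻¹ := by group
      rw [e1, h1]
      have e2 : u * y' * (v * y'⁻¹ * v⁻¹) * u⁻¹ = u * c₁ * u⁻¹ := by rw [hc₁]; group
      rw [e2, hcc u]
      group
    have h3 := hCZ c₁ hc₁0 hc₁1
    have e : y * x * y⁻¹ * x⁻¹ = (c₁ : Ω) := by
      rw [← key]
      rfl
    rw [e]
    exact h3
  have hle1 : P ⊓ A ≤ (upperCentralSeries ↥S 2).map S.subtype := by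
    intro y hy
    rw [mem_Z2_iff]
    refine ⟨hPS hy.1, fun g hg => ?_⟩
    obtain ⟨i, hi⟩ := h.decomp x hxS hxA g hg
    exact comm_mem_center hxS i (h.hAS hi) (h.comm y hy.2 _ hi) (hstep4 y hy.1 hy.2)
  have hZ2A : (upperCentralSeries ↥S 2).map S.subtype ≤ A := by
    intro g hg
    rw [mem_Z2_iff] at hg
    by_contra hgA
    apply hAP
    intro a haA
    apply hB a haA
    obtain ⟨i, hi⟩ := h.decomp g hg.1 hgA x hxS
    apply comm_mem_center hg.1 i (h.hAS hi) (h.comm a haA _ hi)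
    have h1 := Subgroup.inv_mem _ (hg.2 a (h.hAS haA))
    have e : (g * a * g⁻¹ * a⁻¹)⁻¹ = a * g * a⁻¹ * g⁻¹ := by group
    rwa [e] at h1
  have hZ2eq : (upperCentralSeries ↥S 2).map S.subtype = P ⊓ A := by
    apply le_antisymm _ hle1
    intro g hg
    have hgA := hZ2A hg
    rw [mem_Z2_iff] at hg
    exact ⟨hB g hgA (hg.2 x hxS), hgA⟩
  set c₀ := a₀ * x * a₀⁻¹ * x⁻¹ with hc₀
  have hconjP : ∀ a ∈ Subgroup.normalizer (P : Set Ω), ∀ y ∈ P, a * y * a⁻¹ ∈ P := by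
    intro a ha y hy
    exact (Subgroup.mem_normalizer_iff.mp ha y).mp hy
  have hcomP : ∀ a ∈ A, a ∈ Subgroup.normalizer (P : Set Ω) →
      a * x * a⁻¹ * x⁻¹ ∈ P ∧ a * x * a⁻¹ * x⁻¹ ∈ A := by
    intro a haA haN
    refine ⟨P.mul_mem (hconjP a haN x hxP) (P.inv_mem hxP), ?_⟩
    have e : a * x * a⁻¹ * x⁻¹ = a * (x * a⁻¹ * (x)⁻¹) := by group
    rw [e]
    exact A.mul_mem haA (h.conj x hxS _ (A.inv_mem haA))
  obtain ⟨hc₀P, hc₀A⟩ := hcomP a₀ ha₀A ha₀N
  have ha₀x : a₀ * x * a₀⁻¹ = c₀ * x := by rw [hc₀]; group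
  have ha₀c : a₀ * c₀ = c₀ * a₀ := h.comm _ ha₀A _ hc₀A
  have hc₀Z : c₀ ∉ S ⊓ Subgroup.centralizer (S : Set Ω) := fun hc => ha₀P (hB a₀ ha₀A hc)
  set c₀' : P := ⟨c₀, hc₀P⟩ with hc₀'
  have hc₀'0 : c₀' ∈ P₀ := Subgroup.mem_subgroupOf.mpr hc₀A
  have hc₀'1 : c₀' ∉ P₁ := fun h1 => hc₀Z (hCZ c₀' hc₀'0 h1)
  have hfourth : ∃ c₀ ∈ P ⊓ A, c₀ ∉ S ⊓ Subgroup.centralizer (S : Set Ω) ∧
      c₀ ^ p ∈ S ⊓ Subgroup.centralizer (S : Set Ω) ∧
      ∀ b ∈ P ⊓ A, ∃ i : ℕ, b * c₀ ^ i ∈ S ⊓ Subgroup.centralizer (S : Set Ω) := by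
    refine ⟨c₀, ⟨hc₀P, hc₀A⟩, hc₀Z, ?_, ?_⟩
    · have h2 : c₀' ^ p ∈ P₁ := pow_mem_of_index_prime hp.out P₁ hP₁i c₀'
      exact hCZ (c₀' ^ p) (P₀.pow_mem hc₀'0 p) h2
    · intro b hb
      obtain ⟨i, hi⟩ := exists_mul_pow_mem_of_index_prime hp.out P₁ hP₁i hc₀'1 ⟨b, hb.1⟩
      exact ⟨i, hCZ (⟨b, hb.1⟩ * c₀' ^ i)
        (P₀.mul_mem (Subgroup.mem_subgroupOf.mpr hb.2) (P₀.pow_mem hc₀'0 i)) hi⟩
  refine ⟨hZ2eq, ?_, ?_, hfourth⟩
  · apply le_antisymm
    · intro g hg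
      obtain ⟨i, hi⟩ := hdecP g hg
      have e : g = (g * x ^ i) * (x ^ i)⁻¹ := by group
      rw [e]
      exact Subgroup.mul_mem_sup hi (Subgroup.inv_mem _ (Subgroup.pow_mem _ (Subgroup.mem_zpowers x) i))
    · exact sup_le inf_le_left (by rw [Subgroup.zpowers_le]; exact hxP)
  · set N : Subgroup Ω := S ⊓ Subgroup.normalizer (P : Set Ω) with hN
    haveI hPN : (P.subgroupOf N).Normal := Subgroup.normal_subgroupOf_of_le_normalizer inf_le_right
    apply index_eq_prime_of_gen hp.out (P.subgroupOf N) (a := ⟨a₀, ⟨ha₀S, ha₀N⟩⟩)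
    · intro hmem
      exact ha₀P (Subgroup.mem_subgroupOf.mp hmem)
    · rw [Subgroup.mem_subgroupOf]
      show a₀ ^ p ∈ P
      apply hB (a₀ ^ p) (A.pow_mem ha₀A p)
      have h1 := pow_conj_eq ha₀x ha₀c p
      have e : a₀ ^ p * x * (a₀ ^ p)⁻¹ * x⁻¹ = c₀ ^ p := by rw [h1]; group
      rw [e]
      have h2 : c₀' ^ p ∈ P₁ := pow_mem_of_index_prime hp.out P₁ hP₁i c₀'
      have h3 := hCZ (c₀' ^ p) (P₀.pow_mem hc₀'0 p) h2
      exact h3
    · rintro ⟨n, hnS, hnN⟩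
      obtain ⟨k, hk⟩ := h.decomp x hxS hxA n hnS
      set a := n * x ^ k with ha
      have haN : a ∈ Subgroup.normalizer (P : Set Ω) :=
        Subgroup.mul_mem _ hnN (Subgroup.le_normalizer (P.pow_mem hxP k))
      obtain ⟨hcP, hcA⟩ := hcomP a hk haN
      set c := a * x * a⁻¹ * x⁻¹ with hc
      obtain ⟨i, hi⟩ := exists_mul_pow_mem_of_index_prime hp.out P₁ hP₁i hc₀'1 ⟨c, hcP⟩
      refine ⟨i, ?_⟩
      rw [Subgroup.mem_subgroupOf]
      show n * a₀ ^ i ∈ P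
      have hmem : a * a₀ ^ i ∈ P := by
        apply hB _ (A.mul_mem hk (A.pow_mem ha₀A i))
        have h1 := pow_conj_eq ha₀x ha₀c i
        have hac : a * c₀ ^ i = c₀ ^ i * a := h.comm _ hk _ (A.pow_mem hc₀A i)
        have e : a * a₀ ^ i * x * (a * a₀ ^ i)⁻¹ * x⁻¹ = a * (a₀ ^ i * x * (a₀ ^ i)⁻¹) * a⁻¹ * x⁻¹ := by group
        rw [e, h1]
        have e2 : a * (c₀ ^ i * x) * a⁻¹ * x⁻¹ = (a * c₀ ^ i) * (x * a⁻¹ * x⁻¹) := by group
        rw [e2, hac]
        have e3 : c₀ ^ i * a * (x * a⁻¹ * x⁻¹) = c₀ ^ i * c := by rw [hc]; group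
        rw [e3, h.comm _ (A.pow_mem hc₀A i) _ hcA]
        have h4 := hCZ (⟨c, hcP⟩ * c₀' ^ i)
          (P₀.mul_mem (Subgroup.mem_subgroupOf.mpr hcA) (P₀.pow_mem hc₀'0 i)) hi
        exact h4
      have e : n * a₀ ^ i = (a * a₀ ^ i) * ((a₀ ^ i)⁻¹ * (x ^ k)⁻¹ * ((a₀ ^ i)⁻¹)⁻¹) := by rw [ha]; group
      rw [e]
      refine P.mul_mem hmem ?_
      exact hconjP _ (Subgroup.inv_mem _ (Subgroup.pow_mem _ ha₀N i)) _ (P.inv_mem (P.pow_mem hxP k))

end fusion

/-- Let p be an odd prime, S a finite nonabelian p-group with a unique abelian subgroup A of index p, and F a saturated fusion system over S. Then every F-essential subgroup P is A, or Z(S)⟨x⟩ for some x ∈ S outside A, or (when the second centre Z₂(S) lies in A) Z₂(S)⟨x⟩ for some x ∈ S outside A; and P has index p in its normalizer in S. -/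
theorem result {Ω : Type*} [Group Ω] {S : Subgroup Ω} [Finite S] (p : ℕ) [Fact p.Prime] (hS : IsPGroup p S) (F : Cfsg.FusionSystem S) (hF : F.IsSaturated p) (hp : p ≠ 2) (hna : ¬ IsMulCommutative ↥S) (A : Subgroup Ω) (hA : A ≤ S ∧ IsMulCommutative ↥A ∧ (A.subgroupOf S).index = p) (huniq : ∀ B : Subgroup Ω, B ≤ S → IsMulCommutative ↥B → (B.subgroupOf S).index = p → B = A) (P : Subgroup Ω) (hP : F.IsEssential p P) : (P = A ∨ (∃ x ∈ S, x ∉ A ∧ P = (S ⊓ Subgroup.centralizer (S : Set Ω)) ⊔ Subgroup.zpowers x) ∨ (((upperCentralSeries ↥S 2).map S.subtype) ≤ A ∧ ∃ x ∈ S, x ∉ A ∧ P = ((upperCentralSeries ↥S 2).map S.subtype) ⊔ Subgroup.zpowers x)) ∧ (P.subgroupOf (S ⊓ Subgroup.normalizer (P : Set Ω))).index = p := by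
  obtain ⟨hAS, hAc, hAi⟩ := hA
  have h := setup_of hS hAS hAc hAi
  have hPc := hP.1
  have hPS : P ≤ S := hPc.1
  by_cases hPA : P ≤ A
  · have hAP : A ≤ P := by
      intro a ha
      apply hPc.2 P (isConj_refl F hPS)
      rw [mem_centralizerIn_iff]
      exact ⟨hAS ha, fun g hg => h.comm g (hPA hg) a ha⟩
    have hPeq : P = A := le_antisymm hPA hAP
    refine ⟨Or.inl hPeq, ?_⟩
    have hSA : S ≤ Subgroup.normalizer (A : Set Ω) := by
      intro g hg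
      apply mem_normalizer_of_conj_mem_of_inv_conj_mem (fun y hy => h.conj g hg y hy)
      intro y hy
      have := h.conj g⁻¹ (S.inv_mem hg) y hy
      rwa [inv_inv] at this
    rw [hPeq, inf_eq_left.mpr hSA]
    exact hAi
  · obtain ⟨x, hxP, hxA⟩ := SetLike.not_le_iff_exists.mp hPA
    by_cases hPcomm : ∀ a ∈ P, ∀ b ∈ P, a * b = b * a
    · obtain ⟨h1, h2⟩ := abelian_case hS F hF h hna hP hxP hxA hPcomm
      exact ⟨Or.inr (Or.inl ⟨x, hPS hxP, hxA, h1⟩), h2⟩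
    · obtain ⟨h1, h2, h3, -⟩ := nonabelian_case hS F hF h hna hP hxP hxA hPcomm
      refine ⟨Or.inr (Or.inr ⟨?_, x, hPS hxP, hxA, ?_⟩), h3⟩
      · rw [h1]
        exact inf_le_right
      · rw [h1]
        exact h2

end Cfsg.Agent.S5254
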