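import Cfsg.Statements.S4209
import Cfsg.Agent.Helper65.HP3
import Cfsg.Agent.Helper65.Breadth
import Cfsg.Agent.Helper11.RegularP2
-- import your own Cfsg.Agent.* helpers here

set_option autoImplicit false
open Cfsg

namespace Cfsg.Agent.S4209

open scoped commutatorElement

universe u

/-- the class of a subgroup (as a group) is at most the class of the ambient group. -/
theorem lcs_subgroup_eq_bot {G : Type*} [Group G] (H : Subgroup G) (k : ℕ)
    (h : (⊤ : Subgroup G).lowerCentralSeries k = ⊥) :
    (⊤ : Subgroup H).lowerCentralSeries k = ⊥ := by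
  rw [← Subgroup.map_eq_bot_iff_of_injective _ H.subtype_injective,
    Subgroup.top_subtype_lowerCentralSeries, eq_bot_iff, ← h]
  exact Subgroup.lowerCentralSeries_mono k le_top

/-- Kemhadze's condition for `p`-groups of class `< p`, by induction on the order. -/
theorem kemhadze_of_class_lt (p : ℕ) [Fact p.Prime] : ∀ (n : ℕ) (G : Type u) [Group G] [Finite G],
    Nat.card G = n → IsPGroup p G → (⊤ : Subgroup G).lowerCentralSeries (p - 1) = ⊥ →
    ∀ a b : G, ∃ c ∈ ⁅Subgroup.closure ({a, b} : Set G), Subgroup.closure ({a, b} : Set G)⁆,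
      (a * b) ^ p = a ^ p * b ^ p * c ^ p := by
  intro n
  induction n using Nat.strong_induction_on with
  | _ n ih =>
  intro G _ _ hcard hG hcl a b
  have hp : p.Prime := Fact.out
  by_cases hcomm : Commute a b
  · exact ⟨1, one_mem _, by rw [one_pow, mul_one]; exact hcomm.mul_pow p⟩
  have hlt : ∀ K : Subgroup G, K ≠ ⊤ → Nat.card K < n := by
    intro K hK
    have h1 := Cfsg.Agent.Helper65.IsPGroup.mul_card_le_of_ne_top hG hK
    have h2 : 0 < Nat.card K := Nat.card_pos
    rw [hcard] at h1
    have := hp.two_le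
    nlinarith
  by_cases hH : Subgroup.closure ({a, b} : Set G) = ⊤
  · -- the generated subgroup is everything: use Hall-Petrescu and regularity of `G'`
    have hKne : commutator G ≠ ⊤ := by
      intro hK
      have h1 : Cfsg.Agent.Helper65.lcs G (0 + 1) = Cfsg.Agent.Helper65.lcs G 0 := hK
      have h2 := Cfsg.Agent.Helper65.lcs_stationary h1 (p - 1)
      rw [zero_add] at h2
      have h3 : (⊤ : Subgroup G) = ⊥ := by
        have h4 : Cfsg.Agent.Helper65.lcs G (p - 1) = ⊥ := hcl
        rw [h4] at h2
        exact h2.symm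
      apply hcomm
      have ha : a ∈ (⊥ : Subgroup G) := by rw [← h3]; exact Subgroup.mem_top a
      rw [Subgroup.mem_bot] at ha
      rw [ha]
      exact Commute.one_left b
    have hKreg : ∀ n, Cfsg.Agent.Helper11.RegAt p n (commutator G) :=
      Cfsg.Agent.Helper11.regAt_of_kemhadze (hG.to_subgroup _)
        (ih _ (hlt _ hKne) (commutator G) rfl (hG.to_subgroup _)
          (lcs_subgroup_eq_bot _ _ hcl))
    have hPP := Cfsg.Agent.Helper11.powProd_of_regAt (hG.to_subgroup (commutator G)) 1 (hKreg 1) ⊤
    have hPP' : Cfsg.Agent.Helper11.PowProd p 1 (commutator G) := by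
      intro x hx y hy
      obtain ⟨k, _, hk⟩ := hPP ⟨x, hx⟩ (Subgroup.mem_top _) ⟨y, hy⟩ (Subgroup.mem_top _)
      refine ⟨(k : G), k.2, ?_⟩
      have := congrArg (Subtype.val) hk
      simpa using this
    obtain ⟨w, hw, hab⟩ := Cfsg.Agent.Helper65.exists_pow_mul_of_class_lt p hcl a b
    obtain ⟨c, hc, rfl⟩ := Cfsg.Agent.Helper11.powerClosure_eq_of_powProd p 1 hPP' w hw
    refine ⟨c, ?_, ?_⟩
    · rw [hH, ← commutator_def]
      exact hc
    · rw [pow_one] at hab
      exact hab
  · -- proper subgroup: induction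
    set H := Subgroup.closure ({a, b} : Set G) with hHdef
    have haH : a ∈ H := Subgroup.subset_closure (by simp)
    have hbH : b ∈ H := Subgroup.subset_closure (by simp)
    obtain ⟨c', hc', hab'⟩ := ih _ (hlt H hH) H rfl (hG.to_subgroup H)
      (lcs_subgroup_eq_bot H _ hcl) ⟨a, haH⟩ ⟨b, hbH⟩
    refine ⟨(c' : G), ?_, ?_⟩
    · have h1 : (Subgroup.closure ({⟨a, haH⟩, ⟨b, hbH⟩} : Set H)).map H.subtype =
          Subgroup.closure ({a, b} : Set G) := by
        rw [MonoidHom.map_closure, Set.image_pair]
        rfl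
      have h2 : (c' : G) ∈ (⁅Subgroup.closure ({⟨a, haH⟩, ⟨b, hbH⟩} : Set H),
          Subgroup.closure ({⟨a, haH⟩, ⟨b, hbH⟩} : Set H)⁆).map H.subtype :=
        Subgroup.mem_map_of_mem H.subtype hc'
      rw [Subgroup.map_commutator, h1] at h2
      exact h2
    · have := congrArg (Subtype.val) hab'
      simpa using this

/-- A finite `p`-group of nilpotency class less than `p` (the term of index `p - 1` of the lower central series of the whole group, indexed from `0`, is trivial) is a regular `p`-group. -/
theorem result {G : Type*} [Group G] [Finite G] {p : ℕ} [Fact p.Prime] (hG : IsPGroup p G) (hcl : (⊤ : Subgroup G).lowerCentralSeries (p - 1) = ⊥) : Cfsg.IsRegularPGroup p G := by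
  refine ⟨hG, fun a b n => ?_⟩
  exact Cfsg.Agent.Helper11.regAt_of_kemhadze hG
    (kemhadze_of_class_lt p (Nat.card G) G rfl hG hcl) n a b

end Cfsg.Agent.S4209
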