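import Cfsg.Statements.S4216
import Cfsg.Agent.S4250

set_option autoImplicit false
open Cfsg

namespace Cfsg.Agent.S4216

/-- Grün's first Theorem: if `P` is a Sylow `p`-subgroup of the finite group `G`, then `P ∩ G'` is the subgroup generated by `P ∩ N_G(P)'` together with the subgroups `P ∩ z P' z⁻¹` for all `z ∈ G`, where `'` denotes the derived subgroup and `N_G(P)` the normalizer of `P`. -/
theorem result {G : Type*} [Group G] [Finite G] {p : ℕ} [Fact p.Prime] (P : Sylow p G) : (P : Subgroup G) ⊓ commutator G = ((P : Subgroup G) ⊓ ⁅Subgroup.normalizer ((P : Subgroup G) : Set G), Subgroup.normalizer ((P : Subgroup G) : Set G)⁆) ⊔ ⨆ z : G, (P : Subgroup G) ⊓ (⁅(P : Subgroup G), (P : Subgroup G)⁆).map (MulAut.conj z).toMonoidHom := by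
  classical
  set Pg : Subgroup G := (P : Subgroup G) with hPg
  set N : Subgroup G := Subgroup.normalizer (Pg : Set G) with hN
  have hPN : Pg ≤ N := Subgroup.le_normalizer
  apply le_antisymm
  · rw [Cfsg.Agent.S4250.result p P]
    apply sup_le
    · apply le_trans _ le_sup_left
      apply le_inf
      · exact Cfsg.Agent.S4250.commutator_le_left_of_le_normalizer le_rfl
      · exact Subgroup.commutator_mono hPN le_rfl
    · apply iSup_le; intro Q
      apply iSup_le; intro hQ
      apply iSup_le; intro x
      apply iSup_le; intro hx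
      apply le_trans _ le_sup_right
      set U : Subgroup G := Pg ⊓ (Q : Subgroup G) with hU
      have hxU : Subgroup.zpowers x ≤ Subgroup.normalizer (U : Set G) := Subgroup.zpowers_le.mpr hx.1
      obtain ⟨k, hk⟩ := hx.2
      have hxp : IsPGroup p (Subgroup.zpowers x) := by
        apply IsPGroup.of_card (n := k)
        rw [Nat.card_zpowers, hk]
      have hUp : IsPGroup p U := P.isPGroup'.to_le inf_le_left
      have hJp : IsPGroup p (U ⊔ Subgroup.zpowers x : Subgroup G) :=
        IsPGroup.to_sup_of_normal_left' hUp hxp hxU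
      obtain ⟨R, hR⟩ := hJp.exists_le_sylow
      obtain ⟨g, hg⟩ := MulAction.exists_smul_eq G P R
      have hRg : (R : Subgroup G) = Pg.map (MulAut.conj g).toMonoidHom := by
        rw [← hg, Sylow.coe_subgroup_smul, Subgroup.pointwise_smul_def]
        rfl
      have h1 : ⁅U, Subgroup.zpowers x⁆ ≤ ⁅(R : Subgroup G), (R : Subgroup G)⁆ :=
        Subgroup.commutator_mono (le_trans le_sup_left hR) (le_trans le_sup_right hR)
      have h2 : ⁅(R : Subgroup G), (R : Subgroup G)⁆ = (⁅Pg, Pg⁆).map (MulAut.conj g).toMonoidHom := by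
        rw [hRg, Subgroup.map_commutator]
      have h3 : ⁅U, Subgroup.zpowers x⁆ ≤ Pg :=
        le_trans (Cfsg.Agent.S4250.commutator_le_left_of_le_normalizer hxU) inf_le_left
      exact le_trans (le_inf h3 (h2 ▸ h1)) (le_iSup (fun z : G => Pg ⊓ (⁅Pg, Pg⁆).map (MulAut.conj z).toMonoidHom) g)
  · apply sup_le
    · exact inf_le_inf_left _ (by rw [commutator_def]; exact Subgroup.commutator_mono le_top le_top)
    · apply iSup_le; intro z
      apply inf_le_inf_left
      rw [Subgroup.map_commutator, commutator_def]
      exact Subgroup.commutator_mono le_top le_top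

end Cfsg.Agent.S4216
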