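import Cfsg.Statements.S0333
import Cfsg.Agent.Helper6.Tor11

set_option autoImplicit false
open Cfsg

namespace Cfsg.Agent.S0333

/-- With `q = 2^(2m+1)` and `r = 2^m`, the Suzuki group has cyclic subgroups of orders `q + 2r + 1` and
`q - 2r + 1`; each is the centraliser of each of its non-identity elements and has index `4` in its normaliser. -/
theorem result {F : Type*} [Field F] [Fintype F] {m : ℕ} (hm : 1 ≤ m)
    (hF : Fintype.card F = 2 ^ (2 * m + 1)) :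
    ∀ k ∈ ({2 ^ (2 * m + 1) + 2 ^ (m + 1) + 1, 2 ^ (2 * m + 1) - 2 ^ (m + 1) + 1} : Set ℕ),
      ∃ U : Subgroup (Cfsg.Sz F m), IsCyclic U ∧ Nat.card U = k ∧
        (∀ u ∈ U, u ≠ 1 → Subgroup.centralizer {u} = U) ∧ Nat.card (Subgroup.normalizer (U : Set (Cfsg.Sz F m))) = 4 * k := by
  obtain ⟨p₁, p₂, x₁, x₂, hp₁, hq₁, hx₁, hp₂, hq₂, hx₂, h1, h2, hN₁, hN₂, -, -⟩ :=
    Cfsg.Agent.Helper6.sz_tori hm hF
  intro k hk
  simp only [Set.mem_insert_iff, Set.mem_singleton_iff] at hk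
  rcases hk with rfl | rfl
  · refine ⟨Subgroup.centralizer {x₁}, Cfsg.Agent.Helper6.cent_isCyclic hm hF hp₁ hq₁ hx₁, h1,
      fun u hu hu1 => Cfsg.Agent.Helper6.cent_eq hm hF hp₁ hq₁ hx₁ hu hu1, ?_⟩
    rw [hN₁, h1]
  · refine ⟨Subgroup.centralizer {x₂}, Cfsg.Agent.Helper6.cent_isCyclic hm hF hp₂ hq₂ hx₂, h2,
      fun u hu hu1 => Cfsg.Agent.Helper6.cent_eq hm hF hp₂ hq₂ hx₂ hu hu1, ?_⟩
    rw [hN₂, h2]

end Cfsg.Agent.S0333
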