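import Cfsg.Statements.S1140
-- import your own Cfsg.Agent.* helpers here

set_option autoImplicit false
open Cfsg

namespace Cfsg.Agent.S1140

section
variable {F : Type*} [Field F]

theorem part1 : LinearIndependent F (fun σ : F ≃+* F => ((σ : F →+* F) : F → F)) := by
  have h := linearIndependent_monoidHom F F
  have hinj : Function.Injective (fun σ : F ≃+* F => ((σ : F →+* F) : F →* F)) := by
    intro σ τ h
    ext x
    exact DFunLike.congr_fun h x
  exact h.comp _ hinj

end

section
variable (F : Type*) [Field F] [Fintype F] [Algebra (ZMod 2) F]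

/-- the automorphisms as `ZMod 2`-linear maps -/
def autLin (σ : F ≃+* F) : F →ₗ[ZMod 2] F := ((σ : F →+* F) : F →+ F).toZModLinearMap 2

/-- coercion to functions as an `F`-linear map -/
def coeLin : (F →ₗ[ZMod 2] F) →ₗ[F] (F → F) where
  toFun g := ⇑g
  map_add' _ _ := rfl
  map_smul' _ _ := rfl

theorem autLin_linearIndependent : LinearIndependent F (autLin F) := by
  apply LinearIndependent.of_comp (coeLin F)
  exact part1

/-- ring automorphisms are the same as `ZMod 2`-algebra automorphisms -/
def autEquiv : (F ≃ₐ[ZMod 2] F) ≃ (F ≃+* F) where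
  toFun e := e.toRingEquiv
  invFun σ := AlgEquiv.ofRingEquiv (f := σ) (fun x => by
    have : (σ : F →+* F).comp (algebraMap (ZMod 2) F) = algebraMap (ZMod 2) F := Subsingleton.elim _ _
    exact DFunLike.congr_fun this x)
  left_inv e := by ext; rfl
  right_inv σ := by ext; rfl

theorem card_aut : Nat.card (F ≃+* F) = Module.finrank F (F →ₗ[ZMod 2] F) := by
  rw [Module.finrank_linearMap_self, ← Nat.card_congr (autEquiv F)]
  exact IsGalois.card_aut_eq_finrank (ZMod 2) F

theorem span_autLin : Submodule.span F (Set.range (autLin F)) = ⊤ := by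
  classical
  have : Finite (F ≃+* F) := DFunLike.finite _
  have : Fintype (F ≃+* F) := Fintype.ofFinite _
  apply (autLin_linearIndependent F).span_eq_top_of_card_eq_finrank'
  rw [← Nat.card_eq_fintype_card]
  exact card_aut F

/-- every `ZMod 2`-linear endomorphism is a combination of automorphisms -/
theorem exists_coeff [Fintype (F ≃+* F)] (g : F →ₗ[ZMod 2] F) :
    ∃ c : (F ≃+* F) → F, ∀ x : F, g x = ∑ σ, c σ * σ x := by
  have hg : g ∈ Submodule.span F (Set.range (autLin F)) := by
    rw [span_autLin]; trivial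
  obtain ⟨c, hc⟩ := (Submodule.mem_span_range_iff_exists_fun F).mp hg
  refine ⟨c, fun x => ?_⟩
  rw [← hc, LinearMap.sum_apply]
  rfl

/-- the basis of automorphisms -/
noncomputable def autBasis : Module.Basis (F ≃+* F) F (F →ₗ[ZMod 2] F) :=
  Module.Basis.mk (autLin_linearIndependent F) (span_autLin F).ge

theorem toZModLinearMap_add (f g : F →+ F) :
    (f + g).toZModLinearMap 2 = f.toZModLinearMap 2 + g.toZModLinearMap 2 := by
  ext x; rfl

theorem bilinear_part [Fintype (F ≃+* F)] (B : F →+ F →+ F) :
    ∃ d : (F ≃+* F) × (F ≃+* F) → F, ∀ x y : F, B x y = ∑ p, d p * (p.1 x * p.2 y) := by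
  classical
  -- coefficient functions
  let g : (F ≃+* F) → (F →+ F) := fun τ =>
    AddMonoidHom.mk' (fun x => (autBasis F).repr ((B x).toZModLinearMap 2) τ) (by
      intro x y
      rw [map_add, toZModLinearMap_add, map_add, Finsupp.add_apply])
  have hB : ∀ x y : F, B x y = ∑ τ, g τ x * τ y := by
    intro x y
    have h1 := (autBasis F).sum_repr ((B x).toZModLinearMap 2)
    have h2 := congrArg (fun L : F →ₗ[ZMod 2] F => L y) h1
    simp only [LinearMap.sum_apply] at h2
    rw [show B x y = ((B x).toZModLinearMap 2) y from rfl, ← h2]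
    apply Finset.sum_congr rfl
    intro τ _
    simp only [autBasis, Module.Basis.coe_mk]
    rfl
  choose d hd using fun τ => exists_coeff F ((g τ).toZModLinearMap 2)
  refine ⟨fun p => d p.2 p.1, fun x y => ?_⟩
  rw [hB, Fintype.sum_prod_type, Finset.sum_comm]
  apply Finset.sum_congr rfl
  intro τ _
  have := hd τ x
  rw [show g τ x = ((g τ).toZModLinearMap 2) x from rfl, this, Finset.sum_mul]
  apply Finset.sum_congr rfl
  intro σ _
  ring

end

/-- For a finite field `F` of characteristic 2, the automorphisms of `F`, viewed as additive maps `F → F`, are linearly independent over `F` (acting on values) every additive endomorphism of `F` is an `F`-linear combination of them, and every biadditive map `F → F → F` is an `F`-combination of the maps `(x, y) ↦ σ(x) τ(y)`. -/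
theorem result {F : Type*} [Field F] [Fintype F] [CharP F 2] :
    LinearIndependent F (fun σ : F ≃+* F => ((σ : F →+* F) : F → F)) ∧
      (∀ f : F →+ F, ∃ (s : Finset (F ≃+* F)) (c : (F ≃+* F) → F), ∀ x : F, f x = ∑ σ ∈ s, c σ * σ x) ∧
      ∀ B : F →+ F →+ F, ∃ (s : Finset ((F ≃+* F) × (F ≃+* F))) (c : (F ≃+* F) × (F ≃+* F) → F),
        ∀ x y : F, B x y = ∑ p ∈ s, c p * (p.1 x * p.2 y) := by
  classical
  letI := ZMod.algebra F 2
  have : Finite (F ≃+* F) := DFunLike.finite _
  letI : Fintype (F ≃+* F) := Fintype.ofFinite _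
  refine ⟨part1, ?_, ?_⟩
  · intro f
    obtain ⟨c, hc⟩ := exists_coeff F (f.toZModLinearMap 2)
    exact ⟨Finset.univ, c, fun x => hc x⟩
  · intro B
    obtain ⟨d, hd⟩ := bilinear_part F B
    exact ⟨Finset.univ, d, fun x y => hd x y⟩

end Cfsg.Agent.S1140
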