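import Cfsg.Statements.S1137
import Cfsg.Agent.Helper65.Suzuki6

set_option autoImplicit false
open Cfsg

namespace Cfsg.Agent.S1137

open Cfsg.Agent.Helper65.Suz in
/-- In a Suzuki 2-group `P` (a finite non-abelian 2-group with more than one involution admitting a cyclic group of automorphisms regular on its involutions) the involutions are exactly the non-identity central elements, and `Z(P)` is elementary abelian. -/
theorem result {P : Type*} [Group P] (hP : Cfsg.IsSuzukiTwoGroup P) :
    (∀ x : P, (x ≠ 1 ∧ x * x = 1) ↔ (x ∈ Subgroup.center P ∧ x ≠ 1)) ∧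
      ∀ z ∈ Subgroup.center P, z * z = 1 := by
  obtain ⟨K, hS, _, _⟩ := exists_suzAct hP
  obtain ⟨hfin, hG, ⟨a, b, hab⟩, _, _⟩ := hP
  haveI := hfin
  -- the centre is elementary abelian
  have hZ : ∀ z ∈ Subgroup.center P, z * z = 1 := by
    intro z hz
    by_contra hzz
    have hz' : z ∈ cen (⊤ : Subgroup P) := by
      rw [mem_cen]
      refine ⟨Subgroup.mem_top _, fun c _ => ?_⟩
      exact ((Subgroup.mem_center_iff.mp hz) c).symm
    have := comm_of_cen_exp hS hG (Nat.card (⊤ : Subgroup P)) ⊤ le_rfl kInv_top ⟨z, hz', hzz⟩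
      a (Subgroup.mem_top _) b (Subgroup.mem_top _)
    exact hab this
  refine ⟨?_, hZ⟩
  intro x
  constructor
  · rintro ⟨hx1, hx2⟩
    refine ⟨?_, hx1⟩
    rw [Subgroup.mem_center_iff]
    intro g
    exact (central_of_sq_eq_one hS hG hx2 g).symm
  · rintro ⟨hx, hx1⟩
    exact ⟨hx1, hZ x hx⟩

end Cfsg.Agent.S1137
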