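import Cfsg.Statements.S1138
import Cfsg.Agent.Helper65.Suzuki22

set_option autoImplicit false
open Cfsg

namespace Cfsg.Agent.S1138

open Cfsg.Agent.Helper65.Suz in
/-- Let `P` be a Suzuki 2-group with `|Z(P)| = q`. Then every square lies in `Z(P)` and `P/Z(P)` is abelian (so elementary abelian), `|P| = q²` or `|P| = q³`, and `P` has exponent 4. -/
theorem result {P : Type*} [Group P] (hP : Cfsg.IsSuzukiTwoGroup P) :
    (∀ x : P, x * x ∈ Subgroup.center P) ∧ (∀ x y : P, x⁻¹ * y⁻¹ * x * y ∈ Subgroup.center P) ∧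
      (Nat.card P = Nat.card (Subgroup.center P) ^ 2 ∨ Nat.card P = Nat.card (Subgroup.center P) ^ 3) ∧
      Monoid.exponent P = 4 := by
  refine ⟨higman_sq hP, higman_cm hP, higman_card hP, ?_⟩
  have h4 : ∀ g : P, g ^ 4 = 1 := by
    intro g
    have := higman_pow_four hP g
    rw [← this]
    simp only [pow_succ, pow_zero, one_mul, mul_assoc]
  have hdvd : Monoid.exponent P ∣ 2 ^ 2 := Monoid.exponent_dvd_of_forall_pow_eq_one h4
  obtain ⟨i, hi, hei⟩ := (Nat.dvd_prime_pow Nat.prime_two).mp hdvd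
  have hi2 : i = 2 := by
    by_contra hne
    have hi1 : i ≤ 1 := by omega
    have hd2 : Monoid.exponent P ∣ 2 := by
      rw [hei]
      calc 2 ^ i ∣ 2 ^ 1 := pow_dvd_pow 2 hi1
        _ = 2 := by norm_num
    have hsq1 : ∀ g : P, g * g = 1 := by
      intro g
      have := (Monoid.exponent_dvd_iff_forall_pow_eq_one.mp hd2) g
      rwa [pow_two] at this
    have hP' := hP
    obtain ⟨_, _, ⟨a, b, hab⟩, _, _⟩ := hP'
    apply hab
    have ha := Subgroup.mem_center_iff.mp (higman_inv hP (hsq1 a)) b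
    exact ha.symm
  rw [hei, hi2]
  norm_num
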