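import Mathlib
import Cfsg.Statements.S3951
import Cfsg.Agent.Helper66.TwistedProd
import Cfsg.Agent.Helper66.AbelianStem
import Cfsg.Agent.Helper66.DihedralMult

set_option autoImplicit false
open Cfsg

namespace Cfsg.Agent.S3951

open scoped commutatorElement
open Cfsg.Agent.Helper66

/-- The bi-additive map `((x₁, x₂), (y₁, y₂)) ↦ x₁ y₂`. -/
def beta (m n : ℕ) (hnm : n ∣ m) : BiAdd (Multiplicative (ZMod m × ZMod n)) (ZMod n) where
  toFun g h := ZMod.castHom hnm (ZMod n) (Multiplicative.toAdd g).1 * (Multiplicative.toAdd h).2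
  map_mul_left g h k := by
    simp only [toAdd_mul, Prod.fst_add, map_add]; ring
  map_mul_right g h k := by
    simp only [toAdd_mul, Prod.snd_add]; ring

theorem stem_beta (m n : ℕ) [NeZero m] [NeZero n] (hnm : n ∣ m) :
    Cfsg.IsStemExtension (TwistedProd.proj (beta m n hnm)) := by
  refine ⟨TwistedProd.proj_surjective, TwistedProd.ker_le_center, ?_⟩
  set β := beta m n hnm with hβ
  -- the generator of the kernel is a commutator
  have hcomm : (TwistedProd.incl β (Multiplicative.ofAdd (1 : ZMod n))) ∈ commutator (TwistedProd β) := by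
    have h := TwistedProd.commutator_lift (β := β) (Multiplicative.ofAdd ((1, 0) : ZMod m × ZMod n))
      (Multiplicative.ofAdd ((0, 1) : ZMod m × ZMod n)) (mul_comm _ _)
    have hval : β.toFun (Multiplicative.ofAdd ((1, 0) : ZMod m × ZMod n))
        (Multiplicative.ofAdd ((0, 1) : ZMod m × ZMod n)) -
        β.toFun (Multiplicative.ofAdd ((0, 1) : ZMod m × ZMod n))
        (Multiplicative.ofAdd ((1, 0) : ZMod m × ZMod n)) = 1 := by
      simp only [hβ, beta, toAdd_ofAdd, map_one, mul_one, map_zero, mul_zero, sub_zero]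
    rw [hval] at h
    have : TwistedProd.incl β (Multiplicative.ofAdd (1 : ZMod n)) = (⟨1, 1⟩ : TwistedProd β) := rfl
    rw [this, ← h, commutator_eq_closure]
    exact Subgroup.subset_closure (commutator_mem_commutatorSet _ _)
  intro x hx
  rw [← TwistedProd.range_incl] at hx
  obtain ⟨a, rfl⟩ := hx
  have : a = (Multiplicative.ofAdd (1 : ZMod n)) ^ (Multiplicative.toAdd a).val := by
    rw [← ofAdd_nsmul]
    simp
  rw [this, map_pow]
  exact Subgroup.pow_mem _ hcomm _

/-- For positive integers `m` and `n` with `n` dividing `m`, the Schur multiplier of the abelian group `ZMod m × ZMod n` (written multiplicatively) is cyclic of order `n`. In particular the elementary abelian group of order `p ^ 2` has multiplier of order `p`. -/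
theorem result (m n : ℕ) [NeZero m] [NeZero n] (hnm : n ∣ m) : Cfsg.HasCyclicSchurMultiplier (Multiplicative (ZMod m × ZMod n)) n := by
  constructor
  · exact ⟨TwistedProd (beta m n hnm), inferInstance, inferInstance, TwistedProd.proj (beta m n hnm),
      stem_beta m n hnm, ⟨TwistedProd.kerEquiv (beta m n hnm)⟩⟩
  · intro Γ _ _ σ hσ
    obtain ⟨hsurj, hcen, hder⟩ := hσ
    obtain ⟨a, ha⟩ := hsurj (Multiplicative.ofAdd ((1, 0) : ZMod m × ZMod n))
    obtain ⟨b, hb⟩ := hsurj (Multiplicative.ofAdd ((0, 1) : ZMod m × ZMod n))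
    have hapow : ∀ k : ℕ, σ (a ^ k) = Multiplicative.ofAdd (((k : ZMod m), 0) : ZMod m × ZMod n) := by
      intro k
      rw [map_pow, ha, ← ofAdd_nsmul]
      congr 1
      simp
    have hbpow : ∀ k : ℕ, σ (b ^ k) = Multiplicative.ofAdd ((0, (k : ZMod n)) : ZMod m × ZMod n) := by
      intro k
      rw [map_pow, hb, ← ofAdd_nsmul]
      congr 1
      simp
    have hgen : Subgroup.closure ({a, b} ∪ (σ.ker : Set Γ)) = ⊤ := by
      rw [eq_top_iff]
      intro g _
      have ha_mem : a ∈ Subgroup.closure ({a, b} ∪ (σ.ker : Set Γ)) :=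
        Subgroup.subset_closure (Or.inl (Or.inl rfl))
      have hb_mem : b ∈ Subgroup.closure ({a, b} ∪ (σ.ker : Set Γ)) :=
        Subgroup.subset_closure (Or.inl (Or.inr rfl))
      have hker_mem : ∀ w, w ∈ σ.ker → w ∈ Subgroup.closure ({a, b} ∪ (σ.ker : Set Γ)) :=
        fun w hw => Subgroup.subset_closure (Or.inr hw)
      set i := (Multiplicative.toAdd (σ g)).1 with hi
      set j := (Multiplicative.toAdd (σ g)).2 with hj
      have : g * (a ^ i.val * b ^ j.val)⁻¹ ∈ σ.ker := by
        rw [MonoidHom.mem_ker, map_mul, map_inv, map_mul, hapow, hbpow, ← ofAdd_add]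
        rw [mul_inv_eq_one]
        apply Multiplicative.toAdd.injective
        simp [hi, hj]
      have h2 := Subgroup.mul_mem _ (hker_mem _ this)
        (Subgroup.mul_mem _ (Subgroup.pow_mem _ ha_mem i.val) (Subgroup.pow_mem _ hb_mem j.val))
      have h3 : g * (a ^ i.val * b ^ j.val)⁻¹ * (a ^ i.val * b ^ j.val) = g := by group
      rwa [h3] at h2
    have hz : ⁅a, b⁆ ∈ σ.ker := by
      rw [MonoidHom.mem_ker, map_commutatorElement, commutatorElement_eq_one_iff_mul_comm]
      exact mul_comm _ _
    have hle := central_le_zpowers_commutator σ.ker hcen hder a b hgen hz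
    have hbn : b ^ n ∈ σ.ker := by
      rw [MonoidHom.mem_ker, hbpow, ZMod.natCast_self]; rfl
    have hcn := commutator_pow_eq_one_of_central a b (hcen hz) n (hcen hbn)
    apply exists_surjective_zmod_of_zpowers n (⟨⁅a, b⁆, hz⟩ : σ.ker)
    · apply Subtype.ext
      simpa using hcn
    · rintro ⟨w, hw⟩
      obtain ⟨k, hk⟩ := hle hw
      refine ⟨k, ?_⟩
      apply Subtype.ext
      simpa using hk

end Cfsg.Agent.S3951
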