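import Mathlib
import Cfsg.Statements.S3966

set_option autoImplicit false
open Cfsg

namespace Cfsg.Agent.S3966

open QuaternionGroup DihedralGroup in
/-- The natural map from the dicyclic group of order `4n` onto the dihedral group of order `2n`. -/
def toDihedral (n : ℕ) : QuaternionGroup n →* DihedralGroup n where
  toFun
    | QuaternionGroup.a i => DihedralGroup.r (ZMod.castHom (Dvd.intro_left 2 rfl : n ∣ 2 * n) (ZMod n) i)
    | QuaternionGroup.xa i => DihedralGroup.sr (ZMod.castHom (Dvd.intro_left 2 rfl : n ∣ 2 * n) (ZMod n) i)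
  map_one' := by
    show DihedralGroup.r _ = 1
    rw [map_zero]; rfl
  map_mul' := by
    have hn : (ZMod.castHom (Dvd.intro_left 2 rfl : n ∣ 2 * n) (ZMod n)) (n : ZMod (2 * n)) = 0 := by
      rw [map_natCast]; exact ZMod.natCast_self n
    rintro (i | i) (j | j)
    · simp only [QuaternionGroup.a_mul_a, DihedralGroup.r_mul_r, map_add]
    · simp only [QuaternionGroup.a_mul_xa, DihedralGroup.r_mul_sr, map_sub]
    · simp only [QuaternionGroup.xa_mul_a, DihedralGroup.sr_mul_r, map_add]
    · simp only [QuaternionGroup.xa_mul_xa, DihedralGroup.sr_mul_sr, map_sub, map_add, hn, zero_add]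

theorem toDihedral_a (n : ℕ) (i : ZMod (2 * n)) :
    toDihedral n (QuaternionGroup.a i) = DihedralGroup.r (ZMod.castHom (Dvd.intro_left 2 rfl : n ∣ 2 * n) (ZMod n) i) := rfl

theorem toDihedral_xa (n : ℕ) (i : ZMod (2 * n)) :
    toDihedral n (QuaternionGroup.xa i) = DihedralGroup.sr (ZMod.castHom (Dvd.intro_left 2 rfl : n ∣ 2 * n) (ZMod n) i) := rfl

theorem cast_eq_zero_iff (n : ℕ) [NeZero n] (i : ZMod (2 * n)) :
    ZMod.castHom (Dvd.intro_left 2 rfl : n ∣ 2 * n) (ZMod n) i = 0 ↔ i = 0 ∨ i = (n : ZMod (2 * n)) := by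
  have h2n : NeZero (2 * n) := ⟨by have := NeZero.ne n; omega⟩
  constructor
  · intro h
    rw [ZMod.castHom_apply, ← ZMod.natCast_val, ZMod.natCast_eq_zero_iff] at h
    have hlt : i.val < 2 * n := ZMod.val_lt i
    obtain ⟨k, hk⟩ := h
    have hnpos : 0 < n := Nat.pos_of_ne_zero (NeZero.ne n)
    have hk2 : k < 2 := by
      by_contra hcon
      rw [not_lt] at hcon
      have : n * 2 ≤ n * k := Nat.mul_le_mul_left n hcon
      omega
    interval_cases k
    · left
      have : i.val = 0 := by omega
      exact (ZMod.val_eq_zero i).mp this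
    · right
      have : i.val = n := by omega
      rw [← ZMod.natCast_zmod_val i, this]
  · rintro (h | h)
    · rw [h, map_zero]
    · rw [h, map_natCast]; exact ZMod.natCast_self n

theorem mem_ker_iff (n : ℕ) [NeZero n] (g : QuaternionGroup n) :
    g ∈ (toDihedral n).ker ↔ g = QuaternionGroup.a 0 ∨ g = QuaternionGroup.a (n : ZMod (2 * n)) := by
  rw [MonoidHom.mem_ker]
  rcases g with i | i
  · rw [toDihedral_a, DihedralGroup.one_def, DihedralGroup.r.injEq, cast_eq_zero_iff]
    simp only [QuaternionGroup.a.injEq]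
  · rw [toDihedral_xa, DihedralGroup.one_def]
    constructor
    · intro h; cases h
    · rintro (h | h) <;> cases h

theorem natCast_ne_zero (n : ℕ) [NeZero n] : (n : ZMod (2 * n)) ≠ 0 := by
  intro h
  rw [ZMod.natCast_eq_zero_iff] at h
  have hnpos : 0 < n := Nat.pos_of_ne_zero (NeZero.ne n)
  have := Nat.le_of_dvd hnpos h
  omega

theorem two_mul_natCast (n : ℕ) : (2 : ZMod (2 * n)) * (n : ZMod (2 * n)) = 0 := by
  have : ((2 * n : ℕ) : ZMod (2 * n)) = 0 := ZMod.natCast_self _
  push_cast at this
  exact this

/-- For even `n ≥ 2` the dicyclic group of order `4 n` is a stem extension of the dihedral group of order `2 n` with kernel of order `2`: there is a surjective homomorphism `QuaternionGroup n →* DihedralGroup n` whose kernel is central, lies in the commutator subgroup and has two elements. Together with the order of the multiplier this exhibits the dicyclic group as a Schur covering group of the dihedral group. -/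
theorem result (n : ℕ) [NeZero n] (hn : Even n) : ∃ σ : QuaternionGroup n →* DihedralGroup n, Cfsg.IsStemExtension σ ∧ Nat.card σ.ker = 2 := by
  have h2n : NeZero (2 * n) := ⟨by have := NeZero.ne n; omega⟩
  refine ⟨toDihedral n, ⟨?_, ?_, ?_⟩, ?_⟩
  · -- surjective
    have hs : Function.Surjective (ZMod.castHom (Dvd.intro_left 2 rfl : n ∣ 2 * n) (ZMod n)) :=
      ZMod.castHom_surjective _
    rintro (i | i)
    · obtain ⟨j, rfl⟩ := hs i
      exact ⟨QuaternionGroup.a j, rfl⟩
    · obtain ⟨j, rfl⟩ := hs i
      exact ⟨QuaternionGroup.xa j, rfl⟩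
  · -- central
    intro g hg
    rw [mem_ker_iff] at hg
    rw [Subgroup.mem_center_iff]
    rcases hg with rfl | rfl
    · intro h; rw [QuaternionGroup.a_zero]; simp
    · have h2 := two_mul_natCast n
      rintro (j | j)
      · simp only [QuaternionGroup.a_mul_a, add_comm]
      · simp only [QuaternionGroup.a_mul_xa, QuaternionGroup.xa_mul_a, QuaternionGroup.xa.injEq]
        linear_combination h2
  · -- inside the commutator subgroup
    intro g hg
    rw [mem_ker_iff] at hg
    rcases hg with rfl | rfl
    · rw [QuaternionGroup.a_zero]; exact Subgroup.one_mem _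
    · obtain ⟨m, hm⟩ := hn
      rw [commutator_eq_closure]
      apply Subgroup.subset_closure
      refine ⟨QuaternionGroup.xa 0, QuaternionGroup.a (-(m : ZMod (2 * n))), ?_⟩
      rw [commutatorElement_def]
      have hinv1 : (QuaternionGroup.xa (0 : ZMod (2 * n)))⁻¹ = QuaternionGroup.xa ((n : ZMod (2 * n)) + 0) := rfl
      have hinv2 : (QuaternionGroup.a (-(m : ZMod (2 * n))))⁻¹ = QuaternionGroup.a (- -(m : ZMod (2 * n))) := rfl
      rw [hinv1, hinv2]
      simp only [QuaternionGroup.xa_mul_a, QuaternionGroup.xa_mul_xa, QuaternionGroup.a_mul_a,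
        QuaternionGroup.a.injEq]
      have h2 := two_mul_natCast n
      have hnm : (n : ZMod (2 * n)) = (m : ZMod (2 * n)) + m := by
        rw [← Nat.cast_add, ← hm]
      linear_combination h2 - hnm
  · -- the kernel has two elements
    rw [Nat.card_eq_two_iff]
    refine ⟨⟨QuaternionGroup.a 0, (mem_ker_iff n _).mpr (Or.inl rfl)⟩,
      ⟨QuaternionGroup.a (n : ZMod (2 * n)), (mem_ker_iff n _).mpr (Or.inr rfl)⟩, ?_, ?_⟩
    · intro h
      have := congrArg Subtype.val h
      simp only [QuaternionGroup.a.injEq] at this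
      exact natCast_ne_zero n this.symm
    · rw [Set.eq_univ_iff_forall]
      rintro ⟨g, hg⟩
      rcases (mem_ker_iff n g).mp hg with rfl | rfl
      · left; rfl
      · right; rfl

end Cfsg.Agent.S3966
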