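import Mathlib
import Cfsg.Statements.S3965
import Cfsg.Agent.Helper66.DihedralMult
import Cfsg.Agent.S3966

set_option autoImplicit false
open Cfsg

namespace Cfsg.Agent.S3965

/-- For even `n ≥ 2` the dihedral group of order `2 n` has Schur multiplier cyclic of order `2`. -/
theorem result (n : ℕ) [NeZero n] (hn : Even n) : Cfsg.HasCyclicSchurMultiplier (DihedralGroup n) 2 := by
  constructor
  · obtain ⟨σ, hσ, hcard⟩ := Cfsg.Agent.S3966.result n hn
    refine ⟨QuaternionGroup n, inferInstance, inferInstance, σ, hσ, ?_⟩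
    haveI : Fact (Nat.Prime 2) := ⟨Nat.prime_two⟩
    have h2 : Nat.card (Multiplicative (ZMod 2)) = 2 := by
      rw [Nat.card_eq_fintype_card]; rfl
    exact ⟨mulEquivOfPrimeCardEq hcard h2⟩
  · intro Γ _ _ σ hσ
    obtain ⟨d, hd, hle, hd2, _⟩ := Cfsg.Agent.Helper66.dihedral_stem_ker n σ hσ
    apply Cfsg.Agent.Helper66.exists_surjective_zmod_of_zpowers 2 (⟨d, hd⟩ : σ.ker)
    · apply Subtype.ext
      simpa using hd2
    · rintro ⟨w, hw⟩
      obtain ⟨k, hk⟩ := hle hw
      refine ⟨k, ?_⟩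
      apply Subtype.ext
      simpa using hk

end Cfsg.Agent.S3965
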