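import Cfsg.Statements.S4056
import Cfsg.Agent.Helper67.ClassTwo
import Cfsg.Agent.Helper67.Frattini

set_option autoImplicit false
open Cfsg

namespace Cfsg.Agent.S4056

open Cfsg.Agent.Helper67
open scoped commutatorElement

/-- In a group of class at most two, commutators are central. -/
theorem commutator_commute {P : Type*} [Group P]
    (h2 : Subgroup.lowerCentralSeries (⊤ : Subgroup P) 2 = ⊥) (a b c : P) :
    Commute ⁅a, b⁆ c := by
  have h1 : ⁅a, b⁆ ∈ Subgroup.lowerCentralSeries (⊤ : Subgroup P) 1 :=
    Subgroup.commutator_mem_commutator (Subgroup.mem_top a) (Subgroup.mem_top b)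
  have h3 : ⁅⁅a, b⁆, c⁆ ∈ Subgroup.lowerCentralSeries (⊤ : Subgroup P) 2 :=
    Subgroup.commutator_mem_commutator h1 (Subgroup.mem_top c)
  rw [h2, Subgroup.mem_bot, commutatorElement_eq_one_iff_commute] at h3
  exact h3

/-- In a finite 2-group of nilpotency class at most 2 and exponent dividing 4, the Frattini subgroup lies in the centre and is elementary abelian. -/
theorem result {P : Type*} [Group P] [Finite P] (hP : IsPGroup 2 P)
    (hcl : Group.nilpotencyClass P ≤ 2) (hexp : Monoid.exponent P ∣ 4) :
    frattini P ≤ Subgroup.center P ∧ Cfsg.IsElementaryAbelian 2 (frattini P) := by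
  have : Group.IsNilpotent P := hP.isNilpotent
  have h2 : Subgroup.lowerCentralSeries (⊤ : Subgroup P) 2 = ⊥ :=
    Subgroup.lowerCentralSeries_eq_bot_iff_nilpotencyClass_le.2 hcl
  have hpow4 : ∀ a : P, a ^ 4 = 1 := by
    intro a
    obtain ⟨d, hd⟩ := hexp
    rw [hd, pow_mul, Monoid.pow_exponent_eq_one, one_pow]
  -- commutators square to one
  have hcomm2 : ∀ a b : P, ⁅b, a⁆ ^ 2 = 1 := by
    intro a b
    set z := ⁅b, a⁆ with hz
    have hzab : b * a = z * (a * b) := by rw [hz, commutatorElement_def]; group
    have hza : Commute z a := commutator_commute h2 b a a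
    have hzb : Commute z b := commutator_commute h2 b a b
    have h4 := mul_pow_of_commutator_commute hzab hza hzb 4
    rw [hpow4, hpow4, hpow4, mul_one, mul_one] at h4
    have h6 : z ^ 6 = 1 := by
      have : Nat.choose 4 2 = 6 := by decide
      rw [this] at h4; exact h4.symm
    have : z ^ 6 = z ^ 4 * z ^ 2 := by rw [← pow_add]
    rw [this, hpow4, one_mul] at h6
    exact h6
  -- squares are central
  have hsq : ∀ a b : P, a ^ 2 * b = b * a ^ 2 := by
    intro a b
    set z := ⁅a, b⁆ with hz
    have hzab : a * b = z * (b * a) := by rw [hz, commutatorElement_def]; group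
    have hza : Commute z a := commutator_commute h2 a b a
    have := pow_mul_of_commutator_commute hzab hza 2
    rw [hcomm2 b a, one_mul] at this
    exact this
  -- the subgroup generated by the squares
  set S : Subgroup P := Subgroup.closure {x : P | ∃ a : P, x = a ^ 2} with hS
  have hScen : S ≤ Subgroup.center P := by
    rw [hS, Subgroup.closure_le]
    rintro x ⟨a, rfl⟩
    rw [SetLike.mem_coe, Subgroup.mem_center_iff]
    intro g
    exact (hsq a g).symm
  have hSn : S.Normal := by
    constructor
    intro n hn g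
    have := Subgroup.mem_center_iff.1 (hScen hn) g
    rw [this, mul_inv_cancel_right]
    exact hn
  have hsqS : ∀ a : P, a ^ 2 ∈ S := fun a => Subgroup.subset_closure ⟨a, rfl⟩
  have hfr : frattini P ≤ S := by
    have : Fact (Nat.Prime 2) := ⟨Nat.prime_two⟩
    apply frattini_le_of_elementary_quotient 2 S _ hsqS
    intro a b
    have : a * b * a⁻¹ * b⁻¹ = (a * b) ^ 2 * (b⁻¹ * a⁻¹ * b) ^ 2 * (b⁻¹) ^ 2 := by
      rw [pow_two, pow_two, pow_two]; group
    rw [this]
    exact S.mul_mem (S.mul_mem (hsqS _) (hsqS _)) (hsqS _)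
  -- elements of S square to one
  have hS2 : ∀ x ∈ S, x ^ 2 = 1 := by
    intro x hx
    induction hx using Subgroup.closure_induction with
    | mem y hy =>
      obtain ⟨a, rfl⟩ := hy
      rw [← pow_mul]; exact hpow4 a
    | one => exact one_pow 2
    | mul a b ha _ iha ihb =>
      have hc : Commute a b := (Subgroup.mem_center_iff.1 (hScen ha) b).symm
      rw [hc.mul_pow, iha, ihb, one_mul]
    | inv a _ iha => rw [inv_pow, iha, inv_one]
  refine ⟨hfr.trans hScen, ?_, fun a ha => hS2 a (hfr ha)⟩
  rw [isMulCommutative_iff]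
  rintro ⟨a, ha⟩ ⟨b, hb⟩
  apply Subtype.ext
  exact (Subgroup.mem_center_iff.1 (hScen (hfr ha)) b).symm

end Cfsg.Agent.S4056
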