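import Cfsg.Statements.S4062
import Cfsg.Agent.Helper79.InvSylow
import Cfsg.Agent.S4054

set_option autoImplicit false
open Cfsg

namespace Cfsg.Agent.S4062

theorem exists_two_part {G : Type*} [Group G] [Finite G] (g : G) :
    ∃ m k : ℕ, Odd m ∧ orderOf (g ^ m) = 2 ^ k ∧ orderOf g = 2 ^ k * m := by
  obtain ⟨k, m, hm, hn⟩ := Nat.exists_eq_two_pow_mul_odd (orderOf_pos g).ne'
  refine ⟨m, k, hm, ?_, hn⟩
  have hm0 : m ≠ 0 := by
    rintro rfl
    simp at hm
  rw [orderOf_pow_of_dvd hm0 ⟨2 ^ k, by rw [hn, mul_comm]⟩, hn,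
    Nat.mul_div_cancel _ (Nat.pos_of_ne_zero hm0)]

theorem conj_div_mem {G : Type*} [Group G] {a b : G} (h : IsConj a b) :
    b * a⁻¹ ∈ commutator G := by
  obtain ⟨c, rfl⟩ := isConj_iff.1 h
  rw [commutator_def]
  exact Subgroup.commutator_mem_commutator (Subgroup.mem_top c) (Subgroup.mem_top a)

theorem conj_mem {G : Type*} [Group G] {a b : G} (h : IsConj a b) (ha : a ∈ commutator G) :
    b ∈ commutator G := by
  obtain ⟨c, rfl⟩ := isConj_iff.1 h
  exact (inferInstance : (commutator G).Normal).conj_mem a ha c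

theorem sq_mem {G : Type*} [Group G] (h : ∀ x y : G, orderOf x = orderOf y → IsConj x y)
    (x : G) : x * x ∈ commutator G := by
  have h1 := conj_div_mem (h x⁻¹ x (orderOf_inv x))
  simpa using h1

theorem pow_odd_not_mem {G : Type*} [Group G]
    (h : ∀ x y : G, orderOf x = orderOf y → IsConj x y) (g : G) (hg : g ∉ commutator G)
    (m : ℕ) (hm : Odd m) : g ^ m ∉ commutator G ∧ g ^ m * g⁻¹ ∈ commutator G := by
  obtain ⟨j, rfl⟩ := hm
  have h1 : g ^ (2 * j + 1) * g⁻¹ = (g * g) ^ j := by
    rw [pow_succ, mul_assoc, mul_inv_cancel, mul_one, pow_mul, pow_two]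
  have h2 : g ^ (2 * j + 1) * g⁻¹ ∈ commutator G := by
    rw [h1]
    exact Subgroup.pow_mem _ (sq_mem h g) _
  refine ⟨fun h3 => hg ?_, h2⟩
  have h4 := Subgroup.mul_mem _ (Subgroup.inv_mem _ h2) h3
  simpa using h4

theorem main_struct {G : Type*} [Group G] [Finite G] [Group.IsSolvable G] [Nontrivial G]
    (h : ∀ x y : G, orderOf x = orderOf y → IsConj x y) :
    ∃ y : G, y ∉ commutator G ∧ orderOf y = 2 ∧ (commutator G).index = 2 := by
  classical
  have hlt := Group.IsSolvable.commutator_lt_top_of_nontrivial (G := G)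
  obtain ⟨g, hg⟩ : ∃ g, g ∉ commutator G := by
    by_contra hcon
    push Not at hcon
    exact hlt.ne (eq_top_iff.2 fun x _ => hcon x)
  have hex : ∃ b, ∃ y : G, y ∉ commutator G ∧ orderOf y = 2 ^ b := by
    obtain ⟨m, k, hm, hk, _⟩ := exists_two_part g
    exact ⟨k, g ^ m, (pow_odd_not_mem h g hg m hm).1, hk⟩
  obtain ⟨b, ⟨y, hyN, hyo⟩, hmin⟩ : ∃ b, (∃ y : G, y ∉ commutator G ∧ orderOf y = 2 ^ b) ∧
      ∀ c < b, ¬ ∃ y : G, y ∉ commutator G ∧ orderOf y = 2 ^ c :=
    ⟨Nat.find hex, Nat.find_spec hex, fun c hc => Nat.find_min hex hc⟩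
  have claimA : ∀ x : G, x ∉ commutator G → ∀ c, orderOf x = 2 ^ c → c = b := by
    intro x hx c hc
    by_contra hne
    have hbc : b < c := by
      rcases lt_trichotomy c b with h1 | h1 | h1
      · exact absurd ⟨x, hx, hc⟩ (hmin c h1)
      · exact absurd h1 hne
      · exact h1
    have hx' : orderOf (x ^ (2 ^ (c - b))) = 2 ^ b := by
      rw [orderOf_pow_of_dvd (pow_ne_zero _ (by norm_num))
        (by rw [hc]; exact pow_dvd_pow 2 (by omega)), hc, Nat.pow_div (by omega) (by norm_num)]
      congr 1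
      omega
    have hx'N : x ^ (2 ^ (c - b)) ∈ commutator G := by
      obtain ⟨d, hd⟩ : ∃ d, c - b = d + 1 := ⟨c - b - 1, by omega⟩
      rw [hd, pow_succ, mul_comm, pow_mul, pow_two]
      exact Subgroup.pow_mem _ (sq_mem h x) _
    exact hyN (conj_mem (h _ y (by rw [hx', hyo])) hx'N)
  have claimB : ∀ x : G, x ∈ commutator G → orderOf x ≠ 2 ^ b := by
    intro x hx hxo
    exact hyN (conj_mem (h x y (by rw [hxo, hyo])) hx)
  have hidx : (commutator G).index = 2 := by
    rw [Subgroup.index_eq_two_iff']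
    refine ⟨y, fun g' => ?_⟩
    by_cases hgN : g' ∈ commutator G
    · right
      refine ⟨hgN, fun h' => hyN ?_⟩
      have := Subgroup.mul_mem _ h' (Subgroup.inv_mem _ hgN)
      simpa using this
    · left
      refine ⟨?_, hgN⟩
      obtain ⟨m, k, hm, hk, _⟩ := exists_two_part g'
      have h1 := pow_odd_not_mem h g' hgN m hm
      have hkb : k = b := claimA _ h1.1 k hk
      have h2 : g' ^ m * y⁻¹ ∈ commutator G := conj_div_mem (h y (g' ^ m) (by rw [hk, hyo, hkb]))
      have h3 : y * g' = (g' ^ m * y⁻¹)⁻¹ * (g' ^ m * g'⁻¹) * (g' * g') := by group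
      rw [h3]
      exact Subgroup.mul_mem _ (Subgroup.mul_mem _ (Subgroup.inv_mem _ h2) h1.2) (sq_mem h g')
  refine ⟨y, hyN, ?_, hidx⟩
  have hb0 : b ≠ 0 := by
    rintro rfl
    rw [pow_zero, orderOf_eq_one_iff] at hyo
    rw [hyo] at hyN
    exact hyN (Subgroup.one_mem _)
  by_cases hb2 : 2 ≤ b
  · exfalso
    obtain ⟨b', rfl⟩ : ∃ b', b = b' + 2 := ⟨b - 2, by omega⟩
    obtain ⟨u₀, hu₀⟩ := isConj_iff.1 (h y y⁻¹ (orderOf_inv y).symm)
    obtain ⟨u, huN, hu⟩ : ∃ u ∈ commutator G, u * y * u⁻¹ = y⁻¹ := by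
      by_cases hu₀N : u₀ ∈ commutator G
      · exact ⟨u₀, hu₀N, hu₀⟩
      · refine ⟨u₀ * y, ?_, ?_⟩
        · rw [Subgroup.mul_mem_iff_of_index_two hidx]
          exact ⟨fun h' => absurd h' hu₀N, fun h' => absurd h' hyN⟩
        · rw [← hu₀]
          group
    have hwN : y * u ∉ commutator G := by
      rw [Subgroup.mul_mem_iff_of_index_two hidx]
      intro h'
      exact hyN (h'.2 huN)
    have hw2 : (y * u) * (y * u) = u * u := by
      have : (y * u) * (y * u) = y * (u * y * u⁻¹) * u * u := by group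
      rw [this, hu]
      group
    obtain ⟨m, k, hm, hk, _⟩ := exists_two_part (y * u)
    have h1 := pow_odd_not_mem h (y * u) hwN m hm
    have hkb : k = b' + 2 := claimA _ h1.1 k hk
    rw [hkb] at hk
    have hzN : u ^ m ∈ commutator G := Subgroup.pow_mem _ huN _
    have hzz : ∀ j : ℕ, (u ^ m) ^ (2 * j) = ((y * u) ^ m) ^ (2 * j) := by
      intro j
      rw [pow_mul, pow_mul, ← pow_mul u, ← pow_mul (y * u), mul_comm m 2, pow_mul u,
        pow_mul (y * u), pow_two, pow_two, hw2]
    have hzo : orderOf (u ^ m) = 2 ^ (b' + 1 + 1) := by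
      apply orderOf_eq_prime_pow
      · rw [pow_succ, mul_comm, hzz]
        rw [← pow_succ']
        apply pow_ne_one_of_lt_orderOf (pow_ne_zero _ (by norm_num))
        rw [hk]
        exact Nat.pow_lt_pow_right (by norm_num) (by omega)
      · rw [pow_succ, mul_comm, hzz, ← pow_succ', ← hk]
        exact pow_orderOf_eq_one _
    exact claimB _ hzN hzo
  · have hb1 : b = 1 := by omega
    rw [hyo, hb1, pow_one]

theorem final_struct {G : Type*} [Group G] [Finite G]
    (h : ∀ x y : G, orderOf x = orderOf y → IsConj x y) (y : G) (hyN : y ∉ commutator G)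
    (hy2 : orderOf y = 2) (hidx : (commutator G).index = 2) :
    Nat.card G = 2 ∨ Nonempty (G ≃* Equiv.Perm (Fin 3)) := by
  classical
  have hNn : (commutator G).Normal := inferInstance
  have hyy : y * y = 1 := by
    have := pow_orderOf_eq_one y
    rwa [hy2, pow_two] at this
  have hyinv : y⁻¹ = y := inv_eq_of_mul_eq_one_left hyy
  have noinv : ∀ x ∈ commutator G, x * x = 1 → x = 1 := by
    intro x hx hxx
    by_contra hx1
    have hxo : orderOf x = 2 := orderOf_eq_prime (by rw [pow_two]; exact hxx) hx1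
    exact hyN (conj_mem (h x y (by rw [hxo, hy2])) hx)
  have hodd : ∀ n ∈ commutator G, Odd (orderOf n) := by
    intro n hn
    by_contra hno
    rw [Nat.not_odd_iff_even] at hno
    obtain ⟨j, hj⟩ := hno
    have hj0 : 0 < j := by
      have := orderOf_pos n
      omega
    have h1 : (n ^ j) * (n ^ j) = 1 := by
      rw [← pow_add, ← hj]
      exact pow_orderOf_eq_one n
    have h2 := noinv _ (Subgroup.pow_mem _ hn j) h1
    have h3 := orderOf_dvd_of_pow_eq_one h2
    have := Nat.le_of_dvd hj0 h3
    omega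
  have hcent : ∀ n ∈ commutator G, ∀ x : G, (n * n) * x = x * (n * n) → n * x = x * n := by
    intro n hn x hx
    obtain ⟨j, hj⟩ := hodd n hn
    have h1 : (n * n) ^ (j + 1) = n := by
      rw [← pow_two, ← pow_mul]
      have : 2 * (j + 1) = orderOf n + 1 := by omega
      rw [this, pow_succ, pow_orderOf_eq_one, one_mul]
    have h2 : Commute ((n * n) ^ (j + 1)) x := Commute.pow_left hx _
    rw [h1] at h2
    exact h2
  have hfix : ∀ k ∈ commutator G, y * k * y⁻¹ = k → k = 1 := by
    intro x hxN hxy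
    obtain ⟨g, hg⟩ := isConj_iff.1 (h x x⁻¹ (orderOf_inv x).symm)
    obtain ⟨n, hnN, hn⟩ : ∃ n ∈ commutator G, n * x * n⁻¹ = x⁻¹ := by
      by_cases hgN : g ∈ commutator G
      · exact ⟨g, hgN, hg⟩
      · refine ⟨g * y, ?_, ?_⟩
        · rw [Subgroup.mul_mem_iff_of_index_two hidx]
          exact ⟨fun h' => absurd h' hgN, fun h' => absurd h' hyN⟩
        · have : g * y * x * (g * y)⁻¹ = g * (y * x * y⁻¹) * g⁻¹ := by group
          rw [this, hxy, hg]
    have h1 : n * x = x⁻¹ * n := by
      rw [← hn]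
      group
    have h2 : n * x⁻¹ = x * n := by
      have := congrArg (fun t => t⁻¹) hn
      simp only [mul_inv_rev, inv_inv] at this
      calc n * x⁻¹ = n * (x⁻¹ * n⁻¹) * n := by group
        _ = x * n := by rw [this]
    have h3 : (n * n) * x = x * (n * n) := by
      rw [mul_assoc, h1, ← mul_assoc, h2, mul_assoc]
    have h4 := hcent n hnN x h3
    have h5 : x⁻¹ = x := by
      rw [← hn, h4]
      group
    apply noinv x hxN
    rw [← h5]
    nth_rewrite 2 [h5]
    exact inv_mul_cancel x
  have hinv := Helper79.inverts_of_fpf (K := commutator G) hyy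
    (fun k hk => hNn.conj_mem k hk y) hfix
  have hcomm := Helper79.commute_of_inverts hinv
  have hconjN : ∀ x ∈ commutator G, ∀ g : G, g * x * g⁻¹ = x ∨ g * x * g⁻¹ = x⁻¹ := by
    intro x hx g
    by_cases hgN : g ∈ commutator G
    · left
      rw [hcomm g hgN x hx]
      group
    · right
      have hn : g * y ∈ commutator G := by
        rw [Subgroup.mul_mem_iff_of_index_two hidx]
        exact ⟨fun h' => absurd h' hgN, fun h' => absurd h' hyN⟩
      have h1 : g * x * g⁻¹ = (g * y) * (y * x * y⁻¹) * (g * y)⁻¹ := by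
        rw [mul_inv_rev, hyinv]
        have : g * y * (y * x * y) * (y * g⁻¹) = g * (y * y) * x * (y * y) * g⁻¹ := by group
        rw [this, hyy]
        group
      rw [h1, hinv x hx, hcomm (g * y) hn x⁻¹ (Subgroup.inv_mem _ hx)]
      group
  have hcube : ∀ x ∈ commutator G, x ^ 3 = 1 := by
    intro x hx
    have h1 : orderOf (x ^ 2) = orderOf x :=
      Nat.Coprime.orderOf_pow (Nat.coprime_two_right.2 (hodd x hx))
    obtain ⟨g, hg⟩ := isConj_iff.1 (h x (x ^ 2) h1.symm)
    rcases hconjN x hx g with h2 | h2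
    · rw [h2] at hg
      have : x = 1 := by
        have := congrArg (fun t => x⁻¹ * t) hg
        simpa [pow_two] using this.symm
      rw [this, one_pow]
    · rw [h2] at hg
      have := congrArg (fun t => x * t) hg
      simp only [mul_inv_cancel] at this
      rw [pow_succ', ← this]
  by_cases hbot : commutator G = ⊥
  · left
    rw [hbot, Subgroup.index_bot] at hidx
    exact hidx
  · right
    obtain ⟨x₀, hx₀N, hx₀1⟩ : ∃ x₀ ∈ commutator G, x₀ ≠ 1 := by
      by_contra hcon
      push Not at hcon
      exact hbot ((Subgroup.eq_bot_iff_forall _).2 hcon)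
    have hx₀o : orderOf x₀ = 3 := orderOf_eq_prime (hcube x₀ hx₀N) hx₀1
    have hN3 : ∀ x ∈ commutator G, x = 1 ∨ x = x₀ ∨ x = x₀⁻¹ := by
      intro x hx
      by_cases hx1 : x = 1
      · left; exact hx1
      · right
        have hxo : orderOf x = 3 := orderOf_eq_prime (hcube x hx) hx1
        obtain ⟨g, hg⟩ := isConj_iff.1 (h x₀ x (by rw [hxo, hx₀o]))
        rcases hconjN x₀ hx₀N g with h2 | h2
        · left; rw [← hg, h2]
        · right; rw [← hg, h2]
    have hNz : commutator G = Subgroup.zpowers x₀ := by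
      apply le_antisymm
      · intro x hx
        rcases hN3 x hx with rfl | rfl | rfl
        · exact Subgroup.one_mem _
        · exact Subgroup.mem_zpowers _
        · exact Subgroup.inv_mem _ (Subgroup.mem_zpowers _)
      · exact Subgroup.zpowers_le.2 hx₀N
    have hNcard : Nat.card (commutator G) = 3 := by
      rw [hNz, Nat.card_zpowers, hx₀o]
    have hGcard : Nat.card G = 6 := by
      rw [← (commutator G).card_mul_index, hNcard, hidx]
    obtain ⟨H, hHdef⟩ : ∃ H : Subgroup G, H = Subgroup.zpowers y := ⟨_, rfl⟩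
    have hHcard : Nat.card H = 2 := by rw [hHdef, Nat.card_zpowers, hy2]
    have hHidx : H.index = 3 := by
      have := H.card_mul_index
      rw [hHcard, hGcard] at this
      omega
    have hcore : H.normalCore = ⊥ := by
      rw [Subgroup.eq_bot_iff_forall]
      intro k hk
      have hkH : k ∈ H := Subgroup.normalCore_le H hk
      rw [hHdef] at hkH
      rcases S4054.zpowers_involution hyy k hkH with h1 | h1
      · exact h1
      · exfalso
        rw [h1] at hk
        have h2 : x₀ * y * x₀⁻¹ ∈ H.normalCore := (Subgroup.normalCore_normal H).conj_mem y hk x₀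
        have h3 : x₀ * y * x₀⁻¹ ∈ H := Subgroup.normalCore_le H h2
        rw [hHdef] at h3
        rcases S4054.zpowers_involution hyy _ h3 with h4 | h4
        · have : y = 1 := by
            have := congrArg (fun t => x₀⁻¹ * t * x₀) h4
            simpa [mul_assoc] using this
          rw [this, orderOf_one] at hy2
          omega
        · have h5 : y * x₀ * y⁻¹ = x₀ := by
            have : x₀ * y = y * x₀ := by
              have := congrArg (fun t => t * x₀) h4
              simpa [mul_assoc] using this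
            rw [← this]
            group
          rw [hinv x₀ hx₀N] at h5
          have h6 : x₀ * x₀ = 1 := by
            nth_rewrite 1 [← h5]
            exact inv_mul_cancel x₀
          exact hx₀1 (noinv x₀ hx₀N h6)
    have hinj : Function.Injective (MulAction.toPermHom G (G ⧸ H)) := by
      rw [← MonoidHom.ker_eq_bot_iff, ← Subgroup.normalCore_eq_ker, hcore]
    have hqcard : Nat.card (G ⧸ H) = 3 := by rw [← Subgroup.index_eq_card, hHidx]
    have hbij : Function.Bijective (MulAction.toPermHom G (G ⧸ H)) := by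
      apply Function.Injective.bijective_of_nat_card_le hinj
      rw [Nat.card_perm, hqcard, hGcard]
      decide
    exact ⟨(MulEquiv.ofBijective _ hbij).trans
      (Equiv.permCongrHom (Finite.equivFinOfCardEq hqcard))⟩

/-- A finite solvable group in which any two elements of the same order are conjugate has order 1 or 2 or is isomorphic to the symmetric group of degree 3. -/
theorem result {G : Type*} [Group G] [Finite G] [Group.IsSolvable G]
    (h : ∀ x y : G, orderOf x = orderOf y → IsConj x y) :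
    Nat.card G = 1 ∨ Nat.card G = 2 ∨ Nonempty (G ≃* Equiv.Perm (Fin 3)) := by
  rcases subsingleton_or_nontrivial G with hsub | hnt
  · left
    exact Nat.card_unique
  · right
    obtain ⟨y, hyN, hy2, hidx⟩ := main_struct h
    exact final_struct h y hyN hy2 hidx

end Cfsg.Agent.S4062
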