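import Cfsg.Statements.S4023
import Cfsg.Agent.Helper73.PGroupCyclic
import Cfsg.Agent.Helper31.CoprimeHyp

set_option autoImplicit false
open Cfsg

namespace Cfsg.Agent.S4023

theorem quat_a_pow {n : ℕ} (i : ZMod (2 * n)) (k : ℕ) :
    (QuaternionGroup.a i : QuaternionGroup n) ^ k = QuaternionGroup.a ((k : ZMod (2 * n)) * i) := by
  induction k with
  | zero => rw [pow_zero, Nat.cast_zero, zero_mul, QuaternionGroup.one_def]
  | succ k ih =>
    rw [pow_succ, ih, QuaternionGroup.a_mul_a]
    congr 1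
    push_cast
    ring

/-- A generalized quaternion Sylow `2`-subgroup of order at least `16` is impossible when all
`2`-subgroups of the same order are conjugate. -/
theorem not_quaternion_big {G : Type*} [Group G] [Finite G]
    (hC : ∀ H K : Subgroup G, IsPGroup 2 H → IsPGroup 2 K → Nat.card H = Nat.card K →
      ∃ g : G, K = H.map (MulAut.conj g).toMonoidHom) (P : Sylow 2 G) (n : ℕ) (hn : 2 ≤ n)
    (e : (P : Subgroup G) ≃* QuaternionGroup (2 ^ n)) : False := by
  have : Fact (Nat.Prime 2) := ⟨Nat.prime_two⟩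
  obtain ⟨m, rfl⟩ : ∃ m, n = m + 2 := ⟨n - 2, by omega⟩
  have hne : NeZero (2 ^ (m + 2)) := ⟨by positivity⟩
  -- an element of order 8
  obtain ⟨c, hc⟩ : ∃ c : (P : Subgroup G), orderOf c = 8 := by
    refine ⟨e.symm ((QuaternionGroup.a 1) ^ (2 ^ m)), ?_⟩
    rw [MulEquiv.orderOf_eq, orderOf_pow_of_dvd (by positivity), QuaternionGroup.orderOf_a_one]
    · have : 2 * 2 ^ (m + 2) = 2 ^ m * 8 := by ring
      rw [this, Nat.mul_div_cancel_left _ (by positivity)]
    · rw [QuaternionGroup.orderOf_a_one]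
      exact ⟨8, by ring⟩
  -- an element of order 4 outside
  obtain ⟨x₁, hx₁⟩ : ∃ x₁ : (P : Subgroup G), e x₁ = QuaternionGroup.xa 0 :=
    ⟨e.symm (QuaternionGroup.xa 0), e.apply_symm_apply _⟩
  have hx4 : orderOf x₁ = 4 := by
    rw [← MulEquiv.orderOf_eq e, hx₁, QuaternionGroup.orderOf_xa]
  have hcardP : Nat.card (P : Subgroup G) = 4 * 2 ^ (m + 2) := by
    rw [Nat.card_congr e.toEquiv, Nat.card_eq_fintype_card, QuaternionGroup.card]
  obtain ⟨K, hK, hXK⟩ := Sylow.exists_subgroup_card_pow_prime_le 2 (n := 2) (m := 3)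
    (G := (P : Subgroup G)) (by
      rw [hcardP]
      exact ⟨2 * 2 ^ m, by ring⟩)
    (Subgroup.zpowers x₁) (by rw [Nat.card_zpowers, hx4]; norm_num) (by norm_num)
  -- subgroups of G
  have hH0 : Nat.card (Subgroup.zpowers (c : G)) = 2 ^ 3 := by
    rw [Nat.card_zpowers, Subgroup.orderOf_coe, hc]; norm_num
  have hK' : Nat.card (K.map (P : Subgroup G).subtype) = 2 ^ 3 := by
    rw [← hK]
    exact Nat.card_congr (Subgroup.equivMapOfInjective K _ (Subgroup.subtype_injective _)).toEquiv.symm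
  obtain ⟨g, hg⟩ := hC (Subgroup.zpowers (c : G)) (K.map (P : Subgroup G).subtype)
    (IsPGroup.of_card hH0) (IsPGroup.of_card hK') (by rw [hH0, hK'])
  rw [MonoidHom.map_zpowers] at hg
  -- a generator of K
  have hc'K : (MulAut.conj g).toMonoidHom (c : G) ∈ K.map (P : Subgroup G).subtype := by
    rw [hg]; exact Subgroup.mem_zpowers _
  obtain ⟨h, hhK, hh⟩ := Subgroup.mem_map.1 hc'K
  have hh8 : orderOf h = 8 := by
    rw [← Subgroup.orderOf_coe, ← hc, ← Subgroup.orderOf_coe]
    have : ((P : Subgroup G).subtype h : G) = (MulAut.conj g) (c : G) := hh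
    rw [show (h : G) = (MulAut.conj g) (c : G) from hh]
    exact MulEquiv.orderOf_eq _ _
  have hx₁K : ((x₁ : (P : Subgroup G)) : G) ∈ K.map (P : Subgroup G).subtype :=
    Subgroup.mem_map.2 ⟨x₁, hXK (Subgroup.mem_zpowers x₁), rfl⟩
  rw [hg, ← hh] at hx₁K
  have hfin : IsOfFinOrder ((P : Subgroup G).subtype h) := isOfFinOrder_of_finite _
  rw [← mem_powers_iff_mem_zpowers] at hx₁K
  obtain ⟨k, hk⟩ := hx₁K
  have hk' : h ^ k = x₁ := by
    apply Subtype.ext
    simpa using hk
  have hek : (e h) ^ k = QuaternionGroup.xa 0 := by rw [← map_pow, hk', hx₁]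
  have heh8 : orderOf (e h) = 8 := by rw [MulEquiv.orderOf_eq, hh8]
  rcases hq : e h with i | i
  · rw [hq, quat_a_pow] at hek
    cases hek
  · rw [hq, QuaternionGroup.orderOf_xa] at heh8
    norm_num at heh8

section PGroupLemmas

variable {Q : Type*} [Group Q]

/-- An element that conjugates a finite subgroup into itself normalizes it. -/
theorem mem_normalizer_of_conj_mem [Finite Q] (N : Subgroup Q) (x : Q)
    (h : ∀ n ∈ N, x * n * x⁻¹ ∈ N) : x ∈ Subgroup.normalizer (N : Set Q) := by
  rw [Subgroup.mem_normalizer_iff]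
  intro n
  refine ⟨h n, fun hn => ?_⟩
  let f : N → N := fun m => ⟨x * m * x⁻¹, h m m.2⟩
  have hinj : Function.Injective f := by
    intro a b hab
    have : x * (a : Q) * x⁻¹ = x * (b : Q) * x⁻¹ := congrArg Subtype.val hab
    apply Subtype.ext
    exact mul_left_cancel (mul_right_cancel this)
  obtain ⟨m, hm⟩ := (Finite.injective_iff_surjective.1 hinj) ⟨x * n * x⁻¹, hn⟩
  have : x * (m : Q) * x⁻¹ = x * n * x⁻¹ := congrArg Subtype.val hm
  have hmn : (m : Q) = n := mul_left_cancel (mul_right_cancel this)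
  rw [← hmn]; exact m.2

/-- The join of two elementwise commuting abelian subgroups is abelian. -/
theorem sup_comm_of_comm {H K : Subgroup Q} (hH : ∀ a ∈ H, ∀ b ∈ H, a * b = b * a)
    (hK : ∀ a ∈ K, ∀ b ∈ K, a * b = b * a) (hHK : ∀ a ∈ H, ∀ b ∈ K, a * b = b * a) :
    ∀ a ∈ H ⊔ K, ∀ b ∈ H ⊔ K, a * b = b * a := by
  have h1 : ∀ a ∈ H, H ⊔ K ≤ Subgroup.centralizer ({a} : Set Q) := by
    intro a ha
    apply sup_le
    · intro b hb
      rw [Subgroup.mem_centralizer_iff]
      intro v hv
      rw [Set.mem_singleton_iff] at hv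
      subst hv
      exact hH v ha b hb
    · intro b hb
      rw [Subgroup.mem_centralizer_iff]
      intro v hv
      rw [Set.mem_singleton_iff] at hv
      subst hv
      exact hHK v ha b hb
  have h2 : ∀ a ∈ K, H ⊔ K ≤ Subgroup.centralizer ({a} : Set Q) := by
    intro a ha
    apply sup_le
    · intro b hb
      rw [Subgroup.mem_centralizer_iff]
      intro v hv
      rw [Set.mem_singleton_iff] at hv
      subst hv
      exact (hHK b hb v ha).symm
    · intro b hb
      rw [Subgroup.mem_centralizer_iff]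
      intro v hv
      rw [Set.mem_singleton_iff] at hv
      subst hv
      exact hK v ha b hb
  intro a ha b hb
  have h3 : H ⊔ K ≤ Subgroup.centralizer ({b} : Set Q) := by
    apply sup_le
    · intro c hc
      rw [Subgroup.mem_centralizer_iff]
      intro v hv
      rw [Set.mem_singleton_iff] at hv
      subst hv
      exact ((Subgroup.mem_centralizer_iff.1 (h1 c hc hb)) c rfl).symm
    · intro c hc
      rw [Subgroup.mem_centralizer_iff]
      intro v hv
      rw [Set.mem_singleton_iff] at hv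
      subst hv
      exact ((Subgroup.mem_centralizer_iff.1 (h2 c hc hb)) c rfl).symm
  exact ((Subgroup.mem_centralizer_iff.1 (h3 ha)) b rfl).symm

theorem zpowers_comm (a : Q) : ∀ x ∈ Subgroup.zpowers a, ∀ y ∈ Subgroup.zpowers a, x * y = y * x := by
  intro x hx y hy
  obtain ⟨i, rfl⟩ := Subgroup.mem_zpowers_iff.1 hx
  obtain ⟨j, rfl⟩ := Subgroup.mem_zpowers_iff.1 hy
  rw [← zpow_add, ← zpow_add, add_comm]

/-- If all commutators with `y` lie in `K`, the class of `y` has at most `|K|` elements. -/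
theorem index_centralizer_le_card [Finite Q] (y : Q) (K : Subgroup Q)
    (h : ∀ g : Q, g * y * g⁻¹ * y⁻¹ ∈ K) :
    (Subgroup.centralizer ({y} : Set Q)).index ≤ Nat.card K := by
  rw [Subgroup.index_eq_card]
  let f : Q ⧸ Subgroup.centralizer ({y} : Set Q) → K := fun q =>
    ⟨q.out * y * q.out⁻¹ * y⁻¹, h _⟩
  apply Nat.card_le_card_of_injective f
  intro q q' hq
  have h1 : q.out * y * q.out⁻¹ * y⁻¹ = q'.out * y * q'.out⁻¹ * y⁻¹ := congrArg Subtype.val hq
  have h2 : q.out * y * q.out⁻¹ = q'.out * y * q'.out⁻¹ := mul_right_cancel h1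
  have h3 : (q.out)⁻¹ * q'.out ∈ Subgroup.centralizer ({y} : Set Q) := by
    rw [Subgroup.mem_centralizer_iff]
    intro v hv
    rw [Set.mem_singleton_iff] at hv
    subst hv
    have : v = q.out⁻¹ * (q'.out * v * q'.out⁻¹) * q.out := by rw [← h2]; group
    calc v * (q.out⁻¹ * q'.out)
        = (q.out⁻¹ * (q'.out * v * q'.out⁻¹) * q.out) * (q.out⁻¹ * q'.out) := by rw [← this]
      _ = q.out⁻¹ * q'.out * v := by group
  have h4 : (QuotientGroup.mk q.out : Q ⧸ Subgroup.centralizer ({y} : Set Q)) =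
      QuotientGroup.mk q'.out := QuotientGroup.eq.2 h3
  rwa [QuotientGroup.out_eq', QuotientGroup.out_eq'] at h4

/-- In a nontrivial finite `p`-group, modulo a proper normal subgroup `Z` there is an element
outside `Z` all of whose commutators lie in `Z`. -/
theorem exists_central_mod [Finite Q] {p : ℕ} [Fact p.Prime] (hQ : IsPGroup p Q)
    (Z : Subgroup Q) [Z.Normal] (hZ : Z ≠ ⊤) :
    ∃ y : Q, y ∉ Z ∧ ∀ g : Q, g * y * g⁻¹ * y⁻¹ ∈ Z := by
  have hnt : Nontrivial (Q ⧸ Z) := by
    obtain ⟨g, hg⟩ : ∃ g : Q, g ∉ Z := by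
      by_contra hcon
      push Not at hcon
      exact hZ ((Subgroup.eq_top_iff' Z).2 hcon)
    exact ⟨⟨(g : Q ⧸ Z), 1, fun h => hg ((QuotientGroup.eq_one_iff g).1 h)⟩⟩
  have hcn := (hQ.to_quotient Z).center_nontrivial
  obtain ⟨⟨ybar, hyc⟩, hy1⟩ := exists_ne (1 : Subgroup.center (Q ⧸ Z))
  obtain ⟨y, rfl⟩ := QuotientGroup.mk_surjective ybar
  refine ⟨y, fun hy => hy1 ?_, fun g => ?_⟩
  · apply Subtype.ext
    exact (QuotientGroup.eq_one_iff y).2 hy
  · rw [← QuotientGroup.eq_one_iff]
    have := Subgroup.mem_center_iff.1 hyc (g : Q ⧸ Z)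
    simp only [QuotientGroup.mk_mul, QuotientGroup.mk_inv]
    rw [this]
    simp

/-- A nonabelian finite `p`-group of exponent `p` has a nonabelian subgroup of order `p ^ 3`. -/
theorem exists_nonabelian_cube [Finite Q] {p : ℕ} [Fact p.Prime] (hQ : IsPGroup p Q)
    (hexp : ∀ x : Q, x ^ p = 1) (hna : ¬ ∀ a b : Q, a * b = b * a) :
    ∃ M : Subgroup Q, Nat.card M = p ^ 3 ∧ ∃ a ∈ M, ∃ b ∈ M, a * b ≠ b * a := by
  have hZ : Subgroup.center Q ≠ ⊤ := by
    intro h
    apply hna
    intro a b
    have : b ∈ Subgroup.center Q := h ▸ Subgroup.mem_top b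
    exact Subgroup.mem_center_iff.1 this a
  obtain ⟨y, hyZ, hy⟩ := exists_central_mod hQ (Subgroup.center Q) hZ
  obtain ⟨x, hxy⟩ : ∃ x : Q, x * y ≠ y * x := by
    by_contra hcon
    push Not at hcon
    exact hyZ (Subgroup.mem_center_iff.2 hcon)
  obtain ⟨z, hz⟩ : ∃ z : Q, z = x * y * x⁻¹ * y⁻¹ := ⟨_, rfl⟩
  have hzZ : z ∈ Subgroup.center Q := hz ▸ hy x
  have hz1 : z ≠ 1 := by
    intro h
    apply hxy
    rw [h] at hz
    have := congrArg (· * (y * x)) hz
    simp only [one_mul] at this
    rw [this]; group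
  have hzc : ∀ g : Q, g * z = z * g := Subgroup.mem_center_iff.1 hzZ
  have hyz : y ∉ Subgroup.zpowers z := fun h =>
    hyZ ((Subgroup.zpowers_le.2 hzZ) h)
  have hoz : orderOf z = p := orderOf_eq_prime (hexp z) hz1
  -- N = <z, y>
  have hN := Helper31.card_sup_zpowers (Subgroup.zpowers z) y (hexp y) hyz
    (fun h hh => by
      obtain ⟨i, rfl⟩ := Subgroup.mem_zpowers_iff.1 hh
      exact ((Commute.zpow_right (hzc y) i).eq))
  rw [Nat.card_zpowers, hoz] at hN
  obtain ⟨N, hNdef⟩ : ∃ N : Subgroup Q, N = Subgroup.zpowers z ⊔ Subgroup.zpowers y := ⟨_, rfl⟩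
  rw [← hNdef] at hN
  have hzN : z ∈ N := hNdef ▸ (le_sup_left : Subgroup.zpowers z ≤ _) (Subgroup.mem_zpowers z)
  have hyN : y ∈ N := hNdef ▸ (le_sup_right : Subgroup.zpowers y ≤ _) (Subgroup.mem_zpowers y)
  have hNy : N ≤ Subgroup.centralizer ({y} : Set Q) := by
    rw [hNdef]
    apply sup_le
    · rw [Subgroup.zpowers_le, Subgroup.mem_centralizer_iff]
      intro v hv
      rw [Set.mem_singleton_iff] at hv
      subst hv
      exact hzc v
    · rw [Subgroup.zpowers_le, Subgroup.mem_centralizer_iff]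
      intro v hv
      rw [Set.mem_singleton_iff] at hv
      subst hv
      rfl
  have hxN : x ∉ N := by
    intro h
    have := (Subgroup.mem_centralizer_iff.1 (hNy h)) y rfl
    exact hxy this.symm
  have hxnorm : Subgroup.zpowers x ≤ Subgroup.normalizer (N : Set Q) := by
    rw [Subgroup.zpowers_le]
    apply mem_normalizer_of_conj_mem
    have : N ≤ N.comap (MulAut.conj x).toMonoidHom := by
      conv_lhs => rw [hNdef]
      apply sup_le
      · rw [Subgroup.zpowers_le, Subgroup.mem_comap]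
        show x * z * x⁻¹ ∈ N
        rw [hzc x, mul_inv_cancel_right]
        exact hzN
      · rw [Subgroup.zpowers_le, Subgroup.mem_comap]
        show x * y * x⁻¹ ∈ N
        have : x * y * x⁻¹ = z * y := by rw [hz]; group
        rw [this]
        exact N.mul_mem hzN hyN
    intro n hn
    exact this hn
  have hcard := Helper31.card_sup_mul_card_inf' (Subgroup.zpowers x) N hxnorm
  rw [Helper31.zpowers_inf_eq_bot N x (hexp x) hxN, Subgroup.card_bot, mul_one, hN,
    Nat.card_zpowers] at hcard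
  have hx1 : x ≠ 1 := by
    rintro rfl
    exact hxy (by rw [one_mul, mul_one])
  have hox : orderOf x = p := orderOf_eq_prime (hexp x) hx1
  rw [hox] at hcard
  refine ⟨Subgroup.zpowers x ⊔ N, by rw [hcard]; ring, x, ?_, y, ?_, hxy⟩
  · exact (le_sup_left : Subgroup.zpowers x ≤ _) (Subgroup.mem_zpowers x)
  · exact (le_sup_right : N ≤ _) hyN

/-- A finite `p`-group of exponent `p` and order at least `p ^ 4` has an abelian subgroup
of order `p ^ 3`. -/
theorem exists_abelian_cube [Finite Q] {p : ℕ} [Fact p.Prime] (hQ : IsPGroup p Q)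
    (hexp : ∀ x : Q, x ^ p = 1) (n : ℕ) (hn : 4 ≤ n) (hcard : Nat.card Q = p ^ n) :
    ∃ B : Subgroup Q, Nat.card B = p ^ 3 ∧ ∀ a ∈ B, ∀ b ∈ B, a * b = b * a := by
  have hp : p.Prime := Fact.out
  have hnt : Nontrivial Q := by
    rw [← Finite.one_lt_card_iff_nontrivial, hcard]
    exact Nat.one_lt_pow (by omega) hp.one_lt
  have hcn := hQ.center_nontrivial
  obtain ⟨⟨z, hzZ⟩, hz1'⟩ := exists_ne (1 : Subgroup.center Q)
  have hz1 : z ≠ 1 := fun h => hz1' (Subtype.ext h)
  have hzc : ∀ g : Q, g * z = z * g := Subgroup.mem_center_iff.1 hzZ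
  have hoz : orderOf z = p := orderOf_eq_prime (hexp z) hz1
  have hZ1n : (Subgroup.zpowers z).Normal := by
    constructor
    intro n hn g
    obtain ⟨i, rfl⟩ := Subgroup.mem_zpowers_iff.1 hn
    have : g * z ^ i * g⁻¹ = z ^ i := by
      rw [(Commute.zpow_right (hzc g) i).eq, mul_inv_cancel_right]
    rw [this]
    exact Subgroup.zpow_mem _ (Subgroup.mem_zpowers z) i
  have hZ1top : Subgroup.zpowers z ≠ ⊤ := by
    intro h
    have := Nat.card_zpowers z
    rw [h, Subgroup.card_top, hcard, hoz] at this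
    have h2 : p ^ 1 < p ^ n := Nat.pow_lt_pow_right hp.one_lt (by omega)
    rw [pow_one] at h2
    omega
  obtain ⟨y, hyZ, hy⟩ := exists_central_mod hQ (Subgroup.zpowers z) hZ1top
  have hN := Helper31.card_sup_zpowers (Subgroup.zpowers z) y (hexp y) hyZ
    (fun h hh => by
      obtain ⟨i, rfl⟩ := Subgroup.mem_zpowers_iff.1 hh
      exact ((Commute.zpow_right (hzc y) i).eq))
  rw [Nat.card_zpowers, hoz] at hN
  obtain ⟨N, hNdef⟩ : ∃ N : Subgroup Q, N = Subgroup.zpowers z ⊔ Subgroup.zpowers y := ⟨_, rfl⟩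
  rw [← hNdef] at hN
  have hNy : N ≤ Subgroup.centralizer ({y} : Set Q) := by
    rw [hNdef]
    apply sup_le
    · rw [Subgroup.zpowers_le, Subgroup.mem_centralizer_iff]
      intro v hv
      rw [Set.mem_singleton_iff] at hv
      subst hv
      exact hzc v
    · rw [Subgroup.zpowers_le, Subgroup.mem_centralizer_iff]
      intro v hv
      rw [Set.mem_singleton_iff] at hv
      subst hv
      rfl
  have hidx := index_centralizer_le_card y (Subgroup.zpowers z) hy
  rw [Nat.card_zpowers, hoz] at hidx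
  have hlt : Nat.card N < Nat.card (Subgroup.centralizer ({y} : Set Q)) := by
    have h1 := (Subgroup.centralizer ({y} : Set Q)).index_mul_card
    rw [hcard] at h1
    have h2 : p ^ n ≤ p * Nat.card (Subgroup.centralizer ({y} : Set Q)) := by
      rw [← h1]; exact Nat.mul_le_mul_right _ hidx
    have h3 : p * (p * p) < p ^ n := by
      have : p * (p * p) = p ^ 3 := by ring
      rw [this]
      exact Nat.pow_lt_pow_right hp.one_lt (by omega)
    rw [hN]
    by_contra hcon
    have hcon := Nat.le_of_not_lt hcon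
    have := Nat.mul_le_mul_left p hcon
    omega
  have hnle : ¬ Subgroup.centralizer ({y} : Set Q) ≤ N := by
    intro hle
    have := Subgroup.card_le_of_le hle
    omega
  obtain ⟨u, huC, huN⟩ := SetLike.not_le_iff_exists.1 hnle
  have huy : y * u = u * y := (Subgroup.mem_centralizer_iff.1 huC) y rfl
  have hNu : ∀ h ∈ N, u * h = h * u := by
    have : N ≤ Subgroup.centralizer ({u} : Set Q) := by
      rw [hNdef]
      apply sup_le
      · rw [Subgroup.zpowers_le, Subgroup.mem_centralizer_iff]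
        intro v hv
        rw [Set.mem_singleton_iff] at hv
        subst hv
        exact hzc v
      · rw [Subgroup.zpowers_le, Subgroup.mem_centralizer_iff]
        intro v hv
        rw [Set.mem_singleton_iff] at hv
        subst hv
        exact huy.symm
    intro h hh
    exact (Subgroup.mem_centralizer_iff.1 (this hh)) u rfl
  have hB := Helper31.card_sup_zpowers N u (hexp u) huN hNu
  rw [hN] at hB
  refine ⟨N ⊔ Subgroup.zpowers u, by rw [hB]; ring, ?_⟩
  apply sup_comm_of_comm _ (zpowers_comm u)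
  · intro a ha b hb
    obtain ⟨j, rfl⟩ := Subgroup.mem_zpowers_iff.1 hb
    exact ((Commute.zpow_left (hNu a ha) j).eq).symm
  · rw [hNdef]
    apply sup_comm_of_comm (zpowers_comm z) (zpowers_comm y)
    intro a ha b hb
    obtain ⟨i, rfl⟩ := Subgroup.mem_zpowers_iff.1 ha
    exact ((Commute.zpow_right (hzc b) i).eq).symm

/-- Structure of a finite `p`-group with more than one subgroup of order `p` in which subgroups
of the same order are isomorphic. -/
theorem structure_of_iso [Finite Q] {p : ℕ} [Fact p.Prime] (hQ : IsPGroup p Q)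
    (hiso : ∀ H K : Subgroup Q, Nat.card H = Nat.card K → Nonempty (H ≃* K))
    (hu : ¬ Helper73.UniqueOrderP p Q) :
    (∀ x : Q, x ^ p = 1) ∧ ((∀ a b : Q, a * b = b * a) ∨
      (¬ (∀ a b : Q, a * b = b * a) ∧ p ≠ 2 ∧ Nat.card Q = p ^ 3)) := by
  have hp : p.Prime := Fact.out
  unfold Helper73.UniqueOrderP at hu
  push Not at hu
  obtain ⟨x, y, hx, hy, hxy⟩ := hu
  have hnt : Nontrivial Q := ⟨⟨x, 1, by
    rintro rfl
    rw [orderOf_one] at hx
    exact hp.one_lt.ne hx⟩⟩
  obtain ⟨z, hzZ, hoz⟩ : ∃ z ∈ Subgroup.center Q, orderOf z = p := by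
    have hcn := hQ.center_nontrivial
    have hcp : IsPGroup p (Subgroup.center Q) := hQ.to_subgroup _
    rcases hcp.card_eq_or_dvd with h1 | h1
    · exfalso
      have := Finite.one_lt_card_iff_nontrivial.2 hcn
      omega
    · obtain ⟨c, hc⟩ := exists_prime_orderOf_dvd_card' p h1
      exact ⟨c, c.2, by rw [← Subgroup.orderOf_coe] at hc; exact hc⟩
  have hzc : ∀ g : Q, g * z = z * g := Subgroup.mem_center_iff.1 hzZ
  obtain ⟨w, how, hwz⟩ : ∃ w : Q, orderOf w = p ∧ w ∉ Subgroup.zpowers z := by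
    by_cases hxz : x ∈ Subgroup.zpowers z
    · refine ⟨y, hy, fun hyz => hxy ?_⟩
      have hle : Subgroup.zpowers x ≤ Subgroup.zpowers z := Subgroup.zpowers_le.2 hxz
      have heq : Subgroup.zpowers x = Subgroup.zpowers z := by
        apply Subgroup.eq_of_le_of_card_ge hle
        rw [Nat.card_zpowers, Nat.card_zpowers, hx, hoz]
      rw [heq]; exact hyz
    · exact ⟨x, hx, hxz⟩
  have hwp : w ^ p = 1 := by rw [← how]; exact pow_orderOf_eq_one w
  have hzp : z ^ p = 1 := by rw [← hoz]; exact pow_orderOf_eq_one z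
  have hcomm : ∀ h ∈ Subgroup.zpowers z, w * h = h * w := by
    intro h hh
    obtain ⟨i, rfl⟩ := Subgroup.mem_zpowers_iff.1 hh
    exact ((Commute.zpow_right (hzc w) i).eq)
  have hE := Helper31.card_sup_zpowers (Subgroup.zpowers z) w hwp hwz hcomm
  rw [Nat.card_zpowers, hoz] at hE
  have hEexp : ∀ e ∈ Subgroup.zpowers z ⊔ Subgroup.zpowers w, e ^ p = 1 := by
    intro e he
    obtain ⟨h, hh, i, rfl⟩ := Helper31.mem_sup_zpowers hcomm he
    obtain ⟨j, rfl⟩ := Subgroup.mem_zpowers_iff.1 hh
    have hc : Commute (z ^ j) (w ^ i) := Commute.zpow_left (hzc (w ^ i)).symm j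
    rw [hc.mul_pow, ← zpow_natCast (z ^ j), ← zpow_mul, mul_comm, zpow_mul, zpow_natCast, hzp,
      one_zpow, ← zpow_natCast (w ^ i), ← zpow_mul, mul_comm, zpow_mul, zpow_natCast, hwp,
      one_zpow, one_mul]
  have hexp : ∀ u : Q, u ^ p = 1 := by
    intro u
    obtain ⟨k, hk⟩ := (IsPGroup.iff_orderOf.1 hQ) u
    rcases Nat.lt_or_ge k 2 with hk2 | hk2
    · have : orderOf u ∣ p := by
        rw [hk]
        interval_cases k <;> simp
      exact orderOf_dvd_iff_pow_eq_one.1 this
    · exfalso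
      have hdvd : p ^ 2 ∣ orderOf u := by rw [hk]; exact pow_dvd_pow p hk2
      have hu' := orderOf_pow_orderOf_div (orderOf_pos u).ne' hdvd
      obtain ⟨u', hu'def⟩ : ∃ u' : Q, u' = u ^ (orderOf u / p ^ 2) := ⟨_, rfl⟩
      rw [← hu'def] at hu'
      obtain ⟨φ⟩ := hiso (Subgroup.zpowers u') (Subgroup.zpowers z ⊔ Subgroup.zpowers w)
        (by rw [Nat.card_zpowers, hu', hE, pow_two])
      have h1 := hEexp (φ ⟨u', Subgroup.mem_zpowers u'⟩ : Q) (φ _).2
      have h2 : (φ ⟨u', Subgroup.mem_zpowers u'⟩) ^ p = 1 := Subtype.ext (by simpa using h1)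
      rw [← map_pow] at h2
      have h3 := (map_eq_one_iff φ φ.injective).1 h2
      have h4 : u' ^ p = 1 := by simpa using congrArg Subtype.val h3
      have h5 := orderOf_dvd_of_pow_eq_one h4
      rw [hu'] at h5
      have h6 := Nat.le_of_dvd hp.pos h5
      nlinarith [hp.one_lt]
  refine ⟨hexp, ?_⟩
  by_cases hab : ∀ a b : Q, a * b = b * a
  · left; exact hab
  · right
    refine ⟨hab, ?_, ?_⟩
    · rintro rfl
      apply hab
      intro a b
      have h1 := hexp (a * b)
      have h2 := hexp a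
      have h3 := hexp b
      rw [pow_two] at h1 h2 h3
      have hai : a⁻¹ = a := inv_eq_of_mul_eq_one_left h2
      have hbi : b⁻¹ = b := inv_eq_of_mul_eq_one_left h3
      have h4 : (a * b)⁻¹ = a * b := inv_eq_of_mul_eq_one_left h1
      calc a * b = (a * b)⁻¹ := h4.symm
        _ = b⁻¹ * a⁻¹ := mul_inv_rev a b
        _ = b * a := by rw [hai, hbi]
    · obtain ⟨M, hM, a, haM, b, hbM, habne⟩ := exists_nonabelian_cube hQ hexp hab
      obtain ⟨n, hn⟩ := IsPGroup.exists_card_eq hQ
      by_contra hne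
      have hn3 : 3 ≤ n := by
        have := Subgroup.card_le_card_group M
        rw [hM, hn] at this
        exact (Nat.pow_le_pow_iff_right hp.one_lt).1 this
      have hn4 : 4 ≤ n := by
        rcases Nat.lt_or_ge n 4 with h | h
        · exfalso
          apply hne
          have : n = 3 := by omega
          rw [hn, this]
        · exact h
      obtain ⟨B, hB, hBc⟩ := exists_abelian_cube hQ hexp n hn4 hn
      obtain ⟨φ⟩ := hiso B M (by rw [hB, hM])
      have := hBc _ (φ.symm ⟨a, haM⟩).2 _ (φ.symm ⟨b, hbM⟩).2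
      have h' : φ.symm ⟨a, haM⟩ * φ.symm ⟨b, hbM⟩ = φ.symm ⟨b, hbM⟩ * φ.symm ⟨a, haM⟩ :=
        Subtype.ext this
      rw [← map_mul, ← map_mul] at h'
      have := φ.symm.injective h'
      exact habne (congrArg Subtype.val this)

end PGroupLemmas

/-- Conjugate subgroups are isomorphic. -/
theorem iso_of_conj {G : Type*} [Group G] {p : ℕ}
    (hC : ∀ H K : Subgroup G, IsPGroup p H → IsPGroup p K → Nat.card H = Nat.card K →
      ∃ g : G, K = H.map (MulAut.conj g).toMonoidHom) (P : Subgroup G) (hP : IsPGroup p P)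
    (H K : Subgroup P) (hcard : Nat.card H = Nat.card K) : Nonempty (H ≃* K) := by
  have hH : IsPGroup p (H.map P.subtype) := hP.to_le (Subgroup.map_subtype_le H)
  have hK : IsPGroup p (K.map P.subtype) := hP.to_le (Subgroup.map_subtype_le K)
  have e1 := Subgroup.equivMapOfInjective H P.subtype (Subgroup.subtype_injective P)
  have e2 := Subgroup.equivMapOfInjective K P.subtype (Subgroup.subtype_injective P)
  obtain ⟨g, hg⟩ := hC _ _ hH hK (by
    rw [Subgroup.card_map_of_injective (Subgroup.subtype_injective P),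
      Subgroup.card_map_of_injective (Subgroup.subtype_injective P), hcard])
  have e3 := Subgroup.equivMapOfInjective (H.map P.subtype) (MulAut.conj g).toMonoidHom
    (MulAut.conj g).injective
  exact ⟨e1.trans (e3.trans ((MulEquiv.subgroupCongr hg.symm).trans e2.symm))⟩

/-- Let p be a prime and G a finite group in which any two p-subgroups of the same order are conjugate, with Sylow p-subgroup P. Then P is cyclic, or elementary abelian, or p = 2 and P is a quaternion group of order 8, or p is odd and P is non-abelian of order p³ and exponent p. -/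
theorem result {G : Type*} [Group G] [Finite G]
    {p : ℕ} [Fact p.Prime] (hC : ∀ H K : Subgroup G, IsPGroup p H → IsPGroup p K → Nat.card H = Nat.card K →
      ∃ g : G, K = H.map (MulAut.conj g).toMonoidHom) (P : Sylow p G) :
    IsCyclic P ∨ Cfsg.IsElementaryAbelian p (P : Subgroup G) ∨
      (p = 2 ∧ Nonempty ((P : Subgroup G) ≃* QuaternionGroup 2)) ∨
      (p ≠ 2 ∧ ¬ IsMulCommutative P ∧ Nat.card P = p ^ 3 ∧ Monoid.exponent P = p) := by
  have hp : p.Prime := Fact.out
  have hPp : IsPGroup p (P : Subgroup G) := P.isPGroup'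
  by_cases hu : Helper73.UniqueOrderP p (P : Subgroup G)
  · rcases Helper73.cyclic_or_quaternion hPp hu with h | ⟨hp2, n, hn1, ⟨e⟩⟩
    · left; exact h
    · right; right; left
      refine ⟨hp2, ?_⟩
      subst hp2
      rcases Nat.lt_or_ge n 2 with hn | hn
      · have : n = 1 := by omega
        subst this
        exact ⟨e⟩
      · exact (not_quaternion_big hC P n hn e).elim
  · obtain ⟨hexp, h⟩ := structure_of_iso hPp (iso_of_conj hC P hPp) hu
    rcases h with h | ⟨hna, hp2, hcard⟩
    · right; left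
      refine ⟨⟨⟨fun a b => h a b⟩⟩, fun a ha => ?_⟩
      have := hexp ⟨a, ha⟩
      exact congrArg Subtype.val this
    · right; right; right
      refine ⟨hp2, fun hc => hna (fun a b => mul_comm' a b), hcard, ?_⟩
      have hdvd : Monoid.exponent (P : Subgroup G) ∣ p :=
        Monoid.exponent_dvd_of_forall_pow_eq_one hexp
      rcases (Nat.dvd_prime hp).1 hdvd with h1 | h1
      · exfalso
        rw [Monoid.exp_eq_one_iff] at h1
        exact hna (fun a b => by rw [Subsingleton.elim a 1, Subsingleton.elim b 1])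
      · exact h1

end Cfsg.Agent.S4023
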