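import Mathlib
import Cfsg.Statements.S4089
import Cfsg.Agent.Lib.Cores
import Cfsg.Agent.Helper62.Radical
import Cfsg.Agent.Helper17.MaxInter

set_option autoImplicit false
set_option linter.style.haveILetI false

namespace Cfsg.Agent.S4089

open Subgroup Cfsg

theorem isSubnormal_of_isPGroup {T : Type*} [Group T] [Finite T] {p : ℕ} [Fact p.Prime]
    (hT : IsPGroup p T) : ∀ (n : ℕ) (S : Subgroup T), Nat.card T - Nat.card S = n → S.IsSubnormal := by
  haveI : Group.IsNilpotent T := hT.isNilpotent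
  have hnc : NormalizerCondition T := Group.normalizerCondition_of_isNilpotent
  intro n
  induction n using Nat.strong_induction_on with
  | _ n ih =>
  intro S hS
  by_cases htop : S = ⊤
  · rw [htop]; exact IsSubnormal.top
  · have hlt := hnc S (lt_top_iff_ne_top.mpr htop)
    have h1 : Nat.card S < Nat.card (normalizer (S : Set T)) := Helper17.card_lt_of_lt' hlt
    have h2 : Nat.card (normalizer (S : Set T)) ≤ Nat.card T := Subgroup.card_le_card_group _
    have hidx : Nat.card T - Nat.card (normalizer (S : Set T)) < n := by omega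
    exact IsSubnormal.step S (normalizer (S : Set T)) le_normalizer (ih _ hidx _ rfl)
      Subgroup.normal_in_normalizer

theorem radProp_pGroup {G : Type*} [Group G] (p : ℕ) [Fact p.Prime] :
    Helper62.RadProp (fun N : Subgroup G => IsPGroup p N) where
  bot := IsPGroup.of_bot
  conj g N hN := hN.map _
  sup N₁ N₂ h12 _ h1 h2 := h1.to_sup_of_normal_right' h2 h12

theorem le_pCore_of_isSubnormal {G : Type*} [Group G] [Finite G] (p : ℕ) [Fact p.Prime]
    {A : Subgroup G} (hA : A.IsSubnormal) (hp : IsPGroup p A) : A ≤ pCore p G :=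
  Helper62.le_sSup_normal_of_isSubnormal (radProp_pGroup p) hA hp


variable {G : Type*} [Group G]

/-- `O_p(N_G(R))` as a subgroup of `G`. -/
def radOf (p : ℕ) (R : Subgroup G) : Subgroup G :=
  (pCore p ↥(normalizer (R : Set G))).map (normalizer (R : Set G)).subtype

theorem isPGroup_radOf (p : ℕ) [Fact p.Prime] (R : Subgroup G) : IsPGroup p (radOf p R) :=
  (Lib.isPGroup_pCore p).map _

theorem le_radOf (p : ℕ) [Fact p.Prime] (R : Subgroup G) (hR : IsPGroup p R) : R ≤ radOf p R := by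
  have h1 : R.subgroupOf (normalizer (R : Set G)) ≤ pCore p ↥(normalizer (R : Set G)) :=
    Lib.le_pCore Subgroup.normal_in_normalizer hR.comap_subtype
  have h2 := Subgroup.map_mono (f := (normalizer (R : Set G)).subtype) h1
  rwa [Subgroup.map_subgroupOf_eq_of_le le_normalizer] at h2

/-- the image in `G` of a normal subgroup of `K` is normalized by `K` -/
theorem le_normalizer_map_subtype (K : Subgroup G) (N : Subgroup ↥K) [hN : N.Normal] :
    K ≤ normalizer ((N.map K.subtype : Subgroup G) : Set G) := by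
  have h1 := Subgroup.le_normalizer_map (H := N) K.subtype
  rw [Subgroup.normalizer_eq_top_iff.mpr hN, ← MonoidHom.range_eq_map, Subgroup.range_subtype] at h1
  exact h1

instance pCore_normal' (p : ℕ) (K : Type*) [Group K] : (pCore p K).Normal := by
  haveI := Lib.pCore_characteristic (G := K) p
  infer_instance

theorem normalizer_le_normalizer_radOf (p : ℕ) (R : Subgroup G) :
    normalizer (R : Set G) ≤ normalizer ((radOf p R : Subgroup G) : Set G) :=
  le_normalizer_map_subtype _ _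

theorem lemmaA [Finite G] (p : ℕ) [Fact p.Prime] (H R : Subgroup G) (hHR : H ≤ R)
    (hR : radOf p R = R) (g : G) (hg : g ∈ normalizer (R : Set G)) :
    (H.subgroupOf (H ⊔ zpowers g)).IsSubnormal := by
  obtain ⟨K, hK⟩ : ∃ K, K = H ⊔ zpowers g := ⟨_, rfl⟩
  rw [← hK]
  have hRp : IsPGroup p R := hR ▸ isPGroup_radOf p R
  have hKN : K ≤ normalizer (R : Set G) := by
    rw [hK]
    exact sup_le (hHR.trans le_normalizer) (by rw [zpowers_le]; exact hg)
  have hRn : (R.subgroupOf K).Normal := by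
    refine ⟨fun n hn k => ?_⟩
    rw [mem_subgroupOf] at hn ⊢
    have := (mem_normalizer_iff.mp (hKN k.2) n).mp hn
    simpa using this
  have hle : H.subgroupOf K ≤ R.subgroupOf K := fun x hx => hHR hx
  have hRp' : IsPGroup p (R.subgroupOf K) := hRp.comap_subtype
  have h1 : ((H.subgroupOf K).subgroupOf (R.subgroupOf K)).IsSubnormal :=
    isSubnormal_of_isPGroup hRp' _ _ rfl
  exact IsSubnormal.trans hle h1 hRn.isSubnormal

theorem lemmaB [Finite G] (p : ℕ) [Fact p.Prime] (H : Subgroup G) (hH : IsPGroup p H) (g : G)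
    (hsn : (H.subgroupOf (H ⊔ zpowers g)).IsSubnormal) :
    ∃ R : Subgroup G, H ≤ R ∧ radOf p R = R ∧ g ∈ normalizer (R : Set G) := by
  obtain ⟨K, hK⟩ : ∃ K, K = H ⊔ zpowers g := ⟨_, rfl⟩
  rw [← hK] at hsn
  have hHK : H ≤ K := hK ▸ le_sup_left
  have hgK : g ∈ K := hK ▸ (le_sup_right : zpowers g ≤ H ⊔ zpowers g) (mem_zpowers g)
  have h1 : H.subgroupOf K ≤ pCore p ↥K := le_pCore_of_isSubnormal p hsn hH.comap_subtype
  obtain ⟨R₀, hR₀⟩ : ∃ R₀, R₀ = (pCore p ↥K).map K.subtype := ⟨_, rfl⟩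
  have hHR₀ : H ≤ R₀ := by
    rw [hR₀, ← Subgroup.map_subgroupOf_eq_of_le hHK]; exact Subgroup.map_mono h1
  have hKN : K ≤ normalizer (R₀ : Set G) := hR₀ ▸ le_normalizer_map_subtype _ _
  have hR₀p : IsPGroup p R₀ := hR₀ ▸ (Lib.isPGroup_pCore p).map _
  haveI : Nonempty {R : Subgroup G // IsPGroup p R ∧ H ≤ R ∧ g ∈ normalizer (R : Set G)} :=
    ⟨⟨R₀, hR₀p, hHR₀, hKN hgK⟩⟩
  obtain ⟨⟨R, hRp, hHR, hgR⟩, hmax⟩ := Finite.exists_max
    (fun R : {R : Subgroup G // IsPGroup p R ∧ H ≤ R ∧ g ∈ normalizer (R : Set G)} =>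
      Nat.card R.1)
  refine ⟨R, hHR, ?_, hgR⟩
  have hle : R ≤ radOf p R := le_radOf p R hRp
  have := hmax ⟨radOf p R, isPGroup_radOf p R, hHR.trans hle,
    normalizer_le_normalizer_radOf p R hgR⟩
  exact (Subgroup.eq_of_le_of_card_ge hle this).symm

theorem lemmaC [Finite G] (p : ℕ) [Fact p.Prime] (H R : Subgroup G) (hHR : H ≤ R)
    (hR : radOf p R = R) :
    sInf {K : Subgroup G | ∃ Q : Sylow p G, H ≤ (Q : Subgroup G) ∧ K = (Q : Subgroup G)} ≤ R := by
  have hRp : IsPGroup p R := hR ▸ isPGroup_radOf p R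
  obtain ⟨D, hD⟩ : ∃ D, D = sInf {K : Subgroup G | ∃ Q : Sylow p G,
      R ≤ (Q : Subgroup G) ∧ K = (Q : Subgroup G)} := ⟨_, rfl⟩
  have h1 : sInf {K : Subgroup G | ∃ Q : Sylow p G, H ≤ (Q : Subgroup G) ∧
      K = (Q : Subgroup G)} ≤ D := by
    rw [hD]
    apply le_sInf
    rintro K ⟨Q, hQ, rfl⟩
    exact sInf_le ⟨Q, hHR.trans hQ, rfl⟩
  refine h1.trans ?_
  by_contra hDR
  have hRD : R ≤ D := by
    rw [hD]
    apply le_sInf
    rintro K ⟨Q, hQ, rfl⟩
    exact hQ
  have hlt : R < D := lt_of_le_of_ne hRD (fun h => hDR h.ge)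
  obtain ⟨Q₀, hQ₀⟩ := hRp.exists_le_sylow
  have hDQ : ∀ Q : Sylow p G, R ≤ (Q : Subgroup G) → D ≤ Q := by
    intro Q hQ
    rw [hD]
    exact sInf_le ⟨Q, hQ, rfl⟩
  have hDp : IsPGroup p D := Q₀.2.to_le (hDQ Q₀ hQ₀)
  obtain ⟨x, hxD, hxN, hxR⟩ := Helper17.exists_mem_normalizer_not_mem hDp hlt
  apply hxR
  rw [← hR]
  refine ⟨⟨x, hxN⟩, ?_, rfl⟩
  rw [SetLike.mem_coe, Lib.pCore_eq_iInf_sylow, mem_iInf]
  intro S
  obtain ⟨Q, hQ⟩ := (S.2.map (normalizer (R : Set G)).subtype).exists_le_sylow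
  have hRS : R.subgroupOf (normalizer (R : Set G)) ≤ S := by
    have hp' : IsPGroup p (R.subgroupOf (normalizer (R : Set G))) := hRp.comap_subtype
    exact hp'.le_sylow_of_normal S
  have hRQ : R ≤ Q := by
    intro r hr
    exact hQ ⟨⟨r, le_normalizer hr⟩, hRS (mem_subgroupOf.mpr hr), rfl⟩
  have hxQ : x ∈ (Q : Subgroup G) := hDQ Q hRQ hxD
  have hK : IsPGroup p (((Q : Subgroup G) ⊓ normalizer (R : Set G)).subgroupOf
      (normalizer (R : Set G))) := (Q.2.to_le inf_le_left).comap_subtype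
  have hSK : S.toSubgroup ≤ ((Q : Subgroup G) ⊓ normalizer (R : Set G)).subgroupOf
      (normalizer (R : Set G)) := by
    intro y hy
    exact mem_subgroupOf.mpr (mem_inf.mpr ⟨hQ ⟨y, hy, rfl⟩, y.2⟩)
  have e := S.3 hK hSK
  have : (⟨x, hxN⟩ : normalizer (R : Set G)) ∈ ((Q : Subgroup G) ⊓
      normalizer (R : Set G)).subgroupOf (normalizer (R : Set G)) :=
    mem_subgroupOf.mpr (mem_inf.mpr ⟨hxQ, hxN⟩)
  rw [e] at this
  exact this


/-- Let G be a finite group, p a prime and H a p-subgroup of G. Then the set of elements g of G such that H is subnormal in the subgroup generated by H and g is the union of the normalizers N_G(R) over the subgroups R of G containing H with R = O_p(N_G(R)); and this set does not change when H is replaced by the intersection of all Sylow p-subgroups of G containing H. -/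
theorem result {G : Type*} [Group G] [Finite G] (p : ℕ) [Fact p.Prime]
    (H : Subgroup G) (hH : IsPGroup p H) :
    {g : G | ((H).subgroupOf (H ⊔ Subgroup.zpowers g)).IsSubnormal} =
      {g : G | ∃ R : Subgroup G, H ≤ R ∧ (Cfsg.pCore p (Subgroup.normalizer (R : Set G))).map (Subgroup.normalizer (R : Set G)).subtype = R ∧ g ∈ Subgroup.normalizer (R : Set G)} ∧
    ∀ g : G, (((H).subgroupOf (H ⊔ Subgroup.zpowers g)).IsSubnormal ↔
      (((sInf {K : Subgroup G | ∃ Q : Sylow p G, H ≤ (Q : Subgroup G) ∧ K = (Q : Subgroup G)})).subgroupOf ((sInf {K : Subgroup G | ∃ Q : Sylow p G, H ≤ (Q : Subgroup G) ∧ K = (Q : Subgroup G)}) ⊔ Subgroup.zpowers g)).IsSubnormal) := by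
  refine ⟨?_, ?_⟩
  · ext g
    constructor
    · intro hg
      exact lemmaB p H hH g hg
    · rintro ⟨R, hHR, hR, hg⟩
      exact lemmaA p H R hHR hR g hg
  · intro g
    obtain ⟨Q₀, hQ₀⟩ := hH.exists_le_sylow
    have hle : H ≤ sInf {K : Subgroup G | ∃ Q : Sylow p G, H ≤ (Q : Subgroup G) ∧
        K = (Q : Subgroup G)} := by
      apply le_sInf
      rintro K ⟨Q, hQ, rfl⟩
      exact hQ
    have hp' : IsPGroup p ↥(sInf {K : Subgroup G | ∃ Q : Sylow p G, H ≤ (Q : Subgroup G) ∧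
        K = (Q : Subgroup G)}) := Q₀.2.to_le (sInf_le ⟨Q₀, hQ₀, rfl⟩)
    constructor
    · intro hg
      obtain ⟨R, hHR, hR, hgR⟩ := lemmaB p H hH g hg
      exact lemmaA p _ R (lemmaC p H R hHR hR) hR g hgR
    · intro hg
      obtain ⟨R, hHR, hR, hgR⟩ := lemmaB p _ hp' g hg
      exact lemmaA p H R (hle.trans hHR) hR g hgR

end Cfsg.Agent.S4089
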