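-- Statement S4116: a TI Hall subgroup contains every π-subgroup up to conjugacy.
import Mathlib
import Cfsg.Statements.S4116

set_option autoImplicit false
open Cfsg

namespace Cfsg.Agent.S4116


/-- A nontrivial "Frobenius-complement-like" subgroup `A` of a finite group `K` has at least
`|K| / 2` non-identity elements in the union of its conjugates. -/
theorem half_le {K : Type*} [Group K] [Finite K] (A : Subgroup K) (hA1 : A ≠ ⊥)
    (hA : ∀ k : K, k ∉ A → ∀ y ∈ A, k * y * k⁻¹ ∈ A → y = 1) :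
    Nat.card K ≤ 2 * Nat.card {z : K // z ≠ 1 ∧ ∃ k : K, k⁻¹ * z * k ∈ A} := by
  classical
  obtain ⟨T, hT, -⟩ := Subgroup.exists_isComplement_left A 1
  have hcard : Nat.card T * Nat.card A = Nat.card K := hT.card_mul_card
  -- the injection
  let φ : T × {y : A // y ≠ 1} → {z : K // z ≠ 1 ∧ ∃ k : K, k⁻¹ * z * k ∈ A} := fun x =>
    ⟨(x.1 : K) * (x.2.1 : K) * (x.1 : K)⁻¹, by
      constructor
      · intro h
        apply x.2.2
        apply Subtype.ext
        have : ((x.2.1 : A) : K) = (x.1 : K)⁻¹ * ((x.1 : K) * (x.2.1 : K) * (x.1 : K)⁻¹) * (x.1 : K) := by group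
        rw [this, h]; simp
      · refine ⟨(x.1 : K), ?_⟩
        have : (x.1 : K)⁻¹ * ((x.1 : K) * (x.2.1 : K) * (x.1 : K)⁻¹) * (x.1 : K) = (x.2.1 : K) := by group
        rw [this]; exact x.2.1.2⟩
  have hφ : Function.Injective φ := by
    rintro ⟨t, y, hy⟩ ⟨t', y', hy'⟩ h
    have h1 : (t : K) * (y : K) * (t : K)⁻¹ = (t' : K) * (y' : K) * (t' : K)⁻¹ := congrArg Subtype.val h
    -- y = (t⁻¹ t') y' (t⁻¹ t')⁻¹
    have h2 : ((t : K)⁻¹ * t') * (y' : K) * ((t : K)⁻¹ * t')⁻¹ = (y : K) := by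
      have : ((t : K)⁻¹ * t') * (y' : K) * ((t : K)⁻¹ * t')⁻¹ = (t : K)⁻¹ * ((t' : K) * (y' : K) * (t' : K)⁻¹) * t := by
        group
      rw [this, ← h1]; group
    have h3 : (t : K)⁻¹ * t' ∈ A := by
      by_contra hcon
      have := hA _ hcon (y' : K) y'.2 (by rw [h2]; exact y.2)
      exact hy' (Subtype.ext this)
    -- uniqueness in the transversal
    have h4 : (fun x : T × (A : Set K) => (x.1 : K) * (x.2 : K)) (t', ⟨1, A.one_mem⟩) =
        (fun x : T × (A : Set K) => (x.1 : K) * (x.2 : K)) (t, ⟨(t : K)⁻¹ * t', h3⟩) := by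
      simp
    have h5 := hT.1 h4
    have h6 : t' = t := (Prod.ext_iff.mp h5).1
    subst h6
    have h7 : (y : K) = (y' : K) := by
      have : (y : K) = (t' : K)⁻¹ * ((t' : K) * (y : K) * (t' : K)⁻¹) * t' := by group
      rw [this, h1]; group
    have h8 : y = y' := Subtype.ext h7
    subst h8
    rfl
  have h1 := Nat.card_le_card_of_injective φ hφ
  rw [Nat.card_prod] at h1
  -- card {y : A // y ≠ 1} + 1 = card A
  have h2 : Nat.card {y : A // y ≠ 1} + 1 = Nat.card A := by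
    rw [← Finite.card_option]
    exact Nat.card_congr (Equiv.optionSubtypeNe (1 : A))
  have h3 : 2 ≤ Nat.card A := (Subgroup.one_lt_card_iff_ne_bot A).mpr hA1
  -- arithmetic
  set a := Nat.card {y : A // y ≠ 1} with ha
  set t := Nat.card T with ht
  set x := Nat.card {z : K // z ≠ 1 ∧ ∃ k : K, k⁻¹ * z * k ∈ A} with hx
  have h4 : t * (a + 1) = Nat.card K := by rw [h2]; exact hcard
  have h5 : 1 ≤ a := by omega
  calc Nat.card K = t * (a + 1) := h4.symm
    _ = t * a + t := by ring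
    _ ≤ t * a + t * a := by
        have : t ≤ t * a := Nat.le_mul_of_pos_right t h5
        omega
    _ = 2 * (t * a) := by ring
    _ ≤ 2 * x := Nat.mul_le_mul_left 2 h1

/-- A finite group cannot contain two nontrivial Frobenius-complement-like subgroups all of whose
conjugates intersect trivially. -/
theorem two_frobenius {K : Type*} [Group K] [Finite K] (A B : Subgroup K) (hA1 : A ≠ ⊥) (hB1 : B ≠ ⊥)
    (hA : ∀ k : K, k ∉ A → ∀ y ∈ A, k * y * k⁻¹ ∈ A → y = 1)
    (hB : ∀ k : K, k ∉ B → ∀ y ∈ B, k * y * k⁻¹ ∈ B → y = 1)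
    (hAB : ∀ k : K, ∀ y ∈ A, k * y * k⁻¹ ∈ B → y = 1) : False := by
  have h1 := half_le A hA1 hA
  have h2 := half_le B hB1 hB
  -- injection of the disjoint union plus a point into K
  let ψ : ({z : K // z ≠ 1 ∧ ∃ k : K, k⁻¹ * z * k ∈ A} ⊕ {z : K // z ≠ 1 ∧ ∃ k : K, k⁻¹ * z * k ∈ B}) ⊕ Unit → K :=
    fun s => match s with
      | Sum.inl (Sum.inl z) => z.1
      | Sum.inl (Sum.inr z) => z.1
      | Sum.inr _ => 1
  have hψ : Function.Injective ψ := by
    rintro ((⟨z, hz1, k, hk⟩ | ⟨z, hz1, k, hk⟩) | u) ((⟨z', hz1', k', hk'⟩ | ⟨z', hz1', k', hk'⟩) | u') h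
    · have : z = z' := h
      subst this; rfl
    · exfalso
      have hzz : z = z' := h
      subst hzz
      -- y = k⁻¹ z k ∈ A, y' = k'⁻¹ z k' ∈ B, y' = (k'⁻¹ k) y (k'⁻¹ k)⁻¹
      have h3 : (k'⁻¹ * k) * (k⁻¹ * z * k) * (k'⁻¹ * k)⁻¹ ∈ B := by
        have : (k'⁻¹ * k) * (k⁻¹ * z * k) * (k'⁻¹ * k)⁻¹ = k'⁻¹ * z * k' := by group
        rw [this]; exact hk'
      have h4 := hAB _ _ hk h3
      apply hz1
      have : z = k * (k⁻¹ * z * k) * k⁻¹ := by group
      rw [this, h4]; group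
    · exfalso
      have : z = 1 := h
      exact hz1 this
    · exfalso
      have hzz : z = z' := h
      subst hzz
      have h3 : (k⁻¹ * k') * (k'⁻¹ * z * k') * (k⁻¹ * k')⁻¹ ∈ B := by
        have : (k⁻¹ * k') * (k'⁻¹ * z * k') * (k⁻¹ * k')⁻¹ = k⁻¹ * z * k := by group
        rw [this]; exact hk
      have h4 := hAB _ _ hk' h3
      apply hz1
      have : z = k' * (k'⁻¹ * z * k') * k'⁻¹ := by group
      rw [this, h4]; group
    · have : z = z' := h
      subst this; rfl
    · exfalso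
      have : z = 1 := h
      exact hz1 this
    · exfalso
      have : 1 = z' := h
      exact hz1' this.symm
    · exfalso
      have : 1 = z' := h
      exact hz1' this.symm
    · rfl
  have h3 := Nat.card_le_card_of_injective ψ hψ
  rw [Nat.card_sum, Nat.card_sum] at h3
  have h4 : Nat.card Unit = 1 := Nat.card_unique
  omega



/-- If `x ^ n ∈ K` and `n` is coprime to the order of `x`, then `x ∈ K`. -/
theorem mem_of_pow_mem_of_coprime {G : Type*} [Group G] (K : Subgroup G) (x : G) (n : ℕ)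
    (hn : n.Coprime (orderOf x)) (hx : x ^ n ∈ K) : x ∈ K := by
  obtain ⟨m, hm⟩ := exists_pow_eq_self_of_coprime hn
  rw [← hm]
  exact K.pow_mem hx m

/-- membership in a conjugate -/
theorem mem_conj {G : Type*} [Group G] (H : Subgroup G) (g y : G) :
    y ∈ H.map (MulAut.conj g).toMonoidHom ↔ g⁻¹ * y * g ∈ H := by
  rw [Subgroup.mem_map_equiv, MulAut.conj_symm_apply]

/-- (T1) two conjugates of a TI-subgroup sharing a non-identity element: the transition element
normalizes. -/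
theorem mem_normalizer_of_common {G : Type*} [Group G] (H : Subgroup G)
    (hTI : Cfsg.IsTISubset (H : Set G)) (g₁ g₂ y : G) (hy1 : y ≠ 1)
    (h1 : y ∈ H.map (MulAut.conj g₁).toMonoidHom) (h2 : y ∈ H.map (MulAut.conj g₂).toMonoidHom) :
    g₂⁻¹ * g₁ ∈ Subgroup.normalizer (H : Set G) := by
  rw [mem_conj] at h1 h2
  by_contra hcon
  have h3 : (g₂⁻¹ * g₁) * (g₁⁻¹ * y * g₁) * (g₂⁻¹ * g₁)⁻¹ ∈ (H : Set G) := by
    have : (g₂⁻¹ * g₁) * (g₁⁻¹ * y * g₁) * (g₂⁻¹ * g₁)⁻¹ = g₂⁻¹ * y * g₂ := by group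
    rw [this]; exact h2
  have := hTI _ hcon _ h1 h3
  apply hy1
  have e : y = g₁ * (g₁⁻¹ * y * g₁) * g₁⁻¹ := by group
  rw [e, this]; group

/-- (T1') ... and then the conjugates coincide. -/
theorem conj_eq_of_common {G : Type*} [Group G] (H : Subgroup G)
    (hTI : Cfsg.IsTISubset (H : Set G)) (g₁ g₂ y : G) (hy1 : y ≠ 1)
    (h1 : y ∈ H.map (MulAut.conj g₁).toMonoidHom) (h2 : y ∈ H.map (MulAut.conj g₂).toMonoidHom) :
    H.map (MulAut.conj g₁).toMonoidHom = H.map (MulAut.conj g₂).toMonoidHom := by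
  have hn := mem_normalizer_of_common H hTI g₁ g₂ y hy1 h1 h2
  ext w
  rw [mem_conj, mem_conj]
  have := Subgroup.mem_normalizer_iff.mp hn (g₁⁻¹ * w * g₁)
  have e : g₂⁻¹ * g₁ * (g₁⁻¹ * w * g₁) * (g₂⁻¹ * g₁)⁻¹ = g₂⁻¹ * w * g₂ := by group
  rw [e] at this
  exact this

/-- (T2) an element of the normalizer of a Hall subgroup `H` whose order involves only primes
dividing `|H|` lies in `H`. -/
theorem mem_of_mem_normalizer {G : Type*} [Group G] [Finite G] (H : Subgroup G)
    (hHall : (Nat.card H).Coprime H.index) (t : G) (ht : t ∈ Subgroup.normalizer (H : Set G))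
    (hpi : ∀ q : ℕ, q.Prime → q ∣ orderOf t → q ∣ Nat.card H) : t ∈ H := by
  set M := Subgroup.normalizer (H : Set G) with hM
  haveI : (H.subgroupOf M).Normal := Subgroup.normal_in_normalizer
  have h1 : (⟨t, ht⟩ : M) ^ (H.subgroupOf M).index ∈ H.subgroupOf M := Subgroup.pow_index_mem _ _
  have h2 : (H.subgroupOf M).index ∣ H.index := Subgroup.relIndex_dvd_index_of_le Subgroup.le_normalizer
  have h3 : (orderOf t).Coprime H.index := by
    apply Nat.coprime_of_dvd
    intro q hq hq1 hq2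
    have h4 := hpi q hq hq1
    have := Nat.Coprime.eq_one_of_dvd (Nat.Coprime.coprime_dvd_left h4 hHall) hq2
    exact hq.one_lt.ne' this
  have h5 : ((H.subgroupOf M).index).Coprime (orderOf (⟨t, ht⟩ : M)) := by
    rw [Subgroup.orderOf_mk]
    exact (Nat.Coprime.coprime_dvd_right h2 h3).symm
  have h6 := mem_of_pow_mem_of_coprime _ _ _ h5 h1
  exact Subgroup.mem_subgroupOf.mp h6

/-- (T3) a `p`-subgroup, with `p ∣ |H|` and `H` Hall, lies in a conjugate of `H`. -/
theorem exists_conj_ge_of_isPGroup {G : Type*} [Group G] [Finite G] (H : Subgroup G)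
    (hHall : (Nat.card H).Coprime H.index) (p : ℕ) [Fact p.Prime] (hp : p ∣ Nat.card H)
    (S : Subgroup G) (hS : IsPGroup p S) : ∃ g : G, S ≤ H.map (MulAut.conj g).toMonoidHom := by
  have hpp : p.Prime := Fact.out
  obtain ⟨P₀⟩ := (Sylow.nonempty : Nonempty (Sylow p H))
  set P₁ : Subgroup G := (P₀ : Subgroup H).map H.subtype with hP₁
  have hP₁p : IsPGroup p P₁ := P₀.isPGroup'.map H.subtype
  have hidx : ¬ p ∣ P₁.index := by
    rw [hP₁, Subgroup.index_map_subtype]
    intro hcon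
    rcases (Nat.Prime.dvd_mul hpp).mp hcon with h | h
    · exact P₀.not_dvd_index h
    · have := Nat.Coprime.eq_one_of_dvd (Nat.Coprime.coprime_dvd_left hp hHall) h
      exact hpp.one_lt.ne' this
  let P : Sylow p G := hP₁p.toSylow hidx
  have hPle : (P : Subgroup G) ≤ H := by
    show P₁ ≤ H
    rw [hP₁]
    exact Subgroup.map_subtype_le _
  obtain ⟨Q, hQ⟩ := hS.exists_le_sylow
  obtain ⟨g, hg⟩ := MulAction.exists_smul_eq G P Q
  refine ⟨g, ?_⟩
  intro s hs
  have h1 : s ∈ (Q : Subgroup G) := hQ hs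
  rw [← hg, Sylow.coe_subgroup_smul, Subgroup.mem_pointwise_smul_iff_inv_smul_mem, MulAut.smul_def,
    MulAut.conj_inv_apply] at h1
  rw [mem_conj]
  exact hPle h1

/-- Let G be a finite group with a subgroup H whose order is coprime to its index (a Hall subgroup) and which meets each of its conjugates by elements outside N_G(H) trivially. Then every subgroup of G whose order is divisible only by primes dividing the order of H lies in a conjugate of H. -/
theorem result {G : Type*} [Group G] [Finite G] (H : Subgroup G)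
    (hHall : (Nat.card H).Coprime H.index) (hTI : Cfsg.IsTISubset (H : Set G))
    (K : Subgroup G) (hK : ∀ q : ℕ, q.Prime → q ∣ Nat.card K → q ∣ Nat.card H) :
    ∃ g : G, K ≤ H.map (MulAut.conj g).toMonoidHom := by
  by_contra hcon
  push Not at hcon
  have hK1 : K ≠ ⊥ := by
    intro h
    exact hcon 1 (by rw [h]; exact bot_le)
  -- elements of K are π-elements
  have hpiK : ∀ k ∈ K, ∀ q : ℕ, q.Prime → q ∣ orderOf k → q ∣ Nat.card H := by
    intro k hk q hq hqk
    apply hK q hq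
    have : orderOf (⟨k, hk⟩ : K) ∣ Nat.card K := orderOf_dvd_natCard _
    rw [Subgroup.orderOf_mk] at this
    exact dvd_trans hqk this
  -- the Frobenius-complement-like property
  have hFC : ∀ g : G, ∀ k ∈ K, ∀ y : G, y ≠ 1 → y ∈ H.map (MulAut.conj g).toMonoidHom →
      k * y * k⁻¹ ∈ H.map (MulAut.conj g).toMonoidHom → k ∈ H.map (MulAut.conj g).toMonoidHom := by
    intro g k hk y hy1 hy hky
    have h2 : y ∈ H.map (MulAut.conj (k⁻¹ * g)).toMonoidHom := by
      rw [mem_conj] at hky ⊢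
      have e : (k⁻¹ * g)⁻¹ * y * (k⁻¹ * g) = g⁻¹ * (k * y * k⁻¹) * g := by group
      rw [e]; exact hky
    have hn := mem_normalizer_of_common H hTI g (k⁻¹ * g) y hy1 hy h2
    have e : (k⁻¹ * g)⁻¹ * g = g⁻¹ * k * g := by group
    rw [e] at hn
    have ho : orderOf (g⁻¹ * k * g) = orderOf k := by
      have := SemiconjBy.orderOf_eq g⁻¹ (SemiconjBy.conj_mk g⁻¹ k)
      rw [inv_inv] at this
      exact this.symm
    have := mem_of_mem_normalizer H hHall _ hn (fun q hq hqo => hpiK k hk q hq (by rwa [ho] at hqo))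
    rw [mem_conj]; exact this
  -- a first prime
  have hcardK : Nat.card K ≠ 1 := fun h => hK1 (Subgroup.card_eq_one.mp h)
  obtain ⟨p₀, hp₀, hp₀K⟩ := Nat.exists_prime_and_dvd hcardK
  haveI : Fact p₀.Prime := ⟨hp₀⟩
  obtain ⟨S₀⟩ := (Sylow.nonempty : Nonempty (Sylow p₀ K))
  obtain ⟨g₀, hg₀⟩ := exists_conj_ge_of_isPGroup H hHall p₀ (hK p₀ hp₀ hp₀K)
    ((S₀ : Subgroup K).map K.subtype) (S₀.isPGroup'.map K.subtype)
  set A' : Subgroup K := (H.map (MulAut.conj g₀).toMonoidHom).subgroupOf K with hA'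
  have hS₀A : (S₀ : Subgroup K) ≤ A' := by
    intro s hs
    rw [hA', Subgroup.mem_subgroupOf]
    exact hg₀ (Subgroup.mem_map_of_mem _ hs)
  have hA1 : A' ≠ ⊥ := by
    intro h
    have := S₀.ne_bot_of_dvd_card hp₀K
    apply this
    rw [eq_bot_iff, ← h]
    exact hS₀A
  have hAtop : A' ≠ ⊤ := by
    intro h
    apply hcon g₀
    intro k hk
    have : (⟨k, hk⟩ : K) ∈ A' := by rw [h]; exact Subgroup.mem_top _
    exact Subgroup.mem_subgroupOf.mp this
  -- a prime dividing the index of A'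
  have hidx : A'.index ≠ 1 := fun h => hAtop (Subgroup.index_eq_one.mp h)
  obtain ⟨p, hp, hpidx⟩ := Nat.exists_prime_and_dvd hidx
  haveI : Fact p.Prime := ⟨hp⟩
  have hpK : p ∣ Nat.card K := dvd_trans hpidx (Subgroup.index_dvd_card A')
  obtain ⟨S⟩ := (Sylow.nonempty : Nonempty (Sylow p K))
  obtain ⟨g', hg'⟩ := exists_conj_ge_of_isPGroup H hHall p (hK p hp hpK)
    ((S : Subgroup K).map K.subtype) (S.isPGroup'.map K.subtype)
  set B' : Subgroup K := (H.map (MulAut.conj g').toMonoidHom).subgroupOf K with hB'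
  have hSB : (S : Subgroup K) ≤ B' := by
    intro s hs
    rw [hB', Subgroup.mem_subgroupOf]
    exact hg' (Subgroup.mem_map_of_mem _ hs)
  have hB1 : B' ≠ ⊥ := by
    intro h
    have := S.ne_bot_of_dvd_card hpK
    apply this
    rw [eq_bot_iff, ← h]
    exact hSB
  -- no Sylow p-subgroup of K lies in A'
  have hnoSyl : ∀ S₁ : Sylow p K, ¬ (S₁ : Subgroup K) ≤ A' := by
    intro S₁ hle
    have h1 : A'.index ∣ (S₁ : Subgroup K).index := Subgroup.index_dvd_of_le hle
    exact S₁.not_dvd_index (dvd_trans hpidx h1)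
  apply two_frobenius A' B' hA1 hB1
  · intro k hkA y hy hky
    by_contra hy1
    apply hkA
    rw [hA', Subgroup.mem_subgroupOf] at hy hky ⊢
    have hy1' : (y : G) ≠ 1 := fun h => hy1 (Subtype.ext h)
    exact hFC g₀ k k.2 y hy1' hy (by simpa using hky)
  · intro k hkB y hy hky
    by_contra hy1
    apply hkB
    rw [hB', Subgroup.mem_subgroupOf] at hy hky ⊢
    have hy1' : (y : G) ≠ 1 := fun h => hy1 (Subtype.ext h)
    exact hFC g' k k.2 y hy1' hy (by simpa using hky)
  · intro k y hy hky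
    by_contra hy1
    rw [hA', Subgroup.mem_subgroupOf] at hy
    rw [hB', Subgroup.mem_subgroupOf] at hky
    have hy1' : (y : G) ≠ 1 := fun h => hy1 (Subtype.ext h)
    have hky' : (k : G) * (y : G) * (k : G)⁻¹ ∈ H.map (MulAut.conj g').toMonoidHom := by simpa using hky
    have h2 : (y : G) ∈ H.map (MulAut.conj ((k : G)⁻¹ * g')).toMonoidHom := by
      rw [mem_conj] at hky' ⊢
      have e : ((k : G)⁻¹ * g')⁻¹ * (y : G) * ((k : G)⁻¹ * g') = g'⁻¹ * ((k : G) * (y : G) * (k : G)⁻¹) * g' := by group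
      rw [e]; exact hky'
    have heq := conj_eq_of_common H hTI g₀ ((k : G)⁻¹ * g') (y : G) hy1' hy h2
    -- the Sylow subgroup k⁻¹ • S lies in A'
    apply hnoSyl (k⁻¹ • S)
    intro s₁ hs₁
    rw [Sylow.coe_subgroup_smul, Subgroup.mem_pointwise_smul_iff_inv_smul_mem, MulAut.smul_def,
      MulAut.conj_inv_apply, inv_inv] at hs₁
    have h3 : ((k * s₁ * k⁻¹ : K) : G) ∈ H.map (MulAut.conj g').toMonoidHom :=
      hg' (Subgroup.mem_map_of_mem _ hs₁)
    rw [hA', Subgroup.mem_subgroupOf, heq, mem_conj]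
    rw [mem_conj] at h3
    have e : ((k : G)⁻¹ * g')⁻¹ * (s₁ : G) * ((k : G)⁻¹ * g') = g'⁻¹ * ((k * s₁ * k⁻¹ : K) : G) * g' := by
      simp only [Subgroup.coe_mul, Subgroup.coe_inv]
      group
    rw [e]; exact h3

end Cfsg.Agent.S4116
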