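import Cfsg.Statements.S2637
import Cfsg.Agent.S0277
import Cfsg.Agent.S2677
import Cfsg.Agent.Helper43.SpSSM

set_option autoImplicit false
set_option linter.unusedSectionVars false
set_option linter.unusedVariables false
open Cfsg

namespace Cfsg.Agent.S2637

open Polynomial Matrix

section FieldPart

variable (F : Type*) [Field F]

/-- The cyclotomic polynomial `X² + X + 1`. -/
noncomputable def cyc3 : F[X] := X ^ 2 + X + 1

theorem cyc3_monic : (cyc3 F).Monic := by
  unfold cyc3
  monicity!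

theorem cyc3_natDegree : (cyc3 F).natDegree = 2 := by
  unfold cyc3
  compute_degree!

theorem cyc3_ne_zero : cyc3 F ≠ 0 := (cyc3_monic F).ne_zero

variable {F}

theorem three_ne_zero_of_card [Fintype F] (h : Fintype.card F % 3 = 2) : (3 : F) ≠ 0 := by
  intro h3
  obtain ⟨p, hp⟩ := CharP.exists F
  have hpp : p.Prime := (CharP.char_is_prime_or_zero F p).resolve_right (by
    intro h0
    subst h0
    have := CharP.charP_to_charZero F
    exact absurd h3 (by norm_num))
  have hdvd : p ∣ 3 := by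
    have : ((3 : ℕ) : F) = 0 := by exact_mod_cast h3
    exact (CharP.cast_eq_zero_iff F p 3).mp this
  have hp3 : p = 3 := by
    have := (Nat.prime_dvd_prime_iff_eq hpp Nat.prime_three).mp hdvd
    exact this
  subst hp3
  have hcard : (3 : ℕ) ∣ Fintype.card F := by
    have : ((Fintype.card F : ℕ) : F) = 0 := Nat.cast_card_eq_zero F
    exact (CharP.cast_eq_zero_iff F 3 _).mp this
  omega

theorem cyc3_irreducible [Fintype F] (h : Fintype.card F % 3 = 2) : Irreducible (cyc3 F) := by
  apply Polynomial.irreducible_of_degree_le_three_of_not_isRoot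
  · rw [cyc3_natDegree]; simp
  · intro t ht
    have ht' : t ^ 2 + t + 1 = 0 := by
      simpa [cyc3, Polynomial.IsRoot] using ht
    have ht3 : t ^ 3 = 1 := by linear_combination (t - 1) * ht'
    have ht0 : t ≠ 0 := by
      rintro rfl
      simp at ht'
    have htq : t ^ (Fintype.card F - 1) = 1 := FiniteField.pow_card_sub_one_eq_one t ht0
    -- card F - 1 ≡ 1 mod 3
    have hcard : 0 < Fintype.card F := Fintype.card_pos
    obtain ⟨k, hk⟩ : ∃ k, Fintype.card F - 1 = 3 * k + 1 := ⟨(Fintype.card F - 1) / 3, by omega⟩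
    rw [hk, pow_add, pow_mul, ht3, one_pow, one_mul, pow_one] at htq
    rw [htq] at ht'
    apply three_ne_zero_of_card h
    linear_combination ht'

end FieldPart

section KPart

variable (F : Type*) [Field F]

/-- The quadratic extension `F[ω]`, `ω² + ω + 1 = 0`. -/
abbrev KK := AdjoinRoot (cyc3 F)

/-- The adjoined cube root of unity. -/
noncomputable def om : KK F := AdjoinRoot.root (cyc3 F)

/-- Embedding of the base field. -/
noncomputable def ofF : F →+* KK F := AdjoinRoot.of (cyc3 F)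

theorem om_rel : om F ^ 2 + om F + 1 = 0 := by
  have h : AdjoinRoot.mk (cyc3 F) (X ^ 2 + X + 1 : F[X]) = 0 := AdjoinRoot.mk_self (f := cyc3 F)
  rw [map_add, map_add, map_pow, AdjoinRoot.mk_X, map_one] at h
  exact h

theorem om_sq : om F * om F = -om F - 1 := by
  linear_combination om_rel F

theorem om_cube : om F ^ 3 = 1 := by
  linear_combination (om F - 1) * om_rel F

/-- Real part w.r.t. the basis `1, ω`. -/
noncomputable def reK : KK F →ₗ[F] F :=
  (Polynomial.lcoeff F 0).comp (AdjoinRoot.modByMonicHom (cyc3_monic F))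

/-- `ω`-part w.r.t. the basis `1, ω`. -/
noncomputable def imK : KK F →ₗ[F] F :=
  (Polynomial.lcoeff F 1).comp (AdjoinRoot.modByMonicHom (cyc3_monic F))

theorem ofF_add_mul_om (a b : F) :
    ofF F a + ofF F b * om F = AdjoinRoot.mk (cyc3 F) (C a + C b * X) := by
  simp [ofF, om, AdjoinRoot.mk_C, AdjoinRoot.mk_X]

theorem modBy_lin (a b : F) : (C a + C b * X : F[X]) %ₘ cyc3 F = C a + C b * X := by
  rw [Polynomial.modByMonic_eq_self_iff (cyc3_monic F)]
  rw [Polynomial.degree_eq_natDegree (cyc3_ne_zero F), cyc3_natDegree]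
  have h1 : (C a + C b * X : F[X]).degree ≤ 1 := by compute_degree
  exact lt_of_le_of_lt h1 (by norm_num)

theorem reK_mk (a b : F) : reK F (ofF F a + ofF F b * om F) = a := by
  rw [ofF_add_mul_om, reK, LinearMap.comp_apply, AdjoinRoot.modByMonicHom_mk, modBy_lin]
  simp [Polynomial.lcoeff_apply]

theorem imK_mk (a b : F) : imK F (ofF F a + ofF F b * om F) = b := by
  rw [ofF_add_mul_om, imK, LinearMap.comp_apply, AdjoinRoot.modByMonicHom_mk, modBy_lin]
  simp [Polynomial.lcoeff_apply]

theorem decomp (z : KK F) : z = ofF F (reK F z) + ofF F (imK F z) * om F := by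
  set p := AdjoinRoot.modByMonicHom (cyc3_monic F) z with hp
  have hz : z = AdjoinRoot.mk (cyc3 F) p := (AdjoinRoot.mk_leftInverse (cyc3_monic F) z).symm
  have hdeg : p.natDegree ≤ 1 := by
    obtain ⟨r, rfl⟩ := AdjoinRoot.mk_surjective z
    rw [hp, AdjoinRoot.modByMonicHom_mk]
    have h1 := Polynomial.natDegree_modByMonic_lt r (cyc3_monic F) (by
      intro h
      have := cyc3_natDegree F
      rw [h] at this
      simp at this)
    rw [cyc3_natDegree] at h1
    omega
  have hp' : p = C (p.coeff 0) + C (p.coeff 1) * X := by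
    conv_lhs => rw [Polynomial.eq_X_add_C_of_natDegree_le_one hdeg]
    ring
  rw [ofF_add_mul_om]
  have e1 : reK F z = p.coeff 0 := rfl
  have e2 : imK F z = p.coeff 1 := rfl
  rw [e1, e2, ← hp']
  exact hz

theorem ext_reim {z w : KK F} (h1 : reK F z = reK F w) (h2 : imK F z = imK F w) : z = w := by
  rw [decomp F z, decomp F w, h1, h2]

theorem reK_one : reK F 1 = 1 := by
  have := reK_mk F 1 0
  simpa using this

theorem imK_one : imK F 1 = 0 := by
  have := imK_mk F 1 0
  simpa using this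

theorem mul_formula (a b c d : F) :
    (ofF F a + ofF F b * om F) * (ofF F c + ofF F d * om F) =
      ofF F (a * c - b * d) + ofF F (a * d + b * c - b * d) * om F := by
  simp only [map_sub, map_add, map_mul]
  linear_combination (ofF F b * ofF F d) * om_rel F

theorem reK_mul (z w : KK F) :
    reK F (z * w) = reK F z * reK F w - imK F z * imK F w := by
  conv_lhs => rw [decomp F z, decomp F w, mul_formula, reK_mk]

theorem imK_mul (z w : KK F) :
    imK F (z * w) = reK F z * imK F w + imK F z * reK F w - imK F z * imK F w := by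
  conv_lhs => rw [decomp F z, decomp F w, mul_formula, imK_mk]

end KPart

section MatPart

variable {F : Type*} [Field F] {m : ℕ}

/-- The block matrix attached to `A + Bω`. -/
def toY (A B : Matrix (Fin m) (Fin m) F) : Matrix (Fin m ⊕ Fin m) (Fin m ⊕ Fin m) F :=
  Matrix.fromBlocks (A - B) B (-B) A

/-- The standard fixed-point-free element of order three (`= toY 0 1`). -/
def X0 (F : Type*) [Field F] (m : ℕ) : Matrix (Fin m ⊕ Fin m) (Fin m ⊕ Fin m) F :=
  Matrix.fromBlocks (-1) 1 (-1) 0

theorem X0_eq : X0 F m = toY 0 1 := by simp [X0, toY]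

theorem toY_injective {A B A' B' : Matrix (Fin m) (Fin m) F} (h : toY A B = toY A' B') :
    A = A' ∧ B = B' := by
  unfold toY at h
  rw [Matrix.fromBlocks_inj] at h
  exact ⟨h.2.2.2, h.2.1⟩

theorem toY_mem_iff (A B : Matrix (Fin m) (Fin m) F) :
    toY A B ∈ Matrix.symplecticGroup (Fin m) F ↔
      Aᵀ * B = Bᵀ * A ∧ Aᵀ * A - Bᵀ * A + Bᵀ * B = 1 := by
  unfold toY
  rw [SymplecticGroup.fromBlocks_mem_iff]
  simp only [Matrix.transpose_sub, Matrix.transpose_neg, Matrix.sub_mul, Matrix.neg_mul,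
    Matrix.mul_neg, sub_neg_eq_add]
  constructor
  · rintro ⟨_, h2, h3⟩
    exact ⟨h2.symm, h3⟩
  · rintro ⟨h1, h2⟩
    refine ⟨?_, h1.symm, h2⟩
    rw [Matrix.mul_sub, h1]

theorem commute_X0_iff (Y : Matrix (Fin m ⊕ Fin m) (Fin m ⊕ Fin m) F) :
    Y * X0 F m = X0 F m * Y ↔ ∃ A B, Y = toY A B := by
  constructor
  · intro h
    rw [← Matrix.fromBlocks_toBlocks Y] at h ⊢
    unfold X0 at h
    rw [Matrix.fromBlocks_multiply, Matrix.fromBlocks_multiply, Matrix.fromBlocks_inj] at h
    simp only [Matrix.mul_neg, Matrix.mul_one, Matrix.mul_zero, add_zero, Matrix.neg_mul,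
      Matrix.one_mul, Matrix.zero_mul] at h
    obtain ⟨h1, h2, h3, h4⟩ := h
    refine ⟨Y.toBlocks₂₂, Y.toBlocks₁₂, ?_⟩
    unfold toY
    rw [Matrix.fromBlocks_inj]
    refine ⟨?_, rfl, h4, rfl⟩
    rw [h2]; abel
  · rintro ⟨A, B, rfl⟩
    unfold toY X0
    rw [Matrix.fromBlocks_multiply, Matrix.fromBlocks_multiply, Matrix.fromBlocks_inj]
    simp only [Matrix.mul_neg, Matrix.mul_one, Matrix.mul_zero, add_zero, Matrix.neg_mul,
      Matrix.one_mul, Matrix.zero_mul]
    refine ⟨?_, ?_, ?_, ?_⟩ <;> first | trivial | abel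

theorem X0_mem : X0 F m ∈ Matrix.symplecticGroup (Fin m) F := by
  rw [X0_eq, toY_mem_iff]
  simp

theorem X0_rel : X0 F m * X0 F m + X0 F m + 1 = 0 := by
  unfold X0
  rw [Matrix.fromBlocks_multiply, ← Matrix.fromBlocks_one, Matrix.fromBlocks_add,
    Matrix.fromBlocks_add, ← Matrix.fromBlocks_zero, Matrix.fromBlocks_inj]
  simp

end MatPart

section Charpoly

variable {F : Type*} [Field F] {n : Type*} [Fintype n] [DecidableEq n]

/-- If `M² + M + 1 = 0` and `X² + X + 1` is irreducible, the characteristic polynomial of `M` is a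
power of `X² + X + 1`. -/
theorem charpoly_of_rel (M : Matrix n n F) (hM : M * M + M + 1 = 0)
    (hirr : Irreducible (cyc3 F)) (m : ℕ) (hcard : Fintype.card n = 2 * m) :
    M.charpoly = cyc3 F ^ m := by
  set M' : Matrix n n F[X] := (C : F →+* F[X]).mapMatrix M with hM'
  have hrel : M' * M' + M' + 1 = 0 := by
    have := congrArg (C : F →+* F[X]).mapMatrix hM
    rw [map_add, map_add, map_mul, map_one, map_zero] at this
    exact this
  have hchar : Matrix.charmatrix M = Matrix.scalar n (X : F[X]) - M' := rfl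
  have hcomm : Matrix.scalar n (X : F[X]) * M' = M' * Matrix.scalar n (X : F[X]) :=
    (Matrix.scalar_commute (X : F[X]) (fun r' => Commute.all _ _) M').eq
  have hprod : Matrix.charmatrix M * (Matrix.scalar n (X : F[X]) + 1 + M') =
      Matrix.scalar n (cyc3 F) := by
    rw [hchar]
    have e : (Matrix.scalar n (X : F[X]) - M') * (Matrix.scalar n (X : F[X]) + 1 + M') =
        Matrix.scalar n (X : F[X]) * Matrix.scalar n (X : F[X]) + Matrix.scalar n (X : F[X])
          - (M' * M' + M') + (Matrix.scalar n (X : F[X]) * M' - M' * Matrix.scalar n (X : F[X])) := by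
      noncomm_ring
    rw [e, hcomm, sub_self, add_zero]
    have e2 : M' * M' + M' = -1 := by
      rw [eq_neg_iff_add_eq_zero]; exact hrel
    rw [e2, sub_neg_eq_add, ← map_mul, ← map_add]
    have : (1 : Matrix n n F[X]) = Matrix.scalar n (1 : F[X]) := by simp
    rw [this, ← map_add]
    congr 1
    unfold cyc3
    ring
  have hdet := congrArg Matrix.det hprod
  have hds : (Matrix.scalar n (cyc3 F)).det = cyc3 F ^ Fintype.card n := by
    rw [Matrix.scalar_apply, Matrix.det_diagonal, Finset.prod_const, Finset.card_univ]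
  rw [Matrix.det_mul, hds] at hdet
  have hdvd : M.charpoly ∣ cyc3 F ^ Fintype.card n := ⟨_, hdet.symm⟩
  obtain ⟨i, _, hi⟩ := (dvd_prime_pow hirr.prime _).mp hdvd
  have heq : M.charpoly = cyc3 F ^ i :=
    Polynomial.eq_of_monic_of_associated (Matrix.charpoly_monic M) ((cyc3_monic F).pow i) hi
  have hdeg := congrArg Polynomial.natDegree heq
  rw [Matrix.charpoly_natDegree_eq_dim, Polynomial.natDegree_pow, cyc3_natDegree, hcard] at hdeg
  have him : i = m := by omega
  rw [heq, him]

end Charpoly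

section HermPart

variable {F : Type*} [Field F] {m : ℕ} (bar : KK F →+* KK F)
  (hbar1 : ∀ a : F, bar (ofF F a) = ofF F a) (hbar2 : bar (om F) = om F * om F)

include hbar1 hbar2 in
theorem bar_decomp (c d : F) :
    bar (ofF F c + ofF F d * om F) = ofF F (c - d) + ofF F (-d) * om F := by
  rw [map_add, map_mul, hbar1, hbar1, hbar2, om_sq, map_sub, map_neg]
  ring

include hbar1 hbar2 in
theorem reK_bar (w : KK F) : reK F (bar w) = reK F w - imK F w := by
  conv_lhs => rw [decomp F w, bar_decomp bar hbar1 hbar2, reK_mk]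

include hbar1 hbar2 in
theorem imK_bar (w : KK F) : imK F (bar w) = - imK F w := by
  conv_lhs => rw [decomp F w, bar_decomp bar hbar1 hbar2, imK_mk]

include hbar1 hbar2 in
theorem reK_entry (G : Matrix (Fin m) (Fin m) (KK F)) (i j : Fin m) :
    reK F ((Gᵀ * G.map bar) i j) =
      ((G.map (reK F))ᵀ * G.map (reK F) - (G.map (reK F))ᵀ * G.map (imK F)
        + (G.map (imK F))ᵀ * G.map (imK F)) i j := by
  simp only [Matrix.mul_apply, Matrix.transpose_apply, Matrix.map_apply, map_sum, Matrix.add_apply,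
    Matrix.sub_apply, reK_mul, reK_bar bar hbar1 hbar2, imK_bar bar hbar1 hbar2]
  rw [← Finset.sum_sub_distrib, ← Finset.sum_add_distrib]
  apply Finset.sum_congr rfl
  intro k _
  ring

include hbar1 hbar2 in
theorem imK_entry (G : Matrix (Fin m) (Fin m) (KK F)) (i j : Fin m) :
    imK F ((Gᵀ * G.map bar) i j) =
      ((G.map (imK F))ᵀ * G.map (reK F) - (G.map (reK F))ᵀ * G.map (imK F)) i j := by
  simp only [Matrix.mul_apply, Matrix.transpose_apply, Matrix.map_apply, map_sum,
    Matrix.sub_apply, imK_mul, reK_bar bar hbar1 hbar2, imK_bar bar hbar1 hbar2]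
  rw [← Finset.sum_sub_distrib]
  apply Finset.sum_congr rfl
  intro k _
  ring

include hbar1 hbar2 in
theorem herm_iff (G : Matrix (Fin m) (Fin m) (KK F)) :
    Gᵀ * G.map bar = 1 ↔
      toY (G.map (reK F)) (G.map (imK F)) ∈ Matrix.symplecticGroup (Fin m) F := by
  rw [toY_mem_iff]
  set A := G.map (reK F) with hA
  set B := G.map (imK F) with hB
  have hre := reK_entry bar hbar1 hbar2 G
  have him := imK_entry bar hbar1 hbar2 G
  rw [← hA, ← hB] at hre him
  have hone_re : ∀ i j : Fin m, reK F ((1 : Matrix (Fin m) (Fin m) (KK F)) i j) =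
      (1 : Matrix (Fin m) (Fin m) F) i j := by
    intro i j
    by_cases hij : i = j
    · rw [hij, Matrix.one_apply_eq, Matrix.one_apply_eq, reK_one]
    · rw [Matrix.one_apply_ne hij, Matrix.one_apply_ne hij, map_zero]
  have hone_im : ∀ i j : Fin m, imK F ((1 : Matrix (Fin m) (Fin m) (KK F)) i j) = 0 := by
    intro i j
    by_cases hij : i = j
    · rw [hij, Matrix.one_apply_eq, imK_one]
    · rw [Matrix.one_apply_ne hij, map_zero]
  constructor
  · intro h
    have h1 : Bᵀ * A - Aᵀ * B = 0 := by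
      ext i j
      rw [← him, h, hone_im]; rfl
    have h2 : Aᵀ * A - Aᵀ * B + Bᵀ * B = 1 := by
      ext i j
      rw [← hre, h, hone_re]
    have h3 : Aᵀ * B = Bᵀ * A := (sub_eq_zero.mp h1).symm
    refine ⟨h3, ?_⟩
    rw [← h3]; exact h2
  · rintro ⟨h3, h2⟩
    ext i j
    apply ext_reim
    · rw [hre, hone_re, h3, h2]
    · rw [him, hone_im, h3, sub_self]; rfl

end HermPart

section CardPart

variable {F : Type*} [Field F] {m : ℕ}

/-- The bijection between "unitary" matrices over `F[ω]` and the symplectic matrices commuting with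
`X0`. -/
theorem card_herm_eq (bar : KK F →+* KK F)
    (hbar1 : ∀ a : F, bar (ofF F a) = ofF F a) (hbar2 : bar (om F) = om F * om F) :
    Nat.card {G : Matrix (Fin m) (Fin m) (KK F) // Gᵀ * G.map bar = 1} =
      Nat.card {Y : Matrix (Fin m ⊕ Fin m) (Fin m ⊕ Fin m) F //
        Y ∈ Matrix.symplecticGroup (Fin m) F ∧ Y * X0 F m = X0 F m * Y} := by
  apply Nat.card_congr
  refine Equiv.ofBijective (fun G => ⟨toY (G.1.map (reK F)) (G.1.map (imK F)),
    (herm_iff bar hbar1 hbar2 G.1).mp G.2, (commute_X0_iff _).mpr ⟨_, _, rfl⟩⟩) ⟨?_, ?_⟩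
  · intro G G' h
    have h' := congrArg Subtype.val h
    obtain ⟨h1, h2⟩ := toY_injective h'
    apply Subtype.ext
    ext i j
    apply ext_reim
    · have := congrFun (congrFun h1 i) j
      simpa using this
    · have := congrFun (congrFun h2 i) j
      simpa using this
  · rintro ⟨Y, hY1, hY2⟩
    obtain ⟨A, B, rfl⟩ := (commute_X0_iff Y).mp hY2
    set G : Matrix (Fin m) (Fin m) (KK F) :=
      Matrix.of fun i j => ofF F (A i j) + ofF F (B i j) * om F with hG
    have hGA : G.map (reK F) = A := by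
      ext i j
      simp [hG, reK_mk]
    have hGB : G.map (imK F) = B := by
      ext i j
      simp [hG, imK_mk]
    have hGmem : Gᵀ * G.map bar = 1 := by
      rw [herm_iff bar hbar1 hbar2 G, hGA, hGB]; exact hY1
    refine ⟨⟨G, hGmem⟩, ?_⟩
    apply Subtype.ext
    show toY (G.map (reK F)) (G.map (imK F)) = toY A B
    rw [hGA, hGB]

/-- Centraliser cardinality is invariant under conjugation. -/
theorem card_centralizer_conj {G : Type*} [Group G] (c x : G) :
    Nat.card (Subgroup.centralizer ({c * x * c⁻¹} : Set G)) =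
      Nat.card (Subgroup.centralizer ({x} : Set G)) := by
  apply Nat.card_congr
  refine ⟨fun y => ⟨c⁻¹ * y.1 * c, ?_⟩, fun y => ⟨c * y.1 * c⁻¹, ?_⟩, ?_, ?_⟩
  · have hy := y.2
    rw [Subgroup.mem_centralizer_iff] at hy ⊢
    intro h hh
    rw [Set.mem_singleton_iff] at hh
    subst hh
    have := hy (c * h * c⁻¹) rfl
    calc h * (c⁻¹ * y.1 * c) = c⁻¹ * ((c * h * c⁻¹) * y.1) * c := by group
      _ = c⁻¹ * (y.1 * (c * h * c⁻¹)) * c := by rw [this]
      _ = c⁻¹ * y.1 * c * h := by group
  · have hy := y.2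
    rw [Subgroup.mem_centralizer_iff] at hy ⊢
    intro h hh
    rw [Set.mem_singleton_iff] at hh
    subst hh
    have := hy x rfl
    calc c * x * c⁻¹ * (c * y.1 * c⁻¹) = c * (x * y.1) * c⁻¹ := by group
      _ = c * (y.1 * x) * c⁻¹ := by rw [this]
      _ = c * y.1 * c⁻¹ * (c * x * c⁻¹) := by group
  · intro y
    apply Subtype.ext
    show c * (c⁻¹ * y.1 * c) * c⁻¹ = y.1
    group
  · intro y
    apply Subtype.ext
    show c⁻¹ * (c * y.1 * c⁻¹) * c = y.1
    group

/-- The centraliser of the standard element as a set of matrices. -/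
theorem card_centralizer_X0 :
    Nat.card (Subgroup.centralizer
      ({(⟨X0 F m, X0_mem⟩ : ↥(Matrix.symplecticGroup (Fin m) F))} :
        Set ↥(Matrix.symplecticGroup (Fin m) F))) =
      Nat.card {Y : Matrix (Fin m ⊕ Fin m) (Fin m ⊕ Fin m) F //
        Y ∈ Matrix.symplecticGroup (Fin m) F ∧ Y * X0 F m = X0 F m * Y} := by
  apply Nat.card_congr
  refine Equiv.ofBijective (fun y => ⟨(y.1 : Matrix (Fin m ⊕ Fin m) (Fin m ⊕ Fin m) F), y.1.2, ?_⟩)
    ⟨?_, ?_⟩
  · have hy := y.2
    rw [Subgroup.mem_centralizer_iff] at hy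
    have := hy _ rfl
    have h2 := congrArg Subtype.val this
    exact h2.symm
  · intro y y' h
    have h' := congrArg Subtype.val h
    exact Subtype.ext (Subtype.ext h')
  · rintro ⟨Y, hY1, hY2⟩
    refine ⟨⟨⟨Y, hY1⟩, ?_⟩, rfl⟩
    rw [Subgroup.mem_centralizer_iff]
    intro h hh
    rw [Set.mem_singleton_iff] at hh
    subst hh
    apply Subtype.ext
    exact hY2.symm

/-- `GU` as a set of matrices. -/
theorem card_GU_eq {K : Type*} [Field K] {q : ℕ} (bar : K →+* K) (hbar : ∀ x, bar x = x ^ q) :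
    Nat.card (Cfsg.GU m K q) =
      Nat.card {G : Matrix (Fin m) (Fin m) K // Gᵀ * G.map bar = 1} := by
  apply Nat.card_congr
  refine Equiv.ofBijective (fun g => ⟨(g.1 : Matrix (Fin m) (Fin m) K),
    (Cfsg.Agent.S2677.mem_GU_iff_matrix m bar hbar g.1).mp g.2⟩) ⟨?_, ?_⟩
  · intro g g' h
    have h' := congrArg Subtype.val h
    exact Subtype.ext (Units.ext h')
  · rintro ⟨G, hG⟩
    have hdet : G.det ≠ 0 := by
      intro h0
      have := congrArg Matrix.det hG
      rw [Matrix.det_mul, Matrix.det_transpose, h0, zero_mul, Matrix.det_one] at this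
      exact zero_ne_one this
    refine ⟨⟨Matrix.GeneralLinearGroup.mkOfDetNeZero G hdet, ?_⟩, rfl⟩
    rw [Cfsg.Agent.S2677.mem_GU_iff_matrix m bar hbar]
    exact hG

end CardPart

/-- The arithmetic identification of the two product formulas. -/
theorem formula_cast (q m : ℕ) (hq : 1 ≤ q) :
    ((q ^ (m * (m - 1) / 2) * ∏ i ∈ Finset.range m,
        (if Even i then q ^ (i + 1) + 1 else q ^ (i + 1) - 1) : ℕ) : ℤ) =
      (q : ℤ) ^ (m * (m - 1) / 2) *
        ∏ i : Fin m, ((q : ℤ) ^ ((i : ℕ) + 1) - (-1) ^ ((i : ℕ) + 1)) := by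
  rw [Nat.cast_mul, Nat.cast_pow, Nat.cast_prod]
  congr 1
  rw [Fin.prod_univ_eq_prod_range (fun i => ((q : ℤ) ^ (i + 1) - (-1) ^ (i + 1))) m]
  apply Finset.prod_congr rfl
  intro i _
  by_cases hi : Even i
  · rw [if_pos hi]
    have : (-1 : ℤ) ^ (i + 1) = -1 := Odd.neg_one_pow (Even.add_one hi)
    rw [this]
    push_cast
    ring
  · rw [if_neg hi]
    have hodd : Odd i := Nat.not_even_iff_odd.mp hi
    have : (-1 : ℤ) ^ (i + 1) = 1 := Even.neg_one_pow (Odd.add_one hodd)
    rw [this, Nat.cast_sub (Nat.one_le_pow _ _ hq)]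
    push_cast
    ring

/-- Centraliser of a fixed-point-free element of order three in Sp_2m(q) when q ≡ 2 (mod 3). -/
theorem result {F : Type*} [Field F] [Fintype F] {q : ℕ} (hF : Fintype.card F = q) (hq : q % 3 = 2) {m : ℕ} (hm : 1 ≤ m) (x : Matrix.symplecticGroup (Fin m) F) (hx3 : x ^ 3 = 1) (hfpf : IsUnit ((x : Matrix (Fin m ⊕ Fin m) (Fin m ⊕ Fin m) F) - 1)) : (Nat.card ↥(Subgroup.centralizer ({x} : Set ↥(Matrix.symplecticGroup (Fin m) F))) : ℤ) = (q : ℤ) ^ (m * (m - 1) / 2) * ∏ i : Fin m, ((q : ℤ) ^ ((i : ℕ) + 1) - (-1) ^ ((i : ℕ) + 1)) := by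
  have hcard3 : Fintype.card F % 3 = 2 := by rw [hF]; exact hq
  have hirr : Irreducible (cyc3 F) := cyc3_irreducible hcard3
  have h3 : ((3 : ℕ) : F) ≠ 0 := by
    have := three_ne_zero_of_card hcard3
    exact_mod_cast this
  have hq1 : 1 ≤ q := by omega
  have : Fact (Irreducible (cyc3 F)) := ⟨hirr⟩
  -- the field K
  have hfinK : Module.Finite F (KK F) := (AdjoinRoot.powerBasis (cyc3_ne_zero F)).finite
  have hFinK : Finite (KK F) := Module.finite_of_finite F
  let _ : Fintype (KK F) := Fintype.ofFinite (KK F)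
  have hcardK : Fintype.card (KK F) = q ^ 2 := by
    rw [Module.card_eq_pow_finrank (K := F) (V := KK F), hF,
      (AdjoinRoot.powerBasis (cyc3_ne_zero F)).finrank, AdjoinRoot.powerBasis_dim, cyc3_natDegree]
  obtain ⟨bar, hbar⟩ := Cfsg.Agent.Helper45.GU.exists_bar hcardK
  have hbar1 : ∀ a : F, bar (ofF F a) = ofF F a := by
    intro a
    rw [hbar, ← map_pow, ← hF, FiniteField.pow_card]
  have hbar2 : bar (om F) = om F * om F := by
    rw [hbar]
    obtain ⟨k, hk⟩ : ∃ k, q = 3 * k + 2 := ⟨q / 3, by omega⟩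
    rw [hk, pow_add, pow_mul, om_cube, one_pow, one_mul, pow_two]
  -- the relation for x
  set Xm : Matrix (Fin m ⊕ Fin m) (Fin m ⊕ Fin m) F := x.1 with hXm
  have hX3 : Xm ^ 3 = 1 := by
    have := congrArg Subtype.val hx3
    simpa using this
  have hrel : Xm * Xm + Xm + 1 = 0 := by
    have hprod : (Xm - 1) * (Xm * Xm + Xm + 1) = 0 := by
      have : (Xm - 1) * (Xm * Xm + Xm + 1) = Xm ^ 3 - 1 := by noncomm_ring
      rw [this, hX3, sub_self]
    exact (hfpf.mul_right_eq_zero).mp hprod
  have hcardn : Fintype.card (Fin m ⊕ Fin m) = 2 * m := by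
    rw [Fintype.card_sum, Fintype.card_fin]; ring
  have hc : Xm.charpoly = (X0 F m).charpoly := by
    rw [charpoly_of_rel Xm hrel hirr m hcardn, charpoly_of_rel (X0 F m) X0_rel hirr m hcardn]
  have hX03 : X0 F m ^ 3 = 1 := by
    have h := X0_rel (F := F) (m := m)
    have : X0 F m ^ 3 - 1 = (X0 F m - 1) * (X0 F m * X0 F m + X0 F m + 1) := by noncomm_ring
    rw [h, mul_zero] at this
    exact sub_eq_zero.mp this
  obtain ⟨C, hC, hCX⟩ := Cfsg.Agent.Helper43.SpSS.exists_symp_conj_of_charpoly x.2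
    (X0_mem (F := F) (m := m)) 3 3 h3 h3 hX3 hX03 hc
  set c : ↥(Matrix.symplecticGroup (Fin m) F) := ⟨C, hC⟩ with hcdef
  set x0 : ↥(Matrix.symplecticGroup (Fin m) F) := ⟨X0 F m, X0_mem⟩ with hx0
  have hconj : x0 = c * x * c⁻¹ := by
    have : c * x = x0 * c := Subtype.ext hCX
    rw [this, mul_inv_cancel_right]
  have e1 : Nat.card (Subgroup.centralizer ({x} : Set ↥(Matrix.symplecticGroup (Fin m) F))) =
      Nat.card (Subgroup.centralizer ({x0} : Set ↥(Matrix.symplecticGroup (Fin m) F))) := by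
    rw [hconj, card_centralizer_conj]
  rw [e1, hx0, card_centralizer_X0, ← card_herm_eq bar hbar1 hbar2, ← card_GU_eq bar hbar,
    Cfsg.Agent.S0277.result hcardK m]
  exact formula_cast q m hq1

end Cfsg.Agent.S2637
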