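import Cfsg.Statements.S2570
import Cfsg.Agent.Helper43.JordanCount

set_option autoImplicit false
open Cfsg

namespace Cfsg.Agent.S2570

open Cfsg.Agent.Helper43

/-- The partition of `n` into ones. -/
def ones (n : ℕ) : Nat.Partition n where
  parts := Multiset.replicate n 1
  parts_pos := by
    intro i hi
    rw [Multiset.eq_of_mem_replicate hi]
    exact one_pos
  parts_sum := by
    rw [Multiset.sum_replicate, smul_eq_mul, mul_one]

theorem eq_ones_iff (n : ℕ) (μ : Nat.Partition n) : (∀ a ∈ μ.parts, a ≤ 1) ↔ μ = ones n := by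
  constructor
  · intro h
    apply Nat.Partition.ext
    show μ.parts = Multiset.replicate n 1
    have h1 : ∀ a ∈ μ.parts, a = 1 := by
      intro a ha
      have := μ.parts_pos ha
      have := h a ha
      omega
    have h2 : μ.parts = Multiset.replicate (Multiset.card μ.parts) 1 :=
      Multiset.eq_replicate_card.mpr h1
    have h3 := μ.parts_sum
    rw [h2, Multiset.sum_replicate, smul_eq_mul, mul_one] at h3
    rw [h2, h3]
  · rintro rfl a ha
    rw [Multiset.eq_of_mem_replicate ha]

/-- Number of conjugacy classes of elements of order p in GL_n over a finite field of characteristic p: they correspond to the Jordan types, that is, to the partitions of n with all parts at most p other than the partition into ones, so there are (number of partitions of n with parts ≤ p) − 1 of them. -/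
theorem result {F : Type*} [Field F] [Fintype F] {p : ℕ} [Fact p.Prime] [CharP F p] (n : ℕ) : Nat.card {C : ConjClasses (GL (Fin n) F) // ∃ g : GL (Fin n) F, ConjClasses.mk g = C ∧ orderOf g = p} = (Finset.univ.filter (fun μ : Nat.Partition n => ∀ a ∈ μ.parts, a ≤ p)).card - 1 := by
  classical
  have hp : p.Prime := Fact.out
  have h := SS.card_unip_classes (F := F) (n := n)
    (fun m => (∀ a ∈ m, a ≤ p) ∧ ¬ (∀ a ∈ m, a ≤ 1))
  have hL : Nat.card {C : ConjClasses (GL (Fin n) F) // ∃ g : GL (Fin n) F, ConjClasses.mk g = C ∧ orderOf g = p}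
      = Nat.card {c : ConjClasses (GL (Fin n) F) //
          ∃ g : GL (Fin n) F, ConjClasses.mk g = c ∧ (SS.IsUnip g ∧
            ((∀ a ∈ (SS.jtype g : Multiset ℕ), a ≤ p) ∧ ¬ (∀ a ∈ (SS.jtype g : Multiset ℕ), a ≤ 1)))} := by
    apply Nat.card_congr
    apply Equiv.subtypeEquivRight
    intro C
    constructor
    · rintro ⟨g, hC, hg⟩
      rw [SS.orderOf_eq_prime_iff_nilPart] at hg
      have hu : SS.IsUnip g := ⟨p, hg.1⟩
      have hJ := SS.jtype_spec g hu
      refine ⟨g, hC, hu, ?_, ?_⟩
      · intro a ha
        exact (hJ.pow_eq_zero_iff p).mp hg.1 a (Multiset.mem_coe.mp ha)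
      · intro hcon
        apply hg.2
        rw [hJ.pow_eq_zero_iff 1]
        intro a ha
        exact hcon a (Multiset.mem_coe.mpr ha)
    · rintro ⟨g, hC, hu, h1, h2⟩
      refine ⟨g, hC, ?_⟩
      have hJ := SS.jtype_spec g hu
      rw [SS.orderOf_eq_prime_iff_nilPart]
      refine ⟨?_, ?_⟩
      · rw [hJ.pow_eq_zero_iff p]
        intro a ha
        exact h1 a (Multiset.mem_coe.mpr ha)
      · intro hcon
        apply h2
        intro a ha
        exact (hJ.pow_eq_zero_iff 1).mp hcon a (Multiset.mem_coe.mp ha)
  rw [hL, h, Nat.card_eq_fintype_card, Fintype.card_subtype]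
  -- split the filter
  have hsplit := Finset.card_filter_add_card_filter_not
    (s := Finset.univ.filter (fun μ : Nat.Partition n => ∀ a ∈ μ.parts, a ≤ p))
    (p := fun μ : Nat.Partition n => ∀ a ∈ μ.parts, a ≤ 1)
  rw [Finset.filter_filter, Finset.filter_filter] at hsplit
  have hone : (Finset.univ.filter (fun μ : Nat.Partition n =>
      (∀ a ∈ μ.parts, a ≤ p) ∧ ∀ a ∈ μ.parts, a ≤ 1)).card = 1 := by
    rw [Finset.card_eq_one]
    refine ⟨ones n, ?_⟩
    ext μ
    rw [Finset.mem_filter, Finset.mem_singleton, ← eq_ones_iff]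
    constructor
    · rintro ⟨_, _, h2⟩
      exact h2
    · intro h2
      refine ⟨Finset.mem_univ _, ?_, h2⟩
      intro a ha
      exact (h2 a ha).trans hp.one_lt.le
  rw [hone] at hsplit
  omega

end Cfsg.Agent.S2570
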