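import Cfsg.Statements.S4708
import Cfsg.Agent.Helper79.PrincipalCrit
import Cfsg.Agent.Helper15.Clifford

set_option autoImplicit false
open Cfsg
open scoped ComplexConjugate

namespace Cfsg.Agent.S4708

open Cfsg.Agent.S4426 Cfsg.Agent.Helper79

universe u

section

variable {G : Type u} [Group G] [Fintype G] {p : ℕ} {M : Ideal AlgInt}

/-- `ω_χ(f) ≡ ω_ψ(f)` for `χ, ψ` in the same block and `f` an integral class function. -/
theorem omega_sub_mem (hMp : M.IsPrime) {χ ψ : G → ℂ} (hχ : IsClassFunction G χ)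
    (hψ : IsClassFunction G ψ) (hsame : SameBlock M χ ψ) (f : G → ℂ) (hf : IsClassFunction G f)
    (hint : ∀ x, IsIntegral ℤ (f x)) :
    MemLocalIdeal M (Helper16.omega χ f - Helper16.omega ψ f) := by
  classical
  rw [Helper16.omega_eq_sum_classes _ _ hχ hf, Helper16.omega_eq_sum_classes _ _ hψ hf,
    ← Finset.sum_sub_distrib]
  refine Helper78.memLocalIdeal_sum hMp _ _ fun C _ => ?_
  rw [← mul_sub]
  exact Helper78.memLocalIdeal_mul_left hMp (Helper78.memLocalRing_of_isIntegral hMp (hint _))
    (hsame _)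

omit [Fintype G] in
theorem regInd_restrict (p : ℕ) (H : Subgroup G) :
    (fun h : H => regInd p G (h : G)) = regInd p H := by
  funext h
  rw [regInd_apply, regInd_apply, Subgroup.orderOf_coe]

omit [Fintype G] in
theorem isClassFunction_regInd (p : ℕ) : IsClassFunction G (regInd p G) := by
  intro g h
  rw [regInd_apply, regInd_apply]
  have h1 : orderOf (h * g * h⁻¹) = orderOf g := by
    have : h * g * h⁻¹ = MulAut.conj h g := by simp
    rw [this, MulEquiv.orderOf_eq]
  rw [h1]

/-- the number of `p`-regular elements is a unit of the local ring. -/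
theorem not_memLocalIdeal_sum_regInd [hp : Fact p.Prime] (hM : IsPModular p M) :
    ¬ MemLocalIdeal M (∑ x : G, regInd p G x) := by
  have hMp : M.IsPrime := Helper78.isPrime_of_isPModular hM
  have hB : IsPBlock M (principalBlock M G) := ⟨principalIrr G, rfl⟩
  have h0 := (height_zero_iff p hM _ hB (principalIrr G) (principalIrr_mem hM)).1
    (blockHeight_principalIrr hM)
  intro hmem
  apply h0
  have h1 : cut p ((p ^ (Nat.card G).factorization p : ℕ) : ℂ)
      ((principalIrr G : IrrCharacter G) : G → ℂ)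
      = ((p ^ (Nat.card G).factorization p : ℕ) : ℂ) • regInd p G := by
    have := S4494.cut_mul p ((p ^ (Nat.card G).factorization p : ℕ) : ℂ) 1
      ((principalIrr G : IrrCharacter G) : G → ℂ)
    rw [mul_one] at this
    exact this
  rw [h1, Helper74.classInner_smul_left]
  have h2 : classInner (regInd p G) ((principalIrr G : IrrCharacter G) : G → ℂ)
      = (Nat.card G : ℂ)⁻¹ * ∑ x : G, regInd p G x := by
    unfold classInner
    congr 1
    refine Finset.sum_congr rfl fun x _ => ?_
    show regInd p G x * conj (1 : ℂ) = _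
    simp
  have h3 : ((principalIrr G : IrrCharacter G) : G → ℂ) 1 = 1 := rfl
  rw [h2, h3, div_one, ← mul_assoc]
  exact Helper78.memLocalIdeal_mul_left hMp (memLocalRing_pa_div_card hM) hmem

omit [Fintype G] in
theorem conj_regInd (p : ℕ) (x : G) : conj (regInd p G x) = regInd p G x := by
  rw [regInd_apply]
  split_ifs <;> simp

/-- Step A: the restriction of a principal block character to a normal subgroup has a nonzero
inner product with the indicator of the `p`-regular elements. -/
theorem inner_regInd_restrict_ne_zero [hp : Fact p.Prime] (hM : IsPModular p M) (H : Subgroup G)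
    [hH : H.Normal] [Fintype H] (χ : IrrCharacter G) (hχ : χ ∈ principalBlock M G) :
    classInner (regInd p H) (fun h : H => (χ : G → ℂ) h) ≠ 0 := by
  classical
  have hMp : M.IsPrime := Helper78.isPrime_of_isPModular hM
  set f : G → ℂ := extendByZero H (regInd p H) with hf
  have hfval : ∀ x : G, f x = if x ∈ H then regInd p G x else 0 := by
    intro x
    by_cases hx : x ∈ H
    · rw [hf, Helper15.extendByZero_of_mem H _ hx, if_pos hx, ← regInd_restrict p H]
    · rw [hf, Helper15.extendByZero_of_not_mem H _ hx, if_neg hx]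
  have hfcf : IsClassFunction G f := by
    intro g h
    rw [hfval, hfval, isClassFunction_regInd p g h]
    have : h * g * h⁻¹ ∈ H ↔ g ∈ H := by
      constructor
      · intro h1
        have := hH.conj_mem _ h1 h⁻¹
        simpa [mul_assoc] using this
      · intro h1
        exact hH.conj_mem _ h1 h
    simp only [this]
  have hfint : ∀ x, IsIntegral ℤ (f x) := by
    intro x
    rw [hfval, regInd_apply]
    split_ifs
    · exact isIntegral_zero
    · exact isIntegral_one
    · exact isIntegral_zero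
  have hsub := omega_sub_mem hMp (χ := fun _ : G => (1 : ℂ)) (ψ := (χ : G → ℂ))
    (fun _ _ => rfl) (Helper74.isClassFunction_of_isCharacter (Helper74.irr_isCharacter χ))
    hχ f hfcf hfint
  have h1 : Helper16.omega (fun _ : G => (1 : ℂ)) f = ∑ h : H, regInd p H h := by
    unfold Helper16.omega
    simp only [mul_one, div_one]
    exact Helper15.sum_extendByZero H _
  intro hzero
  have h2 : Helper16.omega (χ : G → ℂ) f = 0 := by
    unfold Helper16.omega
    rw [Helper15.sum_extendByZero_mul H (regInd p H) (χ : G → ℂ)]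
    have h3 : ∑ h : H, regInd p H h * conj ((χ : G → ℂ) h) = 0 := by
      unfold classInner at hzero
      rcases mul_eq_zero.1 hzero with h | h
      · exfalso
        have : (Nat.card H : ℂ) ≠ 0 := by exact_mod_cast Nat.card_pos.ne'
        exact inv_ne_zero this h
      · exact h
    have h4 := congrArg conj h3
    rw [map_sum, map_zero] at h4
    simp only [map_mul, Complex.conj_conj, conj_regInd] at h4
    rw [h4, zero_div]
  rw [h1, h2, sub_zero] at hsub
  exact not_memLocalIdeal_sum_regInd hM hsub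

/-- (iii) constituents of restrictions of principal block characters are in the principal block. -/
theorem mem_principalBlock_of_constituent [hp : Fact p.Prime] (hM : IsPModular p M) (H : Subgroup G)
    [hH : H.Normal] [Fintype H] (χ : IrrCharacter G) (hχ : χ ∈ principalBlock M G)
    (θ : IrrCharacter H) (hθχ : classInner (fun h : H => (χ : G → ℂ) h) (θ : H → ℂ) ≠ 0) :
    θ ∈ principalBlock M H := by
  classical
  rw [mem_principalBlock_iff_inner_regInd hM]
  intro hzero
  apply inner_regInd_restrict_ne_zero hM H χ hχ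
  rw [Helper15.clifford_restrict H χ.2 θ.2 hθχ, Helper74.classInner_smul_right,
    Helper74.classInner_sum_right]
  rw [Finset.sum_eq_zero, mul_zero]
  intro φ hφ
  obtain ⟨g, rfl⟩ := (Helper15.mem_conjOrbit H).1 hφ
  rw [← regInd_restrict p H, Helper15.classInner_restrict_conjFun H (isClassFunction_regInd p) g,
    regInd_restrict p H]
  exact hzero

/-- (iv) every principal block character of `H` lies under a principal block character of `G`. -/
theorem exists_over [hp : Fact p.Prime] (hM : IsPModular p M) (H : Subgroup G)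
    [hH : H.Normal] [Fintype H] (θ : IrrCharacter H) (hθ : θ ∈ principalBlock M H) :
    ∃ χ ∈ principalBlock M G, classInner (fun h : H => (χ : G → ℂ) h) (θ : H → ℂ) ≠ 0 := by
  classical
  let _ := Helper74.irrFintype G
  by_contra hcon
  push Not at hcon
  have h1 := (mem_principalBlock_iff_inner_regInd hM θ).1 hθ
  apply h1
  rw [← regInd_restrict p H, ← Helper15.frobenius_reciprocity' H (θ : H → ℂ) (regInd p G)
    (isClassFunction_regInd p)]
  have hind : IsCharacter G (indFun H (θ : H → ℂ)) :=
    Helper15.isCharacter_indFun H (Helper74.irr_isCharacter θ)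
  rw [Helper74.isCharacter_eq_sum_irr hind, Helper74.classInner_sum_right]
  refine Finset.sum_eq_zero fun χ _ => ?_
  rw [Helper74.classInner_smul_right]
  by_cases hχ : χ ∈ principalBlock M G
  · have h2 := hcon χ hχ
    rw [← Helper15.frobenius_reciprocity' H (θ : H → ℂ) (χ : G → ℂ)
      (Helper74.isClassFunction_of_isCharacter (Helper74.irr_isCharacter χ))] at h2
    rw [Helper74.classInner_conj_symm, h2, zero_mul]
  · have h2 := (mem_principalBlock_iff_inner_regInd hM χ).not.1 hχ
    push Not at h2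
    rw [h2, mul_zero]

/-- the combinatorial core. -/
theorem core {ι κ : Type*} [Fintype ι] [Fintype κ] [DecidableEq ι] [DecidableEq κ]
    (BG : Finset ι) (BH : Finset κ) (dG : ι → ℕ) (dH : κ → ℕ) (m : ι → κ → ℕ) (idx : ℕ)
    (h1 : ∀ χ, dG χ = ∑ θ, m χ θ * dH θ)
    (h2 : ∀ θ, idx * dH θ = ∑ χ, m χ θ * dG χ)
    (h3 : ∀ χ ∈ BG, ∀ θ, m χ θ ≠ 0 → θ ∈ BH)
    (h4 : ∀ θ ∈ BH, ∃ χ ∈ BG, m χ θ ≠ 0) :
    ∑ θ ∈ BH, dH θ ^ 2 ≤ ∑ χ ∈ BG, dG χ ^ 2 ∧
      ∑ χ ∈ BG, dG χ ^ 2 ≤ idx * ∑ θ ∈ BH, dH θ ^ 2 := by
  have h1' : ∀ χ ∈ BG, dG χ = ∑ θ ∈ BH, m χ θ * dH θ := by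
    intro χ hχ
    rw [h1 χ]
    symm
    apply Finset.sum_subset (Finset.subset_univ _)
    intro θ _ hθ
    have : m χ θ = 0 := by
      by_contra h
      exact hθ (h3 χ hχ θ h)
    rw [this, zero_mul]
  have hlam : ∑ χ ∈ BG, dG χ ^ 2 = ∑ θ ∈ BH, dH θ * ∑ χ ∈ BG, m χ θ * dG χ := by
    calc ∑ χ ∈ BG, dG χ ^ 2 = ∑ χ ∈ BG, ∑ θ ∈ BH, dH θ * (m χ θ * dG χ) := by
          refine Finset.sum_congr rfl fun χ hχ => ?_
          rw [sq]
          nth_rewrite 1 [h1' χ hχ]
          rw [Finset.sum_mul]
          refine Finset.sum_congr rfl fun θ _ => ?_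
          ring
      _ = ∑ θ ∈ BH, ∑ χ ∈ BG, dH θ * (m χ θ * dG χ) := Finset.sum_comm
      _ = ∑ θ ∈ BH, dH θ * ∑ χ ∈ BG, m χ θ * dG χ := by
          refine Finset.sum_congr rfl fun θ _ => ?_
          rw [Finset.mul_sum]
  constructor
  · rw [hlam]
    refine Finset.sum_le_sum fun θ hθ => ?_
    rw [sq]
    refine Nat.mul_le_mul_left _ ?_
    obtain ⟨χ₀, hχ₀, hm⟩ := h4 θ hθ
    have hpos : 1 ≤ m χ₀ θ := Nat.one_le_iff_ne_zero.2 hm
    calc dH θ ≤ m χ₀ θ * dH θ := Nat.le_mul_of_pos_left _ hpos
      _ ≤ ∑ θ' ∈ BH, m χ₀ θ' * dH θ' :=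
          Finset.single_le_sum (f := fun θ' => m χ₀ θ' * dH θ') (fun _ _ => Nat.zero_le _) hθ
      _ = dG χ₀ := (h1' χ₀ hχ₀).symm
      _ ≤ m χ₀ θ * dG χ₀ := Nat.le_mul_of_pos_left _ hpos
      _ ≤ ∑ χ ∈ BG, m χ θ * dG χ :=
          Finset.single_le_sum (f := fun χ => m χ θ * dG χ) (fun _ _ => Nat.zero_le _) hχ₀
  · rw [hlam, Finset.mul_sum]
    refine Finset.sum_le_sum fun θ _ => ?_
    calc dH θ * ∑ χ ∈ BG, m χ θ * dG χ ≤ dH θ * ∑ χ, m χ θ * dG χ := by
          refine Nat.mul_le_mul_left _ ?_
          exact Finset.sum_le_sum_of_subset (Finset.subset_univ _)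
      _ = idx * dH θ ^ 2 := by rw [← h2 θ]; ring

end

open Cfsg.Agent.S4426 Cfsg.Agent.Helper79 in
/-- Let p be a prime, M a maximal ideal of the algebraic integers containing p, G a finite group and H a normal subgroup. Write λ(X) for the sum of the squares of the degrees of the irreducible characters in the principal p-block of a group X. Then λ(H) ≤ λ(G) ≤ [G : H]·λ(H). -/
theorem result {G : Type*} [Group G] [Finite G] (p : ℕ) [Fact p.Prime] (M : Ideal Cfsg.AlgInt) (hM : Cfsg.IsPModular p M) (H : Subgroup G) [H.Normal] : (∑ᶠ θ ∈ Cfsg.principalBlock M H, Cfsg.charDegree (θ : H → ℂ) ^ 2) ≤ (∑ᶠ χ ∈ Cfsg.principalBlock M G, Cfsg.charDegree (χ : G → ℂ) ^ 2) ∧ (∑ᶠ χ ∈ Cfsg.principalBlock M G, Cfsg.charDegree (χ : G → ℂ) ^ 2) ≤ H.index * ∑ᶠ θ ∈ Cfsg.principalBlock M H, Cfsg.charDegree (θ : H → ℂ) ^ 2 := by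
  classical
  have : Fintype G := Fintype.ofFinite G
  have : Fintype H := Fintype.ofFinite H
  let _ := Helper74.irrFintype G
  let _ := Helper74.irrFintype H
  have hm : ∀ (χ : IrrCharacter G) (θ : IrrCharacter H), ∃ n : ℕ,
      classInner (fun h : H => (χ : G → ℂ) h) (θ : H → ℂ) = n := fun χ θ =>
    Helper15.isCharacter_inner_nat
      (Helper74.isCharacter_restrict H (Helper74.irr_isCharacter χ)) (Helper74.irr_isCharacter θ)
  choose m hm using hm
  rw [finsum_mem_eq_finite_toFinset_sum _ (Set.toFinite (principalBlock M H)),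
    finsum_mem_eq_finite_toFinset_sum _ (Set.toFinite (principalBlock M G))]
  refine core _ _ (fun χ : IrrCharacter G => charDegree (χ : G → ℂ))
    (fun θ : IrrCharacter H => charDegree (θ : H → ℂ)) m H.index ?_ ?_ ?_ ?_
  · intro χ
    have hres := Helper74.isCharacter_restrict H (Helper74.irr_isCharacter χ)
    have h := congrFun (Helper74.isCharacter_eq_sum_irr hres) 1
    simp only [Finset.sum_apply, Pi.smul_apply, smul_eq_mul, OneMemClass.coe_one] at h
    rw [irr_one_eq χ] at h
    simp only [hm, irr_one_eq] at h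
    exact_mod_cast h
  · intro θ
    have hind := Helper15.isCharacter_indFun H (Helper74.irr_isCharacter θ)
    have h := congrFun (Helper74.isCharacter_eq_sum_irr hind) 1
    rw [Helper15.indFun_apply_one] at h
    simp only [Finset.sum_apply, Pi.smul_apply, smul_eq_mul] at h
    have hc : ∀ χ : IrrCharacter G, classInner (indFun H (θ : H → ℂ)) (χ : G → ℂ) = m χ θ := by
      intro χ
      rw [← Helper74.classInner_conj_symm, Helper15.frobenius_reciprocity' H (θ : H → ℂ) (χ : G → ℂ)
        (Helper74.isClassFunction_of_isCharacter (Helper74.irr_isCharacter χ)), hm,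
        Complex.conj_natCast]
    simp only [hc, irr_one_eq] at h
    exact_mod_cast h
  · intro χ hχ θ hne
    rw [Set.Finite.mem_toFinset] at hχ ⊢
    refine mem_principalBlock_of_constituent hM H χ hχ θ ?_
    rw [hm]
    exact_mod_cast hne
  · intro θ hθ
    rw [Set.Finite.mem_toFinset] at hθ
    obtain ⟨χ, hχ, hne⟩ := exists_over hM H θ hθ
    refine ⟨χ, (Set.Finite.mem_toFinset _).2 hχ, ?_⟩
    rw [hm] at hne
    exact_mod_cast hne

end Cfsg.Agent.S4708
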