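import Cfsg.Statements.S4517
import Cfsg.Agent.Helper79.FullDefectTwo

set_option autoImplicit false
open Cfsg
open scoped ComplexConjugate

namespace Cfsg.Agent.S4517

/-- Let G be a finite group, M a maximal ideal of the algebraic integers containing 2, and k a natural number coprime to the order of G with g ^ k = g⁻¹ for every element g of odd order (so that g ↦ g ^ k induces a field automorphism of the character values inverting the roots of unity of odd order). If B is a 2-block of full defect (its defect equals the exponent of 2 in the order of G) that is stable under χ ↦ χ ∘ (· ^ k), then B is the principal 2-block. -/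
theorem result {G : Type*} [Group G] [Finite G] (M : Ideal Cfsg.AlgInt) (hM : Cfsg.IsPModular 2 M) (k : ℕ) (hk : Nat.Coprime k (Nat.card G)) (hk₂ : ∀ g : G, Odd (orderOf g) → g ^ k = g⁻¹) (B : Set (Cfsg.IrrCharacter G)) (hB : Cfsg.IsPBlock M B) (hdef : Cfsg.blockDefect 2 B = (Nat.card G).factorization 2) (hstab : ∀ χ ∈ B, ∃ ψ ∈ B, ∀ g : G, (ψ : G → ℂ) g = (χ : G → ℂ) (g ^ k)) : B = Cfsg.principalBlock M G := by
  classical
  have : Fintype G := Fintype.ofFinite G
  have hMp : M.IsPrime := hM.2.1.isPrime
  choose! σ hσB hσ using hstab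
  have hinj : Set.InjOn σ B := by
    intro χ hχ ψ hψ h
    apply Subtype.ext
    funext g
    obtain ⟨g', rfl⟩ : ∃ g' : G, g' ^ k = g := (powCoprime hk.symm).surjective g
    rw [← hσ χ hχ, ← hσ ψ hψ, h]
  have hbij : Set.BijOn σ B B :=
    ((Set.toFinite B).injOn_iff_bijOn_of_mapsTo (fun χ hχ => hσB χ hχ)).1 hinj
  have hinv : ∀ x : G, blockCoeff B x⁻¹ = blockCoeff B x := by
    intro x
    by_cases hx : 2 ∣ orderOf x
    · rw [Helper77.blockCoeff_eq_zero_of_dvd_orderOf hM hB x hx,
        Helper77.blockCoeff_eq_zero_of_dvd_orderOf hM hB x⁻¹ (by rwa [orderOf_inv])]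
    · have hodd : Odd (orderOf x) := Nat.odd_iff.2 (Nat.two_dvd_ne_zero.1 hx)
      rw [← hk₂ x hodd]
      unfold blockCoeff
      congr 1
      refine finsum_mem_eq_of_bijOn σ hbij ?_
      intro χ hχ
      rw [hσ χ hχ, hσ χ hχ, one_pow]
  have hmem := Helper79.principalIrr_mem_of_full_defect_of_inv hM hB hdef hinv
  have h := Helper78.isPBlock_eq_blockOf_of_mem hMp hB hmem
  rw [h]
  rfl

end Cfsg.Agent.S4517
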