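import Cfsg.Statements.S4801
import Mathlib
import Cfsg.Agent.Helper80.Linear
import Cfsg.Agent.Helper79.CharComplete

set_option autoImplicit false
open Cfsg

namespace Cfsg.Agent.S4801

open Cfsg.Agent.Helper80 Cfsg.Agent.Helper79

universe u

/-- The trivial character as an irreducible character. -/
noncomputable def trivIrr (S : Type*) [Group S] : Cfsg.IrrCharacter S :=
  ⟨fun _ => 1, by simpa using isIrrCharacter_of_monoidHom (1 : S →* ℂˣ)⟩

theorem trivIrr_apply {S : Type*} [Group S] (g : S) : ((trivIrr S : Cfsg.IrrCharacter S) : S → ℂ) g = 1 :=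
  rfl

/-- An irreducible character that is constant is the trivial character. -/
theorem eq_trivIrr_of_const {S : Type*} [Group S] [Finite S] (χ : Cfsg.IrrCharacter S)
    (h : ∀ g, (χ : S → ℂ) g = (χ : S → ℂ) 1) : χ = trivIrr S := by
  classical
  cases nonempty_fintype S
  by_contra hne
  have h0 := classInner_irr_ne hne
  rw [Cfsg.classInner] at h0
  have h1 : ∑ g : S, (χ : S → ℂ) g * (starRingEnd ℂ) ((trivIrr S : S → ℂ) g) =
      (Fintype.card S : ℂ) * (χ : S → ℂ) 1 := by
    simp [trivIrr_apply, h]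
  rw [h1] at h0
  have hc : (Nat.card S : ℂ) ≠ 0 := by
    have : 0 < Nat.card S := Nat.card_pos
    exact_mod_cast this.ne'
  have hc' : (Fintype.card S : ℂ) ≠ 0 := by
    rw [← Nat.card_eq_fintype_card]; exact hc
  have hχ1 := IsIrrCharacter.map_one_ne_zero χ.2
  simp [hc', hχ1] at h0

/-- For a prime `p` dividing `|S|`, some nontrivial irreducible character has degree prime to `p`. -/
theorem exists_nontriv_pprime_degree {S : Type*} [Group S] [Finite S] (p : ℕ) (hp : p.Prime)
    (hpS : p ∣ Nat.card S) :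
    ∃ χ : Cfsg.IrrCharacter S, χ ≠ trivIrr S ∧ ¬ p ∣ Cfsg.charDegree (χ : S → ℂ) := by
  classical
  cases nonempty_fintype S
  have : Finite (Cfsg.IrrCharacter S) := irr_finite'
  cases nonempty_fintype (Cfsg.IrrCharacter S)
  by_contra hcon
  push Not at hcon
  have hsum := sum_charDegree_sq (G := S)
  rw [← Finset.add_sum_erase _ _ (Finset.mem_univ (trivIrr S))] at hsum
  have h1 : Cfsg.charDegree ((trivIrr S : Cfsg.IrrCharacter S) : S → ℂ) = 1 := by
    simp [Cfsg.charDegree, trivIrr_apply]
  have h2 : p ∣ ∑ χ ∈ Finset.univ.erase (trivIrr S), Cfsg.charDegree (χ : S → ℂ) ^ 2 := by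
    refine Finset.dvd_sum fun χ hχ => ?_
    exact dvd_pow (hcon χ (Finset.ne_of_mem_erase hχ)) two_ne_zero
  rw [h1, one_pow] at hsum
  have h3 : p ∣ 1 := by
    have := (Nat.dvd_add_left h2).mp (hsum ▸ hpS)
    exact this
  exact hp.one_lt.ne' (Nat.dvd_one.mp h3)

/-- The codegree of an irreducible complex character χ of a finite group G is [G : ker χ] / χ(1), where ker χ is the set of elements at which χ takes the value χ(1). Let S be a finite simple group and G a finite group such that every codegree of an irreducible character of S is a codegree of an irreducible character of G. Then the order of S divides the order of G. -/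
theorem result {S : Type*} [Group S] [Finite S] (hS : IsSimpleGroup S) {G : Type*} [Group G] [Finite G] (hsub : ∀ χ : Cfsg.IrrCharacter S, ∃ ψ : Cfsg.IrrCharacter G, (Nat.card S / (Nat.card {g : S // (χ : S → ℂ) g = (χ : S → ℂ) 1} * Cfsg.charDegree (χ : S → ℂ))) = (Nat.card G / (Nat.card {g : G // (ψ : G → ℂ) g = (ψ : G → ℂ) 1} * Cfsg.charDegree (ψ : G → ℂ)))) : Nat.card S ∣ Nat.card G := by
  rw [Nat.dvd_iff_prime_pow_dvd_dvd]
  intro p k hp hpk
  rcases Nat.eq_zero_or_pos k with rfl | hk
  · simp
  have hpS : p ∣ Nat.card S := (dvd_pow_self p hk.ne').trans hpk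
  obtain ⟨χ, hne, hpχ⟩ := exists_nontriv_pprime_degree p hp hpS
  have hirr := χ.2
  have hc := IsIrrCharacter.isCharacter hirr
  -- the kernel of χ is trivial
  have hK : kerChar (χ : S → ℂ) hc = ⊥ := by
    rcases hS.eq_bot_or_eq_top_of_normal (kerChar (χ : S → ℂ) hc) inferInstance with h | h
    · exact h
    · exfalso
      apply hne
      apply eq_trivIrr_of_const
      intro g
      rw [← mem_kerChar hc, h]
      exact Subgroup.mem_top g
  have hcardK : Nat.card {g : S // (χ : S → ℂ) g = (χ : S → ℂ) 1} = 1 := by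
    have : Nat.card {g : S // (χ : S → ℂ) g = (χ : S → ℂ) 1} =
        Nat.card (kerChar (χ : S → ℂ) hc) :=
      Nat.card_congr (Equiv.subtypeEquivRight fun g => (mem_kerChar hc g).symm)
    rw [this, hK, Subgroup.card_bot]
  obtain ⟨ψ, hψ⟩ := hsub χ
  rw [hcardK, one_mul] at hψ
  have hdvdS := IsIrrCharacter.charDegree_dvd_card hirr
  have hdvdG := IsIrrCharacter.card_ker_mul_charDegree_dvd ψ.2
  -- p^k divides the codegree of χ
  have h1 : p ^ k ∣ Nat.card S / Cfsg.charDegree (χ : S → ℂ) := by
    have h2 : Nat.card S = Nat.card S / Cfsg.charDegree (χ : S → ℂ) *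
        Cfsg.charDegree (χ : S → ℂ) := (Nat.div_mul_cancel hdvdS).symm
    rw [h2] at hpk
    exact (Nat.Coprime.pow_left k ((Nat.Prime.coprime_iff_not_dvd hp).mpr hpχ)).dvd_of_dvd_mul_right
      hpk
  rw [hψ] at h1
  exact h1.trans (Nat.div_dvd_of_dvd hdvdG)

end Cfsg.Agent.S4801
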