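import Cfsg.Statements.S4914
import Cfsg.Agent.Helper81.RG11
import Cfsg.Agent.Helper81.GlaubP5

set_option autoImplicit false
open Cfsg

namespace Cfsg.Agent.S4914

/-- An element of `p`-power order lies in a normal subgroup of index prime to `p`. -/
theorem mem_of_pow_eq_one_of_not_dvd_index {H : Type*} [Group H] [Finite H] (p : ℕ)
    [hp : Fact p.Prime] (N : Subgroup H) [N.Normal] (hN : ¬ p ∣ N.index) (y : H) (k : ℕ)
    (hy : y ^ (p ^ k) = 1) : y ∈ N := by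
  rw [← QuotientGroup.eq_one_iff]
  have h1 : ((y : H ⧸ N)) ^ (p ^ k) = 1 := by
    rw [← QuotientGroup.mk_pow, hy]; rfl
  have h2 : ((y : H ⧸ N)) ^ N.index = 1 := by
    rw [Subgroup.index]
    exact pow_card_eq_one'
  have h3 := pow_gcd_eq_one.mpr ⟨h1, h2⟩
  have hcop : Nat.gcd (p ^ k) N.index = 1 :=
    Nat.Coprime.pow_left k ((Nat.Prime.coprime_iff_not_dvd hp.out).mpr hN)
  rwa [hcop, pow_one] at h3

/-- Let P and K be subgroups of a finite group G with P a p-group normalizing K, and suppose K has a normal Sylow p-subgroup Q. Let C be the subgroup of those k ∈ K whose commutator with every element of P lies in Q (so that C/Q is the fixed-point subgroup of P on K/Q). Then there is a bijection f from the P-invariant irreducible complex characters of K onto the P-invariant irreducible complex characters of C such that, for every P-invariant irreducible character χ of K, the multiplicity of f(χ) in the restriction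 of χ to C is a natural number congruent to 1 or to −1 modulo p, every other P-invariant irreducible character of C occurs in that restriction with multiplicity divisible by p, and the degrees of χ and f(χ) are congruent modulo p up to sign. -/
theorem result {G : Type*} [Group G] [Finite G] (p : ℕ) [Fact p.Prime] (P K Q C : Subgroup G) (hP : IsPGroup p ↥P) (hPK : P ≤ Subgroup.normalizer (K : Set G)) (hQK : Q ≤ K) (hQn : ∀ k ∈ K, ∀ q ∈ Q, k * q * k⁻¹ ∈ Q) (hQp : ∃ a : ℕ, Nat.card ↥Q = p ^ a) (hQsyl : ¬ p ∣ Q.relIndex K) (hCK : C ≤ K) (hC : ∀ k : G, k ∈ C ↔ (k ∈ K ∧ ∀ x ∈ P, x * k * x⁻¹ * k⁻¹ ∈ Q)) : ∃ f : {χ : Cfsg.IrrCharacter ↥K // (∀ x ∈ P, ∀ k k' : ↥K, (k' : G) = x * (k : G) * x⁻¹ → (χ : ↥K → ℂ) k' = (χ : ↥K → ℂ) k)} → {ξ : Cfsg.IrrCharacter ↥C // (∀ x ∈ P, ∀ k k' : ↥C, (k' : G) = x * (k : G) * x⁻¹ → (ξ : ↥C → ℂ) k' = (ξ : ↥C → ℂ) k)}, Function.Bijective f ∧ ∀ χ, (∀ ξ : {ξ : Cfsg.IrrCharacter ↥C // (∀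 x ∈ P, ∀ k k' : ↥C, (k' : G) = x * (k : G) * x⁻¹ → (ξ : ↥C → ℂ) k' = (ξ : ↥C → ℂ) k)}, ∃ m : ℕ, (Nat.card ↥C : ℂ)⁻¹ * ∑ᶠ c : ↥C, (χ.1 : ↥K → ℂ) (Subgroup.inclusion hCK c) * (starRingEnd ℂ) ((ξ.1 : ↥C → ℂ) c) = (m : ℂ) ∧ (ξ = f χ → ((m : ZMod p) = 1 ∨ (m : ZMod p) = -1)) ∧ (ξ ≠ f χ → p ∣ m)) ∧ ((Cfsg.charDegree ((f χ).1 : ↥C → ℂ) : ZMod p) = (Cfsg.charDegree (χ.1 : ↥K → ℂ) : ZMod p) ∨ (Cfsg.charDegree ((f χ).1 : ↥C → ℂ) : ZMod p) = -(Cfsg.charDegree (χ.1 : ↥K → ℂ) : ZMod p)) := by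
  classical
  have : Fintype K := Fintype.ofFinite K
  have : Fintype C := Fintype.ofFinite C
  have hnormK : ∀ s ∈ P, ∀ g ∈ K, s * g * s⁻¹ ∈ K := fun s hs g hg =>
    (Subgroup.mem_normalizer_iff.mp (hPK hs) g).mp hg
  -- `C` is `P`-invariant
  have hnormC : ∀ s ∈ P, ∀ c ∈ C, s * c * s⁻¹ ∈ C := by
    intro s hs c hc
    obtain ⟨hcK, hcQ⟩ := (hC c).mp hc
    rw [hC]
    refine ⟨hnormK s hs c hcK, ?_⟩
    intro x hx
    have ha := hcQ (x * s) (P.mul_mem hx hs)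
    have hb := hcQ s hs
    have h1 : x * (s * c * s⁻¹) * x⁻¹ * (s * c * s⁻¹)⁻¹ =
        ((x * s) * c * (x * s)⁻¹ * c⁻¹) * (s * c * s⁻¹ * c⁻¹)⁻¹ := by group
    rw [h1]
    exact Q.mul_mem ha (Q.inv_mem hb)
  let _ := Helper81.conjMulDistribMulAction K P hnormK
  let _ := Helper81.conjMulDistribMulAction C P hnormC
  set ι : C →* K := Subgroup.inclusion hCK with hι
  have hinj : Function.Injective ι := Subgroup.inclusion_injective hCK
  have hequiv : ∀ (s : P) (c : C), ι (s • c) = s • ι c := fun s c => rfl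
  set Qt : Subgroup K := Q.subgroupOf K with hQt
  have hQtn : Qt.Normal := by
    refine ⟨fun q hq k => ?_⟩
    exact hQn k k.2 q hq
  have hQpG : IsPGroup p Q := by
    obtain ⟨a, ha⟩ := hQp
    exact IsPGroup.of_card ha
  have hQtp : IsPGroup p Qt := hQpG.comap_subtype
  have hQti : ¬ p ∣ Qt.index := hQsyl
  have hQtP : ∀ s : P, ∀ q ∈ Qt, s • q ∈ Qt := by
    intro s q hq
    obtain ⟨k, hk⟩ := IsPGroup.iff_orderOf.mp hQpG ⟨(q : G), hq⟩
    apply mem_of_pow_eq_one_of_not_dvd_index p Qt hQti (s • q) k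
    apply Subtype.ext
    have hq1 : (q : G) ^ (p ^ k) = 1 := by
      have := pow_orderOf_eq_one (⟨(q : G), hq⟩ : Q)
      rw [hk] at this
      exact congrArg Subtype.val this
    show ((s • q : K) : G) ^ (p ^ k) = 1
    have h2 : ((s • q : K) : G) = (s : G) * (q : G) * (s : G)⁻¹ := rfl
    rw [h2, conj_pow, hq1, mul_one, mul_inv_cancel]
  have hrange : ∀ k : K, k ∈ Set.range ι ↔ ∀ s : P, (s • k) * k⁻¹ ∈ Qt := by
    intro k
    constructor
    · rintro ⟨c, rfl⟩ s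
      exact ((hC c).mp c.2).2 s s.2
    · intro h
      have hk : (k : G) ∈ C := by
        rw [hC]
        exact ⟨k.2, fun x hx => h ⟨x, hx⟩⟩
      exact ⟨⟨k, hk⟩, rfl⟩
  obtain ⟨f₀, hbij, hf₀⟩ := Helper81.relative_glauberman_abstract (p := p) hP ι hinj hequiv Qt
    hQtp hQti hQtP hrange
  let eK : {χ : Cfsg.IrrCharacter ↥K // (∀ x ∈ P, ∀ k k' : ↥K, (k' : G) = x * (k : G) * x⁻¹ →
      (χ : ↥K → ℂ) k' = (χ : ↥K → ℂ) k)} ≃ Helper81.InvIrr P K :=
    { toFun := fun χ => ⟨χ.1, (Helper81.invariant_iff K P hnormK _).mp χ.2⟩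
      invFun := fun χ => ⟨χ.1, (Helper81.invariant_iff K P hnormK _).mpr χ.2⟩
      left_inv := fun χ => rfl
      right_inv := fun χ => rfl }
  let eC : {ξ : Cfsg.IrrCharacter ↥C // (∀ x ∈ P, ∀ k k' : ↥C, (k' : G) = x * (k : G) * x⁻¹ →
      (ξ : ↥C → ℂ) k' = (ξ : ↥C → ℂ) k)} ≃ Helper81.InvIrr P C :=
    { toFun := fun χ => ⟨χ.1, (Helper81.invariant_iff C P hnormC _).mp χ.2⟩
      invFun := fun χ => ⟨χ.1, (Helper81.invariant_iff C P hnormC _).mpr χ.2⟩
      left_inv := fun χ => rfl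
      right_inv := fun χ => rfl }
  refine ⟨fun χ => eC.symm (f₀ (eK χ)), ?_, ?_⟩
  · exact eC.symm.bijective.comp (hbij.comp eK.bijective)
  · intro χ
    obtain ⟨h1, h2⟩ := hf₀ (eK χ)
    refine ⟨?_, h2⟩
    intro ξ
    refine ⟨Helper81.mult ι χ.1 ξ.1, ?_, ?_, ?_⟩
    · have := Helper81.mult_spec ι χ.1 ξ.1
      rw [← this, finsum_eq_sum_of_fintype]
      rfl
    · intro hξ
      have hξ' : ξ = eC.symm (f₀ (eK χ)) := hξ
      apply (h1 (eC ξ)).1
      rw [hξ', Equiv.apply_symm_apply]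
    · intro hξ
      apply (h1 (eC ξ)).2
      intro h
      apply hξ
      show ξ = eC.symm (f₀ (eK χ))
      rw [← h, Equiv.symm_apply_apply]

end Cfsg.Agent.S4914
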