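import Cfsg.Statements.S4444
import Cfsg.Agent.Helper81.GlaubP5

set_option autoImplicit false
open Cfsg

namespace Cfsg.Agent.S4444

/-- The degenerate case `C = G`. -/
theorem trivial_case {Γ : Type*} [Group Γ] (G : Subgroup Γ) [Fintype G] (p : ℕ) (_hp : p.Prime)
    (hGG : G ≤ G) (χ β : Cfsg.IrrCharacter G) (m : ℕ)
    (h : Cfsg.classInner (fun c : G => (χ : G → ℂ) ⟨c, hGG c.2⟩) (β : G → ℂ) = (m : ℂ))
    (hm : ¬ p ∣ m) : β = χ ∧ m = 1 := by
  classical
  have h' : Cfsg.classInner (χ : G → ℂ) (β : G → ℂ) = (m : ℂ) := h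
  by_cases hβ : χ = β
  · subst hβ
    rw [Helper74.irr_inner_self] at h'
    exact ⟨rfl, by exact_mod_cast h'.symm⟩
  · rw [Helper74.irr_inner_ne hβ] at h'
    have : m = 0 := by exact_mod_cast h'.symm
    rw [this] at hm
    exact absurd (dvd_zero p) hm

/-- The Glauberman correspondence for a p-group of operators. Inside a finite group Γ let S normalise G with the orders of G and S coprime, S a p-group, and let C = G ⊓ C(S) be the fixed points. Call an irreducible character χ of G S-invariant when χ(s g s⁻¹) = χ(g) for s ∈ S, g ∈ G. Then: (i) for every S-invariant χ there is exactly one irreducible character β of C whose multiplicity [χ_C, β] in the restriction of χ is not divisible by p; (ii) that multiplicity is ≡ 1 or ≡ −1 (mod p); (iii) distinct S-invariant χ give distinct β; (iv) every irreducible character of C arises in this way. So χ ↦ β is a bijection from the S-invariant irreducible characters of G onto the irreducible characters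 of C. -/
theorem result {Γ : Type*} [Group Γ] [Fintype Γ] (G S : Subgroup Γ) [Fintype G] (hnorm : ∀ s ∈ S, ∀ g ∈ G, s * g * s⁻¹ ∈ G) (hcop : (Nat.card G).Coprime (Nat.card S)) (p : ℕ) (hp : p.Prime) (hS : IsPGroup p S) (C : Subgroup Γ) [Fintype C] (hC : C = G ⊓ Subgroup.centralizer (S : Set Γ)) (hCG : C ≤ G) : (∀ χ : Cfsg.IrrCharacter G, (∀ s ∈ S, ∀ g g' : G, (g' : Γ) = s * g * s⁻¹ → (χ : G → ℂ) g' = (χ : G → ℂ) g) → ∃! β : Cfsg.IrrCharacter C, ∃ m : ℕ, Cfsg.classInner (fun c : C => (χ : G → ℂ) ⟨c, hCG c.2⟩) (β : C → ℂ) = (m : ℂ) ∧ ¬ p ∣ m) ∧ (∀ χ : Cfsg.IrrCharacter G, (∀ s ∈ S, ∀ g g' : G, (g' : Γ) = s * g * s⁻¹ → (χ : G → ℂ) g' = (χ : G → ℂ) g) → ∀ β : Cfsg.IrrCharacter C, ∀ m : ℕ, Cfsg.classInner (fun c : C => (χ : G → ℂ) ⟨c, hCG c.2⟩) (β : C → ℂ) = (m : ℂ) → ¬ p ∣ m → ((m : ℤ) ≡ 1 [ZMOD p] ∨ (m : ℤ) ≡ -1 [ZMOD p])) ∧ (∀ χ χ' : Cfsg.IrrCharacter G, (∀ s ∈ S, ∀ g g' : G, (g' : Γ) = s * g * s⁻¹ → (χ : G → ℂ) g' = (χ : G → ℂ) g) → (∀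 s ∈ S, ∀ g g' : G, (g' : Γ) = s * g * s⁻¹ → (χ' : G → ℂ) g' = (χ' : G → ℂ) g) → ∀ β : Cfsg.IrrCharacter C, ∀ m m' : ℕ, Cfsg.classInner (fun c : C => (χ : G → ℂ) ⟨c, hCG c.2⟩) (β : C → ℂ) = (m : ℂ) → ¬ p ∣ m → Cfsg.classInner (fun c : C => (χ' : G → ℂ) ⟨c, hCG c.2⟩) (β : C → ℂ) = (m' : ℂ) → ¬ p ∣ m' → χ = χ') ∧ (∀ β : Cfsg.IrrCharacter C, ∃ χ : Cfsg.IrrCharacter G, (∀ s ∈ S, ∀ g g' : G, (g' : Γ) = s * g * s⁻¹ → (χ : G → ℂ) g' = (χ : G → ℂ) g) ∧ ∃ m : ℕ, Cfsg.classInner (fun c : C => (χ : G → ℂ) ⟨c, hCG c.2⟩) (β : C → ℂ) = (m : ℂ) ∧ ¬ p ∣ m) := by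
  classical
  have : Fact p.Prime := ⟨hp⟩
  by_cases hpG : p ∣ Nat.card G
  · -- degenerate case: `S` is trivial and `C = G`
    have hS1 : S = ⊥ := by
      obtain ⟨n, hn⟩ := hS.exists_card_eq
      have hn0 : n = 0 := by
        by_contra h0
        have h1 : p ∣ Nat.card S := by rw [hn]; exact dvd_pow_self p h0
        have h2 := Nat.dvd_gcd hpG h1
        rw [hcop] at h2
        exact hp.one_lt.ne' (Nat.dvd_one.mp h2)
      rw [hn0, pow_zero] at hn
      exact Subgroup.eq_bot_of_card_eq S hn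
    have hCeq : C = G := by
      apply le_antisymm hCG
      intro g hg
      rw [hC]
      refine ⟨hg, ?_⟩
      change g ∈ Subgroup.centralizer (S : Set Γ)
      rw [Subgroup.mem_centralizer_iff]
      intro s hs
      have hs' : s ∈ S := hs
      rw [hS1, Subgroup.mem_bot] at hs'
      rw [hs', one_mul, mul_one]
    subst hCeq
    rename_i iG iC
    have hinst : iG = iC := Subsingleton.elim _ _
    subst hinst
    refine ⟨?_, ?_, ?_, ?_⟩
    · intro χ _
      refine ⟨χ, ⟨1, ?_, ?_⟩, ?_⟩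
      · have : Cfsg.classInner (χ : C → ℂ) (χ : C → ℂ) = 1 := Helper74.irr_inner_self χ
        simpa using this
      · rw [Nat.dvd_one]; exact hp.one_lt.ne'
      · rintro β ⟨m, hm, hpm⟩
        exact (trivial_case C p hp hCG χ β m hm hpm).1
    · intro χ _ β m hm hpm
      have := (trivial_case C p hp hCG χ β m hm hpm).2
      left
      rw [this]
      rfl
    · intro χ χ' _ _ β m m' hm hpm hm' hpm'
      rw [← (trivial_case C p hp hCG χ β m hm hpm).1, ← (trivial_case C p hp hCG χ' β m' hm' hpm').1]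
    · intro β
      refine ⟨β, ?_, 1, ?_, ?_⟩
      · intro s hs g g' hg'
        rw [hS1, Subgroup.mem_bot] at hs
        subst hs
        have : g' = g := Subtype.ext (by simpa using hg')
        rw [this]
      · have : Cfsg.classInner (β : C → ℂ) (β : C → ℂ) = 1 := Helper74.irr_inner_self β
        simpa using this
      · rw [Nat.dvd_one]; exact hp.one_lt.ne'
  · let _ := Helper81.conjMulDistribMulAction G S hnorm
    let _ := Helper74.irrFintype C
    let _ := Helper74.irrFintype G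
    have hinj := Subgroup.inclusion_injective hCG
    have hfix := Helper81.range_inclusion_iff G S hnorm C hC hCG
    have hms : ∀ (χ : Cfsg.IrrCharacter G) (β : Cfsg.IrrCharacter C),
        Cfsg.classInner (fun c : C => (χ : G → ℂ) ⟨c, hCG c.2⟩) (β : C → ℂ) =
          (Helper81.mult (Subgroup.inclusion hCG) χ β : ℂ) :=
      fun χ β => Helper81.mult_spec (Subgroup.inclusion hCG) χ β
    have hmeq : ∀ (χ : Cfsg.IrrCharacter G) (β : Cfsg.IrrCharacter C) (m : ℕ),
        Cfsg.classInner (fun c : C => (χ : G → ℂ) ⟨c, hCG c.2⟩) (β : C → ℂ) = (m : ℂ) →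
          m = Helper81.mult (Subgroup.inclusion hCG) χ β := by
      intro χ β m hm
      rw [hms] at hm
      exact_mod_cast hm.symm
    refine ⟨?_, ?_, ?_, ?_⟩
    · intro χ hχ
      rw [Helper81.invariant_iff G S hnorm] at hχ
      obtain ⟨β, hβ⟩ := Helper81.exists_mult_not_dvd (Subgroup.inclusion hCG) hS hinj hfix hpG χ hχ
      refine ⟨β, ⟨_, hms χ β, hβ⟩, ?_⟩
      rintro β' ⟨m, hm, hpm⟩
      rw [hmeq χ β' m hm] at hpm
      exact Helper81.mult_unique (Subgroup.inclusion hCG) hS hinj hfix hpG χ hχ hβ hpm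
    · intro χ hχ β m hm hpm
      rw [Helper81.invariant_iff G S hnorm] at hχ
      rw [hmeq χ β m hm] at hpm ⊢
      exact Helper81.mult_pm_one (Subgroup.inclusion hCG) hS hinj hfix hpG χ hχ hpm
    · intro χ χ' hχ hχ' β m m' hm hpm hm' hpm'
      rw [Helper81.invariant_iff G S hnorm] at hχ hχ'
      rw [hmeq χ β m hm] at hpm
      rw [hmeq χ' β m' hm'] at hpm'
      exact Helper81.corr_injective (Subgroup.inclusion hCG) hS hinj hfix hpG χ χ' hχ hχ' hpm hpm'
    · intro β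
      obtain ⟨χ, hχ, hβ⟩ := Helper81.corr_surjective (Subgroup.inclusion hCG) hS hinj hfix hpG β
      refine ⟨χ, (Helper81.invariant_iff G S hnorm _).mpr hχ, _, hms χ β, hβ⟩

end Cfsg.Agent.S4444
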