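import Cfsg.Statements.S4713
import Mathlib
import Cfsg.Agent.Helper80.ItoConv
import Cfsg.Agent.Helper74.Ito

set_option autoImplicit false
open Cfsg

namespace Cfsg.Agent.S4713

open Cfsg.Agent.Helper80

/-- Let p be a prime and G a finite p-solvable group. Then G has a normal abelian Sylow p-subgroup if and only if the degree of every irreducible character of G is prime to p. -/
theorem result {G : Type*} [Group G] [Finite G] (p : ℕ) [Fact p.Prime] (hsolv : Cfsg.IsPSolvable p G) (P : Sylow p G) : ((P : Subgroup G).Normal ∧ IsMulCommutative P) ↔ ∀ χ : Cfsg.IrrCharacter G, ¬ p ∣ Cfsg.charDegree (χ : G → ℂ) := by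
  constructor
  · rintro ⟨hn, hc⟩ χ hdvd
    have := Fintype.ofFinite G
    haveI := hn
    obtain ⟨n, h1, h2⟩ := Cfsg.Agent.Helper74.ito_degree_dvd_index (P : Subgroup G)
      (fun a ha b hb => by
        have := hc.is_comm.comm (⟨a, ha⟩ : P) ⟨b, hb⟩
        exact congrArg Subtype.val this) χ.2
    have h3 : Cfsg.charDegree (χ : G → ℂ) = n := by
      have := IsCharacter.charDegree_cast (IsIrrCharacter.isCharacter χ.2)
      rw [h1] at this
      exact_mod_cast this
    rw [h3] at hdvd
    exact P.not_dvd_index (hdvd.trans h2)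
  · intro h
    have hdeg : ∀ χ : G → ℂ, Cfsg.IsIrrCharacter G χ → ¬ p ∣ Cfsg.charDegree χ :=
      fun χ hχ => h ⟨χ, hχ⟩
    have hn := sylow_normal_of_degrees p hsolv hdeg P
    exact ⟨hn, sylow_comm_of_normal p hdeg P hn⟩

end Cfsg.Agent.S4713
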