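import Cfsg.Statements.S4736
import Cfsg.Agent.S4713
import Cfsg.Agent.Helper79.PrincipalQuot
import Cfsg.Agent.Helper79.TwoPrimes
import Cfsg.Agent.Helper11.PSolvable
import Cfsg.Agent.Helper22.PComponent
import Cfsg.Agent.Helper77.SupportOn
import Cfsg.Agent.Helper77.BlockOrth
import Cfsg.Agent.Lib.Cores

set_option autoImplicit false
open Cfsg

namespace Cfsg.Agent.S4736

open Cfsg.Agent.Helper79
open scoped ComplexConjugate

section
variable {G : Type*} [Group G] [Fintype G]

/-- The indicator of a set of irreducible characters through the block idempotent coefficients. -/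
theorem indicator_eq_sum_blockCoeff (B : Set (IrrCharacter G)) [DecidablePred (· ∈ B)]
    (χ : IrrCharacter G) :
    (if χ ∈ B then (χ : G → ℂ) 1 else 0) =
      ∑ g : G, blockCoeff B g⁻¹ * conj ((χ : G → ℂ) g) := by
  classical
  have : Finite (IrrCharacter G) := irr_finite'
  have := Fintype.ofFinite (IrrCharacter G)
  simp only [blockCoeff_inv_eq_sum, Finset.mul_sum, Finset.sum_mul]
  rw [Finset.sum_comm]
  have : ∀ ψ : IrrCharacter G,
      ∑ g : G, (Nat.card G : ℂ)⁻¹ * (if ψ ∈ B then (ψ : G → ℂ) 1 * (ψ : G → ℂ) g else 0) *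
        conj ((χ : G → ℂ) g) =
      (if ψ ∈ B then (ψ : G → ℂ) 1 else 0) * classInner (ψ : G → ℂ) (χ : G → ℂ) := by
    intro ψ
    unfold classInner
    rw [Finset.mul_sum, Finset.mul_sum]
    refine Finset.sum_congr rfl fun g _ => ?_
    split_ifs <;> ring
  simp only [this]
  rw [Finset.sum_eq_single χ]
  · rw [classInner_irr_self, mul_one]
  · intro ψ _ hne
    rw [classInner_irr_ne hne, mul_zero]
  · intro h; exact absurd (Finset.mem_univ _) h

/-- If `O_p(G)` contains its centralizer, `G` has a unique `p`-block. -/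
theorem block_eq_univ {p : ℕ} [Fact p.Prime] {M : Ideal AlgInt} (hM : IsPModular p M)
    (hC : Subgroup.centralizer ((pCore p G : Subgroup G) : Set G) ≤ pCore p G)
    {B : Set (IrrCharacter G)} (hB : IsPBlock M B) : B = Set.univ := by
  classical
  have hMp := Helper77.isPrime_of_isPModular hM
  have hzero : ∀ g : G, g ≠ 1 → blockCoeff B g = 0 := by
    intro g hg
    by_cases hmem : g ∈ Subgroup.centralizer ((pCore p G : Subgroup G) : Set G)
    · have hgp : g ∈ pCore p G := hC hmem
      obtain ⟨k, hk⟩ := (IsPGroup.iff_orderOf.1 (Cfsg.Agent.Lib.isPGroup_pCore p))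
        ⟨g, hgp⟩
      rw [Subgroup.orderOf_mk] at hk
      have hk1 : k ≠ 0 := by
        intro h0
        rw [h0, pow_zero, orderOf_eq_one_iff] at hk
        exact hg hk
      refine Helper77.blockCoeff_eq_zero_of_dvd_orderOf hM hB g ?_
      rw [hk]
      exact dvd_pow_self p hk1
    · exact Helper77.blockCoeff_eq_zero_of_not_mem_centralizer hM (pCore p G)
        (Cfsg.Agent.Lib.isPGroup_pCore p) hB g hmem
  have hind : ∀ χ : IrrCharacter G,
      (if χ ∈ B then (χ : G → ℂ) 1 else 0) = blockCoeff B 1 * (χ : G → ℂ) 1 := by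
    intro χ
    rw [indicator_eq_sum_blockCoeff B χ, Finset.sum_eq_single 1]
    · rw [inv_one, irr_one, Complex.conj_natCast]
    · intro g _ hg
      rw [hzero g⁻¹ (inv_ne_one.2 hg), zero_mul]
    · intro h; exact absurd (Finset.mem_univ _) h
  obtain ⟨χ₀, rfl⟩ := hB
  have hχ₀ : χ₀ ∈ blockOf M (χ₀ : G → ℂ) := Helper16.sameBlock_refl _
  have h1 := hind χ₀
  rw [if_pos hχ₀] at h1
  have hb : blockCoeff (blockOf M (χ₀ : G → ℂ)) 1 = 1 := by
    have hne := irr_one_ne_zero χ₀
    have : (blockCoeff (blockOf M (χ₀ : G → ℂ)) 1 - 1) * (χ₀ : G → ℂ) 1 = 0 := by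
      rw [sub_mul, ← h1, one_mul, sub_self]
    rcases mul_eq_zero.1 this with h | h
    · exact sub_eq_zero.1 h
    · exact absurd h hne
  rw [Set.eq_univ_iff_forall]
  intro ψ
  by_contra hψ
  have h2 := hind ψ
  rw [if_neg hψ, hb, one_mul] at h2
  exact irr_one_ne_zero ψ h2.symm

end

section
variable {G : Type*} [Group G] [Finite G]

/-- The height of a member of the principal block is the `p`-adic valuation of its degree. -/
theorem blockHeight_principalBlock {p : ℕ} {M : Ideal AlgInt} [hMp : M.IsPrime]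
    (χ : G → ℂ) :
    blockHeight p (principalBlock M G) χ = (charDegree χ).factorization p := by
  have := Fintype.ofFinite G
  unfold blockHeight
  have hmem : (0 : ℕ) ∈ ((fun ψ : IrrCharacter G => (charDegree (ψ : G → ℂ)).factorization p) ''
      principalBlock M G) := by
    refine ⟨principalIrr G, Helper16.sameBlock_refl _, ?_⟩
    have h1 : charDegree ((principalIrr G : IrrCharacter G) : G → ℂ) = 1 := by
      apply charDegree_natCast_fun (n := 1)
      simp [principalIrr]
    show (charDegree ((principalIrr G : IrrCharacter G) : G → ℂ)).factorization p = 0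
    rw [h1]
    simp
  have : sInf ((fun ψ : IrrCharacter G => (charDegree (ψ : G → ℂ)).factorization p) ''
      principalBlock M G) = 0 := by
    apply Nat.eq_zero_of_le_zero
    exact Nat.sInf_le hmem
  rw [this, Nat.sub_zero]

/-- The case `O_{p'}(G) = 1`. -/
theorem core_case (p : ℕ) [Fact p.Prime] (M : Ideal AlgInt) (hM : IsPModular p M)
    (hsolv : IsPSolvable p G) (hO : pPrimeCore p G = ⊥) (P : Sylow p G) :
    IsMulCommutative P ↔ ∀ χ : IrrCharacter G, ¬ p ∣ charDegree (χ : G → ℂ) := by
  have hHH := Cfsg.Agent.Helper11.centralizer_pCore_le_of_isPSolvable hsolv hO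
  rw [← Cfsg.Agent.S4713.result p hsolv P]
  constructor
  · intro hcomm
    refine ⟨?_, hcomm⟩
    have hle : pCore p G ≤ (P : Subgroup G) := Cfsg.Agent.Lib.pCore_le_sylow P
    have hPle : (P : Subgroup G) ≤ pCore p G := by
      intro x hx
      apply hHH
      rw [Subgroup.mem_centralizer_iff]
      intro y hy
      have hyP : y ∈ (P : Subgroup G) := hle hy
      have := hcomm.is_comm.comm (⟨y, hyP⟩ : (P : Subgroup G)) ⟨x, hx⟩
      exact congrArg Subtype.val this
    have heq : (P : Subgroup G) = pCore p G := le_antisymm hPle hle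
    rw [heq]
    infer_instance
  · intro h
    exact h.2

end

/-- Let p be a prime, M a maximal ideal of the algebraic integers containing p, and G a finite p-solvable group with Sylow p-subgroup P. Then P is abelian if and only if every irreducible character in the principal p-block of G has height zero. -/
theorem result {G : Type*} [Group G] [Finite G] (p : ℕ) [Fact p.Prime] (M : Ideal Cfsg.AlgInt) (hM : Cfsg.IsPModular p M) (hsolv : Cfsg.IsPSolvable p G) (P : Sylow p G) : IsMulCommutative P ↔ ∀ χ ∈ Cfsg.principalBlock M G, Cfsg.blockHeight p (Cfsg.principalBlock M G) (χ : G → ℂ) = 0 := by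
  classical
  have hp : p.Prime := Fact.out
  have hMp := Helper77.isPrime_of_isPModular hM
  set K := Cfsg.pPrimeCore p G with hKdef
  have hK : (Nat.card K).Coprime p := Cfsg.Agent.Lib.card_pPrimeCore_coprime p
  have := Fintype.ofFinite (G ⧸ K)
  -- the quotient
  have hsolvQ : IsPSolvable p (G ⧸ K) := Cfsg.Agent.Helper11.isPSolvable_quotient K hsolv
  have hOQ : pPrimeCore p (G ⧸ K) = ⊥ := Cfsg.Agent.Helper22.pPrimeCore_quotient_eq_bot p
  have hHH := Cfsg.Agent.Helper11.centralizer_pCore_le_of_isPSolvable hsolvQ hOQ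
  have huniv : principalBlock M (G ⧸ K) = Set.univ :=
    block_eq_univ hM hHH ⟨principalIrr (G ⧸ K), rfl⟩
  -- the image Sylow subgroup
  set Pbar : Sylow p (G ⧸ K) := P.mapSurjective (QuotientGroup.mk'_surjective K) with hPbar
  have hcommiff : IsMulCommutative P ↔ IsMulCommutative Pbar := by
    have hinj : ∀ x ∈ (P : Subgroup G), x ∈ K → x = 1 := by
      intro x hxP hxK
      have h1 : orderOf x ∣ Nat.card K := by
        have := orderOf_dvd_natCard (⟨x, hxK⟩ : K)
        rwa [Subgroup.orderOf_mk] at this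
      obtain ⟨k, hk⟩ := (IsPGroup.iff_orderOf.1 P.isPGroup') ⟨x, hxP⟩
      rw [Subgroup.orderOf_mk] at hk
      rw [hk] at h1
      have hcop : Nat.Coprime (p ^ k) (Nat.card K) := Nat.Coprime.pow_left _ hK.symm
      have h2 : p ^ k = 1 := Nat.Coprime.eq_one_of_dvd hcop h1
      rw [h2, orderOf_eq_one_iff] at hk
      exact hk
    constructor
    · intro hcomm
      refine ⟨⟨fun a b => ?_⟩⟩
      obtain ⟨a, ha⟩ := a
      obtain ⟨b, hb⟩ := b
      have ha' : a ∈ (P : Subgroup G).map (QuotientGroup.mk' K) := ha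
      have hb' : b ∈ (P : Subgroup G).map (QuotientGroup.mk' K) := hb
      obtain ⟨x, hx, rfl⟩ := ha'
      obtain ⟨y, hy, rfl⟩ := hb'
      apply Subtype.ext
      show (QuotientGroup.mk' K) x * (QuotientGroup.mk' K) y =
        (QuotientGroup.mk' K) y * (QuotientGroup.mk' K) x
      have := hcomm.is_comm.comm (⟨x, hx⟩ : (P : Subgroup G)) ⟨y, hy⟩
      have hxy : x * y = y * x := congrArg Subtype.val this
      rw [← map_mul, ← map_mul, hxy]
    · intro hcomm
      refine ⟨⟨fun a b => ?_⟩⟩
      obtain ⟨x, hx⟩ := a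
      obtain ⟨y, hy⟩ := b
      apply Subtype.ext
      show x * y = y * x
      have hxm : (QuotientGroup.mk' K) x ∈ (Pbar : Subgroup (G ⧸ K)) :=
        Subgroup.mem_map_of_mem _ hx
      have hym : (QuotientGroup.mk' K) y ∈ (Pbar : Subgroup (G ⧸ K)) :=
        Subgroup.mem_map_of_mem _ hy
      have := hcomm.is_comm.comm (⟨_, hxm⟩ : (Pbar : Subgroup (G ⧸ K))) ⟨_, hym⟩
      have h1 : (QuotientGroup.mk' K) x * (QuotientGroup.mk' K) y =
          (QuotientGroup.mk' K) y * (QuotientGroup.mk' K) x := congrArg Subtype.val this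
      rw [← map_mul, ← map_mul] at h1
      have h2 : (x * y)⁻¹ * (y * x) ∈ K := by
        rw [← QuotientGroup.eq]
        exact h1
      have h3 : (x * y)⁻¹ * (y * x) ∈ (P : Subgroup G) :=
        (P : Subgroup G).mul_mem ((P : Subgroup G).inv_mem ((P : Subgroup G).mul_mem hx hy))
          ((P : Subgroup G).mul_mem hy hx)
      have h4 := hinj _ h3 h2
      exact (inv_mul_eq_one.1 h4)
  rw [hcommiff, core_case p M hM hsolvQ hOQ Pbar]
  have hdeg : ∀ ψ : IrrCharacter (G ⧸ K),
      charDegree (((Helper80.irrQuotientEquiv K ψ).1 : IrrCharacter G) : G → ℂ) =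
        charDegree (ψ : G ⧸ K → ℂ) := by
    intro ψ
    rfl
  constructor
  · intro h χ hχ
    rw [blockHeight_principalBlock]
    have hker := principalBlock_ker hM K hK χ hχ
    have h1 := h ((Helper80.irrQuotientEquiv K).symm ⟨χ, hker⟩)
    rw [← hdeg, Equiv.apply_symm_apply] at h1
    exact Nat.factorization_eq_zero_of_not_dvd h1
  · intro h ψ
    have hψ : ψ ∈ principalBlock M (G ⧸ K) := by rw [huniv]; trivial
    have h1 := h _ ((mem_principalBlock_quotient_iff hM K hK ψ).1 hψ)
    rw [blockHeight_principalBlock, hdeg] at h1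
    intro hdvd
    have hpos := irr_charDegree_pos ψ
    have := (hp.dvd_iff_one_le_factorization hpos.ne').1 hdvd
    omega

end Cfsg.Agent.S4736
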