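import Cfsg.Statements.S0965
import Cfsg.Agent.Helper16.Covering2
import Cfsg.Agent.Helper78.BlockBasic

set_option autoImplicit false
open Cfsg

namespace Cfsg.Agent.S0965

open Cfsg.Agent.Helper16 Cfsg.Agent.Helper15

/-- Let N be a normal subgroup of the finite group G, B a block of G and b a block of N relative to a maximal ideal M of the algebraic integers containing the prime p. Then some member of B has a constituent in b on restriction to N if and only if, for every χ ∈ B, every θ ∈ b and every n ∈ N, the central character of χ at n is congruent modulo M to the sum of θ m / θ 1 over the elements m of N conjugate in G to n. -/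
theorem result {G : Type*} [Group G] [Fintype G] (p : ℕ) [Fact p.Prime] (M : Ideal Cfsg.AlgInt) (hM : Cfsg.IsPModular p M) (N : Subgroup G) [N.Normal] [Fintype N] (B : Set (Cfsg.IrrCharacter G)) (hB : Cfsg.IsPBlock M B) (b : Set (Cfsg.IrrCharacter N)) (hb : Cfsg.IsPBlock M b) : (∃ χ ∈ B, ∃ θ ∈ b, Cfsg.classInner (fun n : N => (χ : G → ℂ) n) (θ : N → ℂ) ≠ 0) ↔ ∀ χ ∈ B, ∀ θ ∈ b, ∀ n : N, Cfsg.MemLocalIdeal M (Cfsg.centralChar (χ : G → ℂ) (n : G) - Cfsg.inducedCentralChar N (θ : N → ℂ) (n : G)) := by
  classical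
  haveI hMp : M.IsPrime := IsPModular.isPrime hM
  constructor
  · rintro ⟨χ₀, hχ₀, θ₀, hθ₀, hcon⟩ χ hχ θ hθ n
    have h1 : SameBlock M (χ : G → ℂ) (χ₀ : G → ℂ) :=
      Helper78.sameBlock_of_mem_of_mem hMp hB hχ hχ₀
    have h2 : SameBlock M (θ₀ : N → ℂ) (θ : N → ℂ) :=
      Helper78.sameBlock_of_mem_of_mem hMp hb hθ₀ hθ
    have h3 := centralChar_eq_of_constituent N χ₀ θ₀ hcon n
    have h4 := inducedCentralChar_sub_memLocalIdeal (M := M) N h2 (n : G)
    have h5 := h1 (n : G)
    have h6 := memLocalIdeal_add h5 h4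
    rw [h3] at h6
    have : centralChar (χ : G → ℂ) (n : G) - inducedCentralChar N (θ₀ : N → ℂ) (n : G) +
        (inducedCentralChar N (θ₀ : N → ℂ) (n : G) - inducedCentralChar N (θ : N → ℂ) (n : G)) =
        centralChar (χ : G → ℂ) (n : G) - inducedCentralChar N (θ : N → ℂ) (n : G) := by ring
    rwa [this] at h6
  · intro H
    obtain ⟨χ, hχ⟩ := Helper78.isPBlock_nonempty hMp hB
    obtain ⟨θ, hθ⟩ := Helper78.isPBlock_nonempty hMp hb
    have hO := gStable_conjUnion N b
    have hR := memLocalRing_blockCoeff_conjUnion (M := M) N hb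
    set S : G → ℂ := extendByZero N (blockCoeff (conjUnion N b)) with hS
    have hcf : IsClassFunction G S :=
      isClassFunction_extendByZero N (blockCoeff_conj_of_gStable N hO)
    have hSR : ∀ x, MemLocalRing M (S x) := memLocalRing_extendByZero N hR
    have h1 := omega_eq_sum_classes (χ : G → ℂ) S (irr_isClassFunction χ) hcf
    have h2 := omega_restrict_eq_sum_classes N (θ : N → ℂ) hcf
    have hres : (fun n : N => S n) = blockCoeff (conjUnion N b) := by
      funext n
      rw [hS, extendByZero_coe]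
    rw [hres, omega_blockCoeff, if_pos (subset_conjUnion N b hθ)] at h2
    have hdiff : MemLocalIdeal M (omega (χ : G → ℂ) S - 1) := by
      rw [h1, h2, ← Finset.sum_sub_distrib]
      refine memLocalIdeal_sum _ _ (fun C _ => ?_)
      rw [← mul_sub]
      by_cases hC : classRep C ∈ N
      · exact memLocalIdeal_mul_left (hSR _) (H χ hχ θ hθ ⟨classRep C, hC⟩)
      · rw [hS, extendByZero_of_not_mem N _ hC, zero_mul]
        exact memLocalIdeal_zero
    rw [omega_ext_blockCoeff N χ hO] at hdiff
    by_cases hL : LiesOver N (χ : G → ℂ) (conjUnion N b)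
    · obtain ⟨θ', hθ', hθ'χ⟩ := liesOver_of_liesOver_conjUnion N (irr_isClassFunction χ) hL
      exact ⟨χ, hχ, θ', hθ', hθ'χ⟩
    · exfalso
      rw [if_neg hL, zero_sub] at hdiff
      exact not_memLocalIdeal_one (by simpa using memLocalIdeal_neg hdiff)

end Cfsg.Agent.S0965
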