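import Cfsg.Statements.S0971
import Cfsg.Agent.S0965
import Cfsg.Agent.Helper16.Covering3
import Cfsg.Agent.Helper77.NormalP

set_option autoImplicit false
open Cfsg

namespace Cfsg.Agent.S0971

open Cfsg.Agent.Helper16 Cfsg.Agent.Helper15

/-- The induced central character from a normal subgroup vanishes outside it. -/
theorem inducedCentralChar_eq_zero_of_not_mem {G : Type*} [Group G] (N : Subgroup G) [hN : N.Normal]
    (ξ : N → ℂ) {g : G} (hg : g ∉ N) : inducedCentralChar N ξ g = 0 := by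
  unfold inducedCentralChar
  have hempty : {h : N | IsConj g (h : G)} = ∅ := by
    ext h
    simp only [Set.mem_setOf_eq, Set.mem_empty_iff_false, iff_false]
    intro hc
    apply hg
    obtain ⟨c, hc'⟩ := isConj_iff.mp hc.symm
    rw [← hc']
    exact hN.conj_mem _ h.2 c
  rw [hempty, finsum_mem_empty]

/-- A block of `G` covering the block `b` of `H = Q C_G(Q)` is induced from `b`. -/
theorem isInducedBlock_of_cover {G : Type*} [Group G] [Fintype G] (p : ℕ) [Fact p.Prime]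
    (M : Ideal AlgInt) (hM : IsPModular p M) (Q : Subgroup G) [Q.Normal] (hQ : IsPGroup p Q)
    [Fintype ↥(Q ⊔ Subgroup.centralizer (Q : Set G))]
    (b : Set (IrrCharacter ↥(Q ⊔ Subgroup.centralizer (Q : Set G)))) (hb : IsPBlock M b)
    (B : Set (IrrCharacter G)) (hB : IsPBlock M B)
    (hcov : ∃ χ ∈ B, ∃ θ ∈ b, classInner
      (fun n : ↥(Q ⊔ Subgroup.centralizer (Q : Set G)) => (χ : G → ℂ) n)
      (θ : ↥(Q ⊔ Subgroup.centralizer (Q : Set G)) → ℂ) ≠ 0) :
    IsInducedBlock M (Q ⊔ Subgroup.centralizer (Q : Set G)) b B := by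
  haveI hMp : M.IsPrime := IsPModular.isPrime hM
  have hpass := (Cfsg.Agent.S0965.result p M hM (Q ⊔ Subgroup.centralizer (Q : Set G)) B hB b hb).mp
    hcov
  refine ⟨hb, hB, ?_⟩
  intro ξ hξ χ hχ g
  by_cases hg : g ∈ Q ⊔ Subgroup.centralizer (Q : Set G)
  · have := hpass χ hχ ξ hξ ⟨g, hg⟩
    have h2 := memLocalIdeal_neg this
    rwa [neg_sub] at h2
  · rw [inducedCentralChar_eq_zero_of_not_mem _ _ hg, zero_sub]
    apply memLocalIdeal_neg
    apply Helper77.centralChar_memLocalIdeal_of_not_mem_centralizer hM Q hQ g _ χ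
    intro hgc
    exact hg (Subgroup.mem_sup_right hgc)

/-- If Q is a normal p-subgroup and b is a p-block of Q·C_G(Q), then b induces a block of G and that block is the only block of G covering b. -/
theorem result {G : Type*} [Group G] [Fintype G] (p : ℕ) [Fact p.Prime] (M : Ideal Cfsg.AlgInt) (hM : Cfsg.IsPModular p M) (Q : Subgroup G) [Q.Normal] (hQ : IsPGroup p Q) [Fintype ↥(Q ⊔ Subgroup.centralizer (Q : Set G))] (b : Set (Cfsg.IrrCharacter ↥(Q ⊔ Subgroup.centralizer (Q : Set G)))) (hb : Cfsg.IsPBlock M b) : Cfsg.InducedBlockDefined M (Q ⊔ Subgroup.centralizer (Q : Set G)) b ∧ ∀ B : Set (Cfsg.IrrCharacter G), Cfsg.IsPBlock M B → (∃ χ ∈ B, ∃ θ ∈ b, Cfsg.classInner (fun n : ↥(Q ⊔ Subgroup.centralizer (Q : Set G)) => (χ : G → ℂ) n) (θ : ↥(Q ⊔ Subgroup.centralizer (Q : Set G)) → ℂ) ≠ 0) → Cfsg.IsInducedBlock M (Q ⊔ Subgroup.centralizer (Q : Set G)) b B := by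
  haveI hMp : M.IsPrime := IsPModular.isPrime hM
  constructor
  · obtain ⟨θ, hθ⟩ : b.Nonempty := by
      obtain ⟨θ₀, rfl⟩ := hb
      exact ⟨θ₀, sameBlock_refl _⟩
    obtain ⟨χ, hχθ⟩ := exists_irr_over (Q ⊔ Subgroup.centralizer (Q : Set G)) θ
    exact ⟨blockOf M (χ : G → ℂ), isInducedBlock_of_cover p M hM Q hQ b hb _ ⟨χ, rfl⟩
      ⟨χ, sameBlock_refl _, θ, hθ, hχθ⟩⟩
  · intro B hB hcov
    exact isInducedBlock_of_cover p M hM Q hQ b hb B hB hcov

end Cfsg.Agent.S0971
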