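import Cfsg.Statements.S5748
import Cfsg.Agent.Helper95.CTGroup6
import Cfsg.Agent.Helper75.CASolvable
import Cfsg.Agent.Helper53.NormalComplement
import Cfsg.Agent.S1230
import Cfsg.Agent.S4065

set_option autoImplicit false
open Cfsg

namespace Cfsg.Agent.S5748

open Cfsg.Agent.Helper75 Cfsg.Agent.Helper95.CT

/-- A finite non-abelian simple group of even order is not a `2`-group. -/
theorem sylow_ne_top {G : Type*} [Group G] [Finite G] [IsSimpleGroup G]
    (hnc : ¬ ∀ a b : G, a * b = b * a) (P : Sylow 2 G) : (P : Subgroup G) ≠ ⊤ := by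
  intro htop
  have : Fact (Nat.Prime 2) := ⟨Nat.prime_two⟩
  have hp : IsPGroup 2 G := by
    have h1 := P.2
    rw [htop] at h1
    exact IsPGroup.of_equiv h1 Subgroup.topEquiv
  have hnt : Nontrivial G := IsSimpleGroup.toNontrivial
  have hc : Nontrivial (Subgroup.center G) := hp.center_nontrivial
  have hcne : Subgroup.center G ≠ ⊥ := (Subgroup.nontrivial_iff_ne_bot _).mp hc
  have hctop : Subgroup.center G = ⊤ :=
    ((inferInstance : (Subgroup.center G).Normal).eq_bot_or_eq_top).resolve_left hcne
  apply hnc
  intro a b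
  have : a ∈ Subgroup.center G := by rw [hctop]; trivial
  exact (Subgroup.mem_center_iff.mp this b).symm

/-- A finite non-abelian simple group in which commuting is a transitive relation on the non-identity elements (equivalently, every non-identity element has abelian centraliser) is isomorphic to PSL₂ over a field with 2^f elements for some f ≥ 2; conversely these groups have that property. -/
theorem result {G : Type*} [Group G] [Finite G] [IsSimpleGroup G] (hG : ¬ IsMulCommutative G) :
    (∀ a b c : G, a ≠ 1 → b ≠ 1 → c ≠ 1 → Commute a b → Commute b c → Commute a c) ↔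
    ∃ (F : Type) (_ : Field F) (_ : Fintype F) (f : ℕ), 2 ≤ f ∧ Fintype.card F = 2 ^ f ∧ Nonempty (G ≃* Matrix.ProjectiveSpecialLinearGroup (Fin 2) F) := by
  classical
  have hnc : ¬ ∀ a b : G, a * b = b * a := by
    intro h
    exact hG ⟨⟨h⟩⟩
  constructor
  · intro hCT
    have : Fact (Nat.Prime 2) := ⟨Nat.prime_two⟩
    -- CA-group
    have hCA : IsCA G := by
      intro x hx a ha b hb
      by_cases ha1 : a = 1
      · rw [ha1, one_mul, mul_one]
      by_cases hb1 : b = 1
      · rw [hb1, one_mul, mul_one]
      have h1 : Commute a x := Subgroup.mem_centralizer_singleton_iff.mp ha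
      have h2 : Commute x b := (Subgroup.mem_centralizer_singleton_iff.mp hb).symm
      exact hCT a x b ha1 hx hb1 h1 h2
    -- even order
    have heven : 2 ∣ Nat.card G := by
      by_contra hodd
      have hodd' : Odd (Nat.card G) := by
        rw [← Nat.not_even_iff_odd, even_iff_two_dvd]
        exact hodd
      have hsol := ca_solvable (Nat.card G) G rfl hodd' hCA
      exact hnc (IsSimpleGroup.comm_iff_isSolvable.mpr hsol)
    -- the hypotheses of `S1230`
    have hC : ∀ t : G, orderOf t = 2 →
        IsMulCommutative (Subgroup.centralizer ({t} : Set G)) ∧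
          ∀ c ∈ Subgroup.centralizer ({t} : Set G), c ^ 2 = 1 := by
      intro t ht
      let c : CTData G := ⟨hCA, hnc, t, ht⟩
      refine ⟨⟨⟨fun a b => Subtype.ext (c.hab a.1 a.2 b.1 b.2)⟩⟩, ?_⟩
      exact c.exponent_two
    obtain ⟨T⟩ : Nonempty (Sylow 2 G) := inferInstance
    have hTne : (T : Subgroup G) ≠ ⊥ := T.ne_bot_of_dvd_card heven
    have hTtop : (T : Subgroup G) ≠ ⊤ := sylow_ne_top hnc T
    have hnn : ¬ (T : Subgroup G).Normal := by
      intro hn
      rcases hn.eq_bot_or_eq_top with h | h
      · exact hTne h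
      · exact hTtop h
    have hncyc : ¬ IsCyclic (T : Subgroup G) := by
      intro hcyc
      obtain ⟨P, K, hKn, hK⟩ := Cfsg.Agent.Helper53.hasNormalPComplement_two_of_isCyclic T hcyc
      rcases hKn.eq_bot_or_eq_top with h | h
      · rw [h] at hK
        exact sylow_ne_top hnc P (Subgroup.isComplement'_bot_left.mp hK)
      · rw [h] at hK
        exact P.ne_bot_of_dvd_card heven (Subgroup.isComplement'_top_left.mp hK)
    obtain ⟨F, hF, hFt, hcard, ⟨e⟩⟩ := Cfsg.Agent.S1230.result T hncyc hnn hC
    obtain ⟨f, hf⟩ := (IsPGroup.iff_card.mp T.2)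
    refine ⟨F, hF, hFt, f, ?_, by rw [hcard, hf], ⟨e⟩⟩
    -- `f ≥ 2`
    by_contra hlt
    have hf01 : f = 0 ∨ f = 1 := by omega
    rcases hf01 with h | h
    · rw [h, pow_zero] at hf
      exact hTne ((Subgroup.card_eq_one).mp hf)
    · rw [h, pow_one] at hf
      exact hncyc (isCyclic_of_prime_card hf)
  · rintro ⟨F, hF, hFt, f, hf2, hcard, ⟨e⟩⟩
    have h2 : (2 : F) = 0 := by
      have h1 := FiniteField.cast_card_eq_zero F
      rw [hcard] at h1
      push_cast at h1
      exact pow_eq_zero_iff (by omega) |>.mp h1
    have hchar : CharP F 2 := CharTwo.of_one_ne_zero_of_two_eq_zero one_ne_zero h2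
    intro a b c _ hb _ hab hbc
    have hb' : e b ≠ 1 := by
      intro h
      apply hb
      have : e b = e 1 := by rw [h, map_one]
      exact e.injective this
    have hab' : Commute (e a) (e b) := by
      show e a * e b = e b * e a
      rw [← map_mul, ← map_mul, hab.eq]
    have hbc' : Commute (e b) (e c) := by
      show e b * e c = e c * e b
      rw [← map_mul, ← map_mul, hbc.eq]
    have hac' := Cfsg.Agent.S4065.psl_ct (e a) (e b) (e c) hb' hab' hbc'
    show a * c = c * a
    apply e.injective
    rw [map_mul, map_mul]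
    exact hac'.eq

end Cfsg.Agent.S5748
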