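import Cfsg.Statements.S0239
import Mathlib


set_option autoImplicit false
open Cfsg

namespace Cfsg.Agent.S0239

/-- If some nontrivial element x of a finite group G is conjugate to x⁻¹, then |G| is even. -/
theorem result {G : Type*} [Group G] [Finite G] (x : G) (hx : x ≠ 1) (hreal : IsConj x x⁻¹) : Even (Nat.card G) := by
  obtain ⟨c, hc⟩ := isConj_iff.mp hreal
  by_contra hodd
  rw [Nat.not_even_iff_odd] at hodd
  -- c has odd order
  have hco : Odd (orderOf c) := Odd.of_dvd_nat hodd (orderOf_dvd_natCard c)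
  -- c^2 commutes with x
  have h2 : ∀ k : ℕ, c ^ (2 * k) * x * (c ^ (2 * k))⁻¹ = x := by
    intro k
    induction k with
    | zero => simp
    | succ k ih =>
      have : c ^ (2 * (k + 1)) = c * c * c ^ (2 * k) := by
        rw [show 2 * (k + 1) = 1 + 1 + 2 * k by ring, pow_add, pow_add, pow_one]
      rw [this]
      calc c * c * c ^ (2 * k) * x * (c * c * c ^ (2 * k))⁻¹
          = c * (c * (c ^ (2 * k) * x * (c ^ (2 * k))⁻¹) * c⁻¹) * c⁻¹ := by group
        _ = c * (c * x * c⁻¹) * c⁻¹ := by rw [ih]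
        _ = c * x⁻¹ * c⁻¹ := by rw [hc]
        _ = (c * x * c⁻¹)⁻¹ := by group
        _ = x := by rw [hc, inv_inv]
  obtain ⟨m, hm⟩ := hco
  have h3 := h2 (m + 1)
  have : c ^ (2 * (m + 1)) = c := by
    rw [show 2 * (m + 1) = (2 * m + 1) + 1 by ring, ← hm, pow_succ, pow_orderOf_eq_one, one_mul]
  rw [this, hc] at h3
  -- x⁻¹ = x so x^2 = 1, so orderOf x = 2 divides odd
  have hx2 : x ^ 2 = 1 := by
    rw [pow_two]
    nth_rewrite 1 [← h3]
    simp
  have : orderOf x = 2 := orderOf_eq_prime hx2 hx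
  have hdvd : 2 ∣ Nat.card G := this ▸ orderOf_dvd_natCard x
  exact (Nat.not_even_iff_odd.mpr hodd) (even_iff_two_dvd.mpr hdvd)

end Cfsg.Agent.S0239
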