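import Cfsg.Statements.S0194
import Mathlib
import Cfsg.Agent.Helper79.CharBasic
import Cfsg.Agent.Helper15.ConjChar
import Cfsg.Agent.Helper74.FSCount
import Cfsg.Agent.S0239

set_option autoImplicit false
open scoped ComplexConjugate
open Cfsg

namespace Cfsg.Agent.S0194

open Cfsg.Agent.Helper15
/-- In a group of odd order the only real-valued irreducible character is the principal one. -/
theorem real_irr_eq_one_of_odd {H : Type*} [Group H] [Fintype H] (hodd : Odd (Nat.card H))
    (θ : H → ℂ) (hθ : IsIrrCharacter H θ) (hreal : ∀ h : H, (θ h).im = 0) : θ = fun _ => 1 := by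
  classical
  have hfin : Finite (IrrCharacter H) := Cfsg.Agent.Helper79.irr_finite
  have := Fintype.ofFinite (IrrCharacter H)
  have hcount := Cfsg.Agent.Helper74.sum_real_elements_centralizer (G := H)
  -- the only real element is 1
  have hreal_elt : ∀ g : H, IsConj g g⁻¹ → g = 1 := by
    intro g hg
    by_contra hne
    have := Cfsg.Agent.S0239.result g hne hg
    exact (Nat.not_even_iff_odd.mpr hodd) this
  have hLHS : ∑ g : H, (if IsConj g g⁻¹ then (Nat.card (Subgroup.centralizer ({g} : Set H)) : ℂ) else 0)
      = (Nat.card H : ℂ) := by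
    rw [Finset.sum_eq_single (1 : H)]
    · have h1 : IsConj (1 : H) (1 : H)⁻¹ := by rw [inv_one]
      rw [if_pos h1]
      have hc : Subgroup.centralizer ({1} : Set H) = ⊤ := by
        ext x; simp [Subgroup.mem_centralizer_iff]
      rw [hc, Subgroup.card_top]
    · intro g _ hg
      rw [if_neg (fun h => hg (hreal_elt g h))]
    · intro h; exact absurd (Finset.mem_univ _) h
  rw [hLHS] at hcount
  have hHne : (Nat.card H : ℂ) ≠ 0 := by
    exact_mod_cast (Nat.card_pos (α := H)).ne'
  have hcard : ((Finset.univ.filter (fun χ : IrrCharacter H => ∀ g : H, ((χ : H → ℂ) g).im = 0)).card : ℂ) = 1 := by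
    have : (Nat.card H : ℂ) * 1 = (Nat.card H : ℂ) * ((Finset.univ.filter (fun χ : IrrCharacter H => ∀ g : H, ((χ : H → ℂ) g).im = 0)).card : ℂ) := by
      rw [mul_one]; exact hcount
    exact (mul_left_cancel₀ hHne this).symm
  have hcard' : (Finset.univ.filter (fun χ : IrrCharacter H => ∀ g : H, ((χ : H → ℂ) g).im = 0)).card = 1 := by
    exact_mod_cast hcard
  rw [Finset.card_eq_one] at hcard'
  obtain ⟨χ0, hχ0⟩ := hcard'
  have h1 : (⟨θ, hθ⟩ : IrrCharacter H) ∈ Finset.univ.filter (fun χ : IrrCharacter H => ∀ g : H, ((χ : H → ℂ) g).im = 0) := by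
    rw [Finset.mem_filter]; exact ⟨Finset.mem_univ _, hreal⟩
  have h2 : Cfsg.Agent.Helper74.irrTriv H ∈ Finset.univ.filter (fun χ : IrrCharacter H => ∀ g : H, ((χ : H → ℂ) g).im = 0) := by
    rw [Finset.mem_filter]
    refine ⟨Finset.mem_univ _, fun g => ?_⟩
    simp
  rw [hχ0, Finset.mem_singleton] at h1 h2
  have h3 : (⟨θ, hθ⟩ : IrrCharacter H) = Cfsg.Agent.Helper74.irrTriv H := h1.trans h2.symm
  have h4 := congrArg Subtype.val h3
  exact h4

/-- Let G have odd order, H be a normal subgroup and θ a non-principal irreducible character of H. Then the function induced from θ is orthogonal to its complex conjugate. -/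
theorem result {G : Type*} [Group G] [Fintype G] (hodd : Odd (Nat.card G)) (H : Subgroup G) [H.Normal] (θ : H → ℂ) (hθ : Cfsg.IsIrrCharacter H θ) (hθ1 : θ ≠ fun _ => 1) : Cfsg.classInner (fun g => conj (Cfsg.indFun H θ g)) (Cfsg.indFun H θ) = 0 := by
  classical
  have := Fintype.ofFinite H
  have hHne : (Nat.card H : ℂ) ≠ 0 := by
    exact_mod_cast (Nat.card_pos (α := H)).ne'
  have hHodd : Odd (Nat.card H) := Odd.of_dvd_nat hodd (Subgroup.card_subgroup_dvd_card H)
  set θc : H → ℂ := fun h => conj (θ h) with hθc
  have hθcirr : IsIrrCharacter H θc := (Cfsg.Agent.Helper74.irrConj ⟨θ, hθ⟩).2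
  -- (1) conj of induced = induced of conj
  have h1 : (fun g => conj (indFun H θ g)) = indFun H θc := by
    funext g
    rw [indFun_apply, indFun_apply, map_mul, map_inv₀, Complex.conj_natCast, map_sum]
    congr 1
    apply Finset.sum_congr rfl
    intro x _
    by_cases hx : x⁻¹ * g * x ∈ H
    · rw [extendByZero_of_mem H θ hx, extendByZero_of_mem H θc hx]
    · rw [extendByZero_of_not_mem H θ hx, extendByZero_of_not_mem H θc hx, map_zero]
  rw [h1]
  -- (2) Frobenius reciprocity
  rw [frobenius_reciprocity' H θ (indFun H θc) (isClassFunction_indFun H θc)]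
  rw [indFun_normal_restrict]
  rw [Cfsg.Agent.Helper15.classInner_smul_left, Cfsg.Agent.Helper15.classInner_finset_sum_left]
  -- (3) every term vanishes
  have hterm : ∀ g : G, classInner (conjFun H g θc) θ = 0 := by
    intro g
    have hne : (⟨conjFun H g θc, isIrrCharacter_conjFun H hθcirr g⟩ : IrrCharacter H) ≠ ⟨θ, hθ⟩ := by
      intro heq
      have heq' : conjFun H g θc = θ := congrArg Subtype.val heq
      -- conjFun g θ = θc
      have e1 : conjFun H g θ = θc := by
        funext n
        have := congrFun heq' n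
        rw [conjFun_apply] at this ⊢
        rw [hθc] at this ⊢
        simp only at this ⊢
        rw [← this, Complex.conj_conj]
      -- g*g fixes θ
      have e2 : conjFun H (g * g) θ = θ := by
        rw [conjFun_mul, e1]
        exact heq'
      -- powers of g*g fix θ
      have e3 : ∀ k : ℕ, conjFun H ((g * g) ^ k) θ = θ := by
        intro k
        induction k with
        | zero => rw [pow_zero, conjFun_one]
        | succ k ih => rw [pow_succ, conjFun_mul, ih, e2]
      -- g is a power of g*g
      have hgodd : Odd (orderOf g) := Odd.of_dvd_nat hodd (orderOf_dvd_natCard g)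
      obtain ⟨m, hm⟩ := hgodd
      have e4 : (g * g) ^ (m + 1) = g := by
        rw [← pow_two, ← pow_mul, show 2 * (m + 1) = (2 * m + 1) + 1 by ring, ← hm, pow_succ,
          pow_orderOf_eq_one, one_mul]
      have e5 : conjFun H g θ = θ := by
        have := e3 (m + 1)
        rw [e4] at this
        exact this
      -- θ is real-valued
      have e6 : θc = θ := e1.symm.trans e5
      have hreal : ∀ h : H, (θ h).im = 0 := by
        intro h
        have := congrFun e6 h
        exact Complex.conj_eq_iff_im.mp this
      exact hθ1 (real_irr_eq_one_of_odd hHodd θ hθ hreal)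
    have h2 := Cfsg.Agent.Helper79.classInner_irr_ne hne
    exact h2
  simp_rw [hterm]
  simp

end Cfsg.Agent.S0194
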