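import Cfsg.Statements.S0112

set_option autoImplicit false
open Cfsg

namespace Cfsg.Agent.S0112

universe u

/-- If `Z = Z(X)` has order `p`, `A` has order `p²`, `A` is self-centralizing and `a ∈ A ∖ Z`,
then the centralizer of `a` is contained in `A`. -/
theorem mem_of_commute {X : Type u} [Group X] [Finite X] {p : ℕ} [hp : Fact p.Prime]
    (A : Subgroup X) (hA : Nat.card A = p ^ 2)
    (hC : Subgroup.centralizer (A : Set X) = A)
    (hZ : Nat.card (Subgroup.center X) = p) (a : X) (haA : a ∈ A)
    (haZ : a ∉ Subgroup.center X) (x : X) (hx : x * a = a * x) : x ∈ A := by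
  have hZA : Subgroup.center X ≤ A := by
    rw [← hC]; exact Subgroup.center_le_centralizer _
  set D : Subgroup X := Subgroup.centralizer {x} ⊓ A with hD
  have hZD : Subgroup.center X ≤ D := by
    intro z hz
    refine Subgroup.mem_inf.mpr ⟨?_, hZA hz⟩
    rw [Subgroup.mem_centralizer_singleton_iff]
    exact (Subgroup.mem_center_iff.mp hz x).symm
  have haD : a ∈ D := by
    refine Subgroup.mem_inf.mpr ⟨?_, haA⟩
    rw [Subgroup.mem_centralizer_singleton_iff]
    exact hx.symm
  have hDA : D ≤ A := inf_le_right
  have hdvd : Nat.card D ∣ p ^ 2 := hA ▸ Subgroup.card_dvd_of_le hDA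
  obtain ⟨k, hk, hkD⟩ := (Nat.dvd_prime_pow hp.out).mp hdvd
  have hpD : p ∣ Nat.card D := hZ ▸ Subgroup.card_dvd_of_le hZD
  have hk0 : k ≠ 0 := by
    rintro rfl
    rw [hkD, pow_zero] at hpD
    exact hp.out.one_lt.ne' (Nat.dvd_one.mp hpD)
  have hk1 : k ≠ 1 := by
    rintro rfl
    rw [pow_one] at hkD
    have : Subgroup.center X = D :=
      Subgroup.eq_of_le_of_card_ge hZD (by rw [hkD, hZ])
    exact haZ (this ▸ haD)
  have hk2 : k = 2 := by omega
  have hDA' : D = A := Subgroup.eq_of_le_of_card_ge hDA (by rw [hkD, hk2, hA])
  rw [← hC, Subgroup.mem_centralizer_iff]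
  intro y hy
  have hyD : y ∈ D := hDA' ▸ hy
  have := (Subgroup.mem_inf.mp hyD).1
  rw [Subgroup.mem_centralizer_singleton_iff] at this
  exact this

/-- The homomorphism `x ↦ x⁻¹ a⁻¹ x a` from the preimage of the centralizer of `ā` to the
centre. -/
noncomputable def commHom {X : Type u} [Group X] (a : X) :
    (Subgroup.comap (QuotientGroup.mk' (Subgroup.center X))
      (Subgroup.centralizer {(QuotientGroup.mk' (Subgroup.center X)) a})) →*
      Subgroup.center X :=
  MonoidHom.mk'
    (fun x => ⟨(a * x.1)⁻¹ * (x.1 * a), by
      have hx := x.2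
      rw [Subgroup.mem_comap, Subgroup.mem_centralizer_singleton_iff] at hx
      rw [← map_mul, ← map_mul] at hx
      exact (QuotientGroup.eq (s := Subgroup.center X)).mp hx.symm⟩)
    (by
      intro x y
      apply Subtype.ext
      have hx : (a * x.1)⁻¹ * (x.1 * a) ∈ Subgroup.center X := by
        have hx := x.2
        rw [Subgroup.mem_comap, Subgroup.mem_centralizer_singleton_iff] at hx
        rw [← map_mul, ← map_mul] at hx
        exact (QuotientGroup.eq (s := Subgroup.center X)).mp hx.symm
      have hc := Subgroup.mem_center_iff.mp hx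
      show (a * (x.1 * y.1))⁻¹ * (x.1 * y.1 * a) =
        ((a * x.1)⁻¹ * (x.1 * a)) * ((a * y.1)⁻¹ * (y.1 * a))
      have h1 : (a * (x.1 * y.1))⁻¹ * (x.1 * y.1 * a)
          = y.1⁻¹ * ((a * x.1)⁻¹ * (x.1 * a)) * a⁻¹ * y.1 * a := by group
      rw [h1]
      generalize (a * x.1)⁻¹ * (x.1 * a) = z at hc
      rw [hc (y.1⁻¹)]
      group)

theorem commHom_apply {X : Type u} [Group X] (a : X)
    (x : Subgroup.comap (QuotientGroup.mk' (Subgroup.center X))
      (Subgroup.centralizer {(QuotientGroup.mk' (Subgroup.center X)) a})) :
    ((commHom a x : Subgroup.center X) : X) = (a * x.1)⁻¹ * (x.1 * a) := rfl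

theorem main (p : ℕ) [hp : Fact p.Prime] : ∀ (n : ℕ) (X : Type u) [Group X] [Finite X],
    Nat.card X = p ^ n → ∀ A : Subgroup X, Nat.card A = p ^ 2 →
    Subgroup.centralizer (A : Set X) = A → Group.nilpotencyClass X = n - 1 := by
  intro n
  induction n with
  | zero =>
    intro X _ _ hX A hA hC
    exfalso
    have := Subgroup.card_dvd_of_le (le_top : A ≤ ⊤)
    rw [Subgroup.card_top, hX, hA, pow_zero, Nat.dvd_one] at this
    have h1 : 1 < p ^ 2 := Nat.one_lt_pow (by norm_num) hp.out.one_lt
    omega
  | succ n ih =>
    intro X _ _ hX A hA hC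
    have hpG : IsPGroup p X := IsPGroup.of_card hX
    have hnil : Group.IsNilpotent X := hpG.isNilpotent
    have hp1 : 1 < p := hp.out.one_lt
    have hnt : Nontrivial X := by
      rw [← Finite.one_lt_card_iff_nontrivial, hX]
      exact Nat.one_lt_pow (by omega) hp1
    -- n + 1 ≥ 2
    have hdvd : p ^ 2 ∣ p ^ (n + 1) := by
      have := Subgroup.card_dvd_of_le (le_top : A ≤ ⊤)
      rwa [Subgroup.card_top, hX, hA] at this
    have hn1 : 2 ≤ n + 1 := (Nat.pow_dvd_pow_iff_le_right hp1).mp hdvd
    have hAcomm : ∀ x ∈ A, ∀ y ∈ A, x * y = y * x := by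
      intro x hx y hy
      have hc : IsMulCommutative A := IsPGroup.isMulCommutative_of_card_eq_prime_sq hA
      have := hc.is_comm.comm ⟨x, hx⟩ ⟨y, hy⟩
      exact congrArg Subtype.val this
    by_cases hn2 : n + 1 = 2
    · -- X = A is abelian
      have hAtop : A = ⊤ := by
        apply Subgroup.eq_top_of_card_eq
        rw [hA, hX, hn2]
      have hcomm : ∀ x y : X, x * y = y * x := by
        intro x y
        exact hAcomm x (hAtop ▸ Subgroup.mem_top x) y (hAtop ▸ Subgroup.mem_top y)
      have hle : Group.nilpotencyClass X ≤ 1 := by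
        let _ : CommGroup X := { (inferInstance : Group X) with mul_comm := hcomm }
        exact CommGroup.nilpotencyClass_le_one
      have hne : Group.nilpotencyClass X ≠ 0 := by
        intro h0
        rw [Group.nilpotencyClass_zero_iff_subsingleton] at h0
        exact not_subsingleton X h0
      omega
    · have hn3 : 2 ≤ n := by omega
      set Z : Subgroup X := Subgroup.center X with hZdef
      have hZA : Z ≤ A := by
        rw [← hC]; exact Subgroup.center_le_centralizer _
      -- |Z| = p
      have hZne : Z ≠ A := by
        intro h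
        have : Subgroup.centralizer (A : Set X) = ⊤ := by
          rw [Subgroup.centralizer_eq_top_iff_subset, ← h]
        rw [hC] at this
        have h2 := hA
        rw [this, Subgroup.card_top, hX] at h2
        have := Nat.pow_right_injective (show 2 ≤ p from hp1) h2
        omega
      have hZbot : ⊥ < Z := hpG.bot_lt_center
      have hZdvd : Nat.card Z ∣ p ^ 2 := hA ▸ Subgroup.card_dvd_of_le hZA
      obtain ⟨k, hk, hkZ⟩ := (Nat.dvd_prime_pow hp.out).mp hZdvd
      have hk0 : k ≠ 0 := by
        rintro rfl
        rw [pow_zero] at hkZ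
        have := Subgroup.card_eq_one.mp hkZ
        exact hZbot.ne' this
      have hk2 : k ≠ 2 := by
        rintro rfl
        exact hZne (Subgroup.eq_of_le_of_card_ge hZA (by rw [hkZ, hA]))
      have hk1 : k = 1 := by omega
      have hZcard : Nat.card Z = p := by rw [hkZ, hk1, pow_one]
      -- a ∈ A ∖ Z
      obtain ⟨a, haA, haZ⟩ : ∃ a ∈ A, a ∉ Z := by
        by_contra hcon
        push Not at hcon
        exact hZne (le_antisymm hZA hcon)
      -- the quotient
      have hQcard : Nat.card (X ⧸ Z) = p ^ n := by
        have h1 := Subgroup.card_eq_card_quotient_mul_card_subgroup Z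
        rw [hX, hZcard, pow_succ] at h1
        exact (Nat.eq_of_mul_eq_mul_right hp.out.pos h1).symm
      have hpQ : IsPGroup p (X ⧸ Z) := IsPGroup.of_card hQcard
      have hntQ : Nontrivial (X ⧸ Z) := by
        rw [← Finite.one_lt_card_iff_nontrivial, hQcard]
        exact Nat.one_lt_pow (by omega) hp1
      set π := QuotientGroup.mk' Z with hπ
      set B : Subgroup (X ⧸ Z) := Subgroup.centralizer {π a} with hB
      set C : Subgroup X := B.comap π with hCdef
      have hπa : π a ≠ 1 := by
        intro h
        exact haZ ((QuotientGroup.eq_one_iff a).mp h)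
      -- |C| = |B| * p
      have hCB : Nat.card C = Nat.card B * p := by
        have hidx : C.index = B.index :=
          Subgroup.index_comap_of_surjective B (QuotientGroup.mk'_surjective Z)
        have h1 := C.card_mul_index
        have h2 := B.card_mul_index
        rw [hidx, hX] at h1
        rw [hQcard] at h2
        have hpos : 0 < B.index := Nat.pos_of_ne_zero Subgroup.index_ne_zero_of_finite
        have : Nat.card C * B.index = (Nat.card B * p) * B.index := by
          rw [h1, pow_succ, ← h2]; ring
        exact Nat.eq_of_mul_eq_mul_right hpos this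
      -- |C| ≤ p ^ 3
      have hCle : Nat.card C ≤ p ^ 3 := by
        let f := commHom a
        have h1 := (f.ker).card_mul_index
        rw [Subgroup.index_ker] at h1
        have h2 : Nat.card f.range ≤ p := by
          rw [← hZcard]
          exact Nat.card_le_card_of_injective _ (Subgroup.subtype_injective _)
        have h3 : Nat.card f.ker ≤ p ^ 2 := by
          rw [← hA]
          have hmem : ∀ x : f.ker, (x.1.1 : X) ∈ A := by
            intro x
            have hx : f x.1 = 1 := x.2
            have hx' : ((f x.1 : Subgroup.center X) : X) = 1 := by rw [hx]; rfl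
            rw [commHom_apply] at hx'
            have hx'' : x.1.1 * a = a * x.1.1 := by
              have := inv_mul_eq_one.mp hx'
              exact this.symm
            exact mem_of_commute A hA hC hZcard a haA haZ _ hx''
          apply Nat.card_le_card_of_injective (fun x : f.ker => (⟨x.1.1, hmem x⟩ : A))
          intro x y hxy
          apply Subtype.ext
          apply Subtype.ext
          have h : (x.1.1 : X) = y.1.1 := congrArg (fun t : A => (t : X)) hxy
          exact h
        calc Nat.card C = Nat.card f.ker * Nat.card f.range := h1.symm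
          _ ≤ p ^ 2 * p := Nat.mul_le_mul h3 h2
          _ = p ^ 3 := by ring
      have hBle : Nat.card B ≤ p ^ 2 := by
        have : Nat.card B * p ≤ p ^ 2 * p := by
          rw [← hCB]; calc Nat.card C ≤ p ^ 3 := hCle
            _ = p ^ 2 * p := by ring
        exact Nat.le_of_mul_le_mul_right this hp.out.pos
      -- |B| ≥ p ^ 2
      have hBdvd : Nat.card B ∣ p ^ n := hQcard ▸ Subgroup.card_subgroup_dvd_card B
      obtain ⟨j, hj, hjB⟩ := (Nat.dvd_prime_pow hp.out).mp hBdvd
      have hZQ : Subgroup.center (X ⧸ Z) ≤ B := Subgroup.center_le_centralizer _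
      have hZQbot : ⊥ < Subgroup.center (X ⧸ Z) := hpQ.bot_lt_center
      have hj2 : 2 ≤ j := by
        by_contra hlt
        have hj1 : j ≤ 1 := by omega
        have hBp : Nat.card B ≤ p := by
          rw [hjB]
          calc p ^ j ≤ p ^ 1 := Nat.pow_le_pow_right hp.out.pos hj1
            _ = p := pow_one p
        -- centre of the quotient is nontrivial p-group inside B, so equals B
        have hcdvd : Nat.card (Subgroup.center (X ⧸ Z)) ∣ Nat.card B :=
          Subgroup.card_dvd_of_le hZQ
        have hc1 : Nat.card (Subgroup.center (X ⧸ Z)) ≠ 1 := by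
          intro h
          exact hZQbot.ne' (Subgroup.card_eq_one.mp h)
        have hcp : p ≤ Nat.card (Subgroup.center (X ⧸ Z)) := by
          rw [hjB] at hcdvd
          obtain ⟨i, hi, hic⟩ := (Nat.dvd_prime_pow hp.out).mp hcdvd
          rw [hic]
          have hi0 : i ≠ 0 := by
            rintro rfl
            exact hc1 (by rw [hic, pow_zero])
          calc p = p ^ 1 := (pow_one p).symm
            _ ≤ p ^ i := Nat.pow_le_pow_right hp.out.pos (by omega)
        have heq : Subgroup.center (X ⧸ Z) = B :=
          Subgroup.eq_of_le_of_card_ge hZQ (le_trans hBp hcp)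
        -- then π a is central, so B = ⊤
        have haB : π a ∈ B := by
          rw [hB, Subgroup.mem_centralizer_singleton_iff]
        have hacen : π a ∈ Subgroup.center (X ⧸ Z) := heq ▸ haB
        have hBtop : B = ⊤ := by
          rw [hB, Subgroup.centralizer_eq_top_iff_subset]
          intro y hy
          rw [Set.mem_singleton_iff] at hy
          rw [hy]; exact hacen
        have : Nat.card B = p ^ n := by rw [hBtop, Subgroup.card_top, hQcard]
        have h4 : p ^ 2 ≤ p ^ n := Nat.pow_le_pow_right hp.out.pos hn3
        have h5 : p < p ^ 2 := by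
          calc p = p ^ 1 := (pow_one p).symm
            _ < p ^ 2 := Nat.pow_lt_pow_right hp1 (by norm_num)
        omega
      have hBcard : Nat.card B = p ^ 2 := by
        apply le_antisymm hBle
        rw [hjB]
        exact Nat.pow_le_pow_right hp.out.pos hj2
      -- B is self-centralizing
      have hBcomm : ∀ x ∈ B, ∀ y ∈ B, x * y = y * x := by
        intro x hx y hy
        have hc : IsMulCommutative B := IsPGroup.isMulCommutative_of_card_eq_prime_sq hBcard
        have := hc.is_comm.comm ⟨x, hx⟩ ⟨y, hy⟩
        exact congrArg Subtype.val this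
      have haB : π a ∈ B := by
        rw [hB, Subgroup.mem_centralizer_singleton_iff]
      have hBC : Subgroup.centralizer (B : Set (X ⧸ Z)) = B := by
        apply le_antisymm
        · intro y hy
          rw [Subgroup.mem_centralizer_iff] at hy
          rw [hB, Subgroup.mem_centralizer_singleton_iff]
          exact (hy (π a) haB).symm
        · intro y hy
          rw [Subgroup.mem_centralizer_iff]
          intro z hz
          exact hBcomm z hz y hy
      have hcl := ih (X ⧸ Z) hQcard B hBcard hBC
      rw [Group.nilpotencyClass_eq_quotient_center_plus_one, hcl]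
      omega

/-- A p-group with a self-centralizing subgroup of order p^2 is of maximal class. -/
theorem result {X : Type*} [Group X] [Finite X] {p : ℕ} [Fact p.Prime] (n : ℕ) (hX : Nat.card X = p ^ n) (A : Subgroup X) (hA : Nat.card A = p ^ 2) (hC : Subgroup.centralizer (A : Set X) = A) : Group.nilpotencyClass X = n - 1 :=
  main p n X hX A hA hC

end Cfsg.Agent.S0112
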