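import Cfsg.Statements.S0115
import Cfsg.Agent.Helper2.MaxClass
import Cfsg.Agent.Helper2.Basic

set_option autoImplicit false
open Cfsg

namespace Cfsg.Agent.S0115

/-- A finite nilpotent group with cyclic abelianization is commutative. -/
theorem isMulCommutative_of_isCyclic_abelianization {G : Type*} [Group G] [Finite G]
    [Group.IsNilpotent G] (h : IsCyclic (G ⧸ commutator G)) : IsMulCommutative G := by
  obtain ⟨xb, hxb⟩ := h.exists_generator
  obtain ⟨x, rfl⟩ := QuotientGroup.mk'_surjective (commutator G) xb
  have hsup : Subgroup.zpowers x ⊔ commutator G = ⊤ := by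
    rw [eq_top_iff]
    intro y _
    obtain ⟨k, hk⟩ := Subgroup.mem_zpowers_iff.mp (hxb (QuotientGroup.mk' (commutator G) y))
    rw [← map_zpow] at hk
    have h1 : (x ^ k)⁻¹ * y ∈ commutator G := (QuotientGroup.eq).mp hk
    have h2 : y = x ^ k * ((x ^ k)⁻¹ * y) := by group
    rw [h2]
    exact mul_mem
      ((le_sup_left : Subgroup.zpowers x ≤ _) (Subgroup.zpow_mem _ (Subgroup.mem_zpowers x) k))
      ((le_sup_right : commutator G ≤ _) h1)
  have hfr : Subgroup.zpowers x ⊔ frattini G = ⊤ := by
    rw [eq_top_iff, ← hsup]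
    exact sup_le_sup_left Cfsg.Agent.Helper2.commutator_le_frattini _
  have htop : Subgroup.zpowers x = ⊤ := frattini_nongenerating hfr
  refine ⟨⟨fun a b => ?_⟩⟩
  have ha : a ∈ Subgroup.zpowers x := by rw [htop]; exact Subgroup.mem_top a
  have hb : b ∈ Subgroup.zpowers x := by rw [htop]; exact Subgroup.mem_top b
  obtain ⟨i, rfl⟩ := Subgroup.mem_zpowers_iff.mp ha
  obtain ⟨j, rfl⟩ := Subgroup.mem_zpowers_iff.mp hb
  rw [← zpow_add, ← zpow_add, add_comm]

/-- A 2-group of order at least 8 is of maximal class if and only if its abelianization is a Klein four-group. -/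
theorem result {X : Type*} [Group X] [Finite X] (n : ℕ) (hn : 3 ≤ n) (hX : Nat.card X = 2 ^ n) : Group.nilpotencyClass X = n - 1 ↔ IsKleinFour (X ⧸ commutator X) := by
  have hF : Fact (Nat.Prime 2) := ⟨Nat.prime_two⟩
  have hpG : IsPGroup 2 X := IsPGroup.of_card hX
  have hnil : Group.IsNilpotent X := hpG.isNilpotent
  have hn2 : n = (n - 2) + 2 := by omega
  constructor
  · intro hc
    have hidx : (commutator X).index = 2 ^ 2 :=
      Cfsg.Agent.Helper2.index_commutator_of_maxClass (p := 2) (n - 2) X
        (by rw [← hn2]; exact hX) (by rw [hc]; omega)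
    have hcard : Nat.card (X ⧸ commutator X) = 4 := by
      rw [← Subgroup.index_eq_card, hidx]; norm_num
    have hsq : ∀ a : X ⧸ commutator X, a ^ 2 = 1 := by
      intro a
      by_contra ha
      have hdvd : orderOf a ∣ 4 := hcard ▸ orderOf_dvd_natCard a
      have h4 : orderOf a = 4 := by
        have hle : orderOf a ≤ 4 := Nat.le_of_dvd (by norm_num) hdvd
        have h1 : orderOf a ≠ 1 := by
          intro h; rw [orderOf_eq_one_iff] at h; apply ha; rw [h, one_pow]
        have h2 : orderOf a ≠ 2 := by
          intro h; apply ha; rw [← h]; exact pow_orderOf_eq_one a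
        have h0 : orderOf a ≠ 0 := (orderOf_pos a).ne'
        have h3 : orderOf a ≠ 3 := by
          intro h; rw [h] at hdvd; omega
        omega
      have hcyc : IsCyclic (X ⧸ commutator X) :=
        isCyclic_of_orderOf_eq_card a (by rw [h4, hcard])
      have hcomm := isMulCommutative_of_isCyclic_abelianization hcyc
      have := Group.IsNilpotent.nilpotencyClass_le_one_iff.mpr hcomm
      omega
    refine ⟨hcard, ?_⟩
    have hdvd : Monoid.exponent (X ⧸ commutator X) ∣ 2 :=
      Monoid.exponent_dvd_of_forall_pow_eq_one hsq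
    rcases (Nat.dvd_prime Nat.prime_two).mp hdvd with h1 | h2
    · exfalso
      rw [Monoid.exp_eq_one_iff] at h1
      have : Nat.card (X ⧸ commutator X) = 1 := Nat.card_eq_one_iff_unique.mpr ⟨h1, ⟨1⟩⟩
      omega
    · exact h2
  · intro hK
    have hidx : (commutator X).index = 4 := by
      rw [Subgroup.index_eq_card]; exact hK.card_four
    have := Cfsg.Agent.Helper2.nilpotencyClass_of_index_commutator_eq_four (n - 2) X
      (by rw [← hn2]; exact hX) hidx
    rw [this]; omega

end Cfsg.Agent.S0115
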