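import Cfsg.Statements.S5301
import Cfsg.Agent.Helper87.FusionNormal
import Cfsg.Agent.S5080

set_option autoImplicit false
universe u
open Cfsg

namespace Cfsg.Agent.S5301

open Cfsg.Agent.Helper87 Cfsg.FusionSystem

/-- Let F be a saturated fusion system over a finite p-group S. If for every subgroup P of S that is fully normalized, centric and radical in F the automorphism group that F induces on P has a normal Sylow p-subgroup, then S is normal in F. -/
theorem result {Ω : Type u} [Group Ω] {S : Subgroup Ω} [Finite S] (p : ℕ) [Fact p.Prime] (hS : IsPGroup p S)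
    (F : Cfsg.FusionSystem S) (hF : F.IsSaturated p)
    (hcl : ∀ P : Subgroup Ω, F.IsFullyNormalized P → F.IsCentric P → F.IsRadical p P →
      ∃ R : Sylow p ↥(F.autGroup P), (R : Subgroup ↥(F.autGroup P)).Normal) :
    F.IsNormal S := by
  rw [isNormal_iff_forall_essential hS F hF S]
  rintro P (rfl | hess)
  · refine ⟨le_rfl, fun α _ => ?_⟩
    rw [Subgroup.subgroupOf_self]
    exact Subgroup.map_top_of_surjective _ α.surjective
  · exfalso
    have hrad := Cfsg.Agent.S5080.result p hS F hF P hess
    obtain ⟨hcen, hfn, hNn, E, hdvd, -, -⟩ := hess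
    obtain ⟨R, hRn⟩ := hcl P hfn hcen hrad
    obtain ⟨-, hPS, T₀, hT₀⟩ := fullyAutomized_fullyCentralized_of_fullyNormalized hS F hF hfn
    have : Finite P := finite_of_le hPS
    have : Finite (MulAut P) := MulEquiv.finite_left
    have hcore : pCore p (F.autGroup P) = R := Cfsg.Agent.Lib.pCore_eq_of_normal_sylow R hRn
    have hT₀le : (T₀ : Subgroup (F.autGroup P)) ≤ pCore p (F.autGroup P) := by
      have hTR : T₀ = R := by
        have := Sylow.unique_of_normal R hRn
        exact Subsingleton.elim _ _
      rw [hTR, hcore]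
    have hcoreInn : pCore p (F.autGroup P) ≤ (Inn P).subgroupOf (F.autGroup P) := by
      intro x hx
      rw [Subgroup.mem_subgroupOf, ← hrad.2]
      exact Subgroup.mem_map_of_mem _ hx
    have h1 : ((Inn P).subgroupOf (F.autGroup P)).index ∣ (T₀ : Subgroup (F.autGroup P)).index :=
      Subgroup.index_dvd_of_le (hT₀le.trans hcoreInn)
    have h2 : ¬ p ∣ (T₀ : Subgroup (F.autGroup P)).index := T₀.not_dvd_index
    rw [← Subgroup.index_eq_card] at hdvd
    exact h2 (hdvd.trans h1)

end Cfsg.Agent.S5301
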