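import Cfsg.Statements.S4717
import Cfsg.Agent.Helper78.DeficiencyClass
import Cfsg.Agent.S0936

set_option autoImplicit false
open Cfsg

namespace Cfsg.Agent.S4717

open Cfsg.Agent.Helper78 Cfsg.Agent in
/-- Let p be a prime, M a maximal ideal of the algebraic integers containing p, and r a natural number; say that a finite group X has deficiency class r when X has no non-principal p-block of defect ≥ r. If G has deficiency class r then so does the centralizer of every p-element of G; conversely, if r > 0 and the centralizer of every element of order p has deficiency class r, then G has deficiency class r. -/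
theorem result {G : Type*} [Group G] [Finite G] (p : ℕ) [Fact p.Prime] (M : Ideal Cfsg.AlgInt) (hM : Cfsg.IsPModular p M) (r : ℕ) : ((∀ B' : Set (Cfsg.IrrCharacter G), Cfsg.IsPBlock M B' → B' ≠ Cfsg.principalBlock M G → Cfsg.blockDefect p B' < r) → ∀ y : G, (∃ k : ℕ, orderOf y = p ^ k) → (∀ B' : Set (Cfsg.IrrCharacter ↥(Subgroup.centralizer ({y} : Set G))), Cfsg.IsPBlock M B' → B' ≠ Cfsg.principalBlock M ↥(Subgroup.centralizer ({y} : Set G)) → Cfsg.blockDefect p B' < r)) ∧ (0 < r → (∀ y : G, orderOf y = p → (∀ B' : Set (Cfsg.IrrCharacter ↥(Subgroup.centralizer ({y} : Set G))), Cfsg.IsPBlock M B' → B' ≠ Cfsg.principalBlock M ↥(Subgroup.centralizer ({y} : Set G)) → Cfsg.blockDefect p B' < r)) → (∀ B' : Set (Cfsg.IrrCharacter G), Cfsg.IsPBlock M B' → B' ≠ Cfsg.principalBlock M G → Cfsg.blockDefect p B' < r)) := by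
  classical
  have hMp : M.IsPrime := isPrime_of_isPModular hM
  have hp : p.Prime := Fact.out
  haveI : Fintype G := Fintype.ofFinite G
  refine ⟨?_, ?_⟩
  · -- first half: third main theorem and monotonicity of defects
    intro h y hy b' hb' hne
    obtain ⟨k, hk⟩ := hy
    have hP := isPGroup_zpowers_of_orderOf (p := p) hk
    have hdef : InducedBlockDefined M (Subgroup.centralizer ({y} : Set G)) b' :=
      inducedBlockDefined_of_le_normalizer hM hP (zpowers_le_centralizer_singleton y)
        (centralizer_zpowers_le_centralizer_singleton y)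
        (centralizer_singleton_le_normalizer_zpowers y) b' hb'
    obtain ⟨B', hind⟩ := id hdef
    have hB'ne : B' ≠ principalBlock M G := by
      intro heq
      apply hne
      rw [heq] at hind
      exact (Cfsg.Agent.S0936.result p M hM _ b' hdef).mp hind
    have h1 := h B' hind.2.1 hB'ne
    have h2 := blockDefect_le_of_induced hM _ b' B' hind
    omega
  · -- second half
    intro hr h B hB hne
    by_contra hcon
    push Not at hcon
    obtain ⟨χ₀, hχ₀⟩ := id hB
    obtain ⟨D, hD⟩ := Helper16.exists_defectGroup (M := M) p χ₀
    rw [← hχ₀] at hD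
    have hDcard := Helper77.card_defectGroup hM hB D hD
    set d := blockDefect p B with hd
    have hDp : IsPGroup p D := IsPGroup.of_card hDcard
    -- a central element of order p
    have hDnt : Nontrivial D := by
      rw [← Finite.one_lt_card_iff_nontrivial, hDcard]
      exact Nat.one_lt_pow (by omega) hp.one_lt
    have hZnt : Nontrivial (Subgroup.center D) := hDp.center_nontrivial
    have hZp : IsPGroup p (Subgroup.center D) := hDp.to_subgroup _
    obtain ⟨n, hn⟩ := IsPGroup.iff_card.mp hZp
    have hn0 : n ≠ 0 := by
      rintro rfl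
      rw [pow_zero] at hn
      have := (Finite.one_lt_card_iff_nontrivial (α := Subgroup.center D)).mpr hZnt
      omega
    have hdvd : p ∣ Nat.card (Subgroup.center D) := by
      rw [hn]; exact dvd_pow_self p hn0
    obtain ⟨z, hz⟩ := exists_prime_orderOf_dvd_card' p hdvd
    set y : G := ((z : D) : G) with hy
    have hyord : orderOf y = p := by
      rw [hy, Subgroup.orderOf_coe, Subgroup.orderOf_coe, hz]
    have hyD : ∀ x ∈ D, x * y = y * x := by
      intro x hx
      have := Subgroup.mem_center_iff.mp z.2 ⟨x, hx⟩
      exact congrArg (fun t : D => (t : G)) this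
    have hP := isPGroup_zpowers_of_orderOf (p := p) (y := y) (k := 1) (by rw [hyord, pow_one])
    -- the defect class element
    obtain ⟨g, hg, Q, hQ⟩ := id hD
    have hgD : ∀ x ∈ D, x * g = g * x := by
      intro x hx
      rw [hQ] at hx
      obtain ⟨v, -, rfl⟩ := hx
      have := v.2
      rw [Subgroup.mem_centralizer_singleton_iff] at this
      exact this
    have hyDmem : y ∈ D := (z : D).2
    have hgP : g ∈ Subgroup.centralizer ((Subgroup.zpowers y : Subgroup G) : Set G) := by
      apply centralizer_singleton_le_centralizer_zpowers y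
      rw [Subgroup.mem_centralizer_singleton_iff]
      exact (hgD y hyDmem).symm
    have hgB : ¬ MemLocalIdeal M (blockCoeff (blockOf M (χ₀ : G → ℂ)) g) := by
      rw [← hχ₀]; exact hg.2.1
    obtain ⟨b', hind, hb'g⟩ := exists_induced_blockCoeff_not_mem hM hP
      (zpowers_le_centralizer_singleton y) (centralizer_zpowers_le_centralizer_singleton y)
      (centralizer_singleton_le_normalizer_zpowers y) χ₀ g hgP hgB
    rw [← hχ₀] at hind
    have hb'ne : b' ≠ principalBlock M (Subgroup.centralizer ({y} : Set G)) := by
      intro heq
      apply hne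
      have hdef : InducedBlockDefined M (Subgroup.centralizer ({y} : Set G)) b' := ⟨B, hind⟩
      have h1 := (Cfsg.Agent.S0936.result p M hM _ b' hdef).mpr heq
      exact Helper77.isInducedBlock_unique _ hind h1
    have hlt := h y hyord b' hind.1 hb'ne
    -- the defect group inside the centralizer
    have hDC : D ≤ Subgroup.centralizer ({y} : Set G) := by
      intro x hx
      rw [Subgroup.mem_centralizer_singleton_iff]
      exact hyD x hx
    have hcard' : Nat.card (D.subgroupOf (Subgroup.centralizer ({y} : Set G))) = p ^ d := by
      rw [← hDcard]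
      exact Nat.card_congr (Subgroup.subgroupOfEquivOfLe hDC).toEquiv
    have hcen : D.subgroupOf (Subgroup.centralizer ({y} : Set G)) ≤
        Subgroup.centralizer ({(⟨g, centralizer_zpowers_le_centralizer_singleton y hgP⟩ :
          Subgroup.centralizer ({y} : Set G))} : Set (Subgroup.centralizer ({y} : Set G))) := by
      intro x hx
      rw [Subgroup.mem_subgroupOf] at hx
      rw [Subgroup.mem_centralizer_singleton_iff]
      apply Subtype.ext
      exact hgD _ hx
    have hle := le_blockDefect_of_blockCoeff_not_mem hM hind.1 _ hb'g _ d hcard' hcen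
    omega

end Cfsg.Agent.S4717
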