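import Cfsg.Statements.S4797
import Mathlib
import Cfsg.Agent.Helper80.Linear

set_option autoImplicit false
open Cfsg

namespace Cfsg.Agent.S4797

open Cfsg.Agent.Helper80

universe u

/-- A nontrivial commutative group is not perfect. -/
theorem commutator_ne_top_of_comm {H : Type*} [Group H] [Nontrivial H]
    (hc : ∀ a b : H, a * b = b * a) : commutator H ≠ ⊤ := by
  have : commutator H = ⊥ := by
    rw [commutator_def, Subgroup.commutator_eq_bot_iff_le_centralizer]
    intro x _
    rw [Subgroup.mem_centralizer_iff]
    intro y _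
    exact hc y x
  rw [this]
  exact bot_ne_top

/-- Key lemma: a finite group with an irreducible character `ψ` such that `|H| = p ψ(1)`, `p`
prime, is not perfect. -/
theorem not_perfect_of_card_eq {H : Type u} [Group H] [Finite H] {ψ : H → ℂ}
    (hψ : Cfsg.IsIrrCharacter H ψ) (p : ℕ) (hp : p.Prime)
    (hcard : Nat.card H = p * Cfsg.charDegree ψ) : commutator H ≠ ⊤ := by
  have : Fact p.Prime := ⟨hp⟩
  set m := Cfsg.charDegree ψ with hm
  have hmpos : 0 < m := IsIrrCharacter.charDegree_pos hψ
  have hnt : Nontrivial H := by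
    rw [← Finite.one_lt_card_iff_nontrivial, hcard]
    calc 1 < p := hp.one_lt
      _ ≤ p * m := Nat.le_mul_of_pos_right _ hmpos
  have hle : m ≤ p := by
    have h1 := IsIrrCharacter.charDegree_sq_le_card hψ
    rw [hcard, ← hm, pow_two] at h1
    exact Nat.le_of_mul_le_mul_right h1 hmpos
  rcases hle.eq_or_lt with heq | hlt
  · -- |H| = p²
    apply commutator_ne_top_of_comm
    exact isMulCommutative_iff.mp
      (IsPGroup.isMulCommutative_of_card_eq_prime_sq (p := p) (by rw [hcard, heq, pow_two]))
  · intro hperf
    have hcop : ¬ p ∣ m := fun hd => absurd (Nat.le_of_dvd hmpos hd) (not_le.mpr hlt)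
    -- Sylow p-subgroup has order p and is normal
    obtain P : Sylow p H := default
    have hPcard : Nat.card P = p := by
      rw [Sylow.card_eq_multiplicity, hcard, Nat.factorization_mul hp.ne_zero hmpos.ne']
      simp [hp.factorization_self, Nat.factorization_eq_zero_of_not_dvd hcop]
    have hindex : (P : Subgroup H).index = m := by
      have := Subgroup.card_mul_index (P : Subgroup H)
      rw [hPcard, hcard] at this
      exact Nat.eq_of_mul_eq_mul_left hp.pos this
    have hnp : Nat.card (Sylow p H) = 1 := by
      have h1 : Nat.card (Sylow p H) ∣ m := hindex ▸ Sylow.card_dvd_index P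
      have h2 : Nat.card (Sylow p H) ≡ 1 [MOD p] := card_sylow_modEq_one p H
      have h3 : Nat.card (Sylow p H) < p := lt_of_le_of_lt (Nat.le_of_dvd hmpos h1) hlt
      have h4 := Nat.mod_eq_of_lt h3
      rw [Nat.ModEq, h4, Nat.mod_eq_of_lt hp.one_lt] at h2
      exact h2
    have hsub : Subsingleton (Sylow p H) := (Nat.card_eq_one_iff_unique.mp hnp).1
    have hPn : (P : Subgroup H).Normal := Sylow.normal_of_subsingleton P
    -- P is cyclic
    have hPcyc : IsCyclic (P : Subgroup H) := isCyclic_of_prime_card hPcard
    -- the conjugation action H → Aut P has commutative image, so is trivial on H = H'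
    let f : H →* (ZMod (Nat.card (P : Subgroup H)))ˣ :=
      (IsCyclic.mulAutMulEquiv (P : Subgroup H)).toMonoidHom.comp MulAut.conjNormal
    have hker : commutator H ≤ f.ker := Abelianization.commutator_subset_ker f
    rw [hperf] at hker
    have hPcent : (P : Subgroup H) ≤ Subgroup.center H := by
      intro x hx
      rw [Subgroup.mem_center_iff]
      intro h
      have h1 : f h = 1 := hker (Subgroup.mem_top h)
      have h2 : (MulAut.conjNormal h : MulAut (P : Subgroup H)) = 1 := by
        have := (IsCyclic.mulAutMulEquiv (P : Subgroup H)).injective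
        apply this
        rw [map_one]
        exact h1
      have h3 := congrArg (fun α : MulAut (P : Subgroup H) => (α ⟨x, hx⟩ : H)) h2
      simp only [MulAut.conjNormal_apply, MulAut.one_apply] at h3
      calc h * x = h * x * h⁻¹ * h := by group
        _ = x * h := by rw [h3]
    -- so m² ≤ [H : Z(H)] ≤ [H : P] = m, hence m = 1 and |H| = p
    have h5 : m ^ 2 ≤ m := by
      calc m ^ 2 ≤ (Subgroup.center H).index := IsIrrCharacter.charDegree_sq_le_index_center hψ
        _ ≤ (P : Subgroup H).index :=
          Nat.le_of_dvd (by rw [hindex]; exact hmpos) (Subgroup.index_dvd_of_le hPcent)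
        _ = m := hindex
    have hm1 : m = 1 := by
      rw [pow_two] at h5
      have : m ≤ 1 := Nat.le_of_mul_le_mul_left (by simpa using h5) hmpos
      omega
    have hHp : Nat.card H = p := by rw [hcard, hm1, mul_one]
    have hcyc : IsCyclic H := isCyclic_of_prime_card hHp
    exact commutator_ne_top_of_comm (isMulCommutative_iff.mp IsCyclic.isMulCommutative) hperf


/-- A nontrivial hom to `ℂˣ` whose values are `p`-th roots of unity has kernel of index `p`. -/
theorem index_ker_eq_prime {G : Type*} [Group G] [Finite G] (φ : G →* ℂˣ) (p : ℕ) (hp : p.Prime)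
    (h1 : φ ≠ 1) (hpow : ∀ g, φ g ^ p = 1) : φ.ker.index = p := by
  rw [Subgroup.index_ker]
  have hfin : Finite φ.range := Set.finite_range φ |>.to_subtype
  have hcyc : IsCyclic φ.range := isCyclic_subgroup_units φ.range
  have hexp : Monoid.exponent φ.range ∣ p := by
    apply Monoid.exponent_dvd_of_forall_pow_eq_one
    rintro ⟨x, g, rfl⟩
    ext
    simp [hpow g]
  rw [IsCyclic.exponent_eq_card] at hexp
  rcases (Nat.dvd_prime hp).mp hexp with h | h
  · exfalso
    apply h1
    ext g
    have hsub : Subsingleton φ.range := (Nat.card_eq_one_iff_unique.mp h).1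
    have : (⟨φ g, g, rfl⟩ : φ.range) = 1 := Subsingleton.elim _ _
    have := congrArg Subtype.val this
    simpa using congrArg Units.val this
  · exact h

/-- A finite group that is not perfect has a homomorphism to `ℂˣ` with kernel of prime index. -/
theorem exists_hom_prime_index {G : Type*} [Group G] [Finite G] (h : commutator G ≠ ⊤) :
    ∃ (φ : G →* ℂˣ) (p : ℕ), p.Prime ∧ φ.ker.index = p := by
  classical
  set A := Abelianization G with hA
  have hAfin : Finite A := inferInstance
  have hcardA : Nat.card A ≠ 1 := by
    intro h1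
    apply h
    rw [← Subgroup.index_eq_one]
    rw [Subgroup.index_eq_card]
    exact h1
  have hne : NeZero (Monoid.exponent A) := ⟨Monoid.exponent_ne_zero_of_finite⟩
  have hne' : NeZero ((Monoid.exponent A : ℕ) : ℂ) := NeZero.charZero
  have hER : HasEnoughRootsOfUnity ℂ (Monoid.exponent A) := inferInstance
  obtain ⟨e⟩ := CommGroup.monoidHom_mulEquiv_of_hasEnoughRootsOfUnity A ℂ
  have hfinHom : Finite (A →* ℂˣ) := Finite.of_equiv A e.symm.toEquiv
  have hcardHom : Nat.card (A →* ℂˣ) = Nat.card A := Nat.card_congr e.toEquiv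
  obtain ⟨p, hp, hpd⟩ := Nat.exists_prime_and_dvd hcardA
  have : Fact p.Prime := ⟨hp⟩
  obtain ⟨φ, hφ⟩ := exists_prime_orderOf_dvd_card' (G := A →* ℂˣ) p (by rw [hcardHom]; exact hpd)
  refine ⟨φ.comp Abelianization.of, p, hp, ?_⟩
  apply index_ker_eq_prime _ p hp
  · intro h1
    have : φ = 1 := Abelianization.hom_ext _ _ (by rw [h1]; rfl)
    rw [this, orderOf_one] at hφ
    exact hp.one_lt.ne hφ
  · intro g
    have : φ ^ p = 1 := by rw [← hφ]; exact pow_orderOf_eq_one φ
    have := DFunLike.congr_fun this (Abelianization.of g)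
    simpa using this

/-- The codegree of an irreducible complex character χ of a finite group G is [G : ker χ] / χ(1), where ker χ is the set of elements at which χ takes the value χ(1). A non-trivial finite group is perfect if and only if no irreducible complex character of it has prime codegree. -/
theorem result {G : Type*} [Group G] [Finite G] [Nontrivial G] : commutator G = ⊤ ↔ ∀ χ : Cfsg.IrrCharacter G, ¬ ((Nat.card G / (Nat.card {g : G // (χ : G → ℂ) g = (χ : G → ℂ) 1} * Cfsg.charDegree (χ : G → ℂ)))).Prime := by
  constructor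
  · intro hperf χ hprime
    have hirr := χ.2
    have hc := IsIrrCharacter.isCharacter hirr
    set K := kerChar (χ : G → ℂ) hc with hK
    have hcardK : Nat.card {g : G // (χ : G → ℂ) g = (χ : G → ℂ) 1} = Nat.card K :=
      Nat.card_congr (Equiv.subtypeEquivRight fun g => (mem_kerChar hc g).symm)
    have hdvd := IsIrrCharacter.card_ker_mul_charDegree_dvd hirr
    set p := Nat.card G / (Nat.card {g : G // (χ : G → ℂ) g = (χ : G → ℂ) 1} *
      Cfsg.charDegree (χ : G → ℂ)) with hp
    have hG : Nat.card G = p * (Nat.card K * Cfsg.charDegree (χ : G → ℂ)) := by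
      rw [hp, hcardK]
      rw [hcardK] at hdvd
      exact (Nat.div_mul_cancel hdvd).symm
    obtain ⟨ψ, hψ, hψχ⟩ := IsIrrCharacter.exists_descend hirr (QuotientGroup.mk' K)
      (QuotientGroup.mk'_surjective K) (fun g hg => by
        rw [← mem_kerChar hc]; exact (QuotientGroup.eq_one_iff g).mp hg)
    have hdeg : Cfsg.charDegree ψ = Cfsg.charDegree (χ : G → ℂ) := by
      have := hψχ 1
      rw [map_one] at this
      rw [Cfsg.charDegree, Cfsg.charDegree, this]
    have hcardQ : Nat.card (G ⧸ K) = p * Cfsg.charDegree ψ := by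
      have h1 := Subgroup.card_mul_index K
      rw [hG, Subgroup.index_eq_card] at h1
      have hKpos : 0 < Nat.card K := Nat.card_pos
      rw [hdeg]
      have : Nat.card K * Nat.card (G ⧸ K) = Nat.card K * (p * Cfsg.charDegree (χ : G → ℂ)) := by
        rw [h1]; ring
      exact Nat.eq_of_mul_eq_mul_left hKpos this
    have hnp := not_perfect_of_card_eq hψ p hprime hcardQ
    apply hnp
    have h2 : Subgroup.map (QuotientGroup.mk' K) (commutator G) = commutator (G ⧸ K) := by
      rw [commutator_def, commutator_def, Subgroup.map_commutator,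
        Subgroup.map_top_of_surjective _ (QuotientGroup.mk'_surjective K)]
    rw [← h2, hperf, Subgroup.map_top_of_surjective _ (QuotientGroup.mk'_surjective K)]
  · intro h
    by_contra hnp
    obtain ⟨φ, p, hp, hidx⟩ := exists_hom_prime_index hnp
    apply h ⟨fun g => ((φ g : ℂˣ) : ℂ), isIrrCharacter_of_monoidHom φ⟩
    have hker : Nat.card {g : G // ((φ g : ℂˣ) : ℂ) = ((φ 1 : ℂˣ) : ℂ)} = Nat.card φ.ker := by
      apply Nat.card_congr
      refine Equiv.subtypeEquivRight fun g => ?_
      rw [MonoidHom.mem_ker, map_one, Units.val_one, Units.val_eq_one]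
    have hdeg : Cfsg.charDegree (fun g => ((φ g : ℂˣ) : ℂ)) = 1 := by
      simp [Cfsg.charDegree]
    show (Nat.card G / (Nat.card {g : G // ((φ g : ℂˣ) : ℂ) = ((φ 1 : ℂˣ) : ℂ)} *
      Cfsg.charDegree (fun g => ((φ g : ℂˣ) : ℂ)))).Prime
    rw [hker, hdeg, mul_one, ← Subgroup.card_mul_index φ.ker, hidx,
      Nat.mul_div_cancel_left _ Nat.card_pos]
    exact hp

end Cfsg.Agent.S4797
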