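import Cfsg.Statements.S0857
import Mathlib
import Cfsg.Agent.Helper80.GoingDown

set_option autoImplicit false
open Cfsg

namespace Cfsg.Agent.S0857

open Cfsg.Agent.Helper80
open Cfsg.Agent

section amb

variable {G : Type*} [Group G] [Fintype G] (K L : Subgroup G) [hK : K.Normal] [hL : L.Normal]

/-- Transport a function on `L.subgroupOf K` to `L`. -/
def fromSub (hle : L ≤ K) (ψ : L.subgroupOf K → ℂ) : L → ℂ :=
  fun x => ψ ((Subgroup.subgroupOfEquivOfLe hle).symm x)

theorem toSub_fromSub (hle : L ≤ K) (ψ : L.subgroupOf K → ℂ) :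
    Helper15.toSub L K hle (fromSub K L hle ψ) = ψ := by
  funext x
  show ψ ((Subgroup.subgroupOfEquivOfLe hle).symm (Subgroup.subgroupOfEquivOfLe hle x)) = ψ x
  rw [MulEquiv.symm_apply_apply]

theorem fromSub_injective (hle : L ≤ K) : Function.Injective (fromSub K L hle) := by
  intro ψ ψ' h
  rw [← toSub_fromSub K L hle ψ, ← toSub_fromSub K L hle ψ', h]

theorem isIrrCharacter_fromSub (hle : L ≤ K) {ψ : L.subgroupOf K → ℂ}
    (h : IsIrrCharacter (L.subgroupOf K) ψ) : IsIrrCharacter L (fromSub K L hle ψ) :=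
  IsIrrCharacter.comp_surjective h (Subgroup.subgroupOfEquivOfLe hle).symm.toMonoidHom
    (Subgroup.subgroupOfEquivOfLe hle).symm.surjective

theorem fromSub_restrict (hle : L ≤ K) (ϑ : K → ℂ) :
    fromSub K L hle (fun n : L.subgroupOf K => ϑ n) = fun x : L => ϑ ⟨(x : G), hle x.2⟩ := by
  funext x; rfl

theorem H1_of_chief [Fintype L] [Fintype (L.subgroupOf K)] [Fintype K] (hle : L ≤ K)
    (hchief : ∀ M : Subgroup G, M.Normal → L ≤ M → M ≤ K → M = L ∨ M = K)
    (hab : ⁅K, K⁆ ≤ L) (ϑ : K → ℂ) (hϑ : IsIrrCharacter K ϑ)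
    (hinv : ∀ (g : G) (n : K), ϑ ⟨g * n * g⁻¹, hK.conj_mem (n : G) n.2 g⟩ = ϑ n)
    (φ' : L.subgroupOf K → ℂ) (hφ' : IsIrrCharacter (L.subgroupOf K) φ')
    (hcon : classInner (fun n : L.subgroupOf K => ϑ n) φ' ≠ 0) :
    Helper15.inertia (L.subgroupOf K) φ' = L.subgroupOf K ∨
      Helper15.inertia (L.subgroupOf K) φ' = ⊤ := by
  classical
  obtain ⟨φ, hφdef⟩ : ∃ φ : L → ℂ, φ = fromSub K L hle φ' := ⟨_, rfl⟩
  have hφ : IsIrrCharacter L φ := hφdef ▸ isIrrCharacter_fromSub K L hle hφ'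
  have hφ'eq : φ' = Helper15.toSub L K hle φ := by
    rw [hφdef]; exact (toSub_fromSub K L hle φ').symm
  obtain ⟨res, hres⟩ : ∃ res : L → ℂ, res = fun x : L => ϑ ⟨(x : G), hle x.2⟩ := ⟨_, rfl⟩
  have hres' : (fun n : L.subgroupOf K => ϑ n) = Helper15.toSub L K hle res := by
    rw [hres]; exact Helper15.restrict_subgroupOf L K hle ϑ
  have hcon2 : classInner res φ ≠ 0 := by
    rw [hres', hφ'eq, Helper15.classInner_toSub] at hcon; exact hcon
  have hresinv : ∀ g : G, Helper15.conjFun L g res = res := by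
    intro g; funext x
    rw [Helper15.conjFun_apply, hres]
    exact hinv g ⟨(x : G), hle x.2⟩
  have hconj : ∀ g : G, ∃ k : K, Helper15.conjFun L g φ = Helper15.conjFun L (k : G) φ := by
    intro g
    have h1 : classInner res (Helper15.conjFun L g φ) ≠ 0 := by
      rw [Helper15.classInner_conjFun_right, hresinv]; exact hcon2
    have h2 : classInner (fun n : L.subgroupOf K => ϑ n)
        (Helper15.toSub L K hle (Helper15.conjFun L g φ)) ≠ 0 := by
      rw [hres', Helper15.classInner_toSub]; exact h1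
    have h3 : classInner (fun n : L.subgroupOf K => ϑ n) (Helper15.toSub L K hle φ) ≠ 0 := by
      rw [← hφ'eq]; exact hcon
    obtain ⟨k, hk⟩ := Helper15.exists_conj_of_constituents (L.subgroupOf K) hϑ
      (Helper15.isIrrCharacter_toSub L K hle hφ)
      (Helper15.isIrrCharacter_toSub L K hle (Helper15.isIrrCharacter_conjFun L hφ g)) h3 h2
    refine ⟨k, ?_⟩
    rw [Helper15.conjFun_toSub] at hk
    exact Helper15.toSub_injective L K hle hk
  obtain ⟨TG, hTG⟩ : ∃ TG : Subgroup G, TG = Helper15.inertia L φ := ⟨_, rfl⟩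
  have hmemTG : ∀ g : G, g ∈ TG ↔ Helper15.conjFun L g φ = φ := by
    intro g; rw [hTG]; exact Helper15.mem_inertia L φ g
  have hLTG : L ≤ TG := by
    rw [hTG]
    exact Helper15.le_inertia L (IsCharacter.isClassFunction (IsIrrCharacter.isCharacter hφ))
  have hMn : (K ⊓ TG).Normal := by
    constructor
    intro m hm g
    obtain ⟨hmK, hmT⟩ := Subgroup.mem_inf.1 hm
    refine Subgroup.mem_inf.2 ⟨hK.conj_mem m hmK g, ?_⟩
    rw [hmemTG]
    obtain ⟨k, hk⟩ := hconj g
    rw [Helper15.conjFun_mul, Helper15.conjFun_mul, hk]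
    have h1 : Helper15.conjFun L m (Helper15.conjFun L (k : G) φ) =
        Helper15.conjFun L (k : G) φ := by
      rw [← Helper15.conjFun_mul]
      have h2 : (k : G) * m = ((k : G) * m * (k : G)⁻¹) * (k : G) := by group
      rw [h2, Helper15.conjFun_mul]
      congr 1
      have h3 : (k : G) * m * (k : G)⁻¹ ∈ TG := by
        have h4 : (k : G) * m * (k : G)⁻¹ = ((k : G) * m * (k : G)⁻¹ * m⁻¹) * m := by group
        rw [h4]
        refine TG.mul_mem (hLTG (hab ?_)) hmT
        have := Subgroup.commutator_mem_commutator k.2 hmK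
        rwa [commutatorElement_def] at this
      exact (hmemTG _).1 h3
    rw [h1, ← hk]
    exact Helper15.conjFun_inv_conjFun L g φ
  rcases hchief (K ⊓ TG) hMn (le_inf hle hLTG) inf_le_left with hM | hM
  · left
    ext k
    rw [Helper15.mem_inertia, Subgroup.mem_subgroupOf, hφ'eq, Helper15.conjFun_toSub]
    constructor
    · intro h
      have h1 := Helper15.toSub_injective L K hle h
      have h2 : (k : G) ∈ K ⊓ TG := Subgroup.mem_inf.2 ⟨k.2, (hmemTG _).2 h1⟩
      rw [hM] at h2; exact h2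
    · intro h
      rw [(hmemTG _).1 (hLTG h)]
  · right
    rw [eq_top_iff]
    intro k _
    rw [Helper15.mem_inertia, hφ'eq, Helper15.conjFun_toSub]
    have h2 : (k : G) ∈ K ⊓ TG := by rw [hM]; exact k.2
    rw [(hmemTG _).1 (Subgroup.mem_inf.1 h2).2]

theorem H2_of_chief (hle : L ≤ K)
    (hchief : ∀ M : Subgroup G, M.Normal → L ≤ M → M ≤ K → M = L ∨ M = K)
    (ϑ : K → ℂ)
    (hinv : ∀ (g : G) (n : K), ϑ ⟨g * n * g⁻¹, hK.conj_mem (n : G) n.2 g⟩ = ϑ n)
    (μ : (K ⧸ L.subgroupOf K) →* ℂˣ) (hμ : μ ≠ 1)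
    (hvan : ∀ x : K, μ (QuotientGroup.mk' (L.subgroupOf K) x) ≠ 1 → ϑ x = 0) :
    ∀ x : K, x ∉ L.subgroupOf K → ϑ x = 0 := by
  obtain ⟨f, hf⟩ : ∃ f : K →* ℂˣ, f = μ.comp (QuotientGroup.mk' (L.subgroupOf K)) := ⟨_, rfl⟩
  obtain ⟨V, hV⟩ : ∃ V : Subgroup G, V = f.ker.map K.subtype := ⟨_, rfl⟩
  have hLV : L ≤ V := by
    intro x hx
    rw [hV]
    refine Subgroup.mem_map.2 ⟨⟨x, hle hx⟩, ?_, rfl⟩
    rw [MonoidHom.mem_ker, hf, MonoidHom.comp_apply]
    have : QuotientGroup.mk' (L.subgroupOf K) ⟨x, hle hx⟩ = 1 :=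
      (QuotientGroup.eq_one_iff _).2 (Subgroup.mem_subgroupOf.2 hx)
    rw [this, map_one]
  have hVK : V ≤ K := by rw [hV]; exact Subgroup.map_subtype_le _
  rcases hchief V.normalCore inferInstance (Subgroup.normal_le_normalCore.2 hLV)
    (V.normalCore_le.trans hVK) with hM | hM
  · intro x hx
    have hx' : (x : G) ∉ V.normalCore := by
      rw [hM]; exact fun h => hx (Subgroup.mem_subgroupOf.2 h)
    have h0 : ¬ ∀ b : G, b * (x : G) * b⁻¹ ∈ V := hx'
    push Not at h0
    obtain ⟨b, hb⟩ := h0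
    have h1 : μ (QuotientGroup.mk' (L.subgroupOf K)
        ⟨b * x * b⁻¹, hK.conj_mem (x : G) x.2 b⟩) ≠ 1 := by
      intro h
      apply hb
      rw [hV]
      refine Subgroup.mem_map.2 ⟨⟨b * x * b⁻¹, hK.conj_mem (x : G) x.2 b⟩, ?_, rfl⟩
      rw [MonoidHom.mem_ker, hf, MonoidHom.comp_apply]
      exact h
    have h2 := hvan _ h1
    rw [hinv b x] at h2; exact h2
  · exfalso
    apply hμ
    have hker : ∀ k : K, f k = 1 := by
      intro k
      have hk : (k : G) ∈ V := V.normalCore_le (hM ▸ k.2)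
      rw [hV] at hk
      obtain ⟨y, hy, hyk⟩ := Subgroup.mem_map.1 hk
      have : y = k := Subtype.ext hyk
      rw [← this]; exact hy
    refine MonoidHom.ext (fun q => ?_)
    obtain ⟨k, rfl⟩ := QuotientGroup.mk'_surjective _ q
    have := hker k
    rw [hf, MonoidHom.comp_apply] at this
    rw [this]; rfl

end amb

/-- Let L < K be normal subgroups of the finite group G with no normal subgroup of G strictly between them and with K / L abelian (the commutator subgroup of K lies in L). Let ϑ be an irreducible character of K invariant under conjugation by G. Then the restriction of ϑ to L is irreducible; or it equals e times an irreducible character of L with e ^ 2 equal to the index of L in K; or it is the sum of a family of pairwise distinct irreducible characters of L indexed by a set whose size is the index of L in K. -/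
theorem result {G : Type*} [Group G] [Fintype G] (K L : Subgroup G) [hK : K.Normal] [L.Normal] (hLK : L < K) (hchief : ∀ M : Subgroup G, M.Normal → L ≤ M → M ≤ K → M = L ∨ M = K) (hab : ⁅K, K⁆ ≤ L) (ϑ : K → ℂ) (hϑ : Cfsg.IsIrrCharacter K ϑ) (hinv : ∀ (g : G) (n : K), ϑ ⟨g * n * g⁻¹, hK.conj_mem (n : G) n.2 g⟩ = ϑ n) : Cfsg.IsIrrCharacter L (fun x : L => ϑ ⟨(x : G), hLK.le x.2⟩) ∨ (∃ (φ : L → ℂ) (e : ℕ), Cfsg.IsIrrCharacter L φ ∧ (fun x : L => ϑ ⟨(x : G), hLK.le x.2⟩) = (e : ℂ) • φ ∧ e ^ 2 = L.relIndex K) ∨ (∃ F : Finset (L → ℂ), (∀ φ ∈ F, Cfsg.IsIrrCharacter L φ) ∧ F.card = L.relIndex K ∧ (fun x : L => ϑ ⟨(x : G), hLK.le x.2⟩) = ∑ φ ∈ F, φ) := by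
  classical
  have hle : L ≤ K := hLK.le
  let _ : Fintype K := Fintype.ofFinite K
  let _ : Fintype L := Fintype.ofFinite L
  let _ : Fintype (L.subgroupOf K) := Fintype.ofFinite _
  have hab' : ∀ x y : K, x * y * x⁻¹ * y⁻¹ ∈ L.subgroupOf K := by
    intro x y
    rw [Subgroup.mem_subgroupOf]
    apply hab
    have := Subgroup.commutator_mem_commutator x.2 y.2
    rw [commutatorElement_def] at this
    simpa using this
  have R := going_down_pure (L.subgroupOf K) hab' hϑ
    (H1_of_chief K L hle hchief hab ϑ hϑ hinv) (H2_of_chief K L hle hchief ϑ hinv)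
  rw [← fromSub_restrict K L hle ϑ]
  rcases R with h | ⟨φ', e, hφ', hsm, he⟩ | ⟨F', hF', hcard, hsum⟩
  · left; exact isIrrCharacter_fromSub K L hle h
  · right; left
    refine ⟨fromSub K L hle φ', e, isIrrCharacter_fromSub K L hle hφ', ?_, he⟩
    rw [hsm]; rfl
  · right; right
    refine ⟨F'.image (fromSub K L hle), ?_, ?_, ?_⟩
    · intro φ hφ
      obtain ⟨φ', h1, rfl⟩ := Finset.mem_image.1 hφ
      exact isIrrCharacter_fromSub K L hle (hF' φ' h1)
    · rw [Finset.card_image_of_injective _ (fromSub_injective K L hle)]; exact hcard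
    · rw [Finset.sum_image (fun a _ b _ h => fromSub_injective K L hle h), hsum]
      funext x
      simp [fromSub, Finset.sum_apply]

end Cfsg.Agent.S0857
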