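import Cfsg.Statements.S4836
import Mathlib
import Cfsg.Agent.Helper80.TwoClasses

set_option autoImplicit false
open Cfsg

namespace Cfsg.Agent.S4836

open Cfsg.Agent.Helper80 Cfsg.Agent.Helper79

/-- Let G be a finite group of order greater than 2 with an irreducible character χ that is nonzero on exactly two conjugacy classes. Then χ is faithful (it takes the value χ(1) only at the identity), it is the only faithful irreducible character of G, and it is the only irreducible character of G that is nonzero on exactly two conjugacy classes. -/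
theorem result {G : Type*} [Group G] [Finite G] (hG : 2 < Nat.card G) (χ : Cfsg.IrrCharacter G) (hχ : Nat.card {C : ConjClasses G // ∃ g ∈ C.carrier, (χ : G → ℂ) g ≠ 0} = 2) :
    (∀ g : G, (χ : G → ℂ) g = (χ : G → ℂ) 1 → g = 1) ∧
      (∀ ψ : Cfsg.IrrCharacter G, (∀ g : G, (ψ : G → ℂ) g = (ψ : G → ℂ) 1 → g = 1) → ψ = χ) ∧
      (∀ ψ : Cfsg.IrrCharacter G, Nat.card {C : ConjClasses G // ∃ g ∈ C.carrier, (ψ : G → ℂ) g ≠ 0} = 2 → ψ = χ) := by
  classical
  -- faithfulness for any such character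
  have hfaith : ∀ φ : Cfsg.IrrCharacter G,
      Nat.card {C : ConjClasses G // ∃ g ∈ C.carrier, (φ : G → ℂ) g ≠ 0} = 2 →
      ∀ x : G, (φ : G → ℂ) x = (φ : G → ℂ) 1 → x = 1 := by
    intro φ hφ x hx
    obtain ⟨g, hg1, hg0, hgne, hsupp, hother, hmin, hN⟩ := two_classes_core hG φ hφ
    have hφc := IsIrrCharacter.isCharacter φ.2
    by_contra hx1
    have hx0 : (φ : G → ℂ) x ≠ 0 := by rw [hx]; exact irr_one_ne_zero φ
    have hc := (hsupp x hx0).resolve_left hx1
    apply hgne
    rw [IsCharacter.eq_of_isConj hφc hc, hx]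
  have huniq : ∀ ψ : Cfsg.IrrCharacter G,
      (∀ x : G, (ψ : G → ℂ) x = (ψ : G → ℂ) 1 → x = 1) → ψ = χ := by
    intro ψ hψ
    obtain ⟨g, hg1, hg0, hgne, hsupp, hother, hmin, hN⟩ := two_classes_core hG χ hχ
    by_contra hne
    exact hg1 (hψ g (hother ψ hne))
  exact ⟨hfaith χ hχ, huniq, fun ψ hψ => huniq ψ (hfaith ψ hψ)⟩

end Cfsg.Agent.S4836
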