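import Cfsg.Statements.S0070
import Mathlib.GroupTheory.Sylow
import Mathlib.GroupTheory.GroupAction.ConjAct

set_option autoImplicit false
open Cfsg

namespace Cfsg.Agent.S0070

/-- Gaschütz: the preimage of a normal nilpotent subgroup of `G ⧸ frattini G` is nilpotent. -/
theorem isNilpotent_comap {G : Type*} [Group G] [Finite G] (M : Subgroup (G ⧸ frattini G))
    [hMn : M.Normal] (hM : Group.IsNilpotent M) :
    Group.IsNilpotent (M.comap (QuotientGroup.mk' (frattini G))) := by
  set π := QuotientGroup.mk' (frattini G) with hπ
  have hπs : Function.Surjective π := QuotientGroup.mk'_surjective _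
  set N := M.comap π with hN
  have hNn : N.Normal := hMn.comap π
  have h03 := (Group.isNilpotent_of_finite_tfae (G := N)).out 0 3
  rw [h03]
  intro p hp P
  -- the image of P in M
  let f : N →* M := π.subgroupComap M
  have hf : Function.Surjective f := π.subgroupComap_surjective_of_surjective M hπs
  let Q' : Sylow p M := P.mapSurjective hf
  have hQ'n : (Q' : Subgroup M).Normal := inferInstance
  have hQ'c : (Q' : Subgroup M).Characteristic := Sylow.characteristic_of_normal Q' hQ'n
  have hQn : ((Q' : Subgroup M).map M.subtype).Normal :=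
    ConjAct.normal_of_characteristic_of_normal
  set P' : Subgroup G := (P : Subgroup N).map N.subtype with hP'
  have hQeq : (Q' : Subgroup M).map M.subtype = P'.map π := by
    rw [Sylow.coe_mapSurjective, hP', Subgroup.map_map, Subgroup.map_map]
    rfl
  rw [hQeq] at hQn
  -- K = comap π (map π P') = P' ⊔ Φ is normal in G
  set K : Subgroup G := (P'.map π).comap π with hK
  have hKn : K.Normal := hQn.comap π
  have hKeq : K = P' ⊔ frattini G := by
    rw [hK, Subgroup.comap_map_eq, hπ, QuotientGroup.ker_mk']
  have hP'N : P' ≤ N := by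
    rw [hP']
    exact Subgroup.map_subtype_le _
  have hΦN : frattini G ≤ N := by
    intro x hx
    rw [hN, Subgroup.mem_comap, hπ, QuotientGroup.mk'_apply, (QuotientGroup.eq_one_iff x).mpr hx]
    exact one_mem _
  have hKN : K ≤ N := by rw [hKeq]; exact sup_le hP'N hΦN
  have hP'K : P' ≤ K := by rw [hKeq]; exact le_sup_left
  -- a Sylow subgroup of K containing P'
  have hP'p : IsPGroup p (P'.subgroupOf K) := (P.2.map _).comap_subtype
  obtain ⟨R, hR⟩ := hP'p.exists_le_sylow
  have hRP' : (R : Subgroup K).map K.subtype = P' := by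
    apply le_antisymm
    · -- maximality of P in N
      have h1 : IsPGroup p (((R : Subgroup K).map K.subtype).subgroupOf N) :=
        (R.2.map _).comap_subtype
      have h2 : (P : Subgroup N) ≤ ((R : Subgroup K).map K.subtype).subgroupOf N := by
        intro x hx
        rw [Subgroup.mem_subgroupOf]
        have hx' : (x : G) ∈ P' := ⟨x, hx, rfl⟩
        exact ⟨⟨x, hP'K hx'⟩, hR (by rw [Subgroup.mem_subgroupOf]; exact hx'), rfl⟩
      have h3 := P.is_maximal' h1 h2
      intro y hy
      have hyN : y ∈ N := hKN (Subgroup.map_subtype_le _ hy)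
      have : (⟨y, hyN⟩ : N) ∈ ((R : Subgroup K).map K.subtype).subgroupOf N := by
        rw [Subgroup.mem_subgroupOf]; exact hy
      rw [h3] at this
      exact ⟨⟨y, hyN⟩, this, rfl⟩
    · intro y hy
      exact ⟨⟨y, hP'K hy⟩, hR (by rw [Subgroup.mem_subgroupOf]; exact hy), rfl⟩
  have hfr := Sylow.normalizer_sup_eq_top R
  rw [hRP'] at hfr
  -- normalizer P' ⊔ Φ = ⊤
  have h4 : Subgroup.normalizer (P' : Set G) ⊔ frattini G = ⊤ := by
    rw [eq_top_iff, ← hfr, hKeq]
    apply sup_le le_sup_left
    exact sup_le (Subgroup.le_normalizer.trans le_sup_left) le_sup_right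
  have h5 : Subgroup.normalizer (P' : Set G) = ⊤ := frattini_nongenerating h4
  have h6 : P'.Normal := Subgroup.normalizer_eq_top_iff.mp h5
  exact h6.of_map_subtype

/-- The Fitting subgroup commutes with passing to the Frattini quotient: the Fitting subgroup of G modulo its Frattini subgroup is the image of the Fitting subgroup of G. -/
theorem result {G : Type*} [Group G] [Finite G] :
    Cfsg.fittingSubgroup (G ⧸ frattini G) = (Cfsg.fittingSubgroup G).map (QuotientGroup.mk' (frattini G)) := by
  have hπs : Function.Surjective (QuotientGroup.mk' (frattini G)) := QuotientGroup.mk'_surjective _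
  apply le_antisymm
  · unfold Cfsg.fittingSubgroup
    apply sSup_le
    rintro M ⟨hMn, hMnil⟩
    have hnil := isNilpotent_comap M hMnil
    have hle : M.comap (QuotientGroup.mk' (frattini G)) ≤
        sSup {N : Subgroup G | N.Normal ∧ Group.IsNilpotent N} :=
      le_sSup ⟨hMn.comap _, hnil⟩
    calc M = (M.comap (QuotientGroup.mk' (frattini G))).map (QuotientGroup.mk' (frattini G)) :=
          (Subgroup.map_comap_eq_self_of_surjective hπs M).symm
      _ ≤ _ := Subgroup.map_mono hle
  · rw [Subgroup.map_le_iff_le_comap]
    unfold Cfsg.fittingSubgroup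
    apply sSup_le
    rintro N ⟨hNn, hNnil⟩
    rw [← Subgroup.map_le_iff_le_comap]
    apply le_sSup
    refine ⟨hNn.map _ hπs, ?_⟩
    let g : N →* (N.map (QuotientGroup.mk' (frattini G))) :=
      (QuotientGroup.mk' (frattini G)).subgroupMap N
    have hg : Function.Surjective g := (QuotientGroup.mk' (frattini G)).subgroupMap_surjective N
    exact Group.nilpotent_of_surjective g hg

end Cfsg.Agent.S0070
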