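import Cfsg.Statements.S4837
import Mathlib
import Cfsg.Agent.Helper80.TwoClassesInertia

set_option autoImplicit false
open Cfsg

namespace Cfsg.Agent.S4837

open Cfsg.Agent.Helper80

/-- Let G be a finite group of order greater than 2 with an irreducible character χ nonzero on exactly two conjugacy classes, and let N be the set of elements where χ is nonzero, given as a nontrivial normal p-subgroup of G for the prime p. Then for every nonidentity x in N the centralizer C_G(x) is a Sylow p-subgroup of G, and for every irreducible character λ ≠ 1 of N the stabilizer of λ in G (its inertia group) is a Sylow p-subgroup of G. -/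
theorem result {G : Type*} [Group G] [Finite G] (hG : 2 < Nat.card G) (χ : Cfsg.IrrCharacter G) (hχ : Nat.card {C : ConjClasses G // ∃ g ∈ C.carrier, (χ : G → ℂ) g ≠ 0} = 2) (p : ℕ) [Fact p.Prime] (N : Subgroup G) [N.Normal] (hN : ∀ g : G, g ∈ N ↔ (χ : G → ℂ) g ≠ 0) (hNp : IsPGroup p N) (hN1 : N ≠ ⊥) :
    (∀ x ∈ N, x ≠ 1 → ∃ P : Sylow p G, Subgroup.centralizer ({x} : Set G) = P) ∧
      (∀ μ : Cfsg.IrrCharacter N, (μ : N → ℂ) ≠ (fun _ => (1 : ℂ)) → ∃ P : Sylow p G, ∀ g : G, g ∈ (P : Subgroup G) ↔ ∀ n n' : N, (n' : G) = g * n * g⁻¹ → (μ : N → ℂ) n' = (μ : N → ℂ) n) := by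
  classical
  have := Fintype.ofFinite G
  have : Fintype N := Fintype.ofFinite N
  obtain ⟨g, hgN, hg1, hclN, hotherN, hminN, hcent, hNcard, hB⟩ :=
    two_classes_setup hG χ hχ p N hN hNp hN1
  constructor
  · intro x hx hx1
    exact ⟨Sylow.ofCard (Subgroup.centralizer ({x} : Set G)) (hcent x hx hx1),
      (Sylow.coe_ofCard _ _).symm⟩
  · intro μ hμ
    let I : Subgroup G :=
      { carrier := {g | Helper15.conjFun N g (μ : N → ℂ) = (μ : N → ℂ)}
        one_mem' := Helper15.conjFun_one N _
        mul_mem' := by
          intro a b ha hb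
          simp only [Set.mem_setOf_eq] at ha hb ⊢
          rw [Helper15.conjFun_mul, ha, hb]
        inv_mem' := by
          intro a ha
          simp only [Set.mem_setOf_eq] at ha ⊢
          conv_lhs => rw [← ha]
          exact Helper15.conjFun_inv_conjFun N a _ }
    have hmemI : ∀ a : G, a ∈ I ↔ Helper15.conjFun N a (μ : N → ℂ) = (μ : N → ℂ) := fun a => Iff.rfl
    have hIcard : Nat.card I = p ^ (Nat.card G).factorization p := by
      rw [← two_classes_inertia_card hG χ hχ p N hN hNp hN1 μ hμ]
      rw [← Fintype.card_coe, ← Nat.card_eq_fintype_card]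
      exact Nat.card_congr (Equiv.subtypeEquivRight (fun a => by
        rw [hmemI, mem_inertiaFinset]))
    refine ⟨Sylow.ofCard I hIcard, fun a => ?_⟩
    rw [Sylow.coe_ofCard, hmemI]
    constructor
    · intro h n n' hn
      have h1 := congrFun h n
      rw [Helper15.conjFun_apply] at h1
      rw [← h1]
      exact congrArg (μ : N → ℂ) (Subtype.ext hn)
    · intro h
      funext n
      rw [Helper15.conjFun_apply]
      exact h n _ rfl

end Cfsg.Agent.S4837
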