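import Cfsg.Statements.S4866
import Cfsg.Agent.Helper81.BrauerPerm
import Cfsg.Agent.Helper81.NormalAction
import Cfsg.Agent.Helper81.OrbitCount

set_option autoImplicit false
open Cfsg

namespace Cfsg.Agent.S4866

open scoped ComplexConjugate
open Cfsg.Agent.Helper81

attribute [local instance] Helper81.irrMulAction Helper81.clsMulAction

section

variable {G : Type*} [Group G] (K : Subgroup G) [hK : K.Normal]

theorem irrConj_smul [Finite K] (g : G) (θ : IrrCharacter K) :
    irrConj K (g • θ) = g • irrConj K θ := by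
  apply Subtype.ext
  rfl

theorem clsInv_smul (g : G) (c : ConjClasses K) :
    clsInv K (g • c) = g • clsInv K c := by
  obtain ⟨k, rfl⟩ := ConjClasses.exists_rep c
  rw [clsMulAction_smul_mk, clsInv_mk, clsInv_mk, clsMulAction_smul_mk]
  congr 1
  apply Subtype.ext
  simp [mul_assoc]

theorem smul_irr_of_mem {k : G} (hk : k ∈ K) (θ : IrrCharacter K) : k • θ = θ := by
  apply Subtype.ext
  change Helper15.conjFun K k⁻¹ (θ : K → ℂ) = θ
  exact Helper15.conjFun_of_mem K (Helper79.irr_isClassFunction θ) (K.inv_mem hk)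

theorem smul_cls_of_mem {k : G} (hk : k ∈ K) (c : ConjClasses K) : k • c = c := by
  obtain ⟨x, rfl⟩ := ConjClasses.exists_rep c
  rw [clsMulAction_smul_mk, ConjClasses.mk_eq_mk_iff_isConj, isConj_comm, isConj_iff]
  exact ⟨⟨k, hk⟩, Subtype.ext (by simp)⟩

/-- The real-valued irreducible characters, as a `G`-stable subset. -/
noncomputable def realIrr [Finite K] : SubMulAction G (IrrCharacter K) where
  carrier := {θ | irrConj K θ = θ}
  smul_mem' g θ h := by
    simp only [Set.mem_ofPred_eq] at h ⊢
    rw [irrConj_smul, h]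

/-- The real classes, as a `G`-stable subset. -/
noncomputable def realCls : SubMulAction G (ConjClasses K) where
  carrier := {c | clsInv K c = c}
  smul_mem' g c h := by
    simp only [Set.mem_ofPred_eq] at h ⊢
    rw [clsInv_smul, h]

/-- Fixed points of `g` on real irreducible characters are the fixed points of the permutation
`θ ↦ conj (g • θ)`. -/
theorem card_fixedBy_realIrr [Finite G] (hodd : Odd K.index) (g : G) :
    Nat.card (MulAction.fixedBy (realIrr K) g) =
      Nat.card {θ : IrrCharacter K // ((MulAction.toPerm g).trans (irrConj K)) θ = θ} := by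
  refine Nat.card_congr ⟨fun x => ⟨x.1.1, ?_⟩, fun y => ⟨⟨y.1, ?_⟩, ?_⟩, ?_, ?_⟩
  · obtain ⟨⟨θ, hr⟩, hf⟩ := x
    have hf' : g • θ = θ := congrArg Subtype.val hf
    change irrConj K (g • θ) = θ
    rw [hf']; exact hr
  · obtain ⟨θ, h⟩ := y
    exact (fix_of_odd K (irrConj K) (fun x => (irrConj K).left_inv x |> fun h => by
        apply Subtype.ext; funext k; simp) (irrConj_smul K)
      (fun k hk x => smul_irr_of_mem K hk x) hodd g θ h).2
  · obtain ⟨θ, h⟩ := y
    have := (fix_of_odd K (irrConj K) (fun x => by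
        apply Subtype.ext; funext k; simp) (irrConj_smul K)
      (fun k hk x => smul_irr_of_mem K hk x) hodd g θ h).1
    exact Subtype.ext this
  · intro x; rfl
  · intro y; rfl

theorem card_fixedBy_realCls [Finite G] (hodd : Odd K.index) (g : G) :
    Nat.card (MulAction.fixedBy (realCls K) g) =
      Nat.card {c : ConjClasses K // ((MulAction.toPerm g).trans (clsInv K)) c = c} := by
  refine Nat.card_congr ⟨fun x => ⟨x.1.1, ?_⟩, fun y => ⟨⟨y.1, ?_⟩, ?_⟩, ?_, ?_⟩
  · obtain ⟨⟨c, hr⟩, hf⟩ := x
    have hf' : g • c = c := congrArg Subtype.val hf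
    change clsInv K (g • c) = c
    rw [hf']; exact hr
  · obtain ⟨c, h⟩ := y
    exact (fix_of_odd K (clsInv K) (fun x => (clsInv K).left_inv x) (clsInv_smul K)
      (fun k hk x => smul_cls_of_mem K hk x) hodd g c h).2
  · obtain ⟨c, h⟩ := y
    have := (fix_of_odd K (clsInv K) (fun x => (clsInv K).left_inv x) (clsInv_smul K)
      (fun k hk x => smul_cls_of_mem K hk x) hodd g c h).1
    exact Subtype.ext this
  · intro x; rfl
  · intro y; rfl

/-- Brauer's permutation lemma applied to `θ ↦ conj (g • θ)` and `c ↦ (g • c)⁻¹`. -/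
theorem card_fix_eq [Finite G] (g : G) :
    Nat.card {θ : IrrCharacter K // ((MulAction.toPerm g).trans (irrConj K)) θ = θ} =
      Nat.card {c : ConjClasses K // ((MulAction.toPerm g).trans (clsInv K)) c = c} := by
  classical
  have := Fintype.ofFinite K
  have : Finite (IrrCharacter K) := Helper79.irr_finite'
  have := Fintype.ofFinite (IrrCharacter K)
  have := Fintype.ofFinite (ConjClasses K)
  apply brauer_perm
  intro θ k k' hkk'
  change clsInv K (g • ConjClasses.mk k) = ConjClasses.mk k' at hkk'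
  rw [clsMulAction_smul_mk, clsInv_mk, ConjClasses.mk_eq_mk_iff_isConj] at hkk'
  change conj (((g • θ : IrrCharacter K) : K → ℂ) k') = (θ : K → ℂ) k
  have hcf := Helper79.isClassFunction_iff_isConj.1 (Helper79.irr_isClassFunction (g • θ))
  rw [← hcf _ _ hkk', irrMulAction_smul_apply]
  have h1 : (⟨g⁻¹ * ((⟨g * k * g⁻¹, hK.conj_mem (k : G) k.2 g⟩ : K)⁻¹ : K) * g, by
      have := hK.conj_mem (((⟨g * k * g⁻¹, hK.conj_mem (k : G) k.2 g⟩ : K)⁻¹ : K) : G)
        ((⟨g * k * g⁻¹, hK.conj_mem (k : G) k.2 g⟩ : K)⁻¹ : K).2 g⁻¹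
      rwa [inv_inv] at this⟩ : K) = k⁻¹ := by
    apply Subtype.ext
    simp only [Subgroup.coe_inv]
    group
  rw [h1, Helper74.char_inv (Helper74.irr_isCharacter θ)]
  simp

theorem card_orbits_eq [Finite G] (hodd : Odd K.index) :
    Nat.card (Quotient (MulAction.orbitRel G (realIrr K))) =
      Nat.card (Quotient (MulAction.orbitRel G (realCls K))) := by
  have : Finite (IrrCharacter K) := Helper79.irr_finite'
  apply card_orbits_eq_of_card_fixedBy_eq
  intro g
  rw [card_fixedBy_realIrr K hodd g, card_fixedBy_realCls K hodd g, card_fix_eq K g]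

end

/-- Let K be a normal subgroup of odd index in the finite group G. Then G has as many orbits on the real-valued irreducible complex characters of K (acting by conjugation) as it has orbits on the conjugacy classes of K that are real in K; equivalently, the number of G-orbits of real-valued irreducible characters of K equals the number of G-conjugacy classes of elements of K that are conjugate in K to their inverses. -/
theorem result {G : Type*} [Group G] [Finite G] (K : Subgroup G) [K.Normal] (hodd : Odd K.index) : Nat.card (Quot (fun θ η : {θ : Cfsg.IrrCharacter ↥K // (∀ k : ↥K, ((θ : ↥K → ℂ) k).im = 0)} => ∃ g : G, ∀ k k' : ↥K, (k' : G) = g * (k : G) * g⁻¹ → (η.1 : ↥K → ℂ) k' = (θ.1 : ↥K → ℂ) k)) = Nat.card (Quot (fun x y : {x : ↥K // IsConj x x⁻¹} => ∃ g : G, (y.1 : G) = g * x.1 * g⁻¹)) := by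
  have hK : K.Normal := inferInstance
  -- left side
  have hL : Nat.card (Quot (fun θ η : {θ : Cfsg.IrrCharacter ↥K // (∀ k : ↥K, ((θ : ↥K → ℂ) k).im = 0)} => ∃ g : G, ∀ k k' : ↥K, (k' : G) = g * (k : G) * g⁻¹ → (η.1 : ↥K → ℂ) k' = (θ.1 : ↥K → ℂ) k)) =
      Nat.card (Quotient (MulAction.orbitRel G (realIrr K))) := by
    refine card_quot_eq_of_surjective (MulAction.orbitRel G (realIrr K))
      (fun θ => ⟨θ.1, (irrConj_eq_self_iff θ.1).mpr θ.2⟩) ?_ ?_
    · rintro ⟨θ, hθ⟩
      exact ⟨⟨θ, (irrConj_eq_self_iff θ).mp hθ⟩, rfl⟩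
    · rintro ⟨θ, hθ⟩ ⟨η, hη⟩
      change _ ↔ (⟨θ, _⟩ : realIrr K) ∈ MulAction.orbit G (⟨η, _⟩ : realIrr K)
      rw [MulAction.mem_orbit_iff]
      constructor
      · rintro ⟨g, hg⟩
        refine ⟨g⁻¹, ?_⟩
        apply Subtype.ext
        apply Subtype.ext
        funext k
        change ((g⁻¹ • η : IrrCharacter K) : K → ℂ) k = (θ : K → ℂ) k
        rw [irrMulAction_smul_apply]
        apply hg
        simp
      · rintro ⟨g, hg⟩
        refine ⟨g⁻¹, ?_⟩
        intro k k' hkk'
        have h1 : ((g • η : IrrCharacter K) : K → ℂ) k = (θ : K → ℂ) k := by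
          have := congrArg (fun x : realIrr K => ((x : IrrCharacter K) : K → ℂ) k) hg
          exact this
        rw [irrMulAction_smul_apply] at h1
        rw [← h1]
        have hh : ∀ a b : K, a = b → (η : K → ℂ) a = (η : K → ℂ) b := fun a b h => by rw [h]
        apply hh
        apply Subtype.ext
        rw [hkk']
        change g⁻¹ * (k : G) * g⁻¹⁻¹ = g⁻¹ * (k : G) * g
        rw [inv_inv]
  -- right side
  have hR : Nat.card (Quot (fun x y : {x : ↥K // IsConj x x⁻¹} => ∃ g : G, (y.1 : G) = g * x.1 * g⁻¹)) =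
      Nat.card (Quotient (MulAction.orbitRel G (realCls K))) := by
    refine card_quot_eq_of_surjective (MulAction.orbitRel G (realCls K))
      (fun x => ⟨ConjClasses.mk x.1, (clsInv_eq_self_iff x.1).mpr x.2⟩) ?_ ?_
    · rintro ⟨c, hc⟩
      obtain ⟨x, rfl⟩ := ConjClasses.exists_rep c
      exact ⟨⟨x, (clsInv_eq_self_iff x).mp hc⟩, rfl⟩
    · rintro ⟨x, hx⟩ ⟨y, hy⟩
      change _ ↔ (⟨ConjClasses.mk x, _⟩ : realCls K) ∈ MulAction.orbit G (⟨ConjClasses.mk y, _⟩ : realCls K)
      rw [MulAction.mem_orbit_iff]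
      constructor
      · rintro ⟨g, hg⟩
        refine ⟨g⁻¹, ?_⟩
        apply Subtype.ext
        change g⁻¹ • ConjClasses.mk y = ConjClasses.mk x
        rw [clsMulAction_smul_mk]
        congr 1
        apply Subtype.ext
        simp only at hg ⊢
        rw [hg]; group
      · rintro ⟨g, hg⟩
        have h1 : g • ConjClasses.mk y = ConjClasses.mk x := congrArg Subtype.val hg
        rw [clsMulAction_smul_mk, ConjClasses.mk_eq_mk_iff_isConj, isConj_iff] at h1
        obtain ⟨c, hc⟩ := h1
        refine ⟨(c * g)⁻¹, ?_⟩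
        have h2 := congrArg (Subtype.val : K → G) hc
        simp only [Subgroup.coe_mul, Subgroup.coe_inv] at h2 ⊢
        rw [← h2]; group
  rw [hL, hR]
  exact card_orbits_eq K hodd

end Cfsg.Agent.S4866
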