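import Cfsg.Statements.S0774
import Cfsg.Agent.Helper37.Borel

set_option autoImplicit false
open Cfsg

namespace Cfsg.Agent.S0774

open Matrix

variable {F : Type*} [Field F]

/-- the flag sets -/
def flagSet (F : Type*) [Field F] (m : ℕ) (k : Fin m) : Set (Fin m ⊕ Fin m → F) :=
  {v | (∀ i : Fin m, (k : ℕ) < (i : ℕ) → v (Sum.inl i) = 0) ∧ ∀ i : Fin m, v (Sum.inr i) = 0}

/-- the matrix condition -/
def BorelCond (m : ℕ) (M : Matrix (Fin m ⊕ Fin m) (Fin m ⊕ Fin m) F) : Prop :=
  (∀ i j : Fin m, j < i → M (Sum.inl i) (Sum.inl j) = 0) ∧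
    ∀ i j : Fin m, M (Sum.inr i) (Sum.inl j) = 0

theorem mem_iff_of_injective_mapsTo {α : Type*} [Finite α] (f : α → α)
    (hf : Function.Injective f) (S : Set α) (hS : ∀ v ∈ S, f v ∈ S) (v : α) :
    v ∈ S ↔ f v ∈ S := by
  have hbij := (Set.Finite.injOn_iff_bijOn_of_mapsTo (Set.toFinite S) (f := f) hS).mp hf.injOn
  constructor
  · exact hS v
  · intro hv
    obtain ⟨w, hw, hwv⟩ := hbij.surjOn hv
    rw [← hf hwv]
    exact hw

theorem mulVec_injective (m : ℕ) (g : Matrix.symplecticGroup (Fin m) F) :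
    Function.Injective (fun v : Fin m ⊕ Fin m → F =>
      (g : Matrix (Fin m ⊕ Fin m) (Fin m ⊕ Fin m) F) *ᵥ v) := by
  intro v w hvw
  have h1 : ((g⁻¹ : Matrix.symplecticGroup (Fin m) F) :
      Matrix (Fin m ⊕ Fin m) (Fin m ⊕ Fin m) F) *
      (g : Matrix (Fin m ⊕ Fin m) (Fin m ⊕ Fin m) F) = 1 := by
    rw [← Submonoid.coe_mul, inv_mul_cancel, Submonoid.coe_one]
  have := congrArg (fun u => ((g⁻¹ : Matrix.symplecticGroup (Fin m) F) :
      Matrix (Fin m ⊕ Fin m) (Fin m ⊕ Fin m) F) *ᵥ u) hvw
  simpa [Matrix.mulVec_mulVec, h1] using this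

theorem mem_iInf_iff [Finite F] (m : ℕ) (g : Matrix.symplecticGroup (Fin m) F) :
    g ∈ (⨅ k : Fin m, Cfsg.stabilizing (Cfsg.spToMat m F) (flagSet F m k)) ↔
      BorelCond m (g : Matrix (Fin m ⊕ Fin m) (Fin m ⊕ Fin m) F) := by
  rw [Subgroup.mem_iInf]
  constructor
  · intro hg
    constructor
    · intro i j hji
      have h1 : (Pi.single (Sum.inl j) (1 : F) : Fin m ⊕ Fin m → F) ∈ flagSet F m j := by
        constructor
        · intro i' hi'
          have : i' ≠ j := by
            intro h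
            rw [h] at hi'
            omega
          simp [this]
        · intro i'
          simp
      have h2 := ((hg j _).mp h1).1 i hji
      simpa using h2
    · intro i j
      have h1 : (Pi.single (Sum.inl j) (1 : F) : Fin m ⊕ Fin m → F) ∈ flagSet F m j := by
        constructor
        · intro i' hi'
          have : i' ≠ j := by
            intro h
            rw [h] at hi'
            omega
          simp [this]
        · intro i'
          simp
      have h2 := ((hg j _).mp h1).2 i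
      simpa using h2
  · rintro ⟨hA, hC⟩ k
    have hmaps : ∀ v ∈ flagSet F m k,
        (g : Matrix (Fin m ⊕ Fin m) (Fin m ⊕ Fin m) F) *ᵥ v ∈ flagSet F m k := by
      rintro v ⟨hv1, hv2⟩
      constructor
      · intro i hi
        rw [Matrix.mulVec, dotProduct, Fintype.sum_sum_type]
        rw [Finset.sum_eq_zero, Finset.sum_eq_zero, add_zero]
        · intro j _
          rw [hv2 j, mul_zero]
        · intro j _
          by_cases hj : (k : ℕ) < (j : ℕ)
          · rw [hv1 j hj, mul_zero]
          · rw [hA i j (by rw [Fin.lt_def]; omega), zero_mul]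
      · intro i
        rw [Matrix.mulVec, dotProduct, Fintype.sum_sum_type]
        rw [Finset.sum_eq_zero, Finset.sum_eq_zero, add_zero]
        · intro j _
          rw [hv2 j, mul_zero]
        · intro j _
          rw [hC i j, zero_mul]
    intro v
    exact mem_iff_of_injective_mapsTo _ (mulVec_injective m g) _ hmaps v

/-- the block parametrisation -/
noncomputable def borelEquiv (m : ℕ) :
    {g : Matrix.symplecticGroup (Fin m) F //
      BorelCond m (g : Matrix (Fin m ⊕ Fin m) (Fin m ⊕ Fin m) F)} ≃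
    {T : GL (Fin m) F // ∀ i j : Fin m, i < j → (T : Matrix (Fin m) (Fin m) F) i j = 0} ×
      {S : Matrix (Fin m) (Fin m) F // Sᵀ = S} where
  toFun g :=
    have hblocks := Matrix.fromBlocks_toBlocks (g.1 : Matrix (Fin m ⊕ Fin m) (Fin m ⊕ Fin m) F)
    have hC : (g.1 : Matrix (Fin m ⊕ Fin m) (Fin m ⊕ Fin m) F).toBlocks₂₁ = 0 := by
      ext i j
      exact g.2.2 i j
    have hmem : Matrix.fromBlocks
        (g.1 : Matrix (Fin m ⊕ Fin m) (Fin m ⊕ Fin m) F).toBlocks₁₁
        (g.1 : Matrix (Fin m ⊕ Fin m) (Fin m ⊕ Fin m) F).toBlocks₁₂ 0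
        (g.1 : Matrix (Fin m ⊕ Fin m) (Fin m ⊕ Fin m) F).toBlocks₂₂ ∈
        Matrix.symplecticGroup (Fin m) F := by
      rw [← hC, hblocks]
      exact g.1.2
    have h3 := (SymplecticGroup.fromBlocks_mem_iff.mp hmem).2.2
    have h2 := (SymplecticGroup.fromBlocks_mem_iff.mp hmem).2.1
    (⟨⟨(g.1 : Matrix (Fin m ⊕ Fin m) (Fin m ⊕ Fin m) F).toBlocks₁₁ᵀ,
        (g.1 : Matrix (Fin m ⊕ Fin m) (Fin m ⊕ Fin m) F).toBlocks₂₂,
        by simpa using h3, by
          rw [mul_eq_one_comm]
          simpa using h3⟩,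
      fun i j hij => g.2.1 j i hij⟩,
     ⟨(g.1 : Matrix (Fin m ⊕ Fin m) (Fin m ⊕ Fin m) F).toBlocks₂₂ᵀ *
        (g.1 : Matrix (Fin m ⊕ Fin m) (Fin m ⊕ Fin m) F).toBlocks₁₂, by
        rw [Matrix.transpose_mul, Matrix.transpose_transpose]
        exact h2⟩)
  invFun x :=
    ⟨⟨Matrix.fromBlocks (x.1.1 : Matrix (Fin m) (Fin m) F)ᵀ
        ((x.1.1 : Matrix (Fin m) (Fin m) F)ᵀ * x.2.1) 0
        ((x.1.1⁻¹ : GL (Fin m) F) : Matrix (Fin m) (Fin m) F), by
        rw [SymplecticGroup.fromBlocks_mem_iff]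
        have hT : (x.1.1 : Matrix (Fin m) (Fin m) F) *
            ((x.1.1⁻¹ : GL (Fin m) F) : Matrix (Fin m) (Fin m) F) = 1 := by
          rw [← Matrix.GeneralLinearGroup.coe_mul, mul_inv_cancel]; rfl
        refine ⟨by simp, ?_, ?_⟩
        · rw [Matrix.transpose_mul, Matrix.transpose_transpose, Matrix.mul_assoc, hT,
            Matrix.mul_one, x.2.2, ← Matrix.mul_assoc, ← Matrix.transpose_mul, hT,
            Matrix.transpose_one, Matrix.one_mul]
        · rw [Matrix.transpose_transpose, hT]; simp⟩,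
      ⟨fun i j hji => x.1.2 j i hji, fun i j => rfl⟩⟩
  left_inv g := by
    apply Subtype.ext
    apply Subtype.ext
    have hblocks := Matrix.fromBlocks_toBlocks (g.1 : Matrix (Fin m ⊕ Fin m) (Fin m ⊕ Fin m) F)
    have hC : (g.1 : Matrix (Fin m ⊕ Fin m) (Fin m ⊕ Fin m) F).toBlocks₂₁ = 0 := by
      ext i j
      exact g.2.2 i j
    have hmem : Matrix.fromBlocks
        (g.1 : Matrix (Fin m ⊕ Fin m) (Fin m ⊕ Fin m) F).toBlocks₁₁
        (g.1 : Matrix (Fin m ⊕ Fin m) (Fin m ⊕ Fin m) F).toBlocks₁₂ 0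
        (g.1 : Matrix (Fin m ⊕ Fin m) (Fin m ⊕ Fin m) F).toBlocks₂₂ ∈
        Matrix.symplecticGroup (Fin m) F := by
      rw [← hC, hblocks]
      exact g.1.2
    have h3 := (SymplecticGroup.fromBlocks_mem_iff.mp hmem).2.2
    simp only [Matrix.zero_mul, Matrix.transpose_zero, sub_zero] at h3
    have h3' : (g.1 : Matrix (Fin m ⊕ Fin m) (Fin m ⊕ Fin m) F).toBlocks₁₁ *
        (g.1 : Matrix (Fin m ⊕ Fin m) (Fin m ⊕ Fin m) F).toBlocks₂₂ᵀ = 1 := by
      have := congrArg Matrix.transpose (mul_eq_one_comm.mp h3)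
      simpa [Matrix.transpose_mul] using this
    show Matrix.fromBlocks _ _ 0 _ = _
    conv_rhs => rw [← hblocks, hC]
    congr 1
    show (g.1 : Matrix (Fin m ⊕ Fin m) (Fin m ⊕ Fin m) F).toBlocks₁₁ᵀᵀ *
      ((g.1 : Matrix (Fin m ⊕ Fin m) (Fin m ⊕ Fin m) F).toBlocks₂₂ᵀ *
        (g.1 : Matrix (Fin m ⊕ Fin m) (Fin m ⊕ Fin m) F).toBlocks₁₂) = _
    rw [Matrix.transpose_transpose, ← Matrix.mul_assoc, h3', Matrix.one_mul]
  right_inv x := by
    obtain ⟨⟨T, hT⟩, ⟨S, hS⟩⟩ := x
    have hTT : ((T⁻¹ : GL (Fin m) F) : Matrix (Fin m) (Fin m) F) *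
        (T : Matrix (Fin m) (Fin m) F) = 1 := by
      rw [← Matrix.GeneralLinearGroup.coe_mul, inv_mul_cancel]; rfl
    refine Prod.ext ?_ ?_
    · apply Subtype.ext
      apply Units.ext
      simp
    · apply Subtype.ext
      simp only [Matrix.toBlocks_fromBlocks₂₂, Matrix.toBlocks_fromBlocks₁₂]
      rw [← Matrix.mul_assoc, ← Matrix.transpose_mul, mul_eq_one_comm.mp hTT, Matrix.transpose_one,
        Matrix.one_mul]

theorem prod_row' (q a n : ℕ) :
    ∏ k ∈ Finset.range n, (if a < k then 1 else q) = if n ≤ a then q ^ n else q ^ (a + 1) := by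
  induction n with
  | zero => simp
  | succ n ih =>
    rw [Finset.prod_range_succ, ih]
    rcases lt_trichotomy n a with h | h | h
    · rw [if_pos h.le, if_neg (by omega), if_pos (by omega), pow_succ]
    · subst h
      rw [if_pos le_rfl, if_neg (lt_irrefl _), if_neg (by omega), pow_succ]
    · rw [if_neg (by omega), if_pos h, if_neg (by omega), mul_one]

theorem card_symm [Fintype F] (m : ℕ) :
    Nat.card {S : Matrix (Fin m) (Fin m) F // Sᵀ = S} = Fintype.card F ^ (m * (m + 1) / 2) := by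
  have e : {S : Matrix (Fin m) (Fin m) F // Sᵀ = S} ≃
      {M : Fin m → Fin m → F // ∀ i j, (i < j → M i j = 0)} :=
    { toFun := fun S => ⟨fun i j => if i < j then 0 else S.1 i j, fun i j hij => by simp [hij]⟩
      invFun := fun M => ⟨Matrix.of fun i j => if i < j then M.1 j i else M.1 i j, by
        ext i j
        simp only [Matrix.transpose_apply, Matrix.of_apply]
        rcases lt_trichotomy i j with h | h | h
        · rw [if_neg (not_lt.mpr h.le), if_pos h]
        · subst h; rfl
        · rw [if_pos h, if_neg (not_lt.mpr h.le)]⟩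
      left_inv := fun S => by
        apply Subtype.ext
        ext i j
        simp only [Matrix.of_apply]
        by_cases h : i < j
        · rw [if_pos h, if_neg (not_lt.mpr h.le)]
          have := congrFun (congrFun S.2 i) j
          rw [Matrix.transpose_apply] at this
          exact this
        · rw [if_neg h, if_neg h]
      right_inv := fun M => by
        apply Subtype.ext
        funext i j
        simp only [Matrix.of_apply]
        by_cases h : i < j
        · rw [if_pos h, M.2 i j h]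
        · rw [if_neg h, if_neg h] }
  rw [Nat.card_congr e,
    Nat.card_congr (Equiv.subtypePiEquivPi (p := fun i (f : Fin m → F) => ∀ j, (i < j → f j = 0))),
    Nat.card_pi]
  have hentry : ∀ i j : Fin m, Nat.card {x : F // i < j → x = 0} =
      if i.val < j.val then 1 else Fintype.card F := by
    intro i j
    by_cases h : i < j
    · rw [if_pos (Fin.lt_def.mp h)]
      have : {x : F // i < j → x = 0} ≃ Unit :=
        { toFun := fun _ => ()
          invFun := fun _ => ⟨0, fun _ => rfl⟩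
          left_inv := by
            rintro ⟨x, hx⟩
            exact Subtype.ext (hx h).symm
          right_inv := fun _ => rfl }
      rw [Nat.card_congr this]
      simp
    · rw [if_neg (fun h' => h (Fin.lt_def.mpr h'))]
      have : {x : F // i < j → x = 0} ≃ F :=
        { toFun := fun x => x.1
          invFun := fun x => ⟨x, fun h' => absurd h' h⟩
          left_inv := fun x => rfl
          right_inv := fun x => rfl }
      rw [Nat.card_congr this, Nat.card_eq_fintype_card]
  have hrow : ∀ i : Fin m, Nat.card {f : Fin m → F // ∀ j, (i < j → f j = 0)} =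
      Fintype.card F ^ (i.val + 1) := by
    intro i
    rw [Nat.card_congr (Equiv.subtypePiEquivPi (p := fun j (x : F) => (i < j → x = 0))),
      Nat.card_pi]
    simp_rw [hentry]
    rw [Fin.prod_univ_eq_prod_range (fun k => if i.val < k then 1 else Fintype.card F) m,
      prod_row', if_neg (by have := i.2; omega)]
  simp_rw [hrow]
  rw [Finset.prod_pow_eq_pow_sum, Fin.sum_univ_eq_sum_range (fun k => k + 1) m]
  congr 1
  have h1 : ∑ i ∈ Finset.range m, (i + 1) = ∑ i ∈ Finset.range (m + 1), i := by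
    rw [Finset.sum_range_succ' (fun i => i) m]
    simp
  rw [h1, Finset.sum_range_id, Nat.add_sub_cancel, mul_comm]

/-- Borel subgroup of the symplectic group: the elements of Sp_2m(q) stabilising each of the totally isotropic coordinate subspaces ⟨e_0, ..., e_k⟩ (k < m) form a subgroup of order q^(m²) (q − 1)^m. -/
theorem result {F : Type*} [Field F] [Fintype F] {q : ℕ} (hF : Fintype.card F = q) (m : ℕ) : Nat.card ↥(⨅ k : Fin m, Cfsg.stabilizing (Cfsg.spToMat m F) {v : Fin m ⊕ Fin m → F | (∀ i : Fin m, (k : ℕ) < (i : ℕ) → v (Sum.inl i) = 0) ∧ ∀ i : Fin m, v (Sum.inr i) = 0}) = q ^ (m ^ 2) * (q - 1) ^ m := by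
  have e1 : ↥(⨅ k : Fin m, Cfsg.stabilizing (Cfsg.spToMat m F) (flagSet F m k)) ≃
      {g : Matrix.symplecticGroup (Fin m) F //
        BorelCond m (g : Matrix (Fin m ⊕ Fin m) (Fin m ⊕ Fin m) F)} :=
    Equiv.subtypeEquivRight (fun g => mem_iInf_iff m g)
  have h0 : Nat.card ↥(⨅ k : Fin m, Cfsg.stabilizing (Cfsg.spToMat m F) (flagSet F m k)) =
      q ^ (m ^ 2) * (q - 1) ^ m := by
    rw [Nat.card_congr (e1.trans (borelEquiv m)), Nat.card_prod,
      Cfsg.Agent.Helper37.Borel.card_borel, card_symm, hF]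
    have ha : 2 * (m * (m - 1) / 2) = m * (m - 1) :=
      Nat.mul_div_cancel' (even_iff_two_dvd.mp (Nat.even_mul_pred_self m))
    have hb : 2 * (m * (m + 1) / 2) = m * (m + 1) :=
      Nat.mul_div_cancel' (even_iff_two_dvd.mp (Nat.even_mul_succ_self m))
    have hsum : m * (m - 1) / 2 + m * (m + 1) / 2 = m ^ 2 := by
      have : m * (m - 1) + m * (m + 1) = 2 * m ^ 2 := by
        cases m with
        | zero => rfl
        | succ k => simp only [Nat.add_sub_cancel]; ring
      omega
    rw [mul_right_comm, ← pow_add, hsum]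
  exact h0

end Cfsg.Agent.S0774
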