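import Cfsg.Statements.S1512
import Cfsg.Agent.Helper25.TwistedConj

set_option autoImplicit false
open Cfsg

namespace Cfsg.Agent.S1512

open Cfsg.Agent.Helper25

/-- Every `x`-invariant conjugacy class of `K` contains an element centralized by `x`. -/
theorem exists_rep_mem {L : Type*} [Group L] [Finite L] (K W₂ : Subgroup L) [hK : K.Normal] (x : L) (hx1 : x ≠ 1) (hx : Nat.Coprime (orderOf x) (Nat.card K)) (hC : ∀ y ∈ Subgroup.zpowers x, y ≠ 1 → K ⊓ Subgroup.centralizer ({y} : Set L) = W₂)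
    (C : ConjClasses K)
    (hCx : ConjClasses.map (MulEquiv.toMonoidHom ((MulAut.conjNormal x : MulAut K))) C = C) :
    ∃ k : K, ConjClasses.mk k = C ∧ (k : L) ∈ W₂ := by
  obtain ⟨k₀, rfl⟩ := ConjClasses.exists_rep C
  have h1 : IsConj ((MulAut.conjNormal x : MulAut K) k₀) k₀ := by
    rw [← ConjClasses.mk_eq_mk_iff_isConj]
    exact hCx
  obtain ⟨t, ht⟩ := isConj_iff.mp h1
  -- in L: t * (x * k₀ * x⁻¹) * t⁻¹ = k₀
  have ht' : (t : L) * (x * (k₀ : L) * x⁻¹) * (t : L)⁻¹ = (k₀ : L) := by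
    have := congrArg Subtype.val ht
    simpa [MulAut.conjNormal_apply] using this
  have hxN : x ∈ Subgroup.normalizer (K : Set L) := by
    rw [Subgroup.normalizer_eq_top]; exact Subgroup.mem_top x
  obtain ⟨s, hs, c, hc, hcx, hsc⟩ :=
    exists_conj_eq_centralizer_mul (orderOf x) K x rfl hxN hx (t : L) t.2
  -- (t x) commutes with k₀
  have hcomm1 : Commute ((t : L) * x) (k₀ : L) := by
    show (t : L) * x * (k₀ : L) = (k₀ : L) * ((t : L) * x)
    calc (t : L) * x * (k₀ : L) = ((t : L) * (x * (k₀ : L) * x⁻¹) * (t : L)⁻¹) * ((t : L) * x) := by group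
      _ = (k₀ : L) * ((t : L) * x) := by rw [ht']
  -- conjugate by s
  have hcomm2 : Commute (c * x) (s * (k₀ : L) * s⁻¹) := by
    rw [← hsc]
    show s * ((t : L) * x) * s⁻¹ * (s * (k₀ : L) * s⁻¹) = s * (k₀ : L) * s⁻¹ * (s * ((t : L) * x) * s⁻¹)
    calc s * ((t : L) * x) * s⁻¹ * (s * (k₀ : L) * s⁻¹) = s * (((t : L) * x) * (k₀ : L)) * s⁻¹ := by group
      _ = s * ((k₀ : L) * ((t : L) * x)) * s⁻¹ := by rw [hcomm1.eq]
      _ = s * (k₀ : L) * s⁻¹ * (s * ((t : L) * x) * s⁻¹) := by group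
  -- x is a power of c * x
  have hco : Nat.Coprime (orderOf x) (orderOf c) :=
    Nat.Coprime.coprime_dvd_right (Subgroup.orderOf_dvd_natCard K hc) hx
  obtain ⟨m, hm1, hm0⟩ := exists_modEq_one_zero hco
  have hpow : (x * c) ^ m = x :=
    mul_pow_eq_left_of_modEq (show Commute x c from hcx.symm) (pow_orderOf_eq_one x)
      (pow_orderOf_eq_one c) hm1 hm0
  have hcomm3 : Commute x (s * (k₀ : L) * s⁻¹) := by
    rw [← hpow]
    apply Commute.pow_left
    have : x * c = c * x := hcx.symm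
    rw [this]
    exact hcomm2
  refine ⟨⟨s, hs⟩ * k₀ * ⟨s, hs⟩⁻¹, ?_, ?_⟩
  · rw [ConjClasses.mk_eq_mk_iff_isConj, isConj_iff]
    exact ⟨⟨s, hs⟩⁻¹, by group⟩
  · rw [← hC x (Subgroup.mem_zpowers x) hx1]
    refine Subgroup.mem_inf.mpr ⟨?_, ?_⟩
    · exact (⟨s, hs⟩ * k₀ * ⟨s, hs⟩⁻¹ : K).2
    · rw [Subgroup.mem_centralizer_singleton_iff]
      exact hcomm3.symm.eq

/-- Let K be a normal subgroup of the finite group L and x a non-identity element whose order is coprime to the order of K, such that K ⊓ C_L(y) = W₂ for every non-identity element y of the cyclic group generated by x. Then the number of conjugacy classes of K mapped to themselves by conjugation by x is at most Nat.card W₂. -/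
theorem result {L : Type*} [Group L] [Finite L] (K W₂ : Subgroup L) [hK : K.Normal] (x : L) (hx1 : x ≠ 1) (hx : Nat.Coprime (orderOf x) (Nat.card K)) (hC : ∀ y ∈ Subgroup.zpowers x, y ≠ 1 → K ⊓ Subgroup.centralizer ({y} : Set L) = W₂) : Nat.card {C : ConjClasses K // ConjClasses.map (MulEquiv.toMonoidHom ((MulAut.conjNormal x : MulAut K))) C = C} ≤ Nat.card W₂ := by
  classical
  have hex := fun C : {C : ConjClasses K // ConjClasses.map (MulEquiv.toMonoidHom ((MulAut.conjNormal x : MulAut K))) C = C} =>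
    exists_rep_mem K W₂ x hx1 hx hC C.1 C.2
  choose f hf1 hf2 using hex
  let F : {C : ConjClasses K // ConjClasses.map (MulEquiv.toMonoidHom ((MulAut.conjNormal x : MulAut K))) C = C} → W₂ :=
    fun C => ⟨(f C : L), hf2 C⟩
  have hF : Function.Injective F := by
    intro C D hCD
    have h1 : (f C : L) = (f D : L) := congrArg (fun w : W₂ => (w : L)) hCD
    have h2 : f C = f D := Subtype.ext h1
    apply Subtype.ext
    rw [← hf1 C, ← hf1 D, h2]
  exact Nat.card_le_card_of_injective F hF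

end Cfsg.Agent.S1512
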