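import Cfsg.Statements.S5030
import Cfsg.Agent.Helper83.Nilp2
import Cfsg.Agent.Helper83.RootSub

set_option autoImplicit false
open Cfsg

namespace Cfsg.Agent.S5030

open Cfsg.Agent.Helper83
open scoped commutatorElement

/-- The facts about the configuration that are used for all five conclusions. -/
structure Config {G : Type*} [Group G] (S : Set (Subgroup G)) (A B C A' C' : Subgroup G) : Prop where
  hS : Cfsg.IsRootSubgroupSet S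
  hA : A ∈ S
  hB : B ∈ S
  hC : C ∈ S
  hA' : A' ∈ S
  hC' : C' ∈ S
  hAB : Cfsg.RootCommutatorCase S A B
  hBC : Cfsg.RootCommutatorCase S B C
  hAC : A ≤ Subgroup.centralizer (C : Set G)
  hA'C' : A' ≤ Subgroup.centralizer (C' : Set G)
  supA : A ⊔ A' = A ⊔ ⁅A, B⁆
  supC : C ⊔ C' = C ⊔ ⁅B, C⁆
  nrA : ¬ Cfsg.IsRankOnePair A C'
  nrC : ¬ Cfsg.IsRankOnePair A' C

theorem config {G : Type*} [Group G] {S : Set (Subgroup G)} (hS : Cfsg.IsRootSubgroupSet S)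
    {A B C : Subgroup G} (hA : A ∈ S) (hB : B ∈ S) (hC : C ∈ S) (hAB : ⁅A, B⁆ ∈ S) (hBC : ⁅B, C⁆ ∈ S)
    (hAC : C ∈ Cfsg.commutingPartners S A)
    {b : G} (hb : b ∈ B) (hb1 : b ≠ 1) :
    Config S A B C (Cfsg.conjBy A b⁻¹) (Cfsg.conjBy C b⁻¹) := by
  have cAB := commutatorCase_of_mem hS hA hB hAB
  have cBC := commutatorCase_of_mem hS hB hC hBC
  have cCB := commutatorCase_symm cBC
  have hbi : b⁻¹ ∈ B := B.inv_mem hb
  have hbi1 : b⁻¹ ≠ 1 := inv_ne_one.mpr hb1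
  have hAC' : A ≤ Subgroup.centralizer (C : Set G) := by
    rw [← Subgroup.commutator_eq_bot_iff_le_centralizer]; exact hAC.2.2
  have supA := commutatorCase_sup_conj cAB hbi hbi1
  have supC : C ⊔ Cfsg.conjBy C b⁻¹ = C ⊔ ⁅B, C⁆ := by
    rw [commutatorCase_sup_conj cCB hbi hbi1, Subgroup.commutator_comm]
  -- centralizing facts
  have hAA : A ≤ Subgroup.centralizer (A : Set G) := le_centralizer_self_of_comm (hS.commutative A hA)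
  have hCC : C ≤ Subgroup.centralizer (C : Set G) := le_centralizer_self_of_comm (hS.commutative C hC)
  have hA1 : ⁅A, B⁆ ≤ Subgroup.centralizer (A : Set G) :=
    (commutatorCase_le_centralizer cAB).trans (Subgroup.centralizer_le (by
      exact_mod_cast (le_sup_left : A ≤ A ⊔ B)))
  have hC1 : ⁅B, C⁆ ≤ Subgroup.centralizer (C : Set G) :=
    (commutatorCase_le_centralizer cBC).trans (Subgroup.centralizer_le (by
      exact_mod_cast (le_sup_right : C ≤ B ⊔ C)))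
  have hAA' : A ≤ Subgroup.centralizer ((Cfsg.conjBy A b⁻¹ : Subgroup G) : Set G) := by
    apply le_centralizer_symm
    exact (le_sup_right.trans supA.le).trans (sup_le hAA hA1)
  have hCC' : C ≤ Subgroup.centralizer ((Cfsg.conjBy C b⁻¹ : Subgroup G) : Set G) := by
    apply le_centralizer_symm
    exact (le_sup_right.trans supC.le).trans (sup_le hCC hC1)
  have hCA : C ≤ Subgroup.centralizer (A : Set G) := le_centralizer_symm hAC'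
  refine ⟨hS, hA, hB, hC, hS.conj_mem A hA _, hS.conj_mem C hC _, cAB, cBC, hAC', ?_, supA, supC, ?_, ?_⟩
  · -- conjugates commute
    intro x hx
    rw [mem_conjBy] at hx
    rw [mem_centralizer_coe]
    intro y hy
    rw [mem_conjBy] at hy
    have h1 := (mem_centralizer_coe.mp (hAC' hx)) _ hy
    -- h1 : (b⁻¹⁻¹ * y * b⁻¹) * (b⁻¹⁻¹ * x * b⁻¹) = (b⁻¹⁻¹ * x * b⁻¹) * (b⁻¹⁻¹ * y * b⁻¹)
    have h2 : b⁻¹ * (b⁻¹⁻¹ * y * b⁻¹ * (b⁻¹⁻¹ * x * b⁻¹)) * b⁻¹⁻¹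
        = b⁻¹ * (b⁻¹⁻¹ * x * b⁻¹ * (b⁻¹⁻¹ * y * b⁻¹)) * b⁻¹⁻¹ := by rw [h1]
    calc y * x = b⁻¹ * (b⁻¹⁻¹ * y * b⁻¹ * (b⁻¹⁻¹ * x * b⁻¹)) * b⁻¹⁻¹ := by group
      _ = b⁻¹ * (b⁻¹⁻¹ * x * b⁻¹ * (b⁻¹⁻¹ * y * b⁻¹)) * b⁻¹⁻¹ := h2
      _ = x * y := by group
  · -- (A, C') is not a rank one pair
    intro hr
    obtain ⟨c', hc1⟩ := (Subgroup.ne_bot_iff_exists_ne_one).mp (hS.ne_bot C hC)
    obtain ⟨c₀, hc₀⟩ := c'
    have hc₀1 : c₀ ≠ 1 := by simpa using hc1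
    have hz : c₀⁻¹ ∈ Subgroup.centralizer (((Cfsg.conjBy C b⁻¹) ⊔ A : Subgroup G) : Set G) :=
      le_centralizer_sup hCC' hCA (C.inv_mem hc₀)
    have ha : b⁻¹ * c₀ * b⁻¹⁻¹ ∈ Cfsg.conjBy C b⁻¹ := conj_mem_conjBy hc₀
    have ha1 : b⁻¹ * c₀ * b⁻¹⁻¹ ≠ 1 := by
      intro h1
      apply hc₀1
      calc c₀ = b⁻¹⁻¹ * (b⁻¹ * c₀ * b⁻¹⁻¹) * b⁻¹ := by group
        _ = 1 := by rw [h1]; group
    apply root_central_translate hS (Cfsg.RankOnePair_symm hr) hA hz (inv_ne_one.mpr hc₀1) ha ha1 hBC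
    have e : c₀⁻¹ * (b⁻¹ * c₀ * b⁻¹⁻¹) = ⁅c₀⁻¹, b⁻¹⁆ := by
      rw [commutatorElement_def]; group
    rw [e, Subgroup.commutator_comm]
    exact Subgroup.commutator_mem_commutator (C.inv_mem hc₀) hbi
  · -- (A', C) is not a rank one pair
    intro hr
    obtain ⟨a', ha1⟩ := (Subgroup.ne_bot_iff_exists_ne_one).mp (hS.ne_bot A hA)
    obtain ⟨a₀, ha₀⟩ := a'
    have ha₀1 : a₀ ≠ 1 := by simpa using ha1
    have hz : a₀⁻¹ ∈ Subgroup.centralizer (((Cfsg.conjBy A b⁻¹) ⊔ C : Subgroup G) : Set G) :=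
      le_centralizer_sup hAA' hAC' (A.inv_mem ha₀)
    have ha : b⁻¹ * a₀ * b⁻¹⁻¹ ∈ Cfsg.conjBy A b⁻¹ := conj_mem_conjBy ha₀
    have ha1 : b⁻¹ * a₀ * b⁻¹⁻¹ ≠ 1 := by
      intro h1
      apply ha₀1
      calc a₀ = b⁻¹⁻¹ * (b⁻¹ * a₀ * b⁻¹⁻¹) * b⁻¹ := by group
        _ = 1 := by rw [h1]; group
    apply root_central_translate hS hr hC hz (inv_ne_one.mpr ha₀1) ha ha1 hAB
    have e : a₀⁻¹ * (b⁻¹ * a₀ * b⁻¹⁻¹) = ⁅a₀⁻¹, b⁻¹⁆ := by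
      rw [commutatorElement_def]; group
    rw [e]
    exact Subgroup.commutator_mem_commutator (A.inv_mem ha₀) hbi

section conclusions

variable {G : Type*} [Group G] {S : Set (Subgroup G)} {A B C A' C' : Subgroup G}

namespace Config

variable (cf : Config S A B C A' C')
include cf

theorem AA : A ≤ Subgroup.centralizer (A : Set G) := le_centralizer_self_of_comm (cf.hS.commutative A cf.hA)
theorem BB : B ≤ Subgroup.centralizer (B : Set G) := le_centralizer_self_of_comm (cf.hS.commutative B cf.hB)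
theorem CC : C ≤ Subgroup.centralizer (C : Set G) := le_centralizer_self_of_comm (cf.hS.commutative C cf.hC)
theorem A'A' : A' ≤ Subgroup.centralizer (A' : Set G) :=
  le_centralizer_self_of_comm (cf.hS.commutative A' cf.hA')
theorem C'C' : C' ≤ Subgroup.centralizer (C' : Set G) :=
  le_centralizer_self_of_comm (cf.hS.commutative C' cf.hC')

theorem A1A : ⁅A, B⁆ ≤ Subgroup.centralizer (A : Set G) :=
  (commutatorCase_le_centralizer cf.hAB).trans (Subgroup.centralizer_le (by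
    exact_mod_cast (le_sup_left : A ≤ A ⊔ B)))
theorem A1B : ⁅A, B⁆ ≤ Subgroup.centralizer (B : Set G) :=
  (commutatorCase_le_centralizer cf.hAB).trans (Subgroup.centralizer_le (by
    exact_mod_cast (le_sup_right : B ≤ A ⊔ B)))
theorem C1B : ⁅B, C⁆ ≤ Subgroup.centralizer (B : Set G) :=
  (commutatorCase_le_centralizer cf.hBC).trans (Subgroup.centralizer_le (by
    exact_mod_cast (le_sup_left : B ≤ B ⊔ C)))
theorem C1C : ⁅B, C⁆ ≤ Subgroup.centralizer (C : Set G) :=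
  (commutatorCase_le_centralizer cf.hBC).trans (Subgroup.centralizer_le (by
    exact_mod_cast (le_sup_right : C ≤ B ⊔ C)))

theorem CA : C ≤ Subgroup.centralizer (A : Set G) := le_centralizer_symm cf.hAC

theorem A'A : A' ≤ Subgroup.centralizer (A : Set G) :=
  (le_sup_right.trans cf.supA.le).trans (sup_le cf.AA cf.A1A)
theorem AA' : A ≤ Subgroup.centralizer (A' : Set G) := le_centralizer_symm cf.A'A
theorem C'C : C' ≤ Subgroup.centralizer (C : Set G) :=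
  (le_sup_right.trans cf.supC.le).trans (sup_le cf.CC cf.C1C)
theorem CC' : C ≤ Subgroup.centralizer (C' : Set G) := le_centralizer_symm cf.C'C
theorem C'A' : C' ≤ Subgroup.centralizer (A' : Set G) := le_centralizer_symm cf.hA'C'

/-- `Y` centralizes `X`. -/
theorem YX : A' ⊔ C ≤ Subgroup.centralizer ((A ⊔ C' : Subgroup G) : Set G) :=
  sup_le (le_centralizer_sup cf.A'A cf.hA'C') (le_centralizer_sup cf.CA cf.CC')

theorem XY : A ⊔ C' ≤ Subgroup.centralizer ((A' ⊔ C : Subgroup G) : Set G) :=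
  le_centralizer_symm cf.YX

theorem comm_XY : ⁅A ⊔ C', A' ⊔ C⁆ = ⊥ :=
  Subgroup.commutator_eq_bot_iff_le_centralizer.mpr cf.XY

/-- `M = X ⊔ Y = (A ⊔ A₁) ⊔ (C ⊔ C₁)`. -/
theorem M_eq : (A ⊔ C') ⊔ (A' ⊔ C) = (A ⊔ ⁅A, B⁆) ⊔ (C ⊔ ⁅B, C⁆) := by
  rw [sup_sup_sup_comm, cf.supA, sup_comm C' C, cf.supC]

theorem B_le_normalizer_M :
    B ≤ Subgroup.normalizer ((((A ⊔ C') ⊔ (A' ⊔ C) : Subgroup G)) : Set G) := by
  intro b' hb'
  rw [← conjBy_eq_self_iff, cf.M_eq, conjBy_sup]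
  have h1 := commutatorCase_le_normalizer cf.hAB hb'
  have h2 := commutatorCase_le_normalizer (commutatorCase_symm cf.hBC) hb'
  rw [← conjBy_eq_self_iff] at h1 h2
  rw [Subgroup.commutator_comm C B] at h2
  rw [h1, h2]

theorem R_le_normalizer_M :
    A ⊔ B ⊔ C ≤ Subgroup.normalizer ((((A ⊔ C') ⊔ (A' ⊔ C) : Subgroup G)) : Set G) := by
  refine sup_le (sup_le ?_ cf.B_le_normalizer_M) ?_
  · exact (le_sup_left.trans le_sup_left : A ≤ (A ⊔ C') ⊔ (A' ⊔ C)).trans Subgroup.le_normalizer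
  · exact (le_sup_right.trans le_sup_right : C ≤ (A ⊔ C') ⊔ (A' ⊔ C)).trans Subgroup.le_normalizer

theorem M_sup_B : ((A ⊔ C') ⊔ (A' ⊔ C)) ⊔ B = A ⊔ B ⊔ C := by
  rw [cf.M_eq]
  apply le_antisymm
  · refine sup_le (sup_le (sup_le ?_ ?_) (sup_le ?_ ?_)) ?_
    · exact le_sup_left.trans le_sup_left
    · exact (Subgroup.commutator_le_sup A B).trans le_sup_left
    · exact le_sup_right
    · exact (Subgroup.commutator_le_sup B C).trans (sup_le (le_sup_right.trans le_sup_left) le_sup_right)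
    · exact le_sup_right.trans le_sup_left
  · refine sup_le (sup_le ?_ le_sup_right) ?_
    · exact (le_sup_left.trans le_sup_left).trans le_sup_left
    · exact (le_sup_left.trans le_sup_right).trans le_sup_left

theorem DX_central : ⁅A, C'⁆ ≤ Subgroup.centralizer ((A ⊔ C' : Subgroup G) : Set G) :=
  pair_central cf.hS cf.hA cf.hC' cf.nrA

theorem DY_central : ⁅A', C⁆ ≤ Subgroup.centralizer ((A' ⊔ C : Subgroup G) : Set G) :=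
  pair_central cf.hS cf.hA' cf.hC cf.nrC

/-- `⁅A, C'⁆ = ⊥ ↔ ⁅A, C₁⁆ = ⊥`. -/
theorem DX_iff : ⁅A, C'⁆ = ⊥ ↔ ⁅A, ⁅B, C⁆⁆ = ⊥ := by
  rw [Subgroup.commutator_eq_bot_iff_le_centralizer, Subgroup.commutator_eq_bot_iff_le_centralizer,
    ← le_centralizer_sup_iff (H := C) cf.hAC, ← le_centralizer_sup_iff (H := C) (K := ⁅B, C⁆) cf.hAC,
    cf.supC]

/-- `⁅A', C⁆ = ⊥ ↔ ⁅A₁, C⁆ = ⊥`. -/
theorem DY_iff : ⁅A', C⁆ = ⊥ ↔ ⁅⁅A, B⁆, C⁆ = ⊥ := by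
  rw [Subgroup.commutator_comm A' C, Subgroup.commutator_comm ⁅A, B⁆ C,
    Subgroup.commutator_eq_bot_iff_le_centralizer, Subgroup.commutator_eq_bot_iff_le_centralizer,
    ← le_centralizer_sup_iff (H := A) cf.CA, ← le_centralizer_sup_iff (H := A) (K := ⁅A, B⁆) cf.CA,
    cf.supA]

/-- Three subgroups lemma: `⁅A, C₁⁆ = ⊥ ↔ ⁅A₁, C⁆ = ⊥`. -/
theorem three_iff : ⁅A, ⁅B, C⁆⁆ = ⊥ ↔ ⁅⁅A, B⁆, C⁆ = ⊥ := by
  have hCA : ⁅⁅C, A⁆, B⁆ = ⊥ := by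
    rw [Subgroup.commutator_eq_bot_iff_le_centralizer.mpr cf.CA, Subgroup.commutator_bot_left]
  constructor
  · intro h
    rw [Subgroup.commutator_comm] at h
    exact Subgroup.commutator_commutator_eq_bot_of_rotate h hCA
  · intro h
    rw [Subgroup.commutator_comm]
    exact Subgroup.commutator_commutator_eq_bot_of_rotate hCA h

theorem DX_iff_DY : ⁅A, C'⁆ = ⊥ ↔ ⁅A', C⁆ = ⊥ :=
  cf.DX_iff.trans (cf.three_iff.trans cf.DY_iff.symm)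

theorem part_one :
    ((IsMulCommutative ↥(A ⊔ C') ∧ IsMulCommutative ↥(A' ⊔ C)) ∨
      ((¬ IsMulCommutative ↥(A ⊔ C') ∧ ⁅⁅A ⊔ C', A ⊔ C'⁆, A ⊔ C'⁆ = ⊥) ∧
        (¬ IsMulCommutative ↥(A' ⊔ C) ∧ ⁅⁅A' ⊔ C, A' ⊔ C⁆, A' ⊔ C⁆ = ⊥))) := by
  have iX := isMulCommutative_sup_iff (cf.hS.commutative A cf.hA) (cf.hS.commutative C' cf.hC')
  have iY := isMulCommutative_sup_iff (cf.hS.commutative A' cf.hA') (cf.hS.commutative C cf.hC)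
  by_cases h : ⁅A, C'⁆ = ⊥
  · left
    exact ⟨iX.mpr h, iY.mpr (cf.DX_iff_DY.mp h)⟩
  · right
    refine ⟨⟨fun hc => h (iX.mp hc), class_two_sup cf.AA cf.C'C' cf.DX_central⟩,
      ⟨fun hc => h (cf.DX_iff_DY.mpr (iY.mp hc)), class_two_sup cf.A'A' cf.CC cf.DY_central⟩⟩

/-! #### Nilpotency -/

theorem A_le_M : A ≤ (A ⊔ C') ⊔ (A' ⊔ C) := le_sup_left.trans le_sup_left
theorem C_le_M : C ≤ (A ⊔ C') ⊔ (A' ⊔ C) := le_sup_right.trans le_sup_right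
theorem A1_le_M : ⁅A, B⁆ ≤ (A ⊔ C') ⊔ (A' ⊔ C) := by
  rw [cf.M_eq]; exact le_sup_right.trans le_sup_left
theorem C1_le_M : ⁅B, C⁆ ≤ (A ⊔ C') ⊔ (A' ⊔ C) := by
  rw [cf.M_eq]; exact le_sup_right.trans le_sup_right

/-- `M` has class at most two. -/
theorem MM_cent : ⁅(A ⊔ C') ⊔ (A' ⊔ C), (A ⊔ C') ⊔ (A' ⊔ C)⁆ ≤
    Subgroup.centralizer ((((A ⊔ C') ⊔ (A' ⊔ C) : Subgroup G)) : Set G) := by
  have hK1 : ⁅A, C'⁆ ≤ Subgroup.centralizer ((((A ⊔ C') ⊔ (A' ⊔ C) : Subgroup G)) : Set G) :=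
    le_centralizer_sup cf.DX_central ((Subgroup.commutator_le_sup A C').trans cf.XY)
  have hK2 : ⁅A', C⁆ ≤ Subgroup.centralizer ((((A ⊔ C') ⊔ (A' ⊔ C) : Subgroup G)) : Set G) :=
    le_centralizer_sup ((Subgroup.commutator_le_sup A' C).trans cf.YX) cf.DY_central
  have hK : ⁅A, C'⁆ ⊔ ⁅A', C⁆ ≤
      Subgroup.centralizer ((((A ⊔ C') ⊔ (A' ⊔ C) : Subgroup G)) : Set G) := sup_le hK1 hK2
  have hMn : (A ⊔ C') ⊔ (A' ⊔ C) ≤
      Subgroup.normalizer (((⁅A, C'⁆ ⊔ ⁅A', C⁆ : Subgroup G)) : Set G) :=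
    centralizer_le_normalizer_coe (le_centralizer_symm hK)
  have hXn := le_sup_left.trans hMn
  have hYn := le_sup_right.trans hMn
  refine le_trans ?_ hK
  apply commutator_sup_le_left hXn hYn
  · apply commutator_sup_le_right hXn hYn
    · exact (comm_sup_self_le cf.AA cf.C'C' cf.DX_central).trans le_sup_left
    · exact comm_le_of_cent cf.XY
  · apply commutator_sup_le_right hXn hYn
    · exact comm_le_of_cent cf.YX
    · exact (comm_sup_self_le cf.A'A' cf.CC cf.DY_central).trans le_sup_right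

theorem D_cent : ⁅A, ⁅B, C⁆⁆ ≤
    Subgroup.centralizer ((((A ⊔ C') ⊔ (A' ⊔ C) : Subgroup G)) : Set G) :=
  (Subgroup.commutator_mono cf.A_le_M cf.C1_le_M).trans cf.MM_cent

theorem D'_cent : ⁅C, ⁅A, B⁆⁆ ≤
    Subgroup.centralizer ((((A ⊔ C') ⊔ (A' ⊔ C) : Subgroup G)) : Set G) :=
  (Subgroup.commutator_mono cf.C_le_M cf.A1_le_M).trans cf.MM_cent

theorem E_cent : ⁅⁅A, B⁆, ⁅B, C⁆⁆ ≤
    Subgroup.centralizer ((((A ⊔ C') ⊔ (A' ⊔ C) : Subgroup G)) : Set G) :=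
  (Subgroup.commutator_mono cf.A1_le_M cf.C1_le_M).trans cf.MM_cent

theorem B_cent_E : B ≤ Subgroup.centralizer ((⁅⁅A, B⁆, ⁅B, C⁆⁆ : Subgroup G) : Set G) := by
  have h1 : B ≤ Subgroup.centralizer ((⁅A, B⁆ ⊔ ⁅B, C⁆ : Subgroup G) : Set G) :=
    le_centralizer_sup (le_centralizer_symm cf.A1B) (le_centralizer_symm cf.C1B)
  exact h1.trans (Subgroup.centralizer_le (by
    exact_mod_cast (Subgroup.commutator_le_sup ⁅A, B⁆ ⁅B, C⁆)))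

theorem R_cent_E : A ⊔ B ⊔ C ≤ Subgroup.centralizer ((⁅⁅A, B⁆, ⁅B, C⁆⁆ : Subgroup G) : Set G) := by
  have hM := le_centralizer_symm cf.E_cent
  exact sup_le (sup_le (cf.A_le_M.trans hM) cf.B_cent_E) (cf.C_le_M.trans hM)

theorem E_le_M : ⁅⁅A, B⁆, ⁅B, C⁆⁆ ≤ (A ⊔ C') ⊔ (A' ⊔ C) :=
  (Subgroup.commutator_le_sup _ _).trans (sup_le cf.A1_le_M cf.C1_le_M)

theorem D_le_M : ⁅A, ⁅B, C⁆⁆ ≤ (A ⊔ C') ⊔ (A' ⊔ C) :=
  (Subgroup.commutator_le_sup _ _).trans (sup_le cf.A_le_M cf.C1_le_M)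

theorem D'_le_M : ⁅C, ⁅A, B⁆⁆ ≤ (A ⊔ C') ⊔ (A' ⊔ C) :=
  (Subgroup.commutator_le_sup _ _).trans (sup_le cf.C_le_M cf.A1_le_M)

theorem M_cent_E : (A ⊔ C') ⊔ (A' ⊔ C) ≤
    Subgroup.centralizer ((⁅⁅A, B⁆, ⁅B, C⁆⁆ : Subgroup G) : Set G) := le_centralizer_symm cf.E_cent

theorem DB_le_E : ⁅⁅A, ⁅B, C⁆⁆, B⁆ ≤ ⁅⁅A, B⁆, ⁅B, C⁆⁆ := by
  apply commutator_commutator_le
  · exact centralizer_le_normalizer_coe (cf.D_le_M.trans cf.M_cent_E)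
  · intro a ha c₁ hc₁ b' hb'
    have hd : ⁅a, c₁⁆ ∈ ⁅A, ⁅B, C⁆⁆ := Subgroup.commutator_mem_commutator ha hc₁
    have ht : ⁅b', a⁆ ∈ ⁅A, B⁆ := by
      rw [Subgroup.commutator_comm]; exact Subgroup.commutator_mem_commutator hb' ha
    have he : ⁅⁅b', a⁆, c₁⁆ ∈ ⁅⁅A, B⁆, ⁅B, C⁆⁆ := Subgroup.commutator_mem_commutator ht hc₁
    have hdc := mem_centralizer_coe.mp (cf.D_cent hd)
    have h1 : b' * c₁ = c₁ * b' := mem_centralizer_coe.mp (cf.C1B hc₁) b' hb'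
    have h2 := hdc _ (cf.A1_le_M ht)
    have h3 := hdc _ (cf.E_le_M he)
    rw [comm_conj_calc h1 h2 h3]
    exact Subgroup.inv_mem _ he

theorem D'B_le_E : ⁅⁅C, ⁅A, B⁆⁆, B⁆ ≤ ⁅⁅A, B⁆, ⁅B, C⁆⁆ := by
  apply commutator_commutator_le
  · exact centralizer_le_normalizer_coe (cf.D'_le_M.trans cf.M_cent_E)
  · intro c hc a₁ ha₁ b' hb'
    have hd : ⁅c, a₁⁆ ∈ ⁅C, ⁅A, B⁆⁆ := Subgroup.commutator_mem_commutator hc ha₁
    have ht : ⁅b', c⁆ ∈ ⁅B, C⁆ := Subgroup.commutator_mem_commutator hb' hc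
    have he : ⁅⁅b', c⁆, a₁⁆ ∈ ⁅⁅A, B⁆, ⁅B, C⁆⁆ := by
      rw [Subgroup.commutator_comm]; exact Subgroup.commutator_mem_commutator ht ha₁
    have hdc := mem_centralizer_coe.mp (cf.D'_cent hd)
    have h1 : b' * a₁ = a₁ * b' := mem_centralizer_coe.mp (cf.A1B ha₁) b' hb'
    have h2 := hdc _ (cf.C1_le_M ht)
    have h3 := hdc _ (cf.E_le_M he)
    rw [comm_conj_calc h1 h2 h3]
    exact Subgroup.inv_mem _ he

theorem Z_cent : ⁅A, ⁅B, C⁆⁆ ⊔ ⁅C, ⁅A, B⁆⁆ ⊔ ⁅⁅A, B⁆, ⁅B, C⁆⁆ ≤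
    Subgroup.centralizer ((((A ⊔ C') ⊔ (A' ⊔ C) : Subgroup G)) : Set G) :=
  sup_le (sup_le cf.D_cent cf.D'_cent) cf.E_cent

theorem L4 : ⁅⁅⁅A, B⁆, ⁅B, C⁆⁆, A ⊔ B ⊔ C⁆ = ⊥ :=
  Subgroup.commutator_eq_bot_iff_le_centralizer.mpr (le_centralizer_symm cf.R_cent_E)

theorem L3 : ⁅⁅A, ⁅B, C⁆⁆ ⊔ ⁅C, ⁅A, B⁆⁆ ⊔ ⁅⁅A, B⁆, ⁅B, C⁆⁆, A ⊔ B ⊔ C⁆ ≤ ⁅⁅A, B⁆, ⁅B, C⁆⁆ := by
  have hRn : A ⊔ B ⊔ C ≤ Subgroup.normalizer ((⁅⁅A, B⁆, ⁅B, C⁆⁆ : Subgroup G) : Set G) :=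
    centralizer_le_normalizer_coe cf.R_cent_E
  have hAn := (le_sup_left.trans le_sup_left).trans hRn
  have hBn := (le_sup_right.trans le_sup_left).trans hRn
  have hCn := le_sup_right.trans hRn
  have hMn := centralizer_le_normalizer_coe cf.M_cent_E
  have cA : (A ⊔ C') ⊔ (A' ⊔ C) ≤ A ⊔ B ⊔ C := by
    rw [← cf.M_sup_B]; exact le_sup_left
  apply comm_triple_le_left (cf.D_le_M.trans hMn) (cf.D'_le_M.trans hMn) Subgroup.le_normalizer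
  · apply comm_triple_le_right hAn hBn hCn
    · exact comm_le_of_cent (cf.D_cent.trans (Subgroup.centralizer_le (by exact_mod_cast cf.A_le_M)))
    · exact cf.DB_le_E
    · exact comm_le_of_cent (cf.D_cent.trans (Subgroup.centralizer_le (by exact_mod_cast cf.C_le_M)))
  · apply comm_triple_le_right hAn hBn hCn
    · exact comm_le_of_cent (cf.D'_cent.trans (Subgroup.centralizer_le (by exact_mod_cast cf.A_le_M)))
    · exact cf.D'B_le_E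
    · exact comm_le_of_cent (cf.D'_cent.trans (Subgroup.centralizer_le (by exact_mod_cast cf.C_le_M)))
  · rw [cf.L4]; exact bot_le

theorem L2 : ⁅⁅A, B⁆ ⊔ ⁅B, C⁆ ⊔ (⁅A, ⁅B, C⁆⁆ ⊔ ⁅C, ⁅A, B⁆⁆ ⊔ ⁅⁅A, B⁆, ⁅B, C⁆⁆), A ⊔ B ⊔ C⁆ ≤
    ⁅A, ⁅B, C⁆⁆ ⊔ ⁅C, ⁅A, B⁆⁆ ⊔ ⁅⁅A, B⁆, ⁅B, C⁆⁆ := by
  have hMn := centralizer_le_normalizer_coe (le_centralizer_symm cf.Z_cent)
  have hAn := cf.A_le_M.trans hMn
  have hCn := cf.C_le_M.trans hMn
  have hBn : B ≤ Subgroup.normalizer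
      (((⁅A, ⁅B, C⁆⁆ ⊔ ⁅C, ⁅A, B⁆⁆ ⊔ ⁅⁅A, B⁆, ⁅B, C⁆⁆ : Subgroup G)) : Set G) := by
    rw [Subgroup.le_normalizer_iff_commutator_le_left]
    exact ((Subgroup.commutator_mono le_rfl (le_sup_right.trans le_sup_left)).trans cf.L3).trans
      le_sup_right
  apply comm_triple_le_left (cf.A1_le_M.trans hMn) (cf.C1_le_M.trans hMn) Subgroup.le_normalizer
  · apply comm_triple_le_right hAn hBn hCn
    · exact comm_le_of_cent cf.A1A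
    · exact comm_le_of_cent cf.A1B
    · rw [Subgroup.commutator_comm]; exact le_sup_right.trans le_sup_left
  · apply comm_triple_le_right hAn hBn hCn
    · rw [Subgroup.commutator_comm]; exact le_sup_left.trans le_sup_left
    · exact comm_le_of_cent cf.C1B
    · exact comm_le_of_cent cf.C1C
  · exact cf.L3.trans le_sup_right

theorem L1 : ⁅A ⊔ B ⊔ C, A ⊔ B ⊔ C⁆ ≤
    ⁅A, B⁆ ⊔ ⁅B, C⁆ ⊔ (⁅A, ⁅B, C⁆⁆ ⊔ ⁅C, ⁅A, B⁆⁆ ⊔ ⁅⁅A, B⁆, ⁅B, C⁆⁆) := by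
  have hRn : A ⊔ B ⊔ C ≤ Subgroup.normalizer
      (((⁅A, B⁆ ⊔ ⁅B, C⁆ ⊔ (⁅A, ⁅B, C⁆⁆ ⊔ ⁅C, ⁅A, B⁆⁆ ⊔ ⁅⁅A, B⁆, ⁅B, C⁆⁆) : Subgroup G)) : Set G) := by
    rw [Subgroup.le_normalizer_iff_commutator_le_left]
    exact cf.L2.trans le_sup_right
  have hAn := (le_sup_left.trans le_sup_left).trans hRn
  have hBn := (le_sup_right.trans le_sup_left).trans hRn
  have hCn := le_sup_right.trans hRn
  apply comm_triple_le_left hAn hBn hCn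
  · apply comm_triple_le_right hAn hBn hCn
    · exact comm_le_of_cent cf.AA
    · exact le_sup_left.trans le_sup_left
    · exact comm_le_of_cent cf.hAC
  · apply comm_triple_le_right hAn hBn hCn
    · rw [Subgroup.commutator_comm]; exact le_sup_left.trans le_sup_left
    · exact comm_le_of_cent cf.BB
    · exact le_sup_right.trans le_sup_left
  · apply comm_triple_le_right hAn hBn hCn
    · exact comm_le_of_cent cf.CA
    · rw [Subgroup.commutator_comm]; exact le_sup_right.trans le_sup_left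
    · exact comm_le_of_cent cf.CC

theorem nilpotent : Group.IsNilpotent ↥(A ⊔ B ⊔ C) := by
  apply Subgroup.isNilpotent_of_lowerCentralSeries_eq_bot (n := 4)
  change ⁅⁅⁅⁅A ⊔ B ⊔ C, A ⊔ B ⊔ C⁆, A ⊔ B ⊔ C⁆, A ⊔ B ⊔ C⁆, A ⊔ B ⊔ C⁆ = ⊥
  rw [eq_bot_iff, ← cf.L4]
  refine Subgroup.commutator_mono ?_ le_rfl
  refine le_trans (Subgroup.commutator_mono ?_ le_rfl) cf.L3
  refine le_trans (Subgroup.commutator_mono ?_ le_rfl) cf.L2
  exact cf.L1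

end Config

end conclusions

/-- Let S be a set of abstract root subgroups of G and A, B, C ∈ S with ⁅A, B⁆ ∈ S and ⁅B, C⁆ ∈ S, where A and C are different and commute. For a non-identity b ∈ B put X = ⟨A, b⁻¹ C b⟩ and Y = ⟨b⁻¹ A b, C⟩ and R = ⟨A, B, C⟩. Then X and Y are either both abelian or both nilpotent of class exactly two; X and Y commute elementwise; XY is normal in R with R = (XY) B; and R is nilpotent. -/
theorem result {G : Type*} [Group G] {S : Set (Subgroup G)} (hS : Cfsg.IsRootSubgroupSet S)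
    {A B C : Subgroup G} (hA : A ∈ S) (hB : B ∈ S) (hC : C ∈ S) (hAB : ⁅A, B⁆ ∈ S) (hBC : ⁅B, C⁆ ∈ S)
    (hAC : C ∈ Cfsg.commutingPartners S A)
    {b : G} (hb : b ∈ B) (hb1 : b ≠ 1) :
    ((IsMulCommutative ↥(A ⊔ Cfsg.conjBy C b⁻¹) ∧ IsMulCommutative ↥(Cfsg.conjBy A b⁻¹ ⊔ C)) ∨
      ((¬ IsMulCommutative ↥(A ⊔ Cfsg.conjBy C b⁻¹) ∧
          ⁅⁅A ⊔ Cfsg.conjBy C b⁻¹, A ⊔ Cfsg.conjBy C b⁻¹⁆, A ⊔ Cfsg.conjBy C b⁻¹⁆ = ⊥) ∧
        (¬ IsMulCommutative ↥(Cfsg.conjBy A b⁻¹ ⊔ C) ∧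
          ⁅⁅Cfsg.conjBy A b⁻¹ ⊔ C, Cfsg.conjBy A b⁻¹ ⊔ C⁆, Cfsg.conjBy A b⁻¹ ⊔ C⁆ = ⊥))) ∧
    ⁅A ⊔ Cfsg.conjBy C b⁻¹, Cfsg.conjBy A b⁻¹ ⊔ C⁆ = ⊥ ∧
    (∀ r ∈ A ⊔ B ⊔ C, Cfsg.conjBy ((A ⊔ Cfsg.conjBy C b⁻¹) ⊔ (Cfsg.conjBy A b⁻¹ ⊔ C)) r =
      (A ⊔ Cfsg.conjBy C b⁻¹) ⊔ (Cfsg.conjBy A b⁻¹ ⊔ C)) ∧
    ((A ⊔ Cfsg.conjBy C b⁻¹) ⊔ (Cfsg.conjBy A b⁻¹ ⊔ C)) ⊔ B = A ⊔ B ⊔ C ∧
    Group.IsNilpotent ↥(A ⊔ B ⊔ C) := by
  have cf := config hS hA hB hC hAB hBC hAC hb hb1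
  refine ⟨cf.part_one, cf.comm_XY, ?_, cf.M_sup_B, cf.nilpotent⟩
  intro r hr
  exact conjBy_eq_self_iff.mpr (cf.R_le_normalizer_M hr)

end Cfsg.Agent.S5030
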