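import Cfsg.Statements.S5036
import Cfsg.Agent.S5030

set_option autoImplicit false
open Cfsg

namespace Cfsg.Agent.S5036

open Cfsg.Agent.Helper83
open scoped commutatorElement

section

variable {G : Type*} [Group G] {S : Set (Subgroup G)}

/-- In the commutator case `A ⊓ ⁅A, B⁆ = ⊥`. -/
theorem commutatorCase_inf_eq_bot (hS : Cfsg.IsRootSubgroupSet S) {A B : Subgroup G}
    (h : Cfsg.RootCommutatorCase S A B) : A ⊓ ⁅A, B⁆ = ⊥ := by
  rw [eq_bot_iff]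
  intro x hx
  rw [Subgroup.mem_inf] at hx
  rw [Subgroup.mem_bot]
  by_contra hx1
  have h1 := h.2.2.1 x hx.1 hx1
  have hcen := commutatorCase_le_centralizer h hx.2
  have h2 : Subgroup.closure ((fun b : G => x * b * x⁻¹ * b⁻¹) '' (B : Set G)) = ⊥ := by
    rw [Subgroup.closure_eq_bot_iff]
    rintro _ ⟨b, hb, rfl⟩
    have := (Subgroup.mem_centralizer_iff.mp hcen) b (Subgroup.mem_sup_right hb)
    -- this : b * x = x * b
    change x * b * x⁻¹ * b⁻¹ = 1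
    rw [← this]; group
  rw [h2] at h1
  exact cf_ne_bot hS h h1.symm
where
  cf_ne_bot (hS : Cfsg.IsRootSubgroupSet S) {A B : Subgroup G}
      (h : Cfsg.RootCommutatorCase S A B) : ⁅A, B⁆ ≠ ⊥ := hS.ne_bot _ h.1

/-- In the commutator case, an element of `A` commuting with a non-identity element of `B` is
trivial... in the weak form: an element of `A` centralizing `B` is trivial. -/
theorem commutatorCase_cent_left (hS : Cfsg.IsRootSubgroupSet S) {A B : Subgroup G}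
    (h : Cfsg.RootCommutatorCase S A B) {a : G} (ha : a ∈ A) (hc : ∀ b ∈ B, b * a = a * b) : a = 1 := by
  by_contra ha1
  have h1 := h.2.2.1 a ha ha1
  have h2 : Subgroup.closure ((fun b : G => a * b * a⁻¹ * b⁻¹) '' (B : Set G)) = ⊥ := by
    rw [Subgroup.closure_eq_bot_iff]
    rintro _ ⟨b, hb, rfl⟩
    change a * b * a⁻¹ * b⁻¹ = 1
    rw [← hc b hb]; group
  rw [h2] at h1
  exact hS.ne_bot _ h.1 h1.symm

theorem commutatorCase_cent_right (hS : Cfsg.IsRootSubgroupSet S) {A B : Subgroup G}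
    (h : Cfsg.RootCommutatorCase S A B) {b : G} (hb : b ∈ B) (hc : ∀ a ∈ A, a * b = b * a) : b = 1 := by
  have h' := commutatorCase_symm h
  exact commutatorCase_cent_left hS h' hb hc

/-- `C_{A ⊔ ⁅A,B⁆}(B) ≤ ⁅A, B⁆`. -/
theorem commutatorCase_cent_sup (hS : Cfsg.IsRootSubgroupSet S) {A B : Subgroup G}
    (h : Cfsg.RootCommutatorCase S A B) {n : G} (hn : n ∈ A ⊔ ⁅A, B⁆)
    (hc : ∀ b ∈ B, b * n = n * b) : n ∈ ⁅A, B⁆ := by
  obtain ⟨a, ha, c, hcC, rfl⟩ := commutatorCase_mem_sup h hn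
  have hcen := commutatorCase_le_centralizer h hcC
  have ha1 : a = 1 := by
    apply commutatorCase_cent_left hS h ha
    intro b hb
    have h1 := hc b hb
    have h2 := (Subgroup.mem_centralizer_iff.mp hcen) b (Subgroup.mem_sup_right hb)
    -- h1 : b * (c * a) = c * a * b ; h2 : b * c = c * b
    calc b * a = c⁻¹ * (b * (c * a)) * 1 := by rw [← mul_assoc b c a, h2]; group
      _ = c⁻¹ * (c * a * b) * 1 := by rw [h1]
      _ = a * b := by group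
  rw [ha1, mul_one]; exact hcC

/-- Conjugates of commuting subgroups commute. -/
theorem conjBy_le_centralizer {H K : Subgroup G} (h : H ≤ Subgroup.centralizer (K : Set G)) (g : G) :
    Cfsg.conjBy H g ≤ Subgroup.centralizer ((Cfsg.conjBy K g : Subgroup G) : Set G) := by
  intro x hx
  rw [mem_conjBy] at hx
  rw [mem_centralizer_coe]
  intro y hy
  rw [mem_conjBy] at hy
  have h1 := (mem_centralizer_coe.mp (h hx)) _ hy
  have h2 : g * (g⁻¹ * y * g * (g⁻¹ * x * g)) * g⁻¹ = g * (g⁻¹ * x * g * (g⁻¹ * y * g)) * g⁻¹ := by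
    rw [h1]
  calc y * x = g * (g⁻¹ * y * g * (g⁻¹ * x * g)) * g⁻¹ := by group
    _ = g * (g⁻¹ * x * g * (g⁻¹ * y * g)) * g⁻¹ := h2
    _ = x * y := by group

/-- The hypotheses of S5036, with `C = ⁅A, B⁆`. -/
structure Hyp (S : Set (Subgroup G)) (A B D : Subgroup G) : Prop where
  hS : Cfsg.IsRootSubgroupSet S
  hA : A ∈ S
  hB : B ∈ S
  hC : ⁅A, B⁆ ∈ S
  hD : D ∈ S
  hDC : ⁅D, ⁅A, B⁆⁆ = A

namespace Hyp

variable {A B D : Subgroup G} (hy : Hyp S A B D)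
include hy

theorem cAB : Cfsg.RootCommutatorCase S A B := commutatorCase_of_mem hy.hS hy.hA hy.hB hy.hC

theorem cDC : Cfsg.RootCommutatorCase S D ⁅A, B⁆ :=
  commutatorCase_of_mem hy.hS hy.hD hy.hC (by rw [hy.hDC]; exact hy.hA)

theorem cCD : Cfsg.RootCommutatorCase S ⁅A, B⁆ D := commutatorCase_symm hy.cDC

theorem hCD : ⁅⁅A, B⁆, D⁆ = A := by rw [Subgroup.commutator_comm]; exact hy.hDC

theorem A_cent_D : A ≤ Subgroup.centralizer (D : Set G) := by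
  have h := commutatorCase_le_centralizer hy.cDC
  rw [hy.hDC] at h
  exact h.trans (Subgroup.centralizer_le (by exact_mod_cast (le_sup_left : D ≤ D ⊔ ⁅A, B⁆)))

theorem C_cent_B : ⁅A, B⁆ ≤ Subgroup.centralizer (B : Set G) :=
  (commutatorCase_le_centralizer hy.cAB).trans (Subgroup.centralizer_le (by
    exact_mod_cast (le_sup_right : B ≤ A ⊔ B)))

theorem C_cent_A : ⁅A, B⁆ ≤ Subgroup.centralizer (A : Set G) :=
  (commutatorCase_le_centralizer hy.cAB).trans (Subgroup.centralizer_le (by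
    exact_mod_cast (le_sup_left : A ≤ A ⊔ B)))

theorem A_ne_bot : A ≠ ⊥ := hy.hS.ne_bot A hy.hA

theorem A_ne_D : A ≠ D := by
  intro h
  have h1 : ⁅D, ⁅A, B⁆⁆ = ⊥ := by
    rw [Subgroup.commutator_comm, Subgroup.commutator_eq_bot_iff_le_centralizer, ← h]
    exact hy.C_cent_A
  rw [hy.hDC] at h1
  exact hy.A_ne_bot h1

theorem not_comm : ⁅B, D⁆ ≠ ⊥ := by
  intro h
  have h1 : ⁅⁅B, D⁆, A⁆ = ⊥ := by rw [h, Subgroup.commutator_bot_left]
  have h2 : ⁅⁅D, A⁆, B⁆ = ⊥ := by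
    rw [Subgroup.commutator_eq_bot_iff_le_centralizer.mpr (le_centralizer_symm hy.A_cent_D),
      Subgroup.commutator_bot_left]
  have h3 := Subgroup.commutator_commutator_eq_bot_of_rotate h1 h2
  rw [hy.hCD] at h3
  exact hy.A_ne_bot h3

theorem not_commCase : ¬ Cfsg.RootCommutatorCase S B D := by
  intro h
  obtain ⟨b', hb1⟩ := (Subgroup.ne_bot_iff_exists_ne_one).mp (hy.hS.ne_bot B hy.hB)
  obtain ⟨b, hb⟩ := b'
  have hb1' : b ≠ 1 := by simpa using hb1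
  have hAD : D ∈ Cfsg.commutingPartners S A :=
    ⟨hy.hD, hy.A_ne_D.symm, Subgroup.commutator_eq_bot_iff_le_centralizer.mpr hy.A_cent_D⟩
  have hnil := (Cfsg.Agent.S5030.result hy.hS hy.hA hy.hB hy.hD hy.hC h.1 hAD hb hb1').2.2.2.2
  rw [Subgroup.isNilpotent_iff_lowerCentralSeries] at hnil
  obtain ⟨n, hn⟩ := hnil
  have key : ∀ k : ℕ, A ≤ (A ⊔ B ⊔ D).lowerCentralSeries k ∧
      ⁅A, B⁆ ≤ (A ⊔ B ⊔ D).lowerCentralSeries k := by
    intro k
    induction k with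
    | zero =>
      rw [Subgroup.lowerCentralSeries_zero]
      exact ⟨le_sup_left.trans le_sup_left, (Subgroup.commutator_le_sup A B).trans le_sup_left⟩
    | succ k ih =>
      rw [Subgroup.lowerCentralSeries_succ]
      constructor
      · calc A = ⁅⁅A, B⁆, D⁆ := hy.hCD.symm
          _ ≤ _ := Subgroup.commutator_mono ih.2 le_sup_right
      · exact Subgroup.commutator_mono ih.1 (le_sup_right.trans le_sup_left)
  have := (key n).1
  rw [hn] at this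
  exact hy.A_ne_bot (le_bot_iff.mp this)

theorem rankOne : Cfsg.IsRankOnePair B D := by
  rcases hy.hS.pair B hy.hB D hy.hD with h | h | h
  · exact absurd h hy.not_comm
  · exact h
  · exact absurd h hy.not_commCase

theorem B_norm_N : B ≤ Subgroup.normalizer ((A ⊔ ⁅A, B⁆ : Subgroup G) : Set G) :=
  commutatorCase_le_normalizer hy.cAB

theorem D_norm_N : D ≤ Subgroup.normalizer ((A ⊔ ⁅A, B⁆ : Subgroup G) : Set G) := by
  have h := commutatorCase_le_normalizer hy.cCD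
  rw [hy.hCD, sup_comm] at h
  exact h

theorem cent_B_in_N {n : G} (hn : n ∈ A ⊔ ⁅A, B⁆) (hc : ∀ b ∈ B, b * n = n * b) : n ∈ ⁅A, B⁆ :=
  commutatorCase_cent_sup hy.hS hy.cAB hn hc

theorem cent_D_in_N {n : G} (hn : n ∈ A ⊔ ⁅A, B⁆) (hc : ∀ d ∈ D, d * n = n * d) : n ∈ A := by
  have hn' : n ∈ ⁅A, B⁆ ⊔ ⁅⁅A, B⁆, D⁆ := by rw [hy.hCD, sup_comm]; exact hn
  have := commutatorCase_cent_sup hy.hS hy.cCD hn' hc
  rw [hy.hCD] at this
  exact this

theorem conj_le_N_of_B {b : G} (hb : b ∈ B) : Cfsg.conjBy A b ≤ A ⊔ ⁅A, B⁆ :=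
  commutatorCase_conj_le hb

theorem conj_le_N_of_D {d : G} (hd : d ∈ D) : Cfsg.conjBy ⁅A, B⁆ d ≤ A ⊔ ⁅A, B⁆ := by
  have h := commutatorCase_conj_le (A := ⁅A, B⁆) (B := D) hd
  rw [hy.hCD, sup_comm] at h
  exact h

/-- If `B^d = D^b` then `A^b = C^d`. -/
theorem partner_eq {b d : G} (hb : b ∈ B) (hd : d ∈ D)
    (hbd : Cfsg.conjBy B d⁻¹ = Cfsg.conjBy D b⁻¹) :
    Cfsg.conjBy A b⁻¹ = Cfsg.conjBy ⁅A, B⁆ d⁻¹ := by
  apply le_antisymm
  · have h1 : Cfsg.conjBy A b⁻¹ ≤ Subgroup.centralizer ((Cfsg.conjBy D b⁻¹ : Subgroup G) : Set G) :=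
      conjBy_le_centralizer hy.A_cent_D b⁻¹
    rw [← hbd] at h1
    have h2 := conjBy_le_centralizer h1 d
    rw [conjBy_conjBy B, mul_inv_cancel, conjBy_one] at h2
    have h3 : Cfsg.conjBy (Cfsg.conjBy A b⁻¹) d ≤ A ⊔ ⁅A, B⁆ := by
      refine (conjBy_mono (hy.conj_le_N_of_B (B.inv_mem hb)) d).trans ?_
      rw [conjBy_eq_self_iff.mpr (hy.D_norm_N hd)]
    have h4 : Cfsg.conjBy (Cfsg.conjBy A b⁻¹) d ≤ ⁅A, B⁆ := fun y hy' =>
      hy.cent_B_in_N (h3 hy') (fun b' hb' => mem_centralizer_coe.mp (h2 hy') b' hb')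
    calc Cfsg.conjBy A b⁻¹ = Cfsg.conjBy (Cfsg.conjBy (Cfsg.conjBy A b⁻¹) d) d⁻¹ := by
          rw [conjBy_conjBy _ d d⁻¹, inv_mul_cancel, conjBy_one]
      _ ≤ Cfsg.conjBy ⁅A, B⁆ d⁻¹ := conjBy_mono h4 d⁻¹
  · have h1 : Cfsg.conjBy ⁅A, B⁆ d⁻¹ ≤
        Subgroup.centralizer ((Cfsg.conjBy B d⁻¹ : Subgroup G) : Set G) :=
      conjBy_le_centralizer hy.C_cent_B d⁻¹
    rw [hbd] at h1
    have h2 := conjBy_le_centralizer h1 b
    rw [conjBy_conjBy D, mul_inv_cancel, conjBy_one] at h2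
    have h3 : Cfsg.conjBy (Cfsg.conjBy ⁅A, B⁆ d⁻¹) b ≤ A ⊔ ⁅A, B⁆ := by
      refine (conjBy_mono (hy.conj_le_N_of_D (D.inv_mem hd)) b).trans ?_
      rw [conjBy_eq_self_iff.mpr (hy.B_norm_N hb)]
    have h4 : Cfsg.conjBy (Cfsg.conjBy ⁅A, B⁆ d⁻¹) b ≤ A := fun y hy' =>
      hy.cent_D_in_N (h3 hy') (fun d' hd' => mem_centralizer_coe.mp (h2 hy') d' hd')
    calc Cfsg.conjBy ⁅A, B⁆ d⁻¹ = Cfsg.conjBy (Cfsg.conjBy (Cfsg.conjBy ⁅A, B⁆ d⁻¹) b) b⁻¹ := by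
          rw [conjBy_conjBy _ b b⁻¹, inv_mul_cancel, conjBy_one]
      _ ≤ Cfsg.conjBy A b⁻¹ := conjBy_mono h4 b⁻¹

theorem omega_eq : (fun b : G => Cfsg.conjBy A b) '' (B : Set G) ∪ {⁅A, B⁆} =
    (fun d : G => Cfsg.conjBy ⁅A, B⁆ d) '' (D : Set G) ∪ {A} := by
  have hr := hy.rankOne
  ext E
  constructor
  · rintro (⟨b, hb, rfl⟩ | hE)
    · by_cases hb1 : b = 1
      · right; rw [hb1]; exact conjBy_one A
      · left
        obtain ⟨d, hd, _, hc⟩ := hr.cond_left b⁻¹ (B.inv_mem hb) (inv_ne_one.mpr hb1)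
        have := hy.partner_eq (B.inv_mem hb) hd hc
        rw [inv_inv] at this
        exact ⟨d⁻¹, D.inv_mem hd, this.symm⟩
    · left
      exact ⟨1, D.one_mem, by rw [Set.mem_singleton_iff.mp hE]; exact conjBy_one _⟩
  · rintro (⟨d, hd, rfl⟩ | hE)
    · by_cases hd1 : d = 1
      · right; rw [hd1]; exact conjBy_one _
      · left
        obtain ⟨b, hb, _, hc⟩ := hr.cond_right d⁻¹ (D.inv_mem hd) (inv_ne_one.mpr hd1)
        have := hy.partner_eq hb (D.inv_mem hd) hc.symm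
        rw [inv_inv] at this
        exact ⟨b⁻¹, B.inv_mem hb, this⟩
    · left
      exact ⟨1, B.one_mem, by rw [Set.mem_singleton_iff.mp hE]; exact conjBy_one _⟩

theorem X_le_stab : B ⊔ D ≤
    familyStabilizer ((fun b : G => Cfsg.conjBy A b) '' (B : Set G) ∪ {⁅A, B⁆}) := by
  have hB : ∀ x ∈ B, ∀ E ∈ (fun b : G => Cfsg.conjBy A b) '' (B : Set G) ∪ {⁅A, B⁆},
      Cfsg.conjBy E x ∈ (fun b : G => Cfsg.conjBy A b) '' (B : Set G) ∪ {⁅A, B⁆} := by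
    rintro x hx E (⟨b, hb, rfl⟩ | hE)
    · left
      exact ⟨x * b, B.mul_mem hx hb, (conjBy_conjBy A b x).symm⟩
    · right
      rw [Set.mem_singleton_iff.mp hE, Set.mem_singleton_iff, conjBy_eq_self_iff]
      exact centralizer_le_normalizer_coe (le_centralizer_symm hy.C_cent_B) hx
  have hD : ∀ x ∈ D, ∀ E ∈ (fun d : G => Cfsg.conjBy ⁅A, B⁆ d) '' (D : Set G) ∪ {A},
      Cfsg.conjBy E x ∈ (fun d : G => Cfsg.conjBy ⁅A, B⁆ d) '' (D : Set G) ∪ {A} := by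
    rintro x hx E (⟨d, hd, rfl⟩ | hE)
    · left
      exact ⟨x * d, D.mul_mem hx hd, (conjBy_conjBy _ d x).symm⟩
    · right
      rw [Set.mem_singleton_iff.mp hE, Set.mem_singleton_iff, conjBy_eq_self_iff]
      exact centralizer_le_normalizer_coe (le_centralizer_symm hy.A_cent_D) hx
  refine sup_le ?_ ?_
  · intro x hx E hE
    exact ⟨hB x hx E hE, hB x⁻¹ (B.inv_mem hx) E hE⟩
  · intro x hx E hE
    rw [hy.omega_eq] at hE ⊢
    exact ⟨hD x hx E hE, hD x⁻¹ (D.inv_mem hx) E hE⟩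

/-- There are partners `b ∈ B#`, `d ∈ D#` with `A^b = C^d`. -/
theorem exists_partner_eq : ∃ b ∈ B, ∃ d ∈ D, Cfsg.conjBy A b⁻¹ = Cfsg.conjBy ⁅A, B⁆ d⁻¹ := by
  have hr := hy.rankOne
  obtain ⟨b', hb1⟩ := (Subgroup.ne_bot_iff_exists_ne_one).mp (hy.hS.ne_bot B hy.hB)
  obtain ⟨b, hb⟩ := b'
  have hb1' : b ≠ 1 := by simpa using hb1
  obtain ⟨d, hd, _, hc⟩ := hr.cond_left b hb hb1'
  exact ⟨b, hb, d, hd, hy.partner_eq hb hd hc⟩

theorem AX_eq : {E | ∃ x ∈ B ⊔ D, E = Cfsg.conjBy A x} =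
    (fun b : G => Cfsg.conjBy A b) '' (B : Set G) ∪ {⁅A, B⁆} := by
  ext E
  constructor
  · rintro ⟨x, hx, rfl⟩
    have hA : A ∈ (fun b : G => Cfsg.conjBy A b) '' (B : Set G) ∪ {⁅A, B⁆} :=
      Or.inl ⟨1, B.one_mem, conjBy_one A⟩
    exact (hy.X_le_stab hx A hA).1
  · rintro (⟨b, hb, rfl⟩ | hE)
    · exact ⟨b, Subgroup.mem_sup_left hb, rfl⟩
    · obtain ⟨b, hb, d, hd, h⟩ := hy.exists_partner_eq
      refine ⟨d * b⁻¹, Subgroup.mul_mem _ (Subgroup.mem_sup_right hd)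
        (Subgroup.mem_sup_left (B.inv_mem hb)), ?_⟩
      rw [Set.mem_singleton_iff.mp hE, ← conjBy_conjBy, h, conjBy_conjBy, mul_inv_cancel, conjBy_one]

theorem CX_eq : {E | ∃ x ∈ B ⊔ D, E = Cfsg.conjBy ⁅A, B⁆ x} =
    (fun d : G => Cfsg.conjBy ⁅A, B⁆ d) '' (D : Set G) ∪ {A} := by
  ext E
  constructor
  · rintro ⟨x, hx, rfl⟩
    have hC : ⁅A, B⁆ ∈ (fun b : G => Cfsg.conjBy A b) '' (B : Set G) ∪ {⁅A, B⁆} :=
      Or.inr rfl
    rw [← hy.omega_eq]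
    exact (hy.X_le_stab hx _ hC).1
  · rintro (⟨d, hd, rfl⟩ | hE)
    · exact ⟨d, Subgroup.mem_sup_right hd, rfl⟩
    · obtain ⟨b, hb, d, hd, h⟩ := hy.exists_partner_eq
      refine ⟨b * d⁻¹, Subgroup.mul_mem _ (Subgroup.mem_sup_left hb)
        (Subgroup.mem_sup_right (D.inv_mem hd)), ?_⟩
      rw [Set.mem_singleton_iff.mp hE, ← conjBy_conjBy, ← h, conjBy_conjBy, mul_inv_cancel, conjBy_one]

theorem conjA_eq_conjC {b : G} (hb : b ∈ B) (hb1 : b ≠ 1) :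
    ∃ d ∈ D, Cfsg.conjBy A b = Cfsg.conjBy ⁅A, B⁆ d := by
  obtain ⟨d, hd, _, hc⟩ := hy.rankOne.cond_left b⁻¹ (B.inv_mem hb) (inv_ne_one.mpr hb1)
  have := hy.partner_eq (B.inv_mem hb) hd hc
  rw [inv_inv] at this
  exact ⟨d⁻¹, D.inv_mem hd, this⟩

theorem A_inf_C : A ⊓ ⁅A, B⁆ = ⊥ := commutatorCase_inf_eq_bot hy.hS hy.cAB

theorem conjA_inf_C {b : G} (hb : b ∈ B) : Cfsg.conjBy A b ⊓ ⁅A, B⁆ = ⊥ := by
  rw [eq_bot_iff]
  intro x hx
  rw [Subgroup.mem_inf, mem_conjBy] at hx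
  have h1 := mem_centralizer_coe.mp (hy.C_cent_B hx.2) b hb
  have h2 : b⁻¹ * x * b = x := by rw [mul_assoc, ← h1]; group
  rw [h2] at hx
  have : x ∈ A ⊓ ⁅A, B⁆ := hx
  rw [hy.A_inf_C] at this
  exact this

theorem A_inf_conjA {b : G} (hb : b ∈ B) (hb1 : b ≠ 1) : A ⊓ Cfsg.conjBy A b = ⊥ := by
  obtain ⟨d, hd, h⟩ := hy.conjA_eq_conjC hb hb1
  rw [h, eq_bot_iff]
  intro x hx
  rw [Subgroup.mem_inf, mem_conjBy] at hx
  have h1 := mem_centralizer_coe.mp (hy.A_cent_D hx.1) d hd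
  have h2 : d⁻¹ * x * d = x := by rw [mul_assoc, ← h1]; group
  rw [h2] at hx
  have : x ∈ A ⊓ ⁅A, B⁆ := hx
  rw [hy.A_inf_C] at this
  exact this

theorem conjA_inf_conjA {b₁ b₂ : G} (hb₁ : b₁ ∈ B) (hb₂ : b₂ ∈ B)
    (hne : Cfsg.conjBy A b₁ ≠ Cfsg.conjBy A b₂) : Cfsg.conjBy A b₁ ⊓ Cfsg.conjBy A b₂ = ⊥ := by
  have hb : b₁⁻¹ * b₂ ≠ 1 := by
    intro h
    apply hne
    have : b₂ = b₁ := by
      calc b₂ = b₁ * (b₁⁻¹ * b₂) := by group
        _ = b₁ := by rw [h, mul_one]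
    rw [this]
  have h0 := hy.A_inf_conjA (B.mul_mem (B.inv_mem hb₁) hb₂) hb
  rw [eq_bot_iff]
  intro x hx
  rw [Subgroup.mem_inf, mem_conjBy, mem_conjBy] at hx
  have h1 : b₁⁻¹ * x * b₁ ∈ A ⊓ Cfsg.conjBy A (b₁⁻¹ * b₂) := by
    rw [Subgroup.mem_inf]
    refine ⟨hx.1, ?_⟩
    rw [mem_conjBy]
    have e : (b₁⁻¹ * b₂)⁻¹ * (b₁⁻¹ * x * b₁) * (b₁⁻¹ * b₂) = b₂⁻¹ * x * b₂ := by group
    rw [e]; exact hx.2
  rw [h0, Subgroup.mem_bot] at h1
  rw [Subgroup.mem_bot]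
  calc x = b₁ * (b₁⁻¹ * x * b₁) * b₁⁻¹ := by group
    _ = 1 := by rw [h1]; group

theorem partition : Cfsg.IsSubgroupPartition (A ⊔ ⁅A, B⁆)
    ((fun b : G => Cfsg.conjBy A b) '' (B : Set G) ∪ {⁅A, B⁆}) := by
  refine ⟨?_, ?_, ?_⟩
  · rintro E (⟨b, hb, rfl⟩ | hE)
    · exact hy.conj_le_N_of_B hb
    · rw [Set.mem_singleton_iff.mp hE]; exact le_sup_right
  · intro x hx _
    rcases commutatorCase_cover hy.cAB hx with h1 | ⟨b, hb, hmem⟩
    · exact ⟨_, Or.inr rfl, h1⟩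
    · exact ⟨_, Or.inl ⟨b, hb, rfl⟩, hmem⟩
  · rintro E (⟨b₁, hb₁, rfl⟩ | hE) F (⟨b₂, hb₂, rfl⟩ | hF) hne
    · exact hy.conjA_inf_conjA hb₁ hb₂ hne
    · rw [Set.mem_singleton_iff.mp hF]; exact hy.conjA_inf_C hb₁
    · rw [Set.mem_singleton_iff.mp hE, inf_comm]; exact hy.conjA_inf_C hb₂
    · exact absurd ((Set.mem_singleton_iff.mp hE).trans (Set.mem_singleton_iff.mp hF).symm) hne

theorem X_norm_N : B ⊔ D ≤ Subgroup.normalizer ((A ⊔ ⁅A, B⁆ : Subgroup G) : Set G) :=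
  sup_le hy.B_norm_N hy.D_norm_N

theorem K_norm : ∀ x ∈ B ⊔ D,
    ∀ n ∈ (B ⊔ D) ⊓ Subgroup.centralizer ((A ⊔ ⁅A, B⁆ : Subgroup G) : Set G),
      x * n * x⁻¹ ∈ (B ⊔ D) ⊓ Subgroup.centralizer ((A ⊔ ⁅A, B⁆ : Subgroup G) : Set G) := by
  intro x hx n hn
  rw [Subgroup.mem_inf] at hn ⊢
  refine ⟨Subgroup.mul_mem _ (Subgroup.mul_mem _ hx hn.1) (Subgroup.inv_mem _ hx), ?_⟩
  rw [mem_centralizer_coe]
  intro m hm
  have hm' : x⁻¹ * m * x ∈ A ⊔ ⁅A, B⁆ := by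
    have h1 := conjBy_eq_self_iff.mpr (hy.X_norm_N hx)
    rw [← h1] at hm
    exact mem_conjBy.mp hm
  have h2 := mem_centralizer_coe.mp hn.2 _ hm'
  calc m * (x * n * x⁻¹) = x * (x⁻¹ * m * x * n) * x⁻¹ := by group
    _ = x * (n * (x⁻¹ * m * x)) * x⁻¹ := by rw [h2]
    _ = x * n * x⁻¹ * m := by group

theorem cent_central : ∀ x ∈ (B ⊔ D) ⊓ Subgroup.centralizer ((A ⊔ ⁅A, B⁆ : Subgroup G) : Set G),
    ∀ y ∈ B ⊔ D, x * y = y * x := by
  have hr := hy.rankOne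
  rcases rankOne_dichotomy hr inf_le_left hy.K_norm with h1 | h1
  · exfalso
    set K := (B ⊔ D) ⊓ Subgroup.centralizer ((A ⊔ ⁅A, B⁆ : Subgroup G) : Set G) with hK
    have hBK : B ≤ Subgroup.normalizer (K : Set G) := by
      intro b hb
      rw [Subgroup.mem_normalizer_iff]
      intro n
      constructor
      · intro hn
        exact hy.K_norm b (Subgroup.mem_sup_left hb) n hn
      · intro hn
        have := hy.K_norm b⁻¹ (Subgroup.mem_sup_left (B.inv_mem hb)) _ hn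
        have e : b⁻¹ * (b * n * b⁻¹) * b⁻¹⁻¹ = n := by group
        rwa [e] at this
    have hcoe := Subgroup.coe_mul_of_left_le_normalizer_right B K hBK
    apply hy.hS.ne_bot D hy.hD
    rw [eq_bot_iff]
    intro d hd
    rw [Subgroup.mem_bot]
    have hdX : d ∈ ((B ⊔ K : Subgroup G) : Set G) := by
      have : d ∈ K ⊔ B := h1 (Subgroup.mem_sup_right hd)
      rw [sup_comm] at this
      exact this
    rw [hcoe, Set.mem_mul] at hdX
    obtain ⟨b, hb, k, hk, rfl⟩ := hdX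
    have hkc : k ∈ Subgroup.centralizer ((A ⊔ ⁅A, B⁆ : Subgroup G) : Set G) := (Subgroup.mem_inf.mp hk).2
    have hb1 : b = 1 := by
      apply commutatorCase_cent_right hy.hS hy.cAB hb
      intro a ha
      have e1 := mem_centralizer_coe.mp (hy.A_cent_D ha) _ hd
      have e2 := mem_centralizer_coe.mp hkc a (Subgroup.mem_sup_left ha)
      -- e1 : b * k * a = a * (b * k), e2 : a * k = k * a
      calc a * b = a * (b * k) * k⁻¹ := by group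
        _ = b * k * a * k⁻¹ := by rw [← e1]
        _ = b * (k * a) * k⁻¹ := by group
        _ = b * (a * k) * k⁻¹ := by rw [e2]
        _ = b * a := by group
    rw [hb1, one_mul] at hd ⊢
    apply commutatorCase_cent_left hy.hS hy.cDC hd
    intro c hc
    exact mem_centralizer_coe.mp hkc c (Subgroup.mem_sup_right hc)
  · intro x hx y hy'
    exact (mem_centralizer_coe.mp (h1 hx) y hy').symm

end Hyp

/-- Let S be a set of abstract root subgroups of G, A, B ∈ S with C = ⁅A, B⁆ ∈ S, and D ∈ S with ⁅D, C⁆ = A. Put X = ⟨B, D⟩ and N = AC. Then B, D form a rank one pair; the conjugates of A under X are the conjugates of C under X, namely the conjugates of A by elements of B together with C, equally the conjugates of C by elements of D together with A, and they partition N; and the centralizer of N in X is central in X. -/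
theorem result {G : Type*} [Group G] {S : Set (Subgroup G)} (hS : Cfsg.IsRootSubgroupSet S)
    {A B D : Subgroup G} (hA : A ∈ S) (hB : B ∈ S) (hC : ⁅A, B⁆ ∈ S) (hD : D ∈ S) (hDC : ⁅D, ⁅A, B⁆⁆ = A) :
    Cfsg.IsRankOnePair B D ∧
    {E | ∃ x ∈ B ⊔ D, E = Cfsg.conjBy A x} = {E | ∃ x ∈ B ⊔ D, E = Cfsg.conjBy ⁅A, B⁆ x} ∧
    {E | ∃ x ∈ B ⊔ D, E = Cfsg.conjBy A x} = (fun b : G => Cfsg.conjBy A b) '' (B : Set G) ∪ {⁅A, B⁆} ∧
    {E | ∃ x ∈ B ⊔ D, E = Cfsg.conjBy A x} = (fun d : G => Cfsg.conjBy ⁅A, B⁆ d) '' (D : Set G) ∪ {A} ∧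
    Cfsg.IsSubgroupPartition (A ⊔ ⁅A, B⁆) {E | ∃ x ∈ B ⊔ D, E = Cfsg.conjBy A x} ∧
    ∀ x ∈ (B ⊔ D) ⊓ Subgroup.centralizer ((A ⊔ ⁅A, B⁆ : Subgroup G) : Set G), ∀ y ∈ B ⊔ D, x * y = y * x := by
  have hy : Hyp S A B D := ⟨hS, hA, hB, hC, hD, hDC⟩
  refine ⟨hy.rankOne, ?_, hy.AX_eq, ?_, ?_, hy.cent_central⟩
  · rw [hy.AX_eq, hy.CX_eq, hy.omega_eq]
  · rw [hy.AX_eq, hy.omega_eq]
  · rw [hy.AX_eq]; exact hy.partition

end

end Cfsg.Agent.S5036
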