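-- Statement S5017 (row 5017).
import Cfsg.Statements.S5017
import Cfsg.Agent.Helper83.RankOne2

set_option autoImplicit false
open Cfsg

namespace Cfsg.Agent.S5017

open Cfsg.Agent.Helper83

theorem dichotomy {X : Type*} [Group X] {A B : Subgroup X} (h : Cfsg.IsRankOneGroup X A B)
    (N : Subgroup X) (hN : N.Normal) : N ⊔ A = ⊤ ∨ N ≤ Subgroup.center X := by
  obtain ⟨htop, hp⟩ := h
  rcases rankOne_dichotomy hp (N := N) (by rw [htop]; exact le_top)
    (fun x _ n hn => hN.conj_mem n hn x) with h1 | h1
  · left
    rw [htop] at h1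
    exact top_le_iff.mp h1
  · right
    rw [htop, Subgroup.coe_top, Subgroup.centralizer_univ] at h1
    exact h1

theorem center_ne_top {X : Type*} [Group X] {A B : Subgroup X} (h : Cfsg.IsRankOneGroup X A B) :
    Subgroup.center X ≠ ⊤ := by
  intro hc
  obtain ⟨_, hp⟩ := h
  have hA : A ≤ Subgroup.normalizer (B : Set X) := by
    intro a _
    have : a ∈ Subgroup.center X := by rw [hc]; trivial
    exact (Subgroup.center_le_normalizer _) this
  have := rankOne_inf_normalizer hp
  rw [inf_eq_left.mpr hA] at this
  exact rankOne_left_ne_bot hp this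

/-- Let X be a rank one group with unipotent subgroups A and B and N a normal subgroup of X. Then either X = N A or N lies in the centre of X. Consequently a perfect rank one group is quasisimple. -/
theorem result {X : Type*} [Group X] {A B : Subgroup X} (h : Cfsg.IsRankOneGroup X A B) :
    (∀ N : Subgroup X, N.Normal → N ⊔ A = ⊤ ∨ N ≤ Subgroup.center X) ∧
    (Group.IsPerfect X → Cfsg.IsQuasisimple X) := by
  refine ⟨dichotomy h, fun hperf => ⟨hperf, ?_⟩⟩
  have hnt : Nontrivial (X ⧸ Subgroup.center X) := by
    rw [← not_subsingleton_iff_nontrivial]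
    intro hs
    exact center_ne_top h (QuotientGroup.subsingleton_iff.mp hs)
  refine { exists_pair_ne := hnt.exists_pair_ne, eq_bot_or_eq_top_of_normal := ?_ }
  intro H hH
  let N : Subgroup X := H.comap (QuotientGroup.mk' (Subgroup.center X))
  have hNn : N.Normal := hH.comap _
  have hHN : H = N.map (QuotientGroup.mk' (Subgroup.center X)) :=
    (Subgroup.map_comap_eq_self_of_surjective (QuotientGroup.mk'_surjective _) H).symm
  rcases dichotomy h N hNn with h1 | h1
  · right
    -- X ⧸ N is nilpotent and perfect, hence trivial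
    have hsurj : Function.Surjective ((QuotientGroup.mk' N).comp A.subtype) := by
      intro q
      obtain ⟨x, rfl⟩ := QuotientGroup.mk'_surjective N q
      have hx : x ∈ N ⊔ A := by rw [h1]; trivial
      rw [Subgroup.mem_sup_of_normal_left] at hx
      obtain ⟨n, hn, a, ha, rfl⟩ := hx
      refine ⟨⟨a, ha⟩, ?_⟩
      simp only [MonoidHom.coe_comp, Function.comp_apply, Subgroup.coe_subtype, QuotientGroup.mk'_apply]
      rw [QuotientGroup.eq]
      have : a⁻¹ * (n * a) = a⁻¹ * n * a⁻¹⁻¹ := by group
      rw [this]
      exact hNn.conj_mem n hn a⁻¹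
    have := h.2.nilpotent_left
    have hnil : Group.IsNilpotent (X ⧸ N) := Group.nilpotent_of_surjective _ hsurj
    have : Group.IsPerfect (X ⧸ N) := inferInstance
    have hsub : Subsingleton (X ⧸ N) := by
      by_contra hns
      rw [not_subsingleton_iff_nontrivial] at hns
      exact Group.IsPerfect.not_isNilpotent (X ⧸ N) hnil
    have hNtop : N = ⊤ := QuotientGroup.subsingleton_iff.mp hsub
    rw [hHN, hNtop, ← MonoidHom.range_eq_map, MonoidHom.range_eq_top.mpr (QuotientGroup.mk'_surjective _)]
  · left
    rw [hHN, eq_bot_iff]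
    calc N.map (QuotientGroup.mk' (Subgroup.center X))
        ≤ (Subgroup.center X).map (QuotientGroup.mk' (Subgroup.center X)) := Subgroup.map_mono h1
      _ = ⊥ := QuotientGroup.map_mk'_self _

end Cfsg.Agent.S5017
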