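-- Statement S5020 (row 5020).
import Cfsg.Statements.S5020
import Cfsg.Agent.Helper83.SpecialH
import Cfsg.Agent.Helper29.Basic
import Cfsg.Agent.S5017
import Cfsg.Agent.S5022

set_option autoImplicit false
open Cfsg

namespace Cfsg.Agent.S5020

open Cfsg.Agent.Helper83

/-- If `A` has more than three elements then `A ≤ ⁅A, H⁆`. -/
theorem le_commutator_diagonal {X : Type*} [Group X] {A B : Subgroup X}
    (hp : Cfsg.IsRankOnePair A B) (hs : SpecialCond A B)
    (hA : ∀ x ∈ A, ∀ y ∈ A, x * y = y * x) (hcard : 3 < ENat.card A) :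
    A ≤ ⁅A, Cfsg.rankOneDiagonal A B⁆ := by
  intro a ha
  by_cases ha1 : a = 1
  · rw [ha1]; exact Subgroup.one_mem _
  -- pick c ∈ A \ {1, a, a⁻¹}
  have hex : ∃ c ∈ A, c ≠ 1 ∧ c ≠ a ∧ c ≠ a⁻¹ := by
    by_contra hne
    push_neg at hne
    have hsub : (A : Set X) ⊆ ({1, a, a⁻¹} : Set X) := by
      intro c hc
      by_cases h1 : c = 1
      · left; exact h1
      by_cases h2 : c = a
      · right; left; exact h2
      · right; right; exact hne c hc h1 h2
    have h3 : ENat.card A ≤ 3 := by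
      calc ENat.card A = (A : Set X).encard := rfl
        _ ≤ ({1, a, a⁻¹} : Set X).encard := Set.encard_le_encard hsub
        _ ≤ ({a, a⁻¹} : Set X).encard + 1 := Set.encard_insert_le _ _
        _ ≤ (({a⁻¹} : Set X).encard + 1) + 1 := by gcongr; exact Set.encard_insert_le _ _
        _ = 3 := by rw [Set.encard_singleton]; norm_num
    exact absurd hcard (not_lt.mpr h3)
  obtain ⟨c, hc, hc1, hca, hcai⟩ := hex
  set K := ⁅A, Cfsg.rankOneDiagonal A B⁆ with hK
  have hci : c⁻¹ ∈ A := A.inv_mem hc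
  have hci1 : c⁻¹ ≠ 1 := inv_ne_one.mpr hc1
  -- a c ∈ K from the pair (a, c⁻¹)
  have h1 : a * c ∈ K := by
    have hne : a * c⁻¹ ≠ 1 := by
      intro h; apply hca
      have := mul_inv_eq_one.mp h
      exact this.symm
    have := hs.mul_inv_mem_commutator hp hA ha ha1 hci hci1 hne
    rwa [inv_inv] at this
  have hac1 : a * c ≠ 1 := by
    intro h; apply hcai
    exact (eq_inv_of_mul_eq_one_right h)
  by_cases h2 : a * c * c = 1
  · -- a = c⁻²
    have hcinv : c⁻¹ ∈ K := by
      have : a * c = c⁻¹ := by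
        calc a * c = (a * c * c) * c⁻¹ := by group
          _ = c⁻¹ := by rw [h2, one_mul]
      rw [← this]; exact h1
    have : a = c⁻¹ * c⁻¹ := by
      calc a = (a * c * c) * (c⁻¹ * c⁻¹) := by group
        _ = c⁻¹ * c⁻¹ := by rw [h2, one_mul]
    rw [this]
    exact K.mul_mem hcinv hcinv
  · have := hs.mul_inv_mem_commutator hp hA (A.mul_mem ha hc) hac1 hc hc1 h2
    have e : a * c * c⁻¹ = a := by group
    rwa [e] at this

theorem center_SL2_two : Subgroup.center (Matrix.SpecialLinearGroup (Fin 2) (ZMod 2)) = ⊥ := by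
  rw [eq_bot_iff]
  intro g hg
  rw [Matrix.SpecialLinearGroup.mem_center_iff] at hg
  obtain ⟨r, hr, hrg⟩ := hg
  rw [Subgroup.mem_bot]
  have hall : ∀ r : ZMod 2, r ^ Fintype.card (Fin 2) = 1 → r = 1 := by decide
  have hr1 : r = 1 := hall r hr
  subst hr1
  apply Subtype.ext
  rw [← hrg]
  simp

/-- `PSL₂(2) ≃* SL₂(2)`. -/
noncomputable def pslTwoEquiv : Matrix.ProjectiveSpecialLinearGroup (Fin 2) (ZMod 2) ≃*
    Matrix.SpecialLinearGroup (Fin 2) (ZMod 2) :=
  (QuotientGroup.quotientMulEquivOfEq center_SL2_two).trans QuotientGroup.quotientBot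

/-- The case `|A| = p ∈ {2, 3}`. -/
theorem small_case {X : Type*} [Group X] {A B : Subgroup X} (h : Cfsg.IsRankOneGroup X A B)
    (hs : Cfsg.IsSpecialRankOnePair A B) (hab : Cfsg.HasAbelianUnipotents A B)
    (p : ℕ) [Fact p.Prime] (hcard : Nat.card A = p) :
    Nonempty (X ≃* Matrix.SpecialLinearGroup (Fin 2) (ZMod p)) ∨
    Nonempty (X ≃* Matrix.ProjectiveSpecialLinearGroup (Fin 2) (ZMod p)) := by
  obtain ⟨htop, hp⟩ := h
  have hsc := specialCond_of_pair hs
  have hfin : Finite A := Nat.finite_of_card_ne_zero (by rw [hcard]; exact (Fact.out : p.Prime).ne_zero)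
  have hEA : Cfsg.IsElementaryAbelian p A := by
    refine ⟨hab.1, fun a ha => ?_⟩
    have : (⟨a, ha⟩ : A) ^ p = 1 := by rw [← hcard]; exact pow_card_eq_one'
    exact congrArg Subtype.val this
  obtain ⟨a0, ha0⟩ := (Subgroup.ne_bot_iff_exists_ne_one).mp (rankOne_left_ne_bot hp)
  have ha1 : (a0 : X) ≠ 1 := by
    intro h1; apply ha0; exact Subtype.ext h1
  obtain ⟨b, hpb⟩ := exists_partner_left hp a0.2 ha1
  set a : X := (a0 : X) with ha
  have hzp : Subgroup.zpowers a0 = ⊤ := zpowers_eq_top_of_prime_card hcard ha0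
  -- closure {a, b} = ⊤
  set C := Subgroup.closure ({a, b} : Set X) with hC
  have haC : a ∈ C := Subgroup.subset_closure (by simp)
  have hbC : b ∈ C := Subgroup.subset_closure (by simp)
  have hAC : A ≤ C := by
    intro x hx
    have : (⟨x, hx⟩ : A) ∈ Subgroup.zpowers a0 := by rw [hzp]; trivial
    obtain ⟨k, hk⟩ := Subgroup.mem_zpowers_iff.mp this
    have hx' : x = a ^ k := by
      have := congrArg Subtype.val hk
      simpa using this.symm
    rw [hx']
    exact C.zpow_mem haC k
  have hBC : B ≤ C := by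
    rw [← hsc.conjBy_n_left' hpb]
    exact conjBy_le_of_mem hAC (C.mul_mem (C.mul_mem haC (C.inv_mem hbC)) haC)
  have hCtop : C = ⊤ := by
    rw [eq_top_iff, ← htop]
    exact sup_le hAC hBC
  have e0 : X ≃* C := (Subgroup.topEquiv.symm).trans (MulEquiv.subgroupCongr hCtop.symm)
  rcases Cfsg.Agent.S5022.result ⟨htop, hp⟩ hs hab hEA hpb.1 hpb.2.1 hpb.2.2.1 hpb.2.2.2.1
    hpb.2.2.2.2 with he | he
  · obtain ⟨e⟩ := he
    exact Or.inl ⟨e0.trans e⟩
  · obtain ⟨e⟩ := he
    exact Or.inr ⟨e0.trans e⟩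

/-- Let X be a special rank one group with abelian unipotent subgroups A and B, and H = N(A) ∩ N(B) its diagonal subgroup. Then either A has at most three elements and X is isomorphic to SL₂(2), SL₂(3) or PSL₂(3); or X = X' A with the commutator subgroup X' quasisimple and the commutator subgroup ⁅A, H⁆ having more than three elements. -/
theorem result {X : Type*} [Group X] {A B : Subgroup X} (h : Cfsg.IsRankOneGroup X A B)
    (hs : Cfsg.IsSpecialRankOnePair A B) (hab : Cfsg.HasAbelianUnipotents A B) :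
    (ENat.card A ≤ 3 ∧ (Nonempty (X ≃* Matrix.SpecialLinearGroup (Fin 2) (ZMod 2)) ∨
        Nonempty (X ≃* Matrix.SpecialLinearGroup (Fin 2) (ZMod 3)) ∨
        Nonempty (X ≃* Matrix.ProjectiveSpecialLinearGroup (Fin 2) (ZMod 3)))) ∨
    (commutator X ⊔ A = ⊤ ∧ Cfsg.IsQuasisimple (commutator X) ∧
      3 < ENat.card ↥(⁅A, Cfsg.rankOneDiagonal A B⁆ : Subgroup X)) := by
  by_cases hcard : ENat.card A ≤ 3
  · left
    refine ⟨hcard, ?_⟩
    have hfin : Finite A := by
      rw [← ENat.card_lt_top]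
      exact lt_of_le_of_lt hcard (by exact ENat.natCast_lt_top 3)
    have hle : Nat.card A ≤ 3 := by
      rw [ENat.card_eq_coe_natCard] at hcard
      exact_mod_cast hcard
    have hgt : 1 < Nat.card A := (Subgroup.one_lt_card_iff_ne_bot (H := A)).mpr (rankOne_left_ne_bot h.2)
    have h23 : Nat.card A = 2 ∨ Nat.card A = 3 := by omega
    rcases h23 with h2 | h3
    · have : Fact (Nat.Prime 2) := ⟨Nat.prime_two⟩
      rcases small_case h hs hab 2 h2 with he | he
      · exact Or.inl he
      · obtain ⟨e⟩ := he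
        exact Or.inl ⟨e.trans pslTwoEquiv⟩
    · have : Fact (Nat.Prime 3) := ⟨Nat.prime_three⟩
      rcases small_case h hs hab 3 h3 with he | he
      · exact Or.inr (Or.inl he)
      · exact Or.inr (Or.inr he)
  · right
    rw [not_le] at hcard
    obtain ⟨htop, hp⟩ := h
    have hsc := specialCond_of_pair hs
    have hA : ∀ x ∈ A, ∀ y ∈ A, x * y = y * x := by
      intro x hx y hy
      have := hab.1.is_comm.comm (⟨x, hx⟩ : A) ⟨y, hy⟩
      exact congrArg Subtype.val this
    have hle := le_commutator_diagonal hp hsc hA hcard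
    -- A ≤ commutator X
    have hAc : A ≤ commutator X := by
      refine hle.trans ?_
      rw [commutator_def]
      exact Subgroup.commutator_mono le_top le_top
    obtain ⟨a0, ha0⟩ := (Subgroup.ne_bot_iff_exists_ne_one).mp (rankOne_left_ne_bot hp)
    have ha1 : (a0 : X) ≠ 1 := by
      intro h1; apply ha0; exact Subtype.ext h1
    obtain ⟨b, hpb⟩ := exists_partner_left hp a0.2 ha1
    have hBc : B ≤ commutator X := by
      rw [← hsc.conjBy_n_left' hpb]
      intro x hx
      rw [mem_conjBy] at hx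
      have h1 := hAc hx
      have hn : (commutator X).Normal := inferInstance
      have := hn.conj_mem _ h1 ((a0 : X) * b⁻¹ * (a0 : X))
      have e : (a0 : X) * b⁻¹ * (a0 : X) * (((a0 : X) * b⁻¹ * (a0 : X))⁻¹ * x * ((a0 : X) * b⁻¹ * (a0 : X))) *
          ((a0 : X) * b⁻¹ * (a0 : X))⁻¹ = x := by group
      rwa [e] at this
    have hctop : commutator X = ⊤ := by
      rw [eq_top_iff, ← htop]
      exact sup_le hAc hBc
    have hperf : Group.IsPerfect X := ⟨hctop⟩
    have hq : Cfsg.IsQuasisimple X := (Cfsg.Agent.S5017.result ⟨htop, hp⟩).2 hperf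
    refine ⟨?_, ?_, ?_⟩
    · rw [hctop]; exact top_sup_eq _
    · have e : X ≃* (commutator X) :=
        (Subgroup.topEquiv.symm).trans (MulEquiv.subgroupCongr hctop.symm)
      exact Cfsg.Agent.Helper29.isQuasisimple_of_mulEquiv e hq
    · refine lt_of_lt_of_le hcard ?_
      calc ENat.card A = (A : Set X).encard := rfl
        _ ≤ ((⁅A, Cfsg.rankOneDiagonal A B⁆ : Subgroup X) : Set X).encard :=
            Set.encard_le_encard hle
        _ = ENat.card ↥(⁅A, Cfsg.rankOneDiagonal A B⁆ : Subgroup X) := rfl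

end Cfsg.Agent.S5020
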