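import Cfsg.Statements.S5099
import Cfsg.Agent.Helper84.KNormSys

set_option autoImplicit false
open Cfsg

namespace Cfsg.Agent.S5099

open Cfsg.FusionSystem Cfsg.Agent.Helper87 Cfsg.Agent.Helper84 in
/-- The maps of the centralizer system are those of the `K`-normalizer system for `K = 1`. -/
theorem centralizerHom_eq_KHom {Ω : Type*} [Group Ω] {S : Subgroup Ω} (F : Cfsg.FusionSystem S)
    {Q : Subgroup Ω} (P : Subgroup Ω) : F.centralizerHom Q P = KHom F Q ⊥ P := by
  ext φ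
  unfold Cfsg.FusionSystem.centralizerHom KHom
  simp only [Set.mem_ofPred_eq]
  rw [NK_bot]
  constructor
  · rintro ⟨h1, h2, h3, ψ, hψ, hψP, hψQ⟩
    exact ⟨h1, h2, h3, ψ, hψ, hψP, 1, Subgroup.mem_bot.mpr rfl, fun x => hψQ x⟩
  · rintro ⟨h1, h2, h3, ψ, hψ, hψP, κ, hκ, hκx⟩
    rw [Subgroup.mem_bot] at hκ
    subst hκ
    exact ⟨h1, h2, h3, ψ, hψ, hψP, fun x => hκx x⟩


/-- If F is a saturated fusion system over a finite p-group S and Q is fully centralized in F, then the centralizer system C_F(Q) is a saturated fusion system over C_S(Q). -/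
theorem result {Ω : Type*} [Group Ω] {S : Subgroup Ω} [Finite S] (p : ℕ) [Fact p.Prime] (hS : IsPGroup p S) (F : Cfsg.FusionSystem S) (hF : F.IsSaturated p) (Q : Subgroup Ω) (hQ : F.IsFullyCentralized Q) (E : Cfsg.FusionSystem (Cfsg.FusionSystem.centralizerIn S Q)) (hE : F.IsCentralizerSystem Q E) : E.IsSaturated p := by
  have hQS : Q ≤ S := hQ.1
  have hK : Cfsg.Agent.Helper84.IsFullyKNormalized F Q ⊥ := by
    refine ⟨hQS, fun Q' e he => ?_⟩
    have h1 : Cfsg.Agent.Helper84.tr e (⊥ : Subgroup (MulAut Q)) = ⊥ := Subgroup.map_bot _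
    rw [h1, Cfsg.Agent.Helper84.NK_bot, Cfsg.Agent.Helper84.NK_bot]
    exact hQ.2 Q' ((Cfsg.Agent.Helper87.isConj_iff F Q Q').mpr ⟨e, he⟩)
  refine Cfsg.Agent.Helper84.KSystem_saturated hS F hF ⊥ hK (Cfsg.Agent.Helper84.NK_bot S Q).symm E (fun P => ?_)
  rw [hE P]
  exact centralizerHom_eq_KHom F P

end Cfsg.Agent.S5099
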