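-- Statement S5341: fully centralized / fully normalized persist in a subsystem over a strongly closed subgroup.
import Cfsg.Statements.S5341
import Cfsg.Agent.Helper87.FusionExtend

set_option autoImplicit false
open Cfsg

namespace Cfsg.Agent.S5341

open Cfsg.FusionSystem Cfsg.Agent.Helper87

variable {Ω : Type*} [Group Ω] {S : Subgroup Ω}

/-- A map of the system defined on `N` sends elements of a strongly closed subgroup `T` into `T`. -/
theorem map_mem_of_stronglyClosed (F : FusionSystem S) {T N : Subgroup Ω} (hT : F.StronglyClosed T)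
    {φ : N →* Ω} (hφ : φ ∈ F.Hom N) (x : N) (hx : (x : Ω) ∈ T) : φ x ∈ T := by
  have h1 := restrict_mem F hφ (inf_le_left : N ⊓ T ≤ N)
  exact hT.2 (N ⊓ T) inf_le_right _ h1 ⟨x, x.2, hx⟩

/-- Generic transfer: maps `φ_R`, `φ_Q` of the system into a common target `A_P`, the second one onto it for
cardinality reasons; then `|T ∩ A_R| ≤ |T ∩ A_Q|` for a strongly closed `T`. -/
theorem card_inf_le (F : FusionSystem S) {T : Subgroup Ω} (hT : F.StronglyClosed T)
    {N_R N_Q A_R A_Q A_P : Subgroup Ω} [Finite A_Q] [Finite A_P]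
    {φ_R : N_R →* Ω} (hφ_R : φ_R ∈ F.Hom N_R) (hAR : A_R ≤ N_R)
    (hmapR : ∀ x : N_R, (x : Ω) ∈ A_R → φ_R x ∈ A_P)
    {φ_Q : N_Q →* Ω} (hφ_Q : φ_Q ∈ F.Hom N_Q) (hAQ : A_Q ≤ N_Q)
    (hmapQ : ∀ x : N_Q, (x : Ω) ∈ A_Q → φ_Q x ∈ A_P)
    (hcard : Nat.card A_P ≤ Nat.card A_Q) :
    Nat.card ↥(T ⊓ A_R) ≤ Nat.card ↥(T ⊓ A_Q) := by
  have hfinP : Finite ↥(T ⊓ A_P) := Finite.of_injective (Subgroup.inclusion (inf_le_right : T ⊓ A_P ≤ A_P))
    (Subgroup.inclusion_injective _)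
  have hfinQ : Finite ↥(T ⊓ A_Q) := Finite.of_injective (Subgroup.inclusion (inf_le_right : T ⊓ A_Q ≤ A_Q))
    (Subgroup.inclusion_injective _)
  -- step 1: |T ∩ A_R| ≤ |T ∩ A_P|
  have h1 : Nat.card ↥(T ⊓ A_R) ≤ Nat.card ↥(T ⊓ A_P) := by
    refine Nat.card_le_card_of_injective
      (fun x : ↥(T ⊓ A_R) => (⟨φ_R ⟨x, hAR x.2.2⟩, map_mem_of_stronglyClosed F hT hφ_R _ x.2.1,
        hmapR _ x.2.2⟩ : ↥(T ⊓ A_P))) ?_
    intro a b hab
    have := F.injective_of_mem hφ_R (congrArg Subtype.val hab)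
    exact Subtype.ext (congrArg (fun z : N_R => (z : Ω)) this)
  -- step 2: φ_Q : A_Q → A_P is bijective
  let f : A_Q → A_P := fun x => ⟨φ_Q ⟨x, hAQ x.2⟩, hmapQ _ x.2⟩
  have hf_inj : Function.Injective f := by
    intro a b hab
    have := F.injective_of_mem hφ_Q (congrArg Subtype.val hab)
    exact Subtype.ext (congrArg (fun z : N_Q => (z : Ω)) this)
  have hf_bij : Function.Bijective f := hf_inj.bijective_of_nat_card_le hcard
  -- step 3: |T ∩ A_P| ≤ |T ∩ A_Q| via surjectivity of φ_Q : T ∩ A_Q → T ∩ A_P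
  obtain ⟨ψ, hψ, hψx⟩ := F.inv_mem hφ_Q
  have h2 : Nat.card ↥(T ⊓ A_P) ≤ Nat.card ↥(T ⊓ A_Q) := by
    refine Nat.card_le_card_of_surjective
      (fun x : ↥(T ⊓ A_Q) => (⟨φ_Q ⟨x, hAQ x.2.2⟩, map_mem_of_stronglyClosed F hT hφ_Q _ x.2.1,
        hmapQ _ x.2.2⟩ : ↥(T ⊓ A_P))) ?_
    intro y
    obtain ⟨x, hx⟩ := hf_bij.2 ⟨y, y.2.2⟩
    have hx' : φ_Q ⟨x, hAQ x.2⟩ = (y : Ω) := congrArg Subtype.val hx
    have hxT : (x : Ω) ∈ T := by
      have hy1 : φ_Q ⟨x, hAQ x.2⟩ ∈ T := by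
        have := y.2.1
        rw [← hx'] at this
        exact this
      have h3 := map_mem_of_stronglyClosed F hT hψ ⟨φ_Q ⟨x, hAQ x.2⟩, ⟨_, rfl⟩⟩ hy1
      rw [hψx] at h3
      exact h3
    exact ⟨⟨x, hxT, x.2⟩, Subtype.ext hx'⟩
  exact h1.trans h2

theorem inf_centralizerIn {T Q : Subgroup Ω} (hTS : T ≤ S) :
    centralizerIn T Q = T ⊓ centralizerIn S Q := by
  unfold centralizerIn
  rw [← inf_assoc, inf_eq_left.2 hTS]

theorem inf_normalizerIn {T Q : Subgroup Ω} (hTS : T ≤ S) :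
    normalizerIn T Q = T ⊓ normalizerIn S Q := by
  unfold normalizerIn
  rw [← inf_assoc, inf_eq_left.2 hTS]

/-- Let F be a saturated fusion system over a finite p-group S, T a subgroup strongly closed in F, and F′ any fusion system over T all of whose maps are maps of F. For a subgroup Q ≤ T: if Q is fully centralized in F then it is fully centralized in F′, and if Q is fully normalized in F then it is fully normalized in F′. -/
theorem result {Ω : Type*} [Group Ω] {S : Subgroup Ω} [Finite S] (p : ℕ) [Fact p.Prime] (hS : IsPGroup p S) (F : Cfsg.FusionSystem S) (hF : F.IsSaturated p) (T : Subgroup Ω) (hT : F.StronglyClosed T) (F' : Cfsg.FusionSystem T) (hsub : F'.IsSubsystemOf F) (Q : Subgroup Ω) (hQT : Q ≤ T) : (F.IsFullyCentralized Q → F'.IsFullyCentralized Q) ∧ (F.IsFullyNormalized Q → F'.IsFullyNormalized Q) := by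
  have hTS : T ≤ S := hT.1
  have hQS : Q ≤ S := hQT.trans hTS
  obtain ⟨P, hQP, hPa, hPr⟩ := hF Q hQS
  obtain ⟨eQ, heQ⟩ := (isConj_iff F Q P).mp hQP
  obtain ⟨φQ, hφQ, -, -, -, hQval, hQcent, -⟩ := exists_extension_normalizerIn' hS F hPa hPr eQ heQ
  have hfinNQ : Finite (normalizerIn S Q) := finite_of_le inf_le_left
  have hfinNP : Finite (normalizerIn S P) := finite_of_le inf_le_left
  have hfinCQ : Finite (centralizerIn S Q) := finite_of_le inf_le_left
  have hfinCP : Finite (centralizerIn S P) := finite_of_le inf_le_left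
  -- for every F'-conjugate R of Q we get an extension to N_S(R)
  have hR : ∀ R : Subgroup Ω, F'.IsConj Q R → ∃ φR ∈ F.Hom (normalizerIn S R),
      (∀ x, φR x ∈ normalizerIn S P) ∧
      (∀ x : normalizerIn S R, (x : Ω) ∈ centralizerIn S R → φR x ∈ centralizerIn S P) := by
    rintro R ⟨φ, hφ, hrange⟩
    have hQR : F.IsConj Q R := ⟨φ, hsub Q hφ, hrange⟩
    obtain ⟨e, he⟩ := (isConj_iff F Q R).mp hQR
    obtain ⟨φR, hφR, -, -, -, hval, hcent, -⟩ :=
      exists_extension_normalizerIn' hS F hPa hPr (e.symm.trans eQ) (he.symm.trans heQ)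
    exact ⟨φR, hφR, hval, hcent⟩
  constructor
  · intro hfc
    refine ⟨hQT, fun R hRc => ?_⟩
    obtain ⟨φR, hφR, -, hcent⟩ := hR R hRc
    rw [inf_centralizerIn hTS, inf_centralizerIn hTS]
    exact card_inf_le F hT hφR (centralizerIn_le_normalizerIn S R) hcent hφQ
      (centralizerIn_le_normalizerIn S Q) hQcent (hfc.2 P hQP)
  · intro hfn
    refine ⟨hQT, fun R hRc => ?_⟩
    obtain ⟨φR, hφR, hval, -⟩ := hR R hRc
    rw [inf_normalizerIn hTS, inf_normalizerIn hTS]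
    exact card_inf_le F hT hφR le_rfl (fun x _ => hval x) hφQ le_rfl (fun x _ => hQval x) (hfn.2 P hQP)

end Cfsg.Agent.S5341
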