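-- Statement S5136 (helper85): the direct product of two fusion systems exists.
import Cfsg.Statements.S5136
import Cfsg.Agent.Helper85.Basic

set_option autoImplicit false
open Cfsg

namespace Cfsg.Agent.S5136

open Cfsg.Agent.Helper85 Cfsg.FusionSystem

variable {Ω₁ Ω₂ : Type*} [Group Ω₁] [Group Ω₂] {S₁ : Subgroup Ω₁} {S₂ : Subgroup Ω₂}

/-- The maps of the product system with source `P`. -/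
def prodHomSet (F₁ : FusionSystem S₁) (F₂ : FusionSystem S₂) (P : Subgroup (Ω₁ × Ω₂)) : Set (P →* Ω₁ × Ω₂) :=
  {φ | P ≤ S₁.prod S₂ ∧
      ∃ φ₁ ∈ F₁.Hom (P.map (MonoidHom.fst Ω₁ Ω₂)), ∃ φ₂ ∈ F₂.Hom (P.map (MonoidHom.snd Ω₁ Ω₂)),
        ∀ (x : P) (h₁ : (x : Ω₁ × Ω₂).1 ∈ P.map (MonoidHom.fst Ω₁ Ω₂))
          (h₂ : (x : Ω₁ × Ω₂).2 ∈ P.map (MonoidHom.snd Ω₁ Ω₂)),
          φ x = (φ₁ ⟨(x : Ω₁ × Ω₂).1, h₁⟩, φ₂ ⟨(x : Ω₁ × Ω₂).2, h₂⟩)}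

theorem fst_mem (P : Subgroup (Ω₁ × Ω₂)) (x : P) : (x : Ω₁ × Ω₂).1 ∈ P.map (MonoidHom.fst Ω₁ Ω₂) :=
  ⟨x, x.2, rfl⟩

theorem snd_mem (P : Subgroup (Ω₁ × Ω₂)) (x : P) : (x : Ω₁ × Ω₂).2 ∈ P.map (MonoidHom.snd Ω₁ Ω₂) :=
  ⟨x, x.2, rfl⟩

/-- The homomorphism `x ↦ (φ₁ x.1, φ₂ x.2)` on `P`. -/
def pairHom (P : Subgroup (Ω₁ × Ω₂)) (φ₁ : ↥(P.map (MonoidHom.fst Ω₁ Ω₂)) →* Ω₁)
    (φ₂ : ↥(P.map (MonoidHom.snd Ω₁ Ω₂)) →* Ω₂) : P →* Ω₁ × Ω₂ :=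
  (φ₁.comp (((MonoidHom.fst Ω₁ Ω₂).comp P.subtype).codRestrict _ (fst_mem P))).prod
    (φ₂.comp (((MonoidHom.snd Ω₁ Ω₂).comp P.subtype).codRestrict _ (snd_mem P)))

theorem pairHom_apply (P : Subgroup (Ω₁ × Ω₂)) (φ₁ : ↥(P.map (MonoidHom.fst Ω₁ Ω₂)) →* Ω₁)
    (φ₂ : ↥(P.map (MonoidHom.snd Ω₁ Ω₂)) →* Ω₂) (x : P) :
    pairHom P φ₁ φ₂ x = (φ₁ ⟨(x : Ω₁ × Ω₂).1, fst_mem P x⟩, φ₂ ⟨(x : Ω₁ × Ω₂).2, snd_mem P x⟩) := rfl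

theorem map_fst_le {P : Subgroup (Ω₁ × Ω₂)} (hP : P ≤ S₁.prod S₂) : P.map (MonoidHom.fst Ω₁ Ω₂) ≤ S₁ := by
  rintro _ ⟨x, hx, rfl⟩
  exact (hP hx).1

theorem map_snd_le {P : Subgroup (Ω₁ × Ω₂)} (hP : P ≤ S₁.prod S₂) : P.map (MonoidHom.snd Ω₁ Ω₂) ≤ S₂ := by
  rintro _ ⟨x, hx, rfl⟩
  exact (hP hx).2

theorem pairHom_mem (F₁ : FusionSystem S₁) (F₂ : FusionSystem S₂) {P : Subgroup (Ω₁ × Ω₂)} (hP : P ≤ S₁.prod S₂)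
    {φ₁ : ↥(P.map (MonoidHom.fst Ω₁ Ω₂)) →* Ω₁} {φ₂ : ↥(P.map (MonoidHom.snd Ω₁ Ω₂)) →* Ω₂}
    (h₁ : φ₁ ∈ F₁.Hom _) (h₂ : φ₂ ∈ F₂.Hom _) : pairHom P φ₁ φ₂ ∈ prodHomSet F₁ F₂ P :=
  ⟨hP, φ₁, h₁, φ₂, h₂, fun _ _ _ => rfl⟩

theorem comp_mem_prod (F₁ : FusionSystem S₁) (F₂ : FusionSystem S₂) {P Q : Subgroup (Ω₁ × Ω₂)}
    {φ : P →* Ω₁ × Ω₂} {ψ : Q →* Ω₁ × Ω₂} (hφ : φ ∈ prodHomSet F₁ F₂ P) (hψ : ψ ∈ prodHomSet F₁ F₂ Q)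
    (h : ∀ x : P, φ x ∈ Q) : ψ.comp (φ.codRestrict Q h) ∈ prodHomSet F₁ F₂ P := by
  obtain ⟨hP, φ₁, hφ₁, φ₂, hφ₂, hφeq⟩ := hφ
  obtain ⟨hQ, ψ₁, hψ₁, ψ₂, hψ₂, hψeq⟩ := hψ
  have h₁ : ∀ y : ↥(P.map (MonoidHom.fst Ω₁ Ω₂)), φ₁ y ∈ Q.map (MonoidHom.fst Ω₁ Ω₂) := by
    rintro ⟨_, x, hx, rfl⟩
    refine ⟨φ ⟨x, hx⟩, h ⟨x, hx⟩, ?_⟩
    rw [hφeq ⟨x, hx⟩ (fst_mem P ⟨x, hx⟩) (snd_mem P ⟨x, hx⟩)]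
    rfl
  have h₂ : ∀ y : ↥(P.map (MonoidHom.snd Ω₁ Ω₂)), φ₂ y ∈ Q.map (MonoidHom.snd Ω₁ Ω₂) := by
    rintro ⟨_, x, hx, rfl⟩
    refine ⟨φ ⟨x, hx⟩, h ⟨x, hx⟩, ?_⟩
    rw [hφeq ⟨x, hx⟩ (fst_mem P ⟨x, hx⟩) (snd_mem P ⟨x, hx⟩)]
    rfl
  refine ⟨hP, ψ₁.comp (φ₁.codRestrict _ h₁), F₁.comp_mem hφ₁ hψ₁ h₁,
    ψ₂.comp (φ₂.codRestrict _ h₂), F₂.comp_mem hφ₂ hψ₂ h₂, fun x k₁ k₂ => ?_⟩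
  show ψ ⟨φ x, h x⟩ = _
  rw [hψeq ⟨φ x, h x⟩ (fst_mem Q _) (snd_mem Q _)]
  have e := hφeq x k₁ k₂
  apply Prod.ext
  · show ψ₁ _ = ψ₁ _
    congr 1
    apply Subtype.ext
    show (φ x).1 = φ₁ _
    rw [e]
  · show ψ₂ _ = ψ₂ _
    congr 1
    apply Subtype.ext
    show (φ x).2 = φ₂ _
    rw [e]

theorem inv_mem_prod (F₁ : FusionSystem S₁) (F₂ : FusionSystem S₂) {P : Subgroup (Ω₁ × Ω₂)}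
    {φ : P →* Ω₁ × Ω₂} (hφ : φ ∈ prodHomSet F₁ F₂ P) :
    ∃ ψ ∈ prodHomSet F₁ F₂ φ.range, ∀ x : P, ψ ⟨φ x, ⟨x, rfl⟩⟩ = (x : Ω₁ × Ω₂) := by
  obtain ⟨hP, φ₁, hφ₁, φ₂, hφ₂, hφeq⟩ := hφ
  obtain ⟨ψ₁, hψ₁, hinv₁⟩ := F₁.inv_mem hφ₁
  obtain ⟨ψ₂, hψ₂, hinv₂⟩ := F₂.inv_mem hφ₂
  have hφx : ∀ x : P, φ x = (φ₁ ⟨(x : Ω₁ × Ω₂).1, fst_mem P x⟩, φ₂ ⟨(x : Ω₁ × Ω₂).2, snd_mem P x⟩) :=
    fun x => hφeq x _ _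
  have hle₁ : (φ.range).map (MonoidHom.fst Ω₁ Ω₂) ≤ φ₁.range := by
    rintro _ ⟨_, ⟨x, rfl⟩, rfl⟩
    refine ⟨⟨(x : Ω₁ × Ω₂).1, fst_mem P x⟩, ?_⟩
    rw [hφx x]
    rfl
  have hle₂ : (φ.range).map (MonoidHom.snd Ω₁ Ω₂) ≤ φ₂.range := by
    rintro _ ⟨_, ⟨x, rfl⟩, rfl⟩
    refine ⟨⟨(x : Ω₁ × Ω₂).2, snd_mem P x⟩, ?_⟩
    rw [hφx x]
    rfl
  have hrange : φ.range ≤ S₁.prod S₂ := by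
    rintro _ ⟨x, rfl⟩
    rw [hφx x]
    exact ⟨(F₁.le_of_mem hφ₁).2 _, (F₂.le_of_mem hφ₂).2 _⟩
  refine ⟨pairHom φ.range (ψ₁.comp (Subgroup.inclusion hle₁)) (ψ₂.comp (Subgroup.inclusion hle₂)),
    pairHom_mem F₁ F₂ hrange (restrict_mem F₁ hψ₁ hle₁) (restrict_mem F₂ hψ₂ hle₂), fun x => ?_⟩
  rw [pairHom_apply]
  apply Prod.ext
  · show ψ₁ _ = (x : Ω₁ × Ω₂).1
    refine Eq.trans ?_ (hinv₁ ⟨(x : Ω₁ × Ω₂).1, fst_mem P x⟩)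
    congr 1
    apply Subtype.ext
    show (φ x).1 = φ₁ _
    rw [hφx x]
  · show ψ₂ _ = (x : Ω₁ × Ω₂).2
    refine Eq.trans ?_ (hinv₂ ⟨(x : Ω₁ × Ω₂).2, snd_mem P x⟩)
    congr 1
    apply Subtype.ext
    show (φ x).2 = φ₂ _
    rw [hφx x]

/-- The product fusion system `F₁ × F₂` over `S₁ × S₂`. -/
def productSystem (F₁ : FusionSystem S₁) (F₂ : FusionSystem S₂) : FusionSystem (S₁.prod S₂) where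
  Hom P := prodHomSet F₁ F₂ P
  le_of_mem := by
    rintro P φ ⟨hP, φ₁, hφ₁, φ₂, hφ₂, hφeq⟩
    refine ⟨hP, fun x => ?_⟩
    rw [hφeq x (fst_mem P x) (snd_mem P x)]
    exact ⟨(F₁.le_of_mem hφ₁).2 _, (F₂.le_of_mem hφ₂).2 _⟩
  injective_of_mem := by
    rintro P φ ⟨hP, φ₁, hφ₁, φ₂, hφ₂, hφeq⟩ a b hab
    rw [hφeq a (fst_mem P a) (snd_mem P a), hφeq b (fst_mem P b) (snd_mem P b)] at hab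
    have h1 := F₁.injective_of_mem hφ₁ (congrArg Prod.fst hab)
    have h2 := F₂.injective_of_mem hφ₂ (congrArg Prod.snd hab)
    exact Subtype.ext (Prod.ext (congrArg Subtype.val h1) (congrArg Subtype.val h2))
  conj_mem := by
    intro P g hP hg
    exact ⟨hP, conjHom _ g.1, F₁.conj_mem (map_fst_le hP) hg.1, conjHom _ g.2,
      F₂.conj_mem (map_snd_le hP) hg.2, fun x _ _ => rfl⟩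
  comp_mem hφ hψ h := comp_mem_prod F₁ F₂ hφ hψ h
  inv_mem hφ := inv_mem_prod F₁ F₂ hφ

/-- Let F₁ and F₂ be fusion systems over finite p-groups S₁ and S₂ (inside ambient groups Ω₁ and Ω₂). Then their direct product exists: there is a fusion system over S₁ × S₂ inside Ω₁ × Ω₂ whose maps with source P ≤ S₁ × S₂ are exactly the restrictions to P of the homomorphisms (x₁, x₂) ↦ (φ₁ x₁, φ₂ x₂) with φ₁ a map of F₁ on the first projection of P and φ₂ a map of F₂ on the second projection. -/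
theorem result {Ω₁ Ω₂ : Type*} [Group Ω₁] [Group Ω₂] {S₁ : Subgroup Ω₁} {S₂ : Subgroup Ω₂} [Finite S₁] [Finite S₂] (p : ℕ) [Fact p.Prime] (h₁ : IsPGroup p S₁) (h₂ : IsPGroup p S₂) (F₁ : Cfsg.FusionSystem S₁) (F₂ : Cfsg.FusionSystem S₂) : ∃ E : Cfsg.FusionSystem (S₁.prod S₂), Cfsg.FusionSystem.IsProductSystem F₁ F₂ E := by
  exact ⟨productSystem F₁ F₂, fun P φ => Iff.rfl⟩

end Cfsg.Agent.S5136
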