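import Cfsg.Statements.S5111
import Cfsg.Agent.Helper84.Stancu

set_option autoImplicit false
open Cfsg

namespace Cfsg.Agent.S5111

/-- A fusion system over a finite p-group S is saturated if and only if the inner automorphisms of S form a Sylow p-subgroup of Aut_F(S) and every fully normalized subgroup of S is receptive. -/
theorem result {Ω : Type*} [Group Ω] {S : Subgroup Ω} [Finite S] (p : ℕ) [Fact p.Prime] (hS : IsPGroup p S) (F : Cfsg.FusionSystem S) : F.IsSaturated p ↔ (F.IsFullyAutomized p S ∧ ∀ P : Subgroup Ω, F.IsFullyNormalized P → F.IsReceptive P) := by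
  constructor
  · intro hF
    have hSn : F.IsFullyNormalized S := by
      refine ⟨le_refl S, fun Q _ => ?_⟩
      have h1 : Cfsg.FusionSystem.normalizerIn S Q ≤ S := inf_le_left
      have h2 : S ≤ Cfsg.FusionSystem.normalizerIn S S := Cfsg.Agent.Helper87.le_normalizerIn (le_refl S)
      have : Finite (Cfsg.FusionSystem.normalizerIn S S) := Cfsg.Agent.Helper87.finite_of_le inf_le_left
      exact (Subgroup.card_le_of_le h1).trans (Subgroup.card_le_of_le h2)
    refine ⟨(Cfsg.Agent.Helper87.fullyAutomized_fullyCentralized_of_fullyNormalized hS F hF hSn).2, fun P hP => ?_⟩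
    exact Cfsg.Agent.Helper87.receptive_of_fullyCentralized hS F hF
      (Cfsg.Agent.Helper87.fullyAutomized_fullyCentralized_of_fullyNormalized hS F hF hP).1
  · rintro ⟨hSa, hrec⟩ P hP
    obtain ⟨Q, hPQ, hQn⟩ := Cfsg.Agent.Helper87.exists_isConj_fullyNormalized F hP
    exact ⟨Q, hPQ, Cfsg.Agent.Helper84.isFullyAutomized_of_isFullyNormalized hS F hSa hrec Q hQn, hrec Q hQn⟩

end Cfsg.Agent.S5111
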