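import Cfsg.Statements.S5257
import Cfsg.Agent.S5254

set_option autoImplicit false
open Cfsg

namespace Cfsg.Agent.S5257

open Cfsg.FusionSystem Cfsg.Agent.Helper87 Cfsg.Agent.Helper86 Cfsg.Agent.S5254

section kerChain

variable {G : Type*} [Group G]

theorem relIndex_mul_card_aux {H K : Subgroup G} (h : H ≤ K) : H.relIndex K * Nat.card ↥H = Nat.card ↥K := by
  have := Subgroup.relIndex_mul_relIndex ⊥ H K bot_le h
  rw [Subgroup.relIndex_bot_left, Subgroup.relIndex_bot_left] at this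
  rw [mul_comm]
  exact this

/-- The kernels of the iterates of an endomorphism. -/
def kerChain (ψ : G →* G) : ℕ → Subgroup G
  | 0 => ⊥
  | k + 1 => (kerChain ψ k).comap ψ

theorem kerChain_mono (ψ : G →* G) (k : ℕ) : kerChain ψ k ≤ kerChain ψ (k + 1) := by
  induction k with
  | zero => exact bot_le
  | succ k ih => exact Subgroup.comap_mono ih

theorem mem_kerChain_iff (ψ : G →* G) (k : ℕ) (a : G) : a ∈ kerChain ψ k ↔ ψ^[k] a = 1 := by
  induction k generalizing a with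
  | zero => simp [kerChain]
  | succ k ih =>
    show ψ a ∈ kerChain ψ k ↔ _
    rw [ih, Function.iterate_succ_apply]

theorem relIndex_kerChain_le [Finite G] (ψ : G →* G) {p : ℕ}
    (h1 : (kerChain ψ 1).relIndex (kerChain ψ 2) ≤ p) (k : ℕ) :
    (kerChain ψ (k + 1)).relIndex (kerChain ψ (k + 2)) ≤ p := by
  induction k with
  | zero => exact h1
  | succ k ih =>
    have e : kerChain ψ (k + 1 + 1) = (kerChain ψ (k + 1)).comap ψ := rfl
    rw [e, Subgroup.relIndex_comap]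
    have hle : (kerChain ψ (k + 1 + 2)).map ψ ≤ kerChain ψ (k + 2) := by
      rintro _ ⟨a, ha, rfl⟩
      exact ha
    have hne : (kerChain ψ (k + 1)).relIndex (kerChain ψ (k + 2)) ≠ 0 :=
      (Nat.pos_of_dvd_of_pos (Subgroup.relIndex_dvd_card _ _) Nat.card_pos).ne'
    exact (Subgroup.relIndex_le_of_le_right hle hne).trans ih

theorem card_kerChain_le [Finite G] (ψ : G →* G) {p : ℕ}
    (h1 : (kerChain ψ 1).relIndex (kerChain ψ 2) ≤ p) (k : ℕ) :
    Nat.card (kerChain ψ (k + 1)) ≤ p ^ k * Nat.card (kerChain ψ 1) := by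
  induction k with
  | zero => simp
  | succ k ih =>
    rw [← relIndex_mul_card_aux (kerChain_mono ψ (k + 1)), pow_succ, mul_comm (p ^ k) p, mul_assoc]
    exact Nat.mul_le_mul (relIndex_kerChain_le ψ h1 k) ih

end kerChain

section psi

variable {Ω : Type*} [Group Ω] {p : ℕ} {S A : Subgroup Ω}

theorem comm_mem (h : Setup p S A) {x : Ω} (hxS : x ∈ S) {a : Ω} (ha : a ∈ A) : a * x * a⁻¹ * x⁻¹ ∈ A := by
  have e : a * x * a⁻¹ * x⁻¹ = a * (x * a⁻¹ * x⁻¹) := by group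
  rw [e]
  exact A.mul_mem ha (h.conj x hxS _ (A.inv_mem ha))

/-- The endomorphism `a ↦ [a, x]` of `A`. -/
def psi (h : Setup p S A) {x : Ω} (hxS : x ∈ S) : ↥A →* ↥A where
  toFun a := ⟨a * x * (a : Ω)⁻¹ * x⁻¹, comm_mem h hxS a.2⟩
  map_one' := by
    apply Subtype.ext
    simp
  map_mul' := by
    intro a b
    apply Subtype.ext
    show ((a : Ω) * b) * x * ((a : Ω) * b)⁻¹ * x⁻¹ = ((a : Ω) * x * (a : Ω)⁻¹ * x⁻¹) * ((b : Ω) * x * (b : Ω)⁻¹ * x⁻¹)
    have hu : x * (a : Ω)⁻¹ * x⁻¹ ∈ A := h.conj x hxS _ (A.inv_mem a.2)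
    have hv : (b : Ω) * (x * (b : Ω)⁻¹ * x⁻¹) ∈ A := A.mul_mem b.2 (h.conj x hxS _ (A.inv_mem b.2))
    have e1 : ((a : Ω) * b) * x * ((a : Ω) * b)⁻¹ * x⁻¹ =
        (a : Ω) * (((b : Ω) * (x * (b : Ω)⁻¹ * x⁻¹)) * (x * (a : Ω)⁻¹ * x⁻¹)) := by group
    have e2 : ((a : Ω) * x * (a : Ω)⁻¹ * x⁻¹) * ((b : Ω) * x * (b : Ω)⁻¹ * x⁻¹) =
        (a : Ω) * ((x * (a : Ω)⁻¹ * x⁻¹) * ((b : Ω) * (x * (b : Ω)⁻¹ * x⁻¹))) := by group
    rw [e1, e2, h.comm _ hv _ hu]

theorem psi_coe (h : Setup p S A) {x : Ω} (hxS : x ∈ S) (a : A) :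
    ((psi h hxS a : A) : Ω) = a * x * (a : Ω)⁻¹ * x⁻¹ := rfl

theorem mem_ker_psi (h : Setup p S A) {x : Ω} (hxS : x ∈ S) (hxA : x ∉ A) (a : A) :
    a ∈ (psi h hxS).ker ↔ (a : Ω) ∈ S ⊓ Subgroup.centralizer (S : Set Ω) := by
  rw [MonoidHom.mem_ker, mem_center_iff']
  constructor
  · intro ha
    have h1 : (a : Ω) * x * (a : Ω)⁻¹ * x⁻¹ = 1 := congrArg Subtype.val ha
    have h2 : (a : Ω) * x = x * a := by
      have : (a : Ω) * x = ((a : Ω) * x * (a : Ω)⁻¹ * x⁻¹) * (x * a) := by group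
      rw [this, h1, one_mul]
    exact ⟨h.hAS a.2, h.central_of_comm hxS hxA a.2 h2⟩
  · intro ha
    apply Subtype.ext
    show (a : Ω) * x * (a : Ω)⁻¹ * x⁻¹ = 1
    rw [← ha.2 x hxS]
    group

/-- Conjugation by `x` commutes with `psi`. -/
theorem conj_psi (h : Setup p S A) {x : Ω} (hxS : x ∈ S) (a : A) :
    x * ((psi h hxS a : A) : Ω) * x⁻¹ = ((psi h hxS ⟨x * a * x⁻¹, h.conj x hxS a a.2⟩ : A) : Ω) := by
  rw [psi_coe, psi_coe]
  group

theorem conj_inv_psi (h : Setup p S A) {x : Ω} (hxS : x ∈ S) (a : A) :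
    x⁻¹ * ((psi h hxS a : A) : Ω) * x =
      ((psi h hxS ⟨x⁻¹ * a * x, by have := h.conj x⁻¹ (S.inv_mem hxS) a a.2; rwa [inv_inv] at this⟩ : A) : Ω) := by
  rw [psi_coe, psi_coe]
  group

/-- The image of `psi`, as a subgroup of `Ω`. -/
def psiRange (h : Setup p S A) {x : Ω} (hxS : x ∈ S) : Subgroup Ω := ((psi h hxS).range).map A.subtype

theorem mem_psiRange (h : Setup p S A) {x : Ω} (hxS : x ∈ S) (r : Ω) :
    r ∈ psiRange h hxS ↔ ∃ a ∈ A, r = a * x * a⁻¹ * x⁻¹ := by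
  unfold psiRange
  constructor
  · rintro ⟨_, ⟨a, rfl⟩, rfl⟩
    exact ⟨a, a.2, rfl⟩
  · rintro ⟨a, ha, rfl⟩
    exact ⟨psi h hxS ⟨a, ha⟩, ⟨⟨a, ha⟩, rfl⟩, rfl⟩

theorem psiRange_le (h : Setup p S A) {x : Ω} (hxS : x ∈ S) : psiRange h hxS ≤ A := by
  intro r hr
  obtain ⟨a, ha, rfl⟩ := (mem_psiRange h hxS r).mp hr
  exact comm_mem h hxS ha

/-- All commutators of elements of `S` lie in the image of `psi`. -/
theorem commutator_mem_psiRange (h : Setup p S A) {x : Ω} (hxS : x ∈ S) (hxA : x ∉ A) :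
    ∀ g ∈ S, ∀ k ∈ S, g * k * g⁻¹ * k⁻¹ ∈ psiRange h hxS := by
  set R := psiRange h hxS with hR
  have hRA : R ≤ A := psiRange_le h hxS
  have hxinv : x⁻¹ ∈ S := S.inv_mem hxS
  -- conjugation by `x` and `x⁻¹` preserves `R`
  have hb1 : ∀ r ∈ R, x * r * x⁻¹ ∈ R := by
    intro r hr
    obtain ⟨a, ha, rfl⟩ := (mem_psiRange h hxS r).mp hr
    rw [hR, mem_psiRange]
    refine ⟨x * a * x⁻¹, h.conj x hxS a ha, ?_⟩
    group
  have hb2 : ∀ r ∈ R, x⁻¹ * r * x ∈ R := by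
    intro r hr
    obtain ⟨a, ha, rfl⟩ := (mem_psiRange h hxS r).mp hr
    rw [hR, mem_psiRange]
    refine ⟨x⁻¹ * a * x, by have := h.conj x⁻¹ hxinv a ha; rwa [inv_inv] at this, ?_⟩
    group
  have hc2 : ∀ j : ℕ, ∀ r ∈ R, (x ^ j)⁻¹ * r * x ^ j ∈ R := by
    intro j
    induction j with
    | zero => intro r hr; simpa using hr
    | succ j ih =>
      intro r hr
      have := ih _ (hb2 r hr)
      have e : (x ^ (j + 1))⁻¹ * r * x ^ (j + 1) = (x ^ j)⁻¹ * (x⁻¹ * r * x) * x ^ j := by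
        rw [pow_succ']
        group
      rw [e]
      exact this
  -- conjugation by `S` preserves `R`
  have hd : ∀ g ∈ S, ∀ r ∈ R, g * r * g⁻¹ ∈ R := by
    intro g hg r hr
    obtain ⟨i, hi⟩ := h.decomp x hxS hxA g hg
    have h1 := hc2 i r hr
    have e : g * r * g⁻¹ = (g * x ^ i) * ((x ^ i)⁻¹ * r * x ^ i) * (g * x ^ i)⁻¹ := by group
    rw [e, h.comm _ hi _ (hRA h1)]
    have e2 : (x ^ i)⁻¹ * r * x ^ i * (g * x ^ i) * (g * x ^ i)⁻¹ = (x ^ i)⁻¹ * r * x ^ i := by group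
    rw [e2]
    exact h1
  -- the property `Q g`: all commutators `[g, a]`, `a ∈ A`, lie in `R`
  have hQx : ∀ a ∈ A, x * a * x⁻¹ * a⁻¹ ∈ R := by
    intro a ha
    have h1 : a * x * a⁻¹ * x⁻¹ ∈ R := (mem_psiRange h hxS _).mpr ⟨a, ha, rfl⟩
    have e : x * a * x⁻¹ * a⁻¹ = (a * x * a⁻¹ * x⁻¹)⁻¹ := by group
    rw [e]
    exact R.inv_mem h1
  have hQmul : ∀ g ∈ S, ∀ g' ∈ S, (∀ a ∈ A, g * a * g⁻¹ * a⁻¹ ∈ R) → (∀ a ∈ A, g' * a * g'⁻¹ * a⁻¹ ∈ R) →
      ∀ a ∈ A, (g * g') * a * (g * g')⁻¹ * a⁻¹ ∈ R := by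
    intro g hg g' _ hQ hQ' a ha
    have e : (g * g') * a * (g * g')⁻¹ * a⁻¹ = (g * (g' * a * g'⁻¹ * a⁻¹) * g⁻¹) * (g * a * g⁻¹ * a⁻¹) := by group
    rw [e]
    exact R.mul_mem (hd g hg _ (hQ' a ha)) (hQ a ha)
  have hQinv : ∀ g ∈ S, (∀ a ∈ A, g * a * g⁻¹ * a⁻¹ ∈ R) → ∀ a ∈ A, g⁻¹ * a * (g⁻¹)⁻¹ * a⁻¹ ∈ R := by
    intro g hg hQ a ha
    have ha' : g⁻¹ * a * (g⁻¹)⁻¹ ∈ A := h.conj g⁻¹ (S.inv_mem hg) a ha
    have h1 := hQ _ ha'
    have e : g⁻¹ * a * (g⁻¹)⁻¹ * a⁻¹ = (g * (g⁻¹ * a * (g⁻¹)⁻¹) * g⁻¹ * (g⁻¹ * a * (g⁻¹)⁻¹)⁻¹)⁻¹ := by group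
    rw [e]
    exact R.inv_mem h1
  have hQpow : ∀ j : ℕ, ∀ a ∈ A, x ^ j * a * (x ^ j)⁻¹ * a⁻¹ ∈ R := by
    intro j
    induction j with
    | zero => intro a _; simp
    | succ j ih =>
      rw [pow_succ]
      exact hQmul _ (S.pow_mem hxS j) _ hxS ih hQx
  have hQA : ∀ b ∈ A, ∀ a ∈ A, b * a * b⁻¹ * a⁻¹ ∈ R := by
    intro b hb a ha
    rw [h.comm b hb a ha]
    have e : a * b * b⁻¹ * a⁻¹ = 1 := by group
    rw [e]
    exact R.one_mem
  have hQ : ∀ g ∈ S, ∀ a ∈ A, g * a * g⁻¹ * a⁻¹ ∈ R := by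
    intro g hg
    obtain ⟨i, hi⟩ := h.decomp x hxS hxA g hg
    have e : g = (g * x ^ i) * (x ^ i)⁻¹ := by group
    rw [e]
    exact hQmul _ (h.hAS hi) _ (S.inv_mem (S.pow_mem hxS i)) (hQA _ hi)
      (hQinv _ (S.pow_mem hxS i) (hQpow i))
  -- general commutators
  intro g hg k hk
  obtain ⟨i, hi⟩ := h.decomp x hxS hxA g hg
  obtain ⟨j, hj⟩ := h.decomp x hxS hxA k hk
  set w := (x ^ j)⁻¹ with hw
  have hwS : w ∈ S := S.inv_mem (S.pow_mem hxS j)
  have hgw : g * w * g⁻¹ * w⁻¹ ∈ R := by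
    have h1 := hQ w hwS _ hi
    have hc : (x ^ i)⁻¹ * w = w * (x ^ i)⁻¹ := by
      rw [hw, ← mul_inv_rev, ← mul_inv_rev, ← pow_add, ← pow_add, add_comm]
    have e : g * w * g⁻¹ * w⁻¹ = (w * (g * x ^ i) * w⁻¹ * (g * x ^ i)⁻¹)⁻¹ := by
      have : g * w = (g * x ^ i) * (w * (x ^ i)⁻¹) := by rw [← hc]; group
      rw [this]
      group
    rw [e]
    exact R.inv_mem h1
  have e : g * k * g⁻¹ * k⁻¹ =
      (g * (k * x ^ j) * g⁻¹ * (k * x ^ j)⁻¹) * ((k * x ^ j) * (g * w * g⁻¹ * w⁻¹) * (k * x ^ j)⁻¹) := by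
    rw [hw]
    group
  rw [e]
  exact R.mul_mem (hQ g hg _ hj) (hd _ (h.hAS hj) _ hgw)

end psi

section fusion

variable {Ω : Type*} [Group Ω] {S : Subgroup Ω}

/-- Conjugation by an element `a ∈ A` whose commutator with `x` is central. -/
theorem conj_form {p : ℕ} {A : Subgroup Ω} (h : Setup p S A) {x : Ω} (hxS : x ∈ S) (hxA : x ∉ A) {a : Ω}
    (haA : a ∈ A) (hc : a * x * a⁻¹ * x⁻¹ ∈ S ⊓ Subgroup.centralizer (S : Set Ω)) :
    ∀ g ∈ S, ∃ i : ℕ, a * g * a⁻¹ = g * ((a * x * a⁻¹ * x⁻¹) ^ i)⁻¹ := by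
  intro g hg
  set c := a * x * a⁻¹ * x⁻¹ with hcdef
  have hcz := (mem_center_iff' c).mp hc
  have hax : a * x * a⁻¹ = c * x := by rw [hcdef]; group
  have hcx : c * x = x * c := (hcz.2 x hxS).symm
  obtain ⟨i, hi⟩ := h.decomp x hxS hxA g hg
  refine ⟨i, ?_⟩
  have hu : a * (g * x ^ i) * a⁻¹ = g * x ^ i := by rw [h.comm a haA _ hi]; group
  have hxi := conj_pow_eq hax hcx i
  have e : a * g * a⁻¹ = (a * (g * x ^ i) * a⁻¹) * (a * x ^ i * a⁻¹)⁻¹ := by group
  rw [e, hu, hxi]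
  group

/-- An element of `A` whose commutator with `x` is central lies in the second centre. -/
theorem mem_Z2_of_comm {p : ℕ} {A : Subgroup Ω} (h : Setup p S A) {x : Ω} (hxS : x ∈ S) (hxA : x ∉ A) {a : Ω}
    (haA : a ∈ A) (hc : a * x * a⁻¹ * x⁻¹ ∈ S ⊓ Subgroup.centralizer (S : Set Ω)) :
    a ∈ (upperCentralSeries ↥S 2).map S.subtype := by
  rw [mem_Z2_iff]
  refine ⟨h.hAS haA, fun g hg => ?_⟩
  obtain ⟨i, hi⟩ := h.decomp x hxS hxA g hg
  exact comm_mem_center hxS i (h.hAS hi) (h.comm a haA _ hi) hc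

/-- The facts extracted from the existence of an essential subgroup other than `A`. -/
theorem key_facts [Finite S] {p : ℕ} [hp : Fact p.Prime] (hS : IsPGroup p S) (F : FusionSystem S)
    (hF : F.IsSaturated p) {A : Subgroup Ω} (h : Setup p S A) (hna : ¬ IsMulCommutative ↥S)
    (huniq : ∀ B : Subgroup Ω, B ≤ S → IsMulCommutative ↥B → (B.subgroupOf S).index = p → B = A)
    {P : Subgroup Ω} (hP : F.IsEssential p P) (hPA : P ≠ A) :
    (upperCentralSeries ↥S 2).map S.subtype ≤ A ∧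
    ∃ b₀ ∈ (upperCentralSeries ↥S 2).map S.subtype, b₀ ∉ S ⊓ Subgroup.centralizer (S : Set Ω) ∧
      b₀ ^ p ∈ S ⊓ Subgroup.centralizer (S : Set Ω) ∧
      ∀ b ∈ (upperCentralSeries ↥S 2).map S.subtype, ∃ i : ℕ, b * b₀ ^ i ∈ S ⊓ Subgroup.centralizer (S : Set Ω) := by
  have hPlt : P < S := Cfsg.Agent.S5326.lt_of_isEssential hS F hF hP
  have hPc := hP.1
  have hPS : P ≤ S := hPc.1
  have hfinP : Finite P := finite_of_le hPS
  have hPnle : ¬ P ≤ A := by
    intro hle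
    apply hPA
    apply le_antisymm hle
    intro a ha
    apply hPc.2 P (isConj_refl F hPS)
    rw [mem_centralizerIn_iff]
    exact ⟨h.hAS ha, fun g hg => h.comm g (hle hg) a ha⟩
  obtain ⟨x, hxP, hxA⟩ := SetLike.not_le_iff_exists.mp hPnle
  have hxS : x ∈ S := hPS hxP
  have hZA := center_le h hna
  have hZP := center_le_of_centric F hPc
  by_cases hPcomm : ∀ a ∈ P, ∀ b ∈ P, a * b = b * a
  · obtain ⟨-, hidx⟩ := abelian_case hS F hF h hna hP hxP hxA hPcomm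
    have hP0Z : ∀ a ∈ P, a ∈ A → a ∈ S ⊓ Subgroup.centralizer (S : Set Ω) := by
      intro a haP haA
      rw [mem_center_iff']
      exact ⟨hPS haP, h.central_of_comm hxS hxA haA (hPcomm a haP x hxP)⟩
    have hBnorm : ∀ a ∈ A, a * x * a⁻¹ * x⁻¹ ∈ S ⊓ Subgroup.centralizer (S : Set Ω) →
        a ∈ Subgroup.normalizer (P : Set Ω) := by
      intro a haA hc
      apply mem_normalizer_of_conj_mem
      intro g hg
      obtain ⟨i, hi⟩ := conj_form h hxS hxA haA hc g (hPS hg)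
      rw [hi]
      exact P.mul_mem hg (P.inv_mem (P.pow_mem (hZP hc) i))
    have hK1 : (upperCentralSeries ↥S 2).map S.subtype ≤ A := by
      intro g hg
      rw [mem_Z2_iff] at hg
      by_contra hgA
      have hAall : ∀ a ∈ A, a * x * a⁻¹ * x⁻¹ ∈ S ⊓ Subgroup.centralizer (S : Set Ω) := by
        intro a haA
        obtain ⟨i, hi⟩ := h.decomp g hg.1 hgA x hxS
        apply comm_mem_center hg.1 i (h.hAS hi) (h.comm a haA _ hi)
        have h1 := Subgroup.inv_mem _ (hg.2 a (h.hAS haA))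
        have e : (g * a * g⁻¹ * a⁻¹)⁻¹ = a * g * a⁻¹ * g⁻¹ := by group
        rwa [e] at h1
      have hN : S ⊓ Subgroup.normalizer (P : Set Ω) = S := by
        rw [inf_eq_left]
        intro s hs
        obtain ⟨i, hi⟩ := h.decomp x hxS hxA s hs
        have e : s = (s * x ^ i) * (x ^ i)⁻¹ := by group
        rw [e]
        exact Subgroup.mul_mem _ (hBnorm _ hi (hAall _ hi))
          (Subgroup.inv_mem _ (Subgroup.le_normalizer (P.pow_mem hxP i)))
      rw [hN] at hidx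
      have hPc' : IsMulCommutative ↥P := by
        rw [isMulCommutative_iff]
        intro a b
        exact Subtype.ext (hPcomm a a.2 b b.2)
      exact hPA (huniq P hPS hPc' hidx)
    refine ⟨hK1, ?_⟩
    set N : Subgroup Ω := S ⊓ Subgroup.normalizer (P : Set Ω) with hN
    haveI hPN : (P.subgroupOf N).Normal := Subgroup.normal_subgroupOf_of_le_normalizer inf_le_right
    obtain ⟨n, hnN, hnP⟩ := SetLike.exists_of_lt (lt_normalizerIn hS hPlt)
    obtain ⟨i, hi⟩ := h.decomp x hxS hxA n hnN.1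
    set a₀ := n * x ^ i with ha₀
    have ha₀N : a₀ ∈ N := N.mul_mem hnN (le_normalizerIn hPS (P.pow_mem hxP i))
    have ha₀P : a₀ ∉ P := by
      intro hmem
      apply hnP
      have e : n = a₀ * (x ^ i)⁻¹ := by rw [ha₀]; group
      rw [e]
      exact P.mul_mem hmem (P.inv_mem (P.pow_mem hxP i))
    have hc₀ : a₀ * x * a₀⁻¹ * x⁻¹ ∈ S ⊓ Subgroup.centralizer (S : Set Ω) := by
      apply hP0Z _ _ (comm_mem h hxS hi)
      exact P.mul_mem ((Subgroup.mem_normalizer_iff.mp ha₀N.2 x).mp hxP) (P.inv_mem hxP)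
    have hv : (⟨a₀, ha₀N⟩ : N) ∉ P.subgroupOf N := fun hmem => ha₀P (Subgroup.mem_subgroupOf.mp hmem)
    refine ⟨a₀, mem_Z2_of_comm h hxS hxA hi hc₀, fun hz => ha₀P (hZP hz), ?_, ?_⟩
    · have h1 := pow_mem_of_index_prime hp.out (P.subgroupOf N) hidx ⟨a₀, ha₀N⟩
      have h2 : a₀ ^ p ∈ P := Subgroup.mem_subgroupOf.mp h1
      exact hP0Z _ h2 (A.pow_mem hi p)
    · intro b hb
      have hbA := hK1 hb
      have hbc := ((mem_Z2_iff b).mp hb).2 x hxS
      have hbN : b ∈ N := ⟨h.hAS hbA, hBnorm b hbA hbc⟩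
      obtain ⟨j, hj⟩ := exists_mul_pow_mem_of_index_prime hp.out (P.subgroupOf N) hidx hv ⟨b, hbN⟩
      have h2 : b * a₀ ^ j ∈ P := Subgroup.mem_subgroupOf.mp hj
      exact ⟨j, hP0Z _ h2 (A.mul_mem hbA (A.pow_mem hi j))⟩
  · obtain ⟨hZ2eq, -, -, c₀, hc₀, hc₀Z, hc₀p, hgen⟩ := nonabelian_case hS F hF h hna hP hxP hxA hPcomm
    rw [hZ2eq]
    exact ⟨inf_le_right, c₀, hc₀, hc₀Z, hc₀p, hgen⟩

end fusion

/-- Let p be an odd prime, S a finite nonabelian p-group with a unique abelian subgroup A of index p, and F a saturated fusion system over S having an F-essential subgroup other than A. Then the second centre Z₂(S) lies in A; Z(S) ∩ [S, S] has order p; Z(S)[S, S] has index p in A; Z(S) has index p in Z₂(S); and S/Z(S) has maximal nilpotency class (if S/Z(S) has order pᵐ with m ≥ 3 then the term of index m − 2 of the lower central series of S, counting S as index 0, is not contained in Z(S)). -/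
theorem result {Ω : Type*} [Group Ω] {S : Subgroup Ω} [Finite S] (p : ℕ) [Fact p.Prime] (hS : IsPGroup p S) (F : Cfsg.FusionSystem S) (hF : F.IsSaturated p) (hp : p ≠ 2) (hna : ¬ IsMulCommutative ↥S) (A : Subgroup Ω) (hA : A ≤ S ∧ IsMulCommutative ↥A ∧ (A.subgroupOf S).index = p) (huniq : ∀ B : Subgroup Ω, B ≤ S → IsMulCommutative ↥B → (B.subgroupOf S).index = p → B = A) (P : Subgroup Ω) (hP : F.IsEssential p P) (hPA : P ≠ A) : ((upperCentralSeries ↥S 2).map S.subtype) ≤ A ∧ Nat.card ↥((S ⊓ Subgroup.centralizer (S : Set Ω)) ⊓ ((commutator ↥S).map S.subtype)) = p ∧ (((S ⊓ Subgroup.centralizer (S : Set Ω)) ⊔ ((commutator ↥S).map S.subtype)).subgroupOf A).index = p ∧ (((S ⊓ Subgroup.centralizer (S : Set Ω))).subgroupOf ((upperCentralSeries ↥S 2).map S.subtype)).index = p ∧ ∀ m : ℕ, ((S ⊓ Subgroup.centralizer (S : Set Ω)).subgroupOf S).index = p ^ m → 3 ≤ m → ¬ Subgroup.lowerCentralSeries S (m - 2) ≤ (S ⊓ Subgroup.centralizer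 (S : Set Ω)) := by
  obtain ⟨hAS, hAc, hAi⟩ := hA
  have hpp : p.Prime := Fact.out
  have h := setup_of hS hAS hAc hAi
  obtain ⟨hK1, b₀, hb₀Z2, hb₀Z, hb₀p, hgen⟩ := key_facts hS F hF h hna huniq hP hPA
  obtain ⟨x, hxS, hxA⟩ : ∃ x ∈ S, x ∉ A := by
    by_contra hcon
    push Not at hcon
    have h1 : A.subgroupOf S = ⊤ := Subgroup.subgroupOf_eq_top.mpr hcon
    rw [h1, Subgroup.index_top] at hAi
    exact hpp.one_lt.ne hAi
  have hfinA : Finite A := finite_of_le hAS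
  have hZA := center_le h hna
  have hZ2S : (upperCentralSeries ↥S 2).map S.subtype ≤ S := hK1.trans hAS
  -- the index of the centre in the second centre
  have h4 : ((S ⊓ Subgroup.centralizer (S : Set Ω)).subgroupOf ((upperCentralSeries ↥S 2).map S.subtype)).index = p := by
    haveI : ((S ⊓ Subgroup.centralizer (S : Set Ω)).subgroupOf ((upperCentralSeries ↥S 2).map S.subtype)).Normal := by
      constructor
      intro n hn g
      rw [Subgroup.mem_subgroupOf] at hn ⊢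
      have h1 := ((mem_center_iff' _).mp hn).2 g (hZ2S g.2)
      show (g : Ω) * n * (g : Ω)⁻¹ ∈ _
      rw [h1]
      simpa using hn
    apply index_eq_prime_of_gen hpp _ (a := ⟨b₀, hb₀Z2⟩)
    · intro hmem
      exact hb₀Z (Subgroup.mem_subgroupOf.mp hmem)
    · rw [Subgroup.mem_subgroupOf]
      exact hb₀p
    · intro g
      obtain ⟨i, hi⟩ := hgen g g.2
      exact ⟨i, Subgroup.mem_subgroupOf.mpr hi⟩
  set ψ := psi h hxS with hψ
  have hker : ψ.ker = (S ⊓ Subgroup.centralizer (S : Set Ω)).subgroupOf A := by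
    ext a
    rw [mem_ker_psi h hxS hxA, Subgroup.mem_subgroupOf]
  set Z2' : Subgroup A := ((upperCentralSeries ↥S 2).map S.subtype).subgroupOf A with hZ2'
  have hrel : ψ.ker.relIndex Z2' = p := by
    rw [hker, hZ2', Subgroup.relIndex_subgroupOf hK1]
    exact h4
  have hmemZ2' : ∀ a : A, a ∈ Z2' ↔ ψ a ∈ ψ.ker := by
    intro a
    rw [hZ2', Subgroup.mem_subgroupOf, mem_ker_psi h hxS hxA]
    constructor
    · intro ha
      exact ((mem_Z2_iff _).mp ha).2 x hxS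
    · intro ha
      exact mem_Z2_of_comm h hxS hxA a.2 ha
  have hinf : ψ.ker ⊓ ψ.range = Z2'.map ψ := by
    ext a'
    constructor
    · rintro ⟨hk, ⟨a, rfl⟩⟩
      exact ⟨a, (hmemZ2' a).mpr hk, rfl⟩
    · rintro ⟨a, ha, rfl⟩
      exact ⟨(hmemZ2' a).mp ha, ⟨a, rfl⟩⟩
  have hcardinf : Nat.card ↥(ψ.ker ⊓ ψ.range) = p := by
    rw [hinf, ← Subgroup.relIndex_ker]
    exact hrel
  -- the derived subgroup is the image of `ψ`
  have hS'eq : (commutator ↥S).map S.subtype = ψ.range.map A.subtype := by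
    apply le_antisymm
    · rw [Subgroup.map_le_iff_le_comap, commutator_def, Subgroup.commutator_le]
      intro g _ k _
      rw [Subgroup.mem_comap, commutatorElement_def]
      exact commutator_mem_psiRange h hxS hxA g g.2 k k.2
    · rintro _ ⟨_, ⟨a, rfl⟩, rfl⟩
      refine ⟨(⟨a, hAS a.2⟩ : S) * ⟨x, hxS⟩ * (⟨a, hAS a.2⟩ : S)⁻¹ * (⟨x, hxS⟩ : S)⁻¹, ?_, ?_⟩
      · rw [commutator_def, ← commutatorElement_def]
        exact Subgroup.commutator_mem_commutator (Subgroup.mem_top _) (Subgroup.mem_top _)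
      · rfl
  have hS'A : (commutator ↥S).map S.subtype ≤ A := by
    rw [hS'eq]
    exact psiRange_le h hxS
  refine ⟨hK1, ?_, ?_, h4, ?_⟩
  · have e : (S ⊓ Subgroup.centralizer (S : Set Ω)) ⊓ (commutator ↥S).map S.subtype =
        (ψ.ker ⊓ ψ.range).map A.subtype := by
      rw [hS'eq]
      ext r
      constructor
      · rintro ⟨hrZ, ⟨a', ha', rfl⟩⟩
        exact ⟨a', ⟨(mem_ker_psi h hxS hxA a').mpr hrZ, ha'⟩, rfl⟩
      · rintro ⟨a', ⟨hk, hr⟩, rfl⟩
        exact ⟨(mem_ker_psi h hxS hxA a').mp hk, ⟨a', hr, rfl⟩⟩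
    rw [e, Subgroup.card_map_of_injective A.subtype_injective]
    exact hcardinf
  · have e1 : ((S ⊓ Subgroup.centralizer (S : Set Ω)) ⊔ (commutator ↥S).map S.subtype).subgroupOf A =
        ψ.ker ⊔ ψ.range := by
      have e0 : (ψ.range.map A.subtype).subgroupOf A = ψ.range :=
        Subgroup.comap_map_eq_self_of_injective A.subtype_injective _
      rw [Subgroup.subgroupOf_sup hZA hS'A, ← hker, hS'eq, e0]
    rw [e1]
    have a1 := Subgroup.relIndex_mul_index (le_sup_left : ψ.ker ≤ ψ.ker ⊔ ψ.range)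
    rw [Subgroup.index_ker, Subgroup.relIndex_sup_left, ← Subgroup.inf_relIndex_right] at a1
    have a2 := relIndex_mul_card_aux (inf_le_right : ψ.ker ⊓ ψ.range ≤ ψ.range)
    rw [hcardinf] at a2
    have hpos : 0 < (ψ.ker ⊓ ψ.range).relIndex ψ.range :=
      Nat.pos_of_dvd_of_pos (Subgroup.relIndex_dvd_card _ _) Nat.card_pos
    exact Nat.eq_of_mul_eq_mul_left hpos (a1.trans a2.symm)
  · intro m hm hm3 hle
    have hiter : ∀ (k : ℕ) (a : A), ((ψ^[k] a : A) : Ω) ∈ S.lowerCentralSeries k := by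
      intro k
      induction k with
      | zero => intro a; exact hAS a.2
      | succ k ih =>
        intro a
        rw [Function.iterate_succ_apply']
        have h1 := ih a
        show ((ψ^[k] a : A) : Ω) * x * ((ψ^[k] a : A) : Ω)⁻¹ * x⁻¹ ∈ ⁅S.lowerCentralSeries k, S⁆
        have := Subgroup.commutator_mem_commutator h1 hxS
        rwa [commutatorElement_def] at this
    have h12 : (kerChain ψ 1).relIndex (kerChain ψ 2) ≤ p := by
      have e1 : kerChain ψ 1 = ψ.ker := by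
        ext a
        rw [mem_kerChain_iff, MonoidHom.mem_ker]
        rfl
      have e2 : kerChain ψ 2 = Z2' := by
        ext a
        show ψ a ∈ kerChain ψ 1 ↔ _
        rw [e1, hmemZ2']
      rw [e1, e2, hrel]
    have e1 : kerChain ψ 1 = ψ.ker := by
      ext a
      rw [mem_kerChain_iff, MonoidHom.mem_ker]
      rfl
    obtain ⟨m', rfl⟩ : ∃ m' : ℕ, m = m' + 3 := ⟨m - 3, by omega⟩
    have htop : kerChain ψ (m' + 1 + 1) = ⊤ := by
      rw [eq_top_iff]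
      intro a _
      rw [mem_kerChain_iff, Function.iterate_succ_apply']
      have h1 : ((ψ^[m' + 1] a : A) : Ω) ∈ S ⊓ Subgroup.centralizer (S : Set Ω) := by
        apply hle
        have : m' + 3 - 2 = m' + 1 := by omega
        rw [this]
        exact hiter (m' + 1) a
      exact (mem_ker_psi h hxS hxA _).mpr h1
    have hbound := card_kerChain_le ψ h12 (m' + 1)
    rw [htop, e1, hker] at hbound
    -- cardinalities
    have c1 : Nat.card ↥((S ⊓ Subgroup.centralizer (S : Set Ω)).subgroupOf A) =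
        Nat.card ↥(S ⊓ Subgroup.centralizer (S : Set Ω)) :=
      Nat.card_congr (Subgroup.subgroupOfEquivOfLe hZA).toEquiv
    have c2 : Nat.card ↥((S ⊓ Subgroup.centralizer (S : Set Ω)).subgroupOf S) =
        Nat.card ↥(S ⊓ Subgroup.centralizer (S : Set Ω)) :=
      Nat.card_congr (Subgroup.subgroupOfEquivOfLe inf_le_left).toEquiv
    have c3 : Nat.card ↥(A.subgroupOf S) = Nat.card ↥A :=
      Nat.card_congr (Subgroup.subgroupOfEquivOfLe hAS).toEquiv
    have c4 := Subgroup.card_mul_index ((S ⊓ Subgroup.centralizer (S : Set Ω)).subgroupOf S)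
    have c5 := Subgroup.card_mul_index (A.subgroupOf S)
    rw [hm, c2] at c4
    rw [hAi, c3] at c5
    have c6 : Nat.card (⊤ : Subgroup A) = Nat.card A := Nat.card_congr (Equiv.Set.univ _)
    rw [c6, c1] at hbound
    set z := Nat.card ↥(S ⊓ Subgroup.centralizer (S : Set Ω)) with hz
    have hzfin : Finite ↥(S ⊓ Subgroup.centralizer (S : Set Ω)) :=
      Finite.of_injective (fun a => (⟨a.1, a.2.1⟩ : S)) (fun a b hab => Subtype.ext (congrArg (fun t : S => (t : Ω)) hab))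
    have hzpos : 0 < z := Nat.card_pos
    have hppos : 0 < p := hpp.pos
    -- card A * p = z * p ^ (m' + 3), card A ≤ p ^ (m' + 1) * z
    have c7 : Nat.card A * p ≤ p ^ (m' + 1) * z * p := Nat.mul_le_mul_right p hbound
    rw [c5, ← c4] at c7
    have c8 : z * p ^ (m' + 3) = p ^ (m' + 1) * z * p * p := by ring
    rw [c8] at c7
    have c9 : 0 < p ^ (m' + 1) * z * p := by positivity
    have : p ≤ 1 := by
      by_contra hgt
      push Not at hgt
      have : p ^ (m' + 1) * z * p * 1 < p ^ (m' + 1) * z * p * p := Nat.mul_lt_mul_of_pos_left hgt c9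
      omega
    exact absurd hpp.one_lt (by omega)

end Cfsg.Agent.S5257

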