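import Cfsg.Statements.S5198
import Cfsg.Agent.Helper87.FusionHyp2

set_option autoImplicit false
open Cfsg Cfsg.FusionSystem Cfsg.Agent.Helper87

namespace Cfsg.Agent.S5198

variable {Ω : Type*} [Group Ω] {S : Subgroup Ω}

/-- The elements of the ambient group acting on `T` by conjugation as an element of the subgroup `B` of `Aut(T)`. -/
def actSub (T : Subgroup Ω) (B : Subgroup (MulAut T)) : Subgroup Ω where
  carrier := {y | ∃ β ∈ B, ∀ t : T, ((β t : T) : Ω) = y * t * y⁻¹}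
  one_mem' := ⟨1, B.one_mem, fun t => by simp⟩
  mul_mem' := by
    rintro y₁ y₂ ⟨β₁, hβ₁, h₁⟩ ⟨β₂, hβ₂, h₂⟩
    refine ⟨β₁ * β₂, B.mul_mem hβ₁ hβ₂, fun t => ?_⟩
    rw [MulAut.mul_apply, h₁, h₂]
    group
  inv_mem' := by
    rintro y ⟨β, hβ, h⟩
    refine ⟨β⁻¹, B.inv_mem hβ, fun t => ?_⟩
    have h1 := h (β⁻¹ t)
    rw [MulAut.apply_inv_self] at h1
    rw [h1]
    group

theorem mem_actSub (T : Subgroup Ω) (B : Subgroup (MulAut T)) (y : Ω) :
    y ∈ actSub T B ↔ ∃ β ∈ B, ∀ t : T, ((β t : T) : Ω) = y * t * y⁻¹ := Iff.rfl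

/-- For `R ≥ T` and `α ∈ O^p(Aut_F(R))`, the element `x⁻¹ α(x)` acts on `T` as an element of `O^p(Aut_F(T))`. -/
theorem inv_mul_mem_actSub {p : ℕ} (F : FusionSystem S) {T : Subgroup Ω} (hT : F.StronglyClosed T)
    {R : Subgroup Ω} (hRS : R ≤ S) (hTR : T ≤ R) (α : F.autGroup R) (hα : α ∈ pResidual p (F.autGroup R)) (x : R) :
    (x : Ω)⁻¹ * (((α : MulAut R) x : R) : Ω) ∈
      actSub T ((pResidual p (F.autGroup T)).map (F.autGroup T).subtype) := by
  have hSN : S ≤ Subgroup.normalizer (T : Set Ω) := le_normalizer_of_stronglyClosed F hT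
  have hxN : (x : Ω) ∈ Subgroup.normalizer (T : Set Ω) := hSN (hRS x.2)
  have hcF : conjAut T x hxN ∈ F.autGroup T :=
    (mem_autGroup_iff F hT.1 _).mpr (isIso_conjAut F hT.1 (hRS x.2) hxN)
  let c : F.autGroup T := ⟨conjAut T x hxN, hcF⟩
  let r : F.autGroup T := resAut F hT hTR hRS α
  have hr : r ∈ pResidual p (F.autGroup T) := pResidual_map_le (resAut F hT hTR hRS) (Subgroup.mem_map_of_mem _ hα)
  have hn : (pResidual p (F.autGroup T)).Normal := Cfsg.Agent.Lib.pResidual_normal p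
  have h1 : c⁻¹ * r * c⁻¹⁻¹ ∈ pResidual p (F.autGroup T) := hn.conj_mem r hr c⁻¹
  have h2 : c⁻¹ * r * c * r⁻¹ ∈ pResidual p (F.autGroup T) := by
    have := Subgroup.mul_mem _ h1 (Subgroup.inv_mem _ hr)
    rwa [inv_inv] at this
  rw [mem_actSub]
  refine ⟨((c⁻¹ * r * c * r⁻¹ : F.autGroup T) : MulAut T), ⟨_, h2, rfl⟩, fun t => ?_⟩
  -- compute the action
  set a : MulAut R := (α : MulAut R) with ha
  have hrinv : ∀ s : T, (((r⁻¹ : F.autGroup T) : MulAut T) s : Ω) = ((a⁻¹ ⟨s, hTR s.2⟩ : R) : Ω) := by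
    intro s
    have : (r⁻¹ : F.autGroup T) = resAut F hT hTR hRS α⁻¹ := (map_inv _ _).symm
    rw [this]
    rfl
  have hrap : ∀ s : T, (((r : F.autGroup T) : MulAut T) s : Ω) = ((a ⟨s, hTR s.2⟩ : R) : Ω) := fun s => rfl
  have hcap : ∀ s : T, (((c : F.autGroup T) : MulAut T) s : Ω) = (x : Ω) * s * (x : Ω)⁻¹ := fun s => rfl
  have hcinv : ∀ s : T, (((c⁻¹ : F.autGroup T) : MulAut T) s : Ω) = (x : Ω)⁻¹ * s * (x : Ω) := by
    intro s
    have h := hcap (((c⁻¹ : F.autGroup T) : MulAut T) s)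
    rw [Subgroup.coe_inv, MulAut.apply_inv_self] at h
    rw [Subgroup.coe_inv]
    rw [h]
    group
  simp only [Subgroup.coe_mul, MulAut.mul_apply]
  rw [hcinv, hrap]
  -- the inner element
  set u : R := a⁻¹ ⟨t, hTR t.2⟩ with hu
  have huT : (u : Ω) ∈ T := by
    have := hrinv t
    rw [← this]
    exact Subtype.property _
  have e1 : (⟨((((c : F.autGroup T) : MulAut T) (((r⁻¹ : F.autGroup T) : MulAut T) t) : T) : Ω),
      hTR (Subtype.property _)⟩ : R) = x * u * x⁻¹ := by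
    apply Subtype.ext
    rw [hcap, hrinv]
    rfl
  rw [e1, map_mul, map_mul, map_inv]
  have e2 : a u = ⟨t, hTR t.2⟩ := by rw [hu]; simp
  rw [e2]
  simp only [Subgroup.coe_mul, Subgroup.coe_inv]
  group

/-- Let F be a saturated fusion system over a finite p-group S and T a subgroup of S strongly closed in F (so T is normal in S). Then every element x of the hyperfocal subgroup of F acts on T by conjugation as an element of O^p(Aut_F(T))·Inn(T): there is an automorphism of T in the subgroup generated by the elements of Aut_F(T) of order prime to p together with the inner automorphisms of T that agrees with conjugation by x. -/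
theorem result {Ω : Type*} [Group Ω] {S : Subgroup Ω} [Finite S] (p : ℕ) [Fact p.Prime] (hS : IsPGroup p S) (F : Cfsg.FusionSystem S) (hF : F.IsSaturated p) (T : Subgroup Ω) (hT : F.StronglyClosed T) : ∀ x ∈ F.hyperfocalSubgroup p, ∃ α ∈ ((Cfsg.pResidual p ↥(F.autGroup T)).map (F.autGroup T).subtype ⊔ Cfsg.Inn ↥T : Subgroup (MulAut ↥T)), ∀ t : ↥T, ((α t : ↥T) : Ω) = x * (t : Ω) * x⁻¹ := by
  set B : Subgroup (MulAut T) := (Cfsg.pResidual p ↥(F.autGroup T)).map (F.autGroup T).subtype ⊔ Cfsg.Inn ↥T with hB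
  have hle : F.hyperfocalSubgroup p ≤ actSub T B := by
    conv_lhs => unfold hyperfocalSubgroup
    rw [Subgroup.closure_le]
    rintro _ ⟨P, α, x, hPS, hα, rfl⟩
    obtain ⟨α', hα', hmod⟩ := exists_pResidual_lift_mod hS F hF hT hPS α hα
    have hRS : P ⊔ T ≤ S := sup_le hPS hT.1
    have h1 := inv_mul_mem_actSub F hT hRS le_sup_right α' hα' (Subgroup.inclusion le_sup_left x)
    have h1' : (x : Ω)⁻¹ * (((α' : MulAut ↥(P ⊔ T)) (Subgroup.inclusion le_sup_left x) : ↥(P ⊔ T)) : Ω) ∈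
        actSub T B := by
      obtain ⟨β, hβ, hβt⟩ := h1
      exact ⟨β, Subgroup.mem_sup_left hβ, hβt⟩
    have ht₀ := hmod x
    have h2 : ((((α : MulAut P) x : P) : Ω)⁻¹ *
        (((α' : MulAut ↥(P ⊔ T)) (Subgroup.inclusion le_sup_left x) : ↥(P ⊔ T)) : Ω))⁻¹ ∈ actSub T B := by
      apply Subgroup.inv_mem
      refine ⟨_, Subgroup.mem_sup_right ⟨⟨_, ht₀⟩, rfl⟩, fun t => rfl⟩
    have := Subgroup.mul_mem _ h1' h2
    have e : (x : Ω)⁻¹ * (((α' : MulAut ↥(P ⊔ T)) (Subgroup.inclusion le_sup_left x) : ↥(P ⊔ T)) : Ω) *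
        ((((α : MulAut P) x : P) : Ω)⁻¹ *
          (((α' : MulAut ↥(P ⊔ T)) (Subgroup.inclusion le_sup_left x) : ↥(P ⊔ T)) : Ω))⁻¹ =
        (x : Ω)⁻¹ * (((α : MulAut P) x : P) : Ω) := by group
    rw [e] at this
    exact this
  intro x hx
  exact hle hx

end Cfsg.Agent.S5198
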