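-- Statement S5199: a normal subsystem on T is contained in every normal subsystem of p-power index over U ≥ T·hyp(F).
import Mathlib
import Cfsg.Statements.S5199
import Cfsg.Agent.Helper87.FusionRS

set_option autoImplicit false
open Cfsg

namespace Cfsg.Agent.S5199

open Cfsg.FusionSystem Cfsg.Agent.Helper87

/-- A finite group is generated by `O^p` (the subgroup generated by the `p'`-elements) and a Sylow `p`-subgroup. -/
theorem pResidual_sup_sylow_eq_top {X : Type*} [Group X] [Finite X] (p : ℕ) [hp : Fact p.Prime] (R : Sylow p X) :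
    pResidual p X ⊔ (R : Subgroup X) = ⊤ := by
  classical
  set M : Subgroup X := pResidual p X ⊔ (R : Subgroup X) with hM
  rw [← Subgroup.index_eq_one]
  by_contra hne
  obtain ⟨q, hq, hqdvd⟩ := Nat.exists_prime_and_dvd hne
  by_cases hqp : q = p
  · subst hqp
    have h1 : M.index ∣ (R : Subgroup X).index := Subgroup.index_dvd_of_le le_sup_right
    exact R.not_dvd_index (hqdvd.trans h1)
  · have : Fact q.Prime := ⟨hq⟩
    obtain Q : Sylow q X := default
    have hQN : (Q : Subgroup X) ≤ pResidual p X := by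
      intro g hg
      apply Subgroup.subset_closure
      show Nat.Coprime (orderOf g) p
      obtain ⟨k, hk⟩ := (IsPGroup.iff_orderOf.mp Q.isPGroup') ⟨g, hg⟩
      rw [Subgroup.orderOf_mk] at hk
      rw [hk]
      apply Nat.Coprime.pow_left
      exact (Nat.coprime_primes hq hp.out).mpr hqp
    have h1 : M.index ∣ (Q : Subgroup X).index := Subgroup.index_dvd_of_le (hQN.trans le_sup_left)
    exact Q.not_dvd_index (hqdvd.trans h1)

variable {Ω : Type*} [Group Ω]

/-- The full subsystem of a fusion system over `U` on a subgroup `T ≤ U`: all maps between subgroups of `T`. -/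
def restrictSystem {U : Subgroup Ω} (D : FusionSystem U) (T : Subgroup Ω) (hTU : T ≤ U) : FusionSystem T where
  Hom P := {φ | φ ∈ D.Hom P ∧ P ≤ T ∧ ∀ x : P, φ x ∈ T}
  le_of_mem h := ⟨h.2.1, h.2.2⟩
  injective_of_mem h := D.injective_of_mem h.1
  conj_mem := by
    intro P g hP hg
    refine ⟨D.conj_mem (hP.trans hTU) (hTU hg), hP, fun x => ?_⟩
    show g * (x : Ω) * g⁻¹ ∈ T
    exact T.mul_mem (T.mul_mem hg (hP x.2)) (T.inv_mem hg)
  comp_mem := by
    intro P Q φ ψ hφ hψ h
    exact ⟨D.comp_mem hφ.1 hψ.1 h, hφ.2.1, fun x => hψ.2.2 _⟩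
  inv_mem := by
    intro P φ hφ
    obtain ⟨ψ, hψ, hψx⟩ := D.inv_mem hφ.1
    refine ⟨ψ, ⟨hψ, ?_, ?_⟩, hψx⟩
    · rintro _ ⟨x, rfl⟩
      exact hφ.2.2 x
    · rintro ⟨_, x, rfl⟩
      rw [hψx x]
      exact hφ.2.1 x.2

theorem restrictSystem_hom_subset {U : Subgroup Ω} (D : FusionSystem U) (T : Subgroup Ω) (hTU : T ≤ U)
    (P : Subgroup Ω) : (restrictSystem D T hTU).Hom P ⊆ D.Hom P := fun _ h => h.1

theorem autGroup_le_restrictSystem {U : Subgroup Ω} (D : FusionSystem U) (T : Subgroup Ω) (hTU : T ≤ U)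
    {P : Subgroup Ω} (hPT : P ≤ T) : D.autGroup P ≤ (restrictSystem D T hTU).autGroup P := by
  intro α hα
  rw [mem_autGroup_iff D (hPT.trans hTU)] at hα
  rw [mem_autGroup_iff _ hPT]
  exact ⟨hα, hPT, fun x => hPT (α x).2⟩

/-- If `P ≤ T` is fully automized in `E` then `Aut_E(P) ≤ Aut_{F₀}(P)`. -/
theorem autGroup_le_of_fullyAutomized {S : Subgroup Ω} [Finite S] (p : ℕ) [Fact p.Prime]
    (F : FusionSystem S) {T U : Subgroup Ω} (E : FusionSystem T) (hEF : E.IsSubsystemOf F)
    (hTS : T ≤ S) (F₀ : FusionSystem U) (hTU : T ≤ U)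
    (hidx : F₀.HasPPowerIndexIn F p) {P : Subgroup Ω} (hP : E.IsFullyAutomized p P) :
    E.autGroup P ≤ F₀.autGroup P := by
  obtain ⟨hPT, R, hR⟩ := hP
  have hPU : P ≤ U := hPT.trans hTU
  have hPS : P ≤ S := hPT.trans hTS
  have : Finite (MulAut P) := finite_mulAut_of_le hPS
  have hEFaut : E.autGroup P ≤ F.autGroup P := by
    intro α hα
    rw [mem_autGroup_iff E hPT] at hα
    rw [mem_autGroup_iff F hPS]
    exact hEF P hα
  have htop := pResidual_sup_sylow_eq_top p R
  have hle : pResidual p (E.autGroup P) ⊔ (R : Subgroup (E.autGroup P)) ≤ (F₀.autGroup P).subgroupOf (E.autGroup P) := by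
    apply sup_le
    · unfold pResidual
      rw [Subgroup.closure_le]
      intro g hg
      show (g : MulAut P) ∈ F₀.autGroup P
      apply hidx.2.2 P hPU
      refine ⟨⟨(g : MulAut P), hEFaut g.2⟩, ?_, rfl⟩
      apply Subgroup.subset_closure
      show Nat.Coprime (orderOf (⟨(g : MulAut P), hEFaut g.2⟩ : F.autGroup P)) p
      rw [Subgroup.orderOf_mk, Subgroup.orderOf_coe]
      exact hg
    · intro r hr
      rw [hR, Subgroup.mem_subgroupOf] at hr
      obtain ⟨g, hgT, hgx⟩ := (mem_autInducedBy_iff T P _).mp hr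
      show (r : MulAut P) ∈ F₀.autGroup P
      rw [mem_autGroup_iff F₀ hPU]
      unfold IsIso
      exact mem_of_eq F₀ (F₀.conj_mem hPU (hTU hgT)) (fun x => hgx x)
  intro α hα
  have : (⟨α, hα⟩ : E.autGroup P) ∈ (F₀.autGroup P).subgroupOf (E.autGroup P) := by
    apply hle
    rw [htop]
    exact Subgroup.mem_top _
  exact this

/-- Let F be a saturated fusion system over a finite p-group S, E a normal subsystem of F over T, and F₀ a normal subsystem of F over a subgroup U containing both T and the hyperfocal subgroup of F, such that F₀ has p-power index in F. Then E is a subsystem of F₀. -/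
theorem result {Ω : Type*} [Group Ω] {S : Subgroup Ω} [Finite S] (p : ℕ) [Fact p.Prime] (hS : IsPGroup p S) (F : Cfsg.FusionSystem S) (hF : F.IsSaturated p) {T U : Subgroup Ω} (E : Cfsg.FusionSystem T) (hE : E.IsNormalIn F p) (F₀ : Cfsg.FusionSystem U) (hF₀ : F₀.IsNormalIn F p) (hU : T ⊔ F.hyperfocalSubgroup p ≤ U) (hidx : F₀.HasPPowerIndexIn F p) : E.IsSubsystemOf F₀ := by
  have _ := hF
  have _ := hF₀
  obtain ⟨⟨hEsat, -, hEF, hTcl, -, -⟩, -⟩ := hE
  have hTS : T ≤ S := hTcl.1
  have hTU : T ≤ U := le_sup_left.trans hU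
  have hTfin : Finite T := finite_of_le hTS
  have hT : IsPGroup p T := hS.to_le hTS
  have key : ∀ P : Subgroup Ω, E.Hom P ⊆ (restrictSystem F₀ T hTU).Hom P := by
    apply alperin hT E (restrictSystem F₀ T hTU) hEsat
    intro P hP
    have hPa : E.IsFullyAutomized p P := by
      rcases hP with hPT | hess
      · -- `T` itself is fully automized
        rw [hPT]
        obtain ⟨Q, hQ, hQa, -⟩ := hEsat T le_rfl
        obtain ⟨e, he⟩ := (isConj_iff E T Q).mp hQ
        have hQT : Q ≤ T := he.le_right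
        have hQfin : Finite Q := Finite.of_injective _ (Subgroup.inclusion_injective hQT)
        have hQeq : Q = T := Subgroup.eq_of_le_of_card_ge hQT (le_of_eq (Nat.card_congr e.toEquiv))
        rw [hQeq] at hQa
        exact hQa
      · exact (fullyAutomized_fullyCentralized_of_fullyNormalized hT E hEsat hess.2.1).2
    exact (autGroup_le_of_fullyAutomized p F E hEF hTS F₀ hTU hidx hPa).trans
      (autGroup_le_restrictSystem F₀ T hTU hPa.1)
  intro P φ hφ
  exact (key P hφ).1

end Cfsg.Agent.S5199
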