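import Cfsg.Statements.S5241
import Cfsg.Agent.Helper85.QuotFree
import Cfsg.Agent.Helper85.Morphism3
import Cfsg.Agent.S5134
import Cfsg.Agent.S3788

set_option autoImplicit false
open Cfsg

namespace Cfsg.Agent.S5241

open Cfsg.FusionSystem Cfsg.Agent.Helper85


/-- Let F be a saturated fusion system over a finite p-group S, Q a subgroup of S normal in F (so F is the normalizer system of Q), and suppose F is Qd(p)-free (Qd(p) is not involved in any model of the normalizer system of a fully normalized centric subgroup). Then every factor system F/Q is Qd(p)-free. -/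
theorem result {Ω : Type*} [Group Ω] {S : Subgroup Ω} [Finite S] (p : ℕ) [Fact p.Prime] (hS : IsPGroup p S) (F : Cfsg.FusionSystem S) (hF : F.IsSaturated p) (Q : Subgroup Ω) (hQ : F.IsNormal Q) (hfree : F.IsSectionFree p ↥(Cfsg.qd p)) {Ω' : Type*} [Group Ω'] {S' : Subgroup Ω'} (θ : ↥S →* Ω') (E : Cfsg.FusionSystem S') (hE : F.IsFactorSystem Q θ E) : E.IsSectionFree p ↥(Cfsg.qd p) := by
  intro P' hP'n hP'c N' hN' L' _ ι' hmod' hinv
  have h := isFacF_of_isFactorSystem hE
  have hS₀ : F.StronglyClosed Q := Cfsg.Agent.Helper87.stronglyClosed_of_isNormal F hQ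
  have hEsat : E.IsSaturated p :=
    isSaturated_of_surjectiveMorphism F E θ hS hF (Cfsg.Agent.S5134.result p hS F hF Q hS₀ θ E hE)
  obtain ⟨hPn, hPc, N, hN, L, instL, ι, hmod, π, hπ⟩ :=
    exists_model_surj p hS F hF Q hQ h hEsat P' hP'n hP'c N' hN' L' ι' hmod'
  exact hfree (h.pre P') hPn hPc N hN L ι hmod (Cfsg.Agent.S3788.involves_of_surjective π hπ hinv)

end Cfsg.Agent.S5241
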