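-- Statement S5244 (Oliver, Lemma 2.4): O_p(F) = 1, A not essential ⟹ some Z(S)⟨x⟩ essential, Z(S) ≤ S', maximal class.
import Cfsg.Statements.S5244
import Cfsg.Agent.Helper86.AbelianEssLocal
import Cfsg.Agent.Helper87.FusionNormal
import Cfsg.Agent.Helper87.CharChain

set_option autoImplicit false
open Cfsg

namespace Cfsg.Agent.S5244

open Cfsg.FusionSystem Cfsg.Agent.Helper87 Cfsg.Agent.Helper86 Cfsg.Agent.S5254
open scoped commutatorElement

section general

/-- The fixed points of an automorphism. -/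
def fixSub {H : Type*} [Group H] (β : MulAut H) : Subgroup H where
  carrier := {z | β z = z}
  one_mem' := map_one β
  mul_mem' := by
    intro a b ha hb
    show β (a * b) = a * b
    rw [map_mul, ha, hb]
  inv_mem' := by
    intro a ha
    show β a⁻¹ = a⁻¹
    rw [map_inv, ha]

theorem mem_fixSub {H : Type*} [Group H] (β : MulAut H) (z : H) : z ∈ fixSub β ↔ β z = z := Iff.rfl

end general

variable {Ω : Type*} [Group Ω] {S : Subgroup Ω}

/-- In a nonabelian subgroup `R` containing an element outside `A`, the central elements of `R` are central in `S`. -/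
theorem center_of_nonAb {p : ℕ} {A : Subgroup Ω} (h : Setup p S A) {R : Subgroup Ω} (hRS : R ≤ S) {x : Ω}
    (hxR : x ∈ R) (hxA : x ∉ A) (hRna : NonAb R) : ∀ y ∈ R, (∀ r ∈ R, r * y = y * r) → y ∈ cen S := by
  intro y hyR hy
  rw [mem_cen_iff]
  refine ⟨hRS hyR, ?_⟩
  have hxS := hRS hxR
  by_cases hyA : y ∈ A
  · exact h.central_of_comm hxS hxA hyA (hy x hxR).symm
  · exfalso
    apply hRna
    have hc : ∀ b ∈ R, b ∈ A → ∀ g ∈ S, g * b = b * g :=
      fun b hbR hbA => h.central_of_comm (hRS hyR) hyA hbA (hy b hbR)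
    intro g₁ hg₁ g₂ hg₂
    obtain ⟨i, hi⟩ := h.decomp x hxS hxA g₁ (hRS hg₁)
    obtain ⟨j, hj⟩ := h.decomp x hxS hxA g₂ (hRS hg₂)
    have hz₁ := hc _ (R.mul_mem hg₁ (R.pow_mem hxR i)) hi
    have hz₂ := hc _ (R.mul_mem hg₂ (R.pow_mem hxR j)) hj
    have e₁ : g₁ = (g₁ * x ^ i) * (x ^ i)⁻¹ := by group
    have e₂ : g₂ = (g₂ * x ^ j) * (x ^ j)⁻¹ := by group
    have c1 : Commute (g₁ * x ^ i) (g₂ * x ^ j) := hz₂ _ (S.mul_mem (hRS hg₁) (S.pow_mem hxS i))
    have c2 : Commute (g₁ * x ^ i) ((x ^ j)⁻¹) := (hz₁ _ (S.inv_mem (S.pow_mem hxS j))).symm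
    have c3 : Commute ((x ^ i)⁻¹) (g₂ * x ^ j) := hz₂ _ (S.inv_mem (S.pow_mem hxS i))
    have c4 : Commute ((x ^ i)⁻¹) ((x ^ j)⁻¹) := (Commute.pow_pow (Commute.refl x) i j).inv_inv
    rw [e₁, e₂]
    exact (c1.mul_right c2).mul_left (c3.mul_right c4)

/-- An essential subgroup contained in `A` is `A`. -/
theorem eq_of_le_of_essential {p : ℕ} (F : FusionSystem S) {A : Subgroup Ω} (h : Setup p S A) {R : Subgroup Ω}
    (hR : F.IsEssential p R) (hRA : R ≤ A) : R = A := by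
  apply le_antisymm hRA
  intro a ha
  apply hR.1.2 R (isConj_refl F hR.1.1)
  rw [mem_centralizerIn_iff]
  exact ⟨h.hAS ha, fun g hg => h.comm g (hRA hg) a ha⟩

theorem map_subgroupOf_eq_of_forall {P Q : Subgroup Ω} (G : Subgroup (MulAut P))
    (hinv : ∀ β ∈ G, ∀ y : P, (y : Ω) ∈ Q → ((β y : P) : Ω) ∈ Q) (α : MulAut P) (hα : α ∈ G) :
    (Q.subgroupOf P).map α.toMonoidHom = Q.subgroupOf P := by
  ext y
  constructor
  · rintro ⟨x, hx, rfl⟩
    exact Subgroup.mem_subgroupOf.mpr (hinv α hα x (Subgroup.mem_subgroupOf.mp hx))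
  · intro hy
    refine ⟨α⁻¹ y, Subgroup.mem_subgroupOf.mpr (hinv α⁻¹ (G.inv_mem hα) y (Subgroup.mem_subgroupOf.mp hy)), ?_⟩
    simp

/-- Elements of `cenAut F` preserve `Z(S) ∩ S'`. -/
theorem cenAut_preserves (F : FusionSystem S) {κ : MulAut (cen S)} (hκ : κ ∈ cenAut F) (z : cen S)
    (hz : (z : Ω) ∈ cen S ⊓ (commutator ↥S).map S.subtype) :
    ((κ z : cen S) : Ω) ∈ cen S ⊓ (commutator ↥S).map S.subtype := by
  obtain ⟨α, -, rfl⟩ := hκ
  refine ⟨(resZHom α z).2, ?_⟩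
  obtain ⟨s, hs, hsz⟩ := hz.2
  refine ⟨α s, isChar_commutator ↥S α s hs, ?_⟩
  rw [resZHom_apply]
  have : s = ⟨z, cen_le S z.2⟩ := Subtype.ext hsz
  rw [this]
  rfl

/-- Uniqueness of the element of `cenAut F` inverting `Z(S) ∩ S'` and trivial modulo it. -/
theorem qinv_unique [Finite S] {p : ℕ} [hp : Fact p.Prime] (hS : IsPGroup p S) (F : FusionSystem S)
    (hF : F.IsSaturated p) (hZ₀c : Nat.card ↥(cen S ⊓ (commutator ↥S).map S.subtype) = p)
    {κ κ' : MulAut (cen S)} (hκ : κ ∈ cenAut F) (hκ' : κ' ∈ cenAut F) (h1 : QInv κ) (h2 : QInv κ') : κ = κ' := by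
  have hexp : ∀ z ∈ cen S ⊓ (commutator ↥S).map S.subtype, z ^ p = 1 := by
    intro z hz
    have h3 : (⟨z, hz⟩ : ↥(cen S ⊓ (commutator ↥S).map S.subtype)) ^ p = 1 := by
      rw [← hZ₀c]
      exact pow_card_eq_one'
    exact congrArg Subtype.val h3
  have hβ : κ⁻¹ * κ' ∈ cenAut F := (cenAut F).mul_mem ((cenAut F).inv_mem hκ) hκ'
  have key := eq_one_of_mem_cenAut hS F hF _ hexp (κ⁻¹ * κ') hβ ?_ ?_
  · have : κ * (κ⁻¹ * κ') = κ * 1 := by rw [key]
    rw [mul_inv_cancel_left, mul_one] at this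
    exact this.symm
  · intro z hz
    rw [MulAut.mul_apply, h2.1 z hz]
    have h3 : κ z = z⁻¹ := h1.1 z hz
    have h4 : κ⁻¹ (κ z) = z := MulAut.inv_apply_self _ _ _
    rw [h3] at h4
    exact h4
  · intro z
    set u := κ' z with hu
    set w := κ⁻¹ u with hw
    have hκw : κ w = u := MulAut.apply_inv_self _ _ _
    have e : z⁻¹ * (κ⁻¹ * κ') z = (z⁻¹ * u) * (w⁻¹ * κ w)⁻¹ := by
      rw [MulAut.mul_apply, ← hu, ← hw, hκw]
      group
    rw [e, Subgroup.coe_mul, Subgroup.coe_inv]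
    exact Subgroup.mul_mem _ (h2.2 z) (Subgroup.inv_mem _ (h1.2 w))

theorem result {Ω : Type*} [Group Ω] {S : Subgroup Ω} [Finite S] (p : ℕ) [Fact p.Prime] (hS : IsPGroup p S) (F : Cfsg.FusionSystem S) (hF : F.IsSaturated p) (hp : p ≠ 2) (hna : ¬ IsMulCommutative ↥S) (A : Subgroup Ω) (hA : A ≤ S ∧ IsMulCommutative ↥A ∧ (A.subgroupOf S).index = p) (huniq : ∀ B : Subgroup Ω, B ≤ S → IsMulCommutative ↥B → (B.subgroupOf S).index = p → B = A) (hcore : F.core = ⊥) (hAe : ¬ F.IsEssential p A) : (∃ x ∈ S, x ∉ A ∧ F.IsEssential p ((S ⊓ Subgroup.centralizer (S : Set Ω)) ⊔ Subgroup.zpowers x)) ∧ (S ⊓ Subgroup.centralizer (S : Set Ω)) ≤ (commutator ↥S).map S.subtype ∧ ∀ n : ℕ, Nat.card S = p ^ n → 3 ≤ n → Subgroup.lowerCentralSeries S (n - 2) ≠ ⊥ := by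
  have hpp : p.Prime := Fact.out
  obtain ⟨hAS, hAc, hAi⟩ := hA
  have h := setup_of hS hAS hAc hAi
  have hnotle : ∀ R : Subgroup Ω, F.IsEssential p R → ¬ R ≤ A :=
    fun R hR hRA => hAe (eq_of_le_of_essential F h hR hRA ▸ hR)
  have hcenR : ∀ R : Subgroup Ω, F.IsEssential p R → NonAb R →
      ∀ y ∈ R, (∀ r ∈ R, r * y = y * r) → y ∈ cen S := by
    intro R hR hRna
    obtain ⟨x, hxR, hxA⟩ := SetLike.not_le_iff_exists.mp (hnotle R hR)
    exact center_of_nonAb h hR.1.1 hxR hxA hRna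
  have hglobal := hom_subset_cenSystem hS F hF hcenR
  have hcoreQ : ∀ Q : Subgroup Ω, F.IsNormal Q → Q = ⊥ := by
    intro Q hQ
    have h1 : Q ≤ F.core := le_sSup hQ
    rw [hcore] at h1
    exact le_bot_iff.mp h1
  -- the centre of `S` is nontrivial
  have hZne : cen S ≠ ⊥ := by
    intro hbot
    haveI : Nontrivial ↥S := by
      by_contra hnt
      rw [not_nontrivial_iff_subsingleton] at hnt
      apply hna
      rw [isMulCommutative_iff]
      intro a b
      exact Subsingleton.elim _ _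
    haveI : Nontrivial (Subgroup.center ↥S) := hS.center_nontrivial
    obtain ⟨⟨z, hz⟩, hz1⟩ := exists_ne (1 : Subgroup.center ↥S)
    have hzc : (z : Ω) ∈ cen S := by
      rw [mem_cen_iff]
      refine ⟨z.2, fun g hg => ?_⟩
      have := Subgroup.mem_center_iff.mp hz ⟨g, hg⟩
      exact congrArg Subtype.val this
    rw [hbot, Subgroup.mem_bot] at hzc
    apply hz1
    apply Subtype.ext
    apply Subtype.ext
    exact hzc
  -- the action on `Z(S)` of an automorphism of `S`, of a nonabelian essential subgroup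
  have hactS : ∀ β ∈ F.autGroup S, ∃ κ ∈ cenAut F, ∀ (z : cen S) (hz : (z : Ω) ∈ S),
      ((β ⟨z, hz⟩ : S) : Ω) = ((κ z : cen S) : Ω) :=
    fun β hβ => ⟨resZHom β, ⟨β, hβ, rfl⟩, fun z hz => rfl⟩
  have hactR : ∀ R : Subgroup Ω, F.IsEssential p R → NonAb R → ∀ β ∈ F.autGroup R,
      ∃ κ ∈ cenAut F, ∀ (z : cen S) (hz : (z : Ω) ∈ R), ((β ⟨z, hz⟩ : R) : Ω) = ((κ z : cen S) : Ω) := by
    intro R hR hRna β hβ
    have hRS := hR.1.1
    have hβF := (mem_autGroup_iff F hRS β).mp hβ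
    have h1 := hglobal R hβF
    rw [mem_cenSystem_iff] at h1
    obtain ⟨κ, hκ, hκz⟩ := exists_of_mem_zHom F _ (h1.2 hRna) (cen_le_of_centric F hR.1)
    exact ⟨κ, hκ, fun z hz => hκz z⟩
  -- Step 3: some essential subgroup is abelian
  have hex : ∃ R : Subgroup Ω, F.IsEssential p R ∧ ¬ NonAb R := by
    by_contra hcon
    push Not at hcon
    apply hZne
    apply hcoreQ
    apply isNormal_of_forall_essential hS F hF
    intro R hR
    have hRS : R ≤ S := by
      rcases hR with rfl | hess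
      · exact le_rfl
      · exact hess.1.1
    have hZR : cen S ≤ R := by
      rcases hR with rfl | hess
      · exact cen_le _
      · exact cen_le_of_centric F hess.1
    refine ⟨hZR, fun α hα => ?_⟩
    apply map_subgroupOf_eq_of_forall (F.autGroup R) ?_ α hα
    intro β hβ y hy
    have hact : ∃ κ ∈ cenAut F, ∀ (z : cen S) (hz : (z : Ω) ∈ R), ((β ⟨z, hz⟩ : R) : Ω) = ((κ z : cen S) : Ω) := by
      rcases hR with rfl | hess
      · exact hactS β hβ
      · exact hactR R hess (hcon R hess) β hβ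
    obtain ⟨κ, -, hκz⟩ := hact
    have := hκz ⟨y, hy⟩ y.2
    rw [show (⟨((⟨(y : Ω), hy⟩ : cen S) : Ω), y.2⟩ : R) = y from rfl] at this
    rw [this]
    exact (κ ⟨y, hy⟩).2
  obtain ⟨P, hP, hPab⟩ := hex
  have hPcomm : ∀ a ∈ P, ∀ b ∈ P, a * b = b * a := not_not.mp hPab
  obtain ⟨x, hxP, hxA⟩ := SetLike.not_le_iff_exists.mp (hnotle P hP)
  have hPS : P ≤ S := hP.1.1
  obtain ⟨hPeq, -⟩ := abelian_case hS F hF h hna hP hxP hxA hPcomm
  have hPA : P ≠ A := fun e => hnotle P hP (e ▸ le_rfl)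
  obtain ⟨-, r2, -, -, r5⟩ := Cfsg.Agent.S5257.result p hS F hF hp hna A ⟨hAS, hAc, hAi⟩ huniq P hP hPA
  have hZ₀c : Nat.card ↥(cen S ⊓ (commutator ↥S).map S.subtype) = p := r2
  have hconc1 : ∃ x ∈ S, x ∉ A ∧ F.IsEssential p ((S ⊓ Subgroup.centralizer (S : Set Ω)) ⊔ Subgroup.zpowers x) :=
    ⟨x, hPS hxP, hxA, hPeq ▸ hP⟩
  -- Step 4
  obtain ⟨⟨ι, hιK, hιinv, hιcard⟩, -⟩ := local_main hp hS F hF h hna hglobal hZ₀c hP hxP hxA hPcomm
  have hunique : ∀ κ ∈ cenAut F, QInv κ → κ = ι := fun κ hκ hκinv => qinv_unique hS F hF hZ₀c hκ hιK hκinv hιinv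
  -- `ι` is central in `cenAut F`
  have hcentral : ∀ κ ∈ cenAut F, ∀ z : cen S, ι (κ z) = κ (ι z) := by
    intro κ hκ z
    have hκ' : κ⁻¹ ∈ cenAut F := (cenAut F).inv_mem hκ
    have hconj : QInv (κ * ι * κ⁻¹) := by
      refine ⟨fun w hw => ?_, fun w => ?_⟩
      · rw [MulAut.mul_apply, MulAut.mul_apply, hιinv.1 _ (cenAut_preserves F hκ' w hw), map_inv,
          MulAut.apply_inv_self]
      · have h1 := hιinv.2 (κ⁻¹ w)
        have h2 := cenAut_preserves F hκ _ h1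
        have e : w⁻¹ * (κ * ι * κ⁻¹) w = κ ((κ⁻¹ w)⁻¹ * ι (κ⁻¹ w)) := by
          rw [MulAut.mul_apply, MulAut.mul_apply, map_mul, map_inv, MulAut.apply_inv_self]
        rw [e]
        exact h2
    have h3 := hunique _ ((cenAut F).mul_mem ((cenAut F).mul_mem hκ hιK) hκ') hconj
    have h4 : (κ * ι * κ⁻¹) (κ z) = ι (κ z) := by rw [h3]
    rw [MulAut.mul_apply, MulAut.mul_apply, MulAut.inv_apply_self] at h4
    exact h4.symm
  set Z₁ : Subgroup Ω := (fixSub ι).map (cen S).subtype with hZ₁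
  have hZ₁mem : ∀ z : cen S, (z : Ω) ∈ Z₁ ↔ ι z = z := by
    intro z
    constructor
    · rintro ⟨w, hw, hwz⟩
      have : w = z := Subtype.ext hwz
      rw [← this]
      exact hw
    · intro hz
      exact ⟨z, hz, rfl⟩
  have hZ₁Z : Z₁ ≤ cen S := by
    rintro _ ⟨w, -, rfl⟩
    exact w.2
  -- an automorphism acting on the centre through `cenAut F` preserves `Z₁`
  have hpres : ∀ (R : Subgroup Ω) (β : MulAut R), (∃ κ ∈ cenAut F, ∀ (z : cen S) (hz : (z : Ω) ∈ R),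
      ((β ⟨z, hz⟩ : R) : Ω) = ((κ z : cen S) : Ω)) → ∀ y : R, (y : Ω) ∈ Z₁ → ((β y : R) : Ω) ∈ Z₁ := by
    rintro R β ⟨κ, hκ, hκz⟩ y hy
    have hyZ : (y : Ω) ∈ cen S := hZ₁Z hy
    have h1 := hκz ⟨y, hyZ⟩ y.2
    rw [show (⟨((⟨(y : Ω), hyZ⟩ : cen S) : Ω), y.2⟩ : R) = y from rfl] at h1
    rw [h1, hZ₁mem, hcentral κ hκ, (hZ₁mem ⟨y, hyZ⟩).mp hy]
  have hZ₁normal : F.IsNormal Z₁ := by
    apply isNormal_of_forall_essential hS F hF
    intro R hR
    have hRS : R ≤ S := by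
      rcases hR with rfl | hess
      · exact le_rfl
      · exact hess.1.1
    have hZR : cen S ≤ R := by
      rcases hR with rfl | hess
      · exact cen_le _
      · exact cen_le_of_centric F hess.1
    refine ⟨hZ₁Z.trans hZR, fun α hα => ?_⟩
    apply map_subgroupOf_eq_of_forall (F.autGroup R) ?_ α hα
    intro β hβ y hy
    rcases hR with rfl | hess
    · exact hpres _ β (hactS β hβ) y hy
    · by_cases hRna : NonAb R
      · exact hpres R β (hactR R hess hRna β hβ) y hy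
      · have hRcomm : ∀ a ∈ R, ∀ b ∈ R, a * b = b * a := not_not.mp hRna
        obtain ⟨x', hx'R, hx'A⟩ := SetLike.not_le_iff_exists.mp (hnotle R hess)
        obtain ⟨-, hloc⟩ := local_main hp hS F hF h hna hglobal hZ₀c hess hx'R hx'A hRcomm
        rcases hloc β hβ with hI | ⟨⟨κ, hκ, hκinv, hκfix⟩, ⟨κ', hκ', hκ'inv, hκ'fix⟩⟩
        · exact hpres R β hI y hy
        · rw [hunique κ hκ hκinv] at hκfix
          rw [hunique κ' hκ' hκ'inv] at hκ'fix
          have hyZ : (y : Ω) ∈ cen S := hZ₁Z hy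
          have hιy : ι ⟨y, hyZ⟩ = ⟨y, hyZ⟩ := (hZ₁mem ⟨y, hyZ⟩).mp hy
          obtain ⟨y', hy'Z, hy'⟩ := (hκ'fix ⟨y, hyZ⟩).mp hιy
          have hy'eq : y' = β y := by
            have h1 : β⁻¹ y' = y := Subtype.ext hy'
            rw [← h1, MulAut.apply_inv_self]
          rw [← hy'eq]
          rw [show (y' : Ω) = ((⟨y', hy'Z⟩ : cen S) : Ω) from rfl, hZ₁mem, hκfix]
          refine ⟨y, hyZ, ?_⟩
          rw [← hy'eq]
  have hZ₁bot : Z₁ = ⊥ := hcoreQ Z₁ hZ₁normal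
  have htriv : ∀ z : cen S, ι z = z → z = 1 := by
    intro z hz
    have h1 := (hZ₁mem z).mpr hz
    rw [hZ₁bot, Subgroup.mem_bot] at h1
    exact Subtype.ext h1
  have hcardZ : Nat.card (cen S) ≤ p := hιcard htriv
  have hfinZ : Finite ↥(cen S) := finite_of_le (cen_le S)
  have hZeq : cen S ⊓ (commutator ↥S).map S.subtype = cen S :=
    Subgroup.eq_of_le_of_card_ge inf_le_left (by rw [hZ₀c]; exact hcardZ)
  have hZle : cen S ≤ (commutator ↥S).map S.subtype := by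
    rw [← hZeq]
    exact inf_le_right
  refine ⟨hconc1, hZle, ?_⟩
  -- Step 5: maximal class
  intro n hn hn3
  have hcardZp : Nat.card (cen S) = p := by rw [← hZeq]; exact hZ₀c
  have hnotle2 : ¬ Subgroup.lowerCentralSeries S (n - 3) ≤ cen S := by
    by_cases hn4 : n = 3
    · subst hn4
      intro hle
      apply hna
      rw [isMulCommutative_iff]
      intro a b
      have ha : (a : Ω) ∈ cen S := hle a.2
      exact Subtype.ext (((mem_cen_iff _).mp ha).2 b b.2).symm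
    · have hidx : ((cen S).subgroupOf S).index = p ^ (n - 1) := by
        have h1 := Subgroup.card_mul_index ((cen S).subgroupOf S)
        have h2 : Nat.card ((cen S).subgroupOf S) = p :=
          (Nat.card_congr (Subgroup.subgroupOfEquivOfLe (cen_le S)).toEquiv).trans hcardZp
        rw [h2, hn] at h1
        have h3 : p ^ n = p * p ^ (n - 1) := by
          rw [← pow_succ']
          congr 1
          omega
        rw [h3] at h1
        exact Nat.eq_of_mul_eq_mul_left hpp.pos h1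
      have := r5 (n - 1) hidx (by omega)
      have e : n - 1 - 2 = n - 3 := by omega
      rw [e] at this
      exact this
  intro hbot
  apply hnotle2
  intro g hg
  have hgS : g ∈ S := Subgroup.lowerCentralSeries_antitone (S := S) (Nat.zero_le (n - 3)) hg
  rw [mem_cen_iff]
  refine ⟨hgS, fun s hs => ?_⟩
  have e : n - 2 = (n - 3) + 1 := by omega
  rw [e, Subgroup.lowerCentralSeries_succ] at hbot
  have h1 : ⁅g, s⁆ ∈ ⁅Subgroup.lowerCentralSeries S (n - 3), S⁆ := Subgroup.commutator_mem_commutator hg hs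
  rw [hbot, Subgroup.mem_bot] at h1
  exact (commutatorElement_eq_one_iff_mul_comm.mp h1).symm

end Cfsg.Agent.S5244
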