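import Cfsg.Statements.S5092
import Cfsg.Agent.Lib.Cores
import Cfsg.Agent.Helper87.FusionRS

set_option autoImplicit false
open Cfsg

namespace Cfsg.Agent.S5092

open Cfsg.FusionSystem Cfsg.Agent.Helper87
open scoped Pointwise commutatorElement

/-- A finite group is the product of `O^p` and any Sylow `p`-subgroup. -/
theorem pResidual_sup_sylow {A : Type*} [Group A] [Finite A] {p : ℕ} [Fact p.Prime] (T : Sylow p A) :
    pResidual p A ⊔ (T : Subgroup A) = ⊤ := by
  rw [← Subgroup.index_eq_one]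
  have h1 : (pResidual p A ⊔ (T : Subgroup A)).index ∣ (pResidual p A).index :=
    Subgroup.index_dvd_of_le le_sup_left
  have h2 : (pResidual p A ⊔ (T : Subgroup A)).index ∣ (T : Subgroup A).index :=
    Subgroup.index_dvd_of_le le_sup_right
  obtain ⟨n, hn⟩ := Cfsg.Agent.Lib.index_pResidual (G := A) p
  rw [hn] at h1
  have hp : p.Prime := Fact.out
  obtain ⟨m, -, hm⟩ := (Nat.dvd_prime_pow hp).mp h1
  rw [hm] at h2 ⊢
  rcases Nat.eq_zero_or_pos m with rfl | hpos
  · simp
  · exfalso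
    exact T.not_dvd_index ((dvd_pow_self p hpos.ne').trans h2)

variable {Ω : Type*} [Group Ω] {S : Subgroup Ω}

/-- The subsystem of `F` consisting of the maps `φ` with `x⁻¹ φ(x) ∈ K` for all `x`, where `K ⊇ [S,S]`. -/
def quotSystem (F : FusionSystem S) (K : Subgroup Ω) (hK : ⁅S, S⁆ ≤ K) : FusionSystem S where
  Hom P := {φ | φ ∈ F.Hom P ∧ ∀ x : P, (x : Ω)⁻¹ * φ x ∈ K}
  le_of_mem h := F.le_of_mem h.1
  injective_of_mem h := F.injective_of_mem h.1
  conj_mem := by
    intro P g hP hg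
    refine ⟨F.conj_mem hP hg, fun x => hK ?_⟩
    have : (x : Ω)⁻¹ * conjHom P g x = ⁅(x : Ω)⁻¹, g⁆ := by
      rw [conjHom_apply, commutatorElement_def, inv_inv]
      group
    rw [this]
    exact Subgroup.commutator_mem_commutator (S.inv_mem (hP x.2)) hg
  comp_mem := by
    intro P Q φ ψ hφ hψ h
    refine ⟨F.comp_mem hφ.1 hψ.1 h, fun x => ?_⟩
    have : (x : Ω)⁻¹ * (ψ.comp (φ.codRestrict Q h)) x =
        ((x : Ω)⁻¹ * φ x) * ((φ x)⁻¹ * ψ ⟨φ x, h x⟩) := by
      rw [MonoidHom.comp_apply]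
      have : φ.codRestrict Q h x = ⟨φ x, h x⟩ := rfl
      rw [this]
      group
    rw [this]
    exact K.mul_mem (hφ.2 x) (hψ.2 ⟨φ x, h x⟩)
  inv_mem := by
    intro P φ hφ
    obtain ⟨ψ, hψ, hψx⟩ := F.inv_mem hφ.1
    refine ⟨ψ, ⟨hψ, ?_⟩, hψx⟩
    rintro ⟨_, x, rfl⟩
    rw [hψx]
    have : (φ x)⁻¹ * (x : Ω) = ((x : Ω)⁻¹ * φ x)⁻¹ := by group
    show (φ x)⁻¹ * (x : Ω) ∈ K
    rw [this]
    exact K.inv_mem (hφ.2 x)

theorem mem_quotSystem_hom (F : FusionSystem S) (K : Subgroup Ω) (hK : ⁅S, S⁆ ≤ K) {P : Subgroup Ω}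
    (φ : P →* Ω) : φ ∈ (quotSystem F K hK).Hom P ↔ φ ∈ F.Hom P ∧ ∀ x : P, (x : Ω)⁻¹ * φ x ∈ K := Iff.rfl

/-- generators of the hyperfocal subgroup -/
theorem mem_hyperfocal (F : FusionSystem S) (p : ℕ) {P : Subgroup Ω} (hP : P ≤ S) (α : F.autGroup P)
    (hα : α ∈ pResidual p (F.autGroup P)) (x : P) :
    (x : Ω)⁻¹ * ((α : MulAut P) x : P) ∈ F.hyperfocalSubgroup p :=
  Subgroup.subset_closure ⟨P, α, x, hP, hα, rfl⟩

/-- For a fully automized subgroup, every `x⁻¹ α(x)` with `α ∈ Aut_F(P)` lies in `hyp(F)·[S,S]`. -/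
theorem inv_mul_aut_mem [Finite S] {p : ℕ} [Fact p.Prime] (F : FusionSystem S) {P : Subgroup Ω}
    (hPa : F.IsFullyAutomized p P) (α : MulAut P) (hα : α ∈ F.autGroup P) (x : P) :
    (x : Ω)⁻¹ * ((α x : P) : Ω) ∈ F.hyperfocalSubgroup p ⊔ ⁅S, S⁆ := by
  obtain ⟨hPS, T, hT⟩ := hPa
  have : Finite (MulAut P) := finite_mulAut_of_le hPS
  have htop : (⟨α, hα⟩ : F.autGroup P) ∈ pResidual p (F.autGroup P) ⊔ (T : Subgroup (F.autGroup P)) := by
    rw [pResidual_sup_sylow T]
    exact Subgroup.mem_top _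
  have hmul : (⟨α, hα⟩ : F.autGroup P) ∈
      ((pResidual p (F.autGroup P) : Set (F.autGroup P)) *
        ((T : Subgroup (F.autGroup P)) : Set (F.autGroup P))) := by
    rw [← Subgroup.normal_mul]
    exact htop
  obtain ⟨β, hβ, t, ht, hβt⟩ := hmul
  have ht' : (t : MulAut P) ∈ autInducedBy S P := by
    have : t ∈ (T : Subgroup (F.autGroup P)) := ht
    rw [hT, Subgroup.mem_subgroupOf] at this
    exact this
  obtain ⟨s, hsS, hs⟩ := (mem_autInducedBy_iff S P _).mp ht'
  have hα_eq : α = (β : MulAut P) * (t : MulAut P) := by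
    have := congrArg Subtype.val hβt
    simpa using this.symm
  have hx : (x : Ω)⁻¹ * ((α x : P) : Ω) =
      ((x : Ω)⁻¹ * (((t : MulAut P) x : P) : Ω)) *
        (((((t : MulAut P) x : P) : Ω))⁻¹ * (((β : MulAut P) ((t : MulAut P) x) : P) : Ω)) := by
    rw [hα_eq, MulAut.mul_apply]
    group
  rw [hx]
  refine Subgroup.mul_mem _ (Subgroup.mem_sup_right ?_) (Subgroup.mem_sup_left ?_)
  · rw [hs x]
    have : (x : Ω)⁻¹ * (s * (x : Ω) * s⁻¹) = ⁅(x : Ω)⁻¹, s⁆ := by
      rw [commutatorElement_def, inv_inv]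
      group
    rw [this]
    exact Subgroup.commutator_mem_commutator (S.inv_mem (hPS x.2)) hsS
  · exact mem_hyperfocal F p hPS β hβ _

theorem isFullyNormalized_self [Finite S] (F : FusionSystem S) : F.IsFullyNormalized S := by
  refine ⟨le_rfl, fun Q _ => ?_⟩
  have : Finite (normalizerIn S S) := finite_of_le inf_le_left
  apply Subgroup.card_le_of_le
  intro x hx
  exact ⟨hx.1, Subgroup.le_normalizer hx.1⟩

/-- For a saturated fusion system over a finite p-group S, the focal subgroup is the product of the hyperfocal subgroup and the derived subgroup of S. -/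
theorem result {Ω : Type*} [Group Ω] {S : Subgroup Ω} [Finite S] (p : ℕ) [Fact p.Prime] (hS : IsPGroup p S) (F : Cfsg.FusionSystem S) (hF : F.IsSaturated p) : F.focalSubgroup = F.hyperfocalSubgroup p ⊔ ⁅(S : Subgroup Ω), (S : Subgroup Ω)⁆ := by
  apply le_antisymm
  · -- Alperin: F ≤ E where E = quotSystem
    have hK : ⁅S, S⁆ ≤ F.hyperfocalSubgroup p ⊔ ⁅S, S⁆ := le_sup_right
    have hle := alperin hS F (quotSystem F _ hK) hF (by
      intro P hP α hα
      have hPn : F.IsFullyNormalized P := by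
        rcases hP with rfl | hP
        · exact isFullyNormalized_self F
        · exact hP.2.1
      have hPa := (fullyAutomized_fullyCentralized_of_fullyNormalized hS F hF hPn).2
      have hPS : P ≤ S := hPn.1
      rw [mem_autGroup_iff _ hPS]
      unfold IsIso
      rw [mem_quotSystem_hom]
      refine ⟨(mem_autGroup_iff F hPS α).mp hα, fun x => ?_⟩
      exact inv_mul_aut_mem F hPa α hα x)
    unfold FusionSystem.focalSubgroup
    rw [Subgroup.closure_le]
    rintro y ⟨P, φ, x, hφ, rfl⟩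
    exact ((mem_quotSystem_hom F _ hK φ).mp (hle P hφ)).2 x
  · apply sup_le
    · unfold FusionSystem.hyperfocalSubgroup
      rw [Subgroup.closure_le]
      rintro y ⟨P, α, x, hPS, hα, rfl⟩
      apply Subgroup.subset_closure
      refine ⟨P, P.subtype.comp ((α : MulAut P) : P ≃* P).toMonoidHom, x, ?_, rfl⟩
      exact (mem_autGroup_iff F hPS (α : MulAut P)).mp α.2
    · rw [Subgroup.commutator_le]
      intro a ha b hb
      apply Subgroup.subset_closure
      refine ⟨S, conjHom S b, ⟨a⁻¹, S.inv_mem ha⟩, F.conj_mem le_rfl hb, ?_⟩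
      rw [conjHom_apply, commutatorElement_def]
      simp only [inv_inv]
      group

end Cfsg.Agent.S5092
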