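import Cfsg.Statements.S2845
import Cfsg.Agent.Helper21.LargeSub

set_option autoImplicit false
open Cfsg

namespace Cfsg.Agent.S2845

open Cfsg.Agent.Helper21 Cfsg.Agent.Helper48 Cfsg.Agent.Helper47 Cfsg.Agent.Helper51
  Cfsg.Agent.Helper46

theorem pCoreOf_ne_bot_iff {H : Type*} [Group H] {p : ℕ} (L : Subgroup H) :
    pCoreOf p L ≠ ⊥ ↔ pCore p ↥L ≠ ⊥ := by
  unfold pCoreOf
  rw [Ne, Ne, Subgroup.map_eq_bot_iff_of_injective _ L.subtype_injective]

/-- Let Q be a nontrivial large p-subgroup of the finite group H. Then for every subgroup L ≥ Q with O_p(L) ≠ 1, C_H(O_p(L)) is a p-group and L has characteristic p, and either the weak closure L° of Q in L equals Q or C_H(L°) = 1; for every subgroup R of H containing a Sylow p-subgroup of H with O_p(R) ≠ 1, C_H(O_p(R)) ≤ O_p(R); and H has parabolic characteristic p. -/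
theorem result {H : Type*} [Group H] [Finite H] {p : ℕ} [Fact p.Prime] (Q : Subgroup H) (hQp : IsPGroup p ↥Q) (hQ1 : Q ≠ ⊥) (hL : Cfsg.IsLarge Q) : (∀ L : Subgroup H, Q ≤ L → Cfsg.pCore p ↥L ≠ ⊥ → IsPGroup p ↥(Subgroup.centralizer (((Cfsg.pCoreOf p L) : Subgroup H) : Set H)) ∧ Subgroup.centralizer (Cfsg.pCore p ↥L : Set ↥L) ≤ Cfsg.pCore p ↥L ∧ (Cfsg.weakClosure Q L = Q ∨ Subgroup.centralizer (((Cfsg.weakClosure Q L) : Subgroup H) : Set H) = ⊥)) ∧ (∀ R : Subgroup H, Cfsg.IsParabolic p R → Cfsg.pCore p ↥R ≠ ⊥ → Subgroup.centralizer (((Cfsg.pCoreOf p R) : Subgroup H) : Set H) ≤ (Cfsg.pCoreOf p R)) ∧ Cfsg.IsOfParabolicCharacteristic p H := by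
  have hpar : ∀ R : Subgroup H, Cfsg.IsParabolic p R → Cfsg.pCore p ↥R ≠ ⊥ →
      Subgroup.centralizer (((Cfsg.pCoreOf p R) : Subgroup H) : Set H) ≤ (Cfsg.pCoreOf p R) :=
    fun R hR hP1 => IsLarge.centralizer_pCoreOf_le_of_isParabolic hQp hQ1 hL hR
      ((pCoreOf_ne_bot_iff R).2 hP1)
  refine ⟨?_, hpar, ?_⟩
  · intro L hQL hP1
    have hP1' : pCoreOf p L ≠ ⊥ := (pCoreOf_ne_bot_iff L).2 hP1
    refine ⟨IsLarge.isPGroup_centralizer_pCoreOf hQp hL hQL hP1', ?_, ?_⟩
    · exact centralizer_pCore_le_of_ambient (IsLarge.inf_centralizer_pCoreOf_le' hQp hL hQL hP1')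
    · by_cases h : Subgroup.centralizer (((Cfsg.weakClosure Q L) : Subgroup H) : Set H) = ⊥
      · exact Or.inr h
      · left
        unfold Cfsg.weakClosure at h ⊢
        apply le_antisymm
        · apply iSup_le
          rintro ⟨g, hg⟩
          have hle : conjSub g Q ≤ ⨆ g : {g : H // Q.map (MulAut.conj g).toMonoidHom ≤ L},
              Q.map (MulAut.conj (g : H)).toMonoidHom :=
            le_iSup (fun g : {g : H // Q.map (MulAut.conj g).toMonoidHom ≤ L} =>
              Q.map (MulAut.conj (g : H)).toMonoidHom) ⟨g, hg⟩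
          have hQle : Q ≤ ⨆ g : {g : H // Q.map (MulAut.conj g).toMonoidHom ≤ L},
              Q.map (MulAut.conj (g : H)).toMonoidHom := by
            have h1 : conjSub (1 : H) Q ≤ L := by rw [conjSub_one]; exact hQL
            have := le_iSup (fun g : {g : H // Q.map (MulAut.conj g).toMonoidHom ≤ L} =>
              Q.map (MulAut.conj (g : H)).toMonoidHom) ⟨1, h1⟩
            exact (conjSub_one Q).ge.trans this
          have hgN : g ∈ Subgroup.normalizer (Q : Set H) := by
            apply mem_normalizer_of_large hQp hQ1 hL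
            intro hbot
            apply h
            rw [eq_bot_iff, ← hbot]
            exact le_inf (Subgroup.centralizer_le (SetLike.coe_subset_coe.2 hQle))
              (Subgroup.centralizer_le (SetLike.coe_subset_coe.2 hle))
          show conjSub g Q ≤ Q
          rw [conjSub_eq_self_iff.2 hgN]
        · have h1 : conjSub (1 : H) Q ≤ L := by rw [conjSub_one]; exact hQL
          have := le_iSup (fun g : {g : H // Q.map (MulAut.conj g).toMonoidHom ≤ L} =>
            Q.map (MulAut.conj (g : H)).toMonoidHom) ⟨1, h1⟩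
          exact (conjSub_one Q).ge.trans this
  · intro R hRp hR1 hRpar
    apply centralizer_pCore_le_of_ambient
    have hRle : R ≤ pCoreOf p (Subgroup.normalizer (R : Set H)) :=
      le_pCoreOf Subgroup.le_normalizer hRp le_rfl
    have hne : pCoreOf p (Subgroup.normalizer (R : Set H)) ≠ ⊥ := by
      intro h
      apply hR1
      rw [eq_bot_iff, ← h]; exact hRle
    exact inf_le_right.trans
      (IsLarge.centralizer_pCoreOf_le_of_isParabolic hQp hQ1 hL hRpar hne)

end Cfsg.Agent.S2845
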