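import Cfsg.Statements.S2848
import Cfsg.Agent.Helper47.YL4
import Cfsg.Agent.Helper47.PIrred2
import Cfsg.Agent.Helper47.WeaklyClosed2

set_option autoImplicit false
open Cfsg

namespace Cfsg.Agent.S2848

open Cfsg.Agent.Helper47 Cfsg.Agent.Helper46 Cfsg.Agent.Helper48

/-- If `C_M(Y)` is `p`-closed, then `O_p(M) = C_S(Y)` for `Y` a `p`-reduced normal subgroup of `M`. -/
theorem pCoreOf_eq_inf_centralizer {G : Type*} [Group G] [Finite G] {p : ℕ} [Fact p.Prime]
    (S : Sylow p G) {M Y : Subgroup G} (hSM : (S : Subgroup G) ≤ M) (hY : IsPRedIn p Y M)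
    (hcl : Cfsg.IsPClosed p ↥(M ⊓ Subgroup.centralizer (Y : Set G))) :
    Cfsg.pCoreOf p M = (S : Subgroup G) ⊓ Subgroup.centralizer (Y : Set G) := by
  set C := Subgroup.centralizer (Y : Set G) with hC
  apply le_antisymm (le_inf (pCoreOf_le_sylow S hSM) hY.pCoreOf_le_centralizer)
  -- the normal subgroup (M ⊓ C).subgroupOf M of ↥M is p-closed
  have hMN : M ≤ Subgroup.normalizer ((M ⊓ C : Subgroup G) : Set G) :=
    (le_inf Subgroup.le_normalizer (hY.le_normalizer.trans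
      (Cfsg.Agent.Helper49.normalizer_le_normalizer_centralizer Y))).trans
      Subgroup.inf_normalizer_le_normalizer_inf
  have hn : ((M ⊓ C).subgroupOf M).Normal :=
    (Subgroup.normal_subgroupOf_iff_le_normalizer inf_le_left).mpr hMN
  have hker : IsPGroup p M.subtype.ker := by
    rw [Subgroup.ker_subtype]; exact IsPGroup.of_bot
  have hcl' : Cfsg.IsPClosed p ↥((M ⊓ C).subgroupOf M) := by
    rw [isPClosed_map_iff M.subtype hker, Subgroup.subgroupOf_map_subtype,
      inf_of_le_left (inf_le_left : M ⊓ C ≤ M)]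
    exact hcl
  have hp0 : IsPGroup p (((S : Subgroup G) ⊓ C).subgroupOf M) :=
    (S.2.to_le inf_le_left).comap_subtype
  have hle : ((S : Subgroup G) ⊓ C).subgroupOf M ≤ (M ⊓ C).subgroupOf M := by
    intro x hx
    rw [Subgroup.mem_subgroupOf] at hx ⊢
    exact ⟨x.2, hx.2⟩
  have h1 := le_pCore_of_le_pClosed_normal hn hcl' hp0 hle
  intro x hx
  exact ⟨⟨x, hSM hx.1⟩, h1 (by rw [Subgroup.mem_subgroupOf]; exact hx), rfl⟩

theorem result {G : Type*} [Group G] [Finite G] {p : ℕ} [Fact p.Prime] (S : Sylow p G) (Q : Subgroup G) (hQp : IsPGroup p ↥Q) (hQ1 : Q ≠ ⊥) (hQS : Q ≤ (S : Subgroup G)) (hQ : Cfsg.IsLarge Q) (M : Subgroup G) (hSM : (S : Subgroup G) ≤ M) (hM : Cfsg.IsInFrakM p M) : Cfsg.IsWeaklyClosedSubgroup p (((Cfsg.pCoreOf p M)).subgroupOf (M ⊔ Subgroup.centralizer (((Cfsg.largestPReducedOf p M) : Subgroup G) : Set G))) := by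
  set Y := Cfsg.largestPReducedOf p M with hYdef
  set C := Subgroup.centralizer (Y : Set G) with hC
  have hY : IsPRedIn p Y M := isPRedIn_largestPReducedOf M
  obtain ⟨-, -, -, -, hcl, -⟩ := hM
  have hOp : Cfsg.pCoreOf p M = (S : Subgroup G) ⊓ C := pCoreOf_eq_inf_centralizer S hSM hY hcl
  have hOpM : Cfsg.pCoreOf p M ≤ M ⊔ C := (pCoreOf_le M).trans le_sup_left
  have hSMd : (S : Subgroup G) ≤ M ⊔ C := hSM.trans le_sup_left
  have hMNC : M ≤ Subgroup.normalizer (C : Set G) :=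
    hY.le_normalizer.trans (Cfsg.Agent.Helper49.normalizer_le_normalizer_centralizer Y)
  refine ⟨S.subtype hSMd, ?_, ?_⟩
  · rw [Sylow.coe_subtype]
    intro x hx
    rw [Subgroup.mem_subgroupOf] at hx ⊢
    rw [hOp] at hx
    exact hx.1
  · intro g hg
    rw [Sylow.coe_subtype] at hg
    apply Subgroup.map_injective (M ⊔ C).subtype_injective
    rw [subgroupOf_map_conj hOpM, Subgroup.map_subgroupOf_eq_of_le hOpM]
    have hgS : conjSub (g : G) (Cfsg.pCoreOf p M) ≤ (S : Subgroup G) := by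
      rw [← subgroupOf_map_conj hOpM]
      rintro _ ⟨x, hx, rfl⟩
      have := hg hx
      rw [Subgroup.mem_subgroupOf] at this
      exact this
    -- write g = c * m
    have hg2 : (g : G) ∈ ((C ⊔ M : Subgroup G) : Set G) := by
      rw [sup_comm]; exact g.2
    rw [Subgroup.coe_mul_of_right_le_normalizer_left C M hMNC] at hg2
    obtain ⟨c, hc, m, hm, e⟩ := Set.mem_mul.mp hg2
    have hm' : conjSub m (Cfsg.pCoreOf p M) = Cfsg.pCoreOf p M :=
      Subgroup.mem_normalizer_iff_map_conj_eq.mp (pCoreOf_normalized M hm)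
    have e2 : conjSub (g : G) (Cfsg.pCoreOf p M) = conjSub c (Cfsg.pCoreOf p M) := by
      rw [← e, ← conjSub_conjSub, hm']
    rw [e2] at hgS ⊢
    have hcC : conjSub c (Cfsg.pCoreOf p M) ≤ C := by
      rintro _ ⟨x, hx, rfl⟩
      rw [hOp] at hx
      exact C.mul_mem (C.mul_mem hc hx.2) (C.inv_mem hc)
    have hle : conjSub c (Cfsg.pCoreOf p M) ≤ Cfsg.pCoreOf p M := by
      rw [hOp] at hgS hcC ⊢
      exact le_inf hgS hcC
    exact Subgroup.eq_of_le_of_card_ge hle (card_conjSub c _).ge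

end Cfsg.Agent.S2848
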