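import Cfsg.Statements.S2840
import Cfsg.Agent.Helper47.WeaklyClosed2

set_option autoImplicit false
open Cfsg

namespace Cfsg.Agent.S2840

open Cfsg.Agent.Helper47 Cfsg.Agent.Helper48 Cfsg.Agent.Helper51

/-- The join of all conjugates of a subgroup is normal. -/
theorem iSup_conj_normal {G : Type*} [Group G] (Q : Subgroup G) :
    (⨆ g : G, conjSub g Q).Normal := by
  rw [← Subgroup.normalizer_eq_top_iff, eq_top_iff]
  intro h _
  rw [Subgroup.mem_normalizer_iff_map_conj_eq, Subgroup.map_iSup]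
  refine Eq.trans (iSup_congr fun g => ?_)
    ((Equiv.mulLeft h).iSup_comp (g := fun g => conjSub g Q))
  exact conjSub_conjSub h g Q

/-- A subnormal subgroup containing a weakly closed `p`-subgroup `Q` contains all conjugates of `Q`. -/
theorem conj_le_of_subnormal {G : Type*} [Group G] [Finite G] {p : ℕ} [Fact p.Prime]
    {Q : Subgroup G} (hQp : IsPGroup p Q) (hwc : Cfsg.IsWeaklyClosedSubgroup p Q)
    {X : Subgroup G} (hX : X.IsSubnormal) (hQX : Q ≤ X) : ∀ g : G, conjSub g Q ≤ X := by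
  induction hX with
  | top => intro g; exact le_top
  | step X Y hXY hY hN ih =>
    intro g
    have h1 : conjSub g Q ≤ Y := ih (hQX.trans hXY) g
    obtain ⟨y, hy, hyQ⟩ := wc_exists_conj_in hQp hwc (hQX.trans hXY) h1
    rw [hyQ]
    have hYX : Y ≤ Subgroup.normalizer (X : Set G) :=
      (Subgroup.normal_subgroupOf_iff_le_normalizer hXY).mp hN
    have e : conjSub y X = X := conjSub_eq_self_iff.mpr (hYX hy)
    rw [← e]
    exact Subgroup.map_mono hQX

/-- The subnormal closure of a weakly closed `p`-subgroup is generated by its conjugates. -/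
theorem subnormalClosure_eq_iSup {G : Type*} [Group G] [Finite G] {p : ℕ} [Fact p.Prime]
    {Q : Subgroup G} (hQp : IsPGroup p Q) (hwc : Cfsg.IsWeaklyClosedSubgroup p Q) :
    Cfsg.subnormalClosure Q = ⨆ g : G, conjSub g Q := by
  apply le_antisymm
  · apply sInf_le
    refine ⟨?_, (iSup_conj_normal Q).isSubnormal⟩
    have := le_iSup (fun g : G => conjSub g Q) 1
    rwa [conjSub_one] at this
  · apply le_sInf
    rintro X ⟨hQX, hX⟩
    exact iSup_le (conj_le_of_subnormal hQp hwc hX hQX)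

theorem result {H : Type*} [Group H] [Finite H] {p : ℕ} [Fact p.Prime] (Q : Subgroup H) (hQp : IsPGroup p ↥Q) (hQ1 : Q ≠ ⊥) (hwc : Cfsg.IsWeaklyClosedSubgroup p Q) (K : Subgroup H) (hQK : Q ≤ K) (Kc : Subgroup H) (hKc : Kc = Cfsg.weakClosure Q K) : Kc = ⨆ k : ↥K, ((Q : Subgroup H).map (MulAut.conj ((k : H) : H)).toMonoidHom) ∧ Kc = (Cfsg.subnormalClosure (Q.subgroupOf K)).map K.subtype := by
  have h1 : Kc = ⨆ k : ↥K, conjSub (k : H) Q := by
    rw [hKc]
    unfold Cfsg.weakClosure
    apply le_antisymm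
    · apply iSup_le
      rintro ⟨g, hg⟩
      obtain ⟨k, hk, hkQ⟩ := wc_exists_conj_in hQp hwc hQK hg
      show conjSub g Q ≤ _
      rw [hkQ]
      exact le_iSup (fun k : ↥K => conjSub (k : H) Q) ⟨k, hk⟩
    · apply iSup_le
      intro k
      have hk : conjSub (k : H) Q ≤ K := conjSub_le_of_mem hQK k.2
      exact le_iSup (fun g : {g : H // Q.map (MulAut.conj g).toMonoidHom ≤ K} =>
        Q.map (MulAut.conj (g : H)).toMonoidHom) ⟨(k : H), hk⟩
  refine ⟨h1, ?_⟩
  have hQp' : IsPGroup p ↥(Q.subgroupOf K) := hQp.comap_subtype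
  rw [h1, subnormalClosure_eq_iSup hQp' (wc_subgroupOf hQp hwc hQK),
    Subgroup.map_iSup]
  congr 1
  funext k
  exact (subgroupOf_map_conj hQK k).symm

end Cfsg.Agent.S2840
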