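import Cfsg.Statements.S2829
import Cfsg.Agent.Helper47.Basic
import Mathlib.Tactic.Group

set_option autoImplicit false
open Cfsg

namespace Cfsg.Agent.S2829

open Cfsg.Agent.Helper47
open scoped commutatorElement

/-- A normal subgroup `N` with `[N, H] ≤ O_p(H)` is `p`-closed. -/
theorem isPClosed_of_commutator_le_pCore {H : Type*} [Group H] {p : ℕ}
    (N : Subgroup H) (h : ⁅N, (⊤ : Subgroup H)⁆ ≤ Cfsg.pCore p H) : Cfsg.IsPClosed p ↥N := by
  intro P
  let D : Subgroup ↥N := (Cfsg.pCore p H).subgroupOf N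
  have hDp : IsPGroup p ↥D := (isPGroup_pCore p H).comap_subtype
  have hDP : D ≤ P := hDp.le_sylow_of_normal P
  refine ⟨fun x hx n => ?_⟩
  have hc : ⁅n, x⁆ ∈ D := by
    rw [Subgroup.mem_subgroupOf]
    apply h
    have : ((⁅n, x⁆ : ↥N) : H) = ⁅(n : H), (x : H)⁆ := by
      simp [commutatorElement_def]
    rw [this]
    exact Subgroup.commutator_mem_commutator n.2 (Subgroup.mem_top _)
  have : n * x * n⁻¹ = ⁅n, x⁆ * x := by rw [commutatorElement_def]; group
  rw [this]
  exact mul_mem (hDP hc) hx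

/-- Every strongly p-irreducible finite group is p-irreducible. -/
theorem result {H : Type*} [Group H] [Finite H] {p : ℕ} [Fact p.Prime] (hH : Cfsg.IsStronglyPIrreducible p H) : Cfsg.IsPIrreducible p H := by
  refine ⟨hH.1, fun N hN hNc => hH.2 N hN fun hle => hNc ?_⟩
  exact isPClosed_of_commutator_le_pCore N hle

end Cfsg.Agent.S2829
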