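import Cfsg.Statements.S2849
import Cfsg.Agent.Helper47.YL4
import Cfsg.Agent.Helper47.WeaklyClosed2
import Cfsg.Agent.S2840

set_option autoImplicit false
open Cfsg

namespace Cfsg.Agent.S2849

open Cfsg.Agent.Helper47 Cfsg.Agent.Helper46 Cfsg.Agent.Helper48

/-- The join of a pairwise commuting family of elementary abelian subgroups is elementary abelian. -/
theorem isElementaryAbelian_iSup_of_commute {G : Type*} [Group G] {p : ℕ} {ι : Sort*}
    (A : ι → Subgroup G) (hA : ∀ i, Cfsg.IsElementaryAbelian p (A i))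
    (hc : ∀ i j, A i ≤ Subgroup.centralizer ((A j : Subgroup G) : Set G)) :
    Cfsg.IsElementaryAbelian p (⨆ i, A i) := by
  have hcent : (⨆ i, A i) ≤ Subgroup.centralizer (((⨆ i, A i : Subgroup G)) : Set G) := by
    apply iSup_le
    intro i
    rw [Subgroup.le_centralizer_iff]
    apply iSup_le
    intro j
    exact hc j i
  have hcomm : IsMulCommutative (⨆ i, A i : Subgroup G) :=
    Subgroup.le_centralizer_iff_isMulCommutative.mp hcent
  refine ⟨hcomm, ?_⟩
  intro a ha
  refine Subgroup.iSup_induction' A (C := fun x _ => x ^ p = 1) ?_ ?_ ?_ ha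
  · intro i x hx; exact (hA i).2 x hx
  · exact one_pow p
  · intro x y hx hy ihx ihy
    have hcxy : Commute x y := ((Subgroup.mem_centralizer_iff.mp (hcent hy)) x hx)
    rw [hcxy.mul_pow, ihx, ihy, one_mul]

theorem result {G : Type*} [Group G] [Finite G] {p : ℕ} [Fact p.Prime] (S : Sylow p G) (Q : Subgroup G) (hQp : IsPGroup p ↥Q) (hQ1 : Q ≠ ⊥) (hQS : Q ≤ (S : Subgroup G)) (hQ : Cfsg.IsLarge Q) (M : Subgroup G) (hSM : (S : Subgroup G) ≤ M) (hM : Cfsg.IsInFrakM p M) (hasym : ¬ Cfsg.IsSymmetricIn (Cfsg.largestPReducedOf p M)) (R : Subgroup G) (hYR : (Cfsg.largestPReducedOf p M) ≤ R) (hRM : R ≤ (M ⊔ Subgroup.centralizer (((Cfsg.largestPReducedOf p M) : Subgroup G) : Set G))) : Cfsg.IsElementaryAbelian p ((Subgroup.normalClosure ((((Cfsg.largestPReducedOf p M)).subgroupOf (Subgroup.normalizer ((R : Subgroup G) : Set G)) : Subgroup ↥(Subgroup.normalizer ((R : Subgroup G) : Set G))) : Set ↥(Subgroup.normalizer ((R : Subgroup G) : Set G)))).map (Subgroup.normalizer ((R : Subgroup G) : Set G)).subtype) := by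
  set Y := Cfsg.largestPReducedOf p M with hYdef
  set C := Subgroup.centralizer (Y : Set G) with hC
  set N := Subgroup.normalizer (R : Set G) with hN
  have hY : IsPRedIn p Y M := isPRedIn_largestPReducedOf M
  have hMdN : M ⊔ C ≤ Subgroup.normalizer (Y : Set G) :=
    sup_le hY.le_normalizer (Subgroup.centralizer_le_normalizer _)
  have hYN : Y ≤ N := hYR.trans Subgroup.le_normalizer
  -- conjugates of Y under N commute with Y
  have hkey : ∀ k ∈ N, ⁅Y, conjSub k Y⁆ = ⊥ := by
    intro k hk
    have hkR : conjSub k R = R := Subgroup.mem_normalizer_iff_map_conj_eq.mp hk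
    have h1 : conjSub k Y ≤ Subgroup.normalizer (Y : Set G) := by
      calc conjSub k Y ≤ conjSub k R := Subgroup.map_mono hYR
        _ = R := hkR
        _ ≤ Subgroup.normalizer (Y : Set G) := hRM.trans hMdN
    have h2 : Y ≤ Subgroup.normalizer ((conjSub k Y : Subgroup G) : Set G) := by
      rw [normalizer_conjSub]
      calc Y ≤ R := hYR
        _ = conjSub k R := hkR.symm
        _ ≤ conjSub k (Subgroup.normalizer (Y : Set G)) := Subgroup.map_mono (hRM.trans hMdN)
    by_contra hne
    apply hasym
    refine ⟨k, hne, le_inf ?_ (Subgroup.le_normalizer_iff_commutator_le_right.mp h2)⟩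
    rw [Subgroup.commutator_comm]
    exact Subgroup.le_normalizer_iff_commutator_le_right.mp h1
  -- V = join of the N-conjugates
  have hVe : Cfsg.IsElementaryAbelian p (⨆ g : ↥N, conjSub (g : G) Y) := by
    apply isElementaryAbelian_iSup_of_commute
    · intro g
      refine ⟨?_, ?_⟩
      · have : IsMulCommutative Y := hY.isElementaryAbelian.1
        exact Subgroup.map_isMulCommutative Y _
      · rintro _ ⟨y, hy, rfl⟩
        rw [← map_pow, hY.isElementaryAbelian.2 y hy, map_one]
    · intro g h
      have hk : (g : G)⁻¹ * (h : G) ∈ N := N.mul_mem (N.inv_mem g.2) h.2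
      have h0 : Y ≤ Subgroup.centralizer ((conjSub ((g : G)⁻¹ * (h : G)) Y : Subgroup G) : Set G) :=
        Subgroup.commutator_eq_bot_iff_le_centralizer.mp (hkey _ hk)
      have h1 : conjSub (g : G) Y ≤ conjSub (g : G)
          (Subgroup.centralizer ((conjSub ((g : G)⁻¹ * (h : G)) Y : Subgroup G) : Set G)) :=
        Subgroup.map_mono h0
      have h2 : conjSub (g : G)
          (Subgroup.centralizer ((conjSub ((g : G)⁻¹ * (h : G)) Y : Subgroup G) : Set G)) =
          Subgroup.centralizer ((conjSub (h : G) Y : Subgroup G) : Set G) := by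
        have := centralizer_map_equiv (MulAut.conj (g : G)) (conjSub ((g : G)⁻¹ * (h : G)) Y)
        have e : conjSub (g : G) (conjSub ((g : G)⁻¹ * (h : G)) Y) = conjSub (h : G) Y := by
          rw [conjSub_conjSub, mul_inv_cancel_left]
        calc conjSub (g : G)
              (Subgroup.centralizer ((conjSub ((g : G)⁻¹ * (h : G)) Y : Subgroup G) : Set G))
            = Subgroup.centralizer
              ((conjSub (g : G) (conjSub ((g : G)⁻¹ * (h : G)) Y) : Subgroup G) : Set G) := this.symm
          _ = Subgroup.centralizer ((conjSub (h : G) Y : Subgroup G) : Set G) := by rw [e]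
      rw [h2] at h1
      exact h1
  apply Cfsg.Agent.Lib.isElementaryAbelian_mono hVe
  -- the normal closure lies in the join of conjugates
  have hnc : Subgroup.normalClosure ((Y.subgroupOf N : Subgroup ↥N) : Set ↥N) ≤
      ⨆ g : ↥N, conjSub g (Y.subgroupOf N) := by
    have hn := Cfsg.Agent.S2840.iSup_conj_normal (Y.subgroupOf N)
    apply Subgroup.normalClosure_le_normal
    have := le_iSup (fun g : ↥N => conjSub g (Y.subgroupOf N)) 1
    rw [conjSub_one] at this
    exact this
  refine (Subgroup.map_mono hnc).trans ?_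
  rw [Subgroup.map_iSup]
  apply iSup_le
  intro g
  rw [subgroupOf_map_conj hYN g]
  exact le_iSup (fun g : ↥N => conjSub (g : G) Y) g

end Cfsg.Agent.S2849
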