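import Cfsg.Statements.S5332
import Cfsg.Agent.Helper2.FusGTE
import Cfsg.Agent.Helper87.FusionNormal

set_option autoImplicit false
open Cfsg

namespace Cfsg.Agent.S5332

theorem isConstrained_cast {Ω : Type*} [Group Ω] {S S' : Subgroup Ω} (h : S' = S) (E : Cfsg.FusionSystem S') (p : ℕ)
    (hE : E.IsConstrained p) : (Cfsg.Agent.Helper87.castSystem h E).IsConstrained p := by
  subst h
  exact hE

/-- Let p be odd and F a saturated fusion system over a finite p-group S that is not the inner system of S. Then F contains a saturated constrained subsystem over S that is itself not the inner system. -/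
theorem result {Ω : Type*} [Group Ω] {S : Subgroup Ω} [Finite S] (p : ℕ) [Fact p.Prime] (hS : IsPGroup p S) (F : Cfsg.FusionSystem S) (hF : F.IsSaturated p) (hp : p ≠ 2) (hne : ∃ P : Subgroup Ω, F.Hom P ≠ (Cfsg.innerFusionSystem S).Hom P) : ∃ E : Cfsg.FusionSystem S, E ≤ F ∧ E.IsConstrained p ∧ ∃ P : Subgroup Ω, E.Hom P ≠ (Cfsg.innerFusionSystem S).Hom P := by
  have hnot : ¬ ∀ (D : Subgroup Ω) (φ : D →* Ω), φ ∈ F.Hom D → Cfsg.Agent.Helper2.FusGT.ConjBy S φ := by
    intro hall
    obtain ⟨P, hP⟩ := hne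
    exact hP (Cfsg.Agent.Helper87.hom_eq_inner_of_forall_conj F hall P)
  obtain ⟨P, hPS, hTeq, hcon, hEnot⟩ := Cfsg.Agent.Helper2.FusGT.exists_constrained_bad p hp hS F hF hnot
  refine ⟨Cfsg.Agent.Helper87.castSystem hTeq (Cfsg.Agent.S5096.normalizerSystem F P hPS), ?_, ?_, ?_⟩
  · intro D φ hφ
    rw [Cfsg.Agent.Helper87.castSystem_hom] at hφ
    exact hφ.1
  · exact isConstrained_cast hTeq _ p hcon
  · by_contra hall
    push Not at hall
    apply hEnot
    intro D φ hφ
    have h1 : φ ∈ (Cfsg.Agent.Helper87.castSystem hTeq (Cfsg.Agent.S5096.normalizerSystem F P hPS)).Hom D := by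
      rw [Cfsg.Agent.Helper87.castSystem_hom]
      exact hφ
    rw [hall D] at h1
    obtain ⟨-, g, hg, hgx⟩ := h1
    exact ⟨g, by rw [hTeq]; exact hg, hgx⟩

end Cfsg.Agent.S5332
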