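import Cfsg.Statements.S1898

set_option autoImplicit false
open Cfsg

namespace Cfsg.Agent.S1898

section
variable {X : Type*} [Group X]

/-- the "commutator" k(u,v) = u⁻¹ v⁻¹ u v lies in the commutator subgroup -/
lemma k_mem (u v : X) : u⁻¹ * v⁻¹ * u * v ∈ commutator X := by
  rw [commutator_def]
  have := Subgroup.commutator_mem_commutator (H₁ := (⊤ : Subgroup X)) (H₂ := (⊤ : Subgroup X))
    (Subgroup.mem_top u⁻¹) (Subgroup.mem_top v⁻¹)
  rw [commutatorElement_def] at this
  simpa using this

variable (hel : Cfsg.IsElementaryAbelian 2 (commutator X)) (hcen : commutator X ≤ Subgroup.center X)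
include hel hcen

lemma k_central (u v g : X) : (u⁻¹ * v⁻¹ * u * v) * g = g * (u⁻¹ * v⁻¹ * u * v) := by
  have := hcen (k_mem u v)
  rw [Subgroup.mem_center_iff] at this
  exact (this g).symm

lemma k_sq (u v : X) : (u⁻¹ * v⁻¹ * u * v) * (u⁻¹ * v⁻¹ * u * v) = 1 := by
  have := hel.2 _ (k_mem u v)
  rwa [pow_two] at this

/-- squares are central -/
lemma sq_central (a y : X) : a * a * y = y * (a * a) := by
  set k := a⁻¹ * y⁻¹ * a * y with hk
  have h1 : a * y = y * a * k := by rw [hk]; group
  have hkc : ∀ g : X, k * g = g * k := fun g => k_central hel hcen a y g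
  have hk2 : k * k = 1 := k_sq hel hcen a y
  calc a * a * y = a * (a * y) := by group
    _ = a * (y * a * k) := by rw [h1]
    _ = (a * y) * a * k := by group
    _ = (y * a * k) * a * k := by rw [h1]
    _ = y * a * (k * a) * k := by group
    _ = y * a * (a * k) * k := by rw [hkc]
    _ = y * (a * a) * (k * k) := by group
    _ = y * (a * a) := by rw [hk2, mul_one]

lemma mul_sq (a b : X) : (a * b) * (a * b) = (a * a) * (b * b) * (b⁻¹ * a⁻¹ * b * a) := by
  set k := b⁻¹ * a⁻¹ * b * a with hk
  have h1 : b * a = a * b * k := by rw [hk]; group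
  have hkc : ∀ g : X, k * g = g * k := fun g => k_central hel hcen b a g
  calc (a * b) * (a * b) = a * (b * a) * b := by group
    _ = a * (a * b * k) * b := by rw [h1]
    _ = a * a * b * (k * b) := by group
    _ = a * a * b * (b * k) := by rw [hkc]
    _ = (a * a) * (b * b) * k := by group

lemma mul_pow_four (a b : X) : (a * b) ^ 4 = a ^ 4 * b ^ 4 := by
  set k := b⁻¹ * a⁻¹ * b * a with hk
  have hkc : ∀ g : X, k * g = g * k := fun g => k_central hel hcen b a g
  have hk2 : k * k = 1 := k_sq hel hcen b a
  have hb : ∀ g : X, b * b * g = g * (b * b) := fun g => sq_central hel hcen b g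
  have h2 : (a * b) * (a * b) = (a * a) * (b * b) * k := mul_sq hel hcen a b
  calc (a * b) ^ 4 = ((a * b) * (a * b)) * ((a * b) * (a * b)) := by
        rw [pow_succ, pow_succ, pow_succ, pow_one]; group
    _ = ((a * a) * (b * b) * k) * ((a * a) * (b * b) * k) := by rw [h2]
    _ = (a * a) * (b * b) * (k * ((a * a) * (b * b))) * k := by group
    _ = (a * a) * (b * b) * (((a * a) * (b * b)) * k) * k := by rw [hkc]
    _ = (a * a) * ((b * b) * (a * a)) * (b * b) * (k * k) := by group
    _ = (a * a) * ((a * a) * (b * b)) * (b * b) * (k * k) := by rw [hb]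
    _ = (a * a) * ((a * a) * (b * b)) * (b * b) := by rw [hk2, mul_one]
    _ = a ^ 4 * b ^ 4 := by
        rw [pow_succ, pow_succ, pow_succ, pow_one, pow_succ, pow_succ, pow_succ, pow_one]; group

/-- key induction: `φ ^ (4 ^ e)` fixes every element of order dividing `2 ^ (e + 2)` -/
lemma fix_induction (e : ℕ) : ∀ φ : MulAut X, (∀ g : X, g ^ 4 = 1 → φ g = g) →
    ∀ x : X, x ^ (2 ^ (e + 2)) = 1 → (φ ^ (4 ^ e)) x = x := by
  induction e with
  | zero =>
    intro φ hφ x hx
    simp only [pow_zero, pow_one]
    apply hφ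
    simpa using hx
  | succ e ih =>
    intro φ hφ x hx
    set ψ := φ ^ (4 ^ e) with hψ
    -- ψ fixes elements with g^4 = 1
    have hpow : ∀ (j : ℕ) (g : X), g ^ 4 = 1 → (φ ^ j) g = g := by
      intro j g hg
      induction j with
      | zero => simp
      | succ j ihj => rw [pow_succ, MulAut.mul_apply, hφ g hg, ihj]
    have hψfix : ∀ g : X, g ^ 4 = 1 → ψ g = g := fun g hg => hpow _ g hg
    -- ψ fixes x * x
    have hxx : ψ (x * x) = x * x := by
      apply ih φ hφ
      have : (x * x) ^ (2 ^ (e + 2)) = x ^ (2 ^ (e + 1 + 2)) := by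
        rw [← pow_two, ← pow_mul]
        congr 1
        ring
      rw [this]; exact hx
    set y := x⁻¹ * ψ x with hy
    -- y * y is a "commutator"
    have hyy : y * y = (ψ x)⁻¹ * x⁻¹⁻¹ * ψ x * x⁻¹ := by
      rw [hy, mul_sq hel hcen x⁻¹ (ψ x)]
      have : ψ x * ψ x = x * x := by rw [← map_mul]; exact hxx
      rw [this]
      group
    have hy4 : y ^ 4 = 1 := by
      have : y ^ 4 = (y * y) * (y * y) := by
        rw [pow_succ, pow_succ, pow_succ, pow_one]; group
      rw [this, hyy]
      exact k_sq hel hcen (ψ x) x⁻¹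
    have hψy : ψ y = y := hψfix y hy4
    have hψx : ψ x = x * y := by rw [hy]; group
    have hiter : ∀ j : ℕ, (ψ ^ j) x = x * y ^ j ∧ (ψ ^ j) y = y := by
      intro j
      induction j with
      | zero => simp
      | succ j ihj =>
        constructor
        · rw [pow_succ, MulAut.mul_apply, hψx, map_mul, ihj.1, ihj.2, pow_succ]; group
        · rw [pow_succ, MulAut.mul_apply, hψy, ihj.2]
    have h4 := (hiter 4).1
    rw [hy4, mul_one] at h4
    have : φ ^ (4 ^ (e + 1)) = ψ ^ 4 := by
      rw [hψ, ← pow_mul, pow_succ]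
    rw [this]
    exact h4

end

/-- Let X be a finite 2-group whose derived subgroup is elementary abelian and central. Then the subgroup generated by the elements of order dividing 4 has exponent dividing 4, and every automorphism of X fixing each element of order dividing 4 has 2-power order. -/
theorem result {X : Type*} [Group X] [Finite X] (hX : IsPGroup 2 X)
    (hel : Cfsg.IsElementaryAbelian 2 (commutator X)) (hcen : commutator X ≤ Subgroup.center X) :
    (∀ x ∈ Subgroup.closure {g : X | g ^ 4 = 1}, x ^ 4 = 1) ∧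
      ∀ φ : MulAut X, (∀ g : X, g ^ 4 = 1 → φ g = g) → ∃ k : ℕ, φ ^ (2 ^ k) = 1 := by
  constructor
  · intro x hx
    induction hx using Subgroup.closure_induction with
    | mem x hx => exact hx
    | one => simp
    | mul x y _ _ hx hy => rw [mul_pow_four hel hcen, hx, hy, one_mul]
    | inv x _ hx => rw [inv_pow, hx, inv_one]
  · intro φ hφ
    obtain ⟨r, hr⟩ := IsPGroup.iff_card.mp hX
    refine ⟨2 * r, ?_⟩
    have h4 : (2 : ℕ) ^ (2 * r) = 4 ^ r := by rw [pow_mul]; norm_num
    rw [h4]
    ext x
    rw [MulAut.one_apply]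
    apply fix_induction hel hcen r φ hφ
    have : x ^ (2 ^ r) = 1 := by rw [← hr]; exact pow_card_eq_one'
    rw [pow_add, pow_mul, this, one_pow]

end Cfsg.Agent.S1898
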