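import Cfsg.Statements.S5353
import Cfsg.Agent.Helper89.TranspBlocks

set_option autoImplicit false
open Cfsg

namespace Cfsg.Agent.S5353

open Cfsg.Agent.Helper89 Cfsg.Agent.Helper21

section Aux

variable {G : Type*} [Group G] {D : Set G}

theorem class_conj (hD : Cfsg.IsThreeTranspositionClass D) :
    ∀ g : G, ∀ d ∈ D, g * d * g⁻¹ ∈ D := by
  obtain ⟨-, ⟨d0, -, hd0⟩, -⟩ := hD
  intro g d hd
  rw [hd0] at hd ⊢
  have hd' : IsConj d0 d := hd
  show IsConj d0 (g * d * g⁻¹)
  exact hd'.trans (isConj_iff.mpr ⟨g, rfl⟩)

theorem class_trans (hD : Cfsg.IsThreeTranspositionClass D) :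
    ∀ a ∈ D, ∀ b ∈ D, ∃ g : G, g * a * g⁻¹ = b := by
  obtain ⟨-, ⟨d0, -, hd0⟩, -⟩ := hD
  intro a ha b hb
  rw [hd0] at ha hb
  have ha' : IsConj d0 a := ha
  have hb' : IsConj d0 b := hb
  exact isConj_iff.mp (ha'.symm.trans hb')

/-- No member of the class is central. -/
theorem notMem_center (hD : Cfsg.IsThreeTranspositionClass D) (hD2 : ∃ a ∈ D, ∃ b ∈ D, a ≠ b)
    {d : G} (hd : d ∈ D) : d ∉ Subgroup.center G := by
  intro hc
  obtain ⟨a, ha, b, hb, hab⟩ := hD2
  obtain ⟨g1, h1⟩ := class_trans hD d hd a ha
  obtain ⟨g2, h2⟩ := class_trans hD d hd b hb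
  rw [Subgroup.mem_center_iff] at hc
  apply hab
  rw [← h1, ← h2, hc g1, hc g2, mul_inv_cancel_right, mul_inv_cancel_right]

/-- A non-central member of `D` fails to commute with some member of `D`. -/
theorem exists_not_commute (hD : Cfsg.IsThreeTranspositionClass D) {a : G}
    (ha : a ∉ Subgroup.center G) : ∃ e ∈ D, ¬ Commute a e := by
  by_contra hcon
  push Not at hcon
  apply ha
  have h1 : Subgroup.closure D ≤ Subgroup.centralizer {a} := by
    rw [Subgroup.closure_le]
    intro e he
    rw [SetLike.mem_coe, Subgroup.mem_centralizer_iff]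
    intro x hx
    rw [Set.mem_singleton_iff.mp hx]
    exact (hcon e he).eq
  rw [hD.2.2] at h1
  rw [Subgroup.mem_center_iff]
  intro g
  have := Subgroup.mem_centralizer_iff.mp (h1 (Subgroup.mem_top g)) a (Set.mem_singleton a)
  exact this.symm

/-- The product of two different members of `D` is not central. -/
theorem mul_notMem_center (hD : Cfsg.IsThreeTranspositionClass D)
    (hD2 : ∃ a ∈ D, ∃ b ∈ D, a ≠ b) {a b : G} (ha : a ∈ D) (hb : b ∈ D) (hab : a ≠ b) :
    a * b ∉ Subgroup.center G := by
  intro hz
  have hT := hD.1
  have haa := sq_of_mem hT ha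
  have hbb := sq_of_mem hT hb
  have hbinv : b⁻¹ = b := inv_eq_of_mul_eq_one_left hbb
  obtain ⟨z, hzdef⟩ : ∃ z, z = a * b := ⟨_, rfl⟩
  rw [← hzdef] at hz
  have hz1 : z ≠ 1 := by
    intro h1
    apply hab
    rw [hzdef] at h1
    have : a = b⁻¹ := eq_inv_of_mul_eq_one_left h1
    rw [this, hbinv]
  have hzc : ∀ g : G, g * z = z * g := fun g => Subgroup.mem_center_iff.mp hz g
  have hbz : b = a * z := by rw [hzdef, ← mul_assoc, haa, one_mul]
  rcases hT.2 a ha b hb with h2 | h3
  · -- z is a central involution
    rw [← hzdef] at h2
    have hzz : z * z = 1 := by rw [← pow_two]; exact h2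
    obtain ⟨e, he, hae⟩ := exists_not_commute hD (notMem_center hD hD2 ha)
    have hee := sq_of_mem hT he
    have hbe : b * e = z * (a * e) := by
      calc b * e = a * z * e := by rw [← hbz]
        _ = z * a * e := by rw [hzc a]
        _ = z * (a * e) := mul_assoc _ _ _
    have hcomm : Commute z (a * e) := (hzc (a * e)).symm
    rcases hT.2 b hb e he with h2' | h3'
    · apply hae
      apply commute_of_mul_sq_eq_one haa hee
      rw [hbe, hcomm.mul_pow, pow_two z, hzz, one_mul] at h2'
      exact h2'
    · apply hz1
      have h3a := cube_of_not_commute hT ha he hae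
      rw [hbe, hcomm.mul_pow, h3a, mul_one] at h3'
      have : z ^ 3 = z := by rw [pow_succ, pow_two, hzz, one_mul]
      rw [← this]; exact h3'
  · -- z has order three but `a = z b` is an involution
    rw [← hzdef] at h3
    apply hz1
    have hazb : a = z * b := by rw [hzdef, mul_assoc, hbb, mul_one]
    have hzz : z * z = 1 := by
      have h4 : a * a = z * z * (b * b) := by
        conv_lhs => rw [hazb]
        rw [mul_assoc, ← mul_assoc b, hzc b]
        simp only [mul_assoc]
      rw [haa, hbb, mul_one] at h4
      exact h4.symm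
    have : z ^ 3 = z := by rw [pow_succ, pow_two, hzz, one_mul]
    rw [← this]; exact h3

end Aux

section Main

variable {G : Type*} [Group G] [Finite G] {D : Set G}

/-- The centralizer of the generalized Fitting subgroup is an abelian normal subgroup. -/
theorem centralizer_fstar_commute (L : Subgroup G) [L.Normal]
    (hF : Cfsg.generalizedFittingSubgroup G = L ⊔ Subgroup.center G) :
    (Subgroup.centralizer ((L ⊔ Subgroup.center G : Subgroup G) : Set G)).Normal ∧
    ∀ x ∈ Subgroup.centralizer ((L ⊔ Subgroup.center G : Subgroup G) : Set G),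
      ∀ y ∈ Subgroup.centralizer ((L ⊔ Subgroup.center G : Subgroup G) : Set G), Commute x y := by
  refine ⟨inferInstance, ?_⟩
  intro x hx y hy
  have hy' : y ∈ (L ⊔ Subgroup.center G : Subgroup G) := by
    rw [← hF]
    apply Cfsg.Agent.S1265.result
    rw [hF]; exact hy
  exact (Subgroup.mem_centralizer_iff.mp hx y hy').symm

/-- An element centralizing `L` lies in the centralizer of `F*(G) = L Z(G)`. -/
theorem mem_centralizer_fstar (L : Subgroup G) {z : G} (hz : ∀ x ∈ L, Commute z x) :
    z ∈ Subgroup.centralizer ((L ⊔ Subgroup.center G : Subgroup G) : Set G) := by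
  have h1 : L ⊔ Subgroup.center G ≤ Subgroup.centralizer {z} := by
    apply sup_le
    · intro x hx
      rw [Subgroup.mem_centralizer_iff]
      intro y hy
      rw [Set.mem_singleton_iff.mp hy]
      exact (hz x hx).eq
    · exact Subgroup.center_le_centralizer _
  rw [Subgroup.mem_centralizer_iff]
  intro y hy
  have := Subgroup.mem_centralizer_iff.mp (h1 hy) z (Set.mem_singleton z)
  exact this.symm

/-- No member of `D` centralizes `L`. -/
theorem not_centralizes (hD : Cfsg.IsThreeTranspositionClass D) (hD2 : ∃ a ∈ D, ∃ b ∈ D, a ≠ b)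
    (h2 : Cfsg.pCore 2 G ≤ Subgroup.center G) (L : Subgroup G) [L.Normal]
    (hF : Cfsg.generalizedFittingSubgroup G = L ⊔ Subgroup.center G) {d : G} (hd : d ∈ D) :
    ¬ ∀ x ∈ L, Commute d x := by
  intro hc
  obtain ⟨hAn, hAab⟩ := centralizer_fstar_commute L hF
  have hdA := mem_centralizer_fstar L hc
  have hdd : d ^ 2 = 1 := by rw [pow_two]; exact sq_of_mem hD.1 hd
  exact notMem_center hD hD2 hd (h2 (mem_pCore_of_abelian_normal hAn hAab hdA hdd))

end Main

/-- Let D be a conjugacy class of 3-transpositions generating the finite group G, with at least two members, such that the largest normal 2-subgroup and the largest normal 3-subgroup of G are central, and let L be a quasisimple normal subgroup with generalized Fitting subgroup of G equal to L times the centre. If L has index at most 2 then G acts primitively on D by conjugation; and if the commuting graph of D is connected then L has index at most 2. -/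
theorem result {G : Type*} [Group G] [Finite G] {D : Set G} (hD : Cfsg.IsThreeTranspositionClass D) (hD2 : ∃ a ∈ D, ∃ b ∈ D, a ≠ b) (h2 : Cfsg.pCore 2 G ≤ Subgroup.center G) (h3 : Cfsg.pCore 3 G ≤ Subgroup.center G) (L : Subgroup G) [L.Normal] (hL : Cfsg.IsQuasisimple L) (hF : Cfsg.generalizedFittingSubgroup G = L ⊔ Subgroup.center G) : (L.index ≤ 2 → Cfsg.IsPrimitiveUnderConj D) ∧ ((Cfsg.commutingGraph D).Connected → L.index ≤ 2) := by
  classical
  have hT := hD.1
  have hconj := class_conj hD
  have htrans := class_trans hD
  have hcomp : Cfsg.IsComponent L := ⟨Subgroup.Normal.isSubnormal inferInstance, hL⟩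
  have hnot := fun {d : G} (hd : d ∈ D) => not_centralizes hD hD2 h2 L hF hd
  constructor
  · -- primitivity
    intro hidx
    refine ⟨htrans, hD2, ?_⟩
    intro B hBD hB
    by_contra hcon
    push Not at hcon
    obtain ⟨hns, hne⟩ := hcon
    obtain ⟨a, ha, b, hb, hab⟩ := hns
    have hBlk : IsConjBlock B := hB
    have hBne : B.Nonempty := ⟨a, ha⟩
    have habK : a * b ∈ blockKernel B := fun h => hBlk.mul_stabilizes hT hconj hBD ha hb h
    have hKtop : blockKernel B ≠ ⊤ := by
      intro htop
      apply hne
      apply eq_of_conjSet_invariant hBD htrans hBne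
      intro g
      exact conjSet_eq_of_mem_blockKernel (htop ▸ Subgroup.mem_top g)
    have hnorm : L ≤ Subgroup.normalizer ((blockKernel B : Subgroup G) : Set G) := by
      rw [Subgroup.normalizer_eq_top]; exact le_top
    rcases Cfsg.Agent.Helper21.IsComponent.le_or_commutator_eq_bot hcomp (blockKernel B) hnorm with hLK | hLK
    · -- `L ≤ K`: then `K` has index two and `B` is invariant
      have hdvd : (blockKernel B).index ∣ L.index := Subgroup.index_dvd_of_le hLK
      have hL0 : L.index ≠ 0 := Subgroup.index_ne_zero_of_finite
      have hK1 : (blockKernel B).index ≠ 1 := fun h => hKtop (Subgroup.index_eq_one.mp h)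
      have hK2 : (blockKernel B).index = 2 := by
        have hle : (blockKernel B).index ≤ L.index := Nat.le_of_dvd (Nat.pos_of_ne_zero hL0) hdvd
        have hK0 : (blockKernel B).index ≠ 0 := Subgroup.index_ne_zero_of_finite
        omega
      have haK : a ∉ blockKernel B := by
        intro haK
        apply hKtop
        rw [eq_top_iff, ← hD.2.2, Subgroup.closure_le]
        intro d hd
        obtain ⟨g, hg⟩ := htrans a (hBD ha) d hd
        rw [← hg]
        exact (blockKernel_normal B).conj_mem a haK g
      apply hne
      apply eq_of_conjSet_invariant hBD htrans hBne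
      intro g
      by_cases hg : g ∈ blockKernel B
      · exact conjSet_eq_of_mem_blockKernel hg
      · have hag : a * g ∈ blockKernel B := by
          rw [Subgroup.mul_mem_iff_of_index_two hK2]
          exact ⟨fun h => absurd h haK, fun h => absurd h hg⟩
        have h1 := conjSet_eq_of_mem_blockKernel hag
        rw [conjSet_mul] at h1
        have h2 := congrArg (conjSet a) h1
        rw [← conjSet_mul, sq_of_mem hT (hBD ha), conjSet_one, hBlk.conjSet_self ha] at h2
        exact h2
    · -- `[L, K] = 1`: then `a b` is central, a contradiction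
      rw [Subgroup.commutator_eq_bot_iff_le_centralizer] at hLK
      have hzL : ∀ x ∈ L, Commute (a * b) x := by
        intro x hx
        exact Subgroup.mem_centralizer_iff.mp (hLK hx) (a * b) habK
      obtain ⟨hAn, hAab⟩ := centralizer_fstar_commute L hF
      have hzA := mem_centralizer_fstar L hzL
      apply mul_notMem_center hD hD2 (hBD ha) (hBD hb) hab
      rcases hT.2 a (hBD ha) b (hBD hb) with h | h
      · exact h2 (mem_pCore_of_abelian_normal hAn hAab hzA h)
      · exact h3 (mem_pCore_of_abelian_normal hAn hAab hzA h)
  · -- the index bound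
    intro hconn
    have hclaim : ∀ a ∈ D, ∀ b ∈ D, Commute a b → a⁻¹ * b ∈ L := by
      intro a ha b hb hab
      by_contra hnL
      have haa := sq_of_mem hT ha
      have hbb := sq_of_mem hT hb
      have hainv : a⁻¹ = a := inv_eq_of_mul_eq_one_left haa
      have hbinv : b⁻¹ = b := inv_eq_of_mul_eq_one_left hbb
      -- `b` commutes with every member of `D` in the coset `a L`
      have hstep : ∀ a' ∈ D, a⁻¹ * a' ∈ L → Commute b a' := by
        intro a' ha' hmem
        by_contra hnc
        apply hnL
        have hbr := cj_comm_of_not_commute hT hb ha' hnc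
        simp only [cj] at hbr
        -- work in the quotient
        have e1 : ((a : G) : G ⧸ L) = (a' : G) := QuotientGroup.eq.mpr hmem
        have e2 : ((b * a' * b⁻¹ : G) : G ⧸ L) = ((a' * b * a'⁻¹ : G) : G ⧸ L) := by rw [hbr]
        simp only [QuotientGroup.mk_mul, QuotientGroup.mk_inv, ← e1] at e2
        have e3 : ((b * a * b⁻¹ : G) : G ⧸ L) = (a : G) := by
          rw [← hab.eq, mul_inv_cancel_right]
        simp only [QuotientGroup.mk_mul, QuotientGroup.mk_inv] at e3
        rw [e3] at e2
        have e4 : ((a : G) : G ⧸ L) = (b : G) := by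
          have := congrArg (fun t => ((a : G) : G ⧸ L)⁻¹ * t * ((a : G) : G ⧸ L)) e2
          simp only [mul_assoc, inv_mul_cancel, mul_one, one_mul, inv_mul_cancel_left] at this
          exact this
        exact QuotientGroup.eq.mp e4
      -- the subgroup generated by the `L`-conjugates of `a`
      set S : Set G := {y | ∃ x ∈ L, y = x * a * x⁻¹} with hS
      have hSb : ∀ y ∈ S, Commute b y := by
        rintro y ⟨x, hx, rfl⟩
        apply hstep _ (hconj x a ha)
        have : a⁻¹ * (x * a * x⁻¹) = (a⁻¹ * x * a⁻¹⁻¹) * x⁻¹ := by group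
        rw [this]
        exact L.mul_mem (Subgroup.Normal.conj_mem inferInstance x hx a⁻¹) (L.inv_mem hx)
      have hnormS : L ≤ Subgroup.normalizer ((Subgroup.closure S : Subgroup G) : Set G) := by
        intro l hl
        apply Cfsg.Agent.Helper21.mem_normalizer_of_map_conj_eq
        rw [MonoidHom.map_closure]
        congr 1
        ext y
        constructor
        · rintro ⟨_, ⟨x, hx, rfl⟩, rfl⟩
          refine ⟨l * x, L.mul_mem hl hx, ?_⟩
          simp only [MulEquiv.coe_toMonoidHom, MulAut.conj_apply]
          group
        · rintro ⟨x, hx, rfl⟩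
          refine ⟨(l⁻¹ * x) * a * (l⁻¹ * x)⁻¹, ⟨l⁻¹ * x, L.mul_mem (L.inv_mem hl) hx, rfl⟩, ?_⟩
          simp only [MulEquiv.coe_toMonoidHom, MulAut.conj_apply]
          group
      have haS : a ∈ Subgroup.closure S :=
        Subgroup.subset_closure ⟨1, L.one_mem, by simp⟩
      rcases Cfsg.Agent.Helper21.IsComponent.le_or_commutator_eq_bot hcomp (Subgroup.closure S) hnormS with hLS | hLS
      · -- `L ≤ ⟨S⟩`: `b` centralizes `L`
        apply hnot hb
        intro x hx
        have h1 : Subgroup.closure S ≤ Subgroup.centralizer {b} := by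
          rw [Subgroup.closure_le]
          intro y hy
          rw [SetLike.mem_coe, Subgroup.mem_centralizer_iff]
          intro t ht
          rw [Set.mem_singleton_iff.mp ht]
          exact (hSb y hy).eq
        exact Subgroup.mem_centralizer_iff.mp (h1 (hLS hx)) b (Set.mem_singleton b)
      · -- `[L, ⟨S⟩] = 1`: `a` centralizes `L`
        apply hnot ha
        rw [Subgroup.commutator_eq_bot_iff_le_centralizer] at hLS
        intro x hx
        exact Subgroup.mem_centralizer_iff.mp (hLS hx) a haS
    -- all members of `D` lie in one coset of `L`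
    have hall : ∀ a b : D, (a : G)⁻¹ * (b : G) ∈ L := by
      intro a b
      obtain ⟨w⟩ := hconn.preconnected a b
      induction w with
      | nil => simp
      | @cons u v w' hadj _ ih =>
        have hadj' : Commute (u : G) (v : G) := by
          have := hadj
          simp only [Cfsg.commutingGraph, SimpleGraph.fromRel_adj] at this
          rcases this.2 with h | h
          · exact h
          · exact h.symm
        have h1 := hclaim u u.2 v v.2 hadj'
        have : (u : G)⁻¹ * (w' : G) = ((u : G)⁻¹ * (v : G)) * ((v : G)⁻¹ * (w' : G)) := by group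
        rw [this]
        exact L.mul_mem h1 ih
    obtain ⟨d0, hd0, -⟩ := hD2
    have hd0d0 := sq_of_mem hT hd0
    have hd0inv : d0⁻¹ = d0 := inv_eq_of_mul_eq_one_left hd0d0
    have hLn : ∀ x ∈ L, d0 * x * d0 ∈ L := by
      intro x hx
      have := Subgroup.Normal.conj_mem (inferInstance : L.Normal) x hx d0
      rwa [hd0inv] at this
    have hcover : ∀ g : G, d0 * g ∈ L ∨ g ∈ L := by
      intro g
      have hg : g ∈ Subgroup.closure D := hD.2.2 ▸ Subgroup.mem_top g
      induction hg using Subgroup.closure_induction with
      | mem d hd =>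
        left
        have := hall ⟨d0, hd0⟩ ⟨d, hd⟩
        simpa [hd0inv] using this
      | one => right; exact L.one_mem
      | mul x y _ _ ihx ihy =>
        rcases ihx with hx | hx <;> rcases ihy with hy | hy
        · right
          have h1 := hLn _ hx
          have : x * y = (d0 * (d0 * x) * d0) * (d0 * y) := by
            calc x * y = (d0 * d0) * x * ((d0 * d0) * y) := by rw [hd0d0, one_mul, one_mul]
              _ = (d0 * (d0 * x) * d0) * (d0 * y) := by simp only [mul_assoc]
          rw [this]
          exact L.mul_mem h1 hy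
        · left
          rw [← mul_assoc]
          exact L.mul_mem hx hy
        · left
          have h1 := hLn _ hx
          have : d0 * (x * y) = (d0 * x * d0) * (d0 * y) := by
            calc d0 * (x * y) = d0 * x * ((d0 * d0) * y) := by rw [hd0d0, one_mul, mul_assoc]
              _ = (d0 * x * d0) * (d0 * y) := by simp only [mul_assoc]
          rw [this]
          exact L.mul_mem h1 hy
        · right
          exact L.mul_mem hx hy
      | inv x _ ih =>
        rcases ih with hx | hx
        · left
          have h1 := hLn _ (L.inv_mem hx)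
          have : d0 * x⁻¹ = d0 * (d0 * x)⁻¹ * d0 := by
            rw [mul_inv_rev, hd0inv]
            calc d0 * x⁻¹ = d0 * x⁻¹ * (d0 * d0) := by rw [hd0d0, mul_one]
              _ = d0 * (x⁻¹ * d0) * d0 := by simp only [mul_assoc]
          rw [this]
          exact h1
        · right
          exact L.inv_mem hx
    by_cases hd0L : d0 ∈ L
    · have : L = ⊤ := by
        rw [eq_top_iff]
        intro g _
        rcases hcover g with h | h
        · have := L.mul_mem hd0L h
          rwa [← mul_assoc, hd0d0, one_mul] at this
        · exact h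
      rw [this, Subgroup.index_top]
      omega
    · have : L.index = 2 := by
        rw [Subgroup.index_eq_two_iff_exists_notMem_and']
        exact ⟨d0, hd0L, hcover⟩
      omega

end Cfsg.Agent.S5353
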