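-- Statement S5349: V_d = D ∩ d O_2(G) = d^{O_2(G)} for a generating class of 3-transpositions.
import Cfsg.Statements.S5349
import Cfsg.Agent.Helper89.Tau

set_option autoImplicit false
open Cfsg

namespace Cfsg.Agent.S5349

open Equiv Cfsg.Agent.Helper89

/-- Common preparation: a generating class of 3-transpositions is conjugation invariant, and if it has at least
two members then every member fails to commute with some member. -/
theorem class_facts {G : Type*} [Group G] {D : Set G} (hD : Cfsg.IsThreeTranspositionClass D)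
    (hD2 : ∃ a ∈ D, ∃ b ∈ D, a ≠ b) :
    (∀ g : G, ∀ x ∈ D, g * x * g⁻¹ ∈ D) ∧ ∀ d ∈ D, ∃ e ∈ D, ¬ Commute d e := by
  obtain ⟨-, ⟨d0, hd0, hDclass⟩, hgen⟩ := hD
  have hconj : ∀ g : G, ∀ x ∈ D, g * x * g⁻¹ ∈ D := by
    intro g x hx
    rw [hDclass] at hx ⊢
    exact ((show IsConj d0 x from hx)).trans (isConj_iff.2 ⟨g, rfl⟩)
  refine ⟨hconj, ?_⟩
  intro d hd
  by_contra hall
  push Not at hall
  -- d is central
  have hcent : d ∈ Subgroup.center G := by
    have hle : Subgroup.closure D ≤ Subgroup.centralizer {d} := by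
      rw [Subgroup.closure_le]
      intro e he
      rw [SetLike.mem_coe, Subgroup.mem_centralizer_iff]
      intro y hy
      rw [Set.mem_singleton_iff] at hy
      subst hy
      exact (hall e he).eq
    rw [hgen] at hle
    rw [Subgroup.mem_center_iff]
    intro g
    have := hle (Subgroup.mem_top g)
    rw [Subgroup.mem_centralizer_iff] at this
    exact (this d rfl).symm
  -- hence D = {d}
  have hsing : ∀ x ∈ D, x = d := by
    intro x hx
    have h1 : IsConj d0 x := by rw [hDclass] at hx; exact (show IsConj d0 x from hx)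
    have h2 : IsConj d0 d := by rw [hDclass] at hd; exact (show IsConj d0 d from hd)
    obtain ⟨c, hc⟩ := isConj_iff.1 (h2.symm.trans h1)
    rw [← hc]
    have := Subgroup.mem_center_iff.1 hcent c
    calc c * d * c⁻¹ = (c * d) * c⁻¹ := rfl
      _ = (d * c) * c⁻¹ := by rw [this]
      _ = d := by group
  obtain ⟨a, ha, b, hb, hab⟩ := hD2
  exact hab ((hsing a ha).trans (hsing b hb).symm)

/-- Let D be a conjugacy class of 3-transpositions generating the finite group G, with at least two members, and d a member of D. Then the set of members of D commuting with exactly the same members of D as d coincides with the set of members of D lying in the coset of d modulo the largest normal 2-subgroup of G, and also with the orbit of d under conjugation by that normal 2-subgroup. -/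
theorem result {G : Type*} [Group G] [Finite G] {D : Set G} (hD : Cfsg.IsThreeTranspositionClass D) (hD2 : ∃ a ∈ D, ∃ b ∈ D, a ≠ b) {d : G} (hd : d ∈ D) : {v : G | v ∈ D ∧ ∀ e ∈ D, Commute v e ↔ Commute d e} = {v : G | v ∈ D ∧ d⁻¹ * v ∈ Cfsg.pCore 2 G} ∧ {v : G | v ∈ D ∧ ∀ e ∈ D, Commute v e ↔ Commute d e} = {v : G | ∃ g ∈ Cfsg.pCore 2 G, v = g * d * g⁻¹} := by
  obtain ⟨hconj, hnc⟩ := class_facts hD hD2
  have hset := hD.1
  have hNnormal : (Cfsg.pCore 2 G).Normal :=
    have := Cfsg.Agent.Lib.pCore_characteristic (G := G) 2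
    inferInstance
  have hN2 : IsPGroup 2 (Cfsg.pCore 2 G) := Cfsg.Agent.Lib.isPGroup_pCore 2
  -- (A)
  have hA : ∀ v : G, (∃ g ∈ Cfsg.pCore 2 G, v = g * d * g⁻¹) → v ∈ D ∧ d⁻¹ * v ∈ Cfsg.pCore 2 G := by
    rintro v ⟨g, hg, rfl⟩
    refine ⟨hconj g d hd, ?_⟩
    have : d⁻¹ * (g * d * g⁻¹) = (d⁻¹ * g * d⁻¹⁻¹) * g⁻¹ := by group
    rw [this]
    exact (Cfsg.pCore 2 G).mul_mem (hNnormal.conj_mem g hg d⁻¹) ((Cfsg.pCore 2 G).inv_mem hg)
  -- (B)
  have hB : ∀ v : G, v ∈ D → d⁻¹ * v ∈ Cfsg.pCore 2 G → ∀ e ∈ D, Commute v e ↔ Commute d e := by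
    intro v hv hn e he
    constructor
    · intro h
      have hn' : v⁻¹ * d ∈ Cfsg.pCore 2 G := by
        have : v⁻¹ * d = (d⁻¹ * v)⁻¹ := by group
        rw [this]; exact (Cfsg.pCore 2 G).inv_mem hn
      exact commute_of_mul_mem_normal_two_group hset hNnormal hN2 hv hd he hn' h
    · intro h
      exact commute_of_mul_mem_normal_two_group hset hNnormal hN2 hd hv he hn h
  -- (C)
  have hC : ∀ v : G, v ∈ D → (∀ e ∈ D, Commute v e ↔ Commute d e) → ∃ g ∈ Cfsg.pCore 2 G, v = g * d * g⁻¹ := by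
    intro v hv hsame
    by_cases hvd : v = d
    · exact ⟨1, (Cfsg.pCore 2 G).one_mem, by rw [hvd]; group⟩
    · have hsc : SameComm D d v := fun y hy => (hsame y hy).symm
      have hx : d * v ∈ Cfsg.pCore 2 G :=
        mem_pCore_two_of_sameComm hset hconj hd hv hsc (Ne.symm hvd)
      obtain ⟨e, he, hde⟩ := hnc d hd
      have hve : ¬ Commute v e := fun h => hde ((hsame e he).1 h)
      have cdv : Commute d v := ((hsc d hd).1 (Commute.refl d)).symm
      obtain ⟨φ, -, hφ0, hφ1, hφ2⟩ := Cfsg.Agent.S5344.result hset hd he hv (Ne.symm hvd) cdv hde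
        (fun h => hve h.symm)
      refine ⟨e * (d * v) * e⁻¹, hNnormal.conj_mem _ hx e, ?_⟩
      have hS4 : (swap 2 3 : Perm (Fin 4)) = (swap 1 2 * (swap 0 1 * swap 2 3) * (swap 1 2)⁻¹) * swap 0 1 *
          (swap 1 2 * (swap 0 1 * swap 2 3) * (swap 1 2)⁻¹)⁻¹ := by decide
      have hdinv := inv_eq_self_of_orderOf_two (hset.1 d hd)
      have hvinv := inv_eq_self_of_orderOf_two (hset.1 v hv)
      have heinv := inv_eq_self_of_orderOf_two (hset.1 e he)
      have := congrArg φ hS4
      simpa [map_mul, map_inv, hφ0, hφ1, hφ2, hdinv, hvinv, heinv] using this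
  constructor
  · ext v
    constructor
    · rintro ⟨hv, hsame⟩
      exact hA v (hC v hv hsame)
    · rintro ⟨hv, hn⟩
      exact ⟨hv, hB v hv hn⟩
  · ext v
    constructor
    · rintro ⟨hv, hsame⟩
      exact hC v hv hsame
    · intro h
      obtain ⟨hv, hn⟩ := hA v h
      exact ⟨hv, hB v hv hn⟩

end Cfsg.Agent.S5349
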