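import Mathlib
import Cfsg.Statements.S1477
import Cfsg.Agent.Helper95.CNBasic
-- import your own Cfsg.Agent.* helpers here

set_option autoImplicit false
open Cfsg

namespace Cfsg.Agent.S1477

open Subgroup Cfsg.Agent.Helper95

section aux
variable {G : Type*} [Group G] [Finite G]

/-- The centralizer of a nonidentity central element of a maximal nilpotent subgroup `H` of a
CN-group is `H`. -/
lemma cent_eq (hCN : Cfsg.IsCNGroup G) (H : Subgroup G)
    (hmax : ∀ L : Subgroup G, Group.IsNilpotent L → H ≤ L → L = H) {z : G}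
    (hz1 : z ≠ 1) (hzc : ∀ h ∈ H, z * h = h * z) : ∀ y : G, y * z = z * y → y ∈ H := by
  intro y hy
  have hnil := hCN z hz1
  have hle : H ≤ centralizer {z} := fun h hh => mem_centralizer_singleton_iff.mpr (hzc h hh).symm
  have := hmax _ hnil hle
  rw [← this]
  exact mem_centralizer_singleton_iff.mpr hy

/-- A nilpotent subgroup of order divisible by `p` has a nonidentity central `p`-element. -/
lemma exists_central (H : Subgroup G) (hH : Group.IsNilpotent H) {p : ℕ} (hp : p.Prime)
    (hpH : p ∣ Nat.card H) :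
    ∃ z ∈ H, z ≠ 1 ∧ (∀ h ∈ H, z * h = h * z) ∧ ∃ k, z ^ p ^ k = 1 := by
  have := hH
  have := Fact.mk hp
  let P : Sylow p H := default
  have hall : ∀ (p : ℕ) (_hp : Fact p.Prime) (P : Sylow p H), (↑P : Subgroup H).Normal :=
    ((Group.isNilpotent_of_finite_tfae (G := H)).out 0 3 rfl rfl).mp hH
  have hPn : (P : Subgroup H).Normal := hall p inferInstance P
  have hPne : (P : Subgroup H) ≠ ⊥ := P.ne_bot_of_dvd_card hpH
  have h1 := Lib.normal_inf_center_ne_bot (P : Subgroup H) hPne
  rw [Ne, Subgroup.eq_bot_iff_forall] at h1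
  push Not at h1
  obtain ⟨z, hz, hz1⟩ := h1
  obtain ⟨hzP, hzc⟩ := Subgroup.mem_inf.mp hz
  refine ⟨(z : G), z.2, ?_, ?_, ?_⟩
  · intro h
    exact hz1 (Subtype.ext h)
  · intro h hh
    have := (Subgroup.mem_center_iff.mp hzc) ⟨h, hh⟩
    exact (congrArg Subtype.val this).symm
  · obtain ⟨k, hk⟩ := P.2 ⟨z, hzP⟩
    refine ⟨k, ?_⟩
    have := congrArg (fun w : (P : Subgroup H) => ((w : H) : G)) hk
    simpa using this

/-- Key lemma: centralizers of elements of prime order of `H` lie in `H` as soon as `|H|` has a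
second prime divisor. -/
lemma cent_le (hCN : Cfsg.IsCNGroup G) (H : Subgroup G) (hH : Group.IsNilpotent H)
    (hmax : ∀ L : Subgroup G, Group.IsNilpotent L → H ≤ L → L = H) {x : G} (hxH : x ∈ H)
    {r q : ℕ} (hr : r.Prime) (hq : q.Prime) (hqr : q ≠ r) (hxr : orderOf x = r)
    (hqH : q ∣ Nat.card H) : centralizer {x} ≤ H := by
  have hx1 : x ≠ 1 := by
    intro h
    rw [h, orderOf_one] at hxr
    exact hr.ne_one hxr.symm
  have hrH : r ∣ Nat.card H := hxr ▸ Subgroup.orderOf_dvd_natCard H hxH
  obtain ⟨z', hz'H, hz'1, hz'c, hz'r⟩ := exists_central H hH hr hrH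
  obtain ⟨z, hzH, hz1, hzc, k, hzk⟩ := exists_central H hH hq hqH
  have hzr : ¬ r ∣ orderOf z := by
    intro hdvd
    have h1 : r ∣ q ^ k := hdvd.trans (orderOf_dvd_of_pow_eq_one hzk)
    exact hqr ((Nat.prime_dvd_prime_iff_eq hr hq).mp (hr.dvd_of_dvd_pow h1)).symm
  refine CN.le_of_commute_parts (hCN x hx1) hr (z := z) (z' := z') ?_ ?_ hzr hz'r
    (cent_eq hCN H hmax hz1 hzc) (cent_eq hCN H hmax hz'1 hz'c)
  · exact mem_centralizer_singleton_iff.mpr (hzc x hxH)
  · exact mem_centralizer_singleton_iff.mpr (hz'c x hxH)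


/-- A conjugate of a maximal nilpotent subgroup is maximal nilpotent. -/
lemma conj_data (H : Subgroup G) (hH : Group.IsNilpotent H)
    (hmax : ∀ L : Subgroup G, Group.IsNilpotent L → H ≤ L → L = H) (g : G) :
    Group.IsNilpotent (H.map (MulAut.conj g).toMonoidHom) ∧
    (∀ L : Subgroup G, Group.IsNilpotent L → H.map (MulAut.conj g).toMonoidHom ≤ L →
      L = H.map (MulAut.conj g).toMonoidHom) ∧
    Nat.card (H.map (MulAut.conj g).toMonoidHom) = Nat.card H := by
  have hcard : ∀ (K : Subgroup G) (a : G),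
      Nat.card (K.map (MulAut.conj a).toMonoidHom) = Nat.card K := fun K a =>
    Subgroup.card_map_of_injective (MulAut.conj a).injective
  refine ⟨Group.nilpotent_of_mulEquiv (H.equivMapOfInjective _ (MulAut.conj g).injective), ?_,
    hcard H g⟩
  intro L hL hle
  have hL' : Group.IsNilpotent (L.map (MulAut.conj g⁻¹).toMonoidHom) :=
    Group.nilpotent_of_mulEquiv (L.equivMapOfInjective _ (MulAut.conj g⁻¹).injective)
  have hHL' : H ≤ L.map (MulAut.conj g⁻¹).toMonoidHom := by
    intro h hh
    have h1 : g * h * g⁻¹ ∈ L := hle ⟨h, hh, by simp [MulAut.conj_apply]⟩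
    exact ⟨g * h * g⁻¹, h1, by simp [MulAut.conj_apply, mul_assoc]⟩
  have h2 := hmax _ hL' hHL'
  have h3 : Nat.card L = Nat.card H := by rw [← hcard L g⁻¹, h2]
  exact (Subgroup.eq_of_le_of_card_ge hle (by rw [hcard H g, h3])).symm

/-- Either a second prime divides `|H|`, or `|H|` is a power of `r`. -/
lemma second_prime_or_pow (H : Subgroup G) {r : ℕ} (hr : r.Prime) :
    (∃ q : ℕ, q.Prime ∧ q ≠ r ∧ q ∣ Nat.card H) ∨ ∃ k, Nat.card H = r ^ k := by
  by_cases h : ∃ q : ℕ, q.Prime ∧ q ≠ r ∧ q ∣ Nat.card H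
  · exact Or.inl h
  · right
    push Not at h
    refine ⟨_, Nat.eq_prime_pow_of_unique_prime_dvd Nat.card_pos.ne' ?_⟩
    intro d hd hdvd
    by_contra hne
    exact h d hd hne hdvd

/-- An element `x ≠ 1` has a power of prime order. -/
lemma exists_prime_order_pow {x : G} (hx1 : x ≠ 1) :
    ∃ (r : ℕ) (n : ℕ), r.Prime ∧ orderOf (x ^ n) = r := by
  have h1 : orderOf x ≠ 1 := fun h => hx1 (orderOf_eq_one_iff.mp h)
  refine ⟨(orderOf x).minFac, orderOf x / (orderOf x).minFac, Nat.minFac_prime h1, ?_⟩
  exact orderOf_pow_orderOf_div (orderOf_pos x).ne' (Nat.minFac_dvd _)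

end aux

/-- Let G be a finite group in which every non-identity element has nilpotent centralizer, and H a nilpotent subgroup not properly contained in any nilpotent subgroup. Then the order of H is coprime to its index; if the order of H is not a prime power then H ∩ gHg⁻¹ = 1 whenever gHg⁻¹ ≠ H; and if H ∩ gHg⁻¹ = 1 whenever gHg⁻¹ ≠ H, then C_G(x) ≤ H for every non-identity x ∈ H. -/
theorem result {G : Type*} [Group G] [Finite G] (hCN : Cfsg.IsCNGroup G) (H : Subgroup G) (hH : Group.IsNilpotent H)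
    (hmax : ∀ L : Subgroup G, Group.IsNilpotent L → H ≤ L → L = H) :
    (Nat.card H).Coprime H.index ∧
      (¬ IsPrimePow (Nat.card H) → Nat.card H ≠ 1 → ∀ g : G, H.map (MulAut.conj g).toMonoidHom ≠ H → H ⊓ H.map (MulAut.conj g).toMonoidHom = ⊥) ∧
      ((∀ g : G, H.map (MulAut.conj g).toMonoidHom ≠ H → H ⊓ H.map (MulAut.conj g).toMonoidHom = ⊥) → ∀ x ∈ H, x ≠ 1 → Subgroup.centralizer ({x} : Set G) ≤ H) := by
  have hcardpos : 0 < Nat.card H := Nat.card_pos
  refine ⟨?_, ?_, ?_⟩
  · -- Hall
    by_contra hnc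
    obtain ⟨p, hp, hp1, hp2⟩ := Nat.Prime.not_coprime_iff_dvd.mp hnc
    have := Fact.mk hp
    obtain ⟨z, hzH, hz1, hzc, hzp⟩ := exists_central H hH hp hp1
    rcases second_prime_or_pow H hp with ⟨q, hq, hqp, hqH⟩ | ⟨k, hk⟩
    · -- two primes
      obtain ⟨z'', hz''H, hz''1, hz''c, j, hz''q⟩ := exists_central H hH hq hqH
      have hzpg : IsPGroup p (zpowers z) := by
        obtain ⟨j, hj⟩ := hzp
        have h1 : orderOf z ∣ p ^ j := orderOf_dvd_of_pow_eq_one hj
        obtain ⟨i, -, hi⟩ := (Nat.dvd_prime_pow hp).mp h1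
        exact IsPGroup.of_card (n := i) (by rw [Nat.card_zpowers, hi])
      obtain ⟨P, hP⟩ := hzpg.exists_le_sylow
      have hzP : z ∈ (P : Subgroup G) := hP (mem_zpowers z)
      have : Nontrivial (P : Subgroup G) := ⟨⟨⟨z, hzP⟩, 1, fun h => hz1 (congrArg Subtype.val h)⟩⟩
      have hcn := P.2.center_nontrivial
      obtain ⟨w, hw1⟩ := exists_ne (1 : Subgroup.center (P : Subgroup G))
      have hwc : ∀ y ∈ (P : Subgroup G), (w : (P : Subgroup G)).1 * y = y * (w : (P : Subgroup G)).1 := by
        intro y hy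
        have := (Subgroup.mem_center_iff.mp w.2) ⟨y, hy⟩
        exact (congrArg Subtype.val this).symm
      set w' : G := (w : (P : Subgroup G)).1 with hw'
      have hw'1 : w' ≠ 1 := by
        intro h
        apply hw1
        apply Subtype.ext
        apply Subtype.ext
        exact h
      have hw'H : w' ∈ H := cent_eq hCN H hmax hz1 hzc w' (hwc z hzP)
      have hPle : (P : Subgroup G) ≤ H := by
        intro y hy
        apply cent_eq hCN H hmax hz''1 hz''c y
        -- y and z'' both lie in the nilpotent centralizer of w'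
        have hD := hCN w' hw'1
        have hyD : y ∈ centralizer {w'} := mem_centralizer_singleton_iff.mpr (hwc y hy).symm
        have hz''D : z'' ∈ centralizer {w'} :=
          mem_centralizer_singleton_iff.mpr (hz''c w' hw'H)
        have hyp : ∃ k, y ^ p ^ k = 1 := by
          obtain ⟨k, hk⟩ := P.2 ⟨y, hy⟩
          exact ⟨k, by simpa using congrArg Subtype.val hk⟩
        have hz''p : ¬ p ∣ orderOf z'' := by
          intro hdvd
          have h1 : p ∣ q ^ j := hdvd.trans (orderOf_dvd_of_pow_eq_one hz''q)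
          exact hqp ((Nat.prime_dvd_prime_iff_eq hp hq).mp (hp.dvd_of_dvd_pow h1)).symm
        exact CN.commute_in_nilpotent hD hp hyD hz''D hyp hz''p
      have h1 : H.index ∣ (P : Subgroup G).index := Subgroup.index_dvd_of_le hPle
      exact P.not_dvd_index (hp2.trans h1)
    · -- `H` is a `p`-group, hence a Sylow subgroup
      have hHp : IsPGroup p H := IsPGroup.of_card hk
      obtain ⟨P, hP⟩ := hHp.exists_le_sylow
      have h1 := hmax _ P.2.isNilpotent hP
      rw [← h1] at hp2
      exact P.not_dvd_index hp2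
  · -- TI when `|H|` is not a prime power
    intro hnpp hne1 g hg
    obtain ⟨hgnil, hgmax, hgcard⟩ := conj_data H hH hmax g
    by_contra hne
    rw [Subgroup.eq_bot_iff_forall] at hne
    push Not at hne
    obtain ⟨x₀, hx₀, hx₀1⟩ := hne
    obtain ⟨r, n, hr, hxr⟩ := exists_prime_order_pow hx₀1
    set x := x₀ ^ n with hx
    have hxmem : x ∈ H ⊓ H.map (MulAut.conj g).toMonoidHom := Subgroup.pow_mem _ hx₀ n
    obtain ⟨hxH, hxHg⟩ := Subgroup.mem_inf.mp hxmem
    have hrH : r ∣ Nat.card H := hxr ▸ Subgroup.orderOf_dvd_natCard H hxH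
    rcases second_prime_or_pow H hr with ⟨q, hq, hqr, hqH⟩ | ⟨k, hk⟩
    · have hD1 : centralizer {x} ≤ H := cent_le hCN H hH hmax hxH hr hq hqr hxr hqH
      have hD2 : centralizer {x} ≤ H.map (MulAut.conj g).toMonoidHom :=
        cent_le hCN _ hgnil hgmax hxHg hr hq hqr hxr (hgcard.symm ▸ hqH)
      obtain ⟨z', hz'H, hz'1, hz'c, hz'r⟩ := exists_central H hH hr hrH
      obtain ⟨z, hzH, hz1, hzc, k, hzk⟩ := exists_central H hH hq hqH
      have hzr : ¬ r ∣ orderOf z := by
        intro hdvd
        have h1 : r ∣ q ^ k := hdvd.trans (orderOf_dvd_of_pow_eq_one hzk)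
        exact hqr ((Nat.prime_dvd_prime_iff_eq hr hq).mp (hr.dvd_of_dvd_pow h1)).symm
      have hzD : z ∈ centralizer {x} := mem_centralizer_singleton_iff.mpr (hzc x hxH)
      have hz'D : z' ∈ centralizer {x} := mem_centralizer_singleton_iff.mpr (hz'c x hxH)
      have hle : H.map (MulAut.conj g).toMonoidHom ≤ H :=
        CN.le_of_commute_parts hgnil hr (hD2 hzD) (hD2 hz'D) hzr hz'r
          (cent_eq hCN H hmax hz1 hzc) (cent_eq hCN H hmax hz'1 hz'c)
      exact hg (Subgroup.eq_of_le_of_card_ge hle (by rw [hgcard]))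
    · apply hnpp
      rw [hk]
      have hk0 : k ≠ 0 := by
        intro h0
        rw [h0, pow_zero] at hk
        exact hne1 hk
      exact hr.isPrimePow.pow hk0
  · -- centralizers when `H` is TI
    intro hTI x₀ hx₀H hx₀1
    obtain ⟨r, n, hr, hxr⟩ := exists_prime_order_pow hx₀1
    set x := x₀ ^ n with hx
    have hxH : x ∈ H := H.pow_mem hx₀H n
    have hx1 : x ≠ 1 := by
      intro h
      rw [h, orderOf_one] at hxr
      exact hr.ne_one hxr.symm
    have hcc : centralizer {x₀} ≤ centralizer {x} := by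
      intro y hy
      rw [mem_centralizer_singleton_iff] at hy ⊢
      exact ((Commute.pow_right (show Commute y x₀ from hy) n)).eq
    refine hcc.trans ?_
    have hrH : r ∣ Nat.card H := hxr ▸ Subgroup.orderOf_dvd_natCard H hxH
    rcases second_prime_or_pow H hr with ⟨q, hq, hqr, hqH⟩ | ⟨k, hk⟩
    · exact cent_le hCN H hH hmax hxH hr hq hqr hxr hqH
    · have := Fact.mk hr
      have hHr : IsPGroup r H := IsPGroup.of_card hk
      obtain ⟨z', hz'H, hz'1, hz'c, hz'r⟩ := exists_central H hH hr hrH
      have hD := hCN x hx1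
      have hz'D : z' ∈ centralizer {x} := mem_centralizer_singleton_iff.mpr (hz'c x hxH)
      -- the centralizer is an `r`-group
      have hDr : IsPGroup r (centralizer {x} : Subgroup G) := by
        intro ⟨y, hy⟩
        obtain ⟨a, b, ha, hb, hab, ⟨j, haj⟩, hbp⟩ := CN.exists_parts r hr y
        have hbD : b ∈ centralizer {x} := (zpowers_le.mpr hy) hb
        have hbH : b ∈ H := cent_eq hCN H hmax hz'1 hz'c b
          (CN.commute_in_nilpotent hD hr hz'D hbD hz'r hbp).symm
        have hb1 : b = 1 := by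
          obtain ⟨i, hi⟩ := hHr ⟨b, hbH⟩
          have h1 : orderOf b ∣ r ^ i := orderOf_dvd_of_pow_eq_one (by simpa using congrArg Subtype.val hi)
          obtain ⟨i', -, hi'⟩ := (Nat.dvd_prime_pow hr).mp h1
          rcases Nat.eq_zero_or_pos i' with h0 | hpos
          · rw [h0, pow_zero] at hi'
            exact orderOf_eq_one_iff.mp hi'
          · exact absurd (hi' ▸ dvd_pow_self r hpos.ne') hbp
        refine ⟨j, Subtype.ext ?_⟩
        rw [hb1, mul_one] at hab
        simpa [← hab] using haj
      -- the centralizer normalizes `H`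
      have hDN : (centralizer {x} : Subgroup G) ≤ Subgroup.normalizer (H : Set G) := by
        intro d hd
        have hmap : H.map (MulAut.conj d).toMonoidHom = H := by
          by_contra hne
          have h1 := hTI d hne
          have h2 : x ∈ H ⊓ H.map (MulAut.conj d).toMonoidHom := by
            refine Subgroup.mem_inf.mpr ⟨hxH, x, hxH, ?_⟩
            have : d * x = x * d := mem_centralizer_singleton_iff.mp hd
            simp [MulAut.conj_apply, this]
          rw [h1, Subgroup.mem_bot] at h2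
          exact hx1 h2
        rw [Subgroup.mem_set_normalizer_iff]
        intro h
        constructor
        · intro hh
          rw [← hmap]
          exact ⟨h, hh, by simp [MulAut.conj_apply]⟩
        · intro hh
          rw [← hmap] at hh
          obtain ⟨h', hh', he⟩ := hh
          have : h' = h := by
            have he' : d * h' * d⁻¹ = d * h * d⁻¹ := by simpa [MulAut.conj_apply] using he
            exact mul_left_cancel (mul_right_cancel he')
          exact this ▸ hh'
      have hsup : IsPGroup r (H ⊔ centralizer {x} : Subgroup G) :=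
        IsPGroup.to_sup_of_normal_left' hHr hDr hDN
      have h1 := hmax _ hsup.isNilpotent le_sup_left
      rw [← h1]
      exact le_sup_right

end Cfsg.Agent.S1477
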