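import Mathlib
import Cfsg.Statements.S1474
import Cfsg.Agent.S1477
import Cfsg.Agent.Helper95.FpfNilpotent
import Cfsg.Agent.Helper23.FittingHall
-- import your own Cfsg.Agent.* helpers here

set_option autoImplicit false
open Cfsg

namespace Cfsg.Agent.S1474

open Subgroup Cfsg.Agent.Helper95
open scoped Pointwise

section aux
variable {G : Type*} [Group G] [Finite G]

/-- An `r`-element of a normal nilpotent subgroup lies in `O_r(G)`. -/
lemma mem_pCore_of_mem_nilpotent_normal {N : Subgroup G} [N.Normal] (hN : Group.IsNilpotent N)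
    {r : ℕ} [hr : Fact r.Prime] {x : G} (hx : x ∈ N) (hxr : ∃ k, x ^ r ^ k = 1) :
    x ∈ Cfsg.pCore r G := by
  have := hN
  obtain ⟨j, hj⟩ := hxr
  have hzp : IsPGroup r (zpowers (⟨x, hx⟩ : N)) := by
    have h1 : orderOf (⟨x, hx⟩ : N) ∣ r ^ j :=
      orderOf_dvd_of_pow_eq_one (Subtype.ext (by simpa using hj))
    obtain ⟨i, -, hi⟩ := (Nat.dvd_prime_pow hr.out).mp h1
    exact IsPGroup.of_card (n := i) (by rw [Nat.card_zpowers, hi])
  obtain ⟨Q, hQ⟩ := hzp.exists_le_sylow
  have hQn : (Q : Subgroup N).Normal := inferInstance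
  have hQc : (Q : Subgroup N).Characteristic := Q.characteristic_of_normal hQn
  have hQG : ((Q : Subgroup N).map N.subtype).Normal := inferInstance
  have hle := Lib.le_pCore hQG (Q.2.map N.subtype)
  exact hle ⟨⟨x, hx⟩, hQ (mem_zpowers _), rfl⟩

/-- In a CN-group, an `s'`-element centralizing a nonidentity element of an `s`-subgroup `S`
centralizes `S`. -/
lemma cent_of_fix (hCN : Cfsg.IsCNGroup G) {s : ℕ} (hs : s.Prime) (S : Subgroup G)
    (hS : IsPGroup s S) {x y : G} (hxs : ¬ s ∣ orderOf x) (hyS : y ∈ S) (hy1 : y ≠ 1)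
    (hxy : x * y = y * x) : ∀ u ∈ S, x * u = u * x := by
  have := Fact.mk hs
  have : Nontrivial S := ⟨⟨⟨y, hyS⟩, 1, fun h => hy1 (congrArg Subtype.val h)⟩⟩
  have := hS.center_nontrivial
  obtain ⟨w, hw1⟩ := exists_ne (1 : Subgroup.center S)
  have hz1 : ((w : S) : G) ≠ 1 := by
    intro h
    apply hw1
    apply Subtype.ext
    apply Subtype.ext
    exact h
  have hzS : ((w : S) : G) ∈ S := (w : S).2
  have hzc : ∀ u ∈ S, ((w : S) : G) * u = u * ((w : S) : G) := by
    intro u hu
    have := (Subgroup.mem_center_iff.mp w.2) ⟨u, hu⟩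
    exact (congrArg Subtype.val this).symm
  have hpow : ∀ u ∈ S, ∃ k, u ^ s ^ k = 1 := by
    intro u hu
    obtain ⟨k, hk⟩ := hS ⟨u, hu⟩
    exact ⟨k, by simpa using congrArg Subtype.val hk⟩
  have hxz : ((w : S) : G) * x = x * ((w : S) : G) :=
    CN.commute_in_nilpotent (hCN y hy1) hs
      (mem_centralizer_singleton_iff.mpr (hzc y hyS))
      (mem_centralizer_singleton_iff.mpr hxy) (hpow _ hzS) hxs
  intro u hu
  exact (CN.commute_in_nilpotent (hCN _ hz1) hs
    (mem_centralizer_singleton_iff.mpr (hzc u hu).symm)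
    (mem_centralizer_singleton_iff.mpr hxz.symm) (hpow u hu) hxs).symm

/-- `fittingHall G` is nilpotent. -/
lemma fittingHall_nilpotent : Group.IsNilpotent (Cfsg.fittingHall G) := by
  have hle : Cfsg.fittingHall G ≤ Cfsg.fittingSubgroup G := by
    apply sSup_le
    intro N hN
    exact Lib.le_fittingSubgroup hN.1 hN.2.1
  exact S0581.nilpotent_of_le hle Lib.isNilpotent_fittingSubgroup

/-- Key lemma: elements of order prime to `|F|` act fixed-point-freely on `F = fittingHall G`. -/
lemma fpf_fittingHall (hCN : Cfsg.IsCNGroup G) {e : G} (he1 : e ≠ 1)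
    (hecop : (orderOf e).Coprime (Nat.card (Cfsg.fittingHall G))) {f : G}
    (hfF : f ∈ Cfsg.fittingHall G) (hef : e * f = f * e) : f = 1 := by
  by_contra hf1
  have hFnil := fittingHall_nilpotent (G := G)
  obtain ⟨r, n, hr, her⟩ := S1477.exists_prime_order_pow he1
  obtain ⟨s, m, hs, hfs⟩ := S1477.exists_prime_order_pow hf1
  have := Fact.mk hr
  have := Fact.mk hs
  have hf'F : f ^ m ∈ Cfsg.fittingHall G := Subgroup.pow_mem _ hfF m
  have hcomm : e ^ n * f ^ m = f ^ m * e ^ n := ((show Commute e f from hef).pow_pow n m).eq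
  have hrF : ¬ r ∣ Nat.card (Cfsg.fittingHall G) := by
    intro h
    have h1 : r ∣ orderOf e := her ▸ orderOf_pow_dvd n
    exact hr.one_lt.ne' (Nat.eq_one_of_dvd_coprimes hecop h1 h)
  have hsF : s ∣ Nat.card (Cfsg.fittingHall G) := hfs ▸ Subgroup.orderOf_dvd_natCard _ hf'F
  have hsr : s ≠ r := fun h => hrF (h ▸ hsF)
  have he'1 : e ^ n ≠ 1 := by
    intro h
    rw [h, orderOf_one] at her
    exact hr.ne_one her.symm
  have hf'1 : f ^ m ≠ 1 := by
    intro h
    rw [h, orderOf_one] at hfs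
    exact hs.ne_one hfs.symm
  have he's : ¬ s ∣ orderOf (e ^ n) := by
    rw [her]
    intro h
    exact hsr ((Nat.prime_dvd_prime_iff_eq hs hr).mp h)
  -- `f' ∈ O_s(G)`
  have hf'O : f ^ m ∈ Cfsg.pCore s G :=
    mem_pCore_of_mem_nilpotent_normal hFnil hf'F ⟨1, by rw [pow_one, ← hfs]; exact pow_orderOf_eq_one _⟩
  -- `e'` centralizes `O_s(G)`
  have hcent : ∀ u ∈ Cfsg.pCore s G, e ^ n * u = u * e ^ n :=
    cent_of_fix hCN hs _ (Lib.isPGroup_pCore s) he's hf'O hf'1 hcomm
  have hOsn : (Cfsg.pCore s G).Normal := by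
    have := Lib.pCore_characteristic (G := G) s
    infer_instance
  -- `C_G(O_s(G))` is a normal nilpotent subgroup containing `e'`
  have hCn : (centralizer (Cfsg.pCore s G : Set G)).Normal := Subgroup.normal_centralizer
  have hCnil : Group.IsNilpotent (centralizer (Cfsg.pCore s G : Set G)) := by
    refine S0581.nilpotent_of_le ?_ (hCN _ hf'1)
    intro g hg
    rw [mem_centralizer_singleton_iff]
    exact ((mem_centralizer_iff.mp hg) _ hf'O).symm
  have he'C : e ^ n ∈ centralizer (Cfsg.pCore s G : Set G) := by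
    rw [mem_centralizer_iff]
    intro u hu
    exact (hcent u hu).symm
  have he'O : e ^ n ∈ Cfsg.pCore r G :=
    mem_pCore_of_mem_nilpotent_normal hCnil he'C ⟨1, by rw [pow_one, ← her]; exact pow_orderOf_eq_one _⟩
  -- a Sylow `r`-subgroup `R` and a nonidentity element of `O_r(G) ∩ Z(R)`
  let R : Sylow r G := default
  have hOR : Cfsg.pCore r G ≤ R := Lib.pCore_le_sylow R
  have hOrn : (Cfsg.pCore r G).Normal := by
    have := Lib.pCore_characteristic (G := G) r
    infer_instance
  have hRnil : Group.IsNilpotent (R : Subgroup G) := R.2.isNilpotent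
  have hne : (Cfsg.pCore r G).subgroupOf (R : Subgroup G) ≠ ⊥ := by
    intro h
    rw [Subgroup.subgroupOf_eq_bot, disjoint_iff, inf_eq_left.mpr hOR] at h
    rw [h, Subgroup.mem_bot] at he'O
    exact he'1 he'O
  have h1 := Lib.normal_inf_center_ne_bot ((Cfsg.pCore r G).subgroupOf (R : Subgroup G)) hne
  rw [Ne, Subgroup.eq_bot_iff_forall] at h1
  push Not at h1
  obtain ⟨z, hz, hz1⟩ := h1
  obtain ⟨hzO, hzc⟩ := Subgroup.mem_inf.mp hz
  have hzO' : (z : G) ∈ Cfsg.pCore r G := Subgroup.mem_subgroupOf.mp hzO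
  have hz1' : (z : G) ≠ 1 := fun h => hz1 (Subtype.ext h)
  have hzR : ∀ u ∈ (R : Subgroup G), u * (z : G) = (z : G) * u := by
    intro u hu
    have := (Subgroup.mem_center_iff.mp hzc) ⟨u, hu⟩
    exact congrArg Subtype.val this
  -- `O_r(G)` and `F` commute elementwise
  have hdisj : Disjoint (Cfsg.pCore r G) (Cfsg.fittingHall G) := by
    apply Subgroup.disjoint_of_coprime_natCard
    obtain ⟨k, hk⟩ := (IsPGroup.iff_card.mp (Lib.isPGroup_pCore (G := G) r))
    rw [hk]
    exact Nat.Coprime.pow_left _ ((Nat.Prime.coprime_iff_not_dvd hr).mpr hrF)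
  have hzF : ∀ f₀ ∈ Cfsg.fittingHall G, f₀ * (z : G) = (z : G) * f₀ := by
    intro f₀ hf₀
    exact (Subgroup.commute_of_normal_of_disjoint _ _ hOrn inferInstance hdisj (z : G) f₀ hzO'
      hf₀).eq.symm
  -- `R` centralizes `F`
  have hD := hCN (z : G) hz1'
  have hRF : ∀ u ∈ (R : Subgroup G), ∀ f₀ ∈ Cfsg.fittingHall G, u * f₀ = f₀ * u := by
    intro u hu f₀ hf₀
    have hur : ∃ k, u ^ r ^ k = 1 := by
      obtain ⟨k, hk⟩ := R.2 ⟨u, hu⟩
      exact ⟨k, by simpa using congrArg Subtype.val hk⟩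
    have hf₀r : ¬ r ∣ orderOf f₀ := fun h =>
      hrF (h.trans (Subgroup.orderOf_dvd_natCard _ hf₀))
    exact CN.commute_in_nilpotent hD hr (mem_centralizer_singleton_iff.mpr (hzR u hu))
      (mem_centralizer_singleton_iff.mpr (hzF f₀ hf₀)) hur hf₀r
  -- `C_G(F)` is normal nilpotent, so `R ≤ O_r(G)`
  have hCFn : (centralizer (Cfsg.fittingHall G : Set G)).Normal := Subgroup.normal_centralizer
  have hCFnil : Group.IsNilpotent (centralizer (Cfsg.fittingHall G : Set G)) := by
    refine S0581.nilpotent_of_le ?_ (hCN _ hf'1)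
    intro g hg
    rw [mem_centralizer_singleton_iff]
    exact ((mem_centralizer_iff.mp hg) _ hf'F).symm
  have hRO : (R : Subgroup G) ≤ Cfsg.pCore r G := by
    intro u hu
    have hur : ∃ k, u ^ r ^ k = 1 := by
      obtain ⟨k, hk⟩ := R.2 ⟨u, hu⟩
      exact ⟨k, by simpa using congrArg Subtype.val hk⟩
    refine mem_pCore_of_mem_nilpotent_normal hCFnil ?_ hur
    rw [mem_centralizer_iff]
    intro f₀ hf₀
    exact (hRF u hu f₀ hf₀).symm
  have hReq : (R : Subgroup G) = Cfsg.pCore r G := le_antisymm hRO hOR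
  have hRn : (R : Subgroup G).Normal := hReq ▸ hOrn
  have hRle : (R : Subgroup G) ≤ Cfsg.fittingHall G :=
    Helper23.le_fittingHall hRn hRnil R.card_coprime_index
  have he'F : e ^ n ∈ Cfsg.fittingHall G := hRle (hReq ▸ he'O)
  exact hrF (her ▸ Subgroup.orderOf_dvd_natCard _ he'F)

end aux

/-- Let G be a finite group in which every non-identity element has nilpotent centralizer, not itself nilpotent, and having a nontrivial normal Sylow p-subgroup for some prime p. Let H be the largest normal nilpotent Hall subgroup of G. Then H is a nontrivial proper normal subgroup with a complement E that is a Frobenius complement in G (no non-identity element of E centralizes a non-identity element of H), and G/H is nilpotent. -/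
theorem result {G : Type*} [Group G] [Finite G] (hCN : Cfsg.IsCNGroup G) (hnn : ¬ Group.IsNilpotent G) (p : ℕ) [Fact p.Prime] (P : Sylow p G)
    (hP1 : (P : Subgroup G) ≠ ⊥) (hPn : (P : Subgroup G).Normal) :
    Cfsg.fittingHall G ≠ ⊥ ∧ Cfsg.fittingHall G ≠ ⊤ ∧
      (∃ E : Subgroup G, Subgroup.IsComplement' (Cfsg.fittingHall G) E ∧ Cfsg.IsFrobeniusComplement E ∧
        ∀ e ∈ E, e ≠ 1 → Cfsg.fittingHall G ⊓ Subgroup.centralizer ({e} : Set G) = ⊥) ∧
      Group.IsNilpotent (G ⧸ Cfsg.fittingHall G) := by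
  have hFnil := fittingHall_nilpotent (G := G)
  have hFcop := Helper23.fittingHall_coprime G
  have hPF : (P : Subgroup G) ≤ Cfsg.fittingHall G :=
    Helper23.le_fittingHall hPn P.2.isNilpotent P.card_coprime_index
  have hFbot : Cfsg.fittingHall G ≠ ⊥ := fun h => hP1 (le_bot_iff.mp (h ▸ hPF))
  have hFtop : Cfsg.fittingHall G ≠ ⊤ := by
    intro h
    apply hnn
    rw [h] at hFnil
    exact Group.nilpotent_of_mulEquiv Subgroup.topEquiv
  obtain ⟨E, hE⟩ := Subgroup.exists_right_complement'_of_coprime hFcop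
  have hEcard : (Cfsg.fittingHall G).index = Nat.card E := hE.symm.index_eq_card
  have hdisj : Disjoint (Cfsg.fittingHall G) E := hE.disjoint
  have hfpf : ∀ e ∈ E, e ≠ 1 → Cfsg.fittingHall G ⊓ centralizer ({e} : Set G) = ⊥ := by
    intro e heE he1
    rw [Subgroup.eq_bot_iff_forall]
    intro f hf
    obtain ⟨hfF, hfc⟩ := Subgroup.mem_inf.mp hf
    have hecop : (orderOf e).Coprime (Nat.card (Cfsg.fittingHall G)) := by
      have h1 : orderOf e ∣ Nat.card E := Subgroup.orderOf_dvd_natCard _ heE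
      rw [← hEcard] at h1
      exact Nat.Coprime.coprime_dvd_left h1 hFcop.symm
    exact fpf_fittingHall hCN he1 hecop hfF (mem_centralizer_singleton_iff.mp hfc).symm
  have hEbot : E ≠ ⊥ := by
    intro h
    have h1 := hE.card_mul_card
    rw [h, Subgroup.card_bot, mul_one] at h1
    exact hFtop (Subgroup.eq_top_of_card_eq _ h1)
  have hEtop : E ≠ ⊤ := by
    intro h
    have h1 := hE.card_mul_card
    rw [h, Subgroup.card_top] at h1
    have hpos : 0 < Nat.card G := Nat.card_pos
    have h2 : Nat.card (Cfsg.fittingHall G) = 1 :=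
      Nat.eq_of_mul_eq_mul_right hpos (h1.trans (one_mul _).symm)
    exact hFbot (Subgroup.card_eq_one.mp h2)
  have hTI : ∀ g : G, g ∉ E → E ⊓ (MulAut.conj g • E) = ⊥ := by
    intro g hg
    rw [Subgroup.eq_bot_iff_forall]
    intro x hx
    obtain ⟨hxE, hxgE⟩ := Subgroup.mem_inf.mp hx
    by_contra hx1
    obtain ⟨⟨f, e₀⟩, hfe⟩ := hE.2 g
    simp only at hfe
    obtain ⟨y, hyE, hyx⟩ := (Subgroup.mem_smul_pointwise_iff_exists x (MulAut.conj g) E).mp hxgE
    rw [MulAut.smul_def, MulAut.conj_apply, ← hfe] at hyx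
    -- `x = f y' f⁻¹` with `y' = e₀ y e₀⁻¹ ∈ E`
    have hy'E : (e₀ : G) * y * (e₀ : G)⁻¹ ∈ E := E.mul_mem (E.mul_mem e₀.2 hyE) (E.inv_mem e₀.2)
    have hx2 : x = (f : G) * ((e₀ : G) * y * (e₀ : G)⁻¹) * (f : G)⁻¹ := by
      rw [← hyx]
      group
    set y' := (e₀ : G) * y * (e₀ : G)⁻¹ with hy'
    have h1 : x * y'⁻¹ ∈ Cfsg.fittingHall G := by
      have e1 : x * y'⁻¹ = (f : G) * (y' * (f : G)⁻¹ * y'⁻¹) := by
        rw [hx2]
        group
      rw [e1]
      exact Subgroup.mul_mem _ f.2
        ((Cfsg.fittingHall_normal G).conj_mem _ (Subgroup.inv_mem _ f.2) y')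
    have h2 : x * y'⁻¹ ∈ E := E.mul_mem hxE (E.inv_mem hy'E)
    have h3 : x * y'⁻¹ = 1 := by
      have := (Subgroup.disjoint_def.mp hdisj) h1 h2
      exact this
    have h4 : x = y' := by
      rw [mul_inv_eq_one] at h3
      exact h3
    -- so `f` commutes with `x`
    have h5 : (f : G) * x = x * (f : G) := by
      have : x = (f : G) * x * (f : G)⁻¹ := by
        conv_lhs => rw [hx2, ← h4]
      calc (f : G) * x = (f : G) * x * (f : G)⁻¹ * (f : G) := by group
        _ = x * (f : G) := by rw [← this]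
    have h6 : (f : G) ∈ Cfsg.fittingHall G ⊓ centralizer ({x} : Set G) :=
      Subgroup.mem_inf.mpr ⟨f.2, mem_centralizer_singleton_iff.mpr h5⟩
    rw [hfpf x hxE hx1, Subgroup.mem_bot] at h6
    apply hg
    rw [← hfe, h6, one_mul]
    exact e₀.2
  have hEnil : Group.IsNilpotent E := by
    set Z : Subgroup G := (P : Subgroup G) ⊓ centralizer ((P : Subgroup G) : Set G) with hZ
    have hZn : Z.Normal := by
      have : (centralizer ((P : Subgroup G) : Set G)).Normal := Subgroup.normal_centralizer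
      exact Subgroup.normal_inf_normal _ _
    have hZcomm : ∀ a b : Z, a * b = b * a := by
      intro a b
      apply Subtype.ext
      have ha := (Subgroup.mem_inf.mp a.2).2
      have hb := (Subgroup.mem_inf.mp b.2).1
      exact ((mem_centralizer_iff.mp ha) _ hb).symm
    have hZnt : Nontrivial Z := by
      have : Nontrivial (P : Subgroup G) := (Subgroup.nontrivial_iff_ne_bot _).mpr hP1
      have := P.2.center_nontrivial
      obtain ⟨w, hw1⟩ := exists_ne (1 : Subgroup.center (P : Subgroup G))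
      have hwZ : ((w : (P : Subgroup G)) : G) ∈ Z := by
        refine Subgroup.mem_inf.mpr ⟨(w : (P : Subgroup G)).2, ?_⟩
        rw [mem_centralizer_iff]
        intro u hu
        have := (Subgroup.mem_center_iff.mp w.2) ⟨u, hu⟩
        exact congrArg Subtype.val this
      refine ⟨⟨⟨_, hwZ⟩, 1, ?_⟩⟩
      intro h
      apply hw1
      apply Subtype.ext
      apply Subtype.ext
      have := congrArg Subtype.val h
      simpa using this
    have hZF : Z ≤ Cfsg.fittingHall G := inf_le_left.trans hPF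
    refine Fpf.nilpotent_of_fpf_cn' hZcomm E ((MulAut.conjNormal (H := Z)).comp E.subtype) ?_ ?_
      (Fpf.cn_subgroup hCN E)
    · intro e he1 v hv
      have he1' : (e : G) ≠ 1 := fun h => he1 (Subtype.ext h)
      have h1 : (e : G) * v * (e : G)⁻¹ = v := by
        have := congrArg Subtype.val hv
        simpa [MulAut.conjNormal_apply] using this
      have h2 : (v : G) ∈ Cfsg.fittingHall G ⊓ centralizer ({(e : G)} : Set G) := by
        refine Subgroup.mem_inf.mpr ⟨hZF v.2, mem_centralizer_singleton_iff.mpr ?_⟩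
        calc (v : G) * e = (e : G) * v * (e : G)⁻¹ * e := by rw [h1]
          _ = e * v := by group
      rw [hfpf e e.2 he1', Subgroup.mem_bot] at h2
      exact Subtype.ext h2
    · rw [← hEcard]
      exact Nat.Coprime.coprime_dvd_right (Subgroup.card_dvd_of_le hZF) hFcop.symm
  refine ⟨hFbot, hFtop, ⟨E, hE, ⟨hEbot, hEtop, hTI⟩, hfpf⟩, ?_⟩
  exact Group.nilpotent_of_mulEquiv hE.symm.QuotientMulEquiv.symm

end Cfsg.Agent.S1474
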