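import Cfsg.Statements.S1483
import Cfsg.Agent.Helper9.CNSolv11

set_option autoImplicit false
open Cfsg

namespace Cfsg.Agent.S1483

open Cfsg.Agent.Helper9 Cfsg.Agent.Helper48

universe u

/-- Two maximal nilpotent subgroups are conjugate or of coprime orders. -/
theorem conj_or_coprime {G : Type u} [Group G] [Finite G] (hG : Cfsg.IsMinSimpleOddOrder G)
    (hCN : Cfsg.IsCNGroup G) {H₁ H₂ : Subgroup G} (h₁ : MaxNil H₁) (h₂ : MaxNil H₂) :
    (∃ g : G, H₂ = conjSub g H₁) ∨ (Nat.card H₁).Coprime (Nat.card H₂) := by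
  by_cases hcop : (Nat.card H₁).Coprime (Nat.card H₂)
  · exact Or.inr hcop
  · left
    obtain ⟨r, hr, hr1, hr2⟩ := Nat.Prime.not_coprime_iff_dvd.mp hcop
    haveI := Fact.mk hr
    obtain ⟨hc1, -, -⟩ := S1477.result hCN H₁ h₁.1 h₁.2
    obtain ⟨hc2, -, -⟩ := S1477.result hCN H₂ h₂.1 h₂.2
    obtain ⟨R₁, hR₁H, hR₁1⟩ := exists_sylow_le_of_coprime_index H₁ hc1 hr1
    obtain ⟨R₂, hR₂H, hR₂1⟩ := exists_sylow_le_of_coprime_index H₂ hc2 hr2
    obtain ⟨g, hg⟩ := MulAction.exists_smul_eq G R₁ R₂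
    refine ⟨g, ?_⟩
    symm
    apply (h₁.conj g).eq_of_inf_ne_bot hG hCN h₂
    intro hbot
    apply hR₂1
    rw [eq_bot_iff, ← hbot]
    refine le_inf ?_ hR₂H
    intro y hy
    rw [← hg, Sylow.coe_subgroup_smul, Subgroup.mem_pointwise_smul_iff_inv_smul_mem] at hy
    rw [mem_conjSub]
    apply hR₁H
    simpa [MulAut.smul_def, mul_assoc] using hy

lemma exists_pow_of_isPGroup_zpowers {G : Type u} [Group G] {p : ℕ} {x : G}
    (hx : IsPGroup p (Subgroup.zpowers x)) : ∃ k, x ^ p ^ k = 1 := by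
  obtain ⟨k, hk⟩ := hx ⟨x, Subgroup.mem_zpowers x⟩
  exact ⟨k, by simpa using congrArg Subtype.val hk⟩

lemma isPGroup_zpowers_of_pow {G : Type u} [Group G] {p : ℕ} {x : G}
    (hx : ∃ k, x ^ p ^ k = 1) : IsPGroup p (Subgroup.zpowers x) := by
  obtain ⟨k, hk⟩ := hx
  rintro ⟨w, hw⟩
  obtain ⟨i, rfl⟩ := Subgroup.mem_zpowers_iff.mp hw
  refine ⟨k, Subtype.ext ?_⟩
  show (x ^ i) ^ p ^ k = 1
  rw [← zpow_natCast, ← zpow_mul, mul_comm, zpow_mul, zpow_natCast, hk, one_zpow]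

/-- A nonidentity `q`-element of a subgroup forces `q ∣ |H|`. -/
lemma dvd_card_of_mem {G : Type u} [Group G] [Finite G] {q : ℕ} (hq : q.Prime) {H : Subgroup G}
    {y : G} (hyH : y ∈ H) (hy1 : y ≠ 1) (hy : ∃ k, y ^ q ^ k = 1) : q ∣ Nat.card H := by
  obtain ⟨k, hk⟩ := hy
  have h1 : orderOf y ∣ q ^ k := orderOf_dvd_of_pow_eq_one hk
  obtain ⟨j, -, hj⟩ := (Nat.dvd_prime_pow hq).mp h1
  have hj0 : j ≠ 0 := by
    rintro rfl
    rw [pow_zero, orderOf_eq_one_iff] at hj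
    exact hy1 hj
  have h2 : orderOf y ∣ Nat.card H := by
    have := orderOf_dvd_natCard (⟨y, hyH⟩ : H)
    rwa [Subgroup.orderOf_mk] at this
  exact (hj ▸ dvd_pow_self q hj0).trans h2

/-- Let G be a minimal simple group of odd order in which every non-identity element has nilpotent centralizer. Then any two nilpotent subgroups each contained in no larger nilpotent subgroup are either conjugate or of coprime orders; and for primes p, q, r: if some elements x, y ≠ 1 of p-power and q-power order commute, and some elements y', z ≠ 1 of q-power and r-power order commute, then some elements of p-power and r-power order, both ≠ 1, commute. -/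
theorem result {G : Type*} [Group G] [Finite G] (hG : Cfsg.IsMinSimpleOddOrder G) (hCN : Cfsg.IsCNGroup G) :
    (∀ H₁ H₂ : Subgroup G, (Group.IsNilpotent ↥H₁ ∧ ∀ L : Subgroup G, Group.IsNilpotent L → H₁ ≤ L → L = H₁) → (Group.IsNilpotent ↥H₂ ∧ ∀ L : Subgroup G, Group.IsNilpotent L → H₂ ≤ L → L = H₂) → (∃ g : G, H₂ = H₁.map (MulAut.conj g).toMonoidHom) ∨ (Nat.card H₁).Coprime (Nat.card H₂)) ∧
      ∀ (p q r : ℕ), p.Prime → q.Prime → r.Prime → ∀ (x y y' z : G), x ≠ 1 → y ≠ 1 → y' ≠ 1 → z ≠ 1 →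
        IsPGroup p (Subgroup.zpowers x) → IsPGroup q (Subgroup.zpowers y) → IsPGroup q (Subgroup.zpowers y') → IsPGroup r (Subgroup.zpowers z) →
        x * y = y * x → y' * z = z * y' →
        ∃ x' z' : G, x' ≠ 1 ∧ z' ≠ 1 ∧ IsPGroup p (Subgroup.zpowers x') ∧ IsPGroup r (Subgroup.zpowers z') ∧ x' * z' = z' * x' := by
  constructor
  · intro H₁ H₂ h₁ h₂
    exact conj_or_coprime hG hCN h₁ h₂
  · intro p q r hp hq hr x y y' z hx1 hy1 hy'1 hz1 hxp hyq hy'q hzr hxy hy'z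
    by_cases hpr : p = r
    · subst hpr
      exact ⟨x, x, hx1, hx1, hxp, hxp, rfl⟩
    · -- maximal nilpotent subgroups containing `C_G(y)` and `C_G(y')`
      obtain ⟨H₁, hCH₁, h₁⟩ := exists_maxNil_ge (hCN y hy1)
      obtain ⟨H₂, hCH₂, h₂⟩ := exists_maxNil_ge (hCN y' hy'1)
      have hyH₁ : y ∈ H₁ := hCH₁ (Subgroup.mem_centralizer_singleton_iff.mpr rfl)
      have hxH₁ : x ∈ H₁ := hCH₁ (Subgroup.mem_centralizer_singleton_iff.mpr hxy)
      have hy'H₂ : y' ∈ H₂ := hCH₂ (Subgroup.mem_centralizer_singleton_iff.mpr rfl)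
      have hzH₂ : z ∈ H₂ := hCH₂ (Subgroup.mem_centralizer_singleton_iff.mpr hy'z.symm)
      have hq1 : q ∣ Nat.card H₁ := dvd_card_of_mem hq hyH₁ hy1 (exists_pow_of_isPGroup_zpowers hyq)
      have hq2 : q ∣ Nat.card H₂ :=
        dvd_card_of_mem hq hy'H₂ hy'1 (exists_pow_of_isPGroup_zpowers hy'q)
      rcases conj_or_coprime hG hCN h₁ h₂ with ⟨g, hg⟩ | hcop
      · have hz' : g⁻¹ * z * g ∈ H₁ := by
          rw [hg] at hzH₂
          exact mem_conjSub.mp hzH₂
        obtain ⟨k, hk⟩ := exists_pow_of_isPGroup_zpowers hzr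
        have hz'r : (g⁻¹ * z * g) ^ r ^ k = 1 := by
          have e : g⁻¹ * z * g = g⁻¹ * z * g⁻¹⁻¹ := by rw [inv_inv]
          rw [e, conj_pow, hk]
          group
        have hz'1 : g⁻¹ * z * g ≠ 1 := by
          intro e
          apply hz1
          have : z = g * (g⁻¹ * z * g) * g⁻¹ := by group
          rw [this, e]
          group
        refine ⟨x, g⁻¹ * z * g, hx1, hz'1, hxp, isPGroup_zpowers_of_pow ⟨k, hz'r⟩, ?_⟩
        apply Helper95.CN.commute_in_nilpotent h₁.1 hp hxH₁ hz'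
          (exists_pow_of_isPGroup_zpowers hxp)
        intro hdvd
        have h2 : p ∣ r ^ k := hdvd.trans (orderOf_dvd_of_pow_eq_one hz'r)
        exact hpr ((Nat.prime_dvd_prime_iff_eq hp hr).mp (hp.dvd_of_dvd_pow h2))
      · exact absurd (Nat.eq_one_of_dvd_coprimes hcop hq1 hq2) hq.ne_one

end Cfsg.Agent.S1483
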