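-- Statement S2278 (row 2278): SL_3(F) is generated by two conjugate regular unipotent elements.
import Cfsg.Statements.S2278
import Cfsg.Agent.Helper46.RuC
import Cfsg.Agent.Helper46.RuI
import Cfsg.Agent.Helper46.RuJ

set_option autoImplicit false
open Cfsg

namespace Cfsg.Agent.S2278

/-- Let F be a finite field. Then SL_3(F) is generated by two conjugate regular unipotent elements: there are u with u − 1 nilpotent and (u − 1)² ≠ 0, and g, such that u and g u g⁻¹ generate SL_3(F). -/
theorem result {F : Type*} [Field F] [Fintype F] :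
    ∃ u g : Matrix.SpecialLinearGroup (Fin 3) F, IsNilpotent ((u : Matrix (Fin 3) (Fin 3) F) - 1) ∧ ((u : Matrix (Fin 3) (Fin 3) F) - 1) ^ (3 - 1) ≠ 0 ∧
      Subgroup.closure ({u, g * u * g⁻¹} : Set (Matrix.SpecialLinearGroup (Fin 3) F)) = ⊤ := by
  obtain ⟨p, hchar⟩ := CharP.exists F
  haveI : CharP F p := hchar
  haveI : Fact p.Prime := ⟨CharP.char_is_prime F p⟩
  by_cases hp : p = 2
  · subst hp
    exact Cfsg.Agent.Helper46.Ru.char_two_case F
  · obtain ⟨a, s, ha, hs, hb', hsa, hb, hgen, h9⟩ := Cfsg.Agent.Helper46.Ru.exists_params (F := F) p hp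
    exact Cfsg.Agent.Helper46.Ru.odd_case_of_params
      (Cfsg.Agent.Helper46.Ru.two_ne_zero_of_char p hp) a s ha hs hb' hsa hb hgen h9

end Cfsg.Agent.S2278
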