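-- Statement S5421: large extraspecial subgroup from an involution b of Q - Z with Z inside O_2(C(b)).
import Cfsg.Statements.S5421
import Cfsg.Agent.Helper90.Invert

set_option autoImplicit false
open Cfsg
open scoped commutatorElement

namespace Cfsg.Agent.S5421

/-- Let Q be an extraspecial 2-subgroup of the finite group G whose centralizer in G is its centre Z and which is normal in the centralizer of Z. If some involution b of Q outside Z has Z inside the largest normal 2-subgroup of the centralizer of b, then Q is a large extraspecial 2-subgroup of G. -/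
theorem result {G : Type*} [Group G] [Finite G] (Q : Subgroup G) (hL1 : Cfsg.IsExtraspecial 2 ↥Q) (hL2 : Subgroup.centralizer (Q : Set G) = ((Subgroup.center ↥Q).map Q.subtype)) (hL3 : Subgroup.centralizer (((Subgroup.center ↥Q).map Q.subtype) : Set G) ≤ Subgroup.normalizer (Q : Set G)) (b : G) (hbQ : b ∈ Q) (hbZ : b ∉ ((Subgroup.center ↥Q).map Q.subtype)) (hb : orderOf b = 2) (hZ : ((Subgroup.center ↥Q).map Q.subtype) ≤ (Cfsg.pCore 2 ↥(Subgroup.centralizer ({b} : Set G))).map (Subgroup.centralizer ({b} : Set G)).subtype) : Cfsg.IsLargeExtraspecial Q := by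
  refine ⟨hL1, hL2, hL3, ?_⟩
  intro K hK hQK
  have hQ2 : IsPGroup 2 Q := hL1.1.1
  have hZcard : Nat.card ((Subgroup.center ↥Q).map Q.subtype) = 2 := by
    rw [Helper90.card_center_map, hL1.2]
  have hZQ : (Subgroup.center ↥Q).map Q.subtype ≤ Q := Helper90.center_map_le Q
  -- a nontrivial element `z` of `Z`
  obtain ⟨z, hzZ, hz1⟩ : ∃ z ∈ (Subgroup.center ↥Q).map Q.subtype, z ≠ 1 := by
    obtain ⟨x, y, hxy, -⟩ := Nat.card_eq_two_iff.mp hZcard
    by_cases hx : (x : G) = 1
    · refine ⟨y, y.2, fun hy => hxy ?_⟩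
      exact Subtype.ext (hx.trans hy.symm)
    · exact ⟨x, x.2, hx⟩
  have hzQ : z ∈ Q := hZQ hzZ
  have hzz : z * z = 1 := by
    by_contra hne
    have := Helper90.eq_of_card_two hZcard (Subgroup.mul_mem _ hzZ hzZ) hzZ hne hz1
    apply hz1
    calc z = z⁻¹ * (z * z) := by group
      _ = z⁻¹ * z := by rw [this]
      _ = 1 := by group
  have hZall : ∀ w ∈ (Subgroup.center ↥Q).map Q.subtype, w = 1 ∨ w = z := by
    intro w hw
    by_cases hw1 : w = 1
    · exact Or.inl hw1
    · exact Or.inr (Helper90.eq_of_card_two hZcard hw hzZ hw1 hz1)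
  -- `Q` centralizes `Z`
  have hQCZ : Q ≤ Subgroup.centralizer (((Subgroup.center ↥Q).map Q.subtype : Subgroup G) : Set G) := by
    intro q hq
    rw [Subgroup.mem_centralizer_iff]
    intro w hw
    exact (((Helper90.mem_center_map_iff Q w).mp hw).2 q hq).symm
  -- `C_K(Z)` is trivial
  have hCKZ : K ⊓ Subgroup.centralizer (((Subgroup.center ↥Q).map Q.subtype : Subgroup G) : Set G) = ⊥ := by
    apply Helper90.eq_bot_of_odd_of_normalizes hQ2 ?_ ?_ (inf_le_right.trans hL3) (hL2.le.trans hZQ)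
    · exact Odd.of_dvd_nat hK (Subgroup.card_dvd_of_le inf_le_left)
    · intro q hq
      have h1 := Subgroup.mem_normalizer_iff.mp (hQK hq)
      have h2 := Subgroup.mem_normalizer_iff.mp (Subgroup.le_normalizer (hQCZ hq))
      rw [Subgroup.mem_normalizer_iff]
      intro x
      simp only [Subgroup.mem_inf]
      exact and_congr (h1 x) (h2 x)
  have hz_norm : ∀ k ∈ K, z * k * z⁻¹ ∈ K := fun k hk =>
    (Subgroup.mem_normalizer_iff.mp (hQK hzQ) k).mp hk
  have hz_fix : ∀ k ∈ K, z * k * z⁻¹ = k → k = 1 := by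
    intro k hk hfix
    have : k ∈ K ⊓ Subgroup.centralizer (((Subgroup.center ↥Q).map Q.subtype : Subgroup G) : Set G) := by
      refine Subgroup.mem_inf.mpr ⟨hk, ?_⟩
      rw [Subgroup.mem_centralizer_iff]
      intro w hw
      rcases hZall w hw with rfl | rfl
      · simp
      · calc w * k = (w * k * w⁻¹) * w := by group
          _ = k * w := by rw [hfix]
    rw [hCKZ] at this
    exact Subgroup.mem_bot.mp this
  have hz_inv : ∀ k ∈ K, z * k * z⁻¹ = k⁻¹ := Helper90.inverts_of_fixed_point_free hzz hz_norm hz_fix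
  -- `b`
  have hbb : b * b = 1 := by
    have := pow_orderOf_eq_one b
    rw [hb, pow_two] at this
    exact this
  have hb_norm : ∀ k ∈ K, b * k * b⁻¹ ∈ K := fun k hk =>
    (Subgroup.mem_normalizer_iff.mp (hQK hbQ) k).mp hk
  have hP2 : IsPGroup 2 ((Cfsg.pCore 2 ↥(Subgroup.centralizer ({b} : Set G))).map
      (Subgroup.centralizer ({b} : Set G)).subtype) :=
    (Helper90.pCore_isPGroup 2 _).map _
  have hPK := Helper90.inf_eq_bot_of_two_group_of_odd hP2 hK
  have hb_fix : ∀ k ∈ K, b * k * b⁻¹ = k → k = 1 := by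
    intro k hk hfix
    apply hz_fix k hk
    -- `[z, k]` lies in `O_2(C(b)) ∩ K`
    obtain ⟨z', hz'P, hz'z⟩ := hZ hzZ
    have hkC : k ∈ Subgroup.centralizer ({b} : Set G) := by
      rw [Subgroup.mem_centralizer_iff]
      intro y hy
      rw [Set.mem_singleton_iff] at hy
      subst hy
      calc y * k = (y * k * y⁻¹) * y := by group
        _ = k * y := by rw [hfix]
    have hn : (Cfsg.pCore 2 ↥(Subgroup.centralizer ({b} : Set G))).Normal := inferInstance
    have h1 : z' * ((⟨k, hkC⟩ : Subgroup.centralizer ({b} : Set G)) * z'⁻¹ * (⟨k, hkC⟩ : Subgroup.centralizer ({b} : Set G))⁻¹)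
        ∈ Cfsg.pCore 2 ↥(Subgroup.centralizer ({b} : Set G)) :=
      Subgroup.mul_mem _ hz'P (hn.conj_mem _ (Subgroup.inv_mem _ hz'P) _)
    have h2 : z * k * z⁻¹ * k⁻¹ ∈ (Cfsg.pCore 2 ↥(Subgroup.centralizer ({b} : Set G))).map
        (Subgroup.centralizer ({b} : Set G)).subtype := by
      refine ⟨_, h1, ?_⟩
      simp only [Subgroup.subtype_apply, Subgroup.coe_mul, Subgroup.coe_inv]
      have : (z' : G) = z := hz'z
      rw [this]
      group
    have h3 : z * k * z⁻¹ * k⁻¹ ∈ K := K.mul_mem (hz_norm k hk) (K.inv_mem hk)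
    have h4 : z * k * z⁻¹ * k⁻¹ ∈ (Cfsg.pCore 2 ↥(Subgroup.centralizer ({b} : Set G))).map
        (Subgroup.centralizer ({b} : Set G)).subtype ⊓ K := ⟨h2, h3⟩
    rw [hPK, Subgroup.mem_bot] at h4
    calc z * k * z⁻¹ = (z * k * z⁻¹ * k⁻¹) * k := by group
      _ = k := by rw [h4, one_mul]
  have hb_inv : ∀ k ∈ K, b * k * b⁻¹ = k⁻¹ := Helper90.inverts_of_fixed_point_free hbb hb_norm hb_fix
  -- an element `q` of `Q` with `q b q⁻¹ = z b`
  obtain ⟨q, hqQ, hqb⟩ : ∃ q ∈ Q, q * b ≠ b * q := by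
    by_contra hcon
    apply hbZ
    refine (Helper90.mem_center_map_iff Q b).mpr ⟨hbQ, fun q hq => ?_⟩
    by_contra hne
    exact hcon ⟨q, hq, hne⟩
  have hcomm : q * b * q⁻¹ * b⁻¹ ∈ (Subgroup.center ↥Q).map Q.subtype := by
    have h1 : ⁅(⟨q, hqQ⟩ : Q), (⟨b, hbQ⟩ : Q)⁆ ∈ commutator Q :=
      Subgroup.commutator_mem_commutator (Subgroup.mem_top _) (Subgroup.mem_top _)
    rw [hL1.1.2.2] at h1
    refine ⟨_, h1, ?_⟩
    simp [commutatorElement_def]
  have hcomm1 : q * b * q⁻¹ * b⁻¹ ≠ 1 := by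
    intro e
    apply hqb
    calc q * b = (q * b * q⁻¹ * b⁻¹) * (b * q) := by group
      _ = b * q := by rw [e, one_mul]
  have hqbz : q * b * q⁻¹ = z * b := by
    have := Helper90.eq_of_card_two hZcard hcomm hzZ hcomm1 hz1
    calc q * b * q⁻¹ = (q * b * q⁻¹ * b⁻¹) * b := by group
      _ = z * b := by rw [this]
  -- conclusion
  rw [Subgroup.eq_bot_iff_forall]
  intro k hk
  have hk' : q⁻¹ * k * q ∈ K := by
    have := (Subgroup.mem_normalizer_iff.mp (Subgroup.inv_mem _ (hQK hqQ)) k).mp hk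
    simpa using this
  have hzbk : (z * b) * k * (z * b)⁻¹ = k := by
    calc (z * b) * k * (z * b)⁻¹ = z * (b * k * b⁻¹) * z⁻¹ := by group
      _ = z * k⁻¹ * z⁻¹ := by rw [hb_inv k hk]
      _ = (k⁻¹)⁻¹ := hz_inv k⁻¹ (K.inv_mem hk)
      _ = k := inv_inv k
  have hfix' : b * (q⁻¹ * k * q) * b⁻¹ = q⁻¹ * k * q := by
    calc b * (q⁻¹ * k * q) * b⁻¹ = q⁻¹ * ((q * b * q⁻¹) * k * (q * b * q⁻¹)⁻¹) * q := by group
      _ = q⁻¹ * k * q := by rw [hqbz, hzbk]
  have := hb_fix _ hk' hfix'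
  calc k = q * (q⁻¹ * k * q) * q⁻¹ := by group
    _ = 1 := by rw [this]; group

end Cfsg.Agent.S5421
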