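-- Statement S5422: a conjugate of the centre inside Q (not normalizing Z) gives Z ≤ Q^g, N(V)/C(V) of order 6, Q large.
import Cfsg.Statements.S5422
import Cfsg.Agent.S5421
import Cfsg.Agent.Helper90.Pair
import Cfsg.Agent.Helper90.OrbitIndex

set_option autoImplicit false
open Cfsg

namespace Cfsg.Agent.S5422

open Cfsg.Agent.Helper90 in
/-- Let Q be an extraspecial 2-subgroup of the finite group G whose centralizer in G is its centre Z and which is normal in the centralizer of Z; suppose Q has width at least 2 (order 2^(2w+1) with w ≥ 2) and g is an element of G not normalizing Z with g Z g⁻¹ inside Q. Then Z lies inside g Q g⁻¹; writing V for the subgroup generated by Z and g Z g⁻¹ (a four-group), the normalizer of V induces on V its full automorphism group, that is, the centralizer of V has index 6 in the normalizer of V; and Q is a large extraspecial 2-subgroup of G. -/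
theorem result {G : Type*} [Group G] [Finite G] (Q : Subgroup G) (hL1 : Cfsg.IsExtraspecial 2 ↥Q) (hL2 : Subgroup.centralizer (Q : Set G) = ((Subgroup.center ↥Q).map Q.subtype)) (hL3 : Subgroup.centralizer (((Subgroup.center ↥Q).map Q.subtype) : Set G) ≤ Subgroup.normalizer (Q : Set G)) (w : ℕ) (hw : 2 ≤ w) (hcard : Nat.card ↥Q = 2 ^ (2 * w + 1)) (g : G) (hg : g ∉ Subgroup.normalizer (((Subgroup.center ↥Q).map Q.subtype) : Set G)) (hZg : (((Subgroup.center ↥Q).map Q.subtype)).map (MulAut.conj g).toMonoidHom ≤ Q) : ((Subgroup.center ↥Q).map Q.subtype) ≤ (Q).map (MulAut.conj g).toMonoidHom ∧ (Subgroup.centralizer ((((Subgroup.center ↥Q).map Q.subtype) ⊔ (((Subgroup.center ↥Q).map Q.subtype)).map (MulAut.conj g).toMonoidHom : Subgroup G) : Set G)).relIndex (Subgroup.normalizer ((((Subgroup.center ↥Q).map Q.subtype) ⊔ (((Subgroup.center ↥Q).map Q.subtype)).map (MulAut.conj g).toMonoidHom : Subgroup G) : Set G)) = 6 ∧ Cfsg.IsLargeExtraspecial Q := by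
  classical
  obtain ⟨z, hE⟩ := exists_extraData hL1
  -- the element `b = g z g⁻¹`
  obtain ⟨b, hb⟩ : ∃ b : G, b = g * z * g⁻¹ := ⟨_, rfl⟩
  have hbZg : b ∈ ((Subgroup.center ↥Q).map Q.subtype).map (MulAut.conj g).toMonoidHom := by
    rw [hb]; exact conj_mem_map_conj _ g hE.zmem
  have hbQ : b ∈ Q := hZg hbZg
  have hbz : b ≠ z := by
    intro h
    apply hg
    apply mem_normalizer_of_conj_mem
    intro x hx
    rcases hE.zall x hx with rfl | rfl
    · simp
    · rw [← hb, h]; exact hE.zmem
  have hbb : b * b = 1 := by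
    rw [hb]
    calc g * z * g⁻¹ * (g * z * g⁻¹) = g * (z * z) * g⁻¹ := by group
      _ = 1 := by rw [hE.zz]; group
  have hb1 : b ≠ 1 := by
    intro h
    apply hE.z1
    calc z = g⁻¹ * (g * z * g⁻¹) * g := by group
      _ = 1 := by rw [← hb, h]; group
  have hbZ : b ∉ (Subgroup.center ↥Q).map Q.subtype := by
    intro h
    rcases hE.zall b h with h1 | h1
    · exact hb1 h1
    · exact hbz h1
  have hzb : z * b = b * z := (hE.zc b hbQ).symm
  have hZgall : ∀ x ∈ ((Subgroup.center ↥Q).map Q.subtype).map (MulAut.conj g).toMonoidHom,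
      x = 1 ∨ x = b := by
    intro x hx
    rw [mem_map_conj_iff] at hx
    rcases hE.zall _ hx with h | h
    · left
      calc x = g * (g⁻¹ * x * g) * g⁻¹ := by group
        _ = 1 := by rw [h]; group
    · right
      calc x = g * (g⁻¹ * x * g) * g⁻¹ := by group
        _ = b := by rw [h, hb]
  -- the four-group `V`
  obtain ⟨V, hVdef⟩ : ∃ V : Subgroup G, V = ((Subgroup.center ↥Q).map Q.subtype) ⊔
      (((Subgroup.center ↥Q).map Q.subtype)).map (MulAut.conj g).toMonoidHom := ⟨_, rfl⟩
  rw [← hVdef]
  have hzV : z ∈ V := by rw [hVdef]; exact Subgroup.mem_sup_left hE.zmem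
  have hbV : b ∈ V := by rw [hVdef]; exact Subgroup.mem_sup_right hbZg
  have hV : ∀ x : G, x ∈ V ↔ x = 1 ∨ x = z ∨ x = b ∨ x = z * b := by
    intro x
    constructor
    · intro hx
      have hle : ((Subgroup.center ↥Q).map Q.subtype) ≤ Subgroup.normalizer
          (((((Subgroup.center ↥Q).map Q.subtype)).map (MulAut.conj g).toMonoidHom : Subgroup G) :
            Set G) := by
        intro a ha
        apply Subgroup.centralizer_le_normalizer
        rw [Subgroup.mem_centralizer_iff]
        intro c hc
        rcases hZgall c hc with rfl | rfl <;> rcases hE.zall a ha with rfl | rfl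
        · simp
        · simp
        · simp
        · exact hzb.symm
      have hx' : x ∈ ((((Subgroup.center ↥Q).map Q.subtype) ⊔
          (((Subgroup.center ↥Q).map Q.subtype)).map (MulAut.conj g).toMonoidHom : Subgroup G) :
            Set G) := by rw [← hVdef]; exact hx
      rw [Subgroup.coe_mul_of_left_le_normalizer_right _ _ hle] at hx'
      obtain ⟨a, ha, c, hc, rfl⟩ := hx'
      rcases hE.zall a ha with rfl | rfl <;> rcases hZgall c hc with rfl | rfl
      · left; simp
      · right; right; left; simp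
      · right; left; simp
      · right; right; right; rfl
    · rintro (rfl | rfl | rfl | rfl)
      · exact V.one_mem
      · exact hzV
      · exact hbV
      · exact V.mul_mem hzV hbV
  have hCV : ∀ c : G, c ∈ Subgroup.centralizer (V : Set G) ↔ c * z = z * c ∧ c * b = b * c := by
    intro c
    rw [Subgroup.mem_centralizer_iff]
    constructor
    · intro h
      exact ⟨(h z hzV).symm, (h b hbV).symm⟩
    · rintro ⟨h1, h2⟩ x hx
      rcases (hV x).mp hx with rfl | rfl | rfl | rfl
      · simp
      · exact h1.symm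
      · exact h2.symm
      · calc z * b * c = z * (b * c) := by group
          _ = z * (c * b) := by rw [h2]
          _ = (z * c) * b := by group
          _ = (c * z) * b := by rw [h1]
          _ = c * (z * b) := by group
  -- the elements `n` and `y`
  obtain ⟨n, hnb, hnz⟩ := exists_conj_z_to_zb hE hL1 hL2 hL3 g b hb hbQ hbz
  obtain ⟨y, hyQ, hyb⟩ := hE.exists_conj hbQ hbZ
  have hyz : y * z * y⁻¹ = z := by
    rw [hE.zc y hyQ]; group
  have hnb' : n * b * n⁻¹ = b := by rw [hnb]; group
  have hninv : n⁻¹ * z * n = z * b := by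
    have h1 : n * (z * b) * n⁻¹ = z := by
      calc n * (z * b) * n⁻¹ = (n * z * n⁻¹) * (n * b * n⁻¹) := by group
        _ = (z * b) * b := by rw [hnz, hnb']
        _ = z := by rw [mul_assoc, hbb, mul_one]
    calc n⁻¹ * z * n = n⁻¹ * (n * (z * b) * n⁻¹) * n := by rw [h1]
      _ = z * b := by group
  -- membership in the normalizer of `V`
  have hmemN : ∀ k : G, k * z * k⁻¹ ∈ V → k * b * k⁻¹ ∈ V → k ∈ Subgroup.normalizer (V : Set G) := by
    intro k hkz hkb
    apply mem_normalizer_of_conj_mem
    intro x hx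
    rcases (hV x).mp hx with rfl | rfl | rfl | rfl
    · simp
    · exact hkz
    · exact hkb
    · have : k * (z * b) * k⁻¹ = (k * z * k⁻¹) * (k * b * k⁻¹) := by group
      rw [this]
      exact V.mul_mem hkz hkb
  have hnN : n ∈ Subgroup.normalizer (V : Set G) := by
    apply hmemN
    · rw [hnz]; exact V.mul_mem hzV hbV
    · rw [hnb']; exact hbV
  have hyN : y ∈ Subgroup.normalizer (V : Set G) := by
    apply hmemN
    · rw [hyz]; exact hzV
    · rw [hyb]; exact V.mul_mem hzV hbV
  -- the element `t = n y n⁻¹` swapping `z` and `b`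
  have htz : (n * y * n⁻¹) * z * (n * y * n⁻¹)⁻¹ = b := by
    calc (n * y * n⁻¹) * z * (n * y * n⁻¹)⁻¹ = n * (y * (n⁻¹ * z * n) * y⁻¹) * n⁻¹ := by group
      _ = n * (y * (z * b) * y⁻¹) * n⁻¹ := by rw [hninv]
      _ = n * ((y * z * y⁻¹) * (y * b * y⁻¹)) * n⁻¹ := by group
      _ = n * (z * (z * b)) * n⁻¹ := by rw [hyz, hyb]
      _ = n * b * n⁻¹ := by rw [← mul_assoc z z b, hE.zz, one_mul]
      _ = b := hnb'
  have htb : (n * y * n⁻¹) * b * (n * y * n⁻¹)⁻¹ = z := by
    have h1 : n⁻¹ * b * n = b := by
      calc n⁻¹ * b * n = n⁻¹ * (b * n) := by group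
        _ = n⁻¹ * (n * b) := by rw [hnb]
        _ = b := by group
    calc (n * y * n⁻¹) * b * (n * y * n⁻¹)⁻¹ = n * (y * (n⁻¹ * b * n) * y⁻¹) * n⁻¹ := by group
      _ = n * (y * b * y⁻¹) * n⁻¹ := by rw [h1]
      _ = n * (z * b) * n⁻¹ := by rw [hyb]
      _ = (n * z * n⁻¹) * (n * b * n⁻¹) := by group
      _ = (z * b) * b := by rw [hnz, hnb']
      _ = z := by rw [mul_assoc, hbb, mul_one]
  have htN : n * y * n⁻¹ ∈ Subgroup.normalizer (V : Set G) :=
    Subgroup.mul_mem _ (Subgroup.mul_mem _ hnN hyN) (Subgroup.inv_mem _ hnN)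
  -- (a) `z ∈ g Q g⁻¹`
  have hzQg : z ∈ Q.map (MulAut.conj g).toMonoidHom := by
    rw [mem_map_conj_iff]
    -- `t⁻¹ g` centralizes `z`
    have h1 : ((n * y * n⁻¹)⁻¹ * g) * z = z * ((n * y * n⁻¹)⁻¹ * g) := by
      have h2 : (n * y * n⁻¹)⁻¹ * (g * z * g⁻¹) * (n * y * n⁻¹) = z := by
        rw [← hb, ← htz]; group
      calc ((n * y * n⁻¹)⁻¹ * g) * z = ((n * y * n⁻¹)⁻¹ * (g * z * g⁻¹) * (n * y * n⁻¹)) *
            ((n * y * n⁻¹)⁻¹ * g) := by group
        _ = z * ((n * y * n⁻¹)⁻¹ * g) := by rw [h2]
    have h3 := mem_normalizer_of_comm hE hL3 h1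
    have h4 := inv_conj_mem_of_mem_normalizer h3 hbQ
    have e : ((n * y * n⁻¹)⁻¹ * g)⁻¹ * b * ((n * y * n⁻¹)⁻¹ * g) =
        g⁻¹ * ((n * y * n⁻¹) * b * (n * y * n⁻¹)⁻¹) * g := by group
    rw [e, htb] at h4
    exact h4
  have hpartA : ((Subgroup.center ↥Q).map Q.subtype) ≤ (Q).map (MulAut.conj g).toMonoidHom := by
    intro x hx
    rcases hE.zall x hx with rfl | rfl
    · exact Subgroup.one_mem _
    · exact hzQg
  refine ⟨hpartA, ?_, ?_⟩
  · -- (b) the index
    have hCN : Subgroup.centralizer (V : Set G) ≤ Subgroup.normalizer (V : Set G) :=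
      Subgroup.centralizer_le_normalizer _
    have hzzb : z ≠ z * b := by
      intro h
      apply hb1
      calc b = z⁻¹ * (z * b) := by group
        _ = 1 := by rw [← h]; group
    have hbzb : b ≠ z * b := by
      intro h
      apply hE.z1
      calc z = (z * b) * b⁻¹ := by group
        _ = 1 := by rw [← h]; group
    -- stage 1: orbit of `z` under `N`
    have h3 := relIndex_centralizer_eq_card (Subgroup.normalizer (V : Set G)) z {z, b, z * b} (by
      intro o
      simp only [Finset.mem_insert, Finset.mem_singleton]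
      constructor
      · rintro (rfl | rfl | rfl)
        · exact ⟨1, Subgroup.one_mem _, by simp⟩
        · exact ⟨_, htN, htz⟩
        · exact ⟨n, hnN, hnz⟩
      · rintro ⟨k, hk, rfl⟩
        have h1 := conj_mem_of_mem_normalizer hk hzV
        rcases (hV _).mp h1 with h | h | h | h
        · exfalso
          apply hE.z1
          calc z = k⁻¹ * (k * z * k⁻¹) * k := by group
            _ = 1 := by rw [h]; group
        · exact Or.inl h
        · exact Or.inr (Or.inl h)
        · exact Or.inr (Or.inr h))
    have hcard3 : ({z, b, z * b} : Finset G).card = 3 := by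
      rw [Finset.card_insert_of_notMem, Finset.card_insert_of_notMem, Finset.card_singleton]
      · simpa using hbzb
      · simp only [Finset.mem_insert, Finset.mem_singleton, not_or]
        exact ⟨fun h => hbz h.symm, hzzb⟩
    rw [hcard3] at h3
    -- stage 2: orbit of `b` under `N ∩ C(z)`
    have h2 := relIndex_centralizer_eq_card
      (Subgroup.normalizer (V : Set G) ⊓ Subgroup.centralizer ({z} : Set G)) b {b, z * b} (by
      intro o
      simp only [Finset.mem_insert, Finset.mem_singleton]
      constructor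
      · rintro (rfl | rfl)
        · exact ⟨1, Subgroup.one_mem _, by simp⟩
        · refine ⟨y, Subgroup.mem_inf.mpr ⟨hyN, ?_⟩, hyb⟩
          rw [Subgroup.mem_centralizer_iff]
          intro x hx
          rw [Set.mem_singleton_iff] at hx
          subst hx
          exact (hE.zc y hyQ).symm
      · rintro ⟨k, hk', rfl⟩
        obtain ⟨hk, hkz⟩ := Subgroup.mem_inf.mp hk'
        have h1 := conj_mem_of_mem_normalizer hk hbV
        rw [Subgroup.mem_centralizer_iff] at hkz
        have hkz' := hkz z rfl
        rcases (hV _).mp h1 with h | h | h | h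
        · exfalso
          apply hb1
          calc b = k⁻¹ * (k * b * k⁻¹) * k := by group
            _ = 1 := by rw [h]; group
        · exfalso
          apply hbz
          calc b = k⁻¹ * (k * b * k⁻¹) * k := by group
            _ = k⁻¹ * z * k := by rw [h]
            _ = k⁻¹ * (z * k) := by group
            _ = k⁻¹ * (k * z) := by rw [hkz']
            _ = z := by group
        · exact Or.inl h
        · exact Or.inr h)
    have hcard2 : ({b, z * b} : Finset G).card = 2 := by
      rw [Finset.card_insert_of_notMem, Finset.card_singleton]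
      simpa using hbzb
    rw [hcard2] at h2
    have hCeq : Subgroup.normalizer (V : Set G) ⊓ Subgroup.centralizer ({z} : Set G) ⊓
        Subgroup.centralizer ({b} : Set G) = Subgroup.centralizer (V : Set G) := by
      ext c
      simp only [Subgroup.mem_inf]
      rw [hCV c]
      constructor
      · rintro ⟨⟨_, h1⟩, h2⟩
        rw [Subgroup.mem_centralizer_iff] at h1 h2
        exact ⟨(h1 z rfl).symm, (h2 b rfl).symm⟩
      · rintro ⟨h1, h2⟩
        refine ⟨⟨hCN ((hCV c).mpr ⟨h1, h2⟩), ?_⟩, ?_⟩
        · rw [Subgroup.mem_centralizer_iff]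
          intro x hx
          rw [Set.mem_singleton_iff] at hx
          subst hx
          exact h1.symm
        · rw [Subgroup.mem_centralizer_iff]
          intro x hx
          rw [Set.mem_singleton_iff] at hx
          subst hx
          exact h2.symm
    rw [hCeq] at h2
    have hmul := Subgroup.relIndex_mul_relIndex (Subgroup.centralizer (V : Set G))
      (Subgroup.normalizer (V : Set G) ⊓ Subgroup.centralizer ({z} : Set G))
      (Subgroup.normalizer (V : Set G)) (by rw [← hCeq]; exact inf_le_left) inf_le_left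
    rw [h2, h3] at hmul
    exact hmul.symm
  · -- (c) largeness, via S5421
    have hbord : orderOf b = 2 := by
      apply orderOf_eq_prime
      · rw [pow_two]; exact hbb
      · exact hb1
    apply Cfsg.Agent.S5421.result Q hL1 hL2 hL3 b hbQ hbZ hbord
    -- `Z ≤ O_2(C_G(b))`
    have hnorm : ∀ c : G, c ∈ Subgroup.centralizer ({b} : Set G) →
        c ∈ Subgroup.normalizer ((Q.map (MulAut.conj g).toMonoidHom : Subgroup G) : Set G) := by
      intro c hc
      rw [Subgroup.mem_centralizer_iff] at hc
      have hcb : c * b = b * c := (hc b rfl).symm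
      have hc' : (g⁻¹ * c * g) * z = z * (g⁻¹ * c * g) := by
        rw [hb] at hcb
        calc (g⁻¹ * c * g) * z = g⁻¹ * (c * (g * z * g⁻¹)) * g := by group
          _ = g⁻¹ * ((g * z * g⁻¹) * c) * g := by rw [hcb]
          _ = z * (g⁻¹ * c * g) := by group
      have hn := mem_normalizer_of_comm hE hL3 hc'
      rw [Subgroup.mem_normalizer_iff]
      intro x
      rw [mem_map_conj_iff, mem_map_conj_iff, Subgroup.mem_normalizer_iff.mp hn (g⁻¹ * x * g)]
      have e : g⁻¹ * c * g * (g⁻¹ * x * g) * (g⁻¹ * c * g)⁻¹ = g⁻¹ * (c * x * c⁻¹) * g := by group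
      rw [e]
    have hnormal : ((Q.map (MulAut.conj g).toMonoidHom).subgroupOf
        (Subgroup.centralizer ({b} : Set G))).Normal := by
      constructor
      intro x hx c
      rw [Subgroup.mem_subgroupOf] at hx ⊢
      have := conj_mem_of_mem_normalizer (hnorm c c.2) hx
      simpa using this
    have hpg : IsPGroup 2 ((Q.map (MulAut.conj g).toMonoidHom).subgroupOf
        (Subgroup.centralizer ({b} : Set G))) :=
      ((hL1.1.1 : IsPGroup 2 Q).map _).comap_subtype
    have hle : (Q.map (MulAut.conj g).toMonoidHom).subgroupOf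
        (Subgroup.centralizer ({b} : Set G)) ≤ Cfsg.pCore 2 ↥(Subgroup.centralizer ({b} : Set G)) :=
      le_sSup ⟨hnormal, hpg⟩
    intro x hx
    rcases hE.zall x hx with rfl | rfl
    · exact Subgroup.one_mem _
    · have hzCb : x ∈ Subgroup.centralizer ({b} : Set G) := by
        rw [Subgroup.mem_centralizer_iff]
        intro c hc
        rw [Set.mem_singleton_iff] at hc
        subst hc
        exact hzb.symm
      refine ⟨⟨x, hzCb⟩, hle ?_, rfl⟩
      rw [Subgroup.mem_subgroupOf]
      exact hzQg

end Cfsg.Agent.S5422
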