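import Cfsg.Statements.S3763
import Cfsg.Agent.Helper2.Extraspecial2Rank
import Cfsg.Agent.Helper63.Extraspecial

set_option autoImplicit false
open Cfsg

namespace Cfsg.Agent.S3763

open Cfsg.Agent.Helper2 Cfsg.Agent.Helper63

theorem isCK_of_isExtraspecial {E : Type*} [Group E] {p : ℕ} (h : Cfsg.IsExtraspecial p E) :
    IsCK p E :=
  ⟨es_comm_mem_center h, es_card_center h⟩

/-- the sign of an extraspecial `2`-group of order `2^(2n+1)` in terms of its rank -/
theorem rank_dichotomy {E : Type*} [Group E] [Finite E] (hE : Cfsg.IsExtraspecial 2 E) (n : ℕ)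
    (hn : Nat.card E = 2 ^ (2 * n + 1)) :
    1 ≤ n ∧ ((sqCount E = 2 ^ (2 * n) - 2 ^ n ∧ HasRank2 E n) ∨
      (sqCount E = 2 ^ (2 * n) + 2 ^ n ∧ HasRank2 E (n + 1))) := by
  have : Fact (Nat.Prime 2) := ⟨Nat.prime_two⟩
  have hk := isCK_of_isExtraspecial hE
  have hn1 : 1 ≤ n := by
    have h3 := es_pow_three_le_card hE
    rw [hn] at h3
    have := (Nat.pow_le_pow_iff_right (by norm_num : 1 < 2)).mp h3
    omega
  refine ⟨hn1, ?_⟩
  obtain ⟨m, hm, hsq⟩ := IsCK.card_and_sqCount (Nat.card E) E hk rfl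
  have hmn : m = n := by
    have : 2 ^ (2 * m + 1) = 2 ^ (2 * n + 1) := by rw [← hm, hn]
    have := Nat.pow_right_injective (le_refl 2) this
    omega
  subst hmn
  have hR := IsCK.hasRank2 (Nat.card E) E hk rfl m hm
  rcases hsq with h | h
  · exact Or.inr ⟨h, hR.1 h⟩
  · exact Or.inl ⟨h, hR.2 hn1 h⟩

/-- Let E be an extraspecial 2-group of order 2^(2n+1). Then the largest elementary abelian subgroups of E have order 2^n or 2^(n+1); and two extraspecial 2-groups of the same order whose largest elementary abelian subgroups have the same order are isomorphic. -/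
theorem result {E : Type*} [Group E] [Finite E] (hE : Cfsg.IsExtraspecial 2 E) (n : ℕ) (hn : Nat.card E = 2 ^ (2 * n + 1)) : ((Cfsg.PRankLE 2 n E ∧ ¬ Cfsg.PRankLE 2 (n - 1) E) ∨ (Cfsg.PRankLE 2 (n + 1) E ∧ ¬ Cfsg.PRankLE 2 n E)) ∧ ∀ (E' : Type*) [Group E'] [Finite E'], Cfsg.IsExtraspecial 2 E' → Nat.card E' = Nat.card E → (∀ k : ℕ, Cfsg.PRankLE 2 k E ↔ Cfsg.PRankLE 2 k E') → Nonempty (E ≃* E') := by
  obtain ⟨hn1, hd⟩ := rank_dichotomy hE n hn
  obtain ⟨j, rfl⟩ : ∃ j, n = j + 1 := ⟨n - 1, by omega⟩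
  constructor
  · rcases hd with ⟨-, hr⟩ | ⟨-, hr⟩
    · left
      exact ⟨hr.1, by simpa using hr.not_pRankLE⟩
    · right
      exact ⟨hr.1, hr.not_pRankLE⟩
  · intro E' _ _ hE' hcard hrk
    obtain ⟨-, hd'⟩ := rank_dichotomy hE' (j + 1) (hcard.trans hn)
    have key : sqCount E = sqCount E' := by
      rcases hd with ⟨hs, hr⟩ | ⟨hs, hr⟩ <;> rcases hd' with ⟨hs', hr'⟩ | ⟨hs', hr'⟩
      · rw [hs, hs']
      · exfalso
        exact hr'.not_pRankLE ((hrk _).mp hr.1)
      · exfalso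
        exact hr.not_pRankLE ((hrk _).mpr hr'.1)
      · rw [hs, hs']
    exact exists_mulEquiv_of_sqCount (Nat.card E) E E' (isCK_of_isExtraspecial hE)
      (isCK_of_isExtraspecial hE') rfl hcard key

end Cfsg.Agent.S3763
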