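-- Statement S5431
import Cfsg.Statements.S5431
import Cfsg.Agent.Helper90.PairCtx2

set_option autoImplicit false
open Cfsg
open Cfsg.Agent.Helper90

namespace Cfsg.Agent.S5431

/-- Let Q be a large extraspecial 2-subgroup of the finite group G (extraspecial; centralizer equal to its centre; normal in the centralizer of its centre; normalizing no non-trivial subgroup of odd order) with centre generated by z, an involution, of width w ≥ 2 (order 2^(2w+1)); let g be an element outside the centralizer H of z with g z g⁻¹ in Q; write V for the subgroup generated by z and g z g⁻¹, X for the subgroup generated by Q and g Q g⁻¹, R for the subgroup generated by the centralizer of z in g Q g⁻¹ and the centralizer of g z g⁻¹ in Q, and E for the intersection of Q and g Q g⁻¹. Then V is the centre of R, E lies in the second centre of R, R is nilpotent of class at most 3, E and R/E are elementary abelian, R/E is the direct product of the images of the centralizer of g z g⁻¹ in Q and of the centralizer of z in g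 Q g⁻¹ (R is their product and they meet in E), and the commutator subgroup of X and E lies in V. -/
theorem result {G : Type*} [Group G] [Finite G] (Q : Subgroup G) (hQ : Cfsg.IsLargeExtraspecial Q) (z : G) (hz : ((Subgroup.center ↥Q).map Q.subtype) = Subgroup.zpowers z) (hz2 : orderOf z = 2) (w : ℕ) (hw : 2 ≤ w) (hcard : Nat.card ↥Q = 2 ^ (2 * w + 1)) (g : G) (hgH : g ∉ Subgroup.centralizer ({z} : Set G)) (hgQ : g * z * g⁻¹ ∈ Q) (V X R E : Subgroup G) (hV : V = Subgroup.closure ({z, g * z * g⁻¹} : Set G)) (hX : X = Q ⊔ (Q).map (MulAut.conj g).toMonoidHom) (hR : R = ((Q).map (MulAut.conj g).toMonoidHom ⊓ Subgroup.centralizer ({z} : Set G)) ⊔ (Q ⊓ Subgroup.centralizer ({g * z * g⁻¹} : Set G))) (hE : E = Q ⊓ (Q).map (MulAut.conj g).toMonoidHom) : (Subgroup.center ↥R).map R.subtype = V ∧ E ≤ (Subgroup.upperCentralSeries ↥R 2).map R.subtype ∧ Subgroup.upperCentralSeries ↥R 3 = ⊤ ∧ Cfsg.IsElementaryAbelian 2 E ∧ (∀ x ∈ R, ∀ y ∈ R, x * y * x⁻¹ * y⁻¹ ∈ E ∧ x ^ 2 ∈ E) ∧ ((Q).map (MulAut.conj g).toMonoidHom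 ⊓ Subgroup.centralizer ({z} : Set G)) ⊓ (Q ⊓ Subgroup.centralizer ({g * z * g⁻¹} : Set G)) = E ∧ ⁅X, E⁆ ≤ V := by
  have hctx := pairCtx_of_large Q hQ z hz hz2 g hgH hgQ
  have hEz := hctx.hEz
  have hEb := hctx.hEb
  have hVmem : ∀ x : G, x ∈ V ↔ x = 1 ∨ x = z ∨ x = g * z * g⁻¹ ∨ x = z * (g * z * g⁻¹) := by
    intro x
    rw [hV, closure_pair_eq hz g]
    exact mem_sup_conj_iff hEz rfl hgQ x
  subst hX hR hE
  -- abbreviations are now unfolded
  have hER : Q ⊓ (Q).map (MulAut.conj g).toMonoidHom ≤
      ((Q).map (MulAut.conj g).toMonoidHom ⊓ Subgroup.centralizer ({z} : Set G)) ⊔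
        (Q ⊓ Subgroup.centralizer ({g * z * g⁻¹} : Set G)) := by
    rw [← hctx.inf_P_eq]
    exact inf_le_left.trans le_sup_left
  have hcenter : (Subgroup.center ↥(((Q).map (MulAut.conj g).toMonoidHom ⊓
      Subgroup.centralizer ({z} : Set G)) ⊔
        (Q ⊓ Subgroup.centralizer ({g * z * g⁻¹} : Set G)))).map (Subgroup.subtype _) = V := by
    ext x
    rw [mem_center_map_iff]
    constructor
    · rintro ⟨hxR, hc⟩
      exact (hVmem x).mpr (hctx.center_R_cases hxR hc)
    · intro hx
      exact ⟨hctx.V_le_R hVmem hx, fun r hr => hctx.R_centralizes_V hVmem hr hx⟩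
  -- elements of `R` whose value lies in `E` are in the second centre
  have hZ2 : ∀ c : ↥(((Q).map (MulAut.conj g).toMonoidHom ⊓
      Subgroup.centralizer ({z} : Set G)) ⊔
        (Q ⊓ Subgroup.centralizer ({g * z * g⁻¹} : Set G))),
      (c : G) ∈ Q ⊓ (Q).map (MulAut.conj g).toMonoidHom →
      c ∈ Subgroup.upperCentralSeries _ 2 := by
    intro c hc
    rw [show (2 : ℕ) = 1 + 1 from rfl, Subgroup.mem_upperCentralSeries_succ_iff]
    intro y
    rw [Subgroup.upperCentralSeries_one, Subgroup.mem_center_iff, commutatorElement_def]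
    intro r
    apply Subtype.ext
    have hv : (c : G) * (y : G) * (c : G)⁻¹ * (y : G)⁻¹ ∈ V := hctx.comm_E_R hVmem hc y.2
    have := hctx.R_centralizes_V hVmem r.2 hv
    simp only [Subgroup.coe_mul, Subgroup.coe_inv]
    exact this
  refine ⟨hcenter, ?_, ?_, ?_, ?_, hctx.inf_P_eq, ?_⟩
  · intro e he
    exact ⟨⟨e, hER he⟩, hZ2 _ he, rfl⟩
  · rw [eq_top_iff]
    intro x _
    rw [show (3 : ℕ) = 2 + 1 from rfl, Subgroup.mem_upperCentralSeries_succ_iff]
    intro y
    apply hZ2
    rw [commutatorElement_def]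
    have := (hctx.R_comm_sq x x.2 y y.2).1
    simp only [Subgroup.coe_mul, Subgroup.coe_inv]
    exact this
  · have hcomm : ∀ a ∈ Q ⊓ (Q).map (MulAut.conj g).toMonoidHom,
        ∀ c ∈ Q ⊓ (Q).map (MulAut.conj g).toMonoidHom, a * c = c * a := by
      intro a ha c hc
      have h1 : a * c * a⁻¹ * c⁻¹ = 1 := by
        rcases hEz.comm a ha.1 c hc.1 with h1 | h1
        · exact h1
        · rcases hEb.comm a ha.2 c hc.2 with h2 | h2
          · exact h2
          · exact absurd (h2.symm.trans h1) hctx.hbz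
      calc a * c = (a * c * a⁻¹ * c⁻¹) * (c * a) := by group
        _ = c * a := by rw [h1, one_mul]
    refine ⟨⟨⟨fun a c => ?_⟩⟩, ?_⟩
    · exact Subtype.ext (hcomm a a.2 c c.2)
    · intro a ha
      rw [pow_two]
      rcases hctx.sqQ a ha.1 with h1 | h1
      · exact h1
      · rcases hctx.sqQg a ha.2 with h2 | h2
        · exact h2
        · exact absurd (h2.symm.trans h1) hctx.hbz
  · intro x hx y hy
    have := hctx.R_comm_sq x hx y hy
    rw [pow_two]
    exact this
  · rw [Subgroup.commutator_le]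
    intro x hx e he
    rw [commutatorElement_def]
    exact (hctx.X_conj_V_and_comm hVmem hx).2 e he

end Cfsg.Agent.S5431
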