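import Cfsg.Statements.S5411
import Cfsg.Agent.Helper90.MonT4
import Cfsg.Agent.S0402

set_option autoImplicit false
open Cfsg

namespace Cfsg.Agent.S5411

/-- Let G be a finite group of Monster type at the involution z with Q the extraspecial normal subgroup of order 2^25 of C = C_G(z) (so C/Q is identified with the first Conway group with Q modulo its centre the Leech lattice modulo 2, and z is not weakly closed in Q). Then C acts transitively by conjugation on the involutions of Q that are not conjugate to z in G. -/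
theorem result {G : Type*} [Group G] [Finite G] (z : G) (Q : Subgroup (Subgroup.centralizer ({z} : Set G))) [Q.Normal] (hM : Cfsg.IsOfMonsterType z Q) (s t : G) (hsQ : ∃ hsc : s ∈ Subgroup.centralizer ({z} : Set G), (⟨s, hsc⟩ : Subgroup.centralizer ({z} : Set G)) ∈ Q) (htQ : ∃ htc : t ∈ Subgroup.centralizer ({z} : Set G), (⟨t, htc⟩ : Subgroup.centralizer ({z} : Set G)) ∈ Q) (hs2 : orderOf s = 2) (ht2 : orderOf t = 2) (hs : ¬ IsConj z s) (ht : ¬ IsConj z t) : ∃ h ∈ Subgroup.centralizer ({z} : Set G), h * s * h⁻¹ = t := by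
  obtain ⟨hz2, hE, hcard, hcard', hlarge, hZ⟩ := Cfsg.Agent.Helper90.monster_setup hM
  obtain ⟨e, ψ, hψ⟩ := hM.2
  obtain ⟨hsc, hsQ'⟩ := hsQ
  obtain ⟨htc, htQ'⟩ := htQ
  let s' : Q := ⟨⟨s, hsc⟩, hsQ'⟩
  let t' : Q := ⟨⟨t, htc⟩, htQ'⟩
  obtain ⟨hs1', hsz', v, hv32, hv⟩ := Cfsg.Agent.Helper90.type_two_of_not_conj hM hψ
    (fun v hv => Cfsg.Agent.S0402.result v hv) s' hs2 hs
  obtain ⟨-, -, w, hw32, hw⟩ := Cfsg.Agent.Helper90.type_two_of_not_conj hM hψ
    (fun v hv => Cfsg.Agent.S0402.result v hv) t' ht2 ht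
  obtain ⟨γ, hγ⟩ := Cfsg.Agent.Helper8.co0_transitive_min32 v w hv32 hw32
  obtain ⟨h, hh⟩ := Cfsg.Agent.Helper90.exists_conj_of_smul hE hψ s' t' hs1' hsz' v w hv hw γ hγ
  refine ⟨(h : G), h.2, ?_⟩
  have := congrArg Subtype.val hh
  rwa [Subgroup.coe_mul, Subgroup.coe_mul, Subgroup.coe_inv] at this

end Cfsg.Agent.S5411
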