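import Cfsg.Statements.S5434
import Cfsg.Agent.S0027
import Cfsg.Agent.Helper90.ExtraCrit
import Cfsg.Agent.Helper90.PairV
import Cfsg.Agent.Helper90.CommClosure
import Cfsg.Agent.Helper90.Basic

set_option autoImplicit false
open Cfsg
open Cfsg.Agent.Helper90
open scoped commutatorElement

namespace Cfsg.Agent.S5434

/-- Let Q be a large extraspecial 2-subgroup of the finite group G (extraspecial; centralizer equal to its centre; normal in the centralizer of its centre; normalizing no non-trivial subgroup of odd order), and A a non-trivial subgroup of odd order of the normalizer of Q. Then Q is the central product of the centralizer of A in Q and the commutator subgroup [Q, A] (they generate Q and commute elementwise), [Q, A] is extraspecial, and the centralizer of A in Q is either the centre of Q or extraspecial. -/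
theorem result {G : Type*} [Group G] [Finite G] (Q : Subgroup G) (hQ : Cfsg.IsLargeExtraspecial Q) (A : Subgroup G) (hA : A ≤ Subgroup.normalizer (Q : Set G)) (hAodd : Odd (Nat.card ↥A)) (hA1 : A ≠ ⊥) : (Q ⊓ Subgroup.centralizer (A : Set G)) ⊔ ⁅Q, A⁆ = Q ∧ (∀ x ∈ Q ⊓ Subgroup.centralizer (A : Set G), ∀ y ∈ ⁅Q, A⁆, x * y = y * x) ∧ Cfsg.IsExtraspecial 2 ↥⁅Q, A⁆ ∧ (Q ⊓ Subgroup.centralizer (A : Set G) = ((Subgroup.center ↥Q).map Q.subtype) ∨ Cfsg.IsExtraspecial 2 ↥(Q ⊓ Subgroup.centralizer (A : Set G))) := by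
  classical
  obtain ⟨hL1, hL2, hL3, hL4⟩ := hQ
  obtain ⟨z, hE⟩ := exists_extraData hL1
  have h2Q : IsPGroup 2 Q := hL1.1.1
  haveI : Fact (Nat.Prime 2) := ⟨Nat.prime_two⟩
  have hcop : (Nat.card A).Coprime (Nat.card Q) := by
    obtain ⟨n, hn⟩ := h2Q.exists_card_eq
    rw [hn]
    exact (Nat.Coprime.pow_left n (Nat.coprime_two_left.mpr hAodd)).symm
  have hsolv : Group.IsSolvable Q := by
    haveI : Group.IsNilpotent Q := h2Q.isNilpotent
    infer_instance
  have h26 := Cfsg.Agent.S0026.result A Q hA hcop (Or.inr hsolv)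
  have h27 := Cfsg.Agent.S0027.result A Q hA hcop (Or.inr hsolv)
  have hDQ : ⁅Q, A⁆ ≤ Q := by
    rw [Subgroup.commutator_le]
    intro q hq a ha
    rw [commutatorElement_def]
    have h1 := conj_mem_of_mem_normalizer (hA ha) (Q.inv_mem hq)
    have e : q * a * q⁻¹ * a⁻¹ = q * (a * q⁻¹ * a⁻¹) := by group
    rw [e]; exact Q.mul_mem hq h1
  -- `A` centralizes `z`
  have hAz : ∀ a ∈ A, a * z = z * a := by
    intro a ha
    have h1 : a * z * a⁻¹ ∈ Q := conj_mem_of_mem_normalizer (hA ha) hE.zQ
    have h2 : ∀ q ∈ Q, q * (a * z * a⁻¹) = (a * z * a⁻¹) * q := by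
      intro q hq
      have h3 := inv_conj_mem_of_mem_normalizer (hA ha) hq
      have h4 := hE.zc _ h3
      calc q * (a * z * a⁻¹) = a * ((a⁻¹ * q * a) * z) * a⁻¹ := by group
        _ = a * (z * (a⁻¹ * q * a)) * a⁻¹ := by rw [h4]
        _ = a * z * a⁻¹ * q := by group
    rcases hE.cen _ h1 h2 with h5 | h5
    · exfalso
      apply hE.z1
      calc z = a⁻¹ * (a * z * a⁻¹) * a := by group
        _ = 1 := by rw [h5]; group
    · calc a * z = (a * z * a⁻¹) * a := by group
        _ = z * a := by rw [h5]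
  have hzC : z ∈ Q ⊓ Subgroup.centralizer (A : Set G) :=
    ⟨hE.zQ, Subgroup.mem_centralizer_iff.mpr (fun a ha => hAz a ha)⟩
  -- `[C, D] = 1`
  have hCD : ⁅⁅Q, A⁆, Q ⊓ Subgroup.centralizer (A : Set G)⁆ = ⊥ := by
    apply Subgroup.commutator_commutator_eq_bot_of_rotate
    · have : ⁅A, Q ⊓ Subgroup.centralizer (A : Set G)⁆ = ⊥ := by
        rw [Subgroup.commutator_eq_bot_iff_le_centralizer]
        intro a ha
        rw [Subgroup.mem_centralizer_iff]
        intro c hc
        exact (Subgroup.mem_centralizer_iff.mp hc.2 a ha).symm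
      rw [this, Subgroup.commutator_bot_left]
    · rw [Subgroup.commutator_eq_bot_iff_le_centralizer, Subgroup.commutator_le]
      intro c hc q hq
      rw [commutatorElement_def, Subgroup.mem_centralizer_iff]
      intro a ha
      rcases hE.comm c hc.1 q hq with h | h <;> rw [h]
      · simp
      · exact hAz a ha
  have hcommCD : ∀ x ∈ Q ⊓ Subgroup.centralizer (A : Set G), ∀ y ∈ ⁅Q, A⁆, x * y = y * x := by
    intro x hx y hy
    have h1 := Subgroup.commutator_eq_bot_iff_le_centralizer.mp hCD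
    exact Subgroup.mem_centralizer_iff.mp (h1 hy) x hx
  -- elements of `Q` commuting with `C` and `D` are central
  have hcentral : ∀ x ∈ Q, (∀ c ∈ Q ⊓ Subgroup.centralizer (A : Set G), c * x = x * c) →
      (∀ d ∈ ⁅Q, A⁆, d * x = x * d) → x = 1 ∨ x = z := by
    intro x hx h1 h2
    apply hE.cen x hx
    intro q hq
    rw [← h26] at hq
    refine sup_induction' (p := fun q => q * x = x * q) h2 h1 ?_ ?_ ?_ hq
    · simp
    · intro q q' _ _ ih ih'
      calc q * q' * x = q * (q' * x) := by group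
        _ = q * (x * q') := by rw [ih']
        _ = (q * x) * q' := by group
        _ = x * (q * q') := by rw [ih]; group
    · intro q _ ih
      calc q⁻¹ * x = q⁻¹ * (x * q) * q⁻¹ := by group
        _ = q⁻¹ * (q * x) * q⁻¹ := by rw [ih]
        _ = x * q⁻¹ := by group
  have hDne : ⁅Q, A⁆ ≠ ⊥ := by
    intro h
    rw [Subgroup.commutator_eq_bot_iff_le_centralizer] at h
    apply hA1
    have hAC : A ≤ Subgroup.centralizer (Q : Set G) := by
      intro a ha
      rw [Subgroup.mem_centralizer_iff]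
      intro q hq
      exact (Subgroup.mem_centralizer_iff.mp (h hq) a ha).symm
    have hAQ : A ≤ Q := by
      rw [hL2] at hAC
      exact hAC.trans (center_map_le Q)
    have := inf_eq_bot_of_two_group_of_odd h2Q hAodd
    rw [eq_bot_iff, ← this]
    exact le_inf hAQ le_rfl
  have hDnc : ∃ x ∈ ⁅Q, A⁆, ∃ y ∈ ⁅Q, A⁆, x * y ≠ y * x := by
    by_contra hcon
    push Not at hcon
    have hDle : ∀ d ∈ ⁅Q, A⁆, d = 1 ∨ d = z := by
      intro d hd
      apply hcentral d (hDQ hd)
      · intro c hc; exact hcommCD c hc d hd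
      · intro d' hd'; exact hcon d' hd' d hd
    apply hDne
    rw [← h27, Subgroup.commutator_eq_bot_iff_le_centralizer]
    intro d hd
    rw [Subgroup.mem_centralizer_iff]
    intro a ha
    rcases hDle d hd with h | h <;> rw [h]
    · simp
    · exact hAz a ha
  have hzD : z ∈ ⁅Q, A⁆ := by
    obtain ⟨x, hx, y, hy, hxy⟩ := hDnc
    rcases hE.comm x (hDQ hx) y (hDQ hy) with h | h
    · exfalso
      apply hxy
      calc x * y = (x * y * x⁻¹ * y⁻¹) * (y * x) := by group
        _ = y * x := by rw [h, one_mul]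
    · rw [← h]
      exact Subgroup.mul_mem _ (Subgroup.mul_mem _ (Subgroup.mul_mem _ hx hy)
        (Subgroup.inv_mem _ hx)) (Subgroup.inv_mem _ hy)
  have hDes : Cfsg.IsExtraspecial 2 ↥⁅Q, A⁆ :=
    isExtraspecial_of_data ⁅Q, A⁆ z hzD hE.z1 (h2Q.to_le hDQ)
      (fun x hx hxc => hcentral x (hDQ hx) (fun c hc => hcommCD c hc x hx) hxc)
      (fun d hd => hE.zc d (hDQ hd))
      (fun x hx y hy => hE.comm x (hDQ hx) y (hDQ hy))
      (fun x hx => hE.sq_cases hL1 (hDQ hx)) hDnc
  have hCcen : ∀ x ∈ Q ⊓ Subgroup.centralizer (A : Set G),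
      (∀ c ∈ Q ⊓ Subgroup.centralizer (A : Set G), c * x = x * c) → x = 1 ∨ x = z :=
    fun x hx hxc => hcentral x hx.1 hxc (fun d hd => (hcommCD x hx d hd).symm)
  refine ⟨by rw [sup_comm]; exact h26, hcommCD, hDes, ?_⟩
  by_cases hCnc : ∃ x ∈ Q ⊓ Subgroup.centralizer (A : Set G),
      ∃ y ∈ Q ⊓ Subgroup.centralizer (A : Set G), x * y ≠ y * x
  · right
    exact isExtraspecial_of_data _ z hzC hE.z1 (h2Q.to_le inf_le_left) hCcen
      (fun d hd => hE.zc d hd.1) (fun x hx y hy => hE.comm x hx.1 y hy.1)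
      (fun x hx => hE.sq_cases hL1 hx.1) hCnc
  · left
    push Not at hCnc
    ext x
    constructor
    · intro hx
      rcases hCcen x hx (fun c hc => hCnc c hc x hx) with h | h <;> rw [h]
      · exact Subgroup.one_mem _
      · exact hE.zmem
    · intro hx
      rcases hE.zall x hx with h | h <;> rw [h]
      · exact Subgroup.one_mem _
      · exact hzC

end Cfsg.Agent.S5434
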