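import Mathlib
import Cfsg.Statements.S0824
import Cfsg.Agent.Helper14.Transfer
import Cfsg.Agent.Helper14.Reflection

set_option autoImplicit false
open Cfsg

namespace Cfsg.Agent.S0824

open Matrix Cfsg.Agent.Helper14

abbrev I := (Fin 1 ⊕ Fin 1) ⊕ Fin 2
abbrev K := ZMod 2
abbrev V := I → K

abbrev ix : I := .inl (.inl 0)
abbrev iy : I := .inl (.inr 0)
abbrev iz : I := .inr 0
abbrev it : I := .inr 1

/-- the form `x y + z² + z t + t²` as a Mathlib quadratic form. -/
noncomputable def Qf : QuadraticForm K V :=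
  QuadraticMap.proj ix iy + QuadraticMap.proj iz iz + QuadraticMap.proj iz it + QuadraticMap.proj it it

theorem Qf_apply (v : V) : Qf v = v ix * v iy + v iz * v iz + v iz * v it + v it * v it := rfl

theorem Qf_eq : ⇑Qf = Cfsg.quadFormMinus 1 K 1 1 := by
  funext v
  rw [Qf_apply]
  show _ = (∑ i : Fin 1, v (.inl (.inl i)) * v (.inl (.inr i))) +
    (v (.inr 0) ^ 2 + 1 * v (.inr 0) * v (.inr 1) + 1 * v (.inr 1) ^ 2)
  rw [Fin.sum_univ_one]
  ring

/-- the computable polynomial -/
def qpoly (v : V) : K := v ix * v iy + v iz * v iz + v iz * v it + v it * v it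

theorem Qf_qpoly (v : V) : Qf v = qpoly v := rfl

abbrev Sing := {v : V // v ≠ 0 ∧ qpoly v = 0}

theorem card_sing : Fintype.card Sing = 5 := by
  decide

theorem ext4 (v w : V) (h1 : v ix = w ix) (h2 : v iy = w iy) (h3 : v iz = w iz) (h4 : v it = w it) :
    v = w := by
  funext i
  rcases i with (i | i) | i
  · have : i = 0 := Subsingleton.elim _ _
    subst this; exact h1
  · have : i = 0 := Subsingleton.elim _ _
    subst this; exact h2
  · fin_cases i
    · exact h3
    · exact h4

set_option synthInstance.maxSize 1024 in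
theorem F1_coords : ∀ a b c d a' b' c' d' : K, ¬(a = 0 ∧ b = 0 ∧ c = 0 ∧ d = 0) →
    a * b + c * c + c * d + d * d = 0 → ¬(a' = 0 ∧ b' = 0 ∧ c' = 0 ∧ d' = 0) →
    a' * b' + c' * c' + c' * d' + d' * d' = 0 → ¬(a = a' ∧ b = b' ∧ c = c' ∧ d = d') →
    ((a + a') * (b + b') + (c + c') * (c + c') + (c + c') * (d + d') + (d + d') * (d + d')) -
      (a * b + c * c + c * d + d * d) - (a' * b' + c' * c' + c' * d' + d' * d') = 1 := by
  decide

/-- distinct singular vectors are not orthogonal -/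
theorem polar_sing (x y : Sing) (hxy : x ≠ y) : QuadraticMap.polar (⇑Qf) x.1 y.1 = 1 := by
  have hx := x.2
  have hy := y.2
  unfold QuadraticMap.polar
  rw [Qf_qpoly, Qf_qpoly, Qf_qpoly]
  apply F1_coords (x.1 ix) (x.1 iy) (x.1 iz) (x.1 it) (y.1 ix) (y.1 iy) (y.1 iz) (y.1 it)
  · rintro ⟨h1, h2, h3, h4⟩
    exact hx.1 (ext4 _ _ h1 h2 h3 h4)
  · exact hx.2
  · rintro ⟨h1, h2, h3, h4⟩
    exact hy.1 (ext4 _ _ h1 h2 h3 h4)
  · exact hy.2
  · rintro ⟨h1, h2, h3, h4⟩
    exact hxy (Subtype.ext (ext4 _ _ h1 h2 h3 h4))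

abbrev G := ↥(Cfsg.isometryGroup K (⇑Qf))

theorem inv_mulVec_mulVec (g : Matrix.GeneralLinearGroup I K) (v : V) :
    ((g⁻¹ : Matrix.GeneralLinearGroup I K) : Matrix I I K) *ᵥ ((g : Matrix I I K) *ᵥ v) = v := by
  rw [Matrix.mulVec_mulVec, ← Units.val_mul, inv_mul_cancel, Units.val_one, Matrix.one_mulVec]

theorem mem_G (g : G) (v : V) : Qf (((g : Matrix.GeneralLinearGroup I K) : Matrix I I K) *ᵥ v) = Qf v :=
  g.2 v 0

noncomputable instance actSing : MulAction G Sing where
  smul g s := ⟨((g : Matrix.GeneralLinearGroup I K) : Matrix I I K) *ᵥ s.1, by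
    constructor
    · intro h
      apply s.2.1
      rw [← inv_mulVec_mulVec (g : Matrix.GeneralLinearGroup I K) s.1, h, Matrix.mulVec_zero]
    · rw [← Qf_qpoly, mem_G, Qf_qpoly]; exact s.2.2⟩
  one_smul s := by
    apply Subtype.ext
    show ((((1 : G) : Matrix.GeneralLinearGroup I K) : Matrix I I K)) *ᵥ s.1 = s.1
    simp
  mul_smul g h s := by
    apply Subtype.ext
    show ((((g * h : G) : Matrix.GeneralLinearGroup I K) : Matrix I I K)) *ᵥ s.1 =
      ((g : Matrix.GeneralLinearGroup I K) : Matrix I I K) *ᵥ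
        (((h : Matrix.GeneralLinearGroup I K) : Matrix I I K) *ᵥ s.1)
    rw [Matrix.mulVec_mulVec]
    rfl

theorem smul_val (g : G) (s : Sing) :
    (g • s).1 = ((g : Matrix.GeneralLinearGroup I K) : Matrix I I K) *ᵥ s.1 := rfl

def s1 : V := fun i => if i = ix then 1 else 0
def s2 : V := fun i => if i = iy then 1 else 0
def s3 : V := fun i => if i = it then 0 else 1
def s4 : V := fun i => if i = iz then 0 else 1
def s5 : V := fun _ => 1

theorem matrix_eq_one (M : Matrix I I K) (h : ∀ s : Sing, M *ᵥ s.1 = s.1) : M = 1 := by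
  have h1 : M *ᵥ s1 = s1 := h ⟨s1, by decide⟩
  have h2 : M *ᵥ s2 = s2 := h ⟨s2, by decide⟩
  have h3 : M *ᵥ s3 = s3 := h ⟨s3, by decide⟩
  have h4 : M *ᵥ s4 = s4 := h ⟨s4, by decide⟩
  have e1 : (Pi.single ix 1 : V) = s1 := by decide
  have e2 : (Pi.single iy 1 : V) = s2 := by decide
  have e3 : (Pi.single iz 1 : V) = s3 + s1 + s2 := by decide
  have e4 : (Pi.single it 1 : V) = s4 + s1 + s2 := by decide
  have key : ∀ j : I, M *ᵥ (Pi.single j 1 : V) = Pi.single j 1 := by
    intro j
    rcases j with (j | j) | j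
    · have : j = 0 := Subsingleton.elim _ _
      subst this
      show M *ᵥ (Pi.single ix 1 : V) = Pi.single ix 1
      rw [e1, h1]
    · have : j = 0 := Subsingleton.elim _ _
      subst this
      show M *ᵥ (Pi.single iy 1 : V) = Pi.single iy 1
      rw [e2, h2]
    · fin_cases j
      · show M *ᵥ (Pi.single iz 1 : V) = Pi.single iz 1
        rw [e3, Matrix.mulVec_add, Matrix.mulVec_add, h1, h2, h3]
      · show M *ᵥ (Pi.single it 1 : V) = Pi.single it 1
        rw [e4, Matrix.mulVec_add, Matrix.mulVec_add, h1, h2, h4]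
  ext i j
  have := congrFun (key j) i
  rw [Matrix.mulVec_single_one] at this
  rw [Matrix.one_apply]
  simpa [Pi.single_apply, eq_comm] using this

theorem toPerm_injective : Function.Injective (MulAction.toPermHom G Sing) := by
  rw [injective_iff_map_eq_one]
  intro g hg
  apply Subtype.ext
  apply Units.ext
  show ((g : Matrix.GeneralLinearGroup I K) : Matrix I I K) = 1
  apply matrix_eq_one
  intro s
  have : (MulAction.toPermHom G Sing g) s = s := by rw [hg]; rfl
  exact congrArg Subtype.val this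

theorem swap_mem_range (x y : Sing) (hxy : x ≠ y) :
    Equiv.swap x y ∈ (MulAction.toPermHom G Sing).range := by
  have hpol := polar_sing x y hxy
  set w : V := x.1 + y.1 with hw
  have hQw : Qf w = 1 := by
    rw [hw, QuadraticMap.map_add (⇑Qf), hpol, Qf_qpoly, Qf_qpoly, x.2.2, y.2.2]; simp
  have hQw0 : Qf w ≠ 0 := by rw [hQw]; exact one_ne_zero
  let g : G := ⟨reflectionGL Qf w hQw0, reflectionGL_mem Qf w hQw0⟩
  refine ⟨g, ?_⟩
  have hneg : ∀ v : V, -v = v := by
    intro v; funext i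
    have : ∀ a : K, -a = a := by decide
    exact this (v i)
  have hgv : ∀ v : V, ((g : Matrix.GeneralLinearGroup I K) : Matrix I I K) *ᵥ v =
      v + QuadraticMap.polar (⇑Qf) w v • w := by
    intro v
    show Cfsg.reflectionMatrix (⇑Qf) w *ᵥ v = _
    rw [reflectionMatrix_mulVec, hQw, inv_one, one_mul, sub_eq_add_neg, hneg]
  have hxx : QuadraticMap.polar (⇑Qf) x.1 x.1 = 0 := by
    rw [QuadraticMap.polar_self, Qf_qpoly, x.2.2]; simp
  have hyy : QuadraticMap.polar (⇑Qf) y.1 y.1 = 0 := by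
    rw [QuadraticMap.polar_self, Qf_qpoly, y.2.2]; simp
  have h11 : (1 : K) + 1 = 0 := by decide
  have hvv : ∀ v : V, v + v = 0 := by
    intro v; funext i
    have : ∀ a : K, a + a = 0 := by decide
    exact this (v i)
  ext s
  rw [MulAction.toPermHom_apply, MulAction.toPerm_apply, smul_val, hgv]
  by_cases hsx : s = x
  · subst hsx
    rw [Equiv.swap_apply_left, hw, QuadraticMap.polar_add_left, hxx,
      QuadraticMap.polar_comm (⇑Qf) y.1 s.1, hpol, zero_add, one_smul, ← add_assoc, hvv, zero_add]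
  · by_cases hsy : s = y
    · subst hsy
      rw [Equiv.swap_apply_right, hw, QuadraticMap.polar_add_left, hyy, hpol, add_zero, one_smul,
        add_comm x.1 s.1, ← add_assoc, hvv, zero_add]
    · rw [Equiv.swap_apply_of_ne_of_ne hsx hsy, hw, QuadraticMap.polar_add_left,
        polar_sing x s (Ne.symm hsx), polar_sing y s (Ne.symm hsy), h11, zero_smul, add_zero]

theorem toPerm_surjective : Function.Surjective (MulAction.toPermHom G Sing) := by
  rw [← MonoidHom.range_eq_top, eq_top_iff, ← Equiv.Perm.closure_isSwap, Subgroup.closure_le]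
  rintro σ ⟨x, y, hxy, rfl⟩
  exact swap_mem_range x y hxy

/-- O⁻_4(2) ≅ S_5: the isometry group of the form x y + z_1² + z_1 z_2 + z_2² over the field with 2 elements is isomorphic to the symmetric group on 5 letters. -/
theorem result {F : Type*} [Field F] [Fintype F] (hF : Fintype.card F = 2) : Nonempty (↥(Cfsg.isometryGroup F (Cfsg.quadFormMinus 1 F 1 1)) ≃* Equiv.Perm (Fin 5)) := by
  let e : F ≃+* K := (ZMod.ringEquivOfPrime F Nat.prime_two hF).symm
  have h : ∀ v : I → F, Cfsg.quadFormMinus 1 K 1 1 (fun i => e (v i)) =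
      e (Cfsg.quadFormMinus 1 F 1 1 v) := by
    intro v
    simp only [Cfsg.quadFormMinus, map_add, map_mul, map_pow, map_one, map_sum]
  have e1 := isometryGroupCongr e (Cfsg.quadFormMinus 1 F 1 1) (Cfsg.quadFormMinus 1 K 1 1) h
  have e2 : ↥(Cfsg.isometryGroup K (Cfsg.quadFormMinus 1 K 1 1)) ≃* G :=
    MulEquiv.subgroupCongr (by rw [Qf_eq])
  have e3 : G ≃* Equiv.Perm Sing :=
    MulEquiv.ofBijective (MulAction.toPermHom G Sing) ⟨toPerm_injective, toPerm_surjective⟩
  have e4 : Equiv.Perm Sing ≃* Equiv.Perm (Fin 5) :=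
    (Fintype.equivFinOfCardEq card_sing).permCongrHom
  exact ⟨((e1.trans e2).trans e3).trans e4⟩

end Cfsg.Agent.S0824
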