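import Mathlib
import Cfsg.Statements.S0562

set_option autoImplicit false
open Cfsg
open Subgroup

namespace Cfsg.Agent.S0562

/-- Let the finite group G be the product HK of subgroups, A normal in H, B normal in K, and L the normalizer of the subgroup generated by A and B. Then every element of L is a product of an element of L ∩ H and an element of L ∩ K. -/
theorem result {G : Type*} [Group G] [Finite G] (H K A B : Subgroup G) (hHK : ∀ g : G, ∃ h ∈ H, ∃ k ∈ K, g = h * k) (hA : A ≤ H) (hAn : (A.subgroupOf H).Normal) (hB : B ≤ K) (hBn : (B.subgroupOf K).Normal) : ∀ g ∈ Subgroup.normalizer ((A ⊔ B : Subgroup G) : Set G), ∃ h ∈ Subgroup.normalizer ((A ⊔ B : Subgroup G) : Set G) ⊓ H, ∃ k ∈ Subgroup.normalizer ((A ⊔ B : Subgroup G) : Set G) ⊓ K, g = h * k := by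
  intro g hg
  obtain ⟨h, hh, k, hk, rfl⟩ := hHK g
  set X := A ⊔ B with hX
  -- A normalized by H
  have hAH : ∀ h ∈ H, ∀ a ∈ A, h * a * h⁻¹ ∈ A := by
    intro h hh a ha
    have := hAn.conj_mem ⟨a, hA ha⟩ (by simpa [Subgroup.mem_subgroupOf] using ha) ⟨h, hh⟩
    simpa [Subgroup.mem_subgroupOf] using this
  have hBK : ∀ k ∈ K, ∀ b ∈ B, k * b * k⁻¹ ∈ B := by
    intro k hk b hb
    have := hBn.conj_mem ⟨b, hB hb⟩ (by simpa [Subgroup.mem_subgroupOf] using hb) ⟨k, hk⟩
    simpa [Subgroup.mem_subgroupOf] using this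
  -- Y = k X k⁻¹ = h⁻¹ X h
  have hgX : ∀ x, x ∈ X ↔ (h * k) * x * (h * k)⁻¹ ∈ X := fun x => (Subgroup.mem_normalizer_iff.mp hg) x
  have hgX' : ∀ x, x ∈ X ↔ (h * k)⁻¹ * x * (h * k) ∈ X := fun x => (Subgroup.mem_normalizer_iff''.mp hg) x
  set Y := X.map (MulAut.conj k).toMonoidHom with hY
  have hYmem : ∀ y, y ∈ Y ↔ k⁻¹ * y * k ∈ X := by
    intro y
    rw [hY, Subgroup.mem_map]
    constructor
    · rintro ⟨x, hx, rfl⟩
      simpa [MulAut.conj_apply, mul_assoc] using hx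
    · intro hy
      exact ⟨_, hy, by simp [MulAut.conj_apply, mul_assoc]⟩
  have hYmem' : ∀ y, y ∈ Y ↔ h * y * h⁻¹ ∈ X := by
    intro y
    rw [hYmem, hgX (k⁻¹ * y * k)]
    have : h * k * (k⁻¹ * y * k) * (h * k)⁻¹ = h * y * h⁻¹ := by group
    rw [this]
  have hAY : A ≤ Y := by
    intro a ha
    rw [hYmem']
    exact (le_sup_left : A ≤ X) (hAH h hh a ha)
  have hBY : B ≤ Y := by
    intro b hb
    rw [hYmem]
    have := hBK k⁻¹ (K.inv_mem hk) b hb
    rw [inv_inv] at this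
    exact (le_sup_right : B ≤ X) this
  have hXY : X ≤ Y := sup_le hAY hBY
  have hcard : Nat.card Y = Nat.card X := by
    rw [hY, Nat.card_congr (Subgroup.equivMapOfInjective X (MulAut.conj k).toMonoidHom (MulAut.conj k).injective).toEquiv]
  have hYX : X = Y := Subgroup.eq_of_le_of_card_ge hXY (le_of_eq hcard)
  have hkN : k ∈ normalizer (X : Set G) := by
    rw [Subgroup.mem_normalizer_iff'']
    intro x
    rw [← hYmem, ← hYX]
  have hhN : h ∈ normalizer (X : Set G) := by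
    rw [Subgroup.mem_normalizer_iff]
    intro x
    rw [← hYmem', ← hYX]
  exact ⟨h, ⟨hhN, hh⟩, k, ⟨hkN, hk⟩, rfl⟩

end Cfsg.Agent.S0562
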