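import Cfsg.Statements.S0566
import Mathlib

set_option autoImplicit false
open Cfsg
open scoped Pointwise

namespace Cfsg.Agent.S0566

variable {G : Type*} [Group G]

theorem mem_conj_smul {K : Subgroup G} {g c : G} :
    c ∈ (MulAut.conj g • K : Subgroup G) ↔ ∃ k ∈ K, g * k * g⁻¹ = c := by
  rw [Subgroup.mem_smul_pointwise_iff_exists]
  simp [MulAut.smul_def]

/-- If `G = H K^g` then `G = H K`. -/
theorem mul_eq_univ_of_mul_conj_eq_univ (H K : Subgroup G) (g : G)
    (h : (H : Set G) * ((MulAut.conj g • K : Subgroup G) : Set G) = Set.univ) :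
    (H : Set G) * (K : Set G) = Set.univ := by
  have hg : g⁻¹ ∈ (H : Set G) * ((MulAut.conj g • K : Subgroup G) : Set G) := h ▸ Set.mem_univ _
  obtain ⟨h₀, hh₀, c, hc, hhc⟩ := Set.mem_mul.mp hg
  obtain ⟨k, hk, rfl⟩ := mem_conj_smul.mp hc
  have hg1 : g = h₀⁻¹ * k⁻¹ := by
    have h1 : h₀ * g * k = 1 := by
      have := congrArg (fun t => t * g) hhc
      simp only [inv_mul_cancel] at this
      rw [← this]; group
    calc g = h₀⁻¹ * (h₀ * g * k) * k⁻¹ := by group
      _ = h₀⁻¹ * k⁻¹ := by rw [h1]; group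
  rw [Set.eq_univ_iff_forall]
  intro t
  have ht : t * h₀ ∈ (H : Set G) * ((MulAut.conj g • K : Subgroup G) : Set G) := h ▸ Set.mem_univ _
  obtain ⟨h', hh', c', hc', e⟩ := Set.mem_mul.mp ht
  obtain ⟨κ, hκ, rfl⟩ := mem_conj_smul.mp hc'
  rw [Set.mem_mul]
  refine ⟨h' * h₀⁻¹, H.mul_mem hh' (H.inv_mem hh₀), k⁻¹ * κ * k,
    K.mul_mem (K.mul_mem (K.inv_mem hk) hκ) hk, ?_⟩
  have : t = h' * (g * κ * g⁻¹) * h₀⁻¹ := by rw [e]; group
  rw [this, hg1]; group

/-- If `A B` and `A' B` are subgroups then so is `⟨A, A'⟩ B`. -/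
theorem exists_subgroup_sup_mul [Finite G] (A A' B : Subgroup G) (S₁ S₂ : Subgroup G)
    (h₁ : (S₁ : Set G) = (A : Set G) * (B : Set G)) (h₂ : (S₂ : Set G) = (A' : Set G) * (B : Set G)) :
    ∃ S : Subgroup G, (S : Set G) = ((A ⊔ A' : Subgroup G) : Set G) * (B : Set G) := by
  -- B * A ⊆ A * B etc.
  have hBA : ∀ β ∈ B, ∀ a ∈ A, β * a ∈ (A : Set G) * (B : Set G) := by
    intro β hβ a ha
    have : a⁻¹ * β⁻¹ ∈ (S₁ : Set G) := by
      rw [h₁]; exact Set.mul_mem_mul (A.inv_mem ha) (B.inv_mem hβ)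
    have h2 := S₁.inv_mem this
    rw [← h₁]
    simpa using h2
  have hBA' : ∀ β ∈ B, ∀ a ∈ A', β * a ∈ (A' : Set G) * (B : Set G) := by
    intro β hβ a ha
    have : a⁻¹ * β⁻¹ ∈ (S₂ : Set G) := by
      rw [h₂]; exact Set.mul_mem_mul (A'.inv_mem ha) (B.inv_mem hβ)
    have h2 := S₂.inv_mem this
    rw [← h₂]
    simpa using h2
  -- key permutation property
  have key : ∀ w ∈ A ⊔ A', ∀ β ∈ B, β * w ∈ ((A ⊔ A' : Subgroup G) : Set G) * (B : Set G) := by
    intro w hw
    rw [Subgroup.sup_eq_closure] at hw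
    induction hw using Subgroup.closure_induction with
    | mem x hx =>
      intro β hβ
      rcases hx with hx | hx
      · obtain ⟨a, ha, b, hb, e⟩ := Set.mem_mul.mp (hBA β hβ x hx)
        exact Set.mem_mul.mpr ⟨a, (le_sup_left : A ≤ A ⊔ A') ha, b, hb, e⟩
      · obtain ⟨a, ha, b, hb, e⟩ := Set.mem_mul.mp (hBA' β hβ x hx)
        exact Set.mem_mul.mpr ⟨a, (le_sup_right : A' ≤ A ⊔ A') ha, b, hb, e⟩
    | one =>
      intro β hβ
      exact Set.mem_mul.mpr ⟨1, Subgroup.one_mem _, β, hβ, by simp⟩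
    | mul x y _ _ hx hy =>
      intro β hβ
      obtain ⟨a, ha, b, hb, e⟩ := Set.mem_mul.mp (hx β hβ)
      obtain ⟨a', ha', b', hb', e'⟩ := Set.mem_mul.mp (hy b hb)
      refine Set.mem_mul.mpr ⟨a * a', Subgroup.mul_mem _ ha ha', b', hb', ?_⟩
      calc a * a' * b' = a * (a' * b') := by group
        _ = a * (b * y) := by rw [e']
        _ = (a * b) * y := by group
        _ = β * x * y := by rw [e]
        _ = β * (x * y) := by group
    | inv x _ hx =>
      -- use finiteness: x⁻¹ = x ^ (orderOf x - 1)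
      have hpow : ∀ n : ℕ, ∀ β ∈ B, β * x ^ n ∈ ((A ⊔ A' : Subgroup G) : Set G) * (B : Set G) := by
        intro n
        induction n with
        | zero =>
          intro β hβ
          exact Set.mem_mul.mpr ⟨1, Subgroup.one_mem _, β, hβ, by simp⟩
        | succ n ih =>
          intro β hβ
          obtain ⟨a, ha, b, hb, e⟩ := Set.mem_mul.mp (ih β hβ)
          obtain ⟨a', ha', b', hb', e'⟩ := Set.mem_mul.mp (hx b hb)
          refine Set.mem_mul.mpr ⟨a * a', Subgroup.mul_mem _ ha ha', b', hb', ?_⟩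
          calc a * a' * b' = a * (a' * b') := by group
            _ = a * (b * x) := by rw [e']
            _ = (a * b) * x := by group
            _ = β * x ^ n * x := by rw [e]
            _ = β * x ^ (n + 1) := by rw [pow_succ]; group
      intro β hβ
      have hinv : x⁻¹ = x ^ (orderOf x - 1) := by
        apply inv_eq_of_mul_eq_one_right
        rw [← pow_succ', Nat.sub_add_cancel (orderOf_pos x), pow_orderOf_eq_one]
      rw [hinv]
      exact hpow _ β hβ
  refine ⟨{ carrier := ((A ⊔ A' : Subgroup G) : Set G) * (B : Set G)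
            mul_mem' := ?_
            one_mem' := ?_
            inv_mem' := ?_ }, rfl⟩
  · rintro _ _ ⟨a, ha, b, hb, rfl⟩ ⟨a', ha', b', hb', rfl⟩
    obtain ⟨a'', ha'', b'', hb'', e⟩ := Set.mem_mul.mp (key a' ha' b hb)
    refine Set.mem_mul.mpr ⟨a * a'', Subgroup.mul_mem _ ha ha'', b'' * b', B.mul_mem hb'' hb', ?_⟩
    calc a * a'' * (b'' * b') = a * (a'' * b'') * b' := by group
      _ = a * (b * a') * b' := by rw [e]
      _ = a * b * (a' * b') := by group
  · exact Set.mem_mul.mpr ⟨1, Subgroup.one_mem _, 1, B.one_mem, by simp⟩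
  · rintro _ ⟨a, ha, b, hb, rfl⟩
    obtain ⟨a'', ha'', b'', hb'', e⟩ := Set.mem_mul.mp (key a⁻¹ (Subgroup.inv_mem _ ha) b⁻¹ (B.inv_mem hb))
    refine Set.mem_mul.mpr ⟨a'', ha'', b'', hb'', ?_⟩
    rw [e]; group

/-- The hypothesis: every `A B^x` is a proper subgroup. -/
def Hyp (A B : Subgroup G) : Prop :=
  ∀ x : G, ∃ S : Subgroup G, S ≠ ⊤ ∧
    (S : Set G) = (A : Set G) * ((MulAut.conj x • B : Subgroup G) : Set G)

theorem hyp_conj (A B : Subgroup G) (h : Hyp A B) (x : G) : Hyp A (MulAut.conj x • B) := by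
  intro y
  obtain ⟨S, hS, e⟩ := h (y * x)
  refine ⟨S, hS, ?_⟩
  rw [e, map_mul, mul_smul]

theorem card_conj_smul (A : Subgroup G) (b : G) :
    Nat.card (MulAut.conj b • A : Subgroup G) = Nat.card A :=
  Nat.card_congr (Subgroup.equivSMul (MulAut.conj b) A).toEquiv.symm

theorem mem_normalizer_of_conj_smul_eq (A : Subgroup G) (b : G)
    (h : (MulAut.conj b • A : Subgroup G) = A) : b ∈ Subgroup.normalizer (A : Set G) := by
  rw [Subgroup.mem_normalizer_iff]
  intro a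
  constructor
  · intro ha
    rw [← h]
    exact mem_conj_smul.mpr ⟨a, ha, rfl⟩
  · intro ha
    rw [← h] at ha
    obtain ⟨a', ha', e⟩ := mem_conj_smul.mp ha
    have : a' = a := by
      have := mul_left_cancel (mul_right_cancel e)
      exact this
    exact this ▸ ha'

/-- One step: enlarging `A`. -/
theorem step [Finite G] (A B' : Subgroup G) (h' : Hyp A B') (b : G) (hbB' : b ∈ B')
    (A₁ : Subgroup G) (hA₁ : A₁ = A ⊔ (MulAut.conj b • A : Subgroup G)) : Hyp A₁ B' := by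
  intro y
  obtain ⟨S₁, hS₁, e₁⟩ := h' y
  obtain ⟨S', hS', e'⟩ := h' (b⁻¹ * y)
  obtain ⟨B'', hB''⟩ : ∃ B'' : Subgroup G, B'' = (MulAut.conj y • B' : Subgroup G) := ⟨_, rfl⟩
  have e₂ : ((MulAut.conj b • S' : Subgroup G) : Set G) =
      ((MulAut.conj b • A : Subgroup G) : Set G) * (B'' : Set G) := by
    ext t
    constructor
    · intro ht
      obtain ⟨s, hs, rfl⟩ := mem_conj_smul.mp ht
      have hs' : s ∈ (S' : Set G) := hs
      rw [e'] at hs'
      obtain ⟨a, ha, c, hc, rfl⟩ := Set.mem_mul.mp hs'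
      obtain ⟨β, hβ, rfl⟩ := mem_conj_smul.mp hc
      refine Set.mem_mul.mpr ⟨b * a * b⁻¹, mem_conj_smul.mpr ⟨a, ha, rfl⟩, y * β * y⁻¹, ?_, ?_⟩
      · rw [hB'']; exact mem_conj_smul.mpr ⟨β, hβ, rfl⟩
      · group
    · intro ht
      obtain ⟨a', ha', c, hc, rfl⟩ := Set.mem_mul.mp ht
      obtain ⟨a, ha, rfl⟩ := mem_conj_smul.mp ha'
      rw [hB''] at hc
      obtain ⟨β, hβ, rfl⟩ := mem_conj_smul.mp (SetLike.mem_coe.mp hc)
      have hs : a * ((b⁻¹ * y) * β * (b⁻¹ * y)⁻¹) ∈ (S' : Set G) := by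
        rw [e']
        exact Set.mem_mul.mpr ⟨a, ha, _, mem_conj_smul.mpr ⟨β, hβ, rfl⟩, rfl⟩
      have h3 : b * (a * ((b⁻¹ * y) * β * (b⁻¹ * y)⁻¹)) * b⁻¹ ∈ (MulAut.conj b • S' : Subgroup G) :=
        mem_conj_smul.mpr ⟨_, hs, rfl⟩
      have h4 : b * a * b⁻¹ * (y * β * y⁻¹) = b * (a * ((b⁻¹ * y) * β * (b⁻¹ * y)⁻¹)) * b⁻¹ := by
        group
      rw [h4]
      exact h3
  have e₁' : (S₁ : Set G) = (A : Set G) * (B'' : Set G) := by rw [hB'']; exact e₁
  obtain ⟨S, hS⟩ := exists_subgroup_sup_mul A (MulAut.conj b • A : Subgroup G) B'' S₁ _ e₁' e₂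
  refine ⟨S, ?_, by rw [hS, hA₁, hB'']⟩
  intro hStop
  obtain ⟨S₀, hS₀, e₀⟩ := h' 1
  rw [map_one, one_smul] at e₀
  have hAS : A ≤ S₀ := by
    intro a ha
    have : a ∈ (S₀ : Set G) := by
      rw [e₀]; exact Set.mem_mul.mpr ⟨a, ha, 1, Subgroup.one_mem _, mul_one a⟩
    exact this
  have hB'le : B' ≤ S₀ := by
    intro c hc
    have : c ∈ (S₀ : Set G) := by
      rw [e₀]; exact Set.mem_mul.mpr ⟨1, Subgroup.one_mem _, c, hc, one_mul c⟩
    exact this
  have hbS : b ∈ S₀ := hB'le hbB'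
  have hA₁le : A ⊔ (MulAut.conj b • A : Subgroup G) ≤ S₀ := by
    refine sup_le hAS ?_
    intro c hc
    obtain ⟨a, ha, rfl⟩ := mem_conj_smul.mp hc
    exact S₀.mul_mem (S₀.mul_mem hbS (hAS ha)) (S₀.inv_mem hbS)
  have huniv : (S₀ : Set G) * ((MulAut.conj y • B' : Subgroup G) : Set G) = Set.univ := by
    rw [Set.eq_univ_iff_forall]
    intro t
    have ht : t ∈ (S : Set G) := by rw [hStop]; exact Set.mem_univ t
    rw [hS] at ht
    obtain ⟨a, ha, c, hc, e⟩ := Set.mem_mul.mp ht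
    exact Set.mem_mul.mpr ⟨a, hA₁le ha, c, hB'' ▸ hc, e⟩
  have huniv' := mul_eq_univ_of_mul_conj_eq_univ S₀ B' y huniv
  apply hS₀
  rw [eq_top_iff]
  intro t _
  have ht : t ∈ (S₀ : Set G) * (B' : Set G) := huniv' ▸ Set.mem_univ t
  obtain ⟨a, ha, c, hc, e⟩ := Set.mem_mul.mp ht
  rw [← e]
  exact S₀.mul_mem ha (hB'le hc)

theorem key [Finite G] : ∀ n : ℕ, ∀ A B : Subgroup G, Nat.card G - Nat.card A = n → Hyp A B →
    ∃ N : Subgroup G, N.Normal ∧ N ≠ ⊤ ∧ (A ≤ N ∨ B ≤ N) := by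
  intro n
  induction n using Nat.strong_induction_on with
  | _ n ih =>
    intro A B hn h
    by_contra hno
    push Not at hno
    have hAtop : A ≠ ⊤ := by
      obtain ⟨S, hS, e⟩ := h 1
      intro hA
      apply hS
      rw [eq_top_iff]
      intro g _
      have : g ∈ (S : Set G) := by
        rw [e]
        exact Set.mem_mul.mpr ⟨g, hA ▸ Subgroup.mem_top g, 1, Subgroup.one_mem _, mul_one g⟩
      exact this
    have hAnn : ¬ A.Normal := fun hn' => (hno A hn' hAtop).1 le_rfl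
    have hex : ∃ x : G, ¬ ((MulAut.conj x • B : Subgroup G) ≤ Subgroup.normalizer (A : Set G)) := by
      by_contra hall
      push Not at hall
      have hBtop : Subgroup.normalClosure (B : Set G) = ⊤ := by
        by_contra hne
        exact (hno _ Subgroup.normalClosure_normal hne).2 Subgroup.le_normalClosure
      have hle : Subgroup.normalClosure (B : Set G) ≤ Subgroup.normalizer (A : Set G) := by
        rw [Subgroup.normalClosure, Subgroup.closure_le]
        intro c hc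
        obtain ⟨b, hb, hbc⟩ := Group.mem_conjugatesOfSet_iff.mp hc
        obtain ⟨g, hg⟩ := isConj_iff.mp hbc
        exact hall g (mem_conj_smul.mpr ⟨b, hb, hg⟩)
      rw [hBtop, top_le_iff] at hle
      exact hAnn (Subgroup.normalizer_eq_top_iff.mp hle)
    obtain ⟨x, hx⟩ := hex
    have h' := hyp_conj A B h x
    obtain ⟨B', hB'⟩ : ∃ B' : Subgroup G, B' = (MulAut.conj x • B : Subgroup G) := ⟨_, rfl⟩
    rw [← hB'] at hx h'
    obtain ⟨b, hbB', hbN⟩ := SetLike.not_le_iff_exists.mp hx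
    obtain ⟨A₁, hA₁⟩ : ∃ A₁ : Subgroup G, A₁ = A ⊔ (MulAut.conj b • A : Subgroup G) := ⟨_, rfl⟩
    have hAA₁ : A ≤ A₁ := hA₁ ▸ le_sup_left
    have hne : A ≠ A₁ := by
      intro heq
      apply hbN
      have hle : (MulAut.conj b • A : Subgroup G) ≤ A := by
        have h1 : (MulAut.conj b • A : Subgroup G) ≤ A₁ := hA₁ ▸ le_sup_right
        exact heq ▸ h1
      exact mem_normalizer_of_conj_smul_eq A b
        (Subgroup.eq_of_le_of_card_ge hle (le_of_eq (card_conj_smul A b).symm))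
    have hnew : Hyp A₁ B' := step A B' h' b hbB' A₁ hA₁
    have hcardlt : Nat.card A < Nat.card A₁ := by
      by_contra hge
      push Not at hge
      exact hne (Subgroup.eq_of_le_of_card_ge hAA₁ hge)
    have hcardle : Nat.card A₁ ≤ Nat.card G := Subgroup.card_le_card_group _
    have hm : Nat.card G - Nat.card A₁ < n := by omega
    obtain ⟨N, hNn, hNtop, hN⟩ := ih (Nat.card G - Nat.card A₁) hm A₁ B' rfl hnew
    rcases hN with hN | hN
    · exact (hno N hNn hNtop).1 (hAA₁.trans hN)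
    · apply (hno N hNn hNtop).2
      intro c hc
      have h1 : x * c * x⁻¹ ∈ N := hN (hB' ▸ mem_conj_smul.mpr ⟨c, hc, rfl⟩)
      have h2 := hNn.conj_mem _ h1 x⁻¹
      simpa [mul_assoc] using h2

/-- Let A and B be nontrivial subgroups of a finite group G such that for every x the product set of A and xBx⁻¹ is a proper subgroup of G. Then there is a proper normal subgroup of G containing A or containing B. -/
theorem result {G : Type*} [Group G] [Finite G] (A B : Subgroup G) (hA : A ≠ ⊥) (hB : B ≠ ⊥) (h : ∀ x : G, ∃ S : Subgroup G, S ≠ ⊤ ∧ (S : Set G) = (A : Set G) * ((MulAut.conj x • B : Subgroup G) : Set G)) : ∃ N : Subgroup G, N.Normal ∧ N ≠ ⊤ ∧ (A ≤ N ∨ B ≤ N) :=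
  key _ A B rfl h

end Cfsg.Agent.S0566
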