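import Mathlib
import Cfsg.Statements.S0560
import Cfsg.Agent.Helper50.CD
import Cfsg.Agent.Helper53.Index

set_option autoImplicit false
open Pointwise
open Cfsg

open Pointwise

namespace Cfsg.Agent.S0560

theorem card_mul_card_inf_of_prod {G : Type*} [Group G] [Finite G] (H K : Subgroup G)
    (hHK : ∀ g : G, ∃ h ∈ H, ∃ k ∈ K, g = h * k) :
    Nat.card G * Nat.card ↥(K ⊓ H) = Nat.card K * Nat.card H := by
  have h1 := Cfsg.Agent.Helper53.card_eq_card_inf_mul_relIndex K H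
  have h2 := Cfsg.Agent.Helper53.relIndex_eq_index_of_prod K H hHK
  rw [h1, h2, ← K.card_mul_index]
  ring

theorem sylow_eq_mul_of_card {G : Type*} [Group G] [Finite G] (H K : Subgroup G)
    (hHK : ∀ g : G, ∃ h ∈ H, ∃ k ∈ K, g = h * k) (p : ℕ) [Fact p.Prime] (R : Sylow p G)
    (P Q : Subgroup G) (hP : P ≤ R) (hQ : Q ≤ R) (hPH : P ≤ H) (hQK : Q ≤ K)
    (hPc : Nat.card P = p ^ (Nat.card H).factorization p)
    (hQc : Nat.card Q = p ^ (Nat.card K).factorization p) :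
    ((R : Subgroup G) : Set G) = (P : Set G) * (Q : Set G) := by
  have hp : p.Prime := Fact.out
  have hA := card_mul_card_inf_of_prod H K hHK
  have hfac : (Nat.card G * Nat.card ↥(K ⊓ H)).factorization p = (Nat.card K * Nat.card H).factorization p := by
    rw [hA]
  rw [Nat.factorization_mul Nat.card_pos.ne' Nat.card_pos.ne',
    Nat.factorization_mul Nat.card_pos.ne' Nat.card_pos.ne'] at hfac
  simp only [Finsupp.coe_add, Pi.add_apply] at hfac
  set a := (Nat.card G).factorization p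
  set e := (Nat.card ↥(K ⊓ H)).factorization p
  set b := (Nat.card H).factorization p
  set c := (Nat.card K).factorization p
  have hRc : Nat.card R = p ^ a := R.card_eq_multiplicity
  -- D = P ⊓ Q
  have hDp : IsPGroup p ↥(P ⊓ Q) := R.isPGroup'.to_le (inf_le_left.trans hP)
  obtain ⟨d, hd⟩ := IsPGroup.iff_card.mp hDp
  have hDle : P ⊓ Q ≤ K ⊓ H := le_inf (inf_le_right.trans hQK) (inf_le_left.trans hPH)
  have hde : d ≤ e := by
    have h1 : p ^ d ∣ Nat.card ↥(K ⊓ H) := hd ▸ Subgroup.card_dvd_of_le hDle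
    exact (hp.pow_dvd_iff_le_factorization Nat.card_pos.ne').mp h1
  have hJle : P ⊔ Q ≤ R := sup_le hP hQ
  have h2 := Cfsg.Agent.Helper50.card_mul_card_le P Q
  rw [hPc, hQc, hd] at h2
  have hpos : 0 < p := hp.pos
  have hJR : P ⊔ Q = R := by
    apply Subgroup.eq_of_le_of_card_ge hJle
    rw [hRc]
    have h3 : p ^ a * p ^ e ≤ Nat.card ↥(P ⊔ Q) * p ^ e := by
      calc p ^ a * p ^ e = p ^ b * p ^ c := by rw [← pow_add, ← pow_add, hfac, add_comm]
        _ ≤ Nat.card ↥(P ⊔ Q) * p ^ d := h2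
        _ ≤ Nat.card ↥(P ⊔ Q) * p ^ e := by
          gcongr
    exact Nat.le_of_mul_le_mul_right h3 (pow_pos hpos e)
  rw [← hJR]
  apply Cfsg.Agent.Helper50.coe_sup_eq_mul_of_card
  rw [hJR, hRc, hd, hPc, hQc]
  calc p ^ a * p ^ d ≤ p ^ a * p ^ e := by
        gcongr
    _ = p ^ b * p ^ c := by rw [← pow_add, ← pow_add, hfac, add_comm]

/-- Let the finite group G be the product HK of two subgroups and p a prime. Then there are Sylow p-subgroups P of H and Q of K and a Sylow p-subgroup R of G whose underlying set is the product set of P and Q. -/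
theorem result {G : Type*} [Group G] [Finite G] (H K : Subgroup G) (hHK : ∀ g : G, ∃ h ∈ H, ∃ k ∈ K, g = h * k) (p : ℕ) [Fact p.Prime] : ∃ (P : Sylow p H) (Q : Sylow p K) (R : Sylow p G), ((R : Subgroup G) : Set G) = (((P : Subgroup H).map H.subtype : Subgroup G) : Set G) * (((Q : Subgroup K).map K.subtype : Subgroup G) : Set G) := by
  obtain P₀ : Sylow p H := default
  obtain Q₀ : Sylow p K := default
  have hP₀ : IsPGroup p ((P₀ : Subgroup H).map H.subtype) := P₀.isPGroup'.map _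
  have hQ₀ : IsPGroup p ((Q₀ : Subgroup K).map K.subtype) := Q₀.isPGroup'.map _
  obtain ⟨S, hS⟩ := hP₀.exists_le_sylow
  obtain ⟨S', hS'⟩ := hQ₀.exists_le_sylow
  obtain ⟨g, hg⟩ := MulAction.exists_smul_eq G S S'
  -- g⁻¹ = h k, so g = k⁻¹ h⁻¹
  obtain ⟨h, hh, k, hk, hgk⟩ := hHK g⁻¹
  have hg' : g = k⁻¹ * h⁻¹ := by
    rw [← mul_inv_rev, ← hgk, inv_inv]
  -- R = h⁻¹ • S, P = h⁻¹ • P₀, Q = k • Q₀
  refine ⟨(⟨h, hh⟩ : H)⁻¹ • P₀, (⟨k, hk⟩ : K) • Q₀, h⁻¹ • S, ?_⟩
  apply sylow_eq_mul_of_card H K hHK p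
  · rintro _ ⟨y, hy, rfl⟩
    have hy' : y ∈ MulAut.conj (⟨h, hh⟩ : H)⁻¹ • (P₀ : Subgroup H) := hy
    rw [Subgroup.mem_pointwise_smul_iff_inv_smul_mem] at hy'
    show (y : G) ∈ MulAut.conj h⁻¹ • (S : Subgroup G)
    rw [Subgroup.mem_pointwise_smul_iff_inv_smul_mem]
    have h2 := hS ⟨_, hy', rfl⟩
    simpa [MulAut.smul_def] using h2
  · rintro _ ⟨y, hy, rfl⟩
    have hy' : y ∈ MulAut.conj (⟨k, hk⟩ : K) • (Q₀ : Subgroup K) := hy
    rw [Subgroup.mem_pointwise_smul_iff_inv_smul_mem] at hy'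
    show (y : G) ∈ MulAut.conj h⁻¹ • (S : Subgroup G)
    rw [Subgroup.mem_pointwise_smul_iff_inv_smul_mem]
    have hy := hy'
    have h2 := hS' ⟨_, hy, rfl⟩
    rw [← hg, hg', Sylow.coe_subgroup_smul, Subgroup.mem_pointwise_smul_iff_inv_smul_mem] at h2
    simp only [MulAut.smul_def, ← map_inv, MulAut.conj_apply, inv_inv, Subgroup.coe_subtype, Subgroup.coe_mul, Subgroup.coe_inv, mul_inv_rev] at h2 ⊢
    convert h2 using 1
    group
  · exact Subgroup.map_subtype_le _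
  · exact Subgroup.map_subtype_le _
  · rw [Subgroup.card_subtype]
    exact Sylow.card_eq_multiplicity _
  · rw [Subgroup.card_subtype]
    exact Sylow.card_eq_multiplicity _

end Cfsg.Agent.S0560
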