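import Cfsg.Statements.S0077
import Cfsg.Agent.Helper2.Fusion

set_option autoImplicit false
open Cfsg

namespace Cfsg.Agent.S0077

open scoped Pointwise

theorem map_conj_eq_iff {G : Type*} [Group G] (Z : Subgroup G) (g : G) :
    Z.map (MulAut.conj g).toMonoidHom = Z ↔ g ∈ Subgroup.normalizer (Z : Set G) := by
  rw [Subgroup.mem_normalizer_iff_map_conj_eq]
  rfl

theorem map_conj_le_iff {G : Type*} [Group G] (Z K : Subgroup G) (g : G) :
    Z.map (MulAut.conj g).toMonoidHom ≤ K ↔ ∀ z ∈ Z, g * z * g⁻¹ ∈ K := by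
  constructor
  · intro h z hz
    exact h ⟨z, hz, rfl⟩
  · rintro h _ ⟨z, hz, rfl⟩
    exact h z hz

/-- A subgroup weakly closed in `P` is "weakly closed" in every Sylow subgroup containing it. -/
theorem mem_normalizer_of_weaklyClosed {G : Type*} [Group G] [Finite G] {p : ℕ} [Fact p.Prime]
    (P : Sylow p G) (Z : Subgroup G) (hW : Cfsg.IsWeaklyClosed Z P) (R : Sylow p G)
    (hZR : Z ≤ (R : Subgroup G)) (g : G) (hg : ∀ z ∈ Z, g * z * g⁻¹ ∈ (R : Subgroup G)) :
    g ∈ Subgroup.normalizer (Z : Set G) := by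
  obtain ⟨-, hW⟩ := hW
  obtain ⟨d, rfl⟩ := MulAction.exists_smul_eq G P R
  have hd : d⁻¹ ∈ Subgroup.normalizer (Z : Set G) := by
    rw [← map_conj_eq_iff]
    apply hW
    rw [map_conj_le_iff]
    intro z hz
    have := hZR hz
    rw [Cfsg.Agent.Helper2.mem_smul_sylow_iff] at this
    simpa using this
  have hdg : d⁻¹ * g ∈ Subgroup.normalizer (Z : Set G) := by
    rw [← map_conj_eq_iff]
    apply hW
    rw [map_conj_le_iff]
    intro z hz
    have h1 := hg z hz
    rw [Cfsg.Agent.Helper2.mem_smul_sylow_iff] at h1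
    have e : d⁻¹ * g * z * (d⁻¹ * g)⁻¹ = d⁻¹ * (g * z * g⁻¹) * d := by group
    rw [e]; exact h1
  have : g = (d⁻¹)⁻¹ * (d⁻¹ * g) := by group
  rw [this]
  exact mul_mem (inv_mem hd) hdg

/-- If a subgroup Z of the centre of a Sylow p-subgroup P is weakly closed in P, then P meets the derived subgroup of G exactly where it meets the derived subgroup of the normalizer of Z. -/
theorem result {G : Type*} [Group G] [Finite G] {p : ℕ} [Fact p.Prime] (P : Sylow p G) (Z : Subgroup G) (hZ : Z ≤ Subgroup.centralizer (P : Set G)) (hW : Cfsg.IsWeaklyClosed Z P) : commutator G ⊓ (P : Subgroup G) = ⁅Subgroup.normalizer (Z : Set G), Subgroup.normalizer (Z : Set G)⁆ ⊓ (P : Subgroup G) := by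
  have hcomm : ∀ z ∈ Z, ∀ x ∈ (P : Subgroup G), x * z = z * x := by
    intro z hz x hx
    have := hZ hz
    rw [Subgroup.mem_centralizer_iff] at this
    exact this x hx
  have hPN : (P : Subgroup G) ≤ Subgroup.normalizer (Z : Set G) := by
    rw [Subgroup.le_normalizer_iff]
    intro x hx z hz
    rw [hcomm z hz x hx, mul_inv_cancel_right]
    exact hz
  apply Cfsg.Agent.Helper2.commutator_inf_eq_of_control P _ hPN
  intro x hx u hb
  set b := u * x * u⁻¹ with hbdef
  set C : Subgroup G := Subgroup.centralizer {b} with hC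
  have hmemC : ∀ w : G, w ∈ C ↔ b * w = w * b := by
    intro w
    rw [hC, Subgroup.mem_centralizer_iff]
    simp
  have hZC : Z ≤ C := by
    intro z hz
    rw [hmemC]
    exact hcomm z hz b hb
  have hZ'C : ∀ z ∈ Z, u * z * u⁻¹ ∈ C := by
    intro z hz
    rw [hmemC, hbdef]
    have := hcomm z hz x hx
    calc u * x * u⁻¹ * (u * z * u⁻¹) = u * (x * z) * u⁻¹ := by group
      _ = u * (z * x) * u⁻¹ := by rw [this]
      _ = u * z * u⁻¹ * (u * x * u⁻¹) := by group
  have hZp : IsPGroup p Z := P.2.to_le hW.1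
  -- Sylow subgroups of C
  have hZCp : IsPGroup p (Z.subgroupOf C) := hZp.comap_subtype
  obtain ⟨S, hS⟩ := hZCp.exists_le_sylow
  have hZ'p : IsPGroup p ((Z.map (MulAut.conj u).toMonoidHom).subgroupOf C) :=
    (hZp.map _).comap_subtype
  obtain ⟨S', hS'⟩ := hZ'p.exists_le_sylow
  obtain ⟨c, hc⟩ := MulAction.exists_smul_eq C S' S
  -- a Sylow subgroup of G containing S
  have hSp : IsPGroup p ((S : Subgroup C).map C.subtype) := S.2.map _
  obtain ⟨R, hR⟩ := hSp.exists_le_sylow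
  have hZR : Z ≤ (R : Subgroup G) := by
    intro z hz
    apply hR
    exact ⟨⟨z, hZC hz⟩, hS (by rw [Subgroup.mem_subgroupOf]; exact hz), rfl⟩
  have hcu : ∀ z ∈ Z, (c * u) * z * (c * u)⁻¹ ∈ (R : Subgroup G) := by
    intro z hz
    apply hR
    have h1 : (⟨u * z * u⁻¹, hZ'C z hz⟩ : C) ∈ (S' : Subgroup C) := by
      apply hS'
      rw [Subgroup.mem_subgroupOf]
      exact ⟨z, hz, rfl⟩
    have h2 : c * (⟨u * z * u⁻¹, hZ'C z hz⟩ : C) * c⁻¹ ∈ ((c • S' : Sylow p C) : Subgroup C) := by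
      rw [Cfsg.Agent.Helper2.mem_smul_sylow_iff]
      have : c⁻¹ * (c * (⟨u * z * u⁻¹, hZ'C z hz⟩ : C) * c⁻¹) * c = ⟨u * z * u⁻¹, hZ'C z hz⟩ := by
        group
      rw [this]; exact h1
    rw [hc] at h2
    refine ⟨_, h2, ?_⟩
    simp only [Subgroup.subtype_apply, Subgroup.coe_mul, Subgroup.coe_inv]
    group
  have hn := mem_normalizer_of_weaklyClosed P Z hW R hZR (c * u) hcu
  refine ⟨c * u, hn, ?_⟩
  have hcb : b * (c : G) = c * b := (hmemC c).mp c.2
  calc (c : G) * u * x * (c * u)⁻¹ = c * (u * x * u⁻¹) * (c : G)⁻¹ := by group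
    _ = c * b * (c : G)⁻¹ := by rw [hbdef]
    _ = b := by rw [← hcb, mul_inv_cancel_right]

end Cfsg.Agent.S0077
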