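-- S0078: p-normal group: P ∩ O^p(G) = P ∩ O^p(V) for V ≥ N_G(Z(P)) (helper52).
-- Proof: Grün (S0077) gives P ∩ G' = P ∩ V'; then the relative form of Tate's theorem
-- (Helper52.TateGeneral, via Gaschütz) gives the statement.
import Cfsg.Statements.S0078
import Cfsg.Agent.S0077
import Cfsg.Agent.Helper52.TateGeneral

set_option autoImplicit false
open Cfsg

namespace Cfsg.Agent.S0078

open scoped Pointwise

/-- Conjugation transports the centre of a Sylow subgroup. -/
theorem mem_center_smul_sylow_iff {G : Type*} [Group G] {p : ℕ} (P : Sylow p G) (g x : G) :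
    x ∈ ((g⁻¹ • P : Sylow p G) : Subgroup G) ⊓
        Subgroup.centralizer ((g⁻¹ • P : Sylow p G) : Set G) ↔
      g * x * g⁻¹ ∈ (P : Subgroup G) ⊓ Subgroup.centralizer (P : Set G) := by
  have hmem : ∀ y : G, y ∈ ((g⁻¹ • P : Sylow p G) : Subgroup G) ↔ g * y * g⁻¹ ∈ (P : Subgroup G) := by
    intro y
    rw [Cfsg.Agent.Helper2.mem_smul_sylow_iff, inv_inv]
  rw [Subgroup.mem_inf, Subgroup.mem_inf, hmem x, Subgroup.mem_centralizer_iff,
    Subgroup.mem_centralizer_iff]
  constructor
  · rintro ⟨h1, h2⟩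
    refine ⟨h1, fun y' hy' => ?_⟩
    have hy : g⁻¹ * y' * g ∈ ((g⁻¹ • P : Sylow p G) : Subgroup G) := by
      rw [hmem]
      have : g * (g⁻¹ * y' * g) * g⁻¹ = y' := by group
      rw [this]; exact hy'
    have h3 := h2 _ hy
    calc y' * (g * x * g⁻¹) = g * ((g⁻¹ * y' * g) * x) * g⁻¹ := by group
      _ = g * (x * (g⁻¹ * y' * g)) * g⁻¹ := by rw [h3]
      _ = g * x * g⁻¹ * y' := by group
  · rintro ⟨h1, h2⟩
    refine ⟨h1, fun y hy => ?_⟩
    have h3 := h2 _ ((hmem y).mp hy)
    calc y * x = g⁻¹ * ((g * y * g⁻¹) * (g * x * g⁻¹)) * g := by group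
      _ = g⁻¹ * ((g * x * g⁻¹) * (g * y * g⁻¹)) * g := by rw [h3]
      _ = x * y := by group

/-- In a p-normal group, a Sylow p-subgroup P meets O^p(G) exactly where it meets O^p(V), for any subgroup V containing the normalizer of the centre of P. -/
theorem result {G : Type*} [Group G] [Finite G] {p : ℕ} [Fact p.Prime] (P : Sylow p G) (hn : ∀ Q : Sylow p G, (P : Subgroup G) ⊓ Subgroup.centralizer (P : Set G) ≤ (Q : Subgroup G) → (Q : Subgroup G) ⊓ Subgroup.centralizer (Q : Set G) = (P : Subgroup G) ⊓ Subgroup.centralizer (P : Set G)) (V : Subgroup G) (hV : Subgroup.normalizer (((P : Subgroup G) ⊓ Subgroup.centralizer (P : Set G) : Subgroup G) : Set G) ≤ V) : (P : Subgroup G) ⊓ Cfsg.pResidual p G = (P : Subgroup G) ⊓ (Cfsg.pResidual p V).map V.subtype := by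
  set Z : Subgroup G := (P : Subgroup G) ⊓ Subgroup.centralizer (P : Set G) with hZ
  have hZP : Z ≤ (P : Subgroup G) := inf_le_left
  have hZc : Z ≤ Subgroup.centralizer (P : Set G) := inf_le_right
  -- elements of `P` commute with elements of `Z`
  have hcomm : ∀ g ∈ (P : Subgroup G), ∀ z ∈ Z, g * z * g⁻¹ = z := by
    intro g hg z hz
    have := (Subgroup.mem_centralizer_iff.mp (hZc hz)) g hg
    rw [this]; group
  -- `P` normalizes `Z`
  have hPN : (P : Subgroup G) ≤ Subgroup.normalizer (Z : Set G) := by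
    intro g hg
    rw [Subgroup.mem_normalizer_iff]
    intro h
    constructor
    · intro hh
      rw [hcomm g hg h hh]; exact hh
    · intro hh
      have h1 := hcomm g⁻¹ ((P : Subgroup G).inv_mem hg) _ hh
      have h2 : g⁻¹ * (g * h * g⁻¹) * g⁻¹⁻¹ = h := by group
      rw [h2] at h1
      rw [h1]; exact hh
  -- `Z` is weakly closed in `P`
  have hW : Cfsg.IsWeaklyClosed Z (P : Subgroup G) := by
    refine ⟨hZP, fun g hg => ?_⟩
    rw [Cfsg.Agent.S0077.map_conj_le_iff] at hg
    rw [Cfsg.Agent.S0077.map_conj_eq_iff, Subgroup.mem_normalizer_iff]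
    have hZQ : Z ≤ ((g⁻¹ • P : Sylow p G) : Subgroup G) := by
      intro z hz
      rw [Cfsg.Agent.Helper2.mem_smul_sylow_iff, inv_inv]
      exact hg z hz
    have h1 := hn (g⁻¹ • P) hZQ
    intro x
    have h2 := mem_center_smul_sylow_iff P g x
    rw [h1] at h2
    exact h2
  have h77 := Cfsg.Agent.S0077.result P Z hZc hW
  have hPV : (P : Subgroup G) ≤ V := hPN.trans hV
  have hfoc : commutator G ⊓ (P : Subgroup G) ≤ ⁅V, V⁆ := by
    rw [h77]
    exact inf_le_left.trans (Subgroup.commutator_mono hV hV)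
  exact le_antisymm
    (le_inf inf_le_left (Cfsg.Agent.Helper52.tate_general P V hPV hfoc))
    (inf_le_inf_left _ (Cfsg.Agent.Helper52.map_subtype_pResidual_le V))

end Cfsg.Agent.S0078
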