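import Cfsg.Statements.S1587
-- import your own Cfsg.Agent.* helpers here

set_option autoImplicit false
open Matrix
open Cfsg

namespace Cfsg.Agent.S1587

/-- First step of the characterisation of the rank-24 lattice: in an even lattice without roots, norm-8 vectors congruent modulo 2 are equal, opposite or orthogonal. -/
theorem result (B : Matrix (Fin 24) (Fin 24) ℤ) (hsymm : B.IsSymm) (hpos : ∀ x : Fin 24 → ℤ, x ≠ 0 → 0 < x ⬝ᵥ (B *ᵥ x)) (heven : ∀ x : Fin 24 → ℤ, (2 : ℤ) ∣ x ⬝ᵥ (B *ᵥ x)) (h2 : ∀ x : Fin 24 → ℤ, x ⬝ᵥ (B *ᵥ x) ≠ 2) (x y : Fin 24 → ℤ) (hx : x ⬝ᵥ (B *ᵥ x) = 8) (hy : y ⬝ᵥ (B *ᵥ y) = 8) (hc : ∀ i, (2 : ℤ) ∣ (x - y) i) : y = x ∨ y = -x ∨ x ⬝ᵥ (B *ᵥ y) = 0 := by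
  classical
  -- symmetry of the bilinear form
  have hsym : ∀ v w : Fin 24 → ℤ, v ⬝ᵥ (B *ᵥ w) = w ⬝ᵥ (B *ᵥ v) := by
    intro v w
    rw [Matrix.dotProduct_mulVec, ← Matrix.mulVec_transpose, hsymm.eq, dotProduct_comm]
  -- z with x - y = 2 z
  choose z hz using hc
  have hxy : x - y = (2 : ℤ) • z := by
    funext i
    simpa [smul_eq_mul] using hz i
  have hxy' : x + y = (2 : ℤ) • (z + y) := by
    have : x = (2 : ℤ) • z + y := by rw [← hxy]; abel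
    rw [this, smul_add]
    simp only [two_smul]
    abel
  set b := x ⬝ᵥ (B *ᵥ y) with hb
  have h1 : (x - y) ⬝ᵥ (B *ᵥ (x - y)) = 16 - 2 * b := by
    rw [Matrix.mulVec_sub, sub_dotProduct, dotProduct_sub, dotProduct_sub, hx, hy, hsym y x]
    ring
  have h2' : (x + y) ⬝ᵥ (B *ᵥ (x + y)) = 16 + 2 * b := by
    rw [Matrix.mulVec_add, add_dotProduct, dotProduct_add, dotProduct_add, hx, hy, hsym y x]
    ring
  have h3 : ((2 : ℤ) • z) ⬝ᵥ (B *ᵥ ((2 : ℤ) • z)) = 4 * (z ⬝ᵥ (B *ᵥ z)) := by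
    rw [Matrix.mulVec_smul, smul_dotProduct, dotProduct_smul]
    simp only [smul_eq_mul]
    ring
  have h4 : ((2 : ℤ) • (z + y)) ⬝ᵥ (B *ᵥ ((2 : ℤ) • (z + y))) = 4 * ((z + y) ⬝ᵥ (B *ᵥ (z + y))) := by
    rw [Matrix.mulVec_smul, smul_dotProduct, dotProduct_smul]
    simp only [smul_eq_mul]
    ring
  rw [hxy] at h1
  rw [hxy'] at h2'
  rw [h3] at h1
  rw [h4] at h2'
  set a := z ⬝ᵥ (B *ᵥ z) with ha
  set c := (z + y) ⬝ᵥ (B *ᵥ (z + y)) with hc'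
  by_cases hz0 : z = 0
  · left
    have : x - y = 0 := by rw [hxy, hz0, smul_zero]
    exact (sub_eq_zero.mp this).symm
  by_cases hz1 : z + y = 0
  · right; left
    have : x + y = 0 := by rw [hxy', hz1, smul_zero]
    have := eq_neg_of_add_eq_zero_right this
    exact this
  right; right
  have hapos : 0 < a := hpos z hz0
  have hcpos : 0 < c := hpos (z + y) hz1
  have haev : (2 : ℤ) ∣ a := heven z
  have hcev : (2 : ℤ) ∣ c := heven (z + y)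
  have ha2 : a ≠ 2 := h2 z
  have hc2 : c ≠ 2 := h2 (z + y)
  omega

end Cfsg.Agent.S1587
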