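import Cfsg.Statements.S1588


set_option autoImplicit false
open Matrix
open Cfsg

namespace Cfsg.Agent.S1588

/-- reduction modulo 2 -/
def red (v : Fin 24 → ℤ) : Fin 24 → ZMod 2 := fun i => (v i : ZMod 2)

theorem red_eq_iff (u v : Fin 24 → ℤ) : red u = red v ↔ ∀ i, (2 : ℤ) ∣ (u - v) i := by
  constructor
  · intro h i
    have := congrFun h i
    simp only [red] at this
    rw [ZMod.intCast_eq_intCast_iff_dvd_sub] at this
    rw [Pi.sub_apply]
    exact (dvd_sub_comm).mp this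
  · intro h
    funext i
    simp only [red]
    rw [ZMod.intCast_eq_intCast_iff_dvd_sub]
    have := h i
    rw [Pi.sub_apply] at this
    exact (dvd_sub_comm).mp this

theorem red_neg (u : Fin 24 → ℤ) : red (-u) = red u := by
  rw [red_eq_iff]
  intro i
  simp only [Pi.sub_apply, Pi.neg_apply]
  exact ⟨-u i, by ring⟩

section
variable (B : Matrix (Fin 24) (Fin 24) ℤ)

theorem form_symm (hsymm : B.IsSymm) (v w : Fin 24 → ℤ) : v ⬝ᵥ (B *ᵥ w) = w ⬝ᵥ (B *ᵥ v) := by
  rw [Matrix.dotProduct_mulVec, ← Matrix.mulVec_transpose, hsymm.eq, dotProduct_comm]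

theorem form_neg (v : Fin 24 → ℤ) : (-v) ⬝ᵥ (B *ᵥ (-v)) = v ⬝ᵥ (B *ᵥ v) := by
  rw [Matrix.mulVec_neg, neg_dotProduct, dotProduct_neg, neg_neg]

theorem form_zero : (0 : Fin 24 → ℤ) ⬝ᵥ (B *ᵥ 0) = 0 := by
  rw [zero_dotProduct]

/-- short vectors congruent modulo 2 are equal, opposite, or orthogonal of norm sum 16 -/
theorem lemmaA (hsymm : B.IsSymm) (hpos : ∀ x : Fin 24 → ℤ, x ≠ 0 → 0 < x ⬝ᵥ (B *ᵥ x))
    (heven : ∀ x : Fin 24 → ℤ, (2 : ℤ) ∣ x ⬝ᵥ (B *ᵥ x)) (h2 : ∀ x : Fin 24 → ℤ, x ⬝ᵥ (B *ᵥ x) ≠ 2)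
    (x y : Fin 24 → ℤ) (hc : ∀ i, (2 : ℤ) ∣ (x - y) i)
    (hle : x ⬝ᵥ (B *ᵥ x) + y ⬝ᵥ (B *ᵥ y) ≤ 16) :
    y = x ∨ y = -x ∨ (x ⬝ᵥ (B *ᵥ x) + y ⬝ᵥ (B *ᵥ y) = 16 ∧ x ⬝ᵥ (B *ᵥ y) = 0) := by
  classical
  have hsym := form_symm B hsymm
  choose z hz using hc
  have hxy : x - y = (2 : ℤ) • z := by
    funext i
    simpa [smul_eq_mul] using hz i
  have hxy' : x + y = (2 : ℤ) • (z + y) := by
    have : x = (2 : ℤ) • z + y := by rw [← hxy]; abel
    rw [this, smul_add]
    simp only [two_smul]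
    abel
  set qx := x ⬝ᵥ (B *ᵥ x) with hqx
  set qy := y ⬝ᵥ (B *ᵥ y) with hqy
  set b := x ⬝ᵥ (B *ᵥ y) with hb
  have h1 : (x - y) ⬝ᵥ (B *ᵥ (x - y)) = qx + qy - 2 * b := by
    rw [Matrix.mulVec_sub, sub_dotProduct, dotProduct_sub, dotProduct_sub, hsym y x]
    ring
  have h2' : (x + y) ⬝ᵥ (B *ᵥ (x + y)) = qx + qy + 2 * b := by
    rw [Matrix.mulVec_add, add_dotProduct, dotProduct_add, dotProduct_add, hsym y x]
    ring
  have h3 : ((2 : ℤ) • z) ⬝ᵥ (B *ᵥ ((2 : ℤ) • z)) = 4 * (z ⬝ᵥ (B *ᵥ z)) := by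
    rw [Matrix.mulVec_smul, smul_dotProduct, dotProduct_smul]
    simp only [smul_eq_mul]
    ring
  have h4 : ((2 : ℤ) • (z + y)) ⬝ᵥ (B *ᵥ ((2 : ℤ) • (z + y))) = 4 * ((z + y) ⬝ᵥ (B *ᵥ (z + y))) := by
    rw [Matrix.mulVec_smul, smul_dotProduct, dotProduct_smul]
    simp only [smul_eq_mul]
    ring
  rw [hxy] at h1
  rw [hxy'] at h2'
  rw [h3] at h1
  rw [h4] at h2'
  set a := z ⬝ᵥ (B *ᵥ z) with ha
  set c := (z + y) ⬝ᵥ (B *ᵥ (z + y)) with hc'
  by_cases hz0 : z = 0
  · left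
    have : x - y = 0 := by rw [hxy, hz0, smul_zero]
    exact (sub_eq_zero.mp this).symm
  by_cases hz1 : z + y = 0
  · right; left
    have : x + y = 0 := by rw [hxy', hz1, smul_zero]
    exact eq_neg_of_add_eq_zero_right this
  right; right
  have hapos : 0 < a := hpos z hz0
  have hcpos : 0 < c := hpos (z + y) hz1
  have haev : (2 : ℤ) ∣ a := heven z
  have hcev : (2 : ℤ) ∣ c := heven (z + y)
  have ha2 : a ≠ 2 := h2 z
  have hc2 : c ≠ 2 := h2 (z + y)
  constructor <;> omega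

/-- pairwise orthogonal nonzero vectors: at most 24 -/
theorem orth_card_le (hpos : ∀ x : Fin 24 → ℤ, x ≠ 0 → 0 < x ⬝ᵥ (B *ᵥ x))
    (F : Finset (Fin 24 → ℤ)) (h0 : ∀ v ∈ F, v ≠ 0)
    (horth : ∀ u ∈ F, ∀ v ∈ F, u ≠ v → u ⬝ᵥ (B *ᵥ v) = 0) : F.card ≤ 24 := by
  classical
  have hli : LinearIndependent ℤ (fun v : F => (v : Fin 24 → ℤ)) := by
    rw [linearIndependent_iff']
    intro s g hsum j hj
    have h := congrArg (fun w => (j : Fin 24 → ℤ) ⬝ᵥ (B *ᵥ w)) hsum
    simp only [Matrix.mulVec_sum, dotProduct_sum, Matrix.mulVec_smul, dotProduct_smul,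
      Matrix.mulVec_zero, dotProduct_zero] at h
    rw [Finset.sum_eq_single j] at h
    · have hjpos := hpos j (h0 j j.2)
      simp only [smul_eq_mul] at h
      rcases mul_eq_zero.mp h with h | h
      · exact h
      · omega
    · intro i _ hij
      rw [horth j j.2 i i.2 (fun h => hij (Subtype.ext h.symm)), smul_zero]
    · intro hj'
      exact absurd hj hj'
  have := hli.fintype_card_le_finrank
  simpa using this

/-- a set of norm-8 vectors that are pairwise equal, opposite or orthogonal has at most 48 elements -/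
theorem fiber_card_le (hpos : ∀ x : Fin 24 → ℤ, x ≠ 0 → 0 < x ⬝ᵥ (B *ᵥ x))
    (F : Finset (Fin 24 → ℤ)) (h0 : ∀ v ∈ F, v ≠ 0)
    (h : ∀ u ∈ F, ∀ v ∈ F, v = u ∨ v = -u ∨ u ⬝ᵥ (B *ᵥ v) = 0) : F.card ≤ 48 := by
  classical
  rw [← Finset.card_filter_add_card_filter_not (p := fun v => 0 < toLex v)]
  have h1 : (F.filter fun v => 0 < toLex v).card ≤ 24 := by
    apply orth_card_le B hpos
    · intro v hv; exact h0 v (Finset.mem_filter.mp hv).1
    · intro u hu v hv huv
      rw [Finset.mem_filter] at hu hv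
      rcases h u hu.1 v hv.1 with h' | h' | h'
      · exact absurd h'.symm huv
      · exfalso
        have := hv.2
        rw [h', toLex_neg, neg_pos] at this
        exact lt_asymm hu.2 this
      · exact h'
  have h2 : (F.filter fun v => ¬ 0 < toLex v).card ≤ 24 := by
    apply orth_card_le B hpos
    · intro v hv; exact h0 v (Finset.mem_filter.mp hv).1
    · intro u hu v hv huv
      rw [Finset.mem_filter] at hu hv
      rcases h u hu.1 v hv.1 with h' | h' | h'
      · exact absurd h'.symm huv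
      · exfalso
        have hu0 : toLex u ≠ 0 := fun h0' => h0 u hu.1 (by simpa using h0')
        have hult : toLex u < 0 := lt_of_le_of_ne (not_lt.mp hu.2) hu0
        apply hv.2
        rw [h', toLex_neg, neg_pos]
        exact hult
      · exact h'
  omega

end


/-- Second step of the characterisation: under the vector counts of the rank-24 lattice, the norm-8 vectors fall into congruence classes of exactly 48 modulo twice the lattice. -/
theorem result (B : Matrix (Fin 24) (Fin 24) ℤ) (hsymm : B.IsSymm) (hpos : ∀ x : Fin 24 → ℤ, x ≠ 0 → 0 < x ⬝ᵥ (B *ᵥ x)) (heven : ∀ x : Fin 24 → ℤ, (2 : ℤ) ∣ x ⬝ᵥ (B *ᵥ x)) (h2 : ∀ x : Fin 24 → ℤ, x ⬝ᵥ (B *ᵥ x) ≠ 2) (h4 : {x : Fin 24 → ℤ | x ⬝ᵥ (B *ᵥ x) = 4}.ncard = 196560) (h6 : {x : Fin 24 → ℤ | x ⬝ᵥ (B *ᵥ x) = 6}.ncard = 16773120) (h8 : {x : Fin 24 → ℤ | x ⬝ᵥ (B *ᵥ x) = 8}.ncard = 398034000) (x : Fin 24 → ℤ) (hx : x ⬝ᵥ (B *ᵥ x) = 8) : {y : Fin 24 → ℤ | y ⬝ᵥ (B *ᵥ y) = 8 ∧ ∀ i, (2 : ℤ) ∣ (x - y) i}.ncard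 = 48 := by
  classical
  -- finiteness of the three shells
  have hfin4 : {x : Fin 24 → ℤ | x ⬝ᵥ (B *ᵥ x) = 4}.Finite :=
    Set.finite_of_ncard_ne_zero (by rw [h4]; norm_num)
  have hfin6 : {x : Fin 24 → ℤ | x ⬝ᵥ (B *ᵥ x) = 6}.Finite :=
    Set.finite_of_ncard_ne_zero (by rw [h6]; norm_num)
  have hfin8 : {x : Fin 24 → ℤ | x ⬝ᵥ (B *ᵥ x) = 8}.Finite :=
    Set.finite_of_ncard_ne_zero (by rw [h8]; norm_num)
  set S4 := hfin4.toFinset with hS4
  set S6 := hfin6.toFinset with hS6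
  set S8 := hfin8.toFinset with hS8
  have hm4 : ∀ v, v ∈ S4 ↔ v ⬝ᵥ (B *ᵥ v) = 4 := fun v => by rw [hS4, Set.Finite.mem_toFinset]; rfl
  have hm6 : ∀ v, v ∈ S6 ↔ v ⬝ᵥ (B *ᵥ v) = 6 := fun v => by rw [hS6, Set.Finite.mem_toFinset]; rfl
  have hm8 : ∀ v, v ∈ S8 ↔ v ⬝ᵥ (B *ᵥ v) = 8 := fun v => by rw [hS8, Set.Finite.mem_toFinset]; rfl
  have hc4 : S4.card = 196560 := by rw [hS4, ← Set.ncard_eq_toFinset_card _ hfin4, h4]
  have hc6 : S6.card = 16773120 := by rw [hS6, ← Set.ncard_eq_toFinset_card _ hfin6, h6]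
  have hc8 : S8.card = 398034000 := by rw [hS8, ← Set.ncard_eq_toFinset_card _ hfin8, h8]
  have hA := lemmaA B hsymm hpos heven h2
  -- the shells of norm 4 and 6
  have hdisj46 : Disjoint S4 S6 := by
    rw [Finset.disjoint_left]
    intro v hv4 hv6
    rw [hm4] at hv4; rw [hm6] at hv6; omega
  have hc46 : (S4 ∪ S6).card = 16969680 := by
    rw [Finset.card_union_of_disjoint hdisj46, hc4, hc6]
  have hm46 : ∀ v, v ∈ S4 ∪ S6 ↔ (v ⬝ᵥ (B *ᵥ v) = 4 ∨ v ⬝ᵥ (B *ᵥ v) = 6) := fun v => by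
    rw [Finset.mem_union, hm4, hm6]
  -- fibers of reduction mod 2 on S4 ∪ S6 have at most two elements
  have hfib2 : (S4 ∪ S6).card ≤ 2 * ((S4 ∪ S6).image red).card := by
    apply Finset.card_le_mul_card_image
    intro c hc
    rw [Finset.mem_image] at hc
    obtain ⟨u, hu, rfl⟩ := hc
    have hsub : (S4 ∪ S6).filter (fun v => red v = red u) ⊆ {u, -u} := by
      intro v hv
      rw [Finset.mem_filter] at hv
      rw [Finset.mem_insert, Finset.mem_singleton]
      have hu' := (hm46 u).mp hu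
      have hv' := (hm46 v).mp hv.1
      rcases hA u v ((red_eq_iff u v).mp hv.2.symm) (by omega) with h | h | h
      · left; exact h
      · right; exact h
      · omega
    exact le_trans (Finset.card_le_card hsub) Finset.card_le_two
  -- the three families of classes are disjoint
  have hdisj : Disjoint (S8.image red) ((S4 ∪ S6).image red) := by
    rw [Finset.disjoint_left]
    intro c hc8' hc46'
    rw [Finset.mem_image] at hc8' hc46'
    obtain ⟨u, hu, rfl⟩ := hc8'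
    obtain ⟨v, hv, hvu⟩ := hc46'
    have hu' := (hm8 u).mp hu
    have hv' := (hm46 v).mp hv
    rcases hA u v ((red_eq_iff u v).mp hvu.symm) (by omega) with h | h | h
    · rw [h] at hv'; omega
    · rw [h, form_neg] at hv'; omega
    · omega
  have hzero : red 0 ∉ S8.image red ∪ (S4 ∪ S6).image red := by
    intro hmem
    rw [Finset.mem_union, Finset.mem_image, Finset.mem_image] at hmem
    have key : ∀ v : Fin 24 → ℤ, red v = red 0 → v ⬝ᵥ (B *ᵥ v) ≤ 8 → v ⬝ᵥ (B *ᵥ v) = 0 := by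
      intro v hv hle
      have h00 := form_zero B
      rcases hA 0 v ((red_eq_iff 0 v).mp hv.symm) (by rw [h00]; omega) with h | h | h
      · rw [h]; exact h00
      · rw [h, neg_zero]; exact h00
      · rw [h00] at h; omega
    rcases hmem with ⟨v, hv, hv0⟩ | ⟨v, hv, hv0⟩
    · have := (hm8 v).mp hv
      have := key v hv0 (by omega)
      omega
    · have := (hm46 v).mp hv
      have := key v hv0 (by omega)
      omega
  have hcard_le : (S8.image red).card + ((S4 ∪ S6).image red).card + 1 ≤ 16777216 := by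
    have h1 : (insert (red 0) (S8.image red ∪ (S4 ∪ S6).image red)).card ≤
        Fintype.card (Fin 24 → ZMod 2) := Finset.card_le_univ _
    rw [Finset.card_insert_of_notMem hzero, Finset.card_union_of_disjoint hdisj] at h1
    have h2 : Fintype.card (Fin 24 → ZMod 2) = 16777216 := by
      rw [Fintype.card_fun, ZMod.card, Fintype.card_fin]; norm_num
    omega
  -- fibers on S8 have at most 48 elements
  have hfib48 : ∀ c, (S8.filter fun v => red v = c).card ≤ 48 := by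
    intro c
    apply fiber_card_le B hpos
    · intro v hv h0
      have := (hm8 v).mp (Finset.mem_filter.mp hv).1
      rw [h0, form_zero] at this
      omega
    · intro u hu v hv
      rw [Finset.mem_filter] at hu hv
      have hu' := (hm8 u).mp hu.1
      have hv' := (hm8 v).mp hv.1
      rcases hA u v ((red_eq_iff u v).mp (hu.2.trans hv.2.symm)) (by omega) with h | h | h
      · left; exact h
      · right; left; exact h
      · right; right; exact h.2
  -- count S8 through its fibers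
  have hx8 : x ∈ S8 := (hm8 x).mpr hx
  have hc0 : red x ∈ S8.image red := Finset.mem_image_of_mem _ hx8
  have hsum : S8.card = ∑ c ∈ S8.image red, (S8.filter fun v => red v = c).card :=
    Finset.card_eq_sum_card_image red S8
  rw [← Finset.add_sum_erase _ _ hc0] at hsum
  have hrest : ∑ c ∈ (S8.image red).erase (red x), (S8.filter fun v => red v = c).card ≤
      ((S8.image red).erase (red x)).card * 48 := by
    apply Finset.sum_le_card_nsmul
    intro c _
    exact hfib48 c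
  rw [Finset.card_erase_of_mem hc0] at hrest
  have hpos' : 0 < (S8.image red).card := Finset.card_pos.mpr ⟨_, hc0⟩
  have hge : 48 ≤ (S8.filter fun v => red v = red x).card := by omega
  have heq : (S8.filter fun v => red v = red x).card = 48 := le_antisymm (hfib48 _) hge
  -- identify the set
  rw [← heq, ← Set.ncard_coe_finset]
  congr 1
  ext y
  simp only [Set.mem_ofPred_eq, Finset.coe_filter, hm8]
  rw [red_eq_iff y x]
  constructor
  · rintro ⟨h1, h2⟩
    refine ⟨h1, fun i => ?_⟩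
    have := h2 i
    rw [Pi.sub_apply] at this ⊢
    exact (dvd_sub_comm).mp this
  · rintro ⟨h1, h2⟩
    refine ⟨h1, fun i => ?_⟩
    have := h2 i
    rw [Pi.sub_apply] at this ⊢
    exact (dvd_sub_comm).mp this

end Cfsg.Agent.S1588
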