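import Cfsg.Statements.S0357
import Cfsg.Agent.Helper6.Steiner3

set_option autoImplicit false
open Cfsg

namespace Cfsg.Agent.S0357

/-- In a Steiner system S(5, 6, 12), the complement of every block is again a block. -/
theorem result {α : Type*} [Fintype α] [DecidableEq α] (hα : Fintype.card α = 12) {B : Set (Finset α)} (hB : Cfsg.IsSteinerSystem 5 6 B) {b : Finset α} (hb : b ∈ B) : bᶜ ∈ B := by
  obtain ⟨h0, _⟩ := Cfsg.Agent.Helper6.nums_5_6_12 hα hB hb
  have hne : Cfsg.Agent.Helper6.interNum B b 0 ≠ 0 := by rw [h0]; norm_num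
  rw [Ne, Cfsg.Agent.Helper6.interNum_eq_zero_iff] at hne
  simp only [not_forall, ne_eq, not_not] at hne
  obtain ⟨c, hc, hcard⟩ := hne
  rw [Finset.card_eq_zero, ← Finset.disjoint_iff_inter_eq_empty] at hcard
  have hsub : c ⊆ bᶜ := by
    intro x hx
    rw [Finset.mem_compl]
    exact fun hxb => (Finset.disjoint_left.1 hcard) hxb hx
  have hcc : c.card = 6 := hB.1 c hc
  have hbc : bᶜ.card = 6 := by
    rw [Finset.card_compl, hα, hB.1 b hb]
  have : c = bᶜ := Finset.eq_of_subset_of_card_le hsub (by rw [hcc, hbc])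
  rw [← this]; exact hc

end Cfsg.Agent.S0357
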