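import Cfsg.Statements.S1595
import Cfsg.Agent.Helper27.Steiner

set_option autoImplicit false
open Cfsg

namespace Cfsg.Agent.S1595

open Cfsg.Agent.Helper27

section
variable {α : Type*} [DecidableEq α]

/-- the number of blocks through `s` is the sum over the sets `s'` between `s` and `b` of the number
of blocks meeting `b` exactly in `s'`, grouped by the size of `s'` -/
theorem through_eq_sum (𝔅 : Finset (Finset α)) (b s : Finset α) (hsb : s ⊆ b) (hb6 : b.card = 6) :
    (𝔅.filter (s ⊆ ·)).card =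
      ∑ j ∈ Finset.range 7, ∑ s' ∈ (Finset.powersetCard j b).filter (s ⊆ ·),
        (𝔅.filter fun c => b ∩ c = s').card := by
  have h1 : (𝔅.filter (s ⊆ ·)).card =
      ∑ s' ∈ b.powerset.filter (s ⊆ ·), ((𝔅.filter (s ⊆ ·)).filter fun c => b ∩ c = s').card := by
    apply Finset.card_eq_sum_card_fiberwise
    intro c hc
    rw [Finset.mem_coe, Finset.mem_filter] at hc
    rw [Finset.mem_coe, Finset.mem_filter, Finset.mem_powerset]
    exact ⟨Finset.inter_subset_left, Finset.subset_inter hsb hc.2⟩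
  have h2 : ∀ s' ∈ b.powerset.filter (s ⊆ ·),
      ((𝔅.filter (s ⊆ ·)).filter fun c => b ∩ c = s').card = (𝔅.filter fun c => b ∩ c = s').card := by
    intro s' hs'
    rw [Finset.mem_filter] at hs'
    congr 1
    ext c
    simp only [Finset.mem_filter]
    constructor
    · rintro ⟨⟨hc, _⟩, h⟩; exact ⟨hc, h⟩
    · rintro ⟨hc, h⟩
      refine ⟨⟨hc, ?_⟩, h⟩
      exact (h ▸ hs'.2).trans Finset.inter_subset_right
  rw [h1, Finset.sum_congr rfl h2]
  rw [← Finset.sum_fiberwise_of_maps_to (g := Finset.card) (t := Finset.range 7)]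
  · apply Finset.sum_congr rfl
    intro j _
    apply Finset.sum_congr _ (fun _ _ => rfl)
    ext u
    simp only [Finset.mem_filter, Finset.mem_powerset, Finset.mem_powersetCard]
    tauto
  · intro u hu
    rw [Finset.mem_filter, Finset.mem_powerset] at hu
    rw [Finset.mem_range]
    have := Finset.card_le_card hu.1
    omega

theorem sum_const_level (𝔅 : Finset (Finset α)) (b s : Finset α) (hsb : s ⊆ b) (j e : ℕ) (hj : s.card ≤ j)
    (h : ∀ s' ⊆ b, s'.card = j → (𝔅.filter fun c => b ∩ c = s').card = e) :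
    ∑ s' ∈ (Finset.powersetCard j b).filter (s ⊆ ·), (𝔅.filter fun c => b ∩ c = s').card =
      (b.card - s.card).choose (j - s.card) * e := by
  rw [Finset.sum_congr rfl (fun s' hs' => ?_), Finset.sum_const, smul_eq_mul,
    Finset.card_filter_powersetCard_subset s b j hsb hj]
  rw [Finset.mem_filter, Finset.mem_powersetCard] at hs'
  exact h s' hs'.1.1 hs'.1.2

theorem sum_self_level (𝔅 : Finset (Finset α)) (b s : Finset α) (hsb : s ⊆ b) :
    ∑ s' ∈ (Finset.powersetCard s.card b).filter (s ⊆ ·), (𝔅.filter fun c => b ∩ c = s').card =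
      (𝔅.filter fun c => b ∩ c = s).card := by
  have : (Finset.powersetCard s.card b).filter (s ⊆ ·) = {s} := by
    ext u
    simp only [Finset.mem_filter, Finset.mem_powersetCard, Finset.mem_singleton]
    constructor
    · rintro ⟨⟨_, hc⟩, hsu⟩
      exact (Finset.eq_of_subset_of_card_le hsu (le_of_eq hc)).symm
    · rintro rfl
      exact ⟨⟨hsb, rfl⟩, Finset.Subset.refl _⟩
  rw [this, Finset.sum_singleton]

theorem sum_low_level (𝔅 : Finset (Finset α)) (b s : Finset α) (j : ℕ) (hj : j < s.card) :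
    ∑ s' ∈ (Finset.powersetCard j b).filter (s ⊆ ·), (𝔅.filter fun c => b ∩ c = s').card = 0 := by
  have : (Finset.powersetCard j b).filter (s ⊆ ·) = ∅ := by
    ext u
    simp only [Finset.mem_filter, Finset.mem_powersetCard, Finset.notMem_empty, iff_false]
    rintro ⟨⟨_, hc⟩, hsu⟩
    have := Finset.card_le_card hsu
    omega
  rw [this, Finset.sum_empty]

end

/-- Leech triangle of S(5, 6, 12): blocks meet in 0, 2, 3 or 4 points, and a block is met exactly in a given 2-, 3- or 4-subset by 3, 2, 3 blocks respectively. -/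
theorem result {α : Type*} [Fintype α] [DecidableEq α] (hα : Fintype.card α = 12) {B : Set (Finset α)} (hB : Cfsg.IsSteinerSystem 5 6 B) (b : Finset α) (hb : b ∈ B) : (∀ c ∈ B, c ≠ b → (b ∩ c).card = 0 ∨ (b ∩ c).card = 2 ∨ (b ∩ c).card = 3 ∨ (b ∩ c).card = 4) ∧ ∀ s ⊆ b, (s.card = 2 → {c : Finset α | c ∈ B ∧ b ∩ c = s}.ncard = 3) ∧ (s.card = 3 → {c : Finset α | c ∈ B ∧ b ∩ c = s}.ncard = 2) ∧ (s.card = 4 → {c : Finset α | c ∈ B ∧ b ∩ c = s}.ncard = 3) := by
  classical
  have hB' := hB
  obtain ⟨hk, hex⟩ := hB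
  have hb6 : b.card = 6 := hk b hb
  set 𝔅 : Finset (Finset α) := Finset.univ.filter (· ∈ B) with h𝔅
  have hmem : ∀ c, c ∈ 𝔅 ↔ c ∈ B := by intro c; simp [h𝔅]
  -- number of blocks through a set
  have hthrough : ∀ s : Finset α, s.card ≤ 5 →
      (𝔅.filter (s ⊆ ·)).card * (6 - s.card).choose (5 - s.card) = (12 - s.card).choose (5 - s.card) := by
    intro s hs
    have := steiner_ncard_blocks_mul hB' s hs
    rw [hα] at this
    rw [← this, ← Set.ncard_coe_finset]
    congr 2
    ext c
    simp [hmem]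
  -- exact intersection numbers, as finset cardinalities
  have hE : ∀ s : Finset α, {c : Finset α | c ∈ B ∧ b ∩ c = s}.ncard = (𝔅.filter fun c => b ∩ c = s).card := by
    intro s
    rw [← Set.ncard_coe_finset]
    congr 1
    ext c
    simp [hmem]
  -- level 6
  have e6 : ∀ s ⊆ b, s.card = 6 → (𝔅.filter fun c => b ∩ c = s).card = 1 := by
    intro s hsb hs
    have hsb' : s = b := Finset.eq_of_subset_of_card_le hsb (by omega)
    subst hsb'
    rw [Finset.card_eq_one]
    refine ⟨s, ?_⟩
    ext c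
    simp only [Finset.mem_filter, Finset.mem_singleton, hmem]
    constructor
    · rintro ⟨hc, h⟩
      have hsc : s ⊆ c := Finset.inter_eq_left.mp h
      exact (Finset.eq_of_subset_of_card_le hsc (by rw [hk c hc, hb6])).symm
    · rintro rfl
      exact ⟨hb, Finset.inter_self _⟩
  -- level 5
  have e5 : ∀ s ⊆ b, s.card = 5 → (𝔅.filter fun c => b ∩ c = s).card = 0 := by
    intro s hsb hs
    rw [Finset.card_eq_zero, Finset.filter_eq_empty_iff]
    intro c hc h
    rw [hmem] at hc
    obtain ⟨b0, _, huniq⟩ := hex s hs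
    have h1 : b = b0 := huniq b ⟨hb, hsb⟩
    have h2 : c = b0 := huniq c ⟨hc, h ▸ Finset.inter_subset_right⟩
    rw [h2, ← h1, Finset.inter_self] at h
    rw [← h] at hs
    omega
  -- the main recursion
  have hrec : ∀ s ⊆ b, (𝔅.filter (s ⊆ ·)).card =
      ∑ j ∈ Finset.range 7, ∑ s' ∈ (Finset.powersetCard j b).filter (s ⊆ ·),
        (𝔅.filter fun c => b ∩ c = s').card := fun s hsb => through_eq_sum 𝔅 b s hsb hb6
  -- level 4
  have e4 : ∀ s ⊆ b, s.card = 4 → (𝔅.filter fun c => b ∩ c = s).card = 3 := by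
    intro s hsb hs
    have h := hrec s hsb
    have ht := hthrough s (by omega)
    simp only [Finset.sum_range_succ, Finset.sum_range_zero, zero_add] at h
    rw [sum_low_level 𝔅 b s 0 (by omega), sum_low_level 𝔅 b s 1 (by omega),
      sum_low_level 𝔅 b s 2 (by omega), sum_low_level 𝔅 b s 3 (by omega),
      sum_const_level 𝔅 b s hsb 5 0 (by omega) e5, sum_const_level 𝔅 b s hsb 6 1 (by omega) e6] at h
    have h4 := sum_self_level 𝔅 b s hsb
    rw [hs] at h4
    rw [h4, hb6, hs] at h
    rw [hs] at ht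
    norm_num [Nat.choose] at h ht
    omega
  -- level 3
  have e3 : ∀ s ⊆ b, s.card = 3 → (𝔅.filter fun c => b ∩ c = s).card = 2 := by
    intro s hsb hs
    have h := hrec s hsb
    have ht := hthrough s (by omega)
    simp only [Finset.sum_range_succ, Finset.sum_range_zero, zero_add] at h
    rw [sum_low_level 𝔅 b s 0 (by omega), sum_low_level 𝔅 b s 1 (by omega),
      sum_low_level 𝔅 b s 2 (by omega),
      sum_const_level 𝔅 b s hsb 4 3 (by omega) e4,
      sum_const_level 𝔅 b s hsb 5 0 (by omega) e5, sum_const_level 𝔅 b s hsb 6 1 (by omega) e6] at h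
    have h4 := sum_self_level 𝔅 b s hsb
    rw [hs] at h4
    rw [h4, hb6, hs] at h
    rw [hs] at ht
    norm_num [Nat.choose] at h ht
    omega
  -- level 2
  have e2 : ∀ s ⊆ b, s.card = 2 → (𝔅.filter fun c => b ∩ c = s).card = 3 := by
    intro s hsb hs
    have h := hrec s hsb
    have ht := hthrough s (by omega)
    simp only [Finset.sum_range_succ, Finset.sum_range_zero, zero_add] at h
    rw [sum_low_level 𝔅 b s 0 (by omega), sum_low_level 𝔅 b s 1 (by omega),
      sum_const_level 𝔅 b s hsb 3 2 (by omega) e3,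
      sum_const_level 𝔅 b s hsb 4 3 (by omega) e4,
      sum_const_level 𝔅 b s hsb 5 0 (by omega) e5, sum_const_level 𝔅 b s hsb 6 1 (by omega) e6] at h
    have h4 := sum_self_level 𝔅 b s hsb
    rw [hs] at h4
    rw [h4, hb6, hs] at h
    rw [hs] at ht
    norm_num [Nat.choose] at h ht
    omega
  -- level 1
  have e1 : ∀ s ⊆ b, s.card = 1 → (𝔅.filter fun c => b ∩ c = s).card = 0 := by
    intro s hsb hs
    have h := hrec s hsb
    have ht := hthrough s (by omega)
    simp only [Finset.sum_range_succ, Finset.sum_range_zero, zero_add] at h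
    rw [sum_low_level 𝔅 b s 0 (by omega),
      sum_const_level 𝔅 b s hsb 2 3 (by omega) e2,
      sum_const_level 𝔅 b s hsb 3 2 (by omega) e3,
      sum_const_level 𝔅 b s hsb 4 3 (by omega) e4,
      sum_const_level 𝔅 b s hsb 5 0 (by omega) e5, sum_const_level 𝔅 b s hsb 6 1 (by omega) e6] at h
    have h4 := sum_self_level 𝔅 b s hsb
    rw [hs] at h4
    rw [h4, hb6, hs] at h
    rw [hs] at ht
    norm_num [Nat.choose] at h ht
    omega
  refine ⟨?_, ?_⟩
  · intro c hc hcb
    have hle : (b ∩ c).card ≤ 6 := by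
      have := Finset.card_le_card (Finset.inter_subset_left : b ∩ c ⊆ b)
      omega
    have hsub : b ∩ c ⊆ b := Finset.inter_subset_left
    have hcmem : c ∈ 𝔅.filter fun c' => b ∩ c' = b ∩ c := by
      rw [Finset.mem_filter, hmem]; exact ⟨hc, rfl⟩
    have hpos : 0 < (𝔅.filter fun c' => b ∩ c' = b ∩ c).card := Finset.card_pos.mpr ⟨c, hcmem⟩
    have h1 : (b ∩ c).card ≠ 1 := fun h => by rw [e1 _ hsub h] at hpos; omega
    have h5 : (b ∩ c).card ≠ 5 := fun h => by rw [e5 _ hsub h] at hpos; omega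
    have h6 : (b ∩ c).card ≠ 6 := by
      intro h
      have hbc : b ∩ c = b := Finset.eq_of_subset_of_card_le hsub (by omega)
      have hbc' : b ⊆ c := Finset.inter_eq_left.mp hbc
      exact hcb (Finset.eq_of_subset_of_card_le hbc' (by rw [hk c hc, hb6])).symm
    omega
  · intro s hsb
    refine ⟨fun hs => ?_, fun hs => ?_, fun hs => ?_⟩
    · rw [hE, e2 s hsb hs]
    · rw [hE, e3 s hsb hs]
    · rw [hE, e4 s hsb hs]

end Cfsg.Agent.S1595
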