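import Cfsg.Statements.S0385
import Cfsg.Agent.Helper8.Dodecad

set_option autoImplicit false
open Cfsg

namespace Cfsg.Agent.S0385

/-- The 6-point intersections of octads with a fixed dodecad form a Steiner system S(5, 6, 12) on the dodecad. -/
theorem result (d : Finset Cfsg.GolayPt) (hd : d ∈ Cfsg.dodecads) : Cfsg.IsSteinerSystem 5 6 {h : Finset {p : Cfsg.GolayPt // p ∈ d} | ∃ o ∈ Cfsg.octads, (o ∩ d).card = 6 ∧ h = Finset.subtype (fun p => p ∈ d) o} := by
  classical
  have hS := Cfsg.Agent.Helper27.octads_steiner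
  refine ⟨?_, ?_⟩
  · rintro b ⟨o, ho, h6, rfl⟩
    rw [Finset.card_subtype, Finset.filter_mem_eq_inter, h6]
  · intro s hs
    set s' : Finset GolayPt := s.map (Function.Embedding.subtype _) with hs'
    have hs'card : s'.card = 5 := by rw [hs', Finset.card_map, hs]
    have hs'd : s' ⊆ d := by
      intro y hy
      rw [hs', Finset.mem_map] at hy
      obtain ⟨x, _, rfl⟩ := hy
      exact x.2
    obtain ⟨o, ⟨ho, hso⟩, huniq⟩ := hS.2 s' hs'card
    have h6 : (o ∩ d).card = 6 := by
      have h5 : 5 ≤ (o ∩ d).card := by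
        rw [← hs'card]
        exact Finset.card_le_card (Finset.subset_inter hso hs'd)
      rcases Cfsg.Agent.Helper8.octad_inter_dodecad ho hd with h | h | h <;> omega
    refine ⟨Finset.subtype (fun p => p ∈ d) o, ⟨⟨o, ho, h6, rfl⟩, ?_⟩, ?_⟩
    · intro x hx
      rw [Finset.mem_subtype]
      apply hso
      rw [hs', Finset.mem_map]
      exact ⟨x, hx, rfl⟩
    · rintro b' ⟨⟨o', ho', _, rfl⟩, hsb⟩
      have : o' = o := by
        apply huniq o' ⟨ho', ?_⟩
        intro y hy
        rw [hs', Finset.mem_map] at hy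
        obtain ⟨x, hx, rfl⟩ := hy
        have := hsb hx
        rw [Finset.mem_subtype] at this
        exact this
      rw [this]

end Cfsg.Agent.S0385
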