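import Cfsg.Statements.S2469
import Cfsg.Agent.S2472
import Cfsg.Agent.Helper38.SpAdj2
import Cfsg.Agent.Helper38.SpTorus
import Cfsg.Agent.Helper38.PSLLift
import Cfsg.Agent.Helper40.SylowSp

set_option autoImplicit false
open Cfsg

namespace Cfsg.Agent.S2469

open Matrix Module Cfsg.Agent.Helper38

section general

/-- an element of order `N` prime to the order of the centre lifts to an element of order `N` -/
theorem exists_lift_orderOf {G : Type*} [Group G] [Finite G] (y : G ⧸ Subgroup.center G) (N : ℕ)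
    (hN : 1 < N) (hy : orderOf y = N) (hcop : Nat.Coprime N (Nat.card (Subgroup.center G))) :
    ∃ X : G, orderOf X = N := by
  obtain ⟨Y, rfl⟩ := QuotientGroup.mk_surjective y
  set m := Nat.card (Subgroup.center G) with hm
  obtain ⟨m', -, hm'⟩ := Nat.exists_mul_mod_eq_one_of_coprime hcop.symm hN
  have hYZ : Y ^ N ∈ Subgroup.center G := by
    rw [← QuotientGroup.eq_one_iff, QuotientGroup.mk_pow, ← hy]
    exact pow_orderOf_eq_one _
  have hYm : (Y ^ N) ^ m = 1 := by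
    have := pow_card_eq_one' (x := (⟨_, hYZ⟩ : Subgroup.center G))
    exact congrArg Subtype.val this
  refine ⟨Y ^ (m * m'), ?_⟩
  apply Nat.dvd_antisymm
  · apply orderOf_dvd_of_pow_eq_one
    rw [← pow_mul, mul_comm, pow_mul, pow_mul, hYm, one_pow]
  · have h1 : (QuotientGroup.mk (Y ^ (m * m')) : G ⧸ Subgroup.center G) = QuotientGroup.mk Y := by
      rw [QuotientGroup.mk_pow]
      have h2 := Nat.div_add_mod (m * m') N
      rw [hm'] at h2
      rw [← h2, pow_add, pow_mul, pow_one, ← hy, pow_orderOf_eq_one, one_pow, one_mul]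
    have h3 := orderOf_map_dvd (QuotientGroup.mk' (Subgroup.center G)) (Y ^ (m * m'))
    rw [QuotientGroup.mk'_apply, h1, hy] at h3
    exact h3

end general

section sp
variable {F : Type*} [Field F] [Fintype F]

/-- the order of the centre of `Sp_{2n}(q)` is prime to odd numbers -/
theorem coprime_card_center_of_odd (n : ℕ) (hn : 1 ≤ n) (N : ℕ) (hN : Odd N) :
    Nat.Coprime N (Nat.card (Subgroup.center (Matrix.symplecticGroup (Fin n) F))) := by
  rw [Cfsg.Agent.S0246.result rfl n hn]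
  exact Nat.Coprime.coprime_dvd_right (Nat.gcd_dvd_left _ _) (Nat.coprime_two_right.mpr hN)

/-- from `Sp_{2a}` to `PSp_{2n}` -/
theorem exists_psp_of_sp (a n : ℕ) (hn : 1 ≤ n) (han : a ≤ n) (N : ℕ) (hN : Odd N)
    (y : Matrix.symplecticGroup (Fin a) F) (hy : orderOf y = N) :
    ∃ x : Cfsg.PSp n F, orderOf x = N := by
  set X := spBlock (F := F) (show a + (n - a) = n by omega) (y, 1) with hX
  have hXord : orderOf X = N := by
    rw [hX, orderOf_injective _ (spBlock_injective _), Prod.orderOf_mk, hy, orderOf_one,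
      Nat.lcm_one_right]
  refine ⟨QuotientGroup.mk X, ?_⟩
  rw [Cfsg.Agent.S2472.orderOf_mk_of_coprime_center X (by
    rw [hXord]
    exact coprime_card_center_of_odd n hn N hN), hXord]

theorem bound_of_orderOf (p : ℕ) [hp : Fact p.Prime] [CharP F p] (n : ℕ) (hn : 2 ≤ n)
    (r s : ℕ) [hr : Fact r.Prime] [hs : Fact s.Prime] (hr2 : r ≠ 2) (hs2 : s ≠ 2)
    (hrp : r ≠ p) (hsp : s ≠ p)
    (x : Cfsg.PSp n F) (hx : orderOf x = r * s)
    (k l ηk ηl : ℕ) (hk : k = orderOf ((Fintype.card F : ℕ) : ZMod r))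
    (hl : l = orderOf ((Fintype.card F : ℕ) : ZMod s))
    (hηk : (Odd k ∧ ηk = k) ∨ (Even k ∧ 2 * ηk = k))
    (hηl : (Odd l ∧ ηl = l) ∨ (Even l ∧ 2 * ηl = l)) (hkl : ηk ≤ ηl) :
    ηk + ηl ≤ n ∨ ∃ t : ℕ, Odd t ∧ l = k * t := by
  obtain ⟨f, -, hf⟩ := FiniteField.card F p
  have hnotdvd : ∀ t : ℕ, t.Prime → t ≠ p → ¬ t ∣ Fintype.card F := by
    intro t ht htp h
    rw [hf] at h
    exact htp ((Nat.prime_dvd_prime_iff_eq ht hp.out).mp (ht.dvd_of_dvd_pow h))
  have hne0 : ∀ t : ℕ, t.Prime → t ≠ p → (t : F) ≠ 0 := by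
    intro t ht htp h
    have h1 := (CharP.cast_eq_zero_iff F p t).mp h
    exact htp ((Nat.prime_dvd_prime_iff_eq hp.out ht).mp h1).symm
  have hrodd : Odd r := hr.out.odd_of_ne_two hr2
  have hsodd : Odd s := hs.out.odd_of_ne_two hs2
  have hrs1 : 1 < r * s := by
    have := hr.out.two_le
    have := hs.out.two_le
    nlinarith
  obtain ⟨X, hX⟩ := exists_lift_orderOf x (r * s) hrs1 hx
    (coprime_card_center_of_odd n (by omega) (r * s) (hrodd.mul hsodd))
  have hXrs : X ^ (r * s) = 1 := by rw [← hX]; exact pow_orderOf_eq_one X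
  have hXs : X ^ s ≠ 1 := by
    intro h
    have := orderOf_dvd_of_pow_eq_one h
    rw [hX] at this
    have h2 := Nat.le_of_dvd hs.out.pos this
    have := hr.out.two_le
    have := hs.out.pos
    nlinarith
  have hXr : X ^ r ≠ 1 := by
    intro h
    have := orderOf_dvd_of_pow_eq_one h
    rw [hX] at this
    have h2 := Nat.le_of_dvd hr.out.pos this
    have := hs.out.two_le
    have := hr.out.pos
    nlinarith
  have : Nonempty (Fin n ⊕ Fin n) := ⟨Sum.inl ⟨0, by omega⟩⟩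
  set XM : Matrix (Fin n ⊕ Fin n) (Fin n ⊕ Fin n) F := (X : Matrix (Fin n ⊕ Fin n) (Fin n ⊕ Fin n) F)
    with hXM
  have hpowM : ∀ j : ℕ, XM ^ j = ((X ^ j : Matrix.symplecticGroup (Fin n) F) :
      Matrix (Fin n ⊕ Fin n) (Fin n ⊕ Fin n) F) := by
    intro j
    rw [hXM, ← SubmonoidClass.coe_pow]
  have hφ := (Matrix.toLinAlgEquiv' (R := F) (n := Fin n ⊕ Fin n)).injective
  have hfin : finrank F (Fin n ⊕ Fin n → F) = 2 * n := by
    rw [Module.finrank_fintype_fun_eq_card, Fintype.card_sum, Fintype.card_fin, two_mul]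
  have hone : ((1 : Matrix.symplecticGroup (Fin n) F) : Matrix (Fin n ⊕ Fin n) (Fin n ⊕ Fin n) F) = 1 :=
    rfl
  exact sp_two_primes_bound (Cfsg.Agent.Helper99.sympBilin n F)
    Cfsg.Agent.Helper99.sympBilin_isAlt (Cfsg.Agent.S2472.sympBilin_nondegenerate n)
    (Matrix.toLinAlgEquiv' (R := F) (n := Fin n ⊕ Fin n) XM)
    (fun u v => Cfsg.Agent.Helper99.sympBilin_toLin X u v) r s hr2 hs2
    (by rw [← map_pow, hpowM, hXrs, hone, map_one])
    (by
      intro h
      apply hXs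
      apply Subtype.ext
      rw [← hpowM, hone]
      apply hφ
      rw [map_pow, h, map_one])
    (by
      intro h
      apply hXr
      apply Subtype.ext
      rw [← hpowM, hone]
      apply hφ
      rw [map_pow, h, map_one])
    (hnotdvd r hr.out hrp) (hnotdvd s hs.out hsp) (hne0 r hr.out hrp) (hne0 s hs.out hsp)
    n hfin k l ηk ηl hk hl hηk hηl hkl


/-- construction (A): `η(k) + η(l) ≤ n` -/
theorem exists_of_sum_le (n : ℕ) (hn : 2 ≤ n)
    (r s : ℕ) [hr : Fact r.Prime] [hs : Fact s.Prime] (hr2 : r ≠ 2) (hs2 : s ≠ 2) (hrs : r ≠ s)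
    (hrq : ¬ r ∣ Fintype.card F) (hsq : ¬ s ∣ Fintype.card F)
    (k l ηk ηl : ℕ) (hk : k = orderOf ((Fintype.card F : ℕ) : ZMod r))
    (hl : l = orderOf ((Fintype.card F : ℕ) : ZMod s))
    (hηk : (Odd k ∧ ηk = k) ∨ (Even k ∧ 2 * ηk = k))
    (hηl : (Odd l ∧ ηl = l) ∨ (Even l ∧ 2 * ηl = l)) (hsum : ηk + ηl ≤ n) :
    ∃ x : Cfsg.PSp n F, orderOf x = r * s := by
  have hq : 1 ≤ Fintype.card F := Fintype.card_pos
  have hk0 : 0 < k := hk ▸ Cfsg.Agent.Helper40.ordq_pos hrq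
  have hl0 : 0 < l := hl ▸ Cfsg.Agent.Helper40.ordq_pos hsq
  have hηk1 : 1 ≤ ηk := by rcases hηk with ⟨-, h⟩ | ⟨-, h⟩ <;> omega
  have hηl1 : 1 ≤ ηl := by rcases hηl with ⟨-, h⟩ | ⟨-, h⟩ <;> omega
  have hdvdr : r ∣ Fintype.card F ^ (2 * ηk) - 1 := by
    rw [Cfsg.Agent.Helper40.dvd_pow_sub_one_iff hq, ← hk]
    rcases hηk with ⟨-, h⟩ | ⟨-, h⟩
    · rw [h]; exact dvd_mul_left k 2
    · rw [h]
  have hdvds : s ∣ Fintype.card F ^ (2 * ηl) - 1 := by
    rw [Cfsg.Agent.Helper40.dvd_pow_sub_one_iff hq, ← hl]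
    rcases hηl with ⟨-, h⟩ | ⟨-, h⟩
    · rw [h]; exact dvd_mul_left l 2
    · rw [h]
  obtain ⟨yr, hyr⟩ := Cfsg.Agent.S2472.exists_orderOf_sp (F := F) ηk r ηk hηk1 le_rfl hdvdr
  obtain ⟨ys, hys⟩ := Cfsg.Agent.S2472.exists_orderOf_sp (F := F) ηl s ηl hηl1 le_rfl hdvds
  set Y := spBlock (F := F) (rfl : ηk + ηl = ηk + ηl) (yr, ys) with hY
  have hYord : orderOf Y = r * s := by
    rw [hY, orderOf_injective _ (spBlock_injective _), Prod.orderOf_mk, hyr, hys,
      ((Nat.coprime_primes hr.out hs.out).mpr hrs).lcm_eq_mul]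
  exact exists_psp_of_sp (ηk + ηl) n (by omega) hsum (r * s)
    ((hr.out.odd_of_ne_two hr2).mul (hs.out.odd_of_ne_two hs2)) Y hYord

/-- construction (B): `l = k t` with `t` odd and `η(l) ≤ n` -/
theorem exists_of_odd_multiple (n : ℕ) (hn : 2 ≤ n)
    (r s : ℕ) [hr : Fact r.Prime] [hs : Fact s.Prime] (hr2 : r ≠ 2) (hs2 : s ≠ 2) (hrs : r ≠ s)
    (hrq : ¬ r ∣ Fintype.card F) (hsq : ¬ s ∣ Fintype.card F)
    (k l ηl : ℕ) (hk : k = orderOf ((Fintype.card F : ℕ) : ZMod r))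
    (hl : l = orderOf ((Fintype.card F : ℕ) : ZMod s))
    (hηl : (Odd l ∧ ηl = l) ∨ (Even l ∧ 2 * ηl = l)) (hln : ηl ≤ n)
    (t : ℕ) (ht : Odd t) (hlk : l = k * t) :
    ∃ x : Cfsg.PSp n F, orderOf x = r * s := by
  have hq : 1 ≤ Fintype.card F := Fintype.card_pos
  have hq2 : 2 ≤ Fintype.card F := Fintype.one_lt_card
  have hk0 : 0 < k := hk ▸ Cfsg.Agent.Helper40.ordq_pos hrq
  have hl0 : 0 < l := hl ▸ Cfsg.Agent.Helper40.ordq_pos hsq
  have hcop : Nat.Coprime r s := (Nat.coprime_primes hr.out hs.out).mpr hrs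
  have hodd : Odd (r * s) := (hr.out.odd_of_ne_two hr2).mul (hs.out.odd_of_ne_two hs2)
  have hrl : r ∣ Fintype.card F ^ l - 1 := by
    rw [Cfsg.Agent.Helper40.dvd_pow_sub_one_iff hq, ← hk, hlk]
    exact dvd_mul_right k t
  have hsl : s ∣ Fintype.card F ^ l - 1 := by
    rw [Cfsg.Agent.Helper40.dvd_pow_sub_one_iff hq, ← hl]
  rcases hηl with ⟨hlodd, hηl⟩ | ⟨hleven, hηl⟩
  · -- `l` odd: Singer cycle in `GL_l`, then `GL_l → Sp_{2l}`
    subst hηl
    obtain ⟨M, hM⟩ := exists_matrix_orderOf (F := F) ηl hl0 (r * s)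
      (hcop.mul_dvd_of_dvd_of_dvd hrl hsl)
    have hMpos : 0 < orderOf M := by rw [hM]; exact Nat.mul_pos hr.out.pos hs.out.pos
    have hMu : IsUnit M := by
      have h1 : M ^ orderOf M = 1 := pow_orderOf_eq_one M
      have h2 : M * M ^ (orderOf M - 1) = 1 := by
        rw [← pow_succ', Nat.sub_add_cancel hMpos, h1]
      exact IsUnit.of_mul_eq_one _ h2
    obtain ⟨g, hg⟩ := hMu
    have hgord : orderOf g = r * s := by
      rw [← hM, ← hg]
      exact (orderOf_injective (Units.coeHom _) Units.val_injective g).symm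
    set Y := Cfsg.Agent.Helper40.glToSp (F := F) ηl g with hY
    have hYord : orderOf Y = r * s := by
      rw [hY, orderOf_injective _ (Cfsg.Agent.Helper40.glToSp_injective ηl), hgord]
    exact exists_psp_of_sp ηl n (by omega) hln (r * s) hodd Y hYord
  · -- `l` even: the torus of order `q ^ (l/2) + 1`
    have hηl0 : 0 < ηl := by omega
    -- `k` is even too
    have hkeven : Even k := by
      rcases Nat.even_or_odd k with h | h
      · exact h
      · exfalso
        have : Odd l := by rw [hlk]; exact h.mul ht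
        exact (Nat.not_odd_iff_even.mpr hleven) this
    obtain ⟨κ, hκ⟩ := hkeven
    have hκ2 : k = 2 * κ := by omega
    have hκ0 : 0 < κ := by omega
    have hηlκ : ηl = κ * t := by
      have : 2 * ηl = 2 * (κ * t) := by rw [hηl, hlk, hκ2]; ring
      omega
    -- `s ∣ q ^ ηl + 1`
    have key : ∀ (u : ℕ) [Fact u.Prime], u ≠ 2 → ∀ j : ℕ, 0 < j →
        orderOf ((Fintype.card F : ℕ) : ZMod u) = 2 * j → u ∣ Fintype.card F ^ j + 1 := by
      intro u hu hu2 j hj hord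
      have h1 : u ∣ Fintype.card F ^ (2 * j) - 1 := by
        rw [Cfsg.Agent.Helper40.dvd_pow_sub_one_iff hq, hord]
      have h2 : Fintype.card F ^ (2 * j) - 1 = (Fintype.card F ^ j + 1) * (Fintype.card F ^ j - 1) := by
        rw [mul_comm 2 j, pow_mul]
        have h1 : 1 ≤ Fintype.card F ^ j := Nat.one_le_pow _ _ hq
        generalize Fintype.card F ^ j = a at h1
        obtain ⟨b, rfl⟩ : ∃ b, a = b + 1 := ⟨a - 1, by omega⟩
        have : (b + 1) ^ 2 = (b + 1 + 1) * b + 1 := by ring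
        rw [this]
        simp
      rw [h2] at h1
      rcases (Nat.Prime.dvd_mul hu.out).mp h1 with h | h
      · exact h
      · exfalso
        rw [Cfsg.Agent.Helper40.dvd_pow_sub_one_iff hq, hord] at h
        have := Nat.le_of_dvd hj h
        omega
    have hs_dvd : s ∣ Fintype.card F ^ ηl + 1 :=
      key s hs2 ηl hηl0 (by rw [← hl, hηl])
    have hr_dvd' : r ∣ Fintype.card F ^ κ + 1 :=
      key r hr2 κ hκ0 (by rw [← hk, hκ2])
    have hr_dvd : r ∣ Fintype.card F ^ ηl + 1 := by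
      rw [hηlκ, pow_mul]
      exact hr_dvd'.trans (Odd.nat_add_dvd_pow_add_pow _ 1 ht |>.trans (by rw [one_pow]))
    obtain ⟨Y, hYord⟩ := exists_sp_orderOf_of_dvd_pow_add_one (F := F) ηl hηl0 (r * s)
      (hcop.mul_dvd_of_dvd_of_dvd hr_dvd hs_dvd)
    exact exists_psp_of_sp ηl n (by omega) hln (r * s) hodd Y hYord


/-- a prime divisor `s ∤ q` of `|PSp_{2n}(q)|` has `η(l) ≤ n` -/
theorem eta_le_of_dvd_card (n : ℕ) (s : ℕ) [hs : Fact s.Prime] (hsq : ¬ s ∣ Fintype.card F)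
    (hsG : s ∣ Nat.card (Cfsg.PSp n F)) (l ηl : ℕ)
    (hl : l = orderOf ((Fintype.card F : ℕ) : ZMod s))
    (hηl : (Odd l ∧ ηl = l) ∨ (Even l ∧ 2 * ηl = l)) : ηl ≤ n := by
  have hq : 1 ≤ Fintype.card F := Fintype.card_pos
  have h1 : s ∣ Nat.card (Matrix.symplecticGroup (Fin n) F) :=
    hsG.trans (Subgroup.card_quotient_dvd_card _)
  rw [Cfsg.Agent.Helper5.card_sp] at h1
  rcases (Nat.Prime.dvd_mul hs.out).mp h1 with h | h
  · exact absurd (hs.out.dvd_of_dvd_pow h) hsq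
  · rw [Prime.dvd_finsetProd_iff (Nat.Prime.prime hs.out)] at h
    obtain ⟨i, hi, hdvd⟩ := h
    rw [Finset.mem_range] at hi
    rw [Cfsg.Agent.Helper40.dvd_pow_sub_one_iff hq, ← hl] at hdvd
    rcases hηl with ⟨ho, h⟩ | ⟨-, h⟩
    · have : l ∣ i + 1 := Nat.Coprime.dvd_of_dvd_mul_left (Nat.coprime_two_right.mpr ho) hdvd
      have := Nat.le_of_dvd (by omega) this
      omega
    · rw [← h] at hdvd
      have : ηl ∣ i + 1 := Nat.dvd_of_mul_dvd_mul_left (by norm_num) hdvd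
      have := Nat.le_of_dvd (by omega) this
      omega


end sp

/-- Adjacency of two odd primes in the prime graph of PSp(2n,q): let F be a finite field of characteristic p with q elements, n ≥ 2 with PSp(2n,F) simple, and let r ≠ s be odd primes different from p dividing the order of PSp(2n,F). Let k, l be the multiplicative orders of q modulo r and s, put η(m) = m for odd m and η(m) = m/2 for even m, and suppose η(k) ≤ η(l). Then PSp(2n,F) has NO element of order r·s if and only if η(k) + η(l) > n and l/k is not an odd integer. -/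
theorem result {F : Type*} [Field F] [Fintype F] (p : ℕ) [Fact p.Prime] [CharP F p] (n : ℕ) (hn : 2 ≤ n) (hsmall : n = 2 → 3 ≤ Fintype.card F)
    (r s : ℕ) (hr : r.Prime) (hs : s.Prime) (hr2 : r ≠ 2) (hs2 : s ≠ 2) (hrp : r ≠ p) (hsp : s ≠ p) (hrs : r ≠ s)
    (hrG : r ∣ Nat.card (Cfsg.PSp n F)) (hsG : s ∣ Nat.card (Cfsg.PSp n F))
    (k l ηk ηl : ℕ) (hk : k = orderOf ((Fintype.card F : ℕ) : ZMod r)) (hl : l = orderOf ((Fintype.card F : ℕ) : ZMod s))
    (hηk : (Odd k ∧ ηk = k) ∨ (Even k ∧ 2 * ηk = k)) (hηl : (Odd l ∧ ηl = l) ∨ (Even l ∧ 2 * ηl = l)) (hkl : ηk ≤ ηl) :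
    (r * s ∉ Set.range (orderOf : Cfsg.PSp n F → ℕ)) ↔ (n < ηk + ηl ∧ ¬ ∃ t : ℕ, Odd t ∧ l = k * t) := by
  have hpp : p.Prime := Fact.out
  have : Fact r.Prime := ⟨hr⟩
  have : Fact s.Prime := ⟨hs⟩
  obtain ⟨f, -, hf⟩ := FiniteField.card F p
  have hnotdvd : ∀ t : ℕ, t.Prime → t ≠ p → ¬ t ∣ Fintype.card F := by
    intro t ht htp h
    rw [hf] at h
    exact htp ((Nat.prime_dvd_prime_iff_eq ht hpp).mp (ht.dvd_of_dvd_pow h))
  have hrq := hnotdvd r hr hrp
  have hsq := hnotdvd s hs hsp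
  constructor
  · intro hno
    refine ⟨?_, ?_⟩
    · by_contra hle
      push Not at hle
      apply hno
      obtain ⟨x, hx⟩ := Cfsg.Agent.S2469.exists_of_sum_le (F := F) n hn r s hr2 hs2 hrs hrq hsq
        k l ηk ηl hk hl hηk hηl hle
      exact ⟨x, hx⟩
    · rintro ⟨t, ht, hlk⟩
      apply hno
      have hln := Cfsg.Agent.S2469.eta_le_of_dvd_card (F := F) n s hsq hsG l ηl hl hηl
      obtain ⟨x, hx⟩ := Cfsg.Agent.S2469.exists_of_odd_multiple (F := F) n hn r s hr2 hs2 hrs hrq hsq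
        k l ηl hk hl hηl hln t ht hlk
      exact ⟨x, hx⟩
  · rintro ⟨hlt, hnot⟩ ⟨x, hx⟩
    rcases Cfsg.Agent.S2469.bound_of_orderOf p n hn r s hr2 hs2 hrp hsp x hx k l ηk ηl hk hl hηk hηl hkl
      with h | h
    · omega
    · exact hnot h

end Cfsg.Agent.S2469
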