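-- Statement S2133 (Cfsg.kfact_m24_involution_centralizer_transvection_type).
import Cfsg.Statements.S2133
import Cfsg.Agent.Helper90.M24Hol
import Cfsg.Agent.Helper90.SLPoint
import Cfsg.Agent.Helper90.HolIso

set_option autoImplicit false
open Cfsg

namespace Cfsg.Agent.S2133

open Cfsg.Agent.Helper90 Cfsg.Agent.Helper26

/-- The Mathieu group M₂₄ (the automorphism group of the length-24 binary code) has an involution whose centraliser is isomorphic to the centraliser of a transvection in SL(5, 2) (a group of shape 2^{1+6}:GL(3, 2)). -/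
theorem result (s : Matrix.SpecialLinearGroup (Fin 5) (ZMod 2)) (hs : (s : Matrix (Fin 5) (Fin 5) (ZMod 2)) = Matrix.transvection 0 1 1) : ∃ z : ↥Cfsg.M24, orderOf z = 2 ∧ Nonempty (↥(Subgroup.centralizer ({z} : Set ↥Cfsg.M24)) ≃* ↥(Subgroup.centralizer ({s} : Set (Matrix.SpecialLinearGroup (Fin 5) (ZMod 2))))) := by
  classical
  have ho : Cfsg.Agent.Helper7.O0F ∈ Cfsg.octads := Cfsg.Agent.Helper7.O0F_mem
  have hcard24 : (Finset.univ : Finset Cfsg.GolayPt).card = 24 := by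
    simp [Cfsg.GolayPt]
  obtain ⟨p, _, hp⟩ : ∃ p ∈ (Finset.univ : Finset Cfsg.GolayPt), p ∉ Cfsg.Agent.Helper7.O0F := by
    apply Finset.exists_mem_notMem_of_card_lt_card
    rw [ho.2, hcard24]
    norm_num
  -- a non-trivial element of the pointwise stabilizer of the octad
  have hcardK : Nat.card ↥(octK Cfsg.Agent.Helper7.O0F) = 2 ^ 4 := card_octK ho
  haveI : Finite ↥(octK Cfsg.Agent.Helper7.O0F) :=
    Nat.finite_of_card_ne_zero (by rw [hcardK]; norm_num)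
  haveI : Nontrivial ↥(octK Cfsg.Agent.Helper7.O0F) := by
    rw [← Finite.one_lt_card_iff_nontrivial, hcardK]
    norm_num
  obtain ⟨k, hk⟩ := exists_ne (1 : ↥(octK Cfsg.Agent.Helper7.O0F))
  have hkM : (k : Equiv.Perm Cfsg.GolayPt) ∈ Cfsg.M24 := (Subgroup.mem_inf.1 k.2).1
  have hk1 : (k : Equiv.Perm Cfsg.GolayPt) ≠ 1 := fun h => hk (Subtype.ext h)
  have hz1 : (⟨(k : Equiv.Perm Cfsg.GolayPt), hkM⟩ : ↥Cfsg.M24) ≠ 1 := by
    intro h
    exact hk1 (congrArg Subtype.val h)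
  have hzsq : (⟨(k : Equiv.Perm Cfsg.GolayPt), hkM⟩ : ↥Cfsg.M24) ^ 2 = 1 := by
    apply Subtype.ext
    rw [pow_two]
    exact octK_mul_self ho k.2
  refine ⟨⟨(k : Equiv.Perm Cfsg.GolayPt), hkM⟩, orderOf_eq_prime hzsq hz1, ?_⟩
  have hrelM := holRel_M24 ho hp ⟨(k : Equiv.Perm Cfsg.GolayPt), hkM⟩ k.2 hz1
  have hrelS : HolRel (Pst (3 + 1)) (Usub (3 + 1)) (Msub (3 + 1)) s := holRel_SL 3 s hs
  have hcardU : Nat.card ↥((octK Cfsg.Agent.Helper7.O0F).subgroupOf Cfsg.M24) = 2 ^ 4 := by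
    rw [← hcardK]
    exact Nat.card_congr (Subgroup.subgroupOfEquivOfLe
      (inf_le_left : octK Cfsg.Agent.Helper7.O0F ≤ Cfsg.M24)).toEquiv
  exact hrelM.nonempty_centralizer_equiv hrelS 4 hcardU card_Usub

end Cfsg.Agent.S2133
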