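import Cfsg.Statements.S1524
import Cfsg.Agent.Helper25.Sibley7

set_option autoImplicit false
open Cfsg

namespace Cfsg.Agent.S1524

/-- Let G be a finite group and H ≤ L subgroups with L of odd order, H ≠ ⊥ nilpotent and normal in L with a nontrivial complement W₁ in L (H ⊓ W₁ = ⊥, H ⊔ W₁ = L) acting on H without non-identity fixed points (L is a Frobenius group with kernel H), and suppose the underlying set of H is a TI-subset of G whose normaliser is L. Let S be the set of functions on L induced from the non-principal irreducible characters of H. Then (S, L minus 1, induction to G) is coherent. -/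
theorem result {G : Type*} [Group G] [Fintype G] (H L W₁ : Subgroup G) [Fintype L] (hodd : Odd (Nat.card L)) (hHL : H ≤ L) (hW₁L : W₁ ≤ L) (hH1 : H ≠ ⊥) (hW1 : W₁ ≠ ⊥) (hnil : Group.IsNilpotent H) (hHn : ∀ x ∈ L, ∀ h ∈ H, x * h * x⁻¹ ∈ H) (hinf : H ⊓ W₁ = ⊥) (hsup : H ⊔ W₁ = L) (hfpf : ∀ w ∈ W₁, w ≠ 1 → ∀ h ∈ H, w * h = h * w → h = 1) (hTI : Cfsg.IsTISubset (H : Set G)) (hN : Subgroup.normalizer (H : Set G) = L) : Cfsg.IsCoherent (Cfsg.inducedIrrAbove (H.subgroupOf L) ⊥) {1}ᶜ (fun α : L → ℂ => Cfsg.indFun L α) := by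
  classical
  have hKn : (H.subgroupOf L).Normal := by
    refine ⟨fun n hn g => ?_⟩
    rw [Subgroup.mem_subgroupOf] at hn ⊢
    have := hHn (g : G) g.2 (n : G) hn
    simpa using this
  have hmap : (H.subgroupOf L).map L.subtype = H := Subgroup.map_subgroupOf_eq_of_le hHL
  have hK1 : H.subgroupOf L ≠ ⊥ := by
    intro h
    apply hH1
    rw [← hmap, h, Subgroup.map_bot]
  have hKtop : H.subgroupOf L ≠ ⊤ := by
    intro h
    apply hW1
    have hHL' : H = L := by
      rw [← hmap, h, ← MonoidHom.range_eq_map, Subgroup.range_subtype]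
    rw [eq_bot_iff, ← hinf, hHL']
    exact le_inf hW₁L le_rfl
  have hnil' : Group.IsNilpotent (H.subgroupOf L) :=
    Group.nilpotent_of_mulEquiv (Subgroup.subgroupOfEquivOfLe hHL).symm
  have hKW' : H.subgroupOf L ⊔ W₁.subgroupOf L = ⊤ := by
    rw [← Subgroup.subgroupOf_sup hHL hW₁L, hsup, Subgroup.subgroupOf_self]
  have hfpf' : ∀ w ∈ W₁.subgroupOf L, w ≠ 1 → ∀ k ∈ H.subgroupOf L, w * k = k * w → k = 1 := by
    intro w hw hw1 k hk hwk
    apply Subtype.ext
    apply hfpf (w : G) (Subgroup.mem_subgroupOf.mp hw) (fun h => hw1 (Subtype.ext h)) (k : G)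
      (Subgroup.mem_subgroupOf.mp hk)
    have := congrArg (fun t : L => (t : G)) hwk
    simpa using this
  exact Helper25.sibley_frobenius L (H.subgroupOf L) (W₁.subgroupOf L) hodd hK1 hKtop hnil' hKW'
    hfpf' (by rw [hmap]; exact hTI) (by rw [hmap]; exact hN)

end Cfsg.Agent.S1524
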