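import Cfsg.Statements.S3794
import Cfsg.Agent.Helper63.Fpf4Main

set_option autoImplicit false
open Cfsg

namespace Cfsg.Agent.S3794

/-- Let G be a finite solvable group with an automorphism σ satisfying σ⁴ = 1 and fixing only the identity. Then the derived subgroup G' is nilpotent. -/
theorem result {G : Type*} [Group G] [Finite G] (hG : Group.IsSolvable G) (σ : MulAut G) (hσ : σ ^ 4 = 1) (hfpf : ∀ g : G, σ g = g → g = 1) : Group.IsNilpotent (commutator G) := by
  apply Cfsg.Agent.Helper63.Fpf4.commutator_isNilpotent hG σ.toMonoidHom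
  refine ⟨fun g => ?_, fun g hg => hfpf g hg⟩
  have h1 : (σ ^ 4) g = g := by rw [hσ]; rfl
  have h2 : (σ ^ 4) g = σ (σ (σ (σ g))) := by
    rw [pow_succ, pow_succ, pow_succ, pow_one]
    rfl
  show σ (σ (σ (σ g))) = g
  rw [← h2, h1]

end Cfsg.Agent.S3794
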