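import Cfsg.Statements.S3969
import Cfsg.Agent.Helper2.PComplement
import Cfsg.Agent.Helper24.Coprime
import Cfsg.Agent.Helper29.CoprimeCount
import Cfsg.Agent.Helper63.PrimePow
import Cfsg.Agent.Helper10.Card
-- import your own Cfsg.Agent.* helpers here

set_option autoImplicit false
open Cfsg

namespace Cfsg.Agent.S3969

/-- A finite commutative group of exponent dividing `p` generated by a finite set `S` has order at most
`p ^ |S|`. -/
theorem card_closure_le {A : Type*} [CommGroup A] [Finite A] {p : ℕ} (hp : 0 < p)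
    (hexp : ∀ a : A, a ^ p = 1) (S : Finset A) :
    Nat.card ↥(Subgroup.closure (S : Set A)) ≤ p ^ S.card := by
  classical
  induction S using Finset.induction_on with
  | empty => simp
  | insert a S ha ih =>
    rw [Finset.coe_insert, Set.insert_eq, Subgroup.closure_union, Finset.card_insert_of_notMem ha]
    have hle : Subgroup.closure ({a} : Set A) ≤
        Subgroup.normalizer ((Subgroup.closure (S : Set A) : Subgroup A) : Set A) := by
      rw [Subgroup.normalizer_eq_top]
      exact le_top
    have h1 := Cfsg.Agent.Helper10.card_sup_mul_card_inf (Subgroup.closure ({a} : Set A))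
      (Subgroup.closure (S : Set A)) hle
    have hpos : 0 < Nat.card ↥(Subgroup.closure ({a} : Set A) ⊓ Subgroup.closure (S : Set A)) :=
      Nat.card_pos
    have h2 : Nat.card ↥(Subgroup.closure ({a} : Set A) ⊔ Subgroup.closure (S : Set A)) ≤
        Nat.card ↥(Subgroup.closure ({a} : Set A)) * Nat.card ↥(Subgroup.closure (S : Set A)) := by
      rw [← h1]
      exact Nat.le_mul_of_pos_right _ hpos
    have h3 : Nat.card ↥(Subgroup.closure ({a} : Set A)) ≤ p := by
      rw [← Subgroup.zpowers_eq_closure, Nat.card_zpowers]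
      exact Nat.le_of_dvd hp (orderOf_dvd_of_pow_eq_one (hexp a))
    calc Nat.card ↥(Subgroup.closure ({a} : Set A) ⊔ Subgroup.closure (S : Set A))
        ≤ Nat.card ↥(Subgroup.closure ({a} : Set A)) * Nat.card ↥(Subgroup.closure (S : Set A)) := h2
      _ ≤ p * p ^ S.card := Nat.mul_le_mul h3 ih
      _ = p ^ (S.card + 1) := by rw [pow_succ, mul_comm]

/-- In a finite commutative group with `d` generators, the number of solutions of `y ^ p = 1` is at most
`p ^ d`. -/
theorem card_ker_pow_le {B : Type*} [CommGroup B] [Finite B] {p : ℕ} (hp : 0 < p) :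
    Nat.card ↥(powMonoidHom p : B →* B).ker ≤ p ^ Group.rank B := by
  classical
  set φ : B →* B := powMonoidHom p with hφ
  -- |ker| = index of the range
  have h1 : Nat.card ↥φ.ker * φ.ker.index = Nat.card B := Subgroup.card_mul_index _
  have h2 : φ.ker.index = Nat.card ↥φ.range := Subgroup.index_ker φ
  have h3 : Nat.card ↥φ.range * φ.range.index = Nat.card B := Subgroup.card_mul_index _
  have hker : Nat.card ↥φ.ker = φ.range.index := by
    have hpos : 0 < Nat.card ↥φ.range := Nat.card_pos
    have : Nat.card ↥φ.range * Nat.card ↥φ.ker = Nat.card ↥φ.range * φ.range.index := by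
      rw [h3, ← h1, h2, mul_comm]
    exact Nat.eq_of_mul_eq_mul_left hpos this
  rw [hker, Subgroup.index_eq_card]
  -- the quotient has exponent `p` and is generated by `rank B` elements
  have hexp : ∀ a : B ⧸ φ.range, a ^ p = 1 := by
    intro a
    induction a using QuotientGroup.induction_on with
    | H y =>
      rw [← QuotientGroup.mk_pow, QuotientGroup.eq_one_iff]
      exact ⟨y, rfl⟩
  obtain ⟨S, hScard, hS⟩ := Group.rank_spec (G := B)
  have hgen : Subgroup.closure ((S.image (QuotientGroup.mk' φ.range) : Finset (B ⧸ φ.range)) : Set (B ⧸ φ.range)) = ⊤ := by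
    rw [Finset.coe_image, ← MonoidHom.map_closure, hS, ← MonoidHom.range_eq_map,
      MonoidHom.range_eq_top]
    exact QuotientGroup.mk'_surjective _
  have h4 := card_closure_le hp hexp (S.image (QuotientGroup.mk' φ.range))
  rw [hgen, Subgroup.card_top] at h4
  refine le_trans h4 (Nat.pow_le_pow_right hp ?_)
  rw [← hScard]
  exact Finset.card_image_le

/-- Let `P` be an abelian Sylow `p`-subgroup of the finite group `G`, generated by `d` elements (`d` its minimal number of generators). If the order of `G` is coprime to `(p - 1)(p ^ 2 - 1) ⋯ (p ^ d - 1)`, then `G` has a normal `p`-complement. (The classical statement needs only the largest number of cyclic factors of `P` of equal order in place of `d`; the form here follows from it.) -/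
theorem result {G : Type*} [Group G] [Finite G] (p : ℕ) [Fact p.Prime] (P : Sylow p G) (hab : IsMulCommutative (P : Subgroup G)) (hcop : Nat.Coprime (Nat.card G) (∏ i ∈ Finset.Icc 1 (Group.rank (P : Subgroup G)), (p ^ i - 1))) : Cfsg.HasNormalPComplement p G := by
  classical
  have hp : p.Prime := Fact.out
  have hP : IsPGroup p ↥(P : Subgroup G) := P.isPGroup'
  have hcomm : ∀ x ∈ (P : Subgroup G), ∀ y ∈ (P : Subgroup G), x * y = y * x :=
    fun x hx y hy => setLike_mul_comm hx hy
  let _ : CommGroup ↥(P : Subgroup G) :=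
    { (inferInstance : Group ↥(P : Subgroup G)) with mul_comm := fun a b => mul_comm' a b }
  -- `Ω₁(P)`
  set φ : ↥(P : Subgroup G) →* ↥(P : Subgroup G) := powMonoidHom p with hφ
  have hΩcard : Nat.card ↥(φ.ker.map (P : Subgroup G).subtype) ≤ p ^ Group.rank ↥(P : Subgroup G) := by
    rw [Subgroup.card_map_of_injective (Subgroup.subtype_injective _)]
    exact card_ker_pow_le hp.pos
  have hΩmem : ∀ y : G, y ∈ φ.ker.map (P : Subgroup G).subtype ↔ y ∈ (P : Subgroup G) ∧ y ^ p = 1 := by
    intro y
    constructor
    · rintro ⟨z, hz, rfl⟩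
      rw [SetLike.mem_coe, MonoidHom.mem_ker] at hz
      refine ⟨z.2, ?_⟩
      have := congrArg Subtype.val hz
      simpa [hφ] using this
    · rintro ⟨hyP, hyp⟩
      refine ⟨⟨y, hyP⟩, ?_, rfl⟩
      rw [SetLike.mem_coe, MonoidHom.mem_ker]
      apply Subtype.ext
      simpa [hφ] using hyp
  set Ω : Subgroup G := φ.ker.map (P : Subgroup G).subtype with hΩ
  have hΩP : Ω ≤ (P : Subgroup G) := fun y hy => ((hΩmem y).1 hy).1
  have hΩp : IsPGroup p ↥Ω := hP.to_le hΩP
  apply Cfsg.Agent.Helper2.hasNormalPComplement_of_normalizer_le_centralizer P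
  apply Cfsg.Agent.Helper63.le_of_forall_primePow_mem
  intro x hxN r e hr hxo
  rw [Subgroup.mem_centralizer_iff]
  have hxpow : x ^ r ^ e = 1 := by rw [← hxo]; exact pow_orderOf_eq_one x
  have hRr : IsPGroup r ↥(Subgroup.zpowers x) := by
    intro y
    obtain ⟨y, hy⟩ := y
    obtain ⟨n, rfl⟩ := Subgroup.mem_zpowers_iff.1 hy
    refine ⟨e, Subtype.ext ?_⟩
    show (x ^ n) ^ r ^ e = 1
    rw [← zpow_natCast, ← zpow_mul, mul_comm, zpow_mul, zpow_natCast, hxpow, one_zpow]
  by_cases hrp : r = p
  · -- a `p`-element of `N_G(P)` lies in `P`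
    subst hrp
    have hle : Subgroup.zpowers x ≤ Subgroup.normalizer ((P : Subgroup G) : Set G) := by
      rw [Subgroup.zpowers_le]; exact hxN
    have hsup : IsPGroup r ↥(Subgroup.zpowers x ⊔ (P : Subgroup G)) :=
      IsPGroup.to_sup_of_normal_right' hRr hP hle
    have heq := P.is_maximal' hsup le_sup_right
    have hxP : x ∈ (P : Subgroup G) := by
      rw [← heq]
      exact (le_sup_left : Subgroup.zpowers x ≤ _) (Subgroup.mem_zpowers x)
    intro y hy
    exact hcomm y hy x hxP
  · -- an `r`-element, `r ≠ p`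
    by_cases he : e = 0
    · rw [he, pow_zero, orderOf_eq_one_iff] at hxo
      intro y _
      rw [hxo, mul_one, one_mul]
    have : Fact r.Prime := ⟨hr⟩
    have hrG : r ∣ Nat.card G := by
      have h1 : r ∣ orderOf x := by rw [hxo]; exact dvd_pow_self r he
      exact h1.trans (orderOf_dvd_natCard x)
    -- `x` normalizes `Ω`
    have hconjΩ : ∀ g : G, g ∈ Subgroup.normalizer ((P : Subgroup G) : Set G) →
        ∀ y ∈ Ω, g * y * g⁻¹ ∈ Ω := by
      intro g hg y hy
      rw [hΩmem] at hy ⊢
      refine ⟨(Subgroup.mem_normalizer_iff.1 hg y).1 hy.1, ?_⟩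
      rw [conj_pow, hy.2, mul_one, mul_inv_cancel]
    have hxNΩ : x ∈ Subgroup.normalizer (Ω : Set G) := by
      rw [Subgroup.mem_normalizer_iff]
      intro y
      constructor
      · exact hconjΩ x hxN y
      · intro hy
        have := hconjΩ x⁻¹ (inv_mem hxN) _ hy
        have e1 : x⁻¹ * (x * y * x⁻¹) * x⁻¹⁻¹ = y := by group
        rwa [e1] at this
    have hRN : Subgroup.zpowers x ≤ Subgroup.normalizer (Ω : Set G) := by
      rw [Subgroup.zpowers_le]; exact hxNΩ
    have hmod := Cfsg.Agent.Helper29.card_modEq_card_inf_centralizer hRr hRN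
    obtain ⟨k, hk⟩ := IsPGroup.iff_card.1 hΩp
    have hinfp : IsPGroup p ↥(Ω ⊓ Subgroup.centralizer ((Subgroup.zpowers x : Subgroup G) : Set G)) :=
      hΩp.to_le inf_le_left
    obtain ⟨j, hj⟩ := IsPGroup.iff_card.1 hinfp
    have hjk : j ≤ k := by
      have h1 : Nat.card ↥(Ω ⊓ Subgroup.centralizer ((Subgroup.zpowers x : Subgroup G) : Set G)) ≤
          Nat.card ↥Ω := Subgroup.card_le_of_le inf_le_left
      rw [hj, hk] at h1
      exact (Nat.pow_le_pow_iff_right hp.one_lt).1 h1
    have hkd : k ≤ Group.rank ↥(P : Subgroup G) := by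
      rw [hk] at hΩcard
      exact (Nat.pow_le_pow_iff_right hp.one_lt).1 hΩcard
    have hjk' : j = k := by
      by_contra hne
      have hlt : j < k := lt_of_le_of_ne hjk hne
      rw [hk, hj] at hmod
      have hdvd : r ∣ p ^ k - p ^ j :=
        (Nat.modEq_iff_dvd' (Nat.pow_le_pow_right hp.pos hjk)).1 hmod.symm
      have hfac : p ^ k - p ^ j = p ^ j * (p ^ (k - j) - 1) := by
        rw [Nat.mul_sub, mul_one, ← pow_add, Nat.add_sub_cancel' hjk]
      rw [hfac] at hdvd
      rcases (Nat.Prime.dvd_mul hr).1 hdvd with h | h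
      · have := (Nat.prime_dvd_prime_iff_eq hr hp).1 (hr.dvd_of_dvd_pow h)
        exact hrp this
      · have hmemIcc : k - j ∈ Finset.Icc 1 (Group.rank ↥(P : Subgroup G)) := by
          rw [Finset.mem_Icc]; omega
        have hprod : r ∣ ∏ i ∈ Finset.Icc 1 (Group.rank ↥(P : Subgroup G)), (p ^ i - 1) :=
          h.trans (Finset.dvd_prod_of_mem (fun i => p ^ i - 1) hmemIcc)
        have := Nat.dvd_gcd hrG hprod
        rw [hcop.gcd_eq_one] at this
        exact hr.one_lt.ne' (Nat.dvd_one.1 this)
    -- so `x` centralizes `Ω`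
    have hΩcen : Ω ≤ Subgroup.centralizer ((Subgroup.zpowers x : Subgroup G) : Set G) := by
      have heq : Ω ⊓ Subgroup.centralizer ((Subgroup.zpowers x : Subgroup G) : Set G) = Ω :=
        Subgroup.eq_of_le_of_card_ge inf_le_left (by rw [hk, hj, hjk'])
      rw [← heq]; exact inf_le_right
    have hxΩ : ∀ v ∈ Ω, x * v = v * x := by
      intro v hv
      have := hΩcen hv
      rw [Subgroup.mem_centralizer_iff] at this
      exact this x (Subgroup.mem_zpowers x)
    -- the abelian `Ω₁` lemma
    have hcopx : (orderOf x).Coprime (Nat.card ↥(P : Subgroup G)) := by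
      obtain ⟨n, hn⟩ := IsPGroup.iff_card.1 hP
      rw [hn, hxo]
      exact Nat.Coprime.pow _ _ ((Nat.coprime_primes hr hp).2 hrp)
    have hall := Cfsg.Agent.Helper24.commute_of_commute_prime_order hcomm hxN hcopx (by
      intro v hv hvprime
      apply hxΩ
      rw [hΩmem]
      refine ⟨hv, ?_⟩
      obtain ⟨m, hm⟩ := (IsPGroup.iff_orderOf.1 hP) ⟨v, hv⟩
      rw [Subgroup.orderOf_mk] at hm
      have hvp : orderOf v = p := by
        rw [hm] at hvprime
        have hm1 : m = 1 := by
          rcases Nat.lt_trichotomy m 1 with h | h | h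
          · have : m = 0 := by omega
            rw [this, pow_zero] at hvprime
            exact absurd hvprime Nat.not_prime_one
          · exact h
          · exfalso
            have h2 : p ∣ p ^ m := dvd_pow_self p (by omega)
            rcases (Nat.dvd_prime hvprime).1 h2 with h3 | h3
            · exact hp.one_lt.ne' h3
            · have : p ^ 1 = p ^ m := by rw [pow_one]; exact h3
              have := Nat.pow_right_injective hp.two_le this
              omega
        rw [hm, hm1, pow_one]
      rw [← hvp]; exact pow_orderOf_eq_one v)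
    intro y hy
    exact (hall y hy).symm

end Cfsg.Agent.S3969
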