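import Cfsg.Statements.S5913

set_option autoImplicit false
open Cfsg

namespace Cfsg.Agent.S5913

/-- Let S be a non-abelian simple group and n a natural number. Every normal subgroup N of the direct power S^n (functions Fin n → S) is a subproduct: there is a set T of coordinates such that N consists exactly of the elements whose coordinates outside T are trivial. In particular the minimal normal subgroups of S^n are its n factors. -/
theorem result {S : Type*} [Group S] [IsSimpleGroup S] (hS : ¬ IsMulCommutative S) (n : ℕ)
    (N : Subgroup (Fin n → S)) [N.Normal] :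
    ∃ T : Finset (Fin n), ∀ x : Fin n → S, x ∈ N ↔ ∀ i, i ∉ T → x i = 1 := by
  classical
  -- the centre of S is trivial
  have hcenter : Subgroup.center S = ⊥ := by
    rcases (Subgroup.center S).normal_of_characteristic.eq_bot_or_eq_top with h | h
    · exact h
    · exfalso
      apply hS
      refine ⟨⟨fun a b => ?_⟩⟩
      have ha : a ∈ Subgroup.center S := h ▸ Subgroup.mem_top a
      exact ((Subgroup.mem_center_iff.mp ha) b).symm
  let T : Finset (Fin n) := Finset.univ.filter (fun i => ∃ x ∈ N, x i ≠ 1)
  -- for i in T, the whole i-th factor lies in N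
  have hfactor : ∀ i ∈ T, ∀ s : S, Pi.mulSingle i s ∈ N := by
    intro i hi s
    obtain ⟨x, hxN, hxi⟩ := (Finset.mem_filter.mp hi).2
    -- some t not commuting with x i
    obtain ⟨t, ht⟩ : ∃ t : S, t * x i ≠ x i * t := by
      by_contra hcon
      push Not at hcon
      have : x i ∈ Subgroup.center S := Subgroup.mem_center_iff.mpr hcon
      rw [hcenter, Subgroup.mem_bot] at this
      exact hxi this
    let K : Subgroup S := N.comap (MonoidHom.mulSingle (fun _ : Fin n => S) i)
    have hKn : K.Normal := Subgroup.Normal.comap inferInstance _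
    have hmem : x i * t * (x i)⁻¹ * t⁻¹ ∈ K := by
      show Pi.mulSingle i (x i * t * (x i)⁻¹ * t⁻¹) ∈ N
      have h1 : x * (Pi.mulSingle i t * x⁻¹ * (Pi.mulSingle i t)⁻¹) ∈ N :=
        N.mul_mem hxN (Subgroup.Normal.conj_mem inferInstance _ (N.inv_mem hxN) _)
      convert h1 using 1
      ext j
      by_cases hj : j = i
      · subst hj
        simp [mul_assoc]
      · simp [Pi.mulSingle_eq_of_ne hj]
    have hne : x i * t * (x i)⁻¹ * t⁻¹ ≠ 1 := by
      intro h
      apply ht
      have : x i * t = t * x i := by
        have := congrArg (fun z => z * t * x i) h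
        simpa [mul_assoc] using this
      exact this.symm
    have hKtop : K = ⊤ := by
      rcases hKn.eq_bot_or_eq_top with h | h
      · rw [h, Subgroup.mem_bot] at hmem
        exact absurd hmem hne
      · exact h
    have : s ∈ K := hKtop ▸ Subgroup.mem_top s
    exact this
  refine ⟨T, fun x => ⟨fun hx i hi => ?_, fun hx => ?_⟩⟩
  · by_contra hxi
    exact hi (Finset.mem_filter.mpr ⟨Finset.mem_univ i, x, hx, hxi⟩)
  · rw [← Finset.noncommProd_mulSingle x]
    apply Subgroup.noncommProd_mem
    intro i _
    by_cases hi : i ∈ T
    · exact hfactor i hi (x i)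
    · rw [hx i hi, Pi.mulSingle_one]
      exact N.one_mem

end Cfsg.Agent.S5913
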