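import Cfsg.Statements.S0007

set_option autoImplicit false
open Cfsg

namespace Cfsg.Agent.S0007

/-- Subgroups of coprime index: the intersection has index equal to the product of the indices, and every element is a product of an element of the first subgroup and an element of the second. -/
theorem result {G : Type*} [Group G] [Finite G] (H K : Subgroup G)
    (h : H.index.Coprime K.index) :
    (H ⊓ K).index = H.index * K.index ∧ ∀ g : G, ∃ x ∈ H, ∃ y ∈ K, g = x * y := by
  have hH0 : H.index ≠ 0 := Subgroup.index_ne_zero_of_finite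
  have hK0 : K.index ≠ 0 := Subgroup.index_ne_zero_of_finite
  have hidx : (H ⊓ K).index = H.index * K.index := by
    apply le_antisymm Subgroup.index_inf_le
    apply Nat.le_of_dvd (Nat.pos_of_ne_zero Subgroup.index_ne_zero_of_finite)
    exact Nat.Coprime.mul_dvd_of_dvd_of_dvd h (Subgroup.index_dvd_of_le inf_le_left)
      (Subgroup.index_dvd_of_le inf_le_right)
  refine ⟨hidx, ?_⟩
  have hrel : K.relIndex H = K.index := by
    have h1 := Subgroup.relIndex_mul_index (inf_le_left : H ⊓ K ≤ H)
    rw [hidx, Subgroup.inf_relIndex_left, mul_comm] at h1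
    exact Nat.eq_of_mul_eq_mul_left (Nat.pos_of_ne_zero hH0) h1
  -- the map `H ⧸ K.subgroupOf H → G ⧸ K`
  let f : H ⧸ K.subgroupOf H → G ⧸ K :=
    Quotient.map' (fun x : H => (x : G)) (by
      intro a b hab
      rw [QuotientGroup.leftRel_apply] at hab ⊢
      simpa [Subgroup.mem_subgroupOf] using hab)
  have hf : Function.Injective f := by
    intro a b
    induction a using Quotient.inductionOn' with | h a => ?_
    induction b using Quotient.inductionOn' with | h b => ?_
    intro hab
    simp only [f, Quotient.map'_mk''] at hab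
    rw [Quotient.eq''] at hab ⊢
    rw [QuotientGroup.leftRel_apply] at hab ⊢
    simpa [Subgroup.mem_subgroupOf] using hab
  have hcard : Nat.card (H ⧸ K.subgroupOf H) = Nat.card (G ⧸ K) := by
    rw [← Subgroup.index_eq_card, ← Subgroup.index_eq_card]
    exact hrel
  have hbij : Function.Bijective f := by
    rw [Nat.bijective_iff_injective_and_card]
    exact ⟨hf, hcard⟩
  intro g
  obtain ⟨q, hq⟩ := hbij.2 (g : G ⧸ K)
  induction q using Quotient.inductionOn' with | h x => ?_
  simp only [f, Quotient.map'_mk''] at hq
  have hq' : ((x : G) : G ⧸ K) = (g : G ⧸ K) := hq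
  rw [QuotientGroup.eq] at hq'
  exact ⟨x, x.2, _, hq', (mul_inv_cancel_left _ _).symm⟩

end Cfsg.Agent.S0007
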