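import Mathlib
import Cfsg.Statements.S0014
import Cfsg.Agent.S0012
import Cfsg.Agent.S0013

set_option autoImplicit false
open Cfsg

namespace Cfsg.Agent.S0014

open Subgroup

/-- adjoining an element `s ∉ H` with `s ^ p ∈ H` to a normal subgroup divides the index by `p` -/
theorem index_sup_zpowers {G : Type*} [Group G] (H : Subgroup G) [H.Normal] {p : ℕ}
    [Fact p.Prime] {s : G} (hs : s ∉ H) (hsp : s ^ p ∈ H) :
    H.index = p * (H ⊔ Subgroup.zpowers s).index := by
  have h1 : orderOf (s : G ⧸ H) = p := by
    apply orderOf_eq_prime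
    · rw [← QuotientGroup.mk_pow]; exact (QuotientGroup.eq_one_iff _).mpr hsp
    · intro h; exact hs ((QuotientGroup.eq_one_iff _).mp h)
  have h2 : (Subgroup.zpowers (s : G ⧸ H)).comap (QuotientGroup.mk' H)
      = H ⊔ Subgroup.zpowers s := by
    have : Subgroup.zpowers (s : G ⧸ H) = (Subgroup.zpowers s).map (QuotientGroup.mk' H) := by
      rw [MonoidHom.map_zpowers]; rfl
    rw [this, Subgroup.comap_map_eq, QuotientGroup.ker_mk', sup_comm]
  rw [← h2, Subgroup.index_comap_of_surjective _ (QuotientGroup.mk'_surjective H),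
    Subgroup.index_eq_card, ← Subgroup.card_mul_index (Subgroup.zpowers (s : G ⧸ H)),
    Nat.card_zpowers, h1]

/-- the greedy choice of a basis modulo `Φ` -/
theorem greedy {G : Type*} [Group G] {p : ℕ} [Fact p.Prime] (Φ : Subgroup G)
    (hcomm : commutator G ≤ Φ) (hpow : ∀ x : G, x ^ p ∈ Φ) (S : Finset G) :
    ∃ T : Finset G, T ⊆ S ∧ closure (T : Set G) ⊔ Φ = closure (S : Set G) ⊔ Φ ∧
      (closure (T : Set G) ⊔ Φ).index * p ^ T.card = Φ.index := by
  classical
  induction S using Finset.induction_on with
  | empty => exact ⟨∅, subset_rfl, rfl, by simp⟩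
  | insert s S' hs ih =>
    obtain ⟨T', hT'S, hcl, hidx⟩ := ih
    have hins : ∀ U : Finset G, closure ((insert s U : Finset G) : Set G) ⊔ Φ
        = (closure (U : Set G) ⊔ Φ) ⊔ zpowers s := by
      intro U
      rw [Finset.coe_insert, Set.insert_eq, Subgroup.closure_union, ← zpowers_eq_closure]
      rw [sup_comm (zpowers s), sup_assoc, sup_assoc, sup_comm (zpowers s)]
    by_cases hmem : s ∈ closure (T' : Set G) ⊔ Φ
    · refine ⟨T', hT'S.trans (Finset.subset_insert _ _), ?_, hidx⟩
      rw [hins S', ← hcl]
      symm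
      rw [sup_eq_left, zpowers_le]
      exact hmem
    · refine ⟨insert s T', Finset.insert_subset_insert _ hT'S, ?_, ?_⟩
      · rw [hins, hins, hcl]
      · have hsT' : s ∉ T' := fun h => hs (hT'S h)
        rw [hins, Finset.card_insert_of_notMem hsT']
        haveI : (closure (T' : Set G) ⊔ Φ).Normal :=
          Cfsg.Agent.S0013.normal_of_commutator_le _ (hcomm.trans le_sup_right)
        have := index_sup_zpowers (closure (T' : Set G) ⊔ Φ) (p := p) hmem
          (le_sup_right (a := closure (T' : Set G)) (hpow s))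
        rw [← hidx, this]
        ring

/-- Burnside's basis Theorem: in a finite p-group whose Frattini quotient has order p ^ n, every generating set contains n elements that already generate, and no set with fewer than n elements generates. -/
theorem result {G : Type*} [Group G] [Finite G] (p n : ℕ) [Fact p.Prime]
    (hG : IsPGroup p G) (hn : (frattini G).index = p ^ n) :
    (∀ S : Finset G, Subgroup.closure (S : Set G) = ⊤ → ∃ T : Finset G, T ⊆ S ∧ T.card = n ∧ Subgroup.closure (T : Set G) = ⊤) ∧
    (∀ T : Finset G, Subgroup.closure (T : Set G) = ⊤ → n ≤ T.card) := by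
  have hp : p.Prime := Fact.out
  obtain ⟨hcomm, hpow⟩ := Cfsg.Agent.S0012.result p hG
  have key : ∀ S : Finset G, Subgroup.closure (S : Set G) = ⊤ →
      ∃ T : Finset G, T ⊆ S ∧ T.card = n ∧ Subgroup.closure (T : Set G) = ⊤ := by
    intro S hS
    obtain ⟨T, hTS, hcl, hidx⟩ := greedy (p := p) (frattini G) hcomm hpow S
    rw [hS, top_sup_eq] at hcl
    refine ⟨T, hTS, ?_, frattini_nongenerating hcl⟩
    rw [hcl, index_top, one_mul, hn] at hidx
    exact Nat.pow_right_injective hp.two_le hidx
  refine ⟨key, fun T hT => ?_⟩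
  obtain ⟨T', hT'T, hcard, -⟩ := key T hT
  rw [← hcard]
  exact Finset.card_le_card hT'T

end Cfsg.Agent.S0014
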