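import Cfsg.Statements.S0015
import Cfsg.Agent.Lib.Nilpotent

set_option autoImplicit false
open Pointwise
open Cfsg

namespace Cfsg.Agent.S0015

open Cfsg.Agent.Lib

/-- In a finite nilpotent group, an abelian normal subgroup that is maximal among abelian normal subgroups equals its own centralizer. -/
theorem result {G : Type*} [Group G] [Finite G] [Group.IsNilpotent G]
    (N : Subgroup G) [N.Normal] [IsMulCommutative N]
    (hmax : ∀ M : Subgroup G, M.Normal → IsMulCommutative M → N ≤ M → M = N) :
    Subgroup.centralizer (N : Set G) = N := by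
  classical
  have hNn : N.Normal := inferInstance
  set C := Subgroup.centralizer (N : Set G) with hC
  have hNC : N ≤ C := by
    intro a ha
    rw [hC, Subgroup.mem_centralizer_iff]
    intro b hb
    exact congrArg (fun z : N => (z : G)) (mul_comm' (⟨b, hb⟩ : N) ⟨a, ha⟩)
  have hCn : C.Normal := Subgroup.normal_centralizer
  by_contra hne
  have hCN : ¬ C ≤ N := fun h => hne (le_antisymm h hNC)
  -- the image of `C` in `G ⧸ N` is a nontrivial normal subgroup
  set Cb : Subgroup (G ⧸ N) := C.map (QuotientGroup.mk' N) with hCb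
  have hCbn : Cb.Normal := Subgroup.Normal.map hCn _ (QuotientGroup.mk'_surjective N)
  have hCbne : Cb ≠ ⊥ := by
    intro h
    apply hCN
    intro c hc
    have : QuotientGroup.mk' N c ∈ Cb := Subgroup.mem_map_of_mem _ hc
    rw [h, Subgroup.mem_bot] at this
    exact (QuotientGroup.eq_one_iff c).mp this
  have hmeet := normal_inf_center_ne_bot Cb hCbne
  obtain ⟨⟨xb, hxb⟩, hxb1'⟩ := (Subgroup.ne_bot_iff_exists_ne_one).mp hmeet
  have hxb1 : xb ≠ 1 := fun h => hxb1' (Subtype.ext h)
  obtain ⟨hxbC, hxbZ⟩ := Subgroup.mem_inf.mp hxb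
  obtain ⟨x, hxC, rfl⟩ := hxbC
  have hxN : x ∉ N := fun h => hxb1 ((QuotientGroup.eq_one_iff x).mpr h)
  -- conjugates of `x` lie in `x N`
  have hconj : ∀ g : G, x⁻¹ * (g * x * g⁻¹) ∈ N := by
    intro g
    rw [← QuotientGroup.eq_one_iff]
    have hz := Subgroup.mem_center_iff.mp hxbZ (QuotientGroup.mk' N g)
    have : ((x⁻¹ * (g * x * g⁻¹) : G) : G ⧸ N) =
        (QuotientGroup.mk' N x)⁻¹ * ((QuotientGroup.mk' N g) * (QuotientGroup.mk' N x) * (QuotientGroup.mk' N g)⁻¹) := by
      simp
    rw [this, hz]; group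
  -- the subgroup generated by `N` and `x`
  set M : Subgroup G := Subgroup.closure ((N : Set G) ∪ {x}) with hM
  have hNM : N ≤ M := fun a ha => Subgroup.subset_closure (Or.inl ha)
  have hxM : x ∈ M := Subgroup.subset_closure (Or.inr rfl)
  have hMcomm : IsMulCommutative M := by
    apply Subgroup.isMulCommutative_closure
    have hxc : ∀ b ∈ N, b * x = x * b := fun b hb => Subgroup.mem_centralizer_iff.mp hxC b hb
    rintro a (ha | ha) b (hb | hb)
    · exact congrArg (fun z : N => (z : G)) (mul_comm' (⟨a, ha⟩ : N) ⟨b, hb⟩)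
    · rw [Set.mem_singleton_iff.mp hb]; exact hxc a ha
    · rw [Set.mem_singleton_iff.mp ha]; exact (hxc b hb).symm
    · rw [Set.mem_singleton_iff.mp ha, Set.mem_singleton_iff.mp hb]
  have hMn : M.Normal := by
    refine ⟨fun m hm g => ?_⟩
    -- conjugation by `g` maps the generating set into `M`
    have hle : M ≤ M.comap (MulAut.conj g).toMonoidHom := by
      rw [hM, Subgroup.closure_le]
      rintro a (ha | ha)
      · exact hNM (hNn.conj_mem a ha g)
      · rw [Set.mem_singleton_iff.mp ha]
        show g * x * g⁻¹ ∈ M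
        have : g * x * g⁻¹ = x * (x⁻¹ * (g * x * g⁻¹)) := by group
        rw [this]
        exact M.mul_mem hxM (hNM (hconj g))
    exact hle hm
  have := hmax M hMn hMcomm hNM
  exact hxN (this ▸ hxM)

end Cfsg.Agent.S0015
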