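import Cfsg.Statements.S0018
import Cfsg.Agent.Lib.Hall
import Cfsg.Agent.Helper55.SolvCore

set_option autoImplicit false
open Pointwise
open Cfsg

namespace Cfsg.Agent.S0018

open Cfsg.Agent.Lib

/-- `O_{p'}(G / O_{p'}(G)) = 1` for a finite group. -/
theorem pPrimeCore_quotient_eq_bot {G : Type*} [Group G] [Finite G] (p : ℕ) :
    Cfsg.pPrimeCore p (G ⧸ Cfsg.pPrimeCore p G) = ⊥ := by
  set N := Cfsg.pPrimeCore p G with hN
  set M := Cfsg.pPrimeCore p (G ⧸ N) with hM
  have hMn : M.Normal := Cfsg.pPrimeCore_normal p _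
  have h1 : (M.comap (QuotientGroup.mk' N)).Normal := Subgroup.Normal.comap hMn _
  have h2 : (Nat.card (M.comap (QuotientGroup.mk' N))).Coprime p := by
    rw [card_comap_mk']
    exact Nat.Coprime.mul_left (card_pPrimeCore_coprime p) (card_pPrimeCore_coprime p)
  have h3 : M.comap (QuotientGroup.mk' N) ≤ N := le_pPrimeCore h1 h2
  rw [eq_bot_iff]
  intro x hx
  obtain ⟨g, rfl⟩ := QuotientGroup.mk'_surjective N x
  have : g ∈ N := h3 hx
  rw [Subgroup.mem_bot]
  exact (QuotientGroup.eq_one_iff g).mpr this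

/-- A finite solvable group whose Sylow p-subgroups are abelian has p-length one: a Sylow p-subgroup together with the largest normal subgroup of order prime to p generates a normal subgroup. -/
theorem result {G : Type*} [Group G] [Finite G] [Group.IsSolvable G]
    (p : ℕ) [Fact p.Prime] (P : Sylow p G) (hP : IsMulCommutative P) :
    ((P : Subgroup G) ⊔ Cfsg.pPrimeCore p G).Normal := by
  set N := Cfsg.pPrimeCore p G with hN
  have hsurj : Function.Surjective (QuotientGroup.mk' N) := QuotientGroup.mk'_surjective N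
  have hcore : Cfsg.pPrimeCore p (G ⧸ N) = ⊥ := pPrimeCore_quotient_eq_bot p
  have hcent := Cfsg.Agent.Helper55.centralizer_pCore_le (G := G ⧸ N) p hcore
  -- the image of `P` is a Sylow subgroup of the quotient
  let Pb : Sylow p (G ⧸ N) := P.mapSurjective hsurj
  have hPb : (Pb : Subgroup (G ⧸ N)) = (P : Subgroup G).map (QuotientGroup.mk' N) :=
    Sylow.coe_mapSurjective hsurj P
  have hle : Cfsg.pCore p (G ⧸ N) ≤ Pb := pCore_le_sylow Pb
  -- `Pb` is abelian, hence centralizes `O_p`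
  have hPbcomm : ∀ a ∈ (Pb : Subgroup (G ⧸ N)), ∀ b ∈ (Pb : Subgroup (G ⧸ N)), a * b = b * a := by
    intro a ha b hb
    rw [hPb] at ha hb
    obtain ⟨x, hx, rfl⟩ := ha
    obtain ⟨y, hy, rfl⟩ := hb
    have := mul_comm' (⟨x, hx⟩ : P) ⟨y, hy⟩
    have h2 : x * y = y * x := congrArg (fun z : P => (z : G)) this
    rw [← map_mul, ← map_mul, h2]
  have hPbC : (Pb : Subgroup (G ⧸ N)) ≤ Subgroup.centralizer (Cfsg.pCore p (G ⧸ N) : Set (G ⧸ N)) := by
    intro a ha
    rw [Subgroup.mem_centralizer_iff]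
    intro b hb
    exact (hPbcomm a ha b (hle hb)).symm
  have heq : (Pb : Subgroup (G ⧸ N)) = Cfsg.pCore p (G ⧸ N) :=
    le_antisymm (hPbC.trans hcent) hle
  have hPbn : (Pb : Subgroup (G ⧸ N)).Normal := by rw [heq]; exact Cfsg.pCore_normal p _
  have hcomap : (Pb : Subgroup (G ⧸ N)).comap (QuotientGroup.mk' N) = (P : Subgroup G) ⊔ N := by
    rw [hPb, Subgroup.comap_map_eq, QuotientGroup.ker_mk']
  rw [← hcomap]
  exact Subgroup.Normal.comap hPbn _

end Cfsg.Agent.S0018
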