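import Cfsg.Statements.S0019
import Cfsg.Agent.Helper1.SZ
import Mathlib.GroupTheory.GroupAction.Quotient

set_option autoImplicit false
open Cfsg

namespace Cfsg.Agent.S0019

open Cfsg.Agent.Helper1 Subgroup

universe u

/-- If `G = H₁ H`, `p ∤ [G:H]` and `M ≤ H₁` is a `p`-subgroup normalized by `H₁`, then the
normal closure of `M` lies in `H`. -/
theorem normalClosure_le {G : Type*} [Group G] [Finite G] (H₁ H : Subgroup G)
    (hprod : ∀ g : G, ∃ x ∈ H₁, ∃ y ∈ H, g = x * y) (p : ℕ) [Fact p.Prime]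
    (hp : ¬ p ∣ H.index) (M : Subgroup G) (hMp : IsPGroup p M)
    (hMn : ∀ x ∈ H₁, ∀ m ∈ M, x * m * x⁻¹ ∈ M) :
    Subgroup.normalClosure (M : Set G) ≤ H := by
  -- `M` fixes a coset `gH`
  have hcard : ¬ p ∣ Nat.card (G ⧸ H) := by rwa [← Subgroup.index_eq_card]
  obtain ⟨q, hq⟩ := hMp.nonempty_fixed_point_of_prime_not_dvd_card (G ⧸ H) hcard
  obtain ⟨g, rfl⟩ := QuotientGroup.mk_surjective q
  have h1 : ∀ m ∈ M, g⁻¹ * m * g ∈ H := by
    intro m hm
    have := hq ⟨m, hm⟩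
    change ((m * g : G) : G ⧸ H) = g at this
    rw [QuotientGroup.eq] at this
    have h2 := H.inv_mem this
    simpa [mul_assoc] using h2
  obtain ⟨x, hx, y, hy, rfl⟩ := hprod g
  have hMH : M ≤ H := by
    intro m' hm'
    have hm : x * m' * x⁻¹ ∈ M := hMn x hx m' hm'
    have h2 := h1 _ hm
    have h3 : y * ((x * y)⁻¹ * (x * m' * x⁻¹) * (x * y)) * y⁻¹ ∈ H :=
      H.mul_mem (H.mul_mem hy h2) (H.inv_mem hy)
    simpa [mul_assoc] using h3
  rw [Subgroup.normalClosure, Subgroup.closure_le]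
  intro a ha
  rw [Group.mem_conjugatesOfSet_iff] at ha
  obtain ⟨m, hm, hconj⟩ := ha
  rw [isConj_iff] at hconj
  obtain ⟨c, rfl⟩ := hconj
  obtain ⟨x', hx', y', hy', hc⟩ := hprod c⁻¹
  have hc' : c = y'⁻¹ * x'⁻¹ := by
    rw [← inv_inv c, hc, mul_inv_rev]
  have h4 : x'⁻¹ * m * x'⁻¹⁻¹ ∈ M := hMn _ (H₁.inv_mem hx') m hm
  have h5 : c * m * c⁻¹ = y'⁻¹ * (x'⁻¹ * m * x'⁻¹⁻¹) * y'⁻¹⁻¹ := by
    rw [hc']; simp [mul_assoc]
  rw [SetLike.mem_coe, h5]
  exact H.mul_mem (H.mul_mem (H.inv_mem hy') (hMH h4)) (H.inv_mem (H.inv_mem hy'))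

theorem aux (n : ℕ) : ∀ (G : Type u) [Group G] [Finite G], Nat.card G = n →
    ∀ (H₁ H₂ H₃ : Subgroup G), Group.IsSolvable H₁ → Group.IsSolvable H₂ → Group.IsSolvable H₃ →
    (∀ g : G, ∃ x ∈ H₁, ∃ y ∈ H₂, g = x * y) → (∀ g : G, ∃ x ∈ H₁, ∃ y ∈ H₃, g = x * y) →
    H₂.index.Coprime H₃.index → Group.IsSolvable G := by
  induction n using Nat.strong_induction_on with
  | _ n ih =>
  intro G _ _ hcard H₁ H₂ H₃ h₁ h₂ h₃ h12 h13 hcop
  by_cases hbot : H₁ = ⊥
  · -- `G = H₂`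
    have : H₂ = ⊤ := by
      rw [eq_top_iff]
      intro g _
      obtain ⟨x, hx, y, hy, rfl⟩ := h12 g
      rw [hbot, Subgroup.mem_bot] at hx
      rw [hx, one_mul]; exact hy
    rw [this] at h₂
    exact Group.isSolvable_of_isSolvable_injective
      (f := (Subgroup.topEquiv (G := G)).symm.toMonoidHom) (Subgroup.topEquiv (G := G)).symm.injective
  · have hnt : Nontrivial H₁ := (Subgroup.nontrivial_iff_ne_bot H₁).mpr hbot
    obtain ⟨p, hp, M₀, hM₀n, hM₀bot, hM₀p⟩ := exists_normal_pSubgroup H₁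
    haveI : Fact p.Prime := ⟨hp⟩
    set M : Subgroup G := M₀.map H₁.subtype with hM
    have hMbot : M ≠ ⊥ := by
      rw [hM, Ne, Subgroup.map_eq_bot_iff_of_injective _ (Subgroup.subtype_injective H₁)]
      exact hM₀bot
    have hMp : IsPGroup p M := hM₀p.map H₁.subtype
    have hMn : ∀ x ∈ H₁, ∀ m ∈ M, x * m * x⁻¹ ∈ M := by
      rintro x hx m ⟨r, hr, rfl⟩
      refine ⟨⟨x, hx⟩ * r * ⟨x, hx⟩⁻¹, hM₀n.conj_mem r hr ⟨x, hx⟩, ?_⟩
      simp
    -- `p` does not divide one of the two indices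
    have hpi : ¬ p ∣ H₂.index ∨ ¬ p ∣ H₃.index := by
      by_contra hcon
      push Not at hcon
      have := Nat.dvd_gcd hcon.1 hcon.2
      rw [hcop.gcd_eq_one] at this
      exact hp.one_lt.ne' (Nat.dvd_one.mp this)
    set N : Subgroup G := Subgroup.normalClosure (M : Set G) with hN
    have hNn : N.Normal := Subgroup.normalClosure_normal
    have hMN : M ≤ N := Subgroup.le_normalClosure
    have hNbot : N ≠ ⊥ := fun h => hMbot (le_bot_iff.mp (h ▸ hMN))
    have hNsolv : Group.IsSolvable N := by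
      rcases hpi with h | h
      · have hle := normalClosure_le H₁ H₂ h12 p h M hMp hMn
        exact Group.isSolvable_of_isSolvable_injective (Subgroup.inclusion_injective hle)
      · have hle := normalClosure_le H₁ H₃ h13 p h M hMp hMn
        exact Group.isSolvable_of_isSolvable_injective (Subgroup.inclusion_injective hle)
    -- the quotient
    have hsurj : Function.Surjective (QuotientGroup.mk' N) := QuotientGroup.mk'_surjective N
    have hqcard : Nat.card (G ⧸ N) < n := by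
      rw [← hcard, Subgroup.card_eq_card_quotient_mul_card_subgroup N]
      have h1 : 1 < Nat.card N := (Subgroup.one_lt_card_iff_ne_bot N).mpr hNbot
      have h2 : 0 < Nat.card (G ⧸ N) := Nat.card_pos
      nlinarith
    have hq : Group.IsSolvable (G ⧸ N) := by
      apply ih (Nat.card (G ⧸ N)) hqcard (G ⧸ N) rfl (H₁.map (QuotientGroup.mk' N))
        (H₂.map (QuotientGroup.mk' N)) (H₃.map (QuotientGroup.mk' N))
        (isSolvable_map H₁ _) (isSolvable_map H₂ _) (isSolvable_map H₃ _)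
      · intro g
        obtain ⟨g, rfl⟩ := hsurj g
        obtain ⟨x, hx, y, hy, rfl⟩ := h12 g
        exact ⟨_, Subgroup.mem_map_of_mem _ hx, _, Subgroup.mem_map_of_mem _ hy, map_mul _ _ _⟩
      · intro g
        obtain ⟨g, rfl⟩ := hsurj g
        obtain ⟨x, hx, y, hy, rfl⟩ := h13 g
        exact ⟨_, Subgroup.mem_map_of_mem _ hx, _, Subgroup.mem_map_of_mem _ hy, map_mul _ _ _⟩
      · exact Nat.Coprime.coprime_dvd_left (Subgroup.index_map_dvd H₂ hsurj)
          (Nat.Coprime.coprime_dvd_right (Subgroup.index_map_dvd H₃ hsurj) hcop)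
    exact Group.isSolvable_of_ker_le_range N.subtype (QuotientGroup.mk' N) (by simp)

/-- A finite group that factorises as H₁H₂ and as H₁H₃ with all three subgroups solvable and the indices of H₂ and H₃ coprime is solvable. -/
theorem result {G : Type*} [Group G] [Finite G] (H₁ H₂ H₃ : Subgroup G)
    (h₁ : Group.IsSolvable H₁) (h₂ : Group.IsSolvable H₂) (h₃ : Group.IsSolvable H₃)
    (h12 : ∀ g : G, ∃ x ∈ H₁, ∃ y ∈ H₂, g = x * y) (h13 : ∀ g : G, ∃ x ∈ H₁, ∃ y ∈ H₃, g = x * y)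
    (hcop : H₂.index.Coprime H₃.index) : Group.IsSolvable G :=
  aux (Nat.card G) G rfl H₁ H₂ H₃ h₁ h₂ h₃ h12 h13 hcop

end Cfsg.Agent.S0019
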