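import Cfsg.Statements.S0020
import Cfsg.Agent.Lib.Hall
import Cfsg.Agent.S0007

set_option autoImplicit false
open Pointwise
open Cfsg

namespace Cfsg.Agent.S0020

universe u

variable {G : Type u} [Group G] [Finite G] [Group.IsSolvable G]

/-- Hall `p'`-subgroups: a subgroup whose index is the full power of `p` dividing `|G|`. -/
theorem exists_hall_compl (p : ℕ) (hp : p.Prime) :
    ∃ K : Subgroup G, K.index = p ^ (Nat.card G).factorization p := by
  have hN : Nat.card G ≠ 0 := Nat.card_pos.ne'
  have h1 : Nat.card G = (Nat.card G / p ^ (Nat.card G).factorization p) *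
      p ^ (Nat.card G).factorization p := by
    rw [mul_comm]; exact (Nat.ordProj_mul_ordCompl_eq_self (Nat.card G) p).symm
  have h2 : (Nat.card G / p ^ (Nat.card G).factorization p).Coprime
      (p ^ (Nat.card G).factorization p) :=
    (Nat.Coprime.pow_left _ (Nat.coprime_ordCompl hp hN)).symm
  obtain ⟨K, hK⟩ := Cfsg.Agent.Lib.hall_exists _ _ h1 h2
  refine ⟨K, ?_⟩
  have h3 := K.card_mul_index
  rw [hK] at h3
  have hpos : 0 < Nat.card G / p ^ (Nat.card G).factorization p :=
    Nat.ordCompl_pos p hN
  apply Nat.eq_of_mul_eq_mul_left hpos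
  rw [h3]; exact h1

/-- A choice of Hall `p'`-subgroups (`⊤` for non-primes). -/
noncomputable def hallCompl (G : Type u) [Group G] [Finite G] [Group.IsSolvable G] (p : ℕ) :
    Subgroup G :=
  if hp : p.Prime then Classical.choose (exists_hall_compl (G := G) p hp) else ⊤

theorem hallCompl_index (p : ℕ) (hp : p.Prime) :
    (hallCompl G p).index = p ^ (Nat.card G).factorization p := by
  unfold hallCompl
  rw [dif_pos hp]
  exact Classical.choose_spec (exists_hall_compl (G := G) p hp)

/-- The intersection of Hall complements over a finite set of primes has index the product. -/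
theorem index_inf_hallCompl (T : Finset ℕ) (hT : ∀ q ∈ T, q.Prime) :
    (T.inf (hallCompl G)).index = ∏ q ∈ T, q ^ (Nat.card G).factorization q := by
  classical
  induction T using Finset.induction_on with
  | empty => simp
  | insert q T hq ih =>
    have hqp : q.Prime := hT q (Finset.mem_insert_self q T)
    have hT' : ∀ r ∈ T, r.Prime := fun r hr => hT r (Finset.mem_insert_of_mem hr)
    rw [Finset.inf_insert, Finset.prod_insert hq]
    have hcop : (hallCompl G q).index.Coprime (T.inf (hallCompl G)).index := by
      rw [hallCompl_index q hqp, ih hT']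
      apply Nat.Coprime.prod_right
      intro r hr
      have hrq : q ≠ r := fun h => hq (h ▸ hr)
      exact Nat.Coprime.pow _ _ ((Nat.coprime_primes hqp (hT' r hr)).mpr hrq)
    rw [(Cfsg.Agent.S0007.result _ _ hcop).1, hallCompl_index q hqp, ih hT']

theorem card_eq_prod : Nat.card G =
    ∏ q ∈ (Nat.card G).primeFactors, q ^ (Nat.card G).factorization q := by
  have hN : Nat.card G ≠ 0 := Nat.card_pos.ne'
  conv_lhs => rw [← Nat.factorization_prod_pow_eq_self hN]
  rw [Finsupp.prod, Nat.support_factorization]

/-- Splitting off one prime from the product formula for `|G|`. -/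
theorem card_eq_pow_mul_prod_erase (T : Finset ℕ) (p : ℕ) (hp : p.Prime) :
    ∏ q ∈ T, q ^ (Nat.card G).factorization q =
      p ^ (if p ∈ T then (Nat.card G).factorization p else 0) *
        ∏ q ∈ T.erase p, q ^ (Nat.card G).factorization q := by
  classical
  by_cases h : p ∈ T
  · rw [if_pos h, Finset.mul_prod_erase T (fun q => q ^ (Nat.card G).factorization q) h]
  · rw [if_neg h, pow_zero, one_mul, Finset.erase_eq_of_notMem h]

theorem factorization_eq_ite (p : ℕ) :
    (if p ∈ (Nat.card G).primeFactors then (Nat.card G).factorization p else 0) =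
      (Nat.card G).factorization p := by
  split_ifs with h
  · rfl
  · rw [← Nat.support_factorization, Finsupp.mem_support_iff, not_not] at h
    exact h.symm

/-- The Sylow subgroup of the system at the prime `p`, as a subgroup. -/
noncomputable def sylSub (G : Type u) [Group G] [Finite G] [Group.IsSolvable G] (p : ℕ) :
    Subgroup G :=
  ((Nat.card G).primeFactors.erase p).inf (hallCompl G)

theorem prod_pos' (T : Finset ℕ) (hT : ∀ q ∈ T, q.Prime) :
    0 < ∏ q ∈ T, q ^ (Nat.card G).factorization q :=
  Finset.prod_pos fun q hq => pow_pos (hT q hq).pos _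

theorem card_sylSub (p : ℕ) (hp : p.Prime) :
    Nat.card (sylSub G p) = p ^ (Nat.card G).factorization p := by
  classical
  have hT : ∀ q ∈ (Nat.card G).primeFactors.erase p, q.Prime := fun q hq =>
    Nat.prime_of_mem_primeFactors (Finset.mem_of_mem_erase hq)
  have h1 := index_inf_hallCompl (G := G) _ hT
  have h2 := (sylSub G p).card_mul_index
  have h3 := card_eq_pow_mul_prod_erase (G := G) (Nat.card G).primeFactors p hp
  rw [factorization_eq_ite, ← card_eq_prod] at h3
  unfold sylSub at h2 ⊢
  rw [h1] at h2
  apply Nat.eq_of_mul_eq_mul_right (prod_pos' (G := G) _ hT)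
  exact h2.trans h3

/-- A Hall `{p,q}`-subgroup containing both Sylow subgroups. -/
noncomputable def hallTwo (G : Type u) [Group G] [Finite G] [Group.IsSolvable G] (p q : ℕ) :
    Subgroup G :=
  (((Nat.card G).primeFactors.erase p).erase q).inf (hallCompl G)

theorem sylSub_le_hallTwo_left (p q : ℕ) : sylSub G p ≤ hallTwo G p q :=
  Finset.inf_mono (Finset.erase_subset _ _)

theorem sylSub_le_hallTwo_right (p q : ℕ) : sylSub G q ≤ hallTwo G p q := by
  apply Finset.inf_mono
  intro r hr
  rw [Finset.mem_erase] at hr ⊢
  exact ⟨hr.1, Finset.mem_of_mem_erase hr.2⟩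

theorem card_hallTwo (p q : ℕ) (hp : p.Prime) (hq : q.Prime) (hpq : p ≠ q) :
    Nat.card (hallTwo G p q) =
      p ^ (Nat.card G).factorization p * q ^ (Nat.card G).factorization q := by
  classical
  have hT : ∀ r ∈ ((Nat.card G).primeFactors.erase p).erase q, r.Prime := fun r hr =>
    Nat.prime_of_mem_primeFactors (Finset.mem_of_mem_erase (Finset.mem_of_mem_erase hr))
  have h1 := index_inf_hallCompl (G := G) _ hT
  have h2 := (hallTwo G p q).card_mul_index
  have h3 := card_eq_pow_mul_prod_erase (G := G) (Nat.card G).primeFactors p hp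
  rw [factorization_eq_ite, ← card_eq_prod] at h3
  have h4 := card_eq_pow_mul_prod_erase (G := G) ((Nat.card G).primeFactors.erase p) q hq
  have h5 : (if q ∈ (Nat.card G).primeFactors.erase p then (Nat.card G).factorization q else 0) =
      (Nat.card G).factorization q := by
    split_ifs with h
    · rfl
    · rw [Finset.mem_erase, not_and] at h
      have := h hpq.symm
      rw [← Nat.support_factorization, Finsupp.mem_support_iff, not_not] at this
      exact this.symm
  rw [h5] at h4
  unfold hallTwo at h2 ⊢
  rw [h1] at h2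
  apply Nat.eq_of_mul_eq_mul_right (prod_pos' (G := G) _ hT)
  refine (h2.trans h3).trans ?_
  rw [h4]; ring

/-- Two subgroups of coprime orders whose orders multiply to the order of a common overgroup `H`
have set product equal to `H`. -/
theorem mul_eq_of_card {A B H : Subgroup G} (hA : A ≤ H) (hB : B ≤ H)
    (hcard : Nat.card A * Nat.card B = Nat.card H) (hcop : (Nat.card A).Coprime (Nat.card B)) :
    (A : Set G) * (B : Set G) = (H : Set G) := by
  have hcA : Nat.card (A.subgroupOf H) = Nat.card A :=
    Nat.card_congr (Subgroup.subgroupOfEquivOfLe hA).toEquiv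
  have hcB : Nat.card (B.subgroupOf H) = Nat.card B :=
    Nat.card_congr (Subgroup.subgroupOfEquivOfLe hB).toEquiv
  have hc : Subgroup.IsComplement' (A.subgroupOf H) (B.subgroupOf H) :=
    Subgroup.isComplement'_of_coprime (by rw [hcA, hcB, hcard]) (by rw [hcA, hcB]; exact hcop)
  have hmul := Subgroup.IsComplement.mul_eq hc
  ext x
  constructor
  · rintro ⟨a, ha, b, hb, rfl⟩
    exact H.mul_mem (hA ha) (hB hb)
  · intro hx
    have : (⟨x, hx⟩ : H) ∈ ((A.subgroupOf H : Subgroup H) : Set H) * (B.subgroupOf H : Set H) := by
      rw [hmul]; trivial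
    obtain ⟨a, ha, b, hb, hab⟩ := this
    exact ⟨a, ha, b, hb, congrArg Subtype.val hab⟩

/-- A finite solvable group admits a Sylow system: Sylow subgroups, one for each prime, that pairwise permute as sets. -/
theorem result {G : Type*} [Group G] [Finite G] [Group.IsSolvable G] :
    ∃ S : (p : Nat.Primes) → Sylow (p : ℕ) G,
      ∀ p q : Nat.Primes, (S p : Set G) * (S q : Set G) = (S q : Set G) * (S p : Set G) := by
  classical
  refine ⟨fun p => haveI : Fact (p : ℕ).Prime := ⟨p.2⟩
    Sylow.ofCard (sylSub G p) (card_sylSub (p : ℕ) p.2), ?_⟩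
  intro p q
  by_cases hpq : (p : ℕ) = q
  · have : p = q := Subtype.ext hpq
    subst this; rfl
  · show (sylSub G p : Set G) * (sylSub G q : Set G) = (sylSub G q : Set G) * (sylSub G p : Set G)
    have hcop : (Nat.card (sylSub G p)).Coprime (Nat.card (sylSub G q)) := by
      rw [card_sylSub _ p.2, card_sylSub _ q.2]
      exact Nat.Coprime.pow _ _ ((Nat.coprime_primes p.2 q.2).mpr hpq)
    have h1 := mul_eq_of_card (sylSub_le_hallTwo_left (G := G) p q) (sylSub_le_hallTwo_right p q)
      (by rw [card_sylSub _ p.2, card_sylSub _ q.2, card_hallTwo _ _ p.2 q.2 hpq]) hcop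
    have h2 := mul_eq_of_card (sylSub_le_hallTwo_right (G := G) p q) (sylSub_le_hallTwo_left p q)
      (by rw [card_sylSub _ p.2, card_sylSub _ q.2, card_hallTwo _ _ p.2 q.2 hpq, mul_comm]) hcop.symm
    rw [h1, h2]

end Cfsg.Agent.S0020
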