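import Cfsg.Statements.S0030
import Cfsg.Agent.Helper1.CoprimeAction

set_option autoImplicit false
open Cfsg

namespace Cfsg.Agent.S0030

open Cfsg.Agent.Helper1

/-- Under coprime action fixed points of a product of two invariant subgroups factor: if K = X Y with X and Y normalised by A then every A-fixed element of K is a product of an A-fixed element of X and an A-fixed element of Y. -/
theorem result {G : Type*} [Group G] [Finite G] (A K : Subgroup G) (hAK : A ≤ Subgroup.normalizer (K : Set G))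
    (hcop : (Nat.card A).Coprime (Nat.card K)) (hsolv : Group.IsSolvable A ∨ Group.IsSolvable K)
    (X Y : Subgroup G) (hX : X ≤ K) (hY : Y ≤ K) (hXA : A ≤ Subgroup.normalizer (X : Set G)) (hYA : A ≤ Subgroup.normalizer (Y : Set G))
    (hXY : ∀ k ∈ K, ∃ x ∈ X, ∃ y ∈ Y, k = x * y) (k : G) (hk : k ∈ K ⊓ Subgroup.centralizer (A : Set G)) :
    ∃ x ∈ X ⊓ Subgroup.centralizer (A : Set G), ∃ y ∈ Y ⊓ Subgroup.centralizer (A : Set G), k = x * y := by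
  obtain ⟨hkK, hkC⟩ := Subgroup.mem_inf.mp hk
  obtain ⟨x₀, hx₀, y₀, hy₀, hk0⟩ := hXY k hkK
  set D : Subgroup G := X ⊓ Y with hD
  have hDK : D ≤ K := inf_le_left.trans hX
  have hconjX : ∀ a ∈ A, ∀ x ∈ X, a * x * a⁻¹ ∈ X := fun a ha x hx =>
    (Subgroup.mem_normalizer_iff.mp (hXA ha) x).mp hx
  have hconjY : ∀ a ∈ A, ∀ y ∈ Y, a * y * a⁻¹ ∈ Y := fun a ha y hy =>
    (Subgroup.mem_normalizer_iff.mp (hYA ha) y).mp hy
  have hAD : A ≤ Subgroup.normalizer (D : Set G) := by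
    intro a ha
    rw [Subgroup.mem_normalizer_iff]
    intro d
    rw [hD, Subgroup.mem_inf, Subgroup.mem_inf]
    exact and_congr (Subgroup.mem_normalizer_iff.mp (hXA ha) d) (Subgroup.mem_normalizer_iff.mp (hYA ha) d)
  have hcopD : (Nat.card A).Coprime (Nat.card D) :=
    Nat.Coprime.coprime_dvd_right (Subgroup.card_dvd_of_le hDK) hcop
  have hsolvD : Group.IsSolvable A ∨ Group.IsSolvable D := by
    rcases hsolv with h | h
    · exact Or.inl h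
    · exact Or.inr (Group.isSolvable_of_isSolvable_injective (Subgroup.inclusion_injective hDK))
  have hy₀' : y₀ = x₀⁻¹ * k := by rw [hk0]; simp
  have hinv : ∀ a ∈ A, ∃ d ∈ D, a * x₀⁻¹ * a⁻¹ = d * x₀⁻¹ := by
    intro a ha
    refine ⟨a * x₀⁻¹ * a⁻¹ * x₀, Subgroup.mem_inf.mpr ⟨?_, ?_⟩, by simp [mul_assoc]⟩
    · exact X.mul_mem (hconjX a ha _ (X.inv_mem hx₀)) hx₀
    · -- `a x₀⁻¹ a⁻¹ x₀ = (a y₀ a⁻¹) y₀⁻¹`
      have hka : k * a⁻¹ = a⁻¹ * k := by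
        have := (Subgroup.mem_centralizer_iff.mp hkC) a⁻¹ (A.inv_mem ha)
        exact this.symm
      have h1 : a * x₀⁻¹ * a⁻¹ * x₀ = (a * y₀ * a⁻¹) * y₀⁻¹ := by
        rw [hy₀']
        calc a * x₀⁻¹ * a⁻¹ * x₀ = a * x₀⁻¹ * (a⁻¹ * k) * k⁻¹ * x₀ := by simp [mul_assoc]
          _ = a * x₀⁻¹ * (k * a⁻¹) * k⁻¹ * x₀ := by rw [hka]
          _ = a * (x₀⁻¹ * k) * a⁻¹ * (x₀⁻¹ * k)⁻¹ := by simp [mul_assoc]
      rw [h1]
      exact Y.mul_mem (hconjY a ha y₀ hy₀) (Y.inv_mem hy₀)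
  obtain ⟨d, hd, hz⟩ := exists_mem_coset_centralizer A D hAD hcopD hsolvD x₀⁻¹ hinv
  obtain ⟨hdX, hdY⟩ := Subgroup.mem_inf.mp hd
  refine ⟨(d * x₀⁻¹)⁻¹, Subgroup.mem_inf.mpr ⟨?_, Subgroup.inv_mem _ hz⟩, (d * x₀⁻¹) * k,
    Subgroup.mem_inf.mpr ⟨?_, Subgroup.mul_mem _ hz hkC⟩, by simp [mul_assoc]⟩
  · exact X.inv_mem (X.mul_mem hdX (X.inv_mem hx₀))
  · have : d * x₀⁻¹ * k = d * y₀ := by rw [hy₀']; simp [mul_assoc]
    rw [this]
    exact Y.mul_mem hdY hy₀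

end Cfsg.Agent.S0030
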