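import Cfsg.Statements.S0041
import Cfsg.Agent.Helper1.FpfCyclic

set_option autoImplicit false
open Cfsg

namespace Cfsg.Agent.S0041

open scoped IsMulCommutative

/-- A group acting on a nontrivial abelian group so that no nonidentity element has a nonidentity fixed point is cyclic, provided it is abelian or its order is a product of two (possibly equal) primes. -/
theorem result {G : Type*} [Group G] [Finite G] (A V : Subgroup G) [IsMulCommutative V]
    (hV : V ≠ ⊥) (hAV : A ≤ Subgroup.normalizer (V : Set G)) (hfpf : ∀ a ∈ A, a ≠ 1 → V ⊓ Subgroup.centralizer {a} = ⊥)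
    (hA : IsMulCommutative A ∨ ∃ p q : ℕ, p.Prime ∧ q.Prime ∧ Nat.card A = p * q) : IsCyclic A := by
  haveI : Nontrivial V := (Subgroup.nontrivial_iff_ne_bot V).mpr hV
  let φ : A →* MulAut V := V.normalizerMonoidHom.comp (Subgroup.inclusion hAV)
  have hφ : ∀ (a : A) (v : V), ((φ a v : V) : G) = a * v * (a : G)⁻¹ := fun a v => rfl
  have hfpf' : ∀ a : A, a ≠ 1 → ∀ v : V, φ a v = v → v = 1 := by
    intro a ha v hv
    have h1 : (v : G) ∈ V ⊓ Subgroup.centralizer {(a : G)} := by
      refine Subgroup.mem_inf.mpr ⟨v.2, ?_⟩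
      rw [Subgroup.mem_centralizer_singleton_iff]
      have := congrArg Subtype.val hv
      rw [hφ] at this
      have h2 : (a : G) * v = v * a := by
        calc (a : G) * v = (a * v * (a : G)⁻¹) * a := by group
          _ = v * a := by rw [this]
      first | exact h2 | exact h2.symm
    rw [hfpf a a.2 (by intro h; apply ha; exact Subtype.ext h)] at h1
    exact Subtype.ext (Subgroup.mem_bot.mp h1)
  rcases hA with hA | ⟨p, q, hp, hq, hcard⟩
  · exact Helper1.isCyclic_of_fpf_of_comm φ hfpf'
  · exact Helper1.isCyclic_of_fpf_of_card_pq φ hp hq hcard hfpf'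

end Cfsg.Agent.S0041
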