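import Cfsg.Statements.S0047
import Mathlib.Tactic.Group

set_option autoImplicit false
open Cfsg

namespace Cfsg.Agent.S0047

open Subgroup
open scoped commutatorElement

variable {G : Type*} [Group G]

theorem comm_mul_left {x y z : G} (h : Commute y z) : ⁅x * y, z⁆ = ⁅x, z⁆ := by
  have h' : y * z = z * y := h
  rw [commutatorElement_def, commutatorElement_def]
  calc x * y * z * (x * y)⁻¹ * z⁻¹ = x * (y * z) * y⁻¹ * x⁻¹ * z⁻¹ := by group
    _ = x * (z * y) * y⁻¹ * x⁻¹ * z⁻¹ := by rw [h']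
    _ = x * z * x⁻¹ * z⁻¹ := by group

theorem comm_mul_right {x y z : G} (h : Commute x z) : ⁅x, y * z⁆ = ⁅x, y⁆ := by
  have h' : x * z = z * x := h
  rw [commutatorElement_def, commutatorElement_def]
  calc x * (y * z) * x⁻¹ * (y * z)⁻¹ = x * y * (z * x⁻¹) * z⁻¹ * y⁻¹ := by group
    _ = x * y * (x⁻¹ * z) * z⁻¹ * y⁻¹ := by
        have : z * x⁻¹ = x⁻¹ * z := by
          calc z * x⁻¹ = x⁻¹ * (x * z) * x⁻¹ := by group
            _ = x⁻¹ * (z * x) * x⁻¹ := by rw [h']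
            _ = x⁻¹ * z := by group
        rw [this]
    _ = x * y * x⁻¹ * y⁻¹ := by group

theorem conj_comm (g x y : G) : g * ⁅x, y⁆ * g⁻¹ = ⁅g * x * g⁻¹, g * y * g⁻¹⁆ := by
  rw [commutatorElement_def, commutatorElement_def]; group

theorem conj_of_commute {g y : G} (h : Commute g y) : g * y * g⁻¹ = y := by
  have h' : g * y = y * g := h
  rw [h']; group

section main

variable (A B : Subgroup G) [IsMulCommutative A] [IsMulCommutative B]

omit [IsMulCommutative B] in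
theorem commuteA {x y : G} (hx : x ∈ A) (hy : y ∈ A) : Commute x y := by
  have := mul_comm' (⟨x, hx⟩ : A) ⟨y, hy⟩
  exact congrArg Subtype.val this

/-- Itô's key computation. -/
theorem ito_key (hAB : ∀ g : G, ∃ a ∈ A, ∃ b ∈ B, g = a * b)
    {a α b β : G} (ha : a ∈ A) (hα : α ∈ A) (hb : b ∈ B) (hβ : β ∈ B) :
    (α * β) * ⁅a, b⁆ * (α * β)⁻¹ = (β * α) * ⁅a, b⁆ * (β * α)⁻¹ := by
  have cA : ∀ {x y : G}, x ∈ A → y ∈ A → Commute x y := fun hx hy => commuteA A hx hy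
  have cB : ∀ {x y : G}, x ∈ B → y ∈ B → Commute x y := fun hx hy => commuteA B hx hy
  obtain ⟨a₃, ha₃, b₃, hb₃, h3⟩ := hAB (β * a * β⁻¹)
  -- `G = B A` as well
  obtain ⟨a₂', ha₂', b₂', hb₂', h2'⟩ := hAB (α * b * α⁻¹)⁻¹
  have h2 : α * b * α⁻¹ = b₂'⁻¹ * a₂'⁻¹ := by
    have : α * b * α⁻¹ = ((α * b * α⁻¹)⁻¹)⁻¹ := (inv_inv _).symm
    rw [this, h2', mul_inv_rev]
  set b₂ := b₂'⁻¹ with hb₂def
  set a₂ := a₂'⁻¹ with ha₂def
  have hb₂ : b₂ ∈ B := B.inv_mem hb₂'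
  have ha₂ : a₂ ∈ A := A.inv_mem ha₂'
  have lhs : (α * β) * ⁅a, b⁆ * (α * β)⁻¹ = ⁅a₃, b₂⁆ := by
    have e1 : (α * β) * ⁅a, b⁆ * (α * β)⁻¹ = α * (β * ⁅a, b⁆ * β⁻¹) * α⁻¹ := by group
    rw [e1, conj_comm β, conj_of_commute (cB hβ hb), h3, comm_mul_left (cB hb₃ hb), conj_comm α,
      conj_of_commute (cA hα ha₃), h2, comm_mul_right (cA ha₃ ha₂)]
  have rhs : (β * α) * ⁅a, b⁆ * (β * α)⁻¹ = ⁅a₃, b₂⁆ := by
    have e1 : (β * α) * ⁅a, b⁆ * (β * α)⁻¹ = β * (α * ⁅a, b⁆ * α⁻¹) * β⁻¹ := by group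
    rw [e1, conj_comm α, conj_of_commute (cA hα ha), h2, comm_mul_right (cA ha ha₂), conj_comm β,
      conj_of_commute (cB hβ hb₂), h3, comm_mul_left (cB hb₃ hb₂)]
  rw [lhs, rhs]

theorem comm_commute (hAB : ∀ g : G, ∃ a ∈ A, ∃ b ∈ B, g = a * b)
    {a α b β : G} (ha : a ∈ A) (hα : α ∈ A) (hb : b ∈ B) (hβ : β ∈ B) :
    ⁅a, b⁆ * ⁅α, β⁆ = ⁅α, β⁆ * ⁅a, b⁆ := by
  have key := ito_key A B hAB ha (A.inv_mem hα) hb (B.inv_mem hβ)
  have e : ⁅α, β⁆ = (β⁻¹ * α⁻¹)⁻¹ * (α⁻¹ * β⁻¹) := by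
    rw [commutatorElement_def]; group
  set c := ⁅a, b⁆ with hc
  have key2 : (β⁻¹ * α⁻¹)⁻¹ * (α⁻¹ * β⁻¹) * c = c * ((β⁻¹ * α⁻¹)⁻¹ * (α⁻¹ * β⁻¹)) := by
    calc (β⁻¹ * α⁻¹)⁻¹ * (α⁻¹ * β⁻¹) * c
        = (β⁻¹ * α⁻¹)⁻¹ * ((α⁻¹ * β⁻¹) * c * (α⁻¹ * β⁻¹)⁻¹) * (α⁻¹ * β⁻¹) := by group
      _ = (β⁻¹ * α⁻¹)⁻¹ * ((β⁻¹ * α⁻¹) * c * (β⁻¹ * α⁻¹)⁻¹) * (α⁻¹ * β⁻¹) := by rw [key]
      _ = c * ((β⁻¹ * α⁻¹)⁻¹ * (α⁻¹ * β⁻¹)) := by group
  rw [e, key2]

end main

/-- A finite group which is the product AB of two abelian subgroups A and B is solvable. -/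
theorem result {G : Type*} [Group G] [Finite G] (A B : Subgroup G)
    [IsMulCommutative A] [IsMulCommutative B] (hAB : ∀ g : G, ∃ a ∈ A, ∃ b ∈ B, g = a * b) :
    Group.IsSolvable G := by
  have cA : ∀ {x y : G}, x ∈ A → y ∈ A → Commute x y := fun hx hy => commuteA A hx hy
  have cB : ∀ {x y : G}, x ∈ B → y ∈ B → Commute x y := fun hx hy => commuteA B hx hy
  set D : Subgroup G := ⁅A, B⁆ with hD
  -- `D` is commutative
  have hDcomm : IsMulCommutative D := by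
    rw [hD, Subgroup.commutator_def]
    apply isMulCommutative_closure
    rintro x ⟨a, ha, b, hb, rfl⟩ y ⟨α, hα, β, hβ, rfl⟩
    exact comm_commute A B hAB ha hα hb hβ
  -- `A` and `B` normalize `D`
  have hAn : ∀ α ∈ A, ∀ d ∈ D, α * d * α⁻¹ ∈ D := by
    intro α hα d hd
    rw [hD, Subgroup.commutator_def] at hd
    induction hd using Subgroup.closure_induction with
    | mem x hx =>
      obtain ⟨a, ha, b, hb, rfl⟩ := hx
      have : α * ⁅a, b⁆ * α⁻¹ = ⁅α * a, b⁆ * ⁅α, b⁆⁻¹ := by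
        rw [commutatorElement_def, commutatorElement_def, commutatorElement_def]; group
      rw [this]
      exact D.mul_mem (commutator_mem_commutator (A.mul_mem hα ha) hb)
        (D.inv_mem (commutator_mem_commutator hα hb))
    | one => simp
    | mul x y _ _ hx hy =>
      have : α * (x * y) * α⁻¹ = (α * x * α⁻¹) * (α * y * α⁻¹) := by group
      rw [this]; exact D.mul_mem hx hy
    | inv x _ hx =>
      have : α * x⁻¹ * α⁻¹ = (α * x * α⁻¹)⁻¹ := by group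
      rw [this]; exact D.inv_mem hx
  have hBn : ∀ β ∈ B, ∀ d ∈ D, β * d * β⁻¹ ∈ D := by
    intro β hβ d hd
    rw [hD, Subgroup.commutator_def] at hd
    induction hd using Subgroup.closure_induction with
    | mem x hx =>
      obtain ⟨a, ha, b, hb, rfl⟩ := hx
      have : β * ⁅a, b⁆ * β⁻¹ = ⁅a, β⁆⁻¹ * ⁅a, β * b⁆ := by
        rw [commutatorElement_def, commutatorElement_def, commutatorElement_def]; group
      rw [this]
      exact D.mul_mem (D.inv_mem (commutator_mem_commutator ha hβ))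
        (commutator_mem_commutator ha (B.mul_mem hβ hb))
    | one => simp
    | mul x y _ _ hx hy =>
      have : β * (x * y) * β⁻¹ = (β * x * β⁻¹) * (β * y * β⁻¹) := by group
      rw [this]; exact D.mul_mem hx hy
    | inv x _ hx =>
      have : β * x⁻¹ * β⁻¹ = (β * x * β⁻¹)⁻¹ := by group
      rw [this]; exact D.inv_mem hx
  have hDn : D.Normal := by
    constructor
    intro d hd g
    obtain ⟨a, ha, b, hb, rfl⟩ := hAB g
    have : a * b * d * (a * b)⁻¹ = a * (b * d * b⁻¹) * a⁻¹ := by group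
    rw [this]
    exact hAn a ha _ (hBn b hb d hd)
  -- the quotient is commutative
  have hQ : ∀ x y : G ⧸ D, x * y = y * x := by
    intro x y
    obtain ⟨g₁, rfl⟩ := QuotientGroup.mk_surjective x
    obtain ⟨g₂, rfl⟩ := QuotientGroup.mk_surjective y
    obtain ⟨a₁, ha₁, b₁, hb₁, rfl⟩ := hAB g₁
    obtain ⟨a₂, ha₂, b₂, hb₂, rfl⟩ := hAB g₂
    have cAB : ∀ {a b : G}, a ∈ A → b ∈ B → Commute (a : G ⧸ D) (b : G ⧸ D) := by
      intro a b ha hb
      have h1 : ⁅a, b⁆ ∈ D := commutator_mem_commutator ha hb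
      rw [← QuotientGroup.eq_one_iff, commutatorElement_def] at h1
      simp only [QuotientGroup.mk_mul, QuotientGroup.mk_inv] at h1
      have h2 : (a : G ⧸ D) * (b : G ⧸ D) = (b : G ⧸ D) * (a : G ⧸ D) := by
        calc (a : G ⧸ D) * (b : G ⧸ D)
            = ((a : G ⧸ D) * (b : G ⧸ D) * (a : G ⧸ D)⁻¹ * (b : G ⧸ D)⁻¹) * ((b : G ⧸ D) * (a : G ⧸ D)) := by
              group
          _ = (b : G ⧸ D) * (a : G ⧸ D) := by rw [h1, one_mul]
      exact h2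
    have c11 : Commute (a₁ : G ⧸ D) (a₂ : G ⧸ D) := by
      have h : a₁ * a₂ = a₂ * a₁ := cA ha₁ ha₂
      have := congrArg (QuotientGroup.mk' D) h
      simp only [map_mul, QuotientGroup.mk'_apply] at this
      exact this
    have c22 : Commute (b₁ : G ⧸ D) (b₂ : G ⧸ D) := by
      have h : b₁ * b₂ = b₂ * b₁ := cB hb₁ hb₂
      have := congrArg (QuotientGroup.mk' D) h
      simp only [map_mul, QuotientGroup.mk'_apply] at this
      exact this
    have c12 : Commute (a₁ : G ⧸ D) (b₂ : G ⧸ D) := cAB ha₁ hb₂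
    have c21 : Commute (b₁ : G ⧸ D) (a₂ : G ⧸ D) := (cAB ha₂ hb₁).symm
    simp only [QuotientGroup.mk_mul]
    exact (c11.mul_right c12).mul_left (c21.mul_right c22)
  have hQs : Group.IsSolvable (G ⧸ D) := Group.isSolvable_of_comm hQ
  have hDs : Group.IsSolvable D := Group.isSolvable_of_comm (fun a b => mul_comm' a b)
  exact Group.isSolvable_of_ker_le_range D.subtype (QuotientGroup.mk' D) (by simp)

end Cfsg.Agent.S0047
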