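import Cfsg.Statements.S0048
import Cfsg.Agent.Lib.Hall

set_option autoImplicit false
open Pointwise
open Cfsg

namespace Cfsg.Agent.S0048

universe u

open Cfsg.Agent.Lib

theorem aux : ∀ (k : ℕ) (G : Type u) [Group G] [Finite G] [Group.IsSolvable G], Nat.card G = k →
    ∀ M : Subgroup G, IsCoatom M → IsPrimePow M.index := by
  intro k
  induction k using Nat.strong_induction_on with
  | _ k ih =>
  intro G _ _ _ hk M hM
  have hnt : Nontrivial G := by
    by_contra h
    rw [not_nontrivial_iff_subsingleton] at h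
    exact hM.1 (Subsingleton.elim _ _)
  obtain ⟨N, hNn, hNbot, hNmin⟩ := exists_minimal_normal (G := G)
  obtain ⟨hNab, p, hp, hNp⟩ := Cfsg.Agent.S0043.result N hNbot hNmin
  haveI : Fact p.Prime := ⟨hp⟩
  have hNpg : IsPGroup p N := fun x => ⟨1, by rw [pow_one]; exact Subtype.ext (hNp x x.2)⟩
  obtain ⟨e, he⟩ := IsPGroup.iff_card.mp hNpg
  by_cases hNM : N ≤ M
  · -- pass to the quotient
    have he0 : e ≠ 0 := by
      rintro rfl
      rw [pow_zero] at he
      exact hNbot (Subgroup.card_eq_one.mp he)
    have hQ : Nat.card (G ⧸ N) * p ^ e = k := by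
      rw [← he, ← hk]; exact (Subgroup.card_eq_card_quotient_mul_card_subgroup N).symm
    have hpe2 : 2 ≤ p ^ e := by
      calc 2 ≤ p := hp.two_le
        _ = p ^ 1 := (pow_one p).symm
        _ ≤ p ^ e := Nat.pow_le_pow_right hp.pos (Nat.one_le_iff_ne_zero.mpr he0)
    have hQpos : 0 < Nat.card (G ⧸ N) := Nat.card_pos
    have hQlt : Nat.card (G ⧸ N) < k := by rw [← hQ]; nlinarith
    have hsurj : Function.Surjective (QuotientGroup.mk' N) := QuotientGroup.mk'_surjective N
    have hcm : (M.map (QuotientGroup.mk' N)).comap (QuotientGroup.mk' N) = M := by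
      rw [Subgroup.comap_map_eq, QuotientGroup.ker_mk', sup_eq_left.mpr hNM]
    have hco : IsCoatom (M.map (QuotientGroup.mk' N)) := by
      refine ⟨fun h => hM.1 ?_, fun X hX => ?_⟩
      · rw [← hcm, h, Subgroup.comap_top]
      · have h1 : M ≤ X.comap (QuotientGroup.mk' N) := by
          rw [← hcm]; exact Subgroup.comap_mono hX.le
        have h2 : X.comap (QuotientGroup.mk' N) ≠ M := by
          intro h
          have := Subgroup.map_comap_eq_self_of_surjective hsurj X
          rw [h] at this
          exact hX.ne this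
        have h3 : X.comap (QuotientGroup.mk' N) = ⊤ := hM.2 _ (lt_of_le_of_ne h1 (Ne.symm h2))
        rw [← Subgroup.map_comap_eq_self_of_surjective hsurj X, h3,
          ← MonoidHom.range_eq_map, MonoidHom.range_eq_top.mpr hsurj]
    have hidx : (M.map (QuotientGroup.mk' N)).index = M.index := by
      rw [← hcm, Subgroup.index_comap_of_surjective _ hsurj, hcm]
    rw [← hidx]
    exact ih _ hQlt (G ⧸ N) rfl _ hco
  · -- `M ⊔ N = ⊤`, so the index divides `|N|`
    have hsup : M ⊔ N = ⊤ := hM.2 _ (lt_of_le_of_ne le_sup_left (fun h => hNM (h ▸ le_sup_right)))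
    have h1 : Nat.card G = N.relIndex M * Nat.card N := by
      have := Subgroup.relIndex_mul_relIndex ⊥ N (M ⊔ N) bot_le le_sup_right
      rw [Subgroup.relIndex_bot_left, Subgroup.relIndex_bot_left, Subgroup.relIndex_sup_right, hsup,
        Subgroup.card_top] at this
      rw [← this, mul_comm]
    have h2 : Nat.card M = N.relIndex M * Nat.card (N.subgroupOf M) := by
      rw [mul_comm]; exact (Subgroup.card_mul_index (N.subgroupOf M)).symm
    have h3 := M.card_mul_index
    have hrpos : 0 < N.relIndex M := by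
      apply Nat.pos_of_ne_zero
      intro h
      rw [h, zero_mul] at h2
      exact (Nat.card_pos (α := M)).ne' h2
    have h4 : Nat.card (N.subgroupOf M) * M.index = p ^ e := by
      apply Nat.eq_of_mul_eq_mul_left hrpos
      rw [← he, ← h1, ← h3, h2]; ring
    have h5 : M.index ∣ p ^ e := Dvd.intro_left _ h4
    obtain ⟨j, _, hj⟩ := (Nat.dvd_prime_pow hp).mp h5
    have hj0 : j ≠ 0 := by
      rintro rfl
      rw [pow_zero, Subgroup.index_eq_one] at hj
      exact hM.1 hj
    rw [hj]
    exact ⟨p, j, hp.prime, Nat.pos_of_ne_zero hj0, rfl⟩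

/-- In a finite solvable group every maximal subgroup has index a prime power. -/
theorem result {G : Type*} [Group G] [Finite G] [Group.IsSolvable G]
    (M : Subgroup G) (hM : IsCoatom M) : IsPrimePow M.index := by
  exact aux _ G rfl M hM

end Cfsg.Agent.S0048
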