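import Cfsg.Statements.S0049
import Mathlib.GroupTheory.SchurZassenhaus

set_option autoImplicit false
open Cfsg

namespace Cfsg.Agent.S0049

open Subgroup

/-- A prime divisor of the order of a finite group also divides the index of the Frattini subgroup. -/
theorem result {G : Type*} [Group G] [Finite G] (p : ℕ) (hp : p.Prime) (hdvd : p ∣ Nat.card G) :
    p ∣ (frattini G).index := by
  by_contra hnd
  haveI : Fact p.Prime := ⟨hp⟩
  obtain ⟨P⟩ : Nonempty (Sylow p (frattini G)) := inferInstance
  -- `P` is normal in `G`
  have frattini_argument := Sylow.normalizer_sup_eq_top P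
  have normalizer_P := frattini_nongenerating frattini_argument
  have hPn : (map (frattini G).subtype (P : Subgroup (frattini G))).Normal :=
    normalizer_eq_top_iff.mp normalizer_P
  set P' : Subgroup G := map (frattini G).subtype (P : Subgroup (frattini G)) with hP'
  have hcardP' : Nat.card P' = Nat.card P := by
    rw [hP']
    exact Nat.card_congr
      ((P : Subgroup (frattini G)).equivMapOfInjective _ (Subgroup.subtype_injective _)).symm.toEquiv
  have hidx : P'.index = (P : Subgroup (frattini G)).index * (frattini G).index :=
    Subgroup.index_map_subtype _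
  have hnd2 : ¬ p ∣ (P : Subgroup (frattini G)).index := P.not_dvd_index
  have hndP' : ¬ p ∣ P'.index := by
    rw [hidx]
    intro h
    rcases (Nat.Prime.dvd_mul hp).mp h with h | h
    · exact hnd2 h
    · exact hnd h
  have hcop : (Nat.card P').Coprime P'.index := by
    rw [hcardP', P.card_eq_multiplicity]
    exact Nat.Coprime.pow_left _ ((Nat.Prime.coprime_iff_not_dvd hp).mpr hndP')
  obtain ⟨H, hH⟩ := Subgroup.exists_right_complement'_of_coprime hcop
  have hP'le : P' ≤ frattini G := Subgroup.map_subtype_le _
  have hsup : H ⊔ frattini G = ⊤ := by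
    rw [eq_top_iff, ← hH.sup_eq_top, sup_comm]
    exact sup_le_sup_left hP'le H
  have hHtop : H = ⊤ := frattini_nongenerating hsup
  rw [hHtop, isComplement'_top_right] at hH
  have hPbot : (P : Subgroup (frattini G)) = ⊥ := by
    rw [hP', Subgroup.map_eq_bot_iff_of_injective _ (Subgroup.subtype_injective _)] at hH
    exact hH
  have hdvdΦ : p ∣ Nat.card (frattini G) := by
    have h1 := (frattini G).index_mul_card
    rw [← h1] at hdvd
    rcases (Nat.Prime.dvd_mul hp).mp hdvd with h | h
    · exact absurd h hnd
    · exact h
  exact P.ne_bot_of_dvd_card hdvdΦ hPbot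

end Cfsg.Agent.S0049
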