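import Cfsg.Statements.S0050
import Cfsg.Agent.Lib.Hall

set_option autoImplicit false
open Pointwise
open Cfsg

namespace Cfsg.Agent.S0050

/-- Frattini argument for Hall subgroups: if L is a solvable normal subgroup and H a subgroup of L of order coprime to its index in L, then L together with the normaliser of H generates the whole group. -/
theorem result {G : Type*} [Group G] [Finite G] (L : Subgroup G) [L.Normal] (hL : Group.IsSolvable L)
    (H : Subgroup G) (hHL : H ≤ L) (hHall : (Nat.card H).Coprime (H.relIndex L)) :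
    L ⊔ Subgroup.normalizer (H : Set G) = ⊤ := by
  rw [eq_top_iff]
  intro g _
  haveI := hL
  -- the conjugate `g • H` lies in `L`
  have hgHL : MulAut.conj g • H ≤ L := by
    intro x hx
    rw [Subgroup.mem_pointwise_smul_iff_inv_smul_mem] at hx
    have h1 : (MulAut.conj g)⁻¹ • x ∈ L := hHL hx
    have h2 := Subgroup.Normal.conj_mem (inferInstance : L.Normal) _ h1 g
    have e : g * ((MulAut.conj g)⁻¹ • x) * g⁻¹ = x := by
      simp only [MulAut.smul_def, map_inv, MulAut.inv_apply, MulAut.conj_symm_apply]
      group
    rw [← e]; exact h2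
  have hc1 : Nat.card (H.subgroupOf L) = Nat.card H :=
    Nat.card_congr (Subgroup.subgroupOfEquivOfLe hHL).toEquiv
  have hc2 : Nat.card ((MulAut.conj g • H).subgroupOf L) = Nat.card H := by
    rw [← Cfsg.Agent.Lib.card_conj_smul g H]
    exact Nat.card_congr (Subgroup.subgroupOfEquivOfLe hgHL).toEquiv
  have hcard : Nat.card L = Nat.card H * H.relIndex L := by
    rw [← hc1]; exact (Subgroup.card_mul_index (H.subgroupOf L)).symm
  obtain ⟨l, hl⟩ := Cfsg.Agent.Lib.hall_conj (G := L) (Nat.card H) (H.relIndex L) hcard hHall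
    (H.subgroupOf L) ((MulAut.conj g • H).subgroupOf L) hc1 hc2
  -- `l⁻¹ g` normalizes `H`
  have hconj : MulAut.conj (l : G) • H = MulAut.conj g • H := by
    ext x
    constructor
    · intro hx
      rw [Subgroup.mem_pointwise_smul_iff_inv_smul_mem] at hx
      have hxL : x ∈ L := by
        have h1 : (MulAut.conj (l : G))⁻¹ • x ∈ L := hHL hx
        have h2 := L.mul_mem (L.mul_mem l.2 h1) (L.inv_mem l.2)
        simpa [MulAut.smul_def, mul_assoc] using h2
      have : (⟨x, hxL⟩ : L) ∈ MulAut.conj l • H.subgroupOf L := by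
        rw [Subgroup.mem_pointwise_smul_iff_inv_smul_mem, Subgroup.mem_subgroupOf]
        simpa [MulAut.smul_def] using hx
      rw [hl, Subgroup.mem_subgroupOf] at this
      exact this
    · intro hx
      have hxL : x ∈ L := hgHL hx
      have : (⟨x, hxL⟩ : L) ∈ (MulAut.conj g • H).subgroupOf L := by
        rw [Subgroup.mem_subgroupOf]; exact hx
      rw [← hl, Subgroup.mem_pointwise_smul_iff_inv_smul_mem, Subgroup.mem_subgroupOf] at this
      rw [Subgroup.mem_pointwise_smul_iff_inv_smul_mem]
      simpa [MulAut.smul_def] using this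
  have hnorm : (l : G)⁻¹ * g ∈ Subgroup.normalizer (H : Set G) := by
    have h1 : MulAut.conj ((l : G)⁻¹ * g) • H = H := by
      rw [map_mul, mul_smul, ← hconj, ← mul_smul, ← map_mul, inv_mul_cancel, map_one, one_smul]
    rw [Subgroup.mem_normalizer_iff]
    intro h
    constructor
    · intro hh
      have := Subgroup.smul_mem_pointwise_smul h (MulAut.conj ((l : G)⁻¹ * g)) H hh
      rw [h1] at this
      simp only [MulAut.smul_def, MulAut.conj_apply] at this
      convert this using 1
    · intro hh
      rw [← h1, Subgroup.mem_pointwise_smul_iff_inv_smul_mem] at hh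
      simpa [MulAut.smul_def, mul_assoc] using hh
  have : g = (l : G) * ((l : G)⁻¹ * g) := by group
  rw [this]
  exact Subgroup.mul_mem _ (Subgroup.mem_sup_left l.2) (Subgroup.mem_sup_right hnorm)

end Cfsg.Agent.S0050
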