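import Mathlib
import Cfsg.Statements.S0052
import Cfsg.Agent.Helper1.Gaschutz
import Cfsg.Agent.Helper1.Compl

set_option autoImplicit false
open Pointwise
open Cfsg

namespace Cfsg.Agent.S0052

open Cfsg.Agent.Helper1

/-- Gaschütz's Theorem, conjugacy: for an abelian normal subgroup K ≤ U with the order of K coprime to the index of U, two complements of K in G having the same intersection with U are conjugate. -/
theorem result {G : Type*} [Group G] [Finite G] (K U : Subgroup G) [K.Normal] [IsMulCommutative K]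
    (hKU : K ≤ U) (hcop : (Nat.card K).Coprime U.index)
    (H₀ H₁ : Subgroup G) (h₀ : Subgroup.IsComplement' K H₀) (h₁ : Subgroup.IsComplement' K H₁) (hU : H₀ ⊓ U = H₁ ⊓ U) :
    ∃ g : G, MulAut.conj g • H₀ = H₁ := by
  classical
  have hKn : K.Normal := inferInstance
  have hKcomm : ∀ a ∈ K, ∀ b ∈ K, a * b = b * a := by
    intro a ha b hb
    have := mul_comm' (⟨a, ha⟩ : K) ⟨b, hb⟩
    exact congrArg Subtype.val this
  -- the `K`-part with respect to `H₁`
  have hex : ∀ g : G, ∃ k : G, k ∈ K ∧ k⁻¹ * g ∈ H₁ := by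
    intro g
    obtain ⟨⟨k, h⟩, hkh⟩ := h₁.2 g
    refine ⟨k, k.2, ?_⟩
    simp only at hkh
    rw [← hkh, inv_mul_cancel_left]
    exact h.2
  choose κ hκK hκH using hex
  have hdisj : ∀ x : G, x ∈ K → x ∈ H₁ → x = 1 := by
    intro x hxK hxH
    have := h₁.disjoint
    rw [Subgroup.disjoint_def] at this
    exact this hxK hxH
  have huniq : ∀ g k : G, k ∈ K → k⁻¹ * g ∈ H₁ → κ g = k := by
    intro g k hk hkg
    have h1 : (κ g)⁻¹ * k ∈ K := K.mul_mem (K.inv_mem (hκK g)) hk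
    have h2 : (κ g)⁻¹ * k ∈ H₁ := by
      have : (κ g)⁻¹ * k = ((κ g)⁻¹ * g) * (k⁻¹ * g)⁻¹ := by group
      rw [this]
      exact H₁.mul_mem (hκH g) (H₁.inv_mem hkg)
    have := hdisj _ h1 h2
    exact (inv_mul_eq_one.mp this)
  -- `κ` is a crossed homomorphism
  have hcross : ∀ g g' : G, κ (g * g') = κ g * (g * κ g' * g⁻¹) := by
    intro g g'
    apply huniq
    · exact K.mul_mem (hκK g) (hKn.conj_mem _ (hκK g') g)
    · have hc := hKcomm _ (K.inv_mem (hKn.conj_mem _ (hκK g') g)) _ (K.inv_mem (hκK g))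
      have : (κ g * (g * κ g' * g⁻¹))⁻¹ * (g * g')
          = ((g * κ g' * g⁻¹)⁻¹ * (κ g)⁻¹) * (g * g') := by group
      rw [this, hc]
      have : (κ g)⁻¹ * (g * κ g' * g⁻¹)⁻¹ * (g * g') = ((κ g)⁻¹ * g) * ((κ g')⁻¹ * g') := by group
      rw [this]
      exact H₁.mul_mem (hκH g) (hκH g')
  have hκ1 : ∀ a ∈ H₁, κ a = 1 := by
    intro a ha
    apply huniq
    · exact K.one_mem
    · simpa using ha
  -- the index of `H₀ ⊓ U` in `H₀` is the index of `U`
  have hmod : K ⊔ (H₀ ⊓ U) = U := by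
    apply le_antisymm
    · exact sup_le hKU inf_le_right
    · intro u hu
      obtain ⟨⟨k, h⟩, hkh⟩ := h₀.2 u
      simp only at hkh
      have hhU : (h : G) ∈ U := by
        have : (h : G) = (k : G)⁻¹ * u := by rw [← hkh]; group
        rw [this]
        exact U.mul_mem (U.inv_mem (hKU k.2)) hu
      rw [← hkh]
      exact Subgroup.mul_mem_sup k.2 (Subgroup.mem_inf.mpr ⟨h.2, hhU⟩)
  have hbot0 : K ⊓ H₀ = ⊥ := h₀.disjoint.eq_bot
  have hidx : (H₀ ⊓ U).relIndex H₀ = U.index := by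
    have e1 : K.index = Nat.card H₀ := by
      have := Subgroup.relIndex_sup_left (K := K) (H := H₀)
      rw [h₀.sup_eq_top, Subgroup.relIndex_top_right, ← Subgroup.inf_relIndex_right, hbot0,
        Subgroup.relIndex_bot_left] at this
      exact this
    have e2 : K.relIndex U = Nat.card ↥(H₀ ⊓ U) := by
      have := Subgroup.relIndex_sup_left (K := K) (H := H₀ ⊓ U)
      rw [hmod, ← Subgroup.inf_relIndex_right (H := K) (K := H₀ ⊓ U)] at this
      have hb : K ⊓ (H₀ ⊓ U) = ⊥ := by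
        rw [← inf_assoc, hbot0, bot_inf_eq]
      rw [hb, Subgroup.relIndex_bot_left] at this
      exact this
    have e3 := Subgroup.relIndex_mul_index hKU
    rw [e1, e2] at e3
    have e4 := Subgroup.relIndex_mul_relIndex (H := ⊥) (K := H₀ ⊓ U) (L := H₀) bot_le inf_le_left
    rw [Subgroup.relIndex_bot_left, Subgroup.relIndex_bot_left, ← e3] at e4
    have hpos : 0 < Nat.card ↥(H₀ ⊓ U) := Nat.card_pos
    exact Nat.eq_of_mul_eq_mul_left hpos e4
  have hcop' : (Nat.card K).Coprime (Nat.card (H₀ ⧸ (H₀ ⊓ U).subgroupOf H₀)) := by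
    rw [← Subgroup.index_eq_card]
    change (Nat.card K).Coprime ((H₀ ⊓ U).relIndex H₀)
    rw [hidx]; exact hcop
  obtain ⟨k, hkK, hk⟩ := crossed_hom_coboundary K H₀ (H₀ ⊓ U) hcop' κ (fun h _ => hκK h)
    (fun h _ h' _ => hcross h h')
    (fun a _ ha => hκ1 a (by
      rw [hU] at ha
      exact (Subgroup.mem_inf.mp ha).1))
  refine ⟨k, ?_⟩
  have hle : MulAut.conj k • H₀ ≤ H₁ := by
    intro x hx
    rw [mem_conj_smul] at hx
    set h := k⁻¹ * x * k with hh
    have hx' : x = k * h * k⁻¹ := by rw [hh]; group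
    have h1 := hκH h
    rw [hk h hx] at h1
    -- `(k⁻¹ * (h * k * h⁻¹))⁻¹ * h = k * h * k⁻¹`
    have hc := hKcomm _ (K.inv_mem (hKn.conj_mem _ hkK h)) _ hkK
    have : (k⁻¹ * (h * k * h⁻¹))⁻¹ * h = ((h * k * h⁻¹)⁻¹ * k) * h := by group
    rw [this, hc] at h1
    have : k * (h * k * h⁻¹)⁻¹ * h = k * h * k⁻¹ := by group
    rw [this] at h1
    rw [hx']; exact h1
  apply Subgroup.eq_of_le_of_card_ge hle
  rw [card_conj_smul]
  have c0 := h₀.card_mul
  have c1 := h₁.card_mul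
  rw [← c0] at c1
  have hpos : 0 < Nat.card K := Nat.card_pos
  exact (Nat.eq_of_mul_eq_mul_left hpos c1).le

end Cfsg.Agent.S0052
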