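import Cfsg.Statements.S0053
import Mathlib.GroupTheory.Complement

set_option autoImplicit false
open Cfsg

namespace Cfsg.Agent.S0053

open Subgroup Pointwise

theorem isComplement'_of_normal {G : Type*} [Group G] (N H : Subgroup G) [N.Normal]
    (h1 : Disjoint N H) (h2 : N ⊔ H = ⊤) : IsComplement' N H := by
  apply isComplement'_of_disjoint_and_mul_eq_univ h1
  rw [← Subgroup.normal_mul, h2, Subgroup.coe_top]

/-- An abelian minimal normal subgroup N of a finite group is complemented exactly when N is not inside the Frattini subgroup. -/
theorem result {G : Type*} [Group G] [Finite G]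
    (N : Subgroup G) [N.Normal] [IsMulCommutative N] (hN : N ≠ ⊥)
    (hmin : ∀ M : Subgroup G, M.Normal → M ≤ N → M = ⊥ ∨ M = N) :
    (∃ H : Subgroup G, Subgroup.IsComplement' N H) ↔ ¬ N ≤ frattini G := by
  constructor
  · rintro ⟨H, hH⟩ hle
    have hsup : H ⊔ frattini G = ⊤ := by
      rw [eq_top_iff, ← hH.sup_eq_top, sup_comm]
      exact sup_le_sup_left hle H
    have hHtop : H = ⊤ := frattini_nongenerating hsup
    rw [hHtop, isComplement'_top_right] at hH
    exact hN hH
  · intro hle
    -- there is a maximal subgroup not containing `N`
    have : ∃ M : Subgroup G, IsCoatom M ∧ ¬ N ≤ M := by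
      by_contra hcon
      push Not at hcon
      apply hle
      rw [frattini, Order.radical, le_iInf₂_iff]
      exact hcon
    obtain ⟨M, hM, hNM⟩ := this
    have hsup : N ⊔ M = ⊤ := by
      apply hM.2
      exact lt_of_le_of_ne le_sup_right (fun h => hNM (h ▸ le_sup_left))
    -- `N ⊓ M` is normal in `G`
    have hnorm : (N ⊓ M).Normal := by
      rw [← normalizer_eq_top_iff, eq_top_iff, ← hsup, sup_le_iff]
      constructor
      · -- `N` is abelian so it normalizes `N ⊓ M`
        intro n hn
        rw [Subgroup.mem_normalizer_iff]
        intro x
        have key : ∀ y ∈ N, n * y * n⁻¹ = y := by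
          intro y hy
          have := mul_comm' (⟨n, hn⟩ : N) ⟨y, hy⟩
          have h' : n * y = y * n := congrArg Subtype.val this
          rw [h']; simp
        constructor
        · intro hx
          rw [key x hx.1]; exact hx
        · intro hx
          have hxN : x ∈ N := by
            have := (inferInstance : N.Normal).conj_mem _ hx.1 n⁻¹
            simpa [mul_assoc] using this
          rwa [key x hxN] at hx
      · intro m hm
        rw [Subgroup.mem_normalizer_iff]
        intro x
        constructor
        · intro hx
          exact ⟨(inferInstance : N.Normal).conj_mem _ hx.1 m, M.mul_mem (M.mul_mem hm hx.2) (M.inv_mem hm)⟩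
        · intro hx
          constructor
          · have := (inferInstance : N.Normal).conj_mem _ hx.1 m⁻¹
            simpa [mul_assoc] using this
          · have := M.mul_mem (M.mul_mem (M.inv_mem hm) hx.2) hm
            simpa [mul_assoc] using this
    rcases hmin (N ⊓ M) hnorm inf_le_left with h | h
    · exact ⟨M, isComplement'_of_normal N M (disjoint_iff.mpr h) hsup⟩
    · exact absurd (inf_eq_left.mp h) hNM

end Cfsg.Agent.S0053
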