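import Mathlib
import Cfsg.Statements.S0054

set_option autoImplicit false
open Cfsg

namespace Cfsg.Agent.S0054

/-- A regular normal subgroup of a finite 2-transitive group is elementary abelian: it is commutative and all its elements have order dividing one prime. -/
theorem result {G : Type*} [Group G] [Finite G]
    {X : Type*} [Nonempty X] [MulAction G X] (h2 : MulAction.IsMultiplyPretransitive G X 2)
    (N : Subgroup G) [N.Normal] (htrans : MulAction.IsPretransitive N X) (hreg : ∀ x : X, MulAction.stabilizer N x = ⊥) :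
    IsMulCommutative N ∧ ∃ p : ℕ, p.Prime ∧ ∀ n ∈ N, n ^ p = 1 := by
  obtain ⟨x₀⟩ := ‹Nonempty X›
  have hN : N.Normal := inferInstance
  rw [MulAction.is_two_pretransitive_iff] at h2
  -- an element of `N` fixing `x₀` is trivial
  have hfix : ∀ n : G, n ∈ N → n • x₀ = x₀ → n = 1 := by
    intro n hn h
    have h1 : (⟨n, hn⟩ : N) ∈ MulAction.stabilizer N x₀ := by
      rw [MulAction.mem_stabilizer_iff]
      exact h
    rw [hreg x₀, Subgroup.mem_bot] at h1
    exact congrArg Subtype.val h1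
  -- all nonidentity elements of `N` are conjugate in `G`
  have hconj : ∀ n m : G, n ∈ N → m ∈ N → n ≠ 1 → m ≠ 1 → ∃ g : G, g * n * g⁻¹ = m := by
    intro n m hn hm hn1 hm1
    have h1 : x₀ ≠ n • x₀ := fun h => hn1 (hfix n hn h.symm)
    have h1' : x₀ ≠ m • x₀ := fun h => hm1 (hfix m hm h.symm)
    obtain ⟨g, hg1, hg2⟩ := h2 h1 h1'
    refine ⟨g, ?_⟩
    have hk : m⁻¹ * (g * n * g⁻¹) ∈ N := N.mul_mem (N.inv_mem hm) (hN.conj_mem n hn g)
    have hg1' : g⁻¹ • x₀ = x₀ := by rw [inv_smul_eq_iff, hg1]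
    have hkx : (m⁻¹ * (g * n * g⁻¹)) • x₀ = x₀ := by
      rw [mul_smul, mul_smul, mul_smul, hg1', hg2, inv_smul_smul]
    have := hfix _ hk hkx
    have h3 : g * n * g⁻¹ = m * (m⁻¹ * (g * n * g⁻¹)) := by group
    rw [h3, this, mul_one]
  by_cases hbot : N = ⊥
  · refine ⟨⟨⟨fun a b => ?_⟩⟩, 2, Nat.prime_two, fun n hn => ?_⟩
    · have ha : (a : G) = 1 := (Subgroup.eq_bot_iff_forall N).mp hbot (a : G) a.2
      have hb : (b : G) = 1 := (Subgroup.eq_bot_iff_forall N).mp hbot (b : G) b.2
      apply Subtype.ext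
      rw [Subgroup.coe_mul, Subgroup.coe_mul, ha, hb]
    · rw [hbot, Subgroup.mem_bot] at hn
      rw [hn, one_pow]
  · have hcard : Nat.card N ≠ 1 := by
      intro h
      exact hbot (Subgroup.eq_bot_of_card_eq N h)
    obtain ⟨p, hp, hpd⟩ := Nat.exists_prime_and_dvd hcard
    haveI : Fact p.Prime := ⟨hp⟩
    obtain ⟨z₀, hz₀⟩ := exists_prime_orderOf_dvd_card' (G := N) p hpd
    have hz₀1 : (z₀ : G) ≠ 1 := by
      intro h
      have : z₀ = 1 := Subtype.ext h
      rw [this, orderOf_one] at hz₀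
      exact hp.one_lt.ne hz₀
    have hz₀p : (z₀ : G) ^ p = 1 := by
      have : z₀ ^ p = 1 := by rw [← hz₀, pow_orderOf_eq_one]
      have := congrArg Subtype.val this
      simpa using this
    have hexp : ∀ n ∈ N, n ^ p = 1 := by
      intro n hn
      by_cases hn1 : n = 1
      · rw [hn1, one_pow]
      · obtain ⟨g, rfl⟩ := hconj z₀ n z₀.2 hn hz₀1 hn1
        rw [conj_pow, hz₀p]; group
    have hPG : IsPGroup p N := by
      intro n
      refine ⟨1, ?_⟩
      apply Subtype.ext
      rw [pow_one, Subgroup.coe_pow, Subgroup.coe_one]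
      exact hexp n n.2
    haveI : Nontrivial N := (Subgroup.nontrivial_iff_ne_bot N).mpr hbot
    haveI := hPG.center_nontrivial
    obtain ⟨⟨z, hzc⟩, hz⟩ := exists_ne (1 : Subgroup.center N)
    have hz1 : (z : G) ≠ 1 := by
      intro h
      apply hz
      apply Subtype.ext
      apply Subtype.ext
      exact h
    have hzcomm : ∀ b : G, b ∈ N → (z : G) * b = b * z := by
      intro b hb
      have := (Subgroup.mem_center_iff.mp hzc) ⟨b, hb⟩
      have := congrArg Subtype.val this
      simpa using this.symm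
    refine ⟨⟨⟨fun a b => ?_⟩⟩, p, hp, hexp⟩
    apply Subtype.ext
    rw [Subgroup.coe_mul, Subgroup.coe_mul]
    by_cases ha1 : (a : G) = 1
    · rw [ha1, one_mul, mul_one]
    · obtain ⟨g, hg⟩ := hconj z a z.2 a.2 hz1 ha1
      have hb' : g⁻¹ * b * g ∈ N := by
        have := hN.conj_mem b b.2 g⁻¹
        rwa [inv_inv] at this
      have h3 := hzcomm _ hb'
      rw [← hg]
      calc g * z * g⁻¹ * b = g * (z * (g⁻¹ * b * g)) * g⁻¹ := by group
        _ = g * ((g⁻¹ * b * g) * z) * g⁻¹ := by rw [h3]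
        _ = b * (g * z * g⁻¹) := by group

end Cfsg.Agent.S0054
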