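import Mathlib
import Cfsg.Statements.S0057
import Cfsg.Agent.S0023
import Cfsg.Agent.S0026
import Cfsg.Agent.S0027
import Cfsg.Agent.S0055

set_option autoImplicit false
open Cfsg
open scoped commutatorElement

namespace Cfsg.Agent.S0057

/-- a Sylow `p`-subgroup is transitive on the cosets of a subgroup of index `p` -/
theorem exists_mul_of_index_eq_prime {K : Type*} [Group K] [Finite K] {p : ℕ} [Fact p.Prime]
    (C : Subgroup K) (hC : C.index = p) (P : Sylow p K) (k : K) :
    ∃ x ∈ P, ∃ c ∈ C, k = x * c := by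
  have hp : p.Prime := Fact.out
  set q₀ : K ⧸ C := ((1 : K) : K ⧸ C) with hq₀
  -- `P` is not contained in `C`
  have hPC : ∃ x ∈ P, x ∉ C := by
    by_contra h
    push Not at h
    have hle : (P : Subgroup K) ≤ C := h
    have h1 := Subgroup.index_dvd_of_le hle
    rw [hC] at h1
    exact P.not_dvd_index h1
  obtain ⟨x₀, hx₀P, hx₀C⟩ := hPC
  obtain ⟨n, hn⟩ := P.isPGroup'.card_orbit q₀
  have hn0 : n ≠ 0 := by
    intro h0
    rw [h0, pow_zero] at hn
    -- the orbit is a singleton, so `x₀` fixes `q₀`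
    have hsub : Subsingleton (MulAction.orbit P q₀) :=
      (Nat.card_eq_one_iff_unique.mp hn).1
    have h1 : (⟨(⟨x₀, hx₀P⟩ : P) • q₀, MulAction.mem_orbit _ _⟩ : MulAction.orbit P q₀)
        = ⟨q₀, MulAction.mem_orbit_self _⟩ := Subsingleton.elim _ _
    have h2 : (⟨x₀, hx₀P⟩ : P) • q₀ = q₀ := congrArg Subtype.val h1
    apply hx₀C
    rw [hq₀] at h2
    change ((x₀ • ((1 : K) : K ⧸ C)) : K ⧸ C) = _ at h2
    rw [MulAction.Quotient.smul_mk, QuotientGroup.eq] at h2
    simpa using C.inv_mem h2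
  have hcard : Nat.card (MulAction.orbit P q₀) = Nat.card (K ⧸ C) := by
    apply le_antisymm (Nat.card_le_card_of_injective _ Subtype.val_injective)
    rw [← Subgroup.index_eq_card, hC, hn]
    calc p = p ^ 1 := (pow_one p).symm
      _ ≤ p ^ n := Nat.pow_le_pow_right hp.pos (Nat.one_le_iff_ne_zero.mpr hn0)
  have huniv : MulAction.orbit P q₀ = Set.univ := by
    apply Set.eq_of_subset_of_ncard_le (Set.subset_univ _) _ (Set.toFinite _)
    rw [Set.ncard_univ, ← Nat.card_coe_set_eq, hcard]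
  have hk : ((k : K) : K ⧸ C) ∈ MulAction.orbit P q₀ := by rw [huniv]; exact Set.mem_univ _
  obtain ⟨x, hx⟩ := hk
  refine ⟨x, x.2, (x : K)⁻¹ * k, ?_, by group⟩
  rw [hq₀] at hx
  change (((x : K) • ((1 : K) : K ⧸ C)) : K ⧸ C) = _ at hx
  rw [MulAction.Quotient.smul_mk, QuotientGroup.eq] at hx
  simpa using hx

/-- Under coprime action, if the centraliser of A in K has prime index p in K then the commutator subgroup [K, A] has order exactly p. -/
theorem result {G : Type*} [Group G] [Finite G] (A K : Subgroup G) (hAK : A ≤ Subgroup.normalizer (K : Set G))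
    (hcop : (Nat.card A).Coprime (Nat.card K)) (hsolv : Group.IsSolvable A ∨ Group.IsSolvable K)
    (p : ℕ) (hp : p.Prime) (hidx : (K ⊓ Subgroup.centralizer (A : Set G)).relIndex K = p) :
    Nat.card (⁅K, A⁆ : Subgroup G) = p := by
  classical
  haveI : Fact p.Prime := ⟨hp⟩
  set C := K ⊓ Subgroup.centralizer (A : Set G) with hC
  set R := ⁅K, A⁆ with hR
  have hRK : R ≤ K := Subgroup.le_normalizer_iff_commutator_le_left.mp hAK
  -- an `A`-invariant Sylow `p`-subgroup
  obtain ⟨P, hPA⟩ := Cfsg.Agent.S0023.result A K hAK hcop hsolv p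
  set P' := (P : Subgroup K).map K.subtype with hP'
  have hP'p : IsPGroup p P' := P.isPGroup'.map _
  -- `K = P' * C`
  have hprod : ∀ k ∈ K, ∃ x ∈ P', ∃ c ∈ C, k = x * c := by
    intro k hk
    obtain ⟨x, hx, c, hc, hkxc⟩ := exists_mul_of_index_eq_prime (C.subgroupOf K) hidx P ⟨k, hk⟩
    refine ⟨x, ⟨x, hx, rfl⟩, c, Subgroup.mem_subgroupOf.mp hc, ?_⟩
    have := congrArg Subtype.val hkxc
    simpa using this
  -- `R ≤ P'`
  have hRP : R ≤ P' := by
    rw [hR, Subgroup.commutator_le]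
    intro k hk a ha
    obtain ⟨x, hx, c, hc, rfl⟩ := hprod k hk
    have hca : c * a = a * c := by
      have := (Subgroup.mem_centralizer_iff.mp (Subgroup.mem_inf.mp hc).2) a ha
      exact this.symm
    have h1 : ⁅x * c, a⁆ = x * (a * x⁻¹ * a⁻¹) := by
      rw [commutatorElement_def]
      calc x * c * a * (x * c)⁻¹ * a⁻¹ = x * (c * a) * c⁻¹ * x⁻¹ * a⁻¹ := by simp [mul_assoc]
        _ = x * (a * c) * c⁻¹ * x⁻¹ * a⁻¹ := by rw [hca]
        _ = x * (a * x⁻¹ * a⁻¹) := by simp [mul_assoc]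
    rw [h1]
    have h2 := (Subgroup.mem_normalizer_iff.mp (hPA ha) x⁻¹).mp (P'.inv_mem hx)
    exact P'.mul_mem hx h2
  have hRp : IsPGroup p R := hP'p.to_le hRP
  have hRA : ⁅R, A⁆ = R := Cfsg.Agent.S0027.result A K hAK hcop hsolv
  have hRne : R ≠ ⊥ := by
    intro h
    have h26 := Cfsg.Agent.S0026.result A K hAK hcop hsolv
    rw [← hR, h, bot_sup_eq] at h26
    rw [← hC] at h26
    rw [h26, Subgroup.relIndex_self] at hidx
    exact hp.one_lt.ne hidx
  set R₀ := R ⊓ Subgroup.centralizer (A : Set G) with hR₀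
  have hR₀R : R₀ ≤ R := inf_le_left
  have hR₀C : R₀ = C ⊓ R := by
    rw [hR₀, hC, inf_comm K, inf_assoc, inf_of_le_right hRK, inf_comm]
  have hrel_le : R₀.relIndex R ≤ p := by
    rw [hR₀C, Subgroup.inf_relIndex_right, ← hidx]
    exact Subgroup.relIndex_le_of_le_right hRK (by rw [hidx]; exact hp.ne_zero)
  obtain ⟨n, hn⟩ := hRp.exists_card_eq
  have hn0 : n ≠ 0 := by
    intro h0
    rw [h0, pow_zero] at hn
    exact hRne (Subgroup.eq_bot_of_card_eq R hn)
  have hpR : p ∣ Nat.card R := by rw [hn]; exact dvd_pow_self p hn0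
  have hcopR : (Nat.card A).Coprime (Nat.card R) :=
    Nat.Coprime.coprime_dvd_right (Subgroup.card_dvd_of_le hRK) hcop
  have hAR : A ≤ Subgroup.normalizer (R : Set G) := Subgroup.normalizer_commutator_ge_right K A
  -- the index of `R₀` in `R` is `1` or `p`
  have hrel_dvd : R₀.relIndex R ∣ p ^ n := by rw [← hn]; exact Subgroup.relIndex_dvd_card _ _
  obtain ⟨j, -, hj⟩ := (Nat.dvd_prime_pow hp).mp hrel_dvd
  have hj1 : j ≤ 1 := by
    by_contra hj2
    push Not at hj2
    have : p ^ 2 ≤ p ^ j := Nat.pow_le_pow_right hp.pos hj2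
    rw [← hj] at this
    have h3 : p ^ 2 ≤ p := this.trans hrel_le
    have := hp.two_le
    nlinarith
  have hrel : R₀.relIndex R = p := by
    rcases Nat.le_one_iff_eq_zero_or_eq_one.mp hj1 with h0 | h1
    · exfalso
      rw [h0, pow_zero, Subgroup.relIndex_eq_one] at hj
      have h4 : R ≤ Subgroup.centralizer (A : Set G) := hj.trans inf_le_right
      have h5 : ⁅R, A⁆ = ⊥ := Subgroup.commutator_eq_bot_iff_le_centralizer.mpr h4
      rw [hRA] at h5
      exact hRne h5
    · rw [hj, h1, pow_one]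
  -- `R₀` is normal in `R`
  have hR₀n : (R₀.subgroupOf R).Normal := by
    apply Subgroup.normal_of_index_eq_minFac_card
    change R₀.relIndex R = _
    rw [hrel, hn, Nat.Prime.pow_minFac hp hn0]
  have hRnorm : R ≤ Subgroup.normalizer (R₀ : Set G) :=
    (Subgroup.normal_subgroupOf_iff_le_normalizer hR₀R).mp hR₀n
  -- three subgroups lemma: `[R, R₀] = 1`
  have hR₀A : ⁅R₀, A⁆ = ⊥ := Subgroup.commutator_eq_bot_iff_le_centralizer.mpr inf_le_right
  have h3 : ⁅⁅R, A⁆, R₀⁆ = ⊥ := by
    apply Subgroup.commutator_commutator_eq_bot_of_rotate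
    · rw [Subgroup.commutator_comm A R₀, hR₀A, Subgroup.commutator_bot_left]
    · rw [eq_bot_iff, ← hR₀A]
      apply Subgroup.commutator_mono _ le_rfl
      exact Subgroup.le_normalizer_iff_commutator_le_left.mp hRnorm
  rw [hRA] at h3
  have hcent : R ≤ Subgroup.centralizer (R₀ : Set G) :=
    Subgroup.commutator_eq_bot_iff_le_centralizer.mp h3
  -- `R` is abelian
  haveI : IsCyclic (R ⧸ R₀.subgroupOf R) := by
    apply isCyclic_of_prime_card (p := p)
    rw [← Subgroup.index_eq_card]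
    exact hrel
  have hcomm : ∀ a b : R, a * b = b * a := by
    apply commutative_of_cyclic_center_quotient (QuotientGroup.mk' (R₀.subgroupOf R))
    rw [QuotientGroup.ker_mk']
    intro r hr
    rw [Subgroup.mem_center_iff]
    intro g
    apply Subtype.ext
    rw [Subgroup.coe_mul, Subgroup.coe_mul]
    exact ((Subgroup.mem_centralizer_iff.mp (hcent g.2)) r (Subgroup.mem_subgroupOf.mp hr)).symm
  haveI : IsMulCommutative R := ⟨⟨hcomm⟩⟩
  have h55 := (Cfsg.Agent.S0055.result A R hAR hcopR).1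
  rw [hRA, ← hR₀, inf_of_le_left hR₀R] at h55
  -- conclusion
  rw [h55, Subgroup.relIndex_bot_left] at hrel_le
  exact Nat.le_antisymm hrel_le (Nat.le_of_dvd Nat.card_pos hpR)

end Cfsg.Agent.S0057
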