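import Cfsg.Statements.S0060
import Cfsg.Agent.Lib.Cores

set_option autoImplicit false
open Pointwise
open Cfsg

namespace Cfsg.Agent.S0060

open Cfsg.Agent.Lib

variable {G : Type*} [Group G] [Finite G] {p : ℕ} [Fact p.Prime]

theorem mem_smul_sylow {g x : G} {P : Sylow p G} :
    x ∈ ((g • P : Sylow p G) : Subgroup G) ↔ g⁻¹ * x * g ∈ (P : Subgroup G) := by
  rw [Sylow.coe_subgroup_smul, Subgroup.mem_pointwise_smul_iff_inv_smul_mem]
  simp [MulAut.smul_def]

/-- All Sylow `p`-subgroups are commutative if one is. -/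
theorem sylow_comm (S : Sylow p G) (hS : IsMulCommutative S) (P : Sylow p G) :
    ∀ a ∈ (P : Subgroup G), ∀ b ∈ (P : Subgroup G), a * b = b * a := by
  obtain ⟨g, rfl⟩ := MulAction.exists_smul_eq G S P
  intro a ha b hb
  rw [mem_smul_sylow] at ha hb
  have h := mul_comm' (⟨_, ha⟩ : S) ⟨_, hb⟩
  have h2 : (g⁻¹ * a * g) * (g⁻¹ * b * g) = (g⁻¹ * b * g) * (g⁻¹ * a * g) :=
    congrArg (fun z : S => (z : G)) h
  have h3 : g⁻¹ * (a * b) * g = g⁻¹ * (b * a) * g := by
    calc g⁻¹ * (a * b) * g = (g⁻¹ * a * g) * (g⁻¹ * b * g) := by group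
      _ = (g⁻¹ * b * g) * (g⁻¹ * a * g) := h2
      _ = g⁻¹ * (b * a) * g := by group
  exact mul_left_cancel (mul_right_cancel h3)

/-- Key step of Brodkey's theorem: a pairwise intersection of abelian Sylow subgroups of smallest
order lies in every Sylow subgroup. -/
theorem inf_le_of_minimal (hcomm : ∀ P : Sylow p G, ∀ a ∈ (P : Subgroup G), ∀ b ∈ (P : Subgroup G), a * b = b * a)
    (P Q : Sylow p G)
    (hmin : ∀ P' Q' : Sylow p G, Nat.card ((P : Subgroup G) ⊓ Q : Subgroup G) ≤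
      Nat.card ((P' : Subgroup G) ⊓ Q' : Subgroup G))
    (R : Sylow p G) : (P : Subgroup G) ⊓ Q ≤ R := by
  set D : Subgroup G := (P : Subgroup G) ⊓ Q with hD
  set N : Subgroup G := Subgroup.normalizer (D : Set G) with hN
  -- `P, Q ≤ N`
  have hPN : (P : Subgroup G) ≤ N := by
    intro s hs
    rw [hN, Subgroup.mem_normalizer_iff]
    intro d
    constructor
    · intro hd
      have : s * d * s⁻¹ = d := by
        rw [hcomm P s hs d hd.1, mul_inv_cancel_right]
      rw [this]; exact hd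
    · intro hd
      have hd' : s * d * s⁻¹ ∈ (P : Subgroup G) := hd.1
      have hdP : d ∈ (P : Subgroup G) := by
        have := (P : Subgroup G).mul_mem ((P : Subgroup G).mul_mem ((P : Subgroup G).inv_mem hs) hd') hs
        simpa [mul_assoc] using this
      have : s * d * s⁻¹ = d := by
        rw [hcomm P s hs d hdP, mul_inv_cancel_right]
      rw [← this]; exact hd
  have hQN : (Q : Subgroup G) ≤ N := by
    intro s hs
    rw [hN, Subgroup.mem_normalizer_iff]
    intro d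
    constructor
    · intro hd
      have : s * d * s⁻¹ = d := by
        rw [hcomm Q s hs d hd.2, mul_inv_cancel_right]
      rw [this]; exact hd
    · intro hd
      have hd' : s * d * s⁻¹ ∈ (Q : Subgroup G) := hd.2
      have hdQ : d ∈ (Q : Subgroup G) := by
        have := (Q : Subgroup G).mul_mem ((Q : Subgroup G).mul_mem ((Q : Subgroup G).inv_mem hs) hd') hs
        simpa [mul_assoc] using this
      have : s * d * s⁻¹ = d := by
        rw [hcomm Q s hs d hdQ, mul_inv_cancel_right]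
      rw [← this]; exact hd
  -- conjugate `R ∩ N` into `P` inside `N`
  have hRN : IsPGroup p (((R : Subgroup G) ⊓ N).subgroupOf N) :=
    (R.2.to_inf_left).comap_subtype
  obtain ⟨T, hT⟩ := hRN.exists_le_sylow
  obtain ⟨n, hn⟩ := MulAction.exists_smul_eq N T (P.subtype hPN)
  have hconj : ∀ x ∈ (R : Subgroup G) ⊓ N, (n : G) * x * (n : G)⁻¹ ∈ (P : Subgroup G) := by
    intro x hx
    have h1 : (⟨x, hx.2⟩ : N) ∈ (T : Subgroup N) := hT (by
      rw [Subgroup.mem_subgroupOf]; exact hx)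
    have h2 : n * ⟨x, hx.2⟩ * n⁻¹ ∈ ((n • T : Sylow p N) : Subgroup N) := by
      rw [mem_smul_sylow]
      have : n⁻¹ * (n * ⟨x, hx.2⟩ * n⁻¹) * n = ⟨x, hx.2⟩ := by group
      rw [this]; exact h1
    rw [hn, Sylow.coe_subtype, Subgroup.mem_subgroupOf] at h2
    exact h2
  -- `(n • R) ∩ Q ≤ D`
  have hle : (((n : G) • R : Sylow p G) : Subgroup G) ⊓ Q ≤ D := by
    intro x hx
    have hxN : x ∈ N := hQN hx.2
    have h1 : (n : G)⁻¹ * x * (n : G) ∈ (R : Subgroup G) := mem_smul_sylow.mp hx.1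
    have h2 : (n : G)⁻¹ * x * (n : G) ∈ N := N.mul_mem (N.mul_mem (N.inv_mem n.2) hxN) n.2
    have h3 := hconj _ ⟨h1, h2⟩
    have h4 : (n : G) * ((n : G)⁻¹ * x * (n : G)) * (n : G)⁻¹ = x := by group
    rw [h4] at h3
    exact ⟨h3, hx.2⟩
  have heq : (((n : G) • R : Sylow p G) : Subgroup G) ⊓ Q = D :=
    Subgroup.eq_of_le_of_card_ge hle (hmin _ _)
  -- hence `D ≤ n • R`, and `n` normalizes `D`
  intro d hd
  have hnd : (n : G) * d * (n : G)⁻¹ ∈ D := (Subgroup.mem_normalizer_iff.mp n.2 d).mp hd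
  have h5 : (n : G) * d * (n : G)⁻¹ ∈ (((n : G) • R : Sylow p G) : Subgroup G) := by
    rw [← heq] at hnd; exact hnd.1
  rw [mem_smul_sylow] at h5
  have h6 : (n : G)⁻¹ * ((n : G) * d * (n : G)⁻¹) * (n : G) = d := by group
  rw [h6] at h5
  exact h5

/-- Brodkey's Theorem: in a finite group with abelian Sylow p-subgroups and no nontrivial normal p-subgroup, some conjugate of a Sylow p-subgroup meets it trivially. -/
theorem result {G : Type*} [Group G] [Finite G] (p : ℕ) [Fact p.Prime]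
    (S : Sylow p G) (hS : IsMulCommutative S) (hOp : Cfsg.pCore p G = ⊥) :
    ∃ g : G, (S : Subgroup G) ⊓ MulAut.conj g • (S : Subgroup G) = ⊥ := by
  classical
  have hcomm := sylow_comm S hS
  -- a pair of Sylow subgroups with intersection of least order
  obtain ⟨⟨P, Q⟩, hPQ⟩ := Finite.exists_min
    (fun PQ : Sylow p G × Sylow p G => Nat.card ((PQ.1 : Subgroup G) ⊓ PQ.2 : Subgroup G))
  have hmin : ∀ P' Q' : Sylow p G, Nat.card ((P : Subgroup G) ⊓ Q : Subgroup G) ≤
      Nat.card ((P' : Subgroup G) ⊓ Q' : Subgroup G) := fun P' Q' => hPQ (P', Q')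
  have hbot : (P : Subgroup G) ⊓ Q = ⊥ := by
    rw [eq_bot_iff, ← hOp, pCore_eq_iInf_sylow]
    exact le_iInf fun R => inf_le_of_minimal hcomm P Q hmin R
  obtain ⟨a, rfl⟩ := MulAction.exists_smul_eq G S P
  obtain ⟨b, rfl⟩ := MulAction.exists_smul_eq G S Q
  refine ⟨a⁻¹ * b, ?_⟩
  rw [eq_bot_iff]
  intro x hx
  have h1 : a * x * a⁻¹ ∈ ((a • S : Sylow p G) : Subgroup G) ⊓ ((b • S : Sylow p G) : Subgroup G) := by
    refine Subgroup.mem_inf.mpr ⟨?_, ?_⟩
    · rw [mem_smul_sylow]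
      have : a⁻¹ * (a * x * a⁻¹) * a = x := by group
      rw [this]; exact (Subgroup.mem_inf.mp hx).1
    · rw [mem_smul_sylow]
      have h2 : x ∈ MulAut.conj (a⁻¹ * b) • (S : Subgroup G) := (Subgroup.mem_inf.mp hx).2
      rw [Subgroup.mem_pointwise_smul_iff_inv_smul_mem] at h2
      have : b⁻¹ * (a * x * a⁻¹) * b = (MulAut.conj (a⁻¹ * b))⁻¹ • x := by
        simp [MulAut.smul_def, mul_assoc]
      rw [this]; exact h2
  rw [hbot, Subgroup.mem_bot] at h1
  rw [Subgroup.mem_bot]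
  have : x = a⁻¹ * (a * x * a⁻¹) * a := by group
  rw [this, h1]; group

end Cfsg.Agent.S0060
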