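import Cfsg.Statements.S0061
import Cfsg.Agent.S0034
import Cfsg.Agent.Helper1.Frobenius
import Cfsg.Agent.Helper50.LocallyCentral

set_option autoImplicit false
open Cfsg

namespace Cfsg.Agent.S0061

open Subgroup
open scoped Pointwise

/-- a group of prime power order is solvable -/
theorem isSolvable_of_card_prime_pow {G : Type*} [Group G] [Finite G] {p k : ℕ} (hp : p.Prime)
    (h : Nat.card G = p ^ k) : Group.IsSolvable G := by
  haveI : Fact p.Prime := ⟨hp⟩
  have h1 : IsPGroup p G := IsPGroup.of_card h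
  haveI := h1.isNilpotent
  infer_instance

/-- a Sylow `p`-subgroup of a group of order `p ^ a * q` has order `p ^ a` -/
theorem card_sylow {G : Type*} [Group G] [Finite G] {p q a : ℕ} [Fact p.Prime] (hq : q.Prime)
    (hpq : p ≠ q) (hG : Nat.card G = p ^ a * q) (P : Sylow p G) :
    Nat.card P = p ^ a ∧ (P : Subgroup G).index = q := by
  have hp : p.Prime := Fact.out
  obtain ⟨k, hk⟩ := IsPGroup.exists_card_eq P.isPGroup'
  have h1 : Nat.card P * (P : Subgroup G).index = Nat.card G := (P : Subgroup G).card_mul_index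
  have h2 : ¬ p ∣ (P : Subgroup G).index := P.not_dvd_index
  have hcop : Nat.Coprime p q := (Nat.coprime_primes hp hq).mpr hpq
  have hcop2 : Nat.Coprime p (P : Subgroup G).index := (Nat.Prime.coprime_iff_not_dvd hp).mpr h2
  rw [hk, hG] at h1
  have h3 : p ^ k ∣ p ^ a := by
    have : p ^ k ∣ p ^ a * q := Dvd.intro _ h1
    exact (Nat.Coprime.pow_left k hcop).dvd_of_dvd_mul_right this
  have h4 : p ^ a ∣ p ^ k := by
    have : p ^ a ∣ p ^ k * (P : Subgroup G).index := Dvd.intro _ h1.symm
    exact (Nat.Coprime.pow_left a hcop2).dvd_of_dvd_mul_right this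
  have h5 : p ^ k = p ^ a := Nat.dvd_antisymm h3 h4
  rw [h5] at h1 hk
  refine ⟨hk, ?_⟩
  exact Nat.eq_of_mul_eq_mul_left (pow_pos hp.pos a) h1

/-- the non-simplicity statement -/
theorem exists_normal_of_card {G : Type*} [Group G] [Finite G] {p q a : ℕ} (hp : p.Prime)
    (hq : q.Prime) (hpq : p ≠ q) (ha : 0 < a) (hG : Nat.card G = p ^ a * q) :
    ∃ N : Subgroup G, N.Normal ∧ N ≠ ⊥ ∧ N ≠ ⊤ := by
  classical
  by_contra hsimple
  push Not at hsimple
  haveI : Fact p.Prime := ⟨hp⟩
  have hpa : 1 < p ^ a := Nat.one_lt_pow ha.ne' hp.one_lt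
  -- normal subgroups have order `1` or `p ^ a * q`
  have hnormal : ∀ N : Subgroup G, N.Normal → Nat.card N = 1 ∨ Nat.card N = p ^ a * q := by
    intro N hN
    by_cases h : N = ⊥
    · left; rw [h]; exact Subgroup.card_bot
    · right; rw [hsimple N hN h, Subgroup.card_top, hG]
  have hcardP : ∀ P : Sylow p G, Nat.card P = p ^ a ∧ (P : Subgroup G).index = q :=
    fun P => card_sylow hq hpq hG P
  have hPnn : ∀ P : Sylow p G, ¬ (P : Subgroup G).Normal := by
    intro P hP
    rcases hnormal P hP with h | h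
    · rw [(hcardP P).1] at h; omega
    · rw [(hcardP P).1] at h
      have : p ^ a * 1 = p ^ a * q := by rw [mul_one]; exact h
      have := Nat.eq_of_mul_eq_mul_left (pow_pos hp.pos a) this
      exact hq.one_lt.ne this
  -- the number of Sylow `p`-subgroups is `q`, and they are self-normalizing
  have hnorm : ∀ P : Sylow p G, normalizer ((P : Subgroup G) : Set G) = P := by
    intro P
    have h1 : Nat.card (Sylow p G) ∣ q := by
      have := P.card_dvd_index
      rwa [(hcardP P).2] at this
    have h2 : (normalizer ((P : Subgroup G) : Set G)).index = q := by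
      have hc : Nat.card (Sylow p G) = (normalizer ((P : Subgroup G) : Set G)).index :=
        P.card_eq_index_normalizer
      rw [← hc]
      rcases (Nat.dvd_prime hq).mp h1 with h | h
      · exfalso
        apply hPnn P
        rw [hc, Subgroup.index_eq_one] at h
        exact Subgroup.normalizer_eq_top_iff.mp h
      · exact h
    symm
    apply Subgroup.eq_of_le_of_card_ge le_normalizer
    have h3 := (normalizer ((P : Subgroup G) : Set G)).card_mul_index
    have h4 := (P : Subgroup G).card_mul_index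
    rw [h2] at h3
    rw [(hcardP P).2, ← h3] at h4
    exact (Nat.eq_of_mul_eq_mul_right hq.pos h4).ge
  have hnontriv : Nontrivial (Sylow p G) := by
    by_contra h
    rw [not_nontrivial_iff_subsingleton] at h
    obtain ⟨P⟩ : Nonempty (Sylow p G) := inferInstance
    apply hPnn P
    exact Sylow.normal_of_subsingleton P
  obtain ⟨P0⟩ : Nonempty (Sylow p G) := inferInstance
  obtain ⟨P0', hP0'⟩ := exists_ne P0
  -- choose a pair of distinct Sylow subgroups with maximal intersection
  let α := {pr : Sylow p G × Sylow p G // pr.1 ≠ pr.2}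
  haveI : Nonempty α := ⟨⟨(P0', P0), hP0'⟩⟩
  let f : α → ℕ := fun pr => Nat.card ↥((pr.1.1 : Subgroup G) ⊓ (pr.1.2 : Subgroup G))
  obtain ⟨⟨⟨P₁, P₂⟩, hne⟩, hmax⟩ := Finite.exists_max f
  simp only [ne_eq] at hne
  have hmax' : ∀ Q₁ Q₂ : Sylow p G, Q₁ ≠ Q₂ →
      Nat.card ↥((Q₁ : Subgroup G) ⊓ Q₂) ≤ Nat.card ↥((P₁ : Subgroup G) ⊓ P₂) :=
    fun Q₁ Q₂ h => hmax ⟨(Q₁, Q₂), h⟩
  by_cases hD : (P₁ : Subgroup G) ⊓ P₂ = ⊥
  · -- Frobenius case
    have htriv : ∀ Q₁ Q₂ : Sylow p G, Q₁ ≠ Q₂ → (Q₁ : Subgroup G) ⊓ Q₂ = ⊥ := by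
      intro Q₁ Q₂ h
      have := hmax' Q₁ Q₂ h
      rw [hD, Subgroup.card_bot] at this
      exact (Subgroup.card_le_one_iff_eq_bot _).mp this
    have hFrob : Cfsg.IsFrobeniusComplement (P0 : Subgroup G) := by
      refine ⟨?_, ?_, ?_⟩
      · intro h
        have := (hcardP P0).1
        rw [h, Subgroup.card_bot] at this
        omega
      · intro h
        apply hPnn P0
        rw [h]; infer_instance
      · intro g hg
        have hne' : P0 ≠ g • P0 := by
          intro h
          apply hg
          rw [← hnorm P0]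
          exact Sylow.smul_eq_iff_mem_normalizer.mp h.symm
        have := htriv P0 (g • P0) hne'
        rwa [Sylow.coe_subgroup_smul] at this
    have hK := (Cfsg.Agent.S0034.result (P0 : Subgroup G) hFrob).1
    rw [(hcardP P0).2] at hK
    -- an element of order `q`
    have hqG : q ∣ Nat.card G := by rw [hG]; exact Dvd.intro_left _ rfl
    haveI : Fact q.Prime := ⟨hq⟩
    obtain ⟨y, hy⟩ := exists_prime_orderOf_dvd_card' q hqG
    have hQcard : Nat.card (zpowers y) = q := by rw [Nat.card_zpowers, hy]
    have hQ : IsPGroup q (zpowers y) := IsPGroup.of_card (n := 1) (by rw [hQcard, pow_one])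
    have hsub : ((zpowers y : Subgroup G) : Set G) ⊆ Cfsg.frobeniusKernel (P0 : Subgroup G) := by
      intro x hx
      rw [Helper63.mem_frobeniusKernel_iff]
      by_cases hx1 : x = 1
      · left; exact hx1
      right
      intro g hg
      have hmem : x ∈ (MulAut.conj g • (P0 : Subgroup G)) := (Helper63.mem_conj_smul _ g x).mpr hg
      have hP' : IsPGroup p ↥(MulAut.conj g • (P0 : Subgroup G)) := by
        have := (g • P0).isPGroup'
        rwa [Sylow.coe_subgroup_smul] at this
      have hdisj := IsPGroup.disjoint_of_ne p q hpq _ _ hP' hQ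
      exact hx1 (Subgroup.disjoint_def.mp hdisj hmem hx)
    have hKfin : (Cfsg.frobeniusKernel (P0 : Subgroup G)).Finite := Set.toFinite _
    have heq : ((zpowers y : Subgroup G) : Set G) = Cfsg.frobeniusKernel (P0 : Subgroup G) := by
      apply Set.eq_of_subset_of_ncard_le hsub _ hKfin
      rw [← Nat.card_coe_set_eq, hK, ← Nat.card_coe_set_eq]
      exact hQcard.ge
    have hQn : (zpowers y).Normal := by
      refine ⟨fun x hx g => ?_⟩
      have hx' : x ∈ Cfsg.frobeniusKernel (P0 : Subgroup G) := by rw [← heq]; exact hx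
      have := Helper1.frobeniusKernel_conj_mem (P0 : Subgroup G) hx' g⁻¹
      rw [inv_inv, ← heq] at this
      exact this
    rcases hnormal _ hQn with h | h
    · rw [hQcard] at h; exact hq.one_lt.ne' h
    · rw [hQcard] at h
      have : 1 * q = p ^ a * q := by rw [one_mul]; exact h
      have := Nat.eq_of_mul_eq_mul_right hq.pos this
      omega
  · -- the maximal intersection is nontrivial
    set D := (P₁ : Subgroup G) ⊓ P₂ with hDdef
    have hD1 : D < P₁ := by
      refine lt_of_le_of_ne inf_le_left ?_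
      intro h
      apply hne
      have hle : (P₁ : Subgroup G) ≤ P₂ := by rw [← h]; exact inf_le_right
      exact (Sylow.ext (P₁.is_maximal' P₂.isPGroup' hle)).symm
    have hD2 : D < P₂ := by
      refine lt_of_le_of_ne inf_le_right ?_
      intro h
      apply hne
      have hle : (P₂ : Subgroup G) ≤ P₁ := by rw [← h]; exact inf_le_left
      exact Sylow.ext (P₂.is_maximal' P₁.isPGroup' hle)
    have hN1 := Helper50.lt_inf_normalizer D P₁ P₁.isPGroup' hD1
    have hN2 := Helper50.lt_inf_normalizer D P₂ P₂.isPGroup' hD2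
    set N := normalizer (D : Set G) with hNdef
    have hNnp : ¬ IsPGroup p N := by
      intro hNp
      obtain ⟨P₃, hP₃⟩ := hNp.exists_le_sylow
      have key : ∀ Q : Sylow p G, D < (Q : Subgroup G) ⊓ N →
          (Q = P₁ ∨ Q = P₂) → Q = P₃ := by
        intro Q hQ hQ12
        by_contra hQ3
        have hle : (Q : Subgroup G) ⊓ N ≤ (Q : Subgroup G) ⊓ P₃ := inf_le_inf_left _ hP₃
        have hlt : D < (Q : Subgroup G) ⊓ P₃ := lt_of_lt_of_le hQ hle
        have hcard := hmax' Q P₃ hQ3
        exact hlt.ne (Subgroup.eq_of_le_of_card_ge hlt.le hcard)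
      apply hne
      rw [key P₁ hN1 (Or.inl rfl), key P₂ hN2 (Or.inr rfl)]
    have hqN : q ∣ Nat.card N := by
      by_contra hqN
      apply hNnp
      have h1 : Nat.card N ∣ p ^ a * q := by rw [← hG]; exact Subgroup.card_subgroup_dvd_card N
      have h2 : Nat.Coprime (Nat.card N) q :=
        (Nat.Coprime.symm ((Nat.Prime.coprime_iff_not_dvd hq).mpr hqN))
      have h3 : Nat.card N ∣ p ^ a := h2.dvd_of_dvd_mul_right h1
      obtain ⟨j, -, hj⟩ := (Nat.dvd_prime_pow hp).mp h3
      exact IsPGroup.of_card hj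
    haveI : Fact q.Prime := ⟨hq⟩
    obtain ⟨y, hy⟩ := exists_prime_orderOf_dvd_card' q hqN
    have hy' : orderOf (y : G) = q := by rw [Subgroup.orderOf_coe, hy]
    have hQcard : Nat.card (zpowers (y : G)) = q := by rw [Nat.card_zpowers, hy']
    have hQN : zpowers (y : G) ≤ N := by
      rw [Subgroup.zpowers_le]; exact y.2
    have hcompl : IsComplement' (P₁ : Subgroup G) (zpowers (y : G)) := by
      apply isComplement'_of_coprime
      · rw [(hcardP P₁).1, hQcard, hG]
      · rw [(hcardP P₁).1, hQcard]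
        exact Nat.Coprime.pow_left a ((Nat.coprime_primes hp hq).mpr hpq)
    have hMle : normalClosure (D : Set G) ≤ P₁ := by
      unfold normalClosure
      rw [Subgroup.closure_le]
      intro c hc
      rw [Group.mem_conjugatesOfSet_iff] at hc
      obtain ⟨d, hd, hdc⟩ := hc
      rw [isConj_iff] at hdc
      obtain ⟨g, rfl⟩ := hdc
      obtain ⟨⟨x, z⟩, hxz⟩ := hcompl.2 g
      simp only at hxz
      rw [← hxz]
      have hz : (z : G) ∈ N := hQN z.2
      have hzd : (z : G) * d * (z : G)⁻¹ ∈ D := (Subgroup.mem_normalizer_iff.mp hz d).mp hd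
      have : (x : G) * (z : G) * d * ((x : G) * (z : G))⁻¹
          = (x : G) * ((z : G) * d * (z : G)⁻¹) * (x : G)⁻¹ := by group
      rw [this]
      exact (P₁ : Subgroup G).mul_mem ((P₁ : Subgroup G).mul_mem x.2 (hD1.le hzd))
        ((P₁ : Subgroup G).inv_mem x.2)
    have hMn : (normalClosure (D : Set G)).Normal := Subgroup.normalClosure_normal
    have hMbot : normalClosure (D : Set G) ≠ ⊥ := by
      intro h
      apply hD
      rw [eq_bot_iff, ← h]
      exact Subgroup.le_normalClosure
    have := hsimple _ hMn hMbot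
    apply hPnn P₁
    have h2 : (P₁ : Subgroup G) = ⊤ := by rw [eq_top_iff, ← this]; exact hMle
    rw [h2]; infer_instance

/-- the inductive statement -/
theorem main (p q : ℕ) (hp : p.Prime) (hq : q.Prime) : ∀ n : ℕ, ∀ (G : Type*) [Group G] [Finite G],
    Nat.card G = n → (∃ m, Nat.card G ∣ p ^ m * q) → Group.IsSolvable G := by
  intro n
  induction n using Nat.strong_induction_on with
  | _ n ih =>
    intro G _ _ hn hm
    obtain ⟨m, hm⟩ := hm
    obtain ⟨d1, d2, hd1, hd2, hd⟩ := (Nat.dvd_mul).mp hm
    obtain ⟨a, -, rfl⟩ := (Nat.dvd_prime_pow hp).mp hd1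
    rcases (Nat.dvd_prime hq).mp hd2 with h | h
    · rw [h, mul_one] at hd
      exact isSolvable_of_card_prime_pow hp hd.symm
    rw [h] at hd
    by_cases hpq : p = q
    · subst hpq
      exact isSolvable_of_card_prime_pow (k := a + 1) hp (by rw [← hd, pow_succ])
    by_cases ha : a = 0
    · subst ha
      rw [pow_zero, one_mul] at hd
      exact isSolvable_of_card_prime_pow (k := 1) hq (by rw [← hd, pow_one])
    obtain ⟨N, hN, hNbot, hNtop⟩ := exists_normal_of_card hp hq hpq (Nat.pos_of_ne_zero ha) hd.symm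
    have hNlt : Nat.card N < n := by
      rw [← hn]
      refine lt_of_le_of_ne (Subgroup.card_le_card_group N) ?_
      intro h
      exact hNtop (Subgroup.card_eq_iff_eq_top N |>.mp h)
    have hQlt : Nat.card (G ⧸ N) < n := by
      rw [← hn, ← N.index_eq_card, ← N.card_mul_index]
      have h1 : 1 < Nat.card N := (Subgroup.one_lt_card_iff_ne_bot _).mpr hNbot
      have h2 : 0 < N.index := Nat.pos_of_ne_zero Subgroup.index_ne_zero_of_finite
      nlinarith
    haveI : Group.IsSolvable N := ih _ hNlt N rfl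
      ⟨m, (Subgroup.card_subgroup_dvd_card N).trans hm⟩
    haveI : Group.IsSolvable (G ⧸ N) := ih _ hQlt (G ⧸ N) rfl
      ⟨m, by rw [← N.index_eq_card]; exact (Subgroup.index_dvd_card N).trans hm⟩
    exact Group.isSolvable_of_ker_le_range N.subtype (QuotientGroup.mk' N) (by simp)

/-- A finite group whose order is a prime power times a prime is solvable. -/
theorem result {G : Type*} [Group G] [Finite G] (p q m : ℕ) (hp : p.Prime) (hq : q.Prime)
    (hG : Nat.card G = p ^ m * q) : Group.IsSolvable G :=
  main p q hp hq _ G rfl ⟨m, by rw [hG]⟩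

end Cfsg.Agent.S0061
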