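import Cfsg.Statements.S0062
import Mathlib.GroupTheory.PGroup
import Mathlib.GroupTheory.Transfer
import Mathlib.GroupTheory.Nilpotent

set_option autoImplicit false
open Cfsg

namespace Cfsg.Agent.S0062

theorem solvable_of_normal_sq {G : Type*} [Group G] [Finite G] (N : Subgroup G) [N.Normal]
    {r s : ℕ} [Fact r.Prime] [Fact s.Prime] (hN : Nat.card N = r ^ 2)
    (hQ : Nat.card (G ⧸ N) = s ^ 2) : Group.IsSolvable G := by
  have h1 : Group.IsSolvable N :=
    Group.isSolvable_of_comm (IsPGroup.isMulCommutative_of_card_eq_prime_sq hN).is_comm.comm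
  have h2 : Group.IsSolvable (G ⧸ N) :=
    Group.isSolvable_of_comm (IsPGroup.isMulCommutative_of_card_eq_prime_sq hQ).is_comm.comm
  exact Group.isSolvable_of_ker_le_range N.subtype (QuotientGroup.mk' N) (by simp)

theorem main {G : Type*} [Group G] [Finite G] (p q : ℕ) (hp : p.Prime) (hq : q.Prime)
    (hqp : q < p) (hG : Nat.card G = p ^ 2 * q ^ 2) : Group.IsSolvable G := by
  have : Fact p.Prime := ⟨hp⟩
  have : Fact q.Prime := ⟨hq⟩
  have hpq : p ≠ q := hqp.ne'
  obtain P : Sylow p G := default
  have hcop : Nat.Coprime p q := (Nat.coprime_primes hp hq).mpr hpq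
  -- card P = p ^ 2
  have hPcard : Nat.card (P : Subgroup G) = p ^ 2 := by
    rw [Sylow.card_eq_multiplicity, hG]
    congr 1
    rw [Nat.factorization_mul (pow_ne_zero 2 hp.ne_zero) (pow_ne_zero 2 hq.ne_zero),
      Nat.factorization_pow, Nat.factorization_pow]
    simp [hp.factorization_self, Nat.factorization_eq_zero_of_not_dvd
      (fun h => hpq ((Nat.prime_dvd_prime_iff_eq hp hq).mp h))]
  have hPidx : (P : Subgroup G).index = q ^ 2 := by
    have h1 := (P : Subgroup G).card_mul_index
    rw [hPcard, hG] at h1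
    exact Nat.eq_of_mul_eq_mul_left (pow_pos hp.pos 2) h1
  have hnp_dvd : Nat.card (Sylow p G) ∣ q ^ 2 := hPidx ▸ P.card_dvd_index
  obtain ⟨j, hj2, hj⟩ := (Nat.dvd_prime_pow hq).mp hnp_dvd
  have hmod : Nat.card (Sylow p G) ≡ 1 [MOD p] := card_sylow_modEq_one p G
  have hnorm_idx : (Subgroup.normalizer ((P : Subgroup G) : Set G)).index = q ^ j := by
    rw [← hj]; exact (P.card_eq_index_normalizer).symm
  interval_cases j
  · -- normal Sylow
    have htop : Subgroup.normalizer ((P : Subgroup G) : Set G) = ⊤ := by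
      rw [← Subgroup.index_eq_one, hnorm_idx, pow_zero]
    have hPn : (P : Subgroup G).Normal := Subgroup.normalizer_eq_top_iff.mp htop
    have hQ : Nat.card (G ⧸ (P : Subgroup G)) = q ^ 2 := by
      rw [← Subgroup.index_eq_card, hPidx]
    exact solvable_of_normal_sq (P : Subgroup G) hPcard hQ
  · -- impossible
    exfalso
    rw [hj, pow_one] at hmod
    have h1 : q % p = 1 % p := hmod
    rw [Nat.mod_eq_of_lt hqp, Nat.mod_eq_of_lt hp.one_lt] at h1
    exact hq.one_lt.ne' h1
  · -- self-normalizing abelian Sylow: Burnside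
    have hle : Subgroup.normalizer ((P : Subgroup G) : Set G) ≤ (P : Subgroup G) := by
      rw [← Subgroup.relIndex_eq_one]
      have h1 := Subgroup.relIndex_mul_index (Subgroup.le_normalizer (H := (P : Subgroup G)))
      rw [hnorm_idx, hPidx] at h1
      have h2 : (P : Subgroup G).relIndex (Subgroup.normalizer ((P : Subgroup G) : Set G)) * q ^ 2
          = 1 * q ^ 2 := by rw [h1, one_mul]
      exact Nat.eq_of_mul_eq_mul_right (pow_pos hq.pos 2) h2
    have hcomm : IsMulCommutative (P : Subgroup G) :=
      IsPGroup.isMulCommutative_of_card_eq_prime_sq hPcard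
    have hPc : (P : Subgroup G) ≤ Subgroup.centralizer (P : Set G) := by
      intro x hx
      rw [Subgroup.mem_centralizer_iff]
      intro y hy
      have := mul_comm' (⟨y, hy⟩ : (P : Subgroup G)) ⟨x, hx⟩
      exact congrArg Subtype.val this
    have hNC : Subgroup.normalizer ((P : Subgroup G) : Set G) ≤ Subgroup.centralizer (P : Set G) :=
      hle.trans hPc
    have hcompl := MonoidHom.ker_transferSylow_isComplement' P hNC
    set N := (MonoidHom.transferSylow P hNC).ker with hN
    have hNcard : Nat.card N = q ^ 2 := by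
      rw [← hcompl.index_eq_card, hPidx]
    have hQ : Nat.card (G ⧸ N) = p ^ 2 := by
      rw [← Subgroup.index_eq_card, hcompl.symm.index_eq_card, hPcard]
    exact solvable_of_normal_sq N hNcard hQ

/-- A finite group of order p^2 * q^2 with p and q prime is solvable. -/
theorem result {G : Type*} [Group G] [Finite G] (p q : ℕ) (hp : p.Prime) (hq : q.Prime)
    (hG : Nat.card G = p ^ 2 * q ^ 2) : Group.IsSolvable G := by
  rcases lt_trichotomy p q with h | h | h
  · exact main q p hq hp h (by rw [hG, mul_comm])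
  · subst h
    have : Fact p.Prime := ⟨hp⟩
    have hpg : IsPGroup p G := IsPGroup.of_card (n := 4) (by rw [hG]; ring)
    have : Group.IsNilpotent G := hpg.isNilpotent
    infer_instance
  · exact main p q hp hq h hG

end Cfsg.Agent.S0062
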