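import Cfsg.Statements.S0063
import Mathlib.GroupTheory.PGroup
import Mathlib.GroupTheory.SpecificGroups.Cyclic

set_option autoImplicit false
open Cfsg

namespace Cfsg.Agent.S0063

universe u

theorem aux (p : ℕ) [Fact p.Prime] : ∀ (m : ℕ) (G : Type u) [Group G] [Finite G],
    Nat.card G = p ^ m → 2 ≤ m → Group.nilpotencyClass G ≤ m - 1 := by
  intro m
  induction m using Nat.strong_induction_on with
  | _ m ih =>
    intro G _ _ hG hm
    have hp : p.Prime := Fact.out
    have hPG : IsPGroup p G := IsPGroup.of_card hG
    have hnil : Group.IsNilpotent G := hPG.isNilpotent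
    have hnt : Nontrivial G := by
      rw [← Finite.one_lt_card_iff_nontrivial, hG]
      exact Nat.one_lt_pow (by omega) hp.one_lt
    have hZnt : Nontrivial (Subgroup.center G) := hPG.center_nontrivial
    obtain ⟨k, hk⟩ := IsPGroup.iff_card.mp (hPG.to_subgroup (Subgroup.center G))
    have hk1 : 1 ≤ k := by
      by_contra hk0
      have : k = 0 := by omega
      rw [this, pow_zero] at hk
      have := Finite.one_lt_card_iff_nontrivial.mpr hZnt
      omega
    have hcard := Subgroup.card_eq_card_quotient_mul_card_subgroup (Subgroup.center G)
    rw [hG, hk] at hcard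
    have hkm : k ≤ m := by
      by_contra hlt
      have h1 : p ^ m < p ^ k := Nat.pow_lt_pow_right hp.one_lt (by omega)
      have h2 : 0 < Nat.card (G ⧸ Subgroup.center G) := Nat.card_pos
      nlinarith
    have hq : Nat.card (G ⧸ Subgroup.center G) = p ^ (m - k) := by
      have h1 : p ^ m = p ^ (m - k) * p ^ k := by rw [← pow_add]; congr 1; omega
      rw [h1] at hcard
      exact (Nat.eq_of_mul_eq_mul_right (pow_pos hp.pos k) hcard).symm
    have hcls := Group.nilpotencyClass_eq_quotient_center_plus_one (G := G)
    by_cases hmk : m - k ≤ 1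
    · -- the quotient is cyclic, so G is commutative
      have hcyc : IsCyclic (G ⧸ Subgroup.center G) := by
        apply isCyclic_of_card_dvd_prime (p := p)
        rw [hq]
        rcases Nat.le_one_iff_eq_zero_or_eq_one.mp hmk with h0 | h1
        · rw [h0, pow_zero]; exact one_dvd _
        · rw [h1, pow_one]
      have hcomm : IsMulCommutative G :=
        MonoidHom.isMulCommutative_of_isCyclic_of_ker_le_center
          (QuotientGroup.mk' (Subgroup.center G)) (by simp)
      have := Group.IsNilpotent.nilpotencyClass_le_one_iff.mpr hcomm
      omega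
    · have hih := ih (m - k) (by omega) (G ⧸ Subgroup.center G) hq (by omega)
      omega

/-- A finite group of prime-power order p ^ m with m > 1 is nilpotent of class at most m - 1. -/
theorem result {G : Type*} [Group G] [Finite G] (p m : ℕ) [Fact p.Prime]
    (hG : Nat.card G = p ^ m) (hm : 1 < m) : Group.nilpotencyClass G ≤ m - 1 := by
  exact aux p m G hG hm

end Cfsg.Agent.S0063
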