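import Cfsg.Statements.S0065

set_option autoImplicit false
open Cfsg

namespace Cfsg.Agent.S0065

/-- A nontrivial normal subgroup of a nilpotent group intersects the centre nontrivially. -/
theorem result {G : Type*} [Group G] [Finite G] [Group.IsNilpotent G]
    (N : Subgroup G) [N.Normal] (hN : N ≠ ⊥) : N ⊓ Subgroup.center G ≠ ⊥ := by
  let f : ℕ → Subgroup G := fun n => Nat.rec (motive := fun _ => Subgroup G) N (fun _ K => ⁅K, (⊤ : Subgroup G)⁆) n
  have f0 : f 0 = N := rfl
  have fs : ∀ n, f (n + 1) = ⁅f n, (⊤ : Subgroup G)⁆ := fun n => rfl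
  have ha : ∀ n, f n ≤ Subgroup.lowerCentralSeries (⊤ : Subgroup G) n := by
    intro n
    induction n with
    | zero => rw [f0]; exact le_top
    | succ n ih => rw [fs, Subgroup.lowerCentralSeries_succ]; exact Subgroup.commutator_mono ih le_rfl
  have hb : ∀ n, f n ≤ N := by
    intro n
    induction n with
    | zero => rw [f0]
    | succ n ih =>
      rw [fs]
      exact (Subgroup.commutator_mono ih le_rfl).trans (Subgroup.commutator_le_left N ⊤)
  obtain ⟨n, hn⟩ := Subgroup.nilpotent_iff_lowerCentralSeries.mp ‹Group.IsNilpotent G›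
  have hfn : f n = ⊥ := by rw [eq_bot_iff, ← hn]; exact ha n
  have key : ∀ n, f n = ⊥ → N ⊓ Subgroup.center G ≠ ⊥ := by
    intro n
    induction n with
    | zero => intro h0; rw [f0] at h0; exact absurd h0 hN
    | succ k ih =>
      intro hk
      by_cases hfk : f k = ⊥
      · exact ih hfk
      · rw [fs, Subgroup.commutator_eq_bot_iff_le_centralizer, Subgroup.coe_top,
          Subgroup.centralizer_univ] at hk
        intro hbot
        apply hfk
        rw [eq_bot_iff, ← hbot]
        exact le_inf (hb k) hk
  exact key n hfn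

end Cfsg.Agent.S0065
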