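import Cfsg.Statements.S0067
import Cfsg.Agent.Helper91.SubnormalNilpotent

set_option autoImplicit false
open Pointwise
open Cfsg

namespace Cfsg.Agent.S0067

/-- If the join of a subgroup A with each of its conjugates is nilpotent, then A is subnormal in the finite group and contained in the Fitting subgroup. -/
theorem result {G : Type*} [Group G] [Finite G] (A : Subgroup G)
    (h : ∀ g : G, Group.IsNilpotent (A ⊔ MulAut.conj g • A : Subgroup G)) : A.IsSubnormal ∧ A ≤ Cfsg.fittingSubgroup G := by
  have hsn : A.IsSubnormal := Cfsg.Agent.Helper91.wielandt_criterion A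
    (fun g => Cfsg.Agent.Helper91.relSN_of_isNilpotent le_sup_left (h g))
  refine ⟨hsn, Cfsg.Agent.Helper91.le_fittingSubgroup_of_isSubnormal hsn ?_⟩
  have h1 := h 1
  have hle : A ≤ A ⊔ MulAut.conj (1 : G) • A := le_sup_left
  have h2 : Group.IsNilpotent ↥(A.subgroupOf (A ⊔ MulAut.conj (1 : G) • A)) := inferInstance
  exact (Group.isNilpotent_congr (Subgroup.subgroupOfEquivOfLe hle)).1 h2

end Cfsg.Agent.S0067
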