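import Cfsg.Statements.S0068
import Mathlib.GroupTheory.Perm.Cycle.Type

set_option autoImplicit false
open Cfsg

namespace Cfsg.Agent.S0068

/-- An involution acting without nontrivial fixed points on a finite normal subgroup inverts it. -/
theorem conj_eq_inv_of_fpf {H : Type*} [Group H] [Finite H] (e : H) (he : e * e = 1)
    (N : Subgroup H) [hNn : N.Normal]
    (h : N ⊓ Subgroup.centralizer ({e} : Set H) = ⊥) (m : H) (hm : m ∈ N) : e * m * e⁻¹ = m⁻¹ := by
  have heinv : e⁻¹ = e := inv_eq_of_mul_eq_one_right he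
  let f : N → N := fun n => ⟨(n : H)⁻¹ * (e * n * e⁻¹), N.mul_mem (N.inv_mem n.2) (hNn.conj_mem n n.2 e)⟩
  have hinj : Function.Injective f := by
    intro a b hab
    have hab' : (a : H)⁻¹ * (e * a * e⁻¹) = (b : H)⁻¹ * (e * b * e⁻¹) := congrArg Subtype.val hab
    have h1 : (b : H) * (a : H)⁻¹ ∈ N ⊓ Subgroup.centralizer ({e} : Set H) := by
      rw [Subgroup.mem_inf, Subgroup.mem_centralizer_singleton_iff]
      refine ⟨N.mul_mem b.2 (N.inv_mem a.2), ?_⟩
      have h2 : (b : H) * (a : H)⁻¹ = e * ((b : H) * (a : H)⁻¹) * e⁻¹ := by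
        have h3 : (b : H) * ((a : H)⁻¹ * (e * a * e⁻¹)) * (e * a * e⁻¹)⁻¹
            = (b : H) * ((b : H)⁻¹ * (e * b * e⁻¹)) * (e * a * e⁻¹)⁻¹ := by rw [hab']
        have h4 : (b : H) * ((a : H)⁻¹ * (e * a * e⁻¹)) * (e * a * e⁻¹)⁻¹ = (b : H) * (a : H)⁻¹ := by
          group
        have h5 : (b : H) * ((b : H)⁻¹ * (e * b * e⁻¹)) * (e * a * e⁻¹)⁻¹ = e * ((b : H) * (a : H)⁻¹) * e⁻¹ := by
          group
        exact h4.symm.trans (h3.trans h5)
      calc (b : H) * (a : H)⁻¹ * e = e * ((b : H) * (a : H)⁻¹) * e⁻¹ * e := by rw [← h2]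
        _ = e * ((b : H) * (a : H)⁻¹) := by group
    rw [h, Subgroup.mem_bot] at h1
    have : (b : H) = a := mul_inv_eq_one.mp h1
    exact Subtype.ext this.symm
  have hsurj : Function.Surjective f := Finite.surjective_of_injective hinj
  obtain ⟨n, hn⟩ := hsurj ⟨m, hm⟩
  have hn' : (n : H)⁻¹ * (e * n * e⁻¹) = m := congrArg Subtype.val hn
  rw [← hn', heinv]
  have h6 : e * ((n : H)⁻¹ * (e * n * e)) * e = e * (n : H)⁻¹ * e * n * (e * e) := by group
  have h7 : ((n : H)⁻¹ * (e * n * e))⁻¹ = e⁻¹ * (n : H)⁻¹ * e⁻¹ * n := by group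
  rw [h6, h7, he, heinv, mul_one]

/-- Frobenius complements of even order: if H complements a nontrivial normal subgroup K, each nonidentity element of H has trivial centraliser in K, and H has even order, then H contains a unique involution s, K is abelian, and s inverts every element of K. -/
theorem result {G : Type*} [Group G] [Finite G] (K H : Subgroup G) [K.Normal]
    (hc : Subgroup.IsComplement' K H) (hK : K ≠ ⊥) (hfpf : ∀ h ∈ H, h ≠ 1 → K ⊓ Subgroup.centralizer {h} = ⊥)
    (heven : 2 ∣ Nat.card H) :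
    (∃ s ∈ H, orderOf s = 2 ∧ (∀ t ∈ H, orderOf t = 2 → t = s) ∧ ∀ k ∈ K, s * k * s⁻¹ = k⁻¹) ∧ IsMulCommutative K := by
  have : Fact (Nat.Prime 2) := ⟨Nat.prime_two⟩
  obtain ⟨s', hs'⟩ := exists_prime_orderOf_dvd_card' 2 heven
  set s : G := (s' : G) with hs
  have hsH : s ∈ H := s'.2
  have hso : orderOf s = 2 := by rw [hs, Subgroup.orderOf_coe]; exact hs'
  have hinv : ∀ t ∈ H, orderOf t = 2 → ∀ k ∈ K, t * k * t⁻¹ = k⁻¹ := by
    intro t htH hto k hk
    have ht1 : t ≠ 1 := by
      rintro rfl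
      rw [orderOf_one] at hto
      omega
    have htt : t * t = 1 := by
      have := pow_orderOf_eq_one t
      rwa [hto, pow_two] at this
    exact conj_eq_inv_of_fpf t htt K (hfpf t htH ht1) k hk
  have hs_inv := hinv s hsH hso
  have hss : s * s = 1 := by
    have := pow_orderOf_eq_one s
    rwa [hso, pow_two] at this
  refine ⟨⟨s, hsH, hso, ?_, hs_inv⟩, ?_⟩
  · intro t htH hto
    have htt : t * t = 1 := by
      have := pow_orderOf_eq_one t
      rwa [hto, pow_two] at this
    have ht_inv := hinv t htH hto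
    by_contra hne
    have hts : t * s ≠ 1 := by
      intro h
      apply hne
      have h1 : t = s⁻¹ := eq_inv_of_mul_eq_one_left h
      rw [h1, inv_eq_of_mul_eq_one_right hss]
    have hbot := hfpf (t * s) (mul_mem htH hsH) hts
    apply hK
    rw [eq_bot_iff, ← hbot]
    intro k hk
    refine ⟨hk, ?_⟩
    change k ∈ Subgroup.centralizer {t * s}
    rw [Subgroup.mem_centralizer_singleton_iff]
    -- (t s) k (t s)⁻¹ = k
    have h1 : t * s * k * (t * s)⁻¹ = k := by
      have e1 : t * s * k * (t * s)⁻¹ = t * (s * k * s⁻¹) * t⁻¹ := by group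
      rw [e1, hs_inv k hk, ht_inv k⁻¹ (inv_mem hk), inv_inv]
    calc k * (t * s) = t * s * k * (t * s)⁻¹ * (t * s) := by rw [h1]
      _ = t * s * k := by group
  · refine ⟨⟨fun a b => ?_⟩⟩
    apply Subtype.ext
    simp only [Subgroup.coe_mul]
    have ha := hs_inv a a.2
    have hb := hs_inv b b.2
    have hab := hs_inv (a * b) (mul_mem a.2 b.2)
    have e1 : s * ((a : G) * b) * s⁻¹ = (s * a * s⁻¹) * (s * b * s⁻¹) := by group
    rw [e1, ha, hb, mul_inv_rev] at hab
    -- hab : a⁻¹ * b⁻¹ = b⁻¹ * a⁻¹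
    have := congrArg (fun x => x⁻¹) hab
    simpa using this.symm

end Cfsg.Agent.S0068
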