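import Cfsg.Statements.S0073
import Cfsg.Agent.Helper2.Automizer

set_option autoImplicit false
open Cfsg

namespace Cfsg.Agent.S0073

/-- For a finite non-abelian simple group, either the cube of the least prime divisor of the order divides the order, or 12 does. -/
theorem result {G : Type*} [Group G] [Finite G] [IsSimpleGroup G] (hG : ∃ x y : G, x * y ≠ y * x) : (Nat.card G).minFac ^ 3 ∣ Nat.card G ∨ 12 ∣ Nat.card G := by
  classical
  by_contra hcon
  rw [not_or] at hcon
  obtain ⟨hcube, h12⟩ := hcon
  have hcard1 : Nat.card G ≠ 1 := by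
    intro h1
    have := (Nat.card_eq_one_iff_unique.mp h1).1
    obtain ⟨x, y, hxy⟩ := hG
    exact hxy (Subsingleton.elim _ _)
  set p := (Nat.card G).minFac with hp_def
  have hp : p.Prime := Nat.minFac_prime hcard1
  have : Fact p.Prime := ⟨hp⟩
  have hpG : p ∣ Nat.card G := Nat.minFac_dvd _
  obtain P : Sylow p G := default
  obtain ⟨k, hk⟩ := IsPGroup.iff_card.mp P.2
  have hk' : Nat.card (P : Subgroup G) = p ^ k := hk
  have hPdvd : p ^ k ∣ Nat.card G := hk' ▸ Subgroup.card_subgroup_dvd_card _
  have hk3 : k < 3 := by
    by_contra h3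
    exact hcube ((pow_dvd_pow p (not_lt.mp h3)).trans hPdvd)
  have hk1 : 1 ≤ k := by
    by_contra h0
    have hk0 : k = 0 := by omega
    have hne := P.ne_bot_of_dvd_card hpG
    rw [hk0, pow_zero] at hk'
    exact hne (Subgroup.card_eq_one.mp hk')
  -- P is commutative
  have hPcomm : IsMulCommutative (P : Subgroup G) := by
    interval_cases k
    · have hcyc : IsCyclic (P : Subgroup G) := isCyclic_of_prime_card (p := p) (by rw [hk', pow_one])
      exact IsCyclic.isMulCommutative
    · exact IsPGroup.isMulCommutative_of_card_eq_prime_sq hk'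
  -- arithmetic condition
  have hmin : ∀ q : ℕ, q.Prime → q ∣ Nat.card G → p ≤ q := fun q hq hqG =>
    Nat.minFac_le_of_dvd hq.two_le hqG
  have harith : ∀ q : ℕ, q.Prime → q ∣ Nat.card G → q ≠ p → ∀ j < k, ¬ q ∣ p ^ k - p ^ j := by
    intro q hq hqG hqp j hj hdvd
    have hpq : p < q := lt_of_le_of_ne (hmin q hq hqG) (Ne.symm hqp)
    have hq_ndvd_p : ¬ q ∣ p := fun h => hqp ((Nat.prime_dvd_prime_iff_eq hq hp).mp h)
    have hq_ndvd_pm1 : ¬ q ∣ p - 1 := by
      intro h
      have := Nat.le_of_dvd (Nat.sub_pos_of_lt hp.one_lt) h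
      omega
    -- p^k - p^j = p^j * (p^(k-j) - 1)
    have hfact : p ^ k - p ^ j = p ^ j * (p ^ (k - j) - 1) := by
      rw [Nat.mul_sub, mul_one, ← pow_add]
      congr 2
      omega
    rw [hfact] at hdvd
    rcases (Nat.Prime.dvd_mul hq).mp hdvd with h | h
    · exact hq_ndvd_p (hq.dvd_of_dvd_pow h)
    · -- k - j ∈ {1, 2}
      have hkj : k - j = 1 ∨ k - j = 2 := by omega
      rcases hkj with h1 | h2
      · rw [h1, pow_one] at h
        exact hq_ndvd_pm1 h
      · rw [h2] at h
        have key : ∀ n : ℕ, 1 ≤ n → n ^ 2 - 1 = (n - 1) * (n + 1) := by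
          intro n hn
          obtain ⟨m, rfl⟩ : ∃ m, n = m + 1 := ⟨n - 1, by omega⟩
          simp only [Nat.add_sub_cancel]
          ring_nf
          omega
        have hsq : p ^ 2 - 1 = (p - 1) * (p + 1) := key p hp.one_lt.le
        rw [hsq] at h
        rcases (Nat.Prime.dvd_mul hq).mp h with h' | h'
        · exact hq_ndvd_pm1 h'
        · -- q ∣ p + 1, q > p, so q = p + 1, p = 2, q = 3
          have hqle : q ≤ p + 1 := Nat.le_of_dvd (by omega) h'
          have hqeq : q = p + 1 := by omega
          have hp2 : p = 2 := by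
            rcases hp.eq_two_or_odd with h2 | hodd
            · exact h2
            · exfalso
              have hqeven : q % 2 = 0 := by omega
              have hq2 : q = 2 := by
                rcases hq.eq_two_or_odd with h | h
                · exact h
                · omega
              have := hp.two_le
              omega
          have hq3 : q = 3 := by omega
          -- k = 2 here so 4 ∣ |G| and 3 ∣ |G|
          have hk2 : k = 2 := by omega
          apply h12
          have h4 : 4 ∣ Nat.card G := by
            have := hPdvd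
            rw [hk2, hp2] at this
            exact this
          have h3 : 3 ∣ Nat.card G := hq3 ▸ hqG
          have hcop : Nat.Coprime 4 3 := by decide
          exact hcop.mul_dvd_of_dvd_of_dvd h4 h3
  have hNC := Cfsg.Agent.Helper2.normalizer_le_centralizer_of_arith P hPcomm k hk' harith
  have hcompl := MonoidHom.ker_transferSylow_isComplement' P hNC
  set K := (MonoidHom.transferSylow P hNC).ker with hK
  have hKn : K.Normal := inferInstance
  rcases hKn.eq_bot_or_eq_top with hbot | htop
  · -- then P = ⊤ and G is commutative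
    rw [hbot, Subgroup.isComplement'_bot_left] at hcompl
    obtain ⟨x, y, hxy⟩ := hG
    apply hxy
    have hx : x ∈ (P : Subgroup G) := by rw [hcompl]; trivial
    have hy : y ∈ (P : Subgroup G) := by rw [hcompl]; trivial
    have := mul_comm' (⟨x, hx⟩ : (P : Subgroup G)) ⟨y, hy⟩
    exact congrArg Subtype.val this
  · rw [htop, Subgroup.isComplement'_top_left] at hcompl
    exact P.ne_bot_of_dvd_card hpG hcompl

end Cfsg.Agent.S0073
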