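import Cfsg.Statements.S0076
import Cfsg.Agent.Helper2.Fusion

set_option autoImplicit false
open Cfsg

namespace Cfsg.Agent.S0076

theorem conj_image_mul {G : Type*} [Group G] (a b : G) (S : Set G) :
    (fun y => (a * b) * y * (a * b)⁻¹) '' S = (fun y => a * y * a⁻¹) '' ((fun y => b * y * b⁻¹) '' S) := by
  rw [Set.image_image]
  congr 1
  funext y
  simp [mul_assoc]

/-- Two P-invariant subsets of a Sylow p-subgroup P that are conjugate in G are conjugate under the normalizer of P. -/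
theorem result {G : Type*} [Group G] [Finite G] {p : ℕ} [Fact p.Prime] (P : Sylow p G) (X Y : Set G) (hXP : X ⊆ P) (hYP : Y ⊆ P) (hX : ∀ x ∈ P, (fun y => x * y * x⁻¹) '' X = X) (hY : ∀ x ∈ P, (fun y => x * y * x⁻¹) '' Y = Y) (g : G) (hg : (fun y => g * y * g⁻¹) '' X = Y) : ∃ n ∈ Subgroup.normalizer (P : Set G), (fun y => n * y * n⁻¹) '' X = Y := by
  have hmemK : ∀ w : G, w ∈ Subgroup.normalizer Y ↔ (fun y => w * y * w⁻¹) '' Y = Y := by
    intro w
    rw [Subgroup.mem_normalizer_iff_conj_image_eq]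
    rfl
  have h1 : (P : Subgroup G) ≤ Subgroup.normalizer Y := by
    intro x hx
    rw [hmemK]
    exact hY x hx
  have h2 : ((g • P : Sylow p G) : Subgroup G) ≤ Subgroup.normalizer Y := by
    intro w hw
    rw [Cfsg.Agent.Helper2.mem_smul_sylow_iff] at hw
    rw [hmemK]
    have e : w * g = g * (g⁻¹ * w * g) := by group
    calc (fun y => w * y * w⁻¹) '' Y
        = (fun y => w * y * w⁻¹) '' ((fun y => g * y * g⁻¹) '' X) := by rw [hg]
      _ = (fun y => (w * g) * y * (w * g)⁻¹) '' X := (conj_image_mul w g X).symm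
      _ = (fun y => (g * (g⁻¹ * w * g)) * y * (g * (g⁻¹ * w * g))⁻¹) '' X := by rw [e]
      _ = (fun y => g * y * g⁻¹) '' ((fun y => (g⁻¹ * w * g) * y * (g⁻¹ * w * g)⁻¹) '' X) :=
          conj_image_mul _ _ X
      _ = (fun y => g * y * g⁻¹) '' X := by rw [hX _ hw]
      _ = Y := hg
  obtain ⟨h, hhK, hn⟩ := Cfsg.Agent.Helper2.exists_mul_mem_normalizer P _ g h1 h2
  refine ⟨h * g, hn, ?_⟩
  rw [conj_image_mul, hg]
  exact (hmemK h).mp hhK

end Cfsg.Agent.S0076
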