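import Cfsg.Statements.S0079
import Cfsg.Agent.S0071
import Cfsg.Agent.S0087

set_option autoImplicit false
open Cfsg

namespace Cfsg.Agent.S0079

open scoped commutatorElement Pointwise

/-- If `H` is nilpotent and controls its own fusion in `G`, then a `p'`-element normalizing a
`p`-subgroup `Q ≤ H` centralizes it. -/
theorem mem_centralizer_of_no_fusion {G : Type*} [Group G] [Finite G] (H : Subgroup G)
    (hH : Group.IsNilpotent H)
    (hfus : ∀ x ∈ H, ∀ y ∈ H, (∃ g : G, g * x * g⁻¹ = y) → ∃ h ∈ H, h * x * h⁻¹ = y)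
    {p : ℕ} [hp : Fact p.Prime] (Q : Subgroup G) (hQH : Q ≤ H) (hQp : IsPGroup p Q)
    (g : G) (hg : g ∈ Subgroup.normalizer (Q : Set G)) (hgp : Nat.Coprime (orderOf g) p) :
    g ∈ Subgroup.centralizer (Q : Set G) := by
  have key : ∀ (i : ℕ) (x : G) (hx : x ∈ Q),
      (⟨x, hQH hx⟩ : H) ∈ Subgroup.upperCentralSeries H i → g * x * g⁻¹ = x := by
    intro i
    induction i with
    | zero =>
      intro x hx hxi
      rw [Subgroup.upperCentralSeries_zero, Subgroup.mem_bot] at hxi
      have : x = 1 := congrArg Subtype.val hxi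
      rw [this]; group
    | succ i ih =>
      intro x hx hxi
      have hx' : g * x * g⁻¹ ∈ Q := (Subgroup.mem_normalizer_iff.mp hg x).mp hx
      obtain ⟨h, hh, hhx⟩ := hfus x (hQH hx) (g * x * g⁻¹) (hQH hx') ⟨g, rfl⟩
      set y : G := g * x * g⁻¹ * x⁻¹ with hy
      have hyQ : y ∈ Q := mul_mem hx' (inv_mem hx)
      have hyi : (⟨y, hQH hyQ⟩ : H) ∈ Subgroup.upperCentralSeries H i := by
        rw [Subgroup.mem_upperCentralSeries_succ_iff] at hxi
        have h1 := inv_mem (hxi ⟨h, hh⟩)
        have h2 : (⟨y, hQH hyQ⟩ : H) = ⁅(⟨x, hQH hx⟩ : H), ⟨h, hh⟩⁆⁻¹ := by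
          apply Subtype.ext
          rw [commutatorElement_def]
          show y = (x * h * x⁻¹ * h⁻¹)⁻¹
          rw [hy, ← hhx]; group
        rw [h2]; exact h1
      have hgy : g * y * g⁻¹ = y := ih y hyQ hyi
      have hpow : ∀ n : ℕ, g ^ n * x * (g ^ n)⁻¹ = y ^ n * x := by
        intro n
        induction n with
        | zero => simp
        | succ n ihn =>
          have hgyn : g * y ^ n * g⁻¹ = y ^ n := by
            have : g * y ^ n * g⁻¹ = (g * y * g⁻¹) ^ n := by
              rw [conj_pow]
            rw [this, hgy]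
          calc g ^ (n + 1) * x * (g ^ (n + 1))⁻¹
              = g * (g ^ n * x * (g ^ n)⁻¹) * g⁻¹ := by rw [pow_succ']; group
            _ = g * (y ^ n * x) * g⁻¹ := by rw [ihn]
            _ = (g * y ^ n * g⁻¹) * (g * x * g⁻¹) := by group
            _ = y ^ n * (y * x) := by rw [hgyn]; congr 1; rw [hy]; group
            _ = y ^ (n + 1) * x := by rw [pow_succ]; group
      have h1 := hpow (orderOf g)
      rw [pow_orderOf_eq_one, one_mul, inv_one, mul_one] at h1
      have h2 : y ^ orderOf g = 1 := by
        have : y ^ orderOf g * x = 1 * x := by rw [← h1, one_mul]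
        exact mul_right_cancel this
      have h3 : orderOf y ∣ orderOf g := orderOf_dvd_of_pow_eq_one h2
      obtain ⟨k, hk⟩ := (IsPGroup.iff_orderOf.mp hQp) ⟨y, hyQ⟩
      rw [Subgroup.orderOf_mk] at hk
      have h4 : (orderOf y).Coprime (orderOf y) := by
        have : (orderOf g).Coprime (orderOf y) := by
          rw [hk]; exact Nat.Coprime.pow_right k hgp
        exact Nat.Coprime.coprime_dvd_left h3 this
      have h5 : orderOf y = 1 := (Nat.coprime_self _).mp h4
      have h6 : y = 1 := orderOf_eq_one_iff.mp h5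
      have : g * x * g⁻¹ = y * x := by rw [hy]; group
      rw [this, h6, one_mul]
  obtain ⟨c, hc⟩ := Group.IsNilpotent.nilpotent H
  rw [Subgroup.mem_centralizer_iff]
  intro x hx
  have h1 := key c x hx (by rw [hc]; exact Subgroup.mem_top _)
  calc x * g = (g * x * g⁻¹) * g := by rw [h1]
    _ = g * x := by group

/-- `(A ⊓ B).index ∣ A.index * B.index` for `B` normal. -/
theorem index_inf_dvd {G : Type*} [Group G] (A B : Subgroup G) [B.Normal] :
    (A ⊓ B).index ∣ A.index * B.index := by
  rw [← Subgroup.relIndex_mul_index (inf_le_left : A ⊓ B ≤ A), Subgroup.inf_relIndex_left,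
    mul_comm]
  exact Nat.mul_dvd_mul_left _ (Subgroup.relIndex_dvd_index_of_normal B A)

/-- A nilpotent Hall subgroup has a normal complement exactly when elements of it that are conjugate in the whole group are already conjugate inside it. -/
theorem result {G : Type*} [Group G] [Finite G] (H : Subgroup G) (hH : Group.IsNilpotent H) (hHall : Nat.Coprime (Nat.card H) H.index) : (∃ N : Subgroup G, N.Normal ∧ N.IsComplement' H) ↔ ∀ x ∈ H, ∀ y ∈ H, (∃ g : G, g * x * g⁻¹ = y) → ∃ h ∈ H, h * x * h⁻¹ = y := by
  classical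
  constructor
  · rintro ⟨N, hNn, hNc⟩ x hx y hy ⟨g, hg⟩
    have hmul := Subgroup.IsComplement.mul_eq (Subgroup.IsComplement'.symm hNc)
    have hgm : g ∈ (H : Set G) * (N : Set G) := by rw [hmul]; exact Set.mem_univ _
    obtain ⟨h, hh, n, hn, rfl⟩ := Set.mem_mul.mp hgm
    refine ⟨h, hh, ?_⟩
    have hx' : h * x * h⁻¹ ∈ H := mul_mem (mul_mem hh hx) (inv_mem hh)
    have h1 : y * (h * x * h⁻¹)⁻¹ ∈ N := by
      have hn' : h * n * h⁻¹ ∈ N := hNn.conj_mem n hn h
      have hn'' : (h * x * h⁻¹) * (h * n * h⁻¹)⁻¹ * (h * x * h⁻¹)⁻¹ ∈ N :=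
        hNn.conj_mem _ (inv_mem hn') _
      have : y * (h * x * h⁻¹)⁻¹ =
          (h * n * h⁻¹) * ((h * x * h⁻¹) * (h * n * h⁻¹)⁻¹ * (h * x * h⁻¹)⁻¹) := by
        rw [← hg]; group
      rw [this]
      exact mul_mem hn' hn''
    have h2 : y * (h * x * h⁻¹)⁻¹ ∈ N ⊓ H :=
      Subgroup.mem_inf.mpr ⟨h1, mul_mem hy (inv_mem hx')⟩
    rw [disjoint_iff.mp hNc.disjoint, Subgroup.mem_bot] at h2
    exact (mul_inv_eq_one.mp h2).symm
  · intro hfus
    have hHne : Nat.card H ≠ 0 := Nat.card_pos.ne'
    -- normal p-complements for every prime dividing |H|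
    have hex : ∀ p : ℕ, p ∈ (Nat.card H).primeFactors → ∃ N : Subgroup G, N.Normal ∧
        (Nat.card N).Coprime p ∧ N.index = p ^ (Nat.card H).factorization p := by
      intro p hp
      have hpp : p.Prime := Nat.prime_of_mem_primeFactors hp
      have hpd : p ∣ Nat.card H := Nat.dvd_of_mem_primeFactors hp
      have : Fact p.Prime := ⟨hpp⟩
      obtain ⟨P, hPH⟩ := Cfsg.Agent.S0087.exists_sylow_le_of_hall H hHall p hpd
      have hcond : ∀ Q : Subgroup G, Q ≤ (P : Subgroup G) →
          ∀ g ∈ Subgroup.normalizer (Q : Set G), Nat.Coprime (orderOf g) p →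
          g ∈ Subgroup.centralizer (Q : Set G) := by
        intro Q hQP g hg hgp
        exact mem_centralizer_of_no_fusion H hH hfus Q (hQP.trans hPH) (P.2.to_le hQP) g hg hgp
      obtain ⟨N, hNn, hNc⟩ := (Cfsg.Agent.S0071.result P).mpr hcond
      refine ⟨N, hNn, ?_, ?_⟩
      · rw [← Subgroup.IsComplement'.index_eq_card hNc]
        exact ((Nat.Prime.coprime_iff_not_dvd hpp).mpr P.not_dvd_index).symm
      · rw [Subgroup.IsComplement'.index_eq_card (Subgroup.IsComplement'.symm hNc),
          Sylow.card_eq_multiplicity]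
        congr 1
        have hpi : ¬ p ∣ H.index := by
          intro h
          have := Nat.dvd_gcd hpd h
          rw [hHall] at this
          exact hpp.one_lt.ne' (Nat.dvd_one.mp this)
        have hidx : H.index ≠ 0 := Subgroup.index_ne_zero_of_finite
        rw [← H.card_mul_index, Nat.factorization_mul hHne hidx]
        simp [Nat.factorization_eq_zero_of_not_dvd hpi]
    choose! Nf hNf using hex
    -- intersections over finite sets of primes
    have hind : ∀ s : Finset ℕ, s ⊆ (Nat.card H).primeFactors →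
        (⨅ p ∈ s, Nf p).Normal ∧
        (⨅ p ∈ s, Nf p).index ∣ ∏ p ∈ s, p ^ (Nat.card H).factorization p := by
      intro s
      induction s using Finset.induction_on with
      | empty =>
        intro _
        simp only [Finset.notMem_empty, iInf_false, iInf_top, Finset.prod_empty]
        exact ⟨inferInstance, by simp⟩
      | insert q s hqs ih =>
        intro hsub
        obtain ⟨hn, hd⟩ := ih ((Finset.subset_insert q s).trans hsub)
        have hq := hNf q (hsub (Finset.mem_insert_self q s))
        have hqn : (Nf q).Normal := hq.1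
        rw [Finset.iInf_insert, Finset.prod_insert hqs]
        refine ⟨inferInstance, ?_⟩
        refine (index_inf_dvd (Nf q) (⨅ p ∈ s, Nf p)).trans ?_
        rw [hq.2.2]
        exact Nat.mul_dvd_mul_left _ hd
    obtain ⟨hNn, hNd⟩ := hind (Nat.card H).primeFactors (subset_refl _)
    set N : Subgroup G := ⨅ p ∈ (Nat.card H).primeFactors, Nf p with hN
    have hprod : ∏ p ∈ (Nat.card H).primeFactors, p ^ (Nat.card H).factorization p = Nat.card H := by
      have := Nat.prod_factorization_pow_eq_self hHne
      rw [Finsupp.prod, Nat.support_factorization] at this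
      exact this
    rw [hprod] at hNd
    -- |N| is coprime to |H|
    have hcop : (Nat.card N).Coprime (Nat.card H) := by
      by_contra hnot
      obtain ⟨q, hq, hqN, hqH⟩ := Nat.Prime.not_coprime_iff_dvd.mp hnot
      have hqm : q ∈ (Nat.card H).primeFactors := Nat.mem_primeFactors.mpr ⟨hq, hqH, hHne⟩
      have hle : N ≤ Nf q := iInf₂_le q hqm
      have h1 : q ∣ Nat.card (Nf q) := hqN.trans (Subgroup.card_dvd_of_le hle)
      have h2 := (hNf q hqm).2.1
      have := Nat.dvd_gcd h1 (dvd_refl q)
      rw [h2] at this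
      exact hq.one_lt.ne' (Nat.dvd_one.mp this)
    refine ⟨N, hNn, ?_⟩
    apply Subgroup.isComplement'_of_coprime _ hcop
    -- counting
    have h1 := N.card_mul_index
    have h2 := H.card_mul_index
    have h3 : Nat.card N ∣ H.index := by
      apply Nat.Coprime.dvd_of_dvd_mul_left hcop
      rw [h2]; exact Subgroup.card_subgroup_dvd_card N
    obtain ⟨t, ht⟩ := hNd
    obtain ⟨u, hu⟩ := h3
    have hpos : 0 < Nat.card N * N.index := by rw [h1]; exact Nat.card_pos
    have h4 : Nat.card N * N.index = (Nat.card N * N.index) * (t * u) := by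
      calc Nat.card N * N.index = Nat.card H * H.index := by rw [h1, h2]
        _ = (N.index * t) * (Nat.card N * u) := by rw [← ht, ← hu]
        _ = (Nat.card N * N.index) * (t * u) := by ring
    have h5 : t * u = 1 := by
      have : (Nat.card N * N.index) * 1 = (Nat.card N * N.index) * (t * u) := by
        rw [mul_one]; exact h4
      exact (Nat.eq_of_mul_eq_mul_left hpos this).symm
    have ht1 : t = 1 := Nat.eq_one_of_mul_eq_one_right h5
    rw [ht, ht1, mul_one]
    exact h1

end Cfsg.Agent.S0079
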