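import Cfsg.Statements.S0080

set_option autoImplicit false
open Cfsg

namespace Cfsg.Agent.S0080

open scoped IsMulCommutative

/-- When the index of H is prime to the order of H/H', the focal subgroup of H is G' ∩ H, and H/(G' ∩ H) has a normal complement. -/
theorem result {G : Type*} [Group G] [Finite G] (H : Subgroup G) (h : Nat.Coprime H.index (⁅H, H⁆.relIndex H)) : Subgroup.focalSubgroup H = commutator G ⊓ H ∧ ∃ N : Subgroup G, N.Normal ∧ N ⊓ H = commutator G ⊓ H ∧ N ⊔ H = ⊤ := by
  -- cardinality of the quotient H / H*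
  have hcardQ : Nat.card (H ⧸ H.focalSubgroupOf) = (Subgroup.focalSubgroup H).relIndex H := by
    rw [← Subgroup.index_eq_card]; rfl
  have hdvd : (Subgroup.focalSubgroup H).relIndex H ∣ ⁅H, H⁆.relIndex H :=
    Subgroup.relIndex_dvd_of_le_left H H.commutator_le_focalSubgroup
  have hcop : (Nat.card (H ⧸ H.focalSubgroupOf)).Coprime H.index := by
    rw [hcardQ]
    exact (Nat.Coprime.coprime_dvd_right hdvd h).symm
  have hbij : Function.Bijective (fun y : H ⧸ H.focalSubgroupOf => y ^ H.index) :=
    (powCoprime hcop).bijective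
  -- kernel of the transfer meets H in the focal subgroup
  have hker : H.transferFocal.ker ⊓ H = H.focalSubgroup := by
    ext x
    rw [Subgroup.mem_inf]
    constructor
    · rintro ⟨hxk, hxH⟩
      rw [MonoidHom.mem_ker] at hxk
      have h1 := H.transferFocal_eq_pow ⟨x, hxH⟩
      simp only at h1
      rw [hxk] at h1
      have h2 : ((⟨x, hxH⟩ : H) : H ⧸ H.focalSubgroupOf) = 1 := by
        apply hbij.1
        simp only [one_pow]
        exact h1.symm
      rw [QuotientGroup.eq_one_iff, Subgroup.focalSubgroupOf_def, Subgroup.mem_subgroupOf] at h2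
      exact h2
    · intro hx
      have hxH : x ∈ H := H.focalSubgroup_le hx
      refine ⟨?_, hxH⟩
      rw [MonoidHom.mem_ker]
      have h1 := H.transferFocal_eq_pow ⟨x, hxH⟩
      simp only at h1
      have h2 : ((⟨x, hxH⟩ : H) : H ⧸ H.focalSubgroupOf) = 1 := by
        rw [QuotientGroup.eq_one_iff, Subgroup.focalSubgroupOf_def, Subgroup.mem_subgroupOf]
        exact hx
      rw [h2, one_pow] at h1
      exact h1
  have hcomm_le : commutator G ≤ H.transferFocal.ker :=
    Abelianization.commutator_subset_ker H.transferFocal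
  have hfoc : Subgroup.focalSubgroup H = commutator G ⊓ H := by
    apply le_antisymm
    · exact le_inf H.focalSubgroup_le_commutator H.focalSubgroup_le
    · rw [← hker]
      exact inf_le_inf_right _ hcomm_le
  refine ⟨hfoc, H.transferFocal.ker, inferInstance, ?_, ?_⟩
  · rw [hker, hfoc]
  · rw [eq_top_iff]
    intro g _
    obtain ⟨y, hy⟩ := hbij.2 (H.transferFocal g)
    obtain ⟨y, rfl⟩ := QuotientGroup.mk'_surjective _ y
    simp only [QuotientGroup.mk'_apply] at hy
    have h1 := H.transferFocal_eq_pow y
    have h2 : H.transferFocal (g * (y : G)⁻¹) = 1 := by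
      rw [map_mul, map_inv, h1, hy, mul_inv_cancel]
    have : g = (g * (y : G)⁻¹) * (y : G) := by group
    rw [this]
    exact Subgroup.mul_mem_sup (MonoidHom.mem_ker.mpr h2) y.2

end Cfsg.Agent.S0080
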