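import Cfsg.Statements.S0084
import Cfsg.Agent.Helper2.PComplement
import Cfsg.Agent.Helper2.Automizer

set_option autoImplicit false
open Cfsg

namespace Cfsg.Agent.S0084

/-- A group whose Sylow 2-subgroups are Klein four-groups and whose order is prime to 3 has a normal 2-complement. -/
theorem result {G : Type*} [Group G] [Finite G] (T : Sylow 2 G) (hT : IsKleinFour T) (h3 : ¬ 3 ∣ Nat.card G) : Cfsg.HasNormalPComplement 2 G := by
  apply Cfsg.Agent.Helper2.hasNormalPComplement_of_normalizer_le_centralizer T
  apply Cfsg.Agent.Helper2.normalizer_le_centralizer_of_arith T IsKleinFour.isMulCommutative 2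
  · rw [IsKleinFour.card_four]; norm_num
  · intro q hq hqG hq2 j hj hdvd
    interval_cases j
    · have h : q ∣ 3 := by simpa using hdvd
      have : q = 3 := (Nat.prime_dvd_prime_iff_eq hq Nat.prime_three).mp h
      exact h3 (this ▸ hqG)
    · have h : q ∣ 2 := by simpa using hdvd
      exact hq2 ((Nat.prime_dvd_prime_iff_eq hq Nat.prime_two).mp h)

end Cfsg.Agent.S0084
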