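import Cfsg.Statements.S0090
import Cfsg.Agent.Helper2.NormMap
import Cfsg.Agent.S0088

set_option autoImplicit false
open Cfsg

namespace Cfsg.Agent.S0090

open scoped commutatorElement IsMulCommutative

/-- If `x ∈ A`, `x ^ n ∈ K` with `n` coprime to `|A|`, then `x ∈ K`. -/
theorem mem_of_pow_mem_of_coprime {G : Type*} [Group G] [Finite G] (A K : Subgroup G) (n : ℕ)
    (hn : Nat.Coprime (Nat.card A) n) (x : G) (hx : x ∈ A) (hxn : x ^ n ∈ K) : x ∈ K := by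
  have h1 : orderOf x ∣ Nat.card A := Subgroup.orderOf_dvd_natCard A hx
  have h2 : n.Coprime (orderOf x) := (Nat.Coprime.coprime_dvd_left h1 hn).symm
  obtain ⟨m, hm⟩ := exists_pow_eq_self_of_coprime h2
  rw [← hm]
  exact Subgroup.pow_mem K hxn m

/-- The core of the statement, with all three parts. -/
theorem core {G : Type*} [Group G] [Finite G] (A : Subgroup G) [A.Normal] (hc : IsMulCommutative A) (hHall : Nat.Coprime (Nat.card A) A.index) : ⁅A, (⊤ : Subgroup G)⁆ = commutator G ⊓ A ∧ (commutator G ⊓ A) ⊓ (Subgroup.center G ⊓ A) = ⊥ ∧ (commutator G ⊓ A) ⊔ (Subgroup.center G ⊓ A) = A := by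
  have hAG_le : ⁅A, (⊤ : Subgroup G)⁆ ≤ commutator G ⊓ A := by
    refine le_inf ?_ (Subgroup.commutator_le_left A ⊤)
    rw [commutator_def]
    exact Subgroup.commutator_mono le_top le_rfl
  have h88 := Cfsg.Agent.S0088.result A hc hHall
  -- for a ∈ A: a ^ n = d * ν(a) with d ∈ [A,G], ν(a) ∈ Z(G) ∩ A
  have hdecomp : ∀ a : A, ∃ d ∈ ⁅A, (⊤ : Subgroup G)⁆, ∃ z ∈ Subgroup.center G ⊓ A,
      (a : G) ^ A.index = d * z := by
    intro a
    refine ⟨_, Cfsg.Agent.Helper2.pow_index_mul_inv_normMap_mem A a, (Cfsg.Agent.Helper2.normMap A a : G),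
      ⟨Cfsg.Agent.Helper2.normMap_mem_center A a, (Cfsg.Agent.Helper2.normMap A a).2⟩, ?_⟩
    simp
  refine ⟨?_, ?_, ?_⟩
  · apply le_antisymm hAG_le
    rintro x ⟨hxC, hxA⟩
    obtain ⟨d, hd, z, hz, hxdz⟩ := hdecomp ⟨x, hxA⟩
    simp only at hxdz
    -- z = d⁻¹ * x^n ∈ G' ∩ Z(G) ∩ A = ⊥
    have hzC : z ∈ commutator G := by
      have : z = d⁻¹ * x ^ A.index := by rw [hxdz]; group
      rw [this]
      exact mul_mem (inv_mem (hAG_le hd).1) (Subgroup.pow_mem _ hxC _)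
    have hz1 : z ∈ A ⊓ commutator G ⊓ Subgroup.center G := ⟨⟨hz.2, hzC⟩, hz.1⟩
    rw [h88, Subgroup.mem_bot] at hz1
    rw [hz1, mul_one] at hxdz
    apply mem_of_pow_mem_of_coprime A _ A.index hHall x hxA
    rw [hxdz]; exact hd
  · rw [eq_bot_iff, ← h88]
    rintro x ⟨⟨hxC, hxA⟩, ⟨hxZ, -⟩⟩
    exact ⟨⟨hxA, hxC⟩, hxZ⟩
  · apply le_antisymm (sup_le inf_le_right inf_le_right)
    intro x hxA
    obtain ⟨d, hd, z, hz, hxdz⟩ := hdecomp ⟨x, hxA⟩
    simp only at hxdz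
    apply mem_of_pow_mem_of_coprime A _ A.index hHall x hxA
    rw [hxdz]
    exact Subgroup.mul_mem_sup (hAG_le hd) hz

/-- An abelian normal Hall subgroup A splits as the internal direct product of G' ∩ A and Z(G) ∩ A, and [A, G] = G' ∩ A. -/
theorem result {G : Type*} [Group G] [Finite G] (A : Subgroup G) [A.Normal] (hc : IsMulCommutative A) (hHall : Nat.Coprime (Nat.card A) A.index) : ⁅A, (⊤ : Subgroup G)⁆ = commutator G ⊓ A ∧ (commutator G ⊓ A) ⊓ (Subgroup.center G ⊓ A) = ⊥ ∧ (commutator G ⊓ A) ⊔ (Subgroup.center G ⊓ A) = A :=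
  core A hc hHall

end Cfsg.Agent.S0090
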