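import Cfsg.Statements.S0091

set_option autoImplicit false
open Cfsg

namespace Cfsg.Agent.S0091

open scoped commutatorElement

/-- If a nontrivial Sylow p-subgroup controls its own fusion then it is not contained in the derived subgroup. -/
theorem result {G : Type*} [Group G] [Finite G] {p : ℕ} [Fact p.Prime] (P : Sylow p G) (hp : p ∣ Nat.card G) (h : ∀ x ∈ P, ∀ y ∈ P, (∃ g : G, g * x * g⁻¹ = y) → ∃ z ∈ P, z * x * z⁻¹ = y) : ¬ (P : Subgroup G) ≤ commutator G := by
  intro hle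
  have hfoc : commutator G ⊓ (P : Subgroup G) = (P : Subgroup G).focalSubgroup :=
    Subgroup.commutator_inf_eq_focalSubgroup P
  have h1 : (P : Subgroup G).focalSubgroup ≤ ⁅(P : Subgroup G), (P : Subgroup G)⁆ := by
    rw [Subgroup.focalSubgroup_def, Subgroup.closure_le]
    rintro g ⟨hgP, x, hxP, u, rfl⟩
    -- ⁅x,u⁆ = x * u * x⁻¹ * u⁻¹ ∈ P, so u * x⁻¹ * u⁻¹ ∈ P
    have hxi : x⁻¹ ∈ (P : Subgroup G) := inv_mem hxP
    have hconj : u * x⁻¹ * u⁻¹ ∈ (P : Subgroup G) := by
      have : u * x⁻¹ * u⁻¹ = x⁻¹ * ⁅x, u⁆ := by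
        rw [commutatorElement_def]; group
      rw [this]
      exact mul_mem hxi hgP
    obtain ⟨z, hzP, hz⟩ := h x⁻¹ hxi (u * x⁻¹ * u⁻¹) hconj ⟨u, rfl⟩
    have : ⁅x, u⁆ = ⁅x, z⁆ := by
      rw [commutatorElement_def, commutatorElement_def, mul_assoc x u, mul_assoc x (u * x⁻¹),
        mul_assoc x z, mul_assoc x (z * x⁻¹), hz]
    rw [this]
    exact Subgroup.commutator_mem_commutator hxP hzP
  have h2 : (P : Subgroup G) ≤ ⁅(P : Subgroup G), (P : Subgroup G)⁆ := by
    calc (P : Subgroup G) = commutator G ⊓ (P : Subgroup G) := (inf_eq_right.mpr hle).symm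
      _ = (P : Subgroup G).focalSubgroup := hfoc
      _ ≤ _ := h1
  have hne : (P : Subgroup G) ≠ ⊥ := P.ne_bot_of_dvd_card hp
  have : Nontrivial (P : Subgroup G) := (Subgroup.nontrivial_iff_ne_bot _).mpr hne
  have : Group.IsNilpotent (P : Subgroup G) := P.2.isNilpotent
  have h3 := Group.IsSolvable.commutator_lt_top_of_nontrivial (P : Subgroup G)
  have h4 : commutator (P : Subgroup G) = ⊤ := by
    rw [eq_top_iff, ← Subgroup.map_subtype_le_map_subtype, Subgroup.map_subtype_commutator,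
      ← MonoidHom.range_eq_map, Subgroup.range_subtype]
    exact h2
  exact h3.ne h4

end Cfsg.Agent.S0091
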