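import Cfsg.Statements.S0092
import Cfsg.Agent.Helper2.SubSZ
import Cfsg.Agent.Helper2.AbelianSylow
import Cfsg.Agent.Helper2.Residual
import Cfsg.Agent.S0075
import Cfsg.Agent.Helper1.CoprimeSylow

set_option autoImplicit false
open Cfsg

namespace Cfsg.Agent.S0092

open scoped Pointwise

/-- The splitting lemma: if `R ⊴ G` has `p`-power index, `Q` is an abelian Sylow `p`-subgroup
of `R` with `Q ∩ C(N_R(Q)) = 1`, then `R` has a complement in `G`. -/
theorem exists_compl_aux {G : Type*} [Group G] [Finite G] {p : ℕ} [hp : Fact p.Prime]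
    (R : Subgroup G) [hRn : R.Normal] (hRidx : ∃ k, R.index = p ^ k)
    (Q : Subgroup G) (hQR : Q ≤ R) (hQp : ∃ a, Nat.card Q = p ^ a)
    (hQidx : (Q.relIndex R).Coprime p)
    (hQcomm : ∀ x ∈ Q, ∀ y ∈ Q, x * y = y * x)
    (hfrat : Subgroup.normalizer (Q : Set G) ⊔ R = ⊤)
    (hstar : ∀ q ∈ Q, (∀ n ∈ Subgroup.normalizer (Q : Set G) ⊓ R, n * q = q * n) → q = 1) :
    ∃ K : Subgroup G, K.IsComplement' R := by
  obtain ⟨k, hk⟩ := hRidx
  obtain ⟨a, ha⟩ := hQp
  set M : Subgroup G := Subgroup.normalizer (Q : Set G) with hM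
  set N₀ : Subgroup G := M ⊓ R with hN₀
  have hQM : Q ≤ M := Subgroup.le_normalizer
  have hQN₀ : Q ≤ N₀ := le_inf hQM hQR
  have hN₀n : N₀ ≤ Subgroup.normalizer (Q : Set G) := inf_le_left
  -- coprimality of |Q| and |N₀ : Q|
  have hrel : Q.relIndex N₀ ∣ Q.relIndex R := by
    have := Subgroup.relIndex_mul_relIndex Q N₀ R hQN₀ inf_le_right
    exact Dvd.intro _ this
  have hcop1 : (Nat.card Q).Coprime (Q.relIndex N₀) := by
    rw [ha]
    apply Nat.Coprime.pow_left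
    exact (Nat.Coprime.coprime_dvd_left hrel hQidx).symm
  -- Q is solvable
  have hQsolv : Group.IsSolvable Q := by
    have : IsMulCommutative Q := ⟨⟨fun x y => Subtype.ext (hQcomm x x.2 y y.2)⟩⟩
    let _ : CommGroup Q := { (inferInstance : Group Q) with mul_comm := fun x y => Subtype.ext (hQcomm x x.2 y y.2) }
    infer_instance
  -- a complement L of Q in N₀
  obtain ⟨L, hLN₀, hQL, hLprod, hLcard⟩ :=
    Cfsg.Agent.Helper2.exists_compl_of_coprime_relIndex Q N₀ hQN₀ hN₀n hcop1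
  set S : Subgroup G := M ⊓ Subgroup.normalizer (L : Set G) with hS
  have hLS : L ≤ S := le_inf (hLN₀.trans inf_le_left) Subgroup.le_normalizer
  -- Claim 1: M = Q S
  have hclaim1 : ∀ m ∈ M, ∃ q ∈ Q, ∃ s ∈ S, m = q * s := by
    intro m hm
    have hmn : ∀ x, x ∈ Q ↔ m * x * m⁻¹ ∈ Q := fun x => Subgroup.mem_normalizer_iff.mp hm x
    have hmn' : ∀ x, x ∈ Q ↔ m⁻¹ * x * m ∈ Q := by
      intro x
      have := Subgroup.mem_normalizer_iff.mp (inv_mem hm) x
      simpa using this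
    have hN₀conj : ∀ x, x ∈ N₀ → m * x * m⁻¹ ∈ N₀ := by
      intro x hx
      obtain ⟨hxM, hxR⟩ := Subgroup.mem_inf.mp hx
      exact Subgroup.mem_inf.mpr ⟨mul_mem (mul_mem hm hxM) (inv_mem hm), hRn.conj_mem x hxR m⟩
    have hN₀conj' : ∀ x, x ∈ N₀ → m⁻¹ * x * m ∈ N₀ := by
      intro x hx
      obtain ⟨hxM, hxR⟩ := Subgroup.mem_inf.mp hx
      refine Subgroup.mem_inf.mpr ⟨mul_mem (mul_mem (inv_mem hm) hxM) hm, ?_⟩
      have := hRn.conj_mem x hxR m⁻¹
      simpa using this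
    have h2B : MulAut.conj m • L ≤ N₀ := by
      intro x hx
      rw [Cfsg.Agent.Helper1.mem_conj_smul] at hx
      have := hN₀conj _ (hLN₀ hx)
      have e : m * (m⁻¹ * x * m) * m⁻¹ = x := by group
      rwa [e] at this
    have h2d : Q ⊓ MulAut.conj m • L = ⊥ := by
      rw [eq_bot_iff]
      intro x hx
      obtain ⟨hxQ, hxL⟩ := Subgroup.mem_inf.mp hx
      rw [Cfsg.Agent.Helper1.mem_conj_smul] at hxL
      have h1 : m⁻¹ * x * m ∈ Q ⊓ L := Subgroup.mem_inf.mpr ⟨(hmn' x).mp hxQ, hxL⟩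
      rw [hQL, Subgroup.mem_bot] at h1
      rw [Subgroup.mem_bot]
      have e : x = m * (m⁻¹ * x * m) * m⁻¹ := by group
      rw [e, h1]; group
    have h2p : ∀ b ∈ N₀, ∃ a ∈ Q, ∃ c ∈ MulAut.conj m • L, b = a * c := by
      intro b hb
      obtain ⟨a', ha', c', hc', hac⟩ := hLprod _ (hN₀conj' b hb)
      refine ⟨m * a' * m⁻¹, (hmn a').mp ha', m * c' * m⁻¹,
        Cfsg.Agent.Helper1.conj_mem_conj_smul hc', ?_⟩
      have e : b = m * (m⁻¹ * b * m) * m⁻¹ := by group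
      rw [e, hac]; group
    obtain ⟨b, hbN₀, hb⟩ := Cfsg.Agent.Helper2.exists_conj_of_compl Q N₀ L (MulAut.conj m • L)
      hQN₀ hN₀n hcop1 hQsolv hLN₀ hQL hLprod h2B h2d h2p
    -- b⁻¹ m normalizes L
    have hs : b⁻¹ * m ∈ S := by
      refine Subgroup.mem_inf.mpr ⟨mul_mem (inv_mem (inf_le_left (a := M) hbN₀)) hm, ?_⟩
      apply Cfsg.Agent.Helper1.mem_normalizer_of_conj_smul_eq
      rw [map_mul, mul_smul, ← hb, ← mul_smul, ← map_mul, inv_mul_cancel, map_one, one_smul]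
    obtain ⟨q, hq, l, hl, hbql⟩ := hLprod b hbN₀
    refine ⟨q, hq, l * (b⁻¹ * m), mul_mem (hLS hl) hs, ?_⟩
    rw [← mul_assoc, ← hbql]; group
  -- Claim 2: S ⊓ R = L
  have hclaim2 : S ⊓ R = L := by
    apply le_antisymm
    · intro x hx
      obtain ⟨hxS, hxR⟩ := Subgroup.mem_inf.mp hx
      obtain ⟨hxM, hxNL⟩ := Subgroup.mem_inf.mp hxS
      have hxN₀ : x ∈ N₀ := Subgroup.mem_inf.mpr ⟨hxM, hxR⟩
      obtain ⟨q, hq, l, hl, hxql⟩ := hLprod x hxN₀
      have hqNL : q ∈ Subgroup.normalizer (L : Set G) := by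
        have : q = x * l⁻¹ := by rw [hxql]; group
        rw [this]
        exact mul_mem hxNL (inv_mem (Subgroup.le_normalizer hl))
      have hq1 : q = 1 := by
        apply hstar q hq
        intro n hn
        obtain ⟨q', hq', l', hl', hn'⟩ := hLprod n hn
        -- q commutes with l'
        have hcl : l' * q = q * l' := by
          have h1 : q * l' * q⁻¹ * l'⁻¹ ∈ L :=
            mul_mem ((Subgroup.mem_normalizer_iff.mp hqNL l').mp hl') (inv_mem hl')
          have hl'n : l' ∈ Subgroup.normalizer (Q : Set G) := hN₀n (hLN₀ hl')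
          have h2 : q * l' * q⁻¹ * l'⁻¹ ∈ Q := by
            have : q * l' * q⁻¹ * l'⁻¹ = q * (l' * q⁻¹ * l'⁻¹) := by group
            rw [this]
            exact mul_mem hq ((Subgroup.mem_normalizer_iff.mp hl'n q⁻¹).mp (inv_mem hq))
          have h3 : q * l' * q⁻¹ * l'⁻¹ ∈ Q ⊓ L := Subgroup.mem_inf.mpr ⟨h2, h1⟩
          rw [hQL, Subgroup.mem_bot] at h3
          have : q * l' = l' * q := by
            calc q * l' = (q * l' * q⁻¹ * l'⁻¹) * (l' * q) := by group
              _ = l' * q := by rw [h3, one_mul]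
          exact this.symm
        rw [hn', mul_assoc, hcl, ← mul_assoc, hQcomm q' hq' q hq, mul_assoc]
      rw [hxql, hq1, one_mul]; exact hl
    · exact le_inf hLS (hLN₀.trans inf_le_right)
  -- second Schur–Zassenhaus: L is a normal Hall subgroup of S
  have hLp : (Nat.card L).Coprime p := by
    rw [hLcard]
    exact Nat.Coprime.coprime_dvd_left hrel hQidx
  have hLrel : L.relIndex S ∣ p ^ k := by
    rw [← hclaim2, Subgroup.inf_relIndex_left, ← hk]
    exact Subgroup.relIndex_dvd_index_of_normal R S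
  have hcop2 : (Nat.card L).Coprime (L.relIndex S) := by
    obtain ⟨j, -, hj⟩ := (Nat.dvd_prime_pow hp.out).mp hLrel
    rw [hj]
    exact Nat.Coprime.pow_right j hLp
  obtain ⟨K, hKS, hLK, hKprod, -⟩ :=
    Cfsg.Agent.Helper2.exists_compl_of_coprime_relIndex L S hLS inf_le_right hcop2
  refine ⟨K, ?_⟩
  apply Subgroup.isComplement'_of_disjoint_and_mul_eq_univ
  · rw [disjoint_iff, eq_bot_iff]
    intro x hx
    obtain ⟨hxK, hxR⟩ := Subgroup.mem_inf.mp hx
    have h1 : x ∈ S ⊓ R := Subgroup.mem_inf.mpr ⟨hKS hxK, hxR⟩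
    rw [hclaim2] at h1
    have h2 : x ∈ L ⊓ K := Subgroup.mem_inf.mpr ⟨h1, hxK⟩
    rwa [hLK] at h2
  · rw [Set.eq_univ_iff_forall]
    intro g
    have hg : g ∈ ((M ⊔ R : Subgroup G) : Set G) := by rw [hfrat]; exact Set.mem_univ _
    rw [Subgroup.mul_normal] at hg
    obtain ⟨m, hm, r, hr, rfl⟩ := Set.mem_mul.mp hg
    obtain ⟨q, hq, s, hs, rfl⟩ := hclaim1 m hm
    obtain ⟨l, hl, c, hc, rfl⟩ := hKprod s hs
    refine Set.mem_mul.mpr ⟨c, hc, c⁻¹ * (q * l) * c * r, ?_, by group⟩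
    have hqlR : q * l ∈ R := mul_mem (hQR hq) ((hLN₀.trans inf_le_right) hl)
    have := hRn.conj_mem _ hqlR c⁻¹
    rw [inv_inv] at this
    exact mul_mem this hr

/-- `O^p(O^p(G)) = O^p(G)`. -/
theorem pResidual_pResidual_eq_top {G : Type*} [Group G] (p : ℕ) :
    Cfsg.pResidual p (Cfsg.pResidual p G) = ⊤ := by
  have key : Cfsg.pResidual p G ≤
      (Cfsg.pResidual p (Cfsg.pResidual p G)).map (Cfsg.pResidual p G).subtype := by
    conv_lhs => rw [Cfsg.pResidual]
    rw [Subgroup.closure_le]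
    intro g hg
    have hgR : g ∈ Cfsg.pResidual p G := Cfsg.Agent.Lib.mem_pResidual_of_coprime hg
    refine Subgroup.mem_map.mpr ⟨⟨g, hgR⟩, ?_, rfl⟩
    apply Cfsg.Agent.Lib.mem_pResidual_of_coprime
    rw [Subgroup.orderOf_mk]
    exact hg
  rw [eq_top_iff]
  intro x _
  obtain ⟨y, hy, hyx⟩ := Subgroup.mem_map.mp (key x.2)
  have : y = x := Subtype.ext hyx
  rw [← this]; exact hy

/-- If the Sylow p-subgroups of O^p(G) are abelian then O^p(G) has a complement. -/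
theorem result {G : Type*} [Group G] [Finite G] {p : ℕ} [Fact p.Prime] (h : ∀ Q : Sylow p (Cfsg.pResidual p G), IsMulCommutative Q) : ∃ K : Subgroup G, K.IsComplement' (Cfsg.pResidual p G) := by
  have hp : p.Prime := Fact.out
  set R : Subgroup G := Cfsg.pResidual p G with hR
  have hRc : R.Characteristic := Cfsg.Agent.Lib.pResidual_characteristic p
  have hRn : R.Normal := Subgroup.normal_of_characteristic R
  obtain Q₀ : Sylow p R := default
  have hQ₀c : IsMulCommutative Q₀ := h Q₀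
  -- Q₀ ∩ C(N(Q₀)) = 1 inside R
  have hres : Cfsg.pResidual p R = ⊤ := pResidual_pResidual_eq_top p
  have h75 := Cfsg.Agent.S0075.result Q₀ hQ₀c
  rw [hres, inf_top_eq] at h75
  obtain ⟨hd1, hd2, -⟩ := Cfsg.Agent.Helper2.abelian_sylow_decomp Q₀ hQ₀c
  have hQ₀eq : ⁅Subgroup.normalizer ((Q₀ : Subgroup R) : Set R),
      Subgroup.normalizer ((Q₀ : Subgroup R) : Set R)⁆ ⊓ (Q₀ : Subgroup R) = (Q₀ : Subgroup R) := by
    rw [← hd1]; exact h75.symm
  rw [hQ₀eq] at hd2
  -- apply the splitting lemma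
  apply exists_compl_aux (p := p) R (Cfsg.Agent.Lib.index_pResidual p)
    ((Q₀ : Subgroup R).map R.subtype) (Subgroup.map_subtype_le _)
  · obtain ⟨a, ha⟩ := IsPGroup.exists_card_eq Q₀.2
    exact ⟨a, by rw [Subgroup.card_map_of_injective R.subtype_injective]; exact ha⟩
  · have h1 : ((Q₀ : Subgroup R).map R.subtype).relIndex R = (Q₀ : Subgroup R).index := by
      have h2 := Subgroup.relIndex_map_map_of_injective (Q₀ : Subgroup R) ⊤ R.subtype_injective
      rw [Subgroup.relIndex_top_right] at h2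
      rw [← h2]
      congr 1
      rw [← MonoidHom.range_eq_map, Subgroup.range_subtype]
    rw [h1]
    exact ((Nat.Prime.coprime_iff_not_dvd hp).mpr Q₀.not_dvd_index).symm
  · intro x hx y hy
    obtain ⟨x₀, hx₀, rfl⟩ := Subgroup.mem_map.mp hx
    obtain ⟨y₀, hy₀, rfl⟩ := Subgroup.mem_map.mp hy
    have := hQ₀c.is_comm.comm (⟨x₀, hx₀⟩ : Q₀) ⟨y₀, hy₀⟩
    have h2 : x₀ * y₀ = y₀ * x₀ := congrArg Subtype.val this
    rw [← map_mul, ← map_mul, h2]
  · exact Sylow.normalizer_sup_eq_top Q₀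
  · intro q hq hcomm
    obtain ⟨q₀, hq₀, rfl⟩ := Subgroup.mem_map.mp hq
    have hmem : q₀ ∈ (Q₀ : Subgroup R) ⊓ ((Q₀ : Subgroup R) ⊓
        Subgroup.centralizer (Subgroup.normalizer ((Q₀ : Subgroup R) : Set R) : Set R)) := by
      refine Subgroup.mem_inf.mpr ⟨hq₀, Subgroup.mem_inf.mpr ⟨hq₀, ?_⟩⟩
      rw [Subgroup.mem_centralizer_iff]
      intro n₀ hn₀
      have hn : (R.subtype n₀) ∈ Subgroup.normalizer
          (((Q₀ : Subgroup R).map R.subtype : Subgroup G) : Set G) :=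
        Subgroup.le_normalizer_map R.subtype (Subgroup.mem_map_of_mem _ hn₀)
      have := hcomm (R.subtype n₀) (Subgroup.mem_inf.mpr ⟨hn, n₀.2⟩)
      apply Subtype.ext
      exact this
    rw [hd2, Subgroup.mem_bot] at hmem
    rw [hmem, map_one]

end Cfsg.Agent.S0092
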