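import Cfsg.Statements.S0094
import Cfsg.Agent.Helper2.ClassTwo
import Cfsg.Agent.Helper1.PGroup

set_option autoImplicit false
open Cfsg

namespace Cfsg.Agent.S0094

open scoped commutatorElement

/-- In a special p-group every central element has order dividing p. -/
theorem result {P : Type*} [Group P] [Finite P] {p : ℕ} [Fact p.Prime] (h : Cfsg.IsSpecial p P) (z : P) (hz : z ∈ Subgroup.center P) : z ^ p = 1 := by
  obtain ⟨hpg, hfr, hcomm⟩ := h
  have h2 : ⁅commutator P, (⊤ : Subgroup P)⁆ = ⊥ := by
    rw [hcomm, Subgroup.commutator_eq_bot_iff_le_centralizer, Subgroup.coe_top,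
      Subgroup.centralizer_univ]
  -- p-th powers are central
  have hpow : ∀ x : P, x ^ p ∈ Subgroup.center P := by
    intro x
    rw [← hfr]
    unfold frattini Order.radical
    simp only [Subgroup.mem_iInf]
    intro M hM
    exact Cfsg.Agent.Helper1.pow_mem_coatom hpg M hM x
  -- commutators have order dividing p
  have hcp : ∀ x y : P, ⁅y, x⁆ ^ p = 1 := by
    intro x y
    rw [← Cfsg.Agent.Helper2.commutatorElement_pow_of_class_two h2 x y p]
    have := hpow y
    rw [Subgroup.mem_center_iff] at this
    exact commutatorElement_eq_one_iff_mul_comm.mpr (this x).symm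
  rw [← hcomm, commutator_def, Subgroup.commutator_def] at hz
  have key : z ∈ Subgroup.center P ∧ z ^ p = 1 := by
    induction hz using Subgroup.closure_induction with
    | mem c hc =>
      obtain ⟨a, _, b, _, rfl⟩ := hc
      refine ⟨?_, hcp b a⟩
      rw [← hcomm, commutator_def]
      exact Subgroup.commutator_mem_commutator (Subgroup.mem_top a) (Subgroup.mem_top b)
    | one => exact ⟨one_mem _, one_pow p⟩
    | mul a b _ _ ha hb =>
      refine ⟨mul_mem ha.1 hb.1, ?_⟩
      have hcab : Commute a b := by
        have := hb.1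
        rw [Subgroup.mem_center_iff] at this
        exact (this a)
      rw [hcab.mul_pow, ha.2, hb.2, one_mul]
    | inv a _ ha => exact ⟨inv_mem ha.1, by rw [inv_pow, ha.2, inv_one]⟩
  exact key.2

end Cfsg.Agent.S0094
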