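import Cfsg.Statements.S0097
import Cfsg.Agent.Helper2.ClassTwo
import Cfsg.Agent.S0096

set_option autoImplicit false
open Cfsg

namespace Cfsg.Agent.S0097

open scoped commutatorElement

/-- For odd p and E extraspecial, the subgroup generated by the elements of order dividing p has exponent dividing p and index at most p. -/
theorem result {E : Type*} [Group E] [Finite E] {p : ℕ} [Fact p.Prime] (hp : p ≠ 2) (h : Cfsg.IsExtraspecial p E) : (Subgroup.closure {x : E | x ^ p = 1}).index ≤ p ∧ ∀ g ∈ Subgroup.closure {x : E | x ^ p = 1}, g ^ p = 1 := by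
  obtain ⟨⟨hpg, hfr, hcomm⟩, hcard⟩ := h
  have hpp : p.Prime := Fact.out
  have h2 : ⁅commutator E, (⊤ : Subgroup E)⁆ = ⊥ := by
    rw [hcomm, Subgroup.commutator_eq_bot_iff_le_centralizer, Subgroup.coe_top,
      Subgroup.centralizer_univ]
  have hcp : ∀ x y : E, ⁅y, x⁆ ^ p = 1 := by
    intro x y
    have h1 : ⁅y, x⁆ ∈ Subgroup.center E := by
      rw [← hcomm, commutator_def]
      exact Subgroup.commutator_mem_commutator (Subgroup.mem_top y) (Subgroup.mem_top x)
    have h3 := pow_card_eq_one' (G := Subgroup.center E) (x := ⟨⁅y, x⁆, h1⟩)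
    rw [hcard] at h3
    have h4 := congrArg Subtype.val h3
    rwa [Subgroup.coe_pow, Subgroup.coe_one] at h4
  have hexp : ∀ g ∈ Subgroup.closure {x : E | x ^ p = 1}, g ^ p = 1 :=
    fun g hg => Cfsg.Agent.S0096.pow_eq_one_of_mem_closure hpp hp h2 g hg
  refine ⟨?_, hexp⟩
  let φ : E →* E :=
    { toFun := fun x => x ^ p
      map_one' := one_pow p
      map_mul' := fun x y =>
        Cfsg.Agent.Helper2.mul_pow_prime_of_class_two hpp hp h2 x y (hcp x y) }
  have hker : Subgroup.closure {x : E | x ^ p = 1} = φ.ker := by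
    apply le_antisymm
    · intro g hg
      rw [MonoidHom.mem_ker]
      exact hexp g hg
    · intro g hg
      rw [MonoidHom.mem_ker] at hg
      exact Subgroup.subset_closure hg
  have hrange : φ.range ≤ Subgroup.center E := by
    rintro _ ⟨x, rfl⟩
    rw [Subgroup.mem_center_iff]
    intro z
    have h1 : ⁅x ^ p, z⁆ = 1 := by
      rw [Cfsg.Agent.Helper2.commutatorElement_pow_of_class_two h2 z x p, hcp z x]
    exact (commutatorElement_eq_one_iff_mul_comm.mp h1).symm
  rw [hker, Subgroup.index_ker, ← hcard]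
  exact Subgroup.card_le_of_le hrange

end Cfsg.Agent.S0097
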