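import Cfsg.Statements.S0098
import Cfsg.Agent.Helper2.ExtraspecialOdd
import Cfsg.Agent.Helper63.Extraspecial

set_option autoImplicit false
open Cfsg

namespace Cfsg.Agent.S0098

open Cfsg.Agent.Helper2 Cfsg.Agent.Helper63

theorem isCK_of_isExtraspecial {E : Type*} [Group E] {p : ℕ} (h : Cfsg.IsExtraspecial p E) :
    IsCK p E :=
  ⟨es_comm_mem_center h, es_card_center h⟩

theorem exists_center_ne_one {E : Type*} [Group E] {p : ℕ} (hp : p.Prime)
    (h : Nat.card (Subgroup.center E) = p) : ∃ z ∈ Subgroup.center E, z ≠ 1 := by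
  have h1 : Subgroup.center E ≠ ⊥ := by
    intro hbot
    rw [hbot, Subgroup.card_bot] at h
    exact hp.one_lt.ne h
  rw [Subgroup.ne_bot_iff_exists_ne_one] at h1
  obtain ⟨⟨z, hz⟩, hz1⟩ := h1
  exact ⟨z, hz, fun h => hz1 (Subtype.ext h)⟩

/-- For odd p, extraspecial p-groups of exponent p are determined up to isomorphism by their order. -/
theorem result {E₁ : Type*} {E₂ : Type*} [Group E₁] [Group E₂] [Finite E₁] [Finite E₂] {p : ℕ} [Fact p.Prime] (hp : p ≠ 2) (h₁ : Cfsg.IsExtraspecial p E₁) (h₂ : Cfsg.IsExtraspecial p E₂) (he₁ : Monoid.exponent E₁ = p) (he₂ : Monoid.exponent E₂ = p) (hc : Nat.card E₁ = Nat.card E₂) : Nonempty (E₁ ≃* E₂) := by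
  have hpp : p.Prime := Fact.out
  obtain ⟨z, hz, hz1⟩ := exists_center_ne_one hpp (es_card_center h₁)
  obtain ⟨z', hz', hz1'⟩ := exists_center_ne_one hpp (es_card_center h₂)
  obtain ⟨φ, -⟩ := exists_mulEquiv_of_exponent hpp (Nat.card E₁) E₁ E₂ (isCK_of_isExtraspecial h₁)
    (isCK_of_isExtraspecial h₂) (fun g => he₁ ▸ Monoid.pow_exponent_eq_one g)
    (fun g => he₂ ▸ Monoid.pow_exponent_eq_one g) rfl hc.symm z hz hz1 z' hz' hz1'
  exact ⟨φ⟩

end Cfsg.Agent.S0098
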