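import Cfsg.Statements.S0099
import Cfsg.Agent.Helper2.Extraspecial2Iso
import Cfsg.Agent.Helper63.Extraspecial

set_option autoImplicit false
open Cfsg

namespace Cfsg.Agent.S0099

open Cfsg.Agent.Helper2 Cfsg.Agent.Helper63

theorem isCK_of_isExtraspecial {E : Type*} [Group E] {p : ℕ} (h : Cfsg.IsExtraspecial p E) :
    IsCK p E :=
  ⟨es_comm_mem_center h, es_card_center h⟩

/-- Among three extraspecial 2-groups of equal order, some two are isomorphic. -/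
theorem result {E₁ : Type*} {E₂ : Type*} {E₃ : Type*} [Group E₁] [Group E₂] [Group E₃] [Finite E₁] [Finite E₂] [Finite E₃] (h₁ : Cfsg.IsExtraspecial 2 E₁) (h₂ : Cfsg.IsExtraspecial 2 E₂) (h₃ : Cfsg.IsExtraspecial 2 E₃) (h12 : Nat.card E₁ = Nat.card E₂) (h23 : Nat.card E₂ = Nat.card E₃) : Nonempty (E₁ ≃* E₂) ∨ Nonempty (E₂ ≃* E₃) ∨ Nonempty (E₁ ≃* E₃) := by
  have k₁ := isCK_of_isExtraspecial h₁
  have k₂ := isCK_of_isExtraspecial h₂
  have k₃ := isCK_of_isExtraspecial h₃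
  obtain ⟨m₁, hm₁, hs₁⟩ := IsCK.card_and_sqCount (Nat.card E₁) E₁ k₁ rfl
  obtain ⟨m₂, hm₂, hs₂⟩ := IsCK.card_and_sqCount (Nat.card E₂) E₂ k₂ rfl
  obtain ⟨m₃, hm₃, hs₃⟩ := IsCK.card_and_sqCount (Nat.card E₃) E₃ k₃ rfl
  have e12 : m₁ = m₂ := by
    have : 2 ^ (2 * m₁ + 1) = 2 ^ (2 * m₂ + 1) := by rw [← hm₁, ← hm₂, h12]
    have := Nat.pow_right_injective (le_refl 2) this
    omega
  have e23 : m₂ = m₃ := by
    have : 2 ^ (2 * m₂ + 1) = 2 ^ (2 * m₃ + 1) := by rw [← hm₂, ← hm₃, h23]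
    have := Nat.pow_right_injective (le_refl 2) this
    omega
  subst e12
  subst e23
  have i12 : sqCount E₁ = sqCount E₂ → Nonempty (E₁ ≃* E₂) :=
    fun h => exists_mulEquiv_of_sqCount (Nat.card E₁) E₁ E₂ k₁ k₂ rfl h12.symm h
  have i23 : sqCount E₂ = sqCount E₃ → Nonempty (E₂ ≃* E₃) :=
    fun h => exists_mulEquiv_of_sqCount (Nat.card E₂) E₂ E₃ k₂ k₃ rfl h23.symm h
  have i13 : sqCount E₁ = sqCount E₃ → Nonempty (E₁ ≃* E₃) :=
    fun h => exists_mulEquiv_of_sqCount (Nat.card E₁) E₁ E₃ k₁ k₃ rfl (h12.trans h23).symm h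
  rcases hs₁ with a | a <;> rcases hs₂ with b | b <;> rcases hs₃ with c | c
  · exact Or.inl (i12 (a.trans b.symm))
  · exact Or.inl (i12 (a.trans b.symm))
  · exact Or.inr (Or.inr (i13 (a.trans c.symm)))
  · exact Or.inr (Or.inl (i23 (b.trans c.symm)))
  · exact Or.inr (Or.inl (i23 (b.trans c.symm)))
  · exact Or.inr (Or.inr (i13 (a.trans c.symm)))
  · exact Or.inl (i12 (a.trans b.symm))
  · exact Or.inl (i12 (a.trans b.symm))

end Cfsg.Agent.S0099
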