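import Cfsg.Statements.S0102
import Cfsg.Agent.Helper2.Basic

set_option autoImplicit false
open Cfsg

namespace Cfsg.Agent.S0102

/-- A finite perfect group with cyclic Sylow p-subgroups has no perfect central extension whose kernel has order divisible by p. -/
theorem result {G : Type*} {H : Type*} [Group G] [Group H] [Finite G] [Finite H] (hG : commutator G = ⊤) {p : ℕ} [Fact p.Prime] (hcyc : ∀ P : Sylow p G, IsCyclic P) (σ : H →* G) (hσ : Function.Surjective σ) (hz : σ.ker ≤ Subgroup.center H) (hH : commutator H = ⊤) : ¬ p ∣ Nat.card σ.ker := by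
  intro hdvd
  have hp : p.Prime := Fact.out
  obtain ⟨x, hx⟩ := exists_prime_orderOf_dvd_card' p hdvd
  have hx0 : orderOf (x : H) = p := by rw [Subgroup.orderOf_coe]; exact hx
  have hpg : IsPGroup p (Subgroup.zpowers (x : H)) := by
    apply IsPGroup.of_card (n := 1)
    rw [Nat.card_zpowers, hx0, pow_one]
  obtain ⟨Q, hQ⟩ := hpg.exists_le_sylow
  have hxQ : (x : H) ∈ (Q : Subgroup H) := hQ (Subgroup.mem_zpowers _)
  have h1 : (x : H) ∈ ⁅(Q : Subgroup H), (Q : Subgroup H)⁆ :=
    Cfsg.Agent.Helper2.mem_commutator_of_mem_center_of_mem_commutator (Q : Subgroup H)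
      Q.card_coprime_index _ hxQ (by rw [hH]; trivial) (hz x.2)
  -- Q is commutative
  obtain ⟨PG, hPG⟩ := (Q.2.map σ).exists_le_sylow
  have hmem : ∀ q : (Q : Subgroup H), (σ.comp (Q : Subgroup H).subtype) q ∈ (PG : Subgroup G) := by
    intro q
    apply hPG
    exact ⟨q.1, q.2, rfl⟩
  let f : (Q : Subgroup H) →* (PG : Subgroup G) :=
    (σ.comp (Q : Subgroup H).subtype).codRestrict (PG : Subgroup G) hmem
  have hf : f.ker ≤ Subgroup.center (Q : Subgroup H) := by
    intro q hq
    rw [MonoidHom.mem_ker] at hq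
    have hq' : σ (q : H) = 1 := by
      have := congrArg Subtype.val hq
      simpa [f] using this
    have hqc : (q : H) ∈ Subgroup.center H := hz hq'
    rw [Subgroup.mem_center_iff] at hqc ⊢
    intro g
    apply Subtype.ext
    simpa using hqc g
  have : IsCyclic (PG : Subgroup G) := hcyc PG
  have hcomm := commutative_of_cyclic_center_quotient f hf
  have hbot : ⁅(Q : Subgroup H), (Q : Subgroup H)⁆ = ⊥ := by
    rw [Subgroup.commutator_eq_bot_iff_le_centralizer]
    intro a ha
    rw [Subgroup.mem_centralizer_iff]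
    intro b hb
    have := hcomm ⟨b, hb⟩ ⟨a, ha⟩
    exact congrArg Subtype.val this
  rw [hbot, Subgroup.mem_bot] at h1
  rw [h1, orderOf_one] at hx0
  exact hp.one_lt.ne hx0

end Cfsg.Agent.S0102
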