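import Cfsg.Statements.S0104
import Cfsg.Agent.Helper2.Fusion

set_option autoImplicit false
open Cfsg

namespace Cfsg.Agent.S0104

theorem map_conj_eq_iff {G : Type*} [Group G] (Z : Subgroup G) (g : G) :
    Z.map (MulAut.conj g).toMonoidHom = Z ↔ g ∈ Subgroup.normalizer (Z : Set G) := by
  rw [Subgroup.mem_normalizer_iff_map_conj_eq]
  rfl

theorem map_conj_le_iff {G : Type*} [Group G] (Z K : Subgroup G) (g : G) :
    Z.map (MulAut.conj g).toMonoidHom ≤ K ↔ ∀ z ∈ Z, g * z * g⁻¹ ∈ K := by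
  constructor
  · intro h z hz
    exact h ⟨z, hz, rfl⟩
  · rintro h _ ⟨z, hz, rfl⟩
    exact h z hz

/-- A subgroup Z of a Sylow p-subgroup P that is normalized by N_G(P) is weakly closed in P exactly when it is normal in every Sylow p-subgroup containing it. -/
theorem result {G : Type*} [Group G] [Finite G] {p : ℕ} [Fact p.Prime] (P : Sylow p G) (Z : Subgroup G) (hZP : Z ≤ (P : Subgroup G)) (hZN : Subgroup.normalizer (P : Set G) ≤ Subgroup.normalizer (Z : Set G)) : Cfsg.IsWeaklyClosed Z P ↔ ∀ R : Sylow p G, Z ≤ (R : Subgroup G) → (R : Subgroup G) ≤ Subgroup.normalizer (Z : Set G) := by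
  constructor
  · rintro ⟨-, hW⟩ R hZR
    obtain ⟨c, rfl⟩ := MulAction.exists_smul_eq G P R
    have hc : c⁻¹ ∈ Subgroup.normalizer (Z : Set G) := by
      rw [← map_conj_eq_iff]
      apply hW
      rw [map_conj_le_iff]
      intro z hz
      have := hZR hz
      rw [Cfsg.Agent.Helper2.mem_smul_sylow_iff] at this
      simpa using this
    intro r hr
    have hg : c⁻¹ * r ∈ Subgroup.normalizer (Z : Set G) := by
      rw [← map_conj_eq_iff]
      apply hW
      rw [map_conj_le_iff]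
      intro z hz
      have h1 : r * z * r⁻¹ ∈ ((c • P : Sylow p G) : Subgroup G) :=
        mul_mem (mul_mem hr (hZR hz)) (inv_mem hr)
      rw [Cfsg.Agent.Helper2.mem_smul_sylow_iff] at h1
      have e : c⁻¹ * r * z * (c⁻¹ * r)⁻¹ = c⁻¹ * (r * z * r⁻¹) * c := by group
      rw [e]; exact h1
    have : r = (c⁻¹)⁻¹ * (c⁻¹ * r) := by group
    rw [this]
    exact mul_mem (inv_mem hc) hg
  · intro hR
    refine ⟨hZP, ?_⟩
    intro g hg
    rw [map_conj_eq_iff]
    rw [map_conj_le_iff] at hg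
    have hZ' : Z ≤ ((g⁻¹ • P : Sylow p G) : Subgroup G) := by
      intro z hz
      rw [Cfsg.Agent.Helper2.mem_smul_sylow_iff]
      simpa using hg z hz
    have h2 := hR _ hZ'
    have h1 := hR P hZP
    obtain ⟨h, hhK, hn⟩ := Cfsg.Agent.Helper2.exists_mul_mem_normalizer P _ g⁻¹ h1 h2
    have h3 : h * g⁻¹ ∈ Subgroup.normalizer (Z : Set G) := hZN hn
    have : g = (h * g⁻¹)⁻¹ * h := by group
    rw [this]
    exact mul_mem (inv_mem h3) hhK

end Cfsg.Agent.S0104
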