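import Cfsg.Statements.S0105
import Cfsg.Agent.Helper2.AbelianSylow
import Cfsg.Agent.S0074

set_option autoImplicit false
open Cfsg

namespace Cfsg.Agent.S0105

/-- With an abelian Sylow p-subgroup P, some quotient of G is isomorphic to the part of P central in N_G(P). -/
theorem result {G : Type*} [Group G] [Finite G] {p : ℕ} [Fact p.Prime] (P : Sylow p G) (hP : IsMulCommutative P) : ∃ (N : Subgroup G) (hN : N.Normal), Nonempty (G ⧸ N ≃* ((P : Subgroup G) ⊓ Subgroup.centralizer (Subgroup.normalizer (P : Set G) : Set G) : Subgroup G)) := by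
  obtain ⟨-, h2, h3⟩ := Cfsg.Agent.Helper2.abelian_sylow_decomp P hP
  set Nm := Subgroup.normalizer ((P : Subgroup G) : Set G) with hNm
  set X := ⁅Nm, Nm⁆ ⊓ (P : Subgroup G) with hX
  set Y := (P : Subgroup G) ⊓ Subgroup.centralizer (Nm : Set G) with hY
  have hXP : X ≤ (P : Subgroup G) := inf_le_right
  have hYP : Y ≤ (P : Subgroup G) := inf_le_left
  have hfoc : (P : Subgroup G).focalSubgroup = X := by
    rw [← Subgroup.commutator_inf_eq_focalSubgroup P, Cfsg.Agent.S0074.result P hP]
    rfl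
  have hK : (P : Subgroup G).focalSubgroupOf = X.subgroupOf (P : Subgroup G) := by
    rw [Subgroup.focalSubgroupOf_def, hfoc]
  have hdisj : Disjoint (Y.subgroupOf (P : Subgroup G)) (X.subgroupOf (P : Subgroup G)) := by
    rw [disjoint_iff]
    show Subgroup.comap (P : Subgroup G).subtype Y ⊓ Subgroup.comap (P : Subgroup G).subtype X = ⊥
    rw [← Subgroup.comap_inf, inf_comm, h2]
    exact Subgroup.bot_subgroupOf (H := (P : Subgroup G))
  have hsup : Y.subgroupOf (P : Subgroup G) ⊔ X.subgroupOf (P : Subgroup G) = ⊤ := by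
    rw [← Subgroup.subgroupOf_sup hYP hXP, sup_comm, h3, Subgroup.subgroupOf_self]
  have hXn : (X.subgroupOf (P : Subgroup G)).Normal := by
    rw [← hK]; infer_instance
  have hcompl : (Y.subgroupOf (P : Subgroup G)).IsComplement' (X.subgroupOf (P : Subgroup G)) := by
    apply Subgroup.isComplement'_of_disjoint_and_mul_eq_univ hdisj
    rw [← Subgroup.mul_normal, hsup, Subgroup.coe_top]
  let e1 : G ⧸ (P : Subgroup G).transferFocal.ker ≃* (P : Subgroup G) ⧸ (P : Subgroup G).focalSubgroupOf :=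
    Subgroup.transferFocal.quotientKerMulEquivQuotientFocalSubroupOf P
  let e2 : (P : Subgroup G) ⧸ (P : Subgroup G).focalSubgroupOf ≃* (P : Subgroup G) ⧸ X.subgroupOf (P : Subgroup G) :=
    QuotientGroup.quotientMulEquivOfEq hK
  let e3 : (P : Subgroup G) ⧸ X.subgroupOf (P : Subgroup G) ≃* Y.subgroupOf (P : Subgroup G) :=
    hcompl.QuotientMulEquiv
  let e4 : Y.subgroupOf (P : Subgroup G) ≃* Y := Subgroup.subgroupOfEquivOfLe hYP
  exact ⟨(P : Subgroup G).transferFocal.ker, inferInstance, ⟨((e1.trans e2).trans e3).trans e4⟩⟩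

end Cfsg.Agent.S0105
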