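import Cfsg.Statements.S0113
import Cfsg.Agent.Helper2.MaxClass

set_option autoImplicit false
open Cfsg

namespace Cfsg.Agent.S0113

/-- A 2-group of maximal class has a cyclic subgroup of index 2. -/
theorem result {X : Type*} [Group X] [Finite X] (n : ℕ) (hn : 3 ≤ n) (hX : Nat.card X = 2 ^ n) (hc : Group.nilpotencyClass X = n - 1) : ∃ C : Subgroup X, IsCyclic C ∧ C.index = 2 := by
  have hF : Fact (Nat.Prime 2) := ⟨Nat.prime_two⟩
  have hn2 : n = (n - 2) + 2 := by omega
  have hidx : (commutator X).index = 2 ^ 2 :=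
    Cfsg.Agent.Helper2.index_commutator_of_maxClass (p := 2) (n - 2) X (by rw [← hn2]; exact hX)
      (by rw [hc]; omega)
  exact Cfsg.Agent.Helper2.exists_cyclic_index_two n X hX (by rw [hidx]; norm_num)

end Cfsg.Agent.S0113
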