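import Cfsg.Statements.S0114
import Cfsg.Agent.Helper2.MaxClass
import Cfsg.Agent.S0206

set_option autoImplicit false
open Cfsg

namespace Cfsg.Agent.S0114

/-- The central quotient of a 2-group of maximal class is dihedral. -/
theorem result {X : Type*} [Group X] [Finite X] (n : ℕ) (hn : 3 ≤ n) (hX : Nat.card X = 2 ^ n) (hc : Group.nilpotencyClass X = n - 1) : Nonempty (X ⧸ Subgroup.center X ≃* DihedralGroup (2 ^ (n - 2))) := by
  have hF : Fact (Nat.Prime 2) := ⟨Nat.prime_two⟩
  have hpG : IsPGroup 2 X := IsPGroup.of_card hX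
  have hnil : Group.IsNilpotent X := hpG.isNilpotent
  have hn2 : n = (n - 2) + 2 := by omega
  have hidx : (commutator X).index = 4 := by
    have := Cfsg.Agent.Helper2.index_commutator_of_maxClass (p := 2) (n - 2) X
      (by rw [← hn2]; exact hX) (by rw [hc]; omega)
    rw [this]; norm_num
  have hZcard : Nat.card (Subgroup.center X) = 2 :=
    Cfsg.Agent.Helper2.card_center_of_maxClass (p := 2) n X hn hX hc
  have hbot : commutator X ≠ ⊥ := by
    intro h
    have hcomm := Cfsg.Agent.Helper2.isMulCommutative_of_commutator_eq_bot h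
    have := Group.IsNilpotent.nilpotencyClass_le_one_iff.mpr hcomm
    omega
  obtain ⟨C, hCcyc, hC2⟩ := Cfsg.Agent.Helper2.exists_cyclic_index_two n X hX hidx
  have hCab : ∀ x ∈ C, ∀ y ∈ C, x * y = y * x := by
    intro x hx y hy
    have hcm : IsMulCommutative C := inferInstance
    exact congrArg Subtype.val (hcm.is_comm.comm (⟨x, hx⟩ : C) ⟨y, hy⟩)
  have hZC : Subgroup.center X ≤ C := Cfsg.Agent.Helper2.center_le_of_index_two C hC2 hCab hbot
  obtain ⟨⟨a, haC⟩, hagen⟩ := hCcyc.exists_generator
  have hCa : ∀ x ∈ C, x ∈ Subgroup.zpowers a := by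
    intro x hx
    obtain ⟨k, hk⟩ := Subgroup.mem_zpowers_iff.mp (hagen ⟨x, hx⟩)
    rw [Subgroup.mem_zpowers_iff]
    exact ⟨k, by simpa using congrArg Subtype.val hk⟩
  have hCtop : C ≠ ⊤ := by
    intro h
    rw [h, Subgroup.index_top] at hC2
    omega
  obtain ⟨g, hg⟩ : ∃ g : X, g ∉ C := by
    by_contra hcon
    push Not at hcon
    exact hCtop (eq_top_iff.mpr fun x _ => hcon x)
  have hsup := Cfsg.Agent.Helper2.sup_zpowers_eq_top_of_index_two C hC2 g hg
  have hCn : C.Normal := Subgroup.normal_of_index_eq_two hC2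
  -- g² is central
  have hg2C : g * g ∈ C := Subgroup.mul_self_mem_of_index_two hC2 g
  have hg2Z : g * g ∈ Subgroup.center X :=
    Cfsg.Agent.Helper2.mem_center_of_commute_of_index_two C hC2 hCab g hg (g * g) hg2C
      (by group)
  -- a * (g a g⁻¹) is central
  have hb : g * a * g⁻¹ ∈ C := hCn.conj_mem a haC g
  have hnorm : a * (g * a * g⁻¹) ∈ Subgroup.center X := by
    apply Cfsg.Agent.Helper2.mem_center_of_commute_of_index_two C hC2 hCab g hg _ (mul_mem haC hb)
    have h1 : g * (a * (g * a * g⁻¹)) = (g * a * g⁻¹) * ((g * g) * a * (g * g)⁻¹) * g := by group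
    have h2 : (g * g) * a * (g * g)⁻¹ = a := by
      rw [← Subgroup.mem_center_iff.mp hg2Z a]; group
    rw [h1, h2, hCab _ hb _ haC]
  -- the quotient
  set π := QuotientGroup.mk' (Subgroup.center X) with hπ
  have hπs : Function.Surjective π := QuotientGroup.mk'_surjective _
  have hker : ∀ w : X, π w = 1 ↔ w ∈ Subgroup.center X := fun w => QuotientGroup.eq_one_iff w
  set x := π g with hx
  set y := π g * π a with hy
  have hxx : x * x = 1 := by
    rw [hx, ← map_mul]; exact (hker _).mpr hg2Z
  have hgZ : g ∉ Subgroup.center X := fun h => hg (hZC h)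
  have hx1 : x ≠ 1 := fun h => hgZ ((hker g).mp h)
  have hconj : π a * π (g * a * g⁻¹) = 1 := by
    rw [← map_mul]; exact (hker _).mpr hnorm
  have hyy : y * y = 1 := by
    have h1 : π g * π a = π (g * a * g⁻¹) * π g := by
      rw [← map_mul, ← map_mul]; congr 1; group
    have h2 : π (g * a * g⁻¹) = (π a)⁻¹ := eq_inv_of_mul_eq_one_right hconj
    calc y * y = (π g * π a) * (π g * π a) := rfl
      _ = (π (g * a * g⁻¹) * π g) * (π g * π a) := by rw [h1]
      _ = π (g * a * g⁻¹) * (x * x) * π a := by rw [hx]; group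
      _ = 1 := by rw [hxx, mul_one, h2, inv_mul_cancel]
  have hy1 : y ≠ 1 := by
    intro h
    rw [hy, ← map_mul] at h
    have h1 : g * a ∈ C := hZC ((hker _).mp h)
    apply hg
    have : g = (g * a) * a⁻¹ := by group
    rw [this]; exact mul_mem h1 (inv_mem haC)
  have hordx : orderOf x = 2 := orderOf_eq_prime (by rw [pow_two]; exact hxx) hx1
  have hordy : orderOf y = 2 := orderOf_eq_prime (by rw [pow_two]; exact hyy) hy1
  have hxy : x * y = π a := by
    rw [hy, ← mul_assoc, hxx, one_mul]
  -- π a ≠ 1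
  have haord : orderOf a = 2 ^ (n - 1) := by
    have h1 : orderOf (⟨a, haC⟩ : C) = Nat.card C := orderOf_eq_card_of_forall_mem_zpowers hagen
    rw [Subgroup.orderOf_mk] at h1
    rw [h1]
    have := C.card_mul_index
    rw [hC2, hX] at this
    have h2 : 2 ^ n = 2 ^ (n - 1) * 2 := by
      conv_lhs => rw [show n = (n - 1) + 1 by omega, pow_succ]
    rw [h2] at this
    exact Nat.eq_of_mul_eq_mul_right (by norm_num) this
  have haZ : a ∉ Subgroup.center X := by
    intro h
    have h1 : orderOf (⟨a, h⟩ : Subgroup.center X) ∣ 2 := hZcard ▸ orderOf_dvd_natCard _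
    rw [Subgroup.orderOf_mk, haord] at h1
    have h2 : 2 ^ 2 ∣ 2 ^ (n - 1) := pow_dvd_pow 2 (by omega)
    have h3 : (4 : ℕ) ∣ 2 := by
      have : (2 : ℕ) ^ 2 = 4 := by norm_num
      rw [← this]; exact h2.trans h1
    omega
  have hne : x ≠ y := by
    intro h
    have h1 : π a = 1 := by
      have : x * x = x * y := by rw [← h]
      rw [hxx, hxy] at this
      exact this.symm
    exact haZ ((hker a).mp h1)
  obtain ⟨e⟩ := Cfsg.Agent.S0206.result x y hordx hordy hne
  -- the closure is everything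
  have hcl : Subgroup.closure ({x, y} : Set (X ⧸ Subgroup.center X)) = ⊤ := by
    set K := Subgroup.closure ({x, y} : Set (X ⧸ Subgroup.center X)) with hK
    have hxK : x ∈ K := Subgroup.subset_closure (by simp)
    have hyK : y ∈ K := Subgroup.subset_closure (by simp)
    have haK : π a ∈ K := by rw [← hxy]; exact mul_mem hxK hyK
    have hle : C ⊔ Subgroup.zpowers g ≤ K.comap π := by
      apply sup_le
      · intro c hc
        obtain ⟨k, rfl⟩ := Subgroup.mem_zpowers_iff.mp (hCa c hc)
        rw [Subgroup.mem_comap, map_zpow]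
        exact Subgroup.zpow_mem _ haK k
      · rw [Subgroup.zpowers_le]; exact hxK
    rw [hsup] at hle
    rw [eq_top_iff]
    intro w _
    obtain ⟨w, rfl⟩ := hπs w
    exact hle (Subgroup.mem_top w)
  -- the order of x * y
  have hQcard : Nat.card (X ⧸ Subgroup.center X) = 2 ^ (n - 1) := by
    have h1 := Subgroup.card_eq_card_quotient_mul_card_subgroup (Subgroup.center X)
    rw [hX, hZcard] at h1
    have h2 : 2 ^ n = 2 ^ (n - 1) * 2 := by
      conv_lhs => rw [show n = (n - 1) + 1 by omega, pow_succ]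
    rw [h2] at h1
    exact (Nat.eq_of_mul_eq_mul_right (by norm_num) h1).symm
  have hm : orderOf (x * y) = 2 ^ (n - 2) := by
    have h1 : Nat.card (Subgroup.closure ({x, y} : Set (X ⧸ Subgroup.center X))) =
        2 * orderOf (x * y) := by
      rw [Nat.card_congr e.toEquiv, DihedralGroup.nat_card]
    rw [hcl, Subgroup.card_top, hQcard] at h1
    have h2 : 2 ^ (n - 1) = 2 * 2 ^ (n - 2) := by
      conv_lhs => rw [show n - 1 = (n - 2) + 1 by omega, pow_succ]
      ring
    rw [h2] at h1
    exact (Nat.eq_of_mul_eq_mul_left (by norm_num) h1).symm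
  rw [← hm]
  exact ⟨(Subgroup.topEquiv.symm.trans (MulEquiv.subgroupCongr hcl.symm)).trans e⟩

end Cfsg.Agent.S0114
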