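import Cfsg.Statements.S0119
import Cfsg.Agent.S0093
import Cfsg.Agent.Helper24.OddOmega
import Cfsg.Agent.Helper2.Basic

set_option autoImplicit false
open Cfsg
open scoped commutatorElement

namespace Cfsg.Agent.S0119

/-- Coprime action with `G = [G, A]`: fixed points lie in the derived subgroup. -/
theorem fixed_mem_commutator {G : Type*} [Group G] [Finite G] {p : ℕ} [Fact p.Prime]
    (hG : IsPGroup p G) (A : Subgroup (MulAut G)) (hA : Nat.Coprime (Nat.card A) p)
    (hGA : Subgroup.closure {x : G | ∃ g : G, ∃ a ∈ A, x = g⁻¹ * a g} = ⊤)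
    (x : G) (hx : ∀ a ∈ A, a x = x) : x ∈ commutator G := by
  classical
  have : Fintype A := Fintype.ofFinite A
  let τ : G →* Abelianization G :=
    ∏ a : A, (Abelianization.of.comp (a : MulAut G).toMonoidHom)
  have hτ : ∀ g, τ g = ∏ a : A, Abelianization.of ((a : MulAut G) g) := by
    intro g
    simp [τ]
  have hτb : ∀ b ∈ A, ∀ g, τ (b g) = τ g := by
    intro b hb g
    rw [hτ, hτ]
    exact Fintype.prod_equiv (Equiv.mulRight ⟨b, hb⟩) _ _ (fun a => by simp [MulAut.mul_apply])
  have hker : ∀ g, τ g = 1 := by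
    have h1 : Subgroup.closure {x : G | ∃ g : G, ∃ a ∈ A, x = g⁻¹ * a g} ≤ τ.ker := by
      rw [Subgroup.closure_le]
      rintro x ⟨g, a, ha, rfl⟩
      rw [SetLike.mem_coe, MonoidHom.mem_ker, map_mul, map_inv, hτb a ha, inv_mul_cancel]
    intro g
    have h2 : g ∈ Subgroup.closure {x : G | ∃ g : G, ∃ a ∈ A, x = g⁻¹ * a g} := by
      rw [hGA]; exact Subgroup.mem_top g
    exact h1 h2
  have h1 : (Abelianization.of x) ^ (Nat.card A) = 1 := by
    have h0 := hker x
    rw [hτ] at h0
    have h2 : ∀ a : A, Abelianization.of ((a : MulAut G) x) = Abelianization.of x :=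
      fun a => by rw [hx a a.2]
    simp only [h2, Finset.prod_const, Finset.card_univ] at h0
    rwa [Nat.card_eq_fintype_card]
  obtain ⟨k, hk⟩ := hG x
  have h3 : (Abelianization.of x) ^ (p ^ k) = 1 := by rw [← map_pow, hk, map_one]
  have hcop : Nat.Coprime (Nat.card A) (p ^ k) := Nat.Coprime.pow_right k hA
  have h4 : Abelianization.of x = 1 := by
    have d1 := orderOf_dvd_of_pow_eq_one h1
    have d2 := orderOf_dvd_of_pow_eq_one h3
    have := Nat.eq_one_of_dvd_coprimes hcop d1 d2
    exact orderOf_eq_one_iff.mp this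
  rwa [← MonoidHom.mem_ker, Abelianization.ker_of] at h4

/-- If `H` commutes with `G` modulo the centre and `p`-th powers of `H` are central, then
`p`-th powers of `G` centralize `H`. -/
theorem pow_comm_of_central {G : Type*} [Group G] (p : ℕ) (x h : G)
    (hc : ⁅x, h⁆ ∈ Subgroup.center G) (hp : h ^ p ∈ Subgroup.center G) : x ^ p * h = h * x ^ p := by
  set c := ⁅x, h⁆ with hcdef
  have hcx : ∀ g, Commute c g := fun g => ((Subgroup.mem_center_iff.mp hc) g).symm
  have e1 : x * h = c * h * x := by rw [hcdef, commutatorElement_def]; group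
  have e2 : h * x = c⁻¹ * x * h := by rw [hcdef, commutatorElement_def]; group
  have hci : ∀ g, Commute c⁻¹ g := fun g => (hcx g).inv_left
  have f1 := Cfsg.Agent.Helper24.pow_mul_of_central e1 (hcx x) p
  have f2 := Cfsg.Agent.Helper24.pow_mul_of_central e2 (hci h) p
  have f3 : h ^ p * x = x * h ^ p := ((Subgroup.mem_center_iff.mp hp) x).symm
  have f4 : c⁻¹ ^ p = 1 := by
    have : c⁻¹ ^ p * (x * h ^ p) = 1 * (x * h ^ p) := by
      rw [one_mul, ← mul_assoc, ← f2, f3]
    exact mul_right_cancel this
  have f5 : c ^ p = 1 := by rwa [inv_pow, inv_eq_one] at f4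
  rw [f1, f5, one_mul]

end Cfsg.Agent.S0119

namespace Cfsg.Agent.S0119

/-- If a p'-group A of automorphisms of a p-group G satisfies G = [G, A] and acts trivially on every characteristic abelian subgroup, then G is special with centre equal to the fixed points of A. -/
theorem result {G : Type*} [Group G] [Finite G] {p : ℕ} [Fact p.Prime] (hG : IsPGroup p G) (A : Subgroup (MulAut G)) (hA : Nat.Coprime (Nat.card A) p) (hGA : Subgroup.closure {x : G | ∃ g : G, ∃ a ∈ A, x = g⁻¹ * a g} = ⊤) (hchar : ∀ H : Subgroup G, H.Characteristic → IsMulCommutative H → ∀ a ∈ A, ∀ h ∈ H, a h = h) : Cfsg.IsSpecial p G ∧ (∀ g : G, (g ∈ Subgroup.center G ↔ ∀ a ∈ A, a g = g)) := by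
  classical
  -- Step 1: characteristic abelian subgroups are central
  have h1 : ∀ M : Subgroup G, M.Characteristic → (∀ a ∈ M, ∀ b ∈ M, a * b = b * a) →
      M ≤ Subgroup.center G := by
    intro M hMc hMab m hm
    have hMn : M.Normal := inferInstance
    have hcomm : IsMulCommutative M := ⟨⟨fun a b => Subtype.ext (hMab a a.2 b b.2)⟩⟩
    have hfix := hchar M hMc hcomm
    have hle : Subgroup.closure {x : G | ∃ g : G, ∃ a ∈ A, x = g⁻¹ * a g} ≤
        Subgroup.centralizer {m} := by
      rw [Subgroup.closure_le]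
      rintro x ⟨g, a, ha, rfl⟩
      have e1 := hfix a ha (g * m * g⁻¹) (hMn.conj_mem m hm g)
      have e2 := hfix a ha m hm
      rw [map_mul, map_mul, map_inv, e2] at e1
      rw [SetLike.mem_coe, Subgroup.mem_centralizer_singleton_iff]
      have e3 : a g * m = g * m * g⁻¹ * a g := by rw [← e1]; group
      calc g⁻¹ * a g * m = g⁻¹ * (a g * m) := by group
        _ = g⁻¹ * (g * m * g⁻¹ * a g) := by rw [e3]
        _ = m * (g⁻¹ * a g) := by group
    rw [Subgroup.mem_center_iff]
    intro g
    have hg : g ∈ Subgroup.centralizer {m} := hle (by rw [hGA]; exact Subgroup.mem_top g)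
    rw [Subgroup.mem_centralizer_singleton_iff] at hg
    exact hg
  -- Step 2: the critical subgroup over the centre
  have hZc : (Subgroup.center G).Characteristic := inferInstance
  have hZab : ∀ a ∈ Subgroup.center G, ∀ b ∈ Subgroup.center G, a * b = b * a :=
    fun a _ b hb => ((Subgroup.mem_center_iff.mp hb) a)
  set H := Cfsg.Agent.S0093.crit p (Subgroup.center G) with hH
  have hHc : H.Characteristic := Cfsg.Agent.S0093.crit_characteristic p _ hZc
  have hHn : H.Normal := inferInstance
  have hZH : Subgroup.center G ≤ H := Cfsg.Agent.S0093.le_crit p _ hZab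
  have hCHc : (Subgroup.centralizer (H : Set G)).Characteristic := inferInstance
  have hZHc : (H ⊓ Subgroup.centralizer (H : Set G)).Characteristic := inferInstance
  have hZHab : ∀ a ∈ H ⊓ Subgroup.centralizer (H : Set G),
      ∀ b ∈ H ⊓ Subgroup.centralizer (H : Set G), a * b = b * a := by
    intro a ha b hb
    have h2 := (Subgroup.mem_inf.mp hb).2
    rw [Subgroup.mem_centralizer_iff] at h2
    exact h2 a (Subgroup.mem_inf.mp ha).1
  have hZHle : H ⊓ Subgroup.centralizer (H : Set G) ≤ Subgroup.center G := h1 _ hZHc hZHab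
  have hCH : Subgroup.centralizer (H : Set G) ≤ H :=
    Cfsg.Agent.S0093.centralizer_crit_le hG (Subgroup.center G) hZH hZHle
  have hCZ : Subgroup.centralizer (H : Set G) ≤ Subgroup.center G :=
    fun x hx => hZHle (Subgroup.mem_inf.mpr ⟨hCH hx, hx⟩)
  have hHmem : ∀ h ∈ H, (∀ g : G, ⁅h, g⁆ ∈ Subgroup.center G) ∧ h ^ p ∈ Subgroup.center G :=
    fun h hh => ((Cfsg.Agent.S0093.mem_crit p _ h).mp hh).2
  -- Step 3: G / Z(G) is elementary abelian
  have hcomm : commutator G ≤ Subgroup.center G := by
    have e1 : ⁅⁅(⊤ : Subgroup G), H⁆, (⊤ : Subgroup G)⁆ = ⊥ := by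
      rw [Subgroup.commutator_eq_bot_iff_le_centralizer]
      rw [Subgroup.commutator_le]
      intro g _ h hh
      rw [Subgroup.coe_top, Subgroup.centralizer_univ, ← commutatorElement_inv]
      exact Subgroup.inv_mem _ ((hHmem h hh).1 g)
    have e2 : ⁅⁅H, (⊤ : Subgroup G)⁆, (⊤ : Subgroup G)⁆ = ⊥ := by
      rw [Subgroup.commutator_eq_bot_iff_le_centralizer]
      rw [Subgroup.commutator_le]
      intro h hh g _
      rw [Subgroup.coe_top, Subgroup.centralizer_univ]
      exact (hHmem h hh).1 g
    have e3 := Subgroup.commutator_commutator_eq_bot_of_rotate e1 e2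
    rw [Subgroup.commutator_eq_bot_iff_le_centralizer] at e3
    exact e3.trans hCZ
  have hpow : ∀ x : G, x ^ p ∈ Subgroup.center G := by
    intro x
    apply hCZ
    rw [Subgroup.mem_centralizer_iff]
    intro h hh
    refine (pow_comm_of_central p x h ?_ (hHmem h hh).2).symm
    rw [← commutatorElement_inv]
    exact Subgroup.inv_mem _ ((hHmem h hh).1 x)
  have hfr : frattini G ≤ Subgroup.center G := by
    apply Cfsg.Agent.Helper47.frattini_le_of_commutator_pow_mem (p := p)
    · intro a b
      exact hcomm (Subgroup.commutator_mem_commutator (Subgroup.mem_top a) (Subgroup.mem_top b))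
    · exact hpow
  -- Step 4: the centre is fixed by A
  have hZfix : ∀ g ∈ Subgroup.center G, ∀ a ∈ A, a g = g := by
    intro g hg a ha
    exact hchar _ hZc inferInstance a ha g hg
  -- Step 5: fixed points lie in the derived subgroup
  have hfixc : ∀ g : G, (∀ a ∈ A, a g = g) → g ∈ commutator G :=
    fun g hg => fixed_mem_commutator hG A hA hGA g hg
  have hZcomm : Subgroup.center G ≤ commutator G := fun g hg => hfixc g (hZfix g hg)
  have hGnil : Group.IsNilpotent G := hG.isNilpotent
  have hcfr : commutator G ≤ frattini G := Cfsg.Agent.Helper2.commutator_le_frattini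
  refine ⟨⟨hG, le_antisymm hfr (hZcomm.trans hcfr), le_antisymm hcomm hZcomm⟩, fun g => ?_⟩
  exact ⟨fun hg => hZfix g hg, fun hg => hcomm (hfixc g hg)⟩

end Cfsg.Agent.S0119
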