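-- Statement S0125: A normal in a Sylow R, C_R(A) = A  ==>  C_G(A) = A × H with H a p'-group.
import Cfsg.Statements.S0125
import Cfsg.Agent.Helper52.SylowLemmas

set_option autoImplicit false
open Cfsg

namespace Cfsg.Agent.S0125

theorem result {G : Type*} [Group G] [Finite G] {p : ℕ} [Fact p.Prime] (R : Sylow p G) (A : Subgroup G) (hAR : A ≤ (R : Subgroup G)) (hAn : (R : Subgroup G) ≤ Subgroup.normalizer (A : Set G)) (hC : (R : Subgroup G) ⊓ Subgroup.centralizer (A : Set G) = A) : ∃ H : Subgroup G, H ≤ Subgroup.centralizer (A : Set G) ∧ Nat.Coprime (Nat.card H) p ∧ Subgroup.centralizer (A : Set G) ≤ Subgroup.normalizer (H : Set G) ∧ H ⊓ A = ⊥ ∧ H ⊔ A = Subgroup.centralizer (A : Set G) := by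
  classical
  set C : Subgroup G := Subgroup.centralizer (A : Set G) with hCdef
  have hAC : A ≤ C := by
    have : (R : Subgroup G) ⊓ C ≤ C := inf_le_right
    rwa [hC] at this
  have hApg : IsPGroup p A := R.2.to_le hAR
  -- the Sylow p-subgroup of C
  let P₀ : Sylow p C :=
    { toSubgroup := A.subgroupOf C
      isPGroup' := hApg.comap_subtype
      is_maximal' := by
        intro Q hQ hAQ
        refine le_antisymm ?_ hAQ
        -- Q₀ = image of Q in G
        have hQ₀ : IsPGroup p (Q.map C.subtype) := hQ.map _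
        have hQ₀C : Q.map C.subtype ≤ C := Subgroup.map_subtype_le Q
        have hCM : C ≤ Subgroup.normalizer (A : Set G) := Subgroup.centralizer_le_normalizer _
        obtain ⟨g, hgM, hg⟩ := Cfsg.Agent.Helper52.exists_conj_le_sylow_of_le R
          (Subgroup.normalizer (A : Set G)) (Q.map C.subtype) hAn (hQ₀C.trans hCM) hQ₀
        intro q hq
        rw [Subgroup.mem_subgroupOf]
        have hqQ₀ : (q : G) ∈ Q.map C.subtype := Subgroup.mem_map_of_mem C.subtype hq
        have h1 : g * (q : G) * g⁻¹ ∈ (R : Subgroup G) := hg _ hqQ₀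
        -- g q g⁻¹ centralizes A
        have h2 : g * (q : G) * g⁻¹ ∈ C := by
          change g * (q : G) * g⁻¹ ∈ Subgroup.centralizer (A : Set G)
          rw [Subgroup.mem_centralizer_iff]
          intro a ha
          have ha' : g⁻¹ * a * g ∈ A := by
            have := (Subgroup.mem_normalizer_iff.mp (inv_mem hgM) a).mp ha
            simpa using this
          have hq' := (Subgroup.mem_centralizer_iff.mp q.2) _ ha'
          calc a * (g * (q : G) * g⁻¹) = g * ((g⁻¹ * a * g) * (q : G)) * g⁻¹ := by group
            _ = g * ((q : G) * (g⁻¹ * a * g)) * g⁻¹ := by rw [hq']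
            _ = g * (q : G) * g⁻¹ * a := by group
        have h3 : g * (q : G) * g⁻¹ ∈ A := by
          rw [← hC]; exact ⟨h1, h2⟩
        have h4 := (Subgroup.mem_normalizer_iff.mp (inv_mem hgM) _).mp h3
        have : g⁻¹ * (g * (q : G) * g⁻¹) * g⁻¹⁻¹ = (q : G) := by group
        rw [this] at h4
        exact h4 }
  have hP₀ : (P₀ : Subgroup C) = A.subgroupOf C := rfl
  have hP : Subgroup.normalizer ((P₀ : Subgroup C) : Set C) ≤ Subgroup.centralizer ((P₀ : Subgroup C) : Set C) := by
    intro c _
    rw [Subgroup.mem_centralizer_iff]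
    intro h hh
    have hh' : (h : G) ∈ A := by
      have : h ∈ A.subgroupOf C := hh
      rwa [Subgroup.mem_subgroupOf] at this
    have := (Subgroup.mem_centralizer_iff.mp c.2) _ hh'
    exact Subtype.ext (by simpa using this)
  have hcompl := MonoidHom.ker_transferSylow_isComplement' P₀ hP
  set K : Subgroup C := (MonoidHom.transferSylow P₀ hP).ker with hK
  have hKn : K.Normal := MonoidHom.normal_ker _
  have hinj : Function.Injective C.subtype := Subgroup.subtype_injective C
  refine ⟨K.map C.subtype, Subgroup.map_subtype_le K, ?_, ?_, ?_, ?_⟩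
  · -- coprime
    rw [Subgroup.card_map_of_injective hinj, ← hcompl.index_eq_card]
    have := P₀.not_dvd_index
    exact (Nat.Prime.coprime_iff_not_dvd Fact.out).mpr this |>.symm
  · -- normalized by C
    rw [← Subgroup.normal_subgroupOf_iff_le_normalizer (Subgroup.map_subtype_le K)]
    have : (K.map C.subtype).subgroupOf C = K := Subgroup.comap_map_eq_self_of_injective hinj K
    rw [this]; exact hKn
  · -- trivial intersection
    have h1 : K ⊓ (P₀ : Subgroup C) = ⊥ := hcompl.disjoint.eq_bot
    have h2 := Subgroup.map_inf_eq K (P₀ : Subgroup C) C.subtype hinj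
    rw [h1, Subgroup.map_bot, hP₀, Subgroup.map_subgroupOf_eq_of_le hAC] at h2
    exact h2.symm
  · -- product
    have h1 : K ⊔ (P₀ : Subgroup C) = ⊤ := hcompl.sup_eq_top
    have h2 := Subgroup.map_sup K (P₀ : Subgroup C) C.subtype
    rw [h1, hP₀, Subgroup.map_subgroupOf_eq_of_le hAC, ← MonoidHom.range_eq_map, Subgroup.range_subtype] at h2
    exact h2.symm

end Cfsg.Agent.S0125
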