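import Cfsg.Statements.S0131
-- import your own Cfsg.Agent.* helpers here

set_option autoImplicit false
open Cfsg
open scoped commutatorElement

namespace Cfsg.Agent.S0131

/-- P/P' has a normal complement in G exactly when the focal subgroup G' ∩ P is as small as possible, namely P'. -/
theorem result {G : Type*} [Group G] [Finite G] {p : ℕ} [Fact p.Prime] (P : Sylow p G) : (∃ N : Subgroup G, N.Normal ∧ N ⊓ (P : Subgroup G) = ⁅(P : Subgroup G), (P : Subgroup G)⁆ ∧ N ⊔ (P : Subgroup G) = ⊤) ↔ commutator G ⊓ (P : Subgroup G) = ⁅(P : Subgroup G), (P : Subgroup G)⁆ := by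
  have hp : p.Prime := Fact.out
  constructor
  · rintro ⟨N, hN, hNP, hsup⟩
    apply le_antisymm
    · -- G' ≤ N
      have hGN : commutator G ≤ N := by
        rw [commutator_def, Subgroup.commutator_le]
        intro g₁ _ g₂ _
        -- work in the quotient
        have key : ∀ g : G, ∃ x ∈ (P : Subgroup G), (QuotientGroup.mk' N) g = (QuotientGroup.mk' N) x := by
          intro g
          have hg : g ∈ ((N ⊔ (P : Subgroup G) : Subgroup G) : Set G) := by rw [hsup]; trivial
          rw [Subgroup.normal_mul] at hg
          obtain ⟨n, hn, x, hx, rfl⟩ := Set.mem_mul.mp hg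
          refine ⟨x, hx, ?_⟩
          rw [map_mul]
          have : (QuotientGroup.mk' N) n = 1 := by
            rw [← MonoidHom.mem_ker, QuotientGroup.ker_mk']; exact hn
          rw [this, one_mul]
        obtain ⟨x₁, hx₁, h₁⟩ := key g₁
        obtain ⟨x₂, hx₂, h₂⟩ := key g₂
        have h3 : (QuotientGroup.mk' N) ⁅g₁, g₂⁆ = (QuotientGroup.mk' N) ⁅x₁, x₂⁆ := by
          rw [map_commutatorElement, map_commutatorElement, h₁, h₂]
        have h4 : ⁅x₁, x₂⁆ ∈ N := by
          have : ⁅x₁, x₂⁆ ∈ ⁅(P : Subgroup G), (P : Subgroup G)⁆ := Subgroup.commutator_mem_commutator hx₁ hx₂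
          rw [← hNP] at this
          exact this.1
        have h5 : (QuotientGroup.mk' N) ⁅x₁, x₂⁆ = 1 := by
          rw [← MonoidHom.mem_ker, QuotientGroup.ker_mk']; exact h4
        rw [h5, ← MonoidHom.mem_ker, QuotientGroup.ker_mk'] at h3
        exact h3
      exact le_trans (inf_le_inf_right _ hGN) hNP.le
    · apply le_inf
      · rw [commutator_def]
        exact Subgroup.commutator_mono le_top le_top
      · exact Subgroup.commutator_le_self _
  · intro hfoc
    obtain ⟨k, m, hm, hcard⟩ := Nat.exists_eq_pow_mul_and_not_dvd (n := Nat.card G) Nat.card_pos.ne' p hp.ne_one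
    set φ : G →* Abelianization G := Abelianization.of with hφ
    have hφs : Function.Surjective φ := fun x => QuotientGroup.mk_surjective x
    have : Finite (Abelianization G) := Finite.of_surjective φ hφs
    set K : Subgroup (Abelianization G) := (powMonoidHom m : Abelianization G →* Abelianization G).ker with hK
    have hcop : Nat.Coprime p m := (Nat.Prime.coprime_iff_not_dvd hp).mpr hm
    have hcardA : Nat.card (Abelianization G) ∣ Nat.card G := Subgroup.card_dvd_of_surjective φ hφs
    refine ⟨K.comap φ, inferInstance, ?_, ?_⟩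
    · rw [← hfoc]
      ext x
      simp only [Subgroup.mem_inf, Subgroup.mem_comap]
      constructor
      · rintro ⟨hxK, hxP⟩
        refine ⟨?_, hxP⟩
        rw [← Abelianization.ker_of, MonoidHom.mem_ker]
        -- φ x has order dividing m and a power of p
        have h1 : (φ x) ^ m = 1 := by
          have := hxK
          rw [hK, MonoidHom.mem_ker, powMonoidHom_apply] at this
          exact this
        obtain ⟨j, hj⟩ := (P.2 ⟨x, hxP⟩)
        have h2 : (φ x) ^ (p ^ j) = 1 := by
          have : x ^ (p ^ j) = 1 := by
            have := congrArg Subtype.val hj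
            simpa using this
          rw [← map_pow, this, map_one]
        have h3 : orderOf (φ x) ∣ m := orderOf_dvd_of_pow_eq_one h1
        have h4 : orderOf (φ x) ∣ p ^ j := orderOf_dvd_of_pow_eq_one h2
        have h5 : Nat.Coprime (p ^ j) m := Nat.Coprime.pow_left j hcop
        have h6 : orderOf (φ x) = 1 := Nat.eq_one_of_dvd_coprimes h5 h4 h3
        exact orderOf_eq_one_iff.mp h6
      · rintro ⟨hxG, hxP⟩
        refine ⟨?_, hxP⟩
        rw [← Abelianization.ker_of, MonoidHom.mem_ker] at hxG
        rw [hxG]; exact K.one_mem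
    · rw [← Subgroup.index_eq_one]
      have hi1 : (K.comap φ ⊔ (P : Subgroup G)).index ∣ (P : Subgroup G).index :=
        Subgroup.index_dvd_of_le le_sup_right
      have hi2 : (K.comap φ ⊔ (P : Subgroup G)).index ∣ (K.comap φ).index :=
        Subgroup.index_dvd_of_le le_sup_left
      rw [Subgroup.index_comap_of_surjective _ hφs, hK, Subgroup.index_ker] at hi2
      have hpg : IsPGroup p (powMonoidHom m : Abelianization G →* Abelianization G).range := by
        rintro ⟨y, a, rfl⟩
        refine ⟨k, ?_⟩
        apply Subtype.ext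
        simp only [powMonoidHom_apply, SubmonoidClass.mk_pow, OneMemClass.coe_one]
        rw [← pow_mul, mul_comm, ← hcard]
        obtain ⟨c, hc⟩ := hcardA
        rw [hc, pow_mul, pow_card_eq_one', one_pow]
      obtain ⟨j, hj⟩ := (IsPGroup.iff_card.mp hpg)
      rw [hj] at hi2
      have hnd : ¬ p ∣ (P : Subgroup G).index := P.not_dvd_index
      have hcop2 : Nat.Coprime (p ^ j) (P : Subgroup G).index :=
        Nat.Coprime.pow_left j ((Nat.Prime.coprime_iff_not_dvd hp).mpr hnd)
      exact Nat.eq_one_of_dvd_coprimes hcop2 hi2 hi1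

end Cfsg.Agent.S0131
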