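import Cfsg.Statements.S0136
import Cfsg.Agent.Helper3.ColumnOrth

set_option autoImplicit false
open Cfsg

namespace Cfsg.Agent.S0136

/-- Two elements of a finite group are conjugate if and only if no irreducible complex character separates them. -/
theorem result {G : Type*} [Group G] [Finite G] (g h : G) : IsConj g h ↔ ∀ χ : Cfsg.IrrCharacter G, (χ : G → ℂ) g = (χ : G → ℂ) h := by
  classical
  have : Fintype G := Fintype.ofFinite G
  have : Fintype (Cfsg.IrrCharacter G) := Fintype.ofFinite _
  constructor
  · intro hgh χ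
    exact Cfsg.Agent.Helper3.isClassFunction_isConj (Cfsg.Agent.Helper3.isClassFunction_irr χ) hgh
  · intro hχ
    by_contra hgh
    have h1 := Cfsg.Agent.Helper3.column_orthogonality g h
    rw [if_neg hgh] at h1
    have h2 := Cfsg.Agent.Helper3.column_orthogonality_self g
    have h3 : ∑ χ : Cfsg.IrrCharacter G, (χ : G → ℂ) g * (starRingEnd ℂ) ((χ : G → ℂ) h) =
        ∑ χ : Cfsg.IrrCharacter G, (χ : G → ℂ) g * (starRingEnd ℂ) ((χ : G → ℂ) g) := by
      refine Finset.sum_congr rfl fun χ _ => ?_
      rw [hχ χ]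
    rw [h3, h2] at h1
    have h4 : Nat.card (Subgroup.centralizer ({g} : Set G)) ≠ 0 := Nat.card_pos.ne'
    exact h4 (by exact_mod_cast h1)

end Cfsg.Agent.S0136
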