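import Cfsg.Statements.S0156
import Cfsg.Agent.Helper75.PermChar
import Cfsg.Agent.Helper74.CharCount

set_option autoImplicit false
open Cfsg

namespace Cfsg.Agent.S0156

/-- The character of the left regular representation is the sum over the irreducible characters χ of χ 1 • χ. -/
theorem result {G : Type*} [Group G] [Fintype G] : (Representation.leftRegular ℂ G).character = ∑ᶠ χ : Cfsg.IrrCharacter G, (χ : G → ℂ) 1 • (χ : G → ℂ) := by
  classical
  let _ := Cfsg.Agent.Helper74.irrFintype G
  funext g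
  rw [Cfsg.Agent.Helper75.regularChar_apply g, finsum_eq_sum_of_fintype]
  simp only [Finset.sum_apply, Pi.smul_apply, smul_eq_mul]
  have h := Cfsg.Agent.Helper74.second_orthogonality (G := G) g 1
  have h1 : ∀ χ : IrrCharacter G, (starRingEnd ℂ) ((χ : G → ℂ) 1) = (χ : G → ℂ) 1 := by
    intro χ
    obtain ⟨n, hn⟩ := Cfsg.Agent.Helper74.isCharacter_apply_one (Cfsg.Agent.Helper74.irr_isCharacter χ)
    rw [hn]; simp
  simp only [h1] at h
  have h2 : ∑ χ : IrrCharacter G, (χ : G → ℂ) 1 * (χ : G → ℂ) g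
      = ∑ χ : IrrCharacter G, (χ : G → ℂ) g * (χ : G → ℂ) 1 :=
    Finset.sum_congr rfl (fun χ _ => mul_comm _ _)
  rw [h2, h]
  have hcent : Subgroup.centralizer ({1} : Set G) = ⊤ := by
    ext x; simp [Subgroup.mem_centralizer_iff]
  by_cases hg : g = 1
  · rw [if_pos hg, if_pos (by rw [hg]), hcent]
    simp
  · rw [if_neg hg, if_neg (by rwa [isConj_one_left])]

end Cfsg.Agent.S0156
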