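import Cfsg.Statements.S0158
import Cfsg.Agent.Helper74.FSCount
import Cfsg.Agent.Helper3.Transport

set_option autoImplicit false
open Cfsg

namespace Cfsg.Agent.S0158

/-- The Frobenius–Schur indicator of an irreducible complex representation of a finite group — the average over s of the character at s * s — is 0, 1 or −1, and it vanishes exactly when some character value is not real. -/
theorem result {G : Type*} [Group G] [Fintype G] {V : Type*} [AddCommGroup V] [Module ℂ V] [FiniteDimensional ℂ V] (ρ : Representation ℂ G V) [ρ.IsIrreducible] : ((Nat.card G : ℂ)⁻¹ * ∑ s : G, ρ.character (s * s) = 0 ∨ (Nat.card G : ℂ)⁻¹ * ∑ s : G, ρ.character (s * s) = 1 ∨ (Nat.card G : ℂ)⁻¹ * ∑ s : G, ρ.character (s * s) = -1) ∧ ((Nat.card G : ℂ)⁻¹ * ∑ s : G, ρ.character (s * s) = 0 ↔ ∃ s : G, (ρ.character s).im ≠ 0) := by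
  classical
  let e : V ≃ₗ[ℂ] (Fin (Module.finrank ℂ V) → ℂ) := (Module.finBasis ℂ V).equivFun
  have hσ : (Cfsg.Agent.Helper3.transportRep e ρ).IsIrreducible :=
    Cfsg.Agent.Helper3.isIrreducible_of_equiv (Cfsg.Agent.Helper3.transportEquiv e ρ)
  have hchar : ρ.character = (Cfsg.Agent.Helper3.transportRep e ρ).character :=
    Representation.char_iso (Cfsg.Agent.Helper3.transportEquiv e ρ)
  rw [hchar]
  generalize Cfsg.Agent.Helper3.transportRep e ρ = σ at hσ
  change (Cfsg.Agent.Helper74.fsInd σ = 0 ∨ Cfsg.Agent.Helper74.fsInd σ = 1 ∨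
      Cfsg.Agent.Helper74.fsInd σ = -1) ∧
    (Cfsg.Agent.Helper74.fsInd σ = 0 ↔ ∃ s : G, (σ.character s).im ≠ 0)
  have hcases := Cfsg.Agent.Helper74.fsInd_cases hσ
  have hreal_ne : (∀ g : G, (σ.character g).im = 0) → Cfsg.Agent.Helper74.fsInd σ ≠ 0 := by
    intro hreal
    obtain ⟨M, hM0, hM⟩ := Cfsg.Agent.Helper74.exists_isInvForm_of_real hσ hreal
    have hu := hM.isUnit hσ hM0
    obtain ⟨c, hc⟩ := hM.eq_smul hσ hu hM.transpose
    have hfs := Cfsg.Agent.Helper74.fsInd_eq_of_transpose hσ hM hu hc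
    have h2 : M = (c * c) • M := by
      have := congrArg Matrix.transpose hc
      rw [Matrix.transpose_transpose, Matrix.transpose_smul, hc, smul_smul] at this
      exact this
    rw [hfs]
    intro hc0
    apply hM0
    rw [h2, hc0, mul_zero, zero_smul]
  constructor
  · rcases hcases with h | ⟨h | h, _⟩
    · exact Or.inl h
    · exact Or.inr (Or.inl h)
    · exact Or.inr (Or.inr h)
  · constructor
    · intro h0
      by_contra hne
      push Not at hne
      exact hreal_ne hne h0
    · rintro ⟨s, hs⟩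
      rcases hcases with h | ⟨_, hr⟩
      · exact h
      · exact absurd (hr s) hs

end Cfsg.Agent.S0158
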