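import Cfsg.Statements.S0162
import Cfsg.Agent.S0161
import Cfsg.Agent.S0134
import Cfsg.Agent.Helper80.Degree
import Cfsg.Agent.Helper3.CountIrr

set_option autoImplicit false
open Cfsg
open scoped ComplexConjugate

namespace Cfsg.Agent.S0162

theorem zmod16_aux : ∀ x : ZMod 16, x.val % 2 = 1 → (x ^ 2 - 1) + (x ^ 2 - 1) = 0 := by decide

/-- If a finite group has odd order, its order is congruent to its number of conjugacy classes modulo 16. -/
theorem result {G : Type*} [Group G] [Finite G] (hodd : Odd (Nat.card G)) : Nat.card G ≡ Nat.card (ConjClasses G) [MOD 16] := by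
  classical
  have : Fintype G := Fintype.ofFinite G
  have : Fintype (Cfsg.IrrCharacter G) := Fintype.ofFinite _
  -- degrees
  let d : Cfsg.IrrCharacter G → ℕ := fun χ => Cfsg.charDegree (χ : G → ℂ)
  have hd : ∀ χ : Cfsg.IrrCharacter G, ((d χ : ℕ) : ℂ) = (χ : G → ℂ) 1 := fun χ =>
    Cfsg.Agent.Helper80.IsCharacter.charDegree_cast
      (Cfsg.Agent.Helper3.isCharacter_of_isIrrCharacter χ.2)
  have hdvd : ∀ χ : Cfsg.IrrCharacter G, d χ ∣ Nat.card G := fun χ =>
    Cfsg.Agent.Helper80.IsIrrCharacter.charDegree_dvd_card χ.2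
  have hdodd : ∀ χ : Cfsg.IrrCharacter G, Odd (d χ) := fun χ => Odd.of_dvd_nat hodd (hdvd χ)
  -- sum of squares
  have hsq : ∑ χ : Cfsg.IrrCharacter G, (d χ) ^ 2 = Nat.card G := by
    have h := Cfsg.Agent.S0134.result (G := G)
    rw [finsum_eq_sum_of_fintype] at h
    have h2 : ((∑ χ : Cfsg.IrrCharacter G, (d χ) ^ 2 : ℕ) : ℂ) = (Nat.card G : ℂ) := by
      rw [← h]
      push_cast
      exact Finset.sum_congr rfl fun χ _ => by rw [hd χ]
    exact_mod_cast h2
  -- number of characters
  have hk : ∑ _χ : Cfsg.IrrCharacter G, 1 = Nat.card (ConjClasses G) := by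
    rw [← Cfsg.Agent.Helper3.card_irrCharacter, Nat.card_eq_fintype_card]
    simp
  -- work in ZMod 16
  have key : ∑ χ : Cfsg.IrrCharacter G, (((d χ : ℕ) : ZMod 16) ^ 2 - 1) = 0 := by
    apply Finset.sum_ninvolution (g := Cfsg.Agent.Helper74.irrConj)
    · intro χ
      have hconj : d (Cfsg.Agent.Helper74.irrConj χ) = d χ := by
        have h1 := hd (Cfsg.Agent.Helper74.irrConj χ)
        rw [Cfsg.Agent.Helper74.irrConj_apply, ← hd χ, Complex.conj_natCast] at h1
        exact_mod_cast h1
      rw [hconj]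
      apply zmod16_aux
      rw [ZMod.val_natCast]
      have := Nat.odd_iff.mp (hdodd χ)
      omega
    · intro χ hne hfix
      apply hne
      have hreal := (Cfsg.Agent.Helper74.irrConj_eq_self_iff χ).mp hfix
      have h1 := Cfsg.Agent.S0161.result hodd χ hreal
      have h2 : ((d χ : ℕ) : ℂ) = 1 := by rw [hd χ, h1]
      have h3 : d χ = 1 := by exact_mod_cast h2
      rw [h3]; simp
    · intro χ; exact Finset.mem_univ _
    · intro χ
      apply Subtype.ext
      funext g
      simp [Cfsg.Agent.Helper74.irrConj_apply]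
  rw [← ZMod.natCast_eq_natCast_iff, ← hsq, ← hk]
  push_cast
  rw [Finset.sum_sub_distrib] at key
  exact sub_eq_zero.mp key

end Cfsg.Agent.S0162
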