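import Cfsg.Statements.S0165
import Cfsg.Agent.Helper74.DefectZero

set_option autoImplicit false
open Cfsg

namespace Cfsg.Agent.S0165

theorem result {G : Type*} [Group G] [Finite G] {V : Type*} [AddCommGroup V] [Module ℂ V] [FiniteDimensional ℂ V] (ρ : Representation ℂ G V) [ρ.IsIrreducible] (p n : ℕ) (hp : p.Prime) (hn : p ^ n ∣ Nat.card G) (hn' : ¬ p ^ (n + 1) ∣ Nat.card G) (hdeg : p ^ n ∣ Module.finrank ℂ V) (x : G) (hx : p ∣ orderOf x) : ρ.character x = 0 := by
  classical
  have hfin := Fintype.ofFinite G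
  have hirr : ρ.IsIrreducible := inferInstance
  let χ : IrrCharacter G := ⟨ρ.character, Cfsg.Agent.Helper74.isIrrCharacter_of_rep ρ hirr⟩
  have hG0 : Nat.card G ≠ 0 := Nat.card_pos.ne'
  have hfac : (Nat.card G).factorization p = n := by
    have h1 : n ≤ (Nat.card G).factorization p :=
      (hp.pow_dvd_iff_le_factorization hG0).mp hn
    have h2 : ¬ (n + 1 ≤ (Nat.card G).factorization p) := fun h =>
      hn' ((hp.pow_dvd_iff_le_factorization hG0).mpr h)
    omega
  have hd : charDegree (χ : G → ℂ) = Module.finrank ℂ V := Cfsg.Agent.Helper74.charDegree_rep ρ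
  exact Cfsg.Agent.Helper74.irr_eq_zero_of_defect_zero χ hp (by rw [hfac, hd]; exact hdeg) x hx

end Cfsg.Agent.S0165
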