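import Cfsg.Statements.S0166
import Cfsg.Agent.Helper3.SplitMain

set_option autoImplicit false
open Cfsg

namespace Cfsg.Agent.S0166

/-- Brauer's splitting field Theorem: a complex representation of a finite group of exponent m is equivalent to a representation by matrices with entries in ℚ adjoined exp(2πi/m). -/
theorem result {G : Type*} [Group G] [Finite G] (n : ℕ) (ρ : Representation ℂ G (Fin n → ℂ)) : ∃ σ : Representation ℂ G (Fin n → ℂ), Nonempty (ρ.Equiv σ) ∧ ∀ g : G, ∀ i j : Fin n, LinearMap.toMatrix' (σ g) i j ∈ Algebra.adjoin ℚ ({Complex.exp (2 * Real.pi * Complex.I / (Monoid.exponent G : ℂ))} : Set ℂ) := by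
  classical
  haveI : Fintype G := Fintype.ofFinite G
  set m := Monoid.exponent G with hm
  have hm0 : m ≠ 0 := Monoid.exponent_ne_zero_of_finite
  haveI : NeZero m := ⟨hm0⟩
  set ζ : ℂ := Complex.exp (2 * Real.pi * Complex.I / (m : ℂ)) with hζ
  have hprim : IsPrimitiveRoot ζ m := Complex.isPrimitiveRoot_exp m hm0
  have hζalg : IsAlgebraic ℚ ζ := by
    refine ⟨Polynomial.X ^ m - 1, ?_, ?_⟩
    · exact (Polynomial.monic_X_pow_sub_C (1 : ℚ) hm0).ne_zero
    · simp [hprim.pow_eq_one]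
  let K : Subfield ℂ := (IntermediateField.adjoin ℚ {ζ}).toSubfield
  have hK : ∀ z : ℂ, z ^ Monoid.exponent G = 1 → z ∈ K := by
    intro z hz
    obtain ⟨i, -, rfl⟩ := hprim.eq_pow_of_pow_eq_one hz
    exact pow_mem (IntermediateField.mem_adjoin_simple_self ℚ ζ) i
  obtain ⟨σ, hσ, hent⟩ := Cfsg.Agent.Helper3.exists_equiv_entries_mem (K := K) hK n ρ
  refine ⟨σ, hσ, fun g i j => ?_⟩
  have h1 := hent g i j
  have h2 : (IntermediateField.adjoin ℚ {ζ}).toSubalgebra = Algebra.adjoin ℚ {ζ} :=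
    IntermediateField.adjoin_simple_toSubalgebra_of_isAlgebraic hζalg
  rw [← h2]
  exact h1

end Cfsg.Agent.S0166
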