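import Cfsg.Statements.S4856
import Cfsg.Agent.Helper79.CharComplete
import Cfsg.Agent.Helper81.Schur

set_option autoImplicit false
open Cfsg

namespace Cfsg.Agent.S4856

open scoped ComplexConjugate

/-- For an irreducible character, the double sum over commutators. -/
theorem irr_sum_commutator {G : Type*} [Group G] [Fintype G] {χ : G → ℂ}
    (hχ : IsIrrCharacter G χ) (z : G) :
    ∑ x : G, ∑ y : G, χ (x * y * x⁻¹ * y⁻¹ * z) = ((Nat.card G : ℂ) / χ 1) ^ 2 * χ z := by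
  obtain ⟨n, ρ, hρ, rfl⟩ := hχ
  have := hρ
  rw [Helper81.sum_char_commutator_mul ρ z, Representation.char_one]

/-- The regular character: `∑ χ, χ 1 * χ w` is `|G|` at `w = 1` and `0` elsewhere. -/
theorem sum_irr_one_mul {G : Type*} [Group G] [Fintype G] [Fintype (IrrCharacter G)] [DecidableEq G]
    (w : G) :
    ∑ χ : IrrCharacter G, (χ : G → ℂ) 1 * (χ : G → ℂ) w = if w = 1 then (Nat.card G : ℂ) else 0 := by
  classical
  have h := Helper79.column_orthogonality (G := G) w 1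
  have h1 : ∀ χ : IrrCharacter G, (χ : G → ℂ) w * conj ((χ : G → ℂ) 1) =
      (χ : G → ℂ) 1 * (χ : G → ℂ) w := by
    intro χ
    rw [Helper79.irr_one χ, Complex.conj_natCast, mul_comm]
  simp only [h1] at h
  rw [h]
  have h2 : IsConj (1 : G) w ↔ w = 1 := by
    exact isConj_one_right
  have h3 : Nat.card (Subgroup.centralizer ({(1 : G)} : Set G)) = Nat.card G := by
    have : Subgroup.centralizer ({(1 : G)} : Set G) = ⊤ := by
      ext x
      simp [Subgroup.mem_centralizer_iff]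
    rw [this, Subgroup.card_top]
  simp only [h2, h3]

theorem result {G : Type*} [Group G] [Finite G] (z : G) : (Nat.card {xy : G × G // xy.1 * xy.2 * xy.1⁻¹ * xy.2⁻¹ = z} : ℂ) = (Nat.card G : ℂ) * ∑ᶠ χ : Cfsg.IrrCharacter G, (χ : G → ℂ) z / (χ : G → ℂ) 1 := by
  classical
  have := Fintype.ofFinite G
  have : Finite (IrrCharacter G) := Helper79.irr_finite'
  have := Fintype.ofFinite (IrrCharacter G)
  rw [finsum_eq_sum_of_fintype]
  have hG : (Nat.card G : ℂ) ≠ 0 := Helper79.card_ne_zero_complex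
  -- symmetry `N(z) = N(z⁻¹)`
  have hsymm : Nat.card {xy : G × G // xy.1 * xy.2 * xy.1⁻¹ * xy.2⁻¹ = z} =
      Nat.card {xy : G × G // xy.1 * xy.2 * xy.1⁻¹ * xy.2⁻¹ * z = 1} := by
    refine Nat.card_congr ⟨fun p => ⟨(p.1.2, p.1.1), ?_⟩, fun p => ⟨(p.1.2, p.1.1), ?_⟩, ?_, ?_⟩
    · obtain ⟨⟨x, y⟩, h⟩ := p
      simp only at h ⊢
      subst h; group
    · obtain ⟨⟨x, y⟩, h⟩ := p
      simp only at h ⊢
      have h2 : z = (x * y * x⁻¹ * y⁻¹)⁻¹ := by
        rw [eq_comm, inv_eq_iff_mul_eq_one]; exact h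
      rw [h2]; group
    · intro p; rfl
    · intro p; rfl
  rw [hsymm]
  -- count as a sum of indicators
  have hcount : (Nat.card {xy : G × G // xy.1 * xy.2 * xy.1⁻¹ * xy.2⁻¹ * z = 1} : ℂ) =
      ∑ x : G, ∑ y : G, if x * y * x⁻¹ * y⁻¹ * z = 1 then (1 : ℂ) else 0 := by
    rw [Nat.card_eq_fintype_card, Fintype.card_subtype, ← Finset.sum_product', Finset.univ_product_univ,
      Finset.sum_boole]
  rw [hcount]
  have hind : ∀ x y : G, (if x * y * x⁻¹ * y⁻¹ * z = 1 then (1 : ℂ) else 0) =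
      (Nat.card G : ℂ)⁻¹ * ∑ χ : IrrCharacter G, (χ : G → ℂ) 1 * (χ : G → ℂ) (x * y * x⁻¹ * y⁻¹ * z) := by
    intro x y
    rw [sum_irr_one_mul]
    split_ifs
    · rw [inv_mul_cancel₀ hG]
    · rw [mul_zero]
  simp only [hind]
  simp only [← Finset.mul_sum]
  have h3 : ∑ x : G, ∑ y : G, ∑ χ : IrrCharacter G, (χ : G → ℂ) 1 * (χ : G → ℂ) (x * y * x⁻¹ * y⁻¹ * z)
      = ∑ χ : IrrCharacter G, (χ : G → ℂ) 1 * ∑ x : G, ∑ y : G, (χ : G → ℂ) (x * y * x⁻¹ * y⁻¹ * z) := by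
    simp only [Finset.mul_sum]
    rw [Finset.sum_comm (γ := IrrCharacter G)]
    refine Finset.sum_congr rfl fun x _ => ?_
    rw [Finset.sum_comm]
  rw [h3, Finset.mul_sum, Finset.mul_sum]
  refine Finset.sum_congr rfl fun χ _ => ?_
  rw [irr_sum_commutator χ.2 z]
  have h1 : (χ : G → ℂ) 1 ≠ 0 := Helper79.irr_one_ne_zero χ
  field_simp

end Cfsg.Agent.S4856
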