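import Cfsg.Statements.S0167
import Cfsg.Agent.S4856

set_option autoImplicit false
open Cfsg

namespace Cfsg.Agent.S0167

/-- An element g of a finite group is a commutator if and only if the sum over the irreducible characters χ of χ g / χ 1 is nonzero. -/
theorem result {G : Type*} [Group G] [Finite G] (g : G) : (∃ a b : G, g = a * b * a⁻¹ * b⁻¹) ↔ ∑ᶠ χ : Cfsg.IrrCharacter G, (χ : G → ℂ) g / (χ : G → ℂ) 1 ≠ 0 := by
  have h := Cfsg.Agent.S4856.result g
  have hG : (Nat.card G : ℂ) ≠ 0 := by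
    have : 0 < Nat.card G := Nat.card_pos
    exact_mod_cast this.ne'
  have hfin : Finite {xy : G × G // xy.1 * xy.2 * xy.1⁻¹ * xy.2⁻¹ = g} := inferInstance
  constructor
  · rintro ⟨a, b, hab⟩
    intro h0
    rw [h0, mul_zero] at h
    have h1 : Nat.card {xy : G × G // xy.1 * xy.2 * xy.1⁻¹ * xy.2⁻¹ = g} = 0 := by
      exact_mod_cast h
    have : IsEmpty {xy : G × G // xy.1 * xy.2 * xy.1⁻¹ * xy.2⁻¹ = g} :=
      (Nat.card_eq_zero.mp h1).resolve_right (by simpa using hfin)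
    exact this.false ⟨(a, b), hab.symm⟩
  · intro hne
    have h1 : (Nat.card {xy : G × G // xy.1 * xy.2 * xy.1⁻¹ * xy.2⁻¹ = g} : ℂ) ≠ 0 := by
      rw [h]
      exact mul_ne_zero hG hne
    have h2 : Nat.card {xy : G × G // xy.1 * xy.2 * xy.1⁻¹ * xy.2⁻¹ = g} ≠ 0 := by
      exact_mod_cast h1
    have : Nonempty {xy : G × G // xy.1 * xy.2 * xy.1⁻¹ * xy.2⁻¹ = g} := by
      by_contra hempty
      rw [not_nonempty_iff] at hempty
      exact h2 (Nat.card_eq_zero.mpr (Or.inl hempty))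
    obtain ⟨⟨⟨a, b⟩, hab⟩⟩ := this
    exact ⟨a, b, hab.symm⟩

end Cfsg.Agent.S0167
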