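import Cfsg.Statements.S0168
import Cfsg.Agent.Helper3.CharEq
import Cfsg.Agent.Helper80.CharLevel

set_option autoImplicit false
open Cfsg

namespace Cfsg.Agent.S0168

open scoped ComplexConjugate

/-- The Burnside–Brauer Theorem. Let χ be the character of a faithful complex representation of a finite group, taking m distinct values. Then every irreducible character has nonzero inner product with χ ^ i for some i < m. -/
theorem result {G : Type*} [Group G] [Fintype G] {V : Type*} [AddCommGroup V] [Module ℂ V] [FiniteDimensional ℂ V] (ρ : Representation ℂ G V) (hfaithful : Function.Injective ρ) (ψ : G → ℂ) (hψ : Cfsg.IsIrrCharacter G ψ) : ∃ i : ℕ, i < Nat.card (Set.range ρ.character) ∧ Cfsg.classInner (fun g => ρ.character g ^ i) ψ ≠ 0 := by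
  classical
  by_contra hcon
  push Not at hcon
  set θ := ρ.character with hθ
  have hfin : Finite (Set.range θ) := Set.finite_range θ
  set m := Nat.card (Set.range θ) with hm
  let e : Set.range θ ≃ Fin m := Finite.equivFin (Set.range θ)
  let a : Fin m → ℂ := fun j => ((e.symm j : Set.range θ) : ℂ)
  have ha : Function.Injective a := fun i j h => e.symm.injective (Subtype.ext h)
  let idx : G → Fin m := fun g => e ⟨θ g, Set.mem_range_self g⟩
  have hidx : ∀ g, a (idx g) = θ g := by
    intro g
    simp [a, idx]
  let β : Fin m → ℂ := fun j => ∑ g ∈ Finset.univ.filter (fun g => idx g = j), conj (ψ g)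
  have hG : (Nat.card G : ℂ) ≠ 0 := by
    have : 0 < Nat.card G := Nat.card_pos
    exact_mod_cast this.ne'
  have hzero : ∀ i : Fin m, ∑ j : Fin m, β j * a j ^ (i : ℕ) = 0 := by
    intro i
    have h1 := hcon i i.2
    unfold classInner at h1
    have h2 : ∑ g : G, θ g ^ (i : ℕ) * conj (ψ g) = 0 := by
      rcases mul_eq_zero.mp h1 with h | h
      · exact absurd (inv_eq_zero.mp h) hG
      · exact h
    rw [← h2, ← Finset.sum_fiberwise Finset.univ idx]
    refine Finset.sum_congr rfl fun j _ => ?_
    simp only [β]
    rw [Finset.sum_mul]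
    refine Finset.sum_congr rfl fun g hg => ?_
    rw [Finset.mem_filter] at hg
    rw [← hg.2, hidx, mul_comm]
  have hβ : β = 0 := Matrix.eq_zero_of_forall_pow_sum_mul_pow_eq_zero ha hzero
  -- the fibre over `θ 1` is `{1}`
  have hfib : Finset.univ.filter (fun g => idx g = idx 1) = {1} := by
    ext g
    simp only [Finset.mem_filter, Finset.mem_univ, true_and, Finset.mem_singleton]
    constructor
    · intro h
      have h1 : θ g = θ 1 := by rw [← hidx g, ← hidx 1, h]
      rw [hθ, Representation.char_one,
        Helper3.char_eq_finrank_iff ρ g (isOfFinOrder_of_finite g)] at h1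
      apply hfaithful
      rw [h1, map_one]
      rfl
    · intro h; rw [h]
  have h3 : β (idx 1) = conj (ψ 1) := by
    simp only [β]
    rw [hfib, Finset.sum_singleton]
  rw [hβ] at h3
  have h4 : ψ 1 ≠ 0 := Helper80.IsIrrCharacter.map_one_ne_zero hψ
  apply h4
  have : conj (ψ 1) = 0 := h3.symm
  simpa using this

end Cfsg.Agent.S0168
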