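import Cfsg.Statements.S0173
import Cfsg.Agent.Helper81.BrauerPerm
import Cfsg.Agent.Helper80.Pullback
import Cfsg.Agent.Helper3.ClassFunction

set_option autoImplicit false
open Cfsg

namespace Cfsg.Agent.S0173

theorem map_mk {G : Type*} [Group G] (f : G →* G) (g : G) :
    ConjClasses.map f (ConjClasses.mk g) = ConjClasses.mk (f g) := rfl

/-- The permutation of the conjugacy classes induced by an automorphism. -/
def classPerm {G : Type*} [Group G] (α : G ≃* G) : Equiv.Perm (ConjClasses G) where
  toFun := ConjClasses.map α.toMonoidHom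
  invFun := ConjClasses.map α.symm.toMonoidHom
  left_inv c := by
    obtain ⟨g, rfl⟩ := ConjClasses.exists_rep c
    rw [map_mk, map_mk]
    simp
  right_inv c := by
    obtain ⟨g, rfl⟩ := ConjClasses.exists_rep c
    rw [map_mk, map_mk]
    simp

/-- Brauer's permutation lemma for a single automorphism: the number of conjugacy classes mapped to themselves equals the number of irreducible complex characters χ with χ ∘ α = χ. -/
theorem result {G : Type*} [Group G] [Finite G] (α : G ≃* G) : Nat.card {C : ConjClasses G // ConjClasses.map α.toMonoidHom C = C} = Nat.card {χ : Cfsg.IrrCharacter G // (χ : G → ℂ) ∘ α = (χ : G → ℂ)} := by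
  classical
  have : Fintype G := Fintype.ofFinite G
  have : Fintype (Cfsg.IrrCharacter G) := Fintype.ofFinite _
  have : Fintype (ConjClasses G) := Fintype.ofFinite _
  have h := Cfsg.Agent.Helper81.brauer_perm (G := G) (Cfsg.Agent.Helper80.irrCongr α)
    (classPerm α) (by
      intro χ g g' hgg'
      change ConjClasses.map α.toMonoidHom (ConjClasses.mk g) = ConjClasses.mk g' at hgg'
      rw [map_mk, ConjClasses.mk_eq_mk_iff_isConj] at hgg'
      have h1 : ((Cfsg.Agent.Helper80.irrCongr α χ : Cfsg.IrrCharacter G) : G → ℂ) g' =
          ((Cfsg.Agent.Helper80.irrCongr α χ : Cfsg.IrrCharacter G) : G → ℂ) (α g) :=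
        (Cfsg.Agent.Helper3.isClassFunction_isConj
          (Cfsg.Agent.Helper3.isClassFunction_irr _) hgg').symm
      rw [h1, Cfsg.Agent.Helper80.irrCongr_apply]
      simp)
  have e1 : {C : ConjClasses G // ConjClasses.map α.toMonoidHom C = C} =
      {c : ConjClasses G // classPerm α c = c} := rfl
  rw [e1, ← h]
  apply Nat.card_congr
  apply Equiv.subtypeEquivRight
  intro χ
  constructor
  · intro hχ
    funext g
    have := congrArg (fun ψ : Cfsg.IrrCharacter G => (ψ : G → ℂ) (α g)) hχ
    simp only [Cfsg.Agent.Helper80.irrCongr_apply] at this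
    simpa using this.symm
  · intro hχ
    apply Subtype.ext
    funext g
    rw [Cfsg.Agent.Helper80.irrCongr_apply]
    have := congrFun hχ (α.symm g)
    simpa using this.symm

end Cfsg.Agent.S0173
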