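import Cfsg.Statements.S0178
import Cfsg.Agent.Helper3.Subrep

set_option autoImplicit false
open Cfsg

namespace Cfsg.Agent.S0178

open Module Representation

/-- The degree of an irreducible complex representation of a finite group is at most the index of any abelian subgroup. -/
theorem result {G : Type*} [Group G] [Finite G] {V : Type*} [AddCommGroup V] [Module ℂ V] [FiniteDimensional ℂ V] (ρ : Representation ℂ G V) [ρ.IsIrreducible] (A : Subgroup G) (hA : ∀ a ∈ A, ∀ b ∈ A, a * b = b * a) : Module.finrank ℂ V ≤ A.index := by
  classical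
  have : Fintype (G ⧸ A) := Fintype.ofFinite _
  -- restriction to A
  let σ : Representation ℂ A V := (ρ : G →* Module.End ℂ V).comp A.subtype
  have hcomm : IsMulCommutative A := ⟨⟨fun a b => Subtype.ext (hA a a.2 b b.2)⟩⟩
  -- V is nontrivial
  have hV : Nontrivial V := by
    by_contra hnt
    rw [not_nontrivial_iff_subsingleton] at hnt
    have h1 : (⊥ : Subrepresentation ρ) = ⊤ := by
      apply Subrepresentation.toSubmodule_injective
      exact Subsingleton.elim _ _
    exact bot_ne_top h1
  have htop : (⊤ : Subrepresentation σ) ≠ ⊥ := by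
    intro h
    obtain ⟨v, hv⟩ := exists_ne (0 : V)
    have h1 : v ∈ (⊤ : Subrepresentation σ) := Submodule.mem_top
    rw [h] at h1
    exact hv ((Submodule.mem_bot ℂ).mp h1)
  obtain ⟨W, -, hWne, hWirr⟩ := Cfsg.Agent.Helper3.exists_irreducible_le (⊤ : Subrepresentation σ) htop
  have hW1 : finrank ℂ W.toSubmodule = 1 :=
    IsIrreducible.finrank_eq_one_of_isMulCommutative W.toRepresentation
  obtain ⟨⟨w, hwW⟩, hw0, hwspan⟩ := finrank_eq_one_iff'.mp hW1
  have hw0' : w ≠ 0 := fun h => hw0 (Subtype.ext h)
  -- every element of A maps w to a multiple of w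
  have hscal : ∀ a : A, ∃ c : ℂ, ρ (a : G) w = c • w := by
    intro a
    have h1 : σ a w ∈ W.toSubmodule := W.apply_mem_toSubmodule a hwW
    obtain ⟨c, hc⟩ := hwspan ⟨σ a w, h1⟩
    refine ⟨c, ?_⟩
    have := congrArg Subtype.val hc
    exact this.symm
  -- the span of the orbit of w
  let U : Subrepresentation ρ :=
    { toSubmodule := Submodule.span ℂ (Set.range fun g : G => ρ g w)
      apply_mem_toSubmodule := by
        intro h v hv
        induction hv using Submodule.span_induction with
        | mem x hx =>
          obtain ⟨g, rfl⟩ := hx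
          apply Submodule.subset_span
          refine ⟨h * g, ?_⟩
          simp [map_mul]
        | zero => simp
        | add x y _ _ hx hy => rw [map_add]; exact Submodule.add_mem _ hx hy
        | smul c x _ hx => rw [map_smul]; exact Submodule.smul_mem _ c hx }
  have hUtop : U = ⊤ := by
    rcases eq_bot_or_eq_top U with h | h
    · exfalso
      have h1 : w ∈ U := by
        apply Submodule.subset_span
        exact ⟨1, by simp⟩
      rw [h] at h1
      exact hw0' ((Submodule.mem_bot ℂ).mp h1)
    · exact h
  -- the span is generated by coset representatives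
  have hle : Submodule.span ℂ (Set.range fun g : G => ρ g w) ≤
      Submodule.span ℂ (Set.range fun q : G ⧸ A => ρ (Quotient.out q) w) := by
    rw [Submodule.span_le]
    rintro _ ⟨g, rfl⟩
    obtain ⟨a, ha⟩ := QuotientGroup.mk_out_eq_mul A g
    have hg : g = Quotient.out (g : G ⧸ A) * ((a⁻¹ : A) : G) := by
      rw [ha]; simp
    obtain ⟨c, hc⟩ := hscal a⁻¹
    have h1 : ρ g w = c • ρ (Quotient.out (g : G ⧸ A)) w := by
      conv_lhs => rw [hg]
      rw [map_mul, Module.End.mul_apply, hc, map_smul]
    change ρ g w ∈ _
    rw [h1]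
    apply Submodule.smul_mem
    apply Submodule.subset_span
    exact ⟨(g : G ⧸ A), rfl⟩
  have hspan_top : Submodule.span ℂ (Set.range fun q : G ⧸ A => ρ (Quotient.out q) w) = ⊤ := by
    apply top_le_iff.mp
    have : U.toSubmodule = ⊤ := by rw [hUtop]; rfl
    rw [← this]
    exact hle
  have h1 := finrank_range_le_card (R := ℂ) (fun q : G ⧸ A => ρ (Quotient.out q) w)
  rw [Set.finrank, hspan_top, finrank_top] at h1
  rw [Subgroup.index_eq_card, Nat.card_eq_fintype_card]
  exact h1

end Cfsg.Agent.S0178
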