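import Cfsg.Statements.S0180
import Cfsg.Agent.Helper82.GaloisRat
import Cfsg.Agent.Helper79.CharComplete
-- import your own Cfsg.Agent.* helpers here

set_option autoImplicit false
open Cfsg

namespace Cfsg.Agent.S0180

/-- Every irreducible complex character of a finite group takes only rational values if and only if g is conjugate to g ^ m for every element g and every m coprime to the group order. -/
theorem result {G : Type*} [Group G] [Finite G] : (∀ χ : Cfsg.IrrCharacter G, ∀ g : G, ∃ q : ℚ, (χ : G → ℂ) g = (q : ℂ)) ↔ ∀ m : ℕ, m.Coprime (Nat.card G) → ∀ g : G, IsConj g (g ^ m) := by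
  classical
  have : Fintype G := Fintype.ofFinite G
  have hN : 0 < Nat.card G := Nat.card_pos
  constructor
  · intro hrat m hm g
    rw [Cfsg.Agent.Helper79.isConj_iff_forall_irr_eq]
    intro χ
    obtain ⟨q, hq⟩ := hrat χ g
    rw [hq]
    exact (Cfsg.Agent.Helper82.char_pow_eq_of_rational (Cfsg.Agent.Helper79.irr_isCharacter χ) g
      (Nat.card G) hN pow_card_eq_one' q hq m hm).symm
  · intro hconj χ g
    apply Cfsg.Agent.Helper82.char_rational_of_pow_eq (Cfsg.Agent.Helper79.irr_isCharacter χ) g
      (Nat.card G) hN pow_card_eq_one'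
    intro k _ hk
    have hc := hconj k hk g
    exact ((Cfsg.Agent.Helper79.isConj_iff_forall_irr_eq g (g ^ k)).1 hc χ).symm

end Cfsg.Agent.S0180
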