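import Cfsg.Statements.S0181
import Mathlib

set_option autoImplicit false
open Cfsg

namespace Cfsg.Agent.S0181

open Representation

/-- Schur's lemma: an endomorphism commuting with an irreducible complex representation is a
scalar. -/
theorem schur_scalar {G : Type*} [Group G] {V : Type*} [AddCommGroup V] [Module ℂ V]
    [FiniteDimensional ℂ V] (ρ : Representation ℂ G V) [ρ.IsIrreducible] (T : Module.End ℂ V)
    (hT : ∀ g, T * ρ g = ρ g * T) : ∃ c : ℂ, T = c • (1 : Module.End ℂ V) := by
  let f : Representation.IntertwiningMap ρ ρ := ⟨T, fun g => hT g⟩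
  obtain ⟨c, hc⟩ :=
    (Representation.IsIrreducible.algebraMap_intertwiningMap_bijective_of_isAlgClosed
      (ρ := ρ)).2 f
  refine ⟨c, ?_⟩
  have h1 : f.toLinearMap = (algebraMap ℂ (Representation.IntertwiningMap ρ ρ) c).toLinearMap := by
    rw [hc]
  rw [IntertwiningMap.algebraMap_apply] at h1
  exact h1

/-- Every element of the coset `H g` is conjugate to `g` when `C_H(g) = 1`. -/
theorem isConj_mul_of_free {G : Type*} [Group G] [Finite G] (H : Subgroup G) [H.Normal] (g : G)
    (hg : ∀ h ∈ H, h * g = g * h → h = 1) (h : H) : IsConj g ((h : G) * g) := by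
  let f : H → H := fun n => ⟨(n : G) * g * (n : G)⁻¹ * g⁻¹, by
    have h1 : g * (n : G)⁻¹ * g⁻¹ ∈ H := Subgroup.Normal.conj_mem inferInstance _ (H.inv_mem n.2) g
    have h2 : (n : G) * (g * (n : G)⁻¹ * g⁻¹) ∈ H := H.mul_mem n.2 h1
    have h3 : (n : G) * g * (n : G)⁻¹ * g⁻¹ = (n : G) * (g * (n : G)⁻¹ * g⁻¹) := by group
    rw [h3]; exact h2⟩
  have hinj : Function.Injective f := by
    intro n m hnm
    have h1 : (n : G) * g * (n : G)⁻¹ * g⁻¹ = (m : G) * g * (m : G)⁻¹ * g⁻¹ :=
      congrArg Subtype.val hnm
    have h2 : (n : G) * g * (n : G)⁻¹ = (m : G) * g * (m : G)⁻¹ := mul_right_cancel h1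
    have h3 : ((m : G)⁻¹ * (n : G)) * g = g * ((m : G)⁻¹ * (n : G)) := by
      calc ((m : G)⁻¹ * (n : G)) * g = (m : G)⁻¹ * ((n : G) * g * (n : G)⁻¹) * (n : G) := by group
        _ = (m : G)⁻¹ * ((m : G) * g * (m : G)⁻¹) * (n : G) := by rw [h2]
        _ = g * ((m : G)⁻¹ * (n : G)) := by group
    have h4 := hg _ (H.mul_mem (H.inv_mem m.2) n.2) h3
    apply Subtype.ext
    have : (n : G) = (m : G) := by
      calc (n : G) = (m : G) * ((m : G)⁻¹ * (n : G)) := by group
        _ = (m : G) := by rw [h4, mul_one]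
    exact this
  obtain ⟨n, hn⟩ := (Finite.injective_iff_surjective.mp hinj) h
  have h1 : (n : G) * g * (n : G)⁻¹ * g⁻¹ = (h : G) := congrArg Subtype.val hn
  rw [isConj_iff]
  refine ⟨(n : G), ?_⟩
  rw [← h1]; group

/-- Let H be a normal subgroup of a finite group G and ρ an irreducible complex representation whose kernel does not contain H. If g commutes with no non-identity element of H, then the character of ρ vanishes at g. -/
theorem result {G : Type*} [Group G] [Finite G] {V : Type*} [AddCommGroup V] [Module ℂ V] [FiniteDimensional ℂ V] (ρ : Representation ℂ G V) [ρ.IsIrreducible] (H : Subgroup G) [H.Normal] (hker : ∃ h ∈ H, ρ h ≠ LinearMap.id) (g : G) (hg : ∀ h ∈ H, h * g = g * h → h = 1) : ρ.character g = 0 := by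
  classical
  have : Fintype H := Fintype.ofFinite H
  set S : Module.End ℂ V := ∑ h : H, ρ (h : G) with hS
  -- S commutes with everything
  have hcomm : ∀ x : G, S * ρ x = ρ x * S := by
    intro x
    rw [hS, Finset.sum_mul, Finset.mul_sum]
    -- reindex by conjugation
    let e : H ≃ H :=
      { toFun := fun h => ⟨x * (h : G) * x⁻¹, Subgroup.Normal.conj_mem inferInstance _ h.2 x⟩
        invFun := fun h => ⟨x⁻¹ * (h : G) * x, by
          have := Subgroup.Normal.conj_mem (inferInstance : H.Normal) _ h.2 x⁻¹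
          simpa using this⟩
        left_inv := fun h => by apply Subtype.ext; simp [mul_assoc]
        right_inv := fun h => by apply Subtype.ext; simp [mul_assoc] }
    rw [← Equiv.sum_comp e (fun h : H => ρ (h : G) * ρ x)]
    refine Finset.sum_congr rfl fun h _ => ?_
    change ρ (x * (h : G) * x⁻¹) * ρ x = ρ x * ρ (h : G)
    rw [← map_mul, ← map_mul]
    congr 1
    group
  obtain ⟨c, hc⟩ := schur_scalar ρ S hcomm
  -- left multiplication by an element of H fixes S
  have hfix : ∀ h₀ : H, ρ (h₀ : G) * S = S := by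
    intro h₀
    rw [hS, Finset.mul_sum]
    rw [← Equiv.sum_comp (Equiv.mulLeft h₀) (fun h : H => ρ (h : G))]
    refine Finset.sum_congr rfl fun h _ => ?_
    rw [← map_mul]
    rfl
  have hc0 : c = 0 := by
    by_contra hne
    obtain ⟨h₀, hh₀, hρ⟩ := hker
    apply hρ
    have h1 := hfix ⟨h₀, hh₀⟩
    rw [hc] at h1
    have h2 : c • ρ h₀ = c • (1 : Module.End ℂ V) := by
      rw [← h1]
      ext v
      simp
    have h3 := smul_right_injective (Module.End ℂ V) hne h2
    exact h3
  have hS0 : S = 0 := by rw [hc, hc0, zero_smul]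
  -- trace computation
  have htr : ∑ h : H, ρ.character ((h : G) * g) = 0 := by
    have h1 : ∑ h : H, ρ.character ((h : G) * g) = LinearMap.trace ℂ V (S * ρ g) := by
      rw [hS, Finset.sum_mul, map_sum]
      refine Finset.sum_congr rfl fun h _ => ?_
      rw [Representation.character, map_mul]
    rw [h1, hS0, zero_mul, map_zero]
  have hconst : ∀ h : H, ρ.character ((h : G) * g) = ρ.character g := by
    intro h
    obtain ⟨x, hx⟩ := isConj_iff.mp (isConj_mul_of_free H g hg h)
    rw [← hx, Representation.char_conj]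
  simp only [hconst, Finset.sum_const, Finset.card_univ, nsmul_eq_mul] at htr
  rcases mul_eq_zero.mp htr with h | h
  · exfalso
    have : Fintype.card H ≠ 0 := Fintype.card_ne_zero
    exact this (by exact_mod_cast h)
  · exact h

end Cfsg.Agent.S0181
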