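import Cfsg.Statements.S0184
import Mathlib
import Cfsg.Agent.Helper76.CharCentral
import Cfsg.Agent.Helper79.CharComplete
import Cfsg.Agent.Helper74.FSCount

set_option autoImplicit false
open Cfsg

namespace Cfsg.Agent.S0184

/-- In a finite p-group, a nontrivial normal subgroup contains a nontrivial central element. -/
theorem exists_center_mem_normal {G : Type*} [Group G] [Finite G] {p : ℕ} [Fact p.Prime]
    (hG : IsPGroup p G) (N : Subgroup G) [N.Normal] (hN : N ≠ ⊥) :
    ∃ y ∈ N, y ∈ Subgroup.center G ∧ y ≠ 1 := by
  let _ : MulAction G N := MulAction.compHom N (MulAut.conjNormal (H := N))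
  have hsm : ∀ (g : G) (n : N), ((g • n : N) : G) = g * n * g⁻¹ := fun g n => rfl
  have hp : p ∣ Nat.card N := by
    have hNp : IsPGroup p N := hG.to_subgroup N
    obtain ⟨k, hk⟩ := IsPGroup.iff_card.mp hNp
    rcases Nat.eq_zero_or_pos k with h0 | h0
    · exfalso
      rw [h0, pow_zero] at hk
      exact hN (Subgroup.card_eq_one.mp hk)
    · rw [hk]
      exact dvd_pow_self p (by omega)
  have h1 : (1 : N) ∈ MulAction.fixedPoints G N := by
    intro g
    apply Subtype.ext
    rw [hsm]
    simp
  obtain ⟨b, hb, hne⟩ := hG.exists_fixed_point_of_prime_dvd_card_of_fixed_point N hp h1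
  refine ⟨b.1, b.2, ?_, ?_⟩
  · rw [Subgroup.mem_center_iff]
    intro g
    have h2 := congrArg Subtype.val (hb g)
    rw [hsm] at h2
    calc g * b.1 = (g * b.1 * g⁻¹) * g := by group
      _ = b.1 * g := by rw [h2]
  · intro h
    apply hne
    apply Subtype.ext
    exact h.symm

/-- In a finite cyclic group, an element `w` with `w ^ n = 1` lies in the subgroup generated by any
element of order `n`. -/
theorem mem_zpowers_of_pow_eq_one {Z : Type*} [Group Z] [Finite Z] [IsCyclic Z] {n : ℕ} (hn : 0 < n)
    (u w : Z) (hu : orderOf u = n) (hw : w ^ n = 1) : w ∈ Subgroup.zpowers u := by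
  classical
  have := Fintype.ofFinite Z
  have hle := IsCyclic.card_pow_eq_one_le (α := Z) hn
  have hsub : (Finset.univ.filter fun a : Z => a ∈ Subgroup.zpowers u) ⊆
      (Finset.univ.filter fun a : Z => a ^ n = 1) := by
    intro a ha
    rw [Finset.mem_filter] at ha ⊢
    refine ⟨Finset.mem_univ _, ?_⟩
    obtain ⟨j, rfl⟩ := Subgroup.mem_zpowers_iff.mp ha.2
    rw [← zpow_natCast, ← zpow_mul, mul_comm, zpow_mul, zpow_natCast, ← hu, pow_orderOf_eq_one,
      one_zpow]
  have hcard : (Finset.univ.filter fun a : Z => a ∈ Subgroup.zpowers u).card = n := by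
    rw [← hu, ← Nat.card_zpowers, Nat.card_eq_fintype_card, Fintype.card_subtype]
  have heq := Finset.eq_of_subset_of_card_le hsub (by rw [hcard]; exact hle)
  have hwS : w ∈ (Finset.univ.filter fun a : Z => a ^ n = 1) := by
    rw [Finset.mem_filter]; exact ⟨Finset.mem_univ _, hw⟩
  rw [← heq, Finset.mem_filter] at hwS
  exact hwS.2

/-- A finite p-group admits a faithful irreducible complex representation if and only if its centre is cyclic. -/
theorem result {G : Type*} [Group G] [Finite G] (p : ℕ) [Fact p.Prime] (hG : IsPGroup p G) : (∃ (n : ℕ) (ρ : Representation ℂ G (Fin n → ℂ)), ρ.IsIrreducible ∧ Function.Injective ρ) ↔ IsCyclic (Subgroup.center G) := by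
  classical
  constructor
  · rintro ⟨n, ρ, hirr, hinj⟩
    have hn : 0 < n := by
      obtain ⟨m, hm, hχ⟩ := Cfsg.Agent.Helper76.irr_exists_degree (χ := ρ.character) ⟨n, ρ, hirr, rfl⟩
      rw [Representation.char_one] at hχ
      simp at hχ
      omega
    let i0 : Fin n := ⟨0, hn⟩
    have hval : ∀ a b : ℂ, a • (1 : Module.End ℂ (Fin n → ℂ)) = b • 1 → a = b := by
      intro a b hab
      have := congrFun (LinearMap.congr_fun hab (Pi.single i0 1)) i0
      simpa using this
    have hsc : ∀ z : Subgroup.center G, ∃ c : ℂ, ρ z.1 = c • (1 : Module.End ℂ (Fin n → ℂ)) :=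
      fun z => Cfsg.Agent.Helper76.exists_scalar_of_mem_center ρ z.1 z.2
    choose c hc using hsc
    let f : Subgroup.center G →* ℂ :=
      { toFun := c
        map_one' := by
          apply hval
          rw [← hc 1]
          simp
        map_mul' := by
          intro z w
          apply hval
          rw [← hc (z * w)]
          have : ((z * w : Subgroup.center G) : G) = z.1 * w.1 := rfl
          rw [this, map_mul, hc z, hc w]
          simp [smul_smul, mul_comm] }
    have hf : Function.Injective f := by
      intro z w hzw
      apply Subtype.ext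
      apply hinj
      rw [hc z, hc w]
      have : c z = c w := hzw
      rw [this]
    exact isCyclic_of_injective_ringHom f hf
  · intro hcyc
    have := Fintype.ofFinite G
    by_cases htriv : Subsingleton G
    · obtain ⟨n, ρ, hirr, -⟩ := (Cfsg.Agent.Helper74.irrTriv G).2
      exact ⟨n, ρ, hirr, fun a b _ => Subsingleton.elim a b⟩
    · rw [not_subsingleton_iff_nontrivial] at htriv
      have hZ : Nontrivial (Subgroup.center G) := hG.center_nontrivial
      have hZp : IsPGroup p (Subgroup.center G) := hG.to_subgroup _
      have hpZ : p ∣ Nat.card (Subgroup.center G) := by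
        obtain ⟨k, hk⟩ := IsPGroup.iff_card.mp hZp
        rcases Nat.eq_zero_or_pos k with h0 | h0
        · exfalso
          rw [h0, pow_zero] at hk
          have := Finite.one_lt_card_iff_nontrivial.mpr hZ
          omega
        · rw [hk]
          exact dvd_pow_self p (by omega)
      obtain ⟨ω, hω⟩ := exists_prime_orderOf_dvd_card' p hpZ
      have hω1 : ω ≠ 1 := by
        intro h
        rw [h, orderOf_one] at hω
        exact (Fact.out : p.Prime).one_lt.ne hω
      -- every nontrivial normal subgroup contains ω
      have hkey : ∀ N : Subgroup G, N.Normal → N ≠ ⊥ → ω.1 ∈ N := by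
        intro N hNn hN
        obtain ⟨y, hyN, hyZ, hy1⟩ := exists_center_mem_normal hG N hN
        -- `K = N ∩ Z` as a subgroup of `Z`
        let K : Subgroup (Subgroup.center G) := N.subgroupOf (Subgroup.center G)
        have hKne : Nontrivial K := by
          refine ⟨⟨⟨⟨y, hyZ⟩, ?_⟩, 1, ?_⟩⟩
          · exact Subgroup.mem_subgroupOf.mpr hyN
          · intro h
            apply hy1
            have := congrArg (fun k : K => ((k : Subgroup.center G) : G)) h
            exact this
        have hKp : IsPGroup p K := hZp.to_subgroup K
        have hpK : p ∣ Nat.card K := by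
          obtain ⟨k, hk⟩ := IsPGroup.iff_card.mp hKp
          rcases Nat.eq_zero_or_pos k with h0 | h0
          · exfalso
            rw [h0, pow_zero] at hk
            have := Finite.one_lt_card_iff_nontrivial.mpr hKne
            omega
          · rw [hk]
            exact dvd_pow_self p (by omega)
        obtain ⟨u, hu⟩ := exists_prime_orderOf_dvd_card' p hpK
        have hu' : orderOf (u : Subgroup.center G) = p := by
          rw [Subgroup.orderOf_coe]; exact hu
        have hmem : ω ∈ Subgroup.zpowers (u : Subgroup.center G) :=
          mem_zpowers_of_pow_eq_one (Fact.out : p.Prime).pos _ ω hu' (by rw [← hω, pow_orderOf_eq_one])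
        have hωK : ω ∈ K := by
          have hle : Subgroup.zpowers (u : Subgroup.center G) ≤ K := by
            rw [Subgroup.zpowers_le]; exact u.2
          exact hle hmem
        exact Subgroup.mem_subgroupOf.mp hωK
      -- an irreducible character separating `ω` from `1`
      have hnc : ¬ IsConj ω.1 1 := by
        rw [isConj_one_left]
        intro h
        apply hω1
        apply Subtype.ext
        exact h
      rw [Cfsg.Agent.Helper79.isConj_iff_forall_irr_eq] at hnc
      push Not at hnc
      obtain ⟨χ, hχ⟩ := hnc
      obtain ⟨n, ρ, hirr, hρχ⟩ := χ.2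
      refine ⟨n, ρ, hirr, ?_⟩
      rw [← MonoidHom.ker_eq_bot_iff]
      by_contra hker
      have hωk := hkey (MonoidHom.ker ρ) (MonoidHom.normal_ker ρ) hker
      rw [MonoidHom.mem_ker] at hωk
      apply hχ
      rw [← hρχ]
      unfold Representation.character
      rw [hωk, map_one ρ]

end Cfsg.Agent.S0184
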