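import Cfsg.Statements.S0185
import Mathlib
import Cfsg.Agent.Helper80.Induced
import Cfsg.Agent.Helper79.Linear

set_option autoImplicit false
open Cfsg

namespace Cfsg.Agent.S0185

/-- If a finite group has a faithful complex representation of degree less than the smallest prime dividing its order, the group is abelian. -/
theorem result {G : Type*} [Group G] [Finite G] {V : Type*} [AddCommGroup V] [Module ℂ V] [FiniteDimensional ℂ V] (ρ : Representation ℂ G V) (hfaithful : Function.Injective ρ) (hdeg : ∀ p : ℕ, p.Prime → p ∣ Nat.card G → Module.finrank ℂ V < p) (a b : G) : a * b = b * a := by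
  classical
  have := Fintype.ofFinite G
  have hfin : Finite (IrrCharacter G) := Cfsg.Agent.Helper79.irr_finite
  have := Fintype.ofFinite (IrrCharacter G)
  set χ : G → ℂ := ρ.character with hχdef
  have hχ : IsCharacter G χ := Cfsg.Agent.Helper80.isCharacter_of_rep ρ
  have hdecomp := Cfsg.Agent.Helper80.eq_sum_mult χ hχ
  have hdegsum := Cfsg.Agent.Helper80.charDegree_eq_sum_mult χ hχ
  have hdegχ : charDegree χ = Module.finrank ℂ V := Cfsg.Agent.Helper79.charDegree_character ρ
  -- constituents are linear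
  have hlin : ∀ ψ : IrrCharacter G, Cfsg.Agent.Helper80.mult χ hχ ψ ≠ 0 → (ψ : G → ℂ) 1 = 1 := by
    intro ψ hm
    have hpos : 0 < charDegree (ψ : G → ℂ) := Cfsg.Agent.Helper79.irr_charDegree_pos ψ
    have hle : charDegree (ψ : G → ℂ) ≤ Module.finrank ℂ V := by
      rw [← hdegχ, hdegsum]
      have h1 : Cfsg.Agent.Helper80.mult χ hχ ψ * charDegree (ψ : G → ℂ) ≤
          ∑ ψ : IrrCharacter G, Cfsg.Agent.Helper80.mult χ hχ ψ * charDegree (ψ : G → ℂ) :=
        Finset.single_le_sum (f := fun ψ : IrrCharacter G => Cfsg.Agent.Helper80.mult χ hχ ψ * charDegree (ψ : G → ℂ))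
          (fun _ _ => Nat.zero_le _) (Finset.mem_univ ψ)
      have h2 : charDegree (ψ : G → ℂ) ≤ Cfsg.Agent.Helper80.mult χ hχ ψ * charDegree (ψ : G → ℂ) :=
        Nat.le_mul_of_pos_left _ (Nat.pos_of_ne_zero hm)
      exact le_trans h2 h1
    have hdvd : charDegree (ψ : G → ℂ) ∣ Nat.card G :=
      Cfsg.Agent.Helper80.IsIrrCharacter.charDegree_dvd_card ψ.2
    have hone : charDegree (ψ : G → ℂ) = 1 := by
      by_contra hne
      obtain ⟨p, hp, hpd⟩ := Nat.exists_prime_and_dvd hne
      have h3 := hdeg p hp (dvd_trans hpd hdvd)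
      have h4 := Nat.le_of_dvd hpos hpd
      omega
    rw [Cfsg.Agent.Helper79.irr_one, hone, Nat.cast_one]
  -- the commutator
  set u : G := a * b * a⁻¹ * b⁻¹ with hu
  have hucomm : u ∈ commutator G := by
    rw [hu]
    exact Subgroup.commutator_mem_commutator (Subgroup.mem_top a) (Subgroup.mem_top b)
  have hψu : ∀ ψ : IrrCharacter G, (Cfsg.Agent.Helper80.mult χ hχ ψ : ℂ) * (ψ : G → ℂ) u =
      (Cfsg.Agent.Helper80.mult χ hχ ψ : ℂ) * (ψ : G → ℂ) 1 := by
    intro ψ
    by_cases hm : Cfsg.Agent.Helper80.mult χ hχ ψ = 0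
    · rw [hm]; simp
    · have h1 := hlin ψ hm
      rw [h1, Cfsg.Agent.Helper79.isCharacter_linear_commutator (Cfsg.Agent.Helper79.irr_isCharacter ψ) h1 hucomm]
  have hχu : χ u = χ 1 := by
    have e1 := congrFun hdecomp u
    have e2 := congrFun hdecomp 1
    simp only [Finset.sum_apply, Pi.smul_apply, smul_eq_mul] at e1 e2
    rw [e1, e2]
    exact Finset.sum_congr rfl (fun ψ _ => hψu ψ)
  have hχ1 : χ 1 = (Module.finrank ℂ V : ℂ) := Representation.char_one ρ
  rw [hχ1] at hχu
  have hρu : ρ u = 1 := (Cfsg.Agent.Helper80.char_eq_finrank_iff ρ u (isOfFinOrder_of_finite u)).mp hχu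
  have hu1 : u = 1 := hfaithful (hρu.trans (map_one ρ).symm)
  calc a * b = (a * b * a⁻¹ * b⁻¹) * (b * a) := by group
    _ = b * a := by rw [← hu, hu1, one_mul]

end Cfsg.Agent.S0185
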