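import Cfsg.Statements.S0186
import Mathlib
import Cfsg.Agent.Helper79.CharComplete
import Cfsg.Agent.Helper74.FSCount
import Cfsg.Agent.S0185

set_option autoImplicit false
open Cfsg

namespace Cfsg.Agent.S0186

/-- Let G be a finite simple group of order n and p a prime dividing n. If G has more than n / p^2 conjugacy classes, then every Sylow p-subgroup of G is abelian. -/
theorem result {G : Type*} [Group G] [Finite G] [IsSimpleGroup G] (p : ℕ) [Fact p.Prime] (hp : p ∣ Nat.card G) (hmany : Nat.card G < p ^ 2 * Nat.card (ConjClasses G)) (P : Sylow p G) (a b : G) (ha : a ∈ P) (hb : b ∈ P) : a * b = b * a := by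
  classical
  have := Fintype.ofFinite G
  have hfin : Finite (IrrCharacter G) := Cfsg.Agent.Helper79.irr_finite
  have := Fintype.ofFinite (IrrCharacter G)
  have hpp : p.Prime := Fact.out
  obtain ⟨e, he⟩ := IsPGroup.iff_card.mp P.isPGroup'
  by_cases hp2 : p ^ 2 ∣ Nat.card G
  · -- a nonprincipal irreducible character of degree `< p`
    set triv : IrrCharacter G := Cfsg.Agent.Helper74.irrTriv G with htrivdef
    have hex : ∃ χ : IrrCharacter G, χ ≠ triv ∧ charDegree (χ : G → ℂ) < p := by
      by_contra hcon
      push Not at hcon
      have hsum := Cfsg.Agent.Helper79.sum_charDegree_sq (G := G)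
      have hk := Cfsg.Agent.Helper79.card_irr_eq_card_conjClasses (G := G)
      rw [← Finset.add_sum_erase Finset.univ _ (Finset.mem_univ triv)] at hsum
      have htriv : charDegree (triv : G → ℂ) = 1 :=
        Cfsg.Agent.Helper79.charDegree_natCast_fun (by simp [htrivdef])
      have hge : (Finset.univ.erase triv).card * p ^ 2 ≤
          ∑ χ ∈ Finset.univ.erase triv, charDegree (χ : G → ℂ) ^ 2 := by
        rw [← smul_eq_mul, ← Finset.sum_const]
        apply Finset.sum_le_sum
        intro χ hχ
        exact Nat.pow_le_pow_left (hcon χ (Finset.ne_of_mem_erase hχ)) 2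
      have hcard : (Finset.univ.erase triv).card = Nat.card (ConjClasses G) - 1 := by
        rw [Finset.card_erase_of_mem (Finset.mem_univ _), Finset.card_univ,
          ← Nat.card_eq_fintype_card, hk]
      obtain ⟨t, ht⟩ := hp2
      rw [htriv] at hsum
      rw [hcard] at hge
      have hkpos : 0 < Nat.card (ConjClasses G) := Nat.card_pos
      have htk : t < Nat.card (ConjClasses G) := by
        rw [ht] at hmany
        exact lt_of_mul_lt_mul_left hmany (Nat.zero_le _)
      have h1 : p ^ 2 * t ≤ p ^ 2 * (Nat.card (ConjClasses G) - 1) :=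
        Nat.mul_le_mul_left _ (by omega)
      nlinarith
    obtain ⟨χ, hχne, hχdeg⟩ := hex
    obtain ⟨m, ρ, hirr, hρχ⟩ := χ.2
    have hm : charDegree (χ : G → ℂ) = m := by
      rw [← hρχ, Cfsg.Agent.Helper79.charDegree_character]
      simp
    -- `ρ` is faithful
    have hinj : Function.Injective ρ := by
      rw [← MonoidHom.ker_eq_bot_iff]
      rcases (MonoidHom.normal_ker ρ).eq_bot_or_eq_top with h | h
      · exact h
      · exfalso
        have hall : ∀ g : G, (χ : G → ℂ) g = (m : ℂ) := by
          intro g
          have hg : g ∈ MonoidHom.ker ρ := by rw [h]; exact Subgroup.mem_top g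
          rw [MonoidHom.mem_ker] at hg
          rw [← hρχ]
          unfold Representation.character
          rw [hg]
          simp
        have h0 := Cfsg.Agent.Helper79.classInner_irr_ne hχne
        unfold classInner at h0
        have h1 : ∑ g : G, (χ : G → ℂ) g * (starRingEnd ℂ) ((triv : G → ℂ) g) = (Nat.card G : ℂ) * m := by
          simp [hall, htrivdef, Nat.card_eq_fintype_card]
        rw [h1, ← mul_assoc, inv_mul_cancel₀ Cfsg.Agent.Helper79.card_ne_zero_complex, one_mul] at h0
        have hm0 : m = 0 := by exact_mod_cast h0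
        have := Cfsg.Agent.Helper79.irr_charDegree_pos χ
        omega
    -- apply the degree criterion to `P`
    have hcomm := Cfsg.Agent.S0185.result (G := (P : Subgroup G))
      (ρ.comp (P : Subgroup G).subtype)
      (by
        intro x y hxy
        apply Subtype.ext
        apply hinj
        exact hxy)
      (by
        intro q hq hqd
        rw [he] at hqd
        have hqp : q = p := (Nat.prime_dvd_prime_iff_eq hq hpp).mp (hq.dvd_of_dvd_pow hqd)
        rw [hqp, Module.finrank_fin_fun, ← hm]
        exact hχdeg)
      ⟨a, ha⟩ ⟨b, hb⟩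
    exact congrArg Subtype.val hcomm
  · -- `|P| ∣ p`, so `P` is cyclic
    have he1 : e ≤ 1 := by
      by_contra hcon
      apply hp2
      have h2 : p ^ 2 ∣ p ^ e := pow_dvd_pow p (by omega)
      exact dvd_trans h2 (he ▸ (P : Subgroup G).card_subgroup_dvd_card)
    have hcyc : IsCyclic (P : Subgroup G) := by
      rcases Nat.eq_zero_or_pos e with h0 | h0
      · rw [h0, pow_zero] at he
        have : Subsingleton (P : Subgroup G) := (Nat.card_eq_one_iff_unique.mp he).1
        infer_instance
      · have h1 : e = 1 := by omega
        rw [h1, pow_one] at he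
        exact isCyclic_of_prime_card he
    have hmc : IsMulCommutative (P : Subgroup G) := IsCyclic.isMulCommutative
    have hcomm := mul_comm' (⟨a, ha⟩ : (P : Subgroup G)) ⟨b, hb⟩
    exact congrArg Subtype.val hcomm

end Cfsg.Agent.S0186
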