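import Cfsg.Statements.S0187
import Mathlib
import Cfsg.Agent.Helper79.CharComplete
import Cfsg.Agent.Helper76.CharCentral

set_option autoImplicit false
open Cfsg

namespace Cfsg.Agent.S0187

/-- A finite group is commutative if and only if every irreducible complex character has degree 1. -/
theorem result {G : Type*} [Group G] [Finite G] : (∀ a b : G, a * b = b * a) ↔ ∀ χ : Cfsg.IrrCharacter G, (χ : G → ℂ) 1 = 1 := by
  classical
  have := Fintype.ofFinite G
  constructor
  · intro hcomm χ
    exact Cfsg.Agent.Helper76.irr_one_of_comm hcomm χ.2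
  · intro hlin
    have hfin : Finite (IrrCharacter G) := Cfsg.Agent.Helper79.irr_finite
    have := Fintype.ofFinite (IrrCharacter G)
    have h1 := Cfsg.Agent.Helper79.sum_irr_one_sq (G := G)
    have h2 : ∑ χ : IrrCharacter G, (χ : G → ℂ) 1 ^ 2 = (Fintype.card (IrrCharacter G) : ℂ) := by
      rw [Finset.sum_congr rfl (fun χ _ => by rw [hlin χ, one_pow])]
      simp
    rw [h2] at h1
    have h3 : Fintype.card (IrrCharacter G) = Nat.card G := by exact_mod_cast h1
    have h4 := Cfsg.Agent.Helper79.card_irr_eq_card_conjClasses (G := G)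
    rw [Nat.card_eq_fintype_card, h3] at h4
    -- ConjClasses.mk is bijective
    have hsurj : Function.Surjective (ConjClasses.mk : G → ConjClasses G) := ConjClasses.mk_surjective
    have hbij := (Nat.bijective_iff_surjective_and_card (ConjClasses.mk : G → ConjClasses G)).mpr ⟨hsurj, h4⟩
    intro a b
    have hconj : ConjClasses.mk a = ConjClasses.mk (b * a * b⁻¹) := by
      rw [ConjClasses.mk_eq_mk_iff_isConj, isConj_iff]
      exact ⟨b, rfl⟩
    have := hbij.1 hconj
    calc a * b = (b * a * b⁻¹) * b := by rw [← this]
      _ = b * a := by group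

end Cfsg.Agent.S0187
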