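import Cfsg.Statements.S0191
import Cfsg.Agent.Helper82.BurnsideSum
import Cfsg.Agent.Helper80.Irr
-- import your own Cfsg.Agent.* helpers here

set_option autoImplicit false
open Cfsg

namespace Cfsg.Agent.S0191

/-- An irreducible complex representation of a finite group of degree greater than 1 has a character that vanishes somewhere. -/
theorem result {G : Type*} [Group G] [Finite G] {V : Type*} [AddCommGroup V] [Module ℂ V] [FiniteDimensional ℂ V] (ρ : Representation ℂ G V) [ρ.IsIrreducible] (hdeg : 1 < Module.finrank ℂ V) : ∃ g : G, ρ.character g = 0 := by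
  classical
  have : Fintype G := Fintype.ofFinite G
  by_contra hcon
  push Not at hcon
  have hirr : IsIrrCharacter G ρ.character :=
    Cfsg.Agent.Helper80.isIrrCharacter_of_rep ρ inferInstance
  let χ : IrrCharacter G := ⟨ρ.character, hirr⟩
  have hχ : IsCharacter G ρ.character := Cfsg.Agent.Helper80.isCharacter_of_rep ρ
  have hsum := Cfsg.Agent.Helper82.sum_normSq_irr χ
  have hT := Cfsg.Agent.Helper82.card_nonvanishing_le_sum hχ (Finset.univ.erase (1 : G))
    (fun g hg k hk => by
      rw [Finset.mem_erase] at hg ⊢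
      exact ⟨Cfsg.Agent.Helper82.pow_ne_one_of_coprime hg.1 hk, Finset.mem_univ _⟩)
  have hfilter : (Finset.univ.erase (1 : G)).filter (fun g => ρ.character g ≠ 0) =
      Finset.univ.erase (1 : G) := Finset.filter_true_of_mem (fun g _ => hcon g)
  rw [hfilter, Finset.card_erase_of_mem (Finset.mem_univ _), Finset.card_univ] at hT
  have hsplit : ∑ g : G, ‖ρ.character g‖ ^ 2 =
      ‖ρ.character 1‖ ^ 2 + ∑ g ∈ Finset.univ.erase (1 : G), ‖ρ.character g‖ ^ 2 :=
    (Finset.add_sum_erase Finset.univ (fun g => ‖ρ.character g‖ ^ 2) (Finset.mem_univ 1)).symm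
  have h1 : ρ.character 1 = (Module.finrank ℂ V : ℂ) := Representation.char_one ρ
  have hcardpos : 1 ≤ Fintype.card G := Fintype.card_pos
  have hsum' : ∑ g : G, ‖ρ.character g‖ ^ 2 = (Nat.card G : ℝ) := hsum
  rw [hsplit, h1, Complex.norm_natCast, Nat.card_eq_fintype_card] at hsum'
  have hd : (2 : ℝ) ≤ (Module.finrank ℂ V : ℝ) := by exact_mod_cast hdeg
  have hcast : ((Fintype.card G - 1 : ℕ) : ℝ) = (Fintype.card G : ℝ) - 1 := by
    rw [Nat.cast_sub hcardpos, Nat.cast_one]
  rw [hcast] at hT
  nlinarith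

end Cfsg.Agent.S0191
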