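import Cfsg.Statements.S0192
import Mathlib


set_option autoImplicit false
open Cfsg

namespace Cfsg.Agent.S0192

/-- An irreducible representation with a non-zero fixed vector has trivial character. -/
theorem char_eq_one_of_fixed {G V : Type*} [Group G] [AddCommGroup V] [Module ℂ V]
    [FiniteDimensional ℂ V] (ρ : Representation ℂ G V) [hirr : ρ.IsIrreducible] (v : V)
    (hv : v ≠ 0) (hfix : ∀ g : G, ρ g v = v) (g : G) : ρ.character g = 1 := by
  let σ : Subrepresentation ρ := ⟨Submodule.span ℂ {v}, by
    intro g w hw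
    obtain ⟨c, rfl⟩ := Submodule.mem_span_singleton.mp hw
    rw [map_smul, hfix]
    exact Submodule.smul_mem _ c (Submodule.mem_span_singleton_self v)⟩
  have hσ : σ ≠ ⊥ := by
    intro h
    have h1 : v ∈ σ.toSubmodule := Submodule.mem_span_singleton_self v
    rw [h] at h1
    exact hv ((Submodule.mem_bot ℂ).mp h1)
  have htop : σ = ⊤ := (eq_bot_or_eq_top σ).resolve_left hσ
  have hspan : Submodule.span ℂ {v} = ⊤ := congrArg Subrepresentation.toSubmodule htop
  have hid : ρ g = LinearMap.id := by
    apply LinearMap.ext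
    intro w
    have hw : w ∈ Submodule.span ℂ {v} := by rw [hspan]; exact Submodule.mem_top
    obtain ⟨c, rfl⟩ := Submodule.mem_span_singleton.mp hw
    rw [map_smul, hfix, LinearMap.id_apply]
  have hrank : Module.finrank ℂ V = 1 := by
    rw [← finrank_top ℂ V, ← hspan, finrank_span_singleton hv]
  unfold Representation.character
  rw [hid, LinearMap.trace_id, hrank, Nat.cast_one]

/-- inner product with the trivial character on a subgroup = dimension of invariants -/
theorem classInner_res_one {G : Type*} [Group G] {n : ℕ} (ρ : Representation ℂ G (Fin n → ℂ))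
    (K : Subgroup G) [Fintype K] :
    Cfsg.classInner (fun x : K => ρ.character x) (fun _ => 1) =
      (Module.finrank ℂ (Representation.invariants (ρ.comp K.subtype)) : ℂ) := by
  have hne : (Nat.card K : ℂ) ≠ 0 := by
    exact_mod_cast (Nat.card_pos (α := K)).ne'
  have : Invertible (Nat.card K : ℂ) := invertibleOfNonzero hne
  rw [← Representation.card_inv_mul_sum_char_eq_finrank (ρ.comp K.subtype)]
  unfold classInner
  congr 1
  apply Finset.sum_congr rfl
  intro x _
  rw [map_one, mul_one]
  rfl

/-- Brauer's generation criterion. Let G be a finite simple group, H₁ and H₂ subgroups, and χ a non-principal irreducible character. If the multiplicity of the principal character in χ restricted to H₁ ⊓ H₂ is less than the sum of the corresponding multiplicities for H₁ and H₂, then H₁ and H₂ do not generate G. -/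
theorem result {G : Type*} [Group G] [Fintype G] [IsSimpleGroup G] (H₁ H₂ : Subgroup G) [Fintype H₁] [Fintype H₂] [Fintype ↥(H₁ ⊓ H₂)] (χ : G → ℂ) (hχ : Cfsg.IsIrrCharacter G χ) (hχ1 : χ ≠ fun _ => 1) (hlt : (Cfsg.classInner (fun x : ↥(H₁ ⊓ H₂) => χ x) (fun _ => 1)).re < (Cfsg.classInner (fun x : H₁ => χ x) (fun _ => 1)).re + (Cfsg.classInner (fun x : H₂ => χ x) (fun _ => 1)).re) : H₁ ⊔ H₂ ≠ ⊤ := by
  obtain ⟨n, ρ, hirr, rfl⟩ := hχ
  rw [classInner_res_one ρ (H₁ ⊓ H₂), classInner_res_one ρ H₁, classInner_res_one ρ H₂] at hlt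
  simp only [Complex.natCast_re] at hlt
  set W1 := Representation.invariants (ρ.comp H₁.subtype) with hW1
  set W2 := Representation.invariants (ρ.comp H₂.subtype) with hW2
  set W12 := Representation.invariants (ρ.comp (H₁ ⊓ H₂).subtype) with hW12
  have hlt' : Module.finrank ℂ W12 < Module.finrank ℂ W1 + Module.finrank ℂ W2 := by
    exact_mod_cast hlt
  have hle : W1 ⊔ W2 ≤ W12 := by
    apply sup_le
    · intro v hv g
      exact hv ⟨g.1, g.2.1⟩
    · intro v hv g
      exact hv ⟨g.1, g.2.2⟩
  have h1 := Submodule.finrank_sup_add_finrank_inf_eq W1 W2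
  have h2 := Submodule.finrank_mono hle
  have hpos : 0 < Module.finrank ℂ ↥(W1 ⊓ W2) := by omega
  obtain ⟨⟨v, hvmem⟩, hvne⟩ := Module.finrank_pos_iff_exists_ne_zero.mp hpos
  have hv0 : v ≠ 0 := fun h => hvne (Subtype.ext h)
  obtain ⟨hv1, hv2⟩ := Submodule.mem_inf.mp hvmem
  intro htop
  -- the stabilizer of v
  let K : Subgroup G :=
    { carrier := {g | ρ g v = v}
      mul_mem' := by
        intro a b ha hb
        show ρ (a * b) v = v
        rw [map_mul, Module.End.mul_apply, hb, ha]
      one_mem' := by
        show ρ 1 v = v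
        rw [map_one, Module.End.one_apply]
      inv_mem' := by
        intro a ha
        show ρ a⁻¹ v = v
        have : ρ a⁻¹ (ρ a v) = v := by
          rw [← Module.End.mul_apply, ← map_mul, inv_mul_cancel, map_one, Module.End.one_apply]
        rw [ha] at this
        exact this }
  have hK1 : H₁ ≤ K := fun g hg => hv1 ⟨g, hg⟩
  have hK2 : H₂ ≤ K := fun g hg => hv2 ⟨g, hg⟩
  have hKtop : K = ⊤ := by
    apply top_le_iff.mp
    rw [← htop]
    exact sup_le hK1 hK2
  have hfix : ∀ g : G, ρ g v = v := by
    intro g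
    have : g ∈ K := by rw [hKtop]; exact Subgroup.mem_top g
    exact this
  apply hχ1
  funext g
  exact char_eq_one_of_fixed ρ v hv0 hfix g

end Cfsg.Agent.S0192
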