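import Cfsg.Statements.S0193
import Mathlib
import Cfsg.Agent.Helper79.CharBasic
import Cfsg.Agent.Helper15.ConjChar

set_option autoImplicit false
open Cfsg

namespace Cfsg.Agent.S0193

open scoped ComplexConjugate
open Cfsg.Agent.Helper15

/-- Let H be a normal subgroup of a finite group G and θ an irreducible character of H. Then |H| times the inner product of the induced function of θ with itself equals the number of g in G with θ(g h g⁻¹) = θ(h) for all h in H; in particular the induced character is irreducible when only elements of H stabilise θ. -/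
theorem result {G : Type*} [Group G] [Fintype G] (H : Subgroup G) [hN : H.Normal] (θ : H → ℂ) (hθ : Cfsg.IsIrrCharacter H θ) : (Nat.card H : ℂ) * Cfsg.classInner (Cfsg.indFun H θ) (Cfsg.indFun H θ) = (Nat.card {g : G // ∀ h : H, θ ⟨g * h * g⁻¹, hN.conj_mem h h.2 g⟩ = θ h} : ℂ) := by
  classical
  have := Fintype.ofFinite H
  have hHne : (Nat.card H : ℂ) ≠ 0 := by
    exact_mod_cast (Nat.card_pos (α := H)).ne'
  -- Frobenius reciprocity
  rw [frobenius_reciprocity' H θ (indFun H θ) (isClassFunction_indFun H θ)]
  rw [indFun_normal_restrict]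
  -- pull the scalar and the sum out
  rw [Cfsg.Agent.Helper15.classInner_smul_left, Cfsg.Agent.Helper15.classInner_finset_sum_left]
  rw [← mul_assoc, mul_inv_cancel₀ hHne, one_mul]
  -- each term is 1 or 0
  have hterm : ∀ g : G, classInner (conjFun H g θ) θ = if conjFun H g θ = θ then 1 else 0 := by
    intro g
    have h1 := Cfsg.Agent.Helper79.classInner_irr (⟨conjFun H g θ, isIrrCharacter_conjFun H hθ g⟩ : IrrCharacter H) ⟨θ, hθ⟩
    simp only [Subtype.mk.injEq] at h1
    exact h1
  simp_rw [hterm]
  rw [Finset.sum_boole]
  congr 1
  rw [← Nat.card_eq_finsetCard]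
  apply Nat.card_congr
  refine Equiv.subtypeEquivRight ?_
  intro g
  rw [Finset.mem_filter]
  simp only [Finset.mem_univ, true_and]
  constructor
  · intro h n
    exact congrFun h n
  · intro h
    funext n
    exact h n

end Cfsg.Agent.S0193
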