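import Cfsg.Statements.S0196
import Mathlib


set_option autoImplicit false
open Cfsg

namespace Cfsg.Agent.S0196

/-- conjugation action of the normalizer of `A` on the non-identity elements of `A` -/
@[reducible] def conjActNe {G : Type*} [Group G] (A : Subgroup G) :
    MulAction (Subgroup.normalizer (A : Set G)) {x : G // x ∈ A ∧ x ≠ 1} where
  smul n x := ⟨n.1 * x.1 * n.1⁻¹, (Subgroup.mem_normalizer_iff.mp n.2 x.1).mp x.2.1, by
    intro h
    apply x.2.2
    have : x.1 = n.1⁻¹ * (n.1 * x.1 * n.1⁻¹) * n.1 := by group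
    rw [this, h]; group⟩
  one_smul x := by
    apply Subtype.ext
    show (1 : G) * x.1 * (1 : G)⁻¹ = x.1
    group
  mul_smul m n x := by
    apply Subtype.ext
    show (m.1 * n.1) * x.1 * (m.1 * n.1)⁻¹ = m.1 * (n.1 * x.1 * n.1⁻¹) * m.1⁻¹
    group

/-- Let A be a subgroup of a finite group G that equals the centralizer of each of its non-identity elements, and let N be its normalizer. Then the index of A in N divides |A| − 1 (N/A permutes the non-identity elements of A in orbits of full length). -/
theorem result {G : Type*} [Group G] [Finite G] (A : Subgroup G) (hA : ∀ x ∈ A, x ≠ 1 → Subgroup.centralizer ({x} : Set G) = A) : (A.subgroupOf (Subgroup.normalizer (A : Set G))).index ∣ Nat.card A - 1 := by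
  classical
  let _ := conjActNe A
  have hsmul : ∀ (n : Subgroup.normalizer (A : Set G)) (x : {x : G // x ∈ A ∧ x ≠ 1}),
      (n • x).1 = n.1 * x.1 * n.1⁻¹ := fun _ _ => rfl
  -- stabilizers
  have hstab : ∀ x : {x : G // x ∈ A ∧ x ≠ 1},
      MulAction.stabilizer (Subgroup.normalizer (A : Set G)) x =
        A.subgroupOf (Subgroup.normalizer (A : Set G)) := by
    intro x
    ext n
    rw [MulAction.mem_stabilizer_iff, Subgroup.mem_subgroupOf]
    have hc : (n.1 ∈ A) ↔ n.1 ∈ Subgroup.centralizer ({x.1} : Set G) := by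
      rw [hA x.1 x.2.1 x.2.2]
    rw [hc, Subgroup.mem_centralizer_iff]
    constructor
    · intro h y hy
      rw [Set.mem_singleton_iff] at hy
      subst hy
      have h1 := congrArg Subtype.val h
      rw [hsmul] at h1
      calc x.1 * n.1 = (n.1 * x.1 * n.1⁻¹) * n.1 := by rw [h1]
        _ = n.1 * x.1 := by group
    · intro h
      apply Subtype.ext
      rw [hsmul]
      have h1 := h x.1 rfl
      calc n.1 * x.1 * n.1⁻¹ = (x.1 * n.1) * n.1⁻¹ := by rw [h1]
        _ = x.1 := by group
  -- count
  have e := MulAction.selfEquivSigmaOrbitsQuotientStabilizer (Subgroup.normalizer (A : Set G))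
    {x : G // x ∈ A ∧ x ≠ 1}
  have hcard : Nat.card {x : G // x ∈ A ∧ x ≠ 1} =
      Nat.card (MulAction.orbitRel.Quotient (Subgroup.normalizer (A : Set G)) {x : G // x ∈ A ∧ x ≠ 1}) *
        (A.subgroupOf (Subgroup.normalizer (A : Set G))).index := by
    have := Fintype.ofFinite (MulAction.orbitRel.Quotient (Subgroup.normalizer (A : Set G)) {x : G // x ∈ A ∧ x ≠ 1})
    rw [Nat.card_congr e, Nat.card_sigma]
    simp only [hstab]
    rw [Finset.sum_const, Finset.card_univ, smul_eq_mul, ← Nat.card_eq_fintype_card]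
    rfl
  -- |A| - 1 = card of non-identity elements
  have hA1 : Nat.card A - 1 = Nat.card {x : G // x ∈ A ∧ x ≠ 1} := by
    have h1 : (1 : G) ∈ (A : Set G) := A.one_mem
    have h2 : Nat.card A = (A : Set G).ncard := by rw [← Nat.card_coe_set_eq]; rfl
    have h3 := Set.ncard_sdiff_singleton_add_one h1 (Set.toFinite (A : Set G))
    have h4 : Nat.card {x : G // x ∈ A ∧ x ≠ 1} = ((A : Set G) \ {1}).ncard := by
      rw [← Nat.card_coe_set_eq]; rfl
    omega
  rw [hA1, hcard]
  exact Dvd.intro_left _ rfl

end Cfsg.Agent.S0196
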