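import Cfsg.Statements.S0207
import Mathlib
import Cfsg.Agent.Helper4.Dihedral

set_option autoImplicit false
open Cfsg

namespace Cfsg.Agent.S0207

open Cfsg.Agent.Helper4

/-- If x, y are distinct involutions, every element of the subgroup they generate that lies outside the cyclic subgroup generated by xy is an involution. -/
theorem result {G : Type*} [Group G] [Finite G] (x y : G) (hx : orderOf x = 2) (hy : orderOf y = 2) (hxy : x ≠ y) (d : G) (hd : d ∈ Subgroup.closure ({x, y} : Set G)) (hd' : d ∉ Subgroup.zpowers (x * y)) : orderOf d = 2 := by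
  have hx2 := sq_one_of_orderOf_two hx
  have hy2 := sq_one_of_orderOf_two hy
  obtain ⟨k, rfl | rfl⟩ := mem_closure_pair hx2 hy2 d hd
  · exact absurd (Subgroup.zpow_mem_zpowers _ k) hd'
  · apply orderOf_two_of_sq_one
    · calc x * (x * y) ^ k * (x * (x * y) ^ k) = x * ((x * y) ^ k * x) * (x * y) ^ k := by group
        _ = x * (x * (x * y) ^ (-k)) * (x * y) ^ k := by rw [invol_mul_zpow hx2 hy2]
        _ = (x * x) * ((x * y) ^ (-k) * (x * y) ^ k) := by group
        _ = 1 := by rw [hx2, one_mul, ← zpow_add]; simp
    · intro h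
      apply hd'
      rw [h]
      exact Subgroup.one_mem _

end Cfsg.Agent.S0207
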