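import Cfsg.Statements.S0208
import Mathlib
import Cfsg.Agent.Helper4.Dihedral

set_option autoImplicit false
open Cfsg

namespace Cfsg.Agent.S0208

open Cfsg.Agent.Helper4

/-- If x, y are involutions and xy has odd order, then some element of the subgroup generated by x and y conjugates x to y. -/
theorem result {G : Type*} [Group G] [Finite G] (x y : G) (hx : orderOf x = 2) (hy : orderOf y = 2) (hodd : Odd (orderOf (x * y))) : ∃ d ∈ Subgroup.closure ({x, y} : Set G), d * x * d⁻¹ = y := by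
  have hx2 := sq_one_of_orderOf_two hx
  have hy2 := sq_one_of_orderOf_two hy
  obtain ⟨k, hk⟩ := hodd
  refine ⟨(x * y) ^ (k : ℤ), zpow_mem_closure_pair x y k, ?_⟩
  -- c^k x c^-k = c^(2k) x = c^(2k+1) c⁻¹ x = c⁻¹ x = y
  have h1 : (x * y) ^ ((2 * k + 1 : ℕ) : ℤ) = 1 := by
    rw [zpow_natCast, ← hk, pow_orderOf_eq_one]
  calc (x * y) ^ (k : ℤ) * x * ((x * y) ^ (k : ℤ))⁻¹
      = (x * y) ^ (k : ℤ) * (x * (x * y) ^ (-(k : ℤ))) := by rw [zpow_neg]; group
    _ = (x * y) ^ (k : ℤ) * ((x * y) ^ (k : ℤ) * x) := by rw [invol_mul_zpow' hx2 hy2, neg_neg]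
    _ = (x * y) ^ ((2 * k + 1 : ℕ) : ℤ) * ((x * y)⁻¹ * x) := by
        push_cast
        rw [zpow_add, two_mul, zpow_add, zpow_one]; group
    _ = y := by rw [h1, one_mul, mul_inv_rev, inv_eq_self_of_sq_one hx2, inv_eq_self_of_sq_one hy2, mul_assoc, hx2, mul_one]

end Cfsg.Agent.S0208
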