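import Cfsg.Statements.S0210
import Mathlib
import Cfsg.Agent.Helper4.Dihedral

set_option autoImplicit false
open Cfsg

namespace Cfsg.Agent.S0210

open Cfsg.Agent.Helper4

/-- If x, y are involutions whose product has even order, no element of the subgroup generated by x and y conjugates x to y. -/
theorem result {G : Type*} [Group G] [Finite G] (x y : G) (hx : orderOf x = 2) (hy : orderOf y = 2) (heven : Even (orderOf (x * y))) (d : G) (hd : d ∈ Subgroup.closure ({x, y} : Set G)) : d * x * d⁻¹ ≠ y := by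
  have hx2 := sq_one_of_orderOf_two hx
  have hy2 := sq_one_of_orderOf_two hy
  obtain ⟨k, hk⟩ := conj_mem_closure_pair hx2 hy2 d hd
  rw [hk]
  intro h
  -- c^(2k) x = y = c⁻¹ x  →  c^(2k+1) = 1
  have h1 : (x * y) ^ (2 * k + 1) = 1 := by
    rw [zpow_add, zpow_one]
    have : (x * y) ^ (2 * k) = y * x := by
      have h5 := eq_mul_inv_of_mul_eq h
      rw [inv_eq_self_of_sq_one hx2] at h5
      exact h5
    rw [this]
    calc y * x * (x * y) = y * (x * x) * y := by group
      _ = 1 := by rw [hx2, mul_one, hy2]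
  have h2 := (orderOf_dvd_iff_zpow_eq_one).mpr h1
  obtain ⟨m, hm⟩ := heven
  rw [hm] at h2
  have : (2 : ℤ) ∣ 2 * k + 1 := by
    refine dvd_trans ⟨m, ?_⟩ h2
    push_cast; ring
  omega

end Cfsg.Agent.S0210
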