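import Cfsg.Statements.S0211
import Mathlib
import Cfsg.Agent.Helper4.Dihedral

set_option autoImplicit false
open Cfsg

namespace Cfsg.Agent.S0211

open Cfsg.Agent.Helper4

/-- Let x, y be involutions with xy of even order n and z = (xy)^(n/2). Then xz is conjugate to x by an element of the subgroup generated by x, y if and only if 4 divides n. -/
theorem result {G : Type*} [Group G] [Finite G] (x y : G) (hx : orderOf x = 2) (hy : orderOf y = 2) (heven : Even (orderOf (x * y))) : (∃ d ∈ Subgroup.closure ({x, y} : Set G), d * x * d⁻¹ = x * (x * y) ^ (orderOf (x * y) / 2)) ↔ 4 ∣ orderOf (x * y) := by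
  have hx2 := sq_one_of_orderOf_two hx
  have hy2 := sq_one_of_orderOf_two hy
  have hpos : 0 < orderOf (x * y) := orderOf_pos _
  obtain ⟨m, hm⟩ := heven
  have hm' : orderOf (x * y) / 2 = m := by omega
  rw [hm']
  have hcm : (x * y) ^ (m + m) = 1 := by rw [← hm, pow_orderOf_eq_one]
  constructor
  · rintro ⟨d, hd, hdx⟩
    obtain ⟨k, hk⟩ := conj_mem_closure_pair hx2 hy2 d hd
    rw [hk] at hdx
    -- c^(2k) x = x c^m = c^(-m) x
    have h1 : (x * y) ^ (2 * k + m) = 1 := by
      have h3 : x * (x * y) ^ m = (x * y) ^ (-(m : ℤ)) * x := by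
        rw [← zpow_natCast, invol_mul_zpow' hx2 hy2]
      rw [h3] at hdx
      have h4 := mul_right_cancel hdx
      rw [zpow_add, h4, ← zpow_add]; simp
    have h2 := (orderOf_dvd_iff_zpow_eq_one).mpr h1
    rw [hm] at h2
    obtain ⟨j, hj⟩ := h2
    push_cast at hj
    have : (2 : ℤ) ∣ m := ⟨(m : ℤ) * j - k, by linarith⟩
    have h2m : 2 ∣ m := by exact_mod_cast this
    rw [hm]
    obtain ⟨r, hr⟩ := h2m
    exact ⟨r, by omega⟩
  · rintro ⟨r, hr⟩
    have hmr : m = 2 * r := by omega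
    refine ⟨(x * y) ^ (r : ℤ), zpow_mem_closure_pair x y r, ?_⟩
    calc (x * y) ^ (r : ℤ) * x * ((x * y) ^ (r : ℤ))⁻¹
        = (x * y) ^ (r : ℤ) * (x * (x * y) ^ (-(r : ℤ))) := by rw [zpow_neg]; group
      _ = (x * y) ^ (r : ℤ) * ((x * y) ^ (r : ℤ) * x) := by rw [invol_mul_zpow' hx2 hy2, neg_neg]
      _ = (x * y) ^ (m : ℤ) * x := by rw [← mul_assoc, ← zpow_add, hmr]; push_cast; ring_nf
      _ = x * (x * y) ^ (-(m : ℤ)) := by rw [invol_mul_zpow hx2 hy2]
      _ = x * (x * y) ^ m := by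
          congr 1
          rw [zpow_neg, inv_eq_iff_mul_eq_one, zpow_natCast, ← pow_add, hcm]

end Cfsg.Agent.S0211
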