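import Cfsg.Statements.S0233
import Cfsg.Agent.Helper55.BrauerFowler

set_option autoImplicit false
open Cfsg

namespace Cfsg.Agent.S0233

open Cfsg.Agent.Helper55

/-- Let G be a finite group of even order with exactly n involutions whose centre has odd order, and put a = |G|/n. Then G has a proper subgroup H with |G : H| = 2 or |G : H| < a(a+1)/2; over ℕ the latter reads 2·|G:H|·n² < |G|·(|G| + n). -/
theorem result {G : Type*} [Group G] [Finite G] (heven : Even (Nat.card G)) (hZ : Odd (Nat.card (Subgroup.center G))) : ∃ H : Subgroup G, H ≠ ⊤ ∧ (H.index = 2 ∨ 2 * H.index * (Nat.card {t : G // orderOf t = 2}) ^ 2 < Nat.card G * (Nat.card G + Nat.card {t : G // orderOf t = 2})) := by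
  classical
  have : Fintype G := Fintype.ofFinite G
  by_contra hcon
  push Not at hcon
  set m := Nat.card {t : G // orderOf t = 2} with hm
  set N := Nat.card G with hN
  have hmI : (invs G).card = m := card_invs
  have hNF : Fintype.card G = N := Fintype.card_eq_nat_card
  -- involutions exist
  have hmpos : 0 < m := by
    have : Fact (Nat.Prime 2) := ⟨Nat.prime_two⟩
    obtain ⟨x, hx⟩ := exists_prime_orderOf_dvd_card' (G := G) 2 heven.two_dvd
    rw [← hmI, Finset.card_pos]
    exact ⟨x, mem_invs.2 hx⟩
  have hNpos : 0 < N := Nat.card_pos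
  -- every proper subgroup is small
  have hsmall : ∀ H : Subgroup G, H ≠ ⊤ → Nat.card H * (N + m) ≤ 2 * m ^ 2 := by
    intro H hH
    have h1 := (hcon H hH).2
    have h2 : Nat.card H * H.index = N := Subgroup.card_mul_index H
    have hidx : 0 < H.index := Nat.pos_of_ne_zero Subgroup.index_ne_zero_of_finite
    have h3 : H.index * (Nat.card H * (N + m)) ≤ H.index * (2 * m ^ 2) := by
      calc H.index * (Nat.card H * (N + m)) = N * (N + m) := by rw [← h2]; ring
        _ ≤ 2 * H.index * m ^ 2 := h1
        _ = H.index * (2 * m ^ 2) := by ring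
    exact Nat.le_of_mul_le_mul_left h3 hidx
  have hnoidx : ∀ H : Subgroup G, H.index ≠ 2 := by
    intro H hH
    have : H ≠ ⊤ := by
      intro h; rw [h, Subgroup.index_top] at hH; omega
    exact (hcon H this).1 hH
  -- pointwise bound
  have hpt : ∀ g : G, ((N : ℤ) + m) * ((bfFiber g).card : ℤ) ≤
      (m : ℤ) ^ 2 + (if g = 1 then ((N : ℤ) + m) * m - (m : ℤ) ^ 2 else 0)
        + (if orderOf g = 2 then (m : ℤ) ^ 2 - 2 * ((N : ℤ) + m) else 0) := by
    intro g
    by_cases hg1 : g = 1
    · subst hg1
      have h1 : (bfFiber (1 : G)).card ≤ m := hmI ▸ card_bfFiber_one_le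
      have h1' : ((bfFiber (1 : G)).card : ℤ) ≤ m := by exact_mod_cast h1
      simp only [orderOf_one, if_true]
      norm_num
      have : (0 : ℤ) ≤ (N : ℤ) + m := by positivity
      nlinarith
    · by_cases hg2 : orderOf g = 2
      · simp only [hg1, hg2, if_true, if_false]
        have hCne : Subgroup.centralizer {g} ≠ ⊤ := by
          intro htop
          have hgc : g ∈ Subgroup.center G := by
            rw [Subgroup.mem_center_iff]
            intro x
            have hx : x ∈ Subgroup.centralizer {g} := by rw [htop]; trivial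
            exact Subgroup.mem_centralizer_singleton_iff.1 hx
          have hdvd := orderOf_dvd_natCard (⟨g, hgc⟩ : Subgroup.center G)
          rw [Subgroup.orderOf_mk, hg2] at hdvd
          exact (Nat.not_even_iff_odd.2 hZ) (even_iff_two_dvd.2 hdvd)
        have h1 := hsmall _ hCne
        have h2 := card_bfFiber_add_two_le hg2
        have h3 : ((bfFiber g).card + 2) * (N + m) ≤ 2 * m ^ 2 :=
          le_trans (Nat.mul_le_mul_right _ h2) h1
        have h3' : (((bfFiber g).card : ℤ) + 2) * ((N : ℤ) + m) ≤ 2 * (m : ℤ) ^ 2 := by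
          exact_mod_cast h3
        linarith
      · simp only [hg1, hg2, if_false, add_zero]
        rcases (bfFiber g).eq_empty_or_nonempty with he | ⟨p, hp⟩
        · rw [he]; simp
        have hinv := fst_inverts hp
        have hgne : g ≠ g⁻¹ := by
          intro h
          have hgg : g ^ 2 = 1 := by
            rw [sq]; nth_rewrite 1 [h]; exact inv_mul_cancel g
          have hdvd : orderOf g ∣ 2 := orderOf_dvd_of_pow_eq_one hgg
          rcases (Nat.dvd_prime Nat.prime_two).1 hdvd with h1 | h2
          · exact hg1 (orderOf_eq_one_iff.1 h1)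
          · exact hg2 h2
        have hEne : extCentralizer g ≠ ⊤ := fun htop =>
          hnoidx _ (index_centralizer_eq_two_of_extCentralizer_eq_top hgne hinv htop)
        have h1 := hsmall _ hEne
        have h2 := two_mul_card_centralizer_le hgne hinv
        have h3 := card_bfFiber_le g
        have h4 : 2 * (bfFiber g).card * (N + m) ≤ 2 * m ^ 2 := by
          calc 2 * (bfFiber g).card * (N + m) ≤ Nat.card (extCentralizer g) * (N + m) := by
                apply Nat.mul_le_mul_right; omega
            _ ≤ 2 * m ^ 2 := h1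
        have h4' : 2 * ((bfFiber g).card : ℤ) * ((N : ℤ) + m) ≤ 2 * (m : ℤ) ^ 2 := by
          exact_mod_cast h4
        linarith
  have hmain := sq_card_invs_le ((N : ℤ) + m) ((m : ℤ) ^ 2) (((N : ℤ) + m) * m - (m : ℤ) ^ 2)
    ((m : ℤ) ^ 2 - 2 * ((N : ℤ) + m)) hpt
  rw [hmI, hNF] at hmain
  have hm' : (0 : ℤ) < m := by exact_mod_cast hmpos
  have hN' : (0 : ℤ) < N := by exact_mod_cast hNpos
  nlinarith [mul_pos hN' hm', mul_pos hm' hm']

end Cfsg.Agent.S0233
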