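import Cfsg.Statements.S0212
import Cfsg.Agent.Helper55.BrauerFowler
import Cfsg.Agent.S0233

set_option autoImplicit false
open Cfsg

namespace Cfsg.Agent.S0212

open Cfsg.Agent.Helper55

/-- For a simple group and a proper subgroup `H`, the action on `G ⧸ H` is faithful. -/
theorem toPermHom_injective_of_simple' {G : Type*} [Group G] [IsSimpleGroup G] (H : Subgroup G)
    (hH : H ≠ ⊤) : Function.Injective (MulAction.toPermHom G (G ⧸ H)) := by
  rw [← MonoidHom.ker_eq_bot_iff]
  have hker : (MulAction.toPermHom G (G ⧸ H)).ker = H.normalCore :=
    (Subgroup.normalCore_eq_ker H).symm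
  rcases (MulAction.toPermHom G (G ⧸ H)).normal_ker.eq_bot_or_eq_top with h | h
  · exact h
  · exfalso
    rw [hker] at h
    exact hH (top_le_iff.mp (h ▸ H.normalCore_le))

/-- The Brauer–Fowler bound: if G is a finite simple group and t an involution of G whose centralizer has order n, then |G| ≤ (2n^2)!. -/
theorem result {G : Type*} [Group G] [Finite G] [IsSimpleGroup G] (t : G) (ht : orderOf t = 2) : Nat.card G ≤ Nat.factorial (2 * (Nat.card (Subgroup.centralizer ({t} : Set G))) ^ 2) := by
  classical
  have : Fintype G := Fintype.ofFinite G
  set n := Nat.card (Subgroup.centralizer ({t} : Set G)) with hn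
  set N := Nat.card G with hN
  have hnpos : 0 < n := Nat.card_pos
  by_cases hC : Subgroup.centralizer ({t} : Set G) = ⊤
  · have hnN : n = N := by rw [hn, hC]; exact Subgroup.card_top
    rw [hnN]
    have h1 : N ≤ 2 * N ^ 2 := by nlinarith
    exact le_trans h1 (Nat.self_le_factorial _)
  · have hZ : Subgroup.center G = ⊥ := by
      rcases (inferInstance : (Subgroup.center G).Normal).eq_bot_or_eq_top with h | h
      · exact h
      · exfalso
        apply hC
        rw [eq_top_iff, ← h]
        exact Subgroup.center_le_centralizer _
    have hZodd : Odd (Nat.card (Subgroup.center G)) := by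
      rw [hZ, Subgroup.card_bot]; exact odd_one
    have heven : Even (Nat.card G) := by
      rw [even_iff_two_dvd, ← ht]; exact orderOf_dvd_natCard t
    obtain ⟨H, hH, hor⟩ := Cfsg.Agent.S0233.result heven hZodd
    have hinj := toPermHom_injective_of_simple' H hH
    have hcard : N ≤ (H.index).factorial := by
      have h1 := Nat.card_le_card_of_injective _ hinj
      rw [Nat.card_perm] at h1
      exact h1
    refine le_trans hcard (Nat.factorial_le ?_)
    set m := Nat.card {t : G // orderOf t = 2} with hm
    have hmI : (invs G).card = m := card_invs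
    have hNF : Fintype.card G = N := Fintype.card_eq_nat_card
    have hNle : N ≤ n * m := by
      have := card_le_card_centralizer_mul_card_invs ht
      rwa [hNF, hmI] at this
    rcases hor with h2 | hlt
    · rw [h2]; nlinarith
    · have hmpos : 0 < m := by
        rcases Nat.eq_zero_or_pos m with h0 | h0
        · rw [h0] at hNle; have : 0 < N := Nat.card_pos; omega
        · exact h0
      have h3 : N * (N + m) ≤ (n * m) * (n * m + m) :=
        Nat.mul_le_mul hNle (by omega)
      have h4 : 2 * H.index * m ^ 2 < (n * (n + 1)) * m ^ 2 := by
        calc 2 * H.index * m ^ 2 < N * (N + m) := hlt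
          _ ≤ (n * m) * (n * m + m) := h3
          _ = (n * (n + 1)) * m ^ 2 := by ring
      have h5 : 2 * H.index < n * (n + 1) := Nat.lt_of_mul_lt_mul_right h4
      nlinarith

end Cfsg.Agent.S0212
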