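import Cfsg.Statements.S0214
import Mathlib
import Cfsg.Agent.Helper4.StronglyEmb
import Cfsg.Agent.Helper4.SylowTwo

set_option autoImplicit false
open Cfsg

namespace Cfsg.Agent.S0214

open Cfsg.Agent.Helper4
section
variable {G : Type*} [Group G] [Finite G]

/-- In a finite group, an element conjugating a subgroup into itself normalizes it. -/
theorem mem_normalizer_of_conj_le (K : Subgroup G) (m : G) (h : ∀ w ∈ K, m * w * m⁻¹ ∈ K) :
    m ∈ Subgroup.normalizer (K : Set G) := by
  have hle : K.map (MulAut.conj m).toMonoidHom ≤ K := by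
    rintro _ ⟨w, hw, rfl⟩
    simpa using h w hw
  have hcard : Nat.card (K.map (MulAut.conj m).toMonoidHom) = Nat.card K :=
    Subgroup.card_map_of_injective (MulAut.conj m).injective
  have heq : K.map (MulAut.conj m).toMonoidHom = K :=
    Subgroup.eq_of_le_of_card_ge hle (le_of_eq hcard.symm)
  rw [Subgroup.mem_normalizer_iff]
  intro w
  constructor
  · exact h w
  · intro hw
    rw [← heq] at hw
    obtain ⟨y, hy, hyw⟩ := hw
    simp only [MulEquiv.coe_toMonoidHom, MulAut.conj_apply] at hyw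
    have : y = w := mul_left_cancel (mul_right_cancel hyw)
    rw [← this]; exact hy

/-- The extension step: if the normalizers of the nontrivial subgroups of a Sylow 2-subgroup `P`
of `H` lie in `H`, so do the normalizers of all nontrivial 2-subgroups of `H`. -/
theorem normalizer_le_of_sylow (H : Subgroup G) (P : Sylow 2 ↥H)
    (hyp : ∀ X : Subgroup ↥H, X ≤ (P : Subgroup ↥H) → X ≠ ⊥ →
      Subgroup.normalizer ((X.map H.subtype : Subgroup G) : Set G) ≤ H)
    (X' : Subgroup G) (hX'H : X' ≤ H) (hX'p : IsPGroup 2 X') (hX'ne : X' ≠ ⊥) :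
    Subgroup.normalizer (X' : Set G) ≤ H := by
  have : Fact (Nat.Prime 2) := ⟨Nat.prime_two⟩
  set X0 : Subgroup ↥H := X'.subgroupOf H with hX0
  have hX0p : IsPGroup 2 X0 := hX'p.comap_subtype
  obtain ⟨h, hh⟩ := exists_conj_mem_sylow P X0 hX0p
  set X1 : Subgroup ↥H := X0.map (MulAut.conj h).toMonoidHom with hX1
  have hX1P : X1 ≤ (P : Subgroup ↥H) := by
    rintro _ ⟨q, hq, rfl⟩
    exact hh q hq
  have hX1ne : X1 ≠ ⊥ := by
    intro hbot
    apply hX'ne
    rw [Subgroup.eq_bot_iff_forall]
    intro x hx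
    have hxH : x ∈ H := hX'H hx
    have h1 : (MulAut.conj h).toMonoidHom ⟨x, hxH⟩ ∈ X1 :=
      Subgroup.mem_map_of_mem _ (by rw [hX0, Subgroup.mem_subgroupOf]; exact hx)
    rw [hbot, Subgroup.mem_bot] at h1
    have h2 : (⟨x, hxH⟩ : ↥H) = 1 := by
      have := (MulAut.conj h).injective (h1.trans (map_one _).symm)
      exact this
    exact congrArg Subtype.val h2
  have hN := hyp X1 hX1P hX1ne
  -- membership in Y = X1.map H.subtype
  have hmemY : ∀ w : G, w ∈ (X1.map H.subtype : Subgroup G) ↔ (h : G)⁻¹ * w * (h : G) ∈ X' := by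
    intro w
    constructor
    · rintro ⟨y, ⟨x, hx, rfl⟩, rfl⟩
      replace hx : (x : G) ∈ X' := Subgroup.mem_subgroupOf.mp hx
      simp only [MulEquiv.coe_toMonoidHom, MulAut.conj_apply, Subgroup.coe_subtype,
        Subgroup.coe_mul, Subgroup.coe_inv]
      have : (h : G)⁻¹ * ((h : G) * (x : G) * (h : G)⁻¹) * (h : G) = x := by group
      rw [this]; exact hx
    · intro hw
      have hwH : (h : G)⁻¹ * w * (h : G) ∈ H := hX'H hw
      refine ⟨(MulAut.conj h) ⟨(h : G)⁻¹ * w * (h : G), hwH⟩, ⟨_, ?_, rfl⟩, ?_⟩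
      · exact Subgroup.mem_subgroupOf.mpr hw
      · simp only [MulAut.conj_apply, Subgroup.coe_subtype, Subgroup.coe_mul, Subgroup.coe_inv]
        group
  intro n hn
  -- h n h⁻¹ normalizes Y
  have hm : (h : G) * n * (h : G)⁻¹ ∈ Subgroup.normalizer ((X1.map H.subtype : Subgroup G) : Set G) := by
    rw [Subgroup.mem_normalizer_iff]
    intro w
    rw [hmemY, hmemY]
    have h1 := Subgroup.mem_normalizer_iff.mp hn ((h : G)⁻¹ * w * (h : G))
    rw [h1]
    have : n * ((h : G)⁻¹ * w * (h : G)) * n⁻¹ =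
        (h : G)⁻¹ * ((h : G) * n * (h : G)⁻¹ * w * ((h : G) * n * (h : G)⁻¹)⁻¹) * (h : G) := by group
    rw [this]
  have h2 := hN hm
  have : n = (h : G)⁻¹ * ((h : G) * n * (h : G)⁻¹) * (h : G) := by group
  rw [this]
  exact H.mul_mem (H.mul_mem (H.inv_mem h.2) h2) h.2

end

/-- Let H be a proper subgroup of the finite group G and P a nontrivial Sylow 2-subgroup of H. Then H is strongly embedded in G if and only if N_G(X) ≤ H for every nontrivial subgroup X of P. -/
theorem result {G : Type*} [Group G] [Finite G] (H : Subgroup G) (hH : H ≠ ⊤) (P : Sylow 2 ↥H) (hP : (P : Subgroup ↥H) ≠ ⊥) : Cfsg.IsStronglyEmbedded H ↔ (∀ X : Subgroup ↥H, X ≤ (P : Subgroup ↥H) → X ≠ ⊥ → Subgroup.normalizer ((X.map H.subtype : Subgroup G) : Set G) ≤ H) := by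
  have : Fact (Nat.Prime 2) := ⟨Nat.prime_two⟩
  -- P contains an involution, so H has even order
  have hPinv : ∀ X : Subgroup ↥H, X ≤ (P : Subgroup ↥H) → X ≠ ⊥ → ∃ t : ↥H, t ∈ X ∧ orderOf t = 2 := by
    intro X hXP hXne
    have hXp : IsPGroup 2 X := P.isPGroup'.to_le hXP
    have hnt : Nontrivial X := (Subgroup.nontrivial_iff_ne_bot X).mpr hXne
    obtain ⟨k, hk0, hk⟩ := hXp.nontrivial_iff_card.mp hnt
    have hdvd : 2 ∣ Nat.card X := by rw [hk]; exact dvd_pow_self 2 hk0.ne'
    obtain ⟨t, ht⟩ := exists_prime_orderOf_dvd_card' 2 hdvd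
    exact ⟨t.1, t.2, by rw [← ht, Subgroup.orderOf_coe]⟩
  have heven : Even (Nat.card H) := by
    obtain ⟨t, -, ht⟩ := hPinv P le_rfl hP
    rw [even_iff_two_dvd, ← ht]
    exact orderOf_dvd_natCard t
  rw [stronglyEmbedded_iff H hH heven]
  constructor
  · intro hSE X hXP hXne g hg
    obtain ⟨t, htX, ht⟩ := hPinv X hXP hXne
    have ht' : orderOf (t : G) = 2 := by rw [Subgroup.orderOf_coe]; exact ht
    have htY : (t : G) ∈ (X.map H.subtype : Subgroup G) := ⟨t, htX, rfl⟩
    have hYH : (X.map H.subtype : Subgroup G) ≤ H := by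
      rintro _ ⟨y, -, rfl⟩
      exact y.2
    apply hSE g (t : G) t.2 ht'
    apply hYH
    have hginv : g⁻¹ ∈ Subgroup.normalizer ((X.map H.subtype : Subgroup G) : Set G) :=
      Subgroup.inv_mem _ hg
    have := (Subgroup.mem_normalizer_iff.mp hginv (t : G)).mp htY
    rw [inv_inv] at this
    exact this
  · intro hyp
    have hext := normalizer_le_of_sylow H P hyp
    -- P' = image of P in G
    set P' : Subgroup G := (P : Subgroup ↥H).map H.subtype with hP'
    have hP'H : P' ≤ H := by
      rintro _ ⟨y, -, rfl⟩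
      exact y.2
    have hP'p : IsPGroup 2 P' := P.isPGroup'.map _
    have hNP' : Subgroup.normalizer (P' : Set G) ≤ H := hyp P le_rfl hP
    have hmemP' : ∀ (y : G) (hy : y ∈ H), y ∈ P' ↔ (⟨y, hy⟩ : ↥H) ∈ P := by
      intro y hy
      constructor
      · rintro ⟨z, hz, hzy⟩
        have : z = ⟨y, hy⟩ := Subtype.ext hzy
        rw [← this]; exact hz
      · intro h
        exact ⟨⟨y, hy⟩, h, rfl⟩
    -- main claim for t ∈ P'
    have main : ∀ g t : G, t ∈ P' → orderOf t = 2 → g⁻¹ * t * g ∈ H → g ∈ H := by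
      intro g t htP' ht hsH
      set s := g⁻¹ * t * g with hs
      have hsord : orderOf s = 2 := by
        have : s = (MulAut.conj g⁻¹) t := by rw [MulAut.conj_apply, inv_inv]
        rw [this, MulEquiv.orderOf_eq, ht]
      -- Q = g⁻¹ P' g
      set Q : Subgroup G := P'.map (MulAut.conj g⁻¹).toMonoidHom with hQ
      have hQp : IsPGroup 2 Q := hP'p.map _
      have hsQ : s ∈ Q := ⟨t, htP', by simp [hs]⟩
      have hQcard : Nat.card Q = Nat.card P' :=
        Subgroup.card_map_of_injective (MulAut.conj g⁻¹).injective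
      -- Z = centre of Q
      have hQnt : Nontrivial Q := ⟨⟨⟨s, hsQ⟩, 1, fun h => by
        have h1 : s = 1 := congrArg Subtype.val h
        rw [h1, orderOf_one] at hsord
        omega⟩⟩
      have hZnt : Nontrivial (Subgroup.center Q) := hQp.center_nontrivial
      set Z : Subgroup G := (Subgroup.center Q).map Q.subtype with hZ
      have hZQ : Z ≤ Q := by
        rintro _ ⟨z, -, rfl⟩
        exact z.2
      have hZcomm : ∀ z ∈ Z, ∀ q ∈ Q, q * z = z * q := by
        rintro _ ⟨z, hz, rfl⟩ q hq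
        have := Subgroup.mem_center_iff.mp hz ⟨q, hq⟩
        exact congrArg Subtype.val this
      have hZne : Z ≠ ⊥ := by
        intro hbot
        obtain ⟨⟨z, hz⟩, hz1⟩ := exists_ne (1 : Subgroup.center Q)
        have : (z : G) ∈ Z := ⟨z, hz, rfl⟩
        rw [hbot, Subgroup.mem_bot] at this
        apply hz1
        exact Subtype.ext (Subtype.ext this)
      have hZp : IsPGroup 2 Z := hQp.to_le hZQ
      -- C(s) ≤ H
      have hCs : Subgroup.centralizer ({s} : Set G) ≤ H := by
        have h1 : Subgroup.zpowers s ≤ H := by rw [Subgroup.zpowers_le]; exact hsH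
        have h2 : IsPGroup 2 (Subgroup.zpowers s) := by
          apply IsPGroup.of_card (n := 1)
          rw [Nat.card_zpowers, hsord, pow_one]
        have h3 : Subgroup.zpowers s ≠ ⊥ := by
          intro hbot
          have : s ∈ Subgroup.zpowers s := Subgroup.mem_zpowers s
          rw [hbot, Subgroup.mem_bot] at this
          rw [this, orderOf_one] at hsord
          omega
        refine le_trans ?_ (hext _ h1 h2 h3)
        intro c hc
        rw [Subgroup.mem_centralizer_iff] at hc
        have hcs : s * c = c * s := hc s rfl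
        apply mem_normalizer_of_conj_le
        intro w hw
        obtain ⟨k, rfl⟩ := Subgroup.mem_zpowers_iff.mp hw
        have : c * s ^ k * c⁻¹ = s ^ k := by
          have hcomm : Commute c (s ^ k) := (Commute.zpow_right hcs.symm k)
          rw [hcomm.eq]; group
        rw [this]
        exact Subgroup.zpow_mem_zpowers s k
      have hZH : Z ≤ H := by
        intro z hz
        apply hCs
        rw [Subgroup.mem_centralizer_iff]
        intro y hy
        rw [Set.mem_singleton_iff] at hy
        subst hy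
        exact hZcomm z hz _ hsQ
      have hNZ := hext Z hZH hZp hZne
      have hQH : Q ≤ H := by
        intro q hq
        apply hNZ
        apply mem_normalizer_of_conj_le
        intro z hz
        have := hZcomm z hz q hq
        have h1 : q * z * q⁻¹ = z := by rw [this]; group
        rw [h1]; exact hz
      -- conjugate Q into P' inside H
      set Q0 : Subgroup ↥H := Q.subgroupOf H with hQ0
      have hQ0p : IsPGroup 2 Q0 := hQp.comap_subtype
      obtain ⟨h, hh⟩ := exists_conj_mem_sylow P Q0 hQ0p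
      -- h g⁻¹ normalizes P'
      have hnorm : (h : G) * g⁻¹ ∈ Subgroup.normalizer (P' : Set G) := by
        apply mem_normalizer_of_conj_le
        intro w hw
        have hwQ : g⁻¹ * w * g ∈ Q := ⟨w, hw, by simp⟩
        have hwH : g⁻¹ * w * g ∈ H := hQH hwQ
        have h1 := hh ⟨g⁻¹ * w * g, hwH⟩ (by rw [hQ0, Subgroup.mem_subgroupOf]; exact hwQ)
        have h2 : (h : G) * (g⁻¹ * w * g) * (h : G)⁻¹ ∈ H :=
          H.mul_mem (H.mul_mem h.2 hwH) (H.inv_mem h.2)
        have h3 := (hmemP' _ h2).mpr h1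
        have : (h : G) * g⁻¹ * w * ((h : G) * g⁻¹)⁻¹ = (h : G) * (g⁻¹ * w * g) * (h : G)⁻¹ := by
          group
        rw [this]; exact h3
      have h4 := hNP' hnorm
      have h5 : g⁻¹ ∈ H := by
        have : g⁻¹ = (h : G)⁻¹ * ((h : G) * g⁻¹) := by group
        rw [this]
        exact H.mul_mem (H.inv_mem h.2) h4
      have := H.inv_mem h5
      rwa [inv_inv] at this
    -- general t ∈ H
    intro g t htH ht hgt
    -- conjugate t into P inside H
    have hTp : IsPGroup 2 (Subgroup.zpowers (⟨t, htH⟩ : ↥H)) := by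
      apply IsPGroup.of_card (n := 1)
      rw [Nat.card_zpowers, Subgroup.orderOf_mk, ht, pow_one]
    obtain ⟨h, hh⟩ := exists_conj_mem_sylow P _ hTp
    have h1 := hh ⟨t, htH⟩ (Subgroup.mem_zpowers _)
    set t1 : G := (h : G) * t * (h : G)⁻¹ with ht1
    have ht1H : t1 ∈ H := H.mul_mem (H.mul_mem h.2 htH) (H.inv_mem h.2)
    have ht1P' : t1 ∈ P' := (hmemP' t1 ht1H).mpr h1
    have ht1ord : orderOf t1 = 2 := by
      have : t1 = (MulAut.conj (h : G)) t := by rw [MulAut.conj_apply]
      rw [this, MulEquiv.orderOf_eq, ht]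
    have h2 : ((h : G) * g)⁻¹ * t1 * ((h : G) * g) ∈ H := by
      have : ((h : G) * g)⁻¹ * t1 * ((h : G) * g) = g⁻¹ * t * g := by rw [ht1]; group
      rw [this]; exact hgt
    have h3 := main ((h : G) * g) t1 ht1P' ht1ord h2
    have : g = (h : G)⁻¹ * ((h : G) * g) := by group
    rw [this]
    exact H.mul_mem (H.inv_mem h.2) h3

end Cfsg.Agent.S0214
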