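import Cfsg.Statements.S0216
import Mathlib
import Cfsg.Agent.Helper4.SylowTwo

set_option autoImplicit false
open Cfsg

namespace Cfsg.Agent.S0216

open Cfsg.Agent.Helper4

/-- For an involution u in a Sylow 2-subgroup P of a finite group G, the following are equivalent: no G-conjugate of u other than u lies in P; every commutator of u with an element of G has odd order. -/
theorem result {G : Type*} [Group G] [Finite G] (P : Sylow 2 G) (u : G) (hu : orderOf u = 2) (huP : u ∈ P) : (∀ g : G, g * u * g⁻¹ ∈ P → g * u * g⁻¹ = u) ↔ (∀ g : G, Odd (orderOf (u * g * u⁻¹ * g⁻¹))) := by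
  have hu2 := sq_one_of_orderOf_two hu
  have hu1 := ne_one_of_orderOf_two hu
  have huinv := inv_eq_self_of_sq_one hu2
  -- conjugates of u have square one
  have hconj2 : ∀ g : G, (g * u * g⁻¹) * (g * u * g⁻¹) = 1 := by
    intro g
    calc (g * u * g⁻¹) * (g * u * g⁻¹) = g * (u * u) * g⁻¹ := by group
      _ = 1 := by rw [hu2]; group
  have hcomm : ∀ g : G, u * g * u⁻¹ * g⁻¹ = u * (g * u * g⁻¹) := by
    intro g
    rw [huinv]; group
  constructor
  · intro hiso g
    rw [hcomm]
    set v := g * u * g⁻¹ with hv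
    have hv2 : v * v = 1 := hconj2 g
    by_contra hne
    rw [Nat.not_odd_iff_even] at hne
    -- n = 2^a * m with m odd
    set n := orderOf (u * v) with hn
    have hnpos : 0 < n := orderOf_pos _
    obtain ⟨a, m, hm, hnam⟩ := Nat.exists_eq_two_pow_mul_odd (Nat.pos_iff_ne_zero.mp hnpos)
    -- v' = u c^m is conjugate to v = u c by c^j with 1 - 2j = m
    obtain ⟨j, hj⟩ := hm
    -- m = 2j+1 ; take conjugating element c^(-j): c^(-j) (u c) c^j = u c^(j) c c^j = u c^(2j+1)
    have hv' : (u * v) ^ (-(j : ℤ)) * v * ((u * v) ^ (-(j : ℤ)))⁻¹ = u * (u * v) ^ (m : ℤ) := by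
      have hvuc : v = u * (u * v) := by rw [← mul_assoc, hu2, one_mul]
      calc (u * v) ^ (-(j : ℤ)) * v * ((u * v) ^ (-(j : ℤ)))⁻¹
          = (u * v) ^ (-(j : ℤ)) * (u * (u * v)) * ((u * v) ^ (-(j : ℤ)))⁻¹ := by rw [← hvuc]
        _ = ((u * v) ^ (-(j : ℤ)) * u) * (u * v) * ((u * v) ^ (-(j : ℤ)))⁻¹ := by group
        _ = (u * (u * v) ^ (-(-(j : ℤ)))) * (u * v) * ((u * v) ^ (-(j : ℤ)))⁻¹ := by
            rw [invol_mul_zpow hu2 hv2]
        _ = u * ((u * v) ^ (j : ℤ) * (u * v) ^ (1 : ℤ) * (u * v) ^ (j : ℤ)) := by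
            rw [neg_neg, zpow_neg, inv_inv, zpow_one]; group
        _ = u * (u * v) ^ (m : ℤ) := by
            rw [← zpow_add, ← zpow_add, hj]; push_cast; ring_nf
    set v' := u * (u * v) ^ (m : ℤ) with hv'def
    -- v' is a conjugate of u
    have hv'conj : v' = ((u * v) ^ (-(j : ℤ)) * g) * u * ((u * v) ^ (-(j : ℤ)) * g)⁻¹ := by
      rw [← hv', hv]; group
    have hv'2 : v' * v' = 1 := by rw [hv'conj]; exact hconj2 _
    -- u * v' = c^m has order dividing 2^a
    have huv' : (u * v') ^ (2 ^ a) = 1 := by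
      have : u * v' = (u * v) ^ m := by
        rw [hv'def, ← mul_assoc, hu2, one_mul, zpow_natCast]
      rw [this, ← pow_mul, mul_comm, ← hnam]
      exact pow_orderOf_eq_one _
    obtain ⟨h, h1, h2⟩ := exists_conj_pair_mem_sylow P hu2 hv'2 a huv'
    have e1 := hiso h h1
    have e2 : h * v' * h⁻¹ = u := by
      have : h * v' * h⁻¹ = (h * ((u * v) ^ (-(j : ℤ)) * g)) * u * (h * ((u * v) ^ (-(j : ℤ)) * g))⁻¹ := by
        rw [hv'conj]; group
      rw [this] at h2 ⊢
      exact hiso _ h2
    -- so u = v'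
    have e3 : u = v' := by
      have : h * u * h⁻¹ = h * v' * h⁻¹ := by rw [e1, e2]
      have h3 := mul_right_cancel this
      exact mul_left_cancel h3
    -- so c^m = 1
    have e4 : (u * v) ^ m = 1 := by
      have : u * 1 = u * (u * v) ^ (m : ℤ) := by rw [mul_one]; exact e3
      have := mul_left_cancel this
      rw [zpow_natCast] at this
      exact this.symm
    have e5 : n ∣ m := orderOf_dvd_of_pow_eq_one e4
    have : Even m := hne.trans_dvd e5 |> fun h => h
    rw [hj] at this
    exact (Nat.not_even_iff_odd.mpr ⟨j, rfl⟩) this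
  · intro hodd g hg
    have h1 := hodd g
    rw [hcomm] at h1
    have hmem : u * (g * u * g⁻¹) ∈ P := Subgroup.mul_mem _ huP hg
    have h2 := eq_one_of_mem_sylow_of_odd P hmem h1
    exact (eq_inv_of_mul_eq_one_right h2).trans huinv

end Cfsg.Agent.S0216
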