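import Cfsg.Statements.S0218
import Mathlib


set_option autoImplicit false
open Cfsg

namespace Cfsg.Agent.S0218

theorem quat_aux (m : ℕ) [NeZero m] (x : QuaternionGroup m) :
    orderOf x = 2 ↔ x = QuaternionGroup.a (m : ZMod (2 * m)) := by
  have hm : 0 < m := Nat.pos_of_ne_zero (NeZero.ne m)
  have hmne : (m : ZMod (2 * m)) ≠ 0 := by
    intro h
    rw [ZMod.natCast_eq_zero_iff] at h
    have := Nat.le_of_dvd hm h
    omega
  have hmm : (m : ZMod (2 * m)) + m = 0 := by
    have : ((2 * m : ℕ) : ZMod (2 * m)) = 0 := ZMod.natCast_self _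
    rw [← this]; push_cast; ring
  constructor
  · intro h
    cases x with
    | a i =>
      have h2 : QuaternionGroup.a i ^ 2 = 1 := by rw [← h]; exact pow_orderOf_eq_one _
      rw [pow_two, QuaternionGroup.a_mul_a, QuaternionGroup.one_def] at h2
      have h3 : i + i = 0 := by
        injection h2
      have hi0 : i ≠ 0 := by
        intro hi
        rw [hi, QuaternionGroup.a_zero, orderOf_one] at h
        omega
      congr 1
      -- i + i = 0, i ≠ 0 → i = m
      have hival : (i.val + i.val) % (2 * m) = 0 := by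
        have := congrArg ZMod.val h3
        rw [ZMod.val_add, ZMod.val_zero] at this
        exact this
      have hlt : i.val < 2 * m := ZMod.val_lt i
      have hpos : 0 < i.val := by
        rcases Nat.eq_zero_or_pos i.val with h0 | h0
        · exact absurd ((ZMod.val_eq_zero i).mp h0) hi0
        · exact h0
      have hdvd : 2 * m ∣ i.val + i.val := Nat.dvd_of_mod_eq_zero hival
      obtain ⟨k, hk⟩ := hdvd
      have hk1 : k = 1 := by
        have h4 : 2 * m * k < 2 * m * 2 := by omega
        have h5 : 0 < 2 * m * k := by omega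
        have h6 : k < 2 := lt_of_mul_lt_mul_left h4 (Nat.zero_le _)
        have h7 : 0 < k := Nat.pos_of_mul_pos_left h5
        omega
      have hv : i.val = m := by rw [hk1] at hk; omega
      have h8 : ((i.val : ℕ) : ZMod (2 * m)) = i := ZMod.natCast_zmod_val i
      rw [← h8, hv]
    | xa i =>
      rw [QuaternionGroup.orderOf_xa] at h
      omega
  · rintro rfl
    apply orderOf_eq_prime
    · rw [pow_two, QuaternionGroup.a_mul_a, hmm, QuaternionGroup.a_zero]
    · rw [QuaternionGroup.one_def]
      intro h
      injection h with h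
      exact hmne h

/-- The generalized quaternion group of order 2^(n+3) contains exactly one element of order 2. -/
theorem result (n : ℕ) : Nat.card {x : QuaternionGroup (2 ^ (n + 1)) // orderOf x = 2} = 1 := by
  have : NeZero (2 ^ (n + 1)) := ⟨by positivity⟩
  rw [Nat.card_eq_one_iff_unique]
  refine ⟨⟨?_⟩, ⟨⟨QuaternionGroup.a ((2 ^ (n + 1) : ℕ) : ZMod (2 * 2 ^ (n + 1))), (quat_aux _ _).mpr rfl⟩⟩⟩
  rintro ⟨x, hx⟩ ⟨y, hy⟩
  have hx' := (quat_aux _ x).mp hx
  have hy' := (quat_aux _ y).mp hy
  ext1
  show x = y
  rw [hx', hy']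

end Cfsg.Agent.S0218
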