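import Cfsg.Statements.S0220
import Mathlib
import Cfsg.Agent.Helper4.Dihedral
import Cfsg.Agent.S0219

set_option autoImplicit false
open Cfsg

namespace Cfsg.Agent.S0220

open Cfsg.Agent.Helper4
/-- normalizers grow in `p`-groups (relative version inside `G`). -/
theorem lt_inf_normalizer_of_lt' {G : Type*} [Group G] [Finite G] {p : ℕ} [Fact p.Prime]
    {Q Y : Subgroup G} (hYp : IsPGroup p Y) (h : Q < Y) :
    Q < Y ⊓ Subgroup.normalizer (Q : Set G) := by
  have : Group.IsNilpotent Y := hYp.isNilpotent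
  have hnc : NormalizerCondition Y := Group.normalizerCondition_of_isNilpotent
  have hlt' : Q.subgroupOf Y < ⊤ := by
    rw [lt_top_iff_ne_top]
    intro h'
    rw [Subgroup.subgroupOf_eq_top] at h'
    exact absurd (le_antisymm h.le h') h.ne
  have := hnc _ hlt'
  obtain ⟨y, hyN, hynot⟩ := SetLike.exists_of_lt this
  refine lt_of_le_of_ne (le_inf h.le Subgroup.le_normalizer) ?_
  intro heq
  apply hynot
  rw [Subgroup.mem_subgroupOf, heq]
  refine ⟨y.2, ?_⟩
  rw [← Subgroup.subgroupOf_normalizer_eq h.le, Subgroup.mem_subgroupOf] at hyN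
  exact hyN

/-- In a finite cyclic group two elements of order two are equal. -/
theorem eq_of_orderOf_two_of_cyclic {C : Type*} [Group C] [Finite C] [IsCyclic C] {a b : C}
    (ha : orderOf a = 2) (hb : orderOf b = 2) : a = b := by
  classical
  have := Fintype.ofFinite C
  have hd : 2 ∣ Fintype.card C := by
    rw [← ha]; exact orderOf_dvd_card
  have h1 := IsCyclic.card_orderOf_eq_totient (α := C) hd
  rw [Nat.totient_two] at h1
  have h2 : (Finset.univ.filter (fun a : C => orderOf a = 2)).card ≤ 1 := by omega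
  rw [Finset.card_le_one] at h2
  exact h2 a (by simp [ha]) b (by simp [hb])

/-- A `p`-element normalizing a Sylow `p`-subgroup lies in it. -/
theorem mem_sylow_of_normalizes {G : Type*} [Group G] [Finite G] {p : ℕ} [Fact p.Prime]
    (P : Sylow p G) (n : G) (hn : n ∈ Subgroup.normalizer ((P : Subgroup G) : Set G))
    (hp : IsPGroup p (Subgroup.zpowers n)) : n ∈ P := by
  have h2 : Subgroup.zpowers n ≤ Subgroup.normalizer ((P : Subgroup G) : Set G) := by
    rw [Subgroup.zpowers_le]; exact hn
  have h3 : IsPGroup p (Subgroup.zpowers n ⊔ (P : Subgroup G) : Subgroup G) :=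
    IsPGroup.to_sup_of_normal_right' hp P.isPGroup' h2
  have h4 := P.is_maximal' h3 le_sup_right
  have h5 : n ∈ Subgroup.zpowers n ⊔ (P : Subgroup G) :=
    Subgroup.mem_sup_left (Subgroup.mem_zpowers n)
  rw [h4] at h5
  exact h5

theorem sylow_of_cyclic_sylow_centralizer {G : Type*} [Group G] [Finite G] (x : G) (hx : orderOf x = 2) (C : Subgroup G) (hC : C = Subgroup.centralizer ({x} : Set G)) (S : Sylow 2 ↥C) (hS : IsCyclic (S : Subgroup ↥C)) :
    ∃ T : Sylow 2 G, IsCyclic (T : Subgroup G) := by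
  have : Fact (Nat.Prime 2) := ⟨Nat.prime_two⟩
  set S' : Subgroup G := (S : Subgroup C).map C.subtype with hS'
  have hS'p : IsPGroup 2 S' := S.isPGroup'.map _
  have hS'C : S' ≤ C := by
    rintro _ ⟨y, -, rfl⟩
    exact y.2
  have hmemS' : ∀ (y : G) (hy : y ∈ C), y ∈ S' ↔ (⟨y, hy⟩ : C) ∈ S := by
    intro y hy
    constructor
    · rintro ⟨z, hz, hzy⟩
      have : z = ⟨y, hy⟩ := Subtype.ext hzy
      rw [← this]; exact hz
    · intro h
      exact ⟨⟨y, hy⟩, h, rfl⟩
  have hS'cyc : IsCyclic S' := by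
    have e : (S : Subgroup C) ≃* S' := Subgroup.equivMapOfInjective _ _ (Subgroup.subtype_injective C)
    exact isCyclic_of_surjective e e.surjective
  -- x ∈ C, central
  have hxC : x ∈ C := by
    rw [hC, Subgroup.mem_centralizer_iff]
    intro y hy
    rw [Set.mem_singleton_iff] at hy
    rw [hy]
  have hxcomm : ∀ y ∈ C, y * x = x * y := by
    intro y hy
    rw [hC, Subgroup.mem_centralizer_iff] at hy
    exact (hy x rfl).symm
  -- x ∈ S'
  have hxS' : x ∈ S' := by
    rw [hmemS' x hxC]
    apply mem_sylow_of_normalizes S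
    · rw [Subgroup.mem_normalizer_iff]
      intro h
      have : (⟨x, hxC⟩ : C) * h * (⟨x, hxC⟩ : C)⁻¹ = h := by
        apply Subtype.ext
        show x * h.1 * x⁻¹ = h.1
        rw [← hxcomm h.1 h.2]; group
      rw [this]
    · apply IsPGroup.of_card (n := 1)
      rw [Nat.card_zpowers, pow_one]
      have : orderOf (⟨x, hxC⟩ : C) = orderOf x := Subgroup.orderOf_mk x hxC
      rw [this, hx]
  -- a Sylow 2-subgroup of G containing S'
  obtain ⟨T, hT⟩ := hS'p.exists_le_sylow
  refine ⟨T, ?_⟩
  suffices h : S' = T by rw [← h]; exact hS'cyc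
  by_contra hne
  have hlt : S' < T := lt_of_le_of_ne hT hne
  have h1 := lt_inf_normalizer_of_lt' T.isPGroup' hlt
  obtain ⟨n, hnmem, hnot⟩ := SetLike.exists_of_lt h1
  obtain ⟨hnT, hnN⟩ := Subgroup.mem_inf.mp hnmem
  -- n x n⁻¹ = x
  have hconj : n * x * n⁻¹ ∈ S' := (Subgroup.mem_normalizer_iff.mp hnN x).mp hxS'
  have hord : orderOf (n * x * n⁻¹) = 2 := by
    have : n * x * n⁻¹ = (MulAut.conj n) x := by rw [MulAut.conj_apply]
    rw [this, MulEquiv.orderOf_eq, hx]
  have heq : n * x * n⁻¹ = x := by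
    have h2 : orderOf (⟨n * x * n⁻¹, hconj⟩ : S') = 2 := by
      rw [Subgroup.orderOf_mk, hord]
    have h3 : orderOf (⟨x, hxS'⟩ : S') = 2 := by
      rw [Subgroup.orderOf_mk, hx]
    have := eq_of_orderOf_two_of_cyclic h2 h3
    exact congrArg Subtype.val this
  have hnC : n ∈ C := by
    rw [hC, Subgroup.mem_centralizer_iff]
    intro y hy
    rw [Set.mem_singleton_iff] at hy
    subst hy
    calc y * n = (n * y * n⁻¹) * n := by rw [heq]
      _ = n * y := by group
  -- n ∈ S'
  apply hnot
  rw [hmemS' n hnC]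
  apply mem_sylow_of_normalizes S
  · rw [Subgroup.mem_normalizer_iff]
    intro h
    have key := Subgroup.mem_normalizer_iff.mp hnN h.1
    rw [hmemS' h.1 h.2] at key
    have hmem2 : n * h.1 * n⁻¹ ∈ C := C.mul_mem (C.mul_mem hnC h.2) (C.inv_mem hnC)
    rw [hmemS' _ hmem2] at key
    exact key
  · -- n is a 2-element
    obtain ⟨k, hk⟩ := (IsPGroup.iff_orderOf.mp T.isPGroup') ⟨n, hnT⟩
    rw [Subgroup.orderOf_mk] at hk
    apply IsPGroup.of_card (n := k)
    rw [Nat.card_zpowers]
    have : orderOf (⟨n, hnC⟩ : C) = orderOf n := Subgroup.orderOf_mk n hnC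
    rw [this, hk]

/-- If x is an involution of a finite group G and a Sylow 2-subgroup of the centralizer of x is cyclic, then G has a subgroup of index 2; in particular G is not simple unless it has order 2. -/
theorem result {G : Type*} [Group G] [Finite G] (x : G) (hx : orderOf x = 2) (S : Sylow 2 ↥(Subgroup.centralizer ({x} : Set G))) (hS : IsCyclic (S : Subgroup ↥(Subgroup.centralizer ({x} : Set G)))) : ∃ H : Subgroup G, H.index = 2 := by
  obtain ⟨T, hT⟩ := sylow_of_cyclic_sylow_centralizer x hx _ rfl S hS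
  have heven : Even (Nat.card G) := by
    rw [even_iff_two_dvd, ← hx]
    exact orderOf_dvd_natCard x
  exact Cfsg.Agent.S0219.result heven T hT

end Cfsg.Agent.S0220
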