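import Cfsg.Statements.S1785
import Cfsg.Agent.Helper10.Card
import Cfsg.Agent.Helper23.Sup
import Cfsg.Agent.Lib.Cores
-- import your own Cfsg.Agent.* helpers here

set_option autoImplicit false
open Cfsg

namespace Cfsg.Agent.S1785

variable {X : Type*} [Group X]

/-- For an elementary abelian 2-subgroup `F` normalized by an involution `u`, the fixed points of `u`
on `F` have order at least the square root of the order of `F`. -/
theorem card_le_sq_fix [Finite X] {F : Subgroup X} (hF : Cfsg.IsElementaryAbelian 2 F) {u : X} (hu : u ^ 2 = 1)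
    (hn : ∀ f ∈ F, u * f * u⁻¹ ∈ F) :
    Nat.card ↥F ≤ Nat.card ↥(F ⊓ Subgroup.centralizer ({u} : Set X)) ^ 2 := by
  have hFc := hF.1
  have hF2 := hF.2
  have hcomm : ∀ x ∈ F, ∀ y ∈ F, x * y = y * x := fun x hx y hy => setLike_mul_comm hx hy
  have huinv : u⁻¹ = u := by
    rw [inv_eq_iff_mul_eq_one, ← pow_two]; exact hu
  let φ : ↥F →* ↥F :=
    { toFun := fun f => ⟨(f : X) * (u * f * u⁻¹), F.mul_mem f.2 (hn f f.2)⟩
      map_one' := by
        apply Subtype.ext
        simp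
      map_mul' := by
        intro f g
        apply Subtype.ext
        show ((f : X) * g) * (u * (f * g) * u⁻¹) = (f * (u * f * u⁻¹)) * (g * (u * g * u⁻¹))
        have h1 := hcomm _ g.2 _ (hn f f.2)
        calc ((f : X) * g) * (u * (f * g) * u⁻¹) = f * (g * (u * f * u⁻¹)) * (u * g * u⁻¹) := by group
          _ = f * ((u * f * u⁻¹) * g) * (u * g * u⁻¹) := by rw [h1]
          _ = (f * (u * f * u⁻¹)) * (g * (u * g * u⁻¹)) := by group }
  have hφ : ∀ f : ↥F, ((φ f : ↥F) : X) = (f : X) * (u * f * u⁻¹) := fun f => rfl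
  have hrk : φ.range ≤ φ.ker := by
    rintro _ ⟨f, rfl⟩
    rw [MonoidHom.mem_ker]
    apply Subtype.ext
    rw [hφ, hφ]
    show (f : X) * (u * f * u⁻¹) * (u * ((f : X) * (u * f * u⁻¹)) * u⁻¹) = 1
    have e : (f : X) * (u * f * u⁻¹) * (u * ((f : X) * (u * f * u⁻¹)) * u⁻¹) =
        (f : X) * (u * f * u⁻¹) * (u * f * u⁻¹) * (u ^ 2 * f * (u⁻¹) ^ 2) := by
      rw [pow_two, pow_two]; group
    rw [e, hu, inv_pow, hu]
    have h2 : (u * (f : X) * u⁻¹) * (u * f * u⁻¹) = 1 := by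
      rw [← pow_two]; exact hF2 _ (hn f f.2)
    rw [mul_assoc (f : X), h2]
    simp only [mul_one, one_mul, inv_one]
    rw [← pow_two]; exact hF2 _ f.2
  have hker : φ.ker.map F.subtype = F ⊓ Subgroup.centralizer ({u} : Set X) := by
    ext x
    constructor
    · rintro ⟨f, hf, rfl⟩
      rw [SetLike.mem_coe, MonoidHom.mem_ker] at hf
      have hf' : (f : X) * (u * f * u⁻¹) = 1 := by
        have := congrArg Subtype.val hf
        simpa [hφ] using this
      refine Subgroup.mem_inf.2 ⟨f.2, ?_⟩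
      rw [Subgroup.mem_centralizer_iff]
      intro y hy
      rw [Set.mem_singleton_iff] at hy
      subst hy
      show y * (f : X) = f * y
      have hfinv : (f : X)⁻¹ = f := by
        rw [inv_eq_iff_mul_eq_one, ← pow_two]; exact hF2 _ f.2
      have h3 : y * (f : X) * y⁻¹ = (f : X) := by
        have := eq_inv_of_mul_eq_one_right hf'
        rw [this, hfinv]
      calc y * (f : X) = (y * f * y⁻¹) * y := by group
        _ = f * y := by rw [h3]
    · intro hx
      obtain ⟨hxF, hxc⟩ := Subgroup.mem_inf.1 hx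
      rw [Subgroup.mem_centralizer_iff] at hxc
      have hc : u * x = x * u := hxc u rfl
      refine ⟨⟨x, hxF⟩, ?_, rfl⟩
      rw [SetLike.mem_coe, MonoidHom.mem_ker]
      apply Subtype.ext
      rw [hφ]
      show x * (u * x * u⁻¹) = 1
      rw [hc, mul_inv_cancel_right, ← pow_two]
      exact hF2 x hxF
  have hcardker : Nat.card ↥(F ⊓ Subgroup.centralizer ({u} : Set X)) = Nat.card ↥φ.ker := by
    rw [← hker]
    exact Subgroup.card_map_of_injective (Subgroup.subtype_injective F)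
  have h1 : Nat.card ↥φ.ker * φ.ker.index = Nat.card ↥F := Subgroup.card_mul_index _
  have h2 : φ.ker.index = Nat.card ↥φ.range := Subgroup.index_ker φ
  have h3 : Nat.card ↥φ.range ≤ Nat.card ↥φ.ker := Subgroup.card_le_of_le hrk
  rw [hcardker, ← h1, h2, pow_two]
  exact Nat.mul_le_mul_left _ h3

/-- `C_E(B)`. -/
def cE (E B : Subgroup X) : Subgroup X := E ⊓ Subgroup.centralizer (B : Set X)

theorem mem_cE {E B : Subgroup X} {x : X} : x ∈ cE E B ↔ x ∈ E ∧ ∀ b ∈ B, b * x = x * b := by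
  unfold cE
  rw [Subgroup.mem_inf, Subgroup.mem_centralizer_iff]
  rfl

theorem cE_le (E B : Subgroup X) : cE E B ≤ E := inf_le_left

/-- The join of two elementwise commuting elementary abelian 2-subgroups is elementary abelian. -/
theorem elab_sup {A F : Subgroup X} (hA : Cfsg.IsElementaryAbelian 2 A) (hF : Cfsg.IsElementaryAbelian 2 F)
    (hc : ∀ a ∈ A, ∀ f ∈ F, a * f = f * a) : Cfsg.IsElementaryAbelian 2 (A ⊔ F) := by
  have hmem : ∀ x, x ∈ A ⊔ F ↔ ∃ a ∈ A, ∃ f ∈ F, x = a * f :=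
    fun x => Cfsg.Agent.Helper23.mem_sup_iff_of_commute hc
  have hAc := fun a ha b hb => Cfsg.Agent.Lib.isElementaryAbelian_commute hA (a := a) (b := b) ha hb
  have hFc := fun a ha b hb => Cfsg.Agent.Lib.isElementaryAbelian_commute hF (a := a) (b := b) ha hb
  refine ⟨IsMulCommutative.of_setLike_mul_comm fun x hx y hy => ?_, fun x hx => ?_⟩
  · obtain ⟨a, ha, f, hf, rfl⟩ := (hmem x).1 hx
    obtain ⟨b, hb, g, hg, rfl⟩ := (hmem y).1 hy
    calc a * f * (b * g) = a * (f * b) * g := by group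
      _ = a * (b * f) * g := by rw [hc b hb f hf]
      _ = (a * b) * (f * g) := by group
      _ = (b * a) * (g * f) := by rw [hAc a ha b hb, hFc f hf g hg]
      _ = b * (a * g) * f := by group
      _ = b * (g * a) * f := by rw [hc a ha g hg]
      _ = b * g * (a * f) := by group
  · obtain ⟨a, ha, f, hf, rfl⟩ := (hmem x).1 hx
    have : (a * f) ^ 2 = a ^ 2 * f ^ 2 := (show Commute a f from hc a ha f hf).mul_pow 2
    rw [this, hA.2 a ha, hF.2 f hf, one_mul]

theorem elab_zpowers {a : X} (ha : a ^ 2 = 1) : Cfsg.IsElementaryAbelian 2 (Subgroup.zpowers a) := by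
  refine ⟨inferInstance, fun x hx => ?_⟩
  obtain ⟨n, rfl⟩ := Subgroup.mem_zpowers_iff.1 hx
  rw [← zpow_natCast, ← zpow_mul, mul_comm, zpow_mul, zpow_natCast, ha, one_zpow]

theorem commute_zpowers {B : Subgroup X} {a : X} (hc : ∀ b ∈ B, b * a = a * b) :
    ∀ b ∈ B, ∀ z ∈ Subgroup.zpowers a, b * z = z * b := by
  intro b hb z hz
  obtain ⟨n, rfl⟩ := Subgroup.mem_zpowers_iff.1 hz
  exact ((show Commute b a from hc b hb).zpow_right n).eq

/-- Adjoining a new commuting involution doubles the order. -/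
theorem card_sup_zpowers [Finite X] {B : Subgroup X} {a : X} (haB : a ∉ B) (ha : a ^ 2 = 1)
    (hc : ∀ b ∈ B, b * a = a * b) : Nat.card ↥(B ⊔ Subgroup.zpowers a) = 2 * Nat.card ↥B := by
  have hcz := commute_zpowers hc
  have hle : B ≤ Subgroup.normalizer ((Subgroup.zpowers a : Subgroup X) : Set X) :=
    Cfsg.Agent.Helper23.le_normalizer_of_commute (fun z hz b hb => (hcz b hb z hz).symm)
  have h1 := Cfsg.Agent.Helper10.card_sup_mul_card_inf B (Subgroup.zpowers a) hle
  have ha1 : a ≠ 1 := fun h => haB (h ▸ B.one_mem)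
  have hord : orderOf a = 2 := orderOf_eq_prime ha ha1
  have hcz2 : Nat.card ↥(Subgroup.zpowers a) = 2 := by rw [Nat.card_zpowers, hord]
  have hinf : B ⊓ Subgroup.zpowers a = ⊥ := by
    rw [eq_bot_iff]
    intro x hx
    obtain ⟨hxB, hxz⟩ := Subgroup.mem_inf.1 hx
    obtain ⟨n, rfl⟩ := Subgroup.mem_zpowers_iff.1 hxz
    rw [Subgroup.mem_bot]
    rcases Int.even_or_odd n with ⟨k, hk⟩ | ⟨k, hk⟩
    · rw [hk, ← two_mul, zpow_mul, zpow_ofNat, ha, one_zpow]
    · exfalso
      apply haB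
      have : a ^ n = a := by
        rw [hk, zpow_add, zpow_mul, zpow_ofNat, ha, one_zpow, one_mul, zpow_one]
      rwa [this] at hxB
  rw [hinf, Subgroup.card_bot, mul_one, hcz2, mul_comm] at h1
  exact h1

theorem bound_aux [Finite X] {E : Subgroup X} [hEn : E.Normal] (hE : Cfsg.IsElementaryAbelian 2 E)
    {A : Subgroup X} (hA : Cfsg.IsElementaryAbelian 2 A) (n : ℕ) :
    ∀ B : Subgroup X, B ≤ A → Nat.card ↥A - Nat.card ↥B = n → ∀ j : ℕ,
      Nat.card ↥E ≤ Nat.card ↥(cE E B) ^ j →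
      ∃ i : ℕ, Nat.card ↥B * i = Nat.card ↥A ∧ Nat.card ↥E ≤ Nat.card ↥(cE E A) ^ (j * i) := by
  induction n using Nat.strong_induction_on with
  | _ n ih =>
  intro B hBA hn j hj
  by_cases hBeq : B = A
  · subst hBeq
    exact ⟨1, mul_one _, by rwa [mul_one]⟩
  · obtain ⟨a, haA, haB⟩ : ∃ a ∈ A, a ∉ B := by
      by_contra hcon
      push Not at hcon
      exact hBeq (le_antisymm hBA hcon)
    have ha2 : a ^ 2 = 1 := hA.2 a haA
    have hc : ∀ b ∈ B, b * a = a * b :=
      fun b hb => Cfsg.Agent.Lib.isElementaryAbelian_commute hA (hBA hb) haA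
    have hcard := card_sup_zpowers haB ha2 hc
    have hB'A : B ⊔ Subgroup.zpowers a ≤ A := sup_le hBA (by rw [Subgroup.zpowers_le]; exact haA)
    have hle : Nat.card ↥(B ⊔ Subgroup.zpowers a) ≤ Nat.card ↥A := Subgroup.card_le_of_le hB'A
    have hpos : 0 < Nat.card ↥B := Nat.card_pos
    have hFel : Cfsg.IsElementaryAbelian 2 (cE E B) :=
      Cfsg.Agent.Lib.isElementaryAbelian_mono hE (cE_le E B)
    have hnorm : ∀ f ∈ cE E B, a * f * a⁻¹ ∈ cE E B := by
      intro f hf
      rw [mem_cE] at hf ⊢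
      refine ⟨hEn.conj_mem f hf.1 a, fun b hb => ?_⟩
      have cba : Commute b a := hc b hb
      have cbf : Commute b f := hf.2 b hb
      exact ((cba.mul_right cbf).mul_right cba.inv_right).eq
    have hfix := card_le_sq_fix hFel ha2 hnorm
    have hsub : cE E B ⊓ Subgroup.centralizer ({a} : Set X) ≤ cE E (B ⊔ Subgroup.zpowers a) := by
      intro x hx
      obtain ⟨hx1, hx2⟩ := Subgroup.mem_inf.1 hx
      rw [mem_cE] at hx1 ⊢
      refine ⟨hx1.1, ?_⟩
      have hle' : B ⊔ Subgroup.zpowers a ≤ Subgroup.centralizer ({x} : Set X) := by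
        apply sup_le
        · intro b hb
          rw [Subgroup.mem_centralizer_iff]
          intro y hy
          rw [Set.mem_singleton_iff] at hy
          subst hy
          exact (hx1.2 b hb).symm
        · rw [Subgroup.zpowers_le, Subgroup.mem_centralizer_iff]
          intro y hy
          rw [Set.mem_singleton_iff] at hy
          subst hy
          rw [Subgroup.mem_centralizer_iff] at hx2
          exact (hx2 a rfl).symm
      intro b hb
      have := hle' hb
      rw [Subgroup.mem_centralizer_iff] at this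
      exact (this x rfl).symm
    have hfix2 : Nat.card ↥(cE E B) ≤ Nat.card ↥(cE E (B ⊔ Subgroup.zpowers a)) ^ 2 :=
      le_trans hfix (Nat.pow_le_pow_left (Subgroup.card_le_of_le hsub) 2)
    have hj' : Nat.card ↥E ≤ Nat.card ↥(cE E (B ⊔ Subgroup.zpowers a)) ^ (2 * j) := by
      rw [pow_mul]
      exact le_trans hj (Nat.pow_le_pow_left hfix2 j)
    obtain ⟨i', h1, h2⟩ := ih (Nat.card ↥A - Nat.card ↥(B ⊔ Subgroup.zpowers a)) (by omega)
      (B ⊔ Subgroup.zpowers a) hB'A rfl (2 * j) hj'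
    refine ⟨2 * i', ?_, ?_⟩
    · rw [hcard] at h1
      rw [← h1]; ring
    · have e : j * (2 * i') = 2 * j * i' := by ring
      rw [e]; exact h2

/-- The basic estimate: `|E| ≤ |C_E(A)| ^ |A : A ∩ E|`. -/
theorem bound [Finite X] {E : Subgroup X} [E.Normal] (hE : Cfsg.IsElementaryAbelian 2 E)
    {A : Subgroup X} (hA : Cfsg.IsElementaryAbelian 2 A) :
    ∃ i : ℕ, Nat.card ↥(A ⊓ E) * i = Nat.card ↥A ∧ Nat.card ↥E ≤ Nat.card ↥(cE E A) ^ i := by
  have h0 : cE E (A ⊓ E) = E := by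
    apply le_antisymm (cE_le _ _)
    intro x hx
    rw [mem_cE]
    exact ⟨hx, fun b hb => Cfsg.Agent.Lib.isElementaryAbelian_commute hE (Subgroup.mem_inf.1 hb).2 hx⟩
  obtain ⟨i, h1, h2⟩ := bound_aux hE hA _ (A ⊓ E) inf_le_left rfl 1 (by rw [h0, pow_one])
  exact ⟨i, h1, by rwa [one_mul] at h2⟩

theorem exists_between [Finite X] {H M : Subgroup X} (hHM : H ≤ M) {n m : ℕ} (hH : Nat.card ↥H = 2 ^ n)
    (hdvd : 2 ^ m ∣ Nat.card ↥M) (hnm : n ≤ m) :
    ∃ K : Subgroup X, H ≤ K ∧ K ≤ M ∧ Nat.card ↥K = 2 ^ m := by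
  have : Fact (Nat.Prime 2) := ⟨Nat.prime_two⟩
  have hH' : Nat.card ↥(H.subgroupOf M) = 2 ^ n := by
    rw [← hH]; exact Nat.card_congr (Subgroup.subgroupOfEquivOfLe hHM).toEquiv
  obtain ⟨K, hK, hHK⟩ := Sylow.exists_subgroup_card_pow_prime_le 2 hdvd (H.subgroupOf M) hH' hnm
  refine ⟨K.map M.subtype, ?_, ?_, ?_⟩
  · intro x hx
    exact ⟨⟨x, hHM hx⟩, hHK (Subgroup.mem_subgroupOf.2 hx), rfl⟩
  · rintro _ ⟨y, _, rfl⟩; exact y.2
  · rw [Subgroup.card_map_of_injective (Subgroup.subtype_injective M), hK]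

theorem card_pow_two [Finite X] (hX : IsPGroup 2 X) (H : Subgroup X) : ∃ k : ℕ, Nat.card ↥H = 2 ^ k := by
  have : Fact (Nat.Prime 2) := ⟨Nat.prime_two⟩
  exact IsPGroup.iff_card.1 (hX.to_subgroup H)

theorem cE_commute {E A : Subgroup X} : ∀ a ∈ A, ∀ f ∈ cE E A, a * f = f * a :=
  fun a ha _ hf => (mem_cE.1 hf).2 a ha

theorem chain_step [Finite X] (hX : IsPGroup 2 X) {E : Subgroup X} [E.Normal]
    (hE : Cfsg.IsElementaryAbelian 2 E) (hE32 : 32 ≤ Nat.card ↥E)
    {A : Subgroup X} (hA : Cfsg.IsElementaryAbelian 2 A) (hA8 : Nat.card ↥A = 8) (hAE : ¬ A ≤ E) :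
    ∃ D : Subgroup X, Cfsg.IsElementaryAbelian 2 D ∧ Nat.card ↥D = 8 ∧ ⁅A, D⁆ = ⊥ ∧
      Nat.card ↥(A ⊓ E) < Nat.card ↥(D ⊓ E) := by
  obtain ⟨i, hi1, hi2⟩ := bound hE hA
  obtain ⟨k, hk⟩ := card_pow_two hX (A ⊓ E)
  obtain ⟨f, hf⟩ := card_pow_two hX (cE E A)
  have hFel : Cfsg.IsElementaryAbelian 2 (cE E A) :=
    Cfsg.Agent.Lib.isElementaryAbelian_mono hE (cE_le E A)
  rw [hk, hA8] at hi1
  rw [hf] at hi2
  have hk3 : k < 3 := by
    by_contra hcon
    push Not at hcon
    apply hAE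
    have h8 : 2 ^ 3 ≤ 2 ^ k := Nat.pow_le_pow_right (by norm_num) hcon
    have hle : Nat.card ↥(A ⊓ E) ≤ Nat.card ↥A := Subgroup.card_le_of_le inf_le_left
    have heq : A ⊓ E = A := Subgroup.eq_of_le_of_card_ge inf_le_left (by rw [hk, hA8]; exact h8)
    rw [← heq]; exact inf_le_right
  have hkf : k < f := by
    by_contra hcon
    push Not at hcon
    have hfk : 2 ^ f ≤ 2 ^ k := Nat.pow_le_pow_right (by norm_num) hcon
    have h2 : (2 ^ f) ^ i ≤ (2 ^ k) ^ i := Nat.pow_le_pow_left hfk i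
    have h3 : 32 ≤ (2 ^ k) ^ i := le_trans hE32 (le_trans hi2 h2)
    interval_cases k
    · simp at h3
    · have : i = 4 := by omega
      subst this
      norm_num at h3
    · have : i = 2 := by omega
      subst this
      norm_num at h3
  -- a subgroup of `C_E(A)` of order `2 ^ (k + 1)`
  obtain ⟨D₀, -, hD₀F, hD₀c⟩ := exists_between (H := ⊥) (M := cE E A) bot_le (n := 0) (m := k + 1)
    (by simp) (by rw [hf]; exact pow_dvd_pow 2 (by omega)) (Nat.zero_le _)
  have hM : Cfsg.IsElementaryAbelian 2 (A ⊔ cE E A) := elab_sup hA hFel cE_commute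
  have hD₀M : D₀ ≤ A ⊔ cE E A := le_trans hD₀F le_sup_right
  have hdvd : 2 ^ 3 ∣ Nat.card ↥(A ⊔ cE E A) := by
    have := Subgroup.card_dvd_of_le (le_sup_left : A ≤ A ⊔ cE E A)
    rwa [hA8] at this
  obtain ⟨D, hD₀D, hDM, hDc⟩ := exists_between hD₀M hD₀c hdvd (by omega)
  refine ⟨D, Cfsg.Agent.Lib.isElementaryAbelian_mono hM hDM, by rw [hDc]; norm_num, ?_, ?_⟩
  · rw [Subgroup.commutator_eq_bot_iff_le_centralizer]
    intro a ha
    rw [Subgroup.mem_centralizer_iff]
    intro d hd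
    exact Cfsg.Agent.Lib.isElementaryAbelian_commute hM (hDM hd) ((le_sup_left : A ≤ A ⊔ cE E A) ha)
  · have hle : D₀ ≤ D ⊓ E := le_inf hD₀D (le_trans hD₀F (cE_le E A))
    have := Subgroup.card_le_of_le hle
    rw [hD₀c] at this
    rw [hk]
    have h4 : 2 ^ k < 2 ^ (k + 1) := Nat.pow_lt_pow_right (by norm_num) (by omega)
    omega

/-- The relation of the statement. -/
def adj (C D : Subgroup X) : Prop :=
  Cfsg.IsElementaryAbelian 2 C ∧ Nat.card ↥C = 8 ∧ Cfsg.IsElementaryAbelian 2 D ∧ Nat.card ↥D = 8 ∧ ⁅C, D⁆ = ⊥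

theorem adj_symm {C D : Subgroup X} (h : adj C D) : adj D C :=
  ⟨h.2.2.1, h.2.2.2.1, h.1, h.2.1, by rw [Subgroup.commutator_comm]; exact h.2.2.2.2⟩

theorem chain_symm {A B : Subgroup X} (h : Relation.ReflTransGen adj A B) :
    Relation.ReflTransGen adj B A := by
  induction h with
  | refl => exact Relation.ReflTransGen.refl
  | tail _ hbc ih => exact Relation.ReflTransGen.head (adj_symm hbc) ih

theorem chain_to_E [Finite X] (hX : IsPGroup 2 X) {E : Subgroup X} [E.Normal]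
    (hE : Cfsg.IsElementaryAbelian 2 E) (hE32 : 32 ≤ Nat.card ↥E) (n : ℕ) :
    ∀ A : Subgroup X, Cfsg.IsElementaryAbelian 2 A → Nat.card ↥A = 8 → 8 - Nat.card ↥(A ⊓ E) = n →
      ∃ D : Subgroup X, Cfsg.IsElementaryAbelian 2 D ∧ Nat.card ↥D = 8 ∧ D ≤ E ∧
        Relation.ReflTransGen adj A D := by
  induction n using Nat.strong_induction_on with
  | _ n ih =>
  intro A hA hA8 hn
  by_cases hAE : A ≤ E
  · exact ⟨A, hA, hA8, hAE, Relation.ReflTransGen.refl⟩
  · obtain ⟨D, hD, hD8, hAD, hlt⟩ := chain_step hX hE hE32 hA hA8 hAE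
    have hle : Nat.card ↥(D ⊓ E) ≤ 8 := by
      rw [← hD8]; exact Subgroup.card_le_of_le inf_le_left
    obtain ⟨D', hD', hD'8, hD'E, hch⟩ := ih (8 - Nat.card ↥(D ⊓ E)) (by omega) D hD hD8 rfl
    exact ⟨D', hD', hD'8, hD'E, Relation.ReflTransGen.head ⟨hA, hA8, hD, hD8, hAD⟩ hch⟩

/-- Let X be a finite 2-group having a normal elementary abelian subgroup of order at least 32. Then (a) for any two elementary abelian subgroups A, B of X of order 8 there is a chain A = A₁, A₂, …, Aₙ = B of elementary abelian subgroups of order 8 in which consecutive members commute elementwise; and (b) every elementary abelian subgroup of X of order 4 is contained in an elementary abelian subgroup of order 8. -/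
theorem result {X : Type*} [Group X] [Finite X]
    (hX : IsPGroup 2 X) (E : Subgroup X) [E.Normal] (hE : Cfsg.IsElementaryAbelian 2 E) (hE32 : 32 ≤ Nat.card ↥E) :
    (∀ A B : Subgroup X, Cfsg.IsElementaryAbelian 2 A → Nat.card ↥A = 8 → Cfsg.IsElementaryAbelian 2 B → Nat.card ↥B = 8 →
        Relation.ReflTransGen
          (fun C D : Subgroup X => Cfsg.IsElementaryAbelian 2 C ∧ Nat.card ↥C = 8 ∧ Cfsg.IsElementaryAbelian 2 D ∧ Nat.card ↥D = 8 ∧ ⁅C, D⁆ = ⊥)
          A B) ∧
      (∀ V : Subgroup X, Cfsg.IsElementaryAbelian 2 V → Nat.card ↥V = 4 →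
        ∃ A : Subgroup X, V ≤ A ∧ Cfsg.IsElementaryAbelian 2 A ∧ Nat.card ↥A = 8) := by
  refine ⟨fun A B hA hA8 hB hB8 => ?_, fun V hV hV4 => ?_⟩
  · obtain ⟨A', hA', hA'8, hA'E, hchA⟩ := chain_to_E hX hE hE32 _ A hA hA8 rfl
    obtain ⟨B', hB', hB'8, hB'E, hchB⟩ := chain_to_E hX hE hE32 _ B hB hB8 rfl
    have hadj : adj A' B' := ⟨hA', hA'8, hB', hB'8, by
      rw [Subgroup.commutator_eq_bot_iff_le_centralizer]
      intro a ha
      rw [Subgroup.mem_centralizer_iff]
      intro b hb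
      exact Cfsg.Agent.Lib.isElementaryAbelian_commute hE (hB'E hb) (hA'E ha)⟩
    have hchB' : Relation.ReflTransGen adj B' B := chain_symm hchB
    exact (hchA.trans (Relation.ReflTransGen.single hadj)).trans hchB'
  · obtain ⟨i, hi1, hi2⟩ := bound hE hV
    have hex : ∃ f ∈ cE E V, f ∉ V := by
      by_contra hcon
      push Not at hcon
      have hle : cE E V ≤ V ⊓ E := fun x hx => Subgroup.mem_inf.2 ⟨hcon x hx, cE_le E V hx⟩
      have hc := Subgroup.card_le_of_le hle
      obtain ⟨k, hk⟩ := card_pow_two hX (V ⊓ E)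
      rw [hk, hV4] at hi1
      rw [hk] at hc
      have h2 : Nat.card ↥(cE E V) ^ i ≤ (2 ^ k) ^ i := Nat.pow_le_pow_left hc i
      have h3 : 32 ≤ (2 ^ k) ^ i := le_trans hE32 (le_trans hi2 h2)
      have hk3 : k < 3 := by
        by_contra hcon
        push Not at hcon
        have h8 : 2 ^ 3 ≤ 2 ^ k := Nat.pow_le_pow_right (by norm_num) hcon
        have hipos : 0 < i := by
          rcases Nat.eq_zero_or_pos i with h | h
          · rw [h] at hi1; simp at hi1
          · exact h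
        nlinarith
      interval_cases k
      · simp at h3
      · have : i = 2 := by omega
        subst this
        norm_num at h3
      · have : i = 1 := by omega
        subst this
        norm_num at h3
    obtain ⟨f, hfF, hfV⟩ := hex
    have hf2 : f ^ 2 = 1 := hE.2 f (cE_le E V hfF)
    have hc : ∀ b ∈ V, b * f = f * b := fun b hb => cE_commute b hb f hfF
    refine ⟨V ⊔ Subgroup.zpowers f, le_sup_left, elab_sup hV (elab_zpowers hf2) (commute_zpowers hc), ?_⟩
    rw [card_sup_zpowers hfV hf2 hc, hV4]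

end Cfsg.Agent.S1785
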