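import Cfsg.Statements.S0221
import Cfsg.Agent.S1785
import Cfsg.Agent.Helper23.NormalRank
import Cfsg.Agent.Helper23.RankTwo
import Cfsg.Agent.Helper53.Thompson
import Cfsg.Agent.Helper64.Basic
import Cfsg.Agent.Helper30.Conj
-- import your own Cfsg.Agent.* helpers here

set_option autoImplicit false
open Cfsg

namespace Cfsg.Agent.S0221

open Cfsg.Agent.S1785 Cfsg.Agent.Helper30

theorem comm_of_sq {P : Type*} [Group P] {a b : P} (ha : a ^ 2 = 1) (hb : b ^ 2 = 1) (hab : (a * b) ^ 2 = 1) :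
    a * b = b * a := by
  have h1 : a⁻¹ = a := by rw [inv_eq_iff_mul_eq_one, ← pow_two]; exact ha
  have h2 : b⁻¹ = b := by rw [inv_eq_iff_mul_eq_one, ← pow_two]; exact hb
  have h3 : (a * b)⁻¹ = a * b := by rw [inv_eq_iff_mul_eq_one, ← pow_two]; exact hab
  rw [mul_inv_rev, h1, h2] at h3
  exact h3.symm

theorem elab_of_sq {P : Type*} [Group P] {E : Subgroup P} (h : ∀ e ∈ E, e ^ 2 = 1) :
    Cfsg.IsElementaryAbelian 2 E :=
  ⟨IsMulCommutative.of_setLike_mul_comm fun a ha b hb =>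
    comm_of_sq (h a ha) (h b hb) (h _ (E.mul_mem ha hb)), h⟩

/-- Inside a finite 2-group of rank at least three there is a subgroup `M` of index at most two all of
whose involutions have centralizers of rank at least three. -/
theorem internal {P : Type*} [Group P] [Finite P] (hP : IsPGroup 2 P) (E₀ : Subgroup P)
    (hE₀c : Nat.card ↥E₀ = 8) (hE₀ : ∀ e ∈ E₀, e ^ 2 = 1) :
    ∃ M : Subgroup P, M.index ∣ 2 ∧ ∀ t ∈ M, t ^ 2 = 1 →
      ∃ E : Subgroup P, E ≤ Subgroup.centralizer ({t} : Set P) ∧ Nat.card ↥E = 8 ∧ ∀ e ∈ E, e ^ 2 = 1 := by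
  have : Fact (Nat.Prime 2) := ⟨Nat.prime_two⟩
  have hE₀el : Cfsg.IsElementaryAbelian 2 E₀ := elab_of_sq hE₀
  have hrk : ¬ Cfsg.PRankLE 2 2 P := by
    intro h
    have := h E₀ hE₀el.1 hE₀
    rw [hE₀c] at this
    norm_num at this
  obtain ⟨U, hUn, hUel, hUc⟩ := Cfsg.Agent.Helper23.exists_normal_elementaryAbelian_sq_of_rank 2 hP hrk
  have hidx := Cfsg.Agent.Helper23.index_centralizer_dvd_of_normal_sq hP U hUel hUc
  have hUc4 : Nat.card ↥U = 4 := by rw [hUc]; norm_num
  have hMn : (Subgroup.centralizer (U : Set P)).Normal := Subgroup.normal_centralizer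
  have hUM : U ≤ Subgroup.centralizer (U : Set P) := by
    intro u hu
    rw [Subgroup.mem_centralizer_iff]
    intro v hv
    exact Cfsg.Agent.Lib.isElementaryAbelian_commute hUel hv hu
  -- an element of `E₀ ∩ M` outside `U`
  have hex : ∃ f ∈ Subgroup.centralizer (U : Set P) ⊓ E₀, f ∉ U := by
    by_contra hcon
    push Not at hcon
    have hle : Subgroup.centralizer (U : Set P) ⊓ E₀ ≤ U := hcon
    have h1 : (Subgroup.centralizer (U : Set P)).relIndex E₀ ∣ 2 :=
      (Subgroup.relIndex_dvd_index_of_normal _ _).trans hidx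
    have h2 : Nat.card ↥(Subgroup.centralizer (U : Set P) ⊓ E₀) *
        (Subgroup.centralizer (U : Set P) ⊓ E₀).relIndex E₀ = Nat.card ↥E₀ := by
      have := Subgroup.relIndex_mul_relIndex ⊥ (Subgroup.centralizer (U : Set P) ⊓ E₀) E₀ bot_le inf_le_right
      rwa [Subgroup.relIndex_bot_left, Subgroup.relIndex_bot_left] at this
    rw [Subgroup.inf_relIndex_right, hE₀c] at h2
    have h3 : (Subgroup.centralizer (U : Set P)).relIndex E₀ ≤ 2 := Nat.le_of_dvd (by norm_num) h1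
    have h4 : 4 ≤ Nat.card ↥(Subgroup.centralizer (U : Set P) ⊓ E₀) := by nlinarith
    have heq : Subgroup.centralizer (U : Set P) ⊓ E₀ = U :=
      Subgroup.eq_of_le_of_card_ge hle (by rw [hUc4]; exact h4)
    have hUE : U ≤ E₀ := by rw [← heq]; exact inf_le_right
    have hEM : E₀ ≤ Subgroup.centralizer (U : Set P) := by
      intro e he
      rw [Subgroup.mem_centralizer_iff]
      intro u hu
      exact Cfsg.Agent.Lib.isElementaryAbelian_commute hE₀el (hUE hu) he
    have : Subgroup.centralizer (U : Set P) ⊓ E₀ = E₀ := inf_eq_right.2 hEM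
    rw [this] at heq
    rw [heq, hUc4] at hE₀c
    norm_num at hE₀c
  obtain ⟨f, hf, hfU⟩ := hex
  obtain ⟨hfM, hfE⟩ := Subgroup.mem_inf.1 hf
  have hf2 : f ^ 2 = 1 := hE₀ f hfE
  have hfc : ∀ b ∈ U, b * f = f * b := by
    intro b hb
    rw [Subgroup.mem_centralizer_iff] at hfM
    exact hfM b hb
  refine ⟨Subgroup.centralizer (U : Set P), hidx, fun t ht ht2 => ?_⟩
  have htc : ∀ b ∈ U, b * t = t * b := by
    intro b hb
    rw [Subgroup.mem_centralizer_iff] at ht
    exact ht b hb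
  by_cases htU : t ∈ U
  · have hAel : Cfsg.IsElementaryAbelian 2 (U ⊔ Subgroup.zpowers f) :=
      elab_sup hUel (elab_zpowers hf2) (commute_zpowers hfc)
    refine ⟨U ⊔ Subgroup.zpowers f, ?_, ?_, hAel.2⟩
    · intro a ha
      rw [Subgroup.mem_centralizer_iff]
      intro y hy
      rw [Set.mem_singleton_iff] at hy
      subst hy
      exact Cfsg.Agent.Lib.isElementaryAbelian_commute hAel ((le_sup_left : U ≤ _) htU) ha
    · rw [card_sup_zpowers hfU hf2 hfc, hUc4]
  · have hAel : Cfsg.IsElementaryAbelian 2 (U ⊔ Subgroup.zpowers t) :=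
      elab_sup hUel (elab_zpowers ht2) (commute_zpowers htc)
    refine ⟨U ⊔ Subgroup.zpowers t, ?_, ?_, hAel.2⟩
    · intro a ha
      rw [Subgroup.mem_centralizer_iff]
      intro y hy
      rw [Set.mem_singleton_iff] at hy
      subst hy
      exact Cfsg.Agent.Lib.isElementaryAbelian_commute hAel
        ((le_sup_right : Subgroup.zpowers y ≤ _) (Subgroup.mem_zpowers y)) ha
    · rw [card_sup_zpowers htU ht2 htc, hUc4]

/-- Let G be a finite group with no subgroup of index 2 whose 2-rank is at least 3 (it contains an elementary abelian subgroup of order 8). Then the centralizer of every involution of G also contains an elementary abelian subgroup of order 8. -/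
theorem result {G : Type*} [Group G] [Finite G] (hno : ∀ H : Subgroup G, H.index ≠ 2) (hrank : ∃ E : Subgroup G, Nat.card E = 8 ∧ ∀ e ∈ E, e ^ 2 = 1) (x : G) (hx : orderOf x = 2) : ∃ E : Subgroup G, E ≤ Subgroup.centralizer ({x} : Set G) ∧ Nat.card E = 8 ∧ ∀ e ∈ E, e ^ 2 = 1 := by
  classical
  have : Fact (Nat.Prime 2) := ⟨Nat.prime_two⟩
  obtain ⟨E₀, hE₀c, hE₀⟩ := hrank
  have hE₀p : IsPGroup 2 ↥E₀ := IsPGroup.of_card (n := 3) (by rw [hE₀c]; norm_num)
  obtain ⟨S, hES⟩ := hE₀p.exists_le_sylow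
  have hSp : IsPGroup 2 ↥(S : Subgroup G) := S.isPGroup'
  have hc8 : Nat.card ↥(E₀.subgroupOf (S : Subgroup G)) = 8 := by
    rw [← hE₀c]; exact Nat.card_congr (Subgroup.subgroupOfEquivOfLe hES).toEquiv
  have hexp : ∀ e ∈ E₀.subgroupOf (S : Subgroup G), e ^ 2 = 1 := by
    intro e he
    apply Subtype.ext
    have := hE₀ (e : G) (Subgroup.mem_subgroupOf.1 he)
    simpa using this
  obtain ⟨M, hMidx, hM⟩ := internal hSp (E₀.subgroupOf (S : Subgroup G)) hc8 hexp
  have hx2 : x ^ 2 = 1 := by rw [← hx]; exact pow_orderOf_eq_one x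
  have hx1 : x ≠ 1 := by
    intro h
    rw [h, orderOf_one] at hx
    norm_num at hx
  have hconj : ∃ g : G, g * x * g⁻¹ ∈ M.map (S : Subgroup G).subtype := by
    by_contra hcon
    push Not at hcon
    have hxp : IsPGroup 2 ↥(Subgroup.zpowers x) := by
      intro y
      obtain ⟨y, hy⟩ := y
      obtain ⟨n, rfl⟩ := Subgroup.mem_zpowers_iff.1 hy
      refine ⟨1, Subtype.ext ?_⟩
      show (x ^ n) ^ 2 ^ 1 = 1
      rw [pow_one, ← zpow_natCast, ← zpow_mul, mul_comm, zpow_mul, zpow_natCast, hx2, one_zpow]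
    obtain ⟨g₀, hg₀⟩ := Cfsg.Agent.Helper64.exists_le_map_conj_of_not_dvd_index (Subgroup.zpowers x) hxp
      (S : Subgroup G) S.not_dvd_index
    have hxS : g₀⁻¹ * x * g₀⁻¹⁻¹ ∈ (S : Subgroup G) := by
      have := mem_cj.1 (hg₀ (Subgroup.mem_zpowers x))
      rwa [inv_inv]
    have ht2 : orderOf (g₀⁻¹ * x * g₀⁻¹⁻¹) = 2 := by
      apply orderOf_eq_prime
      · rw [conj_pow, hx2, mul_one, mul_inv_cancel]
      · intro h
        apply hx1
        have : x = g₀⁻¹⁻¹ * (g₀⁻¹ * x * g₀⁻¹⁻¹) * g₀⁻¹ := by group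
        rw [this, h]; group
    have htM : (⟨g₀⁻¹ * x * g₀⁻¹⁻¹, hxS⟩ : ↥(S : Subgroup G)) ∉ M := by
      intro h
      exact hcon g₀⁻¹ ⟨⟨g₀⁻¹ * x * g₀⁻¹⁻¹, hxS⟩, h, rfl⟩
    have hMne : M ≠ ⊤ := fun h => htM (h ▸ Subgroup.mem_top _)
    have hMidx2 : M.index = 2 := by
      rcases (Nat.dvd_prime Nat.prime_two).1 hMidx with h | h
      · exact absurd (Subgroup.index_eq_one.1 h) hMne
      · exact h
    have hrel : (M.map (S : Subgroup G).subtype).relIndex (S : Subgroup G) = 2 := by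
      show ((M.map (S : Subgroup G).subtype).comap (S : Subgroup G).subtype).index = 2
      rw [Subgroup.comap_map_eq_self_of_injective (Subgroup.subtype_injective _)]
      exact hMidx2
    obtain ⟨H, hH, -⟩ := Cfsg.Agent.Helper53.thompson_transfer S (M.map (S : Subgroup G).subtype) hrel
      (g₀⁻¹ * x * g₀⁻¹⁻¹) hxS ht2 (fun g => by
        have h1 := hcon (g * g₀⁻¹)
        have e : g * g₀⁻¹ * x * (g * g₀⁻¹)⁻¹ = g * (g₀⁻¹ * x * g₀⁻¹⁻¹) * g⁻¹ := by group
        rwa [e] at h1)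
    exact hno H hH
  obtain ⟨g, hg⟩ := hconj
  obtain ⟨m, hmM, hmt⟩ := hg
  have hmt' : (m : G) = g * x * g⁻¹ := hmt
  have hm2 : m ^ 2 = 1 := by
    apply Subtype.ext
    show ((m : G)) ^ 2 = 1
    rw [hmt', conj_pow, hx2, mul_one, mul_inv_cancel]
  obtain ⟨E, hEc, hE8, hE2⟩ := hM m hmM hm2
  refine ⟨(E.map (S : Subgroup G).subtype).map (MulAut.conj g⁻¹).toMonoidHom, ?_, ?_, ?_⟩
  · rintro _ ⟨_, ⟨e, he, rfl⟩, rfl⟩
    rw [Subgroup.mem_centralizer_iff]
    intro y hy
    rw [Set.mem_singleton_iff] at hy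
    subst hy
    have h1 := hEc he
    rw [Subgroup.mem_centralizer_iff] at h1
    have h2 : m * e = e * m := h1 m rfl
    have h3 : (m : G) * (e : G) = e * m := congrArg Subtype.val h2
    simp only [MulEquiv.coe_toMonoidHom, MulAut.conj_apply, Subgroup.coe_subtype, inv_inv]
    have hy : y = g⁻¹ * (m : G) * g := by rw [hmt']; group
    rw [hy]
    calc g⁻¹ * m * g * (g⁻¹ * e * g) = g⁻¹ * ((m : G) * e) * g := by group
      _ = g⁻¹ * ((e : G) * m) * g := by rw [h3]
      _ = g⁻¹ * e * g * (g⁻¹ * m * g) := by group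
  · rw [Subgroup.card_map_of_injective (MulAut.conj g⁻¹).injective,
      Subgroup.card_map_of_injective (Subgroup.subtype_injective _), hE8]
  · rintro _ ⟨_, ⟨e, he, rfl⟩, rfl⟩
    rw [← map_pow, ← map_pow, hE2 e he, map_one, map_one]

end Cfsg.Agent.S0221
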