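import Cfsg.Statements.S0223
import Mathlib
import Cfsg.Agent.Helper4.StronglyEmb

set_option autoImplicit false
open Cfsg

namespace Cfsg.Agent.S0223

open Cfsg.Agent.Helper4

/-- Let H be a proper subgroup of even order of the finite group G. Then H is strongly embedded if and only if (i) C_G(t) ≤ H for every involution t of H and (ii) H controls fusion of its involutions: involutions of H conjugate in G are conjugate in H. -/
theorem result {G : Type*} [Group G] [Finite G] (H : Subgroup G) (hH : H ≠ ⊤) (heven : Even (Nat.card H)) : Cfsg.IsStronglyEmbedded H ↔ ((∀ t ∈ H, orderOf t = 2 → Subgroup.centralizer ({t} : Set G) ≤ H) ∧ (∀ t ∈ H, ∀ s ∈ H, orderOf t = 2 → orderOf s = 2 → IsConj t s → ∃ h ∈ H, h * t * h⁻¹ = s)) := by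
  rw [stronglyEmbedded_iff H hH heven]
  constructor
  · intro h
    constructor
    · intro t htH ht g hg
      rw [Subgroup.mem_centralizer_iff] at hg
      have h1 := hg t rfl
      apply h g t htH ht
      have : g⁻¹ * t * g = t := by
        calc g⁻¹ * t * g = g⁻¹ * (t * g) := by group
          _ = g⁻¹ * (g * t) := by rw [h1]
          _ = t := by group
      rw [this]; exact htH
    · intro t htH s hsH ht hs hconj
      obtain ⟨g, hg⟩ := isConj_iff.mp hconj
      refine ⟨g, ?_, hg⟩
      apply h g s hsH hs
      rw [← hg]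
      have : g⁻¹ * (g * t * g⁻¹) * g = t := by group
      rw [this]; exact htH
  · rintro ⟨hA, hB⟩ g t htH ht hgt
    -- t' = g⁻¹ t g ∈ H is an involution conjugate to t
    have ht' : orderOf (g⁻¹ * t * g) = 2 := by
      have : g⁻¹ * t * g = (MulAut.conj g⁻¹) t := by rw [MulAut.conj_apply, inv_inv]
      rw [this, MulEquiv.orderOf_eq, ht]
    have hconj : IsConj t (g⁻¹ * t * g) := isConj_iff.mpr ⟨g⁻¹, by rw [inv_inv]⟩
    obtain ⟨h, hhH, hh⟩ := hB t htH _ hgt ht ht' hconj
    -- g h centralizes t
    have hc : g * h ∈ Subgroup.centralizer ({t} : Set G) := by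
      rw [Subgroup.mem_centralizer_iff]
      intro y hy
      rw [Set.mem_singleton_iff] at hy
      subst hy
      have h1 : g * h * y * (g * h)⁻¹ = y := by
        calc g * h * y * (g * h)⁻¹ = g * (h * y * h⁻¹) * g⁻¹ := by group
          _ = g * (g⁻¹ * y * g) * g⁻¹ := by rw [hh]
          _ = y := by group
      calc y * (g * h) = (g * h * y * (g * h)⁻¹) * (g * h) := by rw [h1]
        _ = g * h * y := by group
    have h2 := hA t htH ht hc
    have : g = (g * h) * h⁻¹ := by group
    rw [this]
    exact H.mul_mem h2 (H.inv_mem hhH)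

end Cfsg.Agent.S0223
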