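import Cfsg.Statements.S0224
import Mathlib
import Cfsg.Agent.Helper4.StronglyEmb

set_option autoImplicit false
open Cfsg

namespace Cfsg.Agent.S0224

open Cfsg.Agent.Helper4

/-- Let H be a proper subgroup of even order of the finite group G. Then H is strongly embedded if and only if each involution of H fixes exactly one point (namely the coset H) in the action of G on the cosets of H. -/
theorem result {G : Type*} [Group G] [Finite G] (H : Subgroup G) (hH : H ≠ ⊤) (heven : Even (Nat.card H)) : Cfsg.IsStronglyEmbedded H ↔ ∀ t ∈ H, orderOf t = 2 → Nat.card {c : G ⧸ H // t • c = c} = 1 := by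
  rw [stronglyEmbedded_iff H hH heven]
  have hfix : ∀ t g : G, t • (g : G ⧸ H) = (g : G ⧸ H) ↔ g⁻¹ * t * g ∈ H := by
    intro t g
    rw [MulAction.Quotient.smul_mk, QuotientGroup.eq]
    have : (t • g)⁻¹ * g = (g⁻¹ * t * g)⁻¹ := by rw [smul_eq_mul]; group
    rw [this, inv_mem_iff]
  constructor
  · intro h t htH ht
    rw [Nat.card_eq_one_iff_unique]
    have h1 : t • ((1 : G) : G ⧸ H) = ((1 : G) : G ⧸ H) := by
      rw [hfix]; simpa using htH
    refine ⟨⟨?_⟩, ⟨⟨((1 : G) : G ⧸ H), h1⟩⟩⟩
    have hall : ∀ c : {c : G ⧸ H // t • c = c}, c.1 = ((1 : G) : G ⧸ H) := by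
      rintro ⟨c, hc⟩
      induction c using QuotientGroup.induction_on with
      | H g =>
        rw [hfix] at hc
        have := h g t htH ht hc
        show (g : G ⧸ H) = ((1 : G) : G ⧸ H)
        rw [QuotientGroup.eq]
        simpa using this
    intro a b
    exact Subtype.ext ((hall a).trans (hall b).symm)
  · intro h g t htH ht hgt
    have h1 := h t htH ht
    rw [Nat.card_eq_one_iff_unique] at h1
    obtain ⟨hsub, -⟩ := h1
    have e1 : t • ((1 : G) : G ⧸ H) = ((1 : G) : G ⧸ H) := by
      rw [hfix]; simpa using htH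
    have e2 : t • (g : G ⧸ H) = (g : G ⧸ H) := by
      rw [hfix]; exact hgt
    have := hsub.elim ⟨_, e1⟩ ⟨_, e2⟩
    have h3 : ((1 : G) : G ⧸ H) = (g : G ⧸ H) := congrArg Subtype.val this
    rw [QuotientGroup.eq] at h3
    simpa using h3

end Cfsg.Agent.S0224
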