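import Cfsg.Statements.S0229
import Mathlib
import Cfsg.Agent.Helper4.SylowTwo

set_option autoImplicit false
open Cfsg

namespace Cfsg.Agent.S0229

open Cfsg.Agent.Helper4

/-- Let t be an involution of a Sylow 2-subgroup S of a finite group G, conjugate in G to no other element of S, and let s be an involution of G not conjugate to t. Then the order of st is twice an odd number. -/
theorem result {G : Type*} [Group G] [Finite G] (S : Sylow 2 G) (t : G) (ht : orderOf t = 2) (htS : t ∈ S) (hiso : ∀ g : G, g * t * g⁻¹ ∈ S → g * t * g⁻¹ = t) (s : G) (hs : orderOf s = 2) (hns : ¬ IsConj s t) : orderOf (s * t) % 4 = 2 := by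
  have ht2 := sq_one_of_orderOf_two ht
  have hs2 := sq_one_of_orderOf_two hs
  have hconj2 : ∀ g : G, (g * t * g⁻¹) * (g * t * g⁻¹) = 1 := by
    intro g
    calc (g * t * g⁻¹) * (g * t * g⁻¹) = g * (t * t) * g⁻¹ := by group
      _ = 1 := by rw [ht2]; group
  -- orderOf (t * s) = orderOf (s * t)
  have hord : orderOf (t * s) = orderOf (s * t) := by
    have : t * s = (MulAut.conj t) (s * t) := by
      rw [MulAut.conj_apply]; group
    rw [this, MulEquiv.orderOf_eq]
  set n := orderOf (s * t) with hn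
  -- n is not odd
  have hnodd : ¬ Odd n := by
    intro hodd
    apply hns
    have hodd' : Odd (orderOf (s * t)) := hodd
    obtain ⟨k, hk⟩ := hodd'
    -- conjugating element (s t)^k
    rw [isConj_iff]
    refine ⟨(s * t) ^ (k : ℤ), ?_⟩
    have h1 : (s * t) ^ ((2 * k + 1 : ℕ) : ℤ) = 1 := by
      rw [zpow_natCast, ← hk, pow_orderOf_eq_one]
    calc (s * t) ^ (k : ℤ) * s * ((s * t) ^ (k : ℤ))⁻¹
        = (s * t) ^ (k : ℤ) * (s * (s * t) ^ (-(k : ℤ))) := by rw [zpow_neg]; group
      _ = (s * t) ^ (k : ℤ) * ((s * t) ^ (k : ℤ) * s) := by rw [invol_mul_zpow' hs2 ht2, neg_neg]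
      _ = (s * t) ^ ((2 * k + 1 : ℕ) : ℤ) * ((s * t)⁻¹ * s) := by
          push_cast
          rw [zpow_add, two_mul, zpow_add, zpow_one]; group
      _ = t := by rw [h1, one_mul, mul_inv_rev, inv_eq_self_of_sq_one hs2, inv_eq_self_of_sq_one ht2, mul_assoc, hs2, mul_one]
  have hneven : Even n := Nat.not_odd_iff_even.mp hnodd
  -- 4 does not divide n
  have hn4 : ¬ 4 ∣ n := by
    intro h4
    obtain ⟨r, hr⟩ := h4
    have hnpos : 0 < n := orderOf_pos _
    -- z = (t s)^(n/2) = (t s)^(2r), d = (t s)^r conjugates t to t z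
    set c := t * s with hc
    have hcn : c ^ n = 1 := by rw [← hord]; exact pow_orderOf_eq_one _
    set z := c ^ (2 * r) with hz
    have hz2 : z * z = 1 := by
      rw [hz, ← pow_add, ← two_mul, ← mul_assoc, show 2 * 2 * r = n by omega, hcn]
    have hz1 : z ≠ 1 := by
      intro h
      have := orderOf_dvd_of_pow_eq_one h
      rw [hord] at this
      have := Nat.le_of_dvd (by omega) this
      omega
    -- d t d⁻¹ = t z' where z' = c^(-2r) = z⁻¹ = z
    have hd : c ^ (r : ℤ) * t * (c ^ (r : ℤ))⁻¹ = z * t := by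
      calc c ^ (r : ℤ) * t * (c ^ (r : ℤ))⁻¹ = c ^ (r : ℤ) * (t * c ^ (-(r : ℤ))) := by
            rw [zpow_neg]; group
        _ = c ^ (r : ℤ) * (c ^ (r : ℤ) * t) := by rw [invol_mul_zpow' ht2 hs2, neg_neg]
        _ = z * t := by
            rw [← mul_assoc, ← zpow_add, hz, ← zpow_natCast]; push_cast; ring_nf
    -- t and z t generate a 2-group: t * (z t) ... use pair (t, z * t): product t * (z * t)
    have hzt2 : (z * t) * (z * t) = 1 := by rw [← hd]; exact hconj2 _
    have hprod : (t * (z * t)) ^ (2 ^ 1) = 1 := by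
      -- z commutes with t: z t = t z⁻¹ = t z
      have hzt : z * t = t * z := by
        have := invol_mul_zpow ht2 hs2 ((2 * r : ℕ) : ℤ)
        rw [zpow_natCast, zpow_neg, zpow_natCast] at this
        rw [hz, this]
        congr 1
        exact inv_eq_self_of_sq_one hz2
      have h0 : t * (z * t) = z := by rw [hzt, ← mul_assoc, ht2, one_mul]
      rw [h0, pow_one, pow_two, hz2]
    obtain ⟨h, h1, h2⟩ := exists_conj_pair_mem_sylow S ht2 hzt2 1 hprod
    have e1 := hiso h h1
    have e2 : h * (z * t) * h⁻¹ = t := by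
      have : h * (z * t) * h⁻¹ = (h * c ^ (r : ℤ)) * t * (h * c ^ (r : ℤ))⁻¹ := by
        rw [← hd]; group
      rw [this] at h2 ⊢
      exact hiso _ h2
    have e3 : t = z * t := by
      have : h * t * h⁻¹ = h * (z * t) * h⁻¹ := by rw [e1, e2]
      exact mul_left_cancel (mul_right_cancel this)
    apply hz1
    have : 1 * t = z * t := by rw [one_mul]; exact e3
    exact (mul_right_cancel this).symm
  obtain ⟨k, hk⟩ := hneven
  omega

end Cfsg.Agent.S0229
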