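import Cfsg.Statements.S0230
import Mathlib
import Cfsg.Agent.Helper4.Dihedral
import Cfsg.Agent.S0208
import Cfsg.Agent.S0209

set_option autoImplicit false
open Cfsg

namespace Cfsg.Agent.S0230

open Cfsg.Agent.Helper4

/-- Let G be a finite group with two non-conjugate involutions, and let t be an involution whose centralizer has maximal order among centralizers of involutions. Then |G| < |C_G(t)|^3. -/
theorem result {G : Type*} [Group G] [Finite G] (s t : G) (hs : orderOf s = 2) (ht : orderOf t = 2) (hnc : ¬ IsConj s t) (hmax : ∀ u : G, orderOf u = 2 → Nat.card (Subgroup.centralizer ({u} : Set G)) ≤ Nat.card (Subgroup.centralizer ({t} : Set G))) : Nat.card G < Nat.card (Subgroup.centralizer ({t} : Set G)) ^ 3 := by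
  classical
  have := Fintype.ofFinite G
  have hs2 := sq_one_of_orderOf_two hs
  have ht2 := sq_one_of_orderOf_two ht
  have hs1 := ne_one_of_orderOf_two hs
  have ht1 := ne_one_of_orderOf_two ht
  -- notation
  set N := Nat.card (Subgroup.centralizer ({t} : Set G)) with hN
  -- cardinality of a centralizer as a finset card
  have hcent : ∀ u : G, Nat.card (Subgroup.centralizer ({u} : Set G)) =
      (Finset.univ.filter (fun g : G => g * u = u * g)).card := by
    intro u
    rw [← Nat.card_eq_finsetCard]
    apply Nat.card_congr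
    refine Equiv.subtypeEquivRight ?_
    intro g
    rw [Subgroup.mem_centralizer_iff, Finset.mem_filter]
    simp only [Set.mem_singleton_iff, forall_eq, Finset.mem_univ, true_and]
    exact eq_comm
  -- the class of s
  set A : Finset G := Finset.univ.image (fun g : G => g * s * g⁻¹) with hA
  -- step 1: |G| ≤ |C(s)| * |A|
  have step1 : Fintype.card G ≤ Nat.card (Subgroup.centralizer ({s} : Set G)) * A.card := by
    rw [← Finset.card_univ]
    apply Finset.card_le_mul_card_image
    intro a ha
    rw [Finset.mem_image] at ha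
    obtain ⟨g0, -, rfl⟩ := ha
    rw [hcent s]
    apply Finset.card_le_card_of_injOn (fun g => g0⁻¹ * g)
    · intro g hg
      simp only [Finset.coe_filter, Finset.mem_univ, true_and, Set.mem_ofPred_eq] at hg ⊢
      -- g s g⁻¹ = g0 s g0⁻¹ → g0⁻¹ g commutes with s
      have h1 : g0⁻¹ * g * s * (g0⁻¹ * g)⁻¹ = s := by
        calc g0⁻¹ * g * s * (g0⁻¹ * g)⁻¹ = g0⁻¹ * (g * s * g⁻¹) * g0 := by group
          _ = g0⁻¹ * (g0 * s * g0⁻¹) * g0 := by rw [hg]
          _ = s := by group
      calc g0⁻¹ * g * s = (g0⁻¹ * g * s * (g0⁻¹ * g)⁻¹) * (g0⁻¹ * g) := by group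
        _ = s * (g0⁻¹ * g) := by rw [h1]
    · intro g _ g' _ h
      exact mul_left_cancel h
  -- elements of A are involutions not conjugate to t
  have hAprop : ∀ a ∈ A, orderOf a = 2 ∧ ¬ IsConj a t := by
    intro a ha
    rw [hA, Finset.mem_image] at ha
    obtain ⟨g, -, rfl⟩ := ha
    constructor
    · apply orderOf_two_of_sq_one
      · calc (g * s * g⁻¹) * (g * s * g⁻¹) = g * (s * s) * g⁻¹ := by group
          _ = 1 := by rw [hs2]; group
      · intro h
        apply hs1
        have : s = g⁻¹ * (g * s * g⁻¹) * g := by group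
        rw [this, h]; group
    · intro h
      apply hnc
      have : IsConj s (g * s * g⁻¹) := isConj_iff.mpr ⟨g, rfl⟩
      exact this.trans h
  -- the central involution attached to a
  let z : G → G := fun a => (a * t) ^ (orderOf (a * t) / 2)
  have hz : ∀ a ∈ A, orderOf (z a) = 2 ∧ Commute (z a) a ∧ Commute (z a) t := by
    intro a ha
    obtain ⟨ha2, hat⟩ := hAprop a ha
    have heven : Even (orderOf (a * t)) := by
      rw [← Nat.not_odd_iff_even]
      intro hodd
      obtain ⟨d, -, hd⟩ := Cfsg.Agent.S0208.result a t ha2 ht hodd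
      exact hat (isConj_iff.mpr ⟨d, hd⟩)
    exact Cfsg.Agent.S0209.result a t ha2 ht heven
  -- N ≥ 1
  have hNpos : 1 ≤ N := by
    rw [hN]
    exact Nat.one_le_iff_ne_zero.mpr (Nat.card_pos).ne'
  -- step 2: |A| ≤ (N - 1) * |image z|
  have step2 : A.card ≤ (N - 1) * (A.image z).card := by
    apply Finset.card_le_mul_card_image
    intro z0 hz0
    rw [Finset.mem_image] at hz0
    obtain ⟨a0, ha0, rfl⟩ := hz0
    obtain ⟨hz0o, -, -⟩ := hz a0 ha0
    -- fiber ⊆ C(z0) \ {1}
    have hsub : (A.filter (fun x => z x = z a0)) ⊆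
        (Finset.univ.filter (fun g : G => g * z a0 = z a0 * g)).erase 1 := by
      intro a ha
      rw [Finset.mem_filter] at ha
      obtain ⟨haA, haz⟩ := ha
      obtain ⟨-, hcomm, -⟩ := hz a haA
      rw [Finset.mem_erase, Finset.mem_filter]
      refine ⟨?_, Finset.mem_univ _, ?_⟩
      · exact ne_one_of_orderOf_two (hAprop a haA).1
      · rw [haz] at hcomm
        exact hcomm.eq.symm
    have h1 := Finset.card_le_card hsub
    have h2 : (1 : G) ∈ Finset.univ.filter (fun g : G => g * z a0 = z a0 * g) := by
      simp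
    rw [Finset.card_erase_of_mem h2, ← hcent] at h1
    have h3 := hmax (z a0) hz0o
    omega
  -- step 3: |image z| ≤ N - 1
  have step3 : (A.image z).card ≤ N - 1 := by
    have hsub : A.image z ⊆ (Finset.univ.filter (fun g : G => g * t = t * g)).erase 1 := by
      intro z0 hz0
      rw [Finset.mem_image] at hz0
      obtain ⟨a0, ha0, rfl⟩ := hz0
      obtain ⟨hz0o, -, hcomm⟩ := hz a0 ha0
      rw [Finset.mem_erase, Finset.mem_filter]
      exact ⟨ne_one_of_orderOf_two hz0o, Finset.mem_univ _, hcomm.eq⟩
    have h1 := Finset.card_le_card hsub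
    have h2 : (1 : G) ∈ Finset.univ.filter (fun g : G => g * t = t * g) := by simp
    rw [Finset.card_erase_of_mem h2, ← hcent] at h1
    exact h1
  -- combine
  have hCs : Nat.card (Subgroup.centralizer ({s} : Set G)) ≤ N := hmax s hs
  have hGcard : Nat.card G = Fintype.card G := Nat.card_eq_fintype_card
  rw [hGcard]
  have hA_le : A.card ≤ (N - 1) * (N - 1) := le_trans step2 (Nat.mul_le_mul_left _ step3)
  have h4 : Fintype.card G ≤ N * ((N - 1) * (N - 1)) :=
    le_trans step1 (Nat.mul_le_mul hCs hA_le)
  have h5 : N * ((N - 1) * (N - 1)) < N ^ 3 := by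
    have h6 : (N - 1) * (N - 1) < N * N := by
      have : N - 1 < N := by omega
      exact Nat.mul_lt_mul'' this this
    calc N * ((N - 1) * (N - 1)) < N * (N * N) := Nat.mul_lt_mul_of_pos_left h6 (by omega)
      _ = N ^ 3 := by ring
  omega

end Cfsg.Agent.S0230
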