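import Cfsg.Statements.S0231
import Mathlib
import Cfsg.Agent.Helper4.SylowTwo
import Cfsg.Agent.S0208
import Cfsg.Agent.S0209

set_option autoImplicit false
open scoped Pointwise
open Cfsg

namespace Cfsg.Agent.S0231

open Cfsg.Agent.Helper4

/-- Let T be a Sylow 2-subgroup of the finite group G which is not normal and which intersects every other Sylow 2-subgroup trivially. Then G has a single conjugacy class of involutions. -/
theorem result {G : Type*} [Group G] [Finite G] (T : Sylow 2 G) (hnn : ¬ (T : Subgroup G).Normal) (hTI : ∀ g : G, MulAut.conj g • (T : Subgroup G) ≠ T → MulAut.conj g • (T : Subgroup G) ⊓ T = ⊥) (s t : G) (hs : orderOf s = 2) (ht : orderOf t = 2) : IsConj s t := by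
  have mem_conj : ∀ g w : G, w ∈ MulAut.conj g • (T : Subgroup G) ↔ g⁻¹ * w * g ∈ T := by
    intro g w
    rw [Subgroup.mem_pointwise_smul_iff_inv_smul_mem]
    simp only [MulAut.smul_def, MulAut.inv_apply, MulAut.conj_symm_apply]
    rfl
  have TI1 : ∀ g w : G, w ≠ 1 → w ∈ T → g⁻¹ * w * g ∈ T → MulAut.conj g • (T : Subgroup G) = T := by
    intro g w hw1 hwT hgw
    by_contra hne
    have h := hTI g hne
    have : w ∈ MulAut.conj g • (T : Subgroup G) ⊓ T := ⟨(mem_conj g w).mpr hgw, hwT⟩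
    rw [h, Subgroup.mem_bot] at this
    exact hw1 this
  have conj_sq : ∀ (a g : G), a * a = 1 → (g * a * g⁻¹) * (g * a * g⁻¹) = 1 := by
    intro a g ha
    calc (g * a * g⁻¹) * (g * a * g⁻¹) = g * (a * a) * g⁻¹ := by group
      _ = 1 := by rw [ha]; group
  have conj_ne : ∀ (a g : G), a ≠ 1 → g * a * g⁻¹ ≠ 1 := by
    intro a g ha h
    apply ha
    have : a = g⁻¹ * (g * a * g⁻¹) * g := by group
    rw [this, h]; group
  -- key: two non-conjugate involutions lie in a common conjugate of T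
  have key : ∀ a b : G, orderOf a = 2 → orderOf b = 2 → ¬ IsConj a b →
      ∃ h : G, h * a * h⁻¹ ∈ T ∧ h * b * h⁻¹ ∈ T := by
    intro a b ha hb hnc
    have ha2 := sq_one_of_orderOf_two ha
    have hb2 := sq_one_of_orderOf_two hb
    have heven : Even (orderOf (a * b)) := by
      rw [← Nat.not_odd_iff_even]
      intro hodd
      obtain ⟨d, -, hd⟩ := Cfsg.Agent.S0208.result a b ha hb hodd
      exact hnc (isConj_iff.mpr ⟨d, hd⟩)
    obtain ⟨hz, hza, hzb⟩ := Cfsg.Agent.S0209.result a b ha hb heven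
    set z := (a * b) ^ (orderOf (a * b) / 2) with hzdef
    have hz2 := sq_one_of_orderOf_two hz
    have hz1 := ne_one_of_orderOf_two hz
    have haz : (a * z) ^ (2 ^ 1) = 1 := by
      rw [pow_one, pow_two]
      calc a * z * (a * z) = a * (z * a) * z := by group
        _ = a * (a * z) * z := by rw [hza.eq]
        _ = (a * a) * (z * z) := by group
        _ = 1 := by rw [ha2, hz2, one_mul]
    have hbz : (b * z) ^ (2 ^ 1) = 1 := by
      rw [pow_one, pow_two]
      calc b * z * (b * z) = b * (z * b) * z := by group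
        _ = b * (b * z) * z := by rw [hzb.eq]
        _ = (b * b) * (z * z) := by group
        _ = 1 := by rw [hb2, hz2, one_mul]
    obtain ⟨h1, h1a, h1z⟩ := exists_conj_pair_mem_sylow T ha2 hz2 1 haz
    obtain ⟨h2, h2b, h2z⟩ := exists_conj_pair_mem_sylow T hb2 hz2 1 hbz
    refine ⟨h1, h1a, ?_⟩
    have hg : (h1 * h2⁻¹)⁻¹ * (h1 * z * h1⁻¹) * (h1 * h2⁻¹) ∈ T := by
      have : (h1 * h2⁻¹)⁻¹ * (h1 * z * h1⁻¹) * (h1 * h2⁻¹) = h2 * z * h2⁻¹ := by group
      rw [this]; exact h2z
    have hT := TI1 (h1 * h2⁻¹) (h1 * z * h1⁻¹) (conj_ne z h1 hz1) h1z hg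
    have : h1 * b * h1⁻¹ ∈ MulAut.conj (h1 * h2⁻¹) • (T : Subgroup G) := by
      rw [mem_conj]
      have : (h1 * h2⁻¹)⁻¹ * (h1 * b * h1⁻¹) * (h1 * h2⁻¹) = h2 * b * h2⁻¹ := by group
      rw [this]; exact h2b
    rw [hT] at this
    exact this
  by_contra hns
  have hs2 := sq_one_of_orderOf_two hs
  have ht2 := sq_one_of_orderOf_two ht
  have hs1 := ne_one_of_orderOf_two hs
  have ht1 := ne_one_of_orderOf_two ht
  obtain ⟨h, hsT, htT⟩ := key s t hs ht hns
  -- T not normal: some conjugate differs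
  obtain ⟨g, hg⟩ : ∃ g : G, MulAut.conj g • (T : Subgroup G) ≠ T := by
    by_contra hall
    push Not at hall
    apply hnn
    constructor
    intro n hn g
    have : g * n * g⁻¹ ∈ MulAut.conj g • (T : Subgroup G) := by
      rw [mem_conj]
      have : g⁻¹ * (g * n * g⁻¹) * g = n := by group
      rw [this]; exact hn
    rw [hall g] at this
    exact this
  set s' := h * s * h⁻¹ with hs'
  set t' := h * t * h⁻¹ with ht'
  set r := g * s' * g⁻¹ with hr
  have hs'2 : s' * s' = 1 := conj_sq s h hs2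
  have hs'1 : s' ≠ 1 := conj_ne s h hs1
  have ht'2 : t' * t' = 1 := conj_sq t h ht2
  have ht'1 : t' ≠ 1 := conj_ne t h ht1
  have hr2 : r * r = 1 := conj_sq s' g hs'2
  have hr1 : r ≠ 1 := conj_ne s' g hs'1
  have hrT : r ∉ T := by
    intro hrT
    have : r ∈ MulAut.conj g • (T : Subgroup G) ⊓ T := by
      refine Subgroup.mem_inf.mpr ⟨?_, hrT⟩
      rw [mem_conj]
      have : g⁻¹ * r * g = s' := by rw [hr]; group
      rw [this]; exact hsT
    rw [hTI g hg, Subgroup.mem_bot] at this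
    exact hr1 this
  have hrs : IsConj s r := isConj_iff.mpr ⟨g * h, by rw [hr, hs']; group⟩
  have htt' : IsConj t t' := isConj_iff.mpr ⟨h, rfl⟩
  have hrt' : IsConj r t' := by
    by_contra hnc
    obtain ⟨h3, h3r, h3t⟩ := key r t' (orderOf_two_of_sq_one hr2 hr1)
      (orderOf_two_of_sq_one ht'2 ht'1) hnc
    have hh : h3⁻¹ * (h3 * t' * h3⁻¹) * h3 ∈ T := by
      have : h3⁻¹ * (h3 * t' * h3⁻¹) * h3 = t' := by group
      rw [this]; exact htT
    have hT := TI1 h3 (h3 * t' * h3⁻¹) (conj_ne t' h3 ht'1) h3t hh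
    rw [← SetLike.mem_coe, ← Sylow.coe_coe, ← hT] at h3r
    have := (mem_conj h3 _).mp h3r
    have e : h3⁻¹ * (h3 * r * h3⁻¹) * h3 = r := by group
    rw [e] at this
    exact hrT this
  exact hns (hrs.trans (hrt'.trans htt'.symm))

end Cfsg.Agent.S0231
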