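import Cfsg.Statements.S0232
import Cfsg.Agent.Helper55.BrauerFowler

set_option autoImplicit false
open Cfsg

namespace Cfsg.Agent.S0232

open Cfsg.Agent.Helper55

universe u

/-- The case of a centre of odd order: Brauer–Fowler counting. -/
theorem odd_center_case {G : Type u} [Group G] [Finite G] (heven : Even (Nat.card G))
    (hgt : 2 < Nat.card G) (hZ : Odd (Nat.card (Subgroup.center G))) :
    ∃ H : Subgroup G, H ≠ ⊤ ∧ Nat.card G < (Nat.card H) ^ 3 := by
  classical
  have : Fintype G := Fintype.ofFinite G
  by_contra hcon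
  push Not at hcon
  set N := Nat.card G with hN
  set m := (invs G).card with hm
  have hNF : Fintype.card G = N := Fintype.card_eq_nat_card
  have hnt : Nontrivial G := by
    rw [← Finite.one_lt_card_iff_nontrivial]; omega
  -- a proper subgroup of maximal order
  have hne : Nonempty {H : Subgroup G // H ≠ ⊤} := ⟨⟨⊥, bot_ne_top⟩⟩
  obtain ⟨⟨H₀, hH₀⟩, hmax⟩ := Finite.exists_max (fun H : {H : Subgroup G // H ≠ ⊤} => Nat.card H.1)
  set c := Nat.card H₀ with hc
  have hcle : ∀ H : Subgroup G, H ≠ ⊤ → Nat.card H ≤ c := fun H hH => hmax ⟨H, hH⟩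
  have hc3 : c ^ 3 ≤ N := hcon H₀ hH₀
  have hcpos : 0 < c := Nat.card_pos
  -- an involution
  have hp2 : Fact (Nat.Prime 2) := ⟨Nat.prime_two⟩
  obtain ⟨t, ht⟩ := exists_prime_orderOf_dvd_card' (G := G) 2 heven.two_dvd
  have hmpos : 0 < m := Finset.card_pos.2 ⟨t, mem_invs.2 ht⟩
  have hcent_ne : ∀ g : G, orderOf g = 2 → Subgroup.centralizer {g} ≠ ⊤ := by
    intro g hg2 htop
    have hgc : g ∈ Subgroup.center G := by
      rw [Subgroup.mem_center_iff]
      intro x
      have hx : x ∈ Subgroup.centralizer {g} := by rw [htop]; trivial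
      exact Subgroup.mem_centralizer_singleton_iff.1 hx
    have hdvd := orderOf_dvd_natCard (⟨g, hgc⟩ : Subgroup.center G)
    rw [Subgroup.orderOf_mk, hg2] at hdvd
    exact (Nat.not_even_iff_odd.2 hZ) (even_iff_two_dvd.2 hdvd)
  have hNle : N ≤ c * m := by
    have h1 := card_le_card_centralizer_mul_card_invs ht
    rw [hNF] at h1
    exact le_trans h1 (Nat.mul_le_mul_right _ (hcle _ (hcent_ne t ht)))
  -- pointwise bound
  have hpt : ∀ g : G, (1 : ℤ) * ((bfFiber g).card : ℤ) ≤
      (c : ℤ) + (if g = 1 then (m : ℤ) - c else 0) + (if orderOf g = 2 then (-2 : ℤ) else 0) := by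
    intro g
    by_cases hg1 : g = 1
    · subst hg1
      have h1 : (bfFiber (1 : G)).card ≤ m := card_bfFiber_one_le
      have h1' : ((bfFiber (1 : G)).card : ℤ) ≤ m := by exact_mod_cast h1
      simp only [orderOf_one, if_true]
      norm_num
      linarith
    · by_cases hg2 : orderOf g = 2
      · simp only [hg1, hg2, if_true, if_false]
        have h1 := hcle _ (hcent_ne g hg2)
        have h2 := card_bfFiber_add_two_le hg2
        have h3 : ((bfFiber g).card : ℤ) + 2 ≤ c := by exact_mod_cast le_trans h2 h1
        linarith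
      · simp only [hg1, hg2, if_false, add_zero, one_mul]
        rcases (bfFiber g).eq_empty_or_nonempty with he | ⟨p, hp⟩
        · rw [he]; simp
        have hinv := fst_inverts hp
        have hgne : g ≠ g⁻¹ := by
          intro h
          have hgg : g ^ 2 = 1 := by
            rw [sq]; nth_rewrite 1 [h]; exact inv_mul_cancel g
          have hdvd : orderOf g ∣ 2 := orderOf_dvd_of_pow_eq_one hgg
          rcases (Nat.dvd_prime Nat.prime_two).1 hdvd with h1 | h2
          · exact hg1 (orderOf_eq_one_iff.1 h1)
          · exact hg2 h2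
        have hCne : Subgroup.centralizer {g} ≠ ⊤ := by
          intro htop
          have hx : p.1 ∈ Subgroup.centralizer {g} := by rw [htop]; trivial
          rw [mem_centralizer_iff_conj, hinv] at hx
          exact hgne hx.symm
        have h1 := hcle _ hCne
        have h3 := card_bfFiber_le g
        exact_mod_cast le_trans h3 h1
  have hmain := sq_card_invs_le (1 : ℤ) (c : ℤ) ((m : ℤ) - c) (-2 : ℤ) hpt
  rw [hNF] at hmain
  -- arithmetic
  have hm' : (0 : ℤ) < m := by exact_mod_cast hmpos
  have hc' : (0 : ℤ) < c := by exact_mod_cast hcpos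
  have hN' : (0 : ℤ) < N := by exact_mod_cast (Nat.card_pos : 0 < Nat.card G)
  have h1 : (m : ℤ) ^ 2 < N * c := by
    have : (m : ℤ) ^ 2 ≤ N * c + (m - c) + m * (-2) := by simpa using hmain
    linarith
  have h2 : (N : ℤ) ≤ c * m := by exact_mod_cast hNle
  have h3 : (c : ℤ) ^ 3 ≤ N := by exact_mod_cast hc3
  have h4 : (N : ℤ) * N ≤ (c * m) * (c * m) := mul_le_mul h2 h2 hN'.le (by positivity)
  have h5 : ((c : ℤ) * m) * (c * m) < c ^ 2 * (N * c) := by
    have : (c : ℤ) ^ 2 * (m : ℤ) ^ 2 < c ^ 2 * (N * c) :=
      mul_lt_mul_of_pos_left h1 (by positivity)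
    calc ((c : ℤ) * m) * (c * m) = c ^ 2 * m ^ 2 := by ring
      _ < c ^ 2 * (N * c) := this
  have h6 : (c : ℤ) ^ 2 * (N * c) ≤ N * N := by
    calc (c : ℤ) ^ 2 * ((N : ℤ) * (c : ℤ)) = (N : ℤ) * (c : ℤ) ^ 3 := by ring
      _ ≤ (N : ℤ) * (N : ℤ) := mul_le_mul_of_nonneg_left h3 hN'.le
  linarith

/-- Main induction. -/
theorem aux : ∀ (n : ℕ) (G : Type u) [Group G] [Finite G], Nat.card G = n → Even n → 2 < n →
    ∃ H : Subgroup G, H ≠ ⊤ ∧ Nat.card G < (Nat.card H) ^ 3 := by
  intro n
  induction n using Nat.strong_induction_on with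
  | _ n ih =>
    intro G _ _ hcard heven hgt
    by_cases hZ : Odd (Nat.card (Subgroup.center G))
    · exact odd_center_case (hcard ▸ heven) (hcard ▸ hgt) hZ
    · rw [Nat.not_odd_iff_even] at hZ
      have hp2 : Fact (Nat.Prime 2) := ⟨Nat.prime_two⟩
      obtain ⟨⟨z, hz⟩, hzo⟩ := exists_prime_orderOf_dvd_card' (G := Subgroup.center G) 2 hZ.two_dvd
      rw [Subgroup.orderOf_mk] at hzo
      set Z := Subgroup.zpowers z with hZdef
      have hZnormal : Z.Normal := by
        constructor
        intro x hx g
        have hxc : x ∈ Subgroup.center G := (Subgroup.zpowers_le.2 hz) hx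
        have : g * x * g⁻¹ = x := by
          rw [Subgroup.mem_center_iff] at hxc
          rw [hxc g]; group
        rw [this]; exact hx
      have hZcard : Nat.card Z = 2 := by rw [hZdef, Nat.card_zpowers, hzo]
      have hQ : Nat.card G = Nat.card (G ⧸ Z) * 2 := by
        rw [← hZcard]; exact Subgroup.card_eq_card_quotient_mul_card_subgroup Z
      set q := Nat.card (G ⧸ Z) with hq
      by_cases hqodd : Odd q
      · -- Schur–Zassenhaus
        have hcop : Nat.Coprime (Nat.card Z) Z.index := by
          rw [hZcard]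
          show Nat.Coprime 2 q
          exact (Nat.coprime_two_left).2 hqodd
        obtain ⟨K, hK⟩ := Subgroup.exists_right_complement'_of_coprime hcop
        have hKcard : 2 * Nat.card K = Nat.card G := by
          rw [← hZcard]; exact hK.card_mul_card
        have hKq : Nat.card K = q := by omega
        have hq3 : 3 ≤ q := by
          rcases hqodd with ⟨k, hk⟩
          omega
        refine ⟨K, ?_, ?_⟩
        · intro h
          rw [h, Subgroup.card_top] at hKcard
          omega
        · rw [hKq, hQ]
          calc q * 2 < q * 9 := by omega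
            _ ≤ q * (q * q) := Nat.mul_le_mul_left _ (Nat.mul_le_mul hq3 hq3)
            _ = q ^ 3 := by ring
      · rw [Nat.not_odd_iff_even] at hqodd
        by_cases hq2 : q = 2
        · refine ⟨Z, ?_, ?_⟩
          · intro h
            rw [h, Subgroup.card_top] at hZcard
            omega
          · rw [hZcard, hQ, hq2]; norm_num
        · have hqgt : 2 < q := by
            rcases hqodd with ⟨k, hk⟩
            have : 0 < q := Nat.card_pos
            omega
          have hqlt : q < n := by omega
          obtain ⟨Hbar, hHbar, hlt⟩ := ih q hqlt (G ⧸ Z) rfl hqodd hqgt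
          set H := Hbar.comap (QuotientGroup.mk' Z) with hH
          have hidx : H.index = Hbar.index :=
            Subgroup.index_comap_of_surjective Hbar (QuotientGroup.mk'_surjective Z)
          have h1 : Nat.card H * H.index = Nat.card G := Subgroup.card_mul_index H
          have h2 : Nat.card Hbar * Hbar.index = q := Subgroup.card_mul_index Hbar
          have hidxpos : 0 < Hbar.index := Nat.pos_of_ne_zero Subgroup.index_ne_zero_of_finite
          have hHcard : Nat.card H = 2 * Nat.card Hbar := by
            have : Nat.card H * Hbar.index = (2 * Nat.card Hbar) * Hbar.index := by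
              rw [← hidx, h1, hQ, ← h2, hidx]; ring
            exact Nat.eq_of_mul_eq_mul_right hidxpos this
          refine ⟨H, ?_, ?_⟩
          · intro h
            have : Hbar.index = 1 := by rw [← hidx, h, Subgroup.index_top]
            exact hHbar (Subgroup.index_eq_one.1 this)
          · rw [hHcard, hQ]
            have : q < (Nat.card Hbar) ^ 3 := hlt
            nlinarith

/-- A finite group G of even order greater than 2 has a proper subgroup H with |G| < |H|^3. -/
theorem result {G : Type*} [Group G] [Finite G] (heven : Even (Nat.card G)) (hgt : 2 < Nat.card G) : ∃ H : Subgroup G, H ≠ ⊤ ∧ Nat.card G < (Nat.card H) ^ 3 := by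
  exact aux (Nat.card G) G rfl heven hgt

end Cfsg.Agent.S0232
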