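import Cfsg.Statements.S0234
import Cfsg.Agent.S0233
import Cfsg.Agent.Helper17.Embed

set_option autoImplicit false
open Cfsg

namespace Cfsg.Agent.S0234

open Cfsg.Agent.Helper55

/-- Sylow counting in a simple group whose order has two prime divisors `p ≠ q`: the number `n`
of Sylow `p`-subgroups divides `|G|`, is `≡ 1 mod p`, and `|G| ≤ n!`. -/
theorem sylow_count_of_simple {G : Type*} [Group G] [Finite G] [IsSimpleGroup G] {p q : ℕ}
    [Fact p.Prime] (hq : q.Prime) (hqp : q ≠ p) (hp : p ∣ Nat.card G) (hqd : q ∣ Nat.card G) :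
    ∃ n, n ∣ Nat.card G ∧ n ≡ 1 [MOD p] ∧ Nat.card G ≤ n.factorial := by
  obtain ⟨P⟩ : Nonempty (Sylow p G) := Sylow.nonempty
  refine ⟨Nat.card (Sylow p G), ?_, card_sylow_modEq_one p G, ?_⟩
  · exact (P.card_dvd_index).trans (Subgroup.index_dvd_card _)
  · have hPbot : (P : Subgroup G) ≠ ⊥ := P.ne_bot_of_dvd_card hp
    have hPtop : (P : Subgroup G) ≠ ⊤ := by
      intro htop
      have hpg : IsPGroup p G := by
        intro g
        obtain ⟨k, hk⟩ := P.isPGroup' ⟨g, by rw [htop]; trivial⟩
        exact ⟨k, by simpa [Subtype.ext_iff] using hk⟩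
      obtain ⟨n, hn⟩ := IsPGroup.iff_card.1 hpg
      rw [hn] at hqd
      have := (Nat.prime_dvd_prime_iff_eq hq (Fact.out : p.Prime)).1 (hq.dvd_of_dvd_pow hqd)
      exact hqp this
    have hnorm : Subgroup.normalizer ((P : Subgroup G) : Set G) ≠ ⊤ := by
      intro h
      have hN : (P : Subgroup G).Normal := Subgroup.normalizer_eq_top_iff.1 h
      rcases hN.eq_bot_or_eq_top with h1 | h1
      · exact hPbot h1
      · exact hPtop h1
    have hinj := Cfsg.Agent.Helper17.toPermHom_injective_of_simple _ hnorm
    have h1 := Nat.card_le_card_of_injective _ hinj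
    rw [Nat.card_perm] at h1
    rw [P.card_eq_index_normalizer]
    exact h1

theorem no_simple_small {G : Type*} [Group G] [Finite G] [IsSimpleGroup G] {p q N : ℕ}
    [Fact p.Prime] (hq : q.Prime) (hqp : q ≠ p) (hcard : Nat.card G = N) (hp : p ∣ N)
    (hqd : q ∣ N)
    (hbad : ∀ n ≤ N, n ∣ N → n % p = 1 % p → ¬ N ≤ n.factorial) : False := by
  obtain ⟨n, hn1, hn2, hn3⟩ := sylow_count_of_simple (G := G) (p := p) (q := q) hq hqp
    (hcard ▸ hp) (hcard ▸ hqd)
  rw [hcard] at hn1 hn3
  have hNpos : 0 < N := hcard ▸ Nat.card_pos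
  exact hbad n (Nat.le_of_dvd hNpos hn1) hn1 hn2 hn3

theorem card_invol_alt5 :
    Nat.card {t : alternatingGroup (Fin 5) // orderOf t = 2} = 15 := by
  have hp2 : Fact (Nat.Prime 2) := ⟨Nat.prime_two⟩
  have h : (Finset.univ.filter
      (fun t : alternatingGroup (Fin 5) => t ^ 2 = 1 ∧ t ≠ 1)).card = 15 := by decide
  rw [← h]
  apply Nat.subtype_card
  intro t
  simp only [Finset.mem_filter, Finset.mem_univ, true_and]
  exact (orderOf_eq_prime_iff).symm

/-- In a finite simple group G of even order greater than 2, the number n of involutions satisfies 3n < |G|. -/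
theorem result {G : Type*} [Group G] [Finite G] [IsSimpleGroup G] (heven : Even (Nat.card G)) (hgt : 2 < Nat.card G) : 3 * Nat.card {t : G // orderOf t = 2} < Nat.card G := by
  classical
  by_contra hcon
  rw [not_lt] at hcon
  set m := Nat.card {t : G // orderOf t = 2} with hm
  set N := Nat.card G with hN
  have hp2 : Fact (Nat.Prime 2) := ⟨Nat.prime_two⟩
  obtain ⟨t, ht⟩ := exists_prime_orderOf_dvd_card' (G := G) 2 heven.two_dvd
  -- the centre is trivial
  have hZ : Subgroup.center G = ⊥ := by
    rcases (inferInstance : (Subgroup.center G).Normal).eq_bot_or_eq_top with h | h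
    · exact h
    · exfalso
      have hnorm : (Subgroup.zpowers t).Normal := by
        constructor
        intro x hx g
        have hxc : x ∈ Subgroup.center G := by rw [h]; trivial
        have : g * x * g⁻¹ = x := by
          rw [Subgroup.mem_center_iff] at hxc
          rw [hxc g]; group
        rw [this]; exact hx
      have hcard : Nat.card (Subgroup.zpowers t) = 2 := by rw [Nat.card_zpowers, ht]
      rcases hnorm.eq_bot_or_eq_top with h1 | h1
      · rw [h1, Subgroup.card_bot] at hcard; omega
      · rw [h1, Subgroup.card_top] at hcard; omega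
  have hnc : ¬ IsMulCommutative G := by
    intro hc
    have : Subgroup.center G = ⊤ := by
      rw [eq_top_iff]
      intro x _
      rw [Subgroup.mem_center_iff]
      intro g
      exact hc.is_comm.comm g x
    rw [hZ] at this
    have h2 : Nat.card (⊥ : Subgroup G) = Nat.card (⊤ : Subgroup G) := by rw [this]
    rw [Subgroup.card_bot, Subgroup.card_top] at h2
    omega
  have hZodd : Odd (Nat.card (Subgroup.center G)) := by
    rw [hZ, Subgroup.card_bot]; exact odd_one
  obtain ⟨H, hH, hor⟩ := Cfsg.Agent.S0233.result heven hZodd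
  have hmpos : 0 < m := by
    rcases Nat.eq_zero_or_pos m with h0 | h0
    · rw [h0] at hcon; omega
    · exact h0
  have hk5 : H.index ≤ 5 := by
    rcases hor with h2 | hlt
    · omega
    · have h3 : N * (N + m) ≤ (3 * m) * (3 * m + m) := Nat.mul_le_mul hcon (by omega)
      have h4 : 2 * H.index * m ^ 2 < 12 * m ^ 2 := by
        calc 2 * H.index * m ^ 2 < N * (N + m) := hlt
          _ ≤ (3 * m) * (3 * m + m) := h3
          _ = 12 * m ^ 2 := by ring
      have h5 : 2 * H.index < 12 := Nat.lt_of_mul_lt_mul_right h4
      omega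
  have hk2 : 2 ≤ H.index := by
    have h0 : H.index ≠ 0 := Subgroup.index_ne_zero_of_finite
    have h1 : H.index ≠ 1 := fun h => hH (Subgroup.index_eq_one.1 h)
    omega
  obtain ⟨f, hf⟩ := Cfsg.Agent.Helper17.exists_embedding_alternating hnc H hH
  have hdvd : N ∣ Nat.card (alternatingGroup (Fin H.index)) :=
    Subgroup.card_dvd_of_injective f hf
  -- small orders are impossible
  have hsmall : N ≠ 4 ∧ N ≠ 6 ∧ N ≠ 10 ∧ N ≠ 12 ∧ N ≠ 20 := by
    refine ⟨?_, ?_, ?_, ?_, ?_⟩
    · intro h4
      have hpg : IsPGroup 2 G := IsPGroup.of_card (n := 2) (by rw [← hN, h4]; norm_num)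
      have hnt : Nontrivial G := by
        rw [← Finite.one_lt_card_iff_nontrivial]; omega
      have := hpg.center_nontrivial
      rw [hZ] at this
      exact not_subsingleton _ (inferInstance : Subsingleton (⊥ : Subgroup G))
    · intro h6
      have hp3 : Fact (Nat.Prime 3) := ⟨Nat.prime_three⟩
      exact no_simple_small (G := G) (p := 3) (q := 2) (N := 6) Nat.prime_two (by norm_num) h6
        (by norm_num) (by norm_num) (by decide)
    · intro h10
      have hp5 : Fact (Nat.Prime 5) := ⟨Nat.prime_five⟩
      exact no_simple_small (G := G) (p := 5) (q := 2) (N := 10) Nat.prime_two (by norm_num) h10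
        (by norm_num) (by norm_num) (by decide)
    · intro h12
      exact no_simple_small (G := G) (p := 2) (q := 3) (N := 12) Nat.prime_three (by norm_num) h12
        (by norm_num) (by norm_num) (by decide)
    · intro h20
      have hp5 : Fact (Nat.Prime 5) := ⟨Nat.prime_five⟩
      exact no_simple_small (G := G) (p := 5) (q := 2) (N := 20) Nat.prime_two (by norm_num) h20
        (by norm_num) (by norm_num) (by decide)
  obtain ⟨h4, h6, h10, h12, h20⟩ := hsmall
  obtain ⟨r, hr⟩ := heven
  -- case analysis on the index
  generalize hk : H.index = k at f hf hdvd hk5 hk2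
  interval_cases k
  · -- k = 2
    rw [Nat.card_eq_fintype_card] at hdvd
    have h1 : Fintype.card (alternatingGroup (Fin 2)) = 1 := by decide
    rw [h1] at hdvd
    have := Nat.le_of_dvd (by norm_num) hdvd
    omega
  · -- k = 3
    rw [Nat.card_eq_fintype_card] at hdvd
    have h1 : Fintype.card (alternatingGroup (Fin 3)) = 3 := by decide
    rw [h1] at hdvd
    have := Nat.le_of_dvd (by norm_num) hdvd
    have h3 : N = 3 := by
      rcases (Nat.dvd_prime Nat.prime_three).1 hdvd with h | h <;> omega
    omega
  · -- k = 4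
    rw [Nat.card_eq_fintype_card] at hdvd
    have h1 : Fintype.card (alternatingGroup (Fin 4)) = 12 := by decide
    rw [h1] at hdvd
    have hle := Nat.le_of_dvd (by norm_num) hdvd
    have : N = 4 ∨ N = 6 ∨ N = 12 := by
      interval_cases N <;> omega
    omega
  · -- k = 5
    have h1 : Nat.card (alternatingGroup (Fin 5)) = 60 := by
      rw [Nat.card_eq_fintype_card]; decide
    rw [h1] at hdvd
    have hle := Nat.le_of_dvd (by norm_num) hdvd
    have h3060 : N = 30 ∨ N = 60 := by
      interval_cases N <;> omega
    rcases h3060 with h30 | h60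
    · -- the image has index 2 in A₅
      have hrange : Nat.card f.range = 30 := by
        rw [← h30, hN]
        exact (Nat.card_congr (MonoidHom.ofInjective hf).toEquiv).symm
      have hidx : f.range.index = 2 := by
        have := Subgroup.card_mul_index f.range
        rw [hrange, h1] at this
        omega
      have hnorm : f.range.Normal := Subgroup.normal_of_index_eq_two hidx
      rcases hnorm.eq_bot_or_eq_top with hb | hb
      · rw [hb, Subgroup.card_bot] at hrange; omega
      · rw [hb, Subgroup.card_top, h1] at hrange; omega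
    · -- G ≅ A₅
      have hbij : Function.Bijective f :=
        Function.Injective.bijective_of_nat_card_le hf (by rw [h1, ← hN, h60])
      let e : G ≃* alternatingGroup (Fin 5) := MulEquiv.ofBijective f hbij
      have hm15 : m = 15 := by
        rw [hm, ← card_invol_alt5]
        exact Nat.card_congr (e.toEquiv.subtypeEquiv (fun a => by
          show orderOf a = 2 ↔ orderOf (e a) = 2
          rw [MulEquiv.orderOf_eq]))
      omega

end Cfsg.Agent.S0234
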