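import Cfsg.Statements.S0235
import Mathlib
import Cfsg.Agent.Helper4.Dihedral

set_option autoImplicit false
open Cfsg

namespace Cfsg.Agent.S0235

open Cfsg.Agent.Helper4

/-- If x² ≠ 1, the ordered pairs (u, v) of involutions with uv = x correspond bijectively to the involutions t with t x t⁻¹ = x⁻¹ (via (u, v) ↦ u), so the two counts agree. -/
theorem result {G : Type*} [Group G] [Finite G] (x : G) (hx : x ^ 2 ≠ 1) : Nat.card {p : G × G // orderOf p.1 = 2 ∧ orderOf p.2 = 2 ∧ p.1 * p.2 = x} = Nat.card {t : G // orderOf t = 2 ∧ t * x * t⁻¹ = x⁻¹} := by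
  apply Nat.card_congr
  have hA : ∀ p : G × G, orderOf p.1 = 2 ∧ orderOf p.2 = 2 ∧ p.1 * p.2 = x →
      orderOf p.1 = 2 ∧ p.1 * x * p.1⁻¹ = x⁻¹ := by
    rintro ⟨u, v⟩ ⟨hu, hv, huv⟩
    refine ⟨hu, ?_⟩
    simp only at hu hv huv ⊢
    subst huv
    exact invol_conj_mul (sq_one_of_orderOf_two hu) (sq_one_of_orderOf_two hv)
  have hB : ∀ t : G, orderOf t = 2 ∧ t * x * t⁻¹ = x⁻¹ →
      orderOf (t, t * x).1 = 2 ∧ orderOf (t, t * x).2 = 2 ∧ (t, t * x).1 * (t, t * x).2 = x := by
    rintro t ⟨ht, htx⟩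
    have ht2 := sq_one_of_orderOf_two ht
    refine ⟨ht, ?_, ?_⟩
    · apply orderOf_two_of_sq_one
      · show t * x * (t * x) = 1
        rw [inv_eq_self_of_sq_one ht2] at htx
        calc t * x * (t * x) = (t * x * t) * x := by group
          _ = 1 := by rw [htx]; group
      · show t * x ≠ 1
        intro h
        apply hx
        have : x = t := by
          have := eq_inv_of_mul_eq_one_right h
          rw [this, inv_eq_self_of_sq_one ht2]
        rw [this, pow_two, ht2]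
    · show t * (t * x) = x
      rw [← mul_assoc, ht2, one_mul]
  refine ⟨fun p => ⟨p.1.1, hA p.1 p.2⟩, fun t => ⟨(t.1, t.1 * x), hB t.1 t.2⟩, ?_, ?_⟩
  · rintro ⟨⟨u, v⟩, hu, hv, huv⟩
    simp only at hu hv huv
    ext
    · rfl
    · simp only
      rw [← huv, ← mul_assoc, sq_one_of_orderOf_two hu, one_mul]
  · rintro ⟨t, ht⟩
    rfl

end Cfsg.Agent.S0235
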