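import Cfsg.Statements.S0236
import Mathlib
import Cfsg.Agent.Helper4.Dihedral

set_option autoImplicit false
open Cfsg

namespace Cfsg.Agent.S0236

open Cfsg.Agent.Helper4

/-- If x is an involution, the number of ordered pairs (u, v) of involutions with uv = x, plus one, equals the number of involutions in the centralizer of x. -/
theorem result {G : Type*} [Group G] [Finite G] (x : G) (hx : orderOf x = 2) : Nat.card {p : G × G // orderOf p.1 = 2 ∧ orderOf p.2 = 2 ∧ p.1 * p.2 = x} + 1 = Nat.card {t : G // orderOf t = 2 ∧ Commute t x} := by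
  have hx2 := sq_one_of_orderOf_two hx
  have hx1 := ne_one_of_orderOf_two hx
  set A : Set G := {t : G | orderOf t = 2 ∧ Commute t x} with hAdef
  have hxA : x ∈ A := ⟨hx, Commute.refl x⟩
  have h1 : Nat.card {t : G // orderOf t = 2 ∧ Commute t x} = A.ncard := Nat.card_coe_set_eq A
  rw [h1, ← Set.ncard_sdiff_singleton_add_one hxA (Set.toFinite A), ← Nat.card_coe_set_eq]
  congr 1
  apply Nat.card_congr
  have hA : ∀ p : G × G, orderOf p.1 = 2 ∧ orderOf p.2 = 2 ∧ p.1 * p.2 = x →
      p.1 ∈ A \ {x} := by
    rintro ⟨u, v⟩ ⟨hu, hv, huv⟩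
    simp only at hu hv huv ⊢
    have hu2 := sq_one_of_orderOf_two hu
    have hv2 := sq_one_of_orderOf_two hv
    refine ⟨⟨hu, ?_⟩, ?_⟩
    · have h := invol_conj_mul hu2 hv2
      rw [huv, inv_eq_self_of_sq_one hx2, inv_eq_self_of_sq_one hu2] at h
      show u * x = x * u
      calc u * x = (u * x * u) * u := by rw [mul_assoc (u * x), hu2, mul_one]
        _ = x * u := by rw [h]
    · intro h
      rw [Set.mem_singleton_iff] at h
      subst h
      have : v = 1 := by
        have h3 : u * v = u * 1 := by rw [mul_one]; exact huv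
        exact mul_left_cancel h3
      exact ne_one_of_orderOf_two hv this
  have hB : ∀ t : G, t ∈ A \ {x} →
      orderOf (t, t * x).1 = 2 ∧ orderOf (t, t * x).2 = 2 ∧ (t, t * x).1 * (t, t * x).2 = x := by
    rintro t ⟨⟨ht, htx⟩, hne⟩
    have ht2 := sq_one_of_orderOf_two ht
    refine ⟨ht, ?_, ?_⟩
    · apply orderOf_two_of_sq_one
      · show t * x * (t * x) = 1
        have : t * x = x * t := htx
        calc t * x * (t * x) = t * (x * t) * x := by group
          _ = t * (t * x) * x := by rw [this]
          _ = (t * t) * (x * x) := by group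
          _ = 1 := by rw [ht2, hx2, one_mul]
      · show t * x ≠ 1
        intro h
        apply hne
        have := eq_inv_of_mul_eq_one_left h
        rw [inv_eq_self_of_sq_one hx2] at this
        exact this
    · show t * (t * x) = x
      rw [← mul_assoc, ht2, one_mul]
  refine ⟨fun p => ⟨p.1.1, hA p.1 p.2⟩, fun t => ⟨(t.1, t.1 * x), hB t.1 t.2⟩, ?_, ?_⟩
  · rintro ⟨⟨u, v⟩, hu, hv, huv⟩
    simp only at hu hv huv
    ext
    · rfl
    · simp only
      rw [← huv, ← mul_assoc, sq_one_of_orderOf_two hu, one_mul]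
  · rintro ⟨t, ht⟩
    rfl

end Cfsg.Agent.S0236
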