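import Cfsg.Statements.S0237
import Mathlib


set_option autoImplicit false
open Cfsg

namespace Cfsg.Agent.S0237

/-- If x is real (conjugate to x⁻¹) in a finite group G, the number of g with g x g⁻¹ = x⁻¹ equals |C_G(x)|. -/
theorem result {G : Type*} [Group G] [Finite G] (x : G) (hreal : IsConj x x⁻¹) : Nat.card {g : G // g * x * g⁻¹ = x⁻¹} = Nat.card (Subgroup.centralizer ({x} : Set G)) := by
  obtain ⟨c, hc⟩ := isConj_iff.mp hreal
  apply Nat.card_congr
  have hA : ∀ g : G, g * x * g⁻¹ = x⁻¹ → c⁻¹ * g ∈ Subgroup.centralizer ({x} : Set G) := by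
    intro g h1
    rw [Subgroup.mem_centralizer_iff]
    intro y hy
    rw [Set.mem_singleton_iff] at hy
    subst hy
    have h2 : g * y = y⁻¹ * g := by rw [← h1]; group
    have h3 : c * y = y⁻¹ * c := by rw [← hc]; group
    have h4 : y * c⁻¹ = c⁻¹ * y⁻¹ := by
      have : y * c⁻¹ = c⁻¹ * (c * y) * c⁻¹ := by group
      rw [this, h3]; group
    calc y * (c⁻¹ * g) = (y * c⁻¹) * g := by group
      _ = c⁻¹ * y⁻¹ * g := by rw [h4]
      _ = c⁻¹ * (y⁻¹ * g) := by group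
      _ = c⁻¹ * (g * y) := by rw [h2]
      _ = c⁻¹ * g * y := by group
  have hB : ∀ z : G, z ∈ Subgroup.centralizer ({x} : Set G) → c * z * x * (c * z)⁻¹ = x⁻¹ := by
    intro z hz
    rw [Subgroup.mem_centralizer_iff] at hz
    have h1 := hz x rfl
    calc c * z * x * (c * z)⁻¹ = c * (z * x) * z⁻¹ * c⁻¹ := by group
      _ = c * (x * z) * z⁻¹ * c⁻¹ := by rw [h1]
      _ = c * x * c⁻¹ := by group
      _ = x⁻¹ := hc
  refine ⟨fun g => ⟨c⁻¹ * g.1, hA g.1 g.2⟩, fun z => ⟨c * z.1, hB z.1 z.2⟩, ?_, ?_⟩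
  · intro g; ext; simp
  · intro z; ext; simp

end Cfsg.Agent.S0237
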