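import Cfsg.Statements.S0238
import Mathlib
import Cfsg.Agent.Helper4.Dihedral
import Cfsg.Agent.S0237

set_option autoImplicit false
open Cfsg

namespace Cfsg.Agent.S0238

open Cfsg.Agent.Helper4

/-- For every x in a finite group G, the number c of ordered pairs (u, v) of involutions with uv = x is at most |C_G(x)|; c = 0 when x is not conjugate to x⁻¹; and c + 2 ≤ |C_G(x)| when x is an involution. -/
theorem result {G : Type*} [Group G] [Finite G] (x : G) : Nat.card {p : G × G // orderOf p.1 = 2 ∧ orderOf p.2 = 2 ∧ p.1 * p.2 = x} ≤ Nat.card (Subgroup.centralizer ({x} : Set G)) ∧ (¬ IsConj x x⁻¹ → Nat.card {p : G × G // orderOf p.1 = 2 ∧ orderOf p.2 = 2 ∧ p.1 * p.2 = x} = 0) ∧ (orderOf x = 2 → Nat.card {p : G × G // orderOf p.1 = 2 ∧ orderOf p.2 = 2 ∧ p.1 * p.2 = x} + 2 ≤ Nat.card (Subgroup.centralizer ({x} : Set G))) := by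
  -- the map (u,v) ↦ u into the inverting elements
  have hA : ∀ p : G × G, orderOf p.1 = 2 ∧ orderOf p.2 = 2 ∧ p.1 * p.2 = x →
      p.1 * x * p.1⁻¹ = x⁻¹ := by
    rintro ⟨u, v⟩ ⟨hu, hv, huv⟩
    simp only at hu hv huv ⊢
    subst huv
    exact invol_conj_mul (sq_one_of_orderOf_two hu) (sq_one_of_orderOf_two hv)
  let f : {p : G × G // orderOf p.1 = 2 ∧ orderOf p.2 = 2 ∧ p.1 * p.2 = x} →
      {g : G // g * x * g⁻¹ = x⁻¹} := fun p => ⟨p.1.1, hA p.1 p.2⟩
  have hf : Function.Injective f := by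
    rintro ⟨⟨u, v⟩, hu, hv, huv⟩ ⟨⟨u', v'⟩, hu', hv', huv'⟩ h
    simp only [f, Subtype.mk.injEq] at h
    simp only at huv huv'
    subst h
    have : v = v' := mul_left_cancel (huv.trans huv'.symm)
    subst this
    rfl
  have hle : Nat.card {p : G × G // orderOf p.1 = 2 ∧ orderOf p.2 = 2 ∧ p.1 * p.2 = x} ≤
      Nat.card {g : G // g * x * g⁻¹ = x⁻¹} := Nat.card_le_card_of_injective f hf
  have hnot : ¬ IsConj x x⁻¹ →
      Nat.card {p : G × G // orderOf p.1 = 2 ∧ orderOf p.2 = 2 ∧ p.1 * p.2 = x} = 0 := by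
    intro hn
    have : IsEmpty {g : G // g * x * g⁻¹ = x⁻¹} := by
      constructor
      rintro ⟨g, hg⟩
      exact hn (isConj_iff.mpr ⟨g, hg⟩)
    have h0 : Nat.card {g : G // g * x * g⁻¹ = x⁻¹} = 0 := Nat.card_of_isEmpty
    omega
  refine ⟨?_, hnot, ?_⟩
  · by_cases hc : IsConj x x⁻¹
    · rw [← Cfsg.Agent.S0237.result x hc]
      exact hle
    · rw [hnot hc]
      exact Nat.zero_le _
  · intro hx
    have hx2 := sq_one_of_orderOf_two hx
    have hx1 := ne_one_of_orderOf_two hx
    set C : Set G := (Subgroup.centralizer ({x} : Set G) : Set G) with hC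
    have hcard : Nat.card (Subgroup.centralizer ({x} : Set G)) = C.ncard := by
      rw [← Nat.card_coe_set_eq]; rfl
    have hxC : x ∈ C := by
      show x ∈ Subgroup.centralizer ({x} : Set G)
      rw [Subgroup.mem_centralizer_iff]
      intro y hy
      rw [Set.mem_singleton_iff] at hy
      rw [hy]
    have h1C : (1 : G) ∈ C \ {x} := ⟨Subgroup.one_mem _, fun h => hx1 (Set.mem_singleton_iff.mp h).symm⟩
    rw [hcard, ← Set.ncard_sdiff_singleton_add_one hxC (Set.toFinite C),
      ← Set.ncard_sdiff_singleton_add_one h1C (Set.toFinite _), ← Nat.card_coe_set_eq]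
    have hB : ∀ p : G × G, orderOf p.1 = 2 ∧ orderOf p.2 = 2 ∧ p.1 * p.2 = x →
        p.1 ∈ (C \ {x}) \ {1} := by
      intro p hp
      have h := hA p hp
      obtain ⟨u, v⟩ := p
      obtain ⟨hu, hv, huv⟩ := hp
      simp only at hu hv huv h ⊢
      have hu2 := sq_one_of_orderOf_two hu
      refine ⟨⟨?_, ?_⟩, ?_⟩
      · show u ∈ Subgroup.centralizer ({x} : Set G)
        rw [Subgroup.mem_centralizer_iff]
        intro y hy
        rw [Set.mem_singleton_iff] at hy
        subst hy
        rw [inv_eq_self_of_sq_one hx2, inv_eq_self_of_sq_one hu2] at h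
        calc y * u = (u * y * u) * u := by rw [h]
          _ = u * y := by rw [mul_assoc (u * y), hu2, mul_one]
      · intro h'
        rw [Set.mem_singleton_iff] at h'
        subst h'
        have : v = 1 := by
          have h3 : u * v = u * 1 := by rw [mul_one]; exact huv
          exact mul_left_cancel h3
        exact ne_one_of_orderOf_two hv this
      · intro h'
        rw [Set.mem_singleton_iff] at h'
        exact ne_one_of_orderOf_two hu h'
    let f' : {p : G × G // orderOf p.1 = 2 ∧ orderOf p.2 = 2 ∧ p.1 * p.2 = x} →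
        ↥((C \ {x}) \ {1}) := fun p => ⟨p.1.1, hB p.1 p.2⟩
    have hf' : Function.Injective f' := by
      rintro ⟨⟨u, v⟩, hu, hv, huv⟩ ⟨⟨u', v'⟩, hu', hv', huv'⟩ h
      simp only [f', Subtype.mk.injEq] at h
      simp only at huv huv'
      subst h
      have : v = v' := mul_left_cancel (huv.trans huv'.symm)
      subst this
      rfl
    have := Nat.card_le_card_of_injective f' hf'
    omega

end Cfsg.Agent.S0238
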