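import Cfsg.Statements.S0240
import Mathlib
import Cfsg.Agent.Helper4.Dihedral

set_option autoImplicit false
open Cfsg

namespace Cfsg.Agent.S0240

open Cfsg.Agent.Helper4

/-- Let G be a finite group with n involutions and H a subgroup with |H|·(n+1) > |G|. Then some nontrivial h ∈ H is strongly real in G: an involution t of G satisfies t h t⁻¹ = h⁻¹. -/
theorem result {G : Type*} [Group G] [Finite G] (H : Subgroup G) (hH : Nat.card G < Nat.card H * (Nat.card {t : G // orderOf t = 2} + 1)) : ∃ h : G, h ∈ H ∧ h ≠ 1 ∧ ∃ t : G, orderOf t = 2 ∧ t * h * t⁻¹ = h⁻¹ := by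
  classical
  -- the map from {1} ∪ involutions to G ⧸ H
  let e : Option {t : G // orderOf t = 2} → G := fun o => o.elim 1 (fun t => t.1)
  have he : Function.Injective e := by
    intro a b hab
    cases a with
    | none =>
      cases b with
      | none => rfl
      | some b =>
        exfalso
        simp only [e, Option.elim] at hab
        exact ne_one_of_orderOf_two b.2 hab.symm
    | some a =>
      cases b with
      | none =>
        exfalso
        simp only [e, Option.elim] at hab
        exact ne_one_of_orderOf_two a.2 hab
      | some b =>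
        simp only [e, Option.elim] at hab
        rw [Subtype.ext hab]
  have hesq : ∀ o, e o * e o = 1 := by
    intro o
    cases o with
    | none => simp [e]
    | some a => exact sq_one_of_orderOf_two a.2
  let f : Option {t : G // orderOf t = 2} → G ⧸ H := fun o => (e o : G ⧸ H)
  have hcard : Nat.card (G ⧸ H) < Nat.card (Option {t : G // orderOf t = 2}) := by
    have h1 : Nat.card (Option {t : G // orderOf t = 2}) = Nat.card {t : G // orderOf t = 2} + 1 := by
      have := Fintype.ofFinite {t : G // orderOf t = 2}
      rw [Nat.card_eq_fintype_card, Nat.card_eq_fintype_card, Fintype.card_option]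
    rw [h1]
    have h2 : Nat.card H * H.index = Nat.card G := Subgroup.card_mul_index H
    have h3 : Nat.card (G ⧸ H) = H.index := rfl
    rw [h3]
    rw [← h2] at hH
    exact lt_of_mul_lt_mul_left hH (Nat.zero_le _)
  have hninj : ¬ Function.Injective f := fun hinj =>
    absurd (Nat.card_le_card_of_injective f hinj) (not_le.mpr hcard)
  obtain ⟨a, b, hfab, hab⟩ : ∃ a b, f a = f b ∧ a ≠ b := by
    unfold Function.Injective at hninj
    push Not at hninj
    exact hninj
  have hne : e a ≠ e b := fun h => hab (he h)
  have hmem : (e a)⁻¹ * e b ∈ H := QuotientGroup.eq.mp hfab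
  rw [inv_eq_self_of_sq_one (hesq a)] at hmem
  have hne1 : e a * e b ≠ 1 := by
    intro h
    apply hne
    have := eq_inv_of_mul_eq_one_left h
    rw [inv_eq_self_of_sq_one (hesq b)] at this
    exact this
  refine ⟨e a * e b, hmem, hne1, ?_⟩
  by_cases ha : e a = 1
  · -- then e b is an involution
    have hb1 : e b ≠ 1 := fun h => hne (ha.trans h.symm)
    refine ⟨e b, orderOf_two_of_sq_one (hesq b) hb1, ?_⟩
    rw [ha, one_mul, inv_eq_self_of_sq_one (hesq b), mul_assoc, hesq b, mul_one]
  · refine ⟨e a, orderOf_two_of_sq_one (hesq a) ha, ?_⟩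
    exact invol_conj_mul (hesq a) (hesq b)

end Cfsg.Agent.S0240
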