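import Cfsg.Statements.S0241
import Mathlib
import Cfsg.Agent.Helper4.Dihedral

set_option autoImplicit false
open Cfsg

namespace Cfsg.Agent.S0241

open Cfsg.Agent.Helper4

/-- If x ≠ 1 is conjugate to x⁻¹ in a finite group G and |C_G(x)| is odd, then some involution t satisfies t x t⁻¹ = x⁻¹. -/
theorem result {G : Type*} [Group G] [Finite G] (x : G) (hx : x ≠ 1) (hreal : IsConj x x⁻¹) (hodd : Odd (Nat.card (Subgroup.centralizer ({x} : Set G)))) : ∃ t : G, orderOf t = 2 ∧ t * x * t⁻¹ = x⁻¹ := by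
  obtain ⟨c, hc⟩ := isConj_iff.mp hreal
  -- even powers of c centralize x
  have h2 : ∀ k : ℕ, c ^ (2 * k) * x * (c ^ (2 * k))⁻¹ = x := by
    intro k
    induction k with
    | zero => simp
    | succ k ih =>
      have : c ^ (2 * (k + 1)) = c * c * c ^ (2 * k) := by
        rw [show 2 * (k + 1) = 1 + 1 + 2 * k by ring, pow_add, pow_add, pow_one]
      rw [this]
      calc c * c * c ^ (2 * k) * x * (c * c * c ^ (2 * k))⁻¹
          = c * (c * (c ^ (2 * k) * x * (c ^ (2 * k))⁻¹) * c⁻¹) * c⁻¹ := by group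
        _ = c * (c * x * c⁻¹) * c⁻¹ := by rw [ih]
        _ = c * x⁻¹ * c⁻¹ := by rw [hc]
        _ = (c * x * c⁻¹)⁻¹ := by group
        _ = x := by rw [hc, inv_inv]
  have h3 : ∀ k : ℕ, c ^ (2 * k + 1) * x * (c ^ (2 * k + 1))⁻¹ = x⁻¹ := by
    intro k
    calc c ^ (2 * k + 1) * x * (c ^ (2 * k + 1))⁻¹
        = c * (c ^ (2 * k) * x * (c ^ (2 * k))⁻¹) * c⁻¹ := by rw [pow_succ']; group
      _ = x⁻¹ := by rw [h2, hc]
  -- x ≠ x⁻¹
  have hxne : x ≠ x⁻¹ := by
    intro h
    have hx2 : x * x = 1 := by nth_rewrite 2 [h]; simp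
    have ho := orderOf_two_of_sq_one hx2 hx
    have hmem : x ∈ Subgroup.centralizer ({x} : Set G) := by
      rw [Subgroup.mem_centralizer_iff]
      intro y hy
      rw [Set.mem_singleton_iff] at hy
      rw [hy]
    have : orderOf (⟨x, hmem⟩ : Subgroup.centralizer ({x} : Set G)) = 2 := by
      rw [← ho]; exact (Subgroup.orderOf_mk x hmem)
    have hdvd := orderOf_dvd_natCard (⟨x, hmem⟩ : Subgroup.centralizer ({x} : Set G))
    rw [this] at hdvd
    exact (Nat.not_even_iff_odd.mpr hodd) (even_iff_two_dvd.mpr hdvd)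
  -- c^2 ∈ C(x), has odd order m
  have hc2 : c ^ 2 ∈ Subgroup.centralizer ({x} : Set G) := by
    rw [Subgroup.mem_centralizer_iff]
    intro y hy
    rw [Set.mem_singleton_iff] at hy
    subst hy
    have := h2 1
    rw [mul_one] at this
    calc y * c ^ 2 = (c ^ 2 * y * (c ^ 2)⁻¹) * c ^ 2 := by rw [this]
      _ = c ^ 2 * y := by group
  have hmo : Odd (orderOf (c ^ 2)) := by
    have h5 : orderOf (⟨c ^ 2, hc2⟩ : Subgroup.centralizer ({x} : Set G)) = orderOf (c ^ 2) :=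
      Subgroup.orderOf_mk (c ^ 2) hc2
    rw [← h5]
    exact Odd.of_dvd_nat hodd (orderOf_dvd_natCard _)
  obtain ⟨m, hm⟩ := hmo
  refine ⟨c ^ (2 * m + 1), ?_, h3 m⟩
  apply orderOf_two_of_sq_one
  · rw [← pow_add, ← two_mul, pow_mul, ← hm, pow_orderOf_eq_one]
  · intro h
    have := h3 m
    rw [h] at this
    apply hxne
    simpa using this

end Cfsg.Agent.S0241
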