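import Mathlib
import Cfsg.Statements.S0251
import Cfsg.Agent.Helper5.PSL2

set_option autoImplicit false
open Cfsg

namespace Cfsg.Agent.S0251

open Cfsg.Agent.Helper5
open scoped LinearAlgebra.Projectivization

/-- PSL_2(3) is isomorphic to A_4. -/
theorem result {F : Type*} [Field F] [Fintype F] (hF : Fintype.card F = 3) : Nonempty (Matrix.ProjectiveSpecialLinearGroup (Fin 2) F ≃* alternatingGroup (Fin 4)) := by
  classical
  have hcardP : Nat.card (ℙ F (Fin 2 → F)) = 4 := by rw [card_projLine, hF]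
  have hfin : Finite (ℙ F (Fin 2 → F)) := Nat.finite_of_card_ne_zero (by rw [hcardP]; norm_num)
  have : Fintype (ℙ F (Fin 2 → F)) := Fintype.ofFinite _
  have h2 : (2 : F) ≠ 0 := two_ne_zero_of_odd_card (by rw [hF]; decide)
  have hcardG : Nat.card (Matrix.ProjectiveSpecialLinearGroup (Fin 2) F) = 12 := by
    have := card_PSL2_mul (F := F)
    rw [card_center_SL2_of_two_ne_zero h2, hF] at this
    have h24 : 3 * (3 ^ 2 - 1) = 24 := by norm_num
    omega
  have hcard2 : Nat.card (Equiv.Perm (ℙ F (Fin 2 → F))) = 24 := by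
    rw [Nat.card_perm, hcardP]; rfl
  obtain ⟨e⟩ := equiv_alternating_of_injective (Projectivization.PSLAction.toPermHom (K := F) (ι := Fin 2))
    Matrix.ProjectiveSpecialLinearGroup.toPermHom_injective (by rw [hcardG, hcard2])
  let e2 : ℙ F (Fin 2 → F) ≃ Fin 4 := Finite.equivFinOfCardEq hcardP
  exact ⟨e.trans e2.altCongrHom⟩

end Cfsg.Agent.S0251
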