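import Mathlib
import Cfsg.Statements.S0257
import Cfsg.Agent.Helper5.PSL2
import Cfsg.Agent.Helper5.Q8Recog
import Cfsg.Agent.Helper41.PSL2Prod
import Cfsg.Agent.S0251

set_option autoImplicit false
open Cfsg

namespace Cfsg.Agent.S0257

open Cfsg.Agent.Helper5 Cfsg.Agent.Helper41

/-- SL_2(3) has a normal subgroup of index 3 isomorphic to the quaternion group of order 8, and its centre has order 2. -/
theorem result {F : Type*} [Field F] [Fintype F] (hF : Fintype.card F = 3) : (∃ Q : Subgroup (Matrix.SpecialLinearGroup (Fin 2) F), Q.Normal ∧ Q.index = 3 ∧ Nonempty (Q ≃* QuaternionGroup 2)) ∧ Nat.card (Subgroup.center (Matrix.SpecialLinearGroup (Fin 2) F)) = 2 := by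
  classical
  have h2 : (2 : F) ≠ 0 := two_ne_zero_of_odd_card (by rw [hF]; decide)
  have hcen : Nat.card (Subgroup.center (Matrix.SpecialLinearGroup (Fin 2) F)) = 2 :=
    card_center_SL2_of_two_ne_zero h2
  refine ⟨?_, hcen⟩
  have hcardG : Nat.card (Matrix.SpecialLinearGroup (Fin 2) F) = 24 := by
    rw [card_SL2, hF]; norm_num
  have hfinG : Finite (Matrix.SpecialLinearGroup (Fin 2) F) :=
    Nat.finite_of_card_ne_zero (by rw [hcardG]; norm_num)
  obtain ⟨e⟩ := Cfsg.Agent.S0251.result hF
  set Z := Subgroup.center (Matrix.SpecialLinearGroup (Fin 2) F) with hZ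
  let π : Matrix.SpecialLinearGroup (Fin 2) F →* alternatingGroup (Fin 4) :=
    e.toMonoidHom.comp (QuotientGroup.mk' Z)
  have hπsurj : Function.Surjective π := by
    intro y
    obtain ⟨x, hx⟩ := QuotientGroup.mk'_surjective Z (e.symm y)
    refine ⟨x, ?_⟩
    change e (QuotientGroup.mk' Z x) = y
    rw [hx, MulEquiv.apply_symm_apply]
  have hπker : ∀ x, π x = 1 ↔ x ∈ Z := by
    intro x
    simp only [π, MonoidHom.comp_apply, MulEquiv.coe_toMonoidHom]
    rw [MulEquiv.map_eq_one_iff, QuotientGroup.mk'_apply, QuotientGroup.eq_one_iff]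
  have hα4 : Nat.card (Fin 4) = 4 := by simp
  set V := alternatingGroup.kleinFour (Fin 4) with hV
  have hVn : V.Normal := alternatingGroup.normal_kleinFour hα4
  have hVcard : Nat.card V = 4 := alternatingGroup.kleinFour_card_of_card_eq_four hα4
  have hVidx : V.index = 3 := by
    have := V.index_mul_card
    rw [hVcard, alternatingGroup.card_of_card_eq_four hα4] at this
    omega
  have hVexp : ∀ v ∈ V, v ^ 2 = 1 := by
    intro v hv
    have h := alternatingGroup.exponent_kleinFour_of_card_eq_four hα4
    have := Monoid.pow_exponent_eq_one (⟨v, hv⟩ : V)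
    rw [h] at this
    exact congrArg Subtype.val this
  set Q := V.comap π with hQ
  have hQn : Q.Normal := hVn.comap π
  have hQidx : Q.index = 3 := by
    rw [hQ, Subgroup.index_comap_of_surjective V hπsurj, hVidx]
  have hQcard : Nat.card Q = 8 := by
    have := Q.index_mul_card
    rw [hQidx, hcardG] at this
    omega
  refine ⟨Q, hQn, hQidx, ?_⟩
  have hZQ : Z ≤ Q := by
    intro x hx
    rw [hQ, Subgroup.mem_comap, (hπker x).2 hx]
    exact Subgroup.one_mem _
  -- central elements are ±1
  have hZelts : ∀ x ∈ Z, x = 1 ∨ x = sl2NegOne := by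
    intro x hx
    rw [hZ, Matrix.SpecialLinearGroup.mem_center_iff] at hx
    obtain ⟨r, hr, hx⟩ := hx
    simp only [Fintype.card_fin] at hr
    have : (r - 1) * (r + 1) = 0 := by linear_combination hr
    rcases mul_eq_zero.1 this with h | h
    · left
      have hr1 : r = 1 := by linear_combination h
      apply Subtype.ext
      rw [← hx, hr1]; simp
    · right
      have hr1 : r = -1 := by linear_combination h
      apply Subtype.ext
      rw [← hx, hr1]; rfl
  have hneg_sq : (sl2NegOne : Matrix.SpecialLinearGroup (Fin 2) F) ^ 2 = 1 := by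
    apply Subtype.ext
    rw [pow_two, Matrix.SpecialLinearGroup.coe_mul]
    simp [sl2NegOne, Matrix.scalar_apply]
  apply quaternion_of_unique_involution hQcard ⟨sl2NegOne, hZQ sl2NegOne_mem_center⟩
  · intro x hx
    have hx' : (x : Matrix.SpecialLinearGroup (Fin 2) F) ^ 2 = 1 := by
      have := congrArg Subtype.val hx
      simpa using this
    have hxZ := sl2_mem_center_of_sq_eq_one h2 _ hx'
    rcases hZelts _ hxZ with h | h
    · left; exact Subtype.ext h
    · right; exact Subtype.ext h
  · intro x
    have hxV : π x ∈ V := x.2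
    have h1 : π ((x : Matrix.SpecialLinearGroup (Fin 2) F) ^ 2) = 1 := by
      rw [map_pow]; exact hVexp _ hxV
    have hxZ := (hπker _).1 h1
    apply Subtype.ext
    rw [Subgroup.coe_pow, Subgroup.coe_one]
    have : (x : Matrix.SpecialLinearGroup (Fin 2) F) ^ 4 =
        ((x : Matrix.SpecialLinearGroup (Fin 2) F) ^ 2) ^ 2 := by rw [← pow_mul]
    rw [this]
    rcases hZelts _ hxZ with h | h
    · rw [h, one_pow]
    · rw [h, hneg_sq]

end Cfsg.Agent.S0257
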