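import Mathlib
import Cfsg.Statements.S0263

set_option autoImplicit false
open Cfsg

namespace Cfsg.Agent.S0263

theorem prod_eq (q n : ℕ) (hq : 1 ≤ q) :
    ∏ i : Fin n, (q ^ n - q ^ (i : ℕ)) = q ^ (n * (n - 1) / 2) * ∏ i : Fin n, (q ^ (n - (i : ℕ)) - 1) := by
  rw [← Finset.sum_range_id, ← Finset.prod_pow_eq_pow_sum, ← Fin.prod_univ_eq_prod_range (fun i => q ^ i) n,
    ← Finset.prod_mul_distrib]
  refine Finset.prod_congr rfl (fun i _ => ?_)
  have hi : (i : ℕ) ≤ n := i.2.le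
  rw [Nat.mul_sub, mul_one, ← pow_add, Nat.add_sub_cancel' hi]

theorem not_dvd_prod (p q n : ℕ) (hp : p.Prime) (hpq : p ∣ q) (hq : 1 ≤ q) :
    ¬ p ∣ ∏ i : Fin n, (q ^ (n - (i : ℕ)) - 1) := by
  rw [Prime.dvd_finsetProd_iff hp.prime]
  rintro ⟨i, _, hi⟩
  have h1 : 1 ≤ n - (i : ℕ) := by have := i.2; omega
  have h2 : p ∣ q ^ (n - (i : ℕ)) := dvd_trans hpq (dvd_pow_self q (by omega))
  have h3 : 1 ≤ q ^ (n - (i : ℕ)) := Nat.one_le_pow _ _ hq
  have h4 : p ∣ 1 := by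
    have := (Nat.dvd_sub h2 hi)
    rwa [Nat.sub_sub_self h3] at this
  exact hp.one_lt.ne' (Nat.dvd_one.1 h4)

/-- A Sylow p-subgroup of GL_n(q), p the characteristic, has order q^(n(n-1)/2). -/
theorem result {F : Type*} [Field F] [Fintype F] {q : ℕ} (hF : Fintype.card F = q) (p : ℕ) [Fact p.Prime] [CharP F p] (n : ℕ) (P : Sylow p (Matrix.GeneralLinearGroup (Fin n) F)) : Nat.card P = q ^ (n * (n - 1) / 2) := by
  have hp : p.Prime := Fact.out
  obtain ⟨k, _, hk⟩ := FiniteField.card F p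
  rw [hF] at hk
  have hq1 : 1 ≤ q := by rw [hk]; exact Nat.one_le_pow _ _ hp.pos
  have hpq : p ∣ q := by rw [hk]; exact dvd_pow_self p k.ne_zero
  rw [Sylow.card_eq_multiplicity, Matrix.card_GL_field, hF, prod_eq q n hq1]
  have hm := not_dvd_prod p q n hp hpq hq1
  have hm0 : ∏ i : Fin n, (q ^ (n - (i : ℕ)) - 1) ≠ 0 := by
    intro h; apply hm; rw [h]; exact dvd_zero p
  have hq0 : q ^ (n * (n - 1) / 2) ≠ 0 := by positivity
  rw [Nat.factorization_mul hq0 hm0, Finsupp.add_apply, Nat.factorization_eq_zero_of_not_dvd hm, add_zero,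
    hk, ← pow_mul, Nat.Prime.factorization_pow hp]
  simp

end Cfsg.Agent.S0263
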