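import Mathlib
import Cfsg.Statements.S0264
import Cfsg.Agent.Helper5.SLn
import Cfsg.Agent.Helper5.Card

set_option autoImplicit false
set_option linter.unusedSimpArgs false
set_option linter.unnecessarySeqFocus false
open Cfsg

namespace Cfsg.Agent.S0264

open Matrix Matrix.SpecialLinearGroup
open scoped commutatorElement

variable {ι F : Type*} [Field F] [DecidableEq ι] [Fintype ι]

/-- the diagonal matrix with `c` at position `i` and `1` elsewhere, as an element of GL. -/
noncomputable def diagAt (i : ι) (c : F) (hc : c ≠ 0) : GL ι F :=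
  Matrix.GeneralLinearGroup.mkOfDetNeZero (diagonal (Function.update (fun _ => (1 : F)) i c)) (by
    rw [det_diagonal, Finset.prod_update_of_mem (Finset.mem_univ i)]
    simpa using hc)

theorem diagAt_val (i : ι) (c : F) (hc : c ≠ 0) :
    ((diagAt i c hc : GL ι F) : Matrix ι ι F) = diagonal (Function.update (fun _ => (1 : F)) i c) := rfl

theorem commutator_diagAt_transvection {i j : ι} (hij : i ≠ j) (c : F) (hc : c ≠ 0) (b : F) :
    ⁅diagAt i c hc, toGL (transvection hij b)⁆ = toGL (transvection hij ((c - 1) * b)) := by
  rw [commutatorElement_def, mul_inv_eq_iff_eq_mul, mul_inv_eq_iff_eq_mul]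
  apply Units.ext
  simp only [Units.val_mul, diagAt_val, coe_GL_coe_matrix, transvection_coe]
  ext k l
  simp only [Matrix.mul_add, Matrix.add_mul, Matrix.mul_one, Matrix.one_mul, Matrix.add_apply,
    Matrix.diagonal_apply, Matrix.diagonal_mul, Matrix.mul_diagonal, Matrix.single_apply,
    single_mul_single_of_ne _ _ _ _ hij.symm, Matrix.zero_apply, Matrix.zero_mul, add_zero]
  by_cases h1 : i = k <;> by_cases h2 : j = l <;> by_cases h3 : k = l <;>
    (try subst h1) <;> (try subst h2) <;> (try subst h3) <;>
    simp_all [Function.update_apply, eq_comm] <;> ring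

theorem toGL_transvection_mem_commutator_of_exists {i j : ι} (hij : i ≠ j) (a : F)
    (h : ∃ c : F, c ≠ 0 ∧ c ≠ 1) :
    toGL (transvection hij a) ∈ commutator (GL ι F) := by
  obtain ⟨c, hc0, hc1⟩ := h
  have hc1' : c - 1 ≠ 0 := sub_ne_zero.2 hc1
  have := commutator_diagAt_transvection hij c hc0 (a / (c - 1))
  rw [mul_div_cancel₀ _ hc1'] at this
  rw [← this]
  exact Subgroup.commutator_mem_commutator (Subgroup.mem_top _) (Subgroup.mem_top _)

theorem toGL_transvection_mem_commutator_of_three_le (h3 : 3 ≤ Fintype.card ι) {i j : ι} (hij : i ≠ j) (a : F) :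
    toGL (transvection hij a) ∈ commutator (GL ι F) := by
  have h := Cfsg.Agent.Helper5.transvection_mem_commutator_of_three_le h3 hij a
  have hle : Subgroup.map (toGL : SpecialLinearGroup ι F →* GL ι F) (commutator (SpecialLinearGroup ι F)) ≤
      commutator (GL ι F) := by
    rw [commutator_def, Subgroup.map_commutator, commutator_def]
    exact Subgroup.commutator_mono le_top le_top
  exact hle (Subgroup.mem_map_of_mem _ h)

theorem commutator_GL_eq_ker_det (h : Fintype.card ι = 2 → ∃ a : F, a ≠ 0 ∧ a ≠ 1) :
    commutator (GL ι F) = (GeneralLinearGroup.det : GL ι F →* Fˣ).ker := by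
  apply le_antisymm
  · exact Abelianization.commutator_subset_ker _
  · rw [← Cfsg.Agent.Helper5.range_toGL_eq_ker_det]
    rintro _ ⟨s, rfl⟩
    rcases Nat.lt_or_ge (Fintype.card ι) 2 with hlt | hge
    · have : Subsingleton ι := Fintype.card_le_one_iff_subsingleton.1 (by omega)
      have : s = 1 := Subsingleton.elim _ _
      rw [this, map_one]
      exact one_mem _
    · have : Nontrivial ι := Fintype.one_lt_card_iff_nontrivial.1 (by omega)
      refine Cfsg.Agent.Helper5.transvection_induction
        (fun s => toGL s ∈ commutator (GL ι F)) ?_ ?_ s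
      · intro i j hij a
        by_cases hex : ∃ c : F, c ≠ 0 ∧ c ≠ 1
        · exact toGL_transvection_mem_commutator_of_exists hij a hex
        · have h3 : 3 ≤ Fintype.card ι := by
            rcases Nat.lt_or_ge 2 (Fintype.card ι) with h' | h'
            · exact h'
            · exact absurd (h (by omega)) hex
          exact toGL_transvection_mem_commutator_of_three_le h3 hij a
      · intro A B hA hB
        rw [map_mul]
        exact mul_mem hA hB

/-- GL_n(F)' = SL_n(F) (as the kernel of det), for every field F and every n, except n = 2 over the field of two elements. -/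
theorem result {F : Type*} [Field F] (n : ℕ) (h : n = 2 → ∃ a : F, a ≠ 0 ∧ a ≠ 1) : commutator (Matrix.GeneralLinearGroup (Fin n) F) = (Matrix.GeneralLinearGroup.det : Matrix.GeneralLinearGroup (Fin n) F →* Fˣ).ker := by
  exact commutator_GL_eq_ker_det (by simpa using h)

end Cfsg.Agent.S0264
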