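import Mathlib
import Cfsg.Statements.S0267
import Cfsg.Agent.Helper5.PGL2Trans
import Cfsg.Agent.S0266

set_option autoImplicit false
open Cfsg

namespace Cfsg.Agent.S0267

open Cfsg.Agent.Helper5
open scoped LinearAlgebra.Projectivization Matrix MatrixGroups
open Projectivization

theorem sl_smul_eq_pgl_smul {F : Type*} [Field F] (M : GL (Fin 2) F)
    (A : Matrix.SpecialLinearGroup (Fin 2) F) (c : F)
    (hA : A.1 = c • M.1) (p : ℙ F (Fin 2 → F)) :
    A • p = (Matrix.ProjGenLinGroup.mk M : PGL(Fin 2, F)) • p := by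
  induction p using Projectivization.ind with | _ v hv =>
  rw [PGL.mk_smul_mk, Projectivization.smul_mk, Projectivization.mk_eq_mk_iff']
  refine ⟨c, ?_⟩
  change c • (M.1 *ᵥ v) = A.1 *ᵥ v
  rw [hA, Matrix.smul_mulVec]

theorem injective_vec3 {α : Type*} (a b c : α) (hab : a ≠ b) (hac : a ≠ c) (hbc : b ≠ c) :
    Function.Injective ![a, b, c] := by
  intro i j hij
  fin_cases i <;> fin_cases j <;> simp at hij <;>
    first | rfl | exact absurd hij hab | exact absurd hij hac | exact absurd hij hbc |
      exact absurd hij.symm hab | exact absurd hij.symm hac | exact absurd hij.symm hbc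

/-- SL_2(q) is 3-transitive on the q+1 points of the projective line if and only if q is even. -/
theorem result {F : Type*} [Field F] [Fintype F] : MulAction.IsMultiplyPretransitive (Matrix.SpecialLinearGroup (Fin 2) F) (Projectivization F (Fin 2 → F)) 3 ↔ ringChar F = 2 := by
  constructor
  · intro h
    by_contra hchar
    obtain ⟨d, hd⟩ := FiniteField.exists_nonsquare hchar
    have hd0 : d ≠ 0 := by
      rintro rfl; exact hd ⟨0, by simp⟩
    have hv : (![d, 1] : Fin 2 → F) ≠ 0 := by
      intro h; have := congr_fun h 1; simp at this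
    -- two frames
    have h1d : (pt1 : ℙ F (Fin 2 → F)) ≠ Projectivization.mk F ![d, 1] hv := by
      unfold pt1
      rw [Ne, mk_eq_mk_iff_det2]
      simp [det2]
    have h2d : (pt2 : ℙ F (Fin 2 → F)) ≠ Projectivization.mk F ![d, 1] hv := by
      unfold pt2
      rw [Ne, mk_eq_mk_iff_det2]
      simp [det2, hd0]
    have h12 : (pt1 : ℙ F (Fin 2 → F)) ≠ pt2 := by
      unfold pt1 pt2
      rw [Ne, mk_eq_mk_iff_det2]
      simp [det2]
    have h1_12 : (pt1 : ℙ F (Fin 2 → F)) ≠ pt12 := by
      unfold pt1 pt12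
      rw [Ne, mk_eq_mk_iff_det2]
      simp [det2]
    have h2_12 : (pt2 : ℙ F (Fin 2 → F)) ≠ pt12 := by
      unfold pt2 pt12
      rw [Ne, mk_eq_mk_iff_det2]
      simp [det2]
    let x : Fin 3 ↪ ℙ F (Fin 2 → F) :=
      ⟨![pt1, pt2, pt12], injective_vec3 _ _ _ h12 h1_12 h2_12⟩
    let y : Fin 3 ↪ ℙ F (Fin 2 → F) :=
      ⟨![pt1, pt2, Projectivization.mk F ![d, 1] hv], injective_vec3 _ _ _ h12 h1d h2d⟩
    obtain ⟨A, hA⟩ := h.exists_smul_eq x y
    have hA0 : A • (pt1 : ℙ F (Fin 2 → F)) = pt1 := congrArg (fun f => f 0) hA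
    have hA1 : A • (pt2 : ℙ F (Fin 2 → F)) = pt2 := congrArg (fun f => f 1) hA
    have hA2 : A • (pt12 : ℙ F (Fin 2 → F)) = Projectivization.mk F ![d, 1] hv :=
      congrArg (fun f => f 2) hA
    unfold pt1 at hA0
    unfold pt2 at hA1
    unfold pt12 at hA2
    rw [Projectivization.smul_mk, Projectivization.mk_eq_mk_iff'] at hA0 hA1 hA2
    obtain ⟨l, hl⟩ := hA0
    obtain ⟨m, hm⟩ := hA1
    obtain ⟨n, hn⟩ := hA2
    have hl' : A.1 *ᵥ ![1, 0] = l • ![1, 0] := hl.symm
    have hm' : A.1 *ᵥ ![0, 1] = m • ![0, 1] := hm.symm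
    have hn' : A.1 *ᵥ ![1, 1] = n • ![d, 1] := hn.symm
    have a00 := congr_fun hl' 0
    have a10 := congr_fun hl' 1
    have a01 := congr_fun hm' 0
    have a11 := congr_fun hm' 1
    have b0 := congr_fun hn' 0
    have b1 := congr_fun hn' 1
    simp [Matrix.mulVec, Matrix.vecHead, Matrix.vecTail] at a00 a10 a01 a11 b0 b1
    have hdet := A.det_coe
    rw [Matrix.det_fin_two, a00, a10, a01, a11] at hdet
    rw [a00, a01] at b0
    rw [a10, a11] at b1
    -- l = n d, m = n, l m = 1 → d = (1/n)^2... d * n^2 = 1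
    have hn0 : n ≠ 0 := by
      rintro rfl
      have : m = 0 := by linear_combination b1
      rw [this] at hdet
      simp at hdet
    apply hd
    refine ⟨n⁻¹, ?_⟩
    have : n * d * n = 1 := by
      have e1 : l = n * d := by linear_combination b0
      have e2 : m = n := by linear_combination b1
      rw [e1, e2] at hdet
      linear_combination hdet
    field_simp
    linear_combination this
  · intro hchar
    constructor
    intro x y
    obtain ⟨g, hg⟩ := (Cfsg.Agent.S0266.result (F := F)).1.exists_smul_eq x y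
    induction g using Matrix.ProjGenLinGroup.induction_on with | mk M =>
    obtain ⟨s, hs⟩ := FiniteField.isSquare_of_char_two hchar (M.1.det)
    have hdet0 : M.1.det ≠ 0 := by
      have := M.isUnit.map (Matrix.detMonoidHom)
      exact this.ne_zero
    have hs0 : s ≠ 0 := by
      rintro rfl
      rw [mul_zero] at hs
      exact hdet0 hs
    let A : Matrix.SpecialLinearGroup (Fin 2) F := ⟨s⁻¹ • M.1, by
      rw [Matrix.det_smul, Fintype.card_fin, hs]
      field_simp⟩
    refine ⟨A, ?_⟩
    ext i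
    have := congrArg (fun f => f i) hg
    change A • x i = y i
    rw [sl_smul_eq_pgl_smul M A s⁻¹ rfl]
    exact this

end Cfsg.Agent.S0267
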