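import Mathlib
import Cfsg.Statements.S0268

set_option autoImplicit false
open Cfsg

namespace Cfsg.Agent.S0268

theorem two_ne_zero_of_odd_card {F : Type*} [Field F] [Fintype F] (hF : Odd (Fintype.card F)) : (2 : F) ≠ 0 := by
  intro h2
  have hchar : ringChar F = 2 := by
    have hdvd : ringChar F ∣ 2 := by
      have := (ringChar.spec F 2).1 (by exact_mod_cast h2)
      exact this
    have hp : (ringChar F).Prime := CharP.char_is_prime F (ringChar F)
    rcases (Nat.dvd_prime Nat.prime_two).1 hdvd with h | h
    · exact absurd h hp.ne_one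
    · exact h
  have := FiniteField.even_card_of_char_two hchar
  rcases hF with ⟨k, hk⟩
  omega

theorem aux {F : Type*} [Field F] (h2ne : (2 : F) ≠ 0) (a b c d : F)
    (hdet : a * d - b * c = 1) (e00 : a * a + b * c = 1) (e01 : a * b + b * d = 0)
    (e10 : c * a + d * c = 0) (e11 : c * b + d * d = 1) :
    (a = 1 ∧ b = 0 ∧ c = 0 ∧ d = 1) ∨ (a = -1 ∧ b = 0 ∧ c = 0 ∧ d = -1) := by
  by_cases hs : a + d = 0
  · exfalso
    have hd' : d = -a := by linear_combination hs
    apply h2ne
    rw [hd'] at hdet
    linear_combination -(e00 + hdet)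
  · have hb0 : b = 0 := by
      have : b * (a + d) = 0 := by linear_combination e01
      rcases mul_eq_zero.1 this with h | h
      · exact h
      · exact absurd h hs
    have hc0 : c = 0 := by
      have : c * (a + d) = 0 := by linear_combination e10
      rcases mul_eq_zero.1 this with h | h
      · exact h
      · exact absurd h hs
    rw [hb0, hc0] at hdet e00 e11
    have had : a = d := by
      have h : a * (a - d) = 0 := by linear_combination e00 - hdet
      rcases mul_eq_zero.1 h with h | h
      · rw [h] at e00; simp at e00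
      · linear_combination h
    have ha2 : (a - 1) * (a + 1) = 0 := by linear_combination e00
    rcases mul_eq_zero.1 ha2 with h | h
    · left
      refine ⟨by linear_combination h, hb0, hc0, by rw [← had]; linear_combination h⟩
    · right
      refine ⟨by linear_combination h, hb0, hc0, by rw [← had]; linear_combination h⟩

/-- For q odd, -1 is the unique involution of SL_2(q). -/
theorem result {F : Type*} [Field F] [Fintype F] (hF : Odd (Fintype.card F)) (g : Matrix.SpecialLinearGroup (Fin 2) F) (h1 : g ≠ 1) (h2 : g * g = 1) : (g : Matrix (Fin 2) (Fin 2) F) = -1 := by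
  have h2ne := two_ne_zero_of_odd_card hF
  have hdet : (g : Matrix (Fin 2) (Fin 2) F).det = 1 := g.2
  rw [Matrix.det_fin_two] at hdet
  have hsq : (g : Matrix (Fin 2) (Fin 2) F) * (g : Matrix (Fin 2) (Fin 2) F) = 1 := by
    have := congrArg (fun x : Matrix.SpecialLinearGroup (Fin 2) F => (x : Matrix (Fin 2) (Fin 2) F)) h2
    simpa using this
  have e00 := congrFun (congrFun hsq 0) 0
  have e01 := congrFun (congrFun hsq 0) 1
  have e10 := congrFun (congrFun hsq 1) 0
  have e11 := congrFun (congrFun hsq 1) 1
  simp [Matrix.mul_apply, Fin.sum_univ_two] at e00 e01 e10 e11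
  rcases aux h2ne _ _ _ _ hdet e00 e01 e10 e11 with ⟨ha, hb, hc, hd⟩ | ⟨ha, hb, hc, hd⟩
  · exfalso
    apply h1
    ext i j
    fin_cases i <;> fin_cases j <;> simp [ha, hb, hc, hd]
  · ext i j
    fin_cases i <;> fin_cases j <;> simp [ha, hb, hc, hd]

end Cfsg.Agent.S0268
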