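import Cfsg.Statements.S0275
import Mathlib
import Cfsg.Agent.Helper4.OddSL2b
import Cfsg.Agent.Helper37.SL2Sylow2

set_option autoImplicit false
open Cfsg

namespace Cfsg.Agent.S0275

/-- If p is odd and H is a subgroup of SL_2(q), q a power of p, with more than one Sylow p-subgroup, then the Sylow 2-subgroups of H are generalised quaternion. -/
theorem result {F : Type*} [Field F] [Fintype F] (p : ℕ) [Fact p.Prime] [CharP F p] (hp : p ≠ 2) (H : Subgroup (Matrix.SpecialLinearGroup (Fin 2) F)) (hH : 1 < Nat.card (Sylow p H)) (S : Sylow 2 H) : ∃ k : ℕ, 1 ≤ k ∧ Nonempty ((S : Subgroup H) ≃* QuaternionGroup (2 ^ k)) := by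
  classical
  have h2 : (2 : F) ≠ 0 := by
    intro h
    have : ((2 : ℕ) : F) = 0 := by exact_mod_cast h
    rw [CharP.cast_eq_zero_iff F p] at this
    exact hp ((Nat.prime_dvd_prime_iff_eq Fact.out Nat.prime_two).mp this)
  have hU : Cfsg.Agent.Helper73.UniqueOrderP 2 (S : Subgroup H) :=
    ((Cfsg.Agent.Helper37.SL2Q.uniqueOrderP h2).subgroup H).subgroup _
  rcases Cfsg.Agent.Helper73.cyclic_or_quaternion S.isPGroup' hU with hc | ⟨_, n, hn, e⟩
  · exfalso
    have hfinS : Finite (Sylow p H) := inferInstance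
    obtain ⟨Q₁, Q₂, hne⟩ := (Finite.one_lt_card_iff_nontrivial.mp hH).exists_pair_ne
    exact hne (Cfsg.Agent.Helper4.sylow_p_unique_of_cyclic_sylow_two p hp H S hc Q₁ Q₂)
  · exact ⟨n, hn, e⟩

end Cfsg.Agent.S0275
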