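import Mathlib
import Cfsg.Statements.S0276
import Cfsg.Agent.Helper5.PSL2
import Cfsg.Agent.Helper41.PSL2Orders

set_option autoImplicit false
open Cfsg

namespace Cfsg.Agent.S0276

open Cfsg.Agent.Helper5 Cfsg.Agent.Helper41

/-- For q = 3 or 5 mod 8 the Sylow 2-subgroups of PSL_2(q) are elementary abelian of order 4. -/
theorem result {F : Type*} [Field F] [Fintype F] {q : ℕ} (hF : Fintype.card F = q) (hq : q % 8 = 3 ∨ q % 8 = 5) (P : Sylow 2 (Matrix.ProjectiveSpecialLinearGroup (Fin 2) F)) : IsKleinFour (P : Subgroup (Matrix.ProjectiveSpecialLinearGroup (Fin 2) F)) := by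
  classical
  subst hF
  set q := Fintype.card F with hqdef
  have hodd : Odd q := by
    rw [Nat.odd_iff]; omega
  have h2 : (2 : F) ≠ 0 := two_ne_zero_of_odd_card hodd
  have hcard := card_PSL2_mul (F := F)
  rw [card_center_SL2_of_two_ne_zero h2, ← hqdef] at hcard
  -- card G = 4 * m, m odd
  obtain ⟨m, hm, hmodd⟩ : ∃ m, Nat.card (Matrix.ProjectiveSpecialLinearGroup (Fin 2) F) = 4 * m ∧
      Odd m := by
    rcases hq with hq | hq
    · obtain ⟨k, hk⟩ : ∃ k, q = 8 * k + 3 := ⟨q / 8, by omega⟩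
      refine ⟨q * (4 * k + 1) * (2 * k + 1), ?_, ?_⟩
      · have : q * (q ^ 2 - 1) = 2 * (4 * (q * (4 * k + 1) * (2 * k + 1))) := by
          rw [hk]
          have : (8 * k + 3) ^ 2 - 1 = 8 * (4 * k + 1) * (2 * k + 1) := by
            have : (8 * k + 3) ^ 2 = 8 * (4 * k + 1) * (2 * k + 1) + 1 := by ring
            omega
          rw [this]; ring
        rw [this] at hcard
        omega
      · exact (hodd.mul ⟨2 * k, by ring⟩).mul ⟨k, by ring⟩
    · obtain ⟨k, hk⟩ : ∃ k, q = 8 * k + 5 := ⟨q / 8, by omega⟩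
      refine ⟨q * (2 * k + 1) * (4 * k + 3), ?_, ?_⟩
      · have : q * (q ^ 2 - 1) = 2 * (4 * (q * (2 * k + 1) * (4 * k + 3))) := by
          rw [hk]
          have : (8 * k + 5) ^ 2 - 1 = 8 * (2 * k + 1) * (4 * k + 3) := by
            have : (8 * k + 5) ^ 2 = 8 * (2 * k + 1) * (4 * k + 3) + 1 := by ring
            omega
          rw [this]; ring
        rw [this] at hcard
        omega
      · exact (hodd.mul ⟨k, by ring⟩).mul ⟨2 * k + 1, by ring⟩
  have hfin : Finite (Matrix.ProjectiveSpecialLinearGroup (Fin 2) F) := by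
    apply Nat.finite_of_card_ne_zero
    rw [hm]
    rcases hmodd with ⟨j, hj⟩
    omega
  have hP4 : Nat.card (P : Subgroup (Matrix.ProjectiveSpecialLinearGroup (Fin 2) F)) = 4 := by
    rw [Sylow.card_eq_multiplicity, hm]
    have hm0 : m ≠ 0 := by
      rcases hmodd with ⟨j, hj⟩; omega
    rw [Nat.factorization_mul (by norm_num) hm0]
    have h4 : (4 : ℕ) = 2 ^ 2 := by norm_num
    rw [Finsupp.add_apply, h4, Nat.Prime.factorization_pow Nat.prime_two]
    have : m.factorization 2 = 0 := by
      apply Nat.factorization_eq_zero_of_not_dvd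
      rcases hmodd with ⟨j, hj⟩; omega
    rw [this]
    simp
  -- the characteristic
  obtain ⟨p, hp⟩ := CharP.exists F
  have hpprime : Fact p.Prime := ⟨CharP.char_is_prime F p⟩
  have hpq : p ∣ q := by
    obtain ⟨⟨f, hfpos⟩, -, hf⟩ := FiniteField.card F p
    rw [hqdef, hf]
    exact dvd_pow_self _ (by simpa using hfpos.ne')
  have hpodd : Odd p := by
    rcases hpq with ⟨c, hc⟩
    rw [hc] at hodd
    exact (Nat.odd_mul.1 hodd).1
  have hgcd : Nat.gcd 2 (q - 1) = 2 := by
    rcases card_field_gcd_two (F := F) p with ⟨hp2, -⟩ | ⟨-, -, hd, -, -⟩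
    · exfalso; rw [hp2] at hpodd; exact absurd hpodd (by decide)
    · exact hd
  have hexp : ∀ g : (P : Subgroup (Matrix.ProjectiveSpecialLinearGroup (Fin 2) F)), g ^ 2 = 1 := by
    intro g
    have h4 : orderOf (g : Matrix.ProjectiveSpecialLinearGroup (Fin 2) F) ∣ 4 := by
      rw [Subgroup.orderOf_coe, ← hP4]
      exact orderOf_dvd_natCard g
    have hdvd := psl2_orderOf_dvd p (g : Matrix.ProjectiveSpecialLinearGroup (Fin 2) F)
    rw [← hqdef, hgcd] at hdvd
    have h2 : orderOf (g : Matrix.ProjectiveSpecialLinearGroup (Fin 2) F) ∣ 2 := by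
      rcases hdvd with h | h | h
      · have : orderOf (g : Matrix.ProjectiveSpecialLinearGroup (Fin 2) F) ∣ Nat.gcd 4 p :=
          Nat.dvd_gcd h4 h
        have hcop : Nat.gcd 4 p = 1 := by
          have : Nat.Coprime (2 ^ 2) p := Nat.Coprime.pow_left 2 ((Nat.coprime_primes Nat.prime_two hpprime.out).2 (by rintro rfl; exact absurd hpodd (by decide)))
          simpa using this
        rw [hcop] at this
        exact this.trans (one_dvd _)
      · have := Nat.dvd_gcd h4 h
        refine this.trans ?_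
        rcases hq with hq | hq
        · obtain ⟨k, hk⟩ : ∃ k, q = 8 * k + 3 := ⟨q / 8, by omega⟩
          have : (q - 1) / 2 = 4 * k + 1 := by omega
          rw [this]
          have : Nat.gcd 4 (4 * k + 1) = 1 := by simp
          rw [this]; exact one_dvd _
        · obtain ⟨k, hk⟩ : ∃ k, q = 8 * k + 5 := ⟨q / 8, by omega⟩
          have : (q - 1) / 2 = 2 * (2 * k + 1) := by omega
          rw [this]
          have : Nat.gcd 4 (2 * (2 * k + 1)) = 2 * Nat.gcd 2 (2 * k + 1) := by
            rw [show (4 : ℕ) = 2 * 2 by norm_num, Nat.gcd_mul_left]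
          rw [this]
          have : Nat.gcd 2 (2 * k + 1) = 1 := by simp
          rw [this]
      · have := Nat.dvd_gcd h4 h
        refine this.trans ?_
        rcases hq with hq | hq
        · obtain ⟨k, hk⟩ : ∃ k, q = 8 * k + 3 := ⟨q / 8, by omega⟩
          have : (q + 1) / 2 = 2 * (2 * k + 1) := by omega
          rw [this]
          have : Nat.gcd 4 (2 * (2 * k + 1)) = 2 * Nat.gcd 2 (2 * k + 1) := by
            rw [show (4 : ℕ) = 2 * 2 by norm_num, Nat.gcd_mul_left]
          rw [this]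
          have : Nat.gcd 2 (2 * k + 1) = 1 := by simp
          rw [this]
        · obtain ⟨k, hk⟩ : ∃ k, q = 8 * k + 5 := ⟨q / 8, by omega⟩
          have : (q + 1) / 2 = 4 * k + 3 := by omega
          rw [this]
          have : Nat.gcd 4 (4 * k + 3) = 1 := by
            rw [show 4 * k + 3 = 3 + k * 4 by ring, Nat.gcd_add_mul_right_right]; norm_num
          rw [this]; exact one_dvd _
    apply Subtype.ext
    rw [Subgroup.coe_pow, Subgroup.coe_one]
    exact orderOf_dvd_iff_pow_eq_one.1 h2
  refine ⟨hP4, ?_⟩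
  have hdvd : Monoid.exponent (P : Subgroup (Matrix.ProjectiveSpecialLinearGroup (Fin 2) F)) ∣ 2 :=
    Monoid.exponent_dvd_of_forall_pow_eq_one hexp
  rcases (Nat.dvd_prime Nat.prime_two).1 hdvd with h | h
  · exfalso
    rw [Monoid.exp_eq_one_iff] at h
    have := Nat.card_eq_one_iff_unique.2 ⟨h, ⟨1⟩⟩
    omega
  · exact h

end Cfsg.Agent.S0276
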