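import Mathlib
import Cfsg.Statements.S0293
import Cfsg.Agent.Helper5.OmegaCard
import Cfsg.Agent.Helper5.GcdFour
import Cfsg.Agent.S0287

set_option autoImplicit false
open Cfsg

namespace Cfsg.Agent.S0293

open Cfsg.Agent.Helper5

/-- gcd(4, q^m − 1)·|PΩ⁺_{2m}(q)| = q^(m(m−1)) (q^m − 1) ∏ (q^(2i) − 1), m ≥ 4. -/
theorem result {F : Type*} [Field F] [Fintype F] {q : ℕ} (hF : Fintype.card F = q) (m : ℕ) (hm : 4 ≤ m) : Nat.gcd 4 (q ^ m - 1) * Nat.card (Cfsg.POmega F (Cfsg.quadFormPlus m F)) = q ^ (m * (m - 1)) * (q ^ m - 1) * ∏ i ∈ Finset.range (m - 1), (q ^ (2 * (i + 1)) - 1) := by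
  obtain ⟨k, rfl⟩ : ∃ k, m = k + 3 := ⟨m - 3, by omega⟩
  have hcardO := Cfsg.Agent.S0287.result hF (k + 3) (by omega)
  have hmul := card_POmega_mul (F := F) (Cfsg.quadFormPlus (k + 3) F)
  rw [hcardO] at hmul
  set R := q ^ ((k + 3) * (k + 3 - 1)) * (q ^ (k + 3) - 1) *
    ∏ i ∈ Finset.range (k + 3 - 1), (q ^ (2 * (i + 1)) - 1) with hR
  have hmul' : Nat.card (Cfsg.POmega F (Cfsg.quadFormPlus (k + 3) F)) *
      Nat.card (Subgroup.center (Cfsg.Omega F (Cfsg.quadFormPlus (k + 3) F))) *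
      (Cfsg.Omega F (Cfsg.quadFormPlus (k + 3) F)).index = 2 * R := by
    rw [hmul, hR]; ring
  have hq1 : 1 ≤ q ^ (k + 3) := Nat.one_le_pow _ _ (by rw [← hF]; exact Fintype.card_pos)
  rcases Nat.even_or_odd q with hev | hodd
  · -- characteristic two
    have h2 : (2 : F) = 0 := two_eq_zero_of_even_card (by rw [hF]; exact hev)
    haveI : CharP F 2 := CharTwo.of_one_ne_zero_of_two_eq_zero one_ne_zero h2
    have hidx : (Cfsg.Omega F (Cfsg.quadFormPlus (k + 3) F)).index = 2 := by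
      have := index_Omega_eq_two (Cfsg.Agent.Helper44.plusForm (k + 3) F)
        (Cfsg.Agent.Helper44.nondegenerate_plusForm (k + 3)) (Or.inr (by simp; omega))
        (by simp; omega)
      exact this
    have hcen : Subgroup.center (Cfsg.Omega F (Cfsg.quadFormPlus (k + 3) F)) = ⊥ := by
      apply center_Omega_eq_bot _ (Hc_plus k)
      intro g _ hgm
      rw [hgm]
      have : (-1 : F) = 1 := by linear_combination -h2
      ext i j
      by_cases hij : i = j <;> simp [hij, Matrix.one_apply, this]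
    rw [hcen, Subgroup.card_bot, hidx] at hmul'
    have hg : Nat.gcd 4 (q ^ (k + 3) - 1) = 1 := by
      have hev' : Even (q ^ (k + 3)) := hev.pow_of_ne_zero (by omega)
      obtain ⟨t, ht⟩ := hev'
      exact gcd_four_odd _ (by omega)
    rw [hg]
    omega
  · -- odd characteristic
    have h2 : (2 : F) ≠ 0 := Cfsg.Agent.Helper5.two_ne_zero_of_odd_card (by rw [hF]; exact hodd)
    have hidx : (Cfsg.Omega F (Cfsg.quadFormPlus (k + 3) F)).index = 4 := by
      have := Cfsg.Agent.Helper44.index_Omega_eq_four (Cfsg.Agent.Helper44.plusForm (k + 3) F) h2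
        (Cfsg.Agent.Helper44.nondegenerate_plusForm (k + 3)) (by
          rw [Module.finrank_fintype_fun_eq_card]
          simp; omega)
      exact this
    have hiff := Cfsg.Agent.Helper44.exists_neg_one_mem_Omega_plus_iff hF hodd (k + 3)
    have hoddm : Odd (q ^ (k + 3)) := hodd.pow
    obtain ⟨t, ht⟩ := hoddm
    by_cases hq4 : q ^ (k + 3) % 4 = 1
    · have hyes := hiff.2 hq4
      have : Nonempty (Fin (k + 3) ⊕ Fin (k + 3)) := ⟨.inl 0⟩
      have hcen := card_center_Omega_eq_two (Cfsg.quadFormPlus (k + 3) F) h2 (Hc_plus k) hyes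
      rw [hcen, hidx] at hmul'
      have hg : Nat.gcd 4 (q ^ (k + 3) - 1) = 4 := by
        exact gcd_four_zero _ (by omega)
      rw [hg]
      omega
    · have hcen : Subgroup.center (Cfsg.Omega F (Cfsg.quadFormPlus (k + 3) F)) = ⊥ := by
        apply center_Omega_eq_bot _ (Hc_plus k)
        intro g hg hgm
        exact absurd (hiff.1 ⟨g, hg, hgm⟩) hq4
      rw [hcen, Subgroup.card_bot, hidx] at hmul'
      have hg : Nat.gcd 4 (q ^ (k + 3) - 1) = 2 := by
        exact gcd_four_two _ (by omega)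
      rw [hg]
      omega

end Cfsg.Agent.S0293
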