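import Mathlib
import Cfsg.Statements.S0294
import Cfsg.Agent.Helper5.OmegaCard
import Cfsg.Agent.Helper5.GcdFour
import Cfsg.Agent.S0288

set_option autoImplicit false
open Cfsg

namespace Cfsg.Agent.S0294

open Cfsg.Agent.Helper5

theorem Hc_minus_of_le {F : Type*} [Field F] (n : ℕ) (hn : 3 ≤ n) (a b : F)
    (hab : ∀ z₁ z₂ : F, z₁ ^ 2 + a * z₁ * z₂ + b * z₂ ^ 2 = 0 → z₁ = 0 ∧ z₂ = 0)
    (z : Cfsg.isometryGroup F (Cfsg.quadFormMinus n F a b))
    (hz : ∀ y ∈ commutator (Cfsg.isometryGroup F (Cfsg.quadFormMinus n F a b)), y * z = z * y) :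
    z.1.1 = 1 ∨ z.1.1 = -1 := by
  obtain ⟨k, rfl⟩ : ∃ k, n = k + 3 := ⟨n - 3, by omega⟩
  exact Hc_minus k a b hab z hz

/-- in characteristic two an anisotropic binary form has `a ≠ 0` -/
theorem a_ne_zero_of_aniso {F : Type*} [Field F] [Fintype F] (h2 : (2 : F) = 0) (a b : F)
    (hab : ∀ z₁ z₂ : F, z₁ ^ 2 + a * z₁ * z₂ + b * z₂ ^ 2 = 0 → z₁ = 0 ∧ z₂ = 0) : a ≠ 0 := by
  intro ha
  haveI : CharP F 2 := CharTwo.of_one_ne_zero_of_two_eq_zero one_ne_zero h2
  have hchar : ringChar F = 2 := ringChar.eq F 2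
  obtain ⟨s, hs⟩ := FiniteField.isSquare_of_char_two hchar b
  have := hab s 1 (by rw [ha, hs]; linear_combination (s * s) * h2)
  exact one_ne_zero this.2

/-- gcd(4, q^m + 1)·|PΩ⁻_{2m}(q)| = q^(m(m−1)) (q^m + 1) ∏ (q^(2i) − 1), m ≥ 4. -/
theorem result {F : Type*} [Field F] [Fintype F] {q : ℕ} (hF : Fintype.card F = q) (m : ℕ) (hm : 4 ≤ m) (a b : F) (hab : ∀ z₁ z₂ : F, z₁ ^ 2 + a * z₁ * z₂ + b * z₂ ^ 2 = 0 → z₁ = 0 ∧ z₂ = 0) : Nat.gcd 4 (q ^ m + 1) * Nat.card (Cfsg.POmega F (Cfsg.quadFormMinus (m - 1) F a b)) = q ^ (m * (m - 1)) * (q ^ m + 1) * ∏ i ∈ Finset.range (m - 1), (q ^ (2 * (i + 1)) - 1) := by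
  have hcardO := Cfsg.Agent.S0288.result hF m (by omega) a b hab
  have hmul := card_POmega_mul (F := F) (Cfsg.quadFormMinus (m - 1) F a b)
  rw [hcardO] at hmul
  set R := q ^ (m * (m - 1)) * (q ^ m + 1) *
    ∏ i ∈ Finset.range (m - 1), (q ^ (2 * (i + 1)) - 1) with hR
  have hmul' : Nat.card (Cfsg.POmega F (Cfsg.quadFormMinus (m - 1) F a b)) *
      Nat.card (Subgroup.center (Cfsg.Omega F (Cfsg.quadFormMinus (m - 1) F a b))) *
      (Cfsg.Omega F (Cfsg.quadFormMinus (m - 1) F a b)).index = 2 * R := by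
    rw [hmul, hR]; ring
  have Hc := Hc_minus_of_le (m - 1) (by omega) a b hab
  have hcardκ : Fintype.card ((Fin (m - 1) ⊕ Fin (m - 1)) ⊕ Fin 2) = 2 * m := by
    simp; omega
  rcases Nat.even_or_odd q with hev | hodd
  · -- characteristic two
    have h2 : (2 : F) = 0 := two_eq_zero_of_even_card (by rw [hF]; exact hev)
    haveI : CharP F 2 := CharTwo.of_one_ne_zero_of_two_eq_zero one_ne_zero h2
    have ha : a ≠ 0 := a_ne_zero_of_aniso h2 a b hab
    have hD : a ^ 2 - 4 * b ≠ 0 := by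
      have h4 : (4 : F) = 0 := by linear_combination 2 * h2
      rw [h4, zero_mul, sub_zero]
      exact pow_ne_zero 2 ha
    have hidx : (Cfsg.Omega F (Cfsg.quadFormMinus (m - 1) F a b)).index = 2 := by
      have := index_Omega_eq_two (Cfsg.Agent.Helper44.minusForm (m - 1) F a b)
        (Cfsg.Agent.Helper44.nondegenerate_minusForm (m - 1) a b hD)
        (Or.inr (by rw [hcardκ]; omega)) (by rw [hcardκ]; omega)
      exact this
    have hcen : Subgroup.center (Cfsg.Omega F (Cfsg.quadFormMinus (m - 1) F a b)) = ⊥ := by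
      apply center_Omega_eq_bot _ Hc
      intro g _ hgm
      rw [hgm]
      have : (-1 : F) = 1 := by linear_combination -h2
      ext i j
      by_cases hij : i = j <;> simp [hij, Matrix.one_apply, this]
    rw [hcen, Subgroup.card_bot, hidx] at hmul'
    have hg : Nat.gcd 4 (q ^ m + 1) = 1 := by
      have hev' : Even (q ^ m) := hev.pow_of_ne_zero (by omega)
      obtain ⟨t, ht⟩ := hev'
      exact gcd_four_odd _ (by omega)
    rw [hg]
    omega
  · -- odd characteristic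
    have h2 : (2 : F) ≠ 0 := Cfsg.Agent.Helper5.two_ne_zero_of_odd_card (by rw [hF]; exact hodd)
    obtain ⟨M, hM⟩ := isQF_minus a b hab (m - 1)
    have hidx : (Cfsg.Omega F (Cfsg.quadFormMinus (m - 1) F a b)).index = 4 := by
      have := Cfsg.Agent.Helper44.index_Omega_eq_four (Cfsg.Agent.Helper44.minusForm (m - 1) F a b) h2
        (nondegenerate_of_isQF (Cfsg.Agent.Helper44.minusForm (m - 1) F a b) hM h2) (by
          rw [Module.finrank_fintype_fun_eq_card, hcardκ]; omega)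
      exact this
    have hiff := Cfsg.Agent.Helper44.exists_neg_one_mem_Omega_minus_iff hF hodd m (by omega) a b hab
    have hoddm : Odd (q ^ m) := hodd.pow
    obtain ⟨t, ht⟩ := hoddm
    by_cases hq4 : q ^ m % 4 = 3
    · have hyes := hiff.2 hq4
      have : Nonempty ((Fin (m - 1) ⊕ Fin (m - 1)) ⊕ Fin 2) := ⟨.inr 0⟩
      have hcen := card_center_Omega_eq_two (Cfsg.quadFormMinus (m - 1) F a b) h2 Hc hyes
      rw [hcen, hidx] at hmul'
      have hg : Nat.gcd 4 (q ^ m + 1) = 4 := gcd_four_zero _ (by omega)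
      rw [hg]
      omega
    · have hcen : Subgroup.center (Cfsg.Omega F (Cfsg.quadFormMinus (m - 1) F a b)) = ⊥ := by
        apply center_Omega_eq_bot _ Hc
        intro g hg hgm
        exact absurd (hiff.1 ⟨g, hg, hgm⟩) hq4
      rw [hcen, Subgroup.card_bot, hidx] at hmul'
      have hg : Nat.gcd 4 (q ^ m + 1) = 2 := gcd_four_two _ (by omega)
      rw [hg]
      omega

end Cfsg.Agent.S0294
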