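import Mathlib
import Cfsg.Statements.S0298
import Cfsg.Agent.Helper5.Omega3

set_option autoImplicit false
open Cfsg

namespace Cfsg.Agent.S0298

open Cfsg.Agent.Helper5

/-- PΩ_3(q) ≅ PSL_2(q) for q odd. -/
theorem result {F : Type*} [Field F] [Fintype F] (hodd : Odd (Fintype.card F)) : Nonempty (Cfsg.POmega F (Cfsg.quadFormOdd 1 F) ≃* Matrix.ProjectiveSpecialLinearGroup (Fin 2) F) := by
  have h2 : (2 : F) ≠ 0 := two_ne_zero_of_odd_card hodd
  have hcomm : commutator (O3 F) = (adHom (F := F)).range :=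
    le_antisymm (commutator_le_range_adHom h2) (range_adHom_le_commutator h2)
  let e1 : Cfsg.Omega F (Cfsg.quadFormOdd 1 F) ≃* (adHom (F := F)).range :=
    MulEquiv.subgroupCongr hcomm
  let e2 := QuotientGroup.quotientKerEquivRange (adHom (F := F))
  let e3 : Matrix.SpecialLinearGroup (Fin 2) F ⧸ (adHom (F := F)).ker ≃*
      Matrix.ProjectiveSpecialLinearGroup (Fin 2) F :=
    QuotientGroup.quotientMulEquivOfEq adHom_ker
  let e : Cfsg.Omega F (Cfsg.quadFormOdd 1 F) ≃* Matrix.ProjectiveSpecialLinearGroup (Fin 2) F :=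
    e1.trans (e2.symm.trans e3)
  have hbot : Subgroup.center (Cfsg.Omega F (Cfsg.quadFormOdd 1 F)) = ⊥ := by
    rw [Subgroup.eq_bot_iff_forall]
    intro z hz
    have : e z ∈ Subgroup.center (Matrix.ProjectiveSpecialLinearGroup (Fin 2) F) := by
      rw [Subgroup.mem_center_iff] at hz ⊢
      intro y
      obtain ⟨y', rfl⟩ := e.surjective y
      rw [← map_mul, ← map_mul, hz y']
    rw [center_PSL2_eq_bot, Subgroup.mem_bot] at this
    exact e.injective (by rw [this, map_one])
  exact ⟨((QuotientGroup.quotientMulEquivOfEq hbot).trans QuotientGroup.quotientBot).trans e⟩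

end Cfsg.Agent.S0298
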