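import Mathlib
import Cfsg.Statements.S0303
import Cfsg.Agent.Helper5.Omega6Minus
import Cfsg.Agent.Helper96.OmegaIso
import Cfsg.Agent.Helper45.SUCard
import Cfsg.Agent.S0288
import Cfsg.Agent.S0780
import Cfsg.Agent.S0781

set_option autoImplicit false
open Cfsg

namespace Cfsg.Agent.S0303

open Matrix Cfsg.Agent.Helper5 Cfsg.Agent.Helper45 Cfsg.Agent.Helper96 Cfsg.Agent.Helper96.Klein

/-- `SU₄(q)` is perfect -/
theorem su4_perfect {K : Type*} [Field K] [Fintype K] {q : ℕ} (hK : Fintype.card K = q ^ 2) :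
    commutator (Cfsg.SU 4 K q) = ⊤ := by
  rw [commutator_eq_closure, eq_top_iff, ← Cfsg.Agent.S0780.result hK 4 (by norm_num) (by omega)]
  apply Subgroup.closure_mono
  rintro A ⟨v, c, hv, hA⟩
  exact Cfsg.Agent.S0781.result hK 4 (Or.inl le_rfl) A v c hv hA

/-- PΩ^-_6(q) is isomorphic to PSU_4(q). -/
theorem result {F K : Type*} [Field F] [Fintype F] [Field K] [Fintype K] {q : ℕ} (hF : Fintype.card F = q) (hK : Fintype.card K = q ^ 2) (a b : F) (hab : ∀ z₁ z₂ : F, z₁ ^ 2 + a * z₁ * z₂ + b * z₂ ^ 2 = 0 → z₁ = 0 ∧ z₂ = 0) : Nonempty (Cfsg.POmega F (Cfsg.quadFormMinus 2 F a b) ≃* Cfsg.PSU 4 K q) := by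
  subst hF
  have hK' : Fintype.card K = Fintype.card F ^ 2 := hK
  obtain ⟨alg, hd⟩ := exists_algebra_of_card_sq hK rfl
  letI := alg
  have : Module.Finite F K := Module.finite_of_finrank_pos (by rw [hd]; norm_num)
  obtain ⟨α, hα, hα2⟩ := exists_root_of_aniso hd a b hab
  have hli := linearIndependent_one_root a b α hα hab
  let bb : Module.Basis (Fin 2) F K :=
    basisOfLinearIndependentOfCardEqFinrank hli (by rw [hd, Fintype.card_fin])
  have hb0 : bb 0 = 1 := by
    show (basisOfLinearIndependentOfCardEqFinrank hli _) 0 = 1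
    rw [coe_basisOfLinearIndependentOfCardEqFinrank]; rfl
  have hb1 : bb 1 = -α := by
    show (basisOfLinearIndependentOfCardEqFinrank hli _) 1 = -α
    rw [coe_basisOfLinearIndependentOfCardEqFinrank]; rfl
  have hσα := frob_root a b α hα hab
  have hA : algebraMap F K 1 = bb 0 * frob F K (bb 0) := by
    rw [hb0, map_one, map_one, mul_one]
  have hB : algebraMap F K a = bb 0 * frob F K (bb 1) + bb 1 * frob F K (bb 0) := by
    rw [hb0, hb1, map_one, map_neg, hσα]; ring
  have hC : algebraMap F K b = bb 1 * frob F K (bb 1) := by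
    rw [hb1, map_neg, hσα]; linear_combination hα
  have hσ : ∀ x : K, frob F K (frob F K x) = x := frob_frob hK'
  obtain ⟨hdisc, ⟨M, hM⟩, -⟩ := exists_orth_data (K := K) hK' a b hab
  obtain ⟨φ₂, hφ₂⟩ := exists_hom_of_linearEquiv (sumBinForm (ι := Fin 3) 1 a b)
    (Cfsg.quadFormMinus 2 F a b) (oddEquiv a b M hdisc hab hM 1)
    (fun w => minus_oddMap a b M hM 1 w)
  set κ₁ := kap1 bb hσ a b hA hB hC with hκ₁
  set κ : Cfsg.SU 4 K (Fintype.card F) →* Cfsg.isometryGroup F (Cfsg.quadFormMinus 2 F a b) :=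
    φ₂.comp κ₁ with hκ
  have hkerκ : κ.ker = κ₁.ker := by
    ext g
    rw [MonoidHom.mem_ker, MonoidHom.mem_ker, hκ, MonoidHom.comp_apply]
    constructor
    · intro h
      apply hφ₂
      rw [h, map_one]
    · intro h
      rw [h, map_one]
  have hcases : ∀ g ∈ κ.ker, su4Mat g = 1 ∨ su4Mat g = -1 := by
    intro g hg
    rw [hkerκ] at hg
    exact mem_ker_kap1 bb hσ a b hA hB hC g hg
  have hker : κ.ker ≤ Subgroup.center (Cfsg.SU 4 K (Fintype.card F)) := by
    intro g hg
    rw [Subgroup.mem_center_iff]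
    intro h
    apply Subtype.ext
    apply Subtype.ext
    show su4Mat h * su4Mat g = su4Mat g * su4Mat h
    rcases hcases g hg with h1 | h1
    · rw [h1, Matrix.mul_one, Matrix.one_mul]
    · rw [h1, Matrix.mul_neg, Matrix.neg_mul, Matrix.mul_one, Matrix.one_mul]
  have hfinSL : Finite (Matrix.SpecialLinearGroup (Fin 4) K) :=
    Finite.of_injective (fun g => (g : Matrix (Fin 4) (Fin 4) K)) Subtype.val_injective
  have hcardker : Nat.card κ.ker = 1 ∨ Nat.card κ.ker = 2 := by
    classical
    let f : κ.ker → Bool := fun g => if su4Mat g.1 = 1 then true else false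
    have hf : Function.Injective f := by
      intro g g' h
      apply Subtype.ext
      apply Subtype.ext
      apply Subtype.ext
      show su4Mat g.1 = su4Mat g'.1
      rcases hcases g.1 g.2 with h1 | h1 <;> rcases hcases g'.1 g'.2 with h2 | h2
      · rw [h1, h2]
      · by_cases h3 : su4Mat g'.1 = 1
        · rw [h1, h3]
        · simp only [f, h1, h3, if_true, if_false] at h
          exact absurd h (by simp)
      · by_cases h3 : su4Mat g.1 = 1
        · rw [h2, h3]
        · simp only [f, h2, h3, if_true, if_false] at h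
          exact absurd h (by simp)
      · rw [h1, h2]
    have h1 : Nat.card κ.ker ≤ Nat.card Bool := Nat.card_le_card_of_injective f hf
    have hb : Nat.card Bool = 2 := by rw [Nat.card_eq_fintype_card, Fintype.card_bool]
    rw [hb] at h1
    have h2 : 0 < Nat.card κ.ker := Nat.card_pos
    omega
  have hperf := su4_perfect (K := K) hK
  have hcard : Nat.card (Cfsg.isometryGroup F (Cfsg.quadFormMinus 2 F a b))
      = 2 * Nat.card (Cfsg.SU 4 K (Fintype.card F)) := by
    have h1 := Cfsg.Agent.S0288.result (F := F) rfl 3 (by norm_num) a b hab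
    have h2 := Cfsg.Agent.Helper45.GU.card_SU hK 4 (by norm_num)
    have hq : 2 ≤ Fintype.card F := Fintype.one_lt_card
    set q := Fintype.card F with hqdef
    simp only [show (3 : ℕ) - 1 = 2 from rfl] at h1
    rw [h1]
    simp only [Finset.prod_range_succ, Finset.prod_range_zero, one_mul] at h1 h2 ⊢
    norm_num at h2 ⊢
    have hpos : 0 < q + 1 := by omega
    apply Nat.eq_of_mul_eq_mul_left hpos
    rw [show (q + 1) * (2 * Nat.card ↥(SU 4 K q)) = 2 * ((q + 1) * Nat.card ↥(SU 4 K q)) by ring, h2]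
    ring
  have hfinO : Finite (Cfsg.isometryGroup F (Cfsg.quadFormMinus 2 F a b)) := inferInstance
  exact nonempty_mulEquiv_of_perfect_of_index κ hperf hker (index_range_of_card κ hcard hcardker)

end Cfsg.Agent.S0303
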