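import Mathlib
import Cfsg.Prelude.Def_Classical
import Cfsg.Agent.Helper45.Isometry

set_option autoImplicit false
open Matrix

namespace Cfsg.Agent.S0304

open Cfsg.Agent.Helper45

section
variable {F : Type*} [Field F] {m : ℕ}

/-- `Σ x_i y_i` on `F^(m ⊕ m)` -/
def q0 (x : Fin m ⊕ Fin m → F) : F := ∑ i, x (.inl i) * x (.inr i)

/-- polar form of `q0` -/
def om (x y : Fin m ⊕ Fin m → F) : F := ∑ i, (x (.inl i) * y (.inr i) + y (.inl i) * x (.inr i))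

theorem q0_add (x y : Fin m ⊕ Fin m → F) : q0 (x + y) = q0 x + q0 y + om x y := by
  simp only [q0, om, Pi.add_apply, ← Finset.sum_add_distrib]
  apply Finset.sum_congr rfl
  intro i _
  ring

theorem q0_smul (c : F) (x : Fin m ⊕ Fin m → F) : q0 (c • x) = c ^ 2 * q0 x := by
  simp only [q0, Pi.smul_apply, smul_eq_mul, Finset.mul_sum]
  apply Finset.sum_congr rfl
  intro i _
  ring

theorem q0_zero : q0 (0 : Fin m ⊕ Fin m → F) = 0 := by
  simp [q0]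

theorem om_zero_left (y : Fin m ⊕ Fin m → F) : om 0 y = 0 := by
  simp [om]

theorem om_single_inr (c : Fin m ⊕ Fin m → F) (i : Fin m) : om c (Pi.single (.inr i) 1) = c (.inl i) := by
  simp [om, Pi.single_apply]

theorem om_single_inl (c : Fin m ⊕ Fin m → F) (i : Fin m) : om c (Pi.single (.inl i) 1) = c (.inr i) := by
  simp [om, Pi.single_apply]

theorem quadFormOdd_eq (v : Unit ⊕ (Fin m ⊕ Fin m) → F) :
    Cfsg.quadFormOdd m F v = v (.inl ()) ^ 2 + q0 (v ∘ Sum.inr) := rfl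

theorem blk_mulVec (g : Matrix (Unit ⊕ (Fin m ⊕ Fin m)) (Unit ⊕ (Fin m ⊕ Fin m)) F)
    (h : ∀ j, g (.inr j) (.inl ()) = 0) (v : Unit ⊕ (Fin m ⊕ Fin m) → F) :
    (g *ᵥ v) ∘ Sum.inr = (g.submatrix Sum.inr Sum.inr) *ᵥ (v ∘ Sum.inr) := by
  ext j
  simp [mulVec, dotProduct, Fintype.sum_sum_type, h]

theorem blk_mul (g k : Matrix (Unit ⊕ (Fin m ⊕ Fin m)) (Unit ⊕ (Fin m ⊕ Fin m)) F)
    (h : ∀ j, g (.inr j) (.inl ()) = 0) :
    (g * k).submatrix Sum.inr Sum.inr = g.submatrix Sum.inr Sum.inr * k.submatrix Sum.inr Sum.inr := by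
  ext i j
  simp [mul_apply, Fintype.sum_sum_type, h]

variable [CharP F 2]

theorem dot_J_eq (x y : Fin m ⊕ Fin m → F) : x ⬝ᵥ (J (Fin m) F *ᵥ y) = om x y := by
  simp only [J, fromBlocks_mulVec, dotProduct, Fintype.sum_sum_type, om, Sum.elim_inl,
    Sum.elim_inr, zero_mulVec, neg_mulVec, one_mulVec, zero_add,
    add_zero, Pi.neg_apply, CharTwo.neg_eq, Function.comp]
  rw [← Finset.sum_add_distrib]
  apply Finset.sum_congr rfl
  intro i _
  ring

theorem om_of_sympl (A : Matrix (Fin m ⊕ Fin m) (Fin m ⊕ Fin m) F) (hA : A ∈ symplecticGroup (Fin m) F)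
    (x y : Fin m ⊕ Fin m → F) : om (A *ᵥ x) (A *ᵥ y) = om x y := by
  rw [SymplecticGroup.mem_iff'] at hA
  rw [← dot_J_eq, ← dot_J_eq, mulVec_mulVec, dotProduct_mulVec, vecMul_mulVec, ← Matrix.mul_assoc, hA,
    dotProduct_mulVec]

theorem sympl_of_om (A : Matrix (Fin m ⊕ Fin m) (Fin m ⊕ Fin m) F)
    (hA : ∀ x y, om (A *ᵥ x) (A *ᵥ y) = om x y) : A ∈ symplecticGroup (Fin m) F := by
  rw [SymplecticGroup.mem_iff']
  have key : ∀ w w' : Fin m ⊕ Fin m → F, w ⬝ᵥ ((Aᵀ * J (Fin m) F * A) *ᵥ w') = w ⬝ᵥ (J (Fin m) F *ᵥ w') := by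
    intro w w'
    rw [← mulVec_mulVec, ← mulVec_mulVec, dotProduct_mulVec, vecMul_transpose, dot_J_eq, dot_J_eq, hA]
  ext i j
  have := key (Pi.single i 1) (Pi.single j 1)
  rw [mulVec_single_one, mulVec_single_one, single_one_dotProduct, single_one_dotProduct] at this
  exact this

/-- the defect `D(x) = q0(x) + q0(Ax)` is additive and Frobenius-semilinear, hence the square of a
linear form -/
theorem exists_sqrt_defect [Finite F] (A : Matrix (Fin m ⊕ Fin m) (Fin m ⊕ Fin m) F)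
    (hA : A ∈ symplecticGroup (Fin m) F) :
    ∃ ℓ : Fin m ⊕ Fin m → F, ∀ x, (ℓ ⬝ᵥ x) ^ 2 = q0 x + q0 (A *ᵥ x) := by
  have : ExpChar F 2 := ExpChar.prime Nat.prime_two
  have : PerfectRing F 2 := inferInstance
  have hadd : ∀ x y, q0 (x + y) + q0 (A *ᵥ (x + y)) = (q0 x + q0 (A *ᵥ x)) + (q0 y + q0 (A *ᵥ y)) := by
    intro x y
    rw [mulVec_add, q0_add, q0_add, om_of_sympl A hA]
    have : om x y + om x y = 0 := CharTwo.add_self_eq_zero _
    linear_combination this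
  let D : (Fin m ⊕ Fin m → F) →+ F :=
    { toFun := fun x => q0 x + q0 (A *ᵥ x)
      map_zero' := by simp [q0_zero]
      map_add' := hadd }
  have hD : ∀ x, D x = q0 x + q0 (A *ᵥ x) := fun x => rfl
  have hDsmul : ∀ (c : F) x, D (c • x) = c ^ 2 * D x := by
    intro c x
    rw [hD, hD, mulVec_smul, q0_smul, q0_smul]
    ring
  refine ⟨fun j => (frobeniusEquiv F 2).symm (D (Pi.single j 1)), fun x => ?_⟩
  rw [← hD, dotProduct, sum_pow_char]
  conv_rhs => rw [pi_eq_sum_univ x, map_sum]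
  apply Finset.sum_congr rfl
  intro j _
  rw [mul_pow, frobeniusEquiv_symm_pow_p]
  have : (fun k => if j = k then (1 : F) else 0) = Pi.single j 1 := by
    ext k
    simp [Pi.single_apply, eq_comm]
  rw [this, hDsmul]
  ring

theorem quadFormOdd_add (u v : Unit ⊕ (Fin m ⊕ Fin m) → F) :
    Cfsg.quadFormOdd m F (u + v) = Cfsg.quadFormOdd m F u + Cfsg.quadFormOdd m F v
      + om (u ∘ Sum.inr) (v ∘ Sum.inr) := by
  rw [quadFormOdd_eq, quadFormOdd_eq, quadFormOdd_eq]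
  have : (u + v) ∘ Sum.inr = u ∘ Sum.inr + v ∘ Sum.inr := rfl
  rw [this, q0_add, Pi.add_apply, CharTwo.add_sq]
  ring

theorem om_isometry (g : Matrix (Unit ⊕ (Fin m ⊕ Fin m)) (Unit ⊕ (Fin m ⊕ Fin m)) F)
    (hg : ∀ u, Cfsg.quadFormOdd m F (g *ᵥ u) = Cfsg.quadFormOdd m F u) (u v : Unit ⊕ (Fin m ⊕ Fin m) → F) :
    om ((g *ᵥ u) ∘ Sum.inr) ((g *ᵥ v) ∘ Sum.inr) = om (u ∘ Sum.inr) (v ∘ Sum.inr) := by
  have h := hg (u + v)
  rw [mulVec_add, quadFormOdd_add, quadFormOdd_add, hg, hg] at h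
  exact add_left_cancel h

theorem col_zero (g : GL (Unit ⊕ (Fin m ⊕ Fin m)) F)
    (hg : g ∈ Cfsg.isometryGroup F (Cfsg.quadFormOdd m F)) :
    (∀ j, (g : Matrix (Unit ⊕ (Fin m ⊕ Fin m)) (Unit ⊕ (Fin m ⊕ Fin m)) F) (.inr j) (.inl ()) = 0) ∧
      (g : Matrix (Unit ⊕ (Fin m ⊕ Fin m)) (Unit ⊕ (Fin m ⊕ Fin m)) F) (.inl ()) (.inl ()) = 1 := by
  rw [mem_isometryGroup_iff] at hg
  have h1 : ∀ w : Unit ⊕ (Fin m ⊕ Fin m) → F,
      om (fun j => (g : Matrix (Unit ⊕ (Fin m ⊕ Fin m)) (Unit ⊕ (Fin m ⊕ Fin m)) F) (.inr j) (.inl ()))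
        (w ∘ Sum.inr) = 0 := by
    intro w
    have h := om_isometry _ hg (Pi.single (.inl ()) 1) ((g⁻¹ : GL _ F) *ᵥ w)
    rw [mulVec_mulVec, ← Units.val_mul, mul_inv_cancel, Units.val_one, one_mulVec, mulVec_single_one] at h
    have h0 : (Pi.single (Sum.inl ()) 1 : Unit ⊕ (Fin m ⊕ Fin m) → F) ∘ Sum.inr = 0 := by
      ext j
      simp
    rw [h0, om_zero_left] at h
    exact h
  have h2 : ∀ j, (g : Matrix (Unit ⊕ (Fin m ⊕ Fin m)) (Unit ⊕ (Fin m ⊕ Fin m)) F) (.inr j) (.inl ()) = 0 := by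
    rintro (i | i)
    · have := h1 (Pi.single (.inr (.inr i)) 1)
      have e : (Pi.single (Sum.inr (Sum.inr i)) 1 : Unit ⊕ (Fin m ⊕ Fin m) → F) ∘ Sum.inr
          = Pi.single (Sum.inr i) 1 := by
        ext j
        simp [Pi.single_apply]
      rw [e, om_single_inr] at this
      exact this
    · have := h1 (Pi.single (.inr (.inl i)) 1)
      have e : (Pi.single (Sum.inr (Sum.inl i)) 1 : Unit ⊕ (Fin m ⊕ Fin m) → F) ∘ Sum.inr
          = Pi.single (Sum.inl i) 1 := by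
        ext j
        simp [Pi.single_apply]
      rw [e, om_single_inl] at this
      exact this
  refine ⟨h2, ?_⟩
  have h3 := hg (Pi.single (.inl ()) 1)
  rw [mulVec_single_one, quadFormOdd_eq, quadFormOdd_eq] at h3
  have e1 : (Matrix.col (g : Matrix (Unit ⊕ (Fin m ⊕ Fin m)) (Unit ⊕ (Fin m ⊕ Fin m)) F) (Sum.inl ()))
      ∘ Sum.inr = 0 := by
    ext j
    exact h2 j
  have h0 : (Pi.single (Sum.inl ()) 1 : Unit ⊕ (Fin m ⊕ Fin m) → F) ∘ Sum.inr = 0 := by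
    ext j
    simp
  rw [e1, h0, q0_zero, add_zero, add_zero, Pi.single_eq_same, one_pow, col_apply] at h3
  have h2' : (2 : F) = 0 := CharTwo.two_eq_zero
  have h4 : ((g : Matrix (Unit ⊕ (Fin m ⊕ Fin m)) (Unit ⊕ (Fin m ⊕ Fin m)) F) (.inl ()) (.inl ()) - 1) ^ 2
      = 0 := by
    linear_combination h3 -
      ((g : Matrix (Unit ⊕ (Fin m ⊕ Fin m)) (Unit ⊕ (Fin m ⊕ Fin m)) F) (.inl ()) (.inl ()) - 1) * h2'
  exact sub_eq_zero.1 ((pow_eq_zero_iff (two_ne_zero)).1 h4)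

theorem blk_sympl (g : GL (Unit ⊕ (Fin m ⊕ Fin m)) F)
    (hg : g ∈ Cfsg.isometryGroup F (Cfsg.quadFormOdd m F)) :
    (g : Matrix (Unit ⊕ (Fin m ⊕ Fin m)) (Unit ⊕ (Fin m ⊕ Fin m)) F).submatrix Sum.inr Sum.inr
      ∈ symplecticGroup (Fin m) F := by
  have hc := (col_zero g hg).1
  rw [mem_isometryGroup_iff] at hg
  apply sympl_of_om
  intro x y
  have h := om_isometry _ hg (Sum.elim 0 x) (Sum.elim 0 y)
  rw [blk_mulVec _ hc, blk_mulVec _ hc] at h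
  exact h

/-- the block map as a monoid hom -/
def blkHom (m : ℕ) (F : Type*) [Field F] [CharP F 2] :
    Cfsg.isometryGroup F (Cfsg.quadFormOdd m F) →* symplecticGroup (Fin m) F where
  toFun g := ⟨(g.1 : Matrix (Unit ⊕ (Fin m ⊕ Fin m)) (Unit ⊕ (Fin m ⊕ Fin m)) F).submatrix Sum.inr Sum.inr,
    blk_sympl g.1 g.2⟩
  map_one' := by
    apply Subtype.ext
    change (1 : Matrix (Unit ⊕ (Fin m ⊕ Fin m)) (Unit ⊕ (Fin m ⊕ Fin m)) F).submatrix Sum.inr Sum.inr = 1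
    exact submatrix_one _ Sum.inr_injective
  map_mul' g k := by
    apply Subtype.ext
    exact blk_mul _ _ (col_zero g.1 g.2).1

theorem blkHom_apply (g : Cfsg.isometryGroup F (Cfsg.quadFormOdd m F)) :
    (blkHom m F g : Matrix (Fin m ⊕ Fin m) (Fin m ⊕ Fin m) F)
      = (g.1 : Matrix (Unit ⊕ (Fin m ⊕ Fin m)) (Unit ⊕ (Fin m ⊕ Fin m)) F).submatrix Sum.inr Sum.inr := rfl

theorem blkHom_injective : Function.Injective (blkHom m F) := by
  rw [injective_iff_map_eq_one]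
  intro g hg
  have hA : (g.1 : Matrix (Unit ⊕ (Fin m ⊕ Fin m)) (Unit ⊕ (Fin m ⊕ Fin m)) F).submatrix Sum.inr Sum.inr = 1 := by
    rw [← blkHom_apply, hg]
    rfl
  obtain ⟨hc, ha⟩ := col_zero g.1 g.2
  have hiso := (mem_isometryGroup_iff _ g.1).1 g.2
  have hL : ∀ j, (g.1 : Matrix (Unit ⊕ (Fin m ⊕ Fin m)) (Unit ⊕ (Fin m ⊕ Fin m)) F) (.inl ()) (.inr j) = 0 := by
    intro j
    have h := hiso (Pi.single (.inr j) 1)
    rw [quadFormOdd_eq, quadFormOdd_eq, blk_mulVec _ hc, hA, one_mulVec, mulVec_single_one, col_apply] at h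
    have h' := add_right_cancel h
    have e : (Pi.single (Sum.inr j) 1 : Unit ⊕ (Fin m ⊕ Fin m) → F) (Sum.inl ()) = 0 := by
      simp
    rw [e] at h'
    exact (pow_eq_zero_iff two_ne_zero).1 (h'.trans (by norm_num))
  apply Subtype.ext
  apply Units.ext
  ext i j
  rcases i with (⟨⟩ | i) <;> rcases j with (⟨⟩ | j)
  · rw [ha]; rfl
  · rw [hL]; rfl
  · rw [hc]; rfl
  · have := congrFun (congrFun hA i) j
    rw [submatrix_apply] at this
    rw [this]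
    simp [one_apply]

theorem blkHom_surjective [Finite F] : Function.Surjective (blkHom m F) := by
  rintro ⟨A, hA⟩
  obtain ⟨ℓ, hℓ⟩ := exists_sqrt_defect A hA
  let M : Matrix (Unit ⊕ (Fin m ⊕ Fin m)) (Unit ⊕ (Fin m ⊕ Fin m)) F :=
    fromBlocks 1 (Matrix.of fun _ j => ℓ j) 0 A
  have hdet : M.det ≠ 0 := by
    rw [det_fromBlocks_zero₂₁, det_one, one_mul]
    exact (SymplecticGroup.symplectic_det hA).ne_zero
  have hM : GeneralLinearGroup.mkOfDetNeZero M hdet ∈ Cfsg.isometryGroup F (Cfsg.quadFormOdd m F) := by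
    rw [mem_isometryGroup_iff]
    intro v
    change Cfsg.quadFormOdd m F (M *ᵥ v) = _
    rw [quadFormOdd_eq, quadFormOdd_eq]
    have e1 : (M *ᵥ v) (Sum.inl ()) = v (Sum.inl ()) + ℓ ⬝ᵥ (v ∘ Sum.inr) := by
      simp [M, mulVec, dotProduct]
    have e2 : (M *ᵥ v) ∘ Sum.inr = A *ᵥ (v ∘ Sum.inr) := by
      ext j
      simp [M, fromBlocks_mulVec]
    rw [e1, e2, CharTwo.add_sq, hℓ]
    have : q0 (A *ᵥ (v ∘ Sum.inr)) + q0 (A *ᵥ (v ∘ Sum.inr)) = 0 := CharTwo.add_self_eq_zero _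
    linear_combination this
  refine ⟨⟨_, hM⟩, ?_⟩
  apply Subtype.ext
  rw [blkHom_apply]
  change M.submatrix Sum.inr Sum.inr = A
  ext i j
  simp [M]

end

theorem result {F : Type*} [Field F] [Fintype F] [CharP F 2] (m : ℕ) : Nonempty (Cfsg.isometryGroup F (Cfsg.quadFormOdd m F) ≃* Matrix.symplecticGroup (Fin m) F) :=
  ⟨MulEquiv.ofBijective (blkHom m F) ⟨blkHom_injective, blkHom_surjective⟩⟩

end Cfsg.Agent.S0304
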