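import Mathlib
import Cfsg.Prelude.Def_Classical
import Cfsg.Agent.Helper45.Dihedral
import Cfsg.Agent.Helper45.IsoEquiv

set_option autoImplicit false
open Matrix

namespace Cfsg.Agent.S0305

open Cfsg.Agent.Helper45

section
variable {F : Type*} [Field F]

/-- the hyperbolic plane on `Fin 2` -/
def hyp (v : Fin 2 → F) : F := v 0 * v 1

/-- diagonal isometries -/
def dHom : F →* Matrix (Fin 2) (Fin 2) F where
  toFun t := !![t, 0; 0, t⁻¹]
  map_one' := by
    ext i j
    fin_cases i <;> fin_cases j <;> simp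
  map_mul' s t := by
    ext i j
    fin_cases i <;> fin_cases j <;> simp [Matrix.mul_apply, Fin.sum_univ_two, mul_comm]

theorem dHom_apply (t : F) : dHom t = !![t, 0; 0, t⁻¹] := rfl

/-- the swap -/
def swp : Matrix (Fin 2) (Fin 2) F := !![0, 1; 1, 0]

theorem swp_mul_swp : (swp : Matrix (Fin 2) (Fin 2) F) * swp = 1 := by
  ext i j
  fin_cases i <;> fin_cases j <;> simp [swp, Matrix.mul_apply, Fin.sum_univ_two]

theorem hyp_mulVec (M : Matrix (Fin 2) (Fin 2) F) (v : Fin 2 → F) :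
    hyp (M *ᵥ v) = (M 0 0 * v 0 + M 0 1 * v 1) * (M 1 0 * v 0 + M 1 1 * v 1) := by
  simp [hyp, mulVec, dotProduct, Fin.sum_univ_two]

theorem classify (M : Matrix (Fin 2) (Fin 2) F) (hM : ∀ v, hyp (M *ᵥ v) = hyp v) :
    (M 0 1 = 0 ∧ M 1 0 = 0 ∧ M 0 0 * M 1 1 = 1) ∨ (M 0 0 = 0 ∧ M 1 1 = 0 ∧ M 0 1 * M 1 0 = 1) := by
  have h1 := hM ![1, 0]
  have h2 := hM ![0, 1]
  have h3 := hM ![1, 1]
  rw [hyp_mulVec] at h1 h2 h3
  simp [hyp] at h1 h2 h3
  have h4 : M 0 0 * M 1 1 + M 0 1 * M 1 0 = 1 := by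
    rcases h1 with h1 | h1 <;> rcases h2 with h2 | h2 <;> rw [h1, h2] at h3 <;> rw [h1, h2] <;>
      linear_combination h3
  rcases h1 with h1 | h1
  · right
    rw [h1, zero_mul, zero_add] at h4
    refine ⟨h1, ?_, h4⟩
    rcases h2 with h2 | h2
    · rw [h2, zero_mul] at h4
      exact absurd h4 zero_ne_one
    · exact h2
  · left
    rw [h1, mul_zero, add_zero] at h4
    refine ⟨?_, h1, h4⟩
    rcases h2 with h2 | h2
    · exact h2
    · rw [h2, mul_zero] at h4
      exact absurd h4 zero_ne_one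

theorem swp_conj (t : F) : (swp : Matrix (Fin 2) (Fin 2) F) * dHom t * swp = dHom t⁻¹ := by
  ext i j
  fin_cases i <;> fin_cases j <;> simp [swp, dHom_apply, Matrix.mul_apply, Fin.sum_univ_two]

theorem hyp_dHom (t : Fˣ) (v : Fin 2 → F) : hyp (dHom (t : F) *ᵥ v) = hyp v := by
  rw [hyp_mulVec, dHom_apply]
  simp [hyp]
  field_simp

theorem hyp_swp (v : Fin 2 → F) : hyp ((swp : Matrix (Fin 2) (Fin 2) F) *ᵥ v) = hyp v := by
  rw [hyp_mulVec]
  simp [hyp, swp, mul_comm]

/-- diagonal isometries as a hom -/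
def dIso : Fˣ →* Cfsg.isometryGroup F (hyp : (Fin 2 → F) → F) :=
  (Units.map (dHom : F →* Matrix (Fin 2) (Fin 2) F)).codRestrict _ (by
    intro t
    rw [mem_isometryGroup_iff]
    intro v
    exact hyp_dHom t v)

theorem dIso_coe (t : Fˣ) : (((dIso t : Cfsg.isometryGroup F (hyp : (Fin 2 → F) → F)) : GL (Fin 2) F) :
    Matrix (Fin 2) (Fin 2) F) = dHom (t : F) := rfl

theorem dIso_injective : Function.Injective (dIso (F := F)) := by
  intro s t h
  have h1 := congrArg (fun g : Cfsg.isometryGroup F (hyp : (Fin 2 → F) → F) =>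
    ((g : GL (Fin 2) F) : Matrix (Fin 2) (Fin 2) F) 0 0) h
  simp only [dIso_coe, dHom_apply] at h1
  exact Units.ext (by simpa using h1)

/-- the swap as an isometry -/
def swpIso : Cfsg.isometryGroup F (hyp : (Fin 2 → F) → F) :=
  ⟨⟨swp, swp, swp_mul_swp, swp_mul_swp⟩, by
    rw [mem_isometryGroup_iff]
    intro v
    exact hyp_swp v⟩

theorem swpIso_coe : (((swpIso : Cfsg.isometryGroup F (hyp : (Fin 2 → F) → F)) : GL (Fin 2) F) :
    Matrix (Fin 2) (Fin 2) F) = swp := rfl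

theorem ext_iso (g k : Cfsg.isometryGroup F (hyp : (Fin 2 → F) → F))
    (h : ((g : GL (Fin 2) F) : Matrix (Fin 2) (Fin 2) F) = ((k : GL (Fin 2) F) : Matrix (Fin 2) (Fin 2) F)) :
    g = k := Subtype.ext (Units.ext h)

theorem hyp_dihedral [Fintype F] :
    Nonempty (Cfsg.isometryGroup F (hyp : (Fin 2 → F) → F) ≃* DihedralGroup (Fintype.card F - 1)) := by
  classical
  obtain ⟨ω, hω⟩ := IsCyclic.exists_generator (α := Fˣ)
  have hx2 : (swpIso : Cfsg.isometryGroup F (hyp : (Fin 2 → F) → F)) * swpIso = 1 :=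
    ext_iso _ _ swp_mul_swp
  have hxinv : (swpIso : Cfsg.isometryGroup F (hyp : (Fin 2 → F) → F))⁻¹ = swpIso :=
    inv_eq_of_mul_eq_one_right hx2
  have hz : ∀ t : Fˣ, dIso t ∈ Subgroup.zpowers (dIso ω) := by
    intro t
    obtain ⟨k, rfl⟩ := Subgroup.mem_zpowers_iff.1 (hω t)
    rw [map_zpow]
    exact Subgroup.zpow_mem_zpowers _ k
  apply nonempty_mulEquiv_dihedral (Fintype.card F - 1) (dIso ω) swpIso
  · rw [orderOf_injective dIso dIso_injective ω, orderOf_eq_card_of_forall_mem_zpowers hω,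
      Nat.card_eq_fintype_card, Fintype.card_units]
  · exact hx2
  · rw [hxinv, ← map_inv]
    apply ext_iso
    show swp * dHom (ω : F) * swp = dHom ((ω⁻¹ : Fˣ) : F)
    rw [Units.val_inv_eq_inv_val]
    exact swp_conj (ω : F)
  · intro h
    obtain ⟨k, hk⟩ := Subgroup.mem_zpowers_iff.1 h
    rw [← map_zpow] at hk
    have h1 : dHom ((ω ^ k : Fˣ) : F) 0 1 = (swp : Matrix (Fin 2) (Fin 2) F) 0 1 :=
      congrArg (fun g : Cfsg.isometryGroup F (hyp : (Fin 2 → F) → F) =>
        ((g : GL (Fin 2) F) : Matrix (Fin 2) (Fin 2) F) 0 1) hk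
    rw [dHom_apply] at h1
    simp [swp] at h1
  · intro g
    have hM := (mem_isometryGroup_iff _ g.1).1 g.2
    set M : Matrix (Fin 2) (Fin 2) F := ((g : GL (Fin 2) F) : Matrix (Fin 2) (Fin 2) F) with hMdef
    rcases classify M hM with ⟨h01, h10, h⟩ | ⟨h00, h11, h⟩
    · left
      have : g = dIso (Units.mkOfMulEqOne (M 0 0) (M 1 1) h) := by
        apply ext_iso
        rw [dIso_coe, dHom_apply, ← hMdef]
        ext i j
        fin_cases i <;> fin_cases j <;> simp [h01, h10]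
        exact eq_inv_of_mul_eq_one_right h
      rw [this]
      exact hz _
    · right
      have : swpIso * g = dIso (Units.mkOfMulEqOne (M 1 0) (M 0 1) (by rw [mul_comm]; exact h)) := by
        apply ext_iso
        rw [dIso_coe, dHom_apply]
        show swp * M = _
        ext i j
        fin_cases i <;> fin_cases j <;> simp [swp, Matrix.mul_apply, Fin.sum_univ_two, h00, h11]
        exact eq_inv_of_mul_eq_one_right (by rw [mul_comm]; exact h)
      rw [this]
      exact hz _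

/-- the index equivalence -/
def idx : Fin 2 ≃ Fin 1 ⊕ Fin 1 where
  toFun := ![Sum.inl 0, Sum.inr 0]
  invFun := Sum.elim (fun _ => 0) (fun _ => 1)
  left_inv := by
    intro i
    fin_cases i <;> rfl
  right_inv := by
    rintro (i | i) <;> fin_cases i <;> rfl

end

theorem result {F : Type*} [Field F] [Fintype F] {q : ℕ} (hF : Fintype.card F = q) : Nonempty (Cfsg.isometryGroup F (Cfsg.quadFormPlus 1 F) ≃* DihedralGroup (q - 1)) := by
  subst hF
  obtain ⟨e₁⟩ := nonempty_mulEquiv_of_equiv (Cfsg.quadFormPlus 1 F) (hyp : (Fin 2 → F) → F) idx (by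
    intro w
    simp [hyp, Cfsg.quadFormPlus, idx])
  obtain ⟨e₂⟩ := hyp_dihedral (F := F)
  exact ⟨e₁.trans e₂⟩

end Cfsg.Agent.S0305
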