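import Cfsg.Statements.S0323
-- import your own Cfsg.Agent.* helpers here

set_option autoImplicit false
open scoped Pointwise
open Cfsg

namespace Cfsg.Agent.S0323

/-- A doubly transitive action on a set with at least three points yields a (B,N)-pair of rank one:
`B` is the stabiliser of a point `x`, `N` the setwise stabiliser of a pair `{x, y}`. -/
theorem result {G Ω : Type*} [Group G] [MulAction G Ω]
    (h2 : MulAction.IsMultiplyPretransitive G Ω 2) {x y z : Ω} (hxy : x ≠ y) (hyz : y ≠ z) (hxz : x ≠ z) :
    ∃ P : Cfsg.BNPair G, P.B = MulAction.stabilizer G x ∧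
      P.N = MulAction.stabilizer G ({x, y} : Set Ω) ∧ P.rank = 1 := by
  classical
  rw [MulAction.is_two_pretransitive_iff] at h2
  -- the swapping element
  obtain ⟨s, hsx, hsy⟩ := h2 hxy hxy.symm
  -- an element of the stabiliser of x moving y to z
  obtain ⟨c, hcx, hcy⟩ := h2 hxy hxz
  set B : Subgroup G := MulAction.stabilizer G x with hB
  set N : Subgroup G := MulAction.stabilizer G ({x, y} : Set Ω) with hN
  have memB : ∀ g : G, g ∈ B ↔ g • x = x := fun g => MulAction.mem_stabilizer_iff
  have memN : ∀ g : G, g ∈ N ↔ ({g • x, g • y} : Set Ω) = {x, y} := by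
    intro g
    rw [hN, MulAction.mem_stabilizer_iff, Set.smul_set_insert, Set.smul_set_singleton]
  have hsinvy : s⁻¹ • y = x := by rw [← hsx, inv_smul_smul]
  have hsinvx : s⁻¹ • x = y := by rw [← hsy, inv_smul_smul]
  have hsN : s ∈ N := by
    rw [memN, hsx, hsy]; exact Set.pair_comm y x
  have hsB : s ∉ B := by
    rw [memB, hsx]; exact hxy.symm
  -- elements of N either fix x and y, or swap them
  have casesN : ∀ n ∈ N, (n • x = x ∧ n • y = y) ∨ (n • x = y ∧ n • y = x) := by
    intro n hn
    rw [memN] at hn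
    have h1 : n • x ∈ ({x, y} : Set Ω) := by rw [← hn]; simp
    have h2' : n • y ∈ ({x, y} : Set Ω) := by rw [← hn]; simp
    have hne : n • x ≠ n • y := fun h => hxy (MulAction.injective n h)
    simp only [Set.mem_insert_iff, Set.mem_singleton_iff] at h1 h2'
    rcases h1 with h1 | h1 <;> rcases h2' with h2' | h2'
    · exact absurd (h1.trans h2'.symm) hne
    · exact Or.inl ⟨h1, h2'⟩
    · exact Or.inr ⟨h1, h2'⟩
    · exact absurd (h1.trans h2'.symm) hne
  -- every element outside B lies in B s B
  have outside : ∀ g : G, g ∉ B → g ∈ DoubleCoset.doubleCoset s (B : Set G) B := by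
    intro g hg
    rw [memB] at hg
    obtain ⟨b, hbx, hbw⟩ := h2 (Ne.symm hg) hxy
    rw [DoubleCoset.mem_doubleCoset]
    refine ⟨b⁻¹, ?_, s⁻¹ * b * g, ?_, by group⟩
    · apply B.inv_mem; exact (memB b).2 hbx
    · show s⁻¹ * b * g ∈ B
      rw [memB, mul_smul, mul_smul, hbw, hsinvy]
  have inB_or : ∀ g : G, g ∈ B ∨ g ∈ DoubleCoset.doubleCoset s (B : Set G) B := by
    intro g
    by_cases hg : g ∈ B
    · exact Or.inl hg
    · exact Or.inr (outside g hg)
  have dc_of_memB : ∀ g ∈ B, DoubleCoset.doubleCoset g (B : Set G) B = (B : Set G) := by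
    intro g hg
    ext u
    rw [DoubleCoset.mem_doubleCoset]
    constructor
    · rintro ⟨a, ha, b, hb, rfl⟩
      exact B.mul_mem (B.mul_mem ha hg) hb
    · intro hu
      exact ⟨u, hu, g⁻¹, B.inv_mem hg, by group⟩
  refine ⟨{ B := B, N := N, S := {s}, sup_eq_top := ?_, conj_mem := ?_, subset := ?_, sq_mem := ?_,
            inj := ?_, closure_sup := ?_, mul_mem_union := ?_, conj_ne := ?_ }, rfl, rfl, ?_⟩
  · -- sup_eq_top
    rw [eq_top_iff]
    intro g _
    rcases inB_or g with hg | hg
    · exact (le_sup_left : B ≤ B ⊔ N) hg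
    · rw [DoubleCoset.mem_doubleCoset] at hg
      obtain ⟨a, ha, b, hb, rfl⟩ := hg
      exact (B ⊔ N).mul_mem ((B ⊔ N).mul_mem ((le_sup_left : B ≤ B ⊔ N) ha)
        ((le_sup_right : N ≤ B ⊔ N) hsN)) ((le_sup_left : B ≤ B ⊔ N) hb)
  · -- conj_mem
    intro n hn t ht
    have htx : t • x = x := (memB t).1 ht.1
    have hty : t • y = y := by
      rcases casesN t ht.2 with h | h
      · exact h.2
      · exact absurd (htx.symm.trans h.1) hxy
    rw [memB, mul_smul, mul_smul]
    rcases casesN n⁻¹ (N.inv_mem hn) with h | h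
    · calc n • t • n⁻¹ • x = n • t • x := by rw [h.1]
        _ = n • x := by rw [htx]
        _ = n • n⁻¹ • x := by rw [h.1]
        _ = x := smul_inv_smul n x
    · calc n • t • n⁻¹ • x = n • t • y := by rw [h.1]
        _ = n • y := by rw [hty]
        _ = n • n⁻¹ • x := by rw [h.1]
        _ = x := smul_inv_smul n x
  · -- subset
    intro u hu
    rw [Set.mem_singleton_iff] at hu
    rw [hu]; exact hsN
  · -- sq_mem
    intro u hu
    rw [Set.mem_singleton_iff] at hu
    rw [hu, memB, mul_smul, hsx, hsy]
  · -- inj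
    intro u hu v hv _
    rw [Set.mem_singleton_iff] at hu hv
    rw [hu, hv]
  · -- closure_sup
    apply le_antisymm
    · rw [sup_le_iff, Subgroup.closure_le]
      refine ⟨?_, inf_le_right⟩
      intro u hu
      rw [Set.mem_singleton_iff] at hu
      rw [hu]; exact hsN
    · intro n hn
      rcases casesN n hn with h | h
      · exact (le_sup_right : B ⊓ N ≤ _) ⟨(memB n).2 h.1, hn⟩
      · have h1a : s⁻¹ * n ∈ B := by
          rw [memB, mul_smul, h.1, hsinvy]
        have h1 : s⁻¹ * n ∈ B ⊓ N := ⟨h1a, N.mul_mem (N.inv_mem hsN) hn⟩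
        have : n = s * (s⁻¹ * n) := by group
        rw [this]
        exact Subgroup.mul_mem _ ((le_sup_left : Subgroup.closure {s} ≤ _)
          (Subgroup.subset_closure (Set.mem_singleton s))) ((le_sup_right : B ⊓ N ≤ _) h1)
  · -- mul_mem_union
    intro u hu n hn b hb
    rw [Set.mem_singleton_iff] at hu
    subst hu
    rcases casesN n hn with h | h
    · -- n ∈ B
      left
      have hnB : n ∈ B := (memB n).2 h.1
      have hnot : u * b * n ∉ B := by
        intro hcon
        apply hsB
        have : u = (u * b * n) * (b * n)⁻¹ := by group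
        rw [this]
        exact B.mul_mem hcon (B.inv_mem (B.mul_mem hb hnB))
      have h1 := outside _ hnot
      have h2' : u * n ∈ DoubleCoset.doubleCoset u (B : Set G) B := by
        rw [DoubleCoset.mem_doubleCoset]
        exact ⟨1, B.one_mem, n, hnB, by group⟩
      rw [DoubleCoset.doubleCoset_eq_of_mem h2']
      exact h1
    · -- n swaps
      have hunB : u * n ∈ B := by rw [memB, mul_smul, h.1, hsy]
      have hnB : n ∉ B := by
        rw [memB, h.1]; exact hxy.symm
      rcases inB_or (u * b * n) with h1 | h1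
      · left
        rw [dc_of_memB _ hunB]; exact h1
      · right
        rw [DoubleCoset.doubleCoset_eq_of_mem (outside n hnB)]
        exact h1
  · -- conj_ne
    intro u hu
    rw [Set.mem_singleton_iff] at hu
    subst hu
    intro heq
    have hcB : c ∈ B := (memB c).2 hcx
    have : u * c * u ∈ (B : Set G) := by
      rw [← heq]; exact ⟨c, hcB, rfl⟩
    have h1 : (u * c * u) • x = x := (memB _).1 this
    rw [mul_smul, mul_smul, hsx, hcy] at h1
    -- u • z = x = u • y
    have : z = y := MulAction.injective u (h1.trans hsy.symm)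
    exact hyz this.symm
  · -- rank
    show Nat.card ({s} : Set G) = 1
    simp

end Cfsg.Agent.S0323
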