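import Cfsg.Statements.S0326


set_option autoImplicit false
open Cfsg

namespace Cfsg.Agent.S0326

/-- The Suzuki–Tits ovoid over a finite field with `q` elements has `q² + 1` points. -/
theorem result {F : Type*} [Field F] [Fintype F] (m : ℕ) :
    Nat.card (Cfsg.suzukiOvoid F m) = Fintype.card F ^ 2 + 1 := by
  classical
  -- the parametrisation of the ovoid
  set f : F → F → F := fun x y => x * y + x ^ (2 ^ (m + 1) + 2) + y ^ (2 ^ (m + 1)) with hf
  have hne1 : (![1, 0, 0, 0] : Fin 4 → F) ≠ 0 := by
    intro h; have := congrFun h 0; simp at this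
  have hne2 : ∀ x y : F, (![f x y, y, x, 1] : Fin 4 → F) ≠ 0 := by
    intro x y h; have := congrFun h 3; simp at this
  let g : Option (F × F) → Projectivization F (Fin 4 → F) := fun o =>
    match o with
    | none => Projectivization.mk F ![1, 0, 0, 0] hne1
    | some (x, y) => Projectivization.mk F ![f x y, y, x, 1] (hne2 x y)
  have hrange : Set.range g = Cfsg.suzukiOvoid F m := by
    ext p
    constructor
    · rintro ⟨o, rfl⟩
      rcases o with _ | ⟨x, y⟩
      · exact ⟨_, hne1, rfl, Or.inl rfl⟩
      · exact ⟨_, hne2 x y, rfl, Or.inr ⟨x, y, rfl⟩⟩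
    · rintro ⟨v, hv, rfl, hcase⟩
      rcases hcase with h | ⟨x, y, h⟩
      · subst h
        exact ⟨none, rfl⟩
      · subst h
        exact ⟨some (x, y), rfl⟩
  have hinj : Function.Injective g := by
    intro o₁ o₂ h
    rcases o₁ with _ | ⟨x, y⟩ <;> rcases o₂ with _ | ⟨x', y'⟩
    · rfl
    · exfalso
      simp only [g] at h
      rw [Projectivization.mk_eq_mk_iff] at h
      obtain ⟨a, ha⟩ := h
      have := congrFun ha 3
      simp [Units.smul_def] at this
    · exfalso
      simp only [g] at h
      rw [Projectivization.mk_eq_mk_iff] at h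
      obtain ⟨a, ha⟩ := h
      have := congrFun ha 3
      simp [Units.smul_def] at this
    · simp only [g] at h
      rw [Projectivization.mk_eq_mk_iff] at h
      obtain ⟨a, ha⟩ := h
      have h3 := congrFun ha 3
      have h2 := congrFun ha 2
      have h1 := congrFun ha 1
      simp [Units.smul_def] at h3 h2 h1
      rw [h3] at h2 h1
      simp at h2 h1
      rw [h2, h1]
  rw [← hrange]
  have e := Equiv.ofInjective g hinj
  rw [← Nat.card_congr e, Nat.card_eq_fintype_card, Fintype.card_option, Fintype.card_prod]
  ring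

end Cfsg.Agent.S0326
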