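import Cfsg.Statements.S0344
import Cfsg.Agent.Helper61.S3tZass
import Cfsg.Agent.Helper61.ZsMain

set_option autoImplicit false
open Cfsg

namespace Cfsg.Agent.S0344

/-- A finite simple Zassenhaus group with a two-point stabiliser of even order is isomorphic to `PSL₂(F)` for a finite
field `F` with more than three elements. -/
theorem result {G Ω : Type*} [Group G] [Finite G] [MulAction G Ω] [Finite Ω]
    (hZ : Cfsg.IsZassenhausGroup G Ω) [IsSimpleGroup G]
    {a b : Ω} (hab : a ≠ b) (heven : Even (Nat.card ↥(MulAction.stabilizer G a ⊓ MulAction.stabilizer G b))) :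
    ∃ (F : Type) (_ : Field F) (_ : Fintype F), 3 < Fintype.card F ∧ Nonempty (G ≃* Matrix.ProjectiveSpecialLinearGroup (Fin 2) F) := by
  classical
  obtain ⟨hfaith, h2, h3f, -, -⟩ := hZ
  haveI : Fintype Ω := Fintype.ofFinite Ω
  have heven' : Even (Nat.card (Cfsg.Agent.Helper61.Zs.stabH G a b)) := heven
  have hpos : 0 < Nat.card ↥(MulAction.stabilizer G a ⊓ MulAction.stabilizer G b) := Nat.card_pos
  have h2le : 2 ≤ Nat.card ↥(MulAction.stabilizer G a ⊓ MulAction.stabilizer G b) := by
    obtain ⟨m, hm⟩ := heven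
    omega
  by_cases hcase : 2 * Nat.card ↥(MulAction.stabilizer G a ⊓ MulAction.stabilizer G b) ≤
      Fintype.card Ω - 2
  · obtain ⟨R, hRf, hRfin, hcard, hodd, ⟨e⟩⟩ :=
      Cfsg.Agent.Helper61.Zs.zassenhaus_even h2 h3f hab heven hcase
    obtain ⟨p, f, F, hF, hFfin, hp, hcF, hcR, hiso⟩ := Cfsg.Agent.Helper61.Zs.exists_galois_psl e
    refine ⟨F, hF, hFfin, ?_, hiso⟩
    rw [hcF, ← hcR]
    omega
  · exfalso
    -- a third point, by faithfulness
    obtain ⟨y1, hy11⟩ : ∃ y : ↥(MulAction.stabilizer G a ⊓ MulAction.stabilizer G b), y ≠ 1 := by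
      haveI : Nontrivial ↥(MulAction.stabilizer G a ⊓ MulAction.stabilizer G b) :=
        Finite.one_lt_card_iff_nontrivial.mp (by omega)
      exact exists_ne 1
    have hy1a : y1.1 • a = a := MulAction.mem_stabilizer_iff.mp (Subgroup.mem_inf.mp y1.2).1
    have hy1b : y1.1 • b = b := MulAction.mem_stabilizer_iff.mp (Subgroup.mem_inf.mp y1.2).2
    obtain ⟨w0, hw0⟩ : ∃ w : Ω, y1.1 • w ≠ w := by
      by_contra hcon
      push Not at hcon
      apply hy11
      apply Subtype.ext
      exact hfaith.eq_of_smul_eq_smul (fun w => by rw [hcon w]; exact (one_smul G w).symm)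
    have hw0a : w0 ≠ a := by
      rintro rfl; exact hw0 hy1a
    have hw0b : w0 ≠ b := by
      rintro rfl; exact hw0 hy1b
    have h3c : 3 ≤ Nat.card Ω := by
      rw [Nat.card_eq_fintype_card]
      have h3 : ({a, b, w0} : Finset Ω).card = 3 := by
        rw [Finset.card_insert_of_notMem, Finset.card_insert_of_notMem, Finset.card_singleton]
        · simp [hw0b.symm]
        · simp [hab, hw0a.symm]
      rw [← h3]
      exact Finset.card_le_univ _
    -- transitivity of the two-point stabiliser on the remaining points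
    have hsemi : ∀ w : Ω, w ≠ a → w ≠ b → ∀ h h' : ↥(Cfsg.Agent.Helper61.Zs.stabH G a b),
        h.1 • w = h'.1 • w → h = h' := by
      intro w hwa hwb h h' hhh
      have hh := Cfsg.Agent.Helper61.Zs.mem_stabH.mp h.2
      have hh' := Cfsg.Agent.Helper61.Zs.mem_stabH.mp h'.2
      have h1 : h'.1⁻¹ * h.1 = 1 := by
        apply h3f (h'.1⁻¹ * h.1) a b w hab hwb.symm hwa.symm
        · rw [mul_smul, hh.1, inv_smul_eq_iff, hh'.1]
        · rw [mul_smul, hh.2, inv_smul_eq_iff, hh'.2]
        · rw [mul_smul, hhh, inv_smul_smul]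
      apply Subtype.ext
      exact (inv_mul_eq_one.mp h1).symm
    have htr : ∀ w w' : Ω, w ≠ a → w ≠ b → w' ≠ a → w' ≠ b →
        ∃ h ∈ Cfsg.Agent.Helper61.Zs.stabH G a b, h • w = w' := by
      intro w w' hwa hwb hwa' hwb'
      by_contra hno
      push Not at hno
      apply hcase
      let f1 : ↥(Cfsg.Agent.Helper61.Zs.stabH G a b) → Ω := fun h => h.1 • w
      let f2 : ↥(Cfsg.Agent.Helper61.Zs.stabH G a b) → Ω := fun h => h.1 • w'
      let f3 : Bool → Ω := fun x => if x then a else b
      have hf1 : Function.Injective f1 := fun h h' hhh => hsemi w hwa hwb h h' hhh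
      have hf2 : Function.Injective f2 := fun h h' hhh => hsemi w' hwa' hwb' h h' hhh
      have hf3 : Function.Injective f3 := by
        intro x y hxy
        cases x <;> cases y <;> simp [f3] at hxy ⊢
        · exact hab hxy.symm
        · exact hab hxy
      have hf12 : ∀ h h', f1 h ≠ f2 h' := by
        intro h h' hhh
        apply hno (h'.1⁻¹ * h.1)
          ((Cfsg.Agent.Helper61.Zs.stabH G a b).mul_mem
            ((Cfsg.Agent.Helper61.Zs.stabH G a b).inv_mem h'.2) h.2)
        rw [mul_smul, inv_smul_eq_iff]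
        exact hhh
      have hfix : ∀ (h : ↥(Cfsg.Agent.Helper61.Zs.stabH G a b)) (v : Ω), v ≠ a → v ≠ b →
          ∀ x : Bool, h.1 • v ≠ f3 x := by
        intro h v hva hvb x hx
        have hh := Cfsg.Agent.Helper61.Zs.mem_stabH.mp h.2
        cases x
        · have : h.1 • v = h.1 • b := by rw [hh.2]; simpa [f3] using hx
          exact hvb (smul_left_cancel _ this)
        · have : h.1 • v = h.1 • a := by rw [hh.1]; simpa [f3] using hx
          exact hva (smul_left_cancel _ this)
      have hinj : Function.Injective (Sum.elim (Sum.elim f1 f2) f3) := by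
        apply Function.Injective.sumElim (Function.Injective.sumElim hf1 hf2 hf12) hf3
        rintro (h | h) x
        · exact hfix h w hwa hwb x
        · exact hfix h w' hwa' hwb' x
      have hle := Nat.card_le_card_of_injective _ hinj
      rw [Nat.card_sum, Nat.card_sum, Nat.card_eq_fintype_card (α := Bool), Fintype.card_bool,
        Nat.card_eq_fintype_card (α := Ω)] at hle
      have : Nat.card ↥(Cfsg.Agent.Helper61.Zs.stabH G a b) =
          Nat.card ↥(MulAction.stabilizer G a ⊓ MulAction.stabilizer G b) := rfl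
      omega
    obtain ⟨φ, hφ⟩ := Cfsg.Agent.Helper61.S3t.exists_character_of_sharp h2 h3f hab h3c heven' htr
    -- simplicity
    rcases φ.normal_ker.eq_bot_or_eq_top with hker | hker
    · have hinj : Function.Injective φ := (MonoidHom.ker_eq_bot_iff φ).mp hker
      have h1 := Nat.card_le_card_of_injective φ hinj
      have h2' : Nat.card ℤˣ = 2 := by simp
      have hsurj : Function.Surjective (fun g : G => g • a) := by
        intro x
        by_cases hx : x = a
        · exact ⟨1, by rw [hx]; exact one_smul G a⟩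
        · obtain ⟨g, hg, -⟩ := Cfsg.Agent.Helper60.Zassenhaus.exists_map2 h2 hab hx
          exact ⟨g, hg⟩
      have h3 := Nat.card_le_card_of_surjective _ hsurj
      omega
    · apply hφ
      ext g
      have : g ∈ φ.ker := by rw [hker]; exact Subgroup.mem_top g
      rw [MonoidHom.mem_ker] at this
      rw [this]
      rfl

end Cfsg.Agent.S0344
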