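import Cfsg.Statements.S0347
import Cfsg.Agent.Helper95.SzOrd.Main

set_option autoImplicit false
open Cfsg

namespace Cfsg.Agent.S0347

/-- If in a finite simple Zassenhaus group the stabiliser of a point `x` has a normal `2`-subgroup `U` which is
non-abelian and acts regularly on the points other than `x`, then the group is simple of Suzuki order (order-level
predicate `IsSuzuki`). -/
theorem result {G Ω : Type*} [Group G] [Finite G] [MulAction G Ω] [Finite Ω]
    (hZ : Cfsg.IsZassenhausGroup G Ω) [IsSimpleGroup G]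
    (x : Ω) (U : Subgroup G) (hUle : U ≤ MulAction.stabilizer G x) (hUn : (U.subgroupOf (MulAction.stabilizer G x)).Normal)
    (hU2 : IsPGroup 2 U) (hUna : ∃ u v : U, u * v ≠ v * u)
    (hreg : ∀ y z : Ω, y ≠ x → z ≠ x → ∃! u : U, (u : G) • y = z) :
    Cfsg.IsSuzuki G := by
  classical
  haveI : Fintype G := Fintype.ofFinite G
  haveI : Fintype Ω := Fintype.ofFinite Ω
  have hzt : Cfsg.Agent.Helper95.SzOrd.ZT x U :=
    { hZ := hZ
      simple := inferInstance
      Qle := hUle
      Qnorm := by
        intro h hh u hu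
        have := hUn.conj_mem ⟨u, hUle hu⟩ (Subgroup.mem_subgroupOf.2 hu) ⟨h, hh⟩
        exact Subgroup.mem_subgroupOf.1 this
      reg := hreg
      two := hU2
      nonab := by
        obtain ⟨u, v, huv⟩ := hUna
        refine ⟨u, u.2, v, v.2, fun h => huv (Subtype.ext ?_)⟩
        simpa using h }
  obtain ⟨b, hab⟩ := Cfsg.Agent.Helper95.SzOrd.exists_second_point hzt
  obtain ⟨q, n, F, hN, hodd⟩ := Cfsg.Agent.Helper95.SzOrd.suzuki_main hzt hab
  refine ⟨inferInstance, ?_⟩
  obtain ⟨m, hm⟩ := hodd
  have hn := F.hn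
  have hq : q = 2 ^ (2 * m + 1) := by rw [F.hq, hm]
  refine ⟨m, by omega, ?_⟩
  rw [F.card_G, hN, ← hq]
  ring

end Cfsg.Agent.S0347
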