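import Cfsg.Statements.S0340
import Cfsg.Agent.S0347
import Cfsg.Agent.S0344
import Cfsg.Agent.S0885
import Cfsg.Agent.S0738
import Cfsg.Agent.S0731
import Cfsg.Agent.Helper95.ZassDegree
import Cfsg.Agent.Helper95.SzOrd.Sharp3

set_option autoImplicit false
open Cfsg

namespace Cfsg.Agent.S0340

/-- Classification of Zassenhaus groups, simple case, order-level form: a finite simple Zassenhaus group is
isomorphic to `PSL₂(F)` for some finite field `F` or is simple of Suzuki order. -/
theorem result {G Ω : Type*} [Group G] [Finite G] [MulAction G Ω]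
    [Finite Ω] (hZ : Cfsg.IsZassenhausGroup G Ω) [IsSimpleGroup G] :
    (∃ (F : Type) (_ : Field F) (_ : Fintype F), Nonempty (G ≃* Matrix.ProjectiveSpecialLinearGroup (Fin 2) F)) ∨ Cfsg.IsSuzuki G := by
  classical
  haveI : Fintype Ω := Fintype.ofFinite Ω
  obtain ⟨a, b, K, hab, hK1, hKn, hreg, hfix, hcard⟩ :=
    Cfsg.Agent.Helper95.ZassDegree.exists_kernel hZ
  rcases Nat.even_or_odd (Nat.card ↥(MulAction.stabilizer G a ⊓ MulAction.stabilizer G b))
    with heven | hodd
  · obtain ⟨F, i1, i2, -, hiso⟩ := Cfsg.Agent.S0344.result hZ hab heven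
    exact Or.inl ⟨F, i1, i2, hiso⟩
  · rcases Cfsg.Agent.S0885.result hZ hab (Fintype.card Ω - 1) _ (by omega) rfl hodd K hK1 hcard
      hfix with h | h
    · have hd : Fintype.card Ω - 2
          ≤ 2 * Nat.card ↥(MulAction.stabilizer G a ⊓ MulAction.stabilizer G b) := by omega
      obtain ⟨hcomm, p, f, hp, -, hpf⟩ := Cfsg.Agent.S0738.result hZ hab hd K hK1 hKn hreg
      rcases Cfsg.Agent.S0731.result hZ a K hK1 hKn hcomm hreg with
        ⟨h3, hsharp⟩ | ⟨F, i1, i2, -, hiso⟩
      · left
        -- the sharply triply transitive case: `|K_ab| = |Ω| - 2` is odd, so `p = 2`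
        have h3c : 3 ≤ Fintype.card Ω := by
          have := Cfsg.Agent.Helper61.Zassenhaus.three_le_card hZ
          rwa [Nat.card_eq_fintype_card] at this
        obtain ⟨c, hca, hcb⟩ : ∃ c : Ω, c ≠ a ∧ c ≠ b := by
          by_contra hcon
          push Not at hcon
          have hsub : (Finset.univ : Finset Ω) ⊆ {a, b} := by
            intro x _
            by_cases hxa : x = a
            · simp [hxa]
            · simp [hcon x hxa]
          have := Finset.card_le_card hsub
          rw [Finset.card_univ] at this
          have h2 : ({a, b} : Finset Ω).card ≤ 2 := Finset.card_le_two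
          omega
        have hcardK := Cfsg.Agent.Helper95.SzOrd.card_two_point_stab_of_sharp3 h3 hsharp hab
          (Ne.symm hca) (Ne.symm hcb)
        have hpf_even : Even (p ^ f) := by
          rcases hodd with ⟨j, hj⟩
          refine ⟨j + 1, ?_⟩
          omega
        have hf0 : f ≠ 0 := by
          rintro rfl
          rw [pow_zero] at hpf_even
          exact (by decide : ¬ Even 1) hpf_even
        have hp2 : p = 2 := by
          have : Even p := (Nat.even_pow.1 hpf_even).1
          exact (Nat.Prime.even_iff hp).1 this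
        subst hp2
        haveI : FaithfulSMul G Ω := hZ.1
        exact Cfsg.Agent.Helper95.SzOrd.exists_psl_of_sharp3 (by omega) hpf h3 hsharp
      · exact Or.inl ⟨F, i1, i2, hiso⟩
    · right
      exact Cfsg.Agent.S0347.result hZ a K hK1 hKn h.1 h.2.1 hreg

end Cfsg.Agent.S0340
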