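import Cfsg.Statements.S0341
import Cfsg.Agent.Helper60.Zass2Trans
import Cfsg.Agent.Helper60.FieldAut
import Cfsg.Agent.Helper60.FpfZ
import Cfsg.Agent.Helper61.Zassenhaus

set_option autoImplicit false
open Cfsg

namespace Cfsg.Agent.S0341

open MulAction Cfsg.Agent.Helper60.Zassenhaus

/-- If a finite group acts faithfully and doubly transitively, no non-identity element fixes three points, some
non-identity element fixes two points, and some normal subgroup acts regularly, then the number of points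
is `2^p` with `p` prime. -/
theorem result {G Ω : Type*} [Group G]
    [MulAction G Ω] [Fintype Ω] [FaithfulSMul G Ω] (h2 : MulAction.IsMultiplyPretransitive G Ω 2)
    (h3 : ∀ g : G, ∀ a b c : Ω, a ≠ b → b ≠ c → a ≠ c → g • a = a → g • b = b → g • c = c → g = 1)
    (hfix : ∃ g : G, g ≠ 1 ∧ ∃ a b : Ω, a ≠ b ∧ g • a = a ∧ g • b = b)
    (N : Subgroup G) [N.Normal] (hNt : MulAction.IsPretransitive N Ω)
    (hNr : ∀ a : Ω, MulAction.stabilizer N a = ⊥) :
    ∃ p : ℕ, p.Prime ∧ Fintype.card Ω = 2 ^ p := by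
  classical
  obtain ⟨g', hg'1, a, b, hab, hg'a, hg'b⟩ := hfix
  have hfinG : Finite G := Cfsg.Agent.Helper61.Zassenhaus.finite_of_faithful (Ω := Ω)
  -- replace `g'` by an element of prime order
  obtain ⟨p, hp, g₀, hg₀1, hg₀p, hg₀a, hg₀b⟩ :
      ∃ p : ℕ, p.Prime ∧ ∃ g₀ : G, g₀ ≠ 1 ∧ g₀ ^ p = 1 ∧ g₀ • a = a ∧ g₀ • b = b := by
    have h1 : orderOf g' ≠ 1 := fun h => hg'1 (orderOf_eq_one_iff.1 h)
    obtain ⟨p, hp, hpd⟩ := Nat.exists_prime_and_dvd h1
    obtain ⟨m, hm⟩ := hpd
    have hm0 : m ≠ 0 := by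
      rintro rfl
      rw [mul_zero] at hm
      exact (orderOf_pos g').ne' hm
    refine ⟨p, hp, g' ^ m, ?_, ?_, ?_, ?_⟩
    · intro h
      have := orderOf_dvd_of_pow_eq_one h
      rw [hm] at this
      have h2 : p * m ≤ m := Nat.le_of_dvd (Nat.pos_of_ne_zero hm0) this
      have h3 := hp.two_le
      nlinarith [Nat.pos_of_ne_zero hm0]
    · rw [← pow_mul, mul_comm, ← hm, pow_orderOf_eq_one]
    · exact mem_stabilizer_iff.1 ((stabilizer G a).pow_mem (mem_stabilizer_iff.2 hg'a) m)
    · exact mem_stabilizer_iff.1 ((stabilizer G b).pow_mem (mem_stabilizer_iff.2 hg'b) m)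
  -- at least three points
  have h3c : 3 ≤ Nat.card Ω := by
    obtain ⟨c, hc⟩ : ∃ c : Ω, g₀ • c ≠ c := by
      by_contra hcon
      push Not at hcon
      apply hg₀1
      apply FaithfulSMul.eq_of_smul_eq_smul (α := Ω)
      intro x
      rw [hcon x, one_smul]
    have hca : c ≠ a := by rintro rfl; exact hc hg₀a
    have hcb : c ≠ b := by rintro rfl; exact hc hg₀b
    rw [Nat.card_eq_fintype_card]
    have hsub : ({a, b, c} : Finset Ω).card = 3 := by
      rw [Finset.card_insert_of_notMem, Finset.card_insert_of_notMem, Finset.card_singleton]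
      · simpa using hcb.symm
      · simp only [Finset.mem_insert, Finset.mem_singleton, not_or]
        exact ⟨hab, hca.symm⟩
    rw [← hsub]
    exact Finset.card_le_univ _
  -- regularity of `N`
  have hreg : ∀ x : Ω, ∃ n ∈ N, n • a = x := by
    intro x
    obtain ⟨n, hn⟩ := MulAction.exists_smul_eq N a x
    exact ⟨n.1, n.2, hn⟩
  have hregu : ∀ n ∈ N, ∀ n' ∈ N, ∀ x : Ω, n • x = n' • x → n = n' := by
    intro n hn n' hn' x hx
    have h1 : (⟨n'⁻¹ * n, N.mul_mem (N.inv_mem hn') hn⟩ : N) ∈ stabilizer N x := by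
      rw [mem_stabilizer_iff]
      show (n'⁻¹ * n) • x = x
      rw [mul_smul, hx, inv_smul_smul]
    rw [hNr x, Subgroup.mem_bot] at h1
    have h2 : n'⁻¹ * n = 1 := congrArg Subtype.val h1
    exact (inv_mul_eq_one.1 h2).symm
  -- the element `t` of `N` mapping `a` to `b`
  obtain ⟨t, htN, hta⟩ := hreg b
  have ht1 : t ≠ 1 := by
    rintro rfl
    rw [one_smul] at hta
    exact hab hta
  have hg₀ia : g₀⁻¹ • a = a := by rw [inv_smul_eq_iff, hg₀a]
  have hconjt : g₀ * t * g₀⁻¹ = t := by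
    apply hregu _ (‹N.Normal›.conj_mem t htN g₀) _ htN a
    rw [mul_smul, mul_smul, hg₀ia, hta, hg₀b]
  have htt : t * t = 1 := by
    have hc : g₀ • ((t * t) • a) = (t * t) • a := by
      have e1 : g₀ * (t * t) = (g₀ * t * g₀⁻¹) * (g₀ * t * g₀⁻¹) * g₀ := by group
      rw [← mul_smul, e1, hconjt, mul_smul, hg₀a]
    have hca : (t * t) • a = a := by
      by_contra hne
      have hcb : b ≠ (t * t) • a := by
        intro h
        rw [mul_smul, hta] at h
        have : t • b = t • a := by rw [← h, hta]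
        exact hab (MulAction.injective t this).symm
      exact hg₀1 (h3 g₀ a b _ hab hcb (Ne.symm hne) hg₀a hg₀b hc)
    apply hregu _ (N.mul_mem htN htN) _ N.one_mem a
    rw [hca, one_smul]
  -- conjugation by elements of the stabilizer of `a`
  have hconja : ∀ g : G, g • a = a → ∀ n : G, (g * n * g⁻¹) • a = g • (n • a) := by
    intro g hg n
    have hgi : g⁻¹ • a = a := by rw [inv_smul_eq_iff, hg]
    rw [mul_smul, mul_smul, hgi]
  -- `N` has exponent two
  have hexp : ∀ n ∈ N, n * n = 1 := by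
    intro n hn
    by_cases hn1 : n = 1
    · rw [hn1, mul_one]
    · have hx : a ≠ n • a := by
        intro h
        apply hn1
        apply hregu n hn 1 N.one_mem a
        rw [one_smul, ← h]
      obtain ⟨g, hga, hgb⟩ := exists_map2 h2 hab hx
      have h1 : g * t * g⁻¹ = n := by
        apply hregu _ (‹N.Normal›.conj_mem t htN g) n hn a
        rw [hconja g hga, hta, hgb]
      rw [← h1]
      have : g * t * g⁻¹ * (g * t * g⁻¹) = g * (t * t) * g⁻¹ := by group
      rw [this, htt]; group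
  have hNcomm : ∀ n ∈ N, ∀ m ∈ N, n * m = m * n := by
    intro n hn m hm
    have h1 := hexp (n * m) (N.mul_mem hn hm)
    have h2 := hexp n hn
    have h3 := hexp m hm
    have hn' : n⁻¹ = n := inv_eq_of_mul_eq_one_right h2
    have hm' : m⁻¹ = m := inv_eq_of_mul_eq_one_right h3
    have hnm' : (n * m)⁻¹ = n * m := inv_eq_of_mul_eq_one_right h1
    calc n * m = (n * m)⁻¹ := hnm'.symm
      _ = m⁻¹ * n⁻¹ := mul_inv_rev n m
      _ = m * n := by rw [hn', hm']
  let instN : CommGroup N := { (inferInstance : Group N) with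
    mul_comm := fun x y => Subtype.ext (hNcomm x.1 x.2 y.1 y.2) }
  have hfinN : Finite N := inferInstance
  have hntN : Nontrivial N := ⟨⟨⟨t, htN⟩, 1, fun h => ht1 (congrArg Subtype.val h)⟩⟩
  -- cardinality of `N`
  have hcardN : Nat.card N = Nat.card Ω := by
    apply Nat.card_eq_of_bijective (fun n : N => (n : G) • a)
    constructor
    · intro n n' hnn
      exact Subtype.ext (hregu n.1 n.2 n'.1 n'.2 a hnn)
    · intro x
      obtain ⟨n, hn, hnx⟩ := hreg x
      exact ⟨⟨n, hn⟩, hnx⟩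
  have hevenN : Even (Nat.card N) := by
    have h1 : orderOf t = 2 := by
      have := Fact.mk Nat.prime_two
      exact orderOf_eq_prime (by rw [pow_two]; exact htt) ht1
    have h2 : orderOf (⟨t, htN⟩ : N) = 2 := by rw [Subgroup.orderOf_mk, h1]
    have h3 := orderOf_dvd_natCard (⟨t, htN⟩ : N)
    rw [h2] at h3
    exact even_iff_two_dvd.2 h3
  -- the Frobenius kernel of the stabilizer of `a`
  have hfinΩ : Finite Ω := inferInstance
  obtain ⟨K, hKa, hKn, hKfree, hKtr⟩ :=
    Cfsg.Agent.Helper60.Zass2Trans.exists_kernel_of_two_trans h2 h3 hab h3c hg₀1 hg₀a hg₀b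
  have hKfix : ∀ k ∈ K, k • a = a := fun k hk => mem_stabilizer_iff.1 (hKa hk)
  -- cardinality of `K`
  have hcardK : Nat.card K = Nat.card Ω - 1 := by
    rw [← SubMulAction.nat_card_ofStabilizer_eq G a]
    have hmem : ∀ k : K, (k : G) • b ∈ SubMulAction.ofStabilizer G a := by
      intro k
      rw [SubMulAction.mem_ofStabilizer_iff]
      intro h
      have : (k : G) • b = (k : G) • a := by rw [h, hKfix k.1 k.2]
      exact hab (MulAction.injective (k : G) this).symm
    apply Nat.card_eq_of_bijective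
      (fun k : K => (⟨(k : G) • b, hmem k⟩ : SubMulAction.ofStabilizer G a))
    constructor
    · intro k k' hkk
      have h1 : (k : G) • b = (k' : G) • b := congrArg Subtype.val hkk
      have h2 : ((k' : G)⁻¹ * (k : G)) • b = b := by rw [mul_smul, h1, inv_smul_smul]
      have h3 := hKfree _ (K.mul_mem (K.inv_mem k'.2) k.2) b hab.symm h2
      exact Subtype.ext (inv_mul_eq_one.1 h3).symm
    · intro x
      have hx : (x : Ω) ≠ a := (SubMulAction.mem_ofStabilizer_iff G a).mp x.2
      obtain ⟨k, hk, hkx⟩ := hKtr b x hab.symm hx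
      exact ⟨⟨k, hk⟩, Subtype.ext hkx⟩
  have hoddK : Odd (Nat.card K) := by
    rw [hcardK, ← hcardN]
    obtain ⟨m, hm⟩ := hevenN
    have hpos : 0 < Nat.card N := Nat.card_pos
    rw [hm]
    exact ⟨m - 1, by omega⟩
  -- `K` acts on `N` without fixed points
  have hNfix : ∀ k ∈ K, ∀ n ∈ N, k * n * k⁻¹ = n → n ≠ 1 → k = 1 := by
    intro k hk n hn hkn hn1
    have h1 : k • (n • a) = n • a := by
      rw [← hconja k (hKfix k hk) n, hkn]
    apply hKfree k hk (n • a) _ h1
    intro h
    apply hn1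
    apply hregu n hn 1 N.one_mem a
    rw [h, one_smul]
  -- `g₀` centralizes no nonidentity element of `K`
  have hg₀K : ∀ k ∈ K, g₀ * k * g₀⁻¹ = k → k = 1 := by
    intro k hk hkk
    have h1 : g₀ • (k • b) = k • b := by
      have e1 : g₀ * k = (g₀ * k * g₀⁻¹) * g₀ := by group
      rw [← mul_smul, e1, hkk, mul_smul, hg₀b]
    have hkba : a ≠ k • b := by
      intro h
      have : k • b = k • a := by rw [← h, hKfix k hk]
      exact hab (MulAction.injective k this).symm
    apply hKfree k hk b hab.symm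
    by_contra hne
    exact hg₀1 (h3 g₀ a b _ hab (Ne.symm hne) hkba hg₀a hg₀b h1)
  have hg₀N : ∀ k ∈ K, g₀ * k * g₀⁻¹ ∈ K := hKn g₀ (mem_stabilizer_iff.2 hg₀a)
  -- `K` is a Z-group
  let φK : K →* MulAut N := (MulAut.conjNormal (H := N)).comp K.subtype
  have hφK : ∀ (k : K) (n : N), ((φK k n : N) : G) = (k : G) * n * (k : G)⁻¹ := fun k n => rfl
  have hZK : IsZGroup K := by
    apply Cfsg.Agent.Helper60.FpfZ.isZGroup_of_fpf φK _ hoddK
    intro k hk n hkn
    by_contra hn1
    apply hk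
    apply Subtype.ext
    apply hNfix k.1 k.2 n.1 n.2 _ (fun h => hn1 (Subtype.ext h))
    rw [← hφK, hkn]
  -- `K` is commutative
  have hg₀norm : g₀ ∈ Subgroup.normalizer (K : Set G) :=
    Subgroup.mem_normalizer_fintype (fun n hn => hg₀N n hn)
  let τ : MulAut K := K.normalizerMonoidHom ⟨g₀, hg₀norm⟩
  have hτ : ∀ k : K, ((τ k : K) : G) = g₀ * k * g₀⁻¹ := fun k => rfl
  have hKcomm' : ∀ x y : K, x * y = y * x := by
    apply Cfsg.Agent.Helper60.FpfZ.comm_of_fpf_aut τ
    intro k hk
    apply Subtype.ext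
    apply hg₀K k.1 k.2
    rw [← hτ, hk]
  have hKcomm : ∀ k₁ ∈ K, ∀ k₂ ∈ K, k₁ * k₂ = k₂ * k₁ := by
    intro k₁ hk₁ k₂ hk₂
    exact congrArg Subtype.val (hKcomm' ⟨k₁, hk₁⟩ ⟨k₂, hk₂⟩)
  -- a nonidentity element of `K`
  obtain ⟨k₁, hk₁, hk₁1⟩ : ∃ k₁ ∈ K, k₁ ≠ 1 := by
    have h1 : 1 < Nat.card K := by rw [hcardK]; omega
    have hnt : Nontrivial K := Finite.one_lt_card_iff_nontrivial.1 h1
    obtain ⟨k, hk⟩ := exists_ne (1 : K)
    exact ⟨k.1, k.2, fun h => hk (Subtype.ext h)⟩
  -- apply the field argument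
  have hmain : Nat.card N = 2 ^ p := by
    refine Cfsg.Agent.Helper60.FieldAut.card_of_regular_abelian_mul (W := N)
      (MulAut.conjNormal (H := N)) K hKcomm ?_ ?_ ⟨t, htN⟩ (fun h => ht1 (congrArg Subtype.val h))
      k₁ hk₁ hk₁1 g₀ hg₀N hg₀K hp hg₀p
    · intro v w hv hw
      have hva : (v : G) • a ≠ a := by
        intro h
        apply hv
        apply Subtype.ext
        apply hregu v.1 v.2 1 N.one_mem a
        rw [h, one_smul]
      have hwa : (w : G) • a ≠ a := by
        intro h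
        apply hw
        apply Subtype.ext
        apply hregu w.1 w.2 1 N.one_mem a
        rw [h, one_smul]
      obtain ⟨k, hk, hkx⟩ := hKtr _ _ hva hwa
      refine ⟨k, hk, ?_⟩
      apply Subtype.ext
      rw [MulAut.conjNormal_apply]
      apply hregu _ (‹N.Normal›.conj_mem v.1 v.2 k) w.1 w.2 a
      rw [hconja k (hKfix k hk), hkx]
    · intro k hk v hv hkv
      apply hNfix k hk v.1 v.2 _ (fun h => hv (Subtype.ext h))
      rw [← MulAut.conjNormal_apply, hkv]
  refine ⟨p, hp, ?_⟩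
  rw [← Nat.card_eq_fintype_card, ← hcardN, hmain]

end Cfsg.Agent.S0341
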