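import Cfsg.Statements.S0370
import Cfsg.Agent.Helper7.Basic

set_option autoImplicit false
open Cfsg

namespace Cfsg.Agent.S0370

open Cfsg.Agent.Helper7 in
/-- The permutation x ↦ x + 1 of the residues modulo 23, fixing the extra point, lies in the group of the length-24 code. -/
theorem result : Equiv.optionCongr (Equiv.addRight (1 : ZMod 23)) ∈ Cfsg.M24 := by
  apply mem_M24_of_gens
  intro t
  have : permL (Equiv.optionCongr (Equiv.addRight (1 : ZMod 23))) (qrWord t) = qrWord (t + 1) := by
    funext p
    rw [permL_apply]
    cases p with
    | none => rfl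
    | some x =>
      have h1 : (Equiv.optionCongr (Equiv.addRight (1 : ZMod 23))).symm (some x) = some (x - 1) := by
        simp [Equiv.optionCongr, sub_eq_add_neg]
      rw [h1]
      simp only [qrWord]
      have : (∃ r : ZMod 23, x - 1 = r ^ 2 + t) ↔ (∃ r : ZMod 23, x = r ^ 2 + (t + 1)) := by
        constructor
        · rintro ⟨r, hr⟩
          exact ⟨r, by linear_combination hr⟩
        · rintro ⟨r, hr⟩
          exact ⟨r, by linear_combination hr⟩
      simp only [this]
  rw [this]
  exact qrWord_mem _

end Cfsg.Agent.S0370
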