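import Cfsg.Statements.S0371
import Cfsg.Agent.Helper7.Basic

set_option autoImplicit false
open Cfsg

namespace Cfsg.Agent.S0371

open Cfsg.Agent.Helper7 in
/-- Multiplication by a nonzero square residue modulo 23, fixing the extra point, lies in the group of the length-24 code. -/
theorem result (u : (ZMod 23)ˣ) (hu : IsSquare u) : Equiv.optionCongr (Units.mulLeft u) ∈ Cfsg.M24 := by
  obtain ⟨v, rfl⟩ := hu
  apply mem_M24_of_gens
  intro t
  have : permL (Equiv.optionCongr (Units.mulLeft (v * v))) (qrWord t) = qrWord (((v * v : (ZMod 23)ˣ) : ZMod 23) * t) := by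
    funext p
    rw [permL_apply]
    cases p with
    | none => rfl
    | some x =>
      have h1 : (Equiv.optionCongr (Units.mulLeft (v * v))).symm (some x)
          = some (((v * v)⁻¹ : (ZMod 23)ˣ) * x) := by
        simp [Equiv.optionCongr]
      rw [h1]
      simp only [qrWord]
      have hv : (v : ZMod 23) * ((v⁻¹ : (ZMod 23)ˣ) : ZMod 23) = 1 := by
        rw [← Units.val_mul]; simp
      have hv' : ((v⁻¹ : (ZMod 23)ˣ) : ZMod 23) * (v : ZMod 23) = 1 := by
        rw [← Units.val_mul]; simp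
      have : (∃ r : ZMod 23, (((v * v)⁻¹ : (ZMod 23)ˣ) : ZMod 23) * x = r ^ 2 + t) ↔
          (∃ r : ZMod 23, x = r ^ 2 + ((v * v : (ZMod 23)ˣ) : ZMod 23) * t) := by
        simp only [mul_inv_rev, Units.val_mul]
        constructor
        · rintro ⟨r, hr⟩
          refine ⟨v * r, ?_⟩
          linear_combination (v : ZMod 23) * v * hr + (- x * ((v⁻¹ : (ZMod 23)ˣ) : ZMod 23) * v - x) * hv'
        · rintro ⟨r, hr⟩
          refine ⟨((v⁻¹ : (ZMod 23)ˣ) : ZMod 23) * r, ?_⟩
          linear_combination ((v⁻¹ : (ZMod 23)ˣ) : ZMod 23) * ((v⁻¹ : (ZMod 23)ˣ) : ZMod 23) * hr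
            + (t * ((v⁻¹ : (ZMod 23)ˣ) : ZMod 23) * v + t) * hv'
      simp only [this]
  rw [this]
  exact qrWord_mem _

end Cfsg.Agent.S0371
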