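import Cfsg.Statements.S0375
import Cfsg.Agent.Helper92.Steiner24
import Cfsg.Agent.Helper93.SelfDualCode
import Cfsg.Agent.Helper7.OctadSpan

set_option autoImplicit false
open Cfsg

namespace Cfsg.Agent.S0375

open Cfsg.Agent.Helper93 Cfsg.Agent.Helper92

theorem isGolayLike {C : Submodule (ZMod 2) (Fin 24 → ZMod 2)}
    (hdim : Module.finrank (ZMod 2) C = 12) (horth : ∀ v ∈ C, ∀ w ∈ C, ∑ i, v i * w i = 0)
    (h4 : ∀ w ∈ C, 4 ∣ hammingNorm w) (hno4 : ∀ w ∈ C, hammingNorm w ≠ 4) : IsGolayLike C := by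
  refine ⟨hdim, horth, fun w hw hw0 => ?_⟩
  have h1 := h4 w hw
  have h2 := hno4 w hw
  have h3 : hammingNorm w ≠ 0 := by rwa [Ne, hammingNorm_eq_zero]
  omega

theorem steiner_of_golayLike {C : Submodule (ZMod 2) (Fin 24 → ZMod 2)} (hC : IsGolayLike C) :
    IsSteinerSystem 5 8 (wordsOfWeight (C : Set (Fin 24 → ZMod 2)) 8) := by
  refine ⟨fun b hb => hb.2, fun s hs => ?_⟩
  obtain ⟨c, hc, h8, hsc⟩ := hC.exists_octad s hs
  refine ⟨support₂ c, ⟨⟨⟨c, hc, rfl⟩, h8⟩, hsc⟩, ?_⟩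
  rintro b ⟨⟨⟨c', hc', rfl⟩, h8'⟩, hsc'⟩
  rw [hC.octad_unique hc' hc h8' h8 s hs hsc' hsc]

theorem image_support₂_comp (e : Fin 24 ≃ GolayPt) (w : GolayPt → ZMod 2) :
    (support₂ (fun i => w (e i))).image e = support₂ w := by
  ext p
  simp only [support₂, Finset.mem_image, Finset.mem_filter, Finset.mem_univ, true_and]
  constructor
  · rintro ⟨i, hi, rfl⟩
    exact hi
  · intro hp
    exact ⟨e.symm p, by simpa using hp, by simp⟩

/-- Uniqueness of the binary Golay code: a doubly even self-orthogonal code of length 24 and dimension 12 with no word of weight 4 is obtained from the length-24 code by a bijection of coordinates. -/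
theorem result (C : Submodule (ZMod 2) (Fin 24 → ZMod 2)) (hdim : Module.finrank (ZMod 2) C = 12) (horth : ∀ v ∈ C, ∀ w ∈ C, ∑ i, v i * w i = 0) (h4 : ∀ w ∈ C, 4 ∣ hammingNorm w) (hno4 : ∀ w ∈ C, hammingNorm w ≠ 4) : ∃ e : Fin 24 ≃ Cfsg.GolayPt, ∀ w : Cfsg.GolayPt → ZMod 2, w ∈ Cfsg.golayCode ↔ (fun i => w (e i)) ∈ C := by
  have hC := isGolayLike hdim horth h4 hno4
  obtain ⟨e, he⟩ := steiner24_iso_octads (by simp : Fintype.card (Fin 24) = 24)
    (steiner_of_golayLike hC)
  refine ⟨e, ?_⟩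
  let Φ : (GolayPt → ZMod 2) ≃ₗ[ZMod 2] (Fin 24 → ZMod 2) :=
    LinearEquiv.funCongrLeft (ZMod 2) (ZMod 2) e
  have hΦ : ∀ w, Φ w = fun i => w (e i) := fun w => rfl
  have hmap : Submodule.map (Φ : (GolayPt → ZMod 2) →ₗ[ZMod 2] (Fin 24 → ZMod 2)) golayCode = C := by
    rw [Cfsg.Agent.Helper7.golayCode_eq_span_octW, Submodule.map_span, ← hC.span_octads]
    congr 1
    ext c
    constructor
    · rintro ⟨w, ⟨hw, hw8⟩, rfl⟩
      have ho : support₂ w ∈ octads := (Cfsg.Agent.Helper7.mem_octads_iff _).2 ⟨w, hw, rfl, hw8⟩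
      rw [← he] at ho
      obtain ⟨_, ⟨⟨c, hc, rfl⟩, hc8⟩, hcw⟩ := ho
      have h1 : support₂ (Φ w) = support₂ c := by
        apply Finset.image_injective e.injective
        have hcw' : (support₂ c).image e = support₂ w := hcw
        rw [hcw']
        exact image_support₂_comp e w
      have h2 : Φ w = c := Cfsg.Agent.Helper27.support₂_injective h1
      show Φ w ∈ _
      rw [h2]
      exact ⟨hc, hc8⟩
    · rintro ⟨hc, hc8⟩
      have ho : (support₂ c).image e ∈ octads := by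
        rw [← he]
        exact ⟨support₂ c, ⟨⟨c, hc, rfl⟩, hc8⟩, rfl⟩
      rw [Cfsg.Agent.Helper7.mem_octads_iff] at ho
      obtain ⟨w, hw, hsw, hw8⟩ := ho
      refine ⟨w, ⟨hw, ?_⟩, ?_⟩
      · rw [hsw, Finset.card_image_of_injective _ e.injective]
        exact hc8
      · have h1 : support₂ (Φ w) = support₂ c := by
          apply Finset.image_injective e.injective
          rw [← hsw]
          exact image_support₂_comp e w
        exact Cfsg.Agent.Helper27.support₂_injective h1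
  intro w
  rw [← hΦ, ← hmap]
  constructor
  · intro hw
    exact ⟨w, hw, rfl⟩
  · rintro ⟨w', hw', h⟩
    have : w' = w := Φ.injective h
    rwa [← this]

end Cfsg.Agent.S0375
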