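import Cfsg.Statements.S0412
import Cfsg.Agent.Helper92.Steiner24
import Cfsg.Agent.Helper92.SteinerAut
import Cfsg.Agent.Helper7.OctadSpan
import Cfsg.Agent.Helper7.M24Simple
import Cfsg.Agent.Helper7.M24Trans

set_option autoImplicit false
open Cfsg

namespace Cfsg.Agent.S0412

/-- Aut of an S(5, 8, 24) is simple of order 244823040 and 5-transitive on points. -/
theorem result {α : Type*} [Fintype α] [DecidableEq α] (hα : Fintype.card α = 24) {B : Set (Finset α)} (hB : Cfsg.IsSteinerSystem 5 8 B) : Cfsg.IsM24 (Cfsg.setSystemAut B) ∧ MulAction.IsMultiplyPretransitive (Cfsg.setSystemAut B) α 5 := by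
  obtain ⟨e, he⟩ := Cfsg.Agent.Helper92.steiner24_iso_octads hα hB
  have he' : Cfsg.Agent.Helper92.mapSys e B = octads := he
  have key : IsM24 (setSystemAut (Cfsg.Agent.Helper92.mapSys e B)) ∧
      MulAction.IsMultiplyPretransitive (setSystemAut (Cfsg.Agent.Helper92.mapSys e B)) GolayPt 5 := by
    rw [he', ← Cfsg.Agent.Helper7.M24_eq_setSystemAut_octads]
    exact ⟨⟨Cfsg.Agent.Helper7.m24_simple, Cfsg.Agent.Helper7.card_M24⟩,
      Cfsg.Agent.Helper7.m24_five_transitive⟩
  refine ⟨⟨?_, ?_⟩, ?_⟩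
  · have := key.1.1
    exact (Cfsg.Agent.Helper92.autCongr e B).isSimpleGroup
  · rw [Nat.card_congr (Cfsg.Agent.Helper92.autCongr e B).toEquiv]
    exact key.1.2
  · exact Cfsg.Agent.Helper92.isMultiplyPretransitive_of_mapSys e B 5 key.2

end Cfsg.Agent.S0412
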