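import Cfsg.Statements.S0413
import Cfsg.Agent.Helper92.Steiner23Aut

set_option autoImplicit false
open Cfsg

namespace Cfsg.Agent.S0413

/-- Aut of an S(4, 7, 23) is simple of order 10200960 and 4-transitive on points. -/
theorem result {α : Type*} [Fintype α] [DecidableEq α] (hα : Fintype.card α = 23) {B : Set (Finset α)} (hB : Cfsg.IsSteinerSystem 4 7 B) : Cfsg.IsM23 (Cfsg.setSystemAut B) ∧ MulAction.IsMultiplyPretransitive (Cfsg.setSystemAut B) α 4 := by
  obtain ⟨e, he⟩ := Cfsg.Agent.Helper92.steiner23_iso_B23 hα hB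
  have he' : Cfsg.Agent.Helper92.mapSys e B = Cfsg.Agent.Helper92.B23 := he
  have key : IsM23 (setSystemAut (Cfsg.Agent.Helper92.mapSys e B)) ∧
      MulAction.IsMultiplyPretransitive (setSystemAut (Cfsg.Agent.Helper92.mapSys e B))
        (ZMod 23) 4 := by
    rw [he']
    exact ⟨Cfsg.Agent.Helper92.isM23_setSystemAut_B23, Cfsg.Agent.Helper92.b23_four_transitive⟩
  refine ⟨⟨?_, ?_⟩, ?_⟩
  · have := key.1.1
    exact (Cfsg.Agent.Helper92.autCongr e B).isSimpleGroup
  · rw [Nat.card_congr (Cfsg.Agent.Helper92.autCongr e B).toEquiv]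
    exact key.1.2
  · exact Cfsg.Agent.Helper92.isMultiplyPretransitive_of_mapSys e B 4 key.2

end Cfsg.Agent.S0413
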