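import Cfsg.Statements.S0425
import Cfsg.Agent.Helper92.Steiner12Aut
import Cfsg.Agent.S0408

set_option autoImplicit false
open Cfsg

namespace Cfsg.Agent.S0425

open Cfsg.Agent.Helper92 in
/-- Aut of an S(5, 6, 12) is simple of order 95040 and sharply 5-transitive on points. -/
theorem result {α : Type*} [Fintype α] [DecidableEq α] (hα : Fintype.card α = 12) {B : Set (Finset α)} (hB : Cfsg.IsSteinerSystem 5 6 B) : Cfsg.IsM12 (Cfsg.setSystemAut B) ∧ MulAction.IsMultiplyPretransitive (Cfsg.setSystemAut B) α 5 ∧ ∀ x : Fin 5 ↪ α, MulAction.stabilizer (Cfsg.setSystemAut B) x = ⊥ := by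
  obtain ⟨e, he⟩ := Cfsg.Agent.S0408.result hα card_D12 hB HexD_steiner
  have he' : mapSys e B = HexD := he
  have key : ∀ B' : Set (Finset D12), B' = HexD →
      (IsM12 (setSystemAut B') ∧ MulAction.IsMultiplyPretransitive (setSystemAut B') D12 5 ∧
        ∀ x : Fin 5 ↪ D12, MulAction.stabilizer (setSystemAut B') x = ⊥) := by
    rintro _ rfl
    exact ⟨isM12_aut_HexD, hexD_five_transitive, hexD_sharp⟩
  obtain ⟨k1, k2, k3⟩ := key _ he'
  refine ⟨⟨?_, ?_⟩, ?_, ?_⟩
  · have := k1.1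
    exact (autCongr e B).isSimpleGroup
  · rw [Nat.card_congr (autCongr e B).toEquiv]
    exact k1.2
  · exact isMultiplyPretransitive_of_mapSys e B 5 k2
  · exact stabilizer_eq_bot_of_mapSys e B 5 k3

end Cfsg.Agent.S0425
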