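import Cfsg.Statements.S0426
import Cfsg.Agent.Helper92.Steiner11Aut

set_option autoImplicit false
open Cfsg

namespace Cfsg.Agent.S0426

open Cfsg.Agent.Helper92 in
/-- Aut of an S(4, 5, 11) is simple of order 7920 and sharply 4-transitive on points. -/
theorem result {α : Type*} [Fintype α] [DecidableEq α] (hα : Fintype.card α = 11) {B : Set (Finset α)} (hB : Cfsg.IsSteinerSystem 4 5 B) : Cfsg.IsM11 (Cfsg.setSystemAut B) ∧ MulAction.IsMultiplyPretransitive (Cfsg.setSystemAut B) α 4 ∧ ∀ x : Fin 4 ↪ α, MulAction.stabilizer (Cfsg.setSystemAut B) x = ⊥ := by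
  obtain ⟨e, he⟩ := steiner11_iso_B11 hα hB
  have he' : mapSys e B = B11 := he
  have key : ∀ B' : Set (Finset (Fin 11)), B' = B11 →
      (IsM11 (setSystemAut B') ∧ MulAction.IsMultiplyPretransitive (setSystemAut B') (Fin 11) 4 ∧
        ∀ x : Fin 4 ↪ Fin 11, MulAction.stabilizer (setSystemAut B') x = ⊥) := by
    rintro _ rfl
    exact ⟨isM11_aut_B11, b11_four_transitive, b11_sharp⟩
  obtain ⟨k1, k2, k3⟩ := key _ he'
  refine ⟨⟨?_, ?_⟩, ?_, ?_⟩
  · have := k1.1
    exact (autCongr e B).isSimpleGroup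
  · rw [Nat.card_congr (autCongr e B).toEquiv]
    exact k1.2
  · exact isMultiplyPretransitive_of_mapSys e B 4 k2
  · exact stabilizer_eq_bot_of_mapSys e B 4 k3

end Cfsg.Agent.S0426
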