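import Cfsg.Statements.S0427
import Cfsg.Agent.Helper8.Steiner22

set_option autoImplicit false
open Cfsg

namespace Cfsg.Agent.S0427

open Cfsg.Agent.Helper26 Cfsg.Agent.Helper8

/-- counting a set of blocks given as a set in the subtype -/
theorem card_subtype_set {α : Type*} {B : Set (Finset α)} (S : Set B) [Fintype S]
    (P : Finset α → Prop) (h : ∀ u : B, u ∈ S ↔ P u.1) :
    Fintype.card S = {d | d ∈ B ∧ P d}.ncard := by
  rw [Fintype.card_eq_nat_card, Nat.card_coe_set_eq,
    ← Set.ncard_image_of_injective S Subtype.val_injective]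
  congr 1
  ext d
  simp only [Set.mem_image, Set.mem_ofPred_eq]
  constructor
  · rintro ⟨u, hu, rfl⟩
    exact ⟨u.2, (h u).mp hu⟩
  · rintro ⟨hd, hP⟩
    exact ⟨⟨d, hd⟩, (h _).mpr hP, rfl⟩

/-- The block graph (adjacent = disjoint) of an S(3, 6, 22) is strongly regular with parameters (77, 16, 0, 4). -/
theorem result {α : Type*} [Fintype α] (hα : Fintype.card α = 22) {B : Set (Finset α)} (hB : Cfsg.IsSteinerSystem 3 6 B) [Fintype B] [DecidableRel (Cfsg.blockGraph B).Adj] : (Cfsg.blockGraph B).IsSRGWith 77 16 0 4 := by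
  classical
  have hcard6 : ∀ b ∈ B, b.card = 6 := hB.1
  have hne : ∀ b ∈ B, b.Nonempty := by
    intro b hb
    rw [← Finset.card_pos, hcard6 b hb]; norm_num
  -- adjacency
  have hadj : ∀ v w : B, (Cfsg.blockGraph B).Adj v w ↔ (w.1 ∩ v.1).card = 0 := by
    intro v w
    unfold Cfsg.blockGraph
    rw [SimpleGraph.fromRel_adj, Finset.card_eq_zero, ← Finset.disjoint_iff_inter_eq_empty]
    constructor
    · rintro ⟨_, h | h⟩
      · exact h.symm
      · exact h
    · intro h
      refine ⟨?_, Or.inr h⟩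
      rintro rfl
      rw [disjoint_self] at h
      exact (hne _ v.2).ne_empty h
  have hcommon : ∀ v w u : B, u ∈ (Cfsg.blockGraph B).commonNeighbors v w ↔
      (u.1 ∩ (v.1 ∪ w.1)).card = 0 := by
    intro v w u
    rw [SimpleGraph.mem_commonNeighbors, hadj, hadj, Finset.card_eq_zero, Finset.card_eq_zero,
      Finset.card_eq_zero, Finset.inter_union_distrib_left, Finset.union_eq_empty]
  refine ⟨?_, ?_, ?_, ?_⟩
  · rw [Fintype.card_eq_nat_card, Nat.card_coe_set_eq]
    exact ncard_blocks_22 hα hB
  · intro v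
    rw [← SimpleGraph.card_neighborSet_eq_degree,
      card_subtype_set _ (fun d => (d ∩ v.1).card = 0) (fun u => by
        rw [SimpleGraph.mem_neighborSet, hadj])]
    exact (meetCount_3_6_22 hα hB v.2).1
  · intro v w hvw
    rw [card_subtype_set _ (fun d => (d ∩ (v.1 ∪ w.1)).card = 0) (fun u => hcommon v w u)]
    apply meetCount_union_disjoint hα hB v.2 w.2
    rw [hadj] at hvw
    rw [Finset.inter_comm]
    exact Finset.card_eq_zero.mp hvw
  · intro v w hne' hvw
    rw [card_subtype_set _ (fun d => (d ∩ (v.1 ∪ w.1)).card = 0) (fun u => hcommon v w u)]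
    apply meetCount_union_meeting hα hB v.2 w.2
    rw [hadj] at hvw
    rcases inter_cases hα hB v.2 w.2 with h | h | h
    · exact absurd h hvw
    · exact h
    · exact absurd (Subtype.ext h).symm hne'

end Cfsg.Agent.S0427
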