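import Cfsg.Statements.S0428
import Cfsg.Agent.Helper8.Steiner22

set_option autoImplicit false
open Cfsg

namespace Cfsg.Agent.S0428

open Cfsg.Agent.Helper26 Cfsg.Agent.Helper8

section adj

variable {α : Type*} (B : Set (Finset α))

theorem adj_none_inl (a : α) : (pointBlockGraph B).Adj none (some (Sum.inl a)) := by
  simp [pointBlockGraph, SimpleGraph.fromRel_adj, pointBlockRel]

theorem adj_none_inr (b : B) : ¬ (pointBlockGraph B).Adj none (some (Sum.inr b)) := by
  simp [pointBlockGraph, SimpleGraph.fromRel_adj, pointBlockRel]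

theorem adj_inl_inl (a a' : α) :
    ¬ (pointBlockGraph B).Adj (some (Sum.inl a)) (some (Sum.inl a')) := by
  simp [pointBlockGraph, SimpleGraph.fromRel_adj, pointBlockRel]

theorem adj_inl_inr (a : α) (b : B) :
    (pointBlockGraph B).Adj (some (Sum.inl a)) (some (Sum.inr b)) ↔ a ∈ b.1 := by
  simp [pointBlockGraph, SimpleGraph.fromRel_adj, pointBlockRel]

theorem adj_inr_inr (b c : B) :
    (pointBlockGraph B).Adj (some (Sum.inr b)) (some (Sum.inr c)) ↔
      b ≠ c ∧ (Disjoint b.1 c.1 ∨ Disjoint c.1 b.1) := by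
  simp [pointBlockGraph, SimpleGraph.fromRel_adj, pointBlockRel]

theorem adj_inl_none (a : α) : (pointBlockGraph B).Adj (some (Sum.inl a)) none :=
  (adj_none_inl B a).symm

theorem adj_inr_none (b : B) : ¬ (pointBlockGraph B).Adj (some (Sum.inr b)) none :=
  fun h => adj_none_inr B b h.symm

theorem adj_inr_inl (a : α) (b : B) :
    (pointBlockGraph B).Adj (some (Sum.inr b)) (some (Sum.inl a)) ↔ a ∈ b.1 := by
  rw [SimpleGraph.adj_comm, adj_inl_inr]

end adj

theorem ncard_eq_sum_ite {γ : Type*} [Fintype γ] (T : Set γ) [DecidablePred (· ∈ T)] :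
    T.ncard = ∑ x, if x ∈ T then 1 else 0 := by
  rw [Set.ncard_eq_toFinset_card', Set.toFinset_card, Fintype.card_subtype, Finset.card_filter]

theorem ncard_set_option_sum {α β : Type*} [Fintype α] [Fintype β] (S : Set (Option (α ⊕ β)))
    [Decidable (none ∈ S)] :
    S.ncard = (if none ∈ S then 1 else 0) + {a | some (Sum.inl a) ∈ S}.ncard +
      {b | some (Sum.inr b) ∈ S}.ncard := by
  classical
  rw [ncard_eq_sum_ite S, ncard_eq_sum_ite,
    ncard_eq_sum_ite, Fintype.sum_option, Fintype.sum_sum_type]
  simp only [Set.mem_ofPred_eq]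
  rw [add_assoc]
  congr 1
  split_ifs <;> rfl

/-- counting a set of blocks given as a set in the subtype -/
theorem ncard_subtype_set {α : Type*} {B : Set (Finset α)} (S : Set B)
    (P : Finset α → Prop) (h : ∀ u : B, u ∈ S ↔ P u.1) :
    S.ncard = {d | d ∈ B ∧ P d}.ncard := by
  rw [← Set.ncard_image_of_injective S Subtype.val_injective]
  congr 1
  ext d
  simp only [Set.mem_image, Set.mem_ofPred_eq]
  constructor
  · rintro ⟨u, hu, rfl⟩
    exact ⟨u.2, (h u).mp hu⟩
  · rintro ⟨hd, hP⟩
    exact ⟨⟨d, hd⟩, (h _).mpr hP, rfl⟩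

section main

variable {α : Type*} [Fintype α] [DecidableEq α] {B : Set (Finset α)} [Fintype B]

theorem adj_blocks (hB : IsSteinerSystem 3 6 B) (b c : B) :
    (pointBlockGraph B).Adj (some (Sum.inr b)) (some (Sum.inr c)) ↔ (c.1 ∩ b.1).card = 0 := by
  have hne : ∀ b ∈ B, b.Nonempty := by
    intro b hb
    rw [← Finset.card_pos, hB.1 b hb]; norm_num
  rw [adj_inr_inr, Finset.card_eq_zero, ← Finset.disjoint_iff_inter_eq_empty]
  constructor
  · rintro ⟨_, h | h⟩
    · exact h.symm
    · exact h
  · intro h
    refine ⟨?_, Or.inr h⟩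
    rintro rfl
    rw [disjoint_self] at h
    exact (hne _ b.2).ne_empty h

open Classical in
/-- the three parts of the set of common neighbours -/
theorem ncard_common (v w : Option (α ⊕ B)) :
    ((pointBlockGraph B).commonNeighbors v w).ncard =
      (if ((pointBlockGraph B).Adj v none ∧ (pointBlockGraph B).Adj w none) then 1 else 0) +
      {a | (pointBlockGraph B).Adj v (some (Sum.inl a)) ∧
        (pointBlockGraph B).Adj w (some (Sum.inl a))}.ncard +
      {u : B | (pointBlockGraph B).Adj v (some (Sum.inr u)) ∧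
        (pointBlockGraph B).Adj w (some (Sum.inr u))}.ncard := by
  classical
  rw [ncard_set_option_sum]
  simp only [SimpleGraph.mem_commonNeighbors]

open Classical in
theorem ncard_neighbors (v : Option (α ⊕ B)) :
    ((pointBlockGraph B).neighborSet v).ncard =
      (if (pointBlockGraph B).Adj v none then 1 else 0) +
      {a | (pointBlockGraph B).Adj v (some (Sum.inl a))}.ncard +
      {u : B | (pointBlockGraph B).Adj v (some (Sum.inr u))}.ncard := by
  classical
  rw [ncard_set_option_sum]
  simp only [SimpleGraph.mem_neighborSet]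

end main

/-- The point-block graph of an S(3, 6, 22) is strongly regular with parameters (100, 22, 0, 6). -/
theorem result {α : Type*} [Fintype α] (hα : Fintype.card α = 22) {B : Set (Finset α)} (hB : Cfsg.IsSteinerSystem 3 6 B) [Fintype B] [DecidableRel (Cfsg.pointBlockGraph B).Adj] : (Cfsg.pointBlockGraph B).IsSRGWith 100 22 0 6 := by
  classical
  have hcardB : Fintype.card B = 77 := by
    rw [Fintype.card_eq_nat_card, Nat.card_coe_set_eq]
    exact ncard_blocks_22 hα hB
  have hadjBB := adj_blocks hB
  -- sizes of the three kinds of sets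
  have hPall : ({a | True} : Set α).ncard = 22 := by
    rw [Set.setOf_true, Set.ncard_univ, Nat.card_eq_fintype_card, hα]
  have hPb : ∀ b : B, ({a | a ∈ b.1} : Set α).ncard = 6 := by
    intro b
    have : ({a | a ∈ b.1} : Set α) = (↑b.1 : Set α) := rfl
    rw [this, Set.ncard_coe_finset, hB.1 _ b.2]
  have hPbc : ∀ b c : B, ({a | a ∈ b.1 ∧ a ∈ c.1} : Set α).ncard = (c.1 ∩ b.1).card := by
    intro b c
    have : ({a | a ∈ b.1 ∧ a ∈ c.1} : Set α) = (↑(c.1 ∩ b.1) : Set α) := by
      ext a; simp [and_comm]
    rw [this, Set.ncard_coe_finset]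
  have hBthrough : ∀ a : α, ({u : B | a ∈ u.1} : Set B).ncard = 21 := by
    intro a
    exact (ncard_subtype_set _ (fun d => a ∈ d) (fun u => Iff.rfl)).trans
      (ncard_through_point hα hB a)
  have hBpair : ∀ a a' : α, a ≠ a' → ({u : B | a ∈ u.1 ∧ a' ∈ u.1} : Set B).ncard = 5 := by
    intro a a' h
    exact (ncard_subtype_set _ (fun d => a ∈ d ∧ a' ∈ d) (fun u => Iff.rfl)).trans
      (ncard_through_pair hα hB h)
  have hBdisj : ∀ b : B, ({u : B | (u.1 ∩ b.1).card = 0} : Set B).ncard = 16 := by
    intro b
    exact (ncard_subtype_set _ (fun d => (d ∩ b.1).card = 0) (fun u => Iff.rfl)).trans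
      (meetCount_3_6_22 hα hB b.2).1
  have hBptdisj : ∀ (a : α) (b : B), a ∉ b.1 →
      ({u : B | a ∈ u.1 ∧ (u.1 ∩ b.1).card = 0} : Set B).ncard = 6 := by
    intro a b h
    refine (ncard_subtype_set _ (fun d => a ∈ d ∧ (d ∩ b.1).card = 0) (fun u => Iff.rfl)).trans ?_
    have := ncard_through_point_disjoint hα hB b.2 h
    simp only [Finset.card_eq_zero]
    exact this
  have hBptin : ∀ (a : α) (b : B), a ∈ b.1 →
      ({u : B | a ∈ u.1 ∧ (u.1 ∩ b.1).card = 0} : Set B) = ∅ := by
    intro a b h
    ext u
    simp only [Set.mem_ofPred_eq, Set.mem_empty_iff_false, iff_false, not_and, Finset.card_eq_zero]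
    intro hu hub
    have : a ∈ u.1 ∩ b.1 := Finset.mem_inter.mpr ⟨hu, h⟩
    rw [hub] at this
    simp at this
  have hBboth : ∀ b c : B, ({u : B | (u.1 ∩ b.1).card = 0 ∧ (u.1 ∩ c.1).card = 0} : Set B).ncard =
      meetCount B (b.1 ∪ c.1) 0 := by
    intro b c
    refine (ncard_subtype_set _ (fun d => (d ∩ b.1).card = 0 ∧ (d ∩ c.1).card = 0)
      (fun u => Iff.rfl)).trans ?_
    unfold meetCount
    congr 1
    ext d
    simp only [Set.mem_ofPred_eq, Finset.card_eq_zero, Finset.inter_union_distrib_left,
      Finset.union_eq_empty]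
  refine ⟨?_, ?_, ?_, ?_⟩
  · rw [Fintype.card_option, Fintype.card_sum, hα, hcardB]
  · intro v
    rw [← SimpleGraph.card_neighborSet_eq_degree, Fintype.card_eq_nat_card, Nat.card_coe_set_eq,
      ncard_neighbors]
    rcases v with _ | a | b
    · simp only [SimpleGraph.irrefl, adj_none_inl, adj_none_inr, if_false, hPall, Set.ofPred_false, Set.ncard_empty]
    · simp only [adj_inl_none, adj_inl_inl, adj_inl_inr, if_true, Set.ofPred_false, Set.ncard_empty, hBthrough]
    · simp only [adj_inr_none, adj_inr_inl, hadjBB, if_false, hPb, hBdisj]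
  · intro v w hvw
    rw [Fintype.card_eq_nat_card, Nat.card_coe_set_eq, ncard_common]
    rcases v with _ | a | b <;> rcases w with _ | a' | c
    · exact absurd hvw (SimpleGraph.irrefl _)
    · simp only [SimpleGraph.irrefl, adj_none_inl, adj_none_inr, adj_inl_inl, adj_inl_none,
        adj_inl_inr, false_and, and_false, if_false, Set.ofPred_false, Set.ncard_empty]
    · exact absurd hvw (adj_none_inr B c)
    · simp only [SimpleGraph.irrefl, adj_none_inl, adj_none_inr, adj_inl_inl, adj_inl_none,
        adj_inl_inr, false_and, and_false, if_false, Set.ofPred_false, Set.ncard_empty]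
    · exact absurd hvw (adj_inl_inl B a a')
    · rw [adj_inl_inr] at hvw
      simp only [adj_inl_none, adj_inr_none, adj_inl_inl, adj_inl_inr, adj_inr_inl, hadjBB,
        false_and, and_false, if_false, Set.ofPred_false, hBptin a c hvw, Set.ncard_empty]
    · exact absurd hvw (adj_inr_none B b)
    · rw [adj_inr_inl] at hvw
      have h1 := hBptin a' b hvw
      have h2 : ({u : B | (u.1 ∩ b.1).card = 0 ∧ a' ∈ u.1} : Set B) = ∅ := by
        rw [← h1]; ext u; simp only [Set.mem_ofPred_eq, and_comm]
      simp only [adj_inl_none, adj_inr_none, adj_inl_inl, adj_inl_inr, adj_inr_inl, hadjBB,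
        false_and, and_false, if_false, Set.ofPred_false, h2, Set.ncard_empty]
    · rw [hadjBB] at hvw
      simp only [adj_inr_none, adj_inr_inl, hadjBB, false_and, if_false, hPbc, hBboth, hvw]
      rw [meetCount_union_disjoint hα hB b.2 c.2 (by
        rw [Finset.inter_comm]
        exact Finset.card_eq_zero.mp hvw)]
  · intro v w hne hvw
    rw [Fintype.card_eq_nat_card, Nat.card_coe_set_eq, ncard_common]
    rcases v with _ | a | b <;> rcases w with _ | a' | c
    · exact absurd rfl hne
    · exact absurd (adj_none_inl B a') hvw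
    · simp only [SimpleGraph.irrefl, adj_none_inl, adj_none_inr, adj_inr_none, adj_inr_inl,
        false_and, and_false, true_and, if_false, Set.ofPred_false, Set.ncard_empty, hPb]
    · exact absurd (adj_inl_none B a) hvw
    · have haa : a ≠ a' := fun h => hne (by rw [h])
      simp only [adj_inl_none, adj_inl_inl, adj_inl_inr, false_and, and_self, if_true, Set.ofPred_false, Set.ncard_empty,
        hBpair a a' haa]
    · rw [adj_inl_inr] at hvw
      simp only [adj_inl_none, adj_inr_none, adj_inl_inl, adj_inl_inr, adj_inr_inl, hadjBB,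
        false_and, and_false, if_false, Set.ofPred_false, Set.ncard_empty, hBptdisj a c hvw]
    · simp only [SimpleGraph.irrefl, adj_none_inl, adj_none_inr, adj_inr_none, adj_inr_inl,
        false_and, and_false, and_true, if_false, Set.ofPred_false, Set.ncard_empty, hPb]
    · rw [adj_inr_inl] at hvw
      have h1 := hBptdisj a' b hvw
      have h2 : ({u : B | (u.1 ∩ b.1).card = 0 ∧ a' ∈ u.1} : Set B).ncard = 6 := by
        rw [← h1]; congr 1; ext u; simp only [Set.mem_ofPred_eq, and_comm]
      simp only [adj_inl_none, adj_inr_none, adj_inl_inl, adj_inl_inr, adj_inr_inl, hadjBB,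
        false_and, and_false, if_false, Set.ofPred_false, Set.ncard_empty, h2]
    · rw [hadjBB] at hvw
      have hbc : b ≠ c := fun h => hne (by rw [h])
      have h2 : (c.1 ∩ b.1).card = 2 := by
        rcases inter_cases hα hB b.2 c.2 with h | h | h
        · exact absurd h hvw
        · exact h
        · exact absurd (Subtype.ext h).symm hbc
      simp only [adj_inr_none, adj_inr_inl, hadjBB, false_and, if_false, hPbc, hBboth, h2]
      rw [meetCount_union_meeting hα hB b.2 c.2 h2]

end Cfsg.Agent.S0428
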