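import Cfsg.Statements.S0434
import Cfsg.Agent.Helper68.M11ThreeE
-- import your own Cfsg.Agent.* helpers here

set_option autoImplicit false
open Cfsg

namespace Cfsg.Agent.S0434

/-- Sylow 3-normalisers in a simple group of order 7920 have order 144 (so there are 55 Sylow 3-subgroups). -/
theorem result {G : Type*} [Group G] [Finite G] (hG : Cfsg.IsM11 G) (P : Sylow 3 G) : Nat.card (Subgroup.normalizer ((P : Subgroup G) : Set G)) = 144 := by
  classical
  obtain ⟨hs, hc⟩ := hG
  haveI := hs
  letI : Fintype G := Fintype.ofFinite G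
  letI : Fintype (Cfsg.IrrCharacter G) := Cfsg.Agent.Helper74.irrFintype G
  haveI : Fact (Nat.Prime 3) := ⟨by norm_num⟩
  obtain ⟨T⟩ := Cfsg.Agent.Helper20.M11.exists_tab hc
  exact Cfsg.Agent.Helper68.M11Three.card_normalizer_sylow3 hc T P

end Cfsg.Agent.S0434
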