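import Cfsg.Statements.S0437
import Cfsg.Agent.S0436

set_option autoImplicit false
open Cfsg

namespace Cfsg.Agent.S0437

open Cfsg.Agent.S0436 in
/-- the all-braid case: `a = e`. -/
theorem aux {G : Type*} [Group G] {a b c e : G} (ha : a * a = 1) (hb : b * b = 1) (hc : c * c = 1)
    (he : e * e = 1) (hab : a * b = b * a) (hac : a * c = c * a) (hbc : b * c = c * b)
    (hea : e * a * e = a * e * a) (heb : e * b * e = b * e * b) (hec : e * c * e = c * e * c)
    (h : e * (a * b * c) = a * b * c * e) : a = e := by
  have h1 : a * e * a * (b * e * b) * (c * e * c) = a * b * c := by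
    rw [← hea, ← heb, ← hec]
    calc e * a * e * (e * b * e) * (e * c * e) = e * a * (e * e) * b * (e * e) * c * e := by group
      _ = e * (a * b * c) * e := by rw [he]; group
      _ = a * b * c * e * e := by rw [h]
      _ = a * b * c := by rw [mul_assoc, he, mul_one]
  have h2 : a * (b * e * b) * c = b * e * b := by
    have h2' : e * a * (b * e * b) * c * e = b := by
      apply mul_left_cancel (a := a)
      apply mul_right_cancel (b := c)
      calc a * (e * a * (b * e * b) * c * e) * c = a * e * a * (b * e * b) * (c * e * c) := by group
        _ = a * b * c := h1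
    calc a * (b * e * b) * c = e * (e * a * (b * e * b) * c * e) * e := by
          calc a * (b * e * b) * c = (e * e) * a * (b * e * b) * c * (e * e) := by rw [he]; group
            _ = e * (e * a * (b * e * b) * c * e) * e := by group
      _ = e * b * e := by rw [h2']
      _ = b * e * b := heb
  have h3 : a = b * e * c * e * b := by
    have hf : (b * e * b) * (b * e * b) = 1 := by
      calc (b * e * b) * (b * e * b) = b * e * (b * b) * e * b := by group
        _ = b * (e * e) * b := by rw [hb]; group
        _ = 1 := by rw [he, mul_one, hb]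
    calc a = a * ((b * e * b) * (c * c) * (b * e * b)) := by rw [hc, mul_one, hf, mul_one]
      _ = a * (b * e * b) * c * (c * (b * e * b)) := by group
      _ = (b * e * b) * (c * (b * e * b)) := by rw [h2]
      _ = b * e * (b * c * b) * e * b := by group
      _ = b * e * c * e * b := by rw [hbc, mul_assoc c b b, hb, mul_one]
  have h4 : a = e * c * e := by
    calc a = b * a * b := by rw [← hab, mul_assoc, hb, mul_one]
      _ = b * (b * e * c * e * b) * b := by rw [← h3]
      _ = (b * b) * e * c * e * (b * b) := by group
      _ = e * c * e := by rw [hb]; group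
  calc a = c * a * c := by rw [← hac, mul_assoc, hc, mul_one]
    _ = c * (c * e * c) * c := by rw [← hec, ← h4]
    _ = (c * c) * e * (c * c) := by group
    _ = e := by rw [hc]; group

/-- For three distinct, pairwise commuting members a, b, c of a set of 3-transpositions E, a member e of E centralises a * b * c if and only if it centralises each of a, b and c. -/
theorem result {G : Type*} [Group G] {E : Set G} (hE : Cfsg.IsThreeTranspositionSet E) {a b c e : G} (ha : a ∈ E) (hb : b ∈ E) (hc : c ∈ E) (he : e ∈ E) (hab : a ≠ b) (hac : a ≠ c) (hbc : b ≠ c) (h₁ : Commute a b) (h₂ : Commute a c) (h₃ : Commute b c) : Commute e (a * b * c) ↔ (Commute e a ∧ Commute e b ∧ Commute e c) := by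
  have ha2 := S0436.sq_of_order_two (hE.1 a ha)
  have hb2 := S0436.sq_of_order_two (hE.1 b hb)
  have hc2 := S0436.sq_of_order_two (hE.1 c hc)
  have he2 := S0436.sq_of_order_two (hE.1 e he)
  constructor
  · intro h
    -- if `e` commutes with one of them, then with all
    have key : ∀ {a b c : G}, a ∈ E → b ∈ E → a ≠ b → Commute a b → c * c = 1 →
        Commute e (a * b * c) → Commute e c → Commute e a ∧ Commute e b := by
      intro a b c ha hb hab hcab hc2 h hcc
      have : Commute e (a * b) := by
        have h5 : a * b = (a * b * c) * c := by rw [mul_assoc, hc2, mul_one]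
        rw [h5]
        exact h.mul_right hcc
      exact (S0436.result hE ha hb he hab hcab).1 this
    have hcase_c : Commute e c → (Commute e a ∧ Commute e b ∧ Commute e c) := by
      intro hcc
      obtain ⟨x, y⟩ := key ha hb hab h₁ hc2 h hcc
      exact ⟨x, y, hcc⟩
    have hcase_b : Commute e b → (Commute e a ∧ Commute e b ∧ Commute e c) := by
      intro hcb
      have h' : Commute e (a * c * b) := by
        have : a * c * b = a * b * c := by rw [mul_assoc, ← h₃.eq, ← mul_assoc]
        rw [this]; exact h
      obtain ⟨x, y⟩ := key ha hc hac h₂ hb2 h' hcb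
      exact ⟨x, hcb, y⟩
    have hcase_a : Commute e a → (Commute e a ∧ Commute e b ∧ Commute e c) := by
      intro hca
      have h' : Commute e (b * c * a) := by
        have : b * c * a = a * b * c := by
          rw [mul_assoc, (h₂.symm).eq, ← mul_assoc, (h₁.symm).eq]
        rw [this]; exact h
      obtain ⟨x, y⟩ := key hb hc hbc h₃ ha2 h' hca
      exact ⟨hca, x, y⟩
    rcases S0436.commute_or_braid he2 ha2 (hE.2 e he a ha) with hca | hbra
    · exact hcase_a hca
    rcases S0436.commute_or_braid he2 hb2 (hE.2 e he b hb) with hcb | hbrb
    · exact hcase_b hcb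
    rcases S0436.commute_or_braid he2 hc2 (hE.2 e he c hc) with hcc | hbrc
    · exact hcase_c hcc
    have hae : a = e := aux ha2 hb2 hc2 he2 h₁.eq h₂.eq h₃.eq hbra hbrb hbrc h.eq
    apply hcase_a
    rw [hae]
  · rintro ⟨h1, h2, h3⟩
    exact (h1.mul_right h2).mul_right h3

end Cfsg.Agent.S0437
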