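import Cfsg.Statements.S0439

set_option autoImplicit false
open Cfsg

namespace Cfsg.Agent.S0439

open Equiv in
/-- the product of two transpositions squares or cubes to one -/
theorem swap_mul_swap_pow {α : Type*} [Fintype α] [DecidableEq α] (a b c x : α) (hab : a ≠ b) (hcx : c ≠ x) :
    (swap a b * swap c x) ^ 2 = 1 ∨ (swap a b * swap c x) ^ 3 = 1 := by
  have three : ∀ {p q r : α}, p ≠ q → p ≠ r → q ≠ r → (swap p q * swap p r) ^ 3 = 1 := by
    intro p q r h1 h2 h3
    have := (Perm.isThreeCycle_swap_mul_swap_same h1 h2 h3).orderOf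
    rw [← this]; exact pow_orderOf_eq_one _
  by_cases hca : c = a
  · subst hca
    by_cases hxb : x = b
    · subst hxb
      left; rw [swap_mul_self, one_pow]
    · right; exact three hab hcx (Ne.symm hxb)
  · by_cases hcb : c = b
    · subst hcb
      by_cases hxa : x = a
      · subst hxa
        left; rw [swap_comm x c, swap_mul_self, one_pow]
      · right
        rw [swap_comm a c]
        exact three hab.symm hcx (Ne.symm hxa)
    · by_cases hxa : x = a
      · subst hxa
        right
        rw [swap_comm c x]
        exact three hab (Ne.symm hca) (Ne.symm hcb)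
      · by_cases hxb : x = b
        · subst hxb
          right
          rw [swap_comm a x, swap_comm c x]
          exact three hab.symm (Ne.symm hcb) (Ne.symm hca)
        · left
          have hdis : (swap a b).Disjoint (swap c x) := by
            apply Perm.disjoint_swap_swap
            simp only [List.nodup_cons, List.mem_cons, List.not_mem_nil, or_false, not_or,
              List.nodup_nil, and_true, not_false_eq_true]
            exact ⟨⟨hab, Ne.symm hca, Ne.symm hxa⟩, ⟨Ne.symm hcb, Ne.symm hxb⟩, hcx⟩
          have hc : Commute (swap a b) (swap c x) := hdis.commute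
          rw [hc.mul_pow, pow_two, pow_two, swap_mul_self, swap_mul_self, one_mul]

/-- In the symmetric group of degree n ≥ 2, the set of transpositions is a conjugacy class of 3-transpositions which generates the group. -/
theorem result (n : ℕ) (hn : 2 ≤ n) : Cfsg.IsThreeTranspositionClass {σ : Equiv.Perm (Fin n) | σ.IsSwap} := by
  refine ⟨⟨?_, ?_⟩, ?_, ?_⟩
  · intro d hd
    exact Equiv.Perm.IsSwap.orderOf hd
  · rintro d ⟨a, b, hab, rfl⟩ e ⟨c, x, hcx, rfl⟩
    exact swap_mul_swap_pow a b c x hab hcx
  · have h01 : (⟨0, by omega⟩ : Fin n) ≠ ⟨1, by omega⟩ := by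
      intro h
      have := congrArg Fin.val h
      simp at this
    refine ⟨Equiv.swap ⟨0, by omega⟩ ⟨1, by omega⟩, ⟨_, _, h01, rfl⟩, ?_⟩
    ext σ
    show σ.IsSwap ↔ IsConj _ σ
    constructor
    · rintro ⟨a, b, hab, rfl⟩
      exact Equiv.Perm.isConj_swap h01 hab
    · intro h
      rw [isConj_iff] at h
      obtain ⟨c, rfl⟩ := h
      rw [← Equiv.Perm.card_support_eq_two, Equiv.Perm.card_support_conj,
        Equiv.Perm.card_support_eq_two]
      exact ⟨_, _, h01, rfl⟩
  · exact Equiv.Perm.closure_isSwap

end Cfsg.Agent.S0439
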