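import Cfsg.Statements.S0440
import Cfsg.Agent.Helper13.SympGen2

set_option autoImplicit false
open Cfsg

namespace Cfsg.Agent.S0440

open Matrix Cfsg.Agent.Helper13

variable {n : ℕ}

local notation "Vec" => (Fin n ⊕ Fin n → ZMod 2)
local notation "Mat" => Matrix (Fin n ⊕ Fin n) (Fin n ⊕ Fin n) (ZMod 2)
local notation "Sp" => Matrix.symplecticGroup (Fin n) (ZMod 2)

theorem zmod2_cases (a : ZMod 2) : a = 0 ∨ a = 1 := by
  revert a; decide

theorem zmod2_eq_one {a : ZMod 2} (h : a ≠ 0) : a = 1 := by
  rcases zmod2_cases a with h' | h'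
  · exact absurd h' h
  · exact h'

theorem zmod2_neg (a : ZMod 2) : -a = a := by
  revert a; decide

theorem zmod2_add_self (a : ZMod 2) : a + a = 0 := by
  revert a; decide

theorem vec_add_self (x : Vec) : x + x = 0 := by
  funext i; exact zmod2_add_self (x i)

/-- the transvection with centre `w` -/
noncomputable def T (w : Vec) : Sp := sympTransvectionElt w 1

theorem T_coe (w : Vec) : ((T w : Sp) : Mat) = Cfsg.sympTransvection n w 1 := rfl

theorem T_mulVec (w x : Vec) :
    ((T w : Sp) : Mat) *ᵥ x = x + Cfsg.sympForm n (ZMod 2) x w • w := by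
  rw [T_coe, sympTransvection_mulVec, one_mul]

theorem sympForm_symm (u v : Vec) : Cfsg.sympForm n (ZMod 2) u v = Cfsg.sympForm n (ZMod 2) v u := by
  rw [sympForm_swap, zmod2_neg]

theorem symp_ext {A B : Sp} (h : ∀ x : Vec, (A : Mat) *ᵥ x = (B : Mat) *ᵥ x) : A = B :=
  Subtype.ext (matrix_eq_of_mulVec h)

theorem symp_preserves (A : Sp) (u v : Vec) :
    Cfsg.sympForm n (ZMod 2) ((A : Mat) *ᵥ u) ((A : Mat) *ᵥ v) = Cfsg.sympForm n (ZMod 2) u v :=
  (mem_symplecticGroup_iff_preserves (A : Mat)).mp A.2 u v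

theorem T_zero : T (0 : Vec) = 1 := by
  apply symp_ext
  intro x
  rw [T_mulVec, smul_zero, add_zero, symp_coe_one, Matrix.one_mulVec]

theorem T_mul_self (w : Vec) : T w * T w = 1 := by
  apply symp_ext
  intro x
  rw [symp_coe_mul, ← Matrix.mulVec_mulVec, T_mulVec, T_mulVec, symp_coe_one, Matrix.one_mulVec,
    sympForm_add_left, sympForm_smul_left, sympForm_self, mul_zero, add_zero, add_assoc,
    vec_add_self, add_zero]

theorem T_ne_one {w : Vec} (hw : w ≠ 0) : T w ≠ 1 := by
  intro h
  obtain ⟨x, hx⟩ := sympForm_nondeg_left hw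
  have h1 := T_mulVec w x
  rw [h, symp_coe_one, Matrix.one_mulVec, zmod2_eq_one hx, one_smul] at h1
  apply hw
  have : x + w = x + 0 := by rw [add_zero]; exact h1.symm
  exact add_left_cancel this

/-- conjugation of transvections -/
theorem conj_T (A : Sp) (w : Vec) : A * T w * A⁻¹ = T ((A : Mat) *ᵥ w) := by
  apply symp_ext
  intro x
  rw [symp_coe_mul, symp_coe_mul, ← Matrix.mulVec_mulVec, ← Matrix.mulVec_mulVec, T_mulVec,
    T_mulVec, Matrix.mulVec_add, symp_mulVec_inv_mulVec, Matrix.mulVec_smul]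
  congr 2
  rw [← symp_preserves A, symp_mulVec_inv_mulVec]

/-- the rank one elements are exactly the transvections -/
theorem rank_eq_one_iff (g : Sp) :
    ((g : Mat) - 1).rank = 1 ↔ ∃ w : Vec, w ≠ 0 ∧ g = T w := by
  have hN : ∀ x : Vec, ((g : Mat) - 1) *ᵥ x = (g : Mat) *ᵥ x - x := by
    intro x
    rw [Matrix.sub_mulVec, Matrix.one_mulVec]
  unfold Matrix.rank
  rw [finrank_eq_one_iff']
  constructor
  · rintro ⟨⟨u, hu⟩, hu0, hall⟩
    have hu0' : u ≠ 0 := fun h => hu0 (Subtype.ext h)
    obtain ⟨y0, hy0⟩ := hu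
    rw [Matrix.mulVecLin_apply] at hy0
    have hc : ∀ x : Vec, ∃ c : ZMod 2, c • u = ((g : Mat) - 1) *ᵥ x := by
      intro x
      obtain ⟨c, hc⟩ := hall ⟨((g : Mat) - 1) *ᵥ x, ⟨x, rfl⟩⟩
      exact ⟨c, congrArg Subtype.val hc⟩
    choose c hc using hc
    have hg : ∀ x : Vec, (g : Mat) *ᵥ x = x + c x • u := by
      intro x
      rw [hc x, hN]; abel
    have hcy0 : c y0 = 1 := by
      apply zmod2_eq_one
      intro h
      have := hc y0
      rw [h, zero_smul, hy0] at this
      exact hu0' this.symm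
    have key : ∀ x y : Vec, c y * Cfsg.sympForm n (ZMod 2) x u = c x * Cfsg.sympForm n (ZMod 2) y u := by
      intro x y
      have h := symp_preserves g x y
      rw [hg x, hg y] at h
      simp only [sympForm_add_left, sympForm_add_right, sympForm_smul_left, sympForm_smul_right,
        sympForm_self, mul_zero, add_zero] at h
      rw [sympForm_symm u y] at h
      -- h : f x y + c y * f x u + c x * f y u = f x y
      have h2 : c y * Cfsg.sympForm n (ZMod 2) x u + c x * Cfsg.sympForm n (ZMod 2) y u = 0 := by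
        linear_combination h
      calc c y * Cfsg.sympForm n (ZMod 2) x u
          = c y * Cfsg.sympForm n (ZMod 2) x u + (c x * Cfsg.sympForm n (ZMod 2) y u +
              c x * Cfsg.sympForm n (ZMod 2) y u) := by rw [zmod2_add_self, add_zero]
        _ = (c y * Cfsg.sympForm n (ZMod 2) x u + c x * Cfsg.sympForm n (ZMod 2) y u) +
              c x * Cfsg.sympForm n (ZMod 2) y u := by ring
        _ = c x * Cfsg.sympForm n (ZMod 2) y u := by rw [h2, zero_add]
    obtain ⟨x1, hx1⟩ := sympForm_nondeg_left hu0'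
    have hfy0 : Cfsg.sympForm n (ZMod 2) y0 u = 1 := by
      apply zmod2_eq_one
      intro h
      have := key x1 y0
      rw [hcy0, one_mul, h, mul_zero] at this
      exact hx1 this
    have hcf : ∀ x : Vec, c x = Cfsg.sympForm n (ZMod 2) x u := by
      intro x
      have := key x y0
      rw [hcy0, one_mul, hfy0, mul_one] at this
      exact this.symm
    refine ⟨u, hu0', ?_⟩
    apply symp_ext
    intro x
    rw [hg x, T_mulVec, hcf x]
  · rintro ⟨w, hw, rfl⟩
    have hNw : ∀ x : Vec, ((T w : Sp) : Mat) *ᵥ x - x = Cfsg.sympForm n (ZMod 2) x w • w := by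
      intro x
      rw [T_mulVec]; abel
    obtain ⟨x0, hx0⟩ := sympForm_nondeg_left hw
    refine ⟨⟨w, ⟨x0, ?_⟩⟩, ?_, ?_⟩
    · rw [Matrix.mulVecLin_apply, hN, hNw, zmod2_eq_one hx0, one_smul]
    · intro h
      exact hw (congrArg Subtype.val h)
    · rintro ⟨y, ⟨x, rfl⟩⟩
      refine ⟨Cfsg.sympForm n (ZMod 2) x w, ?_⟩
      apply Subtype.ext
      show Cfsg.sympForm n (ZMod 2) x w • w = (((T w : Sp) : Mat) - 1).mulVecLin x
      rw [Matrix.mulVecLin_apply, hN, hNw]

theorem T_inv (w : Vec) : (T w)⁻¹ = T w := by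
  rw [inv_eq_iff_mul_eq_one]; exact T_mul_self w

theorem T_mulVec_of_eq_zero {u w : Vec} (h : Cfsg.sympForm n (ZMod 2) w u = 0) :
    ((T u : Sp) : Mat) *ᵥ w = w := by
  rw [T_mulVec, h, zero_smul, add_zero]

theorem T_mulVec_of_eq_one {u w : Vec} (h : Cfsg.sympForm n (ZMod 2) w u = 1) :
    ((T u : Sp) : Mat) *ᵥ w = w + u := by
  rw [T_mulVec, h, one_smul]

/-- In the symplectic group in dimension 2n ≥ 2 over the field with two elements, the elements g for which g - 1 has rank one (the symplectic transvections) form a conjugacy class of 3-transpositions generating the group. -/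
theorem result (n : ℕ) (hn : 1 ≤ n) : Cfsg.IsThreeTranspositionClass {g : Matrix.symplecticGroup (Fin n) (ZMod 2) | ((g : Matrix (Fin n ⊕ Fin n) (Fin n ⊕ Fin n) (ZMod 2)) - 1).rank = 1} := by
  refine ⟨⟨?_, ?_⟩, ?_, ?_⟩
  · intro d hd
    obtain ⟨w, hw, rfl⟩ := (rank_eq_one_iff d).mp hd
    exact orderOf_eq_prime (by rw [pow_two]; exact T_mul_self w) (T_ne_one hw)
  · intro d hd e he
    obtain ⟨u, hu, rfl⟩ := (rank_eq_one_iff d).mp hd
    obtain ⟨w, hw, rfl⟩ := (rank_eq_one_iff e).mp he
    rcases zmod2_cases (Cfsg.sympForm n (ZMod 2) w u) with h | h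
    · left
      have h1 : T u * T w * (T u)⁻¹ = T w := by
        rw [conj_T, T_mulVec_of_eq_zero h]
      have h2 : T u * T w = T w * T u := by
        calc T u * T w = (T u * T w * (T u)⁻¹) * T u := by
              rw [mul_assoc, inv_mul_cancel, mul_one]
          _ = T w * T u := by rw [h1]
      rw [pow_two]
      calc T u * T w * (T u * T w) = T u * T w * (T w * T u) := by rw [h2]
        _ = T u * (T w * T w) * T u := by simp only [mul_assoc]
        _ = 1 := by rw [T_mul_self, mul_one, T_mul_self]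
    · right
      have h' : Cfsg.sympForm n (ZMod 2) u w = 1 := by rw [sympForm_symm]; exact h
      have h1 : T u * T w * T u = T (w + u) := by
        have := conj_T (T u) w
        rw [T_inv, T_mulVec_of_eq_one h] at this
        exact this
      have h2 : T w * T u * T w = T (w + u) := by
        have := conj_T (T w) u
        rw [T_inv, T_mulVec_of_eq_one h', add_comm] at this
        exact this
      rw [pow_succ, pow_two]
      calc T u * T w * (T u * T w) * (T u * T w) = (T u * T w * T u) * (T w * T u * T w) := by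
            simp only [mul_assoc]
        _ = 1 := by rw [h1, h2, T_mul_self]
  · have he0 : (Pi.single (Sum.inl ⟨0, hn⟩) 1 : Fin n ⊕ Fin n → ZMod 2) ≠ 0 := by
      intro h
      have := congrFun h (Sum.inl ⟨0, hn⟩)
      simp at this
    refine ⟨T (Pi.single (Sum.inl ⟨0, hn⟩) 1), (rank_eq_one_iff _).mpr ⟨_, he0, rfl⟩, ?_⟩
    ext g
    constructor
    · intro hg
      obtain ⟨w, hw, rfl⟩ := (rank_eq_one_iff g).mp hg
      obtain ⟨A, -, hA⟩ := exists_transvection_map_of_ne_zero he0 hw
      show IsConj _ _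
      rw [isConj_iff]
      exact ⟨A, by rw [conj_T, hA]⟩
    · intro hg
      have hg' : IsConj (T (Pi.single (Sum.inl ⟨0, hn⟩) 1)) g := hg
      rw [isConj_iff] at hg'
      obtain ⟨A, rfl⟩ := hg'
      rw [conj_T]
      refine (rank_eq_one_iff _).mpr ⟨_, ?_, rfl⟩
      intro h0
      have := symp_inv_mulVec_eq A h0
      rw [Matrix.mulVec_zero] at this
      exact he0 this.symm
  · rw [eq_top_iff, ← sympTransvectionSubgroup_eq_top]
    unfold sympTransvectionSubgroup
    rw [Subgroup.closure_le]
    rintro A ⟨w, c, hA⟩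
    by_cases hw : w = 0
    · have : A = 1 := by
        apply Subtype.ext
        rw [hA, hw]
        show Cfsg.sympTransvection n 0 c = 1
        unfold Cfsg.sympTransvection
        have : Matrix.vecMulVec (0 : Fin n ⊕ Fin n → ZMod 2)
            (Matrix.J (Fin n) (ZMod 2) *ᵥ (0 : Fin n ⊕ Fin n → ZMod 2)) = 0 := by
          ext i j
          simp [Matrix.vecMulVec_apply]
        rw [this, smul_zero, add_zero]
      rw [this]; exact Subgroup.one_mem _
    rcases zmod2_cases c with rfl | rfl
    · have : A = 1 := by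
        apply Subtype.ext
        rw [hA, sympTransvection_zero]; rfl
      rw [this]; exact Subgroup.one_mem _
    · apply Subgroup.subset_closure
      exact (rank_eq_one_iff A).mpr ⟨w, hw, Subtype.ext hA⟩

end Cfsg.Agent.S0440
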