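-- Statement S0441: Fischer's rank-three property.
-- Proof: G' non-abelian simple ⇒ G primitive on D with a commuting pair (Helper89/TranspSimplePrim, via Hall's theorem
-- S5561 and S5353); then ⟨C_D(a)⟩ is transitive on A_a (Helper89/TranspRank3) and D_a is one class of ⟨D_a⟩
-- (Helper89/TranspLocalClass).
import Cfsg.Statements.S0441
import Cfsg.Agent.Helper89.TranspSimplePrim

set_option autoImplicit false
open Cfsg

namespace Cfsg.Agent.S0441

open Cfsg.Agent.Helper89 Cfsg.Agent.Helper89.LocS3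

/-- Fischer's rank-three property. Let a finite group be generated by a conjugacy class D of 3-transpositions, with non-abelian simple commutator subgroup. Then for a in D there are members of D other than a commuting with a and members not commuting with a, and the centraliser of a acts transitively on each of these two sets. -/
theorem result {G : Type*} [Group G] [Finite G] {D : Set G} (hD : Cfsg.IsThreeTranspositionClass D) (hsimple : IsSimpleGroup (commutator G)) (hnonab : ∃ x y : commutator G, x * y ≠ y * x) {a : G} (ha : a ∈ D) : (∃ b ∈ D, b ≠ a ∧ Commute a b) ∧ (∃ c ∈ D, ¬ Commute a c) ∧ (∀ b ∈ D, ∀ b' ∈ D, b ≠ a → b' ≠ a → Commute a b → Commute a b' → ∃ g : G, Commute g a ∧ g * b * g⁻¹ = b') ∧ (∀ c ∈ D, ∀ c' ∈ D, ¬ Commute a c → ¬ Commute a c' → ∃ g : G, Commute g a ∧ g * c * g⁻¹ = c') := by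
  have hT := hD.1
  have hconj := Cfsg.Agent.S5353.class_conj hD
  have htrans := Cfsg.Agent.S5353.class_trans hD
  obtain ⟨hprim, hD2, hw⟩ := SimplePrim.isPrimitiveUnderConj_of_simple_commutator hD hsimple hnonab
  refine ⟨?_, ?_, ?_, ?_⟩
  · obtain ⟨a', ha', b', hb', hne, hcomm⟩ := hw
    obtain ⟨g, hg⟩ := htrans a' ha' a ha
    refine ⟨g * b' * g⁻¹, hconj g b' hb', ?_, ?_⟩
    · intro h
      apply hne
      rw [← hg] at h
      have := congrArg (fun t => g⁻¹ * t * g) h
      simp only [mul_assoc, inv_mul_cancel_left, inv_mul_cancel, mul_one] at this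
      exact this.symm
    · rw [← hg]
      show (g * a' * g⁻¹) * (g * b' * g⁻¹) = (g * b' * g⁻¹) * (g * a' * g⁻¹)
      have e1 : (g * a' * g⁻¹) * (g * b' * g⁻¹) = g * (a' * b') * g⁻¹ := by group
      have e2 : (g * b' * g⁻¹) * (g * a' * g⁻¹) = g * (b' * a') * g⁻¹ := by group
      rw [e1, e2, hcomm.eq]
  · exact Cfsg.Agent.S5353.exists_not_commute hD (Cfsg.Agent.S5353.notMem_center hD hD2 ha)
  · intro b hb b' hb' hba hb'a hab hab'
    obtain ⟨g, hg, hgb⟩ := LocalClass.exists_conj_of_mem_Dd hT hconj hD.2.2 hprim hw ha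
      (a := b) (b := b') ⟨hb, hba, hab⟩ ⟨hb', hb'a, hab'⟩
    refine ⟨g, ?_, hgb⟩
    have hle : Subgroup.closure (Dd D a) ≤ Subgroup.centralizer {a} := by
      rw [Subgroup.closure_le]
      intro y hy
      rw [SetLike.mem_coe, Subgroup.mem_centralizer_iff]
      intro s hs
      rw [Set.mem_singleton_iff.mp hs]
      exact hy.2.2.eq
    exact (Subgroup.mem_centralizer_iff.mp (hle hg) a (Set.mem_singleton a)).symm
  · intro c hc c' hc' hac hac'
    obtain ⟨g, hg, hgc⟩ := Rank3.sameOrb_all hT hconj hprim hw ha hc hac hc' hac'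
    exact ⟨g, Rank3.commute_of_mem_Md hg, hgc⟩

end Cfsg.Agent.S0441
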