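import Cfsg.Statements.S0442
import Mathlib.Tactic

set_option autoImplicit false
open Cfsg

namespace Cfsg.Agent.S0442

/-- an involution `a` inverts `a * b` when `b` is an involution too (powers version) -/
theorem inverts_pow {G : Type*} [Group G] {a b : G} (ha : a * a = 1) (hb : b * b = 1) (k : ℕ) :
    a * (a * b) ^ k * a = ((a * b) ^ k)⁻¹ := by
  have hainv : a⁻¹ = a := by rw [inv_eq_iff_mul_eq_one]; exact ha
  have hbinv : b⁻¹ = b := by rw [inv_eq_iff_mul_eq_one]; exact hb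
  have h1 : a * (a * b) * a⁻¹ = (a * b)⁻¹ := by
    rw [mul_inv_rev, hainv, hbinv, ← mul_assoc, ha, one_mul]
  calc a * (a * b) ^ k * a = a * (a * b) ^ k * a⁻¹ := by rw [hainv]
    _ = (a * (a * b) * a⁻¹) ^ k := by rw [conj_pow]
    _ = ((a * b)⁻¹) ^ k := by rw [h1]
    _ = ((a * b) ^ k)⁻¹ := by rw [inv_pow]

/-- second involution version -/
theorem inverts_pow' {G : Type*} [Group G] {a b : G} (ha : a * a = 1) (hb : b * b = 1) (k : ℕ) :
    b * (a * b) ^ k * b = ((a * b) ^ k)⁻¹ := by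
  have hainv : a⁻¹ = a := by rw [inv_eq_iff_mul_eq_one]; exact ha
  have hbinv : b⁻¹ = b := by rw [inv_eq_iff_mul_eq_one]; exact hb
  have h1 : b * (a * b) * b⁻¹ = (a * b)⁻¹ := by
    rw [mul_inv_rev, hainv, hbinv, mul_assoc, mul_assoc, hb, mul_one]
  calc b * (a * b) ^ k * b = b * (a * b) ^ k * b⁻¹ := by rw [hbinv]
    _ = (b * (a * b) * b⁻¹) ^ k := by rw [conj_pow]
    _ = ((a * b)⁻¹) ^ k := by rw [h1]
    _ = ((a * b) ^ k)⁻¹ := by rw [inv_pow]

/-- the odd case computation, with `c` an atom -/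
theorem odd_aux {G : Type*} [Group G] (b c : G) (m : ℕ) (hb2 : b * b = 1)
    (hinv : b * c ^ m * b = (c ^ m)⁻¹) (hc : c ^ (2 * m + 1) = 1) :
    (c ^ m)⁻¹ * b * c ^ m = b * c⁻¹ := by
  have h2 : (c ^ m)⁻¹ * b = b * c ^ m := by
    rw [← hinv]
    calc b * c ^ m * b * b = b * c ^ m * (b * b) := by group
      _ = b * c ^ m := by rw [hb2, mul_one]
  rw [h2]
  have h3 : c ^ m * c ^ m = c⁻¹ := by
    rw [eq_inv_iff_mul_eq_one, ← pow_add, ← pow_succ, ← hc]
    congr 1; ring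
  rw [mul_assoc, h3]

theorem result {G : Type*} [Group G] (a g : G) (ha : orderOf a = 2) : (∀ m : ℕ, orderOf (a * (g⁻¹ * a * g)) = 2 * m + 1 → Commute (g * (a * (g⁻¹ * a * g)) ^ m) a) ∧ (∀ m : ℕ, orderOf (a * (g⁻¹ * a * g)) = 2 * m → Commute ((a * (g⁻¹ * a * g)) ^ m) a ∧ Commute ((a * (g * a * g⁻¹)) ^ m) a) := by
  have ha2 : a * a = 1 := by
    have := pow_orderOf_eq_one a
    rw [ha, pow_two] at this
    exact this
  have hb2 : (g⁻¹ * a * g) * (g⁻¹ * a * g) = 1 := by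
    calc (g⁻¹ * a * g) * (g⁻¹ * a * g) = g⁻¹ * (a * a) * g := by group
      _ = 1 := by rw [ha2]; group
  have hb2' : (g * a * g⁻¹) * (g * a * g⁻¹) = 1 := by
    calc (g * a * g⁻¹) * (g * a * g⁻¹) = g * (a * a) * g⁻¹ := by group
      _ = 1 := by rw [ha2]; group
  -- if `c ^ (2m) = 1` and `a` inverts `c ^ m` then `c ^ m` commutes with `a`
  have even_case : ∀ (b : G) (m : ℕ), b * b = 1 → (a * b) ^ (2 * m) = 1 → Commute ((a * b) ^ m) a := by
    intro b m hb hc
    have hinv := inverts_pow ha2 hb m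
    have hself : ((a * b) ^ m)⁻¹ = (a * b) ^ m := by
      rw [inv_eq_iff_mul_eq_one, ← pow_add, ← two_mul]; exact hc
    rw [hself] at hinv
    show (a * b) ^ m * a = a * (a * b) ^ m
    calc (a * b) ^ m * a = (a * a) * (a * b) ^ m * a := by rw [ha2, one_mul]
      _ = a * (a * (a * b) ^ m * a) := by group
      _ = a * (a * b) ^ m := by rw [hinv]
  refine ⟨fun m hm => ?_, fun m hm => ⟨?_, ?_⟩⟩
  · set b := g⁻¹ * a * g with hb
    have hc : (a * b) ^ (2 * m + 1) = 1 := by rw [← hm]; exact pow_orderOf_eq_one _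
    have hinv := inverts_pow' ha2 hb2 m
    have key : ((a * b) ^ m)⁻¹ * b * (a * b) ^ m = a := by
      rw [odd_aux b (a * b) m hb2 hinv hc]
      calc b * (a * b)⁻¹ = a⁻¹ := by group
        _ = a := by
            rw [inv_eq_iff_mul_eq_one]; exact ha2
    show g * (a * b) ^ m * a = a * (g * (a * b) ^ m)
    have hgb : g * b = a * g := by rw [hb]; group
    calc g * (a * b) ^ m * a = g * (a * b) ^ m * (((a * b) ^ m)⁻¹ * b * (a * b) ^ m) := by rw [key]
      _ = (g * b) * (a * b) ^ m := by group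
      _ = a * (g * (a * b) ^ m) := by rw [hgb]; group
  · apply even_case _ m hb2
    rw [← hm]; exact pow_orderOf_eq_one _
  · apply even_case _ m hb2'
    -- `a * (g a g⁻¹)` is conjugate to the inverse of `a * (g⁻¹ a g)`
    have hainv : a⁻¹ = a := by rw [inv_eq_iff_mul_eq_one]; exact ha2
    have hconj : a * (g * a * g⁻¹) = g * (a * (g⁻¹ * a * g))⁻¹ * g⁻¹ := by
      rw [mul_inv_rev, mul_inv_rev, mul_inv_rev, inv_inv, hainv]; group
    rw [hconj, conj_pow, inv_pow, ← hm, pow_orderOf_eq_one]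
    group

end Cfsg.Agent.S0442
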