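import Cfsg.Statements.S0445
import Mathlib

set_option autoImplicit false
open Cfsg

namespace Cfsg.Agent.S0445

open Matrix

/-- the 3 × 3 lower right corner -/
def minor (g : Matrix (Fin 5) (Fin 5) (ZMod 2)) : Matrix (Fin 3) (Fin 3) (ZMod 2) :=
  g.submatrix (fun i => i.succ.succ) (fun j => j.succ.succ)

/-- the shape of the matrices commuting with the transvection -/
def Shape (g : Matrix (Fin 5) (Fin 5) (ZMod 2)) : Prop :=
  (∀ i : Fin 4, g i.succ 0 = 0) ∧ (g 1 0 = 0 ∧ ∀ j : Fin 3, g 1 j.succ.succ = 0) ∧ g 0 0 = g 1 1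

theorem mul_E (g : Matrix (Fin 5) (Fin 5) (ZMod 2)) (a b : Fin 5) :
    (g * (single 0 1 1 : Matrix (Fin 5) (Fin 5) (ZMod 2))) a b = if b = 1 then g a 0 else 0 := by
  by_cases h : b = 1
  · subst h; simp
  · simp [h]

theorem E_mul (g : Matrix (Fin 5) (Fin 5) (ZMod 2)) (a b : Fin 5) :
    ((single 0 1 1 : Matrix (Fin 5) (Fin 5) (ZMod 2)) * g) a b = if a = 0 then g 1 b else 0 := by
  by_cases h : a = 0
  · subst h; simp
  · simp [h]

theorem comm_iff (g : Matrix (Fin 5) (Fin 5) (ZMod 2)) :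
    transvection 0 1 (1 : ZMod 2) * g = g * transvection 0 1 (1 : ZMod 2) ↔ Shape g := by
  have h1 : transvection 0 1 (1 : ZMod 2) * g = g * transvection 0 1 (1 : ZMod 2) ↔
      ∀ a b : Fin 5, (if a = 0 then g 1 b else 0) = (if b = 1 then g a 0 else 0) := by
    simp only [transvection, mul_add, add_mul, mul_one, one_mul, add_right_inj]
    constructor
    · intro h a b
      rw [← mul_E, ← E_mul, h]
    · intro h
      ext a b
      rw [mul_E, E_mul, h]
  rw [h1]
  constructor
  · intro h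
    refine ⟨fun i => ?_, ⟨?_, fun j => ?_⟩, ?_⟩
    · have := h i.succ 1
      simpa [Fin.succ_ne_zero] using this.symm
    · have := h 1 1
      simpa using this.symm
    · have := h 0 j.succ.succ
      have hne : j.succ.succ ≠ (1 : Fin 5) := by
        intro h
        have := congrArg Fin.val h
        simp at this
      simpa [hne] using this
    · have := h 0 1
      simpa using this.symm
  · rintro ⟨h1, ⟨h2, h3⟩, h4⟩ a b
    by_cases ha : a = 0
    · subst ha
      by_cases hb : b = 1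
      · subst hb; simp [h4]
      · simp only [if_true, hb, if_false]
        -- b is 0 or of the form j+2
        fin_cases b
        · exact h2
        · exact absurd rfl hb
        · exact h3 0
        · exact h3 1
        · exact h3 2
    · by_cases hb : b = 1
      · subst hb
        simp only [ha, if_false, if_true]
        obtain ⟨i, rfl⟩ := Fin.exists_succ_eq.mpr ha
        exact (h1 i).symm
      · simp [ha, hb]

theorem det_col_zero {R : Type*} [CommRing R] {n : ℕ} (A : Matrix (Fin (n+1)) (Fin (n+1)) R)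
    (h : ∀ i : Fin n, A i.succ 0 = 0) : A.det = A 0 0 * (A.submatrix Fin.succ Fin.succ).det := by
  rw [det_succ_column_zero, Fin.sum_univ_succ]
  simp [h]

theorem det_row_zero {R : Type*} [CommRing R] {n : ℕ} (A : Matrix (Fin (n+1)) (Fin (n+1)) R)
    (h : ∀ j : Fin n, A 0 j.succ = 0) : A.det = A 0 0 * (A.submatrix Fin.succ Fin.succ).det := by
  rw [det_succ_row_zero, Fin.sum_univ_succ]
  simp [h]

theorem det_of_shape {g : Matrix (Fin 5) (Fin 5) (ZMod 2)} (h : Shape g) :
    g.det = g 0 0 * g 1 1 * (minor g).det := by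
  obtain ⟨h1, ⟨h2, h3⟩, h4⟩ := h
  have e1 := det_col_zero (n := 4) g h1
  have e2 := det_row_zero (n := 3) (g.submatrix Fin.succ Fin.succ) (fun j => h3 j)
  have e3 : (g.submatrix Fin.succ Fin.succ).submatrix Fin.succ Fin.succ = minor g := rfl
  have e4 : (g.submatrix Fin.succ Fin.succ) 0 0 = g 1 1 := rfl
  rw [e3, e4] at e2
  rw [e1, e2, mul_assoc]

/-- build the matrix from its parameters -/
def build (a : Fin 4 → ZMod 2) (b : Fin 3 → ZMod 2) (B : Matrix (Fin 3) (Fin 3) (ZMod 2)) :
    Matrix (Fin 5) (Fin 5) (ZMod 2) :=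
  !![1, a 0, a 1, a 2, a 3;
     0, 1, 0, 0, 0;
     0, b 0, B 0 0, B 0 1, B 0 2;
     0, b 1, B 1 0, B 1 1, B 1 2;
     0, b 2, B 2 0, B 2 1, B 2 2]

theorem shape_build (a : Fin 4 → ZMod 2) (b : Fin 3 → ZMod 2) (B : Matrix (Fin 3) (Fin 3) (ZMod 2)) :
    Shape (build a b B) := by
  refine ⟨fun i => ?_, ⟨rfl, fun j => ?_⟩, rfl⟩
  · fin_cases i <;> rfl
  · fin_cases j <;> rfl

theorem minor_build (a : Fin 4 → ZMod 2) (b : Fin 3 → ZMod 2) (B : Matrix (Fin 3) (Fin 3) (ZMod 2)) :
    minor (build a b B) = B := by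
  ext i j
  fin_cases i <;> fin_cases j <;> rfl

theorem build_of_shape {g : Matrix (Fin 5) (Fin 5) (ZMod 2)} (h : Shape g) (h00 : g 0 0 = 1) :
    build (fun j => g 0 j.succ) (fun i => g i.succ.succ 1) (minor g) = g := by
  obtain ⟨h1, ⟨h2, h3⟩, h4⟩ := h
  have h11 : g 1 1 = 1 := by rw [← h4, h00]
  ext i j
  fin_cases i <;> fin_cases j
  · exact h00.symm
  · rfl
  · rfl
  · rfl
  · rfl
  · exact h2.symm
  · exact h11.symm
  · exact (h3 0).symm
  · exact (h3 1).symm
  · exact (h3 2).symm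
  · exact (h1 1).symm
  · rfl
  · rfl
  · rfl
  · rfl
  · exact (h1 2).symm
  · rfl
  · rfl
  · rfl
  · rfl
  · exact (h1 3).symm
  · rfl
  · rfl
  · rfl
  · rfl

theorem units_zmod2 : ∀ x y z : ZMod 2, x * y * z = 1 → x = 1 ∧ y = 1 ∧ z = 1 := by decide

theorem isUnit_zmod2 (x : ZMod 2) (h : IsUnit x) : x = 1 := by
  have h1 : ∀ x : ZMod 2, x ≠ 0 → x = 1 := by decide
  exact h1 x h.ne_zero

theorem det_build (a : Fin 4 → ZMod 2) (b : Fin 3 → ZMod 2) (B : Matrix (Fin 3) (Fin 3) (ZMod 2))
    (hB : IsUnit B.det) : (build a b B).det = 1 := by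
  rw [det_of_shape (shape_build a b B), minor_build, isUnit_zmod2 _ hB]
  rfl

/-- membership in the centraliser, matrix form -/
theorem mem_centralizer_iff_shape (s g : Matrix.SpecialLinearGroup (Fin 5) (ZMod 2))
    (hs : (s : Matrix (Fin 5) (Fin 5) (ZMod 2)) = Matrix.transvection 0 1 1) :
    g ∈ Subgroup.centralizer ({s} : Set (Matrix.SpecialLinearGroup (Fin 5) (ZMod 2))) ↔
      Shape (g : Matrix (Fin 5) (Fin 5) (ZMod 2)) := by
  rw [Subgroup.mem_centralizer_iff, ← comm_iff]
  constructor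
  · intro h
    have := h s (Set.mem_singleton s)
    have h2 := congrArg (fun x : Matrix.SpecialLinearGroup (Fin 5) (ZMod 2) =>
      (x : Matrix (Fin 5) (Fin 5) (ZMod 2))) this
    simp only [Matrix.SpecialLinearGroup.coe_mul, hs] at h2
    exact h2
  · intro h x hx
    rw [Set.mem_singleton_iff] at hx
    subst hx
    apply Subtype.ext
    rw [Matrix.SpecialLinearGroup.coe_mul, Matrix.SpecialLinearGroup.coe_mul, hs]
    exact h

theorem entries_of_mem {g : Matrix (Fin 5) (Fin 5) (ZMod 2)} (h : Shape g) (hdet : g.det = 1) :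
    g 0 0 = 1 ∧ g 1 1 = 1 ∧ (minor g).det = 1 := by
  rw [det_of_shape h] at hdet
  exact units_zmod2 _ _ _ hdet

/-- the parametrisation of the centraliser -/
noncomputable def equiv (s : Matrix.SpecialLinearGroup (Fin 5) (ZMod 2))
    (hs : (s : Matrix (Fin 5) (Fin 5) (ZMod 2)) = Matrix.transvection 0 1 1) :
    Subgroup.centralizer ({s} : Set (Matrix.SpecialLinearGroup (Fin 5) (ZMod 2))) ≃
      (Fin 4 → ZMod 2) × (Fin 3 → ZMod 2) × GL (Fin 3) (ZMod 2) where
  toFun g := (fun j => (g.1 : Matrix (Fin 5) (Fin 5) (ZMod 2)) 0 j.succ,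
    fun i => (g.1 : Matrix (Fin 5) (Fin 5) (ZMod 2)) i.succ.succ 1,
    Matrix.GeneralLinearGroup.mk'' (minor (g.1 : Matrix (Fin 5) (Fin 5) (ZMod 2))) (by
      have := (entries_of_mem ((mem_centralizer_iff_shape s g.1 hs).mp g.2) g.1.2).2.2
      rw [this]; exact isUnit_one))
  invFun p := ⟨(⟨build p.1 p.2.1 (p.2.2 : Matrix (Fin 3) (Fin 3) (ZMod 2)),
      det_build _ _ _ ((Matrix.isUnit_iff_isUnit_det _).mp p.2.2.isUnit)⟩ :
        Matrix.SpecialLinearGroup (Fin 5) (ZMod 2)),
    (mem_centralizer_iff_shape s _ hs).mpr (shape_build _ _ _)⟩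
  left_inv g := by
    apply Subtype.ext
    apply Subtype.ext
    have hsh := (mem_centralizer_iff_shape s g.1 hs).mp g.2
    have h00 := (entries_of_mem hsh g.1.2).1
    exact build_of_shape hsh h00
  right_inv p := by
    obtain ⟨a, b, B⟩ := p
    refine Prod.ext ?_ (Prod.ext ?_ ?_)
    · funext j
      fin_cases j <;> rfl
    · funext i
      fin_cases i <;> rfl
    · apply Units.ext
      exact minor_build a b _

/-- In the special linear group of dimension 5 over the field with two elements, the centraliser of a transvection has order 21504 = 2 ^ 7 · 168 (it is an extension of an extraspecial group of order 2 ^ 7 by the simple group of order 168). -/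
theorem result (s : Matrix.SpecialLinearGroup (Fin 5) (ZMod 2)) (hs : (s : Matrix (Fin 5) (Fin 5) (ZMod 2)) = Matrix.transvection 0 1 1) : Nat.card (Subgroup.centralizer ({s} : Set (Matrix.SpecialLinearGroup (Fin 5) (ZMod 2)))) = 21504 := by
  rw [Nat.card_congr (equiv s hs), Nat.card_prod, Nat.card_prod, Matrix.card_GL_field]
  simp only [Nat.card_eq_fintype_card, Fintype.card_fun, ZMod.card, Fintype.card_fin, Fin.prod_univ_three]
  norm_num

end Cfsg.Agent.S0445
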