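import Cfsg.Statements.S0447
import Cfsg.Agent.Helper66.AltV4
import Cfsg.Agent.Helper66.AltV5
import Cfsg.Agent.Helper66.AltD6
import Cfsg.Agent.Helper66.AltD7
import Cfsg.Agent.Helper66.DblCoverA8

set_option autoImplicit false
open Cfsg

namespace Cfsg.Agent.S0447

open Cfsg.Agent.Helper66 Subgroup

theorem card_alt_small : ∀ n : Fin 4, Odd (Fintype.card (alternatingGroup (Fin n))) := by
  decide +kernel

/-- for `n ≤ 3` the alternating group has odd order, so every involution of an extension of it by
its centre is central -/
theorem involution_central_small {n : ℕ} (hn : n ≤ 3) {H : Type} [Group H] [Finite H]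
    (hH : Cfsg.IsNonsplitDoubleCover H (alternatingGroup (Fin n))) (y : H)
    (hy : orderOf y = 2) : y ∈ center H := by
  obtain ⟨-, ⟨e⟩, -⟩ := hH
  have hodd : Odd (Nat.card (alternatingGroup (Fin n))) := by
    rw [Nat.card_eq_fintype_card]
    exact card_alt_small ⟨n, by omega⟩
  have h1 : orderOf (e (QuotientGroup.mk' (center H) y)) ∣ 2 := by
    rw [← hy]
    exact orderOf_map_dvd (e.toMonoidHom.comp (QuotientGroup.mk' (center H))) y
  have h2 : orderOf (e (QuotientGroup.mk' (center H) y)) ∣ Nat.card (alternatingGroup (Fin n)) :=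
    orderOf_dvd_natCard _
  have h3 : orderOf (e (QuotientGroup.mk' (center H) y)) = 1 := by
    rcases (Nat.dvd_prime Nat.prime_two).mp h1 with h | h
    · exact h
    · exfalso
      rw [h] at h2
      exact (Nat.not_even_iff_odd.mpr hodd) (even_iff_two_dvd.mpr h2)
  rw [orderOf_eq_one_iff, e.map_eq_one_iff, QuotientGroup.mk'_apply, QuotientGroup.eq_one_iff] at h3
  exact h3

/-- Involutions in double covers of alternating groups: for n ≤ 7, a finite non-split double cover of the alternating group of degree n has exactly one element of order 2 (the central one); for degree 8 there is a non-split double cover with two distinct involutions. -/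
theorem result : (∀ (n : ℕ) (H : Type) (_ : Group H) (_ : Finite H), n ≤ 7 → Cfsg.IsNonsplitDoubleCover H (alternatingGroup (Fin n)) → ∀ x y : H, orderOf x = 2 → orderOf y = 2 → x = y) ∧ ∃ (H : Type) (_ : Group H) (_ : Finite H), Cfsg.IsNonsplitDoubleCover H (alternatingGroup (Fin 8)) ∧ ∃ x y : H, x ≠ y ∧ orderOf x = 2 ∧ orderOf y = 2 := by
  refine ⟨?_, exists_nonsplit_double_cover_A8⟩
  intro n H _ _ hn hH x y hx hy
  have hcen : ∀ t : H, orderOf t = 2 → t ∈ center H := by
    intro t ht
    rcases Nat.lt_or_ge n 4 with h4 | h4
    · exact involution_central_small (by omega) hH t ht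
    · have h47 : n = 4 ∨ n = 5 ∨ n = 6 ∨ n = 7 := by omega
      rcases h47 with rfl | rfl | rfl | rfl
      · exact AltV4.involution_central hH t ht
      · exact AltV5.involution_central hH t ht
      · exact AltD6.involution_central hH t ht
      · exact AltD7.involution_central hH t ht
  have hZ : Nat.card (center H) = 2 := hH.1
  obtain ⟨c, -, hc⟩ := (Nat.card_eq_two_iff' (1 : center H)).mp hZ
  have hx1 : (⟨x, hcen x hx⟩ : center H) ≠ 1 := by
    intro h
    have : x = 1 := congrArg Subtype.val h
    rw [this, orderOf_one] at hx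
    norm_num at hx
  have hy1 : (⟨y, hcen y hy⟩ : center H) ≠ 1 := by
    intro h
    have : y = 1 := congrArg Subtype.val h
    rw [this, orderOf_one] at hy
    norm_num at hy
  have := (hc _ hx1).trans (hc _ hy1).symm
  exact congrArg Subtype.val this

end Cfsg.Agent.S0447
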