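import Cfsg.Statements.S0459
import Cfsg.Agent.Helper56.RuMain

set_option autoImplicit false
open Cfsg

namespace Cfsg.Agent.S0459

/-- The Rudvalis group exists as a transitive permutation group of degree 4060 whose point stabiliser has order 35942400 and contains a simple group of the order of the Tits group. -/
theorem result : ∃ H : Subgroup (Equiv.Perm (Fin 4060)), Cfsg.IsRu H ∧ MulAction.IsPretransitive H (Fin 4060) ∧ Nat.card (MulAction.stabilizer H (0 : Fin 4060)) = 35942400 ∧ ∃ T : Subgroup (MulAction.stabilizer H (0 : Fin 4060)), Cfsg.IsTits T := by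
  obtain ⟨T, hT1, hT2⟩ := Cfsg.Agent.Helper56.Ru.tits_in_stab
  exact ⟨Cfsg.Agent.Helper56.Ru.G0, ⟨Cfsg.Agent.Helper56.Ru.simple_G0, Cfsg.Agent.Helper56.Ru.card_G0⟩,
    Cfsg.Agent.Helper56.Ru.pretrans, Cfsg.Agent.Helper56.Ru.card_stab, T, hT1, hT2⟩

end Cfsg.Agent.S0459
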