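import Cfsg.Statements.S0471
import Cfsg.Agent.Helper56.Fi22T
import Cfsg.Agent.Helper28.U62Fi

set_option autoImplicit false
open Cfsg

namespace Cfsg.Agent.S0471

/-- The Fischer group of order 64561751654400 exists as a 3-transposition group: a simple group of that order generated by a conjugacy class of 3510 3-transpositions, the centraliser of each being a non-split double cover of PSU(6, 2). -/
theorem result : ∃ (G : Type) (_ : Group G) (_ : Finite G), Cfsg.IsFi22 G ∧ ∃ D : Set G, Cfsg.IsThreeTranspositionClass D ∧ Nat.card D = 3510 ∧ ∀ d ∈ D, ∃ (F : Type) (_ : Field F) (_ : Fintype F), Fintype.card F = 4 ∧ Cfsg.IsNonsplitDoubleCover (Subgroup.centralizer ({d} : Set G)) (Cfsg.PSU 6 F 2) := by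
  obtain ⟨D, hD, hcard, hcent⟩ := Helper56.Fi22T.main Helper28.U62F.main
  exact ⟨PresentedGroup Helper28.Fi22b.R, inferInstance, Helper56.Fi22T.finG,
    ⟨Helper28.Fi22C.simple, Helper28.Fi22C.card_inj.1⟩, D, hD, hcard,
    fun d hd => ⟨Helper27.GF4, Helper27.GF4.instFieldGF4, Helper27.GF4.instFintypeGF4, Helper27.GF4.card_eq,
      hcent d hd⟩⟩

end Cfsg.Agent.S0471
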