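import Cfsg.Statements.S0481
import Cfsg.Agent.Helper8.Basic

set_option autoImplicit false
open Cfsg

namespace Cfsg.Agent.S0481

/-- Large extraspecial subgroups. -/
theorem result {G : Type*} [Group G] [Finite G] (z : G) (hz : orderOf z = 2) (Q : Subgroup G) (hQC : Q ≤ Subgroup.centralizer ({z} : Set G)) (hQn : ∀ g ∈ Subgroup.centralizer ({z} : Set G), ∀ q ∈ Q, g * q * g⁻¹ ∈ Q) (hQ2 : IsPGroup 2 Q) (hZ : Nat.card (Subgroup.center Q) = 2) (hsq : ∀ x : Q, x ^ 2 ∈ Subgroup.center Q) (hlarge : Subgroup.centralizer (Q : Set G) ≤ Q) : (∃ P : Sylow 2 G, (P : Subgroup G) ≤ Subgroup.centralizer ({z} : Set G)) ∧ ∀ u : G, orderOf u = 2 → (∃ P : Sylow 2 G, (P : Subgroup G) ≤ Subgroup.centralizer ({u} : Set G)) → IsConj z u := by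
  haveI : Fact (Nat.Prime 2) := ⟨Nat.prime_two⟩
  have hz1 : z ≠ 1 := by
    rintro rfl
    rw [orderOf_one] at hz; omega
  -- z lies in Q and in its centre
  have hzQ : z ∈ Q := by
    apply hlarge
    rw [Subgroup.mem_centralizer_iff]
    intro q hq
    have := Subgroup.mem_centralizer_iff.mp (hQC hq) z (Set.mem_singleton z)
    exact this.symm
  have hzZ : (⟨z, hzQ⟩ : Q) ∈ Subgroup.center Q := by
    rw [Subgroup.mem_center_iff]
    rintro ⟨q, hq⟩
    have := Subgroup.mem_centralizer_iff.mp (hQC hq) z (Set.mem_singleton z)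
    apply Subtype.ext
    simpa using this.symm
  -- every element of G that is central in some subgroup T ≥ Q and nontrivial equals z
  have hcentral : ∀ (T : Subgroup G), Q ≤ T → ∀ w ∈ T, (∀ x ∈ T, x * w = w * x) → w ≠ 1 → w = z := by
    intro T hQT w hwT hw hw1
    have hwQ : w ∈ Q := by
      apply hlarge
      rw [Subgroup.mem_centralizer_iff]
      intro q hq
      exact hw q (hQT hq)
    have hwZ : (⟨w, hwQ⟩ : Q) ∈ Subgroup.center Q := by
      rw [Subgroup.mem_center_iff]
      rintro ⟨q, hq⟩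
      apply Subtype.ext
      simpa using hw q (hQT hq)
    obtain ⟨y, -, hy⟩ := (Nat.card_eq_two_iff' (1 : Subgroup.center Q)).mp hZ
    have e1 : (⟨⟨w, hwQ⟩, hwZ⟩ : Subgroup.center Q) = y := by
      apply hy
      intro h
      apply hw1
      have := congrArg (fun t : Subgroup.center Q => ((t : Q) : G)) h
      simpa using this
    have e2 : (⟨⟨z, hzQ⟩, hzZ⟩ : Subgroup.center Q) = y := by
      apply hy
      intro h
      apply hz1
      have := congrArg (fun t : Subgroup.center Q => ((t : Q) : G)) h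
      simpa using this
    have := congrArg (fun t : Subgroup.center Q => ((t : Q) : G)) (e1.trans e2.symm)
    simpa using this
  -- a Sylow 2-subgroup containing Q
  obtain ⟨T, hQT⟩ := hQ2.exists_le_sylow
  -- its centre contains z
  have hTz : ∀ x ∈ (T : Subgroup G), x * z = z * x := by
    haveI : Nontrivial (T : Subgroup G) := by
      refine ⟨⟨⟨z, hQT hzQ⟩, 1, ?_⟩⟩
      intro h
      apply hz1
      have := congrArg (fun t : (T : Subgroup G) => (t : G)) h
      simpa using this
    haveI : Nontrivial (Subgroup.center (T : Subgroup G)) := T.isPGroup'.center_nontrivial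
    obtain ⟨w, hw⟩ := exists_ne (1 : Subgroup.center (T : Subgroup G))
    have hwc : ∀ x ∈ (T : Subgroup G), x * ((w : (T : Subgroup G)) : G) = ((w : (T : Subgroup G)) : G) * x := by
      intro x hx
      have := Subgroup.mem_center_iff.mp w.2 ⟨x, hx⟩
      have h2 := congrArg (fun y : (T : Subgroup G) => (y : G)) this
      simpa using h2
    have hwz : ((w : (T : Subgroup G)) : G) = z := by
      apply hcentral (T : Subgroup G) hQT _ (w : (T : Subgroup G)).2 hwc
      intro h
      apply hw
      apply Subtype.ext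
      apply Subtype.ext
      simpa using h
    rw [← hwz]
    exact hwc
  have hTC : (T : Subgroup G) ≤ Subgroup.centralizer ({z} : Set G) := by
    intro x hx
    rw [Subgroup.mem_centralizer_iff]
    intro h hh
    rw [Set.mem_singleton_iff] at hh
    subst hh
    exact (hTz x hx).symm
  refine ⟨⟨T, hTC⟩, ?_⟩
  rintro u hu ⟨P, hP⟩
  -- conjugate P to T
  obtain ⟨g, hg⟩ := MulAction.exists_smul_eq G P T
  have hu' : orderOf (g * u * g⁻¹) = 2 := by
    rw [Helper8.orderOf_conj_eq]; exact hu
  have hu1 : g * u * g⁻¹ ≠ 1 := by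
    intro h
    rw [h, orderOf_one] at hu'; omega
  have hTu : ∀ x ∈ (T : Subgroup G), x * (g * u * g⁻¹) = (g * u * g⁻¹) * x := by
    intro x hx
    rw [← hg] at hx
    -- g⁻¹ x g ∈ P
    have hx' : g⁻¹ * x * g ∈ (P : Subgroup G) := (Helper8.mem_smul_sylow_iff g x P).mp hx
    have := Subgroup.mem_centralizer_iff.mp (hP hx') u (Set.mem_singleton u)
    -- u * (g⁻¹ x g) = (g⁻¹ x g) * u
    calc x * (g * u * g⁻¹) = g * ((g⁻¹ * x * g) * u) * g⁻¹ := by group
      _ = g * (u * (g⁻¹ * x * g)) * g⁻¹ := by rw [this]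
      _ = (g * u * g⁻¹) * x := by group
  have hTCu : (T : Subgroup G) ≤ Subgroup.centralizer ({g * u * g⁻¹} : Set G) := by
    intro x hx
    rw [Subgroup.mem_centralizer_iff]
    intro h hh
    rw [Set.mem_singleton_iff] at hh
    subst hh
    exact (hTu x hx).symm
  have huT : g * u * g⁻¹ ∈ (T : Subgroup G) := Helper8.mem_sylow_of_le_centralizer T hu' hTCu
  have hfinal : g * u * g⁻¹ = z := hcentral (T : Subgroup G) hQT _ huT hTu hu1
  have : IsConj u z := isConj_iff.mpr ⟨g, hfinal⟩
  exact this.symm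

end Cfsg.Agent.S0481
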