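import Mathlib
import Cfsg.Prelude.Def_CaseTheorems
import Cfsg.Agent.Helper54.PConstrained3
import Cfsg.Agent.Helper22.PConstrained

set_option autoImplicit false
open Cfsg

namespace Cfsg.Agent.S0505

/-- In a solvable subgroup `H` with `O_{p'}(H) = 1`, a `p'`-subgroup `W ≤ H` centralizing the
`p`-subgroup `T ≤ H` and normalized by `N_H(T)` is trivial. -/
theorem eq_bot_of_normalized {G : Type*} [Group G] [Finite G] {p : ℕ} [Fact p.Prime]
    (H : Subgroup G) (hs : Group.IsSolvable ↥H) (hO : pPrimeCore p ↥H = ⊥) (T W : Subgroup G)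
    (hTH : T ≤ H) (hT : IsPGroup p ↥T) (hWT : W ≤ Subgroup.centralizer (T : Set G)) (hWH : W ≤ H)
    (hWcop : (Nat.card ↥W).Coprime p)
    (hnorm : ∀ g ∈ H, (∀ t ∈ T, g * t * g⁻¹ ∈ T) → (∀ t ∈ T, g⁻¹ * t * g ∈ T) →
      ∀ w ∈ W, g * w * g⁻¹ ∈ W) : W = ⊥ := by
  haveI := hs
  have hG : IsPConstrained p ↥H := Cfsg.Agent.Helper54.isPConstrained_of_isSolvable
  have hT0 : IsPGroup p ↥(T.subgroupOf H) :=
    hT.comap_of_injective H.subtype H.subtype_injective
  have key := Cfsg.Agent.Helper54.map_pPrimeCore_of_le_normalizer hG (T.subgroupOf H)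
    (Subgroup.normalizer ((T.subgroupOf H : Subgroup ↥H) : Set ↥H)) hT0 le_rfl
    (Subgroup.centralizer_le_normalizer _) (Or.inl Subgroup.le_normalizer)
  rw [hO, bot_inf_eq, Subgroup.map_eq_bot_iff_of_injective _ (Subgroup.subtype_injective _)] at key
  set L₀ := Subgroup.normalizer ((T.subgroupOf H : Subgroup ↥H) : Set ↥H) with hL₀
  have hW0L : W.subgroupOf H ≤ L₀ := by
    intro w hw
    apply Subgroup.centralizer_le_normalizer
    rw [Subgroup.mem_centralizer_iff]
    intro t ht
    apply Subtype.ext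
    exact Subgroup.mem_centralizer_iff.mp (hWT (Subgroup.mem_subgroupOf.mp hw)) _
      (Subgroup.mem_subgroupOf.mp ht)
  have hN : ((W.subgroupOf H).subgroupOf L₀).Normal := by
    constructor
    intro n hn g
    rw [Subgroup.mem_subgroupOf, Subgroup.mem_subgroupOf] at hn ⊢
    have hg1 : ∀ t ∈ T, ((g : ↥H) : G) * t * ((g : ↥H) : G)⁻¹ ∈ T := by
      intro t ht
      have := (Subgroup.mem_normalizer_iff.mp g.2 ⟨t, hTH ht⟩).mp (Subgroup.mem_subgroupOf.mpr ht)
      exact Subgroup.mem_subgroupOf.mp this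
    have hg2 : ∀ t ∈ T, ((g : ↥H) : G)⁻¹ * t * ((g : ↥H) : G) ∈ T := by
      intro t ht
      have := (Subgroup.mem_normalizer_iff.mp (Subgroup.inv_mem _ g.2) ⟨t, hTH ht⟩).mp
        (Subgroup.mem_subgroupOf.mpr ht)
      have h2 := Subgroup.mem_subgroupOf.mp this
      simpa using h2
    have := hnorm _ (g : ↥H).2 hg1 hg2 _ hn
    simpa using this
  have hcard : Nat.card ↥((W.subgroupOf H).subgroupOf L₀) = Nat.card ↥W := by
    rw [Nat.card_congr (Subgroup.subgroupOfEquivOfLe hW0L).toEquiv,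
      Nat.card_congr (Subgroup.subgroupOfEquivOfLe hWH).toEquiv]
  have hle := Cfsg.Agent.Lib.le_pPrimeCore hN (by rw [hcard]; exact hWcop)
  rw [key, le_bot_iff] at hle
  have h1 : Nat.card ↥W = 1 := by
    rw [← hcard, hle]
    exact Subgroup.card_bot
  exact Subgroup.card_eq_one.mp h1

theorem result {G : Type*} [Group G] [Finite G]
    (h2 : Even (Nat.card G))
    (hs : ∀ t : G, orderOf t = 2 → Group.IsSolvable (Subgroup.centralizer ({t} : Set G)))
    (hc : ∀ t : G, orderOf t = 2 → Cfsg.oddCore (Subgroup.centralizer ({t} : Set G)) = ⊥) :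
    Cfsg.IsCharacteristicTwoType G := by
  haveI : Fact (Nat.Prime 2) := ⟨Nat.prime_two⟩
  refine ⟨h2, ?_⟩
  intro T hT hTne
  -- an involution in Z(T)
  obtain ⟨s, hsT, hsord, hsc⟩ : ∃ s ∈ T, orderOf s = 2 ∧ ∀ t ∈ T, t * s = s * t := by
    haveI : Nontrivial ↥T := (Subgroup.nontrivial_iff_ne_bot T).mpr hTne
    haveI : Nontrivial ↥(Subgroup.center ↥T) := hT.center_nontrivial
    have hZ : IsPGroup 2 ↥(Subgroup.center ↥T) := hT.to_subgroup _
    obtain ⟨k, hk⟩ := IsPGroup.iff_card.mp hZ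
    have hk0 : k ≠ 0 := by
      rintro rfl
      have h1 : Nat.card ↥(Subgroup.center ↥T) = 1 := by simpa using hk
      have := Finite.one_lt_card (α := ↥(Subgroup.center ↥T))
      omega
    have hdvd : 2 ∣ Nat.card ↥(Subgroup.center ↥T) := by
      rw [hk]; exact dvd_pow_self 2 hk0
    obtain ⟨z, hz⟩ := exists_prime_orderOf_dvd_card' 2 hdvd
    refine ⟨((z : ↥T) : G), (z : ↥T).2, ?_, ?_⟩
    · rw [Subgroup.orderOf_coe, Subgroup.orderOf_coe]; exact hz
    · intro t ht
      have := Subgroup.mem_center_iff.mp z.2 ⟨t, ht⟩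
      exact congrArg Subtype.val this
  have hsolv := hs s hsord
  have hcore : pPrimeCore 2 ↥(Subgroup.centralizer ({s} : Set G)) = ⊥ := hc s hsord
  set H := Subgroup.centralizer ({s} : Set G) with hH
  set N := Subgroup.normalizer (T : Set G) with hN
  have hTN : T ≤ N := Subgroup.le_normalizer
  have hTH : T ≤ H := by
    intro t ht
    rw [Subgroup.mem_centralizer_iff]
    intro y hy
    rw [Set.mem_singleton_iff] at hy
    subst hy
    exact (hsc t ht).symm
  -- (1) O(N) = 1
  have hON : pPrimeCore 2 ↥N = ⊥ := by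
    set W := (pPrimeCore 2 ↥N).map N.subtype with hW
    have hWcop : (Nat.card ↥W).Coprime 2 := by
      rw [← Nat.card_congr ((pPrimeCore 2 ↥N).equivMapOfInjective N.subtype
        N.subtype_injective).toEquiv]
      exact Cfsg.Agent.Lib.card_pPrimeCore_coprime 2
    have hWN : ∀ g ∈ N, ∀ w ∈ W, g * w * g⁻¹ ∈ W := by
      rintro g hg _ ⟨w, hw, rfl⟩
      refine ⟨⟨g, hg⟩ * w * ⟨g, hg⟩⁻¹, ?_, rfl⟩
      exact (inferInstance : (pPrimeCore 2 ↥N).Normal).conj_mem w hw ⟨g, hg⟩
    have hWleN : W ≤ N := by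
      rintro _ ⟨w, -, rfl⟩
      exact w.2
    have hdisj : W ⊓ T = ⊥ := by
      apply Disjoint.eq_bot
      apply Subgroup.disjoint_of_coprime_natCard
      obtain ⟨k, hk⟩ := IsPGroup.iff_card.mp hT
      rw [hk]
      exact Nat.Coprime.pow_right k hWcop
    have hWT : W ≤ Subgroup.centralizer (T : Set G) := by
      intro w hw
      rw [Subgroup.mem_centralizer_iff]
      intro t ht
      have h1 : w * t * w⁻¹ * t⁻¹ ∈ T := by
        have := (Subgroup.mem_normalizer_iff.mp (hWleN hw) t).mp ht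
        exact T.mul_mem this (T.inv_mem ht)
      have h2 : w * t * w⁻¹ * t⁻¹ ∈ W := by
        have := hWN t (hTN ht) w⁻¹ (W.inv_mem hw)
        have e : w * t * w⁻¹ * t⁻¹ = w * (t * w⁻¹ * t⁻¹) := by group
        rw [e]
        exact W.mul_mem hw this
      have h3 : w * t * w⁻¹ * t⁻¹ ∈ W ⊓ T := Subgroup.mem_inf.mpr ⟨h2, h1⟩
      rw [hdisj, Subgroup.mem_bot] at h3
      have h4 : w * t = (w * t * w⁻¹ * t⁻¹) * (t * w) := by group
      rw [h4, h3, one_mul]
    have hWH : W ≤ H := by
      intro w hw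
      rw [Subgroup.mem_centralizer_iff]
      intro y hy
      rw [Set.mem_singleton_iff] at hy
      subst hy
      exact Subgroup.mem_centralizer_iff.mp (hWT hw) y hsT
    have hWbot : W = ⊥ := by
      apply eq_bot_of_normalized H hsolv hcore T W hTH hT hWT hWH hWcop
      intro g _ hg1 hg2 w hw
      apply hWN g _ w hw
      rw [Subgroup.mem_normalizer_iff]
      intro y
      constructor
      · exact hg1 y
      · intro hy
        have := hg2 _ hy
        simpa [mul_assoc] using this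
    rw [hW, Subgroup.map_eq_bot_iff_of_injective _ N.subtype_injective] at hWbot
    exact hWbot
  -- (2) E(N) = 1
  have hEN : layer ↥N = ⊥ := by
    rw [Cfsg.Agent.Helper22.layer_eq_bot_iff]
    intro J hJ
    have hQn : (pCore 2 ↥N).Normal := by
      haveI := Cfsg.Agent.Lib.pCore_characteristic (G := ↥N) 2
      infer_instance
    have hQp : IsPGroup 2 ↥(pCore 2 ↥N) := Cfsg.Agent.Lib.isPGroup_pCore 2
    have hQnil : Group.IsNilpotent ↥(pCore 2 ↥N) := hQp.isNilpotent
    have hQs : Group.IsSolvable ↥(pCore 2 ↥N) := inferInstance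
    have hcomm := Cfsg.Agent.Helper21.IsComponent.commutator_eq_bot_of_isSolvable hJ (pCore 2 ↥N) hQs
      (by rw [Subgroup.normalizer_eq_top]; exact le_top)
    rw [Subgroup.commutator_eq_bot_iff_le_centralizer] at hcomm
    have hT1 : T.subgroupOf N ≤ pCore 2 ↥N :=
      Cfsg.Agent.Lib.le_pCore Subgroup.normal_in_normalizer
        (hT.comap_of_injective N.subtype N.subtype_injective)
    have hJH : ∀ j : ↥J, ((j : ↥N) : G) ∈ H := by
      intro j
      rw [Subgroup.mem_centralizer_iff]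
      intro y hy
      rw [Set.mem_singleton_iff] at hy
      subst hy
      have hs1 : (⟨y, hTN hsT⟩ : ↥N) ∈ pCore 2 ↥N := hT1 (Subgroup.mem_subgroupOf.mpr hsT)
      have := Subgroup.mem_centralizer_iff.mp (hcomm j.2) _ hs1
      exact congrArg Subtype.val this
    let f : ↥J →* ↥H :=
      { toFun := fun j => ⟨((j : ↥N) : G), hJH j⟩
        map_one' := rfl
        map_mul' := fun a b => rfl }
    have hf : Function.Injective f := by
      intro a b hab
      apply Subtype.ext
      apply Subtype.ext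
      have h := congrArg (fun z : ↥H => (z : G)) hab
      exact h
    haveI := hsolv
    exact Cfsg.Agent.Helper21.IsQuasisimple.not_isSolvable hJ.2
      (Group.isSolvable_of_isSolvable_injective hf)
  exact (Cfsg.Agent.Helper22.layer_eq_bot_iff_centralizer_pCore_le 2 hON).mp hEN

end Cfsg.Agent.S0505
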