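import Cfsg.Statements.S0520
import Cfsg.Agent.Helper21.FourGroups

set_option autoImplicit false
open Cfsg

namespace Cfsg.Agent.S0520

open Cfsg.Agent.Helper21

section

variable {G : Type*} [Group G]

/-- `g` keeps the component of the four-groups of `S` fixed. -/
def Good (S : Subgroup G) (g : G) : Prop :=
  ∀ U V : Subgroup G, U ≤ S → V ≤ S → IsKleinFour ↥U → IsKleinFour ↥V →
    FourConn G U (V.map (MulAut.conj g).toMonoidHom)

theorem map_conj_mul (V : Subgroup G) (g h : G) :
    V.map (MulAut.conj (g * h)).toMonoidHom =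
      (V.map (MulAut.conj h).toMonoidHom).map (MulAut.conj g).toMonoidHom := by
  rw [Subgroup.map_map]
  congr 1
  ext x
  simp [MulAut.conj_apply, mul_assoc]

theorem map_conj_one' (V : Subgroup G) : V.map (MulAut.conj (1 : G)).toMonoidHom = V := by
  ext x
  simp

/-- The stabilizer of the component, as a subgroup. -/
def goodSubgroup (S : Subgroup G) (hS : IsFourConnected ↥S) : Subgroup G where
  carrier := {g | Good S g}
  one_mem' := by
    intro U V hU hV hUk hVk
    rw [map_conj_one']
    exact fourConn_of_le hS hUk hVk hU hV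
  mul_mem' := by
    intro g h hg hh U V hU hV hUk hVk
    rw [map_conj_mul]
    have h1 : FourConn G U (V.map (MulAut.conj g).toMonoidHom) := hg U V hU hV hUk hVk
    have h2 : FourConn G V (V.map (MulAut.conj h).toMonoidHom) := hh V V hV hV hVk hVk
    have h3 := FourConn.map (MulAut.conj g).toMonoidHom (MulAut.conj g).injective h2
    exact h1.trans h3
  inv_mem' := by
    intro g hg U V hU hV hUk hVk
    have h1 : FourConn G V (U.map (MulAut.conj g).toMonoidHom) := hg V U hV hU hVk hUk
    have h2 := FourConn.map (MulAut.conj g⁻¹).toMonoidHom (MulAut.conj g⁻¹).injective h1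
    rw [← map_conj_mul, inv_mul_cancel, map_conj_one'] at h2
    exact h2.symm

end

/-- Let G be a finite group of 2-rank at least 2 and S a Sylow 2-subgroup whose commuting graph of Klein four-subgroups is
connected. Then the commuting graph of Klein four-subgroups of G is disconnected if and only if the 2-generated core — the
subgroup generated by the normalizers N_G(Q) of the subgroups Q of S that contain a Klein four-group — is a proper
subgroup of G. -/
theorem result {G : Type*} [Group G] [Finite G] (h2 : ¬ Cfsg.PRankLE 2 1 G)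
    (S : Sylow 2 G) (hS : Cfsg.IsFourConnected (S : Subgroup G)) :
    ¬ Cfsg.IsFourConnected G ↔
      (⨆ Q : {Q : Subgroup G // Q ≤ (S : Subgroup G) ∧ ¬ Cfsg.PRankLE 2 1 Q},
          Subgroup.normalizer ((Q : Subgroup G) : Set G)) ≠ ⊤ := by
  classical
  haveI : Fact (Nat.Prime 2) := ⟨Nat.prime_two⟩
  set H : Subgroup G := ⨆ Q : {Q : Subgroup G // Q ≤ (S : Subgroup G) ∧ ¬ Cfsg.PRankLE 2 1 Q},
          Subgroup.normalizer ((Q : Subgroup G) : Set G) with hH
  -- a four-group inside `S`
  have hGEA : HasEA 2 1 (⊤ : Subgroup G) := by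
    unfold Cfsg.PRankLE at h2
    push Not at h2
    obtain ⟨A, hAc, hAe, hA⟩ := h2
    exact ⟨A, le_top, fun a ha b hb => by
      have := hAc.is_comm.comm ⟨a, ha⟩ ⟨b, hb⟩
      exact congrArg Subtype.val this, hAe, hA⟩
  obtain ⟨U₁, -, hU₁⟩ := hGEA.exists_isKleinFour
  have hconjS : ∀ U : Subgroup G, IsKleinFour ↥U →
      ∃ a : G, U.map (MulAut.conj a).toMonoidHom ≤ (S : Subgroup G) := by
    intro U hU
    obtain ⟨T, hT⟩ := (IsKleinFour.isPGroup_two hU).exists_le_sylow
    obtain ⟨a, ha⟩ := MulAction.exists_smul_eq G T S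
    refine ⟨a, ?_⟩
    rintro _ ⟨u, hu, rfl⟩
    rw [← ha, Sylow.coe_subgroup_smul]
    exact Subgroup.smul_mem_pointwise_smul _ _ _ (hT hu)
  obtain ⟨a₀, ha₀⟩ := hconjS U₁ hU₁
  set U₀ := U₁.map (MulAut.conj a₀).toMonoidHom with hU₀
  have hU₀k : IsKleinFour ↥U₀ := isKleinFour_map _ (MulAut.conj a₀).injective hU₁
  have hU₀S : U₀ ≤ (S : Subgroup G) := ha₀
  -- `N_G(X) ≤ H` for `X ≤ S` of rank at least two
  have hNH : ∀ X : Subgroup G, X ≤ (S : Subgroup G) → HasEA 2 1 X →
      Subgroup.normalizer (X : Set G) ≤ H := by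
    intro X hXS hX
    exact le_iSup (fun Q : {Q : Subgroup G // Q ≤ (S : Subgroup G) ∧ ¬ Cfsg.PRankLE 2 1 Q} =>
      Subgroup.normalizer ((Q : Subgroup G) : Set G)) ⟨X, hXS, (not_prankLE_iff X).2 hX⟩
  have hSH : (S : Subgroup G) ≤ H :=
    Subgroup.le_normalizer.trans (hNH _ le_rfl (hU₀k.hasEA.mono hU₀S))
  constructor
  · -- not connected → H ≠ ⊤
    intro hnc hHtop
    apply hnc
    -- H ≤ K
    have hHK : H ≤ goodSubgroup (S : Subgroup G) hS := by
      apply iSup_le
      rintro ⟨Q, hQS, hQr⟩ g hg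
      obtain ⟨W, hWQ, hWk⟩ := ((not_prankLE_iff Q).1 hQr).exists_isKleinFour
      intro U V hU hV hUk hVk
      have hWg : W.map (MulAut.conj g).toMonoidHom ≤ (S : Subgroup G) := by
        rintro _ ⟨w, hw, rfl⟩
        exact hQS ((Subgroup.mem_normalizer_iff.1 hg w).1 (hWQ hw))
      have h1 : FourConn G U (W.map (MulAut.conj g).toMonoidHom) :=
        fourConn_of_le hS hUk (isKleinFour_map _ (MulAut.conj g).injective hWk) hU hWg
      have h2 : FourConn G W V := fourConn_of_le hS hWk hVk (hWQ.trans hQS) hV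
      exact h1.trans (FourConn.map _ (MulAut.conj g).injective h2)
    intro U V hUk hVk
    obtain ⟨a, ha⟩ := hconjS U hUk
    obtain ⟨b, hb⟩ := hconjS V hVk
    have hUa := isKleinFour_map (MulAut.conj a).toMonoidHom (MulAut.conj a).injective hUk
    have hVb := isKleinFour_map (MulAut.conj b).toMonoidHom (MulAut.conj b).injective hVk
    have hgood : ∀ g : G, Good (S : Subgroup G) g := fun g => hHK (hHtop ▸ Subgroup.mem_top g)
    have h1 := hgood a⁻¹ _ _ ha ha hUa hUa
    rw [← map_conj_mul, inv_mul_cancel, map_conj_one'] at h1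
    have h2 := hgood b⁻¹ _ _ hb hb hVb hVb
    rw [← map_conj_mul, inv_mul_cancel, map_conj_one'] at h2
    have h3 := fourConn_of_le hS hUa hVb ha hb
    exact (h1.symm.trans h3).trans h2
  · -- H ≠ ⊤ → not connected
    intro hHne hc
    apply hHne
    rw [eq_top_iff]
    intro g _
    set P : Sylow 2 ↥H := S.subtype hSH with hP
    have hPS : (P : Subgroup ↥H).map H.subtype = (S : Subgroup G) := by
      rw [hP, Sylow.coe_subtype, Subgroup.map_subgroupOf_eq_of_le hSH]
    have h1 : ∀ X : Subgroup G, X ≤ (P : Subgroup ↥H).map H.subtype → HasEA 2 1 X →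
        Subgroup.normalizer (X : Set G) ≤ H := by
      intro X hX hXea
      rw [hPS] at hX
      exact hNH X hX hXea
    apply mem_of_hasEA_inf_conj H P h1 g
    -- every four-group connected to `U₀` lies in `H`
    have hall : ∀ B : Subgroup G, FourConn G U₀ B → B ≤ H := by
      intro B hB
      unfold FourConn at hB
      induction hB with
      | refl => exact hU₀S.trans hSH
      | @tail A B' _ hbc ih =>
        have hN := normalizer_le_of_hasEA H P h1 A (IsKleinFour.isPGroup_two hbc.1) ih hbc.1.hasEA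
        intro b hb
        apply hN
        apply Subgroup.centralizer_le_normalizer
        rw [Subgroup.mem_centralizer_iff]
        intro a ha
        exact hbc.2.2 a ha b hb
    have hU₀g : IsKleinFour ↥(U₀.map (MulAut.conj g).toMonoidHom) :=
      isKleinFour_map _ (MulAut.conj g).injective hU₀k
    have h2 : U₀.map (MulAut.conj g).toMonoidHom ≤ H := hall _ (hc _ _ hU₀k hU₀g)
    have h3 : U₀.map (MulAut.conj g).toMonoidHom ≤ H.map (MulAut.conj g).toMonoidHom :=
      Subgroup.map_mono (hU₀S.trans hSH)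
    exact hU₀g.hasEA.mono (le_inf h2 h3)

end Cfsg.Agent.S0520
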