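import Cfsg.Statements.S0521
import Cfsg.Agent.Helper64.OddStable2
import Cfsg.Agent.Helper11.StableNormal
import Cfsg.Agent.Helper11.PSolvable
import Cfsg.Agent.Helper70.PSolvable
import Cfsg.Agent.Helper54.PConstrained
import Cfsg.Agent.Helper63.Frattini

set_option autoImplicit false
open Cfsg

namespace Cfsg.Agent.S0521

open Subgroup
open scoped commutatorElement

/-- The heart of the matter: in a finite solvable group `Y` of odd order with `O_{p'}(Y) = 1`, a Sylow
`p`-subgroup with cyclic commutator subgroup is normal. -/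
theorem sylow_le_pCore {Y : Type*} [Group Y] [Finite Y] [Group.IsSolvable Y]
    (hY : Odd (Nat.card Y)) (p : ℕ) [hp : Fact p.Prime] (hO : Cfsg.pPrimeCore p Y = ⊥)
    (T : Sylow p Y) (hT : IsCyclic ↥⁅(T : Subgroup Y), (T : Subgroup Y)⁆) :
    (T : Subgroup Y) ≤ Cfsg.pCore p Y := by
  set P := Cfsg.pCore p Y with hP
  have hPn : P.Normal := by
    have := Cfsg.Agent.Lib.pCore_characteristic (G := Y) p
    infer_instance
  have hPp : IsPGroup p P := Cfsg.Agent.Lib.isPGroup_pCore p
  have hPT : P ≤ (T : Subgroup Y) := Cfsg.Agent.Lib.pCore_le_sylow T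
  have hsol : Cfsg.IsPSolvable p Y := Cfsg.Agent.Helper70.isPSolvable_of_isSolvable p
  have hc : centralizer (P : Set Y) ≤ P :=
    Cfsg.Agent.Helper11.centralizer_pCore_le_of_isPSolvable hsol hO
  have hΦn : ((frattini ↥P).map P.subtype).Normal := inferInstance
  have h2 : Cfsg.IsPStableOnSection p P ((frattini ↥P).map P.subtype) :=
    Cfsg.Agent.Helper64.isPStableOnSection_of_odd_solvable hY P _ hPp
  intro x hx
  apply Cfsg.Agent.Helper11.mem_pCore_of_quadratic_section hc h2 x
  -- the cyclic group `D = P ∩ T'`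
  set D : Subgroup Y := P ⊓ ⁅(T : Subgroup Y), (T : Subgroup Y)⁆ with hD
  have hDcyc : IsCyclic D := Subgroup.isCyclic_of_le (inf_le_right : D ≤ ⁅(T : Subgroup Y), (T : Subgroup Y)⁆)
  have hDT : D ≤ (T : Subgroup Y) := inf_le_left.trans hPT
  have hDp : IsPGroup p D := T.2.to_le hDT
  have hzx : zpowers x ≤ (T : Subgroup Y) := by rw [zpowers_le]; exact hx
  have h1 : ⁅P, zpowers x⁆ ≤ D := by
    refine le_inf (Subgroup.commutator_le_left P (zpowers x)) ?_
    exact Subgroup.commutator_mono hPT hzx
  -- `T` normalizes `D`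
  have hTD : (T : Subgroup Y) ≤ normalizer (D : Set Y) := by
    intro t ht
    rw [mem_normalizer_iff]
    intro d
    have key : ∀ (s : Y), s ∈ (T : Subgroup Y) → ∀ d, d ∈ D → s * d * s⁻¹ ∈ D := by
      intro s hs d hd
      refine ⟨hPn.conj_mem d hd.1 s, ?_⟩
      have hn : ⁅(T : Subgroup Y), (T : Subgroup Y)⁆ ≤ (T : Subgroup Y) :=
        Subgroup.commutator_le_self _
      have h3 : (T : Subgroup Y) ≤
          normalizer ((⁅(T : Subgroup Y), (T : Subgroup Y)⁆ : Subgroup Y) : Set Y) := by
        rw [Subgroup.le_normalizer_iff_commutator_le_left]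
        exact Subgroup.commutator_mono hn le_rfl
      exact ((mem_normalizer_iff.mp (h3 hs)) d).mp hd.2
    constructor
    · exact key t ht d
    · intro h
      have := key t⁻¹ (inv_mem ht) _ h
      simpa [mul_assoc] using this
  set E : Subgroup Y := ⁅D, (T : Subgroup Y)⁆ with hE
  have hED : E ≤ D := Subgroup.le_normalizer_iff_commutator_le_left.mp hTD
  have hqE : ⁅⁅P, zpowers x⁆, zpowers x⁆ ≤ E := Subgroup.commutator_mono h1 hzx
  refine hqE.trans ?_
  by_cases hDb : D = ⊥
  · rw [hE, hDb]
    rw [Subgroup.commutator_bot_left]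
    exact bot_le
  have hnil : Group.IsNilpotent (T : Subgroup Y) := T.2.isNilpotent
  have hne : E ≠ D := Cfsg.Agent.Helper64.commutator_ne_self_of_isNilpotent (T : Subgroup Y) D hDT hDb
  have hlt : E < D := lt_of_le_of_ne hED hne
  intro e he
  obtain ⟨d, hd, rfl⟩ := Cfsg.Agent.Helper64.exists_pow_eq_of_lt_of_isCyclic D E hDp hlt e he
  have hdP : d ∈ P := hd.1
  have := Cfsg.Agent.Helper63.pow_prime_mem_frattini hPp (⟨d, hdP⟩ : P)
  exact ⟨_, this, rfl⟩

/-- Let X be a finite solvable group of odd order, p a prime and S a Sylow p-subgroup of X whose commutator subgroup is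
cyclic. Then the product of the largest normal subgroup of X of order prime to p with S is a normal subgroup of X. -/
theorem result {X : Type*} [Group X] [Finite X] [Group.IsSolvable X]
    (hX : Odd (Nat.card X)) (p : ℕ) [Fact p.Prime] (S : Sylow p X) (hS : IsCyclic (commutator (S : Subgroup X))) :
    (Cfsg.pPrimeCore p X ⊔ (S : Subgroup X)).Normal := by
  set K := Cfsg.pPrimeCore p X with hK
  have hKn : K.Normal := by
    have := Cfsg.Agent.Lib.pPrimeCore_characteristic (G := X) p
    infer_instance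
  set π := QuotientGroup.mk' K with hπ
  have hπs : Function.Surjective π := QuotientGroup.mk'_surjective K
  have hodd' : Odd (Nat.card (X ⧸ K)) := Odd.of_dvd_nat hX (Subgroup.card_quotient_dvd_card K)
  have hO : Cfsg.pPrimeCore p (X ⧸ K) = ⊥ := Cfsg.Agent.Helper54.pPrimeCore_quotient_eq_bot
  set T : Sylow p (X ⧸ K) := S.mapSurjective hπs with hT
  have hTcoe : (T : Subgroup (X ⧸ K)) = (S : Subgroup X).map π := rfl
  -- the commutator subgroup of `T` is cyclic
  have hcyc : IsCyclic ↥⁅(T : Subgroup (X ⧸ K)), (T : Subgroup (X ⧸ K))⁆ := by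
    rw [hTcoe, ← Subgroup.map_commutator, ← Subgroup.map_subtype_commutator, Subgroup.map_map]
    let g : ↥(commutator ↥(S : Subgroup X)) →* ↥((commutator ↥(S : Subgroup X)).map (π.comp (S : Subgroup X).subtype)) :=
      (π.comp (S : Subgroup X).subtype).subgroupMap (commutator ↥(S : Subgroup X))
    exact isCyclic_of_surjective g ((π.comp (S : Subgroup X).subtype).subgroupMap_surjective _)
  have hle := sylow_le_pCore hodd' p hO T hcyc
  have heq : (T : Subgroup (X ⧸ K)) = Cfsg.pCore p (X ⧸ K) :=
    le_antisymm hle (Cfsg.Agent.Lib.pCore_le_sylow T)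
  have hTn : (T : Subgroup (X ⧸ K)).Normal := by
    rw [heq]
    have := Cfsg.Agent.Lib.pCore_characteristic (G := X ⧸ K) p
    infer_instance
  have hcomap : K ⊔ (S : Subgroup X) = (T : Subgroup (X ⧸ K)).comap π := by
    rw [hTcoe, Subgroup.comap_map_eq, hπ, QuotientGroup.ker_mk', sup_comm]
  rw [hcomap]
  exact hTn.comap π

end Cfsg.Agent.S0521
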