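import Cfsg.Statements.S0529
import Cfsg.Agent.Helper9.Supersolvable3

set_option autoImplicit false
open Cfsg

namespace Cfsg.Agent.S0529

open Cfsg.Agent.Helper9 in
theorem relIndex_comap_comap_mk' {G : Type*} [Group G] (N : Subgroup G) [N.Normal]
    (A B : Subgroup (G ⧸ N)) :
    (A.comap (QuotientGroup.mk' N)).relIndex (B.comap (QuotientGroup.mk' N)) = A.relIndex B := by
  rw [Subgroup.relIndex_comap,
    Subgroup.map_comap_eq_self_of_surjective (QuotientGroup.mk'_surjective N)]

open Cfsg.Agent.Helper9 in
/-- A finite supersolvable group has a chain of normal subgroups, from the trivial subgroup to the whole group, in which every step has prime index and the primes occurring are non-increasing as one goes up the chain. -/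
theorem result {G : Type*} [Group G] [Finite G] (hG : Cfsg.IsSupersolvable G) : ∃ (n : ℕ) (H : Fin (n + 1) → Subgroup G), H 0 = ⊥ ∧ H (Fin.last n) = ⊤ ∧ (∀ i, (H i).Normal) ∧ (∀ i : Fin n, H i.castSucc ≤ H i.succ ∧ ((H i.castSucc).relIndex (H i.succ)).Prime) ∧ ∀ i j : Fin n, i ≤ j → (H j.castSucc).relIndex (H j.succ) ≤ (H i.castSucc).relIndex (H i.succ) := by
  refine supersolvable_induction
    (P := fun G _ => ∃ (n : ℕ) (H : Fin (n + 1) → Subgroup G), H 0 = ⊥ ∧ H (Fin.last n) = ⊤ ∧
      (∀ i, (H i).Normal) ∧
      (∀ i : Fin n, H i.castSucc ≤ H i.succ ∧ ((H i.castSucc).relIndex (H i.succ)).Prime) ∧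
      ∀ i j : Fin n, i ≤ j →
        (H j.castSucc).relIndex (H j.succ) ≤ (H i.castSucc).relIndex (H i.succ)) ?_ ?_ G hG
  · intro G _ _
    exact ⟨0, fun _ => ⊥, rfl, Subsingleton.elim _ _, fun _ => Subgroup.normal_bot,
      fun i => i.elim0, fun i => i.elim0⟩
  · intro G _ _ _ N₀ _ _ hG _ ih
    -- the largest prime divisor of the order
    have hcard1 : 1 < Nat.card G := Finite.one_lt_card
    have hne : (Nat.card G).primeFactors.Nonempty := by
      rw [Nat.nonempty_primeFactors]; exact hcard1
    set p := (Nat.card G).primeFactors.max' hne with hpdef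
    have hpmem : p ∈ (Nat.card G).primeFactors := Finset.max'_mem _ hne
    have hp : p.Prime := Nat.prime_of_mem_primeFactors hpmem
    have hpd : p ∣ Nat.card G := Nat.dvd_of_mem_primeFactors hpmem
    have hmax : ∀ q : ℕ, q.Prime → q ∣ Nat.card G → q ≤ p := by
      intro q hq hqd
      apply Finset.le_max'
      exact Nat.mem_primeFactors.mpr ⟨hq, hqd, Nat.card_pos.ne'⟩
    obtain ⟨N, hNn, hNc⟩ := exists_normal_card_eq_largest_prime hG p hp hpd hmax
    have hNp : (Nat.card N).Prime := hNc ▸ hp
    have hlt := card_quotient_lt_of_prime N hNp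
    obtain ⟨n, H, h0, hl, hn, hs, hmono⟩ := ih (G ⧸ N) (isSupersolvable_quotient N hG) hlt
    let π := QuotientGroup.mk' N
    let H' : Fin (n + 2) → Subgroup G := Fin.cons ⊥ (fun i => (H i).comap π)
    have hH'0 : H' 0 = ⊥ := rfl
    have hH's : ∀ i : Fin (n + 1), H' i.succ = (H i).comap π := fun i => rfl
    have hH'c0 : H' (0 : Fin (n + 1)).castSucc = ⊥ := rfl
    have hH'cs : ∀ j : Fin n, H' j.succ.castSucc = (H j.castSucc).comap π := fun j => rfl
    have hr0 : (H' (0 : Fin (n + 1)).castSucc).relIndex (H' (0 : Fin (n + 1)).succ) = p := by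
      rw [hH'c0, hH's, h0, Subgroup.relIndex_bot_left, MonoidHom.comap_bot,
        QuotientGroup.ker_mk', hNc]
    have hrs : ∀ j : Fin n, (H' j.succ.castSucc).relIndex (H' j.succ.succ) =
        (H j.castSucc).relIndex (H j.succ) := by
      intro j
      rw [hH'cs, hH's]
      exact relIndex_comap_comap_mk' N _ _
    have hprime : ∀ i : Fin (n + 1), ((H' i.castSucc).relIndex (H' i.succ)).Prime := by
      intro i
      induction i using Fin.cases with
      | zero => rw [hr0]; exact hp
      | succ j => rw [hrs]; exact (hs j).2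
    refine ⟨n + 1, H', hH'0, ?_, ?_, ?_, ?_⟩
    · have : Fin.last (n + 1) = (Fin.last n).succ := rfl
      rw [this, hH's, hl, Subgroup.comap_top]
    · intro i
      induction i using Fin.cases with
      | zero => rw [hH'0]; exact Subgroup.normal_bot
      | succ j => rw [hH's]; exact (hn j).comap π
    · intro i
      refine ⟨?_, hprime i⟩
      induction i using Fin.cases with
      | zero => rw [hH'c0]; exact bot_le
      | succ j => rw [hH'cs, hH's]; exact Subgroup.comap_mono (hs j).1
    · intro i j hij
      induction i using Fin.cases with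
      | zero =>
        rw [hr0]
        apply hmax _ (hprime j)
        exact dvd_trans (Subgroup.relIndex_dvd_card _ _) (Subgroup.card_subgroup_dvd_card _)
      | succ i' =>
        induction j using Fin.cases with
        | zero => exact absurd hij (by simp)
        | succ j' =>
          rw [hrs, hrs]
          exact hmono i' j' (Fin.succ_le_succ_iff.mp hij)

end Cfsg.Agent.S0529
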