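import Cfsg.Statements.S0535
import Cfsg.Agent.S0007
import Cfsg.Agent.S0019
import Cfsg.Agent.Lib.BurnsidePQ

set_option autoImplicit false
open Cfsg

namespace Cfsg.Agent.S0535

theorem solvable_of_three {H : Type*} [Group H] [Finite H] (Kp Kq Kr : Subgroup H)
    (hp : Group.IsSolvable Kp) (hq : Group.IsSolvable Kq) (hr : Group.IsSolvable Kr)
    (hpq : Kp.index.Coprime Kq.index) (hpr : Kp.index.Coprime Kr.index)
    (hqr : Kq.index.Coprime Kr.index) : Group.IsSolvable H :=
  Cfsg.Agent.S0019.result Kp Kq Kr hp hq hr (Cfsg.Agent.S0007.result Kp Kq hpq).2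
    (Cfsg.Agent.S0007.result Kp Kr hpr).2 hqr

theorem card_map_lt {G : Type*} [Group G] [Finite G] (H : Subgroup G) (K : Subgroup H)
    (hK : K ≠ ⊤) : Nat.card (K.map H.subtype) < Nat.card H := by
  rw [Subgroup.card_map_of_injective H.subtype_injective]
  have h1 := K.card_mul_index
  have h2 : K.index ≠ 1 := fun h => hK (Subgroup.index_eq_one.mp h)
  have h3 : K.index ≠ 0 := Subgroup.index_ne_zero_of_finite
  have h4 : 0 < Nat.card K := Nat.card_pos
  have : 2 ≤ K.index := by omega
  nlinarith

/-- Suppose that for every nontrivial subgroup H of a finite group and every prime p dividing the order of H there is a proper subgroup of H whose index in H is a power of p. Then the group is solvable. -/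
theorem result {G : Type*} [Group G] [Finite G] (h : ∀ H : Subgroup G, H ≠ ⊥ → ∀ p : ℕ, p.Prime → p ∣ Nat.card H → ∃ K : Subgroup H, K ≠ ⊤ ∧ ∃ k : ℕ, K.index = p ^ k) : Group.IsSolvable G := by
  have key : ∀ n : ℕ, ∀ H : Subgroup G, Nat.card H ≤ n → Group.IsSolvable H := by
    intro n
    induction n with
    | zero =>
      intro H hH
      have : 0 < Nat.card H := Nat.card_pos
      omega
    | succ n ih =>
      intro H hH
      by_cases h3 : ∃ p q r : ℕ, p.Prime ∧ q.Prime ∧ r.Prime ∧ p ≠ q ∧ p ≠ r ∧ q ≠ r ∧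
          p ∣ Nat.card H ∧ q ∣ Nat.card H ∧ r ∣ Nat.card H
      · obtain ⟨p, q, r, hp, hq, hr, hpq, hpr, hqr, hpd, hqd, hrd⟩ := h3
        have hHbot : H ≠ ⊥ := by
          intro hb
          rw [hb, Subgroup.card_bot] at hpd
          exact hp.one_lt.ne' (Nat.dvd_one.mp hpd)
        obtain ⟨Kp, hKp, a, ha⟩ := h H hHbot p hp hpd
        obtain ⟨Kq, hKq, b, hb⟩ := h H hHbot q hq hqd
        obtain ⟨Kr, hKr, c, hc⟩ := h H hHbot r hr hrd
        have hsolv : ∀ K : Subgroup H, K ≠ ⊤ → Group.IsSolvable K := by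
          intro K hK
          have h1 : Group.IsSolvable (K.map H.subtype) :=
            ih _ (by have := card_map_lt H K hK; omega)
          have e : K ≃* K.map H.subtype := K.equivMapOfInjective H.subtype H.subtype_injective
          exact Group.isSolvable_of_isSolvable_injective (f := e.toMonoidHom) e.injective
        apply solvable_of_three Kp Kq Kr (hsolv Kp hKp) (hsolv Kq hKq) (hsolv Kr hKr)
        · rw [ha, hb]
          exact Nat.Coprime.pow _ _ ((Nat.coprime_primes hp hq).mpr hpq)
        · rw [ha, hc]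
          exact Nat.Coprime.pow _ _ ((Nat.coprime_primes hp hr).mpr hpr)
        · rw [hb, hc]
          exact Nat.Coprime.pow _ _ ((Nat.coprime_primes hq hr).mpr hqr)
      · -- at most two prime divisors: Burnside
        have hex : ∃ p q : ℕ, p.Prime ∧ q.Prime ∧
            ∀ r : ℕ, r.Prime → r ∣ Nat.card H → r = p ∨ r = q := by
          by_cases h1 : ∃ p : ℕ, p.Prime ∧ p ∣ Nat.card H
          · obtain ⟨p, hp, hpd⟩ := h1
            by_cases h2 : ∃ q : ℕ, q.Prime ∧ q ∣ Nat.card H ∧ q ≠ p
            · obtain ⟨q, hq, hqd, hqp⟩ := h2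
              refine ⟨p, q, hp, hq, fun r hr hrd => ?_⟩
              by_contra hne
              push Not at hne
              exact h3 ⟨p, q, r, hp, hq, hr, fun e => hqp e.symm, fun e => hne.1 e.symm,
                fun e => hne.2 e.symm, hpd, hqd, hrd⟩
            · refine ⟨p, p, hp, hp, fun r hr hrd => ?_⟩
              by_contra hne
              exact h2 ⟨r, hr, hrd, fun e => hne (Or.inl e)⟩
          · exact ⟨2, 2, Nat.prime_two, Nat.prime_two, fun r hr hrd => (h1 ⟨r, hr, hrd⟩).elim⟩
        obtain ⟨p, q, hp, hq, hall⟩ := hex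
        exact Cfsg.Agent.Lib.isSolvable_of_prime_dvd_card hp hq hall
  have htop := key (Nat.card (⊤ : Subgroup G)) ⊤ le_rfl
  exact Group.isSolvable_of_surjective (f := (⊤ : Subgroup G).subtype)
    (fun g => ⟨⟨g, Subgroup.mem_top g⟩, rfl⟩)

end Cfsg.Agent.S0535
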