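import Mathlib
import Cfsg.Statements.S0537
import Cfsg.Agent.S0536
-- import your own Cfsg.Agent.* helpers here

set_option autoImplicit false
set_option linter.unusedSectionVars false
open Cfsg

namespace Cfsg.Agent.S0537

open Subgroup

section
variable {G : Type*} [Group G] [Finite G]


lemma nilpotent_of_comm {H : Type*} [Group H] (h : IsMulCommutative H) : Group.IsNilpotent H :=
  ⟨⟨1, Subgroup.upperCentralSeries_one_eq_top_iff.mpr h⟩⟩

/-- A finite nilpotent group all of whose Sylow subgroups are commutative is commutative. -/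
lemma comm_of_nilpotent_of_sylow_comm (hnil : Group.IsNilpotent G)
    (hs : ∀ (p : ℕ) (_ : p.Prime) (P : Sylow p G), IsMulCommutative (P : Subgroup G)) :
    IsMulCommutative G := by
  obtain ⟨e⟩ := ((Group.isNilpotent_of_finite_tfae (G := G)).out 0 4 rfl rfl).mp hnil
  refine ⟨⟨fun a b => ?_⟩⟩
  obtain ⟨a, rfl⟩ := e.surjective a
  obtain ⟨b, rfl⟩ := e.surjective b
  rw [← map_mul, ← map_mul]
  congr 1
  funext p P
  have := hs p (Nat.prime_of_mem_primeFactors p.2) P
  exact mul_comm' (a p P) (b p P)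

lemma nilpotent_case (hna : ¬ IsMulCommutative G)
    (h : ∀ H : Subgroup G, H ≠ ⊤ → IsMulCommutative H) (hnil : Group.IsNilpotent G) :
    ∃ p : ℕ, p.Prime ∧ IsPGroup p G := by
  by_contra hcon
  push Not at hcon
  apply hna
  apply comm_of_nilpotent_of_sylow_comm hnil
  intro p hp P
  apply h
  intro htop
  apply hcon p hp
  have h1 : IsPGroup p (⊤ : Subgroup G) := htop ▸ P.2
  exact h1.of_equiv Subgroup.topEquiv


/-- `Ω₁(Q)` for a commutative subgroup `Q`. -/
def omega (q : ℕ) (Q : Subgroup G) (hQ : IsMulCommutative Q) : Subgroup G where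
  carrier := {y | y ∈ Q ∧ y ^ q = 1}
  one_mem' := ⟨Q.one_mem, one_pow _⟩
  mul_mem' := by
    rintro a b ⟨ha, ha'⟩ ⟨hb, hb'⟩
    refine ⟨Q.mul_mem ha hb, ?_⟩
    have hc : Commute a b := by
      have := mul_comm' (⟨a, ha⟩ : Q) ⟨b, hb⟩
      exact congrArg Subtype.val this
    rw [hc.mul_pow, ha', hb', one_mul]
  inv_mem' := by
    rintro a ⟨ha, ha'⟩
    exact ⟨Q.inv_mem ha, by rw [inv_pow, ha', inv_one]⟩

lemma mem_omega {q : ℕ} {Q : Subgroup G} {hQ : IsMulCommutative Q} {y : G} :
    y ∈ omega q Q hQ ↔ y ∈ Q ∧ y ^ q = 1 := Iff.rfl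

lemma omega_normal {q : ℕ} {Q : Subgroup G} {hQ : IsMulCommutative Q} (hn : Q.Normal) :
    (omega q Q hQ).Normal := by
  refine ⟨fun y hy g => ?_⟩
  rw [mem_omega] at hy ⊢
  refine ⟨hn.conj_mem y hy.1 g, ?_⟩
  rw [conj_pow, hy.2, mul_one, mul_inv_cancel]

/-- Key computation: if `x` centralizes `Ω₁(Q)` and `x ^ m = 1` with `m` coprime to `q`,
then `x` centralizes every `q`-power-torsion element of `Q`. -/
lemma commute_of_commute_omega {q : ℕ} {Q : Subgroup G} {hQ : IsMulCommutative Q} (hn : Q.Normal)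
    {x : G} {m : ℕ} (hm : x ^ m = 1) (hmq : Nat.Coprime m q)
    (hx : ∀ c ∈ omega q Q hQ, Commute x c) :
    ∀ (k : ℕ) (y : G), y ∈ Q → y ^ q ^ k = 1 → Commute x y := by
  intro k
  induction k with
  | zero =>
    intro y _ hy
    rw [pow_zero, pow_one] at hy
    rw [hy]
    exact Commute.one_right x
  | succ k ih =>
    intro y hyQ hy
    have hyq : Commute x (y ^ q) := by
      apply ih _ (Q.pow_mem hyQ q)
      rw [← pow_mul, ← pow_succ']
      exact hy
    set y' := x * y * x⁻¹ with hy'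
    have hy'Q : y' ∈ Q := hn.conj_mem y hyQ x
    set c := y' * y⁻¹ with hc
    have hy'q : y' ^ q = y ^ q := by
      rw [hy', conj_pow, hyq.eq, mul_inv_cancel_right]
    have hcomm : Commute y' y⁻¹ := by
      have := mul_comm' (⟨y', hy'Q⟩ : Q) ⟨y⁻¹, Q.inv_mem hyQ⟩
      exact congrArg Subtype.val this
    have hcq : c ^ q = 1 := by
      rw [hc, hcomm.mul_pow, hy'q, inv_pow, mul_inv_cancel]
    have hcO : c ∈ omega q Q hQ := ⟨Q.mul_mem hy'Q (Q.inv_mem hyQ), hcq⟩
    have hxc : Commute x c := hx c hcO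
    have hxy : x * y = c * y * x := by
      rw [hc, hy']
      group
    have hpow : ∀ j : ℕ, x ^ j * y = c ^ j * y * x ^ j := by
      intro j
      induction j with
      | zero => simp
      | succ j ihj =>
        calc x ^ (j + 1) * y = x * (x ^ j * y) := by rw [pow_succ', mul_assoc]
          _ = x * (c ^ j * y * x ^ j) := by rw [ihj]
          _ = (x * c ^ j) * y * x ^ j := by simp only [mul_assoc]
          _ = (c ^ j * x) * y * x ^ j := by rw [(hxc.pow_right j).eq]
          _ = c ^ j * (x * y) * x ^ j := by simp only [mul_assoc]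
          _ = c ^ j * (c * y * x) * x ^ j := by rw [hxy]
          _ = c ^ (j + 1) * y * x ^ (j + 1) := by
            rw [pow_succ, pow_succ']
            simp only [mul_assoc]
    have hcm : c ^ m = 1 := by
      have := hpow m
      rw [hm, one_mul, mul_one] at this
      exact (mul_eq_right.mp this.symm)
    have hc1 : c = 1 := by
      have h1 : orderOf c ∣ m := orderOf_dvd_of_pow_eq_one hcm
      have h2 : orderOf c ∣ q := orderOf_dvd_of_pow_eq_one hcq
      have h3 : orderOf c ∣ Nat.gcd m q := Nat.dvd_gcd h1 h2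
      rw [hmq.gcd_eq_one, Nat.dvd_one] at h3
      exact orderOf_eq_one_iff.mp h3
    rw [hc1, one_mul] at hxy
    exact hxy


lemma non_nilpotent_case (h : ∀ H : Subgroup G, H ≠ ⊤ → IsMulCommutative H)
    (hnil : ¬ Group.IsNilpotent G) :
    ∃ p q : ℕ, p.Prime ∧ q.Prime ∧ p ≠ q ∧ ∃ (P : Sylow p G) (Q : Sylow q G), IsCyclic P ∧
      (Q : Subgroup G).Normal ∧ Cfsg.IsElementaryAbelian q (Q : Subgroup G) ∧
      (P : Subgroup G) ⊔ Q = ⊤ := by
  have hG : IsMinimalNonNilpotent G := ⟨hnil, fun H hH => nilpotent_of_comm (h H hH)⟩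
  obtain ⟨p, q, hp, hq, hpq, P, Q, hPn, hQ, htop⟩ := S0536.exists_sup_eq_top hG
  have hcyc := S0536.isCyclic_of hG hp hq hpq P Q hPn hQ htop
  refine ⟨p, q, hp, hq, hpq, P, Q, hcyc, hQ, ?_, htop⟩
  have := Fact.mk hp
  have := Fact.mk hq
  have hdisj : Disjoint (P : Subgroup G) Q := IsPGroup.disjoint_of_ne p q hpq _ _ P.2 Q.2
  have hQtop : (Q : Subgroup G) ≠ ⊤ := by
    intro hQt
    apply hPn
    have : (P : Subgroup G) = ⊥ := by
      have := hdisj.eq_bot
      rwa [hQt, inf_top_eq] at this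
    rw [this]
    infer_instance
  have hQc : IsMulCommutative (Q : Subgroup G) := h _ hQtop
  refine ⟨hQc, ?_⟩
  have hOn : (omega q (Q : Subgroup G) hQc).Normal := omega_normal (q := q) (Q := (Q : Subgroup G)) (hQ := hQc) hQ
  by_cases hPO : (P : Subgroup G) ⊔ omega q (Q : Subgroup G) hQc = ⊤
  · intro z hz
    have hz' : z ∈ (P : Subgroup G) ⊔ omega q (Q : Subgroup G) hQc := hPO ▸ mem_top z
    rw [← SetLike.mem_coe, Subgroup.mul_normal, Set.mem_mul] at hz'
    obtain ⟨a, ha, b, hb, hab⟩ := hz'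
    have hb' : b ∈ (Q : Subgroup G) ∧ b ^ q = 1 := hb
    have haQ : a ∈ (Q : Subgroup G) := by
      have : a = z * b⁻¹ := by rw [← hab]; group
      rw [this]
      exact mul_mem hz (inv_mem hb'.1)
    have ha1 : a = 1 := Subgroup.disjoint_def.mp hdisj ha haQ
    rw [← hab, ha1, one_mul]
    exact hb'.2
  · exfalso
    have hPOc : IsMulCommutative ↥((P : Subgroup G) ⊔ omega q (Q : Subgroup G) hQc) := h _ hPO
    apply hPn
    rw [← normalizer_eq_top_iff, eq_top_iff, ← htop]
    refine sup_le le_normalizer ?_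
    refine le_trans ?_ (centralizer_le_normalizer _)
    intro z hz
    rw [mem_centralizer_iff]
    intro x hx
    have hx : x ∈ (P : Subgroup G) := hx
    obtain ⟨k, hk⟩ := P.2 ⟨x, hx⟩
    have hk' : x ^ p ^ k = 1 := by simpa using congrArg Subtype.val hk
    obtain ⟨j, hj⟩ := Q.2 ⟨z, hz⟩
    have hj' : z ^ q ^ j = 1 := by simpa using congrArg Subtype.val hj
    have hcop : Nat.Coprime (p ^ k) q :=
      Nat.Coprime.pow_left k ((Nat.coprime_primes hp hq).mpr hpq)
    have hmain := commute_of_commute_omega (hQ := hQc) hQ hk' hcop ?_ j z hz hj'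
    · exact hmain.eq
    · intro c hc
      have h1 : x ∈ (P : Subgroup G) ⊔ omega q (Q : Subgroup G) hQc := (le_sup_left : (P : Subgroup G) ≤ _) hx
      have h2 : c ∈ (P : Subgroup G) ⊔ omega q (Q : Subgroup G) hQc :=
        (le_sup_right : omega q (Q : Subgroup G) hQc ≤ (P : Subgroup G) ⊔ omega q (Q : Subgroup G) hQc) hc
      have := mul_comm' (⟨x, h1⟩ : ↥((P : Subgroup G) ⊔ omega q (Q : Subgroup G) hQc)) ⟨c, h2⟩
      exact congrArg Subtype.val this

end

/-- A finite non-abelian group in which every proper subgroup is abelian is either of prime-power order, or is generated by a cyclic Sylow p-subgroup and a normal Sylow q-subgroup that is elementary abelian, for distinct primes p and q. -/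
theorem result {G : Type*} [Group G] [Finite G] (hna : ¬ IsMulCommutative G) (h : ∀ H : Subgroup G, H ≠ ⊤ → IsMulCommutative H) : (∃ p : ℕ, p.Prime ∧ IsPGroup p G) ∨ ∃ p q : ℕ, p.Prime ∧ q.Prime ∧ p ≠ q ∧ ∃ (P : Sylow p G) (Q : Sylow q G), IsCyclic P ∧ (Q : Subgroup G).Normal ∧ Cfsg.IsElementaryAbelian q (Q : Subgroup G) ∧ (P : Subgroup G) ⊔ Q = ⊤ := by
  by_cases hnil : Group.IsNilpotent G
  · exact Or.inl (nilpotent_case hna h hnil)
  · exact Or.inr (non_nilpotent_case h hnil)

end Cfsg.Agent.S0537
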