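import Mathlib
import Cfsg.Statements.S0550
import Cfsg.Agent.Helper10.CoreFree

set_option autoImplicit false
open Cfsg

open Subgroup
open Cfsg.Agent

namespace Cfsg.Agent.S0550

/-- If `G = A U` with `A` normal, `A ∩ U = 1` and `A ∩ X = 1`, then `X ≅ (A ⊔ X) ∩ U`. -/
theorem iso_inf_of_complement {G : Type*} [Group G] (A X U : Subgroup G) [A.Normal]
    (hAU : ∀ g : G, ∃ a ∈ A, ∃ u ∈ U, a * u = g) (hAU' : A ⊓ U = ⊥) (hAX : A ⊓ X = ⊥) :
    Nonempty (X ≃* ↥((A ⊔ X) ⊓ U)) := by
  let f : X →* G ⧸ A := (QuotientGroup.mk' A).comp X.subtype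
  let g : ↥((A ⊔ X) ⊓ U) →* G ⧸ A := (QuotientGroup.mk' A).comp ((A ⊔ X) ⊓ U).subtype
  have hf : Function.Injective f := by
    rw [injective_iff_map_eq_one]
    rintro ⟨x, hx⟩ h1
    simp only [f, MonoidHom.comp_apply, Subgroup.coe_subtype, QuotientGroup.mk'_apply,
      QuotientGroup.eq_one_iff] at h1
    have : x ∈ A ⊓ X := ⟨h1, hx⟩
    rw [hAX, Subgroup.mem_bot] at this
    exact Subtype.ext this
  have hg : Function.Injective g := by
    rw [injective_iff_map_eq_one]
    rintro ⟨x, hx⟩ h1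
    simp only [g, MonoidHom.comp_apply, Subgroup.coe_subtype, QuotientGroup.mk'_apply,
      QuotientGroup.eq_one_iff] at h1
    have : x ∈ A ⊓ U := ⟨h1, hx.2⟩
    rw [hAU', Subgroup.mem_bot] at this
    exact Subtype.ext this
  have hrange : f.range = g.range := by
    apply le_antisymm
    · rintro _ ⟨⟨x, hx⟩, rfl⟩
      obtain ⟨a, ha, u, hu, hau⟩ := hAU x
      have huD : u ∈ (A ⊔ X) ⊓ U := by
        refine ⟨?_, hu⟩
        have : u = a⁻¹ * x := by rw [← hau]; group
        rw [this]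
        exact Subgroup.mul_mem_sup (A.inv_mem ha) hx
      refine ⟨⟨u, huD⟩, ?_⟩
      simp only [f, g, MonoidHom.comp_apply, Subgroup.coe_subtype, QuotientGroup.mk'_apply]
      rw [QuotientGroup.eq]
      have : u⁻¹ * x = u⁻¹ * a * u := by rw [← hau]; group
      rw [this]
      have h2 := (inferInstance : A.Normal).conj_mem a ha u⁻¹
      simpa using h2
    · rintro _ ⟨⟨d, hd⟩, rfl⟩
      have hd1 : d ∈ A ⊔ X := hd.1
      rw [Subgroup.mem_sup_of_normal_left] at hd1
      obtain ⟨a, ha, x, hx, hax⟩ := hd1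
      refine ⟨⟨x, hx⟩, ?_⟩
      simp only [f, g, MonoidHom.comp_apply, Subgroup.coe_subtype, QuotientGroup.mk'_apply]
      rw [QuotientGroup.eq]
      have : x⁻¹ * d = x⁻¹ * a * x := by rw [← hax]; group
      rw [this]
      have h2 := (inferInstance : A.Normal).conj_mem a ha x⁻¹
      simpa using h2
  exact ⟨(MonoidHom.ofInjective hf).trans ((MulEquiv.subgroupCongr hrange).trans
    (MonoidHom.ofInjective hg).symm)⟩

/-- Let U be a maximal subgroup with trivial normal core in a finite group G, and A ≠ B two minimal normal subgroups. Then A is the centralizer of B and B that of A, U complements each of them, A and B are non-abelian, and A, B and (A ⊔ B) ∩ U are pairwise isomorphic. -/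
theorem result {G : Type*} [Group G] [Finite G] (U : Subgroup G) (hU : IsCoatom U) (hcore : U.normalCore = ⊥) (A B : Subgroup G) [A.Normal] [B.Normal] (hA : A ≠ ⊥) (hB : B ≠ ⊥) (hAmin : ∀ K : Subgroup G, K.Normal → K ≤ A → K = ⊥ ∨ K = A) (hBmin : ∀ K : Subgroup G, K.Normal → K ≤ B → K = ⊥ ∨ K = B) (hAB : A ≠ B) : Subgroup.centralizer (B : Set G) = A ∧ Subgroup.centralizer (A : Set G) = B ∧ Subgroup.IsComplement' A U ∧ Subgroup.IsComplement' B U ∧ ¬ IsMulCommutative A ∧ Nonempty (A ≃* B) ∧ Nonempty (A ≃* ↥((A ⊔ B) ⊓ U)) := by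
  have hinf : A ⊓ B = ⊥ := by
    rcases hAmin (A ⊓ B) inferInstance inf_le_left with h | h
    · exact h
    · exfalso
      have hAleB : A ≤ B := by rw [← h]; exact inf_le_right
      rcases hBmin A inferInstance hAleB with h' | h'
      · exact hA h'
      · exact hAB h'
  have hcomm : ⁅A, B⁆ = ⊥ := by
    have := Subgroup.commutator_le_inf A B
    rw [hinf] at this
    exact le_bot_iff.mp this
  have hAC : A ≤ centralizer (B : Set G) := Subgroup.commutator_eq_bot_iff_le_centralizer.mp hcomm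
  have hBC : B ≤ centralizer (A : Set G) := by
    rw [Subgroup.le_centralizer_iff]; exact hAC
  have h1 : centralizer (B : Set G) = A := (Helper10.eq_centralizer_of_normal_le hU hcore hB hA hAC).symm
  have h2 : centralizer (A : Set G) = B := (Helper10.eq_centralizer_of_normal_le hU hcore hA hB hBC).symm
  have hAU : A ⊓ U = ⊥ := by
    have := Helper10.centralizer_inf_coreFree_coatom hU hcore hB
    rwa [h1] at this
  have hBU : B ⊓ U = ⊥ := by
    have := Helper10.centralizer_inf_coreFree_coatom hU hcore hA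
    rwa [h2] at this
  have hAUmul : ∀ g : G, ∃ a ∈ A, ∃ u ∈ U, a * u = g := Helper10.exists_mul_of_coreFree_coatom hU hcore hA
  have hBUmul : ∀ g : G, ∃ a ∈ B, ∃ u ∈ U, a * u = g := Helper10.exists_mul_of_coreFree_coatom hU hcore hB
  have hcA : IsComplement' A U := by
    apply isComplement'_of_disjoint_and_mul_eq_univ (disjoint_iff.mpr hAU)
    rw [Set.eq_univ_iff_forall]
    intro g
    obtain ⟨a, ha, u, hu, hau⟩ := hAUmul g
    exact ⟨a, ha, u, hu, hau⟩
  have hcB : IsComplement' B U := by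
    apply isComplement'_of_disjoint_and_mul_eq_univ (disjoint_iff.mpr hBU)
    rw [Set.eq_univ_iff_forall]
    intro g
    obtain ⟨a, ha, u, hu, hau⟩ := hBUmul g
    exact ⟨a, ha, u, hu, hau⟩
  have hnc : ¬ IsMulCommutative A := by
    intro hc
    have : A ≤ centralizer (A : Set G) := Subgroup.le_centralizer_iff_isMulCommutative.mpr hc
    rw [h2] at this
    have : A ≤ A ⊓ B := le_inf le_rfl this
    rw [hinf] at this
    exact hA (le_bot_iff.mp this)
  obtain ⟨e1⟩ := iso_inf_of_complement A B U hAUmul hAU hinf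
  obtain ⟨e2⟩ := iso_inf_of_complement B A U hBUmul hBU (by rw [inf_comm]; exact hinf)
  have hsup : B ⊔ A = A ⊔ B := sup_comm _ _
  have e3 : ↥((B ⊔ A) ⊓ U) ≃* ↥((A ⊔ B) ⊓ U) := MulEquiv.subgroupCongr (by rw [hsup])
  exact ⟨h1, h2, hcA, hcB, hnc, ⟨(e2.trans e3).trans e1.symm⟩, ⟨e2.trans e3⟩⟩

end Cfsg.Agent.S0550
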