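import Mathlib
import Cfsg.Statements.S0583

set_option autoImplicit false
open Cfsg

open Subgroup

namespace Cfsg.Agent.S0583


/-- In a finite group the Fitting subgroup is contained in the centralizer of each minimal normal subgroup. -/
theorem result {G : Type*} [Group G] [Finite G] (M : Subgroup G) [M.Normal] (hM : M ≠ ⊥) (hmin : ∀ K : Subgroup G, K.Normal → K ≤ M → K = ⊥ ∨ K = M) : Cfsg.fittingSubgroup G ≤ Subgroup.centralizer (M : Set G) := by
  unfold Cfsg.fittingSubgroup
  apply sSup_le
  rintro N ⟨hNn, hNnil⟩
  rcases hmin (N ⊓ M) inferInstance inf_le_right with h | h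
  · have := Subgroup.commutator_le_inf N M
    rw [h] at this
    exact Subgroup.commutator_eq_bot_iff_le_centralizer.mp (le_bot_iff.mp this)
  · have hMN : M ≤ N := by rw [← h]; exact inf_le_left
    have hcn : (⁅M, N⁆ : Subgroup G).Normal := inferInstance
    rcases hmin ⁅M, N⁆ hcn (Subgroup.commutator_le_left M N) with h' | h'
    · rw [Subgroup.le_centralizer_iff]
      exact Subgroup.commutator_eq_bot_iff_le_centralizer.mp h'
    · exfalso
      obtain ⟨n, hn⟩ := (Subgroup.isNilpotent_iff_lowerCentralSeries N).mp hNnil
      have key : ∀ k, M ≤ N.lowerCentralSeries k := by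
        intro k
        induction k with
        | zero => exact hMN
        | succ k ih =>
          rw [Subgroup.lowerCentralSeries_succ]
          calc M = ⁅M, N⁆ := h'.symm
            _ ≤ ⁅N.lowerCentralSeries k, N⁆ := Subgroup.commutator_mono ih le_rfl
      have := key n
      rw [hn] at this
      exact hM (le_bot_iff.mp this)

end Cfsg.Agent.S0583
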