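import Mathlib
import Cfsg.Statements.S0551
import Cfsg.Agent.Helper10.SolvMinNormal
import Cfsg.Agent.Helper10.CoreFree
import Cfsg.Agent.Helper10.MinNormal
import Cfsg.Agent.Helper10.Card
import Cfsg.Agent.Lib.Hall
import Cfsg.Agent.S0583

set_option autoImplicit false
open Pointwise
open Cfsg

open Subgroup
open Pointwise
open Cfsg.Agent

namespace Cfsg.Agent.S0551

theorem mem_conj_smul' {G : Type*} [Group G] (x g : G) (S : Subgroup G) :
    g ∈ MulAut.conj x • S ↔ x⁻¹ * g * x ∈ S := by
  rw [Subgroup.mem_pointwise_smul_iff_inv_smul_mem]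
  simp only [MulAut.smul_def, ← map_inv, MulAut.conj_apply, inv_inv]

/-- Data attached to a core-free maximal subgroup `U` relative to a normal subgroup `L ≥ M`. -/
theorem coreFree_inf_props {G : Type*} [Group G] [Finite G] (U : Subgroup G) (hU : IsCoatom U)
    (hUc : U.normalCore = ⊥) (M L : Subgroup G) [hMn : M.Normal] [hLn : L.Normal] (hML : M ≤ L)
    (hMU : M ⊓ U = ⊥) (hMUtop : ∀ g : G, ∃ m ∈ M, ∃ u ∈ U, m * u = g) (hLM : Nat.card M < Nat.card L) :
    Nat.card L = Nat.card (L ⊓ U : Subgroup G) * Nat.card M ∧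
      normalizer ((L ⊓ U : Subgroup G) : Set G) = U := by
  set Q := L ⊓ U with hQ
  have hQM : Q ⊓ M = ⊥ := by
    rw [eq_bot_iff, ← hMU]
    intro x hx
    exact ⟨hx.2, hx.1.2⟩
  have hsup : Q ⊔ M = L := by
    apply le_antisymm (sup_le inf_le_left hML)
    intro l hl
    obtain ⟨m, hm, u, hu, hmu⟩ := hMUtop l
    have huL : u ∈ L := by
      have : u = m⁻¹ * l := by rw [← hmu]; group
      rw [this]; exact L.mul_mem (L.inv_mem (hML hm)) hl
    rw [← hmu, sup_comm]
    exact Subgroup.mul_mem_sup hm ⟨huL, hu⟩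
  have hcard := Helper10.card_sup_mul_card_inf Q M
    (le_trans le_top (le_of_eq (Subgroup.normalizer_eq_top (H := M)).symm))
  rw [hsup, hQM, Subgroup.card_bot, mul_one] at hcard
  refine ⟨hcard, ?_⟩
  have hUN : U ≤ normalizer (Q : Set G) := by
    intro u hu
    rw [Subgroup.mem_normalizer_iff]
    intro x
    constructor
    · intro hx
      exact ⟨hLn.conj_mem x hx.1 u, U.mul_mem (U.mul_mem hu hx.2) (U.inv_mem hu)⟩
    · intro hx
      have h1 := hLn.conj_mem _ hx.1 u⁻¹
      have h2 := U.mul_mem (U.mul_mem (U.inv_mem hu) hx.2) (U.inv_mem (U.inv_mem hu))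
      have : u⁻¹ * (u * x * u⁻¹) * u⁻¹⁻¹ = x := by group
      rw [this] at h1 h2
      exact ⟨h1, h2⟩
  rcases eq_or_lt_of_le hUN with h | h
  · exact h.symm
  · exfalso
    have htop := hU.2 _ h
    have hQn : Q.Normal := Subgroup.normalizer_eq_top_iff.mp htop
    have hQU : Q ≤ U.normalCore := Subgroup.normal_le_normalCore.mpr inf_le_right
    rw [hUc, le_bot_iff] at hQU
    rw [hQU, Subgroup.card_bot, one_mul] at hcard
    omega

/-- In a finite solvable group all core-free maximal subgroups are conjugate. -/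
theorem result {G : Type*} [Group G] [Finite G] [Group.IsSolvable G] (U V : Subgroup G) (hU : IsCoatom U) (hV : IsCoatom V) (hUc : U.normalCore = ⊥) (hVc : V.normalCore = ⊥) : ∃ g : G, MulAut.conj g • U = V := by
  classical
  have hnt : Nontrivial G := by
    by_contra h
    rw [not_nontrivial_iff_subsingleton] at h
    exact hU.1 (Subsingleton.elim _ _)
  obtain ⟨M, hMn, hMne, hMmin⟩ := Lib.exists_minimal_normal (G := G)
  have hab := Helper10.minNormal_commutative_of_solvable M hMne hMmin
  obtain ⟨p, hp, hexp, d, hd, hcardM⟩ := Helper10.minNormal_elementary_of_solvable M hMne hMmin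
  have hMC : M ≤ centralizer (M : Set G) := fun x hx => by
    rw [Subgroup.mem_centralizer_iff]; intro y hy; exact hab y hy x hx
  have hCM : centralizer (M : Set G) = M :=
    (Helper10.eq_centralizer_of_normal_le hU hUc hMne hMne hMC).symm
  have hMU : M ⊓ U = ⊥ := by
    have := Helper10.centralizer_inf_coreFree_coatom hU hUc hMne; rwa [hCM] at this
  have hMV : M ⊓ V = ⊥ := by
    have := Helper10.centralizer_inf_coreFree_coatom hV hVc hMne; rwa [hCM] at this
  have hMUtop := Helper10.exists_mul_of_coreFree_coatom hU hUc hMne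
  have hMVtop := Helper10.exists_mul_of_coreFree_coatom hV hVc hMne
  by_cases hMtop : M = ⊤
  · have hU' : U = ⊥ := by rw [hMtop, top_inf_eq] at hMU; exact hMU
    have hV' : V = ⊥ := by rw [hMtop, top_inf_eq] at hMV; exact hMV
    exact ⟨1, by rw [hU', hV']; simp⟩
  · have hntQ : Nontrivial (G ⧸ M) := by
      have h1 : M.index ≠ 1 := fun h => hMtop (Subgroup.index_eq_one.mp h)
      have h2 : M.index ≠ 0 := Subgroup.index_ne_zero_of_finite
      have h3 : 1 < Nat.card (G ⧸ M) := by rw [← Subgroup.index_eq_card]; omega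
      exact Finite.one_lt_card_iff_nontrivial.mp h3
    obtain ⟨Lbar, hLn, hLne, hLmin⟩ := Lib.exists_minimal_normal (G := G ⧸ M)
    obtain ⟨q, hq, _, e, he, hcardLbar⟩ := Helper10.minNormal_elementary_of_solvable Lbar hLne hLmin
    set L := Lbar.comap (QuotientGroup.mk' M) with hL
    have hLnorm : L.Normal := by rw [hL]; infer_instance
    have hML : M ≤ L := by
      intro m hm
      rw [hL, Subgroup.mem_comap]
      have : QuotientGroup.mk' M m = 1 := (QuotientGroup.eq_one_iff m).mpr hm
      rw [this]; exact Lbar.one_mem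
    have hcardL : Nat.card L = p ^ d * q ^ e := by
      rw [hL, Lib.card_comap_mk', hcardM, hcardLbar]
    have hpd : 0 < p ^ d := pow_pos hp.pos d
    have hqe : 1 < q ^ e := Nat.one_lt_pow he.ne' hq.one_lt
    have hqp : q ≠ p := by
      intro hqp
      subst hqp
      have : Fact q.Prime := ⟨hq⟩
      have hLp : IsPGroup q L := IsPGroup.of_card (n := d + e) (by rw [hcardL, pow_add])
      have hLnil : Group.IsNilpotent L := hLp.isNilpotent
      have hLF : L ≤ Cfsg.fittingSubgroup G := le_sSup ⟨hLnorm, hLnil⟩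
      have hLM : L ≤ M := by
        have := S0583.result M hMne hMmin
        rw [hCM] at this
        exact hLF.trans this
      have := Subgroup.card_le_of_le hLM
      rw [hcardL, hcardM] at this
      nlinarith
    have hLM : Nat.card M < Nat.card L := by
      rw [hcardL, hcardM]; nlinarith
    obtain ⟨hc1, hN1⟩ := coreFree_inf_props U hU hUc M L hML hMU hMUtop hLM
    obtain ⟨hc2, hN2⟩ := coreFree_inf_props V hV hVc M L hML hMV hMVtop hLM
    have hQ1 : Nat.card (L ⊓ U : Subgroup G) = q ^ e := by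
      rw [hcardL, hcardM, mul_comm] at hc1
      exact (Nat.eq_of_mul_eq_mul_right hpd hc1).symm
    have hQ2 : Nat.card (L ⊓ V : Subgroup G) = q ^ e := by
      rw [hcardL, hcardM, mul_comm] at hc2
      exact (Nat.eq_of_mul_eq_mul_right hpd hc2).symm
    have : Fact q.Prime := ⟨hq⟩
    have hsyl : ∀ Q : Subgroup G, Q ≤ L → Nat.card Q = q ^ e →
        ∃ P : Sylow q L, (P : Subgroup L) = Q.subgroupOf L := by
      intro Q hQL hQc
      have hc : Nat.card (Q.subgroupOf L) = q ^ e := by
        rw [← hQc]; exact Nat.card_congr (Subgroup.subgroupOfEquivOfLe hQL).toEquiv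
      have hpg : IsPGroup q (Q.subgroupOf L) := IsPGroup.of_card hc
      have hidx : ¬ q ∣ (Q.subgroupOf L).index := by
        have h1 := (Q.subgroupOf L).card_mul_index
        rw [hc, hcardL, mul_comm (p ^ d)] at h1
        have h2 : (Q.subgroupOf L).index = p ^ d :=
          Nat.eq_of_mul_eq_mul_left (by omega) h1
        rw [h2]
        intro hdvd
        exact hqp ((Nat.prime_dvd_prime_iff_eq hq hp).mp (hq.dvd_of_dvd_pow hdvd))
      exact ⟨hpg.toSylow hidx, rfl⟩
    obtain ⟨P1, hP1⟩ := hsyl (L ⊓ U) inf_le_left hQ1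
    obtain ⟨P2, hP2⟩ := hsyl (L ⊓ V) inf_le_left hQ2
    obtain ⟨g, hg⟩ := MulAction.exists_smul_eq L P1 P2
    have hconj : ∀ x : G, x ∈ L ⊓ V ↔ (g : G)⁻¹ * x * g ∈ L ⊓ U := by
      intro x
      have hxL : x ∈ L ↔ (g : G)⁻¹ * x * g ∈ L := by
        constructor
        · intro h; exact L.mul_mem (L.mul_mem (L.inv_mem g.2) h) g.2
        · intro h
          have : x = (g : G) * ((g : G)⁻¹ * x * g) * (g : G)⁻¹ := by group
          rw [this]; exact L.mul_mem (L.mul_mem g.2 h) (L.inv_mem g.2)
      by_cases hx : x ∈ L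
      · have h1 : (⟨x, hx⟩ : L) ∈ (P2 : Subgroup L) ↔ x ∈ L ⊓ V := by
          rw [hP2, Subgroup.mem_subgroupOf]
        have h2 : (⟨x, hx⟩ : L) ∈ (P2 : Subgroup L) ↔ (g : G)⁻¹ * x * g ∈ L ⊓ U := by
          rw [← hg, Sylow.coe_subgroup_smul, mem_conj_smul', hP1, Subgroup.mem_subgroupOf]
          rfl
        rw [← h1, h2]
      · constructor
        · intro h; exact absurd h.1 hx
        · intro h; exact absurd (hxL.mpr h.1) hx
    refine ⟨g, ?_⟩
    ext x
    rw [mem_conj_smul', ← hN1, ← hN2, Subgroup.mem_normalizer_iff, Subgroup.mem_normalizer_iff]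
    constructor
    · intro h y
      rw [hconj y, hconj (x * y * x⁻¹), h ((g : G)⁻¹ * y * g)]
      have : (g : G)⁻¹ * x * g * ((g : G)⁻¹ * y * g) * ((g : G)⁻¹ * x * g)⁻¹ =
          (g : G)⁻¹ * (x * y * x⁻¹) * g := by group
      rw [this]
    · intro h z
      have hz : z = (g : G)⁻¹ * ((g : G) * z * (g : G)⁻¹) * g := by group
      have h1 := h ((g : G) * z * (g : G)⁻¹)
      rw [hconj, hconj (x * ((g : G) * z * (g : G)⁻¹) * x⁻¹), ← hz] at h1
      rw [h1]
      have : (g : G)⁻¹ * (x * ((g : G) * z * (g : G)⁻¹) * x⁻¹) * g =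
          (g : G)⁻¹ * x * g * z * ((g : G)⁻¹ * x * g)⁻¹ := by group
      rw [this]

end Cfsg.Agent.S0551
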