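import Mathlib
import Cfsg.Statements.S0553
-- import your own Cfsg.Agent.* helpers here

set_option autoImplicit false
set_option linter.unusedSectionVars false
open Cfsg

namespace Cfsg.Agent.S0553

open Subgroup

section general
variable {G : Type*} [Group G] [Finite G]


/-- A nontrivial finite solvable group has a nontrivial normal `p`-subgroup for some prime `p`. -/
lemma exists_normal_pgroup [Group.IsSolvable G] [Nontrivial G] :
    ∃ (p : ℕ) (_ : p.Prime) (N : Subgroup G), N.Normal ∧ IsPGroup p N ∧ N ≠ ⊥ := by
  classical
  have hsol : ∃ n, derivedSeries G n = ⊥ := (Group.isSolvable_def G).mp inferInstance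
  have hk0 : Nat.find hsol ≠ 0 := by
    intro h0
    have := Nat.find_spec hsol
    rw [h0, derivedSeries_zero] at this
    exact top_ne_bot this
  obtain ⟨j, hj⟩ := Nat.exists_eq_succ_of_ne_zero hk0
  have hA : derivedSeries G j ≠ ⊥ := Nat.find_min hsol (by omega)
  have hA' : derivedSeries G (j + 1) = ⊥ := by
    have := Nat.find_spec hsol
    rwa [hj] at this
  set A := derivedSeries G j with hAdef
  have hAn : A.Normal := derivedSeries_normal G j
  have hAc : IsMulCommutative A := by
    rw [← le_centralizer_iff_isMulCommutative, ← commutator_eq_bot_iff_le_centralizer]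
    exact hA'
  have hcard : Nat.card A ≠ 1 := by
    intro h
    exact hA (Subgroup.card_eq_one.mp h)
  obtain ⟨p, hp, hpd⟩ := Nat.exists_prime_and_dvd hcard
  have := Fact.mk hp
  let S : Sylow p A := default
  have hSn : (S : Subgroup A).Normal := inferInstance
  have hSc : (S : Subgroup A).Characteristic := Sylow.characteristic_of_normal S hSn
  refine ⟨p, hp, (S : Subgroup A).map A.subtype, ?_, S.2.map _, ?_⟩
  · exact ConjAct.normal_of_characteristic_of_normal
  · rw [Ne, map_eq_bot_iff_of_injective _ A.subtype_injective]
    exact S.ne_bot_of_dvd_card hpd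

/-- A normal `p`-subgroup lies in every Sylow `p`-subgroup. -/
lemma le_sylow_of_normal {p : ℕ} [Fact p.Prime] {N : Subgroup G} (hN : N.Normal)
    (hNp : IsPGroup p N) (P : Sylow p G) : N ≤ P := by
  obtain ⟨P₀, h₀⟩ := hNp.exists_le_sylow
  obtain ⟨g, rfl⟩ := MulAction.exists_smul_eq G P₀ P
  intro x hx
  rw [Sylow.coe_subgroup_smul, Subgroup.mem_pointwise_smul_iff_inv_smul_mem]
  apply h₀
  have := hN.conj_mem x hx g⁻¹
  simpa using this


end general

theorem main : ∀ (n : ℕ) (G : Type*) [Group G] [Finite G] [Group.IsSolvable G] [Nontrivial G],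
    Nat.card G = n → (∀ M : Subgroup G, IsCoatom M → (Nat.card M).Coprime M.index) →
    ∃ p : ℕ, p.Prime ∧ p ∣ Nat.card G ∧ ∀ P : Sylow p G, (P : Subgroup G).Normal := by
  intro n
  induction n using Nat.strong_induction_on with
  | _ n ih =>
    intro G _ _ _ _ hn h
    obtain ⟨p, hp, N, hNn, hNp, hNbot⟩ := exists_normal_pgroup (G := G)
    have := Fact.mk hp
    obtain ⟨k, hk⟩ := hNp.exists_card_eq
    have hpN : p ∣ Nat.card N := by
      rw [hk]
      apply dvd_pow_self
      rintro rfl
      rw [pow_zero] at hk
      exact hNbot (Subgroup.card_eq_one.mp hk)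
    have hpG : p ∣ Nat.card G := dvd_trans hpN (Subgroup.card_subgroup_dvd_card N)
    by_cases hNtop : N = ⊤
    · refine ⟨p, hp, hpG, fun P => ?_⟩
      have : (P : Subgroup G) = ⊤ := by
        rw [eq_top_iff, ← hNtop]
        exact le_sylow_of_normal hNn hNp P
      rw [this]
      infer_instance
    · have hsurj : Function.Surjective (QuotientGroup.mk' N) := QuotientGroup.mk'_surjective N
      have hnt : Nontrivial (G ⧸ N) := by
        rw [← Finite.one_lt_card_iff_nontrivial, ← Subgroup.index_eq_card]
        have h1 : N.index ≠ 1 := fun h => hNtop (Subgroup.index_eq_one.mp h)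
        have h0 : N.index ≠ 0 := N.index_ne_zero_of_finite
        omega
      have hlt : Nat.card (G ⧸ N) < n := by
        rw [← hn, ← N.card_mul_index, ← Subgroup.index_eq_card]
        have hidx : 0 < N.index := Nat.pos_of_ne_zero N.index_ne_zero_of_finite
        have hNcard : 1 < Nat.card N := by
          have : Nontrivial N := (Subgroup.nontrivial_iff_ne_bot N).mpr hNbot
          exact Finite.one_lt_card
        nlinarith
      have hquot : ∀ M' : Subgroup (G ⧸ N), IsCoatom M' → (Nat.card M').Coprime M'.index := by
        intro M' hM'
        have hco := Subgroup.isCoatom_comap_of_surjective hsurj hM'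
        have h1 := h _ hco
        rw [Subgroup.index_comap_of_surjective _ hsurj] at h1
        have hmap := Subgroup.map_comap_eq_self_of_surjective hsurj M'
        have hdvd : Nat.card M' ∣ Nat.card (M'.comap (QuotientGroup.mk' N)) := by
          have := Subgroup.card_dvd_of_surjective
            ((QuotientGroup.mk' N).subgroupMap (M'.comap (QuotientGroup.mk' N)))
            ((QuotientGroup.mk' N).subgroupMap_surjective _)
          rwa [hmap] at this
        exact Nat.Coprime.coprime_dvd_left hdvd h1
      obtain ⟨r, hr, hrd, hrn⟩ := ih _ hlt (G ⧸ N) rfl hquot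
      have := Fact.mk hr
      have hrG : r ∣ Nat.card G := dvd_trans hrd (Subgroup.card_dvd_of_surjective _ hsurj)
      have hRN : ∀ R : Sylow r G, ((R : Subgroup G) ⊔ N).Normal := by
        intro R
        have h1 : ((R.mapSurjective hsurj : Sylow r (G ⧸ N)) : Subgroup (G ⧸ N)).Normal := hrn _
        have h2 := h1.comap (QuotientGroup.mk' N)
        rwa [Sylow.coe_mapSurjective, Subgroup.comap_map_eq, QuotientGroup.ker_mk'] at h2
      by_cases hrp : r = p
      · subst hrp
        refine ⟨r, hr, hrG, fun P => ?_⟩
        have := hRN P
        rwa [sup_of_le_left (le_sylow_of_normal hNn hNp P)] at this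
      · by_cases hall : ∀ R : Sylow r G, (R : Subgroup G).Normal
        · exact ⟨r, hr, hrG, hall⟩
        · push Not at hall
          obtain ⟨R, hRnn⟩ := hall
          have hL := hRN R
          have hfr : normalizer ((R : Subgroup G) : Set G) ⊔ ((R : Subgroup G) ⊔ N) = ⊤ :=
            Sylow.normalizer_sup_eq_top' R le_sup_left
          have hfr' : normalizer ((R : Subgroup G) : Set G) ⊔ N = ⊤ := by
            rw [← hfr, ← sup_assoc, sup_of_le_left (le_normalizer : (R : Subgroup G) ≤ _)]
          have hNR : normalizer ((R : Subgroup G) : Set G) ≠ ⊤ :=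
            fun h => hRnn (normalizer_eq_top_iff.mp h)
          obtain ⟨M, hM, hle⟩ := (eq_top_or_exists_le_coatom _).resolve_left hNR
          have hMN : M ⊔ N = ⊤ := by
            rw [eq_top_iff, ← hfr']
            exact sup_le_sup_right hle N
          have e1 : Nat.card N * N.index = Nat.card G := N.card_mul_index
          have e2 : N.index = N.relIndex M := by
            rw [← relIndex_top_right, ← hMN, relIndex_sup_right]
          have e3 : (N ⊓ M).relIndex M = N.relIndex M := inf_relIndex_right N M
          have e4 : Nat.card (N ⊓ M : Subgroup G) * (N ⊓ M).relIndex M = Nat.card M := by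
            have := relIndex_mul_relIndex (H := ⊥) (K := N ⊓ M) (L := M) bot_le inf_le_right
            rwa [relIndex_bot_left, relIndex_bot_left] at this
          have e5 : Nat.card M * M.index = Nat.card G := M.card_mul_index
          have hpos : 0 < N.relIndex M := by
            rw [← e2]
            exact Nat.pos_of_ne_zero N.index_ne_zero_of_finite
          have e6 : Nat.card N = Nat.card (N ⊓ M : Subgroup G) * M.index := by
            apply Nat.eq_of_mul_eq_mul_right hpos
            calc Nat.card N * N.relIndex M = Nat.card G := by rw [← e2, e1]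
              _ = Nat.card M * M.index := e5.symm
              _ = Nat.card (N ⊓ M : Subgroup G) * (N ⊓ M).relIndex M * M.index := by rw [e4]
              _ = Nat.card (N ⊓ M : Subgroup G) * M.index * N.relIndex M := by rw [e3]; ring
          have hMidx_dvd : M.index ∣ p ^ k := by
            rw [← hk, e6]
            exact dvd_mul_left _ _
          obtain ⟨j, hjk, hj⟩ := (Nat.dvd_prime_pow hp).mp hMidx_dvd
          have hcop := h M hM
          rw [hj] at hcop
          have hj0 : j ≠ 0 := by
            rintro rfl
            rw [pow_zero] at hj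
            exact hM.1 (Subgroup.index_eq_one.mp hj)
          have hcop' : Nat.Coprime (Nat.card M) p :=
            Nat.Coprime.coprime_dvd_right (dvd_pow_self p hj0) hcop
          refine ⟨p, hp, hpG, fun P => ?_⟩
          have hNP : N ≤ P := le_sylow_of_normal hNn hNp P
          obtain ⟨c, hc⟩ := P.2.exists_card_eq
          have hPdvd : Nat.card P ∣ Nat.card M * p ^ j := by
            rw [← hj, e5]
            exact card_subgroup_dvd_card _
          have hPdvd' : Nat.card P ∣ p ^ j := by
            rw [hc] at hPdvd ⊢
            exact Nat.Coprime.dvd_of_dvd_mul_left (Nat.Coprime.pow_left c hcop'.symm) hPdvd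
          have hle1 : Nat.card P ≤ p ^ j := Nat.le_of_dvd (pow_pos hp.pos j) hPdvd'
          have hle2 : p ^ j ≤ Nat.card N := by
            rw [e6, hj]
            exact Nat.le_mul_of_pos_left _ Nat.card_pos
          have hNP' : N = P := Subgroup.eq_of_le_of_card_ge hNP (hle1.trans hle2)
          rw [← hNP']
          exact hNn

/-- Let G be a nontrivial finite solvable group in which every maximal subgroup has order coprime to its index. Then for some prime p dividing the order of G the Sylow p-subgroups of G are normal. -/
theorem result {G : Type*} [Group G] [Finite G] [Group.IsSolvable G] [Nontrivial G] (h : ∀ M : Subgroup G, IsCoatom M → (Nat.card M).Coprime M.index) : ∃ p : ℕ, p.Prime ∧ p ∣ Nat.card G ∧ ∀ P : Sylow p G, (P : Subgroup G).Normal := by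
  exact main (Nat.card G) G rfl h

end Cfsg.Agent.S0553
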