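import Mathlib
import Cfsg.Statements.S0554
import Cfsg.Agent.Helper1.SZ

set_option autoImplicit false
open Cfsg

open Pointwise

namespace Cfsg.Agent.S0554

universe u

theorem set_mul_normal_comm {G : Type*} [Group G] (N : Subgroup G) [hN : N.Normal] (X : Set G) :
    X * (N : Set G) = (N : Set G) * X := by
  ext g
  constructor
  · rintro ⟨x, hx, n, hn, rfl⟩
    exact ⟨x * n * x⁻¹, hN.conj_mem n hn x, x, hx, by group⟩
  · rintro ⟨n, hn, x, hx, rfl⟩
    refine ⟨x, hx, x⁻¹ * n * x⁻¹⁻¹, hN.conj_mem n hn x⁻¹, by group⟩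

theorem list_prod_mul_normal {G : Type*} [Group G] (N : Subgroup G) [hN : N.Normal] :
    ∀ (l : List (Set G)) (j : ℕ) (hj : j < l.length), l[j] * (N : Set G) = l[j] →
      l.prod * (N : Set G) = l.prod
  | [], j, hj, _ => by simp at hj
  | a :: l, 0, _, h => by
    simp only [List.getElem_cons_zero] at h
    rw [List.prod_cons, mul_assoc, set_mul_normal_comm N, ← mul_assoc, h]
  | a :: l, j + 1, hj, h => by
    simp only [List.getElem_cons_succ] at h
    rw [List.prod_cons, mul_assoc, list_prod_mul_normal N l j (by simpa using hj) h]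

theorem prod_sylow_eq_univ : ∀ (n : ℕ) (G : Type u) [Group G] [Finite G] [Group.IsSolvable G],
    Nat.card G = n → ∀ (t : ℕ) (p : Fin t → ℕ) (hp : ∀ i, (p i).Prime)
    (_ : ∀ q : ℕ, q.Prime → q ∣ Nat.card G → ∃ i, p i = q)
    (S : (i : Fin t) → @Sylow (p i) G _),
    (List.ofFn fun i => ((S i : Subgroup G) : Set G)).prod = Set.univ := by
  intro n
  induction n using Nat.strong_induction_on with
  | _ n ih =>
  intro G _ _ _ hn t p hp hall S
  rcases subsingleton_or_nontrivial G with hsub | hnt
  · rw [Set.eq_univ_iff_forall]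
    intro g
    rw [Set.mem_prod_list_ofFn]
    exact ⟨fun i => ⟨1, Subgroup.one_mem _⟩, Subsingleton.elim _ _⟩
  · obtain ⟨q, hq, N, hNn, hNne, hNp⟩ := Cfsg.Agent.Helper1.exists_normal_pSubgroup G
    have hqf : Fact q.Prime := ⟨hq⟩
    have hqdvd : q ∣ Nat.card G := by
      have : Nontrivial N := (Subgroup.nontrivial_iff_ne_bot N).mpr hNne
      obtain ⟨k, hk0, hk⟩ := hNp.nontrivial_iff_card.mp inferInstance
      have h1 : q ∣ Nat.card N := hk.symm ▸ dvd_pow_self _ (ne_of_gt hk0)
      exact h1.trans (Subgroup.card_subgroup_dvd_card N)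
    obtain ⟨j, rfl⟩ := hall q hq hqdvd
    have : Fact (p j).Prime := ⟨hq⟩
    have hNS : N ≤ S j := hNp.le_sylow_of_normal (S j)
    set π := QuotientGroup.mk' N with hπ
    have hπs : Function.Surjective π := QuotientGroup.mk'_surjective N
    have hcardlt : Nat.card (G ⧸ N) < n := by
      rw [← hn, ← N.card_mul_index, ← Subgroup.index_eq_card]
      have h1 : 1 < Nat.card N := by
        rw [Subgroup.one_lt_card_iff_ne_bot]; exact hNne
      have h2 : 0 < N.index := Nat.pos_of_ne_zero Subgroup.index_ne_zero_of_finite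
      nlinarith
    have hall' : ∀ q : ℕ, q.Prime → q ∣ Nat.card (G ⧸ N) → ∃ i, p i = q := by
      intro q' hq' hd
      exact hall q' hq' (hd.trans (Subgroup.card_quotient_dvd_card N))
    have IH := ih _ hcardlt (G ⧸ N) rfl t p hp hall'
      (fun i => by
        have : Fact (p i).Prime := ⟨hp i⟩
        exact (S i).mapSurjective hπs)
    set P := (List.ofFn fun i => ((S i : Subgroup G) : Set G)).prod with hP
    have himage : π '' P = Set.univ := by
      rw [hP, Set.image_list_prod, List.map_ofFn, ← IH]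
      congr 1
    have hPN : P * (N : Set G) = P := by
      apply list_prod_mul_normal N _ j (by simp)
      rw [List.getElem_ofFn]
      ext g
      constructor
      · rintro ⟨s, hs, n, hn, rfl⟩
        exact Subgroup.mul_mem _ hs (hNS hn)
      · intro hg
        exact ⟨g, hg, 1, N.one_mem, mul_one g⟩
    rw [Set.eq_univ_iff_forall]
    intro g
    have : π g ∈ π '' P := by rw [himage]; trivial
    obtain ⟨x, hx, hxg⟩ := this
    rw [← hPN]
    refine ⟨x, hx, x⁻¹ * g, ?_, by group⟩
    rw [SetLike.mem_coe, ← QuotientGroup.eq]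
    exact hxg

/-- Let G be a finite solvable group and let S assign to each of t distinct primes, including every prime divisor of the order of G, a Sylow subgroup of G. Then every element of G is a product s_0 s_1 ⋯ s_(t-1) with s_i in S i, the factors taken in the given order. -/
theorem result {G : Type*} [Group G] [Finite G] [Group.IsSolvable G] (t : ℕ) (p : Fin t → ℕ) (hp : ∀ i, (p i).Prime) (hinj : Function.Injective p) (hall : ∀ q : ℕ, q.Prime → q ∣ Nat.card G → ∃ i, p i = q) (S : (i : Fin t) → Sylow (p i) G) : ∀ g : G, ∃ s : (i : Fin t) → G, (∀ i, s i ∈ (S i : Subgroup G)) ∧ g = (List.ofFn s).prod := by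
  intro g
  have h := prod_sylow_eq_univ _ G rfl t p hp hall S
  have hg : g ∈ (List.ofFn fun i => ((S i : Subgroup G) : Set G)).prod := by rw [h]; trivial
  rw [Set.mem_prod_list_ofFn] at hg
  obtain ⟨f, hf⟩ := hg
  exact ⟨fun i => (f i : G), fun i => (f i).2, hf.symm⟩

end Cfsg.Agent.S0554
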