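import Mathlib
import Cfsg.Statements.S0555

set_option autoImplicit false
open Cfsg

open Subgroup
open scoped commutatorElement

namespace Cfsg.Agent.S0555

/-- The commutator subgroup centralises every cyclic normal subgroup. -/
theorem commutator_le_centralizer_of_cyclic_normal {Q : Type*} [Group Q] (C : Subgroup Q) [C.Normal]
    [hC : IsCyclic C] : commutator Q ≤ centralizer (C : Set Q) := by
  let _ := (hC.mulAutMulEquiv _).toMonoidHom.commGroupOfInjective (hC.mulAutMulEquiv _).injective
  have h := Abelianization.commutator_subset_ker C.normalizerMonoidHom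
  rwa [Subgroup.normalizerMonoidHom_ker, Subgroup.normalizer_eq_top,
    ← Subgroup.map_subtype_le_map_subtype, Subgroup.map_subtype_commutator,
      Subgroup.map_subgroupOf_eq_of_le le_top] at h

/-- If `N/N'` is cyclic with generator the class of `a` then every element of `N` is `a^k u` with `u ∈ N'`. -/
theorem exists_gen_of_cyclic_quotient {G : Type*} [Group G] (N N' : Subgroup G)
    [(N'.subgroupOf N).Normal] (h : IsCyclic (↥N ⧸ N'.subgroupOf N)) :
    ∃ a ∈ N, ∀ x ∈ N, ∃ k : ℤ, ∃ u ∈ N', x = a ^ k * u := by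
  obtain ⟨g, hg⟩ := h.exists_zpow_surjective
  obtain ⟨a, rfl⟩ := QuotientGroup.mk_surjective g
  refine ⟨a, a.2, ?_⟩
  intro x hx
  obtain ⟨k, hk⟩ := hg (QuotientGroup.mk ⟨x, hx⟩)
  simp only at hk
  rw [← QuotientGroup.mk_zpow, QuotientGroup.eq] at hk
  rw [Subgroup.mem_subgroupOf] at hk
  refine ⟨k, _, hk, ?_⟩
  simp

/-- Let i ≥ 1. If in the derived series of a group the quotient of the i-th term by the (i+1)-st and the quotient of the (i+1)-st by the (i+2)-nd are both cyclic, then the (i+1)-st and (i+2)-nd terms coincide. -/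
theorem result {G : Type*} [Group G] (i : ℕ) (hi : 1 ≤ i) (h₁ : IsCyclic (↥(derivedSeries G i) ⧸ (derivedSeries G (i + 1)).subgroupOf (derivedSeries G i))) (h₂ : IsCyclic (↥(derivedSeries G (i + 1)) ⧸ (derivedSeries G (i + 2)).subgroupOf (derivedSeries G (i + 1)))) : derivedSeries G (i + 1) = derivedSeries G (i + 2) := by
  set N := derivedSeries G i with hN
  set N' := derivedSeries G (i + 1) with hN'
  set N'' := derivedSeries G (i + 2) with hN''
  have hN'n : N'.Normal := derivedSeries_normal G _
  have hN''n : N''.Normal := derivedSeries_normal G _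
  have hN'eq : N' = ⁅N, N⁆ := derivedSeries_succ G i
  have hNle : N ≤ commutator G := by
    rw [← derivedSeries_one]
    exact derivedSeries_antitone G hi
  obtain ⟨a, ha, hagen⟩ := exists_gen_of_cyclic_quotient N N' h₁
  obtain ⟨b, hb, hbgen⟩ := exists_gen_of_cyclic_quotient N' N'' h₂
  let π := QuotientGroup.mk' N''
  -- image of N' is zpowers (π b)
  have hmap : N'.map π = Subgroup.zpowers (π b) := by
    apply le_antisymm
    · rintro _ ⟨y, hy, rfl⟩
      obtain ⟨k, v, hv, rfl⟩ := hbgen y hy
      rw [map_mul, map_zpow]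
      have : π v = 1 := (QuotientGroup.eq_one_iff v).mpr hv
      rw [this, mul_one]
      exact Subgroup.zpow_mem _ (Subgroup.mem_zpowers _) k
    · rw [Subgroup.zpowers_le]
      exact Subgroup.mem_map_of_mem π hb
  have hCn : (Subgroup.zpowers (π b)).Normal := by
    rw [← hmap]
    exact hN'n.map π (QuotientGroup.mk'_surjective N'')
  have hcent := commutator_le_centralizer_of_cyclic_normal (Subgroup.zpowers (π b))
  -- π t commutes with π b for t in commutator G
  have hcomm : ∀ t ∈ commutator G, π t * π b = π b * π t := by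
    intro t ht
    have h1 : π t ∈ commutator (G ⧸ N'') := by
      rw [commutator_def] at ht ⊢
      have := Subgroup.mem_map_of_mem π ht
      rw [Subgroup.map_commutator] at this
      exact Subgroup.commutator_mono le_top le_top this
    have h2 := hcent h1
    rw [Subgroup.mem_centralizer_iff] at h2
    exact (h2 _ (Subgroup.mem_zpowers _)).symm
  have hab : Commute (π a) (π b) := hcomm a (hNle ha)
  -- N' ≤ N''
  apply le_antisymm _ (derivedSeries_antitone G (by omega))
  show N' ≤ N''
  rw [hN'eq, Subgroup.commutator_le]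
  intro x₁ hx₁ x₂ hx₂
  obtain ⟨k₁, u₁, hu₁, rfl⟩ := hagen x₁ hx₁
  obtain ⟨k₂, u₂, hu₂, rfl⟩ := hagen x₂ hx₂
  obtain ⟨l₁, v₁, hv₁, rfl⟩ := hbgen u₁ hu₁
  obtain ⟨l₂, v₂, hv₂, rfl⟩ := hbgen u₂ hu₂
  rw [← QuotientGroup.eq_one_iff, ← QuotientGroup.mk'_apply, map_commutatorElement]
  simp only [map_mul, map_zpow]
  have e1 : π v₁ = 1 := (QuotientGroup.eq_one_iff v₁).mpr hv₁
  have e2 : π v₂ = 1 := (QuotientGroup.eq_one_iff v₂).mpr hv₂
  rw [e1, e2, mul_one, mul_one, commutatorElement_eq_one_iff_commute]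
  have c1 : Commute (π a ^ k₁) (π a ^ k₂) := (Commute.refl _).zpow_zpow _ _
  have c2 : Commute (π a ^ k₁) (π b ^ l₂) := hab.zpow_zpow _ _
  have c3 : Commute (π b ^ l₁) (π a ^ k₂) := hab.symm.zpow_zpow _ _
  have c4 : Commute (π b ^ l₁) (π b ^ l₂) := (Commute.refl _).zpow_zpow _ _
  exact (c1.mul_right c2).mul_left (c3.mul_right c4)

end Cfsg.Agent.S0555
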