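import Mathlib
import Cfsg.Statements.S0557
import Cfsg.Agent.Helper53.NormalComplement

set_option autoImplicit false
open Cfsg

namespace Cfsg.Agent.S0557

universe u

open Subgroup in
/-- Transfer into `H/H*` for a Hall subgroup `H`: the kernel meets `H` in the focal subgroup and has
index `|H : H*|`. -/
theorem hall_transferFocal {G : Type*} [Group G] [Finite G] (H : Subgroup G)
    (hHall : (Nat.card H).Coprime H.index) :
    H.transferFocal.ker ⊓ H = H.focalSubgroup ∧
      H.transferFocal.ker.index * Nat.card H.focalSubgroup = Nat.card H := by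
  have hcard : H.focalSubgroupOf.index * Nat.card H.focalSubgroup = Nat.card H := by
    rw [← H.focalSubgroupOf.index_mul_card]
    congr 1
    exact (Nat.card_congr (Subgroup.subgroupOfEquivOfLe H.focalSubgroup_le).toEquiv).symm
  have hcopQ : (Nat.card (H ⧸ H.focalSubgroupOf)).Coprime H.index := by
    rw [← Subgroup.index_eq_card]
    exact Nat.Coprime.coprime_dvd_left (Subgroup.index_dvd_card _) hHall
  have hinj := (powCoprime hcopQ).injective
  have hsurj := (powCoprime hcopQ).surjective
  constructor
  · ext x
    constructor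
    · intro hx
      obtain ⟨hx1, hx2⟩ := Subgroup.mem_inf.mp hx
      rw [MonoidHom.mem_ker] at hx1
      have h1 := H.transferFocal_eq_pow ⟨x, hx2⟩
      rw [hx1] at h1
      have h2 : (QuotientGroup.mk (⟨x, hx2⟩ : H) : H ⧸ H.focalSubgroupOf) = 1 := by
        apply hinj
        show (QuotientGroup.mk (⟨x, hx2⟩ : H) : H ⧸ H.focalSubgroupOf) ^ H.index = 1 ^ H.index
        rw [one_pow]; exact h1.symm
      rw [QuotientGroup.eq_one_iff] at h2
      exact h2
    · intro hx
      have hx2 : x ∈ H := H.focalSubgroup_le hx
      refine Subgroup.mem_inf.mpr ⟨?_, hx2⟩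
      rw [MonoidHom.mem_ker]
      have h1 := H.transferFocal_eq_pow ⟨x, hx2⟩
      have h2 : (QuotientGroup.mk (⟨x, hx2⟩ : H) : H ⧸ H.focalSubgroupOf) = 1 := by
        rw [QuotientGroup.eq_one_iff]
        exact hx
      rw [h2, one_pow] at h1
      exact h1
  · have hrange : H.transferFocal.range = ⊤ := by
      rw [eq_top_iff]
      intro q _
      obtain ⟨y, hy⟩ := hsurj q
      obtain ⟨h, rfl⟩ := QuotientGroup.mk_surjective y
      refine ⟨(h : G), ?_⟩
      rw [H.transferFocal_eq_pow h]
      exact hy
    rw [Subgroup.index_ker, hrange, Subgroup.card_top, ← Subgroup.index_eq_card]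
    exact hcard

/-- Focal subgroups computed in a subgroup are smaller. -/
theorem map_focalSubgroup_le {G : Type*} [Group G] (K : Subgroup G) (Y : Subgroup ↥K) :
    Y.focalSubgroup.map K.subtype ≤ (Y.map K.subtype).focalSubgroup := by
  rw [Subgroup.focalSubgroup_def, MonoidHom.map_closure, Subgroup.focalSubgroup_def]
  apply Subgroup.closure_mono
  rintro _ ⟨g, ⟨hg, x, hx, u, hgu⟩, rfl⟩
  refine ⟨⟨g, hg, rfl⟩, (x : G), ⟨x, hx, rfl⟩, (u : G), ?_⟩
  rw [hgu]
  simp [commutatorElement_def]

theorem focalSubgroup_mono {G : Type*} [Group G] {X X' : Subgroup G} (h : X ≤ X') :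
    X.focalSubgroup ≤ X'.focalSubgroup := by
  rw [Subgroup.focalSubgroup_def, Subgroup.focalSubgroup_def]
  apply Subgroup.closure_mono
  rintro g ⟨hg, x, hx, u, hgu⟩
  exact ⟨h hg, x, h hx, u, hgu⟩

theorem map_iterate_focalSubgroup_le {G : Type*} [Group G] (K : Subgroup G) (m : ℕ)
    (Y : Subgroup ↥K) :
    ((fun Z : Subgroup ↥K => Z.focalSubgroup)^[m] Y).map K.subtype ≤
      (fun Z : Subgroup G => Z.focalSubgroup)^[m] (Y.map K.subtype) := by
  induction m generalizing Y with
  | zero => exact le_rfl
  | succ m ih =>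
    rw [Function.iterate_succ_apply, Function.iterate_succ_apply]
    refine (ih _).trans ?_
    have hmono : Monotone (fun Z : Subgroup G => Z.focalSubgroup) := fun _ _ h => focalSubgroup_mono h
    exact hmono.iterate m (map_focalSubgroup_le K Y)

theorem exists_normal_complement_of_focal : ∀ (n : ℕ) (G : Type u) [Group G] [Finite G]
    (H : Subgroup G), (Nat.card H).Coprime H.index →
    (fun K : Subgroup G => Subgroup.focalSubgroup K)^[n] H = ⊥ →
    ∃ N : Subgroup G, N.Normal ∧ Subgroup.IsComplement' N H := by
  intro n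
  induction n with
  | zero =>
    intro G _ _ H _ hfoc
    rw [Function.iterate_zero, id] at hfoc
    subst hfoc
    exact ⟨⊤, inferInstance, Subgroup.isComplement'_top_bot⟩
  | succ n ih =>
    intro G _ _ H hHall hfoc
    rw [Function.iterate_succ_apply] at hfoc
    obtain ⟨hker, hidx⟩ := hall_transferFocal H hHall
    set K := H.transferFocal.ker with hK
    set H₁ := H.focalSubgroup with hH₁
    have hKn : K.Normal := inferInstance
    have hH₁K : H₁ ≤ K := by rw [← hker]; exact inf_le_left
    have hH₁H : H₁ ≤ H := H.focalSubgroup_le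
    -- orders
    have hG1 : Nat.card K * K.index = Nat.card G := K.card_mul_index
    have hG2 : Nat.card H * H.index = Nat.card G := H.card_mul_index
    have hKcard : Nat.card K = H.index * Nat.card H₁ := by
      have hpos : 0 < K.index := Nat.pos_of_ne_zero Subgroup.index_ne_zero_of_finite
      apply Nat.eq_of_mul_eq_mul_right hpos
      rw [hG1, ← hG2, ← hidx]; ring
    -- the subgroup H₁ inside K
    set Y := H₁.subgroupOf K with hY
    have hYcard : Nat.card Y = Nat.card H₁ :=
      Nat.card_congr (Subgroup.subgroupOfEquivOfLe hH₁K).toEquiv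
    have hYidx : Y.index = H.index := by
      have h1 := Y.card_mul_index
      rw [hYcard, hKcard] at h1
      have hpos : 0 < Nat.card H₁ := Nat.card_pos
      apply Nat.eq_of_mul_eq_mul_left hpos
      rw [h1]; ring
    have hYHall : (Nat.card Y).Coprime Y.index := by
      rw [hYcard, hYidx]
      exact Nat.Coprime.coprime_dvd_left (Subgroup.card_dvd_of_le hH₁H) hHall
    have hYmap : Y.map K.subtype = H₁ := Subgroup.map_subgroupOf_eq_of_le hH₁K
    have hYfoc : (fun Z : Subgroup ↥K => Z.focalSubgroup)^[n] Y = ⊥ := by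
      have h1 := map_iterate_focalSubgroup_le K n Y
      rw [hYmap, hfoc, le_bot_iff,
        Subgroup.map_eq_bot_iff_of_injective _ K.subtype_injective] at h1
      exact h1
    obtain ⟨N', hN'n, hN'c⟩ := ih ↥K Y hYHall hYfoc
    -- N' is a normal Hall subgroup of K
    have hN'card : Nat.card N' * Nat.card Y = Nat.card K := hN'c.card_mul_card
    have hN'idx : N'.index = Nat.card Y := by
      have h1 := N'.card_mul_index
      have hpos : 0 < Nat.card N' := Nat.card_pos
      apply Nat.eq_of_mul_eq_mul_left hpos
      rw [h1, hN'card]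
    have hN'cardeq : Nat.card N' = H.index := by
      have hpos : 0 < Nat.card Y := Nat.card_pos
      apply Nat.eq_of_mul_eq_mul_right hpos
      rw [hN'card, hKcard, hYcard]
    have hN'cop : (Nat.card N').Coprime N'.index := by
      rw [hN'idx, hN'cardeq, hYcard]
      exact (Nat.Coprime.coprime_dvd_left (Subgroup.card_dvd_of_le hH₁H) hHall).symm
    have hNn : (N'.map K.subtype).Normal :=
      Cfsg.Agent.Helper53.normal_map_of_coprime K N' hN'cop
    refine ⟨N'.map K.subtype, hNn, ?_⟩
    apply Subgroup.isComplement'_of_card_mul_and_disjoint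
    · rw [Subgroup.card_subtype, hN'cardeq, mul_comm]
      exact hG2
    · rw [disjoint_iff, eq_bot_iff]
      intro x hx
      obtain ⟨hx1, hx2⟩ := Subgroup.mem_inf.mp hx
      obtain ⟨y, hy, rfl⟩ := hx1
      have hyK : (y : G) ∈ K ⊓ H := Subgroup.mem_inf.mpr ⟨y.2, hx2⟩
      rw [hker] at hyK
      have hyY : y ∈ Y := Subgroup.mem_subgroupOf.mpr hyK
      have : y ∈ N' ⊓ Y := Subgroup.mem_inf.mpr ⟨hy, hyY⟩
      rw [hN'c.disjoint.eq_bot, Subgroup.mem_bot] at this
      rw [this]
      simp

/-- Let H be a subgroup of a finite group G with order coprime to its index. If iterating the focal-subgroup construction starting from H reaches the trivial subgroup after finitely many steps, then H has a normal complement in G. -/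
theorem result {G : Type*} [Group G] [Finite G] (H : Subgroup G) (hHall : (Nat.card H).Coprime H.index) (n : ℕ) (hfoc : (fun K : Subgroup G => Subgroup.focalSubgroup K)^[n] H = ⊥) : ∃ N : Subgroup G, N.Normal ∧ Subgroup.IsComplement' N H := by
  exact exists_normal_complement_of_focal n G H hHall hfoc

end Cfsg.Agent.S0557
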