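import Mathlib
import Cfsg.Statements.S0561
import Cfsg.Agent.Lib.Hall
import Cfsg.Agent.Helper50.CD

set_option autoImplicit false
open Pointwise
open Cfsg

open Pointwise

namespace Cfsg.Agent.S0561

theorem conj_smul_eq_of_normal_subgroupOf {G : Type*} [Group G] {A H : Subgroup G} (hA : A ≤ H)
    (hAn : (A.subgroupOf H).Normal) {h : G} (hh : h ∈ H) : MulAut.conj h • A = A := by
  have h1 : h ∈ Subgroup.normalizer (A : Set G) :=
    (Subgroup.normal_subgroupOf_iff_le_normalizer hA).mp hAn hh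
  exact Subgroup.mem_normalizer_iff_map_conj_eq.mp h1

/-- In a finite solvable group `G = HK`, Hall subgroups `A ⊴ H`, `B ⊴ K` permute. -/
theorem coe_sup_eq_mul_of_hall {G : Type*} [Group G] [Finite G] [Group.IsSolvable G]
    (H K A B : Subgroup G) (hHK : ∀ g : G, ∃ h ∈ H, ∃ k ∈ K, g = h * k) (hA : A ≤ H)
    (hAn : (A.subgroupOf H).Normal) (hB : B ≤ K) (hBn : (B.subgroupOf K).Normal)
    (hAh : (Nat.card A).Coprime A.index) (hBh : (Nat.card B).Coprime B.index) :
    ((A ⊔ B : Subgroup G) : Set G) = (A : Set G) * (B : Set G) := by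
  set a := Nat.card A with ha
  set b := Nat.card B with hb
  set m := Nat.lcm a b with hm
  have hmdvd : m ∣ Nat.card G :=
    Nat.lcm_dvd (Subgroup.card_subgroup_dvd_card A) (Subgroup.card_subgroup_dvd_card B)
  set n := Nat.card G / m with hn
  have hmn : Nat.card G = m * n := (Nat.mul_div_cancel' hmdvd).symm
  have hAidx : A.index = Nat.card G / a := by
    rw [← A.card_mul_index, Nat.mul_div_cancel_left _ Nat.card_pos]
  have hBidx : B.index = Nat.card G / b := by
    rw [← B.card_mul_index, Nat.mul_div_cancel_left _ Nat.card_pos]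
  have hna : n ∣ A.index := by
    rw [hAidx]
    exact Nat.div_dvd_div_left hmdvd (Nat.dvd_lcm_left a b)
  have hnb : n ∣ B.index := by
    rw [hBidx]
    exact Nat.div_dvd_div_left hmdvd (Nat.dvd_lcm_right a b)
  have hcopa : a.Coprime n := Nat.Coprime.coprime_dvd_right hna hAh
  have hcopb : b.Coprime n := Nat.Coprime.coprime_dvd_right hnb hBh
  have hcop : m.Coprime n :=
    Nat.Coprime.coprime_dvd_left (Nat.lcm_dvd_mul a b) (Nat.Coprime.mul_left hcopa hcopb)
  obtain ⟨T₁, hT₁, hAT₁⟩ := Cfsg.Agent.Lib.hall_le m n hmn hcop A hcopa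
  obtain ⟨g, hg⟩ := (Cfsg.Agent.Lib.hall_main _ G rfl m n hmn hcop).2 T₁ B hT₁ hcopb
  obtain ⟨h, hh, k, hk, hgk⟩ := hHK g⁻¹
  have hg' : g = k⁻¹ * h⁻¹ := by
    rw [← mul_inv_rev, ← hgk, inv_inv]
  set T := MulAut.conj h⁻¹ • T₁ with hT
  have hAT : A ≤ T := by
    rw [← conj_smul_eq_of_normal_subgroupOf hA hAn (H.inv_mem hh), hT]
    exact Subgroup.pointwise_smul_le_pointwise_smul_iff.mpr hAT₁
  have hBT : B ≤ T := by
    have h1 : MulAut.conj k • B ≤ MulAut.conj k • (MulAut.conj g • T₁) :=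
      Subgroup.pointwise_smul_le_pointwise_smul_iff.mpr hg
    rw [conj_smul_eq_of_normal_subgroupOf hB hBn hk, ← mul_smul, ← map_mul, hg',
      mul_inv_cancel_left] at h1
    exact h1
  have hTcard : Nat.card T = m := by rw [hT, Cfsg.Agent.Lib.card_conj_smul, hT₁]
  apply Cfsg.Agent.Helper50.coe_sup_eq_mul_of_card
  have h1 : Nat.card ↥(A ⊔ B) ≤ m := by
    rw [← hTcard]
    exact Subgroup.card_le_of_le (sup_le hAT hBT)
  have h2 : Nat.card ↥(A ⊓ B) ≤ Nat.gcd a b := by
    apply Nat.le_of_dvd (Nat.gcd_pos_of_pos_left _ Nat.card_pos)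
    exact Nat.dvd_gcd (Subgroup.card_dvd_of_le inf_le_left) (Subgroup.card_dvd_of_le inf_le_right)
  calc Nat.card ↥(A ⊔ B) * Nat.card ↥(A ⊓ B) ≤ m * Nat.gcd a b := Nat.mul_le_mul h1 h2
    _ = a * b := by rw [mul_comm, Nat.gcd_mul_lcm]

/-- Let the finite solvable group G be the product HK of subgroups, and let A be normal in H and B normal in K, where A and B are Hall subgroups of G (order coprime to index). Then for all x, y the product set of xAx⁻¹ and yBy⁻¹ is a subgroup of G. -/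
theorem result {G : Type*} [Group G] [Finite G] [Group.IsSolvable G] (H K A B : Subgroup G) (hHK : ∀ g : G, ∃ h ∈ H, ∃ k ∈ K, g = h * k) (hA : A ≤ H) (hAn : (A.subgroupOf H).Normal) (hB : B ≤ K) (hBn : (B.subgroupOf K).Normal) (hAh : (Nat.card A).Coprime A.index) (hBh : (Nat.card B).Coprime B.index) (x y : G) : ∃ S : Subgroup G, (S : Set G) = ((MulAut.conj x • A : Subgroup G) : Set G) * ((MulAut.conj y • B : Subgroup G) : Set G) := by
  have key := coe_sup_eq_mul_of_hall H K A B hHK hA hAn hB hBn hAh hBh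
  obtain ⟨h, hh, k, hk, hxy⟩ := hHK (x⁻¹ * y)
  refine ⟨MulAut.conj (x * h) • (A ⊔ B), ?_⟩
  rw [Subgroup.coe_pointwise_smul, key, smul_mul']
  congr 1
  · rw [← Subgroup.coe_pointwise_smul, map_mul, mul_smul, conj_smul_eq_of_normal_subgroupOf hA hAn hh]
  · have hxh : x * h = y * k⁻¹ := by
      have : y = x * (h * k) := by rw [← hxy]; group
      rw [this]; group
    rw [← Subgroup.coe_pointwise_smul, hxh, map_mul, mul_smul,
      conj_smul_eq_of_normal_subgroupOf hB hBn (K.inv_mem hk)]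

end Cfsg.Agent.S0561
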