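import Cfsg.Statements.S0563
import Cfsg.Agent.Helper91.KWFinal
import Cfsg.Agent.S0561

set_option autoImplicit false
open Pointwise
open Cfsg

namespace Cfsg.Agent.S0563

theorem sylow_map_hall {G : Type*} [Group G] [Finite G] {A B : Subgroup G}
    (hcop : (Nat.card A).Coprime (Nat.card B))
    (hAB : ∀ g : G, ∃ a ∈ A, ∃ b ∈ B, g = a * b) (p : ℕ) [Fact p.Prime] (P : Sylow p A) :
    (Nat.card ((P : Subgroup A).map A.subtype : Subgroup G)).Coprime
      ((P : Subgroup A).map A.subtype : Subgroup G).index := by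
  have hp : p.Prime := Fact.out
  have hcardG : Nat.card G = Nat.card A * Nat.card B := by
    have := Cfsg.Agent.Helper91.card_of_fac (L := ⊤) le_top le_top hcop (fun g _ => hAB g)
    rwa [Subgroup.card_top] at this
  have hAi : A.index = Nat.card B := by
    have := Subgroup.card_mul_index A
    rw [hcardG] at this
    exact Nat.eq_of_mul_eq_mul_left Nat.card_pos this
  rw [Subgroup.card_map_of_injective A.subtype_injective, Subgroup.index_map_subtype, hAi]
  obtain ⟨k, hk⟩ := P.2.exists_card_eq
  apply Nat.Coprime.mul_right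
  · rw [hk]
    apply Nat.Coprime.pow_left
    exact (Nat.Prime.coprime_iff_not_dvd hp).mpr P.not_dvd_index
  · exact Nat.Coprime.coprime_dvd_left (Subgroup.card_subgroup_dvd_card _) hcop

theorem sylow_map_normal {G : Type*} [Group G] [Finite G] {A : Subgroup G}
    (hA : Group.IsNilpotent A) (p : ℕ) [Fact p.Prime] (P : Sylow p A) :
    (((P : Subgroup A).map A.subtype : Subgroup G).subgroupOf A).Normal := by
  have h1 : ((P : Subgroup A).map A.subtype).subgroupOf A = (P : Subgroup A) := by
    rw [Subgroup.subgroupOf, Subgroup.comap_map_eq_self_of_injective A.subtype_injective]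
  rw [h1]
  exact (Group.isNilpotent_of_finite_tfae.out 0 3 rfl rfl).mp hA p ‹_› P

/-- If a finite group G is the product AB of two nilpotent subgroups of coprime orders, then G is solvable, and for every Sylow p-subgroup P of A and Sylow q-subgroup Q of B the product set PQ is a subgroup. -/
theorem result {G : Type*} [Group G] [Finite G] (A B : Subgroup G) (hA : Group.IsNilpotent A) (hB : Group.IsNilpotent B) (hcop : (Nat.card A).Coprime (Nat.card B)) (hAB : ∀ g : G, ∃ a ∈ A, ∃ b ∈ B, g = a * b) : Group.IsSolvable G ∧ ∀ (p q : ℕ) [Fact p.Prime] [Fact q.Prime] (P : Sylow p A) (Q : Sylow q B), ∃ S : Subgroup G, (S : Set G) = (((P : Subgroup A).map A.subtype : Subgroup G) : Set G) * (((Q : Subgroup B).map B.subtype : Subgroup G) : Set G) := by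
  have hsol : Group.IsSolvable G := Cfsg.Agent.Helper91.kw_solvable A B hA hB hcop hAB
  refine ⟨hsol, ?_⟩
  intro p q _ _ P Q
  haveI := hsol
  have hBA : ∀ g : G, ∃ b ∈ B, ∃ a ∈ A, g = b * a := by
    intro g
    obtain ⟨a, ha, b, hb, hg⟩ := hAB g⁻¹
    refine ⟨b⁻¹, B.inv_mem hb, a⁻¹, A.inv_mem ha, ?_⟩
    rw [← mul_inv_rev, ← hg, inv_inv]
  obtain ⟨S, hS⟩ := Cfsg.Agent.S0561.result A B ((P : Subgroup A).map A.subtype)
    ((Q : Subgroup B).map B.subtype) hAB (Subgroup.map_subtype_le _) (sylow_map_normal hA p P)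
    (Subgroup.map_subtype_le _) (sylow_map_normal hB q Q) (sylow_map_hall hcop hAB p P)
    (sylow_map_hall hcop.symm hBA q Q) 1 1
  rw [map_one, one_smul, one_smul] at hS
  exact ⟨S, hS⟩

end Cfsg.Agent.S0563
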