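import Cfsg.Statements.S0569
import Cfsg.Agent.Helper9.CarterReduce

set_option autoImplicit false
open Cfsg

namespace Cfsg.Agent.S0569

/-- In a finite solvable group: each nilpotent self-normalizing subgroup contains the system normalizer of some Hall complement system, and the system normalizer of any Hall complement system lies in some nilpotent self-normalizing subgroup. -/
theorem result {G : Type*} [Group G] [Finite G] [Group.IsSolvable G] : (∀ C : Subgroup G, Cfsg.IsCarterSubgroup C → ∃ K : Nat.Primes → Subgroup G, Cfsg.IsComplementSystem K ∧ Cfsg.systemNormalizer K ≤ C) ∧ ∀ K : Nat.Primes → Subgroup G, Cfsg.IsComplementSystem K → ∃ C : Subgroup G, Cfsg.IsCarterSubgroup C ∧ Cfsg.systemNormalizer K ≤ C := by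
  open scoped Pointwise in
  refine ⟨fun C hC => ?_, fun K hK => ?_⟩
  · obtain ⟨K, hK, hred⟩ := Cfsg.Agent.Helper9.exists_cs_reducesInto C
    exact ⟨K, hK, Cfsg.Agent.Helper9.systemNormalizer_le_carter_aux _ G C K rfl hC hK hred⟩
  · obtain ⟨⟨C₀, hC₀⟩, -⟩ := Cfsg.Agent.Helper1.carter_main _ G rfl
    obtain ⟨K₀, hK₀, hred⟩ := Cfsg.Agent.Helper9.exists_cs_reducesInto C₀
    have h0 := Cfsg.Agent.Helper9.systemNormalizer_le_carter_aux _ G C₀ K₀ rfl hC₀ hK₀ hred
    obtain ⟨g, hg⟩ := Cfsg.Agent.Helper9.cs_exists_conj_all hK₀ hK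
    refine ⟨MulAut.conj g • C₀, Cfsg.Agent.Helper1.IsCarter.conj hC₀ g, ?_⟩
    have hKeq : K = fun p => MulAut.conj g • K₀ p := funext fun p => (hg p).symm
    rw [hKeq, Cfsg.Agent.Helper9.systemNormalizer_conj]
    exact Subgroup.pointwise_smul_le_pointwise_smul_iff.mpr h0

end Cfsg.Agent.S0569
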