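import Mathlib
import Cfsg.Statements.S0572

set_option autoImplicit false
open Cfsg

open Subgroup
open scoped commutatorElement

namespace Cfsg.Agent.S0572

theorem comm_mul_left_of_commute {G : Type*} [Group G] (x y b : G) (h : y * b = b * y) :
    ⁅x * y, b⁆ = ⁅x, b⁆ := by
  rw [commutatorElement_def, commutatorElement_def]
  have h1 : y * b * y⁻¹ = b := by rw [h]; group
  calc x * y * b * (x * y)⁻¹ * b⁻¹ = x * (y * b * y⁻¹) * x⁻¹ * b⁻¹ := by group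
    _ = x * b * x⁻¹ * b⁻¹ := by rw [h1]

theorem comm_mul_right_of_commute {G : Type*} [Group G] (a y x : G) (h : x * a = a * x) :
    ⁅a, y * x⁆ = ⁅a, y⁆ := by
  rw [commutatorElement_def, commutatorElement_def]
  have h1 : x * a⁻¹ * x⁻¹ = a⁻¹ := by
    have : x * a⁻¹ = a⁻¹ * x := by
      calc x * a⁻¹ = a⁻¹ * (a * x) * a⁻¹ := by group
        _ = a⁻¹ * (x * a) * a⁻¹ := by rw [h]
        _ = a⁻¹ * x := by group
    rw [this]; group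
  calc a * (y * x) * a⁻¹ * (y * x)⁻¹ = a * y * (x * a⁻¹ * x⁻¹) * y⁻¹ := by group
    _ = a * y * a⁻¹ * y⁻¹ := by rw [h1]

/-- Itô: the key identity. Conjugation by `α β` and by `β α` agree on `⁅a, b⁆`. -/
theorem ito_key {G : Type*} [Group G] (A B : Subgroup G)
    (hA : ∀ x ∈ A, ∀ y ∈ A, x * y = y * x) (hB : ∀ x ∈ B, ∀ y ∈ B, x * y = y * x)
    (hAB : ∀ g : G, ∃ a ∈ A, ∃ b ∈ B, g = a * b) (hBA : ∀ g : G, ∃ b ∈ B, ∃ a ∈ A, g = b * a)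
    {a α b β : G} (ha : a ∈ A) (hα : α ∈ A) (hb : b ∈ B) (hβ : β ∈ B) :
    (α * β) * ⁅a, b⁆ * (α * β)⁻¹ = (β * α) * ⁅a, b⁆ * (β * α)⁻¹ := by
  obtain ⟨a₁, ha₁, b₁, hb₁, h1⟩ := hAB (β * a * β⁻¹)
  obtain ⟨b₂, hb₂, a₂, ha₂, h2⟩ := hBA (α * b * α⁻¹)
  have hβb : ∀ y ∈ B, β * y * β⁻¹ = y := by
    intro y hy; rw [hB β hβ y hy]; group
  have hαa : ∀ y ∈ A, α * y * α⁻¹ = y := by
    intro y hy; rw [hA α hα y hy]; group
  have e1 : (α * β) * ⁅a, b⁆ * (α * β)⁻¹ = α * (β * ⁅a, b⁆ * β⁻¹) * α⁻¹ := by group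
  have e2 : (β * α) * ⁅a, b⁆ * (β * α)⁻¹ = β * (α * ⁅a, b⁆ * α⁻¹) * β⁻¹ := by group
  have c1 : β * ⁅a, b⁆ * β⁻¹ = ⁅a₁, b⁆ := by
    rw [conjugate_commutatorElement, hβb b hb, h1, comm_mul_left_of_commute a₁ b₁ b (hB b₁ hb₁ b hb)]
  have c2 : α * ⁅a₁, b⁆ * α⁻¹ = ⁅a₁, b₂⁆ := by
    rw [conjugate_commutatorElement, hαa a₁ ha₁, h2,
      comm_mul_right_of_commute a₁ b₂ a₂ (hA a₂ ha₂ a₁ ha₁)]
  have c3 : α * ⁅a, b⁆ * α⁻¹ = ⁅a, b₂⁆ := by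
    rw [conjugate_commutatorElement, hαa a ha, h2, comm_mul_right_of_commute a b₂ a₂ (hA a₂ ha₂ a ha)]
  have c4 : β * ⁅a, b₂⁆ * β⁻¹ = ⁅a₁, b₂⁆ := by
    rw [conjugate_commutatorElement, hβb b₂ hb₂, h1,
      comm_mul_left_of_commute a₁ b₁ b₂ (hB b₁ hb₁ b₂ hb₂)]
  rw [e1, e2, c1, c2, c3, c4]

/-- Itô's Theorem: if a group G is the product AB of two abelian subgroups, then the commutator subgroup of G is abelian, i.e. the second term of the derived series is trivial. -/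
theorem result {G : Type*} [Group G] (A B : Subgroup G) [IsMulCommutative A] [IsMulCommutative B] (hAB : ∀ g : G, ∃ a ∈ A, ∃ b ∈ B, g = a * b) : derivedSeries G 2 = ⊥ := by
  have hA : ∀ x ∈ A, ∀ y ∈ A, x * y = y * x := isMulCommutative_iff_of_setLike.mp inferInstance
  have hB : ∀ x ∈ B, ∀ y ∈ B, x * y = y * x := isMulCommutative_iff_of_setLike.mp inferInstance
  have hBA : ∀ g : G, ∃ b ∈ B, ∃ a ∈ A, g = b * a := by
    intro g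
    obtain ⟨a, ha, b, hb, h⟩ := hAB g⁻¹
    refine ⟨b⁻¹, B.inv_mem hb, a⁻¹, A.inv_mem ha, ?_⟩
    rw [← mul_inv_rev, ← h, inv_inv]
  -- generators of ⁅A,B⁆ commute
  have hgen : ∀ a ∈ A, ∀ b ∈ B, ∀ α ∈ A, ∀ β ∈ B, ⁅α, β⁆ * ⁅a, b⁆ = ⁅a, b⁆ * ⁅α, β⁆ := by
    intro a ha b hb α hα β hβ
    have key := ito_key A B hA hB hAB hBA ha (A.inv_mem hα) hb (B.inv_mem hβ)
    -- (α⁻¹β⁻¹) c (α⁻¹β⁻¹)⁻¹ = (β⁻¹α⁻¹) c (β⁻¹α⁻¹)⁻¹
    have : ⁅α, β⁆ * ⁅a, b⁆ * ⁅α, β⁆⁻¹ = ⁅a, b⁆ := by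
      have h3 : ⁅α, β⁆ = (β⁻¹ * α⁻¹)⁻¹ * (α⁻¹ * β⁻¹) := by rw [commutatorElement_def]; group
      rw [h3]
      calc (β⁻¹ * α⁻¹)⁻¹ * (α⁻¹ * β⁻¹) * ⁅a, b⁆ * ((β⁻¹ * α⁻¹)⁻¹ * (α⁻¹ * β⁻¹))⁻¹
          = (β⁻¹ * α⁻¹)⁻¹ * ((α⁻¹ * β⁻¹) * ⁅a, b⁆ * (α⁻¹ * β⁻¹)⁻¹) * (β⁻¹ * α⁻¹) := by group
        _ = (β⁻¹ * α⁻¹)⁻¹ * ((β⁻¹ * α⁻¹) * ⁅a, b⁆ * (β⁻¹ * α⁻¹)⁻¹) * (β⁻¹ * α⁻¹) := by rw [key]
        _ = ⁅a, b⁆ := by group
    calc ⁅α, β⁆ * ⁅a, b⁆ = (⁅α, β⁆ * ⁅a, b⁆ * ⁅α, β⁆⁻¹) * ⁅α, β⁆ := by group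
      _ = ⁅a, b⁆ * ⁅α, β⁆ := by rw [this]
  -- C = ⁅A,B⁆ is commutative
  have hCcomm : ⁅(⁅A, B⁆ : Subgroup G), (⁅A, B⁆ : Subgroup G)⁆ = ⊥ := by
    rw [Subgroup.commutator_eq_bot_iff_le_centralizer]
    rw [Subgroup.commutator_def A B, Subgroup.closure_le]
    rintro _ ⟨a, ha, b, hb, rfl⟩
    rw [SetLike.mem_coe, Subgroup.mem_centralizer_iff]
    intro c hc
    -- c ∈ closure; show c commutes with ⁅a,b⁆: centralizer of ⁅a,b⁆ contains generators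
    have : closure {g | ∃ g₁ ∈ A, ∃ g₂ ∈ B, ⁅g₁, g₂⁆ = g} ≤ centralizer {⁅a, b⁆} := by
      rw [Subgroup.closure_le]
      rintro _ ⟨α, hα, β, hβ, rfl⟩
      rw [SetLike.mem_coe, Subgroup.mem_centralizer_iff]
      intro x hx
      rw [Set.mem_singleton_iff] at hx
      rw [hx]
      exact (hgen a ha b hb α hα β hβ).symm
    have h4 := this hc
    rw [Subgroup.mem_centralizer_iff] at h4
    exact (h4 _ (Set.mem_singleton _)).symm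
  -- A and B normalise C
  have hCA : ∀ x ∈ A, ∀ c ∈ (⁅A, B⁆ : Subgroup G), x * c * x⁻¹ ∈ (⁅A, B⁆ : Subgroup G) := by
    intro x hx c hc
    have : (⁅A, B⁆ : Subgroup G) ≤ (⁅A, B⁆ : Subgroup G).comap (MulAut.conj x).toMonoidHom := by
      rw [Subgroup.commutator_le]
      intro a ha b hb
      rw [Subgroup.mem_comap]
      have : (MulAut.conj x).toMonoidHom ⁅a, b⁆ = ⁅x * a, b⁆ * ⁅x, b⁆⁻¹ := by
        simp only [MulEquiv.coe_toMonoidHom, MulAut.conj_apply, commutatorElement_def]; group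
      rw [this]
      exact Subgroup.mul_mem _ (Subgroup.commutator_mem_commutator (A.mul_mem hx ha) hb)
        (Subgroup.inv_mem _ (Subgroup.commutator_mem_commutator hx hb))
    have h5 := this hc
    rwa [Subgroup.mem_comap, MulEquiv.coe_toMonoidHom, MulAut.conj_apply] at h5
  have hCB : ∀ y ∈ B, ∀ c ∈ (⁅A, B⁆ : Subgroup G), y * c * y⁻¹ ∈ (⁅A, B⁆ : Subgroup G) := by
    intro y hy c hc
    have : (⁅A, B⁆ : Subgroup G) ≤ (⁅A, B⁆ : Subgroup G).comap (MulAut.conj y).toMonoidHom := by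
      rw [Subgroup.commutator_le]
      intro a ha b hb
      rw [Subgroup.mem_comap]
      have : (MulAut.conj y).toMonoidHom ⁅a, b⁆ = ⁅a, y⁆⁻¹ * ⁅a, y * b⁆ := by
        simp only [MulEquiv.coe_toMonoidHom, MulAut.conj_apply, commutatorElement_def]; group
      rw [this]
      exact Subgroup.mul_mem _ (Subgroup.inv_mem _ (Subgroup.commutator_mem_commutator ha hy))
        (Subgroup.commutator_mem_commutator ha (B.mul_mem hy hb))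
    have h5 := this hc
    rwa [Subgroup.mem_comap, MulEquiv.coe_toMonoidHom, MulAut.conj_apply] at h5
  -- G' ≤ C
  have hG' : ⁅(⊤ : Subgroup G), (⊤ : Subgroup G)⁆ ≤ ⁅A, B⁆ := by
    rw [Subgroup.commutator_le]
    intro g _ h _
    obtain ⟨a, ha, b, hb, rfl⟩ := hAB g
    obtain ⟨a', ha', b', hb', rfl⟩ := hAB h
    have hid : ⁅a * b, a' * b'⁆ = (a * ⁅b, a'⁆ * a⁻¹) * (a' * ⁅a, b'⁆ * a'⁻¹) := by
      simp only [commutatorElement_def]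
      have h1 : a'⁻¹ * a⁻¹ * a' * a = 1 := by
        calc a'⁻¹ * a⁻¹ * a' * a = a'⁻¹ * a⁻¹ * (a' * a) := by group
          _ = a'⁻¹ * a⁻¹ * (a * a') := by rw [hA a' ha' a ha]
          _ = 1 := by group
      have h2 : b⁻¹ * b' = b' * b⁻¹ := by
        calc b⁻¹ * b' = b⁻¹ * (b' * b) * b⁻¹ := by group
          _ = b⁻¹ * (b * b') * b⁻¹ := by rw [hB b' hb' b hb]
          _ = b' * b⁻¹ := by group
      symm
      calc a * (b * a' * b⁻¹ * a'⁻¹) * a⁻¹ * (a' * (a * b' * a⁻¹ * b'⁻¹) * a'⁻¹)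
          = a * b * a' * b⁻¹ * (a'⁻¹ * a⁻¹ * a' * a) * b' * a⁻¹ * b'⁻¹ * a'⁻¹ := by group
        _ = a * b * a' * (b⁻¹ * b') * a⁻¹ * b'⁻¹ * a'⁻¹ := by rw [h1]; group
        _ = a * b * a' * (b' * b⁻¹) * a⁻¹ * b'⁻¹ * a'⁻¹ := by rw [h2]
        _ = a * b * (a' * b') * (a * b)⁻¹ * (a' * b')⁻¹ := by group
    rw [hid]
    refine Subgroup.mul_mem _ (hCA a ha _ ?_) (hCA a' ha' _ (Subgroup.commutator_mem_commutator ha hb'))
    rw [← commutatorElement_inv]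
    exact Subgroup.inv_mem _ (Subgroup.commutator_mem_commutator ha' hb)
  have h2 : derivedSeries G 2 = ⁅⁅(⊤ : Subgroup G), (⊤ : Subgroup G)⁆, ⁅(⊤ : Subgroup G), (⊤ : Subgroup G)⁆⁆ := rfl
  rw [h2, eq_bot_iff, ← hCcomm]
  exact Subgroup.commutator_mono hG' hG'

end Cfsg.Agent.S0572
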