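import Mathlib
import Cfsg.Statements.S0573
import Cfsg.Agent.S0572
import Cfsg.Agent.S0560
import Cfsg.Agent.Helper10.MinNormal
import Cfsg.Agent.Helper10.SolvMinNormal

set_option autoImplicit false
open Cfsg

open Pointwise
open scoped commutatorElement

namespace Cfsg.Agent.S0573

section ItoNormal

variable {G : Type*} [Group G]

/-- If `z = a * b` is central in `G = AB` with `A`, `B` abelian, then `a` and `b` are central. -/
theorem left_mem_center_of_mul_mem_center (A B : Subgroup G)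
    (hAc : ∀ x ∈ A, ∀ y ∈ A, x * y = y * x) (hBc : ∀ x ∈ B, ∀ y ∈ B, x * y = y * x)
    (hAB : ∀ g : G, ∃ a ∈ A, ∃ b ∈ B, g = a * b) {a b : G} (ha : a ∈ A) (hb : b ∈ B)
    (hz : a * b ∈ Subgroup.center G) : a ∈ Subgroup.center G := by
  rw [Subgroup.mem_center_iff] at hz ⊢
  intro g
  obtain ⟨a', ha', b', hb', rfl⟩ := hAB g
  have h1 : a' * a = a * a' := hAc a' ha' a ha
  have h2 : b' * a = a * b' := by
    have e1 := hz b'
    have e2 := hBc b' hb' b hb
    -- b' * (a * b) = (a * b) * b', b' * b = b * b'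
    have : b' * a * b = a * b' * b := by
      calc b' * a * b = b' * (a * b) := by group
        _ = a * b * b' := e1
        _ = a * (b * b') := by group
        _ = a * (b' * b) := by rw [e2]
        _ = a * b' * b := by group
    exact mul_right_cancel this
  calc a' * b' * a = a' * (b' * a) := by group
    _ = a' * (a * b') := by rw [h2]
    _ = (a' * a) * b' := by group
    _ = (a * a') * b' := by rw [h1]
    _ = a * (a' * b') := by group

theorem right_mem_center_of_mul_mem_center (A B : Subgroup G)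
    (hAc : ∀ x ∈ A, ∀ y ∈ A, x * y = y * x) (hBc : ∀ x ∈ B, ∀ y ∈ B, x * y = y * x)
    (hAB : ∀ g : G, ∃ a ∈ A, ∃ b ∈ B, g = a * b) {a b : G} (ha : a ∈ A) (hb : b ∈ B)
    (hz : a * b ∈ Subgroup.center G) : b ∈ Subgroup.center G := by
  have h1 := left_mem_center_of_mul_mem_center A B hAc hBc hAB ha hb hz
  have : b = a⁻¹ * (a * b) := by group
  rw [this]
  exact Subgroup.mul_mem _ (Subgroup.inv_mem _ h1) hz

/-- A subgroup of central elements is normal. -/
theorem normal_of_forall_mem_center (N : Subgroup G) (h : N ≤ Subgroup.center G) : N.Normal := by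
  constructor
  intro n hn g
  have := Subgroup.mem_center_iff.mp (h hn) g
  have e : g * n * g⁻¹ = n := by rw [this]; group
  rw [e]; exact hn

/-- With trivial centre, `A` is self-centralising in `G = AB`. -/
theorem mem_of_commute_of_center_eq_bot (A B : Subgroup G)
    (hAc : ∀ x ∈ A, ∀ y ∈ A, x * y = y * x) (hBc : ∀ x ∈ B, ∀ y ∈ B, x * y = y * x)
    (hAB : ∀ g : G, ∃ a ∈ A, ∃ b ∈ B, g = a * b) (hZ : Subgroup.center G = ⊥)
    {w : G} (hw : ∀ x ∈ A, w * x = x * w) : w ∈ A := by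
  obtain ⟨a, ha, b, hb, rfl⟩ := hAB w
  have hbc : b ∈ Subgroup.center G := by
    rw [Subgroup.mem_center_iff]
    intro g
    obtain ⟨a', ha', b', hb', rfl⟩ := hAB g
    have h1 : b * a' = a' * b := by
      have e1 := hw a' ha'
      have e2 := hAc a ha a' ha'
      -- a * b * a' = a' * (a * b)
      have : a * (b * a') = a * (a' * b) := by
        calc a * (b * a') = a * b * a' := by group
          _ = a' * (a * b) := e1
          _ = (a' * a) * b := by group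
          _ = (a * a') * b := by rw [e2]
          _ = a * (a' * b) := by group
      exact mul_left_cancel this
    have h2 : b * b' = b' * b := hBc b hb b' hb'
    calc a' * b' * b = a' * (b' * b) := by group
      _ = a' * (b * b') := by rw [h2]
      _ = (a' * b) * b' := by group
      _ = (b * a') * b' := by rw [h1]
      _ = b * (a' * b') := by group
  rw [hZ, Subgroup.mem_bot] at hbc
  rw [hbc, mul_one]; exact ha

end ItoNormal

section ItoNormal2

variable {G : Type*} [Group G] (N : Subgroup G) [hNn : N.Normal]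
  (hmin : ∀ M : Subgroup G, M.Normal → M ≤ N → M = ⊥ ∨ M = N)
  (hNc : ∀ c ∈ commutator G, ∀ n ∈ N, c * n = n * c)

include hNn hmin hNc in
/-- Elements of `G` act on the minimal normal subgroup `N` (centralised by `G'`) either trivially or
fixed-point-freely. -/
theorem commute_of_fixed (g : G) {n₀ : G} (hn₀ : n₀ ∈ N) (hne : n₀ ≠ 1) (hg : g * n₀ = n₀ * g) :
    ∀ n ∈ N, g * n = n * g := by
  let F : Subgroup G := N ⊓ Subgroup.centralizer {g}
  have hFn : F.Normal := by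
    constructor
    intro n hn h
    obtain ⟨hnN, hnC⟩ := Subgroup.mem_inf.mp hn
    rw [Subgroup.mem_centralizer_singleton_iff] at hnC
    refine Subgroup.mem_inf.mpr ⟨hNn.conj_mem n hnN h, ?_⟩
    rw [Subgroup.mem_centralizer_singleton_iff]
    have hc : ⁅h⁻¹, g⁆ ∈ commutator G := by
      rw [commutator_def]
      exact Subgroup.commutator_mem_commutator (Subgroup.mem_top _) (Subgroup.mem_top _)
    have h1 := hNc _ hc n hnN
    rw [commutatorElement_def] at h1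
    -- h1 : h⁻¹ * g * h⁻¹⁻¹ * g⁻¹ * n = n * (h⁻¹ * g * h⁻¹⁻¹ * g⁻¹)
    have h2 : h⁻¹ * g * h * n = n * (h⁻¹ * g * h) := by
      calc h⁻¹ * g * h * n = (h⁻¹ * g * h⁻¹⁻¹ * g⁻¹) * (g * n) := by group
        _ = (h⁻¹ * g * h⁻¹⁻¹ * g⁻¹) * (n * g) := by rw [hnC]
        _ = ((h⁻¹ * g * h⁻¹⁻¹ * g⁻¹) * n) * g := by group
        _ = (n * (h⁻¹ * g * h⁻¹⁻¹ * g⁻¹)) * g := by rw [h1]
        _ = n * (h⁻¹ * g * h) := by group
    calc h * n * h⁻¹ * g = h * (n * (h⁻¹ * g * h)) * h⁻¹ := by group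
      _ = h * (h⁻¹ * g * h * n) * h⁻¹ := by rw [h2]
      _ = g * (h * n * h⁻¹) := by group
  rcases hmin F hFn inf_le_left with h | h
  · exfalso
    apply hne
    have : n₀ ∈ F := Subgroup.mem_inf.mpr ⟨hn₀, Subgroup.mem_centralizer_singleton_iff.mpr hg.symm⟩
    rwa [h, Subgroup.mem_bot] at this
  · intro n hn
    have : n ∈ F := by rw [h]; exact hn
    exact (Subgroup.mem_centralizer_singleton_iff.mp (Subgroup.mem_inf.mp this).2).symm

include hNn hmin hNc in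
/-- A `p`-element centralises the minimal normal `p`-subgroup `N`. -/
theorem commute_of_pElement [Finite G] {p d : ℕ} [Fact p.Prime] (hd : 0 < d)
    (hcard : Nat.card N = p ^ d) (g : G) {k : ℕ} (hg : g ^ (p ^ k) = 1) :
    ∀ n ∈ N, g * n = n * g := by
  let φ : ↥(Subgroup.zpowers g) →* MulAut ↥N :=
    (MulAut.conjNormal (H := N)).comp (Subgroup.zpowers g).subtype
  let _ : MulAction ↥(Subgroup.zpowers g) ↥N := MulAction.compHom ↥N φ
  have hP : IsPGroup p ↥(Subgroup.zpowers g) := by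
    rintro ⟨_, j, rfl⟩
    refine ⟨k, Subtype.ext ?_⟩
    show (g ^ j) ^ (p ^ k) = 1
    rw [← zpow_natCast, ← zpow_mul, mul_comm, zpow_mul, zpow_natCast, hg, one_zpow]
  have hdvd : p ∣ Nat.card ↥N := by rw [hcard]; exact dvd_pow_self p hd.ne'
  have h1 : (1 : ↥N) ∈ MulAction.fixedPoints ↥(Subgroup.zpowers g) ↥N := by
    intro z
    apply Subtype.ext
    show (z : G) * ((1 : ↥N) : G) * (z : G)⁻¹ = ((1 : ↥N) : G)
    simp
  obtain ⟨n₀, hn₀, hne⟩ := hP.exists_fixed_point_of_prime_dvd_card_of_fixed_point ↥N hdvd h1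
  have h2 : (⟨g, Subgroup.mem_zpowers g⟩ : Subgroup.zpowers g) • n₀ = n₀ := hn₀ _
  have h3 : g * (n₀ : G) * g⁻¹ = n₀ := congrArg Subtype.val h2
  apply commute_of_fixed N hmin hNc g n₀.2
  · intro h
    apply hne
    exact (Subtype.ext h).symm
  · calc g * (n₀ : G) = (g * n₀ * g⁻¹) * g := by group
      _ = n₀ * g := by rw [h3]

end ItoNormal2

section ItoNormal3

variable {G : Type*} [Group G] (A B N : Subgroup G) [hNn : N.Normal]
  (hAc : ∀ x ∈ A, ∀ y ∈ A, x * y = y * x) (hBc : ∀ x ∈ B, ∀ y ∈ B, x * y = y * x)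
  (hAB : ∀ g : G, ∃ a ∈ A, ∃ b ∈ B, g = a * b)

/-- The factoriser-like subgroup `X = (A ∩ BN) N`. -/
def itoX : Subgroup G := (A ⊓ (B ⊔ N)) ⊔ N

include hNn in
theorem itoX_decompA {x : G} (hx : x ∈ itoX A B N) :
    ∃ u ∈ A ⊓ (B ⊔ N), ∃ n ∈ N, u * n = x := by
  unfold itoX at hx
  rwa [Subgroup.mem_sup_of_normal_right] at hx

include hNn in
theorem itoX_decompB {x : G} (hx : x ∈ itoX A B N) : ∃ b ∈ B, ∃ n ∈ N, b * n = x := by
  obtain ⟨u, hu, n, hn, rfl⟩ := itoX_decompA A B N hx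
  have hu2 := (Subgroup.mem_inf.mp hu).2
  rw [Subgroup.mem_sup_of_normal_right] at hu2
  obtain ⟨b, hb, n', hn', rfl⟩ := hu2
  exact ⟨b, hb, n' * n, N.mul_mem hn' hn, by group⟩

omit hNn in
theorem le_itoX : N ≤ itoX A B N := le_sup_right

include hNn hAc in
theorem itoX_conjA {a x : G} (ha : a ∈ A) (hx : x ∈ itoX A B N) :
    ∃ n ∈ N, a * x * a⁻¹ = x * n := by
  obtain ⟨u, hu, n, hn, rfl⟩ := itoX_decompA A B N hx
  have hua : a * u = u * a := hAc a ha u (Subgroup.mem_inf.mp hu).1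
  refine ⟨n⁻¹ * (a * n * a⁻¹), N.mul_mem (N.inv_mem hn) (hNn.conj_mem n hn a), ?_⟩
  calc a * (u * n) * a⁻¹ = (a * u) * n * a⁻¹ := by group
    _ = (u * a) * n * a⁻¹ := by rw [hua]
    _ = u * n * (n⁻¹ * (a * n * a⁻¹)) := by group

include hNn hBc in
theorem itoX_conjB {b x : G} (hb : b ∈ B) (hx : x ∈ itoX A B N) :
    ∃ n ∈ N, b * x * b⁻¹ = x * n := by
  obtain ⟨b', hb', n, hn, rfl⟩ := itoX_decompB A B N hx
  have hbb : b * b' = b' * b := hBc b hb b' hb'
  refine ⟨n⁻¹ * (b * n * b⁻¹), N.mul_mem (N.inv_mem hn) (hNn.conj_mem n hn b), ?_⟩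
  calc b * (b' * n) * b⁻¹ = (b * b') * n * b⁻¹ := by group
    _ = (b' * b) * n * b⁻¹ := by rw [hbb]
    _ = b' * n * (n⁻¹ * (b * n * b⁻¹)) := by group

include hNn hAc hBc hAB in
theorem itoX_conj (g : G) {x : G} (hx : x ∈ itoX A B N) :
    ∃ n ∈ N, g * x * g⁻¹ = x * n := by
  obtain ⟨a, ha, b, hb, rfl⟩ := hAB g
  obtain ⟨n₁, hn₁, h1⟩ := itoX_conjB A B N hBc hb hx
  obtain ⟨n₂, hn₂, h2⟩ := itoX_conjA A B N hAc ha hx
  refine ⟨n₂ * (a * n₁ * a⁻¹), N.mul_mem hn₂ (hNn.conj_mem n₁ hn₁ a), ?_⟩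
  calc a * b * x * (a * b)⁻¹ = a * (b * x * b⁻¹) * a⁻¹ := by group
    _ = a * (x * n₁) * a⁻¹ := by rw [h1]
    _ = (a * x * a⁻¹) * (a * n₁ * a⁻¹) := by group
    _ = x * n₂ * (a * n₁ * a⁻¹) := by rw [h2]
    _ = x * (n₂ * (a * n₁ * a⁻¹)) := by group

include hNn hAc hBc hAB in
theorem itoX_normal : (itoX A B N).Normal := by
  constructor
  intro x hx g
  obtain ⟨n, hn, h⟩ := itoX_conj A B N hAc hBc hAB g hx
  rw [h]
  exact Subgroup.mul_mem _ hx (le_itoX A B N hn)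

/-- Powers of an element acting on `x` by multiplication with `n` fixed by it. -/
theorem pow_conj_eq {c x n : G} (hcn : c * n = n * c) (hx : c * x * c⁻¹ = x * n) (j : ℕ) :
    c ^ j * x * (c ^ j)⁻¹ = x * n ^ j := by
  induction j with
  | zero => simp
  | succ j ih =>
    have hcnj : c * n ^ j = n ^ j * c := (Commute.pow_right hcn j)
    calc c ^ (j + 1) * x * (c ^ (j + 1))⁻¹ = c * (c ^ j * x * (c ^ j)⁻¹) * c⁻¹ := by
          rw [pow_succ']; group
      _ = c * (x * n ^ j) * c⁻¹ := by rw [ih]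
      _ = (c * x * c⁻¹) * (c * n ^ j) * c⁻¹ := by group
      _ = (x * n) * (n ^ j * c) * c⁻¹ := by rw [hx, hcnj]
      _ = x * n ^ (j + 1) := by rw [pow_succ']; group

end ItoNormal3

section ItoNormal4

variable {G : Type*} [Group G] [Finite G] (A B N : Subgroup G) [hNn : N.Normal]
  (hAc : ∀ x ∈ A, ∀ y ∈ A, x * y = y * x) (hBc : ∀ x ∈ B, ∀ y ∈ B, x * y = y * x)
  (hAB : ∀ g : G, ∃ a ∈ A, ∃ b ∈ B, g = a * b)
  (hmin : ∀ M : Subgroup G, M.Normal → M ≤ N → M = ⊥ ∨ M = N)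
  (hNc : ∀ c ∈ commutator G, ∀ n ∈ N, c * n = n * c)
  {p d : ℕ} [hp : Fact p.Prime] (hd : 0 < d) (hcard : Nat.card N = p ^ d)

include hNn hAc hmin hNc hd hcard in
theorem itoX_commute_pA {a : G} (ha : a ∈ A) {k : ℕ} (hak : a ^ (p ^ k) = 1) :
    a ∈ Subgroup.centralizer (itoX A B N : Set G) := by
  rw [Subgroup.mem_centralizer_iff]
  intro x hx
  obtain ⟨u, hu, n, hn, rfl⟩ := itoX_decompA A B N hx
  have h1 : a * u = u * a := hAc a ha u (Subgroup.mem_inf.mp hu).1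
  have h2 : a * n = n * a := commute_of_pElement N hmin hNc hd hcard a hak n hn
  calc u * n * a = u * (n * a) := by group
    _ = u * (a * n) := by rw [h2]
    _ = (u * a) * n := by group
    _ = (a * u) * n := by rw [h1]
    _ = a * (u * n) := by group

include hNn hBc hmin hNc hd hcard in
theorem itoX_commute_pB {b : G} (hb : b ∈ B) {k : ℕ} (hbk : b ^ (p ^ k) = 1) :
    b ∈ Subgroup.centralizer (itoX A B N : Set G) := by
  rw [Subgroup.mem_centralizer_iff]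
  intro x hx
  obtain ⟨u, hu, n, hn, rfl⟩ := itoX_decompB A B N hx
  have h1 : b * u = u * b := hBc b hb u hu
  have h2 : b * n = n * b := commute_of_pElement N hmin hNc hd hcard b hbk n hn
  calc u * n * b = u * (n * b) := by group
    _ = u * (b * n) := by rw [h2]
    _ = (u * b) * n := by group
    _ = (b * u) * n := by rw [h1]
    _ = b * (u * n) := by group

include hNn hAc hBc hAB hmin hNc hd hcard in
theorem exists_sylow_le_centralizer_itoX :
    ∃ R : Sylow p G, (R : Subgroup G) ≤ Subgroup.centralizer (itoX A B N : Set G) := by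
  obtain ⟨P, Q, R, hR⟩ := Cfsg.Agent.S0560.result A B hAB p
  refine ⟨R, ?_⟩
  intro r hr
  have hr' : r ∈ ((R : Subgroup G) : Set G) := hr
  rw [hR] at hr'
  obtain ⟨a, ha, b, hb, rfl⟩ := hr'
  obtain ⟨a', ha', rfl⟩ := ha
  obtain ⟨b', hb', rfl⟩ := hb
  obtain ⟨k₁, hk₁⟩ := P.isPGroup' ⟨a', ha'⟩
  obtain ⟨k₂, hk₂⟩ := Q.isPGroup' ⟨b', hb'⟩
  have e1 : (a' : G) ^ (p ^ k₁) = 1 := by
    have := congrArg (fun z : ↥(P : Subgroup ↥A) => ((z : ↥A) : G)) hk₁
    simpa using this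
  have e2 : (b' : G) ^ (p ^ k₂) = 1 := by
    have := congrArg (fun z : ↥(Q : Subgroup ↥B) => ((z : ↥B) : G)) hk₂
    simpa using this
  exact Subgroup.mul_mem _ (itoX_commute_pA A B N hAc hmin hNc hd hcard a'.2 e1)
    (itoX_commute_pB A B N hBc hmin hNc hd hcard b'.2 e2)

include hNn hAc hBc hAB hmin hNc hd hcard in
theorem commutator_le_centralizer_itoX :
    commutator G ≤ Subgroup.centralizer (itoX A B N : Set G) := by
  have hXn : (itoX A B N).Normal := itoX_normal A B N hAc hBc hAB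
  have hKn : (Subgroup.centralizer (itoX A B N : Set G)).Normal := inferInstance
  set K := Subgroup.centralizer (itoX A B N : Set G) with hK
  obtain ⟨R, hR⟩ := exists_sylow_le_centralizer_itoX A B N hAc hBc hAB hmin hNc hd hcard
  have hidx : ¬ p ∣ K.index := fun h => R.not_dvd_index (h.trans (Subgroup.index_dvd_of_le hR))
  have hcop : (Nat.card (G ⧸ K)).Coprime (p ^ d) := by
    rw [← Subgroup.index_eq_card]
    exact Nat.Coprime.pow_right d ((Nat.Prime.coprime_iff_not_dvd hp.out).mpr hidx).symm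
  intro c hc
  -- c ^ (p ^ d) ∈ K
  have hpow : c ^ (p ^ d) ∈ K := by
    rw [hK, Subgroup.mem_centralizer_iff]
    intro x hx
    obtain ⟨n, hn, hx'⟩ := itoX_conj A B N hAc hBc hAB c hx
    have h1 := pow_conj_eq (hNc c hc n hn) hx' (p ^ d)
    have h2 : n ^ (p ^ d) = 1 := by
      have := pow_card_eq_one' (G := ↥N) (x := ⟨n, hn⟩)
      rw [hcard] at this
      exact congrArg Subtype.val this
    rw [h2, mul_one] at h1
    calc x * c ^ (p ^ d) = (c ^ (p ^ d) * x * (c ^ (p ^ d))⁻¹) * c ^ (p ^ d) := by rw [h1]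
      _ = c ^ (p ^ d) * x := by group
  have h1 : (QuotientGroup.mk' K c) ^ (p ^ d) = 1 := by
    rw [← map_pow, QuotientGroup.mk'_apply, QuotientGroup.eq_one_iff]
    exact hpow
  have h2 : QuotientGroup.mk' K c = 1 := by
    apply (powCoprime hcop).injective
    show (QuotientGroup.mk' K c) ^ (p ^ d) = 1 ^ (p ^ d)
    rw [h1, one_pow]
  rwa [QuotientGroup.mk'_apply, QuotientGroup.eq_one_iff] at h2

end ItoNormal4

/-- If a nontrivial finite group G is the product AB of abelian subgroups A and B, then some nontrivial normal subgroup of G is contained in A or in B. -/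
theorem result {G : Type*} [Group G] [Finite G] [Nontrivial G] (A B : Subgroup G) [IsMulCommutative A] [IsMulCommutative B] (hAB : ∀ g : G, ∃ a ∈ A, ∃ b ∈ B, g = a * b) : ∃ N : Subgroup G, N.Normal ∧ N ≠ ⊥ ∧ (N ≤ A ∨ N ≤ B) := by
  have hAc : ∀ x ∈ A, ∀ y ∈ A, x * y = y * x := fun x hx y hy =>
    congrArg Subtype.val ((inferInstance : IsMulCommutative A).is_comm.comm ⟨x, hx⟩ ⟨y, hy⟩)
  have hBc : ∀ x ∈ B, ∀ y ∈ B, x * y = y * x := fun x hx y hy =>
    congrArg Subtype.val ((inferInstance : IsMulCommutative B).is_comm.comm ⟨x, hx⟩ ⟨y, hy⟩)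
  have hBA : ∀ g : G, ∃ b ∈ B, ∃ a ∈ A, g = b * a := by
    intro g
    obtain ⟨a, ha, b, hb, h⟩ := hAB g⁻¹
    refine ⟨b⁻¹, B.inv_mem hb, a⁻¹, A.inv_mem ha, ?_⟩
    rw [← mul_inv_rev, ← h, inv_inv]
  by_cases hZ : Subgroup.center G = ⊥
  swap
  · obtain ⟨⟨z, hz⟩, hz1⟩ := (Subgroup.ne_bot_iff_exists_ne_one).mp hZ
    have hz1' : z ≠ 1 := fun h => hz1 (Subtype.ext h)
    obtain ⟨a, ha, b, hb, rfl⟩ := hAB z
    have hac := left_mem_center_of_mul_mem_center A B hAc hBc hAB ha hb hz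
    have hbc := right_mem_center_of_mul_mem_center A B hAc hBc hAB ha hb hz
    by_cases ha1 : a = 1
    · refine ⟨B ⊓ Subgroup.center G, normal_of_forall_mem_center _ inf_le_right, ?_,
        Or.inr inf_le_left⟩
      intro h
      have : b ∈ B ⊓ Subgroup.center G := Subgroup.mem_inf.mpr ⟨hb, hbc⟩
      rw [h, Subgroup.mem_bot] at this
      apply hz1'
      rw [ha1, this, one_mul]
    · refine ⟨A ⊓ Subgroup.center G, normal_of_forall_mem_center _ inf_le_right, ?_,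
        Or.inl inf_le_left⟩
      intro h
      have : a ∈ A ⊓ Subgroup.center G := Subgroup.mem_inf.mpr ⟨ha, hac⟩
      rw [h, Subgroup.mem_bot] at this
      exact ha1 this
  -- trivial centre
  have hder := Cfsg.Agent.S0572.result A B hAB
  have hsolv : Group.IsSolvable G := (Group.isSolvable_def G).mpr ⟨2, hder⟩
  rw [derivedSeries_succ, derivedSeries_one] at hder
  have hG'c : ∀ x ∈ commutator G, ∀ y ∈ commutator G, x * y = y * x := by
    intro x hx y hy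
    rw [← commutatorElement_eq_one_iff_mul_comm, ← Subgroup.mem_bot, ← hder]
    exact Subgroup.commutator_mem_commutator hx hy
  have hG'ne : commutator G ≠ ⊥ := by
    intro h
    have htop : Subgroup.center G = ⊤ := by
      rw [eq_top_iff]
      intro z _
      rw [Subgroup.mem_center_iff]
      intro g
      rw [← commutatorElement_eq_one_iff_mul_comm, ← Subgroup.mem_bot, ← h, commutator_def]
      exact Subgroup.commutator_mem_commutator (Subgroup.mem_top _) (Subgroup.mem_top _)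
    rw [htop] at hZ
    exact top_ne_bot hZ
  obtain ⟨N, hNn, hNne, hNle, hmin⟩ :=
    Cfsg.Agent.Helper10.exists_minimal_normal_le (commutator G) hG'ne
  obtain ⟨p, hp, hexp, d, hd, hcard⟩ :=
    Cfsg.Agent.Helper10.minNormal_elementary_of_solvable N hNne hmin
  have hpf : Fact p.Prime := ⟨hp⟩
  have hNc : ∀ c ∈ commutator G, ∀ n ∈ N, c * n = n * c :=
    fun c hc n hn => hG'c c hc n (hNle hn)
  by_cases hAN : A ⊓ N = ⊥
  swap
  · obtain ⟨⟨n₀, hn₀⟩, hn₀1⟩ := (Subgroup.ne_bot_iff_exists_ne_one).mp hAN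
    have hn₀1' : n₀ ≠ 1 := fun h => hn₀1 (Subtype.ext h)
    obtain ⟨hn₀A, hn₀N⟩ := Subgroup.mem_inf.mp hn₀
    refine ⟨N, hNn, hNne, Or.inl ?_⟩
    intro n hn
    apply mem_of_commute_of_center_eq_bot A B hAc hBc hAB hZ
    intro a ha
    exact (commute_of_fixed N hmin hNc a hn₀N hn₀1' (hAc a ha n₀ hn₀A) n hn).symm
  by_cases hBN : B ⊓ N = ⊥
  swap
  · obtain ⟨⟨n₀, hn₀⟩, hn₀1⟩ := (Subgroup.ne_bot_iff_exists_ne_one).mp hBN
    have hn₀1' : n₀ ≠ 1 := fun h => hn₀1 (Subtype.ext h)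
    obtain ⟨hn₀B, hn₀N⟩ := Subgroup.mem_inf.mp hn₀
    refine ⟨N, hNn, hNne, Or.inr ?_⟩
    intro n hn
    apply mem_of_commute_of_center_eq_bot B A hBc hAc hBA hZ
    intro b hb
    exact (commute_of_fixed N hmin hNc b hn₀N hn₀1' (hBc b hb n₀ hn₀B) n hn).symm
  exfalso
  have hcomm := commutator_le_centralizer_itoX A B N hAc hBc hAB hmin hNc hd hcard
  -- a nontrivial element of N
  obtain ⟨⟨n, hn⟩, hn1⟩ := (Subgroup.ne_bot_iff_exists_ne_one).mp hNne
  have hn1' : n ≠ 1 := fun h => hn1 (Subtype.ext h)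
  obtain ⟨u, hu, b, hb, hnub⟩ := hAB n
  -- u = b⁻¹ * (b * n * b⁻¹), b = u⁻¹ * n
  have hu1 : u ≠ 1 := by
    intro h
    have : n ∈ B ⊓ N := Subgroup.mem_inf.mpr ⟨by rw [hnub, h, one_mul]; exact hb, hn⟩
    rw [hBN, Subgroup.mem_bot] at this
    exact hn1' this
  have hb1 : b ≠ 1 := by
    intro h
    have : n ∈ A ⊓ N := Subgroup.mem_inf.mpr ⟨by rw [hnub, h, mul_one]; exact hu, hn⟩
    rw [hAN, Subgroup.mem_bot] at this
    exact hn1' this
  set n₁ := b * n * b⁻¹ with hn₁def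
  have hn₁ : n₁ ∈ N := hNn.conj_mem n hn b
  have hn₁1 : n₁ ≠ 1 := by
    intro h
    apply hn1'
    have : n = b⁻¹ * n₁ * b := by rw [hn₁def]; group
    rw [this, h]; group
  have hu_eq : u = b⁻¹ * n₁ := by
    rw [hn₁def, hnub]; group
  have hb_eq : b = u⁻¹ * n := by rw [hnub]; group
  -- B does not centralise N
  have hBC : ∃ b₀ ∈ B, ∃ m ∈ N, b₀ * m ≠ m * b₀ := by
    by_contra hcon
    push Not at hcon
    apply hu1
    have hucen : u ∈ Subgroup.center G := by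
      rw [Subgroup.mem_center_iff]
      intro g
      obtain ⟨a', ha', b', hb', rfl⟩ := hAB g
      have h1 : a' * u = u * a' := hAc a' ha' u hu
      have h2 : b' * u = u * b' := by
        rw [hu_eq]
        have e1 : b' * b⁻¹ = b⁻¹ * b' := hBc b' hb' b⁻¹ (B.inv_mem hb)
        have e2 := hcon b' hb' n₁ hn₁
        calc b' * (b⁻¹ * n₁) = (b' * b⁻¹) * n₁ := by group
          _ = (b⁻¹ * b') * n₁ := by rw [e1]
          _ = b⁻¹ * (b' * n₁) := by group
          _ = b⁻¹ * (n₁ * b') := by rw [e2]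
          _ = b⁻¹ * n₁ * b' := by group
      calc a' * b' * u = a' * (b' * u) := by group
        _ = a' * (u * b') := by rw [h2]
        _ = (a' * u) * b' := by group
        _ = (u * a') * b' := by rw [h1]
        _ = u * (a' * b') := by group
    rwa [hZ, Subgroup.mem_bot] at hucen
  have hAC : ∃ a₀ ∈ A, ∃ m ∈ N, a₀ * m ≠ m * a₀ := by
    by_contra hcon
    push Not at hcon
    apply hb1
    have hbcen : b ∈ Subgroup.center G := by
      rw [Subgroup.mem_center_iff]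
      intro g
      obtain ⟨a', ha', b', hb', rfl⟩ := hAB g
      have h2 : b' * b = b * b' := hBc b' hb' b hb
      have h1 : a' * b = b * a' := by
        rw [hb_eq]
        have e1 : a' * u⁻¹ = u⁻¹ * a' := hAc a' ha' u⁻¹ (A.inv_mem hu)
        have e2 := hcon a' ha' n hn
        calc a' * (u⁻¹ * n) = (a' * u⁻¹) * n := by group
          _ = (u⁻¹ * a') * n := by rw [e1]
          _ = u⁻¹ * (a' * n) := by group
          _ = u⁻¹ * (n * a') := by rw [e2]
          _ = u⁻¹ * n * a' := by group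
      calc a' * b' * b = a' * (b' * b) := by group
        _ = a' * (b * b') := by rw [h2]
        _ = (a' * b) * b' := by group
        _ = (b * a') * b' := by rw [h1]
        _ = b * (a' * b') := by group
    rwa [hZ, Subgroup.mem_bot] at hbcen
  obtain ⟨b₀, hb₀, m₁, hm₁, hbm⟩ := hBC
  obtain ⟨a₀, ha₀, m₂, hm₂, ham⟩ := hAC
  -- fixed-point-freeness
  have hb₀f : ∀ m ∈ N, m ≠ 1 → b₀ * m ≠ m * b₀ := by
    intro m hm hm1 h
    exact hbm (commute_of_fixed N hmin hNc b₀ hm hm1 h m₁ hm₁)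
  have ha₀f : ∀ m ∈ N, m ≠ 1 → a₀ * m ≠ m * a₀ := by
    intro m hm hm1 h
    exact ham (commute_of_fixed N hmin hNc a₀ hm hm1 h m₂ hm₂)
  set n₂ := n₁⁻¹ * (b₀ * n₁ * b₀⁻¹) with hn₂def
  have hn₂ : n₂ ∈ N := N.mul_mem (N.inv_mem hn₁) (hNn.conj_mem n₁ hn₁ b₀)
  have hn₂1 : n₂ ≠ 1 := by
    intro h
    apply hb₀f n₁ hn₁ hn₁1
    have : b₀ * n₁ * b₀⁻¹ = n₁ := by
      have : b₀ * n₁ * b₀⁻¹ = n₁ * n₂ := by rw [hn₂def]; group
      rw [this, h, mul_one]
    calc b₀ * n₁ = (b₀ * n₁ * b₀⁻¹) * b₀ := by group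
      _ = n₁ * b₀ := by rw [this]
  have hconj : b₀ * u * b₀⁻¹ = u * n₂ := by
    have e1 : b₀ * b⁻¹ = b⁻¹ * b₀ := hBc b₀ hb₀ b⁻¹ (B.inv_mem hb)
    rw [hu_eq, hn₂def]
    calc b₀ * (b⁻¹ * n₁) * b₀⁻¹ = (b₀ * b⁻¹) * n₁ * b₀⁻¹ := by group
      _ = (b⁻¹ * b₀) * n₁ * b₀⁻¹ := by rw [e1]
      _ = b⁻¹ * n₁ * (n₁⁻¹ * (b₀ * n₁ * b₀⁻¹)) := by group
  -- the commutator c centralises u
  have huX : u ∈ itoX A B N := by
    apply Subgroup.mem_sup_left
    refine Subgroup.mem_inf.mpr ⟨hu, ?_⟩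
    rw [hu_eq]
    exact Subgroup.mul_mem _ (Subgroup.mem_sup_left (B.inv_mem hb)) (Subgroup.mem_sup_right hn₁)
  have hc : ⁅b₀⁻¹, a₀⁆ ∈ commutator G := by
    rw [commutator_def]
    exact Subgroup.commutator_mem_commutator (Subgroup.mem_top _) (Subgroup.mem_top _)
  have hcu : u * ⁅b₀⁻¹, a₀⁆ = ⁅b₀⁻¹, a₀⁆ * u :=
    (Subgroup.mem_centralizer_iff.mp (hcomm hc)) u huX
  rw [commutatorElement_def] at hcu
  have hau : a₀ * u = u * a₀ := hAc a₀ ha₀ u hu
  apply ha₀f n₂ hn₂ hn₂1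
  -- a₀ * (b₀ u b₀⁻¹) * a₀⁻¹ computed two ways
  have hI : a₀ * (b₀ * u * b₀⁻¹) * a₀⁻¹ = u * (a₀ * n₂ * a₀⁻¹) := by
    rw [hconj]
    calc a₀ * (u * n₂) * a₀⁻¹ = (a₀ * u) * n₂ * a₀⁻¹ := by group
      _ = (u * a₀) * n₂ * a₀⁻¹ := by rw [hau]
      _ = u * (a₀ * n₂ * a₀⁻¹) := by group
  have hII : a₀ * (b₀ * u * b₀⁻¹) * a₀⁻¹ = u * n₂ := by
    have hau' : a₀ * u * a₀⁻¹ = u := by rw [hau]; group
    calc a₀ * (b₀ * u * b₀⁻¹) * a₀⁻¹
        = b₀ * ((b₀⁻¹ * a₀ * b₀⁻¹⁻¹ * a₀⁻¹) * (a₀ * u * a₀⁻¹)) * (b₀⁻¹ * a₀ * b₀⁻¹⁻¹ * a₀⁻¹)⁻¹ * b₀⁻¹ := by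
          group
      _ = b₀ * ((b₀⁻¹ * a₀ * b₀⁻¹⁻¹ * a₀⁻¹) * u) * (b₀⁻¹ * a₀ * b₀⁻¹⁻¹ * a₀⁻¹)⁻¹ * b₀⁻¹ := by
          rw [hau']
      _ = b₀ * (u * (b₀⁻¹ * a₀ * b₀⁻¹⁻¹ * a₀⁻¹)) * (b₀⁻¹ * a₀ * b₀⁻¹⁻¹ * a₀⁻¹)⁻¹ * b₀⁻¹ := by
          rw [hcu]
      _ = b₀ * u * b₀⁻¹ := by group
      _ = u * n₂ := hconj
  have h3 : a₀ * n₂ * a₀⁻¹ = n₂ := mul_left_cancel (hI.symm.trans hII)
  calc a₀ * n₂ = (a₀ * n₂ * a₀⁻¹) * a₀ := by group
    _ = n₂ * a₀ := by rw [h3]

end Cfsg.Agent.S0573
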