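import Mathlib
import Cfsg.Statements.S0571
import Cfsg.Agent.S0573
import Cfsg.Agent.Helper9.Supersolvable2

set_option autoImplicit false
open Cfsg

open Cfsg

namespace Cfsg.Agent.S0571

universe u

theorem supersolvable_of_cyclic_product : ∀ (n : ℕ) (G : Type u) [Group G] [Finite G],
    Nat.card G = n → ∀ (A B : Subgroup G), IsCyclic A → IsCyclic B →
    (∀ g : G, ∃ a ∈ A, ∃ b ∈ B, g = a * b) → Cfsg.IsSupersolvable G := by
  intro n
  induction n using Nat.strong_induction_on with
  | _ n ih =>
  intro G _ _ hn A B hA hB hAB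
  rcases subsingleton_or_nontrivial G with hsub | hnt
  · exact Cfsg.Agent.Helper9.isSupersolvable_of_subsingleton
  · have hAc : IsMulCommutative A := ⟨⟨fun a b => by
      obtain ⟨g, hg⟩ := hA.exists_zpow_surjective
      obtain ⟨i, rfl⟩ := hg a
      obtain ⟨j, rfl⟩ := hg b
      exact (Commute.zpow_zpow (Commute.refl g) i j).eq⟩⟩
    have hBc : IsMulCommutative B := ⟨⟨fun a b => by
      obtain ⟨g, hg⟩ := hB.exists_zpow_surjective
      obtain ⟨i, rfl⟩ := hg a
      obtain ⟨j, rfl⟩ := hg b
      exact (Commute.zpow_zpow (Commute.refl g) i j).eq⟩⟩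
    obtain ⟨N, hNn, hNne, hNle⟩ := Cfsg.Agent.S0573.result A B hAB
    have hNc : IsCyclic N := by
      rcases hNle with h | h
      · have : IsCyclic (N.subgroupOf A) := Subgroup.isCyclic _
        exact isCyclic_of_surjective _ (Subgroup.subgroupOfEquivOfLe h).surjective
      · have : IsCyclic (N.subgroupOf B) := Subgroup.isCyclic _
        exact isCyclic_of_surjective _ (Subgroup.subgroupOfEquivOfLe h).surjective
    apply Cfsg.Agent.Helper9.isSupersolvable_of_cyclic_normal N
    have hcardlt : Nat.card (G ⧸ N) < n := by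
      rw [← hn, ← N.card_mul_index, ← Subgroup.index_eq_card]
      have h1 : 1 < Nat.card N := by
        rw [Subgroup.one_lt_card_iff_ne_bot]; exact hNne
      have h2 : 0 < N.index := Nat.pos_of_ne_zero Subgroup.index_ne_zero_of_finite
      nlinarith
    refine ih _ hcardlt (G ⧸ N) rfl (A.map (QuotientGroup.mk' N)) (B.map (QuotientGroup.mk' N)) ?_ ?_ ?_
    · exact isCyclic_of_surjective ((QuotientGroup.mk' N).subgroupMap A)
        ((QuotientGroup.mk' N).subgroupMap_surjective A)
    · exact isCyclic_of_surjective ((QuotientGroup.mk' N).subgroupMap B)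
        ((QuotientGroup.mk' N).subgroupMap_surjective B)
    · intro q
      obtain ⟨g, rfl⟩ := QuotientGroup.mk'_surjective N q
      obtain ⟨a, ha, b, hb, rfl⟩ := hAB g
      exact ⟨_, Subgroup.mem_map_of_mem _ ha, _, Subgroup.mem_map_of_mem _ hb, map_mul _ a b⟩

/-- If a finite group G is the product AB of two cyclic subgroups (every element is a product ab), then G is supersolvable. -/
theorem result {G : Type*} [Group G] [Finite G] (A B : Subgroup G) [IsCyclic A] [IsCyclic B] (hAB : ∀ g : G, ∃ a ∈ A, ∃ b ∈ B, g = a * b) : Cfsg.IsSupersolvable G := by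
  exact supersolvable_of_cyclic_product _ G rfl A B inferInstance inferInstance hAB

end Cfsg.Agent.S0571
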