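import Mathlib
import Cfsg.Statements.S0576

set_option autoImplicit false
open Cfsg

namespace Cfsg.Agent.S0576

/-- Let H be a normal subgroup of a finite group G with H contained in the Frattini subgroup of G. Then the group of inner automorphisms of H is contained in the Frattini subgroup of the automorphism group of H. -/
theorem result {G : Type*} [Group G] [Finite G] (H : Subgroup G) [H.Normal] (hH : H ≤ frattini G) : (MulAut.conj : ↥H →* MulAut ↥H).range ≤ frattini (MulAut ↥H) := by
  classical
  have : Finite (MulAut H) := inferInstance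
  rw [frattini, Order.radical]
  simp only [le_iInf_iff]
  intro U hU
  by_contra hnot
  set I := (MulAut.conj : ↥H →* MulAut ↥H).range with hI
  have hsup : I ⊔ U = ⊤ := by
    by_contra hne
    have hlt : U < I ⊔ U := by
      refine lt_of_le_of_ne le_sup_right ?_
      intro heq
      apply hnot
      rw [heq]
      exact le_sup_left
    exact hne (hU.2 _ hlt)
  let φ : G →* MulAut H := MulAut.conjNormal
  have hφH : ∀ h : H, φ (h : G) = MulAut.conj h := fun h => MulAut.conjNormal_val
  have hInormal : I.Normal := by
    constructor
    rintro _ ⟨h, rfl⟩ α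
    refine ⟨α h, ?_⟩
    ext x
    simp [MulAut.conj_apply]
  -- K = comap of U
  have hK : U.comap φ ⊔ frattini G = ⊤ := by
    rw [eq_top_iff]
    intro g _
    have hg : φ g ∈ I ⊔ U := by rw [hsup]; trivial
    rw [Subgroup.mem_sup_of_normal_left] at hg
    obtain ⟨i, hi, u, hu, hiu⟩ := hg
    obtain ⟨h, rfl⟩ := hi
    have : g = (h : G) * ((h : G)⁻¹ * g) := by group
    rw [this]
    rw [sup_comm]
    apply Subgroup.mul_mem_sup (hH h.2)
    rw [Subgroup.mem_comap, map_mul, map_inv, hφH, ← hiu]
    simpa using hu
  have hK' := frattini_nongenerating hK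
  apply hnot
  rintro _ ⟨h, rfl⟩
  have : (h : G) ∈ U.comap φ := by rw [hK']; trivial
  rw [Subgroup.mem_comap, hφH] at this
  exact this

end Cfsg.Agent.S0576
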