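import Mathlib
import Cfsg.Statements.S0577
import Cfsg.Agent.S0537
-- import your own Cfsg.Agent.* helpers here

set_option autoImplicit false
set_option linter.unusedSectionVars false
open Cfsg

namespace Cfsg.Agent.S0577

open Subgroup
open scoped commutatorElement

section general
variable {G : Type*} [Group G] [Finite G]


lemma isSimpleGroup_quotient_of_isCoatom {M : Subgroup G} [M.Normal] (hM : IsCoatom M) :
    IsSimpleGroup (G ⧸ M) := by
  have hsurj : Function.Surjective (QuotientGroup.mk' M) := QuotientGroup.mk'_surjective _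
  have hnt : Nontrivial (G ⧸ M) := by
    rw [← Finite.one_lt_card_iff_nontrivial, ← Subgroup.index_eq_card]
    have h1 : M.index ≠ 1 := fun h => hM.1 (Subgroup.index_eq_one.mp h)
    have h0 : M.index ≠ 0 := M.index_ne_zero_of_finite
    omega
  refine ⟨fun N hN => ?_⟩
  have hle : M ≤ N.comap (QuotientGroup.mk' M) := by
    intro x hx
    rw [Subgroup.mem_comap, QuotientGroup.mk'_apply, (QuotientGroup.eq_one_iff x).mpr hx]
    exact N.one_mem
  rcases eq_or_lt_of_le hle with h | h
  · left
    rw [← Subgroup.map_comap_eq_self_of_surjective hsurj N, ← h]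
    exact QuotientGroup.map_mk'_self M
  · right
    have := hM.2 _ h
    rw [← Subgroup.map_comap_eq_self_of_surjective hsurj N, this]
    exact Subgroup.map_top_of_surjective _ hsurj

/-- In a finite nilpotent group the commutator subgroup lies in every maximal subgroup. -/
lemma commutator_le_of_isCoatom [Group.IsNilpotent G] {M : Subgroup G} (hM : IsCoatom M) :
    commutator G ≤ M := by
  have hn : M.Normal :=
    ((Group.isNilpotent_of_finite_tfae (G := G)).out 0 2 rfl rfl).mp inferInstance M hM
  have hs := isSimpleGroup_quotient_of_isCoatom hM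
  have hc : ∀ a b : G ⧸ M, a * b = b * a := IsSimpleGroup.comm_iff_isSolvable.mpr inferInstance
  exact Subgroup.Normal.quotient_commutative_iff_commutator_le.mp ⟨⟨hc⟩⟩

/-- In a finite nilpotent group, a subgroup that together with the commutator subgroup generates
everything is everything. -/
lemma eq_top_of_sup_commutator_eq_top [Group.IsNilpotent G] {H : Subgroup G}
    (h : H ⊔ commutator G = ⊤) : H = ⊤ := by
  by_contra hne
  obtain ⟨M, hM, hHM⟩ := (eq_top_or_exists_le_coatom H).resolve_left hne
  apply hM.1
  rw [eq_top_iff, ← h]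
  exact sup_le hHM (commutator_le_of_isCoatom hM)


lemma not_comm_quotient {p : ℕ} (hp : p.Prime) (P : Sylow p G) (Q : Subgroup G)
    (hQnil : Group.IsNilpotent Q) (hPn : ¬ (P : Subgroup G).Normal)
    (htop : (P : Subgroup G) ⊔ Q = ⊤) (D : Subgroup G) [D.Normal]
    (hD : D = (commutator Q).map Q.subtype) : ¬ IsMulCommutative (G ⧸ D) := by
  have := Fact.mk hp
  intro hc
  have hGD : commutator G ≤ D := Subgroup.Normal.quotient_commutative_iff_commutator_le.mp hc
  have hL : ((P : Subgroup G) ⊔ D).Normal := by
    rw [← commutator_top_left_le_iff]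
    exact (commutator_mono le_top le_top).trans (hGD.trans le_sup_right)
  have hfr : normalizer ((P : Subgroup G) : Set G) ⊔ ((P : Subgroup G) ⊔ D) = ⊤ :=
    Sylow.normalizer_sup_eq_top' P le_sup_left
  have hfr' : normalizer ((P : Subgroup G) : Set G) ⊔ D = ⊤ := by
    rw [← hfr, ← sup_assoc, sup_of_le_left (le_normalizer : (P : Subgroup G) ≤ _)]
  have hDQ : D ≤ Q := by
    rw [hD]
    exact map_subtype_le _
  have hH : (normalizer ((P : Subgroup G) : Set G)).subgroupOf Q ⊔ commutator Q = ⊤ := by
    rw [eq_top_iff]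
    intro z _
    have hz : (z : G) ∈ normalizer ((P : Subgroup G) : Set G) ⊔ D := hfr' ▸ mem_top _
    rw [← SetLike.mem_coe, mul_normal, Set.mem_mul] at hz
    obtain ⟨n, hn, d, hd, hnd⟩ := hz
    have hdQ : d ∈ Q := hDQ hd
    have hnQ : n ∈ Q := by
      have : n = z * d⁻¹ := by rw [← hnd]; group
      rw [this]
      exact mul_mem z.2 (inv_mem hdQ)
    have hd' : (⟨d, hdQ⟩ : Q) ∈ commutator Q := by
      rw [hD] at hd
      obtain ⟨d', hd', hdd⟩ := mem_map.mp hd
      have : d' = ⟨d, hdQ⟩ := Subtype.ext hdd
      rwa [← this]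
    have hzeq : z = ⟨n, hnQ⟩ * ⟨d, hdQ⟩ := Subtype.ext hnd.symm
    rw [hzeq]
    exact mul_mem (mem_sup_left (mem_subgroupOf.mpr hn)) (mem_sup_right hd')
  have h1 := eq_top_of_sup_commutator_eq_top hH
  have hQle : Q ≤ normalizer ((P : Subgroup G) : Set G) := subgroupOf_eq_top.mp h1
  apply hPn
  rw [← normalizer_eq_top_iff, eq_top_iff, ← htop]
  exact sup_le le_normalizer hQle



/-- Every nilpotent subgroup of a finite group with commutative Sylow subgroups is commutative. -/
lemma comm_of_nilpotent_subgroup {N : Type*} [Group N] [Finite N]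
    (hs : ∀ (s : ℕ) (_ : s.Prime) (T : Sylow s N), IsMulCommutative (T : Subgroup N))
    (K : Subgroup N) (hK : Group.IsNilpotent K) : IsMulCommutative K := by
  apply S0537.comm_of_nilpotent_of_sylow_comm hK
  intro s hs' T
  have := Fact.mk hs'
  have hT : IsPGroup s ((T : Subgroup K).map K.subtype) := T.2.map _
  obtain ⟨T', hT'⟩ := hT.exists_le_sylow
  have hc := hs s hs' T'
  refine ⟨⟨fun a b => ?_⟩⟩
  have ha : ((a : K) : N) ∈ (T' : Subgroup N) := hT' (mem_map_of_mem _ a.2)
  have hb : ((b : K) : N) ∈ (T' : Subgroup N) := hT' (mem_map_of_mem _ b.2)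
  have := mul_comm' (⟨_, ha⟩ : (T' : Subgroup N)) ⟨_, hb⟩
  have h2 := congrArg Subtype.val this
  exact Subtype.ext (Subtype.ext h2)

/-- Sylow subgroups of a quotient are commutative as soon as one Sylow subgroup for each prime
has commutative image. -/
lemma sylow_comm_of_surjective {N : Type*} [Group N] [Finite N] (f : G →* N)
    (hf : Function.Surjective f)
    (hs : ∀ (s : ℕ) (_ : s.Prime), ∃ S : Sylow s G, IsMulCommutative ((S : Subgroup G).map f)) :
    ∀ (s : ℕ) (_ : s.Prime) (T : Sylow s N), IsMulCommutative (T : Subgroup N) := by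
  intro s hs' T
  have := Fact.mk hs'
  obtain ⟨S, hS⟩ := hs s hs'
  obtain ⟨n, hn⟩ := MulAction.exists_smul_eq N (S.mapSurjective hf) T
  rw [← hn, Sylow.coe_subgroup_smul, Subgroup.pointwise_smul_def]
  have : IsMulCommutative ((S.mapSurjective hf : Sylow s N) : Subgroup N) := hS
  exact Subgroup.map_isMulCommutative _ _


end general

/-- Let G be a finite minimal non-nilpotent group and Q a normal Sylow q-subgroup of G, and let D be the commutator subgroup of Q regarded in G (a normal subgroup). Then G modulo D is non-abelian and all its proper subgroups are abelian. -/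
theorem result {G : Type*} [Group G] [Finite G] (hG : Cfsg.IsMinimalNonNilpotent G) (q : ℕ) [Fact q.Prime] (hq : q ∣ Nat.card G) (Q : Sylow q G) (hQ : (Q : Subgroup G).Normal) (D : Subgroup G) [D.Normal] (hD : D = (commutator ↥(Q : Subgroup G)).map (Q : Subgroup G).subtype) : ¬ IsMulCommutative (G ⧸ D) ∧ ∀ K : Subgroup (G ⧸ D), K ≠ ⊤ → IsMulCommutative K := by
  obtain ⟨p, q₀, hp, hq₀, hpq, P, Q₀, hPn, hQ₀, htop⟩ := S0536.exists_sup_eq_top hG
  have hcyc := S0536.isCyclic_of hG hp hq₀ hpq P Q₀ hPn hQ₀ htop
  have hqp : q.Prime := Fact.out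
  have := Fact.mk hp
  have := Fact.mk hq₀
  have hdisj : (Q₀ : Subgroup G) ⊓ P = ⊥ :=
    (IsPGroup.disjoint_of_ne q₀ p hpq.symm _ _ Q₀.2 P.2).eq_bot
  have hidx : (Q₀ : Subgroup G).index = Nat.card P := by
    rw [← relIndex_top_right, ← htop, sup_comm, relIndex_sup_left, ← inf_relIndex_right,
      hdisj, relIndex_bot_left]
  have hcard : Nat.card G = Nat.card Q₀ * Nat.card P := by
    rw [← hidx]
    exact (card_mul_index _).symm
  obtain ⟨a, ha⟩ := P.2.exists_card_eq
  obtain ⟨b, hb⟩ := Q₀.2.exists_card_eq
  have hqq : q = q₀ := by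
    have hq' := hq
    rw [hcard, ha, hb] at hq'
    rcases (Nat.Prime.dvd_mul hqp).mp hq' with h | h
    · exact (Nat.prime_dvd_prime_iff_eq hqp hq₀).mp (hqp.dvd_of_dvd_pow h)
    · exfalso
      have hqp' : q = p := (Nat.prime_dvd_prime_iff_eq hqp hp).mp (hqp.dvd_of_dvd_pow h)
      subst hqp'
      have := Sylow.unique_of_normal Q hQ
      exact hPn (Subsingleton.elim Q P ▸ hQ)
  subst hqq
  have hQQ : Q = Q₀ := by
    have := Sylow.unique_of_normal Q hQ
    exact Subsingleton.elim _ _
  subst hQQ
  constructor
  · exact not_comm_quotient hp P (Q : Subgroup G) Q.2.isNilpotent hPn htop D hD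
  · intro K hK
    have hsurj : Function.Surjective (QuotientGroup.mk' D) := QuotientGroup.mk'_surjective D
    apply comm_of_nilpotent_subgroup (sylow_comm_of_surjective (QuotientGroup.mk' D) hsurj ?_) K ?_
    · intro s hs
      by_cases hsp : s = p
      · subst hsp
        exact ⟨P, inferInstance⟩
      by_cases hsq : s = q
      · subst hsq
        refine ⟨Q, ?_⟩
        refine .of_setLike_mul_comm ?_
        rintro - ⟨x, hx, rfl⟩ - ⟨y, hy, rfl⟩
        rw [← map_mul, ← map_mul, QuotientGroup.mk'_apply, QuotientGroup.mk'_apply,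
          QuotientGroup.eq, hD]
        have hxy : ⁅(⟨y, hy⟩ : (Q : Subgroup G))⁻¹, (⟨x, hx⟩ : (Q : Subgroup G))⁻¹⁆ ∈
            commutator (Q : Subgroup G) := by
          rw [_root_.commutator_def]
          exact commutator_mem_commutator (mem_top _) (mem_top _)
        have := mem_map_of_mem (Q : Subgroup G).subtype hxy
        convert this using 1
        simp [commutatorElement_def]
        group
      · have S : Sylow s G := default
        refine ⟨S, ?_⟩
        have := Fact.mk hs
        obtain ⟨c, hc⟩ := S.2.exists_card_eq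
        have hdvd : Nat.card S ∣ Nat.card G := Subgroup.card_subgroup_dvd_card _
        rw [hc, hcard, ha, hb] at hdvd
        have hcop : Nat.Coprime (s ^ c) (q ^ b * p ^ a) := by
          apply Nat.Coprime.mul_right
          · exact Nat.Coprime.pow _ _ ((Nat.coprime_primes hs hq₀).mpr hsq)
          · exact Nat.Coprime.pow _ _ ((Nat.coprime_primes hs hp).mpr hsp)
        have h1 : s ^ c = 1 := Nat.Coprime.eq_one_of_dvd hcop hdvd
        rw [h1] at hc
        have hbot : (S : Subgroup G) = ⊥ := Subgroup.card_eq_one.mp hc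
        rw [hbot]
        infer_instance
    · have hne : K.comap (QuotientGroup.mk' D) ≠ ⊤ := by
        intro h
        apply hK
        rw [← map_comap_eq_self_of_surjective hsurj K, h, map_top_of_surjective _ hsurj]
      have hnil' : Group.IsNilpotent (K.comap (QuotientGroup.mk' D)) := hG.2 _ hne
      have hmap := map_comap_eq_self_of_surjective hsurj K
      have h2 : Group.IsNilpotent ((K.comap (QuotientGroup.mk' D)).map (QuotientGroup.mk' D)) :=
        Group.nilpotent_of_surjective ((QuotientGroup.mk' D).subgroupMap _)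
          ((QuotientGroup.mk' D).subgroupMap_surjective _)
      rwa [hmap] at h2

end Cfsg.Agent.S0577
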