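import Mathlib
import Cfsg.Statements.S0578
import Cfsg.Agent.Helper52.PGroupLemmas

set_option autoImplicit false
open Cfsg

open Subgroup
open scoped commutatorElement

namespace Cfsg.Agent.S0578

/-- A finite `p`-group in which every normal abelian subgroup is central-ised by everything is abelian. -/
theorem comm_of_pGroup_of_normal_abelian_central {H : Type*} [Group H] [Finite H] {p : ℕ} [Fact p.Prime]
    (hH : IsPGroup p H)
    (h : ∀ A : Subgroup H, A.Normal → IsMulCommutative A → centralizer (A : Set H) = ⊤) :
    ∀ a b : H, a * b = b * a := by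
  classical
  have hfin : Set.Finite {A : Subgroup H | A.Normal ∧ IsMulCommutative A} := Set.toFinite _
  have hne : Set.Nonempty {A : Subgroup H | A.Normal ∧ IsMulCommutative A} :=
    ⟨⊥, inferInstance, inferInstance⟩
  obtain ⟨A, hA, hmax⟩ := Set.exists_max_image _ (fun A : Subgroup H => Nat.card A) hfin hne
  obtain ⟨hAn, hAc⟩ := hA
  have hle := Cfsg.Agent.Helper52.centralizer_le_of_maximal_normal_abelian hH A hAc (by
    intro B hBn hBc hAB
    have := hmax B ⟨hBn, hBc⟩
    exact (Subgroup.eq_of_le_of_card_ge hAB this).symm)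
  rw [h A hAn hAc, top_le_iff] at hle
  intro a b
  have ha : a ∈ A := hle ▸ Subgroup.mem_top a
  have hb : b ∈ A := hle ▸ Subgroup.mem_top b
  have := hAc.is_comm.comm ⟨a, ha⟩ ⟨b, hb⟩
  exact congrArg Subtype.val this

/-- If in a finite group the normalizer of each abelian subgroup coincides with its centralizer, then the group is abelian. -/
theorem result {G : Type*} [Group G] [Finite G] (h : ∀ A : Subgroup G, IsMulCommutative A → Subgroup.normalizer (A : Set G) = Subgroup.centralizer (A : Set G)) : IsMulCommutative G := by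
  -- Sylow subgroups are abelian
  have hsyl : ∀ (p : ℕ) [Fact p.Prime] (P : Sylow p G), ∀ a b : P, a * b = b * a := by
    intro p _ P
    apply comm_of_pGroup_of_normal_abelian_central P.isPGroup'
    intro A hAn hAc
    rw [eq_top_iff]
    intro y _
    have hAc' : IsMulCommutative (A.map (P : Subgroup G).subtype) := inferInstance
    have h1 := h _ hAc'
    have h2 : (y : G) ∈ normalizer ((A.map (P : Subgroup G).subtype : Subgroup G) : Set G) := by
      apply Subgroup.le_normalizer_map
      refine ⟨y, ?_, rfl⟩
      rw [normalizer_eq_top_iff.mpr hAn]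
      exact Subgroup.mem_top y
    rw [h1, Subgroup.mem_centralizer_iff] at h2
    rw [Subgroup.mem_centralizer_iff]
    intro a ha
    have := h2 a ⟨a, ha, rfl⟩
    exact Subtype.ext this
  constructor
  constructor
  intro x y
  rw [← commutatorElement_eq_one_iff_mul_comm]
  rw [← orderOf_eq_one_iff]
  rw [Nat.eq_one_iff_not_exists_prime_dvd]
  intro p hp hdvd
  have : Fact p.Prime := ⟨hp⟩
  obtain P : Sylow p G := default
  have hPc : IsMulCommutative P := ⟨⟨hsyl p P⟩⟩
  have hP : normalizer ((P : Subgroup G) : Set G) ≤ centralizer ((P : Subgroup G) : Set G) := (h P hPc).le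
  have hker : ⁅x, y⁆ ∈ (MonoidHom.transferSylow P hP).ker := by
    rw [MonoidHom.mem_ker, map_commutatorElement, commutatorElement_eq_one_iff_mul_comm]
    exact hsyl p P _ _
  have h1 : orderOf ⁅x, y⁆ ∣ Nat.card (MonoidHom.transferSylow P hP).ker :=
    Subgroup.orderOf_dvd_natCard _ hker
  exact MonoidHom.not_dvd_card_ker_transferSylow P hP (hdvd.trans h1)

end Cfsg.Agent.S0578
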