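import Mathlib
import Cfsg.Statements.S0580

set_option autoImplicit false
open Cfsg

open Subgroup

namespace Cfsg.Agent.S0580

/-- If a maximal subgroup `M` contains the normaliser of a Sylow `p`-subgroup then `[G:M] ≡ 1 mod p`. -/
theorem index_modEq_one_of_normalizer_le {G : Type*} [Group G] [Finite G] {p : ℕ} [Fact p.Prime]
    (P : Sylow p G) (M : Subgroup G) (hNM : normalizer ((P : Subgroup G) : Set G) ≤ M) :
    M.index ≡ 1 [MOD p] := by
  have hPM : (P : Subgroup G) ≤ M := le_trans Subgroup.le_normalizer hNM
  have h1 : Nat.card (Sylow p G) ≡ 1 [MOD p] := card_sylow_modEq_one p G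
  have h2 : Nat.card (Sylow p M) ≡ 1 [MOD p] := card_sylow_modEq_one p M
  have h3 : Nat.card (Sylow p G) = (normalizer ((P : Subgroup G) : Set G)).index :=
    Sylow.card_eq_index_normalizer P
  have h4 : Nat.card (Sylow p M) = (normalizer ((P : Subgroup G) : Set G)).relIndex M := by
    rw [Sylow.card_eq_index_normalizer (P.subtype hPM)]
    have : normalizer (((P.subtype hPM : Sylow p M) : Subgroup M) : Set M) =
        (normalizer ((P : Subgroup G) : Set G)).subgroupOf M := by
      rw [Sylow.coe_subtype, Subgroup.subgroupOf_normalizer_eq hPM]
    exact congrArg Subgroup.index this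
  have h5 := Subgroup.relIndex_mul_index hNM
  rw [← h3, ← h4] at h5
  have h6 : Nat.card (Sylow p M) * M.index ≡ 1 * M.index [MOD p] := Nat.ModEq.mul_right _ h2
  rw [h5, one_mul] at h6
  exact h6.symm.trans h1

theorem solvable_of_prime_index_aux : ∀ (n : ℕ) (G : Type*) [Group G] [Finite G], Nat.card G = n →
    (∀ M : Subgroup G, IsCoatom M → M.index.Prime) → Group.IsSolvable G := by
  intro n
  induction n using Nat.strong_induction_on with
  | _ n ih =>
    intro G _ _ hn h
    by_cases htriv : Subsingleton G
    · infer_instance
    · rw [not_subsingleton_iff_nontrivial] at htriv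
      have hcard : 1 < Nat.card G := Finite.one_lt_card
      -- largest prime divisor
      have hne : (Nat.card G).primeFactors.Nonempty := by
        rw [Nat.nonempty_primeFactors]; exact hcard
      set p := (Nat.card G).primeFactors.max' hne with hp
      have hpmem : p ∈ (Nat.card G).primeFactors := Finset.max'_mem _ hne
      have hpprime : p.Prime := Nat.prime_of_mem_primeFactors hpmem
      have hpdvd : p ∣ Nat.card G := Nat.dvd_of_mem_primeFactors hpmem
      have hpmax : ∀ q : ℕ, q.Prime → q ∣ Nat.card G → q ≤ p := by
        intro q hq hqd
        apply Finset.le_max'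
        exact Nat.mem_primeFactors.mpr ⟨hq, hqd, by omega⟩
      have : Fact p.Prime := ⟨hpprime⟩
      obtain ⟨P⟩ : Nonempty (Sylow p G) := inferInstance
      -- P is normal
      have hPn : (P : Subgroup G).Normal := by
        rw [← Subgroup.normalizer_eq_top_iff]
        by_contra hN
        obtain ⟨M, hM, hNM⟩ := (eq_top_or_exists_le_coatom _).resolve_left hN
        have hq := h M hM
        have hmod := index_modEq_one_of_normalizer_le P M hNM
        have hqd : M.index ∣ Nat.card G := Subgroup.index_dvd_card M
        have hle := hpmax _ hq hqd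
        -- M.index ≡ 1 mod p and M.index ≤ p and M.index prime: contradiction
        have h1 : M.index % p = 1 % p := hmod
        rw [Nat.mod_eq_of_lt hpprime.one_lt] at h1
        rcases lt_or_eq_of_le hle with hlt | heq
        · rw [Nat.mod_eq_of_lt hlt] at h1
          exact hq.one_lt.ne' h1
        · rw [heq, Nat.mod_self] at h1
          exact zero_ne_one h1
      -- quotient
      have hPne : (P : Subgroup G) ≠ ⊥ := P.ne_bot_of_dvd_card hpdvd
      have hcardQ : Nat.card (G ⧸ (P : Subgroup G)) < n := by
        rw [← hn, Subgroup.card_eq_card_quotient_mul_card_subgroup (P : Subgroup G)]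
        have h1 : 1 < Nat.card (P : Subgroup G) := by
          rw [Subgroup.one_lt_card_iff_ne_bot]; exact hPne
        have h2 : 0 < Nat.card (G ⧸ (P : Subgroup G)) := Nat.card_pos
        nlinarith
      have hQ : Group.IsSolvable (G ⧸ (P : Subgroup G)) := by
        apply ih _ hcardQ (G ⧸ (P : Subgroup G)) rfl
        intro M hM
        have hM' := Subgroup.isCoatom_comap_of_surjective (QuotientGroup.mk'_surjective (P : Subgroup G)) hM
        have := h _ hM'
        rwa [Subgroup.index_comap_of_surjective _ (QuotientGroup.mk'_surjective (P : Subgroup G))] at this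
      have hPs : Group.IsSolvable (P : Subgroup G) := by
        have := P.isPGroup'.isNilpotent
        infer_instance
      apply Group.isSolvable_of_ker_le_range (P : Subgroup G).subtype (QuotientGroup.mk' (P : Subgroup G))
      rw [QuotientGroup.ker_mk', Subgroup.range_subtype]

/-- If every maximal subgroup of a finite group has prime index, then the group is solvable. -/
theorem result {G : Type*} [Group G] [Finite G] (h : ∀ M : Subgroup G, IsCoatom M → M.index.Prime) : Group.IsSolvable G := by
  exact solvable_of_prime_index_aux _ G rfl h

end Cfsg.Agent.S0580
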