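import Mathlib
import Cfsg.Statements.S0584

set_option autoImplicit false
open Cfsg

open Subgroup

namespace Cfsg.Agent.S0584


/-- Let B ≤ A be normal subgroups of a finite group G with B contained in the Frattini subgroup of G. If A modulo B is nilpotent then A is nilpotent. -/
theorem result {G : Type*} [Group G] [Finite G] (A B : Subgroup G) [A.Normal] [B.Normal] (hBA : B ≤ A) (hB : B ≤ frattini G) (h : Group.IsNilpotent (↥A ⧸ B.subgroupOf A)) : Group.IsNilpotent A := by
  have q := (Group.isNilpotent_of_finite_tfae (G := A)).out 0 3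
  rw [q]; clear q
  intro p p_prime P
  have q2 := (Group.isNilpotent_of_finite_tfae (G := ↥A ⧸ B.subgroupOf A)).out 0 3
  rw [q2] at h
  set π := QuotientGroup.mk' (B.subgroupOf A) with hπdef
  have hπ : Function.Surjective π := QuotientGroup.mk'_surjective _
  have hn : ((P : Subgroup A).map π).Normal := h p p_prime (P.mapSurjective hπ)
  have hK : ((P : Subgroup A) ⊔ B.subgroupOf A).Normal := by
    have := hn.comap π
    rwa [Subgroup.comap_map_eq, QuotientGroup.ker_mk'] at this
  have h1 : Subgroup.normalizer ((P : Subgroup A) : Set A) ⊔ ((P : Subgroup A) ⊔ B.subgroupOf A) = ⊤ :=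
    P.normalizer_sup_eq_top' le_sup_left
  have h2 : Subgroup.normalizer ((P : Subgroup A) : Set A) ⊔ B.subgroupOf A = ⊤ := by
    rw [← h1, ← sup_assoc, sup_of_le_left Subgroup.le_normalizer]
  have h3 := Sylow.normalizer_sup_eq_top P
  have h4 : normalizer (((P : Subgroup A).map A.subtype : Subgroup G) : Set G) ⊔ B = ⊤ := by
    rw [eq_top_iff, ← h3]
    apply sup_le le_sup_left
    have : A = (⊤ : Subgroup A).map A.subtype := by
      rw [← MonoidHom.range_eq_map, Subgroup.range_subtype]
    calc A = (⊤ : Subgroup A).map A.subtype := this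
      _ = (Subgroup.normalizer ((P : Subgroup A) : Set A) ⊔ B.subgroupOf A).map A.subtype := by rw [h2]
      _ = (Subgroup.normalizer ((P : Subgroup A) : Set A)).map A.subtype ⊔ B := by
        rw [Subgroup.map_sup, Subgroup.map_subgroupOf_eq_of_le hBA]
      _ ≤ _ := sup_le_sup_right (Subgroup.le_normalizer_map _) _
  have h5 : normalizer (((P : Subgroup A).map A.subtype : Subgroup G) : Set G) ⊔ frattini G = ⊤ := by
    rw [eq_top_iff, ← h4]
    exact sup_le_sup_left hB _
  have normalizer_P := frattini_nongenerating h5
  have P_normal_in_G : (map A.subtype (P : Subgroup A)).Normal := normalizer_eq_top_iff.mp normalizer_P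
  exact P_normal_in_G.of_map_subtype

end Cfsg.Agent.S0584
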