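import Mathlib
import Cfsg.Statements.S0586
import Cfsg.Agent.Helper10.Frattini
import Cfsg.Agent.Helper10.MinNormal
import Cfsg.Agent.Lib.Cores
import Cfsg.Agent.S0575

set_option autoImplicit false
open Cfsg

open Subgroup
open Cfsg.Agent

namespace Cfsg.Agent.S0586


/-- If the Frattini subgroup of a finite group G is trivial, then the Fitting subgroup of G equals the join of all abelian minimal normal subgroups of G. -/
theorem result {G : Type*} [Group G] [Finite G] (hΦ : frattini G = ⊥) : Cfsg.fittingSubgroup G = sSup {N : Subgroup G | N.Normal ∧ N ≠ ⊥ ∧ IsMulCommutative N ∧ ∀ K : Subgroup G, K.Normal → K ≤ N → K = ⊥ ∨ K = N} := by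
  set F := Cfsg.fittingSubgroup G with hF
  set S := sSup {N : Subgroup G | N.Normal ∧ N ≠ ⊥ ∧ IsMulCommutative N ∧ ∀ K : Subgroup G, K.Normal → K ≤ N → K = ⊥ ∨ K = N} with hS
  have hFn : F.Normal := Lib.fittingSubgroup_normal
  have hFnil : Group.IsNilpotent F := Lib.isNilpotent_fittingSubgroup
  -- Φ(F) = 1
  have hΦF : frattini F = ⊥ := by
    have h1 := S0575.result F
    rw [hΦ, le_bot_iff] at h1
    exact (Subgroup.map_eq_bot_iff_of_injective _ F.subtype_injective).mp h1
  have hFab : IsMulCommutative F := Helper10.isMulCommutative_of_nilpotent_of_frattini_eq_bot hFnil hΦF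
  have hFab' : ∀ x ∈ F, ∀ y ∈ F, x * y = y * x := isMulCommutative_iff_of_setLike.mp hFab
  have hSF : S ≤ F := by
    apply sSup_le
    rintro N ⟨hNn, _, hNab, _⟩
    apply Lib.le_fittingSubgroup hNn
    have : IsMulCommutative N := hNab
    let _i : CommGroup N := { (inferInstance : Group N) with mul_comm := fun a b => mul_comm' a b }
    exact CommGroup.isNilpotent
  apply le_antisymm _ hSF
  have hSn : S.Normal := Subgroup.sSup_normal _ (fun N hN => hN.1)
  have hSab : IsMulCommutative S :=
    isMulCommutative_iff_of_setLike.mpr (fun x hx y hy => hFab' x (hSF hx) y (hSF hy))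
  obtain ⟨K, hSK, hSK'⟩ := Helper10.exists_complement_of_frattini_eq_bot hΦ S
  -- D = F ⊓ K is normal
  have hDn : (F ⊓ K).Normal := by
    rw [← Subgroup.normalizer_eq_top_iff, eq_top_iff, ← hSK']
    apply sup_le
    · refine le_trans ?_ (Subgroup.centralizer_le_normalizer _)
      intro s hs
      rw [Subgroup.mem_centralizer_iff]
      intro d hd
      exact hFab' d hd.1 s (hSF hs)
    · intro k hk
      rw [Subgroup.mem_normalizer_iff]
      intro x
      constructor
      · intro hx
        exact ⟨hFn.conj_mem x hx.1 k, K.mul_mem (K.mul_mem hk hx.2) (K.inv_mem hk)⟩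
      · intro hx
        have h1 := hFn.conj_mem _ hx.1 k⁻¹
        have h2 := K.mul_mem (K.mul_mem (K.inv_mem hk) hx.2) (K.inv_mem (K.inv_mem hk))
        have : k⁻¹ * (k * x * k⁻¹) * k⁻¹⁻¹ = x := by group
        rw [this] at h1 h2
        exact ⟨h1, h2⟩
  have hD : F ⊓ K = ⊥ := by
    by_contra hDne
    obtain ⟨N, hNn, hNne, hND, hNmin⟩ := Helper10.exists_minimal_normal_le (F ⊓ K) hDne
    have hNS : N ≤ S := by
      apply le_sSup
      refine ⟨hNn, hNne, ?_, hNmin⟩
      exact isMulCommutative_iff_of_setLike.mpr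
        (fun x hx y hy => hFab' x (hND hx).1 y (hND hy).1)
    have : N ≤ S ⊓ K := le_inf hNS (hND.trans inf_le_right)
    rw [hSK, le_bot_iff] at this
    exact hNne this
  intro f hf
  have hfG : f ∈ S ⊔ K := by rw [hSK']; trivial
  rw [Subgroup.mem_sup_of_normal_left] at hfG
  obtain ⟨s, hs, k, hk, hsk⟩ := hfG
  have hkD : k ∈ F ⊓ K := by
    refine ⟨?_, hk⟩
    have : k = s⁻¹ * f := by rw [← hsk]; group
    rw [this]
    exact F.mul_mem (F.inv_mem (hSF hs)) hf
  rw [hD, Subgroup.mem_bot] at hkD
  rw [← hsk, hkD, mul_one]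
  exact hs

end Cfsg.Agent.S0586
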