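import Mathlib
import Cfsg.Statements.S0587
import Cfsg.Agent.Lib.Cores
import Cfsg.Agent.Helper10.CoreFree

set_option autoImplicit false
open Cfsg

open Cfsg Subgroup

namespace Cfsg.Agent.S0587

/-- A nontrivial normal `p`-subgroup is self-centralising in the presence of a core-free maximal subgroup. -/
theorem centralizer_eq_of_coreFree_coatom {G : Type*} [Group G] [Finite G] (p : ℕ) [Fact p.Prime]
    (M : Subgroup G) (hM : IsCoatom M) (hcore : M.normalCore = ⊥) (L : Subgroup G) [hLn : L.Normal]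
    (hLp : IsPGroup p L) (hL : L ≠ ⊥) : centralizer (L : Set G) = L := by
  set Z := L ⊓ centralizer (L : Set G) with hZ
  have hCn : (centralizer (L : Set G)).Normal := inferInstance
  have hZn : Z.Normal := inferInstance
  have hZne : Z ≠ ⊥ := by
    have : Nontrivial L := (Subgroup.nontrivial_iff_ne_bot L).mpr hL
    have hnt := hLp.center_nontrivial
    obtain ⟨z, hz⟩ := exists_ne (1 : Subgroup.center L)
    intro hbot
    apply hz
    have hzZ : ((z : L) : G) ∈ Z := by
      refine Subgroup.mem_inf.mpr ⟨(z : L).2, ?_⟩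
      rw [Subgroup.mem_centralizer_iff]
      intro y hy
      have := (Subgroup.mem_center_iff.mp z.2) ⟨y, hy⟩
      exact congrArg Subtype.val this
    rw [hbot, Subgroup.mem_bot] at hzZ
    apply Subtype.ext
    apply Subtype.ext
    exact hzZ
  have hLZ : L ≤ centralizer (Z : Set G) := by
    intro x hx
    rw [Subgroup.mem_centralizer_iff]
    intro z hz
    exact ((Subgroup.mem_centralizer_iff.mp hz.2) x hx).symm
  have h1 : Z = centralizer (L : Set G) :=
    Cfsg.Agent.Helper10.eq_centralizer_of_normal_le hM hcore hL hZne inf_le_right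
  have h2 : L = centralizer (Z : Set G) :=
    Cfsg.Agent.Helper10.eq_centralizer_of_normal_le hM hcore hZne hL hLZ
  have h3 : Z = centralizer (Z : Set G) :=
    Cfsg.Agent.Helper10.eq_centralizer_of_normal_le hM hcore hZne hZne (inf_le_left.trans hLZ)
  rw [← h1, h3, ← h2]

/-- The elements of exponent `p` of a normal subgroup with `C(L) = L`, as a normal subgroup. -/
def omegaSub {G : Type*} [Group G] (p : ℕ) (L : Subgroup G)
    (hC : centralizer (L : Set G) = L) : Subgroup G where
  carrier := {x | x ∈ L ∧ x ^ p = 1}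
  mul_mem' := by
    rintro a b ⟨ha, hap⟩ ⟨hb, hbp⟩
    refine ⟨L.mul_mem ha hb, ?_⟩
    have hab : Commute a b := by
      have : b ∈ centralizer (L : Set G) := by rw [hC]; exact hb
      exact ((Subgroup.mem_centralizer_iff.mp this) a ha)
    rw [hab.mul_pow, hap, hbp, one_mul]
  one_mem' := ⟨L.one_mem, one_pow p⟩
  inv_mem' := by
    rintro a ⟨ha, hap⟩
    exact ⟨L.inv_mem ha, by rw [inv_pow, hap, inv_one]⟩

/-- Let G be a finite group whose largest normal p-subgroup L is nontrivial, and M a maximal subgroup of G with trivial normal core. Then L is elementary abelian, M is a complement to L, L is a minimal normal subgroup of G, the centralizer of L is L, and for every prime q such that the largest normal q-subgroup of M is nontrivial, the order of L is congruent to 1 modulo q and q ≠ p. -/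
theorem result {G : Type*} [Group G] [Finite G] (p : ℕ) [Fact p.Prime] (hL : Cfsg.pCore p G ≠ ⊥) (M : Subgroup G) (hM : IsCoatom M) (hcore : M.normalCore = ⊥) : Cfsg.IsElementaryAbelian p (Cfsg.pCore p G) ∧ Subgroup.IsComplement' (Cfsg.pCore p G) M ∧ (∀ K : Subgroup G, K.Normal → K ≤ Cfsg.pCore p G → K = ⊥ ∨ K = Cfsg.pCore p G) ∧ Subgroup.centralizer ((Cfsg.pCore p G : Subgroup G) : Set G) = Cfsg.pCore p G ∧ ∀ (q : ℕ) [Fact q.Prime], Cfsg.pCore q ↥M ≠ ⊥ → Nat.card (Cfsg.pCore p G) % q = 1 % q ∧ q ≠ p := by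
  have hp : p.Prime := Fact.out
  have hLn : (Cfsg.pCore p G).Normal := by
    have := Cfsg.Agent.Lib.pCore_characteristic (G := G) p
    infer_instance
  have hLp : IsPGroup p (Cfsg.pCore p G) := Cfsg.Agent.Lib.isPGroup_pCore p
  generalize hLdef : Cfsg.pCore p G = L at *
  have hCL : centralizer (L : Set G) = L := centralizer_eq_of_coreFree_coatom p M hM hcore L hLp hL
  have hcomm : ∀ a ∈ L, ∀ b ∈ L, a * b = b * a := by
    intro a ha b hb
    have : b ∈ centralizer (L : Set G) := by rw [hCL]; exact hb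
    exact ((Subgroup.mem_centralizer_iff.mp this) a ha)
  have hmin : ∀ K : Subgroup G, K.Normal → K ≤ L → K = ⊥ ∨ K = L := by
    intro K hKn hKL
    by_cases hK : K = ⊥
    · exact Or.inl hK
    · right
      have := Cfsg.Agent.Helper10.eq_centralizer_of_normal_le hM hcore hL hK (hKL.trans hCL.ge)
      rw [this, hCL]
  have hLM : L ⊓ M = ⊥ := by
    have := Cfsg.Agent.Helper10.centralizer_inf_coreFree_coatom hM hcore hL
    rwa [hCL] at this
  have hsup : L ⊔ M = ⊤ := Cfsg.Agent.Helper10.sup_eq_top_of_coreFree_coatom hM hcore hL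
  have hcompl : IsComplement' L M := by
    apply isComplement'_of_disjoint_and_mul_eq_univ (disjoint_iff.mpr hLM)
    rw [← Subgroup.normal_mul, hsup, Subgroup.coe_top]
  -- exponent p
  have hexp : ∀ a ∈ L, a ^ p = 1 := by
    have hOn : (omegaSub p L hCL).Normal := by
      constructor
      rintro n ⟨hn, hnp⟩ g
      exact ⟨hLn.conj_mem n hn g, by rw [conj_pow, hnp]; group⟩
    have hOle : omegaSub p L hCL ≤ L := fun x hx => hx.1
    have hOne : omegaSub p L hCL ≠ ⊥ := by
      have : Nontrivial L := (Subgroup.nontrivial_iff_ne_bot L).mpr hL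
      have hdvd : p ∣ Nat.card L := by
        obtain ⟨n, hn0, hn⟩ := hLp.nontrivial_iff_card.mp inferInstance
        exact hn.symm ▸ dvd_pow_self _ (ne_of_gt hn0)
      obtain ⟨x, hx⟩ := exists_prime_orderOf_dvd_card' p hdvd
      intro hbot
      have hxO : (x : G) ∈ omegaSub p L hCL := by
        refine ⟨x.2, ?_⟩
        have := pow_orderOf_eq_one x
        rw [hx] at this
        exact_mod_cast congrArg Subtype.val this
      rw [hbot, Subgroup.mem_bot] at hxO
      have : x = 1 := Subtype.ext hxO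
      rw [this, orderOf_one] at hx
      exact hp.one_lt.ne hx
    rcases hmin _ hOn hOle with h | h
    · exact absurd h hOne
    · intro a ha
      have : a ∈ omegaSub p L hCL := by rw [h]; exact ha
      exact this.2
  refine ⟨⟨⟨⟨fun a b => Subtype.ext (hcomm a a.2 b b.2)⟩⟩, hexp⟩, hcompl, hmin, hCL, ?_⟩
  intro q hq hQ
  set Q' := (Cfsg.pCore q ↥M).map M.subtype with hQ'
  have hQ'M : Q' ≤ M := Subgroup.map_subtype_le _
  have hQ'p : IsPGroup q Q' := (Cfsg.Agent.Lib.isPGroup_pCore q).map _
  have hQ'ne : Q' ≠ ⊥ := by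
    intro h
    apply hQ
    rwa [hQ', Subgroup.map_eq_bot_iff_of_injective _ M.subtype_injective] at h
  have hQn : (Cfsg.pCore q ↥M).Normal := by
    have := Cfsg.Agent.Lib.pCore_characteristic (G := ↥M) q
    infer_instance
  have hMQ : ∀ m ∈ M, ∀ b ∈ Q', m * b * m⁻¹ ∈ Q' := by
    rintro m hm _ ⟨b, hb, rfl⟩
    exact ⟨⟨m, hm⟩ * b * ⟨m, hm⟩⁻¹, hQn.conj_mem b hb ⟨m, hm⟩, rfl⟩
  have hQ'L : ¬ Q' ≤ L := by
    intro h
    apply hQ'ne
    rw [eq_bot_iff, ← hLM]
    exact le_inf h hQ'M
  have hdecomp : ∀ g : G, ∃ l ∈ L, ∃ m ∈ M, l * m = g := fun g =>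
    Cfsg.Agent.Helper10.exists_mul_of_coreFree_coatom hM hcore hL g
  constructor
  · -- fixed points
    set F := L ⊓ centralizer (Q' : Set G) with hF
    have hFn : F.Normal := by
      constructor
      intro x hx g
      obtain ⟨hxL, hxC⟩ := Subgroup.mem_inf.mp hx
      obtain ⟨l, hl, m, hm, rfl⟩ := hdecomp g
      have hyL : m * x * m⁻¹ ∈ L := hLn.conj_mem x hxL m
      have hyC : m * x * m⁻¹ ∈ centralizer (Q' : Set G) := by
        rw [Subgroup.mem_centralizer_iff]
        intro b hb
        have hb' : m⁻¹ * b * m⁻¹⁻¹ ∈ Q' := hMQ m⁻¹ (M.inv_mem hm) b hb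
        have := (Subgroup.mem_centralizer_iff.mp hxC) _ hb'
        calc b * (m * x * m⁻¹) = m * ((m⁻¹ * b * m⁻¹⁻¹) * x) * m⁻¹ := by group
          _ = m * (x * (m⁻¹ * b * m⁻¹⁻¹)) * m⁻¹ := by rw [this]
          _ = m * x * m⁻¹ * b := by group
      have : l * m * x * (l * m)⁻¹ = m * x * m⁻¹ := by
        have h1 := hcomm l hl (m * x * m⁻¹) hyL
        calc l * m * x * (l * m)⁻¹ = (l * (m * x * m⁻¹)) * l⁻¹ := by group
          _ = ((m * x * m⁻¹) * l) * l⁻¹ := by rw [h1]
          _ = m * x * m⁻¹ := by group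
      rw [this]
      exact Subgroup.mem_inf.mpr ⟨hyL, hyC⟩
    have hFbot : F = ⊥ := by
      rcases hmin F hFn inf_le_left with h | h
      · exact h
      · exfalso
        apply hQ'L
        rw [← hCL]
        rw [Subgroup.le_centralizer_iff]
        rw [← h]
        exact inf_le_right
    let φ : ↥Q' →* MulAut ↥L := (MulAut.conjNormal (H := L)).comp Q'.subtype
    let _ : MulAction ↥Q' ↥L := MulAction.compHom ↥L φ
    have hmod := hQ'p.card_modEq_card_fixedPoints ↥L
    have hone : Nat.card (MulAction.fixedPoints ↥Q' ↥L) = 1 := by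
      rw [Nat.card_eq_one_iff_unique]
      refine ⟨⟨?_⟩, ⟨⟨1, ?_⟩⟩⟩
      · rintro ⟨x, hx⟩ ⟨y, hy⟩
        have key : ∀ z : L, z ∈ MulAction.fixedPoints ↥Q' ↥L → z = 1 := by
          intro z hz
          have hzF : (z : G) ∈ F := by
            refine Subgroup.mem_inf.mpr ⟨z.2, ?_⟩
            rw [Subgroup.mem_centralizer_iff]
            intro b hb
            have h1 : (⟨b, hb⟩ : Q') • z = z := hz ⟨b, hb⟩
            have h2 : (((⟨b, hb⟩ : Q') • z : L) : G) = b * z * b⁻¹ := rfl
            rw [h1] at h2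
            calc b * (z : G) = (b * z * b⁻¹) * b := by group
              _ = z * b := by rw [← h2]
          rw [hFbot, Subgroup.mem_bot] at hzF
          exact Subtype.ext hzF
        apply Subtype.ext
        show x = y
        rw [key x hx, key y hy]
      · intro b
        apply Subtype.ext
        show (b : G) * ((1 : L) : G) * (b : G)⁻¹ = ((1 : L) : G)
        simp
    rw [hone] at hmod
    exact hmod
  · rintro rfl
    apply hQ'L
    have hJp : IsPGroup q (L ⊔ Q' : Subgroup G) := IsPGroup.to_sup_of_normal_left hLp hQ'p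
    have hJn : (L ⊔ Q').Normal := by
      constructor
      intro n hn g
      rw [Subgroup.mem_sup_of_normal_left] at hn
      obtain ⟨a, ha, b, hb, rfl⟩ := hn
      obtain ⟨l, hl, m, hm, rfl⟩ := hdecomp g
      have h1 : l * m * a * (l * m)⁻¹ ∈ L ⊔ Q' := Subgroup.mem_sup_left (hLn.conj_mem a ha _)
      have h2 : l * m * b * (l * m)⁻¹ ∈ L ⊔ Q' := by
        have : l * m * b * (l * m)⁻¹ = l * (m * b * m⁻¹) * l⁻¹ := by group
        rw [this]
        exact Subgroup.mul_mem _ (Subgroup.mul_mem _ (Subgroup.mem_sup_left hl)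
          (Subgroup.mem_sup_right (hMQ m hm b hb))) (Subgroup.inv_mem _ (Subgroup.mem_sup_left hl))
      have : l * m * (a * b) * (l * m)⁻¹ = (l * m * a * (l * m)⁻¹) * (l * m * b * (l * m)⁻¹) := by group
      rw [this]
      exact Subgroup.mul_mem _ h1 h2
    have := Cfsg.Agent.Lib.le_pCore hJn hJp
    rw [hLdef] at this
    exact le_sup_right.trans this

end Cfsg.Agent.S0587
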