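import Mathlib
import Cfsg.Statements.S0590

set_option autoImplicit false
open Cfsg

open Subgroup
open scoped commutatorElement

namespace Cfsg.Agent.S0590


/-- Quadratic action on an elementary abelian p-group forces the acting group modulo the kernel of the action to be elementary abelian. -/
theorem result {G : Type*} [Group G] [Finite G] {p : ℕ} [Fact p.Prime] (V H : Subgroup G) (hV : Cfsg.IsElementaryAbelian p V) (hHV : H ≤ Subgroup.normalizer (V : Set G)) (hq : ⁅⁅V, H⁆, H⁆ = ⊥) : ⁅H, H⁆ ≤ Subgroup.centralizer (V : Set G) ∧ ∀ a ∈ H, a ^ p ∈ Subgroup.centralizer (V : Set G) := by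
  have hVab : ∀ x ∈ V, ∀ y ∈ V, x * y = y * x := isMulCommutative_iff_of_setLike.mp hV.1
  have hVp := hV.2
  have hcent : ⁅V, H⁆ ≤ centralizer (H : Set G) := Subgroup.commutator_eq_bot_iff_le_centralizer.mp hq
  -- conjugation stays in V
  have hconj : ∀ a ∈ H, ∀ v ∈ V, a * v * a⁻¹ ∈ V := fun a ha v hv =>
    (Subgroup.mem_normalizer_iff.mp (hHV ha) v).mp hv
  -- d a v = a v a⁻¹ v⁻¹ : there is d ∈ V commuting with H such that a v a⁻¹ = d v
  have hd : ∀ a ∈ H, ∀ v ∈ V, ∃ d ∈ V, (∀ b ∈ H, b * d * b⁻¹ = d) ∧ a * v * a⁻¹ = d * v := by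
    intro a ha v hv
    refine ⟨a * v * a⁻¹ * v⁻¹, V.mul_mem (hconj a ha v hv) (V.inv_mem hv), ?_, by group⟩
    intro b hb
    have h1 : a * v * a⁻¹ * v⁻¹ ∈ ⁅V, H⁆ := by
      rw [Subgroup.commutator_comm]
      exact Subgroup.commutator_mem_commutator ha hv
    rw [Subgroup.mem_centralizer_iff.mp (hcent h1) b hb]; group
  constructor
  · rw [Subgroup.commutator_le]
    intro a ha b hb
    -- key: conj by ab and ba agree on V
    have key : ∀ v ∈ V, (a * b) * v * (a * b)⁻¹ = (b * a) * v * (b * a)⁻¹ := by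
      intro v hv
      obtain ⟨da, hdaV, hdaC, hda⟩ := hd a ha v hv
      obtain ⟨db, hdbV, hdbC, hdb⟩ := hd b hb v hv
      have e1 : (a * b) * v * (a * b)⁻¹ = a * (b * v * b⁻¹) * a⁻¹ := by group
      have e2 : (b * a) * v * (b * a)⁻¹ = b * (a * v * a⁻¹) * b⁻¹ := by group
      have e3 : a * (db * v) * a⁻¹ = (a * db * a⁻¹) * (a * v * a⁻¹) := by group
      have e4 : b * (da * v) * b⁻¹ = (b * da * b⁻¹) * (b * v * b⁻¹) := by group
      rw [e1, e2, hdb, hda, e3, e4, hdbC a ha, hdaC b hb, hda, hdb, ← mul_assoc, ← mul_assoc,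
        hVab db hdbV da hdaV]
    rw [Subgroup.mem_centralizer_iff]
    intro v hv
    have hw : (b * a)⁻¹ * v * (b * a) ∈ V := by
      have := hconj (b * a)⁻¹ (H.inv_mem (H.mul_mem hb ha)) v hv
      rwa [inv_inv] at this
    have h1 := key _ hw
    have h2 : (b * a) * ((b * a)⁻¹ * v * (b * a)) * (b * a)⁻¹ = v := by group
    rw [h2] at h1
    have h3 : ⁅a, b⁆ = (a * b) * (b * a)⁻¹ := by rw [commutatorElement_def]; group
    rw [h3]
    calc v * (a * b * (b * a)⁻¹) = (a * b * ((b * a)⁻¹ * v * (b * a)) * (a * b)⁻¹) * (a * b * (b * a)⁻¹) := by rw [h1]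
      _ = a * b * (b * a)⁻¹ * v := by group
  · intro a ha
    rw [Subgroup.mem_centralizer_iff]
    intro v hv
    obtain ⟨d, hdV, hdC, hdav⟩ := hd a ha v hv
    have hpow : ∀ n : ℕ, a ^ n * v * (a ^ n)⁻¹ = d ^ n * v := by
      intro n
      induction n with
      | zero => simp
      | succ n ih =>
        have e1 : a ^ (n + 1) * v * (a ^ (n + 1))⁻¹ = a * (a ^ n * v * (a ^ n)⁻¹) * a⁻¹ := by
          rw [pow_succ']; group
        have e2 : a * (d ^ n * v) * a⁻¹ = (a * d * a⁻¹) ^ n * (a * v * a⁻¹) := by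
          rw [conj_pow]; group
        rw [e1, ih, e2, hdC a ha, hdav, ← mul_assoc, ← pow_succ]
    have h1 := hpow p
    rw [hVp _ hdV, one_mul] at h1
    calc v * a ^ p = (a ^ p * v * (a ^ p)⁻¹) * a ^ p := by rw [h1]
      _ = a ^ p * v := by group

end Cfsg.Agent.S0590
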