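import Mathlib
import Cfsg.Statements.S0591

set_option autoImplicit false
open Cfsg

open Subgroup
open scoped commutatorElement

namespace Cfsg.Agent.S0591


/-- For a quadratically acting element a on an elementary abelian p-group V, the fixed points C_V(a) have order at least the square root of the order of V. -/
theorem result {G : Type*} [Group G] [Finite G] {p : ℕ} [Fact p.Prime] (V : Subgroup G) (hV : Cfsg.IsElementaryAbelian p V) (a : G) (ha : a ∈ Subgroup.normalizer (V : Set G)) (hq : ⁅⁅V, Subgroup.zpowers a⁆, Subgroup.zpowers a⁆ = ⊥) : Nat.card V ≤ Nat.card ↥(V ⊓ Subgroup.centralizer (Subgroup.zpowers a : Set G)) ^ 2 := by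
  have hVab : ∀ x ∈ V, ∀ y ∈ V, x * y = y * x := isMulCommutative_iff_of_setLike.mp hV.1
  set Z := Subgroup.zpowers a with hZ
  have hcent : ⁅V, Z⁆ ≤ centralizer (Z : Set G) := Subgroup.commutator_eq_bot_iff_le_centralizer.mp hq
  have hconj : ∀ v ∈ V, a * v * a⁻¹ ∈ V := fun v hv =>
    (Subgroup.mem_normalizer_iff.mp ha v).mp hv
  have haZ : a ∈ Z := Subgroup.mem_zpowers a
  let f : V →* V :=
    { toFun := fun v => ⟨a * v * a⁻¹ * (v : G)⁻¹, V.mul_mem (hconj v v.2) (V.inv_mem v.2)⟩
      map_one' := by ext; simp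
      map_mul' := by
        intro v w
        ext
        simp only [Subgroup.coe_mul]
        have h1 : a * ((v : G) * w) * a⁻¹ * ((v : G) * w)⁻¹ = (a * v * a⁻¹) * ((a * w * a⁻¹) * (w : G)⁻¹) * (v : G)⁻¹ := by group
        rw [h1, hVab _ (hconj v v.2) _ (V.mul_mem (hconj w w.2) (V.inv_mem w.2))]
        have h2 := hVab _ (V.mul_mem (hconj w w.2) (V.inv_mem w.2)) _ (V.mul_mem (hconj v v.2) (V.inv_mem v.2))
        rw [mul_assoc, h2] }
  have hfapp : ∀ v : V, ((f v : V) : G) = a * v * a⁻¹ * (v : G)⁻¹ := fun v => rfl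
  set C := (V ⊓ centralizer (Z : Set G)).subgroupOf V with hC
  have hker : f.ker ≤ C := by
    intro v hv
    rw [MonoidHom.mem_ker] at hv
    have h1 : a * v * a⁻¹ * (v : G)⁻¹ = 1 := by rw [← hfapp, hv]; rfl
    have h2 : a * v = v * a := by
      calc a * v = (a * v * a⁻¹ * (v : G)⁻¹) * v * a := by group
        _ = v * a := by rw [h1, one_mul]
    rw [hC, Subgroup.mem_subgroupOf]
    refine ⟨v.2, ?_⟩
    show (v : G) ∈ centralizer (Z : Set G)
    rw [Subgroup.mem_centralizer_iff]
    rintro _ ⟨n, rfl⟩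
    have : Commute a (v : G) := h2
    exact (this.zpow_left n).eq
  have hrange : f.range ≤ C := by
    rintro _ ⟨v, rfl⟩
    rw [hC, Subgroup.mem_subgroupOf]
    refine ⟨(f v).2, ?_⟩
    apply hcent
    rw [hfapp, Subgroup.commutator_comm]
    exact Subgroup.commutator_mem_commutator haZ v.2
  have hcardC : Nat.card C = Nat.card ↥(V ⊓ centralizer (Z : Set G)) :=
    Nat.card_congr (Subgroup.subgroupOfEquivOfLe inf_le_left).toEquiv
  have h1 : Nat.card f.ker * Nat.card f.range = Nat.card V := by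
    rw [← Subgroup.index_ker]; exact Subgroup.card_mul_index _
  have h2 := Subgroup.card_le_of_le hker
  have h3 := Subgroup.card_le_of_le hrange
  rw [← h1, sq, ← hcardC]
  exact Nat.mul_le_mul h2 h3

end Cfsg.Agent.S0591
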