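import Cfsg.Statements.S0594
import Cfsg.Agent.Helper2.QuadSL23
-- import your own Cfsg.Agent.* helpers here

set_option autoImplicit false
open Cfsg

namespace Cfsg.Agent.S0594

open scoped commutatorElement

/-- For odd p, two quadratic generators of a faithful group that is not a p-group, one of which acts nontrivially on a normal subgroup of order prime to p, force p = 3 and a section isomorphic to SL(2,3). -/
theorem result {G : Type*} [Group G] [Finite G] {p : ℕ} [Fact p.Prime] (hp : p ≠ 2) (V H : Subgroup G) (hV : Cfsg.IsElementaryAbelian p V) (hHV : H ≤ Subgroup.normalizer (V : Set G)) (hf : H ⊓ Subgroup.centralizer (V : Set G) = ⊥) (a b : G) (hab : H = Subgroup.closure {a, b}) (ha : ⁅⁅V, Subgroup.zpowers a⁆, Subgroup.zpowers a⁆ = ⊥) (hb : ⁅⁅V, Subgroup.zpowers b⁆, Subgroup.zpowers b⁆ = ⊥) (hnp : ¬ IsPGroup p H) (Q : Subgroup G) (hQH : Q ≤ H) (hQn : H ≤ Subgroup.normalizer (Q : Set G)) (hQ : (Nat.card Q).Coprime p) (hQa : ⁅Q,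 Subgroup.zpowers a⁆ ≠ ⊥) : p = 3 ∧ ∃ (K L : Subgroup G) (hL : (L.subgroupOf K).Normal), K ≤ H ∧ Nonempty ((K ⧸ L.subgroupOf K) ≃* Matrix.SpecialLinearGroup (Fin 2) (ZMod 3)) := by
  have haH : a ∈ H := hab ▸ Subgroup.subset_closure (by simp)
  -- some element of `Q` does not commute with `a`
  have hg : ∃ g ∈ Q, ¬ Commute g a := by
    by_contra hcon
    push Not at hcon
    apply hQa
    rw [Subgroup.commutator_eq_bot_iff_le_centralizer]
    intro g hg
    rw [Subgroup.mem_centralizer_iff]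
    intro h hh
    obtain ⟨k, rfl⟩ := Subgroup.mem_zpowers_iff.mp hh
    exact ((hcon g hg).zpow_right k).eq.symm
  obtain ⟨g, hgQ, hga⟩ := hg
  have hgH : g ∈ H := hQH hgQ
  have hH₁ : Subgroup.closure ({a, g * a * g⁻¹} : Set G) ≤ H := by
    rw [Subgroup.closure_le]
    rintro w (rfl | hw)
    · exact haH
    · rw [Set.mem_singleton_iff] at hw
      subst hw
      exact H.mul_mem (H.mul_mem hgH haH) (H.inv_mem hgH)
  have hcQ : g * a * g⁻¹ * a⁻¹ ∈ Q := by
    have h1 : a * g⁻¹ * a⁻¹ ∈ Q :=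
      (Subgroup.mem_normalizer_iff.mp (hQn haH) g⁻¹).mp (Q.inv_mem hgQ)
    have h2 : g * a * g⁻¹ * a⁻¹ = g * (a * g⁻¹ * a⁻¹) := by group
    rw [h2]
    exact Q.mul_mem hgQ h1
  have hc1 : g * a * g⁻¹ * a⁻¹ ≠ 1 := by
    intro h
    apply hga
    have h1 : g * a * g⁻¹ = a := by rwa [mul_inv_eq_one] at h
    have h2 : g * a = a * g := by
      calc g * a = (g * a * g⁻¹) * g := by group
        _ = a * g := by rw [h1]
    exact h2
  have hf' : Subgroup.closure ({a, g * a * g⁻¹} : Set G) ⊓ Subgroup.centralizer (V : Set G) = ⊥ := by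
    rw [eq_bot_iff, ← hf]
    exact inf_le_inf_right _ hH₁
  obtain ⟨hp3, Φ, hΦ⟩ := Cfsg.Agent.Helper2.sl23_of_quadratic_conj hp V hV.1 hV.2 a g
    (hH₁.trans hHV) (hHV hgH) hf' ha Q (hH₁.trans hQn) hQ hcQ hc1
  obtain ⟨L, hL, hiso⟩ := Cfsg.Agent.Helper2.exists_section_of_surjective _ Φ hΦ
  exact ⟨hp3, _, L, hL, hH₁, hiso⟩

end Cfsg.Agent.S0594
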