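import Cfsg.Statements.S0596
import Cfsg.Agent.Helper2.QuadSL23b
import Cfsg.Agent.Helper62.PSolvDual
import Cfsg.Agent.S4176
import Cfsg.Agent.S0199
-- import your own Cfsg.Agent.* helpers here

set_option autoImplicit false
open Cfsg

namespace Cfsg.Agent.S0596

open scoped commutatorElement

/-- For odd p, a p-separable group with a faithful action on an elementary abelian p-group that is not p-stable has p = 3 and involves SL(2,3). -/
theorem result {G : Type*} [Group G] [Finite G] {p : ℕ} [Fact p.Prime] (hp : p ≠ 2) (V H : Subgroup G) (hV : Cfsg.IsElementaryAbelian p V) (hHV : H ≤ Subgroup.normalizer (V : Set G)) (hf : H ⊓ Subgroup.centralizer (V : Set G) = ⊥) (hsep : Cfsg.IsPSolvable p H) (a : G) (haH : a ∈ H) (hq : ⁅⁅V, Subgroup.zpowers a⁆, Subgroup.zpowers a⁆ = ⊥) (hna : a ∉ (Cfsg.pCore p H).map H.subtype) : p = 3 ∧ ∃ (K L : Subgroup G) (hL : (L.subgroupOf K).Normal), K ≤ H ∧ Nonempty ((K ⧸ L.subgroupOf K) ≃* Matrix.SpecialLinearGroup (Fin 2) (ZMod 3)) := by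
  have hpp : p.Prime := Fact.out
  obtain ⟨hVc, hVp⟩ := hV
  -- Step 1 (Baer–Suzuki): some pair of conjugates does not generate a `p`-group
  have hex : ∃ g ∈ H, ¬ IsPGroup p (Subgroup.closure ({a, g * a * g⁻¹} : Set G)) := by
    by_contra hcon
    push Not at hcon
    apply hna
    set a' : H := ⟨a, haH⟩ with ha'
    have hX : ∀ g : H, IsPGroup p ↥(Subgroup.zpowers a' ⊔
        (Subgroup.zpowers a').map (MulAut.conj g).toMonoidHom) := by
      intro g
      have h1 : IsPGroup p
          ((Subgroup.closure ({a, (g : G) * a * (g : G)⁻¹} : Set G)).subgroupOf H) :=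
        (hcon g g.2).comap_subtype
      refine h1.to_le (sup_le ?_ ?_)
      · rw [Subgroup.zpowers_le, Subgroup.mem_subgroupOf]
        exact Subgroup.subset_closure (by simp [ha'])
      · rw [MonoidHom.map_zpowers, Subgroup.zpowers_le, Subgroup.mem_subgroupOf]
        exact Subgroup.subset_closure (by simp [ha'])
    have hX0 : IsPGroup p (Subgroup.zpowers a') := (hX 1).to_le le_sup_left
    obtain ⟨N, hN1, hN2, hN3⟩ := Cfsg.Agent.S0199.result (Subgroup.zpowers a') hX0 hX
    exact ⟨a', Cfsg.Agent.Lib.le_pCore hN1 hN2 (hN3 (Subgroup.mem_zpowers a')), rfl⟩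
  obtain ⟨g, hgH, hnp⟩ := hex
  set b : G := g * a * g⁻¹ with hb
  set H₁ : Subgroup G := Subgroup.closure ({a, b} : Set G) with hH₁def
  have hbH : b ∈ H := H.mul_mem (H.mul_mem hgH haH) (H.inv_mem hgH)
  have hH₁ : H₁ ≤ H := by
    rw [hH₁def, Subgroup.closure_le]
    rintro w (rfl | hw)
    · exact haH
    · rw [Set.mem_singleton_iff] at hw
      subst hw
      exact hbH
  have hf' : H₁ ⊓ Subgroup.centralizer (V : Set G) = ⊥ := by
    rw [eq_bot_iff, ← hf]
    exact inf_le_inf_right _ hH₁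
  have hqb := Cfsg.Agent.Helper97.QuadStable.quadratic_conj V a g (hHV hgH) hq
  obtain ⟨K, iF, iFt, iC, φ, x, y, hxa, hyb, hgen, hφnp, hxp, hyp⟩ :=
    Cfsg.Agent.Helper97.QuadLin.exists_hom_SL2_of_subgroups V H₁ hVc hVp (hH₁.trans hHV) hf' a b
      rfl hq hqb hnp
  -- Step 3: the image is `p`-solvable
  have hsol₁ : Cfsg.IsPSolvable p ↥H₁ :=
    Cfsg.Agent.Helper11.isPSolvable_of_mulEquiv (Subgroup.subgroupOfEquivOfLe hH₁)
      (Cfsg.Agent.S4176.isPSolvable_subgroup (H₁.subgroupOf H) hsep)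
  have hsolX : Cfsg.IsPSolvable p ↥φ.range :=
    Cfsg.Agent.Helper11.isPSolvable_of_surjective φ.rangeRestrict φ.rangeRestrict_surjective hsol₁
  set α' : φ.range := φ.rangeRestrict x with hα'
  set β' : φ.range := φ.rangeRestrict y with hβ'
  have hα'p : α' ^ p = 1 := by rw [hα', ← map_pow, hxp, map_one]
  have hβ'p : β' ^ p = 1 := by rw [hβ', ← map_pow, hyp, map_one]
  have hgens : Subgroup.closure ({α', β'} : Set φ.range) = ⊤ := by
    have h2 : ({α', β'} : Set φ.range) = φ.rangeRestrict '' ({x, y} : Set H₁) := by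
      simp only [Set.image_insert_eq, Set.image_singleton, hα', hβ']
    rw [h2, ← MonoidHom.map_closure, hgen, ← MonoidHom.range_eq_map,
      MonoidHom.range_eq_top.2 φ.rangeRestrict_surjective]
  -- Step 4: `O_p` of the image is trivial
  have hcore : Cfsg.pCore p ↥φ.range = ⊥ := by
    by_contra hne
    apply hφnp
    have : (Cfsg.pCore p ↥φ.range).Normal :=
      @Subgroup.normal_of_characteristic _ _ _ (Cfsg.Agent.Lib.pCore_characteristic p)
    exact Cfsg.Agent.Helper2.sl2_isPGroup_of_normal_pSubgroup hp φ.range.subtype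
      (Subgroup.subtype_injective _) α' β' hα'p hβ'p hgens (Cfsg.pCore p ↥φ.range)
      (Cfsg.Agent.Lib.isPGroup_pCore p) hne
  -- Step 5: the `p'`-core is not centralized by `α'`
  set R : Subgroup φ.range := Cfsg.pPrimeCore p ↥φ.range with hR
  have hCR := Cfsg.Agent.Helper62.centralizer_pPrimeCore_le_of_isPSolvable hsolX hcore
  have hRcard : (Nat.card R).Coprime p := Cfsg.Agent.Lib.card_pPrimeCore_coprime p
  have hRn : R.Normal :=
    @Subgroup.normal_of_characteristic _ _ _ (Cfsg.Agent.Lib.pPrimeCore_characteristic p)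
  have hα'1 : α' ≠ 1 := by
    intro h1
    apply hφnp
    rw [h1] at hgens
    have h2 : Subgroup.closure ({1, β'} : Set φ.range) = Subgroup.zpowers β' := by
      rw [Subgroup.zpowers_eq_closure]
      apply le_antisymm
      · rw [Subgroup.closure_le]
        rintro w (rfl | hw)
        · exact Subgroup.one_mem _
        · exact Subgroup.subset_closure hw
      · exact Subgroup.closure_mono (by simp)
    rw [h2] at hgens
    intro w
    have hw : w ∈ Subgroup.zpowers β' := hgens ▸ Subgroup.mem_top w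
    obtain ⟨k, hk⟩ := Subgroup.mem_zpowers_iff.mp hw
    refine ⟨1, ?_⟩
    rw [pow_one, ← hk, ← zpow_natCast, ← zpow_mul, mul_comm, zpow_mul, zpow_natCast, hβ'p,
      one_zpow]
  have hα'R : α' ∉ R := by
    intro h
    have h1 : orderOf α' ∣ p := orderOf_dvd_of_pow_eq_one hα'p
    have h2 : orderOf α' ∣ Nat.card R := by
      have := orderOf_dvd_natCard (⟨α', h⟩ : R)
      rwa [Subgroup.orderOf_mk] at this
    have h4 : orderOf α' = 1 := Nat.eq_one_of_dvd_coprimes hRcard.symm h1 h2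
    exact hα'1 (orderOf_eq_one_iff.mp h4)
  have hα'C : α' ∉ Subgroup.centralizer (R : Set φ.range) := fun h => hα'R (hCR h)
  -- Step 6: apply the `SL₂` theorem
  set α : Matrix.SpecialLinearGroup (Fin 2) K := φ x with hα
  have hαα' : (α' : Matrix.SpecialLinearGroup (Fin 2) K) = α := rfl
  set R₀ : Subgroup (Matrix.SpecialLinearGroup (Fin 2) K) := R.map φ.range.subtype with hR₀
  have hR₀card : (Nat.card R₀).Coprime p := by
    rw [hR₀, Subgroup.card_map_of_injective (Subgroup.subtype_injective _)]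
    exact hRcard
  have hαp : α ^ p = 1 := by rw [hα, ← map_pow, hxp, map_one]
  have hαP : IsPGroup p ↥(Subgroup.zpowers α) := by
    intro w
    obtain ⟨k, hk⟩ := Subgroup.mem_zpowers_iff.mp w.2
    refine ⟨1, ?_⟩
    apply Subtype.ext
    rw [pow_one, Subgroup.coe_pow, ← hk, ← zpow_natCast, ← zpow_mul, mul_comm, zpow_mul,
      zpow_natCast, hαp, one_zpow]
    rfl
  have hαR₀ : α ∈ Subgroup.normalizer (R₀ : Set (Matrix.SpecialLinearGroup (Fin 2) K)) := by
    rw [Subgroup.mem_normalizer_iff]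
    intro h
    constructor
    · rintro ⟨r, hr, rfl⟩
      exact ⟨α' * r * α'⁻¹, hRn.conj_mem r hr α', by simp [hαα']⟩
    · rintro ⟨r, hr, hre⟩
      refine ⟨α'⁻¹ * r * α', ?_, ?_⟩
      · have := hRn.conj_mem r hr α'⁻¹
        simpa using this
      · have h1 : (φ.range.subtype (α'⁻¹ * r * α') : Matrix.SpecialLinearGroup (Fin 2) K)
            = α⁻¹ * (α * h * α⁻¹) * α := by
          rw [map_mul, map_mul, hre, map_inv]
          rfl
        rw [h1]; group
  have hnt : ⁅R₀, Subgroup.zpowers α⁆ ≠ ⊥ := by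
    intro hbot
    apply hα'C
    rw [Subgroup.mem_centralizer_iff]
    intro r hr
    have h1 : ⁅(r : Matrix.SpecialLinearGroup (Fin 2) K), α⁆ ∈ ⁅R₀, Subgroup.zpowers α⁆ :=
      Subgroup.commutator_mem_commutator ⟨r, hr, rfl⟩ (Subgroup.mem_zpowers α)
    rw [hbot, Subgroup.mem_bot] at h1
    have h2 : Commute (r : Matrix.SpecialLinearGroup (Fin 2) K) α :=
      commutatorElement_eq_one_iff_commute.mp h1
    apply Subtype.ext
    rw [Subgroup.coe_mul, Subgroup.coe_mul, hαα']
    exact h2.eq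
  obtain ⟨hp3, -, ⟨e⟩⟩ := Cfsg.Agent.S3740.result K hp α hαP R₀ hR₀card hαR₀ hnt
  refine ⟨hp3, ?_⟩
  -- Step 7: the section
  have hY : R₀ ⊔ Subgroup.zpowers α ≤ φ.range := by
    refine sup_le ?_ ?_
    · rintro _ ⟨r, _, rfl⟩
      exact r.2
    · rw [Subgroup.zpowers_le]
      exact ⟨x, rfl⟩
  obtain ⟨K', N, hn, hK', hiso⟩ :=
    Cfsg.Agent.Helper2.exists_section_of_le_range H₁ φ (R₀ ⊔ Subgroup.zpowers α) hY e
  exact ⟨K', N, hn, hK'.trans hH₁, hiso⟩

end Cfsg.Agent.S0596
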