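import Mathlib
import Cfsg.Statements.S0597
import Cfsg.Agent.Lib.Cores
import Cfsg.Agent.Helper9.Wielandt
import Cfsg.Agent.Helper22.Radical
import Cfsg.Agent.Helper47.Comm2

set_option autoImplicit false
open Cfsg

open Cfsg
open scoped commutatorElement

namespace Cfsg.Agent.S0597

/-- Elements centralising `W` and acting trivially on `V` modulo `W`. -/
def chainStab {G : Type*} [Group G] (V W : Subgroup G) : Subgroup G where
  carrier := {g | g ∈ Subgroup.centralizer (W : Set G) ∧ ∀ v ∈ V, ⁅g, v⁆ ∈ W}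
  mul_mem' := by
    rintro g h ⟨hg1, hg2⟩ ⟨hh1, hh2⟩
    refine ⟨Subgroup.mul_mem _ hg1 hh1, ?_⟩
    intro v hv
    have h1 := (Subgroup.mem_centralizer_iff.mp hg1) _ (hh2 v hv)
    have : ⁅g * h, v⁆ = ⁅h, v⁆ * ⁅g, v⁆ := by
      have e : ⁅g * h, v⁆ = (g * ⁅h, v⁆) * g⁻¹ * ⁅g, v⁆ := by
        simp only [commutatorElement_def]; group
      rw [e, ← h1]; group
    rw [this]
    exact W.mul_mem (hh2 v hv) (hg2 v hv)
  one_mem' := by
    refine ⟨Subgroup.one_mem _, ?_⟩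
    intro v _
    simp [commutatorElement_def]
  inv_mem' := by
    rintro g ⟨hg1, hg2⟩
    refine ⟨Subgroup.inv_mem _ hg1, ?_⟩
    intro v hv
    have h1 := (Subgroup.mem_centralizer_iff.mp hg1) _ (W.inv_mem (hg2 v hv))
    have : ⁅g⁻¹, v⁆ = (⁅g, v⁆)⁻¹ := by
      have e : ⁅g⁻¹, v⁆ = g⁻¹ * ((⁅g, v⁆)⁻¹ * g) := by
        simp only [commutatorElement_def]; group
      rw [e, h1]; group
    rw [this]
    exact W.inv_mem (hg2 v hv)

theorem pow_conj_eq_left {G : Type*} [Group G] {c x n : G} (hcn : c * n = n * c)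
    (hx : c * x * c⁻¹ = n * x) (j : ℕ) : c ^ j * x * (c ^ j)⁻¹ = n ^ j * x := by
  induction j with
  | zero => simp
  | succ j ih =>
    have hcnj : c * n ^ j = n ^ j * c := (Commute.pow_right hcn j)
    calc c ^ (j + 1) * x * (c ^ (j + 1))⁻¹ = c * (c ^ j * x * (c ^ j)⁻¹) * c⁻¹ := by
          rw [pow_succ']; group
      _ = c * (n ^ j * x) * c⁻¹ := by rw [ih]
      _ = (c * n ^ j) * x * c⁻¹ := by group
      _ = (n ^ j * c) * x * c⁻¹ := by rw [hcnj]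
      _ = n ^ j * (c * x * c⁻¹) := by group
      _ = n ^ j * (n * x) := by rw [hx]
      _ = n ^ (j + 1) * x := by rw [pow_succ]; group

/-- If two subnormal subgroups of a faithful group on an elementary abelian p-group satisfy [V, E₁, E₂] = 1, then their commutator lies in the largest normal p-subgroup. -/
theorem result {G : Type*} [Group G] [Finite G] {p : ℕ} [Fact p.Prime] (V H : Subgroup G) (hV : Cfsg.IsElementaryAbelian p V) (hHV : H ≤ Subgroup.normalizer (V : Set G)) (hf : H ⊓ Subgroup.centralizer (V : Set G) = ⊥) (E₁ E₂ : Subgroup G) (h₁ : E₁ ≤ H) (h₂ : E₂ ≤ H) (hs₁ : (E₁.subgroupOf H).IsSubnormal) (hs₂ : (E₂.subgroupOf H).IsSubnormal) (hc : ⁅⁅V, E₁⁆, E₂⁆ = ⊥) : ⁅E₁, E₂⁆ ≤ (Cfsg.pCore p H).map H.subtype := by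
  set W := ⁅V, E₁⁆ with hW
  have hE₁V : E₁ ≤ Subgroup.normalizer (V : Set G) := h₁.trans hHV
  have hE₂V : E₂ ≤ Subgroup.normalizer (V : Set G) := h₂.trans hHV
  have hWV : W ≤ V := by
    rw [hW, Subgroup.commutator_le]
    intro v hv e he
    have : e * v⁻¹ * e⁻¹ ∈ V := (Subgroup.mem_normalizer_iff.mp (hE₁V he) v⁻¹).mp (V.inv_mem hv)
    have e2 : ⁅v, e⁆ = v * (e * v⁻¹ * e⁻¹) := by rw [commutatorElement_def]; group
    rw [e2]
    exact V.mul_mem hv this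
  have hE₁W : E₁ ≤ Subgroup.normalizer (W : Set G) :=
    Cfsg.Agent.Helper47.le_normalizer_commutator_right V E₁
  have hWE₂ : W ≤ Subgroup.centralizer (E₂ : Set G) :=
    Subgroup.commutator_eq_bot_iff_le_centralizer.mp hc
  have hE₂W : E₂ ≤ Subgroup.centralizer (W : Set G) := Subgroup.le_centralizer_iff.mp hWE₂
  set D := ⁅E₁, E₂⁆ with hD
  have hDH : D ≤ H := by
    rw [hD, Subgroup.commutator_le]
    intro a ha b hb
    exact H.mul_mem (H.mul_mem (H.mul_mem (h₁ ha) (h₂ hb)) (H.inv_mem (h₁ ha))) (H.inv_mem (h₂ hb))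
  -- D centralises W (three subgroups lemma)
  have hDWbot : ⁅D, W⁆ = ⊥ := by
    apply Subgroup.commutator_commutator_eq_bot_of_rotate
    · have : ⁅E₂, W⁆ = ⊥ := by
        rw [Subgroup.commutator_comm]; exact hc
      rw [this]
      rw [Subgroup.commutator_eq_bot_iff_le_centralizer]
      exact bot_le
    · have h1 : ⁅W, E₁⁆ ≤ W := by
        rw [Subgroup.commutator_le]
        intro w hw e he
        have : e * w⁻¹ * e⁻¹ ∈ W := (Subgroup.mem_normalizer_iff.mp (hE₁W he) w⁻¹).mp (W.inv_mem hw)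
        have e2 : ⁅w, e⁆ = w * (e * w⁻¹ * e⁻¹) := by rw [commutatorElement_def]; group
        rw [e2]
        exact W.mul_mem hw this
      rw [eq_bot_iff, ← hc]
      exact Subgroup.commutator_mono h1 le_rfl
  have hDW : D ≤ Subgroup.centralizer (W : Set G) :=
    Subgroup.commutator_eq_bot_iff_le_centralizer.mp hDWbot
  -- D stabilises the chain
  have hDS : D ≤ chainStab V W := by
    rw [hD, Subgroup.commutator_le]
    intro e₁ he₁ e₂ he₂
    refine ⟨hDW (Subgroup.commutator_mem_commutator he₁ he₂), ?_⟩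
    intro v hv
    -- v' = e₂⁻¹ v e₂ ∈ V
    have hv' : e₂⁻¹ * v * e₂⁻¹⁻¹ ∈ V :=
      (Subgroup.mem_normalizer_iff.mp (hE₂V (E₂.inv_mem he₂)) v).mp hv
    have hw1 : ⁅e₁⁻¹, e₂⁻¹ * v * e₂⁻¹⁻¹⁆ ∈ W := by
      have : ⁅e₂⁻¹ * v * e₂⁻¹⁻¹, e₁⁻¹⁆ ∈ W :=
        Subgroup.commutator_mem_commutator hv' (E₁.inv_mem he₁)
      rw [← commutatorElement_inv]
      exact W.inv_mem this
    have hw2 : ⁅e₁, v⁆ ∈ W := by
      have : ⁅v, e₁⁆ ∈ W := Subgroup.commutator_mem_commutator hv he₁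
      rw [← commutatorElement_inv]
      exact W.inv_mem this
    have hcomm := (Subgroup.mem_centralizer_iff.mp (hE₂W he₂)) _ hw1
    -- e₂ * w1 * e₂⁻¹ = w1
    have hw3 : e₁ * ⁅e₁⁻¹, e₂⁻¹ * v * e₂⁻¹⁻¹⁆ * e₁⁻¹ ∈ W :=
      (Subgroup.mem_normalizer_iff.mp (hE₁W he₁) _).mp hw1
    have key : ⁅⁅e₁, e₂⁆, v⁆ = (e₁ * ⁅e₁⁻¹, e₂⁻¹ * v * e₂⁻¹⁻¹⁆ * e₁⁻¹) * ⁅e₁, v⁆ := by
      have e1 : ⁅⁅e₁, e₂⁆, v⁆ = e₁ * ((e₂ * ⁅e₁⁻¹, e₂⁻¹ * v * e₂⁻¹⁻¹⁆) * e₂⁻¹) * e₁⁻¹ * ⁅e₁, v⁆ := by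
        simp only [commutatorElement_def]; group
      rw [e1, ← hcomm]; group
    rw [key]
    exact W.mul_mem hw3 hw2
  -- D is a p-group
  have hp : p.Prime := Fact.out
  have hDp : IsPGroup p D := by
    rintro ⟨g, hg⟩
    refine ⟨1, Subtype.ext ?_⟩
    rw [pow_one]
    show g ^ p = 1
    obtain ⟨hg1, hg2⟩ := hDS hg
    have hgp : g ^ p ∈ H ⊓ Subgroup.centralizer (V : Set G) := by
      refine Subgroup.mem_inf.mpr ⟨H.pow_mem (hDH hg) p, ?_⟩
      rw [Subgroup.mem_centralizer_iff]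
      intro v hv
      have hcn := ((Subgroup.mem_centralizer_iff.mp hg1) _ (hg2 v hv)).symm
      have hx : g * v * g⁻¹ = ⁅g, v⁆ * v := by rw [commutatorElement_def]; group
      have h3 := pow_conj_eq_left hcn hx p
      rw [hV.2 _ (hWV (hg2 v hv)), one_mul] at h3
      calc v * g ^ p = (g ^ p * v * (g ^ p)⁻¹) * g ^ p := by rw [h3]
        _ = g ^ p * v := by group
    rwa [hf, Subgroup.mem_bot] at hgp
  -- D is subnormal in H
  have hLsub : ((E₁ ⊔ E₂).subgroupOf H).IsSubnormal := by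
    rw [Subgroup.subgroupOf_sup h₁ h₂]
    exact Cfsg.Agent.Helper9.isSubnormal_sup hs₁ hs₂
  have hLD : E₁ ⊔ E₂ ≤ Subgroup.normalizer (D : Set G) :=
    sup_le (Cfsg.Agent.Helper47.le_normalizer_commutator_left E₁ E₂)
      (Cfsg.Agent.Helper47.le_normalizer_commutator_right E₁ E₂)
  have hDL : D ≤ E₁ ⊔ E₂ := by
    rw [hD, Subgroup.commutator_le]
    intro a ha b hb
    have ha' : a ∈ E₁ ⊔ E₂ := Subgroup.mem_sup_left ha
    have hb' : b ∈ E₁ ⊔ E₂ := Subgroup.mem_sup_right hb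
    exact Subgroup.mul_mem _ (Subgroup.mul_mem _ (Subgroup.mul_mem _ ha' hb') (Subgroup.inv_mem _ ha'))
      (Subgroup.inv_mem _ hb')
  have hDsub : (D.subgroupOf H).IsSubnormal := by
    refine Subgroup.IsSubnormal.step _ ((E₁ ⊔ E₂).subgroupOf H) ?_ hLsub ?_
    · exact Subgroup.subgroupOf_mono H hDL
    · rw [Subgroup.normal_subgroupOf_iff_le_normalizer (Subgroup.subgroupOf_mono H hDL),
        ← Subgroup.subgroupOf_normalizer_eq hDH]
      exact Subgroup.subgroupOf_mono H hLD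
  have hle := Cfsg.Agent.Helper22.le_pCore_of_isSubnormal hDsub (hDp.comap_subtype)
  intro d hd
  exact ⟨⟨d, hDH hd⟩, hle (Subgroup.mem_subgroupOf.mpr hd), rfl⟩

end Cfsg.Agent.S0597
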