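-- Statement S0599: the Timmesfeld replacement theorem.
import Cfsg.Statements.S0599
import Cfsg.Agent.Helper51.Timmesfeld
import Cfsg.Agent.Helper51.NilAct

set_option autoImplicit false
open Cfsg

namespace Cfsg.Agent.S0599

open Subgroup Cfsg.Agent.Helper51

theorem isPGroup_of_elementaryAbelian {G : Type*} [Group G] {p : ℕ} {V : Subgroup G}
    (hV : Cfsg.IsElementaryAbelian p V) : IsPGroup p V := by
  intro g
  refine ⟨1, ?_⟩
  apply Subtype.ext
  rw [pow_one, SubgroupClass.coe_pow]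
  exact hV.2 g g.2

/-- The Timmesfeld replacement Theorem: replacing a best offender A by C_A([U, A]) gives a best offender with fixed points [U, A]C_V(A), still nontrivial on V if A was. -/
theorem result {G : Type*} [Group G] [Finite G] {p : ℕ} [Fact p.Prime] (V A : Subgroup G) (hV : Cfsg.IsElementaryAbelian p V) (hAV : A ≤ Subgroup.normalizer (V : Set G)) (hA : Cfsg.IsBestOffenderOn p V A) (U : Subgroup G) (hU : U ≤ V) : Cfsg.IsBestOffenderOn p V (A ⊓ Subgroup.centralizer ((⁅U, A⁆ : Subgroup G) : Set G)) ∧ V ⊓ Subgroup.centralizer ((A ⊓ Subgroup.centralizer ((⁅U, A⁆ : Subgroup G) : Set G) : Subgroup G) : Set G) = ⁅U, A⁆ ⊔ (V ⊓ Subgroup.centralizer (A : Set G)) ∧ (⁅V, A⁆ ≠ ⊥ → ⁅V, A ⊓ Subgroup.centralizer ((⁅U, A⁆ : Subgroup G) : Set G)⁆ ≠ ⊥) := by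
  obtain ⟨hBO, hab, hpow⟩ := hA
  obtain ⟨h1, h2⟩ := timmesfeld_replacement V A hV.1 hAV hab hBO U hU
  refine ⟨⟨?_, ?_, ?_⟩, h2, ?_⟩
  · intro B hB
    exact (hBO B (hB.trans inf_le_left)).trans h1.symm.le
  · exact (commutator_mono inf_le_left inf_le_left).trans hab
  · exact fun a ha => hpow a ha.1
  · intro hne hcon
    apply hne
    have h3 : V ≤ centralizer ((A ⊓ centralizer ((⁅U, A⁆ : Subgroup G) : Set G) : Subgroup G) : Set G) :=
      commutator_eq_bot_iff_le_centralizer.mp hcon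
    have h4 : V = ⁅U, A⁆ ⊔ (V ⊓ centralizer (A : Set G)) := by
      rw [← h2]; exact (inf_eq_left.mpr h3).symm
    have h5 : V ≤ ⁅V, A⁆ ⊔ cD V A := by
      nth_rewrite 1 [h4]
      exact sup_le_sup_right (commutator_mono hU le_rfl) _
    exact commutator_eq_bot_of_le_sup' hV.1 hAV
      (exists_iterComm_eq_bot_of_pAction (isPGroup_of_elementaryAbelian hV) hAV hpow) h5

end Cfsg.Agent.S0599
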