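import Cfsg.Statements.S0609
import Cfsg.Agent.Helper11.ThompsonIso

set_option autoImplicit false
open Cfsg

namespace Cfsg.Agent.S0609

open Cfsg.Agent.Helper11 in
/-- Thompson factorizability passes to and from the quotient by the largest normal subgroup of order prime to p. -/
theorem result {G : Type*} [Group G] [Finite G] {p : ℕ} [Fact p.Prime] : Cfsg.IsThompsonFactorizable p G ↔ Cfsg.IsThompsonFactorizable p (G ⧸ Cfsg.pPrimeCore p G) := by
  have hp : p.Prime := Fact.out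
  have hsurj : Function.Surjective (QuotientGroup.mk' (Cfsg.pPrimeCore p G)) :=
    QuotientGroup.mk'_surjective _
  have hcop : (Nat.card (Cfsg.pPrimeCore p G)).Coprime p := Cfsg.Agent.Lib.card_pPrimeCore_coprime p
  have hker : (QuotientGroup.mk' (Cfsg.pPrimeCore p G)).ker = Cfsg.pPrimeCore p G := QuotientGroup.ker_mk' _
  -- injectivity on Sylow subgroups
  have hinj : ∀ S : Sylow p G, ∀ x ∈ (S : Subgroup G),
      (QuotientGroup.mk' (Cfsg.pPrimeCore p G)) x = 1 → x = 1 := by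
    intro S x hx h1
    have hxN : x ∈ Cfsg.pPrimeCore p G := by
      rw [← hker]; exact h1
    obtain ⟨k, hk⟩ := S.isPGroup' ⟨x, hx⟩
    have hk' : x ^ p ^ k = 1 := by
      have := congrArg Subtype.val hk
      simpa using this
    have h2 : orderOf x ∣ p ^ k := orderOf_dvd_of_pow_eq_one hk'
    have h3 : orderOf x ∣ Nat.card (Cfsg.pPrimeCore p G) := by
      have := orderOf_dvd_natCard (⟨x, hxN⟩ : Cfsg.pPrimeCore p G)
      rwa [Subgroup.orderOf_mk] at this
    have h4 : Nat.Coprime (p ^ k) (Nat.card (Cfsg.pPrimeCore p G)) :=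
      (Nat.Coprime.pow_right k hcop).symm
    have := Nat.eq_one_of_dvd_coprimes h4 h2 h3
    exact orderOf_eq_one_iff.mp this
  have hbot : Cfsg.pPrimeCore p (G ⧸ Cfsg.pPrimeCore p G) = ⊥ := by
    have hcop' : (Nat.card (QuotientGroup.mk' (Cfsg.pPrimeCore p G)).ker).Coprime p := by
      rw [hker]; exact hcop
    have hL : (Cfsg.pPrimeCore p (G ⧸ Cfsg.pPrimeCore p G)).comap (QuotientGroup.mk' (Cfsg.pPrimeCore p G)) ≤
        Cfsg.pPrimeCore p G :=
      Cfsg.Agent.Lib.le_pPrimeCore (Subgroup.Normal.comap (Cfsg.pPrimeCore_normal p _) _)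
        (Cfsg.Agent.Helper54.card_comap_coprime _ hcop' _ (Cfsg.Agent.Lib.card_pPrimeCore_coprime p))
    rw [eq_bot_iff]
    intro y hy
    obtain ⟨x, rfl⟩ := hsurj y
    have := hL (Subgroup.mem_comap.mpr hy)
    rw [Subgroup.mem_bot, ← MonoidHom.mem_ker, hker]
    exact this
  constructor
  · intro hTF Sbar gbar
    obtain ⟨S, rfl⟩ := Sylow.mapSurjective_surjective hsurj p Sbar
    obtain ⟨g, rfl⟩ := hsurj gbar
    obtain ⟨x, hx, c, hc, n, hn, hg⟩ := hTF S g
    rw [Sylow.coe_mapSurjective]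
    have e1 := omegaZ_map p (QuotientGroup.mk' (Cfsg.pPrimeCore p G)) (S : Subgroup G) (hinj S)
    have e2 := thompsonSubgroupOf_map p (QuotientGroup.mk' (Cfsg.pPrimeCore p G)) (S : Subgroup G) (hinj S)
    unfold omegaZ at e1
    rw [e1, e2]
    refine ⟨1, Subgroup.one_mem _, (QuotientGroup.mk' _) c, ?_, (QuotientGroup.mk' _) n, ?_, ?_⟩
    · rw [Subgroup.mem_centralizer_iff]
      rintro _ ⟨w, hw, rfl⟩
      rw [← map_mul, ← map_mul, Subgroup.mem_centralizer_iff.mp hc w hw]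
    · exact Subgroup.le_normalizer_map _ ⟨n, hn, rfl⟩
    · rw [hg, map_mul, map_mul, one_mul]
      have : (QuotientGroup.mk' (Cfsg.pPrimeCore p G)) x = 1 := by
        rw [← MonoidHom.mem_ker, hker]; exact hx
      rw [this, one_mul]
  · intro hTF S g
    obtain ⟨xb, hxb, cb, hcb, nb, hnb, hgb⟩ := hTF (S.mapSurjective hsurj) ((QuotientGroup.mk' _) g)
    rw [Sylow.coe_mapSurjective] at hcb hnb
    have e1 := omegaZ_map p (QuotientGroup.mk' (Cfsg.pPrimeCore p G)) (S : Subgroup G) (hinj S)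
    have e2 := thompsonSubgroupOf_map p (QuotientGroup.mk' (Cfsg.pPrimeCore p G)) (S : Subgroup G) (hinj S)
    unfold omegaZ at e1
    rw [e1] at hcb
    rw [e2] at hnb
    rw [hbot, Subgroup.mem_bot] at hxb
    subst hxb
    rw [one_mul] at hgb
    obtain ⟨c₀, rfl⟩ := hsurj cb
    obtain ⟨n₀, rfl⟩ := hsurj nb
    have hW : IsPGroup p (Cfsg.omegaOne p ((S : Subgroup G) ⊓ Subgroup.centralizer ((S : Subgroup G) : Set G))) := by
      apply S.isPGroup'.to_le
      unfold Cfsg.omegaOne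
      rw [Subgroup.closure_le]
      rintro w ⟨hw, -⟩
      exact (Subgroup.mem_inf.mp hw).1
    have hJ : IsPGroup p (Cfsg.thompsonSubgroupOf p (S : Subgroup G)) :=
      S.isPGroup'.to_le (thompsonSubgroupOf_le p _)
    have hcop' : (Nat.card (QuotientGroup.mk' (Cfsg.pPrimeCore p G)).ker).Coprime p := by
      rw [hker]; exact hcop
    obtain ⟨c, hc, hcc⟩ := Cfsg.Agent.Helper54.exists_mem_centralizer_map_eq
      (QuotientGroup.mk' (Cfsg.pPrimeCore p G)) hcop' _ hW c₀ hcb
    obtain ⟨n, hn, hnn⟩ := Cfsg.Agent.Helper54.exists_mem_normalizer_map_eq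
      (QuotientGroup.mk' (Cfsg.pPrimeCore p G)) hcop' _ hJ n₀ hnb
    rw [← hcc, ← hnn, ← map_mul] at hgb
    -- g = x * (c * n) with x ∈ ker
    refine ⟨g * (c * n)⁻¹, ?_, c, hc, n, hn, by group⟩
    rw [← hker, MonoidHom.mem_ker, map_mul, map_inv, hgb, mul_inv_cancel]

end Cfsg.Agent.S0609
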