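import Cfsg.Statements.S0614
import Cfsg.Agent.Helper49.FFSetup
import Cfsg.Agent.Helper49.MaxEA

set_option autoImplicit false
open Cfsg

namespace Cfsg.Agent.S0614

open Subgroup Cfsg.Agent.Helper49 Cfsg.Agent.Helper49.JComp Cfsg.Agent.Helper49.SubIrr
  Cfsg.Agent.Helper49.FF in
/-- `[Q, A] = L ∩ Q`. -/
theorem comm_QA_eq {G : Type*} [Group G] [Finite G] {p : ℕ} [Fact p.Prime] {V H Q : Subgroup G}
    {T : Set (Subgroup G)} {A : Subgroup G} {x : G} (d : PairData p V H Q T A x) :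
    ⁅Q, A⁆ = (A ⊔ cj x A) ⊓ Q := by
  have hAQ : A ≤ normalizer (Q : Set G) := d.hF.A_le_normalizer_Q d.hA
  apply le_antisymm
  · apply le_inf
    · rw [d.L_eq]; exact le_sup_left
    · exact comm_le hAQ
  · intro q hq
    obtain ⟨hqL, hqQ⟩ := mem_inf.1 hq
    rw [d.L_eq] at hqL
    have hcoe := Subgroup.coe_mul_of_right_le_normalizer_left ⁅Q, A⁆ A
      (normalizer_commutator_ge_right Q A)
    have hq' : q ∈ ((⁅Q, A⁆ ⊔ A : Subgroup G) : Set G) := hqL
    rw [hcoe, Set.mem_mul] at hq'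
    obtain ⟨c, hc, a', ha', rfl⟩ := hq'
    have hcQ : c ∈ Q := comm_le hAQ hc
    have ha'Q : a' ∈ A ⊓ Q := by
      refine mem_inf.2 ⟨ha', ?_⟩
      have : a' = c⁻¹ * (c * a') := by group
      rw [this]; exact mul_mem (inv_mem hcQ) hqQ
    rw [d.hF.A_inf_Q d.hA, mem_bot] at ha'Q
    rw [ha'Q, mul_one]; exact hc

def mi : Matrix.SpecialLinearGroup (Fin 2) (ZMod 3) := ⟨!![0, -1; 1, 0], by decide⟩
def mj : Matrix.SpecialLinearGroup (Fin 2) (ZMod 3) := ⟨!![1, 1; 1, -1], by decide⟩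
theorem mi_pow : mi ^ 4 = 1 := by decide
theorem mj_pow : mj ^ 4 = 1 := by decide
theorem mij : mi * mj ≠ mj * mi := by decide

/-- A normal subgroup of order 8 of `SL(2,3)` is not commutative. -/
theorem not_comm_of_normal_card_eight (N : Subgroup (Matrix.SpecialLinearGroup (Fin 2) (ZMod 3)))
    [N.Normal] (hN : Nat.card N = 8) : ¬ ∀ a ∈ N, ∀ b ∈ N, a * b = b * a := by
  have hcard : Nat.card (Matrix.SpecialLinearGroup (Fin 2) (ZMod 3)) = 24 := by
    rw [Cfsg.Agent.Helper5.card_SL2, ZMod.card]; norm_num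
  have hidx : N.index = 3 := by
    have := N.card_mul_index
    rw [hN, hcard] at this
    omega
  have key : ∀ g : Matrix.SpecialLinearGroup (Fin 2) (ZMod 3), g ^ 4 = 1 → g ∈ N := by
    intro g hg
    have h3 : g ^ 3 ∈ N := by
      have := N.pow_index_mem g
      rwa [hidx] at this
    have e : g = (g ^ 3)⁻¹ := by
      rw [eq_inv_iff_mul_eq_one, ← pow_succ']
      exact hg
    rw [e]; exact N.inv_mem h3
  intro hc
  exact mij (hc _ (key _ mi_pow) _ (key _ mj_pow))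

/-- The commutator of the p'-core with a minimal nontrivially-acting best offender is a 3-group (when p = 2) or a non-abelian 2-group (when p = 3). -/
theorem result {G : Type*} [Group G] [Finite G] {p : ℕ} [Fact p.Prime] (V H : Subgroup G) (hV : Cfsg.IsElementaryAbelian p V) (hHV : H ≤ Subgroup.normalizer (V : Set G)) (hf : H ⊓ Subgroup.centralizer (V : Set G) = ⊥) (hS1 : Subgroup.centralizer (Cfsg.pPrimeCore p ↥H : Set ↥H) ≤ Cfsg.pPrimeCore p ↥H) (hS3 : H = ⨆ A : {A : Subgroup G // A ≤ H ∧ Cfsg.IsBestOffenderOn p V A}, (A : Subgroup G)) (hH1 : H ≠ ⊥) (A : Subgroup G) (hAH : A ≤ H) (hA : Cfsg.IsBestOffenderOn p V A) (hAV : ⁅V, A⁆ ≠ ⊥) (hmin : ∀ B : Subgroup G, B ≤ A → Cfsg.IsBestOffenderOn p V B → ⁅V, B⁆ ≠ ⊥ → B = A) : (p = 2 ∧ IsPGroup 3 ↥(⁅((Cfsg.pPrimeCore p ↥H).map H.subtype), A⁆)) ∨ (p = 3 ∧ IsPGroup 2 ↥(⁅((Cfsg.pPrimeCore p ↥H).map H.subtype), A⁆) ∧ ¬ IsMulCommutative ↥(⁅((Cfsg.pPrimeCore p ↥H).map H.subtype),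 A⁆)) := by
  have hF := Cfsg.Agent.Helper49.FF.setting_of_hyps V H hV hHV hf hS1 hS3 hH1
  have hAT : A ∈ Cfsg.Agent.Helper49.FF.minOffenders p V H := ⟨hAH, hA, hAV, hmin⟩
  obtain ⟨x, hx, hxc⟩ := hF.exists_not_centralizing hAT
  have d : Cfsg.Agent.Helper49.FF.PairData p V H ((Cfsg.pPrimeCore p ↥H).map H.subtype)
      (Cfsg.Agent.Helper49.FF.minOffenders p V H) A x := ⟨hF, hAT, hx, hxc⟩
  obtain ⟨hp23, -, -, ⟨e⟩⟩ := hF.pair A hAT x hx hxc
  have hQ0 := comm_QA_eq d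
  have hcard : Nat.card ↥(⁅((Cfsg.pPrimeCore p ↥H).map H.subtype), A⁆) = p ^ 2 - 1 := by
    rw [hQ0]; exact d.card_Q0
  rcases hp23 with hp2 | hp3
  · left
    refine ⟨hp2, IsPGroup.of_card (n := 1) ?_⟩
    rw [hcard, hp2]; norm_num
  · right
    refine ⟨hp3, IsPGroup.of_card (n := 3) ?_, ?_⟩
    · rw [hcard, hp3]; norm_num
    · intro hcomm
      rw [isMulCommutative_iff_of_setLike] at hcomm
      subst hp3
      set Q₀ := ⁅((Cfsg.pPrimeCore 3 ↥H).map H.subtype), A⁆ with hQ₀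
      set L := A ⊔ Cfsg.Agent.Helper49.FF.cj x A with hL
      have hQ₀L : Q₀ ≤ L := by rw [hQ0]; exact inf_le_left
      have hLn : L ≤ Subgroup.normalizer (Q₀ : Set G) := by
        rw [hQ0]; exact d.L_le_QA.trans d.QA_le_normalizer_Q0
      have hnorm : (Q₀.subgroupOf L).Normal :=
        (Subgroup.normal_subgroupOf_iff_le_normalizer hQ₀L).2 hLn
      have : ((Q₀.subgroupOf L).map e.toMonoidHom).Normal :=
        hnorm.map e.toMonoidHom e.surjective
      have hc8 : Nat.card ((Q₀.subgroupOf L).map e.toMonoidHom) = 8 := by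
        rw [Subgroup.card_map_of_injective e.injective,
          Cfsg.Agent.Helper49.JComp.card_subgroupOf_of_le hQ₀L, hcard]; norm_num
      apply not_comm_of_normal_card_eight _ hc8
      rintro _ ⟨a, ha, rfl⟩ _ ⟨b, hb, rfl⟩
      rw [SetLike.mem_coe, Subgroup.mem_subgroupOf] at ha hb
      have := hcomm (a : G) ha (b : G) hb
      have hab : a * b = b * a := Subtype.ext this
      show e a * e b = e b * e a
      rw [← map_mul, ← map_mul, hab]

end Cfsg.Agent.S0614
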