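import Cfsg.Statements.S0615
import Cfsg.Agent.Helper49.SubIrr
import Cfsg.Agent.Helper47.OpSubnormal
import Cfsg.Agent.Helper47.Comm
import Cfsg.Agent.Helper10.Thompson

set_option autoImplicit false
open Cfsg

namespace Cfsg.Agent.S0615

open Subgroup Cfsg.Agent.Helper49 Cfsg.Agent.Helper49.SubIrr Cfsg.Agent.Helper49.JComp
open scoped commutatorElement

/-- A subnormal subgroup of `E` with `O_p(E) = 1` has no nontrivial normal `p`-subgroup. -/
theorem noOp_of_isSubnormal {G : Type*} [Group G] [Finite G] {p : ℕ} [Fact p.Prime]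
    {E K : Subgroup G} (hKE : K ≤ E) (hs : (K.subgroupOf E).IsSubnormal)
    (hOp : Cfsg.pCore p ↥E = ⊥) (P : Subgroup G) (hPK : P ≤ K) (hPp : IsPGroup p P)
    (hn : K ≤ normalizer (P : Set G)) : P = ⊥ := by
  have hle : P.subgroupOf E ≤ K.subgroupOf E := subgroupOf_mono E hPK
  have hnorm : ((P.subgroupOf E).subgroupOf (K.subgroupOf E)).Normal := by
    rw [normal_subgroupOf_iff_le_normalizer hle]
    intro k hk
    rw [mem_subgroupOf] at hk
    have hk' := mem_normalizer_iff.1 (hn hk)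
    rw [mem_normalizer_iff]
    intro a
    rw [mem_subgroupOf, mem_subgroupOf]
    exact hk' a
  have hsub : (P.subgroupOf E).IsSubnormal := IsSubnormal.step _ _ hle hs hnorm
  have hp : IsPGroup p (P.subgroupOf E) := hPp.comap_subtype
  have h1 := Cfsg.Agent.Helper47.le_pCore_of_isSubnormal hsub hp
  rw [hOp, le_bot_iff, subgroupOf_eq_bot] at h1
  have : P ≤ P ⊓ E := le_inf le_rfl (hPK.trans hKE)
  rw [h1.eq_bot] at this
  exact le_bot_iff.1 this

/-- Two subnormal subgroups acting irreducibly on their incomparable commutator modules, in a faithful group with trivial largest normal p-subgroup, generate their direct product, and the commutator module splits accordingly. -/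
theorem result {G : Type*} [Group G] [Finite G] {p : ℕ} [Fact p.Prime] (V E E₁ E₂ : Subgroup G) (hV : Cfsg.IsElementaryAbelian p V) (hEV : E ≤ Subgroup.normalizer (V : Set G)) (hf : E ⊓ Subgroup.centralizer (V : Set G) = ⊥) (hgen : E = E₁ ⊔ E₂) (hs₁ : (E₁.subgroupOf E).IsSubnormal) (hs₂ : (E₂.subgroupOf E).IsSubnormal) (hOp : Cfsg.pCore p ↥E = ⊥) (hirr₁ : (∀ U : Subgroup G, U ≤ ⁅V, E₁⁆ → E₁ ≤ Subgroup.normalizer (U : Set G) → U = ⊥ ∨ U = ⁅V, E₁⁆)) (hirr₂ : (∀ U : Subgroup G, U ≤ ⁅V, E₂⁆ → E₂ ≤ Subgroup.normalizer (U : Set G) → U = ⊥ ∨ U = ⁅V, E₂⁆)) (h12 : ¬ ⁅V, E₁⁆ ≤ ⁅V, E₂⁆) (h21 : ¬ ⁅V, E₂⁆ ≤ ⁅V, E₁⁆) (hc₁ : 2 < Nat.card E₁) (hc₂ : 2 < Nat.card E₂) : ⁅E₁, E₂⁆ = ⊥ ∧ E₁ ⊓ E₂ = ⊥ ∧ ⁅V, E₁⁆ ⊓ ⁅V, E₂⁆ = ⊥ ∧ ⁅V, E⁆ = ⁅V, E₁⁆ ⊔ ⁅V, E₂⁆ := by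
  have hE₁ : E₁ ≤ E := hgen ▸ le_sup_left
  have hE₂ : E₂ ≤ E := hgen ▸ le_sup_right
  have hV' : VHyp p V := by
    rw [Cfsg.Agent.Helper10.isElementaryAbelian_iff] at hV
    exact ⟨hV.1, hV.2⟩
  have hK : Irr p V E₁ :=
    { norm := hE₁.trans hEV
      faith := by
        rw [eq_bot_iff, ← hf]
        exact inf_le_inf_right _ hE₁
      irr := hirr₁
      noOp := noOp_of_isSubnormal hE₁ hs₁ hOp
      card := hc₁ }
  have hL : Irr p V E₂ :=
    { norm := hE₂.trans hEV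
      faith := by
        rw [eq_bot_iff, ← hf]
        exact inf_le_inf_right _ hE₂
      irr := hirr₂
      noOp := noOp_of_isSubnormal hE₂ hs₂ hOp
      card := hc₂ }
  subst hgen
  obtain ⟨hcomm, hinf⟩ := main hV' _ E₁ E₂ rfl hK hL hf hs₁ hs₂ h12 h21
  have hc12 : E₁ ≤ centralizer ((⁅V, E₂⁆ : Subgroup G) : Set G) :=
    le_centralizer_comm hK.norm hcomm hinf hL.norm
  have hc21 : E₂ ≤ centralizer ((⁅V, E₁⁆ : Subgroup G) : Set G) :=
    le_centralizer_comm hL.norm hcomm.symm (by rw [inf_comm]; exact hinf) hK.norm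
  refine ⟨?_, ?_, hinf, ?_⟩
  · rw [commutator_eq_bot_iff_le_centralizer]
    exact hcomm.le_centralizer
  · rw [eq_bot_iff]
    intro d hd
    obtain ⟨hd1, hd2⟩ := mem_inf.1 hd
    rw [← hf]
    refine mem_inf.2 ⟨hE₁ hd1, ?_⟩
    apply mem_centralizer_of_conj_eq
    intro v hv
    have h1 : v⁻¹ * (d * v * d⁻¹) ∈ ⁅V, E₁⁆ ⊓ ⁅V, E₂⁆ :=
      mem_inf.2 ⟨commElt_mem hv hd1, commElt_mem hv hd2⟩
    rw [hinf, mem_bot] at h1
    exact (inv_mul_eq_one.1 h1).symm
  · apply le_antisymm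
    · apply Cfsg.Agent.Helper47.commutator_sup_right_le le_sup_left le_sup_right
      · exact le_normalizer_sup_of hK.le_normalizer_comm
          (hc12.trans (centralizer_le_normalizer _))
      · exact le_normalizer_sup_of (hc21.trans (centralizer_le_normalizer _))
          hL.le_normalizer_comm
    · exact sup_le (commutator_mono le_rfl le_sup_left) (commutator_mono le_rfl le_sup_right)

end Cfsg.Agent.S0615
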