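import Cfsg.Statements.S0618
import Cfsg.Agent.Helper1.FFMain
import Cfsg.Agent.S0600
import Cfsg.Agent.S0601
import Cfsg.Agent.S0608

set_option autoImplicit false
open Cfsg

namespace Cfsg.Agent.S0618

/-- the centralizer of a union of subgroups is the centralizer of their join -/
theorem centralizer_iUnion_eq {G : Type*} [Group G] {ι : Sort*} (A : ι → Subgroup G) :
    Subgroup.centralizer (⨆ i, (A i : Set G)) = Subgroup.centralizer ((⨆ i, A i : Subgroup G) : Set G) := by
  apply le_antisymm
  · intro g hg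
    have h1 : Subgroup.zpowers g ≤ Subgroup.centralizer ((⨆ i, A i : Subgroup G) : Set G) := by
      rw [Subgroup.le_centralizer_iff]
      apply iSup_le
      intro i
      rw [← Subgroup.le_centralizer_iff, Subgroup.zpowers_le]
      exact Subgroup.centralizer_le (le_iSup (fun i => (A i : Set G)) i) hg
    exact h1 (Subgroup.mem_zpowers g)
  · apply Subgroup.centralizer_le
    apply iSup_le
    intro i
    exact SetLike.coe_subset_coe.2 (le_iSup A i)

/-- A p-separable group with trivial p'-core in which the Thompson factorization fails has p = 2 or 3, and J(G) induces on the normal closure of Ω₁(Z(S)) a group containing a normal SL(2, p). -/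
theorem result {G : Type*} [Group G] [Finite G] {p : ℕ} [Fact p.Prime] (hsep : Cfsg.IsPSolvable p G) (hO : Cfsg.pPrimeCore p G = ⊥) (hnf : ¬ Cfsg.IsThompsonFactorizable p G) : (p = 2 ∨ p = 3) ∧ ∃ E : Subgroup G, Subgroup.centralizer ((⨆ S : Sylow p G, Cfsg.omegaOne p ((S : Subgroup G) ⊓ Subgroup.centralizer ((S : Subgroup G) : Set G))) : Set G) ≤ E ∧ E ≤ Cfsg.thompsonSubgroup p G ⊔ Subgroup.centralizer ((⨆ S : Sylow p G, Cfsg.omegaOne p ((S : Subgroup G) ⊓ Subgroup.centralizer ((S : Subgroup G) : Set G))) : Set G) ∧ Cfsg.thompsonSubgroup p G ⊔ Subgroup.centralizer ((⨆ S : Sylow p G, Cfsg.omegaOne p ((S : Subgroup G) ⊓ Subgroup.centralizer ((S : Subgroup G) : Set G))) : Set G) ≤ Subgroup.normalizer (E : Set G) ∧ ∃ hn : ((Subgroup.centralizer ((⨆ S : Sylow p G, Cfsg.omegaOne p ((S : Subgroup G) ⊓ Subgroup.centralizer ((S : Subgroup G) : Set G))) : Set G)).subgroupOf E).Normal, Nonempty ((↥E ⧸ (Subgroup.centralizer ((⨆ S : Sylow p G, Cfsg.omegaOne p ((S : Subgroup G) ⊓ Subgroup.centralizer ((S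 : Subgroup G) : Set G))) : Set G)).subgroupOf E) ≃* Matrix.SpecialLinearGroup (Fin 2) (ZMod p)) := by
  have hc := Cfsg.Agent.Helper11.centralizer_pCore_le_of_isPSolvable hsep hO
  obtain ⟨hVn, hVe, -⟩ := Cfsg.Agent.S0601.result hc
  haveI := hVn
  have hgen : (⨆ S : Sylow p G, Cfsg.omegaOne p ((S : Subgroup G) ⊓ Subgroup.centralizer ((S : Subgroup G) : Set G))) =
      ⨆ S : Sylow p G, (⨆ S : Sylow p G, Cfsg.omegaOne p ((S : Subgroup G) ⊓ Subgroup.centralizer ((S : Subgroup G) : Set G))) ⊓
        Subgroup.centralizer ((S : Subgroup G) : Set G) := by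
    apply le_antisymm
    · apply iSup_le
      intro S
      refine le_trans (le_inf (le_iSup (fun S : Sylow p G => Cfsg.omegaOne p ((S : Subgroup G) ⊓
        Subgroup.centralizer ((S : Subgroup G) : Set G))) S) ?_)
        (le_iSup (fun S : Sylow p G => (⨆ S : Sylow p G, Cfsg.omegaOne p ((S : Subgroup G) ⊓
          Subgroup.centralizer ((S : Subgroup G) : Set G))) ⊓
          Subgroup.centralizer ((S : Subgroup G) : Set G)) S)
      unfold Cfsg.omegaOne
      rw [Subgroup.closure_le]
      intro x hx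
      exact (Subgroup.mem_inf.1 hx.1).2
    · exact iSup_le fun S => inf_le_left
  have hOq := Cfsg.Agent.S0600.result _ hVe hgen
  have hJ : ¬ Cfsg.thompsonSubgroup p G ≤ Subgroup.centralizer ((⨆ S : Sylow p G, Cfsg.omegaOne p
      ((S : Subgroup G) ⊓ Subgroup.centralizer ((S : Subgroup G) : Set G)) : Subgroup G) : Set G) :=
    fun h => hnf ((Cfsg.Agent.S0608.result hO).2 h)
  have key := Cfsg.Agent.Helper1.Hol.exists_SL2_section _ hsep hVe hOq hJ
  rw [centralizer_iUnion_eq]
  exact key

end Cfsg.Agent.S0618
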