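import Cfsg.Statements.S0626
import Cfsg.Agent.Helper97.QuadSection
import Cfsg.Agent.Helper63.Frattini
import Cfsg.Agent.Helper70.Regular

set_option autoImplicit false
set_option linter.style.haveILetI false
open Cfsg

namespace Cfsg.Agent.S0626

open Cfsg.Agent.Helper54.Quad Cfsg.Agent.Lib

/-- `Ω₁` of an abelian subgroup is abelian of exponent `p`. -/
theorem omegaOne_abelian {P : Type*} [Group P] (p : ℕ) (A : Subgroup P)
    (hA : ∀ x ∈ A, ∀ y ∈ A, x * y = y * x) :
    ∀ x ∈ Cfsg.omegaOne p A, x ∈ A ∧ x ^ p = 1 := by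
  intro x hx
  unfold Cfsg.omegaOne at hx
  induction hx using Subgroup.closure_induction with
  | mem x hx => exact hx
  | one => exact ⟨A.one_mem, one_pow _⟩
  | mul x y _ _ hx hy =>
    refine ⟨A.mul_mem hx.1 hy.1, ?_⟩
    have hc : Commute x y := hA x hx.1 y hy.1
    rw [hc.mul_pow, hx.2, hy.2, one_mul]
  | inv x _ hx => exact ⟨A.inv_mem hx.1, by rw [inv_pow, hx.2, inv_one]⟩


/-- For odd p, groups whose Sylow 2-subgroups are abelian are p-stable in the action sense. -/
theorem result {G : Type*} [Group G] [Finite G] {p : ℕ} [Fact p.Prime] (hp : p ≠ 2) (hab : ∀ T : Sylow 2 G, IsMulCommutative T) : Cfsg.IsActionPStable p G := by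
  refine ⟨?_, ?_, ?_⟩
  · -- normal elementary abelian subgroups
    intro V _ hV
    obtain ⟨hVc, hVe⟩ := hV
    apply Cfsg.Agent.Helper97.QuadSection.isPStableOn_of_comm_sylow_two hp default (hab default) V
    · intro u hu v hv
      have := hVc.is_comm.comm (⟨u, hu⟩ : V) ⟨v, hv⟩
      exact congrArg Subtype.val this
    · exact hVe
  · -- the Frattini quotient of `O_p(G)`
    haveI hKc : (Cfsg.pCore p G).Characteristic := pCore_characteristic p
    haveI hKn : (Cfsg.pCore p G).Normal := Subgroup.normal_of_characteristic _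
    have hKp : IsPGroup p (Cfsg.pCore p G) := isPGroup_pCore p
    have hNK : (frattini ↥(Cfsg.pCore p G)).map (Cfsg.pCore p G).subtype ≤ Cfsg.pCore p G := by
      rintro _ ⟨x, -, rfl⟩; exact x.2
    have hcomm : ⁅Cfsg.pCore p G, Cfsg.pCore p G⁆ ≤
        (frattini ↥(Cfsg.pCore p G)).map (Cfsg.pCore p G).subtype := by
      rw [← Subgroup.map_subtype_commutator]
      exact Subgroup.map_mono (Cfsg.Agent.Helper70.commutator_le_frattini hKp)
    have hpow : ∀ k ∈ Cfsg.pCore p G, k ^ p ∈
        (frattini ↥(Cfsg.pCore p G)).map (Cfsg.pCore p G).subtype := by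
      intro k hk
      exact ⟨⟨k, hk⟩ ^ p, Cfsg.Agent.Helper63.pow_prime_mem_frattini hKp ⟨k, hk⟩, rfl⟩
    exact Cfsg.Agent.Helper97.QuadSection.isPStableOnSection_of_comm_sylow_two hp default
      (hab default) (Cfsg.pCore p G) _ hNK hcomm hpow
  · -- normal subgroups of `N_G(J(S))` inside `Ω₁(Z(J(S)))`
    intro S V _ hV
    have hH : IsMulCommutative
        ((default : Sylow 2 ↥(Subgroup.normalizer (Cfsg.thompsonSubgroupOf p (S : Subgroup G) : Set G))) :
          Subgroup ↥(Subgroup.normalizer (Cfsg.thompsonSubgroupOf p (S : Subgroup G) : Set G))) :=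
      Cfsg.Agent.Helper97.QuadAct.sylow_two_subgroup_comm (default : Sylow 2 G) (hab default) _ _
    have hΩ := omegaOne_abelian p
      (Cfsg.thompsonSubgroup p ↥(S : Subgroup G) ⊓
        Subgroup.centralizer (Cfsg.thompsonSubgroup p ↥(S : Subgroup G) : Set ↥(S : Subgroup G)))
      (by
        intro x hx y hy
        have h1 := (Subgroup.mem_inf.mp hx).2
        rw [Subgroup.mem_centralizer_iff] at h1
        exact (h1 y (Subgroup.mem_inf.mp hy).1).symm)
    have hkey : ∀ v ∈ V, ∃ s : ↥(S : Subgroup G), s ∈ Cfsg.omegaCenterThompson p ↥(S : Subgroup G) ∧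
        (s : G) = ((v : ↥(Subgroup.normalizer (Cfsg.thompsonSubgroupOf p (S : Subgroup G) : Set G))) : G) := by
      intro v hv
      obtain ⟨s, hs, hsv⟩ := hV (Subgroup.mem_map_of_mem _ hv)
      exact ⟨s, hs, hsv⟩
    apply Cfsg.Agent.Helper97.QuadSection.isPStableOn_of_comm_sylow_two hp default hH V
    · intro u hu v hv
      obtain ⟨s, hs, hsu⟩ := hkey u hu
      obtain ⟨t, ht, htv⟩ := hkey v hv
      apply Subtype.ext
      push_cast
      rw [← hsu, ← htv]
      have h1 := (hΩ s hs).1
      have h2 := (hΩ t ht).1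
      have h3 := (Subgroup.mem_inf.mp h1).2
      rw [Subgroup.mem_centralizer_iff] at h3
      have h4 := h3 t (Subgroup.mem_inf.mp h2).1
      have := congrArg Subtype.val h4
      push_cast at this
      exact this.symm
    · intro v hv
      obtain ⟨s, hs, hsv⟩ := hkey v hv
      apply Subtype.ext
      push_cast
      rw [← hsv]
      have h1 := (hΩ s hs).2
      have := congrArg Subtype.val h1
      push_cast at this
      exact this


end Cfsg.Agent.S0626
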