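import Cfsg.Statements.S0629
import Cfsg.Agent.Helper11.PSolvable
import Cfsg.Agent.Helper54.PConstrained2

set_option autoImplicit false
open Cfsg

namespace Cfsg.Agent.S0629

open Cfsg.Agent.Helper11 Cfsg.Agent.Lib

/-- A group in which the centralizer of a Sylow p-subgroup of O_{p',p}(G) is p-solvable is p-constrained. -/
theorem result {G : Type*} [Group G] [Finite G] {p : ℕ} [Fact p.Prime] (P : Sylow p ↥(Cfsg.pPrimePCore p G)) (hsol : Cfsg.IsPSolvable p ↥(Subgroup.centralizer (((P : Subgroup ↥(Cfsg.pPrimePCore p G)).map (Cfsg.pPrimePCore p G).subtype : Subgroup G) : Set G))) : Cfsg.IsPConstrained p G := by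
  rw [Cfsg.Agent.Helper54.isPConstrained_iff]
  set K := pPrimeCore p G with hK
  set π := QuotientGroup.mk' K with hπ
  set P' : Subgroup G := (P : Subgroup ↥(Cfsg.pPrimePCore p G)).map (Cfsg.pPrimePCore p G).subtype with hP'
  have hP'p : IsPGroup p P' := P.isPGroup'.map _
  have hPbar : P'.map π = pCore p (G ⧸ K) := Cfsg.Agent.Helper54.map_sylow_pPrimePCore P
  have hKc : (Nat.card π.ker).Coprime p := by
    rw [hπ, QuotientGroup.ker_mk']
    exact card_pPrimeCore_coprime p
  have hO : pPrimeCore p (G ⧸ K) = ⊥ := Cfsg.Agent.Helper54.pPrimeCore_quotient_eq_bot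
  -- the centralizer of P̄ is the image of the centralizer of P'
  have hCmap : Subgroup.centralizer (pCore p (G ⧸ K) : Set (G ⧸ K)) =
      (Subgroup.centralizer (P' : Set G)).map π := by
    apply le_antisymm
    · intro y hy
      obtain ⟨x, rfl⟩ := QuotientGroup.mk'_surjective K y
      rw [← hPbar] at hy
      obtain ⟨g, hg, hgx⟩ := Cfsg.Agent.Helper54.exists_mem_centralizer_map_eq π hKc P' hP'p x hy
      exact ⟨g, hg, hgx⟩
    · rintro _ ⟨c, hc, rfl⟩
      rw [← hPbar, Subgroup.mem_centralizer_iff]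
      rintro _ ⟨t, ht, rfl⟩
      rw [← map_mul, ← map_mul, Subgroup.mem_centralizer_iff.mp hc t ht]
  -- so it is p-solvable
  obtain ⟨C, hC⟩ : ∃ C : Subgroup (G ⧸ K), C = Subgroup.centralizer (pCore p (G ⧸ K) : Set (G ⧸ K)) := ⟨_, rfl⟩
  rw [← hC]
  have hCn : C.Normal := by rw [hC]; exact Subgroup.normal_centralizer
  have hCsol : IsPSolvable p ↥C := by
    rw [hC, hCmap]
    exact isPSolvable_of_surjective _ (π.subgroupMap_surjective _) hsol
  -- cores of C
  have hOC : pPrimeCore p ↥C = ⊥ := Cfsg.Agent.Helper54.pPrimeCore_eq_bot_of_normal C hO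
  have hHH := centralizer_pCore_le_of_isPSolvable hCsol hOC
  -- O_p(C) is central in C
  have hcent : Subgroup.centralizer (pCore p ↥C : Set ↥C) = ⊤ := by
    rw [eq_top_iff]
    intro c _
    rw [Subgroup.mem_centralizer_iff]
    intro z hz
    have hz' : (z : G ⧸ K) ∈ pCore p (G ⧸ K) :=
      Cfsg.Agent.Helper54.map_pCore_subtype_le C ⟨z, hz, rfl⟩
    have hc' : (c : G ⧸ K) ∈ Subgroup.centralizer (pCore p (G ⧸ K) : Set (G ⧸ K)) := by
      rw [← hC]; exact c.2
    exact Subtype.ext (Subgroup.mem_centralizer_iff.mp hc' z hz')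
  rw [hcent] at hHH
  -- so C is a p-group
  have hCp : IsPGroup p ↥C := by
    have h1 : pCore p ↥C = ⊤ := top_le_iff.mp hHH
    have h2 := isPGroup_pCore (G := ↥C) p
    rw [h1] at h2
    exact h2.of_equiv Subgroup.topEquiv
  exact le_pCore hCn hCp

end Cfsg.Agent.S0629
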