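import Cfsg.Statements.S0632
import Cfsg.Agent.Helper54.PConstrained
import Cfsg.Agent.Helper31.LocalCore

set_option autoImplicit false
set_option linter.style.haveILetI false
open Cfsg

namespace Cfsg.Agent.S0632

open Cfsg.Agent.Helper54

variable {G : Type*} [Group G]

/-- The conclusion of `p`-stability for a pair `(A, P)`. -/
def Cond (p : ℕ) (A P : Subgroup G) : Prop :=
  (A.subgroupOf (Subgroup.normalizer (P : Set G))).map
      (QuotientGroup.mk' ((Subgroup.centralizer (P : Set G)).subgroupOf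
        (Subgroup.normalizer (P : Set G))))
    ≤ pCore p (↥(Subgroup.normalizer (P : Set G)) ⧸
        ((Subgroup.centralizer (P : Set G)).subgroupOf (Subgroup.normalizer (P : Set G))))

/-- An internal witness for `Cond`. -/
def Wit (p : ℕ) (A P : Subgroup G) : Prop :=
  ∃ D : Subgroup G, Subgroup.centralizer (P : Set G) ≤ D ∧ D ≤ Subgroup.normalizer (P : Set G) ∧
    (∀ n ∈ Subgroup.normalizer (P : Set G), ∀ d ∈ D, n * d * n⁻¹ ∈ D) ∧
    (∀ d ∈ D, ∃ k : ℕ, d ^ p ^ k ∈ Subgroup.centralizer (P : Set G)) ∧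
    A ⊓ Subgroup.normalizer (P : Set G) ≤ D

theorem cond_iff_wit {p : ℕ} [Fact p.Prime] (A P : Subgroup G) : Cond p A P ↔ Wit p A P := by
  constructor
  · intro h
    refine ⟨((pCore p (↥(Subgroup.normalizer (P : Set G)) ⧸
        ((Subgroup.centralizer (P : Set G)).subgroupOf (Subgroup.normalizer (P : Set G))))).comap
        (QuotientGroup.mk' ((Subgroup.centralizer (P : Set G)).subgroupOf
          (Subgroup.normalizer (P : Set G))))).map (Subgroup.normalizer (P : Set G)).subtype,
      ?_, ?_, ?_, ?_, ?_⟩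
    · intro c hc
      have hcN : c ∈ Subgroup.normalizer (P : Set G) := Subgroup.centralizer_le_normalizer _ hc
      refine ⟨⟨c, hcN⟩, ?_, rfl⟩
      rw [SetLike.mem_coe, Subgroup.mem_comap]
      have : QuotientGroup.mk' ((Subgroup.centralizer (P : Set G)).subgroupOf
          (Subgroup.normalizer (P : Set G))) ⟨c, hcN⟩ = 1 := by
        rw [QuotientGroup.mk'_apply, QuotientGroup.eq_one_iff, Subgroup.mem_subgroupOf]
        exact hc
      rw [this]
      exact Subgroup.one_mem _
    · exact Subgroup.map_subtype_le _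
    · rintro n hn _ ⟨y, hy, rfl⟩
      refine ⟨⟨n, hn⟩ * y * ⟨n, hn⟩⁻¹, ?_, rfl⟩
      rw [SetLike.mem_coe, Subgroup.mem_comap] at hy ⊢
      rw [map_mul, map_mul, map_inv]
      exact (inferInstance : (pCore p _).Normal).conj_mem _ hy _
    · rintro _ ⟨y, hy, rfl⟩
      rw [SetLike.mem_coe, Subgroup.mem_comap] at hy
      have hQ : IsPGroup p (pCore p (↥(Subgroup.normalizer (P : Set G)) ⧸
        ((Subgroup.centralizer (P : Set G)).subgroupOf (Subgroup.normalizer (P : Set G))))) :=
        Cfsg.Agent.Lib.isPGroup_pCore p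
      obtain ⟨k, hk⟩ := hQ ⟨_, hy⟩
      refine ⟨k, ?_⟩
      have hk' := congrArg Subtype.val hk
      simp only [Subgroup.coe_pow, Subgroup.coe_one] at hk'
      rw [← map_pow, QuotientGroup.mk'_apply, QuotientGroup.eq_one_iff,
        Subgroup.mem_subgroupOf] at hk'
      simpa using hk'
    · intro a ha
      obtain ⟨haA, haN⟩ := Subgroup.mem_inf.mp ha
      refine ⟨⟨a, haN⟩, ?_, rfl⟩
      rw [SetLike.mem_coe, Subgroup.mem_comap]
      apply h
      exact Subgroup.mem_map_of_mem _ (Subgroup.mem_subgroupOf.mpr haA)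
  · rintro ⟨D, hCD, hDN, hnorm, hpow, hAD⟩
    have hDn : (D.subgroupOf (Subgroup.normalizer (P : Set G))).Normal := by
      constructor
      intro d hd n
      rw [Subgroup.mem_subgroupOf] at hd ⊢
      exact hnorm n n.2 d hd
    have hD'n : ((D.subgroupOf (Subgroup.normalizer (P : Set G))).map
        (QuotientGroup.mk' ((Subgroup.centralizer (P : Set G)).subgroupOf
          (Subgroup.normalizer (P : Set G))))).Normal :=
      Subgroup.Normal.map hDn _ (QuotientGroup.mk'_surjective _)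
    have hD'p : IsPGroup p ((D.subgroupOf (Subgroup.normalizer (P : Set G))).map
        (QuotientGroup.mk' ((Subgroup.centralizer (P : Set G)).subgroupOf
          (Subgroup.normalizer (P : Set G))))) := by
      rintro ⟨_, y, hy, rfl⟩
      rw [SetLike.mem_coe, Subgroup.mem_subgroupOf] at hy
      obtain ⟨k, hk⟩ := hpow _ hy
      refine ⟨k, ?_⟩
      apply Subtype.ext
      simp only [Subgroup.coe_pow, Subgroup.coe_one]
      rw [← map_pow, QuotientGroup.mk'_apply, QuotientGroup.eq_one_iff, Subgroup.mem_subgroupOf]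
      simpa using hk
    have hle := Cfsg.Agent.Lib.le_pCore hD'n hD'p
    refine le_trans (Subgroup.map_mono ?_) hle
    intro a ha
    rw [Subgroup.mem_subgroupOf] at ha ⊢
    exact hAD (Subgroup.mem_inf.mpr ⟨ha, a.2⟩)

/-- If `x` normalizes the `p`-subgroup `P` and `π x` centralizes `π P`, where `ker π` is a `p'`-group,
then `x` centralizes `P`. -/
theorem mem_centralizer_of_map_mem [Finite G] {p : ℕ} [hp : Fact p.Prime] {H : Type*} [Group H]
    (π : G →* H) (hker : (Nat.card π.ker).Coprime p) (P : Subgroup G) (hP : IsPGroup p P) {x : G}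
    (hx : x ∈ Subgroup.normalizer (P : Set G))
    (hπx : π x ∈ Subgroup.centralizer ((P.map π : Subgroup H) : Set H)) :
    x ∈ Subgroup.centralizer (P : Set G) := by
  rw [Subgroup.mem_centralizer_iff]
  intro t ht
  have h1 : x * t * x⁻¹ * t⁻¹ ∈ P :=
    P.mul_mem ((Subgroup.mem_normalizer_iff.mp hx t).mp ht) (P.inv_mem ht)
  have h2 : x * t * x⁻¹ * t⁻¹ ∈ π.ker := by
    rw [MonoidHom.mem_ker, map_mul, map_mul, map_mul, map_inv, map_inv]
    have h3 := (Subgroup.mem_centralizer_iff.mp hπx) (π t) (Subgroup.mem_map_of_mem _ ht)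
    rw [← h3]; group
  have h4 : x * t * x⁻¹ * t⁻¹ = 1 :=
    Cfsg.Agent.Helper49.eq_one_of_mem_pGroup_of_coprime hP h1 (orderOf_coprime_of_mem hker h2)
  have h5 := mul_inv_eq_one.mp h4
  exact (mul_inv_eq_iff_eq_mul.mp h5).symm

/-- Pulling back a witness along a homomorphism with `p'`-kernel. -/
theorem wit_of_map [Finite G] {p : ℕ} [hp : Fact p.Prime] {H : Type*} [Group H]
    (π : G →* H) (hker : (Nat.card π.ker).Coprime p) (A P : Subgroup G) (hP : IsPGroup p P)
    (h : Wit p (A.map π) (P.map π)) : Wit p A P := by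
  obtain ⟨D, hCD, hDN, hnorm, hpow, hAD⟩ := h
  have hNN : ∀ n ∈ Subgroup.normalizer (P : Set G),
      π n ∈ Subgroup.normalizer ((P.map π : Subgroup H) : Set H) :=
    fun n hn => Subgroup.le_normalizer_map π (Subgroup.mem_map_of_mem _ hn)
  refine ⟨D.comap π ⊓ Subgroup.normalizer (P : Set G), ?_, inf_le_right, ?_, ?_, ?_⟩
  · intro c hc
    refine Subgroup.mem_inf.mpr ⟨?_, Subgroup.centralizer_le_normalizer _ hc⟩
    rw [Subgroup.mem_comap]
    apply hCD
    rw [Subgroup.mem_centralizer_iff]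
    rintro _ ⟨t, ht, rfl⟩
    rw [← map_mul, ← map_mul, (Subgroup.mem_centralizer_iff.mp hc) t ht]
  · intro n hn d hd
    obtain ⟨hd1, hd2⟩ := Subgroup.mem_inf.mp hd
    refine Subgroup.mem_inf.mpr ⟨?_, ?_⟩
    · rw [Subgroup.mem_comap, map_mul, map_mul, map_inv]
      exact hnorm _ (hNN n hn) _ hd1
    · exact Subgroup.mul_mem _ (Subgroup.mul_mem _ hn hd2) (Subgroup.inv_mem _ hn)
  · intro d hd
    obtain ⟨hd1, hd2⟩ := Subgroup.mem_inf.mp hd
    obtain ⟨k, hk⟩ := hpow _ hd1
    refine ⟨k, ?_⟩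
    apply mem_centralizer_of_map_mem π hker P hP (Subgroup.pow_mem _ hd2 _)
    rw [map_pow]; exact hk
  · intro a ha
    obtain ⟨haA, haN⟩ := Subgroup.mem_inf.mp ha
    refine Subgroup.mem_inf.mpr ⟨?_, haN⟩
    rw [Subgroup.mem_comap]
    exact hAD (Subgroup.mem_inf.mpr ⟨Subgroup.mem_map_of_mem _ haA, hNN a haN⟩)

/-- Pushing a witness forward along a surjective homomorphism with `p'`-kernel. -/
theorem wit_map [Finite G] {p : ℕ} [hp : Fact p.Prime] {H : Type*} [Group H]
    (π : G →* H) (hπ : Function.Surjective π) (hker : (Nat.card π.ker).Coprime p)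
    (A P : Subgroup G) (hP : IsPGroup p P) (hAP : A ≤ Subgroup.normalizer (P : Set G))
    (h : Wit p A P) : Wit p (A.map π) (P.map π) := by
  obtain ⟨D, hCD, hDN, hnorm, hpow, hAD⟩ := h
  refine ⟨D.map π, ?_, ?_, ?_, ?_, ?_⟩
  · intro c hc
    obtain ⟨g₀, rfl⟩ := hπ c
    obtain ⟨g, hg, hgc⟩ := exists_mem_centralizer_map_eq π hker P hP g₀ hc
    rw [← hgc]
    exact Subgroup.mem_map_of_mem _ (hCD hg)
  · exact (Subgroup.map_mono hDN).trans (Subgroup.le_normalizer_map π)
  · rintro n hn _ ⟨d, hd, rfl⟩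
    obtain ⟨g₀, rfl⟩ := hπ n
    obtain ⟨g, hg, hgn⟩ := exists_mem_normalizer_map_eq π hker P hP g₀ hn
    rw [← hgn, ← map_inv, ← map_mul, ← map_mul]
    exact Subgroup.mem_map_of_mem _ (hnorm g hg d hd)
  · rintro _ ⟨d, hd, rfl⟩
    obtain ⟨k, hk⟩ := hpow d hd
    refine ⟨k, ?_⟩
    rw [← map_pow, Subgroup.mem_centralizer_iff]
    rintro _ ⟨t, ht, rfl⟩
    rw [← map_mul, ← map_mul, (Subgroup.mem_centralizer_iff.mp hk) t ht]
  · rintro _ ha
    obtain ⟨⟨a, haA, rfl⟩, _⟩ := Subgroup.mem_inf.mp ha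
    exact Subgroup.mem_map_of_mem _ (hAD (Subgroup.mem_inf.mpr ⟨haA, hAP haA⟩))

/-- Lifting a pair of `p`-subgroups, one normalizing the other, through a surjection with
`p'`-kernel. -/
theorem exists_lift [Finite G] {p : ℕ} [hp : Fact p.Prime] {H : Type*} [Group H]
    (π : G →* H) (hπ : Function.Surjective π)
    (A' P' : Subgroup H) (hA' : IsPGroup p A') (hP' : IsPGroup p P')
    (hnorm : A' ≤ Subgroup.normalizer (P' : Set H)) :
    ∃ S A P : Subgroup G, IsPGroup p S ∧ A ≤ S ∧ P ≤ S ∧ A.map π = A' ∧ P.map π = P' ∧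
      A ≤ Subgroup.normalizer (P : Set G) := by
  have hL' : IsPGroup p (A' ⊔ P' : Subgroup H) := hA'.to_sup_of_normal_right' hP' hnorm
  obtain ⟨S₀, -⟩ := (IsPGroup.of_bot : IsPGroup p (⊥ : Subgroup ↥((A' ⊔ P').comap π))).exists_le_sylow
  let f : ↥((A' ⊔ P').comap π) →* ↥(A' ⊔ P' : Subgroup H) := π.subgroupComap (A' ⊔ P')
  have hf : Function.Surjective f :=
    MonoidHom.subgroupComap_surjective_of_surjective _ _ hπ
  have htop : ((S₀.mapSurjective hf : Sylow p ↥(A' ⊔ P' : Subgroup H)) :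
      Subgroup ↥(A' ⊔ P' : Subgroup H)) = ⊤ := by
    have hT : IsPGroup p (⊤ : Subgroup ↥(A' ⊔ P' : Subgroup H)) := hL'.to_subgroup ⊤
    exact ((S₀.mapSurjective hf).3 hT le_top).symm
  have hSp : IsPGroup p ((S₀ : Subgroup ↥((A' ⊔ P').comap π)).map
      ((A' ⊔ P').comap π).subtype) := S₀.isPGroup'.map _
  -- every element of `A' ⊔ P'` is the image of an element of `S`
  have hsurj : ∀ x' ∈ A' ⊔ P', ∃ s ∈ (S₀ : Subgroup ↥((A' ⊔ P').comap π)).map
      ((A' ⊔ P').comap π).subtype, π s = x' := by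
    intro x' hx'
    have h1 : (⟨x', hx'⟩ : ↥(A' ⊔ P' : Subgroup H)) ∈
        ((S₀.mapSurjective hf : Sylow p ↥(A' ⊔ P' : Subgroup H)) :
          Subgroup ↥(A' ⊔ P' : Subgroup H)) := by
      rw [htop]; exact Subgroup.mem_top _
    rw [Sylow.coe_mapSurjective] at h1
    obtain ⟨y, hy, hyx⟩ := h1
    refine ⟨(y : G), ⟨y, hy, rfl⟩, ?_⟩
    exact congrArg Subtype.val hyx
  refine ⟨_, (S₀ : Subgroup ↥((A' ⊔ P').comap π)).map ((A' ⊔ P').comap π).subtype ⊓ A'.comap π,
    (S₀ : Subgroup ↥((A' ⊔ P').comap π)).map ((A' ⊔ P').comap π).subtype ⊓ P'.comap π,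
    hSp, inf_le_left, inf_le_left, ?_, ?_, ?_⟩
  · apply le_antisymm
    · rintro _ ⟨a, ha, rfl⟩
      exact (Subgroup.mem_inf.mp ha).2
    · intro x' hx'
      obtain ⟨s, hs, rfl⟩ := hsurj x' (Subgroup.mem_sup_left hx')
      exact Subgroup.mem_map_of_mem _ (Subgroup.mem_inf.mpr ⟨hs, hx'⟩)
  · apply le_antisymm
    · rintro _ ⟨a, ha, rfl⟩
      exact (Subgroup.mem_inf.mp ha).2
    · intro x' hx'
      obtain ⟨s, hs, rfl⟩ := hsurj x' (Subgroup.mem_sup_right hx')
      exact Subgroup.mem_map_of_mem _ (Subgroup.mem_inf.mpr ⟨hs, hx'⟩)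
  · have key : ∀ a ∈ (S₀ : Subgroup ↥((A' ⊔ P').comap π)).map ((A' ⊔ P').comap π).subtype ⊓
        A'.comap π, ∀ x ∈ (S₀ : Subgroup ↥((A' ⊔ P').comap π)).map
          ((A' ⊔ P').comap π).subtype ⊓ P'.comap π,
        a * x * a⁻¹ ∈ (S₀ : Subgroup ↥((A' ⊔ P').comap π)).map
          ((A' ⊔ P').comap π).subtype ⊓ P'.comap π := by
      intro a ha x hx
      obtain ⟨ha1, ha2⟩ := Subgroup.mem_inf.mp ha
      obtain ⟨hx1, hx2⟩ := Subgroup.mem_inf.mp hx
      refine Subgroup.mem_inf.mpr ⟨Subgroup.mul_mem _ (Subgroup.mul_mem _ ha1 hx1)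
        (Subgroup.inv_mem _ ha1), ?_⟩
      rw [Subgroup.mem_comap, map_mul, map_mul, map_inv]
      exact (Subgroup.mem_normalizer_iff.mp (hnorm ha2) _).mp hx2
    intro a ha
    rw [Subgroup.mem_normalizer_iff]
    intro x
    constructor
    · exact key a ha x
    · intro hx
      have := key a⁻¹ (Subgroup.inv_mem _ ha) _ hx
      simpa [mul_assoc] using this

/-- For a finite group: `A` normalizes `P` as soon as it conjugates `P` into `P`. -/
theorem le_normalizer_of_conj_mem {A P : Subgroup G} (h : ∀ a ∈ A, ∀ x ∈ P, a * x * a⁻¹ ∈ P) :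
    A ≤ Subgroup.normalizer (P : Set G) := by
  intro a ha
  rw [Subgroup.mem_normalizer_iff]
  intro x
  constructor
  · exact h a ha x
  · intro hx
    have := h a⁻¹ (A.inv_mem ha) _ hx
    simpa [mul_assoc] using this

/-- For a group with a nontrivial normal p-subgroup, p-stability passes to and from the quotient by the largest normal subgroup of order prime to p. -/
theorem result {G : Type*} [Group G] [Finite G] {p : ℕ} [Fact p.Prime] (hO : Cfsg.pCore p G ≠ ⊥) : Cfsg.IsPStable p G ↔ Cfsg.IsPStable p (G ⧸ Cfsg.pPrimeCore p G) := by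
  have hKc : (Nat.card (pPrimeCore p G)).Coprime p := Cfsg.Agent.Lib.card_pPrimeCore_coprime p
  have hker : (QuotientGroup.mk' (pPrimeCore p G)).ker = pPrimeCore p G := QuotientGroup.ker_mk' _
  have hkerc : (Nat.card (QuotientGroup.mk' (pPrimeCore p G)).ker).Coprime p := by
    rw [hker]; exact hKc
  have hπ : Function.Surjective (QuotientGroup.mk' (pPrimeCore p G)) :=
    QuotientGroup.mk'_surjective _
  have hbot : pPrimeCore p (G ⧸ pPrimeCore p G) = ⊥ := pPrimeCore_quotient_eq_bot
  constructor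
  · intro h
    refine ⟨h.1, ?_, ?_⟩
    · intro hQ
      apply hO
      have h1 : (pCore p G).map (QuotientGroup.mk' (pPrimeCore p G)) ≤
          pCore p (G ⧸ pPrimeCore p G) := by
        have hn : ((pCore p G).map (QuotientGroup.mk' (pPrimeCore p G))).Normal :=
          Subgroup.Normal.map inferInstance _ hπ
        exact Cfsg.Agent.Lib.le_pCore hn ((Cfsg.Agent.Lib.isPGroup_pCore p).map _)
      rw [hQ, le_bot_iff, Subgroup.map_eq_bot_iff, hker] at h1
      have h2 : pCore p G ≤ pCore p G ⊓ pPrimeCore p G := le_inf le_rfl h1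
      rw [Cfsg.Agent.Lib.pCore_inf_pPrimeCore] at h2
      exact le_bot_iff.mp h2
    · intro A' P' hA' hP' hnorm' _ hPn' hcomm'
      obtain ⟨S, A, P, hSp, hAS, hPS, hAmap, hPmap, hAP⟩ := exists_lift
        (QuotientGroup.mk' (pPrimeCore p G)) hπ A' P' hA' hP' (le_normalizer_of_conj_mem hnorm')
      have hP'n : P'.Normal := by
        rw [hbot, bot_sup_eq] at hPn'; exact hPn'
      have hAp : IsPGroup p A := hSp.to_le hAS
      have hPp : IsPGroup p P := hSp.to_le hPS
      have hcond : Cond p A P := by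
        apply h.2.2 A P hAp hPp
        · intro a ha x hx
          exact (Subgroup.mem_normalizer_iff.mp (hAP ha) x).mp hx
        · intro x hx
          unfold pPrimePCore
          rw [Subgroup.mem_comap]
          have h1 : QuotientGroup.mk' (pPrimeCore p G) x ∈ P' := by
            rw [← hPmap]; exact Subgroup.mem_map_of_mem _ hx
          exact Cfsg.Agent.Lib.le_pCore hP'n hP' h1
        · have h1 : pPrimeCore p G ⊔ P = P'.comap (QuotientGroup.mk' (pPrimeCore p G)) := by
            rw [← hPmap, Subgroup.comap_map_eq, hker, sup_comm]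
          rw [h1]
          infer_instance
        · rw [eq_bot_iff]
          intro x hx
          have hxS : x ∈ S := by
            have h1 : ⁅⁅P, A⁆, A⁆ ≤ ⁅⁅S, S⁆, S⁆ :=
              Subgroup.commutator_mono (Subgroup.commutator_mono hPS hAS) hAS
            have h2 : ⁅⁅S, S⁆, S⁆ ≤ S :=
              (Subgroup.commutator_mono (Subgroup.commutator_le_self S) le_rfl).trans
                (Subgroup.commutator_le_self S)
            exact h2 (h1 hx)
          have hxK : x ∈ (QuotientGroup.mk' (pPrimeCore p G)).ker := by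
            have h1 : QuotientGroup.mk' (pPrimeCore p G) x ∈
                (⁅⁅P, A⁆, A⁆).map (QuotientGroup.mk' (pPrimeCore p G)) :=
              Subgroup.mem_map_of_mem _ hx
            rw [Subgroup.map_commutator, Subgroup.map_commutator, hPmap, hAmap, hcomm',
              Subgroup.mem_bot] at h1
            exact h1
          rw [Subgroup.mem_bot]
          exact Cfsg.Agent.Helper49.eq_one_of_mem_pGroup_of_coprime hSp hxS
            (orderOf_coprime_of_mem hkerc hxK)
      have hw : Wit p A P := (cond_iff_wit A P).mp hcond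
      have hw' := wit_map (QuotientGroup.mk' (pPrimeCore p G)) hπ hkerc A P hPp hAP hw
      rw [hAmap, hPmap] at hw'
      exact (cond_iff_wit A' P').mpr hw'
  · intro h
    refine ⟨h.1, hO, ?_⟩
    intro A P hAp hPp hnorm _ hPn hcomm
    have hPn' : (P.map (QuotientGroup.mk' (pPrimeCore p G))).Normal := by
      have h1 : ((pPrimeCore p G ⊔ P).map (QuotientGroup.mk' (pPrimeCore p G))).Normal :=
        Subgroup.Normal.map hPn _ hπ
      have h2 : (pPrimeCore p G).map (QuotientGroup.mk' (pPrimeCore p G)) = ⊥ := by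
        rw [Subgroup.map_eq_bot_iff, hker]
      rw [Subgroup.map_sup, h2, bot_sup_eq] at h1
      exact h1
    have hcond : Cond p (A.map (QuotientGroup.mk' (pPrimeCore p G)))
        (P.map (QuotientGroup.mk' (pPrimeCore p G))) := by
      apply h.2.2 _ _ (hAp.map _) (hPp.map _)
      · rintro _ ⟨a, ha, rfl⟩ _ ⟨x, hx, rfl⟩
        rw [← map_inv, ← map_mul, ← map_mul]
        exact Subgroup.mem_map_of_mem _ (hnorm a ha x hx)
      · exact Cfsg.Agent.Helper31.le_pPrimePCore_of_normal_pGroup _ (hPp.map _)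
      · rw [hbot, bot_sup_eq]; exact hPn'
      · rw [← Subgroup.map_commutator, ← Subgroup.map_commutator, hcomm, Subgroup.map_bot]
    have hw := (cond_iff_wit _ _).mp hcond
    have hw' := wit_of_map (QuotientGroup.mk' (pPrimeCore p G)) hkerc A P hPp hw
    exact (cond_iff_wit A P).mpr hw'

end Cfsg.Agent.S0632
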