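import Cfsg.Statements.S0633
import Cfsg.Agent.Helper64.HHBCore
import Cfsg.Agent.Helper64.HHBReduce

set_option autoImplicit false
open Cfsg

namespace Cfsg.Agent.S0633

open Cfsg.Agent.Helper64 Module TensorProduct

section build

variable {F : Type*} [Field F] {V : Type*} [AddCommGroup V] [Module F V]
  {G : Type*} [Group G] [Finite G]

/-- The base-change homomorphism as a monoid homomorphism. -/
noncomputable def bcHom (F : Type*) [Field F] (K : Type*) [Field K] [Algebra F K] (V : Type*)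
    [AddCommGroup V] [Module F V] : Module.End F V →* Module.End K (K ⊗[F] V) :=
  (Module.End.baseChangeHom F K V : Module.End F V →* Module.End K (K ⊗[F] V))

theorem bcHom_injective (K : Type*) [Field K] [Algebra F K] :
    Function.Injective (bcHom F K V) :=
  LinearMap.baseChangeHom_injective F V K

theorem bcHom_sub_one_pow (K : Type*) [Field K] [Algebra F K] (A : Module.End F V) (r : ℕ)
    (h : (A - 1) ^ r = 0) : (bcHom F K V A - 1) ^ r = 0 := by
  have h1 : bcHom F K V A - 1 = Module.End.baseChangeHom F K V (A - 1) := by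
    rw [map_sub, map_one]; rfl
  rw [h1, ← map_pow, h, map_zero]

theorem conj_inv_mem (x : G) (Q₀ : Subgroup G) (hinv : ∀ u ∈ Q₀, x * u * x⁻¹ ∈ Q₀) :
    ∀ g ∈ Q₀, (MulAut.conj x) g ∈ Q₀ := fun u hu => by
  rw [MulAut.conj_apply]; exact hinv u hu

/-- Build the Hall–Higman data from a linear action of `G`, an element `x` and an `x`-invariant
subgroup. -/
noncomputable def mkData (K : Type*) [Field K] [Algebra F K] (ι : G →* Module.End F V) (x : G)
    (o : ℕ) (hxo : x ^ o = 1) (Q₀ : Subgroup G) (hinv : ∀ u ∈ Q₀, x * u * x⁻¹ ∈ Q₀) :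
    HHData K Q₀ (K ⊗[F] V) o where
  ρ := ((bcHom F K V).comp ι).comp Q₀.subtype
  α := HHData.autRestrict (MulAut.conj x) Q₀ (conj_inv_mem x Q₀ hinv)
  X := bcHom F K V (ι x)
  X' := bcHom F K V (ι x⁻¹)
  hXX' := by rw [← map_mul, ← map_mul, mul_inv_cancel, map_one, map_one]
  hX'X := by rw [← map_mul, ← map_mul, inv_mul_cancel, map_one, map_one]
  hα g := by
    show bcHom F K V (ι x) * bcHom F K V (ι (g : G)) * bcHom F K V (ι x⁻¹)
      = bcHom F K V (ι ((HHData.autRestrict (MulAut.conj x) Q₀ (conj_inv_mem x Q₀ hinv) g : Q₀) : G))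
    rw [HHData.autRestrict_apply, MulAut.conj_apply, map_mul, map_mul, map_mul, map_mul]
  hαo := by
    apply MulEquiv.ext; intro g
    apply Subtype.ext
    rw [HHData.autRestrict_pow_apply, ← map_pow, hxo, map_one]; rfl
  hXo := by rw [← map_pow, ← map_pow, hxo, map_one, map_one]

theorem mkData_ρ (K : Type*) [Field K] [Algebra F K] (ι : G →* Module.End F V) (x : G)
    (o : ℕ) (hxo : x ^ o = 1) (Q₀ : Subgroup G) (hinv : ∀ u ∈ Q₀, x * u * x⁻¹ ∈ Q₀) (g : Q₀) :
    (mkData K ι x o hxo Q₀ hinv).ρ g = bcHom F K V (ι (g : G)) := rfl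

theorem mkData_X (K : Type*) [Field K] [Algebra F K] (ι : G →* Module.End F V) (x : G)
    (o : ℕ) (hxo : x ^ o = 1) (Q₀ : Subgroup G) (hinv : ∀ u ∈ Q₀, x * u * x⁻¹ ∈ Q₀) :
    (mkData K ι x o hxo Q₀ hinv).X = bcHom F K V (ι x) := rfl

theorem mkData_α_pow (K : Type*) [Field K] [Algebra F K] (ι : G →* Module.End F V) (x : G)
    (o : ℕ) (hxo : x ^ o = 1) (Q₀ : Subgroup G) (hinv : ∀ u ∈ Q₀, x * u * x⁻¹ ∈ Q₀) (k : ℕ)
    (g : Q₀) :
    ((((mkData K ι x o hxo Q₀ hinv).α ^ k) g : Q₀) : G) = x ^ k * (g : G) * (x ^ k)⁻¹ := by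
  show (((HHData.autRestrict (MulAut.conj x) Q₀ (conj_inv_mem x Q₀ hinv)) ^ k) g : G) = _
  rw [HHData.autRestrict_pow_apply, ← map_pow, MulAut.conj_apply]

end build

/-- Theorem B of Hall and Higman on the minimal polynomial of a p-element of order p^n in a p-solvable linear group on a nonzero vector space in characteristic p with no nontrivial normal p-subgroup: its degree is p^n, except when some p^n₀ - 1 (n₀ ≤ n) is a power of a prime q for which the Sylow q-subgroups are non-abelian, in which case the degree is at least p^(n-n₀)(p^n₀ - 1). -/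
theorem result {F : Type*} [Field F] {p : ℕ} [Fact p.Prime] [CharP F p] {V : Type*} [AddCommGroup V] [Module F V] [FiniteDimensional F V] [Nontrivial V] (H : Subgroup (V ≃ₗ[F] V)) [Finite H] (hsol : Cfsg.IsPSolvable p H) (hOp : Cfsg.pCore p H = ⊥) (x : V ≃ₗ[F] V) (hx : x ∈ H) (n : ℕ) (hn : orderOf x = p ^ n) (r : ℕ) (hr : minpoly F (x : Module.End F V) = (Polynomial.X - 1) ^ r) : r = p ^ n ∨ ∃ n₀ q m : ℕ, 1 ≤ n₀ ∧ n₀ ≤ n ∧ q.Prime ∧ 1 ≤ m ∧ p ^ n₀ - 1 = q ^ m ∧ (∀ Q : Sylow q H, ¬ IsMulCommutative Q) ∧ p ^ (n - n₀) * (p ^ n₀ - 1) ≤ r := by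
  classical
  have hp : p.Prime := Fact.out
  obtain ⟨ι, hι⟩ : ∃ ι : (V ≃ₗ[F] V) →* Module.End F V, ∀ g, ι g = (g : Module.End F V) :=
    ⟨LinearEquiv.automorphismGroup.toLinearMapMonoidHom, fun g => rfl⟩
  have hιinj : Function.Injective ι := by
    intro a b hab
    rw [hι, hι] at hab
    exact LinearEquiv.toLinearMap_injective hab
  have hxr : ((x : Module.End F V) - 1) ^ r = 0 := by
    have := minpoly.aeval F (x : Module.End F V)
    rw [hr] at this
    simpa using this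
  haveI : CharP (Module.End F V) p :=
    charP_of_injective_algebraMap (algebraMap F (Module.End F V)).injective p
  have hxpow : (x : Module.End F V) ^ (p ^ n) = 1 := by
    rw [← hι, ← map_pow, ← hn, pow_orderOf_eq_one, map_one]
  have hrle : r ≤ p ^ n := by
    have h1 : ((x : Module.End F V) - 1) ^ (p ^ n) = 0 := by
      rw [sub_pow_char_pow_of_commute p n (Commute.one_right _), one_pow, hxpow, sub_self]
    have h2 : minpoly F (x : Module.End F V) ∣ (Polynomial.X - 1) ^ (p ^ n) := by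
      apply minpoly.dvd
      simpa using h1
    rw [hr] at h2
    have hX : (Polynomial.X - 1 : Polynomial F) = Polynomial.X - Polynomial.C 1 := by simp
    rw [hX] at h2
    exact (pow_dvd_pow_iff (Polynomial.X_sub_C_ne_zero 1) (Polynomial.not_isUnit_X_sub_C 1)).mp h2
  have hr1 : 1 ≤ r := by
    by_contra h
    have h0 : r = 0 := by omega
    rw [h0, pow_zero] at hr
    exact minpoly.ne_one F _ hr
  rcases Nat.eq_zero_or_pos n with hn0 | hnpos
  · left
    rw [hn0, pow_zero] at hrle ⊢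
    omega
  obtain ⟨n', rfl⟩ : ∃ n', n = n' + 1 := ⟨n - 1, by omega⟩
  obtain ⟨xH, hxH⟩ : ∃ xH : H, (xH : V ≃ₗ[F] V) = x := ⟨⟨x, hx⟩, rfl⟩
  have hxHo : xH ^ p ^ (n' + 1) = 1 := by
    apply Subtype.ext
    rw [Subgroup.coe_pow, hxH, ← hn, pow_orderOf_eq_one]; rfl
  have hyne : xH ^ p ^ n' ≠ 1 := by
    intro h
    have h1 : x ^ p ^ n' = 1 := by
      rw [← hxH, ← Subgroup.coe_pow, h]; rfl
    have h2 := orderOf_dvd_of_pow_eq_one h1
    rw [hn] at h2
    have h3 := Nat.le_of_dvd (pow_pos hp.pos _) h2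
    have h4 : p ^ n' < p ^ (n' + 1) := Nat.pow_lt_pow_right hp.one_lt (by omega)
    omega
  obtain ⟨q, hq, hqp, Q₀, hQ₀, hinv, u, hu, hune⟩ :=
    exists_invariant_qsubgroup hsol hOp xH (n' + 1) hxHo n' hyne
  haveI : Fact q.Prime := ⟨hq⟩
  haveI : CharP (AlgebraicClosure F) p :=
    charP_of_injective_algebraMap (algebraMap F (AlgebraicClosure F)).injective p
  obtain ⟨D, hDρ, hDα, hDX⟩ : ∃ D : HHData (AlgebraicClosure F) Q₀
      (AlgebraicClosure F ⊗[F] V) (p ^ (n' + 1)),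
      (∀ g : Q₀, D.ρ g = bcHom F (AlgebraicClosure F) V (ι ((g : H) : V ≃ₗ[F] V))) ∧
      (∀ (k : ℕ) (g : Q₀), (((D.α ^ k) g : Q₀) : H) = xH ^ k * (g : H) * (xH ^ k)⁻¹) ∧
      D.X = bcHom F (AlgebraicClosure F) V (ι x) := by
    refine ⟨mkData (AlgebraicClosure F) (ι.comp H.subtype) xH (p ^ (n' + 1)) hxHo Q₀ hinv,
      fun g => rfl, fun k g => mkData_α_pow _ _ _ _ _ _ _ k g, ?_⟩
    rw [mkData_X, ← hxH]; rfl
  have hmv : D.Moves (p ^ n') := by
    refine ⟨⟨u, hu⟩, ?_⟩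
    intro h
    rw [hDρ, hDρ] at h
    have h1 := hιinj (bcHom_injective (AlgebraicClosure F) h)
    have h2 : (((D.α ^ p ^ n') ⟨u, hu⟩ : Q₀) : H) = u := Subtype.ext h1
    rw [hDα] at h2
    apply hune
    calc xH ^ p ^ n' * u = (xH ^ p ^ n' * u * (xH ^ p ^ n')⁻¹) * xH ^ p ^ n' := by group
      _ = u * xH ^ p ^ n' := by rw [h2]
  have hr' : (D.X - 1) ^ r = 0 := by
    rw [hDX, hι]
    exact bcHom_sub_one_pow (AlgebraicClosure F) _ r hxr
  have hconcl := hh_linear p q (Ne.symm hqp) hQ₀ n' D hmv r hr'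
  rcases hconcl with h | ⟨n₀, m, h1, h2, h3, h4, ⟨g, h, hgh⟩, h6⟩
  · left; omega
  right
  refine ⟨n₀, q, m, h1, h2, hq, h3, h4, ?_, h6⟩
  intro P hcomm
  have hgh' : (g : H) * (h : H) ≠ (h : H) * (g : H) := by
    intro heq
    apply hgh
    rw [← map_mul, ← map_mul]
    congr 1
    exact Subtype.ext heq
  obtain ⟨P₀, hP₀⟩ := hQ₀.exists_le_sylow
  obtain ⟨c, hc⟩ := MulAction.exists_smul_eq H P₀ P
  have hmem : ∀ a ∈ (P₀ : Subgroup H), c * a * c⁻¹ ∈ (P : Subgroup H) := by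
    intro a ha
    rw [← hc, Sylow.smul_def, Sylow.pointwise_smul_def]
    have := Subgroup.smul_mem_pointwise_smul a (MulAut.conj c) (P₀ : Subgroup H) ha
    rwa [MulAut.smul_def, MulAut.conj_apply] at this
  have h7 := hcomm.is_comm.comm (⟨c * g * c⁻¹, hmem g (hP₀ g.2)⟩ : P)
    ⟨c * h * c⁻¹, hmem h (hP₀ h.2)⟩
  have h8 := congrArg Subtype.val h7
  simp only [Subgroup.coe_mul] at h8
  apply hgh'
  calc (g : H) * h = c⁻¹ * ((c * g * c⁻¹) * (c * h * c⁻¹)) * c := by group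
    _ = c⁻¹ * ((c * h * c⁻¹) * (c * g * c⁻¹)) * c := by rw [h8]
    _ = h * g := by group

end Cfsg.Agent.S0633
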