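import Cfsg.Statements.S0637
import Cfsg.Agent.Helper63.Mnm5
import Cfsg.Agent.Helper65.Metacyclic8

set_option autoImplicit false
open Cfsg

namespace Cfsg.Agent.S0637

/-- For p greater than 3, the bound p² on the order of the subgroup generated by the elements of order dividing p passes from a p-group to all its quotients. -/
theorem result {R : Type*} [Group R] [Finite R] {p : ℕ} [Fact p.Prime] (hp : 3 < p) (hR : IsPGroup p R) (hO : Nat.card ↥(Cfsg.omegaOne p (⊤ : Subgroup R)) ≤ p ^ 2) (T : Subgroup R) [T.Normal] : Nat.card ↥(Cfsg.omegaOne p (⊤ : Subgroup (R ⧸ T))) ≤ p ^ 2 := by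
  have hpp : p.Prime := Fact.out
  have hmc : Cfsg.IsMetacyclic R := Cfsg.Agent.Helper63.MNM.metacyclic_of_omega hp (Nat.card R) R rfl hR hO
  have hmcQ : Cfsg.IsMetacyclic (R ⧸ T) :=
    Cfsg.Agent.Helper86.isMetacyclic_of_surjective (QuotientGroup.mk' T) (QuotientGroup.mk'_surjective T) hmc
  have hQ : IsPGroup p (R ⧸ T) := hR.to_quotient T
  by_cases hcyc : IsCyclic (R ⧸ T)
  · have hcomm : ∀ a b : R ⧸ T, a * b = b * a := hcyc.isMulCommutative.is_comm.comm
    have hexp : ∀ x ∈ Cfsg.omegaOne p (⊤ : Subgroup (R ⧸ T)), x ^ p = 1 := by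
      intro x hx
      unfold Cfsg.omegaOne at hx
      induction hx using Subgroup.closure_induction with
      | mem x hx => exact hx.2
      | one => exact one_pow _
      | mul x y _ _ hx hy =>
        have hc : Commute x y := hcomm x y
        rw [hc.mul_pow, hx, hy, one_mul]
      | inv x _ hx => rw [inv_pow, hx, inv_one]
    have hc : IsCyclic (Cfsg.omegaOne p (⊤ : Subgroup (R ⧸ T))) := inferInstance
    obtain ⟨g, hg⟩ := hc.exists_generator
    have hcard : Nat.card (Cfsg.omegaOne p (⊤ : Subgroup (R ⧸ T))) = orderOf g := by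
      rw [← Nat.card_zpowers]
      have : Subgroup.zpowers g = ⊤ := eq_top_iff.2 fun x _ => hg x
      rw [this, Subgroup.card_top]
    rw [hcard]
    have h1 : orderOf g ≤ p := by
      apply Nat.le_of_dvd hpp.pos
      rw [orderOf_dvd_iff_pow_eq_one]
      exact Subtype.ext (by simpa using hexp (g : R ⧸ T) g.2)
    have h2 : p ≤ p ^ 2 := by nlinarith [hpp.two_le]
    exact h1.trans h2
  · have hp2 : p ≠ 2 := by omega
    exact (Cfsg.Agent.Helper65.omegaOne_of_isMetacyclic hp2 hQ hmcQ hcyc).2.le

end Cfsg.Agent.S0637
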