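import Cfsg.Statements.S0642
import Cfsg.Agent.Helper11.Basic

set_option autoImplicit false
open Cfsg Cfsg.Agent.Helper11
open scoped commutatorElement

namespace Cfsg.Agent.S0642

theorem powerClosure_map {G H : Type*} [Group G] [Group H] (f : G →* H) (p n : ℕ) (K : Subgroup G) :
    (Cfsg.powerClosure p n K).map f = Cfsg.powerClosure p n (K.map f) := by
  unfold Cfsg.powerClosure
  rw [MonoidHom.map_closure]
  congr 1
  ext y
  constructor
  · rintro ⟨z, ⟨x, hx, rfl⟩, rfl⟩
    exact ⟨f x, Subgroup.mem_map_of_mem f hx, by simp⟩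
  · rintro ⟨_, ⟨x, hx, rfl⟩, rfl⟩
    exact ⟨x ^ (p ^ n), ⟨x, hx, rfl⟩, by simp⟩

/-- The subgroup generated by the `p^n`-th powers of a normal subgroup is normal. -/
theorem powerClosure_normal {G : Type*} [Group G] (p n : ℕ) (K : Subgroup G) [K.Normal] :
    (Cfsg.powerClosure p n K).Normal := by
  constructor
  intro x hx g
  have h1 : (Cfsg.powerClosure p n K).map (MulAut.conj g).toMonoidHom = Cfsg.powerClosure p n K := by
    rw [powerClosure_map]
    congr 1
    ext y
    constructor
    · rintro ⟨z, hz, rfl⟩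
      exact ‹K.Normal›.conj_mem z hz g
    · intro hy
      refine ⟨g⁻¹ * y * g, ?_, ?_⟩
      · have := ‹K.Normal›.conj_mem y hy g⁻¹
        simpa using this
      · simp [mul_assoc]
  rw [← h1]
  exact ⟨x, hx, by simp⟩

/-- If a group is generated by two elements whose commutator lies in a normal subgroup `N`,
then the commutator subgroup lies in `N`. -/
theorem commutator_le_of_two_gen {H : Type*} [Group H] (a b : H)
    (hgen : Subgroup.closure ({a, b} : Set H) = ⊤) (N : Subgroup H) [N.Normal]
    (hab : a * b * a⁻¹ * b⁻¹ ∈ N) : commutator H ≤ N := by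
  -- images commute in the quotient
  have h1 : (QuotientGroup.mk' N a) * (QuotientGroup.mk' N b) = (QuotientGroup.mk' N b) * (QuotientGroup.mk' N a) := by
    have : QuotientGroup.mk' N (a * b * a⁻¹ * b⁻¹) = 1 := by
      rw [QuotientGroup.mk'_apply, QuotientGroup.eq_one_iff]; exact hab
    rw [map_mul, map_mul, map_mul, map_inv, map_inv] at this
    have h2 := congrArg (fun z => z * (QuotientGroup.mk' N b) * (QuotientGroup.mk' N a)) this
    simp only [one_mul] at h2
    rw [← h2]; group
  have hcomm : IsMulCommutative (Subgroup.closure ({QuotientGroup.mk' N a, QuotientGroup.mk' N b} : Set (H ⧸ N))) := by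
    apply Subgroup.isMulCommutative_closure
    intro x hx y hy
    rcases hx with rfl | hx <;> rcases hy with rfl | hy
    · rfl
    · rw [Set.mem_singleton_iff] at hy; subst hy; exact h1
    · rw [Set.mem_singleton_iff] at hx; subst hx; exact h1.symm
    · rw [Set.mem_singleton_iff] at hx hy; subst hx; subst hy; rfl
  have htop : Subgroup.closure ({QuotientGroup.mk' N a, QuotientGroup.mk' N b} : Set (H ⧸ N)) = ⊤ := by
    have := congrArg (Subgroup.map (QuotientGroup.mk' N)) hgen
    rw [MonoidHom.map_closure, Subgroup.map_top_of_surjective _ (QuotientGroup.mk'_surjective N), Set.image_pair] at this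
    exact this
  have hall : ∀ x y : H ⧸ N, x * y = y * x := by
    intro x y
    have hx : x ∈ Subgroup.closure ({QuotientGroup.mk' N a, QuotientGroup.mk' N b} : Set (H ⧸ N)) := by
      rw [htop]; trivial
    have hy : y ∈ Subgroup.closure ({QuotientGroup.mk' N a, QuotientGroup.mk' N b} : Set (H ⧸ N)) := by
      rw [htop]; trivial
    exact comm_of_isMulCommutative hcomm hx hy
  rw [commutator_def, Subgroup.commutator_le]
  intro x _ y _
  rw [← QuotientGroup.eq_one_iff, commutatorElement_def]
  have := hall (x : H ⧸ N) (y : H ⧸ N)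
  simp only [QuotientGroup.mk_mul, QuotientGroup.mk_inv]
  rw [this]; group

/-- A nontrivial finite 2-group has a subgroup of index 2. -/
theorem exists_index_two {K : Type*} [Group K] [Finite K] [Nontrivial K] (hK : IsPGroup 2 K) :
    ∃ L : Subgroup K, L.index = 2 := by
  haveI : Fact (Nat.Prime 2) := ⟨Nat.prime_two⟩
  obtain ⟨k, hk⟩ := IsPGroup.iff_card.mp hK
  have hk0 : k ≠ 0 := by
    rintro rfl
    have h1 : Nat.card K = 1 := by simpa using hk
    have : Subsingleton K := (Nat.card_eq_one_iff_unique.mp h1).1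
    exact not_subsingleton K this
  obtain ⟨m, rfl⟩ := Nat.exists_eq_succ_of_ne_zero hk0
  obtain ⟨L, hL⟩ := Sylow.exists_subgroup_card_pow_prime 2 (show 2 ^ m ∣ Nat.card K by rw [hk]; exact pow_dvd_pow 2 (Nat.le_succ m))
  refine ⟨L, ?_⟩
  have := L.card_mul_index
  rw [hL, hk, pow_succ] at this
  exact Nat.eq_of_mul_eq_mul_left (by positivity) this

theorem core {G : Type*} [Group G] [Finite G] (hG : IsPGroup 2 G) (H : Subgroup G) (a b : G)
    (hH : H = Subgroup.closure ({a, b} : Set G)) (c : G)
    (hc : c ∈ Cfsg.powerClosure 2 1 ⁅H, H⁆) (hcab : (a * b) ^ 2 = a ^ 2 * b ^ 2 * c) :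
    a * b = b * a := by
  have haH : a ∈ H := by rw [hH]; exact Subgroup.subset_closure (by simp)
  have hbH : b ∈ H := by rw [hH]; exact Subgroup.subset_closure (by simp)
  -- work inside H
  obtain ⟨a', ha'⟩ : ∃ a' : H, a' = ⟨a, haH⟩ := ⟨_, rfl⟩
  obtain ⟨b', hb'⟩ : ∃ b' : H, b' = ⟨b, hbH⟩ := ⟨_, rfl⟩
  have hgen : Subgroup.closure ({a', b'} : Set H) = ⊤ := by
    have h1 : (Subgroup.closure ({a', b'} : Set H)).map H.subtype = H := by
      rw [MonoidHom.map_closure, Set.image_pair, ha', hb']
      exact hH.symm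
    rw [eq_top_iff]
    intro x _
    have hx : (x : G) ∈ (Subgroup.closure ({a', b'} : Set H)).map H.subtype := by
      rw [h1]; exact x.2
    obtain ⟨y, hy, hyx⟩ := hx
    have : y = x := Subtype.ext hyx
    rw [← this]; exact hy
  obtain ⟨M, hM⟩ : ∃ M : Subgroup H, M = Cfsg.powerClosure 2 1 (commutator H) := ⟨_, rfl⟩
  haveI : M.Normal := by rw [hM]; exact powerClosure_normal 2 1 (commutator H)
  have hMmap : M.map H.subtype = Cfsg.powerClosure 2 1 ⁅H, H⁆ := by
    rw [hM, powerClosure_map, commutator_def, Subgroup.map_commutator]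
    rw [← MonoidHom.range_eq_map, Subgroup.range_subtype]
  have hcM : c ∈ M.map H.subtype := by rw [hMmap]; exact hc
  obtain ⟨c', hc', hcc'⟩ := hcM
  -- the relation in H
  have hrel : (a' * b') ^ 2 = a' ^ 2 * b' ^ 2 * c' := by
    apply Subtype.ext
    simp only [Subgroup.coe_mul, Subgroup.coe_pow, ha', hb']
    have : (c' : G) = c := hcc'
    rw [this]
    exact hcab
  -- the commutator of b'⁻¹, a'⁻¹ is a conjugate of c'
  have hconj : b'⁻¹ * a'⁻¹ * b'⁻¹⁻¹ * a'⁻¹⁻¹ = b' * c' * b'⁻¹ := by
    have h3 : a' * b' * (a' * b') = a' * a' * (b' * b') * c' := by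
      simpa [pow_two] using hrel
    have h4 : c' = (a' * a' * (b' * b'))⁻¹ * (a' * b' * (a' * b')) := by
      rw [h3]; group
    rw [h4]; group
  have hmem : b'⁻¹ * a'⁻¹ * b'⁻¹⁻¹ * a'⁻¹⁻¹ ∈ M := by
    rw [hconj]
    exact ‹M.Normal›.conj_mem _ hc' _
  have hgen' : Subgroup.closure ({b'⁻¹, a'⁻¹} : Set H) = ⊤ := by
    rw [eq_top_iff, ← hgen, Subgroup.closure_le]
    intro x hx
    rcases hx with rfl | hx
    · have : x⁻¹ ∈ Subgroup.closure ({b'⁻¹, x⁻¹} : Set H) := Subgroup.subset_closure (by simp)
      simpa using inv_mem this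
    · rw [Set.mem_singleton_iff] at hx; subst hx
      have : x⁻¹ ∈ Subgroup.closure ({x⁻¹, a'⁻¹} : Set H) := Subgroup.subset_closure (by simp)
      simpa using inv_mem this
  have hKM : commutator H ≤ M := commutator_le_of_two_gen b'⁻¹ a'⁻¹ hgen' M hmem
  -- now show commutator H = ⊥
  have hK1 : commutator H = ⊥ := by
    by_contra hne
    haveI : Nontrivial (commutator H) := (Subgroup.nontrivial_iff_ne_bot _).mpr hne
    have hK2 : IsPGroup 2 (commutator H) := (hG.to_subgroup H).to_subgroup _
    obtain ⟨L, hL⟩ := exists_index_two hK2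
    have hML : M ≤ L.map (commutator H).subtype := by
      rw [hM]
      unfold Cfsg.powerClosure
      rw [Subgroup.closure_le]
      rintro y ⟨x, hx, rfl⟩
      refine ⟨(⟨x, hx⟩ : commutator H) ^ 2, ?_, by simp⟩
      exact Subgroup.sq_mem_of_index_two hL _
    have hKL : commutator H ≤ L.map (commutator H).subtype := hKM.trans hML
    have hLtop : L = ⊤ := by
      rw [eq_top_iff]
      intro x _
      obtain ⟨y, hy, hyx⟩ := hKL x.2
      have : y = x := Subtype.ext hyx
      rw [← this]; exact hy
    rw [hLtop, Subgroup.index_top] at hL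
    norm_num at hL
  have hcomm : ⁅a', b'⁆ = 1 := by
    have : ⁅a', b'⁆ ∈ commutator H := by
      rw [commutator_def]
      exact Subgroup.commutator_mem_commutator (Subgroup.mem_top _) (Subgroup.mem_top _)
    rw [hK1, Subgroup.mem_bot] at this
    exact this
  have := commutatorElement_eq_one_iff_mul_comm.mp hcomm
  have := congrArg Subtype.val this
  simpa [ha', hb'] using this

/-- Among finite 2-groups the regular ones are exactly the abelian ones. -/
theorem result {G : Type*} [Group G] [Finite G] (hG : IsPGroup 2 G) : Cfsg.IsRegularPGroup 2 G ↔ ∀ a b : G, a * b = b * a := by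
  constructor
  · rintro ⟨-, hreg⟩ a b
    obtain ⟨c, hc, hcab⟩ := hreg a b 1
    exact core hG _ a b rfl c hc (by simpa using hcab)
  · intro hcomm
    refine ⟨hG, ?_⟩
    intro a b n
    refine ⟨1, one_mem _, ?_⟩
    rw [mul_one]
    exact (show Commute a b from hcomm a b).mul_pow _

end Cfsg.Agent.S0642
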