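import Cfsg.Statements.S0645
import Cfsg.Agent.Helper52.CyclicMax

set_option autoImplicit false
open Cfsg

namespace Cfsg.Agent.S0645

open Cfsg.Agent.Helper52

/-- If `x^i ∈ C`, `x^p ∈ C` and `i` is prime to `p` then `x ∈ C`. -/
theorem mem_of_pow_mem_of_coprime {G : Type*} [Group G] (C : Subgroup G) (x : G) (i p : ℕ)
    (hco : Nat.Coprime i p) (hi : x ^ i ∈ C) (hp : x ^ p ∈ C) : x ∈ C := by
  have h := Nat.gcd_eq_gcd_ab i p
  rw [hco.gcd_eq_one] at h
  have h2 : x = (x ^ i) ^ (i.gcdA p) * (x ^ p) ^ (i.gcdB p) := by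
    rw [← zpow_natCast, ← zpow_natCast, ← zpow_mul, ← zpow_mul, ← zpow_add, ← h]
    simp
  rw [h2]
  exact C.mul_mem (C.zpow_mem hi _) (C.zpow_mem hp _)

/-- Classification of p-groups with a cyclic maximal subgroup, odd p: a non-abelian one of order p^n has generators a of order p^(n-1) and b of order p, b outside the cyclic subgroup generated by a, with b a b⁻¹ = a^(1 + p^(n-2)). -/
theorem result {G : Type*} [Group G] [Finite G] {p : ℕ} [Fact p.Prime] (hp : p ≠ 2) (n : ℕ) (hn : 3 ≤ n) (hG : Nat.card G = p ^ n) (C : Subgroup G) (hC : IsCyclic C) (hCi : C.index = p) (hna : ∃ x y : G, x * y ≠ y * x) : ∃ a b : G, orderOf a = p ^ (n - 1) ∧ orderOf b = p ∧ b ∉ Subgroup.zpowers a ∧ b * a * b⁻¹ = a ^ (1 + p ^ (n - 2)) := by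
  classical
  have hpp : p.Prime := Fact.out
  have hR : IsPGroup p G := IsPGroup.of_card hG
  obtain ⟨m, c, x, hCeq, hord, hcard, hx, hgen, hxp, hCn, hk⟩ := cyclic_index_prime_data hp hR C hC hCi
  have hmn : m + 1 = n := Nat.pow_right_injective hpp.two_le (hcard.symm.trans hG)
  have hm2 : 2 ≤ m := by omega
  obtain ⟨k, hk1, hk2, hk3⟩ := hk (by omega)
  have hpm1 : 1 < p ^ (m - 1) := Nat.one_lt_pow (by omega) hpp.one_lt
  -- k ≥ 1
  have hk0 : 1 ≤ k := by
    by_contra h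
    have : k = 0 := by omega
    subst this
    have := (Nat.modEq_zero_iff_dvd.mp hk3.symm)
    have := Nat.le_of_dvd one_pos this
    omega
  obtain ⟨j, hj⟩ : ∃ j, k = 1 + p ^ (m - 1) * j := by
    have := (Nat.modEq_iff_dvd' hk0).mp hk3.symm
    obtain ⟨j, hj⟩ := this
    exact ⟨j, by omega⟩
  -- z := c^(p^(m-1)) has z^p = 1
  set z := c ^ (p ^ (m - 1)) with hz
  have hzp : z ^ p = 1 := by
    rw [hz, ← pow_mul, ← pow_succ, show m - 1 + 1 = m by omega, ← hord, pow_orderOf_eq_one]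
  have hcz : Commute c z := (Commute.refl c).pow_right _
  have hxc : x * c * x⁻¹ = c * z ^ j := by
    rw [hk1, hj, pow_add, pow_one, pow_mul]
  -- x centralizes z
  have hxz : x * z * x⁻¹ = z := by
    have h1 : x * z * x⁻¹ = (x * c * x⁻¹) ^ (p ^ (m - 1)) := by
      rw [hz, conj_pow]
    rw [h1, hk1, ← pow_mul, mul_comm, pow_mul, ← hz]
    -- z^k = z as k ≡ 1 mod p
    have : k % p = 1 % p := hk2
    rw [← pow_mod_orderOf]
    have hoz : orderOf z ∣ p := orderOf_dvd_of_pow_eq_one hzp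
    rcases (Nat.dvd_prime hpp).mp hoz with h1' | h1'
    · rw [orderOf_eq_one_iff] at h1'; rw [h1']; simp
    · rw [h1', this, Nat.mod_eq_of_lt hpp.one_lt, pow_one]
  -- p ∤ j, else G abelian
  have hpj : ¬ p ∣ j := by
    intro hdvd
    obtain ⟨t, rfl⟩ := hdvd
    have hzj : z ^ (p * t) = 1 := by rw [pow_mul, hzp, one_pow]
    rw [hzj, mul_one] at hxc
    have hcomm : x * c = c * x := by
      calc x * c = (x * c * x⁻¹) * x := by group
        _ = c * x := by rw [hxc]
    have hab : IsMulCommutative (Subgroup.closure ({c, x} : Set G)) := by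
      apply Subgroup.isMulCommutative_closure
      intro a ha b hb
      rcases ha with rfl | ha <;> rcases hb with rfl | hb
      · rfl
      · rw [Set.mem_singleton_iff] at hb; subst hb; exact hcomm.symm
      · rw [Set.mem_singleton_iff] at ha; subst ha; exact hcomm
      · rw [Set.mem_singleton_iff] at ha hb; subst ha; subst hb; rfl
    obtain ⟨u, v, huv⟩ := hna
    apply huv
    have hu : u ∈ Subgroup.closure ({c, x} : Set G) := by rw [hgen]; trivial
    have hv : v ∈ Subgroup.closure ({c, x} : Set G) := by rw [hgen]; trivial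
    have := hab.is_comm.comm (⟨u, hu⟩ : Subgroup.closure ({c, x} : Set G)) ⟨v, hv⟩
    exact congrArg Subtype.val this
  -- conjugation by powers of x
  have hxi : ∀ i : ℕ, x ^ i * c * (x ^ i)⁻¹ = c * z ^ (i * j) := by
    intro i
    induction i with
    | zero => simp
    | succ i ih =>
      have h1 : x ^ (i + 1) * c * (x ^ (i + 1))⁻¹ = x * (x ^ i * c * (x ^ i)⁻¹) * x⁻¹ := by
        rw [pow_succ']; group
      rw [h1, ih]
      have h2 : x * (c * z ^ (i * j)) * x⁻¹ = (x * c * x⁻¹) * (x * z * x⁻¹) ^ (i * j) := by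
        rw [conj_pow]; group
      rw [h2, hxc, hxz, mul_assoc, ← pow_add]
      congr 2
      ring
  -- choose i with j * i ≡ 1 mod p
  have hcop : Nat.Coprime j p := (Nat.Coprime.symm ((Nat.Prime.coprime_iff_not_dvd hpp).mpr hpj))
  obtain ⟨i, -, hi⟩ := Nat.exists_mul_mod_eq_one_of_coprime hcop hpp.one_lt
  have hip : Nat.Coprime i p := by
    rw [Nat.coprime_comm, Nat.Prime.coprime_iff_not_dvd hpp]
    intro hdvd
    obtain ⟨t, rfl⟩ := hdvd
    have : j * (p * t) % p = 0 := by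
      rw [← mul_assoc, mul_comm j p, mul_assoc]; exact Nat.mul_mod_right _ _
    omega
  set x₁ := x ^ i with hx₁
  have hzij : z ^ (i * j) = z := by
    rw [← pow_mod_orderOf]
    have hoz : orderOf z ∣ p := orderOf_dvd_of_pow_eq_one hzp
    rcases (Nat.dvd_prime hpp).mp hoz with h1' | h1'
    · rw [orderOf_eq_one_iff] at h1'; rw [h1']; simp
    · rw [h1', mul_comm i j, hi, pow_one]
  have hx₁c : x₁ * c * x₁⁻¹ = c * z := by rw [hx₁, hxi i, hzij]
  have hx₁C : x₁ ∉ C := by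
    intro h
    exact hx (mem_of_pow_mem_of_coprime C x i p hip h hxp)
  have hx₁p : x₁ ^ p ∈ C := by
    rw [hx₁, ← pow_mul, mul_comm, pow_mul]; exact C.pow_mem hxp i
  -- x₁^p = c^t
  obtain ⟨t, ht⟩ : ∃ t : ℕ, c ^ t = x₁ ^ p := by
    rw [hCeq, ← mem_powers_iff_mem_zpowers, Submonoid.mem_powers_iff] at hx₁p
    exact hx₁p
  -- p ∣ t
  have hzt : z ^ t = 1 := by
    have h1 : x₁ * (x₁ ^ p) * x₁⁻¹ = x₁ ^ p := by group
    rw [← ht, ← conj_pow, hx₁c, hcz.mul_pow] at h1
    exact mul_left_cancel (a := c ^ t) (by rw [h1, mul_one])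
  have hz1 : z ≠ 1 := by
    intro h
    have : orderOf c ∣ p ^ (m - 1) := orderOf_dvd_of_pow_eq_one h
    rw [hord] at this
    have := (Nat.pow_dvd_pow_iff_le_right hpp.one_lt).mp this
    omega
  have hoz : orderOf z = p := orderOf_eq_prime hzp hz1
  have hpt : p ∣ t := by rw [← hoz]; exact orderOf_dvd_of_pow_eq_one hzt
  obtain ⟨s, rfl⟩ := hpt
  -- b := x₁ * (c^s)⁻¹
  set b := x₁ * (c ^ s)⁻¹ with hb
  have hbp : b ^ p = 1 := by
    rw [hb, mul_pow_prime_of_cyclic_index_prime hp hR C hC hCi, ← ht, inv_pow, ← pow_mul, mul_comm s p,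
      mul_inv_cancel]
  have hcC : c ∈ C := by rw [hCeq]; exact Subgroup.mem_zpowers c
  have hbC : b ∉ C := by
    intro h
    apply hx₁C
    have : x₁ = b * c ^ s := by rw [hb]; group
    rw [this]
    exact C.mul_mem h (C.pow_mem hcC s)
  have hb1 : b ≠ 1 := by
    intro h; rw [h] at hbC; exact hbC C.one_mem
  refine ⟨c, b, ?_, orderOf_eq_prime hbp hb1, ?_, ?_⟩
  · rw [hord]; congr 1; omega
  · rw [← hCeq]; exact hbC
  · have h1 : b * c * b⁻¹ = x₁ * c * x₁⁻¹ := by
      rw [hb]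
      have : (c ^ s)⁻¹ * c * (c ^ s) = c := by
        rw [mul_assoc, ((Commute.refl c).pow_right s).eq, ← mul_assoc, inv_mul_cancel, one_mul]
      calc x₁ * (c ^ s)⁻¹ * c * (x₁ * (c ^ s)⁻¹)⁻¹ = x₁ * ((c ^ s)⁻¹ * c * (c ^ s)) * x₁⁻¹ := by group
        _ = x₁ * c * x₁⁻¹ := by rw [this]
    have hnm : n - 2 = m - 1 := by omega
    rw [h1, hx₁c, hz, pow_add, pow_one, hnm]

end Cfsg.Agent.S0645
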