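import Cfsg.Statements.S0647

set_option autoImplicit false
open Cfsg

namespace Cfsg.Agent.S0647

/-- A maximal abelian subgroup is self-centralizing. -/
theorem centralizer_eq_of_max {S : Type*} [Group S] (A : Subgroup S) (hab : IsMulCommutative A)
    (hmax : ∀ B : Subgroup S, IsMulCommutative B → A ≤ B → B = A) :
    Subgroup.centralizer (A : Set S) = A := by
  have hAc : A ≤ Subgroup.centralizer (A : Set S) := by
    intro a ha
    rw [Subgroup.mem_centralizer_iff]
    intro b hb
    have := hab.is_comm.comm (⟨b, hb⟩ : A) ⟨a, ha⟩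
    exact congrArg Subtype.val this
  refine le_antisymm ?_ hAc
  intro x hx
  -- B = closure (A ∪ {x}) is abelian
  have hB : IsMulCommutative (Subgroup.closure ((A : Set S) ∪ {x})) := by
    refine ⟨⟨?_⟩⟩
    have hcomm : ∀ y ∈ ((A : Set S) ∪ {x}), ∀ z ∈ ((A : Set S) ∪ {x}), y * z = z * y := by
      intro y hy z hz
      rcases hy with hy | hy <;> rcases hz with hz | hz
      · have := hab.is_comm.comm (⟨y, hy⟩ : A) ⟨z, hz⟩
        exact congrArg Subtype.val this
      · rw [Set.mem_singleton_iff] at hz; subst hz
        exact (Subgroup.mem_centralizer_iff.mp hx y hy)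
      · rw [Set.mem_singleton_iff] at hy; subst hy
        exact (Subgroup.mem_centralizer_iff.mp hx z hz).symm
      · rw [Set.mem_singleton_iff] at hy hz; subst hy; subst hz; rfl
    rintro ⟨y, hy⟩ ⟨z, hz⟩
    apply Subtype.ext
    show y * z = z * y
    have hz' : z ∈ Subgroup.centralizer ((A : Set S) ∪ {x}) := by
      rw [← Subgroup.centralizer_closure]
      revert z
      show Subgroup.closure ((A : Set S) ∪ {x}) ≤ Subgroup.centralizer ((Subgroup.closure ((A : Set S) ∪ {x}) : Subgroup S) : Set S)
      rw [Subgroup.closure_le]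
      intro z hz
      rw [SetLike.mem_coe, Subgroup.centralizer_closure, Subgroup.mem_centralizer_iff]
      intro w hw
      exact hcomm w hw z hz
    rw [← Subgroup.centralizer_closure] at hz'
    exact (Subgroup.mem_centralizer_iff.mp hz' y hy)
  have hle : A ≤ Subgroup.closure ((A : Set S) ∪ {x}) := by
    intro a ha
    exact Subgroup.subset_closure (Or.inl ha)
  have := hmax _ hB hle
  rw [← this]
  exact Subgroup.subset_closure (Or.inr rfl)

/-- For a nonempty family of maximal abelian subgroups of a finite group, the intersection of the family is the centre of the subgroup it generates, which is also the full centralizer of that subgroup. -/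
theorem result {S : Type*} [Group S] [Finite S] (𝒜 : Set (Subgroup S)) (hne : 𝒜.Nonempty) (hab : ∀ A ∈ 𝒜, IsMulCommutative A) (hmax : ∀ A ∈ 𝒜, ∀ B : Subgroup S, IsMulCommutative B → A ≤ B → B = A) : sInf 𝒜 = sSup 𝒜 ⊓ Subgroup.centralizer ((sSup 𝒜 : Subgroup S) : Set S) ∧ sInf 𝒜 = Subgroup.centralizer ((sSup 𝒜 : Subgroup S) : Set S) := by
  have key : sInf 𝒜 = Subgroup.centralizer ((sSup 𝒜 : Subgroup S) : Set S) := by
    apply le_antisymm
    · intro x hx
      rw [Subgroup.mem_sInf] at hx
      rw [sSup_eq_iSup', Subgroup.iSup_eq_closure, Subgroup.centralizer_closure, Subgroup.mem_centralizer_iff]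
      intro y hy
      rw [Set.mem_iUnion] at hy
      obtain ⟨⟨A, hA⟩, hyA⟩ := hy
      have hxA : x ∈ A := hx A hA
      have := (hab A hA).is_comm.comm (⟨y, hyA⟩ : A) ⟨x, hxA⟩
      exact congrArg Subtype.val this
    · intro x hx
      rw [Subgroup.mem_sInf]
      intro A hA
      rw [← centralizer_eq_of_max A (hab A hA) (hmax A hA)]
      exact Subgroup.centralizer_le (show (A : Set S) ⊆ ((sSup 𝒜 : Subgroup S) : Set S) from le_sSup hA) hx
  refine ⟨?_, key⟩
  apply le_antisymm
  · refine le_inf ?_ key.le
    obtain ⟨A, hA⟩ := hne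
    exact (sInf_le hA).trans (le_sSup hA)
  · rw [← key]; exact inf_le_right

end Cfsg.Agent.S0647
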