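import Cfsg.Statements.S0649

set_option autoImplicit false
open Cfsg

namespace Cfsg.Agent.S0649

/-- In the Glauberman replacement situation, if B does not normalize A then some element of B normalizes N_S(A) without normalizing A. -/
theorem result {S : Type*} [Group S] [Finite S] {p : ℕ} [Fact p.Prime] (hS : IsPGroup p S) (B : Subgroup S) [B.Normal] (hB2 : p = 2 → IsMulCommutative B) (A : Subgroup S) (hA : IsMulCommutative A) (hBA : ⁅B, B⁆ ≤ A) (hnot : ¬ B ≤ Subgroup.normalizer (A : Set S)) : ∃ b ∈ B, b ∈ Subgroup.normalizer ((Subgroup.normalizer (A : Set S)) : Set S) ∧ b ∉ Subgroup.normalizer (A : Set S) := by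
  classical
  set N := Subgroup.normalizer (A : Set S) with hN
  -- the subgroup B ⊔ N, as a group, is nilpotent
  set T : Subgroup S := B ⊔ N with hT
  have hNT : N ≤ T := le_sup_right
  have hBT : B ≤ T := le_sup_left
  haveI : Group.IsNilpotent T := (hS.to_subgroup T).isNilpotent
  have hnc : NormalizerCondition T := normalizerCondition_of_isNilpotent
  have hlt : N.subgroupOf T < ⊤ := by
    rw [lt_top_iff_ne_top]
    intro h
    rw [Subgroup.subgroupOf_eq_top] at h
    exact hnot (hBT.trans h)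
  have hlt2 := hnc _ hlt
  obtain ⟨g, hg, hgN⟩ := SetLike.exists_of_lt hlt2
  -- g ∈ T = B ⊔ N normalizes N (within T), g ∉ N
  have hgT : (g : S) ∈ B ⊔ N := g.2
  rw [← SetLike.mem_coe, Subgroup.normal_mul, Set.mem_mul] at hgT
  obtain ⟨b, hb, n, hn, hbn⟩ := hgT
  refine ⟨b, hb, ?_, ?_⟩
  · -- b = g * n⁻¹ normalizes N
    have hb' : b = (g : S) * n⁻¹ := by rw [← hbn]; group
    rw [Subgroup.mem_normalizer_iff]
    intro x
    -- g normalizes N in T
    have hgn : ∀ y : S, y ∈ N → (g : S) * y * (g : S)⁻¹ ∈ N ∧ (g : S)⁻¹ * y * (g : S) ∈ N := by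
      intro y hy
      have hyT : y ∈ T := hNT hy
      have h1 := (Subgroup.mem_normalizer_iff.mp hg ⟨y, hyT⟩).mp (by simpa [Subgroup.mem_subgroupOf] using hy)
      have h2 := (Subgroup.mem_normalizer_iff'.mp hg ⟨y, hyT⟩)
      constructor
      · simpa [Subgroup.mem_subgroupOf] using h1
      · have h3 := (Subgroup.mem_normalizer_iff.mp (inv_mem hg) ⟨y, hyT⟩).mp (by simpa [Subgroup.mem_subgroupOf] using hy)
        simpa [Subgroup.mem_subgroupOf] using h3
    constructor
    · intro hx
      rw [hb']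
      have h1 : n⁻¹ * x * n ∈ N := by
        have := N.mul_mem (N.mul_mem (N.inv_mem hn) hx) hn
        exact this
      have h2 := (hgn _ h1).1
      have : (g : S) * n⁻¹ * x * ((g : S) * n⁻¹)⁻¹ = (g : S) * (n⁻¹ * x * n) * (g : S)⁻¹ := by group
      rw [this]; exact h2
    · intro hx
      rw [hb'] at hx
      have h2 := (hgn _ hx).2
      have h3 : (g : S)⁻¹ * ((g : S) * n⁻¹ * x * ((g : S) * n⁻¹)⁻¹) * (g : S) = n⁻¹ * x * n := by group
      rw [h3] at h2
      have := N.mul_mem (N.mul_mem hn h2) (N.inv_mem hn)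
      have h4 : n * (n⁻¹ * x * n) * n⁻¹ = x := by group
      rw [h4] at this
      exact this
  · intro hbN
    apply hgN
    rw [Subgroup.mem_subgroupOf, ← hbn]
    exact N.mul_mem hbN hn

end Cfsg.Agent.S0649
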