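import Cfsg.Statements.S0653
import Cfsg.Agent.Lib.ZJ4
import Cfsg.Agent.S0651

set_option autoImplicit false
open Cfsg

namespace Cfsg.Agent.S0653

/-- Glauberman's ZJ-Theorem: for odd p, if the largest normal p-subgroup of G contains its centralizer and G acts p-stably on every normal p-subgroup, then the centre of the abelian-version Thompson subgroup of a Sylow p-subgroup is a characteristic subgroup of G. -/
theorem result {G : Type*} [Group G] [Finite G] {p : ℕ} [Fact p.Prime] (hp : p ≠ 2) (hc : Subgroup.centralizer (Cfsg.pCore p G : Set G) ≤ Cfsg.pCore p G) (hst : ∀ (P : Subgroup G) [P.Normal], IsPGroup p P → Cfsg.IsPStableOn p P) (S : Sylow p G) : (Cfsg.centerThompsonAOf ((S : Subgroup G))).Characteristic := by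
  exact Cfsg.Agent.Lib.ZJ.zj_characteristic_abelian
    (fun S' B _ h1 h2 => Cfsg.Agent.S0651.result S'.isPGroup' hp ⊤ B h1 h2) hc hst S

end Cfsg.Agent.S0653
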