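import Cfsg.Statements.S0656
import Cfsg.Agent.S0274
import Cfsg.Agent.S0199
import Cfsg.Agent.Helper97.QuadLin

set_option autoImplicit false
open Cfsg

namespace Cfsg.Agent.S0656

/-- a group admitting an injective homomorphism into `G` and a surjective one onto `Q` gives a
section `K / L` of `G` isomorphic to `Q`, with `K` the image. -/
theorem section_of_inj_surj {A : Type*} [Group A] {G : Type*} [Group G] {Q : Type*} [Group Q]
    (j : A →* G) (hj : Function.Injective j) (π : A →* Q) (hπ : Function.Surjective π) :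
    ∃ (K L : Subgroup G) (hL : (L.subgroupOf K).Normal), K = j.range ∧
      Nonempty ((K ⧸ L.subgroupOf K) ≃* Q) := by
  let e : A ≃* j.range := MonoidHom.ofInjective hj
  let f : j.range →* Q := π.comp e.symm.toMonoidHom
  have hf : Function.Surjective f := by
    intro q
    obtain ⟨a, rfl⟩ := hπ q
    exact ⟨e a, by simp [f]⟩
  have hker : ((f.ker).map j.range.subtype).subgroupOf j.range = f.ker := by
    rw [Subgroup.subgroupOf]
    exact Subgroup.comap_map_eq_self_of_injective (Subgroup.subtype_injective _) _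
  have hn : (((f.ker).map j.range.subtype).subgroupOf j.range).Normal := by
    rw [hker]; infer_instance
  refine ⟨j.range, (f.ker).map j.range.subtype, hn, rfl, ⟨?_⟩⟩
  exact (QuotientGroup.quotientMulEquivOfEq hker).trans
    (QuotientGroup.quotientKerEquivOfSurjective f hf)

theorem map_conj_eq_of_mem_normalizer {G : Type*} [Group G] (V : Subgroup G) {g : G}
    (hg : g ∈ Subgroup.normalizer (V : Set G)) : V.map (MulAut.conj g).toMonoidHom = V := by
  rw [Subgroup.mem_normalizer_iff] at hg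
  ext z
  constructor
  · rintro ⟨v, hv, rfl⟩
    exact (hg v).1 hv
  · intro hz
    refine ⟨g⁻¹ * z * g, ?_, ?_⟩
    · rw [SetLike.mem_coe, hg]
      have : g * (g⁻¹ * z * g) * g⁻¹ = z := by group
      rw [this]; exact hz
    · show g * (g⁻¹ * z * g) * g⁻¹ = z
      group

/-- a finite group generated by elements of order dividing `p` and with at most one Sylow
`p`-subgroup is a `p`-group -/
theorem isPGroup_of_gens_of_sylow {R : Type*} [Group R] [Finite R] {p : ℕ} [Fact p.Prime]
    (gens : Set R) (hgens : Subgroup.closure gens = ⊤) (hgp : ∀ s ∈ gens, s ^ p = 1)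
    (hS : Nat.card (Sylow p R) ≤ 1) : IsPGroup p R := by
  have hsub : Subsingleton (Sylow p R) := Finite.card_le_one_iff_subsingleton.1 hS
  let P : Sylow p R := default
  have hle : Subgroup.closure gens ≤ (P : Subgroup R) := by
    rw [Subgroup.closure_le]
    intro s hs
    have hz : IsPGroup p (Subgroup.zpowers s) := by
      rintro ⟨z, hz⟩
      obtain ⟨k, rfl⟩ := Subgroup.mem_zpowers_iff.1 hz
      refine ⟨1, Subtype.ext ?_⟩
      show (s ^ k) ^ (p ^ 1) = 1
      rw [pow_one, ← zpow_natCast, ← zpow_mul, mul_comm, zpow_mul, zpow_natCast, hgp s hs, one_zpow]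
    obtain ⟨Q, hQ⟩ := hz.exists_le_sylow
    rw [Subsingleton.elim P Q]
    exact hQ (Subgroup.mem_zpowers s)
  rw [hgens] at hle
  intro r
  obtain ⟨k, hk⟩ := P.2 ⟨r, hle (Subgroup.mem_top r)⟩
  refine ⟨k, ?_⟩
  have := congrArg Subtype.val hk
  simpa using this

/-- Let p be odd and H act faithfully on an elementary abelian p-group V with O_p(H) = 1. If some nontrivial p-element x of H acts quadratically, i.e. [V,x,x] = 1, then H involves SL_2(p). -/
theorem result {G : Type*} [Group G] [Finite G] {p : ℕ} [Fact p.Prime] (hp : p ≠ 2) (V H : Subgroup G) (hV : Cfsg.IsElementaryAbelian p V) (hHV : H ≤ Subgroup.normalizer (V : Set G)) (hf : H ⊓ Subgroup.centralizer (V : Set G) = ⊥) (hO : Cfsg.pCore p ↥H = ⊥) (x : G) (hxH : x ∈ H) (hx1 : x ≠ 1) (hxp : ∃ k : ℕ, orderOf x = p ^ k) (hq : ⁅⁅V, Subgroup.zpowers x⁆, Subgroup.zpowers x⁆ = ⊥) : ∃ (K L : Subgroup G) (hL : (L.subgroupOf K).Normal), K ≤ H ∧ Nonempty ((K ⧸ L.subgroupOf K) ≃* Matrix.SpecialLinearGroup (Fin 2) (ZMod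 p)) := by
  classical
  -- Step 1: Baer–Suzuki inside `H`
  let xH : H := ⟨x, hxH⟩
  have hxH1 : xH ≠ 1 := fun h => hx1 (congrArg Subtype.val h)
  have hXp : IsPGroup p (Subgroup.zpowers xH) := by
    obtain ⟨k, hk⟩ := hxp
    apply IsPGroup.of_card (n := k)
    rw [Nat.card_zpowers, ← hk]
    exact Subgroup.orderOf_mk x hxH
  have hex : ∃ g : H, ¬ IsPGroup p ↥(Subgroup.zpowers xH ⊔
      (Subgroup.zpowers xH).map (MulAut.conj g).toMonoidHom) := by
    by_contra hcon
    push Not at hcon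
    obtain ⟨N, hN1, hN2, hN3⟩ := Cfsg.Agent.S0199.result (Subgroup.zpowers xH) hXp hcon
    have hle : N ≤ Cfsg.pCore p ↥H := le_sSup ⟨hN1, hN2⟩
    rw [hO] at hle
    exact hxH1 (Subgroup.mem_bot.1 (hle (hN3 (Subgroup.mem_zpowers xH))))
  obtain ⟨g, hg⟩ := hex
  obtain ⟨y, hy⟩ : ∃ y : G, y = (g : G) * x * (g : G)⁻¹ := ⟨_, rfl⟩
  have hyH : y ∈ H := by rw [hy]; exact H.mul_mem (H.mul_mem g.2 hxH) (H.inv_mem g.2)
  obtain ⟨H₀, hH₀⟩ : ∃ H₀ : Subgroup G, H₀ = Subgroup.closure ({x, y} : Set G) := ⟨_, rfl⟩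
  have hxH₀ : x ∈ H₀ := by rw [hH₀]; exact Subgroup.subset_closure (by simp)
  have hyH₀ : y ∈ H₀ := by rw [hH₀]; exact Subgroup.subset_closure (by simp)
  have hH₀H : H₀ ≤ H := by
    rw [hH₀, Subgroup.closure_le]
    rintro z (rfl | rfl)
    · exact hxH
    · exact hyH
  have hnp : ¬ IsPGroup p H₀ := by
    intro hp0
    apply hg
    have h1 : IsPGroup p (H₀.comap H.subtype) :=
      hp0.comap_of_injective H.subtype Subtype.val_injective
    refine h1.to_le (sup_le ?_ ?_)
    · rw [Subgroup.zpowers_le]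
      exact hxH₀
    · rw [Subgroup.map_le_iff_le_comap, Subgroup.zpowers_le]
      show ((g * xH * g⁻¹ : H) : G) ∈ H₀
      rw [hy] at hyH₀
      exact hyH₀
  -- Step 2: the conjugate is quadratic too
  have hbq : ⁅⁅V, Subgroup.zpowers y⁆, Subgroup.zpowers y⁆ = ⊥ := by
    have hVg := map_conj_eq_of_mem_normalizer V (hHV g.2)
    have hzg : (Subgroup.zpowers x).map (MulAut.conj (g : G)).toMonoidHom = Subgroup.zpowers y := by
      rw [MonoidHom.map_zpowers, hy]; rfl
    rw [← hVg, ← hzg, ← Subgroup.map_commutator, ← Subgroup.map_commutator, hq, Subgroup.map_bot]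
  have hf₀ : H₀ ⊓ Subgroup.centralizer (V : Set G) = ⊥ := by
    rw [eq_bot_iff, ← hf]
    exact inf_le_inf_right _ hH₀H
  obtain ⟨K, iF, iFt, iC, φ, x', y', hx', hy', hgen, hnpφ, hxp', hyp'⟩ :=
    Cfsg.Agent.Helper97.QuadLin.exists_hom_SL2_of_subgroups V H₀ hV.1 hV.2 (hH₀H.trans hHV) hf₀
      x y hH₀ hq hbq hnp
  -- Step 3: more than one Sylow `p`-subgroup in the image
  have hsurj : Function.Surjective φ.rangeRestrict := φ.rangeRestrict_surjective
  let gens : Set φ.range := {φ.rangeRestrict x', φ.rangeRestrict y'}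
  have hgens : Subgroup.closure gens = ⊤ := by
    have h2 : gens = φ.rangeRestrict '' ({x', y'} : Set H₀) := by
      simp only [gens, Set.image_insert_eq, Set.image_singleton]
    rw [h2, ← MonoidHom.map_closure, hgen, ← MonoidHom.range_eq_map,
      MonoidHom.range_eq_top.2 hsurj]
  have hgp : ∀ s ∈ gens, s ^ p = 1 := by
    rintro s (rfl | rfl)
    · rw [← map_pow, hxp', map_one]
    · rw [← map_pow, hyp', map_one]
  have hS : 1 < Nat.card (Sylow p φ.range) := by
    by_contra hle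
    exact hnpφ (isPGroup_of_gens_of_sylow gens hgens hgp (not_lt.1 hle))
  -- Step 4: Dickson
  obtain ⟨K₁, hK₁, ⟨e⟩⟩ := Cfsg.Agent.S0274.result p hp φ.range hS
  -- Step 5: the section
  let j : ↥(K₁.comap φ) →* G := H₀.subtype.comp (K₁.comap φ).subtype
  have hj : Function.Injective j := Subtype.val_injective.comp Subtype.val_injective
  let π : ↥(K₁.comap φ) →* Matrix.SpecialLinearGroup (Fin 2) (ZMod p) :=
    e.toMonoidHom.comp (φ.subgroupComap K₁)
  have hπ : Function.Surjective π := by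
    intro s
    obtain ⟨h₀, hh₀⟩ := hK₁ (e.symm s).2
    refine ⟨⟨h₀, by rw [Subgroup.mem_comap, hh₀]; exact (e.symm s).2⟩, ?_⟩
    show e ⟨φ h₀, _⟩ = s
    have : (⟨φ h₀, by rw [hh₀]; exact (e.symm s).2⟩ : K₁) = e.symm s := Subtype.ext hh₀
    rw [this, MulEquiv.apply_symm_apply]
  obtain ⟨Kg, Lg, hL, hKg, hiso⟩ := section_of_inj_surj j hj π hπ
  refine ⟨Kg, Lg, hL, ?_, hiso⟩
  rw [hKg]
  rintro _ ⟨a, rfl⟩
  exact hH₀H a.1.2

end Cfsg.Agent.S0656
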