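import Cfsg.Statements.S0657
import Cfsg.Agent.Helper52.QuadNormalizer
import Cfsg.Agent.Helper37.InvolvesQuotient

set_option autoImplicit false
open Cfsg

namespace Cfsg.Agent.S0657

/-- For odd p: if O_{p',p}(X) is strictly larger than O_{p'}(X) and X/O_{p'}(X) is not p-stable, then X involves SL_2(p). -/
theorem result {G : Type*} [Group G] [Finite G] {p : ℕ} [Fact p.Prime] (hp : p ≠ 2) (hO : Cfsg.pPrimeCore p G < Cfsg.pPrimePCore p G) (hns : ¬ Cfsg.IsPStable p (G ⧸ Cfsg.pPrimeCore p G)) : ∃ (K L : Subgroup G) (hL : (L.subgroupOf K).Normal), K ≤ ⊤ ∧ Nonempty ((K ⧸ L.subgroupOf K) ≃* Matrix.SpecialLinearGroup (Fin 2) (ZMod p)) := by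
  classical
  have hinv : Cfsg.Involves (Matrix.SpecialLinearGroup (Fin 2) (ZMod p))
      (G ⧸ Cfsg.pPrimeCore p G) := by
    by_contra hcon
    apply hns
    refine ⟨(Fact.out : p.Prime).odd_of_ne_two hp, ?_, ?_⟩
    · intro hbot
      unfold Cfsg.pPrimePCore at hO
      rw [hbot, MonoidHom.comap_bot, QuotientGroup.ker_mk'] at hO
      exact lt_irrefl _ hO
    · intro A P _ hP _ _ _ hq
      by_contra hnot
      exact hcon (Cfsg.Agent.Helper52.QuadNormalizer.involves_sl2p_of_quadratic_normalizer hp A P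
        hP hq hnot)
  obtain ⟨K, R, hn, hiso⟩ := Cfsg.Agent.Helper37.involves_of_involves_quotient _ hinv
  exact ⟨K, R, hn, le_top, hiso⟩

end Cfsg.Agent.S0657
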