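import Cfsg.Statements.S0660

set_option autoImplicit false
open Cfsg
open scoped IsMulCommutative

namespace Cfsg.Agent.S0660

section
variable {G : Type*} [Group G]

/-- Conjugation by an element normalizing `V`, as an endomorphism of `V`. -/
def cj (V : Subgroup G) (a : G) (ha : a ∈ Subgroup.normalizer (V : Set G)) : ↥V →* ↥V where
  toFun v := ⟨a * v * a⁻¹, (Subgroup.mem_normalizer_iff.mp ha v).mp v.2⟩
  map_one' := by ext; simp
  map_mul' x y := by ext; simp [mul_assoc]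

@[simp] theorem coe_cj (V : Subgroup G) (a : G) (ha : a ∈ Subgroup.normalizer (V : Set G)) (v : V) :
    ((cj V a ha v : V) : G) = a * v * a⁻¹ := rfl

end

/-- Under a coprime action on an abelian group, an invariant subgroup that is complemented admits an invariant complement. -/
theorem result {G : Type*} [Group G] [Finite G] (V A U : Subgroup G) (hVab : IsMulCommutative V) (hAV : A ≤ Subgroup.normalizer (V : Set G)) (hcop : (Nat.card A).Coprime (Nat.card V)) (hUV : U ≤ V) (hAU : A ≤ Subgroup.normalizer (U : Set G)) (W : Subgroup G) (hWV : W ≤ V) (hUW : U ⊓ W = ⊥) (hUWV : U ⊔ W = V) : ∃ W' : Subgroup G, W' ≤ V ∧ A ≤ Subgroup.normalizer (W' : Set G) ∧ U ⊓ W' = ⊥ ∧ U ⊔ W' = V := by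
  classical
  haveI := hVab
  haveI : Fintype A := Fintype.ofFinite A
  -- subgroups of V
  obtain ⟨U', hU'⟩ : ∃ U' : Subgroup V, U' = U.subgroupOf V := ⟨_, rfl⟩
  obtain ⟨W₀, hW₀⟩ : ∃ W₀ : Subgroup V, W₀ = W.subgroupOf V := ⟨_, rfl⟩
  have hmemU : ∀ v : V, v ∈ U' ↔ (v : G) ∈ U := fun v => by rw [hU', Subgroup.mem_subgroupOf]
  have hmemW : ∀ v : V, v ∈ W₀ ↔ (v : G) ∈ W := fun v => by rw [hW₀, Subgroup.mem_subgroupOf]
  have hdisj : ∀ v : V, v ∈ U' → v ∈ W₀ → v = 1 := by
    intro v hu hw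
    have : (v : G) ∈ U ⊓ W := ⟨(hmemU v).mp hu, (hmemW v).mp hw⟩
    rw [hUW, Subgroup.mem_bot] at this
    exact Subtype.ext this
  have hsup : ∀ v : V, ∃ u ∈ U', ∃ w ∈ W₀, u * w = v := by
    have h1 : U' ⊔ W₀ = ⊤ := by
      rw [hU', hW₀, ← Subgroup.subgroupOf_sup hUV hWV, hUWV, Subgroup.subgroupOf_self]
    intro v
    have : v ∈ U' ⊔ W₀ := by rw [h1]; trivial
    exact Subgroup.mem_sup.mp this
  -- the projection onto U' along W₀
  have hbij : Function.Bijective ((QuotientGroup.mk' W₀).comp U'.subtype) := by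
    constructor
    · rw [injective_iff_map_eq_one]
      intro u hu
      have : (u : V) ∈ W₀ := by
        have h2 : QuotientGroup.mk' W₀ (u : V) = 1 := hu
        rwa [QuotientGroup.mk'_apply, QuotientGroup.eq_one_iff] at h2
      exact Subtype.ext (hdisj u u.2 this)
    · intro q
      obtain ⟨v, rfl⟩ := QuotientGroup.mk'_surjective W₀ q
      obtain ⟨u, hu, w, hw, rfl⟩ := hsup v
      refine ⟨⟨u, hu⟩, ?_⟩
      show QuotientGroup.mk' W₀ u = QuotientGroup.mk' W₀ (u * w)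
      rw [map_mul]
      have : QuotientGroup.mk' W₀ w = 1 := by
        rw [QuotientGroup.mk'_apply, QuotientGroup.eq_one_iff]; exact hw
      rw [this, mul_one]
  let e : U' ≃* (V ⧸ W₀) := MulEquiv.ofBijective _ hbij
  let π : V →* V := U'.subtype.comp (e.symm.toMonoidHom.comp (QuotientGroup.mk' W₀))
  have hπU : ∀ v : V, π v ∈ U' := fun v => (e.symm (QuotientGroup.mk' W₀ v)).2
  have hπid : ∀ v : V, v ∈ U' → π v = v := by
    intro v hv
    have : e ⟨v, hv⟩ = QuotientGroup.mk' W₀ v := rfl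
    show ((e.symm (QuotientGroup.mk' W₀ v) : U') : V) = v
    rw [← this, MulEquiv.symm_apply_apply]
  -- conjugation
  have hAV' : ∀ a : A, (a : G) ∈ Subgroup.normalizer (V : Set G) := fun a => hAV a.2
  have hAVi : ∀ a : A, (a : G)⁻¹ ∈ Subgroup.normalizer (V : Set G) := fun a => inv_mem (hAV a.2)
  -- the averaged map
  let φ : V → V := fun v => ∏ a : A, cj V (a : G)⁻¹ (hAVi a) (π (cj V a (hAV' a) v))
  have hφmul : ∀ v w : V, φ (v * w) = φ v * φ w := by
    intro v w
    show (∏ a : A, cj V (a : G)⁻¹ (hAVi a) (π (cj V a (hAV' a) (v * w)))) = _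
    simp only [map_mul]
    exact Finset.prod_mul_distrib
  let Φ : V →* V := MonoidHom.mk' φ hφmul
  have hΦ : ∀ v, Φ v = φ v := fun v => rfl
  -- conj of U' stays in U'
  have hcjU : ∀ (a : G) (ha : a ∈ A) (v : V), v ∈ U' → cj V a (hAV ha) v ∈ U' := by
    intro a ha v hv
    rw [hmemU] at hv ⊢
    exact (Subgroup.mem_normalizer_iff.mp (hAU ha) v).mp hv
  have hφU : ∀ v : V, φ v ∈ U' := by
    intro v
    apply Subgroup.prod_mem
    intro a _
    exact hcjU _ (inv_mem a.2) _ (hπU _)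
  have hφid : ∀ v : V, v ∈ U' → φ v = v ^ (Nat.card A) := by
    intro v hv
    show (∏ a : A, cj V (a : G)⁻¹ (hAVi a) (π (cj V a (hAV' a) v))) = _
    have : ∀ a : A, cj V (a : G)⁻¹ (hAVi a) (π (cj V a (hAV' a) v)) = v := by
      intro a
      rw [hπid _ (hcjU _ a.2 _ hv)]
      apply Subtype.ext
      simp [mul_assoc]
    simp only [this, Finset.prod_const, Finset.card_univ, Nat.card_eq_fintype_card]
  -- equivariance
  have hφeq : ∀ (b : A) (v : V), φ (cj V b (hAV' b) v) = cj V b (hAV' b) (φ v) := by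
    intro b v
    show (∏ a : A, cj V (a : G)⁻¹ (hAVi a) (π (cj V a (hAV' a) (cj V b (hAV' b) v)))) =
      cj V b (hAV' b) (∏ a : A, cj V (a : G)⁻¹ (hAVi a) (π (cj V a (hAV' a) v)))
    rw [map_prod]
    apply Fintype.prod_equiv (Equiv.mulRight b)
    intro a
    have h1 : cj V a (hAV' a) (cj V b (hAV' b) v) = cj V ((a * b : A) : G) (hAV' (a * b)) v := by
      apply Subtype.ext; simp [mul_assoc]
    rw [h1]
    apply Subtype.ext
    simp [mul_assoc]
  -- the kernel
  refine ⟨Φ.ker.map V.subtype, Subgroup.map_subtype_le _, ?_, ?_, ?_⟩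
  · intro b hb
    rw [Subgroup.mem_normalizer_iff]
    have key : ∀ (c : G) (hc : c ∈ A) (x : G), x ∈ Φ.ker.map V.subtype → c * x * c⁻¹ ∈ Φ.ker.map V.subtype := by
      rintro c hc x ⟨v, hv, rfl⟩
      refine ⟨cj V c (hAV hc) v, ?_, rfl⟩
      rw [SetLike.mem_coe, MonoidHom.mem_ker] at hv ⊢
      rw [hΦ] at hv ⊢
      have := hφeq ⟨c, hc⟩ v
      rw [this, hv, map_one]
    intro x
    constructor
    · exact key b hb x
    · intro hx
      have := key b⁻¹ (inv_mem hb) _ hx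
      simpa [mul_assoc] using this
  · rw [eq_bot_iff]
    rintro x ⟨hxU, ⟨v, hv, rfl⟩⟩
    rw [SetLike.mem_coe, MonoidHom.mem_ker, hΦ] at hv
    have hvU : v ∈ U' := (hmemU v).mpr hxU
    rw [hφid v hvU] at hv
    have h1 : orderOf v ∣ Nat.card A := orderOf_dvd_of_pow_eq_one hv
    have h2 : orderOf v ∣ Nat.card V := orderOf_dvd_natCard v
    have h3 : orderOf v = 1 := Nat.eq_one_of_dvd_coprimes hcop h1 h2
    rw [orderOf_eq_one_iff] at h3
    rw [Subgroup.mem_bot, h3]; rfl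
  · apply le_antisymm
    · exact sup_le hUV (Subgroup.map_subtype_le _)
    · intro x hx
      let v : V := ⟨x, hx⟩
      -- pick u₀ ∈ U' with u₀ ^ n = φ v
      have hcopU : (Nat.card U').Coprime (Nat.card A) :=
        Nat.Coprime.coprime_dvd_left (Subgroup.card_subgroup_dvd_card U') hcop.symm
      let pc := powCoprime (G := U') (n := Nat.card A) hcopU
      obtain ⟨u₁, hu₁⟩ := pc.surjective ⟨φ v, hφU v⟩
      have hu₁' : u₁ ^ (Nat.card A) = ⟨φ v, hφU v⟩ := hu₁
      obtain ⟨u₀, hu₀U⟩ := u₁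
      have hu₀' : u₀ ^ (Nat.card A) = φ v := congrArg Subtype.val hu₁'
      have hker : u₀⁻¹ * v ∈ Φ.ker := by
        rw [MonoidHom.mem_ker, map_mul, map_inv, hΦ, hΦ, hφid u₀ hu₀U, hu₀', inv_mul_cancel]
      have hx' : x = (u₀ : G) * ((u₀⁻¹ * v : V) : G) := by
        simp [v]
      rw [hx']
      exact Subgroup.mul_mem_sup ((hmemU u₀).mp hu₀U) ⟨_, hker, rfl⟩

end Cfsg.Agent.S0660
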