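import Cfsg.Statements.S0661
import Cfsg.Agent.Helper54.PConstrained

set_option autoImplicit false
open Cfsg

namespace Cfsg.Agent.S0661

open Cfsg.Agent.Helper54

/-- If `φ : G →* H` is onto with kernel of order prime to `p` and `O_{p'}(H) = 1`, then
`O_{p'}(G) = ker φ`. -/
theorem pPrimeCore_eq_ker_of_surjective {G : Type*} [Group G] [Finite G] {p : ℕ} [hp : Fact p.Prime]
    {H : Type*} [Group H] (φ : G →* H) (hφ : Function.Surjective φ)
    (hker : (Nat.card φ.ker).Coprime p) (hH : pPrimeCore p H = ⊥) : pPrimeCore p G = φ.ker := by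
  have e : G ⧸ φ.ker ≃* H := QuotientGroup.quotientKerEquivOfSurjective φ hφ
  have : Finite H := Finite.of_surjective φ hφ
  have hq : pPrimeCore p (G ⧸ φ.ker) = ⊥ := by
    rw [eq_bot_iff]
    intro x hx
    have h1 : e x ∈ pPrimeCore p H := (mem_pPrimeCore_equiv e).mpr hx
    rw [hH, Subgroup.mem_bot] at h1
    rw [Subgroup.mem_bot]
    exact (MulEquiv.map_eq_one_iff e).mp h1
  exact pPrimeCore_eq_of_quotient φ.ker hker hq

/-- If, modulo the largest normal subgroup of order prime to p, the largest normal p-subgroup contains its centralizer, then for every p-subgroup P the p'-core of N_G(P) is just O_p'(G) ∩ N_G(P). -/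
theorem result {G : Type*} [Group G] [Finite G] {p : ℕ} [Fact p.Prime] (hc : Subgroup.centralizer (Cfsg.pCore p (G ⧸ Cfsg.pPrimeCore p G) : Set (G ⧸ Cfsg.pPrimeCore p G)) ≤ Cfsg.pCore p (G ⧸ Cfsg.pPrimeCore p G)) (P : Subgroup G) (hP : IsPGroup p P) : (Cfsg.pPrimeCore p ↥(Subgroup.normalizer (P : Set G))).map (Subgroup.normalizer (P : Set G)).subtype = Cfsg.pPrimeCore p G ⊓ Subgroup.normalizer (P : Set G) := by
  have hKc : (Nat.card (pPrimeCore p G)).Coprime p := Cfsg.Agent.Lib.card_pPrimeCore_coprime p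
  have hker : (QuotientGroup.mk' (pPrimeCore p G)).ker = pPrimeCore p G := QuotientGroup.ker_mk' _
  have hGbar : CharP p (G ⧸ pPrimeCore p G) := ⟨pPrimeCore_quotient_eq_bot, hc⟩
  have hTbar : IsPGroup p (P.map (QuotientGroup.mk' (pPrimeCore p G))) := hP.map _
  have h1 : (Subgroup.normalizer (P : Set G)).map (QuotientGroup.mk' (pPrimeCore p G)) ≤
      Subgroup.normalizer ((P.map (QuotientGroup.mk' (pPrimeCore p G)) :
        Subgroup (G ⧸ pPrimeCore p G)) : Set (G ⧸ pPrimeCore p G)) :=
    Subgroup.le_normalizer_map _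
  have h2 : Subgroup.centralizer ((P.map (QuotientGroup.mk' (pPrimeCore p G)) :
        Subgroup (G ⧸ pPrimeCore p G)) : Set (G ⧸ pPrimeCore p G)) ≤
      (Subgroup.normalizer (P : Set G)).map (QuotientGroup.mk' (pPrimeCore p G)) := by
    intro x hx
    obtain ⟨g₀, rfl⟩ := QuotientGroup.mk'_surjective (pPrimeCore p G) x
    obtain ⟨g, hg, hgx⟩ := exists_mem_centralizer_map_eq (QuotientGroup.mk' (pPrimeCore p G))
      (by rw [hker]; exact hKc) P hP g₀ hx
    rw [← hgx]
    exact Subgroup.mem_map_of_mem _ (Subgroup.centralizer_le_normalizer _ hg)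
  have hLbar : CharP p ↥((Subgroup.normalizer (P : Set G)).map
      (QuotientGroup.mk' (pPrimeCore p G))) :=
    charP_of_le_normalizer hGbar _ _ hTbar h1 h2
      (Or.inl (Subgroup.map_mono Subgroup.le_normalizer))
  have hkerL : ((QuotientGroup.mk' (pPrimeCore p G)).subgroupMap
      (Subgroup.normalizer (P : Set G))).ker =
      (pPrimeCore p G).subgroupOf (Subgroup.normalizer (P : Set G)) := by
    ext x
    rw [MonoidHom.mem_ker, Subgroup.mem_subgroupOf]
    have hx : (x : G) ∈ pPrimeCore p G ↔ (QuotientGroup.mk' (pPrimeCore p G)) (x : G) = 1 := by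
      rw [← MonoidHom.mem_ker, hker]
    rw [hx]
    constructor
    · intro h; exact congrArg Subtype.val h
    · intro h; exact Subtype.ext h
  have hdvd : Nat.card ((pPrimeCore p G).subgroupOf (Subgroup.normalizer (P : Set G))) ∣
      Nat.card (pPrimeCore p G) := by
    rw [← Subgroup.card_map_of_injective
      (f := (Subgroup.normalizer (P : Set G)).subtype) (Subgroup.subtype_injective _),
      Subgroup.subgroupOf_map_subtype]
    exact Subgroup.card_dvd_of_le inf_le_left
  have hmain : pPrimeCore p ↥(Subgroup.normalizer (P : Set G)) =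
      (pPrimeCore p G).subgroupOf (Subgroup.normalizer (P : Set G)) := by
    rw [← hkerL]
    apply pPrimeCore_eq_ker_of_surjective _ (MonoidHom.subgroupMap_surjective _ _) _ hLbar.1
    rw [hkerL]
    exact Nat.Coprime.coprime_dvd_left hdvd hKc
  rw [hmain, Subgroup.subgroupOf_map_subtype]

end Cfsg.Agent.S0661
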