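import Cfsg.Statements.S0662
import Cfsg.Agent.Helper2.MaxClass
import Cfsg.Agent.S0115
import Cfsg.Agent.Helper63.CountP

set_option autoImplicit false
open Cfsg

namespace Cfsg.Agent.S0662

open Cfsg.Agent.Helper63 Cfsg.Agent.Helper2
open scoped commutatorElement

/-- Two comparable subgroups of the same (finite) index are equal. -/
theorem eq_of_le_of_index_eq {G : Type*} [Group G] [Finite G] {H K : Subgroup G} (hle : H ≤ K)
    (h : H.index = K.index) : H = K := by
  have hmul := Subgroup.relIndex_mul_index hle
  rw [h] at hmul
  have hK : 0 < K.index := Nat.pos_of_ne_zero Subgroup.index_ne_zero_of_finite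
  have h1 : H.relIndex K = 1 := Nat.eq_of_mul_eq_mul_right hK (by rw [hmul, one_mul])
  exact le_antisymm hle (Subgroup.relIndex_eq_one.mp h1)

/-- The indices of the terms of the lower central series of a `p`-group of maximal class. -/
theorem index_lcs {G : Type*} [Group G] [Finite G] {p : ℕ} [hp : Fact p.Prime] (n : ℕ)
    (hG : Nat.card G = p ^ n) (hcl : Group.nilpotencyClass G = n - 1) (hn : 3 ≤ n) :
    ∀ k, 1 ≤ k → k ≤ n - 1 → ((⊤ : Subgroup G).lowerCentralSeries k).index = p ^ (k + 1) := by
  have hpG : IsPGroup p G := IsPGroup.of_card hG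
  have hnil : Group.IsNilpotent G := hpG.isNilpotent
  have hp1 : 1 < p := hp.out.one_lt
  -- exponents
  have hex : ∀ k, ∃ e, ((⊤ : Subgroup G).lowerCentralSeries k).index = p ^ e := fun k => hpG.index _
  choose e he using hex
  have he1 : e 1 = 2 := by
    have h1 : ((⊤ : Subgroup G).lowerCentralSeries 1).index = p ^ 2 := by
      rw [Subgroup.top_lowerCentralSeries_one]
      exact index_commutator_of_maxClass (n - 2) G (by rw [hG]; congr 1; omega) (by omega)
    rw [he 1] at h1
    exact Nat.pow_right_injective hp1 h1
  have hlast : (⊤ : Subgroup G).lowerCentralSeries (n - 1) = ⊥ := by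
    rw [← hcl]; exact Subgroup.lowerCentralSeries_nilpotencyClass
  have helast : e (n - 1) = n := by
    have h1 := he (n - 1)
    rw [hlast, Subgroup.index_bot, hG] at h1
    exact (Nat.pow_right_injective hp1 h1).symm
  -- strictness
  have hstrict : ∀ k, k + 1 ≤ n - 1 → e k + 1 ≤ e (k + 1) := by
    intro k hk
    have hle : (⊤ : Subgroup G).lowerCentralSeries (k + 1) ≤ (⊤ : Subgroup G).lowerCentralSeries k :=
      Subgroup.lowerCentralSeries_antitone ⊤ (Nat.le_succ k)
    have hne : (⊤ : Subgroup G).lowerCentralSeries (k + 1) ≠ (⊤ : Subgroup G).lowerCentralSeries k := by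
      intro heq
      have hstab : ∀ j, (⊤ : Subgroup G).lowerCentralSeries (k + j) =
          (⊤ : Subgroup G).lowerCentralSeries k := by
        intro j
        induction j with
        | zero => rfl
        | succ j ih =>
          rw [← Nat.add_assoc, Subgroup.lowerCentralSeries_succ, ih, ← Subgroup.lowerCentralSeries_succ,
            heq]
      have h1 := hstab (n - 1 - k)
      rw [show k + (n - 1 - k) = n - 1 by omega, hlast] at h1
      have h2 := (Subgroup.lowerCentralSeries_eq_bot_iff_nilpotencyClass_le).mp h1.symm
      omega
    have hmul := Subgroup.relIndex_mul_index hle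
    rw [he k, he (k + 1)] at hmul
    obtain ⟨j, hj⟩ := (hpG.to_subgroup ((⊤ : Subgroup G).lowerCentralSeries k)).index
      (((⊤ : Subgroup G).lowerCentralSeries (k + 1)).subgroupOf
        ((⊤ : Subgroup G).lowerCentralSeries k))
    have hj' : ((⊤ : Subgroup G).lowerCentralSeries (k + 1)).relIndex
        ((⊤ : Subgroup G).lowerCentralSeries k) = p ^ j := hj
    have hj0 : j ≠ 0 := by
      rintro rfl
      rw [pow_zero] at hj'
      exact hne (le_antisymm hle (Subgroup.relIndex_eq_one.mp hj'))
    rw [hj', ← pow_add] at hmul
    have := Nat.pow_right_injective hp1 hmul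
    omega
  have hgrow : ∀ j k, k + j ≤ n - 1 → e k + j ≤ e (k + j) := by
    intro j
    induction j with
    | zero => intro k _; exact le_rfl
    | succ j ih =>
      intro k hk
      have h1 := ih k (by omega)
      have h2 := hstrict (k + j) (by omega)
      show e k + (j + 1) ≤ e (k + j + 1)
      omega
  intro k hk1 hk2
  have hup := hgrow (k - 1) 1 (by omega)
  rw [show 1 + (k - 1) = k by omega] at hup
  have hdown := hgrow (n - 1 - k) k (by omega)
  rw [show k + (n - 1 - k) = n - 1 by omega, helast] at hdown
  rw [he k]
  congr 1
  omega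

/-- In a p-group of maximal class of order at least p³ the normal subgroups of index at least p² are exactly the terms of the lower central series, and there are exactly p + 1 normal subgroups of index p. -/
theorem result {G : Type*} [Group G] [Finite G] {p : ℕ} [Fact p.Prime] (n : ℕ) (hG : Nat.card G = p ^ n) (hcl : Group.nilpotencyClass G = n - 1) (hn : 3 ≤ n) : (∀ (N : Subgroup G) [N.Normal] (r : ℕ), 2 ≤ r → N.index = p ^ r → N = (⊤ : Subgroup G).lowerCentralSeries (r - 1)) ∧ Nat.card {N : Subgroup G // N.Normal ∧ N.index = p} = p + 1 := by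
  have hp : p.Prime := Fact.out
  have hp1 : 1 < p := hp.one_lt
  have hpG : IsPGroup p G := IsPGroup.of_card hG
  have hnil : Group.IsNilpotent G := hpG.isNilpotent
  constructor
  · intro N hN r hr hNr
    have hrn : r ≤ n := by
      have h1 : p ^ r ∣ p ^ n := by
        rw [← hNr, ← hG]; exact Subgroup.index_dvd_card N
      exact (Nat.pow_dvd_pow_iff_le_right hp1).mp h1
    -- the quotient has class at most r - 1
    have hQ : Nat.card (G ⧸ N) = p ^ r := by rw [← Subgroup.index_eq_card, hNr]
    have hclQ := nilpotencyClass_le_of_card (p := p) r (G ⧸ N) hQ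
    rw [max_eq_left (by omega : 1 ≤ r - 1)] at hclQ
    have hnilQ : Group.IsNilpotent (G ⧸ N) := (IsPGroup.of_card hQ).isNilpotent
    have h1 : (⊤ : Subgroup (G ⧸ N)).lowerCentralSeries (r - 1) = ⊥ :=
      (Subgroup.lowerCentralSeries_eq_bot_iff_nilpotencyClass_le).mpr hclQ
    have h2 : ((⊤ : Subgroup G).lowerCentralSeries (r - 1)).map (QuotientGroup.mk' N) = ⊥ := by
      rw [Subgroup.map_lowerCentralSeries,
        Subgroup.map_top_of_surjective _ (QuotientGroup.mk'_surjective N), h1]
    have hle : (⊤ : Subgroup G).lowerCentralSeries (r - 1) ≤ N := by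
      rw [Subgroup.map_eq_bot_iff, QuotientGroup.ker_mk'] at h2
      exact h2
    have hidx := index_lcs n hG hcl hn (r - 1) (by omega) (by omega)
    rw [show r - 1 + 1 = r by omega] at hidx
    exact (eq_of_le_of_index_eq hle (by rw [hidx, hNr])).symm
  · -- counting
    have hcardA : Nat.card (Abelianization G) = p ^ 2 := by
      have h1 : (commutator G).index = p ^ 2 :=
        index_commutator_of_maxClass (n - 2) G (by rw [hG]; congr 1; omega) (by omega)
      rw [← h1, Subgroup.index_eq_card]
      rfl
    have hsurj : Function.Surjective (Abelianization.of : G →* Abelianization G) :=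
      QuotientGroup.mk_surjective
    have hexp : ∀ x : Abelianization G, x ^ p = 1 := by
      intro x
      have hdvd : orderOf x ∣ p ^ 2 := hcardA ▸ orderOf_dvd_natCard x
      obtain ⟨i, hi, hox⟩ := (Nat.dvd_prime_pow hp).mp hdvd
      have hi2 : i ≠ 2 := by
        rintro rfl
        have hcyc : IsCyclic (Abelianization G) :=
          isCyclic_of_orderOf_eq_card x (by rw [hox, hcardA])
        have hcomm : IsMulCommutative G :=
          Cfsg.Agent.S0115.isMulCommutative_of_isCyclic_abelianization hcyc
        have := Group.IsNilpotent.nilpotencyClass_le_one_iff.mpr hcomm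
        omega
      have hi1 : i ≤ 1 := by omega
      apply orderOf_dvd_iff_pow_eq_one.mp
      rw [hox]
      calc p ^ i ∣ p ^ 1 := pow_dvd_pow p hi1
        _ = p := pow_one p
    rw [← card_subgroups_card_eq_prime hcardA hexp]
    apply Nat.card_congr
    refine
      { toFun := fun N => ⟨N.1.map Abelianization.of, ?_⟩
        invFun := fun D => ⟨D.1.comap Abelianization.of, ?_, ?_⟩
        left_inv := ?_
        right_inv := ?_ }
    · -- card of the image
      have hNn : N.1.Normal := N.2.1
      have hcomm : commutator G ≤ N.1 := by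
        -- G / N has prime order hence is commutative
        have hQ : Nat.card (G ⧸ N.1) = p := by rw [← Subgroup.index_eq_card, N.2.2]
        have hcyc : IsCyclic (G ⧸ N.1) := isCyclic_of_prime_card hQ
        let _ : CommGroup (G ⧸ N.1) := IsCyclic.commGroup
        have := Abelianization.commutator_subset_ker (QuotientGroup.mk' N.1)
        rwa [QuotientGroup.ker_mk'] at this
      have h1 : (N.1.map Abelianization.of).index = p := by
        rw [Subgroup.index_map_eq N.1 hsurj (by rw [Abelianization.ker_of]; exact hcomm), N.2.2]
      have h2 := Subgroup.card_mul_index (N.1.map (Abelianization.of : G →* Abelianization G))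
      rw [h1, hcardA, sq] at h2
      exact Nat.eq_of_mul_eq_mul_right hp.pos h2
    · exact Subgroup.Normal.comap inferInstance _
    · rw [Subgroup.index_comap_of_surjective _ hsurj]
      have h2 := Subgroup.card_mul_index D.1
      rw [D.2, hcardA, sq] at h2
      exact Nat.eq_of_mul_eq_mul_left hp.pos h2
    · intro N
      apply Subtype.ext
      have hNn : N.1.Normal := N.2.1
      have hcomm : commutator G ≤ N.1 := by
        have hQ : Nat.card (G ⧸ N.1) = p := by rw [← Subgroup.index_eq_card, N.2.2]
        have hcyc : IsCyclic (G ⧸ N.1) := isCyclic_of_prime_card hQ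
        let _ : CommGroup (G ⧸ N.1) := IsCyclic.commGroup
        have := Abelianization.commutator_subset_ker (QuotientGroup.mk' N.1)
        rwa [QuotientGroup.ker_mk'] at this
      show (N.1.map Abelianization.of).comap Abelianization.of = N.1
      rw [Subgroup.comap_map_eq, Abelianization.ker_of]
      exact sup_eq_left.mpr hcomm
    · intro D
      apply Subtype.ext
      show (D.1.comap Abelianization.of).map Abelianization.of = D.1
      exact Subgroup.map_comap_eq_self_of_surjective hsurj _

end Cfsg.Agent.S0662
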