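import Cfsg.Statements.S0663
import Cfsg.Agent.Helper11.Uniserial3

set_option autoImplicit false
open Cfsg

namespace Cfsg.Agent.S0663

open Cfsg.Agent.Helper11 in
/-- A p-group acts uniserially on a p-group N of order p^n exactly when the iterated commutator chain from N has length n; in that case the chain terms are all the invariant subgroups of N and they are normal in N. -/
theorem result {L : Type*} [Group L] [Finite L] {p : ℕ} [Fact p.Prime] (N G : Subgroup L) (hN : IsPGroup p N) (hG : IsPGroup p G) (hGN : G ≤ Subgroup.normalizer (N : Set L)) (n : ℕ) (hn : Nat.card N = p ^ n) : ((∀ H : Subgroup L, H ≤ N → G ≤ Subgroup.normalizer (H : Set L) → H ≠ ⊥ → (⁅H, G⁆).relIndex H = p) ↔ Cfsg.iterCommutator N G (n - 1) ≠ ⊥ ∨ n = 0) ∧ ((∀ H : Subgroup L, H ≤ N → G ≤ Subgroup.normalizer (H : Set L) → H ≠ ⊥ → (⁅H, G⁆).relIndex H = p) → ∀ H : Subgroup L, H ≤ N → G ≤ Subgroup.normalizer (H : Set L) → (∃ i ≤ n, H = Cfsg.iterCommutator N G i) ∧ N ≤ Subgroup.normalizer (H : Set L)) := by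
  have hp : p.Prime := Fact.out
  -- uniserial ⇒ orders along the chain
  have uni_card : (∀ H : Subgroup L, H ≤ N → G ≤ Subgroup.normalizer (H : Set L) → H ≠ ⊥ →
      (⁅H, G⁆).relIndex H = p) → ∀ i, i ≤ n → Nat.card (Cfsg.iterCommutator N G i) = p ^ (n - i) := by
    intro huni i
    induction i with
    | zero => intro _; rw [iterCommutator_zero, hn, Nat.sub_zero]
    | succ i ih =>
      intro hi
      have h1 := ih (by omega)
      obtain ⟨f1, f2, f3⟩ := iter_facts hGN i
      have hne : Cfsg.iterCommutator N G i ≠ ⊥ := by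
        intro h
        rw [h, Subgroup.card_bot] at h1
        have : 1 < p ^ (n - i) := Nat.one_lt_pow (by omega) hp.one_lt
        omega
      have h2 := huni _ f1 f2 hne
      have h3 := card_mul_relIndex f3
      rw [iterCommutator_succ] at h3 ⊢
      rw [h2, h1] at h3
      have h4 : n - i = (n - (i + 1)) + 1 := by omega
      rw [h4, pow_succ] at h3
      exact Nat.eq_of_mul_eq_mul_right hp.pos h3
  have hN0 : n = 0 → N = ⊥ := by
    intro h0
    rw [h0, pow_zero] at hn
    exact Subgroup.card_eq_one.mp hn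
  -- chain condition ⇒ uniserial
  have chain_uni : (∀ i, i ≤ n → Nat.card (Cfsg.iterCommutator N G i) = p ^ (n - i)) →
      ∀ H : Subgroup L, H ≤ N → G ≤ Subgroup.normalizer (H : Set L) → H ≠ ⊥ →
      (⁅H, G⁆).relIndex H = p := by
    intro hcard H hHN hGH hne
    obtain ⟨i, hin, hHi⟩ := iter_invariant_eq hN hG hGN hn hcard H hHN hGH
    have hin' : i ≠ n := by
      intro h
      have := hcard n le_rfl
      rw [Nat.sub_self, pow_zero] at this
      rw [hHi, h, Subgroup.card_eq_one.mp this] at hne
      exact hne rfl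
    have h3 := card_mul_relIndex (iter_facts hGN i).2.2
    rw [hcard i hin, hcard (i + 1) (by omega), iterCommutator_succ, ← hHi] at h3
    have h4 : n - i = (n - (i + 1)) + 1 := by omega
    rw [h4, pow_succ] at h3
    exact Nat.eq_of_mul_eq_mul_left (Nat.pow_pos hp.pos) h3
  refine ⟨⟨?_, ?_⟩, ?_⟩
  · intro huni
    by_cases h0 : n = 0
    · exact Or.inr h0
    · left
      intro hbot
      have := uni_card huni (n - 1) (by omega)
      rw [hbot, Subgroup.card_bot] at this
      have h1 : 1 < p ^ (n - (n - 1)) := Nat.one_lt_pow (by omega) hp.one_lt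
      omega
  · intro h
    by_cases h0 : n = 0
    · intro H hHN _ hne
      rw [hN0 h0] at hHN
      exact absurd (le_bot_iff.mp hHN) hne
    · have hne : Cfsg.iterCommutator N G (n - 1) ≠ ⊥ := by
        rcases h with h | h
        · exact h
        · exact absurd h h0
      exact chain_uni (iter_card_eq hN hG hGN hn hne)
  · intro huni H hHN hGH
    have hcard := uni_card huni
    obtain ⟨i, hin, hHi⟩ := iter_invariant_eq hN hG hGN hn hcard H hHN hGH
    refine ⟨⟨i, hin, hHi⟩, ?_⟩
    rw [hHi]
    exact (iter_normal_facts hN hG hGN hn hcard).1 i hin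

end Cfsg.Agent.S0663
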