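import Mathlib
import Cfsg.Statements.S0668

set_option autoImplicit false
open Cfsg

namespace Cfsg.Agent.S0668

open Representation

variable {G : Type*} [Group G] {K : Type*} [Field K] {Ω₁ Ω₂ : Type*}
  [MulAction G Ω₁] [MulAction G Ω₂]

theorem permRep_apply {Ω : Type*} [MulAction G Ω] (g : G) (f : Ω → K) (x : Ω) :
    Cfsg.permRep K G Ω g f x = f (g⁻¹ • x) := rfl

theorem permRep_single [DecidableEq Ω₁] (g : G) (x : Ω₁) :
    Cfsg.permRep K G Ω₁ g (Pi.single x (1 : K)) = Pi.single (g • x) 1 := by
  funext x'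
  rw [permRep_apply, Pi.single_apply, Pi.single_apply]
  have : (g⁻¹ • x' = x) ↔ (x' = g • x) := by
    rw [inv_smul_eq_iff]
  simp only [this]

/-- matrix coefficient of the transformed map -/
theorem linHom_coeff [DecidableEq Ω₁] (g : G) (T : (Ω₁ → K) →ₗ[K] (Ω₂ → K)) (x : Ω₁) (y : Ω₂) :
    ((Cfsg.permRep K G Ω₁).linHom (Cfsg.permRep K G Ω₂) g T) (Pi.single x 1) y =
      T (Pi.single (g⁻¹ • x) 1) (g⁻¹ • y) := by
  rw [linHom_apply, LinearMap.comp_apply, LinearMap.comp_apply, permRep_apply, permRep_single]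

/-- The equivariant linear maps between the permutation modules of two finite `G`-sets form a space whose dimension is the number of `G`-orbits on the product of the two sets. -/
theorem result {G : Type*} [Group G] {K : Type*} [Field K] {Ω₁ Ω₂ : Type*} [Fintype Ω₁] [Fintype Ω₂] [MulAction G Ω₁] [MulAction G Ω₂] : Module.finrank K ((Cfsg.permRep K G Ω₁).linHom (Cfsg.permRep K G Ω₂)).invariants = Nat.card (MulAction.orbitRel.Quotient G (Ω₁ × Ω₂)) := by
  classical
  let Q := MulAction.orbitRel.Quotient G (Ω₁ × Ω₂)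
  have hfinQ : Finite Q := Quotient.finite _
  have : Fintype Q := Fintype.ofFinite Q
  -- invariance of matrix coefficients
  have hinv : ∀ T ∈ ((Cfsg.permRep K G Ω₁).linHom (Cfsg.permRep K G Ω₂)).invariants,
      ∀ (g : G) (x : Ω₁) (y : Ω₂), T (Pi.single (g • x) 1) (g • y) = T (Pi.single x 1) y := by
    intro T hT g x y
    have h1 := hT g⁻¹
    have h2 := linHom_coeff g⁻¹ T x y
    rw [h1, inv_inv] at h2
    exact h2.symm
  -- the linear map to functions on the orbit space
  let Ψ : ((Cfsg.permRep K G Ω₁).linHom (Cfsg.permRep K G Ω₂)).invariants →ₗ[K] (Q → K) :=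
    { toFun := fun T q => Quotient.liftOn' q
        (fun p : Ω₁ × Ω₂ => (T : (Ω₁ → K) →ₗ[K] (Ω₂ → K)) (Pi.single p.1 1) p.2) (by
          intro p p' h
          rw [MulAction.orbitRel_apply] at h
          obtain ⟨g, rfl⟩ := h
          exact hinv T T.2 g p'.1 p'.2)
      map_add' := by
        intro T T'
        funext q
        induction q using Quotient.inductionOn' with | _ p => rfl
      map_smul' := by
        intro c T
        funext q
        induction q using Quotient.inductionOn' with | _ p => rfl }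
  have hΨ : ∀ (T : ((Cfsg.permRep K G Ω₁).linHom (Cfsg.permRep K G Ω₂)).invariants)
      (x : Ω₁) (y : Ω₂), Ψ T (Quotient.mk'' (x, y)) =
        (T : (Ω₁ → K) →ₗ[K] (Ω₂ → K)) (Pi.single x 1) y := fun _ _ _ => rfl
  have hinj : Function.Injective Ψ := by
    rw [injective_iff_map_eq_zero]
    intro T hT
    apply Subtype.ext
    apply LinearMap.pi_ext'
    intro x
    apply LinearMap.ext_ring
    funext y
    have := congrFun hT (Quotient.mk'' (x, y))
    rw [hΨ] at this
    simpa using this
  have hsurj : Function.Surjective Ψ := by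
    intro h
    let M : Matrix Ω₂ Ω₁ K := fun y x => h (Quotient.mk'' (x, y))
    let T : (Ω₁ → K) →ₗ[K] (Ω₂ → K) := Matrix.toLin' M
    have hT : ∀ x y, T (Pi.single x 1) y = h (Quotient.mk'' (x, y)) := by
      intro x y
      simp only [T, Matrix.toLin'_apply, Matrix.mulVec_single_one]
      rfl
    have hTinv : T ∈ ((Cfsg.permRep K G Ω₁).linHom (Cfsg.permRep K G Ω₂)).invariants := by
      intro g
      apply LinearMap.pi_ext'
      intro x
      apply LinearMap.ext_ring
      funext y
      simp only [LinearMap.comp_apply, LinearMap.single_apply]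
      rw [linHom_coeff, hT, hT]
      congr 1
      rw [Quotient.eq'', MulAction.orbitRel_apply]
      exact ⟨g⁻¹, rfl⟩
    refine ⟨⟨T, hTinv⟩, ?_⟩
    funext q
    induction q using Quotient.inductionOn' with | _ p =>
    obtain ⟨x, y⟩ := p
    exact hT x y
  have e : ((Cfsg.permRep K G Ω₁).linHom (Cfsg.permRep K G Ω₂)).invariants ≃ₗ[K] (Q → K) :=
    LinearEquiv.ofBijective Ψ ⟨hinj, hsurj⟩
  rw [e.finrank_eq, Module.finrank_fintype_fun_eq_card, Nat.card_eq_fintype_card]

end Cfsg.Agent.S0668
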