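import Mathlib
import Cfsg.Statements.S0677
import Cfsg.Agent.Helper12.IndexP
import Cfsg.Agent.Helper12.AffineOrTwoTrans

set_option autoImplicit false
open Cfsg

namespace Cfsg.Agent.S0677

open Cfsg.Agent.Helper12

/-- In a transitive permutation group of prime degree `p` whose Sylow `p`-normaliser has even order, the point stabilisers are the only subgroups of index `p`. -/
theorem result {α : Type*} [Fintype α] [DecidableEq α] {p : ℕ} [Fact p.Prime] (hα : Fintype.card α = p) (G : Subgroup (Equiv.Perm α)) [MulAction.IsPretransitive G α] (P : Sylow p G) (heven : Even (Nat.card (Subgroup.normalizer ((P : Subgroup G) : Set G)))) (H : Subgroup G) (hH : H.index = p) : ∃ a : α, H = MulAction.stabilizer G a := by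
  classical
  have hpp : p.Prime := Fact.out
  have hne : Nonempty α := by
    rw [← Fintype.card_pos_iff, hα]
    exact hpp.pos
  obtain ⟨a0⟩ := hne
  have hG_dvd : Nat.card G ∣ p.factorial := by
    have := Subgroup.card_subgroup_dvd_card G
    rwa [Nat.card_eq_fintype_card (α := Equiv.Perm α), Fintype.card_perm, hα] at this
  have hp2G : ¬ p ^ 2 ∣ Nat.card G := by
    intro h
    have h1 := dvd_trans h hG_dvd
    rw [← Nat.mul_factorial_pred hpp.ne_zero, pow_two] at h1
    have h2 : p ∣ (p - 1).factorial := Nat.dvd_of_mul_dvd_mul_left hpp.pos h1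
    rw [hpp.dvd_factorial] at h2
    have := hpp.pos
    omega
  have hHG : Nat.card H * p = Nat.card G := by
    rw [← hH]
    exact H.card_mul_index
  have hpH : ¬ p ∣ Nat.card H := by
    intro h
    apply hp2G
    rw [← hHG, pow_two]
    exact Nat.mul_dvd_mul h (dvd_refl p)
  suffices hfix : ∃ x : α, ∀ h : G, h ∈ H → h.1 x = x by
    obtain ⟨x, hx⟩ := hfix
    refine ⟨x, ?_⟩
    have hle : H ≤ MulAction.stabilizer G x := fun h hh => by
      rw [MulAction.mem_stabilizer_iff]
      exact hx h hh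
    have hidx : (MulAction.stabilizer G x).index = p := by
      rw [MulAction.index_stabilizer_of_transitive, Nat.card_eq_fintype_card, hα]
    have hrel := Subgroup.relIndex_mul_index hle
    rw [hidx, hH] at hrel
    have hrel1 : H.relIndex (MulAction.stabilizer G x) = 1 := by
      have := hpp.pos
      nlinarith
    exact le_antisymm hle (Subgroup.relIndex_eq_one.mp hrel1)
  rcases AffTT.affine_or_two_trans hα G with ⟨e, haff⟩ | h2t
  · exact IndexP.fixed_of_affine e G H hpH haff
  by_cases hp2 : p = 2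
  · refine ⟨a0, fun h hh => ?_⟩
    have hG2 : Nat.card G ∣ 2 := by
      rw [hp2] at hG_dvd
      simpa using hG_dvd
    have hH1 : Nat.card H = 1 := by
      rw [hp2] at hHG
      have := Nat.le_of_dvd (by norm_num) hG2
      have hpos : 0 < Nat.card H := Nat.card_pos
      omega
    have hbot : H = ⊥ := Subgroup.card_eq_one.mp hH1
    rw [hbot, Subgroup.mem_bot] at hh
    rw [hh]
    rfl
  -- the Sylow `p`-subgroup has order `p`
  have hpG : p ∣ Nat.card G := by
    rw [← hHG]
    exact dvd_mul_left p _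
  have hPcard : Nat.card P = p := by
    obtain ⟨n, hn⟩ := IsPGroup.iff_card.mp P.isPGroup'
    have h1 : p ∣ Nat.card P := P.dvd_card_of_dvd_card hpG
    have h2 : Nat.card P ∣ Nat.card G := Subgroup.card_subgroup_dvd_card _
    rw [hn] at h1 h2 ⊢
    have hn1 : n ≠ 0 := by
      rintro rfl
      rw [pow_zero] at h1
      exact hpp.one_lt.ne' (Nat.dvd_one.mp h1)
    have hn2 : n < 2 := by
      by_contra hcon
      push Not at hcon
      exact hp2G (dvd_trans (pow_dvd_pow p hcon) h2)
    have : n = 1 := by omega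
    rw [this, pow_one]
  obtain ⟨s0, hs0⟩ := exists_prime_orderOf_dvd_card' p (dvd_of_eq hPcard.symm : p ∣ Nat.card P)
  set σ0 : G := s0.1 with hσ0
  have hσ0ord : orderOf σ0 = p := by
    rw [← hs0]
    exact Subgroup.orderOf_coe s0
  have hPz : Subgroup.zpowers σ0 = (P : Subgroup G) := by
    apply Subgroup.eq_of_le_of_card_ge
    · rw [Subgroup.zpowers_le]
      exact s0.2
    · rw [Nat.card_zpowers, hσ0ord]
      exact hPcard.le
  -- an involution in the normaliser
  obtain ⟨t0, ht0⟩ := exists_prime_orderOf_dvd_card' 2 heven.two_dvd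
  set τ0 : G := t0.1 with hτ0
  have hτ0ord : orderOf τ0 = 2 := by
    rw [← ht0]
    exact Subgroup.orderOf_coe t0
  have hτ0norm : τ0 * σ0 * τ0⁻¹ ∈ Subgroup.zpowers σ0 := by
    rw [hPz]
    exact (Subgroup.mem_normalizer_iff.mp t0.2 σ0).mp s0.2
  -- a coset fixed by the involution
  have hZ : IsPGroup 2 (Subgroup.zpowers τ0) :=
    IsPGroup.of_card (n := 1) (by rw [Nat.card_zpowers, hτ0ord, pow_one])
  have hnd : ¬ 2 ∣ Nat.card (G ⧸ H) := by
    rw [← Subgroup.index_eq_card, hH]
    intro h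
    exact hp2 ((Nat.prime_dvd_prime_iff_eq Nat.prime_two hpp).mp h).symm
  obtain ⟨q, hq⟩ := hZ.nonempty_fixed_point_of_prime_not_dvd_card (G ⧸ H) hnd
  obtain ⟨g, rfl⟩ := QuotientGroup.mk_surjective q
  have hfixq : τ0 • (g : G ⧸ H) = (g : G ⧸ H) := hq ⟨τ0, Subgroup.mem_zpowers τ0⟩
  have hτH : g⁻¹ * (τ0 * g) ∈ H := by
    rw [MulAction.Quotient.smul_coe] at hfixq
    exact QuotientGroup.eq.mp hfixq.symm
  set c : G := g⁻¹ with hc
  have hcg : c⁻¹ = g := by rw [hc, inv_inv]
  set σ : G := c * σ0 * c⁻¹ with hσ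
  set τ : G := c * τ0 * c⁻¹ with hτ
  have hσord : orderOf σ = p := by
    rw [← hσ0ord]
    exact (MulAut.conj c).orderOf_eq σ0
  have hτH' : τ ∈ H := by
    rw [hτ, hcg, mul_assoc]
    exact hτH
  have hτ0sq : τ0 * τ0 = 1 := by
    rw [← pow_two, ← hτ0ord]
    exact pow_orderOf_eq_one τ0
  have hτ2 : τ * τ = 1 := by
    have : τ * τ = c * (τ0 * τ0) * c⁻¹ := by rw [hτ]; group
    rw [this, hτ0sq]
    group
  have hτ1 : τ ≠ 1 := by
    intro h
    have h1 : τ0 = c⁻¹ * τ * c := by rw [hτ]; group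
    have h2 : τ0 = 1 := by rw [h1, h]; group
    rw [h2, orderOf_one] at hτ0ord
    omega
  obtain ⟨k, hk⟩ : ∃ k : ℕ, σ0 ^ k = τ0 * σ0 * τ0⁻¹ :=
    (mem_powers_iff_mem_zpowers).mpr hτ0norm
  have hτσ : τ * σ * τ⁻¹ = σ ^ k := by
    rw [hσ, conj_pow, hk, hτ]
    group
  exact IndexP.two_trans_case hα hp2 G h2t H hH hpH σ τ hσord hτH' hτ2 hτ1 k hτσ

end Cfsg.Agent.S0677
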