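import Mathlib
import Cfsg.Statements.S0681
import Cfsg.Agent.Helper12.NearField

set_option autoImplicit false
open Cfsg

namespace Cfsg.Agent.S0681

open Cfsg.Agent.Helper12

/-- The affine maps `x ↦ x * a + b`, `a ≠ 0`, of a near-field form a sharply doubly transitive permutation group. -/
theorem result {F : Type*} [Cfsg.NearField F] : ∃ H : Subgroup (Equiv.Perm F), (∀ σ : Equiv.Perm F, σ ∈ H ↔ ∃ a b : F, a ≠ 0 ∧ ∀ x : F, σ x = x * a + b) ∧ MulAction.IsMultiplyPretransitive H F 2 ∧ ∀ x : Fin 2 ↪ F, MulAction.stabilizer H x = ⊥ := by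
  refine ⟨NF.affine F, NF.mem_affine, ?_, ?_⟩
  · rw [MulAction.is_two_pretransitive_iff]
    intro a b c d hab hcd
    exact NF.affine_two_transitive hab hcd
  · intro x
    rw [Subgroup.eq_bot_iff_forall]
    intro σ hσ
    rw [MulAction.mem_stabilizer_iff] at hσ
    have h0 : (σ : Equiv.Perm F) (x 0) = x 0 := by
      have := congrArg (fun w : Fin 2 ↪ F => w 0) hσ
      exact this
    have h1 : (σ : Equiv.Perm F) (x 1) = x 1 := by
      have := congrArg (fun w : Fin 2 ↪ F => w 1) hσ
      exact this
    have hne : x 0 ≠ x 1 := fun h => by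
      have := x.injective h
      exact absurd this (by decide)
    apply Subtype.ext
    exact NF.affine_sharp hne σ σ.2 h0 h1

end Cfsg.Agent.S0681
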