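import Mathlib
import Cfsg.Statements.S0682
import Cfsg.Agent.Helper12.NearField

set_option autoImplicit false
open Cfsg

namespace Cfsg.Agent.S0682

open Cfsg.Agent.Helper12

theorem nsmul_mul {F : Type*} [Cfsg.NearField F] (n : ℕ) (a c : F) :
    (n • a) * c = n • (a * c) := by
  induction n with
  | zero => rw [zero_smul, zero_smul, NF.zero_mul']
  | succ k ih => rw [succ_nsmul, succ_nsmul, NF.add_mul', ih]

/-- any nonzero `x` is `a * c` for nonzero `a`. -/
theorem exists_mul_eq {F : Type*} [Cfsg.NearField F] {a : F} (ha : a ≠ 0) (x : F) :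
    ∃ c : F, x = a * c := by
  obtain ⟨a', h1, _⟩ := NF.exists_inv' ha
  exact ⟨a' * x, by rw [← mul_assoc, h1, one_mul]⟩

/-- A finite near-field has prime-power order; its additive group is commutative of prime exponent. -/
theorem result {F : Type*} [Cfsg.NearField F] [Finite F] : ∃ p j : ℕ, p.Prime ∧ 1 ≤ j ∧ Nat.card F = p ^ j ∧ (∀ x y : F, x + y = y + x) ∧ ∀ x : F, p • x = 0 := by
  have hnt : Nontrivial F := ⟨0, 1, NF.zero_ne_one'⟩
  have hcard1 : Nat.card F ≠ 1 := by
    intro h
    have := (Nat.card_eq_one_iff_unique.mp h).1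
    exact NF.zero_ne_one' (Subsingleton.elim (0 : F) 1)
  set p := (Nat.card F).minFac with hp_def
  have hp : p.Prime := Nat.minFac_prime hcard1
  have : Fact p.Prime := ⟨hp⟩
  obtain ⟨a, ha⟩ := exists_prime_addOrderOf_dvd_card' (G := F) p (Nat.minFac_dvd _)
  have ha0 : a ≠ 0 := by
    rintro rfl
    rw [addOrderOf_zero] at ha
    exact hp.one_lt.ne ha
  have hpa : p • a = 0 := by
    rw [← ha]; exact addOrderOf_nsmul_eq_zero a
  have hexp : ∀ x : F, p • x = 0 := by
    intro x
    obtain ⟨c, rfl⟩ := exists_mul_eq ha0 x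
    rw [← nsmul_mul, hpa, NF.zero_mul']
  -- `F` is a `p`-group
  have hPG : IsPGroup p (Multiplicative F) := by
    intro g
    refine ⟨1, ?_⟩
    rw [pow_one]
    have : g ^ p = Multiplicative.ofAdd (p • Multiplicative.toAdd g) := rfl
    rw [this, hexp]
    rfl
  obtain ⟨j, hj⟩ := (IsPGroup.iff_card (p := p) (G := Multiplicative F)).mp hPG
  have hj' : Nat.card F = p ^ j := hj
  have hj1 : 1 ≤ j := by
    rcases Nat.eq_zero_or_pos j with h0 | h0
    · rw [h0, pow_zero] at hj'
      exact absurd hj' hcard1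
    · exact h0
  -- a nonzero central element
  have : Nontrivial (Multiplicative F) := hnt
  have hcn : Nontrivial (Subgroup.center (Multiplicative F)) := hPG.center_nontrivial
  obtain ⟨⟨z, hz⟩, hz1⟩ := exists_ne (1 : Subgroup.center (Multiplicative F))
  have hz0 : Multiplicative.toAdd z ≠ 0 := by
    intro h
    apply hz1
    apply Subtype.ext
    exact h
  have hzc : ∀ y : F, Multiplicative.toAdd z + y = y + Multiplicative.toAdd z := by
    intro y
    have := Subgroup.mem_center_iff.mp hz (Multiplicative.ofAdd y)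
    exact this.symm
  refine ⟨p, j, hp, hj1, hj', ?_, hexp⟩
  intro x y
  by_cases hx : x = 0
  · rw [hx, zero_add, add_zero]
  · obtain ⟨c, hc⟩ := exists_mul_eq hz0 x
    have hc0 : c ≠ 0 := by
      rintro rfl
      rw [NF.mul_zero'] at hc
      exact hx hc
    obtain ⟨c', h1, h2⟩ := NF.exists_inv' hc0
    have hy : y = (y * c') * c := by rw [mul_assoc, h2, mul_one]
    rw [hc, hy, ← NF.add_mul', ← NF.add_mul', hzc]

end Cfsg.Agent.S0682
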