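import Cfsg.Statements.S0683
import Cfsg.Agent.S0680
import Mathlib.Algebra.Group.MinimalAxioms

set_option autoImplicit false
set_option linter.unusedSectionVars false
open Cfsg

namespace Cfsg.Agent.S0683

open MulAction Cfsg.Agent.S0680

section Abstract

variable {G Ω : Type*} [Group G] [MulAction G Ω] [Fintype G] [Fintype Ω] [DecidableEq Ω]
  [DecidableEq G]
variable (hT : ∀ a b c d : Ω, a ≠ b → c ≠ d → ∃ g : G, g • a = c ∧ g • b = d)
  (hF : ∀ g : G, g ≠ 1 → ∀ a b : Ω, g • a = a → g • b = b → a = b)

include hT hF

/-- translation: the unique kernel element mapping `o` to `x`. -/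
noncomputable def tau (o x : Ω) : G := Classical.choose (kernelSub_transitive hT hF o x)

theorem tau_mem (o x : Ω) : tau hT hF o x ∈ kernelSub hT hF :=
  (Classical.choose_spec (kernelSub_transitive hT hF o x)).1

theorem tau_smul (o x : Ω) : tau hT hF o x • o = x :=
  (Classical.choose_spec (kernelSub_transitive hT hF o x)).2

theorem tau_unique (o x : Ω) {k : G} (hk : k ∈ kernelSub hT hF) (hko : k • o = x) :
    k = tau hT hF o x :=
  kernelSub_unique hT hF hk (tau_mem hT hF o x) (by rw [hko, tau_smul])

theorem tau_self (o : Ω) : tau hT hF o o = 1 :=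
  (tau_unique hT hF o o (kernelSub hT hF).one_mem (one_smul _ _)).symm

theorem tau_tau (o x y : Ω) : tau hT hF o (tau hT hF o y • x) = tau hT hF o y * tau hT hF o x := by
  symm
  apply tau_unique
  · exact (kernelSub hT hF).mul_mem (tau_mem hT hF o y) (tau_mem hT hF o x)
  · rw [mul_smul, tau_smul]

/-- dilation: the unique element fixing `o` and mapping `e` to `a`. -/
noncomputable def mu (o e : Ω) (hoe : o ≠ e) (a : Ω) : G :=
  if h : o = a then 1 else Classical.choose (hT o e o a hoe h)

theorem mu_smul_o (o e : Ω) (hoe : o ≠ e) {a : Ω} (ha : o ≠ a) : mu hT o e hoe a • o = o := by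
  unfold mu
  rw [dif_neg ha]
  exact (Classical.choose_spec (hT o e o a hoe ha)).1

theorem mu_smul_e (o e : Ω) (hoe : o ≠ e) {a : Ω} (ha : o ≠ a) : mu hT o e hoe a • e = a := by
  unfold mu
  rw [dif_neg ha]
  exact (Classical.choose_spec (hT o e o a hoe ha)).2

theorem mu_unique (o e : Ω) (hoe : o ≠ e) {a : Ω} (ha : o ≠ a) {g : G} (hgo : g • o = o)
    (hge : g • e = a) : g = mu hT o e hoe a :=
  uniq hF hoe (by rw [hgo, mu_smul_o hT hF o e hoe ha]) (by rw [hge, mu_smul_e hT hF o e hoe ha])

/-- the additive group -/
noncomputable def addGrp (o : Ω) : AddGroup Ω :=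
  letI : Add Ω := ⟨fun x y => tau hT hF o y • x⟩
  letI : Zero Ω := ⟨o⟩
  letI : Neg Ω := ⟨fun x => (tau hT hF o x)⁻¹ • o⟩
  AddGroup.ofLeftAxioms
    (by
      intro x y z
      change tau hT hF o z • tau hT hF o y • x = tau hT hF o (tau hT hF o z • y) • x
      rw [tau_tau, mul_smul])
    (by
      intro y
      exact tau_smul hT hF o y)
    (by
      intro x
      change tau hT hF o x • (tau hT hF o x)⁻¹ • o = o
      rw [smul_inv_smul])

/-- the multiplicative monoid -/
noncomputable def mon (o e : Ω) (hoe : o ≠ e) : Monoid Ω :=
  letI : Mul Ω := ⟨fun x a => if o = a then o else mu hT o e hoe a • x⟩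
  letI : One Ω := ⟨e⟩
  { mul_assoc := by
      intro x a b
      change (if o = b then o else mu hT o e hoe b • (if o = a then o else mu hT o e hoe a • x)) =
        if o = (if o = b then o else mu hT o e hoe b • a) then o
          else mu hT o e hoe (if o = b then o else mu hT o e hoe b • a) • x
      by_cases hb : o = b
      · simp [hb]
      · rw [if_neg hb, if_neg hb]
        by_cases ha : o = a
        · rw [if_pos ha, mu_smul_o hT hF o e hoe hb]
          have : o = mu hT o e hoe b • a := by rw [← ha, mu_smul_o hT hF o e hoe hb]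
          rw [if_pos this]
        · rw [if_neg ha]
          have hne : o ≠ mu hT o e hoe b • a := by
            intro h
            apply ha
            have h2 : mu hT o e hoe b • o = mu hT o e hoe b • a := by
              rw [mu_smul_o hT hF o e hoe hb]; exact h
            exact smul_left_cancel _ h2
          rw [if_neg hne]
          have : mu hT o e hoe b * mu hT o e hoe a = mu hT o e hoe (mu hT o e hoe b • a) := by
            apply mu_unique hT hF o e hoe hne
            · rw [mul_smul, mu_smul_o hT hF o e hoe ha, mu_smul_o hT hF o e hoe hb]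
            · rw [mul_smul, mu_smul_e hT hF o e hoe ha]
          rw [← this, mul_smul]
    one_mul := by
      intro a
      change (if o = a then o else mu hT o e hoe a • e) = a
      by_cases ha : o = a
      · rw [if_pos ha]; exact ha
      · rw [if_neg ha, mu_smul_e hT hF o e hoe ha]
    mul_one := by
      intro x
      change (if o = e then o else mu hT o e hoe e • x) = x
      rw [if_neg hoe]
      have : (1 : G) = mu hT o e hoe e := mu_unique hT hF o e hoe hoe (one_smul _ _) (one_smul _ _)
      rw [← this, one_smul] }

/-- the near-field structure -/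
noncomputable def nearField (o e : Ω) (hoe : o ≠ e) : Cfsg.NearField Ω :=
  { addGrp hT hF o, mon hT hF o e hoe with
    right_distrib := by
      intro x y c
      change (if o = c then o else mu hT o e hoe c • (tau hT hF o y • x)) =
        tau hT hF o (if o = c then o else mu hT o e hoe c • y) •
          (if o = c then o else mu hT o e hoe c • x)
      by_cases hc : o = c
      · rw [if_pos hc, if_pos hc, if_pos hc, tau_self, one_smul]
      · rw [if_neg hc, if_neg hc, if_neg hc]
        have hconj : mu hT o e hoe c * tau hT hF o y * (mu hT o e hoe c)⁻¹ =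
            tau hT hF o (mu hT o e hoe c • y) := by
          apply tau_unique
          · exact (kernelSub_normal hT hF).conj_mem _ (tau_mem hT hF o y) _
          · have hinv : (mu hT o e hoe c)⁻¹ • o = o := by
              rw [inv_smul_eq_iff, mu_smul_o hT hF o e hoe hc]
            rw [mul_smul, mul_smul, hinv, tau_smul]
        rw [← hconj, mul_smul, mul_smul, inv_smul_smul]
    mul_zero := by
      intro a
      change (if o = o then o else mu hT o e hoe o • a) = o
      rw [if_pos rfl]
    zero_ne_one := hoe
    exists_inv := by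
      intro a ha
      have ha' : o ≠ a := fun h => ha h.symm
      have hbne : o ≠ (mu hT o e hoe a)⁻¹ • e := by
        intro h
        apply hoe
        have h2 : mu hT o e hoe a • o = e :=
          calc mu hT o e hoe a • o = mu hT o e hoe a • ((mu hT o e hoe a)⁻¹ • e) := congrArg _ h
            _ = e := smul_inv_smul _ _
        rw [mu_smul_o hT hF o e hoe ha'] at h2
        exact h2
      have hmub : (mu hT o e hoe a)⁻¹ = mu hT o e hoe ((mu hT o e hoe a)⁻¹ • e) := by
        apply mu_unique hT hF o e hoe hbne
        · rw [inv_smul_eq_iff, mu_smul_o hT hF o e hoe ha']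
        · rfl
      refine ⟨(mu hT o e hoe a)⁻¹ • e, ?_, ?_⟩
      · change (if o = (mu hT o e hoe a)⁻¹ • e then o
          else mu hT o e hoe ((mu hT o e hoe a)⁻¹ • e) • a) = e
        rw [if_neg hbne, ← hmub, inv_smul_eq_iff, mu_smul_e hT hF o e hoe ha']
      · change (if o = a then o else mu hT o e hoe a • (mu hT o e hoe a)⁻¹ • e) = e
        rw [if_neg ha', smul_inv_smul] }

theorem nearField_add (o e : Ω) (hoe : o ≠ e) (x y : Ω) :
    letI := nearField hT hF o e hoe
    x + y = tau hT hF o y • x := rfl

theorem nearField_zero (o e : Ω) (hoe : o ≠ e) :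
    letI := nearField hT hF o e hoe
    (0 : Ω) = o := rfl

theorem nearField_mul (o e : Ω) (hoe : o ≠ e) (x a : Ω) :
    letI := nearField hT hF o e hoe
    x * a = if o = a then o else mu hT o e hoe a • x := rfl

end Abstract

/-- A finite sharply doubly transitive permutation group is the affine group of a near-field. -/
theorem result {α : Type*} [Fintype α] [DecidableEq α] (H : Subgroup (Equiv.Perm α)) [MulAction.IsMultiplyPretransitive H α 2] (hsharp : ∀ x : Fin 2 ↪ α, MulAction.stabilizer H x = ⊥) (h2 : 2 ≤ Fintype.card α) : ∃ _ : Cfsg.NearField α, ∀ σ : Equiv.Perm α, σ ∈ H ↔ ∃ a b : α, a ≠ 0 ∧ ∀ x : α, σ x = x * a + b := by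
  classical
  let _ : Fintype H := Fintype.ofFinite H
  have hT : ∀ a b c d : α, a ≠ b → c ≠ d → ∃ g : H, g • a = c ∧ g • b = d := by
    intro a b c d hab hcd
    exact (MulAction.is_two_pretransitive_iff (G := H) (α := α)).mp inferInstance hab hcd
  have hF : ∀ g : H, g ≠ 1 → ∀ a b : α, g • a = a → g • b = b → a = b := by
    intro g hg a b ha hb
    by_contra hab
    apply hg
    have : g ∈ MulAction.stabilizer H (Function.Embedding.embFinTwo hab) := by
      rw [MulAction.mem_stabilizer_iff]
      ext i
      change g • (Function.Embedding.embFinTwo hab i) = _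
      by_cases hi : i = 0
      · rw [hi, Function.Embedding.embFinTwo_apply_zero]; exact ha
      · rw [Fin.eq_one_of_ne_zero i hi, Function.Embedding.embFinTwo_apply_one]; exact hb
    rw [hsharp, Subgroup.mem_bot] at this
    exact this
  obtain ⟨o, e, hoe⟩ : ∃ o e : α, o ≠ e := Fintype.one_lt_card_iff.mp (by omega)
  refine ⟨nearField hT hF o e hoe, ?_⟩
  intro σ
  constructor
  · intro hσ
    set g : H := ⟨σ, hσ⟩ with hg
    set b : α := g • o with hb
    set g' : H := (tau hT hF o b)⁻¹ * g with hg'
    have hg'o : g' • o = o := by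
      rw [hg', mul_smul, ← hb, inv_smul_eq_iff, tau_smul]
    set a : α := g' • e with ha
    have hane : o ≠ a := by
      intro h
      apply hoe
      have : g' • o = g' • e := by rw [hg'o, ← ha]; exact h
      exact smul_left_cancel _ this
    have hmu : g' = mu hT o e hoe a := mu_unique hT hF o e hoe hane hg'o rfl
    refine ⟨a, b, fun h => hane h.symm, ?_⟩
    intro x
    have hgx : σ x = g • x := rfl
    have hgdecomp : g = tau hT hF o b * g' := by rw [hg']; group
    change σ x = tau hT hF o b • (if o = a then o else mu hT o e hoe a • x)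
    rw [if_neg hane, ← hmu, hgx, hgdecomp, mul_smul]
  · rintro ⟨a, b, ha, hσ⟩
    have hane : o ≠ a := fun h => ha h.symm
    have : σ = ((tau hT hF o b * mu hT o e hoe a : H) : Equiv.Perm α) := by
      ext x
      rw [hσ x]
      change tau hT hF o b • (if o = a then o else mu hT o e hoe a • x) = _
      rw [if_neg hane]
      rfl
    rw [this]
    exact (tau hT hF o b * mu hT o e hoe a : H).2

end Cfsg.Agent.S0683
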