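import Mathlib
import Cfsg.Statements.S0686
import Cfsg.Agent.S0690
import Cfsg.Agent.S0684
import Cfsg.Agent.Helper12.NfBasic
import Cfsg.Agent.Helper12.NfGrp
-- import your own Cfsg.Agent.* helpers here

set_option autoImplicit false
open Cfsg

namespace Cfsg.Agent.S0686

open Cfsg.Agent.Helper12
open Cfsg.Agent.S0684 (actHom actHom_apply fpf_of_reg)
open scoped commutatorElement

/-- a perfect subgroup of a regular linear group is `SL(2,5)` (Zassenhaus, via S0690) -/
theorem perfect_case {p : ℕ} [Fact p.Prime] {V : Type*} [AddCommGroup V] [Module (ZMod p) V]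
    [Finite V] (H : Subgroup (V ≃ₗ[ZMod p] V))
    (hreg : ∀ v w : V, v ≠ 0 → w ≠ 0 → ∃! h : H, (h : V ≃ₗ[ZMod p] V) v = w)
    (N : Subgroup H) (hperf : commutator ↥N = ⊤) (hne : N ≠ ⊥) :
    Nonempty (N ≃* Matrix.SpecialLinearGroup (Fin 2) (ZMod 5)) := by
  let φ : ↥N →* MulAut (Multiplicative V) := (actHom.comp H.subtype).comp N.subtype
  have hφ1 : ∀ n : ↥N, φ n = 1 → n = 1 := by
    intro n hn
    apply Subtype.ext
    apply Subtype.ext
    ext v
    have h1 := congrArg (fun f : MulAut (Multiplicative V) => f (Multiplicative.ofAdd v)) hn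
    exact h1
  have hinj : Function.Injective φ := (injective_iff_map_eq_one φ).2 hφ1
  have e : ↥N ≃* ↥φ.range := MonoidHom.ofInjective hinj
  have hfpf : ∀ ψ ∈ φ.range, ψ ≠ 1 → ∀ k : Multiplicative V, ψ k = k → k = 1 := by
    rintro _ ⟨n, rfl⟩ hn1 k hk
    by_contra hk1
    apply hn1
    have hv0 : Multiplicative.toAdd k ≠ 0 := fun h => hk1 (by
      rw [← ofAdd_toAdd k, h]; rfl)
    have hfix : ((n : H) : V ≃ₗ[ZMod p] V) (Multiplicative.toAdd k) = Multiplicative.toAdd k :=
      congrArg Multiplicative.toAdd hk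
    have h1 := fpf_of_reg H hreg (n : H) _ hv0 hfix
    have h2 : n = 1 := Subtype.ext h1
    rw [h2, map_one]
  have hperf' : commutator ↥φ.range = ⊤ := by
    have h1 := Subgroup.map_commutator (⊤ : Subgroup ↥N) ⊤ e.toMonoidHom
    have h2 : (⊤ : Subgroup ↥N).map e.toMonoidHom = ⊤ := by
      rw [← MonoidHom.range_eq_map, MonoidHom.range_eq_top]
      exact e.surjective
    rw [h2] at h1
    have h3 : commutator ↥N = ⁅(⊤ : Subgroup ↥N), ⊤⁆ := rfl
    rw [h3] at hperf
    rw [hperf, h2] at h1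
    exact h1.symm
  have hne' : φ.range ≠ ⊥ := by
    intro hbot
    apply hne
    rw [Subgroup.eq_bot_iff_forall]
    intro x hx
    have h1 : φ ⟨x, hx⟩ ∈ φ.range := ⟨_, rfl⟩
    rw [hbot, Subgroup.mem_bot] at h1
    exact congrArg Subtype.val (hφ1 _ h1)
  obtain ⟨e2⟩ := Cfsg.Agent.S0690.result φ.range hfpf hperf' hne'
  exact ⟨e.trans e2⟩

/-- In a linear group over the prime field that is regular on non-zero vectors and has no irreducible cyclic normal subgroup, let `A` be a maximal normal abelian subgroup and `N` a normal subgroup centralising `A` that is minimal among non-abelian normal subgroups centralising `A`. Then `N` is quaternion of order 8 or isomorphic to `SL(2,5)`. -/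
theorem result {p : ℕ} [Fact p.Prime] {V : Type*} [AddCommGroup V] [Module (ZMod p) V] [Finite V] (H : Subgroup (V ≃ₗ[ZMod p] V)) (hreg : ∀ v w : V, v ≠ 0 → w ≠ 0 → ∃! h : H, (h : V ≃ₗ[ZMod p] V) v = w) (hI : ∀ A : Subgroup H, A.Normal → IsCyclic A → ∃ W : Submodule (ZMod p) V, W ≠ ⊥ ∧ W ≠ ⊤ ∧ ∀ a ∈ A, ∀ v ∈ W, ((a : H) : V ≃ₗ[ZMod p] V) v ∈ W) (A : Subgroup H) (hAn : A.Normal) (hAc : IsMulCommutative A) (hAmax : ∀ B : Subgroup H, B.Normal → IsMulCommutative B → A ≤ B → B = A) (N : Subgroup H) (hNn : N.Normal) (hNle : N ≤ Subgroup.centralizer (A : Set H)) (hNna : ¬ IsMulCommutative N) (hNmin : ∀ M : Subgroup H, M.Normal → M ≤ N → ¬ IsMulCommutative M → M = N) : Nonempty (N ≃* QuaternionGroup 2) ∨ Nonempty (N ≃* Matrix.SpecialLinearGroup (Fin 2) (ZMod 5)) := by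
  classical
  have hVnt : Nontrivial V := by
    obtain ⟨W, hW, _, _⟩ := hI ⊥ inferInstance inferInstance
    obtain ⟨w, _, hw0⟩ := (Submodule.ne_bot_iff W).mp hW
    exact ⟨⟨w, 0, hw0⟩⟩
  haveI : Finite (V ≃ₗ[ZMod p] V) := Finite.of_injective (fun g => (g : V → V))
    (fun g h hgh => LinearEquiv.ext (congrFun hgh))
  haveI := hNn
  have hcn : (⁅N, N⁆ : Subgroup H).Normal := inferInstance
  have hcle : (⁅N, N⁆ : Subgroup H) ≤ N := Subgroup.commutator_le_left N N
  by_cases hcc : IsMulCommutative (⁅N, N⁆ : Subgroup H)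
  · -- the soluble case: quaternion of order eight
    left
    have hNR2 := NfBasic.nr2 H hreg
    have hcA := NfGrp.le_of_comm A hAn hAc hAmax N hNle _ hcn hcle hcc
    have hcl2 : ∀ x y z : H, x ∈ N → y ∈ N → z ∈ N → ⁅x, y⁆ * z = z * ⁅x, y⁆ := by
      intro x y z hx hy hz
      have hmem : ⁅x, y⁆ ∈ A := hcA (Subgroup.commutator_mem_commutator hx hy)
      exact ((Subgroup.mem_centralizer_iff.mp (hNle hz)) _ hmem)
    obtain ⟨r, hr, hNr⟩ := NfGrp.isPGroup_of_minimal N hNn hNna hNmin hcl2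
    exact NfGrp.quaternion_of_pgroup hNR2 N hNna r hr hNr hcl2
  · -- the perfect case
    right
    have heq := hNmin _ hcn hcle hcc
    have hperf : commutator ↥N = ⊤ := by
      have h1 : (commutator ↥N).map N.subtype = ⁅N, N⁆ := by
        have h2 := Subgroup.map_commutator (⊤ : Subgroup ↥N) ⊤ N.subtype
        have h3 : (⊤ : Subgroup ↥N).map N.subtype = N := by
          rw [← MonoidHom.range_eq_map, Subgroup.range_subtype]
        rw [h3] at h2
        exact h2
      apply Subgroup.map_injective N.subtype_injective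
      rw [h1, heq, ← MonoidHom.range_eq_map, Subgroup.range_subtype]
    have hne : N ≠ ⊥ := by
      intro hbot
      apply hNna
      refine ⟨⟨fun a b => ?_⟩⟩
      apply Subtype.ext
      have ha : (a : H) = 1 := (Subgroup.eq_bot_iff_forall N).mp hbot a a.2
      have hb : (b : H) = 1 := (Subgroup.eq_bot_iff_forall N).mp hbot b b.2
      simp [ha, hb]
    exact perfect_case H hreg N hperf hne

end Cfsg.Agent.S0686
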