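import Mathlib
import Cfsg.Statements.S0688
import Cfsg.Agent.S0684
import Cfsg.Agent.S0685
import Cfsg.Agent.S0687
import Cfsg.Agent.Helper12.NfBasic
import Cfsg.Agent.Helper12.NfGrp
import Cfsg.Agent.Helper12.NfQ8Lin
import Cfsg.Agent.Helper20.NormIdx

set_option autoImplicit false
open Cfsg

namespace Cfsg.Agent.S0688

open Cfsg.Agent.Helper12

/-- every element of `Q₈` is a word in `a 1`, `xa 0` -/
theorem q8_word (q : QuaternionGroup 2) :
    ∃ k : ℕ, q = (QuaternionGroup.a 1) ^ k ∨ q = QuaternionGroup.xa 0 * (QuaternionGroup.a 1) ^ k := by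
  cases q with
  | a i =>
    refine ⟨i.val, Or.inl ?_⟩
    rw [QuaternionGroup.a_one_pow, ZMod.natCast_zmod_val]
  | xa i =>
    refine ⟨i.val, Or.inr ?_⟩
    rw [QuaternionGroup.a_one_pow, QuaternionGroup.xa_mul_a, zero_add, ZMod.natCast_zmod_val]

theorem prime_of_succ_dvd (p : ℕ) (hp : p.Prime) (h : (p + 1) ∣ 24) :
    p = 2 ∨ p = 3 ∨ p = 5 ∨ p = 7 ∨ p = 11 ∨ p = 23 := by
  have hle : p + 1 ≤ 24 := Nat.le_of_dvd (by norm_num) h
  have hp23 : p ≤ 23 := by omega
  interval_cases p <;> first | omega | (exfalso; revert hp; decide) | (exfalso; revert h; decide)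

theorem pow_invariant {k : Type*} [Field k] {V : Type*} [AddCommGroup V] [Module k V]
    (W : Submodule k V) (g : V ≃ₗ[k] V) (hg : ∀ v ∈ W, g v ∈ W) (n : ℕ) :
    ∀ v ∈ W, (g ^ n) v ∈ W := by
  induction n with
  | zero => intro v hv; simpa using hv
  | succ n ih =>
    intro v hv
    rw [pow_succ', LinearEquiv.mul_apply]
    exact hg _ (ih v hv)

/-- Degrees of the soluble exceptional sharply doubly transitive groups: if a solvable linear group over the prime field is regular on the non-zero vectors of `V` and has no irreducible cyclic normal subgroup, then `V` has 25, 49, 121 or 529 elements. -/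
theorem result {p : ℕ} [Fact p.Prime] {V : Type*} [AddCommGroup V] [Module (ZMod p) V] [Finite V] (H : Subgroup (V ≃ₗ[ZMod p] V)) (hreg : ∀ v w : V, v ≠ 0 → w ≠ 0 → ∃! h : H, (h : V ≃ₗ[ZMod p] V) v = w) (hI : ∀ A : Subgroup H, A.Normal → IsCyclic A → ∃ W : Submodule (ZMod p) V, W ≠ ⊥ ∧ W ≠ ⊤ ∧ ∀ a ∈ A, ∀ v ∈ W, ((a : H) : V ≃ₗ[ZMod p] V) v ∈ W) (hsolv : Group.IsSolvable H) : Nat.card V = 25 ∨ Nat.card V = 49 ∨ Nat.card V = 121 ∨ Nat.card V = 529 := by
  classical
  have hpp : p.Prime := Fact.out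
  have hVnt : Nontrivial V := by
    obtain ⟨W, hW, _, _⟩ := hI ⊥ inferInstance inferInstance
    obtain ⟨w, _, hw0⟩ := (Submodule.ne_bot_iff W).mp hW
    exact ⟨⟨w, 0, hw0⟩⟩
  haveI : Finite (V ≃ₗ[ZMod p] V) := Finite.of_injective (fun g => (g : V → V))
    (fun g h hgh => LinearEquiv.ext (congrFun hgh))
  -- the subgroups `A` and `N`
  obtain ⟨A, hAn, hAc, hAmax⟩ := NfGrp.exists_maximal_normal_abelian (H := H)
  obtain ⟨hlt, hCna⟩ := Cfsg.Agent.S0685.result H hreg hI A hAn hAc hAmax
  obtain ⟨hAcyc, WA, hWAbot, hWAtop, hWAinv, hWAmin, hAdvd⟩ :=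
    Cfsg.Agent.S0684.result H hreg hI A hAn hAc hAmax
  have hCn : (Subgroup.centralizer (A : Set H)).Normal := by
    haveI := hAn
    infer_instance
  obtain ⟨N, hNn, hNle, hNna, hNmin⟩ := NfGrp.exists_minimal_nonabelian_normal _ hCn hCna
  have hNR2 := NfBasic.nr2 H hreg
  have hcl2 := NfGrp.commutator_central A hAn hAc hAmax N hNn hNle hNmin hsolv hNna
  obtain ⟨r, hr, hNr⟩ := NfGrp.isPGroup_of_minimal N hNn hNna hNmin hcl2
  obtain ⟨eQ⟩ := NfGrp.quaternion_of_pgroup hNR2 N hNna r hr hNr hcl2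
  obtain ⟨hirr, hcent⟩ := Cfsg.Agent.S0687.result H hreg hI A hAn hAc hAmax N hNn hNle hNna hNmin
  -- quaternion generators
  obtain ⟨i0, hi0⟩ : ∃ i0 : N, i0 = eQ.symm (QuaternionGroup.a 1) := ⟨_, rfl⟩
  obtain ⟨j0, hj0⟩ : ∃ j0 : N, j0 = eQ.symm (QuaternionGroup.xa 0) := ⟨_, rfl⟩
  have q1 : (QuaternionGroup.a 1 : QuaternionGroup 2) * QuaternionGroup.a 1
      = QuaternionGroup.xa 0 * QuaternionGroup.xa 0 := by decide
  have q2 : (QuaternionGroup.a 1 : QuaternionGroup 2) * QuaternionGroup.a 1 ≠ 1 := by decide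
  have q3 : ((QuaternionGroup.a 1 : QuaternionGroup 2) * QuaternionGroup.a 1)
      * (QuaternionGroup.a 1 * QuaternionGroup.a 1) = 1 := by decide
  have q4 : (QuaternionGroup.a 1 : QuaternionGroup 2) * QuaternionGroup.xa 0
      = (QuaternionGroup.a 1 * QuaternionGroup.a 1)
        * (QuaternionGroup.xa 0 * QuaternionGroup.a 1) := by decide
  have q5 : (QuaternionGroup.a 1 : QuaternionGroup 2) * QuaternionGroup.xa 0
      ≠ QuaternionGroup.xa 0 * QuaternionGroup.a 1 := by decide
  have n1 : i0 * i0 = j0 * j0 := by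
    have := congrArg eQ.symm q1
    simpa only [map_mul, ← hi0, ← hj0] using this
  have n2 : i0 * i0 ≠ 1 := by
    intro h
    apply q2
    apply eQ.symm.injective
    rw [map_mul, map_one, ← hi0]
    exact h
  have n3 : (i0 * i0) * (i0 * i0) = 1 := by
    have := congrArg eQ.symm q3
    simpa only [map_mul, map_one, ← hi0, ← hj0] using this
  have n4 : i0 * j0 = (i0 * i0) * (j0 * i0) := by
    have := congrArg eQ.symm q4
    simpa only [map_mul, ← hi0, ← hj0] using this
  have n5 : i0 * j0 ≠ j0 * i0 := by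
    intro h
    apply q5
    apply eQ.symm.injective
    rw [map_mul, map_mul, ← hi0, ← hj0]
    exact h
  -- the central involution acts as `-1`
  have hz : ∀ v : V, (((i0 * i0 : N) : H) : V ≃ₗ[ZMod p] V) v = -v := by
    apply NfBasic.involution_neg H hreg
    · intro h
      exact n2 (Subtype.ext h)
    · have := congrArg (Subtype.val : N → H) n3
      simpa using this
  have h2 : (2 : ZMod p) ≠ 0 := by
    intro h20
    apply n2
    apply Subtype.ext
    apply Subtype.ext
    ext v
    rw [hz v]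
    have : (2 : ZMod p) • v = 0 := by rw [h20, zero_smul]
    rw [two_smul] at this
    simp only [Subgroup.coe_one, LinearEquiv.coe_one, id_eq]
    exact (eq_neg_of_add_eq_zero_left this).symm
  obtain ⟨I, hIdef⟩ : ∃ I : Module.End (ZMod p) V,
      I = (((i0 : H) : V ≃ₗ[ZMod p] V) : V →ₗ[ZMod p] V) := ⟨_, rfl⟩
  obtain ⟨J, hJdef⟩ : ∃ J : Module.End (ZMod p) V,
      J = (((j0 : H) : V ≃ₗ[ZMod p] V) : V →ₗ[ZMod p] V) := ⟨_, rfl⟩
  have hII : ∀ v, I (I v) = -v := by
    intro v
    rw [← hz v, hIdef]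
    rfl
  have hJJ : ∀ v, J (J v) = -v := by
    intro v
    rw [← hz v, hJdef, n1]
    rfl
  have hIJ : ∀ v, I (J v) = -(J (I v)) := by
    intro v
    have e1 : I (J v) = (((i0 * j0 : N) : H) : V ≃ₗ[ZMod p] V) v := by
      rw [hIdef, hJdef]
      rfl
    rw [e1, n4]
    have e2 : ((((i0 * i0) * (j0 * i0) : N) : H) : V ≃ₗ[ZMod p] V) v
        = (((i0 * i0 : N) : H) : V ≃ₗ[ZMod p] V) (J (I v)) := by
      rw [hIdef, hJdef]
      rfl
    rw [e2, hz]
  have hirr' : ∀ W : Submodule (ZMod p) V, (∀ v ∈ W, I v ∈ W) → (∀ v ∈ W, J v ∈ W) →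
      W = ⊥ ∨ W = ⊤ := by
    intro W hWI hWJ
    apply hirr W
    intro n hn v hv
    have hWI' : ∀ v ∈ W, ((i0 : H) : V ≃ₗ[ZMod p] V) v ∈ W := by
      intro v hv
      have := hWI v hv
      rwa [hIdef] at this
    have hWJ' : ∀ v ∈ W, ((j0 : H) : V ≃ₗ[ZMod p] V) v ∈ W := by
      intro v hv
      have := hWJ v hv
      rwa [hJdef] at this
    obtain ⟨k, hk⟩ := q8_word (eQ ⟨n, hn⟩)
    rcases hk with hk | hk
    · have e1 : (⟨n, hn⟩ : N) = i0 ^ k := by
        apply eQ.injective
        rw [hk, map_pow, hi0, MulEquiv.apply_symm_apply]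
      have e2 : (n : V ≃ₗ[ZMod p] V) = ((i0 : H) : V ≃ₗ[ZMod p] V) ^ k := by
        have := congrArg (fun t : N => ((t : H) : V ≃ₗ[ZMod p] V)) e1
        simpa using this
      rw [e2]
      exact pow_invariant W _ hWI' k v hv
    · have e1 : (⟨n, hn⟩ : N) = j0 * i0 ^ k := by
        apply eQ.injective
        rw [hk, map_mul, map_pow, hi0, hj0, MulEquiv.apply_symm_apply, MulEquiv.apply_symm_apply]
      have e2 : (n : V ≃ₗ[ZMod p] V)
          = ((j0 : H) : V ≃ₗ[ZMod p] V) * ((i0 : H) : V ≃ₗ[ZMod p] V) ^ k := by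
        have := congrArg (fun t : N => ((t : H) : V ≃ₗ[ZMod p] V)) e1
        simpa using this
      rw [e2, LinearEquiv.mul_apply]
      exact hWJ' _ (pow_invariant W _ hWI' k v hv)
  have hfr : Module.finrank (ZMod p) V = 2 :=
    NfQ8Lin.finrank_eq_two h2 I J hII hJJ hIJ hirr'
  have hcardV : Nat.card V = p ^ 2 := by
    rw [Module.natCard_eq_pow_finrank (K := ZMod p) (V := V), Nat.card_eq_fintype_card,
      ZMod.card, hfr]
  have hcardH : Nat.card H + 1 = p ^ 2 := by
    rw [← hcardV]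
    exact NfBasic.card_add_one H hreg
  -- `|A|` divides `p - 1`
  have hWA1 : Module.finrank (ZMod p) WA = 1 := by
    have h1 : Module.finrank (ZMod p) WA < Module.finrank (ZMod p) V := Submodule.finrank_lt hWAtop
    have h3 : 0 < Module.finrank (ZMod p) WA := by
      obtain ⟨w, hwW, hw0⟩ := (Submodule.ne_bot_iff WA).mp hWAbot
      haveI : Nontrivial WA := ⟨⟨⟨w, hwW⟩, 0, fun h0 => hw0 (congrArg Subtype.val h0)⟩⟩
      exact Module.finrank_pos
    omega
  rw [hWA1, pow_one] at hAdvd
  -- `|H : A|` divides 24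
  have hidx : A.index ∣ 24 := by
    have h1 := Cfsg.Agent.Helper20.relIndex_centralizer_normalizer_dvd N
    haveI := hNn
    rw [Subgroup.normalizer_eq_top, Subgroup.relIndex_top_right, hcent] at h1
    have h3 : Nat.card (MulAut N) = 24 := by
      rw [Nat.card_congr (MulAut.congr eQ).toEquiv]
      exact Cfsg.Agent.Helper20.card_mulAut_quaternion8
    rwa [h3] at h1
  have hmul : Nat.card A * A.index = Nat.card H := Subgroup.card_mul_index A
  -- arithmetic
  have hp1 : (p + 1) ∣ 24 := by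
    obtain ⟨c, hc⟩ := hAdvd
    have hapos : 0 < Nat.card A := Nat.card_pos
    obtain ⟨t, ht⟩ : ∃ t, t = Nat.card A * c := ⟨_, rfl⟩
    have hpt : p = t + 1 := by
      have := hpp.one_lt
      omega
    have h5 : Nat.card A * A.index = Nat.card A * (c * (p + 1)) := by
      have h6 : Nat.card A * A.index + 1 = (t + 1) ^ 2 := by
        rw [hmul, hcardH, hpt]
      have h7 : Nat.card A * (c * (p + 1)) = t * (t + 2) := by
        rw [← mul_assoc, ← ht, hpt]
      rw [h7]
      nlinarith
    have h8 : A.index = c * (p + 1) := Nat.eq_of_mul_eq_mul_left hapos h5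
    exact dvd_trans (Dvd.intro_left c h8.symm) hidx
  rcases prime_of_succ_dvd p hpp hp1 with h | h | h | h | h | h
  · exfalso
    apply h2
    have := (ZMod.natCast_eq_zero_iff 2 p).mpr (by rw [h])
    simpa using this
  · -- `p = 3`: then `H` has order 8
    exfalso
    have hH8 : Nat.card H = 8 := by
      have h9 : p ^ 2 = 9 := by rw [h]; norm_num
      rw [h9] at hcardH
      omega
    -- the subgroup generated by `A` and `i0`
    have hzc : IsMulCommutative (Subgroup.zpowers (i0 : H)) := inferInstance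
    haveI := hAn
    have hB : IsMulCommutative (A ⊔ Subgroup.zpowers (i0 : H) : Subgroup H) := by
      apply NfGrp.isMulCommutative_sup A _ hAc hzc
      intro a ha m hm
      have hmN : m ∈ N := by
        obtain ⟨k, rfl⟩ := Subgroup.mem_zpowers_iff.mp hm
        exact Subgroup.zpow_mem _ i0.2 k
      rw [← hcent] at ha
      exact ((Subgroup.mem_centralizer_iff.mp ha) m hmN).symm
    have hi4 : Nat.card (Subgroup.zpowers (i0 : H)) = 4 := by
      rw [Nat.card_zpowers, Subgroup.orderOf_coe, hi0, MulEquiv.orderOf_eq,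
        QuaternionGroup.orderOf_a_one]
    have hBcard : Nat.card (A ⊔ Subgroup.zpowers (i0 : H) : Subgroup H) = 4 := by
      have h4 : 4 ∣ Nat.card (A ⊔ Subgroup.zpowers (i0 : H) : Subgroup H) := by
        rw [← hi4]
        exact Subgroup.card_dvd_of_le le_sup_right
      have h8 : Nat.card (A ⊔ Subgroup.zpowers (i0 : H) : Subgroup H) ∣ 8 := by
        rw [← hH8]
        exact Subgroup.card_subgroup_dvd_card _
      have hne8 : Nat.card (A ⊔ Subgroup.zpowers (i0 : H) : Subgroup H) ≠ 8 := by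
        intro h88
        have htop : (A ⊔ Subgroup.zpowers (i0 : H) : Subgroup H) = ⊤ := by
          apply Subgroup.eq_top_of_card_eq
          rw [h88, hH8]
        apply hNna
        refine ⟨⟨fun a b => ?_⟩⟩
        apply Subtype.ext
        have ha : (a : H) ∈ (A ⊔ Subgroup.zpowers (i0 : H) : Subgroup H) := htop ▸ Subgroup.mem_top _
        have hb : (b : H) ∈ (A ⊔ Subgroup.zpowers (i0 : H) : Subgroup H) := htop ▸ Subgroup.mem_top _
        have := mul_comm' (⟨_, ha⟩ : (A ⊔ Subgroup.zpowers (i0 : H) : Subgroup H)) ⟨_, hb⟩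
        exact congrArg (fun t : (A ⊔ Subgroup.zpowers (i0 : H) : Subgroup H) => (t : H)) this
      have hle : Nat.card (A ⊔ Subgroup.zpowers (i0 : H) : Subgroup H) ≤ 8 :=
        Nat.le_of_dvd (by norm_num) h8
      obtain ⟨d, hd⟩ := h4
      obtain ⟨d', hd'⟩ := h8
      have : d = 1 ∨ d = 2 := by
        rcases Nat.eq_zero_or_pos d with h0 | h0
        · rw [h0] at hd
          rw [hd] at hd'
          omega
        · omega
      rcases this with h1 | h1
      · rw [hd, h1]
      · exfalso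
        apply hne8
        rw [hd, h1]
    have hBidx : (A ⊔ Subgroup.zpowers (i0 : H) : Subgroup H).index = 2 := by
      have := Subgroup.card_mul_index (A ⊔ Subgroup.zpowers (i0 : H) : Subgroup H)
      rw [hBcard, hH8] at this
      omega
    have hBn : (A ⊔ Subgroup.zpowers (i0 : H) : Subgroup H).Normal :=
      Subgroup.normal_of_index_eq_two hBidx
    have hBA := hAmax _ hBn hB le_sup_left
    have hiA : (i0 : H) ∈ A := by
      rw [← hBA]
      exact le_sup_right (α := Subgroup H) (Subgroup.mem_zpowers _)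
    rw [← hcent] at hiA
    have := (Subgroup.mem_centralizer_iff.mp hiA) (j0 : H) j0.2
    apply n5
    apply Subtype.ext
    exact this.symm
  · left
    rw [hcardV, h]; norm_num
  · right; left
    rw [hcardV, h]; norm_num
  · right; right; left
    rw [hcardV, h]; norm_num
  · right; right; right
    rw [hcardV, h]; norm_num

end Cfsg.Agent.S0688
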