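-- Statement S0689: the insoluble sharply doubly transitive groups (Zassenhaus).
-- Conditional on Cfsg.Agent.S3359 (structure of non-solvable Frobenius complements).
import Cfsg.Statements.S0689
import Cfsg.Agent.S3359
import Cfsg.Agent.Helper46.ZnB
import Cfsg.Agent.Helper46.ZnC
import Cfsg.Agent.Helper71.FrobConstruct
import Cfsg.Agent.Helper5.ProjLine

set_option autoImplicit false
open Cfsg

namespace Cfsg.Agent.S0689

open Cfsg.Agent.Helper46.Zn
open Cfsg.Agent.S0684 (fpf_of_reg)
open Cfsg.Agent.Helper12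

/-- internal direct products -/
theorem exists_prod_hom {G : Type*} [Group G] (S M : Subgroup G)
    (hcomm : ∀ s ∈ S, ∀ x ∈ M, s * x = x * s) (hinf : S ⊓ M = ⊥) :
    ∃ f : S × M →* G, Function.Injective f ∧ f.range = S ⊔ M := by
  let f : S × M →* G := MonoidHom.noncommCoprod S.subtype M.subtype
    (fun s x => hcomm s s.2 x x.2)
  refine ⟨f, ?_, ?_⟩
  · rw [injective_iff_map_eq_one]
    rintro ⟨s, x⟩ h
    have h1 : (s : G) * (x : G) = 1 := h
    have h2 : (s : G) = (x : G)⁻¹ := eq_inv_of_mul_eq_one_left h1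
    have h3 : (s : G) ∈ S ⊓ M := ⟨s.2, by rw [h2]; exact M.inv_mem x.2⟩
    rw [hinf, Subgroup.mem_bot] at h3
    have h4 : (x : G) = 1 := by rw [h3, one_mul] at h1; exact h1
    exact Prod.ext (Subtype.ext h3) (Subtype.ext h4)
  · have h1 : f.range = S.subtype.range ⊔ M.subtype.range :=
      MonoidHom.noncommCoprod_range _ _ _
    rw [h1, Subgroup.range_subtype, Subgroup.range_subtype]

/-- The insoluble sharply doubly transitive groups: a non-solvable linear group over the prime field that is regular on the non-zero vectors of `V` occurs only for `|V| = 11², 29², 59²`, and is `SL(2,5) × C_m` with `m = 1, 7, 29` respectively. -/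
theorem result {p : ℕ} [Fact p.Prime] {V : Type*} [AddCommGroup V] [Module (ZMod p) V] [Finite V] (H : Subgroup (V ≃ₗ[ZMod p] V)) (hreg : ∀ v w : V, v ≠ 0 → w ≠ 0 → ∃! h : H, (h : V ≃ₗ[ZMod p] V) v = w) (hsolv : ¬ Group.IsSolvable H) : (Nat.card V = 121 ∧ Nonempty (H ≃* Matrix.SpecialLinearGroup (Fin 2) (ZMod 5))) ∨ (Nat.card V = 841 ∧ Nonempty (H ≃* Matrix.SpecialLinearGroup (Fin 2) (ZMod 5) × Multiplicative (ZMod 7))) ∨ (Nat.card V = 3481 ∧ Nonempty (H ≃* Matrix.SpecialLinearGroup (Fin 2) (ZMod 5) × Multiplicative (ZMod 29))) := by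
  classical
  haveI : Finite (V ≃ₗ[ZMod p] V) := Finite.of_injective (fun g => (g : V → V))
    (fun g h hgh => LinearEquiv.ext (congrFun hgh))
  -- `H` and `V` are nontrivial
  have hHnt : Nontrivial H := by
    by_contra h
    rw [not_nontrivial_iff_subsingleton] at h
    exact hsolv inferInstance
  have hVnt : Nontrivial V := by
    obtain ⟨g, hg⟩ := exists_ne (1 : H)
    by_contra h
    rw [not_nontrivial_iff_subsingleton] at h
    apply hg
    apply Subtype.ext
    ext v
    exact Subsingleton.elim _ _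
  -- `H` is a Frobenius complement
  have hFC : ∃ (L : Type) (_ : Group L) (_ : Finite L) (C : Subgroup L),
      Cfsg.IsFrobeniusComplement C ∧ Nonempty (H ≃* C) := by
    apply Cfsg.Agent.Helper71.exists_frobenius_of_fpf_add (V := V) (H := H)
    intro h hh v hv
    by_contra hv0
    exact hh (fpf_of_reg H hreg h v hv0 hv)
  obtain ⟨G₀, -, hidx, S, M, hsup, hinf, hcomm, ⟨e⟩, -, hcop⟩ := Cfsg.Agent.S3359.result hsolv hFC
  obtain ⟨Q, j, hQ, hVQ, hMQ⟩ := core H hreg S M e hcomm
  obtain ⟨f, hfinj, hfrange⟩ := exists_prod_hom S M hcomm hinf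
  -- cardinalities
  have hS : Nat.card S = 120 := by
    haveI : Fact (Nat.Prime 5) := ⟨by norm_num⟩
    rw [Nat.card_congr e.toEquiv, Cfsg.Agent.Helper5.card_SL2 (F := ZMod 5), ZMod.card]
    norm_num
  have hG₀ : Nat.card G₀ = 120 * Nat.card M := by
    rw [← hsup, ← hfrange, ← Nat.card_congr (MonoidHom.ofInjective hfinj).toEquiv, Nat.card_prod, hS]
  have hH : Nat.card H = G₀.index * (120 * Nat.card M) := by
    rw [← hG₀, mul_comm]; exact (Subgroup.card_mul_index G₀).symm
  have hcard : G₀.index * (120 * Nat.card M) + 1 = Q ^ 2 := by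
    rw [← hH, ← hVQ]; exact NfBasic.card_add_one H hreg
  have key := arith (Fact.out : p.Prime) hQ hidx hcop hMQ hcard
  -- the isomorphism `H ≃* S × M` when the index is one
  have hiso : G₀.index = 1 → Nonempty (H ≃* S × M) := by
    intro h1
    have htop : G₀ = ⊤ := Subgroup.index_eq_one.mp h1
    have hsurj : Function.Surjective f := by
      rw [← MonoidHom.range_eq_top, hfrange, hsup, htop]
    exact ⟨(MulEquiv.ofBijective f ⟨hfinj, hsurj⟩).symm⟩
  have hMcyc : ∀ r : ℕ, r.Prime → Nat.card M = r →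
      Nonempty (M ≃* Multiplicative (ZMod r)) := by
    intro r hr hM
    haveI : Fact r.Prime := ⟨hr⟩
    have hc : IsCyclic M := isCyclic_of_prime_card hM
    have e1 := zmodCyclicMulEquiv hc
    have e2 : Multiplicative (ZMod r) ≃* Multiplicative (ZMod (Nat.card M)) :=
      AddEquiv.toMultiplicative (ZMod.ringEquivCongr hM.symm).toAddEquiv
    exact ⟨(e2.trans e1).symm⟩
  rcases key with ⟨hQ11, hε, hM1⟩ | ⟨hQ29, hε, hM7⟩ | ⟨hQ59, hε, hM29⟩
  · left
    refine ⟨by rw [hVQ, hQ11]; norm_num, ?_⟩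
    obtain ⟨φ⟩ := hiso hε
    have hMbot : M = ⊥ := Subgroup.card_eq_one.mp hM1
    haveI : Subsingleton M := by rw [hMbot]; infer_instance
    have e3 : S × M ≃* S :=
      { toFun := fun x => x.1
        invFun := fun s => (s, 1)
        left_inv := fun x => Prod.ext rfl (Subsingleton.elim _ _)
        right_inv := fun s => rfl
        map_mul' := fun x y => rfl }
    exact ⟨(φ.trans e3).trans e⟩
  · right; left
    refine ⟨by rw [hVQ, hQ29]; norm_num, ?_⟩
    obtain ⟨φ⟩ := hiso hε
    obtain ⟨ψ⟩ := hMcyc 7 (by norm_num) hM7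
    exact ⟨φ.trans (MulEquiv.prodCongr e ψ)⟩
  · right; right
    refine ⟨by rw [hVQ, hQ59]; norm_num, ?_⟩
    obtain ⟨φ⟩ := hiso hε
    obtain ⟨ψ⟩ := hMcyc 29 (by norm_num) hM29
    exact ⟨φ.trans (MulEquiv.prodCongr e ψ)⟩

end Cfsg.Agent.S0689
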