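import Mathlib
import Cfsg.Statements.S0691
import Cfsg.Agent.Helper12.RegularGL2

set_option autoImplicit false
open Cfsg

namespace Cfsg.Agent.S0691

open Cfsg.Agent.Helper12 Matrix

/-- packed table of the group: for each non-zero first column, the second column of the unique
group element with that first column, its depth in a Schreier tree and its parent. -/
def N : ℕ := 0x120308300406040840030e04081001050208200008021000010602043001100304400209030410030a0304200010030800020e0410300102021040000a02101004120410200004010c000302030c30020a030c400112030c100006010c2000000004000011030010010002003000090200200005010040000000000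

/-- generator matrices -/
def ms : List (Matrix (Fin 2) (Fin 2) (ZMod 5)) := [!![2, 0; 0, -2], !![0, -1; 1, 0], !![1, 2; 1, -2]]

theorem check1 : RegGL2.Check1 5 N := by decide +kernel
theorem check2_0 : RegGL2.Check2 5 N !![2, 0; 0, -2] := by decide +kernel
theorem check2_1 : RegGL2.Check2 5 N !![0, -1; 1, 0] := by decide +kernel
theorem check2_2 : RegGL2.Check2 5 N !![1, 2; 1, -2] := by decide +kernel
theorem check3 : RegGL2.Check3 5 N ms := by decide +kernel

/-- An exceptional sharply doubly transitive group of degree 5^2: the listed matrices generate a subgroup of GL(2,5) of order 24 acting regularly on the non-zero vectors. -/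
theorem result (A : Matrix.GeneralLinearGroup (Fin 2) (ZMod 5)) (B : Matrix.GeneralLinearGroup (Fin 2) (ZMod 5)) (C : Matrix.GeneralLinearGroup (Fin 2) (ZMod 5)) (hA : (A : Matrix (Fin 2) (Fin 2) (ZMod 5)) = !![2, 0; 0, -2]) (hB : (B : Matrix (Fin 2) (Fin 2) (ZMod 5)) = !![0, -1; 1, 0]) (hC : (C : Matrix (Fin 2) (Fin 2) (ZMod 5)) = !![1, 2; 1, -2]) : Nat.card (Subgroup.closure ({A, B, C} : Set (Matrix.GeneralLinearGroup (Fin 2) (ZMod 5)))) = 24 ∧ ∀ v w : Fin 2 → ZMod 5, v ≠ 0 → w ≠ 0 → ∃! h : Subgroup.closure ({A, B, C} : Set (Matrix.GeneralLinearGroup (Fin 2) (ZMod 5))), Matrix.mulVec ((h : Matrix.GeneralLinearGroup (Fin 2) (ZMod 5)) : Matrix (Fin 2) (Fin 2) (ZMod 5)) v = w := by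
  have : Fact (Nat.Prime 5) := ⟨by norm_num⟩
  have hset : ({A, B, C} : Set (Matrix.GeneralLinearGroup (Fin 2) (ZMod 5))) = {g | g ∈ [A, B, C]} := by
    ext g; simp
  have hms : [A, B, C].map Units.val = ms := by
    simp [ms, hA, hB, hC]
  have h2 : ∀ m ∈ ms, RegGL2.Check2 5 N m := by
    intro m hm
    simp only [ms, List.mem_cons, List.not_mem_nil, or_false] at hm
    rcases hm with rfl | rfl | rfl
    exacts [check2_0, check2_1, check2_2]
  have := RegGL2.regular_of_check N [A, B, C] ms hms check1 h2 check3
  rw [hset]
  exact this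

end Cfsg.Agent.S0691
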