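import Mathlib
import Cfsg.Statements.S0692
import Cfsg.Agent.Helper12.RegularGL2

set_option autoImplicit false
open Cfsg

namespace Cfsg.Agent.S0692

open Cfsg.Agent.Helper12 Matrix

/-- packed table of the group: for each non-zero first column, the second column of the unique
group element with that first column, its depth in a Schreier tree and its parent. -/
def N : ℕ := 0x1280724a00124080410012009004004210c1470020507085000150608600110080080010c0510200108021030032906049001000228000029030c7002240a0c9002200c1880021c040ca0021808045001210904600a05051400020c0b082006250908300409072810020005144001090208700a1908089008290a1080031c0508a003180c0c20020105185000110b0c300921090c4007050b0c600515081c000300091c100215092000002506006009090c0c8007190b10700418040090030d091010011d0c10400a01040420081103043004040b105004000820a0052807189001050618a00520061450051c0a0470051805206004190414800229030800000d0b2430091d07181007010a18200511070840040108149002110914a000210a0880090505240007150618300614070c5003090b2840060c0818600a290814100604091420061d052470050d0c1c60031d0528800101022890071c0c1c7008210b1ca0071406002004150c1c4002250a203000090800500919070c0007000a0c1006190610000429092050020d0b2070001d092080090107146008140b209008100324100305081c3001150a24200a2504244008090a10a007250504a005090b2480092009249001290718000a0d07285009140a28600910062010090c0a143009080c20200005012040090007187008050428200a24041c800a20031c900a1c0a003000190824500929092460070d0a18400a0c0700700a080628a00a0405081000000004000028030010072106106005050a0440031509283001250810900a09061c2008190704800629082870040d041c5000040100a0000000000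

/-- generator matrices -/
def ms : List (Matrix (Fin 2) (Fin 2) (ZMod 11)) := [!![0, -1; 1, 0], !![2, 4; 1, -3]]

theorem check1 : RegGL2.Check1 11 N := by decide +kernel
theorem check2_0 : RegGL2.Check2 11 N !![0, -1; 1, 0] := by decide +kernel
theorem check2_1 : RegGL2.Check2 11 N !![2, 4; 1, -3] := by decide +kernel
theorem check3 : RegGL2.Check3 11 N ms := by decide +kernel

/-- An exceptional sharply doubly transitive group of degree 11^2: the listed matrices generate a subgroup of GL(2,11) of order 120 acting regularly on the non-zero vectors. -/
theorem result (A : Matrix.GeneralLinearGroup (Fin 2) (ZMod 11)) (B : Matrix.GeneralLinearGroup (Fin 2) (ZMod 11)) (hA : (A : Matrix (Fin 2) (Fin 2) (ZMod 11)) = !![0, -1; 1, 0]) (hB : (B : Matrix (Fin 2) (Fin 2) (ZMod 11)) = !![2, 4; 1, -3]) : Nat.card (Subgroup.closure ({A, B} : Set (Matrix.GeneralLinearGroup (Fin 2) (ZMod 11)))) = 120 ∧ ∀ v w : Fin 2 → ZMod 11, v ≠ 0 → w ≠ 0 → ∃! h : Subgroup.closure ({A, B} : Set (Matrix.GeneralLinearGroup (Fin 2) (ZMod 11))), Matrix.mulVec ((h : Matrix.GeneralLinearGroup (Fin 2) (ZMod 11)) : Matrix (Fin 2) (Fin 2) (ZMod 11)) v = w := by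
  have : Fact (Nat.Prime 11) := ⟨by norm_num⟩
  have hset : ({A, B} : Set (Matrix.GeneralLinearGroup (Fin 2) (ZMod 11))) = {g | g ∈ [A, B]} := by
    ext g; simp
  have hms : [A, B].map Units.val = ms := by
    simp [ms, hA, hB]
  have h2 : ∀ m ∈ ms, RegGL2.Check2 11 N m := by
    intro m hm
    simp only [ms, List.mem_cons, List.not_mem_nil, or_false] at hm
    rcases hm with rfl | rfl
    exacts [check2_0, check2_1]
  have := RegGL2.regular_of_check N [A, B] ms hms check1 h2 check3
  rw [hset]
  exact this

end Cfsg.Agent.S0692
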