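-- Statement S0695 (regular normal subgroups of doubly primitive groups).
import Cfsg.Statements.S0695
import Mathlib

set_option autoImplicit false
open Cfsg

namespace Cfsg.Agent.S0695

open MulAction
open scoped Pointwise

section

variable {G : Type*} [Group G] {X : Type*} [MulAction G X]

/-- uniqueness in a semiregular subgroup -/
theorem eq_of_smul_eq (N : Subgroup G) (hreg : ∀ x : X, MulAction.stabilizer N x = ⊥)
    {n n' : G} (hn : n ∈ N) (hn' : n' ∈ N) {a : X} (h : n • a = n' • a) : n = n' := by
  have h1 : (⟨n'⁻¹ * n, N.mul_mem (N.inv_mem hn') hn⟩ : N) ∈ MulAction.stabilizer N a := by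
    rw [mem_stabilizer_iff]
    change (n'⁻¹ * n) • a = a
    rw [mul_smul, h, inv_smul_smul]
  rw [hreg a, Subgroup.mem_bot] at h1
  have h2 : n'⁻¹ * n = 1 := congrArg Subtype.val h1
  exact (inv_mul_eq_one.mp h2).symm

/-- the pair `{n • a, n⁻¹ • a}` inside the complement of `a` -/
def pairSet (a : X) (n : G) : Set (SubMulAction.ofFixingSubgroup G ({a} : Set X)) :=
  {y | (y : X) = n • a ∨ (y : X) = n⁻¹ • a}

theorem smul_pairSet (a : X) (n : G) (h : fixingSubgroup G ({a} : Set X)) :
    h • pairSet a n = pairSet a ((h : G) * n * (h : G)⁻¹) := by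
  have ha : (h : G) • a = a := (mem_fixingSubgroup_iff G).mp h.2 a (Set.mem_singleton a)
  have ha' : (h : G)⁻¹ • a = a := by rw [inv_smul_eq_iff, ha]
  ext z
  rw [Set.mem_smul_set_iff_inv_smul_mem]
  simp only [pairSet, Set.mem_ofPred_eq]
  have e1 : ((h⁻¹ • z : SubMulAction.ofFixingSubgroup G ({a} : Set X)) : X) = (h : G)⁻¹ • (z : X) :=
    rfl
  rw [e1]
  have e2 : ((h : G) * n * (h : G)⁻¹) • a = (h : G) • n • a := by
    rw [mul_smul, mul_smul, ha']
  have e3 : ((h : G) * n * (h : G)⁻¹)⁻¹ • a = (h : G) • n⁻¹ • a := by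
    have e : ((h : G) * n * (h : G)⁻¹)⁻¹ = (h : G) * n⁻¹ * (h : G)⁻¹ := by group
    rw [e, mul_smul, mul_smul, ha']
  rw [e2, e3, inv_smul_eq_iff, inv_smul_eq_iff]

theorem isBlock_pairSet (N : Subgroup G) [N.Normal]
    (hreg : ∀ x : X, MulAction.stabilizer N x = ⊥) (a : X) {n : G} (hn : n ∈ N) :
    IsBlock (fixingSubgroup G ({a} : Set X)) (pairSet a n) := by
  rw [isBlock_iff_smul_eq_of_mem]
  intro h y hy hhy
  rw [smul_pairSet]
  have hm : (h : G) * n * (h : G)⁻¹ ∈ N := ‹N.Normal›.conj_mem n hn h
  have hy' : h • y ∈ h • pairSet a n := Set.smul_mem_smul_set hy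
  rw [smul_pairSet] at hy'
  -- so `n^{±1} = m^{±1}`
  have key : (h : G) * n * (h : G)⁻¹ = n ∨ (h : G) * n * (h : G)⁻¹ = n⁻¹ := by
    simp only [pairSet, Set.mem_ofPred_eq] at hhy hy'
    rcases hhy with e1 | e1 <;> rcases hy' with e2 | e2
    · left
      exact (eq_of_smul_eq N hreg hn hm (e1.symm.trans e2)).symm
    · right
      have := eq_of_smul_eq N hreg hn (N.inv_mem hm) (e1.symm.trans e2)
      exact inv_eq_iff_eq_inv.mp this.symm
    · right
      exact (eq_of_smul_eq N hreg (N.inv_mem hn) hm (e1.symm.trans e2)).symm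
    · left
      have := eq_of_smul_eq N hreg (N.inv_mem hn) (N.inv_mem hm) (e1.symm.trans e2)
      exact (inv_injective this).symm
  rcases key with e | e
  · rw [e]
  · rw [e]
    ext z
    simp only [pairSet, Set.mem_ofPred_eq, inv_inv]
    exact or_comm

end

/-- A regular normal subgroup of a doubly primitive group of finite degree at least 2 is an elementary abelian 2-group (and the degree is a power of 2), unless the degree is 3. -/
theorem result {G : Type*} [Group G] {X : Type*} [Fintype X] [MulAction G X] (hX : 2 ≤ Fintype.card X) (h2 : MulAction.IsMultiplyPreprimitive G X 2) (N : Subgroup G) [N.Normal] (htrans : MulAction.IsPretransitive N X) (hreg : ∀ x : X, MulAction.stabilizer N x = ⊥) : Fintype.card X = 3 ∨ (IsMulCommutative N ∧ (∀ n ∈ N, n ^ 2 = 1) ∧ ∃ m : ℕ, Fintype.card X = 2 ^ m) := by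
  classical
  obtain ⟨a⟩ : Nonempty X := Fintype.card_pos_iff.mp (by omega)
  have hprim : IsPreprimitive (fixingSubgroup G ({a} : Set X))
      (SubMulAction.ofFixingSubgroup G ({a} : Set X)) :=
    h2.isPreprimitive_ofFixingSubgroup (s := {a}) (by simp; rfl)
  by_cases hsq : ∀ n ∈ N, n ^ 2 = 1
  · right
    refine ⟨⟨⟨?_⟩⟩, hsq, ?_⟩
    · rintro ⟨x, hx⟩ ⟨y, hy⟩
      apply Subtype.ext
      change x * y = y * x
      have h1 := hsq x hx
      have h2 := hsq y hy
      have h3 := hsq (x * y) (N.mul_mem hx hy)
      rw [pow_two] at h1 h2 h3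
      have hx' : x⁻¹ = x := inv_eq_of_mul_eq_one_left h1
      have hy' : y⁻¹ = y := inv_eq_of_mul_eq_one_left h2
      have hxy' : (x * y)⁻¹ = x * y := inv_eq_of_mul_eq_one_left h3
      calc x * y = (x * y)⁻¹ := hxy'.symm
        _ = y⁻¹ * x⁻¹ := mul_inv_rev x y
        _ = y * x := by rw [hx', hy']
    · -- `X` is in bijection with `N`
      have hbij : Function.Bijective (fun n : N => n • a) := by
        constructor
        · rintro ⟨n, hn⟩ ⟨n', hn'⟩ h
          exact Subtype.ext (eq_of_smul_eq N hreg hn hn' h)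
        · intro x
          exact htrans.exists_smul_eq a x
      have hfin : Finite N := Finite.of_injective _ hbij.1
      have hcard : Nat.card N = Fintype.card X := by
        rw [← Nat.card_eq_fintype_card]
        exact Nat.card_congr (Equiv.ofBijective _ hbij)
      have hp : IsPGroup 2 N := by
        rintro ⟨n, hn⟩
        refine ⟨1, ?_⟩
        apply Subtype.ext
        simpa using hsq n hn
      have : Fact (Nat.Prime 2) := ⟨Nat.prime_two⟩
      obtain ⟨m, hm⟩ := IsPGroup.iff_card.mp hp
      exact ⟨m, hcard ▸ hm⟩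
  · left
    push Not at hsq
    obtain ⟨n, hn, hn2⟩ := hsq
    have hn1 : n ≠ 1 := by
      rintro rfl
      exact hn2 (one_pow 2)
    have hnn : n ≠ n⁻¹ := by
      intro h
      apply hn2
      rw [pow_two]
      nth_rewrite 1 [h]
      exact inv_mul_cancel n
    have hna : n • a ≠ a := by
      intro h
      exact hn1 (eq_of_smul_eq N hreg hn N.one_mem (h.trans (one_smul G a).symm))
    have hna' : n⁻¹ • a ≠ a := by
      intro h
      rw [inv_smul_eq_iff] at h
      exact hna h.symm
    let y1 : SubMulAction.ofFixingSubgroup G ({a} : Set X) := ⟨n • a, by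
      rw [SubMulAction.mem_ofFixingSubgroup_iff]; simpa using hna⟩
    let y2 : SubMulAction.ofFixingSubgroup G ({a} : Set X) := ⟨n⁻¹ • a, by
      rw [SubMulAction.mem_ofFixingSubgroup_iff]; simpa using hna'⟩
    have hy12 : y1 ≠ y2 := by
      intro h
      have : n • a = n⁻¹ • a := congrArg Subtype.val h
      exact hnn (eq_of_smul_eq N hreg hn (N.inv_mem hn) this)
    have hblock := isBlock_pairSet N hreg a hn
    rcases hprim.isTrivialBlock_of_isBlock hblock with hs | htop
    · exfalso
      exact hy12 (hs (Or.inl rfl) (Or.inr rfl))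
    · -- the complement of `a` has exactly two points
      have huniv : ∀ y : SubMulAction.ofFixingSubgroup G ({a} : Set X), y = y1 ∨ y = y2 := by
        intro y
        have : y ∈ pairSet a n := htop ▸ Set.mem_univ y
        rcases this with h | h
        · left; exact Subtype.ext h
        · right; exact Subtype.ext h
      -- count
      have hX3 : (Finset.univ : Finset X) = {a, n • a, n⁻¹ • a} := by
        ext x
        simp only [Finset.mem_univ, Finset.mem_insert, Finset.mem_singleton, true_iff]
        by_cases hxa : x = a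
        · left; exact hxa
        · right
          have hx : x ∈ SubMulAction.ofFixingSubgroup G ({a} : Set X) := by
            rw [SubMulAction.mem_ofFixingSubgroup_iff]; simpa using hxa
          rcases huniv ⟨x, hx⟩ with h | h
          · left; exact congrArg Subtype.val h
          · right; exact congrArg Subtype.val h
      rw [← Finset.card_univ, hX3]
      have hne12 : n • a ≠ n⁻¹ • a := fun h => hy12 (Subtype.ext h)
      rw [Finset.card_insert_of_notMem, Finset.card_insert_of_notMem, Finset.card_singleton]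
      · simpa using hne12
      · simp only [Finset.mem_insert, Finset.mem_singleton, not_or]
        exact ⟨fun h => hna h.symm, fun h => hna' h.symm⟩

end Cfsg.Agent.S0695
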