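-- Statement S0696 (regular normal subgroups of triply primitive groups).
import Cfsg.Statements.S0696
import Mathlib
import Cfsg.Agent.S0695

set_option autoImplicit false
open Cfsg

namespace Cfsg.Agent.S0696

open MulAction
open scoped Pointwise
open Cfsg.Agent.S0695 (eq_of_smul_eq)

section

variable {G : Type*} [Group G] {X : Type*} [MulAction G X]

/-- the pair `{n • a, (n₁ n) • a}` inside the complement of `{a, n₁ • a}` -/
def pairSet2 (a : X) (n₁ n : G) :
    Set (SubMulAction.ofFixingSubgroup G ({a, n₁ • a} : Set X)) :=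
  {y | (y : X) = n • a ∨ (y : X) = (n₁ * n) • a}

theorem smul_pairSet2 (N : Subgroup G) [N.Normal] (hreg : ∀ x : X, MulAction.stabilizer N x = ⊥)
    (a : X) {n₁ : G} (hn₁ : n₁ ∈ N) (n : G) (h : fixingSubgroup G ({a, n₁ • a} : Set X)) :
    h • pairSet2 a n₁ n = pairSet2 a n₁ ((h : G) * n * (h : G)⁻¹) := by
  have ha : (h : G) • a = a := (mem_fixingSubgroup_iff G).mp h.2 a (by simp)
  have hx : (h : G) • n₁ • a = n₁ • a := (mem_fixingSubgroup_iff G).mp h.2 (n₁ • a) (by simp)
  have ha' : (h : G)⁻¹ • a = a := by rw [inv_smul_eq_iff, ha]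
  -- `h` commutes with `n₁`
  have hcomm : (h : G) * n₁ * (h : G)⁻¹ = n₁ := by
    apply eq_of_smul_eq N hreg (‹N.Normal›.conj_mem n₁ hn₁ h) hn₁ (a := a)
    rw [mul_smul, mul_smul, ha', hx]
  ext z
  rw [Set.mem_smul_set_iff_inv_smul_mem]
  simp only [pairSet2, Set.mem_ofPred_eq]
  have e1 : ((h⁻¹ • z : SubMulAction.ofFixingSubgroup G ({a, n₁ • a} : Set X)) : X) =
      (h : G)⁻¹ • (z : X) := rfl
  rw [e1]
  have e2 : ((h : G) * n * (h : G)⁻¹) • a = (h : G) • n • a := by
    rw [mul_smul, mul_smul, ha']
  have e3 : (n₁ * ((h : G) * n * (h : G)⁻¹)) • a = (h : G) • (n₁ * n) • a := by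
    have e : n₁ * ((h : G) * n * (h : G)⁻¹) =
        ((h : G) * n₁ * (h : G)⁻¹) * ((h : G) * n * (h : G)⁻¹) := by rw [hcomm]
    have e' : ((h : G) * n₁ * (h : G)⁻¹) * ((h : G) * n * (h : G)⁻¹) =
        (h : G) * (n₁ * n) * (h : G)⁻¹ := by group
    rw [e, e', mul_smul, mul_smul, ha']
  rw [e2, e3, inv_smul_eq_iff, inv_smul_eq_iff]

theorem isBlock_pairSet2 (N : Subgroup G) [N.Normal]
    (hreg : ∀ x : X, MulAction.stabilizer N x = ⊥) (a : X) {n₁ : G} (hn₁ : n₁ ∈ N)
    (hsq : n₁ * n₁ = 1) {n : G} (hn : n ∈ N) :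
    IsBlock (fixingSubgroup G ({a, n₁ • a} : Set X)) (pairSet2 a n₁ n) := by
  rw [isBlock_iff_smul_eq_of_mem]
  intro h y hy hhy
  rw [smul_pairSet2 N hreg a hn₁]
  have hm : (h : G) * n * (h : G)⁻¹ ∈ N := ‹N.Normal›.conj_mem n hn h
  have hy' : h • y ∈ h • pairSet2 a n₁ n := Set.smul_mem_smul_set hy
  rw [smul_pairSet2 N hreg a hn₁] at hy'
  have key : (h : G) * n * (h : G)⁻¹ = n ∨ (h : G) * n * (h : G)⁻¹ = n₁ * n := by
    simp only [pairSet2, Set.mem_ofPred_eq] at hhy hy'
    rcases hhy with e1 | e1 <;> rcases hy' with e2 | e2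
    · left
      exact (eq_of_smul_eq N hreg hn hm (e1.symm.trans e2)).symm
    · right
      have h0 := eq_of_smul_eq N hreg hn (N.mul_mem hn₁ hm) (e1.symm.trans e2)
      generalize (h : G) * n * (h : G)⁻¹ = m at h0 ⊢
      calc m = n₁ * n₁ * m := by rw [hsq, one_mul]
        _ = n₁ * (n₁ * m) := mul_assoc _ _ _
        _ = n₁ * n := by rw [← h0]
    · right
      exact (eq_of_smul_eq N hreg (N.mul_mem hn₁ hn) hm (e1.symm.trans e2)).symm
    · left
      have := eq_of_smul_eq N hreg (N.mul_mem hn₁ hn) (N.mul_mem hn₁ hm) (e1.symm.trans e2)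
      exact (mul_left_cancel this).symm
  rcases key with e | e
  · rw [e]
  · rw [e]
    ext z
    simp only [pairSet2, Set.mem_ofPred_eq]
    rw [← mul_assoc, hsq, one_mul]
    exact or_comm

end

/-- A triply primitive group of degree at least 3 having a regular normal subgroup has degree 3 or 4. -/
theorem result {G : Type*} [Group G] {X : Type*} [Fintype X] [MulAction G X] (hX : 3 ≤ Fintype.card X) (h3 : MulAction.IsMultiplyPreprimitive G X 3) (N : Subgroup G) [N.Normal] (htrans : MulAction.IsPretransitive N X) (hreg : ∀ x : X, MulAction.stabilizer N x = ⊥) : Fintype.card X = 3 ∨ Fintype.card X = 4 := by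
  classical
  have h2 : MulAction.IsMultiplyPreprimitive G X 2 := by
    apply MulAction.isMultiplyPreprimitive_of_le G X h3 (by norm_num)
    rw [ENat.card_eq_coe_fintype_card]
    exact_mod_cast hX
  rcases Cfsg.Agent.S0695.result (by omega) h2 N htrans hreg with h | ⟨-, hsq, -⟩
  · exact Or.inl h
  · right
    obtain ⟨a⟩ : Nonempty X := Fintype.card_pos_iff.mp (by omega)
    -- a second point
    obtain ⟨x, hxa⟩ : ∃ x : X, x ≠ a := by
      by_contra hcon
      push Not at hcon
      have : Fintype.card X ≤ 1 := Fintype.card_le_one_iff.mpr fun u v => (hcon u).trans (hcon v).symm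
      omega
    obtain ⟨⟨n₁, hn₁⟩, hn₁a⟩ := htrans.exists_smul_eq a x
    have hn₁a' : n₁ • a = x := hn₁a
    -- a third point
    obtain ⟨z, hza, hzx⟩ : ∃ z : X, z ≠ a ∧ z ≠ x := by
      by_contra hcon
      push Not at hcon
      have hsub : (Finset.univ : Finset X) ⊆ {a, x} := by
        intro u _
        by_cases hua : u = a
        · simp [hua]
        · simp [hcon u hua]
      have := Finset.card_le_card hsub
      rw [Finset.card_univ] at this
      have h2 : ({a, x} : Finset X).card ≤ 2 := Finset.card_le_two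
      omega
    obtain ⟨⟨n, hn⟩, hna⟩ := htrans.exists_smul_eq a z
    have hna' : n • a = z := hna
    have hsq₁ : n₁ * n₁ = 1 := by rw [← pow_two]; exact hsq n₁ hn₁
    have hn₁1 : n₁ ≠ 1 := by
      rintro rfl
      rw [one_smul] at hn₁a'
      exact hxa hn₁a'.symm
    subst hn₁a'
    have hprim : IsPreprimitive (fixingSubgroup G ({a, n₁ • a} : Set X))
        (SubMulAction.ofFixingSubgroup G ({a, n₁ • a} : Set X)) := by
      apply h3.isPreprimitive_ofFixingSubgroup (s := {a, n₁ • a})
      rw [Set.encard_pair (Ne.symm hxa)]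
      rfl
    have hblock := isBlock_pairSet2 N hreg a hn₁ hsq₁ hn
    -- the two points of the block
    have hz1 : n • a ∉ ({a, n₁ • a} : Set X) := by
      rw [hna']
      simp only [Set.mem_insert_iff, Set.mem_singleton_iff, not_or]
      exact ⟨hza, hzx⟩
    have hz2 : (n₁ * n) • a ∉ ({a, n₁ • a} : Set X) := by
      simp only [Set.mem_insert_iff, Set.mem_singleton_iff, not_or]
      constructor
      · intro h
        have h1 : n₁ * n = 1 :=
          eq_of_smul_eq N hreg (N.mul_mem hn₁ hn) N.one_mem (h.trans (one_smul G a).symm)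
        have h2 : n = n₁ := by
          calc n = n₁ * n₁ * n := by rw [hsq₁, one_mul]
            _ = n₁ * (n₁ * n) := mul_assoc _ _ _
            _ = n₁ := by rw [h1, mul_one]
        apply hzx
        rw [← hna', h2]
      · intro h
        have h1 : n₁ * n = n₁ := eq_of_smul_eq N hreg (N.mul_mem hn₁ hn) hn₁ h
        have h2 : n = 1 := by simpa using h1
        apply hza
        rw [← hna', h2, one_smul]
    let y1 : SubMulAction.ofFixingSubgroup G ({a, n₁ • a} : Set X) := ⟨n • a, hz1⟩
    let y2 : SubMulAction.ofFixingSubgroup G ({a, n₁ • a} : Set X) := ⟨(n₁ * n) • a, hz2⟩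
    have hy12 : y1 ≠ y2 := by
      intro h
      have h1 : n • a = (n₁ * n) • a := congrArg Subtype.val h
      have h2 : n = n₁ * n := eq_of_smul_eq N hreg hn (N.mul_mem hn₁ hn) h1
      apply hn₁1
      have h3 : 1 * n = n₁ * n := by rw [one_mul]; exact h2
      exact (mul_right_cancel h3).symm
    rcases hprim.isTrivialBlock_of_isBlock hblock with hs | htop
    · exfalso
      exact hy12 (hs (Or.inl rfl) (Or.inr rfl))
    · have huniv : ∀ y : SubMulAction.ofFixingSubgroup G ({a, n₁ • a} : Set X),
          y = y1 ∨ y = y2 := by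
        intro y
        have : y ∈ pairSet2 a n₁ n := htop ▸ Set.mem_univ y
        rcases this with h | h
        · left; exact Subtype.ext h
        · right; exact Subtype.ext h
      have hX4 : (Finset.univ : Finset X) = {a, n₁ • a, n • a, (n₁ * n) • a} := by
        ext u
        simp only [Finset.mem_univ, Finset.mem_insert, Finset.mem_singleton, true_iff]
        by_cases hu : u ∈ ({a, n₁ • a} : Set X)
        · rcases hu with h | h
          · left; exact h
          · right; left; exact h
        · right; right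
          rcases huniv ⟨u, hu⟩ with h | h
          · left; exact congrArg Subtype.val h
          · right; exact congrArg Subtype.val h
      rw [← Finset.card_univ, hX4]
      have hne12 : n • a ≠ (n₁ * n) • a := fun h => hy12 (Subtype.ext h)
      simp only [Set.mem_insert_iff, Set.mem_singleton_iff, not_or] at hz1 hz2
      rw [Finset.card_insert_of_notMem, Finset.card_insert_of_notMem,
        Finset.card_insert_of_notMem, Finset.card_singleton]
      · simpa using hne12
      · simp only [Finset.mem_insert, Finset.mem_singleton, not_or]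
        exact ⟨fun h => hz1.2 h.symm, fun h => hz2.2 h.symm⟩
      · simp only [Finset.mem_insert, Finset.mem_singleton, not_or]
        exact ⟨hxa.symm, fun h => hz1.1 h.symm, fun h => hz2.1 h.symm⟩

end Cfsg.Agent.S0696
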