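import Cfsg.Statements.S0697
import Cfsg.Agent.Helper59.MultPrim0

set_option autoImplicit false
open Cfsg

namespace Cfsg.Agent.S0697

/-- In a `k`-primitive permutation group which is not the whole symmetric group, a non-trivial non-regular normal subgroup is `k`-transitive. -/
theorem result {α : Type*} [Fintype α] [DecidableEq α] (G : Subgroup (Equiv.Perm α)) {k : ℕ} (hk : 1 ≤ k) (hkn : k ≤ Fintype.card α) (hG : MulAction.IsMultiplyPreprimitive G α k) (htop : G ≠ ⊤) (H : Subgroup G) [H.Normal] (hH : H ≠ ⊥) (hnr : ∃ a : α, MulAction.stabilizer H a ≠ ⊥) : MulAction.IsMultiplyPretransitive H α k := by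
  have hGt : MulAction.IsMultiplyPretransitive G α k := hG.isMultiplyPretransitive
  have hcard : k + 2 ≤ Nat.card α := by
    rw [Nat.card_eq_fintype_card]
    by_contra hcon
    apply htop
    apply Equiv.Perm.eq_top_of_isMultiplyPretransitive
    apply MulAction.isMultiplyPretransitive_of_le (n := k)
    · rw [Nat.card_eq_fintype_card]; omega
    · rw [Nat.card_eq_fintype_card]; exact hkn
  apply Cfsg.Agent.Helper59.normal_multiply_pretransitive_aux k hk hcard hG H
  obtain ⟨a, ha⟩ := hnr
  rw [Subgroup.ne_bot_iff_exists_ne_one] at ha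
  obtain ⟨x, hx⟩ := ha
  refine ⟨a, ((x : H) : G), (x : H).2, ?_, ?_⟩
  · intro h1
    apply hx
    apply Subtype.ext
    apply Subtype.ext
    exact h1
  · exact x.2

end Cfsg.Agent.S0697
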