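import Mathlib
import Cfsg.Statements.S0701

set_option autoImplicit false
open Cfsg

namespace Cfsg.Agent.S0701

/-- The centraliser in the full symmetric group of a transitive permutation group `G` is semiregular, and it is transitive if and only if `G` is regular. -/
theorem result {α : Type*} (G : Subgroup (Equiv.Perm α)) [MulAction.IsPretransitive G α] : (∀ c ∈ Subgroup.centralizer (G : Set (Equiv.Perm α)), ∀ a : α, c a = a → c = 1) ∧ (MulAction.IsPretransitive (Subgroup.centralizer (G : Set (Equiv.Perm α))) α ↔ ∀ a : α, MulAction.stabilizer G a = ⊥) := by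
  have comm : ∀ c ∈ Subgroup.centralizer (G : Set (Equiv.Perm α)), ∀ g : G, ∀ z : α,
      c ((g : Equiv.Perm α) z) = (g : Equiv.Perm α) (c z) := by
    intro c hc g z
    have h := hc (g : Equiv.Perm α) g.2
    have h2 := congrArg (fun σ : Equiv.Perm α => σ z) h
    simp only [Equiv.Perm.coe_mul, Function.comp_apply] at h2
    exact h2.symm
  refine ⟨?_, ?_, ?_⟩
  · intro c hc a hca
    ext b
    obtain ⟨g, rfl⟩ := MulAction.exists_smul_eq G a b
    change c ((g : Equiv.Perm α) a) = (g : Equiv.Perm α) a
    rw [comm c hc g a, hca]
  · intro hC a
    rw [Subgroup.eq_bot_iff_forall]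
    intro g hg
    apply Subtype.ext
    ext b
    obtain ⟨c, rfl⟩ := MulAction.exists_smul_eq (Subgroup.centralizer (G : Set (Equiv.Perm α))) a b
    change (g : Equiv.Perm α) ((c : Equiv.Perm α) a) = (c : Equiv.Perm α) a
    rw [← comm c c.2 g a]
    congr 1
  · intro hreg
    have uniq : ∀ (x : α) (g g' : G), g • x = g' • x → g = g' := by
      intro x g g' h
      have : g'⁻¹ * g ∈ MulAction.stabilizer G x := by
        rw [MulAction.mem_stabilizer_iff, mul_smul, h, inv_smul_smul]
      rw [hreg x, Subgroup.mem_bot] at this
      exact (inv_mul_eq_one.mp this).symm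
    constructor
    intro x y
    have key : ∀ (u : α) (z : α), ∃ g : G, g • u = z := fun u z => MulAction.exists_smul_eq G u z
    choose f hf using key
    -- the centralizing permutation: `z = g • x ↦ g • y`
    let c : Equiv.Perm α :=
      { toFun := fun z => f x z • y
        invFun := fun w => f y w • x
        left_inv := by
          intro z
          have : f y (f x z • y) = f x z := uniq y _ _ (hf y _)
          change f y (f x z • y) • x = z
          rw [this, hf]
        right_inv := by
          intro w
          have : f x (f y w • x) = f y w := uniq x _ _ (hf x _)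
          change f x (f y w • x) • y = w
          rw [this, hf] }
    have hc : c ∈ Subgroup.centralizer (G : Set (Equiv.Perm α)) := by
      intro k hk
      ext z
      change k (f x z • y) = f x (k z) • y
      have : f x (k z) = ⟨k, hk⟩ * f x z := by
        apply uniq x
        rw [hf, mul_smul, hf]
        rfl
      rw [this, mul_smul]
      rfl
    refine ⟨⟨c, hc⟩, ?_⟩
    change f x x • y = y
    have : f x x = 1 := uniq x _ _ (by rw [hf, one_smul])
    rw [this, one_smul]

end Cfsg.Agent.S0701
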