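-- Statement S0702 (centraliser of a transitive permutation group).
import Cfsg.Statements.S0702
import Mathlib

set_option autoImplicit false
open Cfsg

namespace Cfsg.Agent.S0702

open MulAction

section

variable {α : Type*} (G : Subgroup (Equiv.Perm α)) [MulAction.IsPretransitive G α] (a : α)

/-- a chosen group element carrying `a` to `x` -/
noncomputable def rep (x : α) : G := Classical.choose (MulAction.exists_smul_eq G a x)

theorem rep_smul (x : α) : rep G a x • a = x :=
  Classical.choose_spec (MulAction.exists_smul_eq G a x)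

/-- the map `g • a ↦ g n⁻¹ • a` -/
noncomputable def cfun (n : G) (x : α) : α := (rep G a x * n⁻¹) • a

theorem cfun_smul {n : G} (hn : n ∈ Subgroup.normalizer ((stabilizer G a : Subgroup G) : Set G))
    (g : G) : cfun G a n (g • a) = (g * n⁻¹) • a := by
  unfold cfun
  set g' := rep G a (g • a) with hg'
  have h1 : g' • a = g • a := rep_smul G a (g • a)
  have h2 : g⁻¹ * g' ∈ stabilizer G a := by
    rw [mem_stabilizer_iff, mul_smul, h1, inv_smul_smul]
  have h3 : n * (g⁻¹ * g') * n⁻¹ ∈ stabilizer G a :=
    (Subgroup.mem_normalizer_iff.mp hn (g⁻¹ * g')).mp h2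
  rw [mem_stabilizer_iff] at h3
  have e : g' * n⁻¹ = (g * n⁻¹) * (n * (g⁻¹ * g') * n⁻¹) := by group
  rw [e, mul_smul, h3]

theorem cfun_one (x : α) : cfun G a 1 x = x := by
  unfold cfun
  rw [inv_one, mul_one, rep_smul]

theorem cfun_mul {n m : G}
    (hn : n ∈ Subgroup.normalizer ((stabilizer G a : Subgroup G) : Set G)) (x : α) :
    cfun G a (n * m) x = cfun G a n (cfun G a m x) := by
  have h1 : cfun G a m x = (rep G a x * m⁻¹) • a := rfl
  rw [h1, cfun_smul G a hn]
  unfold cfun
  rw [mul_inv_rev, mul_assoc]

/-- the permutation attached to `n ∈ N_G(G_a)` -/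
noncomputable def cperm (n : Subgroup.normalizer ((stabilizer G a : Subgroup G) : Set G)) :
    Equiv.Perm α where
  toFun := cfun G a n
  invFun := cfun G a (n⁻¹ : Subgroup.normalizer ((stabilizer G a : Subgroup G) : Set G))
  left_inv x := by
    rw [← cfun_mul G a (n⁻¹).2]
    have : ((n⁻¹ : Subgroup.normalizer ((stabilizer G a : Subgroup G) : Set G)) : G) * n = 1 := by
      simp
    rw [this, cfun_one]
  right_inv x := by
    rw [← cfun_mul G a n.2]
    have : (n : G) * ((n⁻¹ : Subgroup.normalizer ((stabilizer G a : Subgroup G) : Set G)) : G)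
        = 1 := by simp
    rw [this, cfun_one]

theorem cperm_apply (n : Subgroup.normalizer ((stabilizer G a : Subgroup G) : Set G)) (g : G) :
    cperm G a n (g • a) = (g * (n : G)⁻¹) • a :=
  cfun_smul G a n.2 g

theorem cperm_mem (n : Subgroup.normalizer ((stabilizer G a : Subgroup G) : Set G)) :
    cperm G a n ∈ Subgroup.centralizer (G : Set (Equiv.Perm α)) := by
  rw [Subgroup.mem_centralizer_iff]
  intro g hg
  ext x
  obtain ⟨k, rfl⟩ := MulAction.exists_smul_eq G a x
  simp only [Equiv.Perm.mul_apply]
  have e1 : g ((cperm G a n) (k • a)) = ((⟨g, hg⟩ : G) * (k * (n : G)⁻¹)) • a := by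
    rw [cperm_apply, mul_smul]
    rfl
  have e2 : g (k • a) = ((⟨g, hg⟩ : G) * k) • a := by
    rw [mul_smul]
    rfl
  rw [e1, e2, cperm_apply, mul_assoc]

/-- the homomorphism `N_G(G_a) → C(G)` -/
noncomputable def Φ : Subgroup.normalizer ((stabilizer G a : Subgroup G) : Set G) →*
    Subgroup.centralizer (G : Set (Equiv.Perm α)) where
  toFun n := ⟨cperm G a n, cperm_mem G a n⟩
  map_one' := by
    apply Subtype.ext
    ext x
    exact cfun_one G a x
  map_mul' n m := by
    apply Subtype.ext
    ext x
    exact cfun_mul G a n.2 x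

theorem Φ_apply (n : Subgroup.normalizer ((stabilizer G a : Subgroup G) : Set G)) (g : G) :
    ((Φ G a n : Subgroup.centralizer (G : Set (Equiv.Perm α))) : Equiv.Perm α) (g • a) =
      (g * (n : G)⁻¹) • a :=
  cperm_apply G a n g

/-- elements of the centraliser commute with the action -/
theorem cent_smul (c : Subgroup.centralizer (G : Set (Equiv.Perm α))) (g : G) (x : α) :
    (c : Equiv.Perm α) (g • x) = g • (c : Equiv.Perm α) x := by
  have := Subgroup.mem_centralizer_iff.mp c.2 (g : Equiv.Perm α) g.2
  have h2 := congrArg (fun f : Equiv.Perm α => f x) this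
  simp only [Equiv.Perm.mul_apply] at h2
  exact h2.symm

theorem ker_Φ : (Φ G a).ker = (stabilizer G a).subgroupOf
    (Subgroup.normalizer ((stabilizer G a : Subgroup G) : Set G)) := by
  ext n
  rw [MonoidHom.mem_ker, Subgroup.mem_subgroupOf]
  constructor
  · intro h
    have h1 := Φ_apply G a n 1
    rw [h, one_smul, one_mul] at h1
    have h2 : (n : G)⁻¹ • a = a := h1.symm
    rw [mem_stabilizer_iff]
    rw [inv_smul_eq_iff] at h2
    exact h2.symm
  · intro h
    apply Subtype.ext
    ext x
    obtain ⟨k, rfl⟩ := MulAction.exists_smul_eq G a x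
    rw [Φ_apply, mul_smul]
    have : (n : G)⁻¹ • a = a := by
      rw [inv_smul_eq_iff]
      exact (mem_stabilizer_iff.mp h).symm
    rw [this]
    rfl

/-- if `g₀ • a` has the same stabiliser as `a` then `g₀` normalises the stabiliser -/
theorem mem_normalizer_of_stab {g₀ : G} (h : ∀ k : G, k • (g₀ • a) = g₀ • a ↔ k • a = a) :
    g₀ ∈ Subgroup.normalizer ((stabilizer G a : Subgroup G) : Set G) := by
  rw [Subgroup.mem_normalizer_iff]
  intro k
  rw [mem_stabilizer_iff, mem_stabilizer_iff, ← h (g₀ * k * g₀⁻¹)]
  rw [mul_smul, mul_smul, inv_smul_smul]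
  constructor
  · intro hk; rw [hk]
  · intro hk; exact smul_left_cancel g₀ hk

theorem Φ_surjective : Function.Surjective (Φ G a) := by
  intro c
  set g₀ := rep G a ((c : Equiv.Perm α) a) with hg₀
  have h0 : g₀ • a = (c : Equiv.Perm α) a := rep_smul G a _
  have hN : g₀ ∈ Subgroup.normalizer ((stabilizer G a : Subgroup G) : Set G) := by
    apply mem_normalizer_of_stab
    intro k
    rw [h0, ← cent_smul]
    constructor
    · intro h; exact (c : Equiv.Perm α).injective h
    · intro h; rw [h]
  refine ⟨⟨g₀, hN⟩⁻¹, ?_⟩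
  apply Subtype.ext
  ext x
  obtain ⟨k, rfl⟩ := MulAction.exists_smul_eq G a x
  rw [Φ_apply, cent_smul, ← h0, mul_smul]
  simp

end

/-- For a transitive permutation group `G` on a finite set, the centraliser of `G` in the symmetric group is isomorphic to `N_G(G_ω)/G_ω`, and its orbit of `ω` is the set of fixed points of `G_ω`. -/
theorem result {α : Type*} [Finite α] (G : Subgroup (Equiv.Perm α)) [MulAction.IsPretransitive G α] (a : α) : Nonempty (Subgroup.centralizer (G : Set (Equiv.Perm α)) ≃* Subgroup.normalizer ((MulAction.stabilizer G a : Subgroup G) : Set G) ⧸ (MulAction.stabilizer G a).subgroupOf (Subgroup.normalizer ((MulAction.stabilizer G a : Subgroup G) : Set G))) ∧ MulAction.orbit (Subgroup.centralizer (G : Set (Equiv.Perm α))) a = MulAction.fixedPoints (MulAction.stabilizer G a) α := by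
  constructor
  · exact ⟨((QuotientGroup.quotientMulEquivOfEq (ker_Φ G a).symm).trans
      (QuotientGroup.quotientKerEquivOfSurjective (Φ G a) (Φ_surjective G a))).symm⟩
  · ext x
    constructor
    · rintro ⟨c, rfl⟩ h
      change (h : G) • ((c : Equiv.Perm α) a) = (c : Equiv.Perm α) a
      rw [← cent_smul]
      have : (h : G) • a = a := h.2
      rw [this]
    · intro hx
      set g₀ := rep G a x with hg₀
      have h0 : g₀ • a = x := rep_smul G a _
      -- stabiliser of `a` fixes `x`, and by finiteness equals the stabiliser of `x`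
      have hle : stabilizer G a ≤ stabilizer G x := by
        intro k hk
        rw [mem_stabilizer_iff]
        exact hx ⟨k, hk⟩
      have hfin : Finite G := inferInstance
      have hcard : Nat.card (stabilizer G x) = Nat.card (stabilizer G a) := by
        rw [← h0, MulAction.stabilizer_smul_eq_stabilizer_map_conj]
        exact Subgroup.card_map_of_injective (MulEquiv.injective _)
      have heq : stabilizer G a = stabilizer G x :=
        Subgroup.eq_of_le_of_card_ge hle hcard.le
      have hN : g₀ ∈ Subgroup.normalizer ((stabilizer G a : Subgroup G) : Set G) := by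
        apply mem_normalizer_of_stab
        intro k
        rw [h0, ← mem_stabilizer_iff, ← mem_stabilizer_iff, heq]
      refine ⟨Φ G a ⟨g₀, hN⟩⁻¹, ?_⟩
      change ((Φ G a ⟨g₀, hN⟩⁻¹ : Subgroup.centralizer (G : Set (Equiv.Perm α))) : Equiv.Perm α) a
        = x
      have := Φ_apply G a (⟨g₀, hN⟩⁻¹) 1
      rw [one_smul, one_mul] at this
      rw [this]
      simpa using h0

end Cfsg.Agent.S0702
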