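-- Statement S0704 (row 704).
import Cfsg.Statements.S0704
import Cfsg.Agent.Helper61.PermSocle

set_option autoImplicit false
open Cfsg

namespace Cfsg.Agent.S0704

open Cfsg.Agent.Helper61

theorem toPermHom_eq_subtype {α : Type*} (G : Subgroup (Equiv.Perm α)) :
    MulAction.toPermHom G α = G.subtype := by
  ext g a
  rfl

/-- In a permutation group, distinct minimal normal subgroups intersect trivially and commute. -/
theorem commute_of_minimal {G : Type*} [Group G] (M N : Subgroup G) [hMn : M.Normal] [hNn : N.Normal]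
    (hM : M ≠ ⊥) (hMmin : ∀ L : Subgroup G, L.Normal → L ≤ M → L = ⊥ ∨ L = M)
    (hNmin : ∀ L : Subgroup G, L.Normal → L ≤ N → L = ⊥ ∨ L = N) (hMN : M ≠ N) :
    ∀ m ∈ M, ∀ n ∈ N, m * n = n * m := by
  have hdisj : M ⊓ N = ⊥ := by
    rcases hMmin (M ⊓ N) inferInstance inf_le_left with h | h
    · exact h
    · exfalso
      have hle : M ≤ N := by rw [← h]; exact inf_le_right
      rcases hNmin M hMn hle with h' | h'
      · exact hM h'
      · exact hMN h'
  intro m hm n hn
  exact Subgroup.commute_of_normal_of_disjoint M N hMn hNn (disjoint_iff.2 hdisj) m n hm hn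

theorem result {α : Type*} (G : Subgroup (Equiv.Perm α)) (M N : Subgroup G) [M.Normal] [N.Normal] (hM : M ≠ ⊥) (hN : N ≠ ⊥) (hMmin : ∀ L : Subgroup G, L.Normal → L ≤ M → L = ⊥ ∨ L = M) (hNmin : ∀ L : Subgroup G, L.Normal → L ≤ N → L = ⊥ ∨ L = N) (hMN : M ≠ N) (hMt : MulAction.IsPretransitive M α) (hNt : MulAction.IsPretransitive N α) : (∀ a : α, MulAction.stabilizer M a = ⊥) ∧ (∀ a : α, MulAction.stabilizer N a = ⊥) ∧ ¬ IsMulCommutative M ∧ Nonempty (M ≃* N) ∧ Subgroup.centralizer ((M.map G.subtype : Subgroup (Equiv.Perm α)) : Set (Equiv.Perm α)) = N.map G.subtype ∧ Subgroup.centralizer ((N.map G.subtype : Subgroup (Equiv.Perm α)) : Set (Equiv.Perm α)) = M.map G.subtype ∧ ∀ L : Subgroup G, L.Normal → L ≠ ⊥ → (∀ L' : Subgroup G, L'.Normal → L' ≤ L → L' = ⊥ ∨ L' = L) → L = M ∨ L = N := by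
  classical
  have hcomm := commute_of_minimal M N hM hMmin hNmin hMN
  have hcomm' : ∀ n ∈ N, ∀ m ∈ M, n * m = m * n := fun n hn m hm => (hcomm m hm n hn).symm
  haveI : Nonempty α := by
    by_contra hemp
    rw [not_nonempty_iff] at hemp
    apply hM
    rw [Subgroup.eq_bot_iff_forall]
    intro m _
    apply Subtype.ext
    apply Equiv.ext
    intro a
    exact (hemp.false a).elim
  have hcM := centralizer_map_toPermHom_eq (α := α) M N hcomm
  have hcN := centralizer_map_toPermHom_eq (α := α) N M hcomm'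
  rw [toPermHom_eq_subtype] at hcM hcN
  have hle_of_map : ∀ L : Subgroup G, L.map G.subtype ≤ N.map G.subtype → L ≤ N := by
    intro L h
    exact (Subgroup.map_le_map_iff_of_injective G.subtype_injective).1 h
  refine ⟨fun a => stabilizer_eq_bot_of_commute N M hcomm' a,
    fun a => stabilizer_eq_bot_of_commute M N hcomm a, ?_,
    nonempty_mulEquiv_of_regular_commute (α := α) M N hcomm, hcM, hcN, ?_⟩
  · intro hab
    have hle : M.map G.subtype ≤ N.map G.subtype := by
      rw [← hcM]
      rintro _ ⟨m, hm, rfl⟩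
      rw [Subgroup.mem_centralizer_iff]
      rintro _ ⟨m', hm', rfl⟩
      rw [← map_mul, ← map_mul]
      congr 1
      have := mul_comm' (⟨m', hm'⟩ : M) ⟨m, hm⟩
      exact congrArg Subtype.val this
    have hMN' := hle_of_map M hle
    rcases hNmin M inferInstance hMN' with h | h
    · exact hM h
    · exact hMN h
  · intro L hLn hL hLmin
    by_cases hLM : L = M
    · exact Or.inl hLM
    right
    haveI := hLn
    have hcommL := commute_of_minimal L M hL hLmin hMmin hLM
    have hle : L.map G.subtype ≤ N.map G.subtype := by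
      rw [← hcM]
      rintro _ ⟨l, hl, rfl⟩
      rw [Subgroup.mem_centralizer_iff]
      rintro _ ⟨m, hm, rfl⟩
      rw [← map_mul, ← map_mul, hcommL l hl m hm]
    rcases hNmin L hLn (hle_of_map L hle) with h | h
    · exact absurd h hL
    · exact h

end Cfsg.Agent.S0704
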