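-- Statement S0703 (row 703).
import Cfsg.Statements.S0703
import Cfsg.Agent.S0704
import Cfsg.Agent.Helper61.PermSocle

set_option autoImplicit false
open Cfsg

namespace Cfsg.Agent.S0703

open Cfsg.Agent.Helper61

theorem result {α : Type*} [Finite α] (G : Subgroup (Equiv.Perm α)) (M : Subgroup G) [M.Normal] (hM : M ≠ ⊥) (hmin : ∀ L : Subgroup G, L.Normal → L ≤ M → L = ⊥ ∨ L = M) (hab : IsMulCommutative M) (htrans : MulAction.IsPretransitive M α) : Subgroup.centralizer ((M.map G.subtype : Subgroup (Equiv.Perm α)) : Set (Equiv.Perm α)) = M.map G.subtype ∧ (∀ a : α, MulAction.stabilizer M a = ⊥) ∧ (∃ p : ℕ, p.Prime ∧ ∀ m ∈ M, m ^ p = 1) ∧ ∀ L : Subgroup G, L.Normal → L ≠ ⊥ → (∀ L' : Subgroup G, L'.Normal → L' ≤ L → L' = ⊥ ∨ L' = L) → L = M := by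
  classical
  have hcomm : ∀ m ∈ M, ∀ n ∈ M, m * n = n * m := by
    intro m hm n hn
    have := mul_comm' (⟨m, hm⟩ : M) ⟨n, hn⟩
    exact congrArg Subtype.val this
  haveI : Nonempty α := by
    by_contra hemp
    rw [not_nonempty_iff] at hemp
    apply hM
    rw [Subgroup.eq_bot_iff_forall]
    intro m _
    apply Subtype.ext
    apply Equiv.ext
    intro a
    exact (hemp.false a).elim
  have hcM := centralizer_map_toPermHom_eq (α := α) M M hcomm
  rw [Cfsg.Agent.S0704.toPermHom_eq_subtype] at hcM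
  haveI : Finite G := inferInstance
  refine ⟨hcM, fun a => stabilizer_eq_bot_of_commute M M hcomm a,
    exists_prime_exponent_of_minimal_abelian M hM hmin hcomm, ?_⟩
  intro L hLn hL hLmin
  by_contra hLM
  haveI := hLn
  have hcommL := Cfsg.Agent.S0704.commute_of_minimal L M hL hLmin hmin hLM
  have hle : L.map G.subtype ≤ M.map G.subtype := by
    rw [← hcM]
    rintro _ ⟨l, hl, rfl⟩
    rw [Subgroup.mem_centralizer_iff]
    rintro _ ⟨m, hm, rfl⟩
    rw [← map_mul, ← map_mul, hcommL l hl m hm]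
  have hLM' : L ≤ M := (Subgroup.map_le_map_iff_of_injective G.subtype_injective).1 hle
  rcases hmin L hLn hLM' with h | h
  · exact hL h
  · exact hLM h

end Cfsg.Agent.S0703
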