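-- Statement S0705 (generous transitivity).
import Cfsg.Statements.S0705
import Mathlib
import Cfsg.Agent.Helper35.MultTrans

set_option autoImplicit false
open scoped Pointwise
open Cfsg

namespace Cfsg.Agent.S0705

/-- A generously `k`-transitive permutation group (every `(k+1)`-subset has its full symmetric group induced by the setwise stabiliser) of degree greater than `k` is `k`-transitive, and for a `k`-subset the setwise and pointwise stabilisers have the same orbits outside it. -/
theorem result {α : Type*} [Fintype α] [DecidableEq α] (G : Subgroup (Equiv.Perm α)) {k : ℕ} (hk : k < Fintype.card α) (hgen : ∀ s : Finset α, s.card = k + 1 → ∀ σ : Equiv.Perm ↥s, ∃ g ∈ G, ∀ x : ↥s, g (x : α) = σ x) : MulAction.IsMultiplyPretransitive G α k ∧ ∀ s : Finset α, s.card = k → ∀ a b : α, a ∉ s → b ∉ s → (∃ g ∈ G, g • s = s ∧ g a = b) → ∃ g ∈ G, (∀ x ∈ s, g x = x) ∧ g a = b := by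
  constructor
  · rcases Nat.eq_zero_or_pos k with rfl | hkpos
    · exact MulAction.is_zero_pretransitive'
    · obtain ⟨t, rfl⟩ : ∃ t, k = t + 1 := ⟨k - 1, by omega⟩
      apply Cfsg.Agent.Helper35.isMultiplyPretransitive_of_fixingSubgroup_transitive G t (by omega)
      intro U hU a b ha hb
      by_cases hab : a = b
      · exact ⟨1, Subgroup.one_mem _, by rw [one_smul, hab]⟩
      · have hbU : b ∉ U := hb
        have haU : a ∉ insert b U := by simp [hab, ha]
        have hcard : (insert a (insert b U)).card = t + 1 + 1 := by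
          rw [Finset.card_insert_of_notMem haU, Finset.card_insert_of_notMem hbU, hU]
        have has : a ∈ insert a (insert b U) := by simp
        have hbs : b ∈ insert a (insert b U) := by simp
        obtain ⟨g, hg, hgσ⟩ := hgen _ hcard (Equiv.swap ⟨a, has⟩ ⟨b, hbs⟩)
        refine ⟨⟨g, hg⟩, ?_, ?_⟩
        · rw [mem_fixingSubgroup_iff]
          intro y hy
          have hyU : y ∈ U := hy
          have hys : y ∈ insert a (insert b U) := by simp [hyU]
          have h1 := hgσ ⟨y, hys⟩
          have hya : (⟨y, hys⟩ : ↥(insert a (insert b U))) ≠ ⟨a, has⟩ := by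
            intro h
            have e : y = a := congrArg Subtype.val h
            exact ha (e ▸ hyU)
          have hyb : (⟨y, hys⟩ : ↥(insert a (insert b U))) ≠ ⟨b, hbs⟩ := by
            intro h
            have e : y = b := congrArg Subtype.val h
            exact hb (e ▸ hyU)
          rw [Equiv.swap_apply_of_ne_of_ne hya hyb] at h1
          exact h1
        · have h1 := hgσ ⟨a, has⟩
          rw [Equiv.swap_apply_left] at h1
          exact h1
  · intro s hs a b ha hb ⟨g, hg, hgs, hgab⟩
    -- `g⁻¹` preserves `s`
    have hginv : ∀ x ∈ s, g⁻¹ x ∈ s := by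
      intro x hx
      have h1 : g⁻¹ • s = s := by rw [inv_smul_eq_iff, hgs]
      rw [← h1]
      exact Finset.smul_mem_smul_finset hx
    have hgmem : ∀ x ∈ s, g x ∈ s := by
      intro x hx
      rw [← hgs]
      exact Finset.smul_mem_smul_finset hx
    -- the permutation to be realised on `insert b s`
    let π : Equiv.Perm α := Equiv.swap b (g⁻¹ b) * g⁻¹
    have hπb : π b = b := by
      simp [π]
    have hπs : ∀ x ∈ s, π x = g⁻¹ x := by
      intro x hx
      simp only [π, Equiv.Perm.mul_apply]
      apply Equiv.swap_apply_of_ne_of_ne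
      · intro h
        exact hb (h ▸ hginv x hx)
      · intro h
        exact hb ((g⁻¹).injective h ▸ hx)
    have hπmem : ∀ x, x ∈ insert b s → π x ∈ insert b s := by
      intro x hx
      rcases Finset.mem_insert.mp hx with rfl | hx
      · rw [hπb]; exact Finset.mem_insert_self _ _
      · rw [hπs x hx]; exact Finset.mem_insert_of_mem (hginv x hx)
    have hcard : (insert b s).card = k + 1 := by
      rw [Finset.card_insert_of_notMem hb, hs]
    obtain ⟨h, hh, hhσ⟩ := hgen _ hcard (π.subtypePermOfFintype hπmem)
    refine ⟨h * g, G.mul_mem hh hg, ?_, ?_⟩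
    · intro x hx
      have h1 := hhσ ⟨g x, Finset.mem_insert_of_mem (hgmem x hx)⟩
      simp only [Equiv.Perm.subtypePermOfFintype_apply] at h1
      rw [Equiv.Perm.mul_apply, h1, hπs _ (hgmem x hx)]
      simp
    · have h1 := hhσ ⟨b, Finset.mem_insert_self _ _⟩
      simp only [Equiv.Perm.subtypePermOfFintype_apply] at h1
      rw [Equiv.Perm.mul_apply, hgab, h1, hπb]

end Cfsg.Agent.S0705
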