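-- Statement S0710 (no transitive group of degree 13 and order 13*12*11*10*9*8).
import Cfsg.Statements.S0710
import Mathlib

set_option autoImplicit false
open Cfsg

namespace Cfsg.Agent.S0710

open Subgroup

/-- an element of prime order `p` in the symmetric group of degree `p` has centraliser of
order `p` -/
theorem card_centralizer_of_orderOf {α : Type*} [Fintype α] [DecidableEq α] {p : ℕ}
    (hp : p.Prime) (hα : Fintype.card α = p) (c : Equiv.Perm α) (hc : orderOf c = p) :
    Nat.card (Subgroup.centralizer {c}) = p := by
  obtain ⟨k, hk⟩ := Equiv.Perm.cycleType_prime_order (σ := c) (by rw [hc]; exact hp)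
  rw [hc] at hk
  have hsum := Equiv.Perm.sum_cycleType_le c
  rw [hk, Multiset.sum_replicate, hα, smul_eq_mul] at hsum
  have hk0 : k = 0 := by
    have hp2 := hp.two_le
    by_contra h
    have : 2 ≤ k + 1 := by omega
    have := Nat.mul_le_mul_right p this
    omega
  subst hk0
  rw [Equiv.Perm.nat_card_centralizer, hk, hα]
  simp

/-- There is no transitive permutation group of degree 13 whose order is 13·12·11·10·9·8. -/
theorem result {α : Type*} [Fintype α] [DecidableEq α] (hα : Fintype.card α = 13) (G : Subgroup (Equiv.Perm α)) [MulAction.IsPretransitive G α] : Nat.card G ≠ 13 * 12 * 11 * 10 * 9 * 8 := by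
  intro hG
  have hp : Fact (Nat.Prime 13) := ⟨by norm_num⟩
  obtain ⟨P⟩ : Nonempty (Sylow 13 G) := inferInstance
  -- the Sylow subgroup has order 13
  have hP13 : Nat.card P = 13 := by
    obtain ⟨k, hk⟩ := P.2.exists_card_eq
    have hdvd : Nat.card P ∣ Nat.card G := Subgroup.card_subgroup_dvd_card _
    rw [hk, hG] at hdvd
    have hk1 : k ≤ 1 := by
      by_contra h
      have h2 : 2 ≤ k := by omega
      have : 13 ^ 2 ∣ 13 * 12 * 11 * 10 * 9 * 8 := (pow_dvd_pow 13 h2).trans hdvd
      norm_num at this
    have hk0 : k ≠ 0 := by
      rintro rfl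
      have h1 := P.not_dvd_index
      have h2 := Subgroup.card_mul_index (P : Subgroup G)
      rw [hk, pow_zero, one_mul, hG] at h2
      apply h1
      rw [h2]
      norm_num
    have : k = 1 := by omega
    rw [hk, this, pow_one]
  -- a generator
  have hcyc : IsCyclic P := isCyclic_of_prime_card hP13
  obtain ⟨⟨c, hcP⟩, hcgen⟩ := hcyc.exists_generator
  have hcord : orderOf c = 13 := by
    have h1 : orderOf (⟨c, hcP⟩ : P) = Nat.card P := orderOf_eq_card_of_forall_mem_zpowers hcgen
    rw [hP13] at h1
    rw [← h1]
    exact (Subgroup.orderOf_mk c hcP).symm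
  have hcord' : orderOf (c : Equiv.Perm α) = 13 := by
    rw [Subgroup.orderOf_coe, hcord]
  -- the centraliser of `P` has order 13
  have hC : Nat.card (centralizer (P : Set G)) = 13 := by
    apply le_antisymm
    · have h1 := card_centralizer_of_orderOf (by norm_num) hα (c : Equiv.Perm α) hcord'
      refine le_trans ?_ h1.le
      apply Nat.card_le_card_of_injective
        (fun g : centralizer (P : Set G) => (⟨((g : G) : Equiv.Perm α), by
          rw [Subgroup.mem_centralizer_singleton_iff]
          have := g.2 c hcP
          exact (congrArg Subtype.val this).symm⟩ : Subgroup.centralizer {(c : Equiv.Perm α)}))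
      intro g g' h
      apply Subtype.ext
      apply Subtype.ext
      exact congrArg (fun x : Subgroup.centralizer {(c : Equiv.Perm α)} => (x : Equiv.Perm α)) h
    · refine le_trans hP13.symm.le ?_
      have : IsMulCommutative P := ⟨⟨fun a b => by
        have := hcyc.commGroup.mul_comm a b
        exact this⟩⟩
      exact Subgroup.card_le_of_le P.le_centralizer
  -- `N/C` embeds in the automorphism group of order 12
  have key := card_dvd_of_injective _
    (QuotientGroup.kerLift_injective (P : Subgroup G).normalizerMonoidHom)
  rw [normalizerMonoidHom_ker, ← index, ← relIndex, hcyc.card_mulAut, hP13] at key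
  have htot : Nat.totient 13 = 12 := by
    rw [Nat.totient_prime (by norm_num)]
  rw [htot] at key
  -- orders
  have hCN : centralizer (P : Set G) ≤ normalizer (P : Set G) := centralizer_le_normalizer _
  have hn13 := card_sylow_modEq_one 13 G
  rw [P.card_eq_index_normalizer] at hn13
  have hidx := Subgroup.card_mul_index (centralizer (P : Set G))
  rw [hC, hG, ← relIndex_mul_index hCN] at hidx
  obtain ⟨d, hd⟩ : ∃ d, d = (centralizer (P : Set G)).relIndex (normalizer (P : Set G)) :=
    ⟨_, rfl⟩
  obtain ⟨m, hm⟩ : ∃ m, m = (normalizer (P : Set G)).index := ⟨_, rfl⟩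
  have key' : d ∣ 12 := by rw [hd]; exact key
  rw [← hd] at hidx
  rw [← hm] at hn13 hidx
  have hdpos : 0 < d := Nat.pos_of_dvd_of_pos key' (by norm_num)
  have hd12 : d ≤ 12 := Nat.le_of_dvd (by norm_num) key'
  have hmd : d * m = 95040 := by
    have : 13 * (d * m) = 13 * 95040 := by rw [hidx]
    exact Nat.eq_of_mul_eq_mul_left (by norm_num) this
  have hmod : m % 13 = 1 := hn13
  interval_cases d <;> omega

end Cfsg.Agent.S0710
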