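import Cfsg.Statements.S0711
import Cfsg.Agent.Helper60.PermKit

set_option autoImplicit false
open Cfsg

namespace Cfsg.Agent.S0711

section helpers

open Equiv Equiv.Perm MulAction Cfsg.Agent.Helper60

variable {α : Type*} [Fintype α] [DecidableEq α]

/-- support of the commutator-like element `g⁻¹ * (x * g * x⁻¹)` when `x` fixes `T` pointwise. -/
theorem support_comm_subset (g x : Perm α) (T : Finset α)
    (hx : ∀ y ∈ T, x y = y) :
    (g⁻¹ * (x * g * x⁻¹)).support ⊆
      (g.support ∪ (x * g * x⁻¹).support) \ T.filter (fun y => g y ∈ T) := by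
  intro y hy
  rw [Finset.mem_sdiff]
  constructor
  · have := support_mul_le g⁻¹ (x * g * x⁻¹) hy
    rw [support_inv] at this
    exact this
  · intro hyT
    rw [Finset.mem_filter] at hyT
    obtain ⟨hyT, hgy⟩ := hyT
    rw [mem_support] at hy
    apply hy
    have h1 : x⁻¹ y = y := by rw [Perm.inv_eq_iff_eq, hx y hyT]
    simp only [Perm.mul_apply, h1, hx _ hgy]
    simp

/-- the counting bound -/
theorem card_support_comm (g x : Perm α) (T : Finset α) (hT : T ⊆ g.support)
    (hx : ∀ y ∈ T, x y = y) :
    (g⁻¹ * (x * g * x⁻¹)).support.card + (T.filter (fun y => g y ∈ T)).card +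
      (g.support ∩ (x * g * x⁻¹).support).card ≤ 2 * g.support.card := by
  have h1 := Finset.card_le_card (support_comm_subset g x T hx)
  have h2 : T.filter (fun y => g y ∈ T) ⊆ g.support ∪ (x * g * x⁻¹).support :=
    fun y hy => Finset.mem_union_left _ (hT (Finset.mem_filter.mp hy).1)
  rw [Finset.card_sdiff_of_subset h2] at h1
  have h3 := Finset.card_union_add_card_inter g.support (x * g * x⁻¹).support
  have h4 : (x * g * x⁻¹).support.card = g.support.card := card_support_conj
  have h5 := Finset.card_le_card h2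
  omega

/-- almost invariant subsets of the support of every size -/
theorem exists_almost_invariant (g : Perm α) (t : ℕ) (ht : t ≤ g.support.card) :
    ∃ T : Finset α, T ⊆ g.support ∧ T.card = t ∧
      ∀ a ∈ T, ∀ b ∈ T, g a ∉ T → g b ∉ T → a = b := by
  induction t with
  | zero => exact ⟨∅, Finset.empty_subset _, rfl, by simp⟩
  | succ t ih =>
    obtain ⟨T, hTS, hTc, hT⟩ := ih (by omega)
    -- the new element
    have hex : ∃ b ∈ g.support, b ∉ T ∧ ∀ a ∈ T, g a ∉ T → g a = b := by
      by_cases hexit : ∃ a ∈ T, g a ∉ T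
      · obtain ⟨a, haT, hga⟩ := hexit
        refine ⟨g a, ?_, hga, ?_⟩
        · exact apply_mem_support.mpr (hTS haT)
        · intro a' ha' hga'
          rw [hT a' ha' a haT hga' hga]
      · push Not at hexit
        have hlt : T.card < g.support.card := by omega
        obtain ⟨b, hbS, hbT⟩ := Finset.exists_mem_notMem_of_card_lt_card hlt
        exact ⟨b, hbS, hbT, fun a ha hga => absurd (hexit a ha) hga⟩
    obtain ⟨b, hbS, hbT, hb⟩ := hex
    refine ⟨insert b T, ?_, ?_, ?_⟩
    · exact Finset.insert_subset hbS hTS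
    · rw [Finset.card_insert_of_notMem hbT, hTc]
    · -- every exit of the new set is b
      have key : ∀ a ∈ insert b T, g a ∉ insert b T → a = b := by
        intro a ha hga
        rw [Finset.mem_insert] at ha
        rcases ha with rfl | ha
        · rfl
        · exfalso
          have h1 : g a ∉ T := fun h => hga (Finset.mem_insert_of_mem h)
          exact hga (by rw [hb a ha h1]; exact Finset.mem_insert_self _ _)
      intro a ha a' ha' hga hga'
      rw [key a ha hga, key a' ha' hga']

/-- In a `k`-transitive group, there is an element fixing a set `T` of size `< k` pointwise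
and mapping `β'` to `β`, for `β, β'` outside `T`. -/
theorem exists_mem_fix_map {G : Subgroup (Perm α)} {k : ℕ} (hkn : k ≤ Fintype.card α)
    (hG : IsMultiplyPretransitive G α k) (T : Finset α) (hT : T.card + 1 ≤ k)
    {β β' : α} (hβ : β ∉ T) (hβ' : β' ∉ T) :
    ∃ x ∈ G, (∀ y ∈ T, x y = y) ∧ x β' = β := by
  have hmt : IsMultiplyPretransitive G α (insert β' T).card := by
    rw [Finset.card_insert_of_notMem hβ']
    exact isMultiplyPretransitive_of_le (m := T.card + 1) (n := k) hT
      (by rw [Nat.card_eq_fintype_card]; exact hkn)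
  obtain ⟨x, hxG, hx⟩ := exists_mem_agree_on (insert β' T) hmt (swap β β')
  refine ⟨x, hxG, ?_, ?_⟩
  · intro y hy
    rw [hx y (Finset.mem_insert_of_mem hy)]
    apply swap_apply_of_ne_of_ne
    · rintro rfl; exact hβ hy
    · rintro rfl; exact hβ' hy
  · rw [hx β' (Finset.mem_insert_self _ _), swap_apply_right]

/-- `T` is contained in the support of the conjugate. -/
theorem subset_support_conj (g x : Perm α) (T : Finset α) (hT : T ⊆ g.support)
    (hx : ∀ y ∈ T, x y = y) : T ⊆ g.support ∩ (x * g * x⁻¹).support := by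
  intro y hy
  rw [Finset.mem_inter, support_conj, Finset.mem_map]
  exact ⟨hT hy, y, hT hy, hx y hy⟩

/-- push-out construction -/
theorem pushout (g x : Perm α) (T : Finset α) (hT : T ⊆ g.support)
    (hx : ∀ y ∈ T, x y = y) {β ω : α} (hβ : β ∈ g.support) (hω : ω ∉ g.support)
    (hxω : x ω = β) :
    g⁻¹ * (x * g * x⁻¹) ≠ 1 ∧
    (g⁻¹ * (x * g * x⁻¹)).support.card + (T.filter (fun y => g y ∈ T)).card + T.card
      ≤ 2 * g.support.card := by
  constructor
  · intro h1
    have h2 := congrArg (fun f : Perm α => f β) h1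
    have h3 : x⁻¹ β = ω := by rw [Perm.inv_eq_iff_eq, hxω]
    simp only [Perm.mul_apply, h3, notMem_support.mp hω, hxω, Perm.one_apply] at h2
    rw [Perm.inv_eq_iff_eq] at h2
    exact (mem_support.mp hβ) h2.symm
  · have h1 := card_support_comm g x T hT hx
    have h2 := Finset.card_le_card (subset_support_conj g x T hT hx)
    omega

/-- swap-within construction -/
theorem swapin (g x : Perm α) (T : Finset α) (hT : T ⊆ g.support)
    (hx : ∀ y ∈ T, x y = y) {τ β' : α} (hτ : τ ∈ T) (hgτ : g τ ∉ T)
    (hβ' : β' ∈ g.support) (hne : β' ≠ g τ)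
    (hxβ : x β' = g τ) :
    g⁻¹ * (x * g * x⁻¹) ≠ 1 ∧
    (g⁻¹ * (x * g * x⁻¹)).support.card + (T.filter (fun y => g y ∈ T)).card + (T.card + 1)
      ≤ 2 * g.support.card := by
  constructor
  · intro h1
    have h2 := congrArg (fun f : Perm α => f τ) h1
    have h3 : x⁻¹ τ = τ := by rw [Perm.inv_eq_iff_eq, hx τ hτ]
    simp only [Perm.mul_apply, h3, Perm.one_apply] at h2
    rw [Perm.inv_eq_iff_eq] at h2
    have h4 : x (g τ) = x β' := by rw [h2, hxβ]
    exact hne (x.injective h4).symm
  · have h1 := card_support_comm g x T hT hx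
    have h2 : insert (g τ) T ⊆ g.support ∩ (x * g * x⁻¹).support := by
      apply Finset.insert_subset _ (subset_support_conj g x T hT hx)
      rw [Finset.mem_inter, support_conj, Finset.mem_map]
      exact ⟨apply_mem_support.mpr (hT hτ), β', hβ', hxβ⟩
    have h3 := Finset.card_le_card h2
    rw [Finset.card_insert_of_notMem hgτ] at h3
    omega

/-- counting the non-exits -/
theorem card_nonexit (g : Perm α) (T : Finset α)
    (hT : ∀ a ∈ T, ∀ b ∈ T, g a ∉ T → g b ∉ T → a = b) :
    T.card ≤ (T.filter (fun y => g y ∈ T)).card + 1 := by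
  have h1 := Finset.card_filter_add_card_filter_not (s := T) (fun y => g y ∈ T)
  have h2 : (T.filter (fun y => ¬ g y ∈ T)).card ≤ 1 := by
    rw [Finset.card_le_one]
    intro a ha b hb
    rw [Finset.mem_filter] at ha hb
    exact hT a ha.1 b hb.1 ha.2 hb.2
  omega

theorem card_nonexit' (g : Perm α) (T : Finset α)
    (hT : ∀ a ∈ T, g a ∈ T) :
    (T.filter (fun y => g y ∈ T)).card = T.card := by
  rw [Finset.filter_true_of_mem hT]

theorem comm_mem {G : Subgroup (Perm α)} {g x : Perm α} (hg : g ∈ G) (hx : x ∈ G) :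
    g⁻¹ * (x * g * x⁻¹) ∈ G :=
  G.mul_mem (G.inv_mem hg) (G.mul_mem (G.mul_mem hx hg) (G.inv_mem hx))

/-- the descent step -/
theorem descent {G : Subgroup (Perm α)} {k : ℕ} (hk : 3 ≤ k) (hkn : k ≤ Fintype.card α)
    (hG : IsMultiplyPretransitive G α k) (g : Perm α) (hg : g ∈ G)
    (hs4 : 4 ≤ g.support.card) (hs : g.support.card + 3 ≤ 2 * k) :
    ∃ h ∈ G, h ≠ 1 ∧ h.support.card < g.support.card := by
  by_cases hfull : ∀ a, a ∈ g.support
  · -- `g` has no fixed point
    have hSn : g.support.card = Fintype.card α := by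
      rw [← Finset.card_univ]
      congr 1
      exact Finset.eq_univ_iff_forall.mpr hfull
    obtain ⟨A, -, hA⟩ := Finset.exists_subset_card_eq (s := (Finset.univ : Finset α))
      (n := k - 2) (by rw [Finset.card_univ]; omega)
    have hAc : 1 < Aᶜ.card := by rw [Finset.card_compl, hA]; omega
    obtain ⟨c, hc, c', hc', hcc'⟩ := Finset.one_lt_card.mp hAc
    rw [Finset.mem_compl] at hc hc'
    obtain ⟨x, hxG, hxA, hxc⟩ := exists_mem_fix_map hkn hG A (by omega) hc hc'
    refine ⟨x, hxG, ?_, ?_⟩
    · rintro rfl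
      exact hcc' hxc.symm
    · have hsub : x.support ⊆ Aᶜ := by
        intro y hy
        rw [Finset.mem_compl]
        intro hyA
        exact (mem_support.mp hy) (hxA y hyA)
      have := Finset.card_le_card hsub
      rw [Finset.card_compl, hA] at this
      omega
  · push Not at hfull
    obtain ⟨ω, hω⟩ := hfull
    by_cases hsk : g.support.card ≤ k
    · -- Regime I
      obtain ⟨β₀, hβ₀⟩ : g.support.Nonempty := Finset.card_pos.mp (by omega)
      set T := g.support.erase β₀ with hTdef
      have hTS : T ⊆ g.support := Finset.erase_subset _ _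
      have hTc : T.card = g.support.card - 1 := Finset.card_erase_of_mem hβ₀
      have hβT : β₀ ∉ T := Finset.notMem_erase _ _
      have hωT : ω ∉ T := fun h => hω (hTS h)
      obtain ⟨x, hxG, hxT, hxω⟩ := exists_mem_fix_map hkn hG T (by omega) hβT hωT
      obtain ⟨hne, hcard⟩ := pushout g x T hTS hxT hβ₀ hω hxω
      refine ⟨_, comm_mem hg hxG, hne, ?_⟩
      have hT1 : ∀ a ∈ T, ∀ b ∈ T, g a ∉ T → g b ∉ T → a = b := by
        intro a ha b hb hga hgb
        have h1 : ∀ c ∈ T, g c ∉ T → g c = β₀ := by
          intro c hc hgc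
          by_contra hcon
          exact hgc (Finset.mem_erase.mpr ⟨hcon, apply_mem_support.mpr (hTS hc)⟩)
        exact g.injective ((h1 a ha hga).trans (h1 b hb hgb).symm)
      have := card_nonexit g T hT1
      omega
    · -- Regime II
      push Not at hsk
      obtain ⟨T, hTS, hTc, hT1⟩ := exists_almost_invariant g (k - 1) (by omega)
      by_cases hexit : ∃ τ ∈ T, g τ ∉ T
      · obtain ⟨τ, hτ, hgτ⟩ := hexit
        have hlt : (insert (g τ) T).card < g.support.card := by
          rw [Finset.card_insert_of_notMem hgτ]; omega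
        obtain ⟨β', hβ'S, hβ'⟩ := Finset.exists_mem_notMem_of_card_lt_card hlt
        rw [Finset.mem_insert, not_or] at hβ'
        obtain ⟨x, hxG, hxT, hxβ⟩ := exists_mem_fix_map hkn hG T (by omega) hgτ hβ'.2
        obtain ⟨hne, hcard⟩ := swapin g x T hTS hxT hτ hgτ hβ'S hβ'.1 hxβ
        refine ⟨_, comm_mem hg hxG, hne, ?_⟩
        have := card_nonexit g T hT1
        omega
      · push Not at hexit
        have hlt : T.card < g.support.card := by omega
        obtain ⟨β, hβS, hβT⟩ := Finset.exists_mem_notMem_of_card_lt_card hlt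
        have hωT : ω ∉ T := fun h => hω (hTS h)
        obtain ⟨x, hxG, hxT, hxω⟩ := exists_mem_fix_map hkn hG T (by omega) hβT hωT
        obtain ⟨hne, hcard⟩ := pushout g x T hTS hxT hβS hω hxω
        refine ⟨_, comm_mem hg hxG, hne, ?_⟩
        have := card_nonexit' g T hexit
        omega

theorem exists_small {G : Subgroup (Perm α)} {k : ℕ} (hk : 3 ≤ k) (hkn : k ≤ Fintype.card α)
    (hG : IsMultiplyPretransitive G α k) :
    ∀ s : ℕ, ∀ g : Perm α, g ∈ G → g ≠ 1 → g.support.card = s → s + 3 ≤ 2 * k →
      ∃ h ∈ G, h ≠ 1 ∧ h.support.card ≤ 3 := by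
  intro s
  induction s using Nat.strong_induction_on with
  | _ s ih =>
    intro g hg hg1 hgs hs
    by_cases h3 : s ≤ 3
    · exact ⟨g, hg, hg1, hgs ▸ h3⟩
    · push Not at h3
      obtain ⟨h, hhG, hh1, hlt⟩ := descent hk hkn hG g hg (by omega) (by omega)
      exact ih h.support.card (by omega) h hhG hh1 rfl (by omega)

theorem alt_le_of_small {G : Subgroup (Perm α)} {k : ℕ} (hk : 3 ≤ k)
    (hkn : k ≤ Fintype.card α)
    (hG : IsMultiplyPretransitive G α k) (h : Perm α) (hhG : h ∈ G) (hh1 : h ≠ 1)
    (hc : h.support.card ≤ 3) : alternatingGroup α ≤ G := by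
  have h2 : IsMultiplyPretransitive G α 2 :=
    isMultiplyPretransitive_of_le (m := 2) (n := k) (by omega)
      (by rw [Nat.card_eq_fintype_card]; exact hkn)
  have hprim : IsPreprimitive G α := isPreprimitive_of_is_two_pretransitive h2
  have h0 : h.support.card ≠ 0 := by
    rw [Ne, Finset.card_eq_zero, support_eq_empty_iff]; exact hh1
  have h1 := card_support_ne_one h
  have : h.support.card = 2 ∨ h.support.card = 3 := by omega
  rcases this with h2 | h3
  · rw [card_support_eq_two] at h2
    rw [subgroup_eq_top_of_isPreprimitive_of_isSwap_mem hprim h h2 hhG]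
    exact le_top
  · rw [card_support_eq_three_iff] at h3
    exact alternatingGroup_le_of_isPreprimitive_of_isThreeCycle_mem hprim h3 hhG

end helpers

/-- A `k`-transitive permutation group (`k ≥ 3`) with a non-identity element of support smaller than `2k - 2` contains a non-identity element of support at most 3, and therefore contains the alternating group. -/
theorem result {α : Type*} [Fintype α] [DecidableEq α] (G : Subgroup (Equiv.Perm α)) {k : ℕ} (hk : 3 ≤ k) (hkn : k ≤ Fintype.card α) (hG : MulAction.IsMultiplyPretransitive G α k) (g : Equiv.Perm α) (hg : g ∈ G) (hg1 : g ≠ 1) (hsupp : g.support.card < 2 * k - 2) : (∃ h : Equiv.Perm α, h ∈ G ∧ h ≠ 1 ∧ h.support.card ≤ 3) ∧ alternatingGroup α ≤ G := by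
  obtain ⟨h, hhG, hh1, hc⟩ := exists_small hk hkn hG g.support.card g hg hg1 rfl (by omega)
  exact ⟨⟨h, hhG, hh1, hc⟩, alt_le_of_small hk hkn hG h hhG hh1 hc⟩

end Cfsg.Agent.S0711
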