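import Mathlib
import Cfsg.Statements.S0714

set_option autoImplicit false
open Cfsg

namespace Cfsg.Agent.S0714

open Equiv

variable {α : Type*} [Fintype α] [DecidableEq α] {K : Type*} [Field K]

theorem permRep_apply (g : alternatingGroup α) (f : α → K) (x : α) :
    Cfsg.permRep K (alternatingGroup α) α g f x = f ((g : Perm α)⁻¹ x) := rfl

/-- the difference of two basis vectors -/
def u (K : Type*) [Field K] (a b : α) : α → K := Pi.single a 1 - Pi.single b 1

theorem permRep_u (g : alternatingGroup α) (a b : α) :
    Cfsg.permRep K (alternatingGroup α) α g (u K a b) = u K ((g : Perm α) a) ((g : Perm α) b) := by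
  funext x
  rw [permRep_apply]
  simp only [u, Pi.sub_apply, Pi.single_apply]
  have h1 : ((g : Perm α)⁻¹ x = a) ↔ (x = (g : Perm α) a) := by
    rw [Perm.inv_eq_iff_eq]
  have h2 : ((g : Perm α)⁻¹ x = b) ↔ (x = (g : Perm α) b) := by
    rw [Perm.inv_eq_iff_eq]
  simp only [h1, h2]

theorem swap_swap_mem (a b d e : α) (hab : a ≠ b) (hde : d ≠ e) :
    swap a b * swap d e ∈ alternatingGroup α := by
  rw [Perm.mem_alternatingGroup, Perm.sign_mul, Perm.sign_swap hab, Perm.sign_swap hde]
  rfl

/-- Lemma Y: a double transposition isolates a difference of basis vectors. -/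
theorem lemmaY (W : Subrepresentation (Cfsg.permRep K (alternatingGroup α) α)) (h : α → K)
    (hW : h ∈ W.toSubmodule) {a b d e : α} (hab : a ≠ b) (hde : d ≠ e) (had : a ≠ d)
    (hae : a ≠ e) (hbd : b ≠ d) (hbe : b ≠ e) (hne : h a ≠ h b) (heq : h d = h e) :
    u K a b ∈ W.toSubmodule := by
  let τ : alternatingGroup α := ⟨swap a b * swap d e, swap_swap_mem a b d e hab hde⟩
  have hk : h - Cfsg.permRep K (alternatingGroup α) α τ h ∈ W.toSubmodule :=
    W.toSubmodule.sub_mem hW (W.apply_mem_toSubmodule τ hW)
  have hinv : ((τ : Perm α))⁻¹ = swap d e * swap a b := by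
    change (swap a b * swap d e)⁻¹ = _
    rw [mul_inv_rev, swap_inv, swap_inv]
  have hkeq : h - Cfsg.permRep K (alternatingGroup α) α τ h = (h a - h b) • u K a b := by
    funext x
    rw [Pi.sub_apply, permRep_apply, hinv, Perm.coe_mul, Function.comp_apply, Pi.smul_apply,
      smul_eq_mul]
    simp only [u, Pi.sub_apply, Pi.single_apply]
    by_cases hxa : x = a
    · subst hxa
      rw [swap_apply_left, swap_apply_of_ne_of_ne hbd hbe]
      simp [hab]
    · by_cases hxb : x = b
      · subst hxb
        rw [swap_apply_right, swap_apply_of_ne_of_ne had hae]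
        simp [hab.symm]
      · rw [swap_apply_of_ne_of_ne hxa hxb]
        by_cases hxd : x = d
        · subst hxd
          rw [swap_apply_left]
          simp [hxa, hxb, heq]
        · by_cases hxe : x = e
          · subst hxe
            rw [swap_apply_right]
            simp [hxa, hxb, heq]
          · rw [swap_apply_of_ne_of_ne hxd hxe]
            simp [hxa, hxb]
  rw [hkeq] at hk
  have hne' : h a - h b ≠ 0 := sub_ne_zero.mpr hne
  have := W.toSubmodule.smul_mem (h a - h b)⁻¹ hk
  rwa [smul_smul, inv_mul_cancel₀ hne', one_smul] at this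

theorem three_cycle_mem (a b c : α) (hab : a ≠ b) (hbc : b ≠ c) :
    swap a b * swap b c ∈ alternatingGroup α := swap_swap_mem a b b c hab hbc

/-- (L5) a non-constant function in `W` produces a difference of basis vectors in `W`. -/
theorem exists_u_mem (hα : 5 ≤ Fintype.card α)
    (W : Subrepresentation (Cfsg.permRep K (alternatingGroup α) α)) (f : α → K)
    (hW : f ∈ W.toSubmodule) {a b : α} (hfab : f a ≠ f b) :
    ∃ x y : α, x ≠ y ∧ u K x y ∈ W.toSubmodule := by
  have hab : a ≠ b := fun h => hfab (by rw [h])
  -- three more points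
  have hcard : 3 ≤ (Finset.univ \ {a, b} : Finset α).card := by
    have := Finset.card_sdiff_add_card_inter (Finset.univ : Finset α) {a, b}
    have h2 : ((Finset.univ : Finset α) ∩ {a, b}).card ≤ 2 := by
      calc ((Finset.univ : Finset α) ∩ {a, b}).card ≤ ({a, b} : Finset α).card :=
            Finset.card_le_card Finset.inter_subset_right
        _ ≤ 2 := Finset.card_le_two
    rw [Finset.card_univ] at this
    omega
  obtain ⟨t, ht, htc⟩ := Finset.exists_subset_card_eq hcard
  obtain ⟨c, d, e, hcd, hce, hde, rfl⟩ := Finset.card_eq_three.mp htc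
  have hc := ht (show c ∈ ({c, d, e} : Finset α) by simp)
  have hd := ht (show d ∈ ({c, d, e} : Finset α) by simp)
  have he := ht (show e ∈ ({c, d, e} : Finset α) by simp)
  simp only [Finset.mem_sdiff, Finset.mem_univ, Finset.mem_insert, Finset.mem_singleton,
    true_and, not_or] at hc hd he
  obtain ⟨hca, hcb⟩ := hc
  obtain ⟨hda, hdb⟩ := hd
  obtain ⟨hea, heb⟩ := he
  -- the 3-cycle `a → b → c → a`
  let σ : alternatingGroup α := ⟨swap a b * swap b c, three_cycle_mem a b c hab (Ne.symm hcb)⟩
  let h : α → K := f - Cfsg.permRep K (alternatingGroup α) α σ f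
  have hhW : h ∈ W.toSubmodule :=
    W.toSubmodule.sub_mem hW (W.apply_mem_toSubmodule σ hW)
  have hinv : ((σ : Perm α))⁻¹ = swap b c * swap a b := by
    change (swap a b * swap b c)⁻¹ = _
    rw [mul_inv_rev, swap_inv, swap_inv]
  have hval : ∀ x, h x = f x - f (swap b c (swap a b x)) := by
    intro x
    change f x - Cfsg.permRep K (alternatingGroup α) α σ f x = _
    rw [permRep_apply, hinv, Perm.coe_mul, Function.comp_apply]
  have hha : h a = f a - f c := by
    rw [hval, swap_apply_left, swap_apply_left]
  have hhb : h b = f b - f a := by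
    rw [hval, swap_apply_right, swap_apply_of_ne_of_ne hab (Ne.symm hca)]
  have hhc : h c = f c - f b := by
    rw [hval, swap_apply_of_ne_of_ne hca hcb, swap_apply_right]
  have hhd : h d = 0 := by
    rw [hval, swap_apply_of_ne_of_ne hda hdb, swap_apply_of_ne_of_ne hdb (Ne.symm hcd), sub_self]
  have hhe : h e = 0 := by
    rw [hval, swap_apply_of_ne_of_ne hea heb, swap_apply_of_ne_of_ne heb (Ne.symm hce), sub_self]
  have hhb0 : h b ≠ 0 := by
    rw [hhb]; exact sub_ne_zero.mpr (Ne.symm hfab)
  by_cases h1 : h a = h b
  · by_cases h2 : h b = h c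
    · -- all equal and non-zero
      refine ⟨c, d, hcd, ?_⟩
      apply lemmaY W h hhW hcd hab hca hcb hda hdb _ h1
      rw [hhd, ← h2]; exact hhb0
    · refine ⟨b, c, Ne.symm hcb, ?_⟩
      exact lemmaY W h hhW (Ne.symm hcb) hde (Ne.symm hdb) (Ne.symm heb) hcd hce h2
        (by rw [hhd, hhe])
  · refine ⟨a, b, hab, ?_⟩
    exact lemmaY W h hhW hab hde (Ne.symm hda) (Ne.symm hea) (Ne.symm hdb) (Ne.symm heb) h1
      (by rw [hhd, hhe])

/-- (L1) one difference in `W` gives all of them. -/
theorem all_u_mem (hα : 5 ≤ Fintype.card α)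
    (W : Subrepresentation (Cfsg.permRep K (alternatingGroup α) α)) {x y : α} (hxy : x ≠ y)
    (hu : u K x y ∈ W.toSubmodule) {s t : α} (hst : s ≠ t) : u K s t ∈ W.toSubmodule := by
  have h2 : MulAction.IsMultiplyPretransitive (alternatingGroup α) α 2 := by
    have := alternatingGroup.isMultiplyPretransitive α
    exact MulAction.isMultiplyPretransitive_of_le (n := Nat.card α - 2)
      (by rw [Nat.card_eq_fintype_card]; omega) (Nat.sub_le _ _)
  rw [MulAction.is_two_pretransitive_iff] at h2
  obtain ⟨g, hgx, hgy⟩ := h2 hxy hst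
  have := W.apply_mem_toSubmodule g hu
  rw [permRep_u] at this
  have h1 : (g : Perm α) x = s := hgx
  have h2 : (g : Perm α) y = t := hgy
  rwa [h1, h2] at this

theorem mem_sumZero_iff (f : α → K) :
    f ∈ (Cfsg.permSumZero K (alternatingGroup α) α).toSubmodule ↔ ∑ x, f x = 0 := Iff.rfl

/-- (L2) if all differences are in `W` then all sum-zero functions are. -/
theorem sumZero_le (W : Subrepresentation (Cfsg.permRep K (alternatingGroup α) α))
    (hu : ∀ s t : α, s ≠ t → u K s t ∈ W.toSubmodule) :
    (Cfsg.permSumZero K (alternatingGroup α) α).toSubmodule ≤ W.toSubmodule := by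
  intro f hf
  rw [mem_sumZero_iff] at hf
  by_cases hne : Nonempty α
  · obtain ⟨x0⟩ := hne
    have hfe : f = ∑ x, f x • u K x x0 := by
      funext y
      rw [Finset.sum_apply]
      simp only [Pi.smul_apply, u, Pi.sub_apply, Pi.single_apply, smul_eq_mul, mul_sub,
        Finset.sum_sub_distrib, mul_ite, mul_one, mul_zero]
      rw [Finset.sum_ite_eq Finset.univ y f]
      simp only [Finset.mem_univ, if_true]
      by_cases hy : y = x0
      · simp [hy, hf]
      · simp [hy]
    rw [hfe]
    apply W.toSubmodule.sum_mem
    intro x _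
    apply W.toSubmodule.smul_mem
    by_cases hx : x = x0
    · have : u K x x0 = 0 := by rw [hx]; simp [u]
      rw [this]; exact W.toSubmodule.zero_mem
    · exact hu x x0 hx
  · have : f = 0 := by
      funext y
      exact absurd ⟨y⟩ hne
    rw [this]; exact W.toSubmodule.zero_mem

/-- (L3) a submodule containing the sum-zero functions is that or everything. -/
theorem eq_sumZero_or_top (W : Subrepresentation (Cfsg.permRep K (alternatingGroup α) α))
    (hle : (Cfsg.permSumZero K (alternatingGroup α) α).toSubmodule ≤ W.toSubmodule) :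
    W.toSubmodule = (Cfsg.permSumZero K (alternatingGroup α) α).toSubmodule ∨
      W.toSubmodule = ⊤ := by
  by_cases hex : ∃ f ∈ W.toSubmodule, ∑ x, f x ≠ 0
  · right
    obtain ⟨f, hfW, hf⟩ := hex
    rw [eq_top_iff]
    intro g _
    have h1 : g - ((∑ x, g x) / (∑ x, f x)) • f ∈ W.toSubmodule := by
      apply hle
      rw [mem_sumZero_iff]
      simp only [Pi.sub_apply, Pi.smul_apply, smul_eq_mul, Finset.sum_sub_distrib,
        ← Finset.mul_sum]
      rw [div_mul_cancel₀ _ hf, sub_self]
    have h2 : ((∑ x, g x) / (∑ x, f x)) • f ∈ W.toSubmodule := W.toSubmodule.smul_mem _ hfW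
    have := W.toSubmodule.add_mem h1 h2
    rwa [sub_add_cancel] at this
  · left
    push Not at hex
    exact le_antisymm (fun f hf => (mem_sumZero_iff f).mpr (hex f hf)) hle

/-- (L4) a submodule of constant functions is zero or all constants. -/
theorem eq_bot_or_constants (W : Subrepresentation (Cfsg.permRep K (alternatingGroup α) α))
    (hc : ∀ f ∈ W.toSubmodule, ∀ a b : α, f a = f b) :
    W.toSubmodule = ⊥ ∨
      W.toSubmodule = (Cfsg.permConstants K (alternatingGroup α) α).toSubmodule := by
  have hcs : (Cfsg.permConstants K (alternatingGroup α) α).toSubmodule =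
      Submodule.span K {fun _ => (1 : K)} := rfl
  by_cases hbot : W.toSubmodule = ⊥
  · left; exact hbot
  · right
    rw [hcs]
    obtain ⟨f, hfW, hf0⟩ := (Submodule.ne_bot_iff _).mp hbot
    have hx0 : ∃ x0 : α, f x0 ≠ 0 := by
      by_contra hcon
      push Not at hcon
      exact hf0 (funext hcon)
    obtain ⟨x0, hx0⟩ := hx0
    apply le_antisymm
    · intro g hg
      rw [Submodule.mem_span_singleton]
      refine ⟨g x0, ?_⟩
      funext y
      simp only [Pi.smul_apply, smul_eq_mul, mul_one]
      exact hc g hg x0 y
    · rw [Submodule.span_singleton_le_iff_mem]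
      have h1 : (fun _ => (1 : K)) = (f x0)⁻¹ • f := by
        funext y
        simp only [Pi.smul_apply, smul_eq_mul]
        rw [hc f hfW y x0, inv_mul_cancel₀ hx0]
      rw [h1]
      exact W.toSubmodule.smul_mem _ hfW

/-- Over any field, the permutation module of the alternating group of degree at least 5 has exactly four invariant subspaces: zero, the constant functions, the functions with coordinate sum zero, and everything. -/
theorem result {α : Type*} [Fintype α] [DecidableEq α] (hα : 5 ≤ Fintype.card α) {K : Type*} [Field K] (W : Subrepresentation (Cfsg.permRep K (alternatingGroup α) α)) : W.toSubmodule = ⊥ ∨ W = Cfsg.permConstants K (alternatingGroup α) α ∨ W = Cfsg.permSumZero K (alternatingGroup α) α ∨ W.toSubmodule = ⊤ := by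
  by_cases hc : ∀ f ∈ W.toSubmodule, ∀ a b : α, f a = f b
  · rcases eq_bot_or_constants W hc with h | h
    · left; exact h
    · right; left
      exact Subrepresentation.toSubmodule_injective h
  · push Not at hc
    obtain ⟨f, hfW, a, b, hfab⟩ := hc
    obtain ⟨x, y, hxy, hu⟩ := exists_u_mem hα W f hfW hfab
    have hall : ∀ s t : α, s ≠ t → u K s t ∈ W.toSubmodule :=
      fun s t hst => all_u_mem hα W hxy hu hst
    rcases eq_sumZero_or_top W (sumZero_le W hall) with h | h
    · right; right; left
      exact Subrepresentation.toSubmodule_injective h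
    · right; right; right
      exact h

end Cfsg.Agent.S0714
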