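import Mathlib
import Cfsg.Statements.S0715
import Cfsg.Agent.Helper12.Orbital
import Cfsg.Agent.Helper74.FSCount

set_option autoImplicit false
open Cfsg

namespace Cfsg.Agent.S0715

open Cfsg.Agent.Helper12.Orbital

/-- A natural number equal to `f` times an algebraic integer is divisible by `f`. -/
theorem nat_dvd_of_eq_mul_isIntegral {k f : ℕ} {z : ℂ} (hz : IsIntegral ℤ z)
    (h : (k : ℂ) = f * z) : f ∣ k := by
  rcases Nat.eq_zero_or_pos f with hf0 | hfpos
  · subst hf0
    simp only [Nat.cast_zero, zero_mul, Nat.cast_eq_zero] at h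
    rw [h]
  · have hfne : (f : ℂ) ≠ 0 := by exact_mod_cast hfpos.ne'
    have hzq : z = algebraMap ℚ ℂ ((k : ℚ) / f) := by
      rw [eq_comm, map_div₀, map_natCast, map_natCast, h, mul_div_cancel_left₀ _ hfne]
    rw [hzq, isIntegral_algebraMap_iff (algebraMap ℚ ℂ).injective] at hz
    obtain ⟨n, hn⟩ := IsIntegrallyClosed.isIntegral_iff.mp hz
    have hfq : (f : ℚ) ≠ 0 := by exact_mod_cast hfpos.ne'
    have h2 : (k : ℚ) = f * n := by
      have : (n : ℚ) = (k : ℚ) / f := by simpa using hn
      rw [this, mul_div_cancel₀ _ hfq]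
    have h3 : (k : ℤ) = f * n := by exact_mod_cast h2
    exact Int.natCast_dvd_natCast.mp ⟨n, h3⟩

/-- If a natural number `f` divides the degree of every non-principal irreducible constituent of the permutation character of a transitive group, then `f` divides every non-trivial subdegree. -/
theorem result {G : Type*} [Group G] [Fintype G] {Ω : Type*} [Fintype Ω] [MulAction G Ω] [MulAction.IsPretransitive G Ω] (f : ℕ) (hf : ∀ χ : G → ℂ, Cfsg.IsIrrCharacter G χ → χ ≠ (fun _ => 1) → Cfsg.classInner (fun g : G => (Nat.card (MulAction.fixedBy Ω g) : ℂ)) χ ≠ 0 → ∃ m : ℕ, χ 1 = (f : ℂ) * m) (a b : Ω) (hab : b ≠ a) : f ∣ Nat.card (MulAction.orbit (MulAction.stabilizer G a) b) := by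
  classical
  have := Helper74.irrFintype G
  have hR : ∀ (g : G) (x y : Ω), orbRel G a b (g • x) (g • y) ↔ orbRel G a b x y :=
    fun g x y => orbRel_smul a b g x y
  have hcf : IsClassFunction G (theta (G := G) (orbRel G a b)) :=
    theta_isClassFunction G _ hR
  have hexp := congrFun (Helper74.classFunction_eq_sum_irr hcf) 1
  have hθ1 : theta (G := G) (orbRel G a b) 1 = 0 := by
    simp [theta, orbRel_irrefl hab]
  rw [hθ1] at hexp
  simp only [Finset.sum_apply, Pi.smul_apply, smul_eq_mul] at hexp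
  -- each non-trivial term is `f` times an algebraic integer
  have hterm : ∀ ψ : IrrCharacter G, ψ ≠ Helper74.irrTriv G →
      ∃ z : ℂ, IsIntegral ℤ z ∧
        classInner (theta (G := G) (orbRel G a b)) (ψ : G → ℂ) * (ψ : G → ℂ) 1 = f * z := by
    intro ψ hψ
    by_cases h0 : classInner (fun g : G => (Nat.card (MulAction.fixedBy Ω g) : ℂ)) (ψ : G → ℂ) = 0
    · refine ⟨0, isIntegral_zero, ?_⟩
      rw [classInner_theta_eq_zero _ hR ψ.2 h0]
      simp
    · have hne : (ψ : G → ℂ) ≠ fun _ => 1 := by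
        intro h
        exact hψ (Subtype.ext h)
      obtain ⟨m, hm⟩ := hf ψ ψ.2 hne h0
      have hmint : IsIntegral ℤ (m : ℂ) := by
        have := isIntegral_algebraMap (R := ℤ) (A := ℂ) (x := (m : ℤ))
        simpa using this
      refine ⟨classInner (theta (G := G) (orbRel G a b)) (ψ : G → ℂ) * m,
        (isIntegral_classInner_theta _ hR ψ.2).mul hmint, ?_⟩
      rw [hm]; ring
  choose! z hz1 hz2 using hterm
  rw [← Finset.add_sum_erase Finset.univ _ (Finset.mem_univ (Helper74.irrTriv G))] at hexp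
  have h1 : classInner (theta (G := G) (orbRel G a b)) (Helper74.irrTriv G : G → ℂ) *
      (Helper74.irrTriv G : G → ℂ) 1 =
      (Nat.card (MulAction.orbit (MulAction.stabilizer G a) b) : ℂ) := by
    rw [Helper74.irrTriv_apply, mul_one]
    exact classInner_theta_one a b
  rw [h1] at hexp
  have h2 : ∑ ψ ∈ Finset.univ.erase (Helper74.irrTriv G),
      classInner (theta (G := G) (orbRel G a b)) (ψ : G → ℂ) * (ψ : G → ℂ) 1 =
      f * ∑ ψ ∈ Finset.univ.erase (Helper74.irrTriv G), z ψ := by
    rw [Finset.mul_sum]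
    refine Finset.sum_congr rfl fun ψ hψ => ?_
    exact hz2 ψ (Finset.ne_of_mem_erase hψ)
  rw [h2] at hexp
  refine nat_dvd_of_eq_mul_isIntegral (z := - ∑ ψ ∈ Finset.univ.erase (Helper74.irrTriv G), z ψ)
    ?_ ?_
  · refine IsIntegral.neg (IsIntegral.sum _ fun ψ hψ => ?_)
    exact hz1 ψ (Finset.ne_of_mem_erase hψ)
  · linear_combination -hexp

end Cfsg.Agent.S0715
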