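import Mathlib
import Cfsg.Statements.S0716
import Cfsg.Agent.Helper12.PermCharBasics
import Cfsg.Agent.S0715

set_option autoImplicit false
open Cfsg

namespace Cfsg.Agent.S0716

open Cfsg.Agent.Helper12.PermCharBasics

/-- Internal form: if all non-principal constituents have degree `f`, the permutation
character is multiplicity-free and all non-trivial subdegrees equal `f`. -/
theorem key {G : Type*} [Group G] [Fintype G] {Ω : Type*} [Fintype Ω] [MulAction G Ω]
    [MulAction.IsPretransitive G Ω] [Fintype (IrrCharacter G)] (a : Ω) (f : ℕ)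
    (hdeg : ∀ ψ : IrrCharacter G, ψ ≠ Helper74.irrTriv G → mult Ω ψ ≠ 0 → deg ψ = f) :
    (∀ ψ : IrrCharacter G, mult Ω ψ ≤ 1) ∧
      ∀ b : Ω, b ≠ a → Nat.card (MulAction.orbit (MulAction.stabilizer G a) b) = f := by
  classical
  have : Fintype (MulAction.orbitRel.Quotient (MulAction.stabilizer G a) Ω) := Fintype.ofFinite _
  set t := Helper74.irrTriv G with ht
  set q0 : MulAction.orbitRel.Quotient (MulAction.stabilizer G a) Ω := Quotient.mk'' a with hq0
  -- divisibility from S0715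
  have hdvd : ∀ b : Ω, b ≠ a →
      f ∣ Nat.card (MulAction.orbit (MulAction.stabilizer G a) b) := by
    intro b hb
    refine Cfsg.Agent.S0715.result f ?_ a b hb
    intro χ hχ hne h0
    refine ⟨1, ?_⟩
    have hψ : (⟨χ, hχ⟩ : IrrCharacter G) ≠ t := by
      intro h
      apply hne
      have := congrArg Subtype.val h
      exact this
    have hm : mult Ω (⟨χ, hχ⟩ : IrrCharacter G) ≠ 0 := by
      intro h
      apply h0
      have := mult_spec (Ω := Ω) (⟨χ, hχ⟩ : IrrCharacter G)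
      rw [h, Nat.cast_zero] at this
      exact this
    have := hdeg _ hψ hm
    have h2 := deg_spec (⟨χ, hχ⟩ : IrrCharacter G)
    rw [this] at h2
    simpa using h2
  -- sums
  have E1 := sum_mult_deg (G := G) (Ω := Ω)
  have E2 := sum_mult_sq (G := G) (Ω := Ω) a
  have E3 := card_eq_sum_suborbits (G := G) (Ω := Ω) a
  rw [← Finset.add_sum_erase Finset.univ _ (Finset.mem_univ t), mult_irrTriv a, deg_irrTriv,
    mul_one] at E1
  rw [← Finset.add_sum_erase Finset.univ _ (Finset.mem_univ t), mult_irrTriv a, one_pow] at E2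
  rw [← Finset.add_sum_erase Finset.univ _ (Finset.mem_univ q0),
    MulAction.orbitRel.Quotient.orbit_mk, card_orbit_base] at E3
  have hE1 : ∑ ψ ∈ Finset.univ.erase t, mult Ω ψ * deg ψ =
      f * ∑ ψ ∈ Finset.univ.erase t, mult Ω ψ := by
    rw [Finset.mul_sum]
    refine Finset.sum_congr rfl fun ψ hψ => ?_
    by_cases hm : mult Ω ψ = 0
    · rw [hm]; simp
    · rw [hdeg ψ (Finset.ne_of_mem_erase hψ) hm, mul_comm]
  rw [hE1] at E1
  have hcardQ : (Finset.univ.erase q0).card = ∑ ψ ∈ Finset.univ.erase t, mult Ω ψ ^ 2 := by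
    rw [Finset.card_erase_of_mem (Finset.mem_univ _), Finset.card_univ,
      ← Nat.card_eq_fintype_card, ← E2]
    simp
  have hs : ∀ q ∈ Finset.univ.erase q0, f ∣ Nat.card q.orbit ∧ 1 ≤ Nat.card q.orbit := by
    intro q hq
    obtain ⟨b, hb, hqb⟩ := exists_rep a q (Finset.ne_of_mem_erase hq)
    rw [hqb]
    refine ⟨hdvd b hb, ?_⟩
    have : Nonempty (MulAction.orbit (MulAction.stabilizer G a) b) :=
      ⟨⟨b, MulAction.mem_orbit_self b⟩⟩
    exact Nat.card_pos
  have hsum : ∑ q ∈ Finset.univ.erase q0, Nat.card q.orbit =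
      f * ∑ ψ ∈ Finset.univ.erase t, mult Ω ψ := by omega
  rcases Nat.eq_zero_or_pos f with hf0 | hfpos
  · -- degenerate case
    have hm0 : ∀ ψ : IrrCharacter G, ψ ≠ t → mult Ω ψ = 0 := by
      intro ψ hψ
      by_contra hm
      have := hdeg ψ hψ hm
      have := deg_pos ψ
      omega
    constructor
    · intro ψ
      by_cases hψ : ψ = t
      · rw [hψ, mult_irrTriv a]
      · rw [hm0 ψ hψ]; exact Nat.zero_le _
    · intro b hb
      exfalso
      rw [hf0, zero_mul] at hsum
      have hmem : (Quotient.mk'' b : MulAction.orbitRel.Quotient (MulAction.stabilizer G a) Ω) ∈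
          Finset.univ.erase q0 := Finset.mem_erase.mpr ⟨mk_ne_of_ne a hb, Finset.mem_univ _⟩
      have h1 := (hs _ hmem).2
      have h2 := Finset.single_le_sum (f := fun q :
        MulAction.orbitRel.Quotient (MulAction.stabilizer G a) Ω => Nat.card q.orbit)
        (fun _ _ => Nat.zero_le _) hmem
      omega
  · have hge : ∀ q ∈ Finset.univ.erase q0, f ≤ Nat.card q.orbit := fun q hq =>
      Nat.le_of_dvd (hs q hq).2 (hs q hq).1
    have h1 : (Finset.univ.erase q0).card * f ≤ ∑ q ∈ Finset.univ.erase q0, Nat.card q.orbit := by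
      rw [← smul_eq_mul, ← Finset.sum_const]
      exact Finset.sum_le_sum hge
    rw [hcardQ, hsum, mul_comm] at h1
    have h2 : ∑ ψ ∈ Finset.univ.erase t, mult Ω ψ ^ 2 ≤ ∑ ψ ∈ Finset.univ.erase t, mult Ω ψ :=
      Nat.le_of_mul_le_mul_left h1 hfpos
    have h3 : ∀ ψ ∈ Finset.univ.erase t, mult Ω ψ ≤ mult Ω ψ ^ 2 := fun ψ _ =>
      Nat.le_self_pow two_ne_zero _
    have h4 : ∑ ψ ∈ Finset.univ.erase t, mult Ω ψ = ∑ ψ ∈ Finset.univ.erase t, mult Ω ψ ^ 2 :=
      le_antisymm (Finset.sum_le_sum h3) h2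
    have h5 := (Finset.sum_eq_sum_iff_of_le h3).mp h4
    have hmf : ∀ ψ : IrrCharacter G, mult Ω ψ ≤ 1 := by
      intro ψ
      by_cases hψ : ψ = t
      · rw [hψ, mult_irrTriv a]
      · have := h5 ψ (Finset.mem_erase.mpr ⟨hψ, Finset.mem_univ _⟩)
        by_contra hlt
        push Not at hlt
        have : mult Ω ψ * 2 ≤ mult Ω ψ * mult Ω ψ := Nat.mul_le_mul_left _ hlt
        nlinarith
    refine ⟨hmf, ?_⟩
    -- all subdegrees equal f
    have h6 : ∑ q ∈ Finset.univ.erase q0, f = ∑ q ∈ Finset.univ.erase q0, Nat.card q.orbit := by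
      rw [Finset.sum_const, smul_eq_mul, hcardQ, hsum, ← h4, mul_comm]
    have h7 := (Finset.sum_eq_sum_iff_of_le hge).mp h6
    intro b hb
    have hmem : (Quotient.mk'' b : MulAction.orbitRel.Quotient (MulAction.stabilizer G a) Ω) ∈
        Finset.univ.erase q0 := Finset.mem_erase.mpr ⟨mk_ne_of_ne a hb, Finset.mem_univ _⟩
    have := h7 _ hmem
    rw [MulAction.orbitRel.Quotient.orbit_mk] at this
    exact this.symm

/-- (a) If all non-principal irreducible constituents of the permutation character of a transitive group have the same degree `f`, the character is multiplicity-free and all non-trivial subdegrees equal `f`. (b) A transitive group of rank at most 5 has multiplicity-free permutation character. -/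
theorem result {G : Type*} [Group G] [Fintype G] {Ω : Type*} [Fintype Ω] [MulAction G Ω] [MulAction.IsPretransitive G Ω] (a : Ω) : ((f : ℕ) → (∀ χ : G → ℂ, Cfsg.IsIrrCharacter G χ → χ ≠ (fun _ => 1) → Cfsg.classInner (fun g : G => (Nat.card (MulAction.fixedBy Ω g) : ℂ)) χ ≠ 0 → χ 1 = f) → (∀ χ : G → ℂ, Cfsg.IsIrrCharacter G χ → Cfsg.classInner (fun g : G => (Nat.card (MulAction.fixedBy Ω g) : ℂ)) χ = 0 ∨ Cfsg.classInner (fun g : G => (Nat.card (MulAction.fixedBy Ω g) : ℂ)) χ = 1) ∧ ∀ b : Ω, b ≠ a → Nat.card (MulAction.orbit (MulAction.stabilizer G a) b) = f) ∧ (Nat.card (MulAction.orbitRel.Quotient (MulAction.stabilizer G a) Ω) ≤ 5 → ∀ χ : G → ℂ, Cfsg.IsIrrCharacter G χ → Cfsg.classInner (fun g : G => (Nat.card (MulAction.fixedBy Ω g) : ℂ)) χ = 0 ∨ Cfsg.classInner (fun g : G => (Nat.card (MulAction.fixedBy Ω g) : ℂ)) χ = 1) := by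
  classical
  have := Helper74.irrFintype G
  -- translation of multiplicity-freeness
  have hmf : (∀ ψ : IrrCharacter G, mult Ω ψ ≤ 1) → ∀ χ : G → ℂ, Cfsg.IsIrrCharacter G χ →
      Cfsg.classInner (fun g : G => (Nat.card (MulAction.fixedBy Ω g) : ℂ)) χ = 0 ∨
      Cfsg.classInner (fun g : G => (Nat.card (MulAction.fixedBy Ω g) : ℂ)) χ = 1 := by
    intro h χ hχ
    have h1 := mult_spec (Ω := Ω) (⟨χ, hχ⟩ : IrrCharacter G)
    have h2 := h ⟨χ, hχ⟩
    change Cfsg.classInner (permChar G Ω) χ = 0 ∨ Cfsg.classInner (permChar G Ω) χ = 1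
    simp only at h1
    rw [h1]
    interval_cases (mult Ω (⟨χ, hχ⟩ : IrrCharacter G))
    · left; simp
    · right; simp
  refine ⟨fun f hf => ?_, fun hr => ?_⟩
  · have hdeg : ∀ ψ : IrrCharacter G, ψ ≠ Helper74.irrTriv G → mult Ω ψ ≠ 0 → deg ψ = f := by
      intro ψ hψ hm
      have hne : (ψ : G → ℂ) ≠ fun _ => 1 := fun h => hψ (Subtype.ext h)
      have h0 : Cfsg.classInner (fun g : G => (Nat.card (MulAction.fixedBy Ω g) : ℂ))
          (ψ : G → ℂ) ≠ 0 := by
        have := mult_spec (Ω := Ω) ψ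
        change Cfsg.classInner (permChar G Ω) (ψ : G → ℂ) ≠ 0
        rw [this]
        exact_mod_cast hm
      have := hf ψ ψ.2 hne h0
      rw [deg_spec] at this
      exact_mod_cast this
    obtain ⟨h1, h2⟩ := key a f hdeg
    exact ⟨hmf h1, h2⟩
  · apply hmf
    by_contra hcon
    push Not at hcon
    obtain ⟨ψ0, hψ0⟩ := hcon
    have hne0 : ψ0 ≠ Helper74.irrTriv G := by
      rintro rfl
      rw [mult_irrTriv a] at hψ0
      omega
    have E2 := sum_mult_sq (G := G) (Ω := Ω) a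
    rw [← Finset.add_sum_erase Finset.univ _ (Finset.mem_univ (Helper74.irrTriv G)),
      mult_irrTriv a, one_pow,
      ← Finset.add_sum_erase _ _ (Finset.mem_erase.mpr ⟨hne0, Finset.mem_univ ψ0⟩)] at E2
    have h4 : 4 ≤ mult Ω ψ0 ^ 2 := by nlinarith
    have hrest : ∑ ψ ∈ (Finset.univ.erase (Helper74.irrTriv G)).erase ψ0, mult Ω ψ ^ 2 = 0 := by
      omega
    have hzero : ∀ ψ : IrrCharacter G, ψ ≠ Helper74.irrTriv G → ψ ≠ ψ0 → mult Ω ψ = 0 := by
      intro ψ h1 h2
      have := (Finset.sum_eq_zero_iff.mp hrest) ψ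
        (Finset.mem_erase.mpr ⟨h2, Finset.mem_erase.mpr ⟨h1, Finset.mem_univ _⟩⟩)
      exact pow_eq_zero_iff (two_ne_zero) |>.mp this
    have hdeg : ∀ ψ : IrrCharacter G, ψ ≠ Helper74.irrTriv G → mult Ω ψ ≠ 0 →
        deg ψ = deg ψ0 := by
      intro ψ h1 hm
      by_cases h2 : ψ = ψ0
      · rw [h2]
      · exact absurd (hzero ψ h1 h2) hm
    have := (key a (deg ψ0) hdeg).1 ψ0
    omega

end Cfsg.Agent.S0716
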