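import Mathlib
import Cfsg.Statements.S0717
import Cfsg.Agent.Helper12.SelfPaired

set_option autoImplicit false
open Cfsg

namespace Cfsg.Agent.S0717

open Module LinearMap
open Cfsg.Agent.Helper12.Orbital Cfsg.Agent.Helper12.OrbitalGen
open Cfsg.Agent.Helper12.PermCharBasics Cfsg.Agent.Helper12.SelfPaired
open scoped ComplexConjugate

universe u v

/-- Direction `←`: multiplicity-free with real constituents implies all orbitals self-paired. -/
theorem swap_of_multfree_real {G : Type u} [Group G] [Fintype G] {Ω : Type v} [Fintype Ω]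
    [MulAction G Ω]
    (h : ∀ χ : G → ℂ, Cfsg.IsIrrCharacter G χ →
      Cfsg.classInner (fun g : G => (Nat.card (MulAction.fixedBy Ω g) : ℂ)) χ ≠ 0 →
      Cfsg.classInner (fun g : G => (Nat.card (MulAction.fixedBy Ω g) : ℂ)) χ = 1 ∧
        ∀ g : G, (starRingEnd ℂ) (χ g) = χ g) (a b : Ω) :
    ∃ g : G, g • a = b ∧ g • b = a := by
  classical
  have hR : ∀ (g : G) (x y : Ω), orbRel G a b (g • x) (g • y) ↔ orbRel G a b x y :=
    fun g x y => orbRel_smul a b g x y
  have hR' : ∀ (g : G) (x y : Ω), orbRel G b a (g • x) (g • y) ↔ orbRel G b a x y :=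
    fun g x y => orbRel_smul b a g x y
  have hRR' : ∀ x y : Ω, orbRel G b a x y ↔ orbRel G a b y x := by
    intro x y
    constructor
    · rintro ⟨g, h1, h2⟩; exact ⟨g, h2, h1⟩
    · rintro ⟨g, h1, h2⟩; exact ⟨g, h2, h1⟩
  -- the two adjacency operators coincide
  have hN : adj (orbRel G a b) - adj (orbRel G b a) = 0 := by
    refine eq_zero_of_comp_irr (permRep ℂ G Ω) _ ?_
    intro U _ _ _ τ hτ φ hφ
    by_cases hφ0 : φ = 0
    · rw [hφ0, LinearMap.comp_zero]
    have hmem : φ ∈ (Representation.linHom τ (permRep ℂ G Ω)).invariants := by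
      intro g
      rw [Representation.linHom_apply]
      ext v x
      have := congrArg (fun F => F (τ g⁻¹ v) x) (hφ g)
      simp only [LinearMap.comp_apply] at this ⊢
      rw [← this, ← Module.End.mul_apply, ← map_mul, mul_inv_cancel, map_one]
      rfl
    have hirr : IsIrrCharacter G τ.character := Helper74.isIrrCharacter_of_rep τ hτ
    have hfin := classInner_perm_rep' (Ω := Ω) τ
    have hpos : Module.finrank ℂ (Representation.linHom τ (permRep ℂ G Ω)).invariants ≠ 0 := by
      intro h0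
      have : Subsingleton (Representation.linHom τ (permRep ℂ G Ω)).invariants :=
        Module.finrank_zero_iff.mp h0
      have h1 : (⟨φ, hmem⟩ : (Representation.linHom τ (permRep ℂ G Ω)).invariants) = 0 :=
        Subsingleton.elim _ _
      exact hφ0 (congrArg Subtype.val h1)
    have hne : Cfsg.classInner (fun g : G => (Nat.card (MulAction.fixedBy Ω g) : ℂ))
        τ.character ≠ 0 := by
      rw [hfin]
      exact_mod_cast hpos
    obtain ⟨h1, hreal⟩ := h _ hirr hne
    have hone : Module.finrank ℂ (Representation.linHom τ (permRep ℂ G Ω)).invariants = 1 := by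
      rw [hfin] at h1
      exact_mod_cast h1
    have e1 := adj_comp_eq_smul (orbRel G a b) hR τ hone hmem
    have e2 := adj_comp_eq_smul (orbRel G b a) hR' τ hone hmem
    rw [classInner_theta_transpose (orbRel G a b) (orbRel G b a) hR hRR'
      (Helper74.isCharacter_of_rep τ) hreal] at e2
    rw [LinearMap.sub_comp, e1, e2, sub_self]
  have hEq : adj (orbRel G a b) = adj (orbRel G b a) := sub_eq_zero.mp hN
  have h1 := congrArg (fun F => F (Pi.single b 1) a) hEq
  simp only [adj_apply, Pi.single_apply] at h1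
  have hab : orbRel G a b a b := ⟨1, one_smul _ _, one_smul _ _⟩
  by_contra hcon
  have hnot : ¬ orbRel G b a a b := by
    rintro ⟨g, h2, h3⟩
    exact hcon ⟨g, h3, h2⟩
  rw [Finset.sum_eq_single b, Finset.sum_eq_single b] at h1
  · simp [hab, hnot] at h1
  · intro y _ hy; simp [hy]
  · intro hb; exact absurd (Finset.mem_univ _) hb
  · intro y _ hy; simp [hy]
  · intro hb; exact absurd (Finset.mem_univ _) hb

/-- Direction `→`. -/
theorem multfree_real_of_swap {G : Type u} [Group G] [Fintype G] {Ω : Type v} [Fintype Ω]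
    [MulAction G Ω] (hsw : ∀ a b : Ω, ∃ g : G, g • a = b ∧ g • b = a)
    (ψ : IrrCharacter G) (hψ : mult Ω ψ ≠ 0) :
    mult Ω ψ = 1 ∧ ∀ g : G, ((ψ : G → ℂ) g).im = 0 := by
  classical
  have := Helper74.irrFintype G
  have hne : (Nat.card G : ℂ) ≠ 0 := by exact_mod_cast Nat.card_pos.ne'
  -- the counting identity
  have hcount : ∑ u : G, permChar G Ω (u * u) = ∑ g : G, permChar G Ω g * permChar G Ω g := by
    have := sum_fix_sq_eq (G := G) (Ω := Ω) hsw
    simp only [permChar, card_fixedBy_eq]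
    have h2 := congrArg (Nat.cast : ℕ → ℂ) this
    push_cast at h2
    rw [h2]
    refine Finset.sum_congr rfl fun g _ => by ring
  -- left side through Frobenius–Schur indicators
  have hL : (Nat.card G : ℂ)⁻¹ * ∑ u : G, permChar G Ω (u * u) =
      ∑ χ : IrrCharacter G, (mult Ω χ : ℂ) * Helper74.fsIndF (χ : G → ℂ) := by
    have hexp := Helper74.isCharacter_eq_sum_irr (permChar_isCharacter (G := G) (Ω := Ω))
    have : ∀ u : G, permChar G Ω (u * u) =
        ∑ χ : IrrCharacter G, (mult Ω χ : ℂ) * (χ : G → ℂ) (u * u) := by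
      intro u
      have := congrFun hexp (u * u)
      simp only [Finset.sum_apply, Pi.smul_apply, smul_eq_mul, mult_spec] at this
      exact this
    simp only [this]
    rw [Finset.sum_comm, Finset.mul_sum]
    refine Finset.sum_congr rfl fun χ _ => ?_
    unfold Helper74.fsIndF
    rw [← Finset.mul_sum]
    ring
  -- right side through multiplicities
  have hRt : (Nat.card G : ℂ)⁻¹ * ∑ g : G, permChar G Ω g * permChar G Ω g =
      ∑ χ : IrrCharacter G, (mult Ω χ : ℂ) * (mult Ω χ : ℂ) := by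
    have h1 := Helper74.classInner_self_eq_sum_sq (permChar_isCharacter (G := G) (Ω := Ω))
    simp only [mult_spec] at h1
    rw [← h1]
    unfold classInner
    congr 1
    refine Finset.sum_congr rfl fun g _ => ?_
    simp [permChar]
  have hmain : ∑ χ : IrrCharacter G, (mult Ω χ : ℂ) * Helper74.fsIndF (χ : G → ℂ) =
      ∑ χ : IrrCharacter G, (mult Ω χ : ℂ) * (mult Ω χ : ℂ) := by
    rw [← hL, ← hRt, hcount]
  -- integer-valued indicators
  have hz : ∀ χ : IrrCharacter G, ∃ z : ℤ, Helper74.fsIndF (χ : G → ℂ) = (z : ℂ) ∧ z ≤ 1 ∧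
      (z = 1 → ∀ g : G, ((χ : G → ℂ) g).im = 0) := by
    intro χ
    rcases Helper74.fsIndF_cases χ with h0 | ⟨h1 | h1, hre⟩
    · exact ⟨0, by simpa using h0, by norm_num, by norm_num⟩
    · exact ⟨1, by simpa using h1, le_refl _, fun _ => hre⟩
    · exact ⟨-1, by simpa using h1, by norm_num, by norm_num⟩
  choose z hz1 hz2 hz3 using hz
  simp only [hz1] at hmain
  have hmainZ : ∑ χ : IrrCharacter G, (mult Ω χ : ℤ) * z χ =
      ∑ χ : IrrCharacter G, (mult Ω χ : ℤ) * (mult Ω χ : ℤ) := by
    exact_mod_cast hmain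
  have hnonneg : ∀ χ ∈ (Finset.univ : Finset (IrrCharacter G)),
      0 ≤ (mult Ω χ : ℤ) * (mult Ω χ : ℤ) - (mult Ω χ : ℤ) * z χ := by
    intro χ _
    have h1 : (0 : ℤ) ≤ mult Ω χ := Int.natCast_nonneg _
    have h2 := hz2 χ
    rcases Nat.eq_zero_or_pos (mult Ω χ) with h0 | hp
    · rw [h0]; simp
    · have h3 : (1 : ℤ) ≤ mult Ω χ := by exact_mod_cast hp
      nlinarith
  have hsum0 : ∑ χ : IrrCharacter G,
      ((mult Ω χ : ℤ) * (mult Ω χ : ℤ) - (mult Ω χ : ℤ) * z χ) = 0 := by
    rw [Finset.sum_sub_distrib, hmainZ, sub_self]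
  have hterm := (Finset.sum_eq_zero_iff_of_nonneg hnonneg).mp hsum0 ψ (Finset.mem_univ ψ)
  have hp : (1 : ℤ) ≤ mult Ω ψ := by
    have : 0 < mult Ω ψ := Nat.pos_of_ne_zero hψ
    exact_mod_cast this
  have hz' := hz2 ψ
  have hmz : (mult Ω ψ : ℤ) = z ψ := by
    have h1 : (mult Ω ψ : ℤ) * ((mult Ω ψ : ℤ) - z ψ) = 0 := by linarith
    rcases mul_eq_zero.mp h1 with h2 | h2
    · omega
    · linarith
  have hz1' : z ψ = 1 := by omega
  refine ⟨?_, hz3 ψ hz1'⟩
  have : (mult Ω ψ : ℤ) = 1 := by rw [hmz, hz1']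
  exact_mod_cast this

/-- All suborbits of a transitive group are self-paired (every pair of points is interchanged by some group element) if and only if the permutation character is multiplicity-free and each of its irreducible constituents is real-valued. -/
theorem result {G : Type*} [Group G] [Fintype G] {Ω : Type*} [Fintype Ω] [MulAction G Ω] [MulAction.IsPretransitive G Ω] : (∀ a b : Ω, ∃ g : G, g • a = b ∧ g • b = a) ↔ ∀ χ : G → ℂ, Cfsg.IsIrrCharacter G χ → Cfsg.classInner (fun g : G => (Nat.card (MulAction.fixedBy Ω g) : ℂ)) χ ≠ 0 → Cfsg.classInner (fun g : G => (Nat.card (MulAction.fixedBy Ω g) : ℂ)) χ = 1 ∧ ∀ g : G, (starRingEnd ℂ) (χ g) = χ g := by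
  constructor
  · intro hsw χ hχ hne
    have hspec := mult_spec (Ω := Ω) (⟨χ, hχ⟩ : IrrCharacter G)
    have hm : mult Ω (⟨χ, hχ⟩ : IrrCharacter G) ≠ 0 := by
      intro h0
      apply hne
      change Cfsg.classInner (permChar G Ω) χ = 0
      simp only at hspec
      rw [hspec, h0, Nat.cast_zero]
    obtain ⟨h1, h2⟩ := multfree_real_of_swap hsw ⟨χ, hχ⟩ hm
    refine ⟨?_, fun g => Complex.conj_eq_iff_im.mpr (h2 g)⟩
    change Cfsg.classInner (permChar G Ω) χ = 1
    simp only at hspec
    rw [hspec, h1, Nat.cast_one]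
  · intro h a b
    exact swap_of_multfree_real h a b

end Cfsg.Agent.S0717
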