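import Cfsg.Statements.S0718
import Cfsg.Agent.Helper61.MultFree

set_option autoImplicit false
open Cfsg

namespace Cfsg.Agent.S0718

/-- Multiplicity-freeness of the permutation character is equivalent to commutativity of the centraliser ring, i.e. of the algebra of `G`-equivariant endomorphisms of the complex permutation module. -/
theorem result {G : Type*} [Group G] [Fintype G] {Ω : Type*} [Fintype Ω] [MulAction G Ω] : (∀ χ : G → ℂ, Cfsg.IsIrrCharacter G χ → Cfsg.classInner (fun g : G => (Nat.card (MulAction.fixedBy Ω g) : ℂ)) χ = 0 ∨ Cfsg.classInner (fun g : G => (Nat.card (MulAction.fixedBy Ω g) : ℂ)) χ = 1) ↔ ∀ S T : (Ω → ℂ) →ₗ[ℂ] (Ω → ℂ), S ∈ ((Cfsg.permRep ℂ G Ω).linHom (Cfsg.permRep ℂ G Ω)).invariants → T ∈ ((Cfsg.permRep ℂ G Ω).linHom (Cfsg.permRep ℂ G Ω)).invariants → S ∘ₗ T = T ∘ₗ S := by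
  classical
  have hne : (Nat.card G : ℂ) ≠ 0 := by
    have : 0 < Nat.card G := Nat.card_pos
    exact_mod_cast this.ne'
  have : NeZero (Nat.card G : ℂ) := ⟨hne⟩
  have hmem : ∀ S : (Ω → ℂ) →ₗ[ℂ] (Ω → ℂ),
      S ∈ ((Cfsg.permRep ℂ G Ω).linHom (Cfsg.permRep ℂ G Ω)).invariants ↔
        ∀ g, S ∘ₗ (Cfsg.permRep ℂ G Ω) g = (Cfsg.permRep ℂ G Ω) g ∘ₗ S := by
    intro S
    rw [Representation.mem_invariants]
    refine Iff.trans (Representation.mem_linHom_invariants_iff_isIntertwining S) ?_
    rw [Representation.isIntertwiningMap_iff]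
    constructor
    · intro h g
      exact LinearMap.ext (fun v => h g v)
    · intro h g v
      exact LinearMap.congr_fun (h g) v
  constructor
  · intro hmf S T hS hT
    rw [hmem] at hS hT
    refine Cfsg.Agent.Helper61.MultFree.comm_of_finrank_le_one (Cfsg.permRep ℂ G Ω) ?_ S T hS hT
    intro W hW
    have hχ := Cfsg.Agent.Helper80.isIrrCharacter_of_rep W.toRepresentation hW
    have h1 := hmf _ hχ
    rw [Cfsg.Agent.Helper61.MultFree.classInner_perm_eq_finrank] at h1
    rcases h1 with h1 | h1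
    · have : Module.finrank ℂ (Representation.IntertwiningMap W.toRepresentation
          (Cfsg.permRep ℂ G Ω)) = 0 := by exact_mod_cast h1
      omega
    · have : Module.finrank ℂ (Representation.IntertwiningMap W.toRepresentation
          (Cfsg.permRep ℂ G Ω)) = 1 := by exact_mod_cast h1
      omega
  · intro hcomm χ hχ
    obtain ⟨n, ρ, hρ, rfl⟩ := hχ
    rw [Cfsg.Agent.Helper61.MultFree.classInner_perm_eq_finrank]
    have hle := Cfsg.Agent.Helper61.MultFree.finrank_le_one_of_comm (Cfsg.permRep ℂ G Ω) ρ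
      (fun S T hS hT => hcomm S T ((hmem S).mpr hS) ((hmem T).mpr hT))
    interval_cases h : Module.finrank ℂ (Representation.IntertwiningMap ρ (Cfsg.permRep ℂ G Ω))
    · left; simp
    · right; simp

end Cfsg.Agent.S0718
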