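import Cfsg.Statements.S0720
import Cfsg.Agent.Helper61.W2pMain
import Cfsg.Agent.Helper74.CharBasic
import Cfsg.Agent.S4503

set_option autoImplicit false
open Cfsg

namespace Cfsg.Agent.S0720

open Cfsg.Agent.Helper61.W2p

/-- Wielandt's Theorem on primitive groups of degree `2p`: such a group is doubly transitive, or it has rank 3, `p = 2a² + 2a + 1`, and subdegrees `a(2a+1)` and `(a+1)(2a+1)`. -/
theorem result {α : Type*} [Fintype α] [DecidableEq α] {p : ℕ} (hp : p.Prime) (hα : Fintype.card α = 2 * p) (G : Subgroup (Equiv.Perm α)) (hG : MulAction.IsPreprimitive G α) (a₀ : α) : MulAction.IsMultiplyPretransitive G α 2 ∨ (Nat.card (MulAction.orbitRel.Quotient (MulAction.stabilizer G a₀) α) = 3 ∧ ∃ a : ℕ, 0 < a ∧ p = 2 * a ^ 2 + 2 * a + 1 ∧ ∀ b : α, b ≠ a₀ → Nat.card (MulAction.orbit (MulAction.stabilizer G a₀) b) = a * (2 * a + 1) ∨ Nat.card (MulAction.orbit (MulAction.stabilizer G a₀) b) = (a + 1) * (2 * a + 1)) := by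
  classical
  by_cases h2 : p = 2
  · left
    subst h2
    exact Cfsg.Agent.Helper35.W2p.four (by rw [hα]) G hG
  rcases jordan_part hp h2 hα G hG with h | ⟨hsq, hfix⟩
  · exact Or.inl h
  haveI : Fintype G := Fintype.ofFinite G
  have S : Setup G α p :=
    { hp := hp, hodd := h2, hcard := hα, hprim := hG, hfaith := inferInstance, hsq := hsq,
      hfix := hfix }
  have : MulAction.IsPretransitive G α := hG.toIsPretransitive
  have hpG : p ∣ Nat.card G := by
    have h1 : Fintype.card α ∣ Nat.card G := by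
      rw [← Nat.card_eq_fintype_card (α := α), ← MulAction.index_stabilizer_of_transitive G a₀]
      exact Subgroup.index_dvd_card _
    rw [hα] at h1
    exact (Dvd.intro_left 2 rfl).trans h1
  refine main_abstract S ?_ a₀
  intro χ hχ h1 hc
  have hchar : IsCharacter G χ := Helper74.isCharacter_of_isIrr hχ
  refine ⟨charDegree χ, (Helper74.charDegree_cast hchar).symm, ?_⟩
  exact Cfsg.Agent.S4503.result p hp hpG hsq (Cfsg.Agent.Helper35.W2p.no_normal_p S) χ hchar (Cfsg.Agent.Helper55.W2p.faithful_of_constituent S χ hχ h1 hc)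

end Cfsg.Agent.S0720
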