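import Mathlib
import Cfsg.Statements.S0724

set_option autoImplicit false
open Cfsg

namespace Cfsg.Agent.S0724

open MulAction

/-- fixed functions are functions into fixed points -/
noncomputable def fixedByPiEquiv {α : Type*} (G : Subgroup (Equiv.Perm α)) (k : ℕ) (g : G) :
    fixedBy (Fin k → α) g ≃ (Fin k → fixedBy α (g : Equiv.Perm α)) where
  toFun f := fun i => ⟨f.1 i, congrFun f.2 i⟩
  invFun h := ⟨fun i => (h i).1, funext fun i => (h i).2⟩
  left_inv f := rfl
  right_inv h := rfl

theorem card_dvd_sum_pow {α : Type*} [Fintype α] [DecidableEq α] (G : Subgroup (Equiv.Perm α))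
    [Fintype G] (k : ℕ) :
    Nat.card G ∣ ∑ g : G, (Nat.card (fixedBy α (g : Equiv.Perm α))) ^ k := by
  classical
  have h := sum_card_fixedBy_eq_card_orbits_mul_card_group G (Fin k → α)
  have h2 : ∀ g : G, Fintype.card (fixedBy (Fin k → α) g) =
      (Nat.card (fixedBy α (g : Equiv.Perm α))) ^ k := by
    intro g
    rw [← Nat.card_eq_fintype_card, Nat.card_congr (fixedByPiEquiv G k g), Nat.card_fun,
      Nat.card_fin]
  simp_rw [h2] at h
  rw [h, Nat.card_eq_fintype_card]
  exact dvd_mul_left _ _

theorem card_dvd_sum_eval {α : Type*} [Fintype α] [DecidableEq α] (G : Subgroup (Equiv.Perm α))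
    [Fintype G] (P : Polynomial ℤ) :
    (Nat.card G : ℤ) ∣ ∑ g : G, P.eval ((Nat.card (fixedBy α (g : Equiv.Perm α)) : ℕ) : ℤ) := by
  simp_rw [Polynomial.eval_eq_sum_range]
  rw [Finset.sum_comm]
  apply Finset.dvd_sum
  intro i _
  rw [← Finset.mul_sum]
  apply dvd_mul_of_dvd_right
  have := card_dvd_sum_pow G i
  have h2 := Int.natCast_dvd_natCast.mpr this
  rw [Nat.cast_sum] at h2
  simp_rw [Nat.cast_pow] at h2
  exact h2

/-- Blichfeldt's Theorem: if a finite set `L` of natural numbers contains the number of fixed points of every non-identity element of a permutation group `G` of degree `n`, then the order of `G` divides `∏ (n - l)` over `l ∈ L`. -/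
theorem result {α : Type*} [Fintype α] [DecidableEq α] (G : Subgroup (Equiv.Perm α)) (L : Finset ℕ) (hL : ∀ g ∈ G, g ≠ 1 → Nat.card (MulAction.fixedBy α g) ∈ L) : Nat.card G ∣ ∏ l ∈ L, (Fintype.card α - l) := by
  classical
  by_cases hle : ∀ l ∈ L, l ≤ Fintype.card α
  · let P : Polynomial ℤ := ∏ l ∈ L, (Polynomial.X - Polynomial.C (l : ℤ))
    have hP : ∀ x : ℤ, P.eval x = ∏ l ∈ L, (x - (l : ℤ)) := by
      intro x
      simp only [P, Polynomial.eval_prod, Polynomial.eval_sub, Polynomial.eval_X,
        Polynomial.eval_C]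
    have hdvd := card_dvd_sum_eval G P
    have hsum : ∑ g : G, P.eval ((Nat.card (fixedBy α (g : Equiv.Perm α)) : ℕ) : ℤ) =
        P.eval ((Fintype.card α : ℕ) : ℤ) := by
      rw [Finset.sum_eq_single (1 : G)]
      · congr 2
        have : fixedBy α ((1 : G) : Equiv.Perm α) = Set.univ := by
          ext x; simp [mem_fixedBy]
        rw [this, Nat.card_univ, Nat.card_eq_fintype_card]
      · intro g _ hg
        rw [hP]
        have hg' : (g : Equiv.Perm α) ≠ 1 := fun h => hg (Subtype.ext h)
        have hmem := hL g g.2 hg'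
        exact Finset.prod_eq_zero hmem (sub_self _)
      · intro h
        exact absurd (Finset.mem_univ _) h
    rw [hsum, hP] at hdvd
    have hcast : ((∏ l ∈ L, (Fintype.card α - l) : ℕ) : ℤ) =
        ∏ l ∈ L, (((Fintype.card α : ℕ) : ℤ) - (l : ℤ)) := by
      rw [Nat.cast_prod]
      apply Finset.prod_congr rfl
      intro l hl
      rw [Nat.cast_sub (hle l hl)]
    rw [← hcast] at hdvd
    exact Int.natCast_dvd_natCast.mp hdvd
  · push Not at hle
    obtain ⟨l, hl, hlt⟩ := hle
    have : ∏ l ∈ L, (Fintype.card α - l) = 0 :=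
      Finset.prod_eq_zero hl (Nat.sub_eq_zero_of_le hlt.le)
    rw [this]
    exact dvd_zero _

end Cfsg.Agent.S0724
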