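import Mathlib
import Cfsg.Statements.S0726

set_option autoImplicit false
open Cfsg

namespace Cfsg.Agent.S0726

theorem mem_centralizer_iff {G : Type*} [Group G] (c : Equiv.Perm G) :
    c ∈ Subgroup.centralizer ((MulAction.toPermHom G G).range : Set (Equiv.Perm G)) ↔
      ∀ g x : G, c (g * x) = g * c x := by
  constructor
  · intro hc g x
    have h := hc (MulAction.toPermHom G G g) ⟨g, rfl⟩
    have h2 := congrArg (fun σ : Equiv.Perm G => σ x) h
    simp only [Equiv.Perm.coe_mul, Function.comp_apply, MulAction.toPermHom_apply,
      MulAction.toPerm_apply, smul_eq_mul] at h2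
    exact h2.symm
  · intro h σ hσ
    obtain ⟨g, rfl⟩ := hσ
    ext x
    simp only [Equiv.Perm.coe_mul, Function.comp_apply, MulAction.toPermHom_apply,
      MulAction.toPerm_apply, smul_eq_mul]
    exact (h g x).symm

theorem mem_range_iff {G : Type*} [Group G] (c : Equiv.Perm G) :
    c ∈ (MulAction.toPermHom Gᵐᵒᵖ G).range ↔ ∀ x : G, c x = x * c 1 := by
  constructor
  · rintro ⟨g, rfl⟩ x
    simp only [MulAction.toPermHom_apply, MulAction.toPerm_apply, MulOpposite.smul_eq_mul_unop,
      one_mul]
  · intro h
    refine ⟨MulOpposite.op (c 1), ?_⟩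
    ext x
    simp only [MulAction.toPermHom_apply, MulAction.toPerm_apply, MulOpposite.smul_eq_mul_unop,
      MulOpposite.unop_op]
    exact (h x).symm

theorem centralizer_eq {G : Type*} [Group G] :
    Subgroup.centralizer ((MulAction.toPermHom G G).range : Set (Equiv.Perm G)) =
      (MulAction.toPermHom Gᵐᵒᵖ G).range := by
  ext c
  rw [mem_centralizer_iff, mem_range_iff]
  constructor
  · intro h x
    have := h x 1
    rwa [mul_one] at this
  · intro h g x
    rw [h (g * x), h x, mul_assoc]

/-- The left and right regular permutation representations of a group are each other's centralisers in the symmetric group: the centraliser of the left regular image is the right regular image, and a transitive subgroup centralising the left regular image is the whole right regular image. -/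
theorem result {G : Type*} [Group G] : Subgroup.centralizer ((MulAction.toPermHom G G).range : Set (Equiv.Perm G)) = (MulAction.toPermHom Gᵐᵒᵖ G).range ∧ ∀ H : Subgroup (Equiv.Perm G), H ≤ Subgroup.centralizer ((MulAction.toPermHom G G).range : Set (Equiv.Perm G)) → MulAction.IsPretransitive H G → H = (MulAction.toPermHom Gᵐᵒᵖ G).range := by
  refine ⟨centralizer_eq, ?_⟩
  intro H hH htrans
  rw [centralizer_eq] at hH
  apply le_antisymm hH
  rintro c hc
  obtain ⟨h, hh⟩ := MulAction.exists_smul_eq H (1 : G) (c 1)
  have hh' : (h : Equiv.Perm G) 1 = c 1 := hh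
  have h1 := (mem_range_iff (h : Equiv.Perm G)).mp (hH h.2)
  have h2 := (mem_range_iff c).mp hc
  have : c = (h : Equiv.Perm G) := by
    ext x
    rw [h1 x, h2 x, hh']
  rw [this]
  exact h.2

end Cfsg.Agent.S0726
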