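import Cfsg.Statements.S0729
import Cfsg.Agent.Helper61.S3tZass

set_option autoImplicit false
open Cfsg

namespace Cfsg.Agent.S0729

/-- In a sharply triply transitive group of even degree at least 6, the two-point stabiliser `H = G_{a,b}` has a normal subgroup of index 2 that is normalised by the element `s` interchanging `a, b` and fixing a third point `c`. -/
theorem result {α : Type*} [Fintype α] [DecidableEq α] (heven : Even (Fintype.card α)) (h6 : 6 ≤ Fintype.card α) (G : Subgroup (Equiv.Perm α)) (h3 : MulAction.IsMultiplyPretransitive G α 3) (hsharp : ∀ x : Fin 3 ↪ α, MulAction.stabilizer G x = ⊥) {a b c : α} (hab : a ≠ b) (hac : a ≠ c) (hbc : b ≠ c) (s : G) (hsa : s • a = b) (hsb : s • b = a) (hsc : s • c = c) : ∃ N : Subgroup G, N ≤ MulAction.stabilizer G a ⊓ MulAction.stabilizer G b ∧ (N.subgroupOf (MulAction.stabilizer G a ⊓ MulAction.stabilizer G b)).Normal ∧ N.relIndex (MulAction.stabilizer G a ⊓ MulAction.stabilizer G b) = 2 ∧ ∀ n ∈ N, s * n * s⁻¹ ∈ N := by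
  classical
  have hcardα : Nat.card α = Fintype.card α := Nat.card_eq_fintype_card
  haveI := h3
  have h2 : MulAction.IsMultiplyPretransitive G α 2 :=
    MulAction.isMultiplyPretransitive_of_le (n := 3) (by norm_num) (by rw [hcardα]; omega)
  have inj3 : ∀ {x y w : α}, x ≠ y → x ≠ w → y ≠ w → Function.Injective ![x, y, w] := by
    intro x y w hxy hxw hyw i j hij
    fin_cases i <;> fin_cases j <;> simp_all
  -- pointwise triple transitivity
  have map3 : ∀ {x y w x' y' w' : α}, x ≠ y → x ≠ w → y ≠ w → x' ≠ y' → x' ≠ w' → y' ≠ w' →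
      ∃ g : G, g • x = x' ∧ g • y = y' ∧ g • w = w' := by
    intro x y w x' y' w' hxy hxw hyw hxy' hxw' hyw'
    let e : Fin 3 ↪ α := ⟨![x, y, w], inj3 hxy hxw hyw⟩
    let e' : Fin 3 ↪ α := ⟨![x', y', w'], inj3 hxy' hxw' hyw'⟩
    obtain ⟨g, hg⟩ := h3.exists_smul_eq e e'
    refine ⟨g, ?_, ?_, ?_⟩
    · simpa [e, e'] using DFunLike.congr_fun hg 0
    · simpa [e, e'] using DFunLike.congr_fun hg 1
    · simpa [e, e'] using DFunLike.congr_fun hg 2
  have h3f : ∀ g : G, ∀ x y w : α, x ≠ y → y ≠ w → x ≠ w → g • x = x → g • y = y → g • w = w →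
      g = 1 := by
    intro g x y w hxy hyw hxw hx hy hw
    let e : Fin 3 ↪ α := ⟨![x, y, w], inj3 hxy hxw hyw⟩
    have hmem : g ∈ MulAction.stabilizer G e := by
      rw [MulAction.mem_stabilizer_iff]
      ext i
      show g • e i = e i
      fin_cases i
      · simpa [e] using hx
      · simpa [e] using hy
      · simpa [e] using hw
    rw [hsharp e] at hmem
    exact Subgroup.mem_bot.mp hmem
  have htr : ∀ w w' : α, w ≠ a → w ≠ b → w' ≠ a → w' ≠ b →
      ∃ h ∈ Cfsg.Agent.Helper61.Zs.stabH G a b, h • w = w' := by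
    intro w w' hwa hwb hwa' hwb'
    obtain ⟨g, hga, hgb, hgw⟩ := map3 hab hwa.symm hwb.symm hab hwa'.symm hwb'.symm
    exact ⟨g, Cfsg.Agent.Helper61.Zs.mem_stabH.mpr ⟨hga, hgb⟩, hgw⟩
  -- the order of the two-point stabiliser
  have hcardH : Nat.card (Cfsg.Agent.Helper61.Zs.stabH G a b) + 2 = Fintype.card α := by
    let f1 : ↥(Cfsg.Agent.Helper61.Zs.stabH G a b) → α := fun h => h.1 • c
    let f3 : Bool → α := fun x => if x then a else b
    have hf1 : Function.Injective f1 := by
      intro h h' hhh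
      have hh := Cfsg.Agent.Helper61.Zs.mem_stabH.mp h.2
      have hh' := Cfsg.Agent.Helper61.Zs.mem_stabH.mp h'.2
      have h1 : h'.1⁻¹ * h.1 = 1 := by
        apply h3f (h'.1⁻¹ * h.1) a b c hab hbc hac
        · rw [mul_smul, hh.1, inv_smul_eq_iff, hh'.1]
        · rw [mul_smul, hh.2, inv_smul_eq_iff, hh'.2]
        · rw [mul_smul, inv_smul_eq_iff]; exact hhh
      apply Subtype.ext
      exact (inv_mul_eq_one.mp h1).symm
    have hf3 : Function.Injective f3 := by
      intro x y hxy
      cases x <;> cases y <;> simp [f3] at hxy ⊢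
      · exact hab hxy.symm
      · exact hab hxy
    have hfix : ∀ (h : ↥(Cfsg.Agent.Helper61.Zs.stabH G a b)) (x : Bool), f1 h ≠ f3 x := by
      intro h x hx
      have hh := Cfsg.Agent.Helper61.Zs.mem_stabH.mp h.2
      cases x
      · have : h.1 • c = h.1 • b := by rw [hh.2]; simpa [f1, f3] using hx
        exact hbc (smul_left_cancel _ this).symm
      · have : h.1 • c = h.1 • a := by rw [hh.1]; simpa [f1, f3] using hx
        exact hac (smul_left_cancel _ this).symm
    have hbij : Function.Bijective (Sum.elim f1 f3) := by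
      refine ⟨Function.Injective.sumElim hf1 hf3 hfix, ?_⟩
      intro x
      by_cases hxa : x = a
      · exact ⟨Sum.inr true, by simp [f3, hxa]⟩
      by_cases hxb : x = b
      · exact ⟨Sum.inr false, by simp [f3, hxb]⟩
      obtain ⟨h, hh, hhx⟩ := htr c x hac.symm hbc.symm hxa hxb
      exact ⟨Sum.inl ⟨h, hh⟩, hhx⟩
    have := Nat.card_congr (Equiv.ofBijective _ hbij)
    rw [Nat.card_sum, Nat.card_eq_fintype_card (α := Bool), Fintype.card_bool,
      Nat.card_eq_fintype_card (α := α)] at this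
    exact this
  have hevenH : Even (Nat.card (Cfsg.Agent.Helper61.Zs.stabH G a b)) := by
    obtain ⟨m, hm⟩ := heven
    refine ⟨m - 1, ?_⟩
    omega
  have h3c : 3 ≤ Nat.card α := by rw [hcardα]; omega
  obtain ⟨K, D⟩ := Cfsg.Agent.Helper61.S3t.exists_ZData h2 h3f hab h3c hevenH
  have S : Cfsg.Agent.Helper61.S3t.S3Data D s c :=
    { heven := hevenH
      htr := htr
      t_inf := hsa
      t_zero := hsb
      c_inf := hac.symm
      c_zero := hbc.symm
      t_c := hsc }
  obtain ⟨χ, hχ, hχσ⟩ := S.exists_invariant_character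
  have hidx := Cfsg.Agent.Helper61.S3t.index_ker_of_ne_one χ hχ
  have hcomap : (χ.ker.map (Cfsg.Agent.Helper61.Zs.stabH G a b).subtype).subgroupOf
      (Cfsg.Agent.Helper61.Zs.stabH G a b) = χ.ker :=
    Subgroup.comap_map_eq_self_of_injective (Subgroup.subtype_injective _) _
  refine ⟨χ.ker.map (Cfsg.Agent.Helper61.Zs.stabH G a b).subtype, ?_, ?_, ?_, ?_⟩
  · exact Subgroup.map_subtype_le _
  · show ((χ.ker.map (Cfsg.Agent.Helper61.Zs.stabH G a b).subtype).subgroupOf
      (Cfsg.Agent.Helper61.Zs.stabH G a b)).Normal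
    rw [hcomap]
    exact MonoidHom.normal_ker χ
  · show ((χ.ker.map (Cfsg.Agent.Helper61.Zs.stabH G a b).subtype).subgroupOf
      (Cfsg.Agent.Helper61.Zs.stabH G a b)).index = 2
    rw [hcomap]
    exact hidx
  · rintro _ ⟨h, hh, rfl⟩
    refine ⟨S.sigma h, ?_, ?_⟩
    · rw [SetLike.mem_coe, MonoidHom.mem_ker, hχσ]
      exact hh
    · show ((S.sigma h : ↥(Cfsg.Agent.Helper61.Zs.stabH G a b)) : G) = s * h.1 * s⁻¹
      rw [S.sigma_apply, S.t_inv]

end Cfsg.Agent.S0729
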