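import Cfsg.Statements.S0730
import Cfsg.Agent.Helper61.ZgMain
import Cfsg.Agent.Helper61.S3tZass

set_option autoImplicit false
open Cfsg

namespace Cfsg.Agent.S0730

/-- A sharply triply transitive group of degree `p^f + 1`, `p` an odd prime and `f` odd, is isomorphic to the projective general linear group of degree 2 over the field with `p^f` elements (for even `f` there is a second, twisted, group). -/
theorem result {α : Type*} [Fintype α] [DecidableEq α] {p f : ℕ} (hp : p.Prime) (hp2 : p ≠ 2) (hfo : Odd f) (hα : Fintype.card α = p ^ f + 1) (G : Subgroup (Equiv.Perm α)) (h3 : MulAction.IsMultiplyPretransitive G α 3) (hsharp : ∀ x : Fin 3 ↪ α, MulAction.stabilizer G x = ⊥) : ∃ (F : Type) (_ : Field F) (_ : Fintype F), Fintype.card F = p ^ f ∧ Nonempty (G ≃* Matrix.ProjGenLinGroup (Fin 2) F) := by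
  classical
  have hcardα : Nat.card α = Fintype.card α := Nat.card_eq_fintype_card
  have hf0 : f ≠ 0 := by
    rintro rfl
    exact absurd hfo (by decide)
  have hp3 : 3 ≤ p := by
    have := hp.two_le
    omega
  have hpf : 3 ≤ p ^ f := by
    calc 3 ≤ p := hp3
      _ = p ^ 1 := (pow_one p).symm
      _ ≤ p ^ f := Nat.pow_le_pow_right hp.pos (Nat.pos_of_ne_zero hf0)
  have h4 : 4 ≤ Fintype.card α := by omega
  have heven : Even (Fintype.card α) := by
    rw [hα]
    exact ((hp.odd_of_ne_two hp2).pow).add_one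
  obtain ⟨a, b, c, hab, hac, hbc⟩ := Fintype.two_lt_card_iff.mp (by omega : 2 < Fintype.card α)
  haveI := h3
  have h2 : MulAction.IsMultiplyPretransitive G α 2 :=
    MulAction.isMultiplyPretransitive_of_le (n := 3) (by norm_num) (by rw [hcardα]; omega)
  have inj3 : ∀ {x y w : α}, x ≠ y → x ≠ w → y ≠ w → Function.Injective ![x, y, w] := by
    intro x y w hxy hxw hyw i j hij
    fin_cases i <;> fin_cases j <;> simp_all
  -- pointwise triple transitivity
  have map3 : ∀ {x y w x' y' w' : α}, x ≠ y → x ≠ w → y ≠ w → x' ≠ y' → x' ≠ w' → y' ≠ w' →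
      ∃ g : G, g • x = x' ∧ g • y = y' ∧ g • w = w' := by
    intro x y w x' y' w' hxy hxw hyw hxy' hxw' hyw'
    let e : Fin 3 ↪ α := ⟨![x, y, w], inj3 hxy hxw hyw⟩
    let e' : Fin 3 ↪ α := ⟨![x', y', w'], inj3 hxy' hxw' hyw'⟩
    obtain ⟨g, hg⟩ := h3.exists_smul_eq e e'
    refine ⟨g, ?_, ?_, ?_⟩
    · simpa [e, e'] using DFunLike.congr_fun hg 0
    · simpa [e, e'] using DFunLike.congr_fun hg 1
    · simpa [e, e'] using DFunLike.congr_fun hg 2
  have h3f : ∀ g : G, ∀ x y w : α, x ≠ y → y ≠ w → x ≠ w → g • x = x → g • y = y → g • w = w →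
      g = 1 := by
    intro g x y w hxy hyw hxw hx hy hw
    let e : Fin 3 ↪ α := ⟨![x, y, w], inj3 hxy hxw hyw⟩
    have hmem : g ∈ MulAction.stabilizer G e := by
      rw [MulAction.mem_stabilizer_iff]
      ext i
      show g • e i = e i
      fin_cases i
      · simpa [e] using hx
      · simpa [e] using hy
      · simpa [e] using hw
    rw [hsharp e] at hmem
    exact Subgroup.mem_bot.mp hmem
  have htr : ∀ w w' : α, w ≠ a → w ≠ b → w' ≠ a → w' ≠ b →
      ∃ h ∈ Cfsg.Agent.Helper61.Zs.stabH G a b, h • w = w' := by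
    intro w w' hwa hwb hwa' hwb'
    obtain ⟨g, hga, hgb, hgw⟩ := map3 hab hwa.symm hwb.symm hab hwa'.symm hwb'.symm
    exact ⟨g, Cfsg.Agent.Helper61.Zs.mem_stabH.mpr ⟨hga, hgb⟩, hgw⟩
  -- the order of the two-point stabiliser
  have hcardH : Nat.card (Cfsg.Agent.Helper61.Zs.stabH G a b) + 2 = Fintype.card α := by
    let f1 : ↥(Cfsg.Agent.Helper61.Zs.stabH G a b) → α := fun h => h.1 • c
    let f3 : Bool → α := fun x => if x then a else b
    have hf1 : Function.Injective f1 := by
      intro h h' hhh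
      have hh := Cfsg.Agent.Helper61.Zs.mem_stabH.mp h.2
      have hh' := Cfsg.Agent.Helper61.Zs.mem_stabH.mp h'.2
      have h1 : h'.1⁻¹ * h.1 = 1 := by
        apply h3f (h'.1⁻¹ * h.1) a b c hab hbc hac
        · rw [mul_smul, hh.1, inv_smul_eq_iff, hh'.1]
        · rw [mul_smul, hh.2, inv_smul_eq_iff, hh'.2]
        · rw [mul_smul, inv_smul_eq_iff]; exact hhh
      apply Subtype.ext
      exact (inv_mul_eq_one.mp h1).symm
    have hf3 : Function.Injective f3 := by
      intro x y hxy
      cases x <;> cases y <;> simp [f3] at hxy ⊢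
      · exact hab hxy.symm
      · exact hab hxy
    have hfix : ∀ (h : ↥(Cfsg.Agent.Helper61.Zs.stabH G a b)) (x : Bool), f1 h ≠ f3 x := by
      intro h x hx
      have hh := Cfsg.Agent.Helper61.Zs.mem_stabH.mp h.2
      cases x
      · have : h.1 • c = h.1 • b := by rw [hh.2]; simpa [f1, f3] using hx
        exact hbc (smul_left_cancel _ this).symm
      · have : h.1 • c = h.1 • a := by rw [hh.1]; simpa [f1, f3] using hx
        exact hac (smul_left_cancel _ this).symm
    have hbij : Function.Bijective (Sum.elim f1 f3) := by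
      refine ⟨Function.Injective.sumElim hf1 hf3 hfix, ?_⟩
      intro x
      by_cases hxa : x = a
      · exact ⟨Sum.inr true, by simp [f3, hxa]⟩
      by_cases hxb : x = b
      · exact ⟨Sum.inr false, by simp [f3, hxb]⟩
      obtain ⟨h, hh, hhx⟩ := htr c x hac.symm hbc.symm hxa hxb
      exact ⟨Sum.inl ⟨h, hh⟩, hhx⟩
    have := Nat.card_congr (Equiv.ofBijective _ hbij)
    rw [Nat.card_sum, Nat.card_eq_fintype_card (α := Bool), Fintype.card_bool,
      Nat.card_eq_fintype_card (α := α)] at this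
    exact this
  have hevenH : Even (Nat.card (Cfsg.Agent.Helper61.Zs.stabH G a b)) := by
    obtain ⟨m, hm⟩ := heven
    refine ⟨m - 1, ?_⟩
    omega
  have h3c : 3 ≤ Nat.card α := by rw [hcardα]; omega
  obtain ⟨K, D⟩ := Cfsg.Agent.Helper61.S3t.exists_ZData h2 h3f hab h3c hevenH
  obtain ⟨s, hsa, hsb, hsc⟩ := map3 hab hac hbc hab.symm hbc hac
  have S : Cfsg.Agent.Helper61.S3t.S3Data D s c :=
    { heven := hevenH
      htr := htr
      t_inf := hsa
      t_zero := hsb
      c_inf := hac.symm
      c_zero := hbc.symm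
      t_c := hsc }
  have hK : Nat.card K = p ^ f := by
    have := S.card_K
    omega
  exact S.iso_pgl_galois hp hp2 hfo hK

end Cfsg.Agent.S0730
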