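-- Statement S0733 (affine groups: primitive iff irreducible).
import Cfsg.Statements.S0733
import Mathlib

set_option autoImplicit false
open Cfsg

namespace Cfsg.Agent.S0733

open MulAction
open scoped Pointwise

/-- A group of affine type V ⋊ G₀ (V a finite vector space over the field with p elements, G₀ a group of linear maps) acting on V is primitive if and only if G₀ leaves no proper non-zero subspace invariant. -/
theorem result {p : ℕ} [Fact p.Prime] {V : Type*} [AddCommGroup V] [Module (ZMod p) V] [Finite V] [Nontrivial V] (G₀ : Subgroup (V ≃ₗ[ZMod p] V)) (G : Subgroup (Equiv.Perm V)) (hG : ∀ σ : Equiv.Perm V, σ ∈ G ↔ ∃ g ∈ G₀, ∃ b : V, ∀ x : V, σ x = (g : V ≃ₗ[ZMod p] V) x + b) : MulAction.IsPreprimitive G V ↔ ∀ W : Submodule (ZMod p) V, (∀ g ∈ G₀, ∀ v ∈ W, (g : V ≃ₗ[ZMod p] V) v ∈ W) → W = ⊥ ∨ W = ⊤ := by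
  -- translations and linear maps belong to `G`
  have htrans : ∀ b : V, Equiv.addRight b ∈ G := by
    intro b
    rw [hG]
    exact ⟨1, G₀.one_mem, b, fun x => by simp⟩
  have hlin : ∀ g ∈ G₀, (g : V ≃ₗ[ZMod p] V).toEquiv ∈ G := by
    intro g hg
    rw [hG]
    exact ⟨g, hg, 0, fun x => by simp⟩
  constructor
  · intro hprim W hW
    have hblock : IsBlock G (W : Set V) := by
      rw [isBlock_iff_smul_eq_of_mem]
      rintro ⟨σ, hσ⟩ a ha hσa
      obtain ⟨g, hg, b, hgb⟩ := (hG σ).mp hσ
      have hσa' : σ a ∈ W := hσa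
      have hb : b ∈ W := by
        have h1 : (g : V ≃ₗ[ZMod p] V) a + b ∈ W := by rw [← hgb]; exact hσa'
        have h2 : (g : V ≃ₗ[ZMod p] V) a ∈ W := hW g hg a ha
        have := W.sub_mem h1 h2
        simpa using this
      ext y
      constructor
      · rintro ⟨w, hw, rfl⟩
        change σ w ∈ W
        rw [hgb]
        exact W.add_mem (hW g hg w hw) hb
      · intro hy
        refine ⟨(g⁻¹ : V ≃ₗ[ZMod p] V) (y - b), hW g⁻¹ (G₀.inv_mem hg) _ (W.sub_mem hy hb), ?_⟩
        change σ _ = y
        rw [hgb]
        have : (g : V ≃ₗ[ZMod p] V) ((g⁻¹ : V ≃ₗ[ZMod p] V) (y - b)) = y - b := by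
          change (g * g⁻¹) (y - b) = y - b
          rw [mul_inv_cancel]; rfl
        rw [this]; abel
    rcases hprim.isTrivialBlock_of_isBlock hblock with hs | htop
    · left
      rw [Submodule.eq_bot_iff]
      intro w hw
      exact hs hw W.zero_mem
    · right
      rw [Submodule.eq_top_iff']
      intro x
      have : x ∈ (W : Set V) := htop ▸ Set.mem_univ x
      exact this
  · intro hirr
    have hpre : MulAction.IsPretransitive G V := by
      constructor
      intro x y
      refine ⟨⟨Equiv.addRight (y - x), htrans _⟩, ?_⟩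
      change x + (y - x) = y
      abel
    apply IsPreprimitive.of_isTrivialBlock_base (0 : V)
    intro B h0 hB
    -- `B` is closed under addition
    have hadd : ∀ a b, a ∈ B → b ∈ B → a + b ∈ B := by
      intro a b ha hb
      have h1 : (⟨Equiv.addRight b, htrans b⟩ : G) • B = B := by
        apply hB.smul_eq_of_mem h0
        change (0 : V) + b ∈ B
        rwa [zero_add]
      rw [← h1]
      exact ⟨a, ha, rfl⟩
    have hnsmul : ∀ (n : ℕ) a, a ∈ B → n • a ∈ B := by
      intro n a ha
      induction n with
      | zero => rwa [zero_smul]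
      | succ n ih => rw [succ_nsmul]; exact hadd _ _ ih ha
    let W : Submodule (ZMod p) V :=
      { carrier := B
        add_mem' := fun {a b} ha hb => hadd a b ha hb
        zero_mem' := h0
        smul_mem' := by
          intro c x hx
          have : c • x = c.val • x := by
            rw [← Nat.cast_smul_eq_nsmul (ZMod p), ZMod.natCast_zmod_val]
          rw [this]
          exact hnsmul _ _ hx }
    have hWinv : ∀ g ∈ G₀, ∀ v ∈ W, (g : V ≃ₗ[ZMod p] V) v ∈ W := by
      intro g hg v hv
      have h1 : (⟨(g : V ≃ₗ[ZMod p] V).toEquiv, hlin g hg⟩ : G) • B = B := by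
        apply hB.smul_eq_of_mem h0
        change (g : V ≃ₗ[ZMod p] V) 0 ∈ B
        rwa [map_zero]
      change (g : V ≃ₗ[ZMod p] V) v ∈ B
      rw [← h1]
      exact ⟨v, hv, rfl⟩
    rcases hirr W hWinv with hbot | htop
    · left
      intro x hx y hy
      have hx' : x ∈ W := hx
      have hy' : y ∈ W := hy
      rw [hbot, Submodule.mem_bot] at hx' hy'
      rw [hx', hy']
    · right
      ext x
      simp only [Set.mem_univ, iff_true]
      have : x ∈ W := htop ▸ Submodule.mem_top
      exact this

end Cfsg.Agent.S0733
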