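-- Statement S0734 (Higman's criterion).
import Cfsg.Statements.S0734
import Mathlib

set_option autoImplicit false
open Cfsg

namespace Cfsg.Agent.S0734

open MulAction
open scoped Pointwise

section

variable {G : Type*} [Group G] {Ω : Type*} [MulAction G Ω]

/-- the orbital graph of the pair `(a, b)` -/
abbrev orbGraph (G : Type*) [Group G] {Ω : Type*} [MulAction G Ω] (a b : Ω) : SimpleGraph Ω :=
  SimpleGraph.fromRel fun x y : Ω => ∃ g : G, g • a = x ∧ g • b = y

theorem adj_smul (a b : Ω) (h : G) {x y : Ω} (hxy : (orbGraph G a b).Adj x y) :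
    (orbGraph G a b).Adj (h • x) (h • y) := by
  rw [SimpleGraph.fromRel_adj] at hxy ⊢
  obtain ⟨hne, hr⟩ := hxy
  refine ⟨fun e => hne (smul_left_cancel h e), ?_⟩
  rcases hr with ⟨g, h1, h2⟩ | ⟨g, h1, h2⟩
  · left; exact ⟨h * g, by rw [mul_smul, h1], by rw [mul_smul, h2]⟩
  · right; exact ⟨h * g, by rw [mul_smul, h1], by rw [mul_smul, h2]⟩

theorem reachable_smul (a b : Ω) (h : G) {x y : Ω} (hxy : (orbGraph G a b).Reachable x y) :
    (orbGraph G a b).Reachable (h • x) (h • y) := by
  obtain ⟨w⟩ := hxy
  induction w with
  | nil => exact SimpleGraph.Reachable.refl _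
  | cons hadj _ ih => exact (SimpleGraph.Adj.reachable (adj_smul a b h hadj)).trans ih

theorem isBlock_component (a b : Ω) :
    IsBlock G {x | (orbGraph G a b).Reachable a x} := by
  rw [isBlock_iff_smul_eq_of_mem]
  intro g x hx hgx
  have h1 : (orbGraph G a b).Reachable (g • a) (g • x) := reachable_smul a b g hx
  have h2 : (orbGraph G a b).Reachable a (g • a) := hgx.trans h1.symm
  ext y
  constructor
  · rintro ⟨z, hz, rfl⟩
    exact h2.trans (reachable_smul a b g hz)
  · intro hy
    refine ⟨g⁻¹ • y, ?_, by simp⟩
    have h3 : (orbGraph G a b).Reachable (g⁻¹ • (g • a)) (g⁻¹ • y) :=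
      reachable_smul a b g⁻¹ (h2.symm.trans hy)
    rwa [inv_smul_smul] at h3

end

/-- Higman's criterion: a transitive permutation group on a finite set is primitive if and only if, for every pair of distinct points a, b, the graph whose edges are the translates of {a, b} is connected. -/
theorem result {G : Type*} [Group G] {Ω : Type*} [Finite Ω] [MulAction G Ω] [MulAction.IsPretransitive G Ω] [Nontrivial Ω] : MulAction.IsPreprimitive G Ω ↔ ∀ a b : Ω, a ≠ b → (SimpleGraph.fromRel fun x y : Ω => ∃ g : G, g • a = x ∧ g • b = y).Connected := by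
  constructor
  · intro hprim a b hab
    have hblock := isBlock_component (G := G) a b
    have hadj : (orbGraph G a b).Adj a b := by
      rw [SimpleGraph.fromRel_adj]
      exact ⟨hab, Or.inl ⟨1, one_smul _ _, one_smul _ _⟩⟩
    rcases hprim.isTrivialBlock_of_isBlock hblock with hs | htop
    · exfalso
      exact hab (hs (SimpleGraph.Reachable.refl a) hadj.reachable)
    · rw [SimpleGraph.connected_iff]
      refine ⟨fun u v => ?_, ⟨a⟩⟩
      have hu : u ∈ {x | (orbGraph G a b).Reachable a x} := htop ▸ Set.mem_univ u
      have hv : v ∈ {x | (orbGraph G a b).Reachable a x} := htop ▸ Set.mem_univ v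
      exact (SimpleGraph.Reachable.symm hu).trans hv
  · intro h
    refine ⟨fun {B} hB => ?_⟩
    by_cases hs : B.Subsingleton
    · exact Or.inl hs
    · right
      rw [Set.not_subsingleton_iff] at hs
      obtain ⟨a, ha, b, hb, hab⟩ := hs
      have hconn := h a b hab
      -- `B` is closed under adjacency
      have hclosed : ∀ x y, x ∈ B → (orbGraph G a b).Adj x y → y ∈ B := by
        intro x y hx hxy
        rw [SimpleGraph.fromRel_adj] at hxy
        obtain ⟨-, hr⟩ := hxy
        rcases hr with ⟨g, h1, h2⟩ | ⟨g, h1, h2⟩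
        · have : g • B = B := hB.smul_eq_of_mem ha (h1 ▸ hx)
          rw [← this, ← h2]
          exact Set.smul_mem_smul_set hb
        · have : g • B = B := hB.smul_eq_of_mem hb (h2 ▸ hx)
          rw [← this, ← h1]
          exact Set.smul_mem_smul_set ha
      have hreach : ∀ x y, (orbGraph G a b).Reachable x y → x ∈ B → y ∈ B := by
        intro x y hxy
        obtain ⟨w⟩ := hxy
        induction w with
        | nil => exact id
        | cons hadj _ ih => exact fun hx => ih (hclosed _ _ hx hadj)
      ext y
      simp only [Set.mem_univ, iff_true]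
      exact hreach a y (hconn.preconnected a y) ha

end Cfsg.Agent.S0734
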