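import Cfsg.Statements.S0735

set_option autoImplicit false
open Cfsg

namespace Cfsg.Agent.S0735

open MulAction
open scoped Pointwise

variable {α : Type*} [Fintype α] [DecidableEq α]

/-- a 2-homogeneous group maps any pair to any pair, up to swapping -/
theorem pair_trans (G : Subgroup (Equiv.Perm α))
    (h2 : MulAction.IsPretransitive G (Set.powersetCard α 2)) {a b c d : α} (hab : a ≠ b)
    (hcd : c ≠ d) : ∃ g : G, (g • a = c ∧ g • b = d) ∨ (g • a = d ∧ g • b = c) := by
  obtain ⟨g, hg⟩ := h2.exists_smul_eq (Set.powersetCard.ofCard (Finset.card_pair hab))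
    (Set.powersetCard.ofCard (Finset.card_pair hcd))
  have h : g • ({a, b} : Finset α) = {c, d} := by
    have h' := congrArg (fun s : Set.powersetCard α 2 => (s : Finset α)) hg
    exact (Set.powersetCard.coe_smul (g := g)
      (s := Set.powersetCard.ofCard (Finset.card_pair hab))).symm.trans h'
  rw [Finset.smul_finset_insert, Finset.smul_finset_singleton] at h
  refine ⟨g, ?_⟩
  have ha : g • a ∈ ({c, d} : Finset α) := by rw [← h]; simp
  have hb : g • b ∈ ({c, d} : Finset α) := by rw [← h]; simp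
  have hne : g • a ≠ g • b := fun h' => hab (smul_left_cancel g h')
  simp only [Finset.mem_insert, Finset.mem_singleton] at ha hb
  rcases ha with ha | ha <;> rcases hb with hb | hb
  · exact absurd (ha.trans hb.symm) hne
  · exact Or.inl ⟨ha, hb⟩
  · exact Or.inr ⟨ha, hb⟩
  · exact absurd (ha.trans hb.symm) hne

theorem exists_third (hα : 3 ≤ Fintype.card α) (x y : α) : ∃ z, z ≠ x ∧ z ≠ y := by
  by_contra hcon
  push Not at hcon
  have : Fintype.card α ≤ ({x, y} : Finset α).card := by
    rw [← Finset.card_univ]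
    apply Finset.card_le_card
    intro z _
    by_cases hz : z = x
    · simp [hz]
    · simp [hcon z hz]
  have h2 : ({x, y} : Finset α).card ≤ 2 := Finset.card_le_two
  omega

theorem pretransitive (G : Subgroup (Equiv.Perm α))
    (h2 : MulAction.IsPretransitive G (Set.powersetCard α 2)) (hα : 3 ≤ Fintype.card α) :
    MulAction.IsPretransitive G α := by
  refine ⟨fun x y => ?_⟩
  by_cases hxy : x = y
  · exact ⟨1, by rw [hxy, one_smul]⟩
  obtain ⟨z, hzx, hzy⟩ := exists_third hα x y
  obtain ⟨g, hg⟩ := pair_trans G h2 hxy (Ne.symm hzy)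
  rcases hg with ⟨hgx, -⟩ | ⟨hgx, hgy⟩
  · exact ⟨g, hgx⟩
  · -- `g x = z`, `g y = y`
    obtain ⟨h, hh⟩ := pair_trans G h2 hxy (Ne.symm hzx)
    rcases hh with ⟨hhx, hhy⟩ | ⟨hhx, hhy⟩
    · -- `h x = x`, `h y = z`
      refine ⟨h⁻¹ * g, ?_⟩
      rw [mul_smul, hgx, ← hhy, inv_smul_smul]
    · -- `h x = z`, `h y = x`
      refine ⟨h⁻¹, ?_⟩
      rw [← hhy, inv_smul_smul]

/-- A 2-homogeneous permutation group (transitive on 2-subsets) of even order is doubly transitive; a non-trivial 2-homogeneous group is primitive. -/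
theorem result {α : Type*} [Fintype α] [DecidableEq α] (G : Subgroup (Equiv.Perm α)) (h2 : MulAction.IsPretransitive G (Set.powersetCard α 2)) (hα : 3 ≤ Fintype.card α) : (Even (Nat.card G) → MulAction.IsMultiplyPretransitive G α 2) ∧ (G ≠ ⊥ → MulAction.IsPreprimitive G α) := by
  constructor
  · intro heven
    rw [MulAction.is_two_pretransitive_iff]
    -- an involution in `G`
    have hdvd : 2 ∣ Nat.card G := even_iff_two_dvd.mp heven
    have : Fact (Nat.Prime 2) := ⟨Nat.prime_two⟩
    obtain ⟨t, ht⟩ := exists_prime_orderOf_dvd_card' 2 hdvd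
    have ht1 : t ≠ 1 := by
      rintro rfl
      rw [orderOf_one] at ht
      omega
    have htt : t * t = 1 := by
      rw [← sq, ← ht, pow_orderOf_eq_one]
    -- `t` moves some point
    obtain ⟨a, ha⟩ : ∃ a : α, t • a ≠ a := by
      by_contra hcon
      push Not at hcon
      apply ht1
      apply Subtype.ext
      ext x
      exact hcon x
    have htb : t • (t • a) = a := by rw [← mul_smul, htt, one_smul]
    intro x y c d hxy hcd
    obtain ⟨g, hg⟩ := pair_trans G h2 (Ne.symm ha) hxy
    obtain ⟨k, hk⟩ := pair_trans G h2 (Ne.symm ha) hcd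
    -- normalise `g` and `k` so that `a ↦ x, t a ↦ y` and `a ↦ c, t a ↦ d`
    obtain ⟨g', hg'a, hg'b⟩ : ∃ g' : G, g' • a = x ∧ g' • (t • a) = y := by
      rcases hg with ⟨h1, h2'⟩ | ⟨h1, h2'⟩
      · exact ⟨g, h1, h2'⟩
      · exact ⟨g * t, by rw [mul_smul, h2'], by rw [mul_smul, htb, h1]⟩
    obtain ⟨k', hk'a, hk'b⟩ : ∃ k' : G, k' • a = c ∧ k' • (t • a) = d := by
      rcases hk with ⟨h1, h2'⟩ | ⟨h1, h2'⟩
      · exact ⟨k, h1, h2'⟩
      · exact ⟨k * t, by rw [mul_smul, h2'], by rw [mul_smul, htb, h1]⟩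
    refine ⟨k' * g'⁻¹, ?_, ?_⟩
    · rw [mul_smul, ← hg'a, inv_smul_smul, hk'a]
    · rw [mul_smul, ← hg'b, inv_smul_smul, hk'b]
  · intro _
    have := pretransitive G h2 hα
    apply IsPreprimitive.mk
    intro B hB
    rcases B.subsingleton_or_nontrivial with h | h
    · exact Or.inl h
    · right
      obtain ⟨a, ha, b, hb, hab⟩ := h
      rw [Set.eq_univ_iff_forall]
      intro c
      by_cases hac : c = a
      · rw [hac]; exact ha
      · obtain ⟨g, hg⟩ := pair_trans G h2 hab (Ne.symm hac)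
        rw [MulAction.isBlock_iff_smul_eq_of_mem] at hB
        rcases hg with ⟨hga, hgb⟩ | ⟨hga, hgb⟩
        · rw [← hB (g := g) ha (by rw [hga]; exact ha), ← hgb]
          exact Set.smul_mem_smul_set hb
        · rw [← hB (g := g) hb (by rw [hgb]; exact ha), ← hga]
          exact Set.smul_mem_smul_set ha

end Cfsg.Agent.S0735
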