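import Cfsg.Statements.S0736
import Cfsg.Agent.Helper61.Homog

set_option autoImplicit false
open Cfsg

namespace Cfsg.Agent.S0736

open scoped Pointwise

/-- A `k`-homogeneous permutation group of degree `n`, `k ≥ 2`, with `k + q - 1 ≤ n` for every prime power `q` dividing `k`, is `(k-1)`-homogeneous. -/
theorem result {α : Type*} [Fintype α] [DecidableEq α] (G : Subgroup (Equiv.Perm α)) {k : ℕ} (hk : 2 ≤ k) (hG : MulAction.IsPretransitive G (Set.powersetCard α k)) (hq : ∀ q : ℕ, IsPrimePow q → q ∣ k → k + q - 1 ≤ Fintype.card α) : MulAction.IsPretransitive G (Set.powersetCard α (k - 1)) := by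
  classical
  have hkn : k ≤ Fintype.card α := by
    obtain ⟨p, hp, hpk⟩ := Nat.exists_prime_and_dvd (show k ≠ 1 by omega)
    have := hq p hp.isPrimePow hpk
    have := hp.one_le
    omega
  obtain ⟨T₀, -, hT₀⟩ := Finset.exists_subset_card_eq
    (s := (Finset.univ : Finset α)) (n := k - 1) (by rw [Finset.card_univ]; omega)
  obtain ⟨x, hx⟩ : ∃ x, x ∉ T₀ := by
    by_contra hcon
    push Not at hcon
    have : T₀ = Finset.univ := Finset.eq_univ_iff_forall.mpr hcon
    rw [this, Finset.card_univ] at hT₀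
    omega
  let Γ : Finset (Finset α) :=
    ((Finset.univ : Finset α).powersetCard (k - 1)).filter (fun T => ∃ g : G, g • T₀ = T)
  have hmemΓ : ∀ T : Finset α, T ∈ Γ ↔ ∃ g : G, g • T₀ = T := by
    intro T
    simp only [Γ, Finset.mem_filter, Finset.mem_powersetCard, Finset.subset_univ, true_and]
    constructor
    · exact fun h => h.2
    · rintro ⟨g, rfl⟩
      exact ⟨by rw [Finset.card_smul_finset]; exact hT₀, g, rfl⟩
  have hΓ : ∀ T ∈ Γ, T.card + 1 = k := by
    intro T hT
    obtain ⟨g, rfl⟩ := (hmemΓ T).mp hT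
    rw [Finset.card_smul_finset, hT₀]
    omega
  have hΓsmul : ∀ (g : G) (T : Finset α), T ∈ Γ → g • T ∈ Γ := by
    intro g T hT
    obtain ⟨g', rfl⟩ := (hmemΓ T).mp hT
    exact (hmemΓ _).mpr ⟨g * g', mul_smul _ _ _⟩
  have hinv : ∀ (g : G) (S : Finset α),
      (Γ.filter (fun T => T ⊆ g • S)).card = (Γ.filter (fun T => T ⊆ S)).card := by
    intro g S
    symm
    apply Finset.card_bij (fun T _ => g • T)
    · intro T hT
      rw [Finset.mem_filter] at hT ⊢
      exact ⟨hΓsmul g T hT.1, Finset.smul_finset_subset_smul_finset hT.2⟩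
    · intro T _ T' _ h
      exact smul_left_cancel g h
    · intro T hT
      rw [Finset.mem_filter] at hT
      refine ⟨g⁻¹ • T, ?_, smul_inv_smul g T⟩
      rw [Finset.mem_filter]
      refine ⟨hΓsmul g⁻¹ T hT.1, ?_⟩
      have := Finset.smul_finset_subset_smul_finset (a := g⁻¹) hT.2
      rwa [inv_smul_smul] at this
  have hhom : ∀ S S' : Finset α, S.card = k → S'.card = k → ∃ g : G, g • S = S' := by
    intro S S' hS hS'
    obtain ⟨g, hg⟩ := MulAction.exists_smul_eq G
      (⟨S, hS⟩ : Set.powersetCard α k) (⟨S', hS'⟩ : Set.powersetCard α k)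
    refine ⟨g, ?_⟩
    have := congrArg Subtype.val hg
    exact this
  have hS₀ : (insert x T₀).card = k := by
    rw [Finset.card_insert_of_notMem hx, hT₀]; omega
  have hc : ∀ S : Finset α, S.card = k →
      (Γ.filter (fun T => T ⊆ S)).card = (Γ.filter (fun T => T ⊆ insert x T₀)).card := by
    intro S hS
    obtain ⟨g, rfl⟩ := hhom _ S hS₀ hS
    exact hinv g _
  have hc0 : (Γ.filter (fun T => T ⊆ insert x T₀)).card ≠ 0 := by
    rw [Finset.card_ne_zero]
    refine ⟨T₀, ?_⟩
    rw [Finset.mem_filter]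
    exact ⟨(hmemΓ T₀).mpr ⟨1, one_smul _ _⟩, Finset.subset_insert _ _⟩
  have hfull := Cfsg.Agent.Helper61.Homog.full_of_regular Γ k _ hk hΓ hc hc0 hq
  constructor
  rintro ⟨T, hT⟩ ⟨T', hT'⟩
  have hT1 : T.card + 1 = k := by
    have : T.card = k - 1 := hT
    omega
  have hT'1 : T'.card + 1 = k := by
    have : T'.card = k - 1 := hT'
    omega
  obtain ⟨g₁, hg₁⟩ := (hmemΓ T).mp (hfull T hT1)
  obtain ⟨g₂, hg₂⟩ := (hmemΓ T').mp (hfull T' hT'1)
  refine ⟨g₂ * g₁⁻¹, ?_⟩
  apply Subtype.ext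
  change (g₂ * g₁⁻¹) • T = T'
  rw [mul_smul, ← hg₁, inv_smul_smul, hg₂]

end Cfsg.Agent.S0736
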