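-- Statement S0743 (Gleason's lemma, k-fold version).
import Cfsg.Statements.S0743
import Mathlib
import Cfsg.Agent.Helper12.MultTrans

set_option autoImplicit false
open Cfsg

namespace Cfsg.Agent.S0743

open MulAction

/-- Gleason's lemma inside an invariant set: if `H` acts on `α`, `Ω` is an `H`-invariant set, and
for every `a ∈ Ω` some `p`-subgroup of `H` fixes `a` and no other point of `Ω`, then `H` is
transitive on `Ω`. -/
theorem gleason_aux {H α : Type*} [Group H] [MulAction H α] [Finite α] {p : ℕ} [Fact p.Prime]
    (Ω : Set α)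
    (hfix : ∀ a ∈ Ω, ∃ P : Subgroup H, IsPGroup p P ∧ ∀ x ∈ Ω, x ∈ fixedPoints P α ↔ x = a)
    (hinv : ∀ (h : H) (x : α), x ∈ Ω → h • x ∈ Ω)
    (a b : α) (ha : a ∈ Ω) (hb : b ∈ Ω) : ∃ h : H, h • a = b := by
  by_contra hcon
  push Not at hcon
  have hO : ∀ x ∈ orbit H a, x ∈ Ω := by
    rintro x ⟨h, rfl⟩
    exact hinv h a ha
  have hbO : b ∉ orbit H a := by
    rintro ⟨h, hh⟩
    exact hcon h hh
  obtain ⟨Pa, hPa, hPa'⟩ := hfix a ha
  obtain ⟨Pb, hPb, hPb'⟩ := hfix b hb
  -- fixed points of `Pa` on the orbit: exactly one
  have h1 : Nat.card (orbit H a) ≡ Nat.card (fixedPoints Pa (orbit H a)) [MOD p] :=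
    hPa.card_modEq_card_fixedPoints (orbit H a)
  have h2 : Nat.card (orbit H a) ≡ Nat.card (fixedPoints Pb (orbit H a)) [MOD p] :=
    hPb.card_modEq_card_fixedPoints (orbit H a)
  have c1 : Nat.card (fixedPoints Pa (orbit H a)) = 1 := by
    rw [Nat.card_eq_one_iff_unique]
    constructor
    · constructor
      rintro ⟨⟨x, hx⟩, hx'⟩ ⟨⟨y, hy⟩, hy'⟩
      have ex : x = a := by
        rw [← hPa' x (hO x hx)]
        intro g
        have := hx' g
        exact congrArg Subtype.val this
      have ey : y = a := by
        rw [← hPa' y (hO y hy)]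
        intro g
        have := hy' g
        exact congrArg Subtype.val this
      subst ex; subst ey; rfl
    · refine ⟨⟨⟨a, mem_orbit_self a⟩, ?_⟩⟩
      intro g
      apply Subtype.ext
      have : a ∈ fixedPoints Pa α := (hPa' a ha).mpr rfl
      exact this g
  have c2 : Nat.card (fixedPoints Pb (orbit H a)) = 0 := by
    rw [Nat.card_eq_zero]
    left
    constructor
    rintro ⟨⟨x, hx⟩, hx'⟩
    have ex : x = b := by
      rw [← hPb' x (hO x hx)]
      intro g
      have := hx' g
      exact congrArg Subtype.val this
    exact hbO (ex ▸ hx)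
  rw [c1] at h1
  rw [c2] at h2
  have h3 : 1 ≡ 0 [MOD p] := h1.symm.trans h2
  have hp := (Fact.out : p.Prime)
  have : p ∣ 1 := (Nat.modEq_zero_iff_dvd.mp h3)
  exact hp.one_lt.ne' (Nat.dvd_one.mp this)

/-- the pointwise stabiliser of fewer than `k` points is transitive on the remaining points -/
theorem key {α : Type*} [Fintype α] [DecidableEq α] (G : Subgroup (Equiv.Perm α)) {p k : ℕ}
    (hp : p.Prime) (hkn : k < Fintype.card α)
    (h : ∀ s : Finset α, s.card = k → ∃ P : Subgroup G, IsPGroup p P ∧
      MulAction.fixedPoints P α = (s : Set α))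
    (S : Finset α) (hS : S.card < k) (a b : α) (ha : a ∉ S) (hb : b ∉ S) :
    ∃ g : G, g ∈ fixingSubgroup G (S : Set α) ∧ g • a = b := by
  have : Fact p.Prime := ⟨hp⟩
  -- extend `S` to a `(k-1)`-set avoiding `a` and `b`
  obtain ⟨T, hST, hTt, hTc⟩ : ∃ T : Finset α, S ⊆ T ∧ T ⊆ Finset.univ \ {a, b} ∧
      T.card = k - 1 := by
    apply Finset.exists_subsuperset_card_eq
    · intro x hx
      simp only [Finset.mem_sdiff, Finset.mem_univ, Finset.mem_insert, Finset.mem_singleton,
        true_and, not_or]
      exact ⟨fun h => ha (h ▸ hx), fun h => hb (h ▸ hx)⟩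
    · omega
    · have h1 : ({a, b} : Finset α).card ≤ 2 := Finset.card_le_two
      have h2 := Finset.card_sdiff_add_card_inter (Finset.univ : Finset α) {a, b}
      have h3 : (Finset.univ ∩ ({a, b} : Finset α)).card ≤ 2 :=
        le_trans (Finset.card_le_card Finset.inter_subset_right) h1
      rw [Finset.card_univ] at h2
      omega
  have haT : a ∉ T := fun h => by
    have := hTt h
    simp at this
  have hbT : b ∉ T := fun h => by
    have := hTt h
    simp at this
  -- Gleason's argument for the pointwise stabiliser of `T`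
  obtain ⟨g, hg⟩ := gleason_aux (H := fixingSubgroup G (T : Set α)) (p := p)
    (Ω := ((T : Set α))ᶜ) (by
      intro c hc
      have hcT : c ∉ T := by simpa using hc
      obtain ⟨P, hP, hPfix⟩ := h (insert c T) (by rw [Finset.card_insert_of_notMem hcT]; omega)
      refine ⟨P.subgroupOf (fixingSubgroup G (T : Set α)), hP.comap_subtype, ?_⟩
      have hPle : P ≤ fixingSubgroup G (T : Set α) := by
        intro g hg
        rw [mem_fixingSubgroup_iff]
        intro y hy
        have : y ∈ MulAction.fixedPoints P α := by
          rw [hPfix]; simp [Finset.mem_coe.mp hy]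
        exact this ⟨g, hg⟩
      intro x hx
      have hxT : x ∉ T := by simpa using hx
      constructor
      · intro hxf
        have : x ∈ MulAction.fixedPoints P α := by
          intro g
          exact hxf ⟨⟨g.1, hPle g.2⟩, by simp [Subgroup.mem_subgroupOf]⟩
        rw [hPfix] at this
        simpa [hxT] using this
      · rintro rfl
        have : x ∈ MulAction.fixedPoints P α := by rw [hPfix]; simp
        intro g
        exact this ⟨g.1.1, Subgroup.mem_subgroupOf.mp g.2⟩)
    (by
      intro g x hx hgx
      apply hx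
      have h1 := (mem_fixingSubgroup_iff G).mp g.2 _ hgx
      have h2 : g • (g • x) = g • x := h1
      exact (smul_left_cancel g h2) ▸ hgx)
    a b (by simpa using haT) (by simpa using hbT)
  refine ⟨g.1, ?_, hg⟩
  rw [mem_fixingSubgroup_iff]
  intro y hy
  exact (mem_fixingSubgroup_iff G).mp g.2 y (hST hy)

/-- Gleason's lemma: if for every k distinct points (1 ≤ k < n) some p-subgroup of the permutation group has exactly those points as its fixed points, then the group is k-transitive. -/
theorem result {α : Type*} [Fintype α] [DecidableEq α] (G : Subgroup (Equiv.Perm α)) {p k : ℕ} (hp : p.Prime) (hk : 1 ≤ k) (hkn : k < Fintype.card α) (h : ∀ s : Finset α, s.card = k → ∃ P : Subgroup G, IsPGroup p P ∧ MulAction.fixedPoints P α = (s : Set α)) : MulAction.IsMultiplyPretransitive G α k := by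
  have main : ∀ j : ℕ, j ≤ k → MulAction.IsMultiplyPretransitive G α j := by
    intro j
    induction j with
    | zero => intro _; exact MulAction.is_zero_pretransitive'
    | succ j ih =>
      intro hj
      have ihj := ih (by omega)
      obtain ⟨S, -, hSc⟩ := Finset.exists_subset_card_eq (s := (Finset.univ : Finset α)) (n := j)
        (by rw [Finset.card_univ]; omega)
      have hn : (S : Set α).ncard = j := by rw [Set.ncard_coe_finset, hSc]
      have h1 : MulAction.IsMultiplyPretransitive (fixingSubgroup G (S : Set α))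
          (SubMulAction.ofFixingSubgroup G (S : Set α)) 1 := by
        rw [MulAction.is_one_pretransitive_iff]
        constructor
        intro x y
        obtain ⟨g, hg, hgxy⟩ := key G hp hkn h S (by omega) x.1 y.1
          (by simpa using (SubMulAction.mem_ofFixingSubgroup_iff G).mp x.2)
          (by simpa using (SubMulAction.mem_ofFixingSubgroup_iff G).mp y.2)
        exact ⟨⟨g, hg⟩, Subtype.ext hgxy⟩
      have := Cfsg.Agent.Helper12.isMultiplyPretransitive_add_of_fixingSubgroup (G := G)
        (S : Set α) (k := 1) (hn ▸ ihj) h1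
      rwa [hn] at this
  exact main k le_rfl

end Cfsg.Agent.S0743
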