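-- Statement S0744.
import Cfsg.Statements.S0744
import Mathlib
import Cfsg.Agent.Helper35.MultTrans

set_option autoImplicit false
open Cfsg

namespace Cfsg.Agent.S0744

open MulAction

theorem card_stab_one {G α : Type*} [Group G] [MulAction G α] (s : Set α) (x : α) :
    Nat.card (stabilizer (fixingSubgroup G s) x) = Nat.card (fixingSubgroup G (insert x s)) := by
  apply Nat.card_congr
  exact {
    toFun := fun g => ⟨g.1.1, by
      rw [mem_fixingSubgroup_iff]
      intro y hy
      rcases hy with rfl | hy
      · exact g.2
      · exact (mem_fixingSubgroup_iff G).mp g.1.2 y hy⟩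
    invFun := fun g => ⟨⟨g.1, by
      rw [mem_fixingSubgroup_iff]
      intro y hy
      exact (mem_fixingSubgroup_iff G).mp g.2 y (Set.mem_insert_of_mem x hy)⟩, by
      rw [mem_stabilizer_iff]
      exact (mem_fixingSubgroup_iff G).mp g.2 x (Set.mem_insert x s)⟩
    left_inv := fun g => rfl
    right_inv := fun g => rfl }

theorem card_stab_two {G α : Type*} [Group G] [MulAction G α] (s : Set α) (x y : α) :
    Nat.card (stabilizer (stabilizer (fixingSubgroup G s) x) y) =
      Nat.card (fixingSubgroup G (insert y (insert x s))) := by
  apply Nat.card_congr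
  exact {
    toFun := fun g => ⟨g.1.1.1, by
      rw [mem_fixingSubgroup_iff]
      intro w hw
      rcases hw with rfl | rfl | hw
      · exact g.2
      · exact g.1.2
      · exact (mem_fixingSubgroup_iff G).mp g.1.1.2 w hw⟩
    invFun := fun g => ⟨⟨⟨g.1, by
      rw [mem_fixingSubgroup_iff]
      intro w hw
      exact (mem_fixingSubgroup_iff G).mp g.2 w
        (Set.mem_insert_of_mem y (Set.mem_insert_of_mem x hw))⟩, by
      rw [mem_stabilizer_iff]
      exact (mem_fixingSubgroup_iff G).mp g.2 x (Set.mem_insert_of_mem y (Set.mem_insert x s))⟩, by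
      rw [mem_stabilizer_iff]
      exact (mem_fixingSubgroup_iff G).mp g.2 y (Set.mem_insert y _)⟩
    left_inv := fun g => rfl
    right_inv := fun g => rfl }

/-- If all pointwise stabilisers of (k−1)-subsets of points have one common order greater than 1, and all pointwise stabilisers of k-subsets have one common order (k > 1), then the group is (k−1)-transitive. -/
theorem result {α : Type*} [Fintype α] [DecidableEq α] (G : Subgroup (Equiv.Perm α)) {k : ℕ} (hk : 1 < k) (hkn : k ≤ Fintype.card α) (l m : ℕ) (hl : 1 < l) (hkm1 : ∀ s : Finset α, s.card = k - 1 → Nat.card (fixingSubgroup G (s : Set α)) = l) (hkm : ∀ s : Finset α, s.card = k → Nat.card (fixingSubgroup G (s : Set α)) = m) : MulAction.IsMultiplyPretransitive G α (k - 1) := by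
  obtain ⟨t, rfl⟩ : ∃ t, k = t + 2 := ⟨k - 2, by omega⟩
  have e : t + 2 - 1 = t + 1 := by omega
  rw [e]
  rw [e] at hkm1
  apply Cfsg.Agent.Helper35.isMultiplyPretransitive_of_fixingSubgroup_transitive G t hkn
  intro U hU a b ha hb
  obtain ⟨g, hg⟩ := Cfsg.Agent.Helper35.transitive_of_card_stabilizers
    (H := fixingSubgroup G (U : Set α)) (Ω := ((U : Set α))ᶜ)
    (by
      intro g x hx hgx
      apply hx
      have h1 := (mem_fixingSubgroup_iff G).mp g.2 _ hgx
      have h2 : g • (g • x) = g • x := h1
      exact (smul_left_cancel g h2) ▸ hgx)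
    l m
    (by
      intro x hx
      have hxU : x ∉ U := by simpa using hx
      rw [card_stab_one, ← Finset.coe_insert]
      exact hkm1 _ (by rw [Finset.card_insert_of_notMem hxU, hU]))
    (by
      intro x hx y hy hxy
      have hxU : x ∉ U := by simpa using hx
      have hyU : y ∉ insert x U := by
        have : y ∉ U := by simpa using hy
        simp [this, Ne.symm hxy]
      rw [card_stab_two, ← Finset.coe_insert, ← Finset.coe_insert]
      exact hkm _ (by rw [Finset.card_insert_of_notMem hyU, Finset.card_insert_of_notMem hxU, hU]))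
    (by
      intro x hx
      have hxU : x ∉ U := by simpa using hx
      have hc : Nat.card (stabilizer (fixingSubgroup G (U : Set α)) x) = l := by
        rw [card_stab_one, ← Finset.coe_insert]
        exact hkm1 _ (by rw [Finset.card_insert_of_notMem hxU, hU])
      have hnt : Nontrivial (stabilizer (fixingSubgroup G (U : Set α)) x) := by
        rw [← Finite.one_lt_card_iff_nontrivial, hc]
        exact hl
      obtain ⟨g, hg1⟩ := exists_ne (1 : stabilizer (fixingSubgroup G (U : Set α)) x)
      have hgne : (g.1.1 : Equiv.Perm α) ≠ 1 := by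
        intro h
        apply hg1
        apply Subtype.ext
        apply Subtype.ext
        apply Subtype.ext
        exact h
      obtain ⟨z, hz⟩ : ∃ z, (g.1.1 : Equiv.Perm α) z ≠ z := by
        by_contra hcon
        push Not at hcon
        exact hgne (Equiv.ext hcon)
      refine ⟨g, z, ?_, hz⟩
      intro hzU
      exact hz ((mem_fixingSubgroup_iff G).mp g.1.2 z hzU))
    a b (by simpa using ha) (by simpa using hb)
  exact ⟨g.1, g.2, hg⟩

end Cfsg.Agent.S0744
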