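import Cfsg.Statements.S0757
import Cfsg.Agent.Helper13.Discr

set_option autoImplicit false
open Cfsg

namespace Cfsg.Agent.S0757

/-- The two diagonal forms Σ x_i^2 and Σ_(i<n) x_i^2 + α x_n^2 on F^(n+1), with α a non-square and 2 ≠ 0 in F, are inequivalent quadratic forms (so over a finite field of odd order there are exactly two classes of non-singular symmetric bilinear forms in each dimension). -/
theorem result {F : Type*} [Field F] (h2 : (2 : F) ≠ 0) (n : ℕ) (α : F) (hα : ¬ IsSquare α) : ¬ (QuadraticMap.weightedSumSquares F (fun _ : Fin (n + 1) => (1 : F))).Equivalent (QuadraticMap.weightedSumSquares F (fun i : Fin (n + 1) => if i = Fin.last n then α else (1 : F))) := by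
  intro h
  obtain ⟨d, hd⟩ := Cfsg.Agent.Helper13.prod_eq_sq_mul_prod_of_equivalent _ _ h
  have h1 : ∏ i : Fin (n + 1), (2 * (1 : F)) = 2 ^ (n + 1) := by
    simp
  have h2' : ∏ i : Fin (n + 1), (2 * (if i = Fin.last n then α else (1 : F))) = 2 ^ (n + 1) * α := by
    rw [Finset.prod_mul_distrib, Finset.prod_ite_eq' Finset.univ (Fin.last n) (fun _ => α)]
    simp
  rw [h1, h2'] at hd
  have hpow : (2 : F) ^ (n + 1) ≠ 0 := pow_ne_zero _ h2
  have h3 : (1 : F) = d * d * α := by
    apply mul_left_cancel₀ hpow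
    linear_combination hd
  have hd0 : d ≠ 0 := by
    rintro rfl
    simp at h3
  apply hα
  refine ⟨d⁻¹, ?_⟩
  have : α = (d * d)⁻¹ := by
    exact eq_inv_of_mul_eq_one_right h3.symm
  rw [this, mul_inv]

end Cfsg.Agent.S0757
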