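import Cfsg.Statements.S0758
import Cfsg.Agent.Helper13.FinField

set_option autoImplicit false
open Cfsg

namespace Cfsg.Agent.S0758

open Cfsg.Agent.Helper13 in
/-- For a finite field F of odd order q and a non-square α: the form x² + y² is isotropic iff q ≡ 1 mod 4, and the form x² + α y² is isotropic iff q ≡ 3 mod 4. -/
theorem result {F : Type*} [Field F] [Fintype F] (h2 : (2 : F) ≠ 0) (α : F) (hα : ¬ IsSquare α) : ((∃ x y : F, (x ≠ 0 ∨ y ≠ 0) ∧ x ^ 2 + y ^ 2 = 0) ↔ Fintype.card F % 4 = 1) ∧ ((∃ x y : F, (x ≠ 0 ∨ y ≠ 0) ∧ x ^ 2 + α * y ^ 2 = 0) ↔ Fintype.card F % 4 = 3) := by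
  have hα0 := ne_zero_of_not_isSquare hα
  constructor
  · rw [← isSquare_neg_one_iff_mod_four_eq_one h2]
    constructor
    · rintro ⟨x, y, hxy, h⟩
      have hy : y ≠ 0 := by
        rintro rfl
        have : x ^ 2 = 0 := by simpa using h
        have hx : x = 0 := pow_eq_zero_iff (two_ne_zero) |>.mp this
        simp [hx] at hxy
      refine ⟨x / y, ?_⟩
      field_simp
      linear_combination -h
    · rintro ⟨s, hs⟩
      exact ⟨s, 1, Or.inr one_ne_zero, by linear_combination -hs⟩
  · rw [← not_isSquare_neg_one_iff_mod_four_eq_three,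
      ← isSquare_nonsquare_mul_iff hα (neg_ne_zero.mpr one_ne_zero)]
    constructor
    · rintro ⟨x, y, hxy, h⟩
      have hy : y ≠ 0 := by
        rintro rfl
        have : x ^ 2 = 0 := by simpa using h
        have hx : x = 0 := pow_eq_zero_iff (two_ne_zero) |>.mp this
        simp [hx] at hxy
      refine ⟨x / y, ?_⟩
      field_simp
      linear_combination -h
    · rintro ⟨s, hs⟩
      exact ⟨s, 1, Or.inr one_ne_zero, by linear_combination -hs⟩

end Cfsg.Agent.S0758
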