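import Cfsg.Statements.S0759
import Cfsg.Agent.Helper13.FinField

set_option autoImplicit false
open Cfsg

namespace Cfsg.Agent.S0759

open Matrix Cfsg.Agent.Helper13

variable {F : Type*} [Field F]

/-- Gram determinant argument: a basis of `F^(2m)` whose first half is totally isotropic for the
dot product forces `(-1)^m` to be a square. -/
theorem isSquare_neg_one_pow_of_isotropic {ι : Type*} [Fintype ι] [DecidableEq ι] {m : ℕ}
    (hι : Fintype.card ι = 2 * m) (c : Fin m ⊕ Fin m → (ι → F)) (hc : LinearIndependent F c)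
    (hiso : ∀ i j : Fin m, c (Sum.inl i) ⬝ᵥ c (Sum.inl j) = 0) : IsSquare ((-1 : F) ^ m) := by
  have hcard : Fintype.card (Fin m ⊕ Fin m) = Fintype.card ι := by
    rw [hι]; simp; ring
  let e : (Fin m ⊕ Fin m) ≃ ι := Fintype.equivOfCardEq hcard
  set A : Matrix (Fin m ⊕ Fin m) (Fin m ⊕ Fin m) F := Matrix.of fun x y => c y (e x) with hA
  have hAunit : IsUnit A := by
    rw [← Matrix.linearIndependent_cols_iff_isUnit]
    have : A.col = fun y => (LinearEquiv.funCongrLeft F F e) (c y) := by
      funext y x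
      simp [hA, Matrix.col, LinearEquiv.funCongrLeft]
    rw [this]
    exact hc.map' _ (LinearEquiv.ker _)
  have hdetA : A.det ≠ 0 := by
    have := (Matrix.isUnit_iff_isUnit_det A).mp hAunit
    exact this.ne_zero
  set G : Matrix (Fin m ⊕ Fin m) (Fin m ⊕ Fin m) F := Aᵀ * A with hG
  have hGapp : ∀ y z, G y z = c y ⬝ᵥ c z := by
    intro y z
    simp only [hG, Matrix.mul_apply, Matrix.transpose_apply, hA, Matrix.of_apply, dotProduct]
    exact Equiv.sum_comp e (fun k => c y k * c z k)
  have hG11 : G.toBlocks₁₁ = 0 := by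
    ext i j
    simp [Matrix.toBlocks₁₁, hGapp, hiso]
  have hG21 : G.toBlocks₂₁ = G.toBlocks₁₂ᵀ := by
    ext i j
    simp [Matrix.toBlocks₂₁, Matrix.toBlocks₁₂, hGapp, dotProduct_comm]
  have hGJ : G * Matrix.J (Fin m) F
      = Matrix.fromBlocks G.toBlocks₁₂ 0 G.toBlocks₂₂ (-G.toBlocks₁₂ᵀ) := by
    conv_lhs => rw [← Matrix.fromBlocks_toBlocks G, hG11, hG21]
    rw [Matrix.J, Matrix.fromBlocks_multiply]
    simp
  have hdetJ : (Matrix.J (Fin m) F).det = 1 :=
    SymplecticGroup.det_eq_one (SymplecticGroup.J_mem _ _)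
  have hdetG : G.det = A.det * A.det := by
    rw [hG, Matrix.det_mul, Matrix.det_transpose]
  have h1 : G.det = G.toBlocks₁₂.det * ((-1) ^ m * G.toBlocks₁₂.det) := by
    have := congrArg Matrix.det hGJ
    rw [Matrix.det_mul, hdetJ, mul_one, Matrix.det_fromBlocks_zero₁₂, Matrix.det_neg,
      Matrix.det_transpose, Fintype.card_fin] at this
    exact this
  have hP : G.toBlocks₁₂.det ≠ 0 := by
    intro h0
    rw [h0, zero_mul, hdetG] at h1
    exact hdetA (mul_self_eq_zero.mp h1)
  refine ⟨A.det / G.toBlocks₁₂.det, ?_⟩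
  rw [hdetG] at h1
  field_simp
  linear_combination -h1

theorem dot_eq_zero_of_totally_singular (h2 : (2 : F) ≠ 0) {ι : Type*} [Fintype ι]
    (W : Submodule F (ι → F)) (hW : ∀ w ∈ W, ∑ i, w i ^ 2 = 0) {x y : ι → F} (hx : x ∈ W)
    (hy : y ∈ W) : x ⬝ᵥ y = 0 := by
  have h1 := hW _ (W.add_mem hx hy)
  have h3 : ∑ i, (x + y) i ^ 2 = ∑ i, x i ^ 2 + ∑ i, y i ^ 2 + 2 * (x ⬝ᵥ y) := by
    simp only [dotProduct, Finset.mul_sum, ← Finset.sum_add_distrib, Pi.add_apply]
    refine Finset.sum_congr rfl fun i _ => ?_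
    ring
  rw [h3, hW x hx, hW y hy, zero_add, zero_add] at h1
  exact (mul_eq_zero.mp h1).resolve_left h2

/-- the `only if` direction -/
theorem isSquare_neg_one_pow_of_exists (h2 : (2 : F) ≠ 0) (m : ℕ)
    (W : Submodule F (Fin (2 * m) → F)) (hdim : Module.finrank F W = m)
    (hW : ∀ w ∈ W, ∑ i, w i ^ 2 = 0) : IsSquare ((-1 : F) ^ m) := by
  obtain ⟨W', hcompl⟩ := Submodule.exists_isCompl W
  have hdim' : Module.finrank F W' = m := by
    have := Submodule.finrank_add_eq_of_isCompl hcompl
    rw [hdim, Module.finrank_fintype_fun_eq_card, Fintype.card_fin] at this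
    omega
  let b := Module.finBasisOfFinrankEq F W hdim
  let b' := Module.finBasisOfFinrankEq F W' hdim'
  have hbli : LinearIndependent F (fun i => (b i : Fin (2 * m) → F)) :=
    b.linearIndependent.map' W.subtype (Submodule.ker_subtype W)
  have hb'li : LinearIndependent F (fun i => (b' i : Fin (2 * m) → F)) :=
    b'.linearIndependent.map' W'.subtype (Submodule.ker_subtype W')
  have hbspan : Submodule.span F (Set.range (fun i => (b i : Fin (2 * m) → F))) = W := by
    have : (fun i => (b i : Fin (2 * m) → F)) = W.subtype ∘ b := rfl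
    rw [this, Set.range_comp, Submodule.span_image, b.span_eq, Submodule.map_subtype_top]
  have hb'span : Submodule.span F (Set.range (fun i => (b' i : Fin (2 * m) → F))) = W' := by
    have : (fun i => (b' i : Fin (2 * m) → F)) = W'.subtype ∘ b' := rfl
    rw [this, Set.range_comp, Submodule.span_image, b'.span_eq, Submodule.map_subtype_top]
  have hli : LinearIndependent F
      (Sum.elim (fun i => (b i : Fin (2 * m) → F)) (fun i => (b' i : Fin (2 * m) → F))) := by
    apply LinearIndependent.sum_type hbli hb'li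
    rw [hbspan, hb'span]
    exact hcompl.disjoint
  apply isSquare_neg_one_pow_of_isotropic (ι := Fin (2 * m)) (by simp) _ hli
  intro i j
  simp only [Sum.elim_inl]
  exact dot_eq_zero_of_totally_singular h2 W hW (b i).2 (b j).2

/-- general construction of a totally singular subspace from an injective linear map -/
theorem exists_of_map {κ ι : Type*} [Fintype κ] [Fintype ι] [DecidableEq ι] {m : ℕ}
    (hκ : Fintype.card κ = m) (hι : Fintype.card ι = 2 * m)
    (T : (κ → F) →ₗ[F] (ι → F)) (hT : Function.Injective T)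
    (hsq : ∀ a, ∑ i, T a i ^ 2 = 0) :
    ∃ W : Submodule F (Fin (2 * m) → F), Module.finrank F W = m ∧ ∀ w ∈ W, ∑ i, w i ^ 2 = 0 := by
  have hcard : Fintype.card (Fin (2 * m)) = Fintype.card ι := by rw [hι]; simp
  let e : Fin (2 * m) ≃ ι := Fintype.equivOfCardEq hcard
  let T' : (κ → F) →ₗ[F] (Fin (2 * m) → F) :=
    (LinearEquiv.funCongrLeft F F e).toLinearMap.comp T
  have hT' : Function.Injective T' := by
    intro x y hxy
    apply hT
    exact (LinearEquiv.funCongrLeft F F e).injective hxy
  refine ⟨LinearMap.range T', ?_, ?_⟩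
  · rw [LinearMap.finrank_range_of_inj hT', Module.finrank_fintype_fun_eq_card, hκ]
  · rintro _ ⟨a, rfl⟩
    have : ∀ k, T' a k = T a (e k) := fun k => rfl
    simp only [this]
    rw [Equiv.sum_comp e (fun i => T a i ^ 2)]
    exact hsq a

/-- case `-1` a square -/
theorem exists_of_isSquare_neg_one (m : ℕ) (h : IsSquare (-1 : F)) :
    ∃ W : Submodule F (Fin (2 * m) → F), Module.finrank F W = m ∧ ∀ w ∈ W, ∑ i, w i ^ 2 = 0 := by
  obtain ⟨s, hs⟩ := h
  let T : (Fin m → F) →ₗ[F] (Fin m ⊕ Fin m → F) :=
    { toFun := fun a => Sum.elim a (s • a)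
      map_add' := by
        intro a b
        funext x
        rcases x with i | i <;> simp [mul_add]
      map_smul' := by
        intro c a
        funext x
        rcases x with i | i <;> simp [mul_left_comm] }
  apply exists_of_map (κ := Fin m) (ι := Fin m ⊕ Fin m) (by simp) (by simp; ring) T
  · intro a b hab
    funext i
    have := congrFun hab (Sum.inl i)
    simpa [T] using this
  · intro a
    rw [Fintype.sum_sum_type]
    simp only [T, LinearMap.coe_mk, AddHom.coe_mk, Sum.elim_inl, Sum.elim_inr, Pi.smul_apply,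
      smul_eq_mul]
    rw [← Finset.sum_add_distrib]
    refine Finset.sum_eq_zero fun i _ => ?_
    linear_combination (a i ^ 2) * (-hs)

/-- case `m` even -/
theorem exists_of_even [Fintype F] (h2 : (2 : F) ≠ 0) (t : ℕ) :
    ∃ W : Submodule F (Fin (2 * (2 * t)) → F), Module.finrank F W = 2 * t ∧
      ∀ w ∈ W, ∑ i, w i ^ 2 = 0 := by
  -- `a² + b² = -1`
  obtain ⟨a, b, hab⟩ : ∃ a b : F, a ^ 2 + b ^ 2 + 1 = 0 := by
    have hodd : Fintype.card F % 2 = 1 :=
      FiniteField.odd_card_of_char_ne_two (ringChar_ne_two_of_two_ne_zero h2)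
    have hf : Polynomial.degree (Polynomial.X ^ 2 : Polynomial F) = 2 := Polynomial.degree_X_pow 2
    have hg : Polynomial.degree (Polynomial.X ^ 2 + Polynomial.C 1 : Polynomial F) = 2 := by
      rw [Polynomial.degree_add_eq_left_of_degree_lt]
      · exact Polynomial.degree_X_pow 2
      · rw [Polynomial.degree_X_pow 2]
        exact lt_of_le_of_lt Polynomial.degree_C_le (by norm_num)
    obtain ⟨a, b, h⟩ := FiniteField.exists_root_sum_quadratic hf hg hodd
    refine ⟨a, b, ?_⟩
    simp only [Polynomial.eval_add, Polynomial.eval_pow, Polynomial.eval_X, Polynomial.eval_C] at h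
    linear_combination h
  let T : (Fin t ⊕ Fin t → F) →ₗ[F] ((Fin t ⊕ Fin t) ⊕ (Fin t ⊕ Fin t) → F) :=
    { toFun := fun z => Sum.elim z (Sum.elim
        (fun i => a * z (Sum.inl i) - b * z (Sum.inr i))
        (fun i => b * z (Sum.inl i) + a * z (Sum.inr i)))
      map_add' := by
        intro z z'
        funext x
        rcases x with x | x
        · simp
        · rcases x with i | i <;> simp <;> ring
      map_smul' := by
        intro c z
        funext x
        rcases x with x | x
        · simp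
        · rcases x with i | i <;> simp <;> ring }
  apply exists_of_map (κ := Fin t ⊕ Fin t) (ι := (Fin t ⊕ Fin t) ⊕ (Fin t ⊕ Fin t))
    (by simp; ring) (by simp; ring) T
  · intro z z' hzz
    funext x
    have := congrFun hzz (Sum.inl x)
    simpa [T] using this
  · intro z
    simp only [Fintype.sum_sum_type, T, LinearMap.coe_mk, AddHom.coe_mk, Sum.elim_inl,
      Sum.elim_inr]
    rw [← Finset.sum_add_distrib, ← Finset.sum_add_distrib, ← Finset.sum_add_distrib]
    refine Finset.sum_eq_zero fun i _ => ?_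
    linear_combination (z (Sum.inl i) ^ 2 + z (Sum.inr i) ^ 2) * hab

/-- Type of the orthonormal form: over a finite field of odd order q and for m ≥ 1, the quadratic form Σ_(i<2m) x_i² on F^(2m) admits an m-dimensional subspace on which it vanishes identically if and only if it is not the case that q ≡ 3 (mod 4) and m is odd. -/
theorem result {F : Type*} [Field F] [Fintype F] (h2 : (2 : F) ≠ 0) (m : ℕ) (hm : 1 ≤ m) : (∃ W : Submodule F (Fin (2 * m) → F), Module.finrank F W = m ∧ ∀ w ∈ W, ∑ i, w i ^ 2 = 0) ↔ ¬ (Fintype.card F % 4 = 3 ∧ Odd m) := by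
  constructor
  · rintro ⟨W, hdim, hW⟩ ⟨h3, hodd⟩
    have := isSquare_neg_one_pow_of_exists h2 m W hdim hW
    rw [hodd.neg_one_pow, FiniteField.isSquare_neg_one_iff] at this
    exact this h3
  · intro h
    by_cases hsq : IsSquare (-1 : F)
    · exact exists_of_isSquare_neg_one m hsq
    · have h3 : Fintype.card F % 4 = 3 := (not_isSquare_neg_one_iff_mod_four_eq_three).mp hsq
      have hev : Even m := by
        rw [← Nat.not_odd_iff_even]
        exact fun ho => h ⟨h3, ho⟩
      obtain ⟨t, rfl⟩ := hev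
      have := exists_of_even (F := F) h2 t
      rwa [← two_mul] at *

end Cfsg.Agent.S0759
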