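import Cfsg.Statements.S0761

set_option autoImplicit false
open Cfsg

namespace Cfsg.Agent.S0761

/-- Hyperbolic partners: let B be a non-degenerate bilinear form on a finite-dimensional space, either alternating, or symmetric with 2 ≠ 0. If Z is a subspace on which B vanishes, x ∉ Z is isotropic and orthogonal to Z, then there is an isotropic y with B x y = 1 which is orthogonal to Z. -/
theorem result {F V : Type*} [Field F] [AddCommGroup V] [Module F V] [FiniteDimensional F V] (B : LinearMap.BilinForm F V) (hB : B.Nondegenerate) (hform : B.IsAlt ∨ (B.IsSymm ∧ (2 : F) ≠ 0)) (x : V) (Z : Submodule F V) (hxZ : x ∉ Z) (hx : B x x = 0) (hxz : ∀ z ∈ Z, B x z = 0) (hZ : ∀ z ∈ Z, ∀ z' ∈ Z, B z z' = 0) : ∃ y : V, B y y = 0 ∧ B x y = 1 ∧ ∀ z ∈ Z, B z y = 0 := by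
  have hrefl : B.IsRefl := by
    rcases hform with h | ⟨h, -⟩
    · exact h.isRefl
    · exact h.isRefl
  -- find `y0 ⊥ Z` with `B x y0 ≠ 0`
  have hex : ∃ y0 ∈ B.orthogonal Z, B x y0 ≠ 0 := by
    by_contra hcon
    push Not at hcon
    apply hxZ
    rw [← LinearMap.BilinForm.orthogonal_orthogonal hB hrefl Z]
    intro n hn
    exact hrefl _ _ (hcon n hn)
  obtain ⟨y0, hy0, hxy0⟩ := hex
  set y1 : V := (B x y0)⁻¹ • y0 with hy1def
  have hxy1 : B x y1 = 1 := by
    rw [hy1def, map_smul, smul_eq_mul, inv_mul_cancel₀ hxy0]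
  have hy1Z : ∀ z ∈ Z, B z y1 = 0 := by
    intro z hz
    rw [hy1def, map_smul, smul_eq_mul]
    have : B z y0 = 0 := hy0 z hz
    rw [this, mul_zero]
  have hxZ' : ∀ z ∈ Z, B z x = 0 := fun z hz => hrefl _ _ (hxz z hz)
  rcases hform with halt | ⟨hsymm, h2⟩
  · exact ⟨y1, halt y1, hxy1, hy1Z⟩
  · have hy1x : B y1 x = 1 := by rw [← hsymm.eq x y1]; simpa using hxy1
    refine ⟨y1 + (-(B y1 y1) / 2) • x, ?_, ?_, ?_⟩
    · simp only [map_add, map_smul, LinearMap.add_apply, LinearMap.smul_apply, smul_eq_mul, hx,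
        hxy1, hy1x]
      field_simp
      ring
    · simp only [map_add, map_smul, smul_eq_mul, hx, hxy1]
      ring
    · intro z hz
      simp only [map_add, map_smul, smul_eq_mul, hy1Z z hz, hxZ' z hz]
      ring

end Cfsg.Agent.S0761
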