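import Cfsg.Statements.S0763

set_option autoImplicit false
open Cfsg

namespace Cfsg.Agent.S0763

variable {F V : Type*} [Field F] [AddCommGroup V] [Module F V]

theorem two_eq_zero [CharP F 2] : (2 : F) = 0 := by
  have := CharP.cast_eq_zero F 2
  simpa using this

theorem polar_self_eq_zero [CharP F 2] (Q : QuadraticForm F V) (v : V) :
    QuadraticMap.polar (⇑Q) v v = 0 := by
  rw [QuadraticMap.polar_self, two_smul]
  have : Q v + Q v = 2 * Q v := by ring
  rw [this, two_eq_zero, zero_mul]

theorem linearIndependent_of_polar_eq_one [CharP F 2] (Q : QuadraticForm F V) {v w : V}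
    (h : QuadraticMap.polar (⇑Q) v w = 1) : LinearIndependent F ![v, w] := by
  rw [LinearIndependent.pair_iff]
  intro s t hst
  have h1 : QuadraticMap.polar (⇑Q) (s • v + t • w) w = 0 := by
    rw [hst]; exact QuadraticMap.polar_zero_left Q w
  have h2 : QuadraticMap.polar (⇑Q) v (s • v + t • w) = 0 := by
    rw [hst]; exact QuadraticMap.polar_zero_right Q v
  rw [QuadraticMap.polar_add_left, QuadraticMap.polar_smul_left, QuadraticMap.polar_smul_left, h,
    polar_self_eq_zero] at h1
  rw [QuadraticMap.polar_add_right, QuadraticMap.polar_smul_right, QuadraticMap.polar_smul_right, h,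
    polar_self_eq_zero] at h2
  constructor
  · simpa using h1
  · simpa using h2

theorem exists_polar_eq_one (Q : QuadraticForm F V)
    (hQ : (QuadraticMap.polarBilin Q).Nondegenerate) {v : V} (hv : v ≠ 0) :
    ∃ w, QuadraticMap.polar (⇑Q) v w = 1 := by
  have : ∃ w0, QuadraticMap.polar (⇑Q) v w0 ≠ 0 := by
    by_contra hcon
    push Not at hcon
    exact hv (hQ.1 v hcon)
  obtain ⟨w0, hw0⟩ := this
  refine ⟨(QuadraticMap.polar (⇑Q) v w0)⁻¹ • w0, ?_⟩
  rw [QuadraticMap.polar_smul_right, smul_eq_mul, inv_mul_cancel₀ hw0]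

/-- Binary quadratic forms in characteristic two over a finite field: if Q is a quadratic form on a 2-dimensional space whose polar form is non-degenerate, then either there are vectors v, w with Q v = Q w = 0 and polar value 1 (Q is xy in these coordinates), or there are v, w and μ with Q v = 1, Q w = μ, polar value 1 and x² + x + μ without roots in F (Q is x² + xy + μy²). -/
theorem result {F V : Type*} [Field F] [Finite F] [CharP F 2] [AddCommGroup V] [Module F V] (Q : QuadraticForm F V) (h2 : Module.finrank F V = 2) (hQ : (QuadraticMap.polarBilin Q).Nondegenerate) : (∃ v w : V, LinearIndependent F ![v, w] ∧ Q v = 0 ∧ Q w = 0 ∧ QuadraticMap.polar Q v w = 1) ∨ (∃ (v w : V) (μ : F), LinearIndependent F ![v, w] ∧ (∀ x : F, x ^ 2 + x + μ ≠ 0) ∧ Q v = 1 ∧ Q w = μ ∧ QuadraticMap.polar Q v w = 1) := by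
  have h20 : (2 : F) = 0 := two_eq_zero
  by_cases hiso : ∃ v : V, v ≠ 0 ∧ Q v = 0
  · left
    obtain ⟨v, hv, hQv⟩ := hiso
    obtain ⟨w1, hw1⟩ := exists_polar_eq_one Q hQ hv
    have hvw : QuadraticMap.polar (⇑Q) v (w1 + Q w1 • v) = 1 := by
      rw [QuadraticMap.polar_add_right, QuadraticMap.polar_smul_right, polar_self_eq_zero, hw1]
      simp
    refine ⟨v, w1 + Q w1 • v, linearIndependent_of_polar_eq_one Q hvw, hQv, ?_, hvw⟩
    rw [QuadraticMap.map_add Q, QuadraticMap.map_smul, hQv, QuadraticMap.polar_smul_right,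
      QuadraticMap.polar_comm (⇑Q) w1 v, hw1]
    simp only [smul_eq_mul, mul_zero, add_zero, mul_one]
    linear_combination Q w1 * h20
  · right
    push Not at hiso
    have hnt : Nontrivial V := Module.nontrivial_of_finrank_pos (R := F) (by omega)
    obtain ⟨v0, hv0⟩ := exists_ne (0 : V)
    have ha : Q v0 ≠ 0 := hiso v0 hv0
    obtain ⟨s, hs⟩ := FiniteField.isSquare_of_char_two (F := F) (ringChar.eq F 2) (Q v0)
    have hs0 : s ≠ 0 := by
      rintro rfl
      rw [mul_zero] at hs
      exact ha hs
    set v : V := s⁻¹ • v0 with hvdef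
    have hv : v ≠ 0 := smul_ne_zero (inv_ne_zero hs0) hv0
    have hQv : Q v = 1 := by
      rw [hvdef, QuadraticMap.map_smul, hs, smul_eq_mul]
      field_simp
    obtain ⟨w, hw⟩ := exists_polar_eq_one Q hQ hv
    have hind := linearIndependent_of_polar_eq_one Q hw
    refine ⟨v, w, Q w, hind, ?_, hQv, rfl, hw⟩
    intro x hx
    have hne : x • v + w ≠ 0 := by
      intro h0
      have := (LinearIndependent.pair_iff.mp hind) x 1 (by rwa [one_smul])
      exact one_ne_zero this.2
    apply hiso _ hne
    rw [QuadraticMap.map_add Q, QuadraticMap.map_smul, hQv, QuadraticMap.polar_smul_left, hw]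
    simp only [smul_eq_mul, mul_one]
    linear_combination hx

end Cfsg.Agent.S0763
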