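import Cfsg.Statements.S0768
import Cfsg.Agent.Helper13.SympPrim

set_option autoImplicit false
open scoped LinearAlgebra.Projectivization
open Cfsg

namespace Cfsg.Agent.S0768

open Cfsg.Agent.Helper13 Matrix
open scoped Pointwise

variable {F : Type*} [Field F] {m : ℕ}

local notation "Vec" => (Fin m ⊕ Fin m → F)
local notation "Mat" => Matrix (Fin m ⊕ Fin m) (Fin m ⊕ Fin m) F

/-- a symplectic matrix as an element of `spGL` -/
noncomputable def toSpGL (A : Matrix.symplecticGroup (Fin m) F) : ↥(Cfsg.spGL m F) :=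
  ⟨Matrix.GeneralLinearGroup.mk'' (A : Mat) (SymplecticGroup.symplectic_det A.2), by
    intro u v
    exact (mem_symplecticGroup_iff_preserves _).mp A.2 u v⟩

theorem toSpGL_smul_vec (A : Matrix.symplecticGroup (Fin m) F) (v : Vec) :
    ((toSpGL A : ↥(Cfsg.spGL m F)) : Matrix.GeneralLinearGroup (Fin m ⊕ Fin m) F) • v
      = (A : Mat) *ᵥ v := rfl

theorem mulVec_ne_zero (A : Matrix.symplecticGroup (Fin m) F) {v : Vec} (hv : v ≠ 0) :
    (A : Mat) *ᵥ v ≠ 0 := by
  rw [← toSpGL_smul_vec]
  exact (smul_ne_zero_iff_ne _).mpr hv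

theorem toSpGL_smul_mk (A : Matrix.symplecticGroup (Fin m) F) (v : Vec) (hv : v ≠ 0) :
    toSpGL A • Projectivization.mk F v hv
      = Projectivization.mk F ((A : Mat) *ᵥ v) (mulVec_ne_zero A hv) := by
  change ((toSpGL A : ↥(Cfsg.spGL m F)) : Matrix.GeneralLinearGroup (Fin m ⊕ Fin m) F) •
    Projectivization.mk F v hv = _
  rw [Projectivization.smul_mk]
  rfl

theorem mk_smul_eq (w : Vec) (hw : w ≠ 0) (c : F) (hc : c ≠ 0) :
    Projectivization.mk F (c • w) (smul_ne_zero hc hw) = Projectivization.mk F w hw := by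
  rw [Projectivization.mk_eq_mk_iff]
  exact ⟨Units.mk0 c hc, rfl⟩

theorem block_step {B : Set (ℙ F Vec)} (hB : MulAction.IsBlock ↥(Cfsg.spGL m F) B) {u v : Vec}
    (hu : u ≠ 0) (hv : v ≠ 0) (huB : Projectivization.mk F u hu ∈ B)
    (hvB : Projectivization.mk F v hv ∈ B) (A : Matrix.symplecticGroup (Fin m) F)
    (hAu : (A : Mat) *ᵥ u = u) {w : Vec} (hw : w ≠ 0) (c : F) (hc : c ≠ 0)
    (hAv : (A : Mat) *ᵥ v = c • w) : Projectivization.mk F w hw ∈ B := by
  have h1 : toSpGL A • Projectivization.mk F u hu ∈ B := by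
    rw [toSpGL_smul_mk]
    simp only [hAu]
    exact huB
  have h2 : toSpGL A • B = B := hB.smul_eq_of_mem huB h1
  have h3 : toSpGL A • Projectivization.mk F v hv ∈ toSpGL A • B := Set.smul_mem_smul_set hvB
  rw [h2, toSpGL_smul_mk] at h3
  simp only [hAv] at h3
  rwa [mk_smul_eq w hw c hc] at h3

/-- closure of a block under the non-orthogonal suborbit -/
theorem block_nonorth {B : Set (ℙ F Vec)} (hB : MulAction.IsBlock ↥(Cfsg.spGL m F) B) {u v w : Vec}
    (hu : u ≠ 0) (hv : v ≠ 0) (hw : w ≠ 0) (huB : Projectivization.mk F u hu ∈ B)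
    (hvB : Projectivization.mk F v hv ∈ B) (h : Cfsg.sympForm m F u v ≠ 0)
    (h' : Cfsg.sympForm m F u w ≠ 0) : Projectivization.mk F w hw ∈ B := by
  obtain ⟨A, hAu, c, hc, hAv⟩ := exists_symp_fix_map_nonorth h h'
  exact block_step hB hu hv huB hvB A hAu hw c hc hAv

/-- closure of a block under the orthogonal suborbit -/
theorem block_orth {B : Set (ℙ F Vec)} (hB : MulAction.IsBlock ↥(Cfsg.spGL m F) B) {u v w : Vec}
    (hu : u ≠ 0) (hv : v ≠ 0) (hw : w ≠ 0) (huB : Projectivization.mk F u hu ∈ B)
    (hvB : Projectivization.mk F v hv ∈ B) (h : Cfsg.sympForm m F u v = 0)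
    (h' : Cfsg.sympForm m F u w = 0) (hvu : ∀ c : F, v ≠ c • u) (hwu : ∀ c : F, w ≠ c • u) :
    Projectivization.mk F w hw ∈ B := by
  obtain ⟨A, hAu, hAv⟩ := exists_symp_fix_map_orth hu h h' hvu hwu
  exact block_step hB hu hv huB hvB A hAu hw 1 one_ne_zero (by rw [hAv, one_smul])

theorem block_eq_univ {B : Set (ℙ F Vec)} (hB : MulAction.IsBlock ↥(Cfsg.spGL m F) B) {u v : Vec}
    (hu : u ≠ 0) (hv : v ≠ 0) (huB : Projectivization.mk F u hu ∈ B)
    (hvB : Projectivization.mk F v hv ∈ B)
    (hne : Projectivization.mk F u hu ≠ Projectivization.mk F v hv) : B = Set.univ := by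
  have hvu : ∀ c : F, v ≠ c • u := by
    intro c hc
    apply hne
    have hc0 : c ≠ 0 := by
      rintro rfl
      rw [zero_smul] at hc
      exact hv hc
    subst hc
    exact (mk_smul_eq u hu c hc0).symm
  rw [Set.eq_univ_iff_forall]
  intro p
  induction p using Projectivization.ind with
  | h w hw =>
  -- multiples of `u`
  by_cases hwu : ∃ c : F, w = c • u
  · obtain ⟨c, rfl⟩ := hwu
    have hc0 : c ≠ 0 := by
      rintro rfl
      rw [zero_smul] at hw
      exact hw rfl
    rw [mk_smul_eq u hu c hc0]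
    exact huB
  push Not at hwu
  by_cases huv : Cfsg.sympForm m F u v = 0
  · -- orthogonal case
    by_cases huw : Cfsg.sympForm m F u w = 0
    · exact block_orth hB hu hv hw huB hvB huv huw hvu hwu
    · set z : Vec := v - (Cfsg.sympForm m F v w / Cfsg.sympForm m F u w) • u with hz
      have hzu : ∀ c : F, z ≠ c • u := by
        intro c hc
        apply hvu (c + Cfsg.sympForm m F v w / Cfsg.sympForm m F u w)
        rw [add_smul, ← hc, hz]
        abel
      have hz0 : z ≠ 0 := by
        intro h0
        exact hzu 0 (by rw [h0, zero_smul])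
      have huz : Cfsg.sympForm m F u z = 0 := by
        rw [hz, sympForm_sub_right, sympForm_smul_right, sympForm_self, huv, mul_zero, sub_zero]
      have hzw : Cfsg.sympForm m F z w = 0 := by
        rw [hz, sympForm_sub_left, sympForm_smul_left]
        field_simp
        ring
      have hzB : Projectivization.mk F z hz0 ∈ B :=
        block_orth hB hu hv hz0 huB hvB huv huz hvu hzu
      have hzu' : Cfsg.sympForm m F z u = 0 := by rw [sympForm_swap, huz, neg_zero]
      refine block_orth hB hz0 hu hw hzB huB hzu' hzw ?_ ?_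
      · intro c hc
        apply huw
        rw [hc, sympForm_smul_left, hzw, mul_zero]
      · intro c hc
        apply huw
        rw [hc, sympForm_smul_right, huz, mul_zero]
  · -- non-orthogonal case
    by_cases huw : Cfsg.sympForm m F u w = 0
    · obtain ⟨r, hru, hrw⟩ := exists_sympForm_ne_zero_both hu hw
      have hr0 : r ≠ 0 := by
        rintro rfl
        rw [sympForm_zero_left] at hru
        exact hru rfl
      have hur : Cfsg.sympForm m F u r ≠ 0 := by
        rw [sympForm_swap]; exact neg_ne_zero.mpr hru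
      have hrB : Projectivization.mk F r hr0 ∈ B := block_nonorth hB hu hv hr0 huB hvB huv hur
      exact block_nonorth hB hr0 hu hw hrB huB hru hrw
    · exact block_nonorth hB hu hv hw huB hvB huv huw

/-- Primitivity: for m ≥ 1 and F finite, the symplectic group of the form sympForm (as a subgroup of the general linear group) acts primitively on the projective space of F^(2m). -/
theorem result {F : Type*} [Field F] [Finite F] (m : ℕ) (hm : 1 ≤ m) : MulAction.IsPreprimitive ↥(Cfsg.spGL m F) (ℙ F (Fin m ⊕ Fin m → F)) := by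
  have htrans : MulAction.IsPretransitive ↥(Cfsg.spGL m F) (ℙ F (Fin m ⊕ Fin m → F)) := by
    refine ⟨fun p q => ?_⟩
    induction p using Projectivization.ind with
    | h u hu =>
    induction q using Projectivization.ind with
    | h w hw =>
    obtain ⟨A, -, hA⟩ := exists_transvection_map_of_ne_zero hu hw
    refine ⟨toSpGL A, ?_⟩
    rw [toSpGL_smul_mk]
    simp only [hA]
  refine { toIsPretransitive := htrans, isTrivialBlock_of_isBlock := ?_ }
  intro B hB
  by_cases hsub : B.Subsingleton
  · exact Or.inl hsub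
  · right
    rw [Set.not_subsingleton_iff] at hsub
    obtain ⟨p, hp, q, hq, hne⟩ := hsub
    induction p using Projectivization.ind with
    | h u hu =>
    induction q using Projectivization.ind with
    | h v hv =>
    exact block_eq_univ hB hu hv hp hq hne

end Cfsg.Agent.S0768
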