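import Cfsg.Statements.S0770

set_option autoImplicit false
open Cfsg

namespace Cfsg.Agent.S0770

open Matrix

variable {F : Type*} [Field F] {n : ℕ}

/-- the diagonal torus -/
abbrev torus (n : ℕ) (F : Type*) [Field F] : Subgroup (Matrix.GeneralLinearGroup (Fin n) F) :=
  (Units.map (Matrix.diagonalRingHom (Fin n) F).toMonoidHom).range

theorem mem_torus_iff (h : Matrix.GeneralLinearGroup (Fin n) F) :
    h ∈ torus n F ↔ ∃ d : Fin n → F, (h : Matrix (Fin n) (Fin n) F) = Matrix.diagonal d := by
  constructor
  · rintro ⟨u, rfl⟩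
    exact ⟨(u : Fin n → F), rfl⟩
  · rintro ⟨d, hd⟩
    have hdet : (h : Matrix (Fin n) (Fin n) F).det ≠ 0 := by
      have := (Matrix.GeneralLinearGroup.det h).ne_zero
      simpa using this
    rw [hd, Matrix.det_diagonal] at hdet
    have hd0 : ∀ i, d i ≠ 0 := fun i => by
      intro h0
      exact hdet (Finset.prod_eq_zero (Finset.mem_univ i) h0)
    refine ⟨⟨d, fun i => (d i)⁻¹, ?_, ?_⟩, ?_⟩
    · funext i; simp [hd0 i]
    · funext i; simp [hd0 i]
    · apply Units.ext
      rw [hd]
      rfl

/-- `g h g⁻¹` is diagonal iff `g h = d g` for some diagonal `d` -/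
theorem conj_mem_torus_iff (g h : Matrix.GeneralLinearGroup (Fin n) F) :
    g * h * g⁻¹ ∈ torus n F ↔ ∃ d : Fin n → F,
      (g : Matrix (Fin n) (Fin n) F) * (h : Matrix (Fin n) (Fin n) F)
        = Matrix.diagonal d * (g : Matrix (Fin n) (Fin n) F) := by
  rw [mem_torus_iff]
  constructor
  · rintro ⟨d, hd⟩
    refine ⟨d, ?_⟩
    rw [← hd, ← Matrix.GeneralLinearGroup.coe_mul, ← Matrix.GeneralLinearGroup.coe_mul,
      inv_mul_cancel_right, Matrix.GeneralLinearGroup.coe_mul]
  · rintro ⟨d, hd⟩
    refine ⟨d, ?_⟩
    have : (g * h * g⁻¹ : Matrix.GeneralLinearGroup (Fin n) F)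
        = (⟨_, _, (g * h * g⁻¹).val_inv, (g * h * g⁻¹).inv_val⟩ : (Matrix (Fin n) (Fin n) F)ˣ) := rfl
    have h1 : ((g * h * g⁻¹ : Matrix.GeneralLinearGroup (Fin n) F) : Matrix (Fin n) (Fin n) F)
        * (g : Matrix (Fin n) (Fin n) F) = Matrix.diagonal d * (g : Matrix (Fin n) (Fin n) F) := by
      rw [← hd, ← Matrix.GeneralLinearGroup.coe_mul, ← Matrix.GeneralLinearGroup.coe_mul,
        inv_mul_cancel_right]
    have hg : IsUnit (g : Matrix (Fin n) (Fin n) F) := ⟨g, rfl⟩
    exact hg.mul_left_injective h1

/-- a row of an invertible matrix is non-zero -/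
theorem exists_ne_zero_row (g : Matrix.GeneralLinearGroup (Fin n) F) (i : Fin n) :
    ∃ j, (g : Matrix (Fin n) (Fin n) F) i j ≠ 0 := by
  by_contra hcon
  push Not at hcon
  have hdet : (g : Matrix (Fin n) (Fin n) F).det ≠ 0 := by
    have := (Matrix.GeneralLinearGroup.det g).ne_zero
    simpa using this
  exact hdet (Matrix.det_eq_zero_of_row_eq_zero i hcon)

/-- For a field with at least 3 elements, an invertible matrix normalises the subgroup of invertible diagonal matrices of GL_n if and only if it is monomial (exactly one non-zero entry in each row). -/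
theorem result {F : Type*} [Field F] (hF : ∃ a : F, a ≠ 0 ∧ a ≠ 1) (n : ℕ) (g : Matrix.GeneralLinearGroup (Fin n) F) : g ∈ Subgroup.normalizer ((Units.map (Matrix.diagonalRingHom (Fin n) F).toMonoidHom).range : Subgroup (Matrix.GeneralLinearGroup (Fin n) F)) ↔ ∀ i : Fin n, ∃! j : Fin n, (g : Matrix (Fin n) (Fin n) F) i j ≠ 0 := by
  rw [Subgroup.mem_normalizer_iff]
  constructor
  · intro hnorm i
    obtain ⟨j, hj⟩ := exists_ne_zero_row g i
    refine ⟨j, hj, ?_⟩
    intro k hk
    by_contra hkj
    obtain ⟨a, ha0, ha1⟩ := hF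
    -- the diagonal matrix with `a` at position `j`
    set d : Fin n → F := Function.update (fun _ => 1) j a with hd
    have hd0 : ∀ i, d i ≠ 0 := by
      intro i
      by_cases hij : i = j
      · subst hij; simp [hd, ha0]
      · simp [hd, Function.update_of_ne hij]
    have hdet : IsUnit (Matrix.diagonal d).det := by
      rw [Matrix.det_diagonal, isUnit_iff_ne_zero]
      exact Finset.prod_ne_zero_iff.mpr fun i _ => hd0 i
    set h : Matrix.GeneralLinearGroup (Fin n) F := Matrix.GeneralLinearGroup.mk'' _ hdet with hh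
    have hT : h ∈ torus n F := (mem_torus_iff h).mpr ⟨d, rfl⟩
    obtain ⟨d', hd'⟩ := (conj_mem_torus_iff g h).mp ((hnorm h).mp hT)
    have hcoe : (h : Matrix (Fin n) (Fin n) F) = Matrix.diagonal d := rfl
    rw [hcoe] at hd'
    have e1 := congrFun (congrFun hd' i) j
    have e2 := congrFun (congrFun hd' i) k
    rw [Matrix.mul_diagonal, Matrix.diagonal_mul] at e1 e2
    have hdj : d j = a := by simp [hd]
    have hdk : d k = 1 := by simp [hd, Function.update_of_ne hkj]
    rw [hdj] at e1
    rw [hdk, mul_one] at e2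
    have h1 : d' i = a := by
      have : (g : Matrix (Fin n) (Fin n) F) i j * (a - d' i) = 0 := by linear_combination e1
      rcases mul_eq_zero.mp this with h0 | h0
      · exact absurd h0 hj
      · exact (sub_eq_zero.mp h0).symm
    have h2 : d' i = 1 := by
      have : (g : Matrix (Fin n) (Fin n) F) i k * (1 - d' i) = 0 := by linear_combination e2
      rcases mul_eq_zero.mp this with h0 | h0
      · exact absurd h0 hk
      · exact (sub_eq_zero.mp h0).symm
    exact ha1 (h1.symm.trans h2)
  · intro hmono
    choose π hπ hπuniq using hmono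
    have hzero : ∀ i j, j ≠ π i → (g : Matrix (Fin n) (Fin n) F) i j = 0 := by
      intro i j hj
      by_contra h0
      exact hj (hπuniq i j h0)
    -- `π` is injective, hence bijective
    have hπinj : Function.Injective π := by
      intro i i' hii
      by_contra hne
      have hdet : (g : Matrix (Fin n) (Fin n) F).det ≠ 0 := by
        have := (Matrix.GeneralLinearGroup.det g).ne_zero
        simpa using this
      apply hdet
      -- rows `i` and `i'` are proportional
      set c : F := (g : Matrix (Fin n) (Fin n) F) i (π i) / (g : Matrix (Fin n) (Fin n) F) i' (π i')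
        with hc
      have hrow : ∀ j, (g : Matrix (Fin n) (Fin n) F) i j
          = c * (g : Matrix (Fin n) (Fin n) F) i' j := by
        intro j
        by_cases hj : j = π i
        · subst hj
          rw [hc, hii]
          field_simp [hπ i']
        · rw [hzero i j hj, hzero i' j (by rw [← hii]; exact hj), mul_zero]
      have h1 : Matrix.det (Matrix.updateRow (g : Matrix (Fin n) (Fin n) F) i
          ((g : Matrix (Fin n) (Fin n) F) i + (-c) • (g : Matrix (Fin n) (Fin n) F) i'))
          = (g : Matrix (Fin n) (Fin n) F).det :=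
        Matrix.det_updateRow_add_smul_self _ hne _
      rw [← h1]
      apply Matrix.det_eq_zero_of_row_eq_zero i
      intro j
      rw [Matrix.updateRow_self]
      simp only [Pi.add_apply, Pi.smul_apply, smul_eq_mul]
      rw [hrow j]
      ring
    have hπbij : Function.Bijective π := Finite.injective_iff_bijective.mp hπinj
    -- key: `g * diag d = diag (d ∘ π) * g`
    have key : ∀ d : Fin n → F, (g : Matrix (Fin n) (Fin n) F) * Matrix.diagonal d
        = Matrix.diagonal (d ∘ π) * (g : Matrix (Fin n) (Fin n) F) := by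
      intro d
      ext i j
      rw [Matrix.mul_diagonal, Matrix.diagonal_mul]
      by_cases hj : j = π i
      · subst hj
        simp [mul_comm]
      · rw [hzero i j hj]; simp
    intro h
    rw [conj_mem_torus_iff, mem_torus_iff]
    constructor
    · rintro ⟨d, hd⟩
      exact ⟨d ∘ π, by rw [hd, key]⟩
    · rintro ⟨d', hd'⟩
      obtain ⟨π', hπ'⟩ := Function.bijective_iff_has_inverse.mp hπbij
      refine ⟨d' ∘ π', ?_⟩
      have h1 := key (d' ∘ π')
      have h2 : (d' ∘ π') ∘ π = d' := by
        funext i
        simp [Function.comp, hπ'.1 i]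
      rw [h2, ← hd'] at h1
      have hg : IsUnit (g : Matrix (Fin n) (Fin n) F) := ⟨g, rfl⟩
      exact (hg.mul_right_injective h1).symm

end Cfsg.Agent.S0770
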