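import Cfsg.Statements.S0771

set_option autoImplicit false
open Cfsg

namespace Cfsg.Agent.S0771

open Matrix

variable {F : Type*} [Field F]

/-- the block reindexing `Fin k ⊕ Fin (n - k) ≃ Fin n` -/
def blockEquiv (n k : ℕ) (hk : k ≤ n) : Fin k ⊕ Fin (n - k) ≃ Fin n :=
  finSumFinEquiv.trans (finCongr (Nat.add_sub_cancel' hk))

theorem blockEquiv_inl (n k : ℕ) (hk : k ≤ n) (j : Fin k) :
    ((blockEquiv n k hk (Sum.inl j) : Fin n) : ℕ) = j := by
  simp [blockEquiv]

theorem blockEquiv_inr (n k : ℕ) (hk : k ≤ n) (j : Fin (n - k)) :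
    ((blockEquiv n k hk (Sum.inr j) : Fin n) : ℕ) = k + j := by
  simp [blockEquiv]

theorem blockEquiv_symm_of_lt (n k : ℕ) (hk : k ≤ n) (i : Fin n) (hi : (i : ℕ) < k) :
    (blockEquiv n k hk).symm i = Sum.inl ⟨i, hi⟩ := by
  rw [Equiv.symm_apply_eq]
  apply Fin.ext
  rw [blockEquiv_inl]

theorem blockEquiv_symm_of_le (n k : ℕ) (hk : k ≤ n) (i : Fin n) (hi : k ≤ (i : ℕ)) :
    (blockEquiv n k hk).symm i = Sum.inr ⟨i - k, by omega⟩ := by
  rw [Equiv.symm_apply_eq]
  apply Fin.ext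
  rw [blockEquiv_inr]
  simp only
  omega

/-- the coordinate subspace -/
def coordSet (F : Type*) [Field F] (n k : ℕ) : Set (Fin n → F) :=
  {v : Fin n → F | ∀ i : Fin n, k ≤ (i : ℕ) → v i = 0}

theorem mem_stabilizing_iff [Fintype F] (n k : ℕ) (g : Matrix.GeneralLinearGroup (Fin n) F) :
    g ∈ Cfsg.stabilizing (Cfsg.glToMat (Fin n) F) (coordSet F n k) ↔
      ∀ i j : Fin n, k ≤ (i : ℕ) → (j : ℕ) < k → (g : Matrix (Fin n) (Fin n) F) i j = 0 := by
  constructor
  · intro hg i j hi hj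
    have h1 : (Pi.single j (1 : F) : Fin n → F) ∈ coordSet F n k := by
      intro i' hi'
      have : i' ≠ j := by
        intro h
        rw [h] at hi'
        omega
      simp [this]
    have h2 := (hg _).mp h1 i hi
    simpa using h2
  · intro hg
    have hmaps : ∀ v ∈ coordSet F n k, (g : Matrix (Fin n) (Fin n) F) *ᵥ v ∈ coordSet F n k := by
      intro v hv i hi
      rw [Matrix.mulVec, dotProduct]
      apply Finset.sum_eq_zero
      intro j _
      by_cases hj : (j : ℕ) < k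
      · rw [hg i j hi hj, zero_mul]
      · rw [hv j (by omega), mul_zero]
    have hinj : Function.Injective (fun v : Fin n → F => (g : Matrix (Fin n) (Fin n) F) *ᵥ v) := by
      intro v w hvw
      have := congrArg (fun u => ((g⁻¹ : Matrix.GeneralLinearGroup (Fin n) F) :
        Matrix (Fin n) (Fin n) F) *ᵥ u) hvw
      simpa [Matrix.mulVec_mulVec, ← Matrix.GeneralLinearGroup.coe_mul] using this
    have hbij := (Set.Finite.injOn_iff_bijOn_of_mapsTo (Set.toFinite (coordSet F n k))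
      (f := fun v : Fin n → F => (g : Matrix (Fin n) (Fin n) F) *ᵥ v) hmaps).mp hinj.injOn
    intro v
    constructor
    · exact hmaps v
    · intro hv
      obtain ⟨w, hw, hwv⟩ := hbij.surjOn hv
      rw [← hinj hwv]
      exact hw

theorem toBlocks₂₁_eq_zero (n k : ℕ) (hk : k ≤ n) (M : Matrix (Fin n) (Fin n) F)
    (hM : ∀ i j : Fin n, k ≤ (i : ℕ) → (j : ℕ) < k → M i j = 0) :
    (M.submatrix (blockEquiv n k hk) (blockEquiv n k hk)).toBlocks₂₁ = 0 := by
  ext i j
  simp only [Matrix.toBlocks₂₁, Matrix.of_apply, Matrix.submatrix_apply, Matrix.zero_apply]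
  apply hM
  · rw [blockEquiv_inr]; omega
  · rw [blockEquiv_inl]; exact j.2

theorem det_blocks (n k : ℕ) (hk : k ≤ n) (M : Matrix (Fin n) (Fin n) F)
    (hM : ∀ i j : Fin n, k ≤ (i : ℕ) → (j : ℕ) < k → M i j = 0) :
    M.det = (M.submatrix (blockEquiv n k hk) (blockEquiv n k hk)).toBlocks₁₁.det *
      (M.submatrix (blockEquiv n k hk) (blockEquiv n k hk)).toBlocks₂₂.det := by
  rw [← Matrix.det_submatrix_equiv_self (blockEquiv n k hk) M]
  conv_lhs => rw [← Matrix.fromBlocks_toBlocks (M.submatrix (blockEquiv n k hk) (blockEquiv n k hk)),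
    toBlocks₂₁_eq_zero n k hk M hM, Matrix.det_fromBlocks_zero₂₁]

theorem fromBlocks_cond (n k : ℕ) (hk : k ≤ n) (A : Matrix (Fin k) (Fin k) F)
    (B : Matrix (Fin k) (Fin (n - k)) F) (D : Matrix (Fin (n - k)) (Fin (n - k)) F) :
    ∀ i j : Fin n, k ≤ (i : ℕ) → (j : ℕ) < k →
      ((Matrix.fromBlocks A B 0 D).submatrix (blockEquiv n k hk).symm (blockEquiv n k hk).symm)
        i j = 0 := by
  intro i j hi hj
  rw [Matrix.submatrix_apply, blockEquiv_symm_of_le n k hk i hi, blockEquiv_symm_of_lt n k hk j hj]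
  rfl

/-- the block decomposition of the parabolic -/
noncomputable def parabolicEquiv (n k : ℕ) (hk : k ≤ n) :
    {g : Matrix.GeneralLinearGroup (Fin n) F //
      ∀ i j : Fin n, k ≤ (i : ℕ) → (j : ℕ) < k → (g : Matrix (Fin n) (Fin n) F) i j = 0} ≃
    Matrix.GeneralLinearGroup (Fin k) F × Matrix.GeneralLinearGroup (Fin (n - k)) F ×
      Matrix (Fin k) (Fin (n - k)) F where
  toFun g :=
    have hdet : (g.1 : Matrix (Fin n) (Fin n) F).det ≠ 0 := by
      have := (Matrix.isUnits_det_units g.1)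
      exact this.ne_zero
    have h := det_blocks n k hk (g.1 : Matrix (Fin n) (Fin n) F) g.2
    (Matrix.GeneralLinearGroup.mkOfDetNeZero _ (left_ne_zero_of_mul (h ▸ hdet)),
      Matrix.GeneralLinearGroup.mkOfDetNeZero _ (right_ne_zero_of_mul (h ▸ hdet)),
      ((g.1 : Matrix (Fin n) (Fin n) F).submatrix (blockEquiv n k hk) (blockEquiv n k hk)).toBlocks₁₂)
  invFun x :=
    ⟨Matrix.GeneralLinearGroup.mkOfDetNeZero
      ((Matrix.fromBlocks (x.1 : Matrix (Fin k) (Fin k) F) x.2.2 0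
        (x.2.1 : Matrix (Fin (n - k)) (Fin (n - k)) F)).submatrix
          (blockEquiv n k hk).symm (blockEquiv n k hk).symm) (by
        rw [Matrix.det_submatrix_equiv_self, Matrix.det_fromBlocks_zero₂₁]
        exact mul_ne_zero (Matrix.isUnits_det_units x.1).ne_zero
          (Matrix.isUnits_det_units x.2.1).ne_zero),
      fromBlocks_cond n k hk _ _ _⟩
  left_inv g := by
    apply Subtype.ext
    apply Units.ext
    simp only [Matrix.GeneralLinearGroup.val_mkOfDetNeZero]
    have h0 := toBlocks₂₁_eq_zero n k hk (g.1 : Matrix (Fin n) (Fin n) F) g.2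
    have h1 := Matrix.fromBlocks_toBlocks
      ((g.1 : Matrix (Fin n) (Fin n) F).submatrix (blockEquiv n k hk) (blockEquiv n k hk))
    rw [h0] at h1
    rw [h1]
    ext i j
    simp
  right_inv x := by
    obtain ⟨a, d, B⟩ := x
    refine Prod.ext ?_ (Prod.ext ?_ ?_)
    · apply Units.ext
      simp only [Matrix.GeneralLinearGroup.val_mkOfDetNeZero]
      ext i j
      simp [Matrix.toBlocks₁₁]
    · apply Units.ext
      simp only [Matrix.GeneralLinearGroup.val_mkOfDetNeZero]
      ext i j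
      simp [Matrix.toBlocks₂₂]
    · simp only [Matrix.GeneralLinearGroup.val_mkOfDetNeZero]
      ext i j
      simp [Matrix.toBlocks₁₂]

/-- Maximal parabolic of GL_n(q): the stabiliser of the coordinate subspace spanned by the first k basis vectors has order q^(k(n-k)) · |GL_k(q)| · |GL_(n-k)(q)| (unipotent radical of order q^(k(n-k)) and Levi complement GL_k × GL_(n-k)). -/
theorem result {F : Type*} [Field F] [Fintype F] {q : ℕ} (hF : Fintype.card F = q) (n k : ℕ) (hk : k ≤ n) : Nat.card ↥(Cfsg.stabilizing (Cfsg.glToMat (Fin n) F) {v : Fin n → F | ∀ i : Fin n, k ≤ (i : ℕ) → v i = 0}) = q ^ (k * (n - k)) * (∏ i : Fin k, (q ^ k - q ^ (i : ℕ))) * ∏ i : Fin (n - k), (q ^ (n - k) - q ^ (i : ℕ)) := by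
  have e1 : ↥(Cfsg.stabilizing (Cfsg.glToMat (Fin n) F)
      {v : Fin n → F | ∀ i : Fin n, k ≤ (i : ℕ) → v i = 0}) ≃
      {g : Matrix.GeneralLinearGroup (Fin n) F //
        ∀ i j : Fin n, k ≤ (i : ℕ) → (j : ℕ) < k → (g : Matrix (Fin n) (Fin n) F) i j = 0} :=
    Equiv.subtypeEquivRight (fun g => mem_stabilizing_iff n k g)
  rw [Nat.card_congr (e1.trans (parabolicEquiv n k hk)), Nat.card_prod, Nat.card_prod,
    Matrix.card_GL_field, Matrix.card_GL_field, hF]
  have hmat : Nat.card (Matrix (Fin k) (Fin (n - k)) F) = q ^ (k * (n - k)) := by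
    show Nat.card (Fin k → Fin (n - k) → F) = q ^ (k * (n - k))
    rw [Nat.card_fun, Nat.card_fun, Nat.card_eq_fintype_card, Nat.card_eq_fintype_card,
      Nat.card_eq_fintype_card, hF, Fintype.card_fin, Fintype.card_fin, ← pow_mul, mul_comm]
  rw [hmat]
  ring

end Cfsg.Agent.S0771
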