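-- Statement S0773 (row 773): P_k and P_{n-k} are isomorphic but not conjugate in GL_n(q).
import Cfsg.Statements.S0773
import Cfsg.Agent.Helper97.CoordParabolic2

set_option autoImplicit false
open Cfsg

namespace Cfsg.Agent.S0773

open Cfsg.Geo Cfsg.Agent.Helper93 Cfsg.Agent.Helper97 Matrix

theorem result {F : Type*} [Field F] [Finite F] (n k : ℕ) (hk0 : 0 < k) (hkn : k < n) (h2 : 2 * k ≠ n) : Nonempty (↥(Cfsg.stabilizing (Cfsg.glToMat (Fin n) F) {v : Fin n → F | ∀ i : Fin n, k ≤ (i : ℕ) → v i = 0}) ≃* ↥(Cfsg.stabilizing (Cfsg.glToMat (Fin n) F) {v : Fin n → F | ∀ i : Fin n, n - k ≤ (i : ℕ) → v i = 0})) ∧ ∀ g : Matrix.GeneralLinearGroup (Fin n) F, (Cfsg.stabilizing (Cfsg.glToMat (Fin n) F) {v : Fin n → F | ∀ i : Fin n, k ≤ (i : ℕ) → v i = 0}).map (MulAut.conj g).toMonoidHom ≠ Cfsg.stabilizing (Cfsg.glToMat (Fin n) F) {v : Fin n → F | ∀ i : Fin n, n - k ≤ (i : ℕ) → v i = 0} := by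
  refine ⟨⟨stabDual (F := F) hkn.le⟩, ?_⟩
  intro g heq
  have heq' : (subspaceStabilizer (coordSub F n k)).map (MulAut.conj g).toMonoidHom =
      subspaceStabilizer (coordSub F n (n - k)) := heq
  set f : (Fin n → F) →ₗ[F] (Fin n → F) := Matrix.mulVecLin (g : Matrix (Fin n) (Fin n) F) with hf
  have hinj : Function.Injective f := by
    intro a b hab
    have : (g : Matrix (Fin n) (Fin n) F).mulVec a = (g : Matrix (Fin n) (Fin n) F).mulVec b := hab
    have h3 := congrArg (fun y => ((g⁻¹ : Matrix.GeneralLinearGroup (Fin n) F) :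
      Matrix (Fin n) (Fin n) F).mulVec y) this
    simpa [gl_inv_mulVec'] using h3
  set U : Submodule F (Fin n → F) := (coordSub F n k).map f with hU
  have hUinv : ∀ h ∈ subspaceStabilizer (coordSub F n (n - k)), ∀ u ∈ U,
      (h : Matrix (Fin n) (Fin n) F).mulVec u ∈ U := by
    intro h hh u hu
    rw [← heq'] at hh
    obtain ⟨p, hp, rfl⟩ := hh
    obtain ⟨w, hw, rfl⟩ := hu
    refine ⟨(p : Matrix (Fin n) (Fin n) F).mulVec w, ?_, ?_⟩
    · exact ((mem_subspaceStabilizer_iff _ p).mp hp w).mp hw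
    · show (g : Matrix (Fin n) (Fin n) F).mulVec ((p : Matrix (Fin n) (Fin n) F).mulVec w) = _
      simp only [MulEquiv.coe_toMonoidHom, MulAut.conj_apply, hf, Matrix.mulVecLin_apply]
      rw [gl_mul_mulVec, gl_mul_mulVec, gl_inv_mulVec']
  have hdim : Module.finrank F U = k := by
    rw [hU, ← (Submodule.equivMapOfInjective f hinj (coordSub F n k)).finrank_eq]
    exact finrank_coordSub hkn.le
  rcases invariant_subspace_trichotomy _ U hUinv with h | h | h
  · rw [h, finrank_bot] at hdim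
    omega
  · rw [h, finrank_coordSub (Nat.sub_le n k)] at hdim
    omega
  · rw [h, finrank_top, Module.finrank_fin_fun] at hdim
    omega

end Cfsg.Agent.S0773
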