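import Cfsg.Statements.S0775
import Cfsg.Agent.Helper13.SpFrames
import Cfsg.Agent.Helper5.SpCard

set_option autoImplicit false
open Cfsg

namespace Cfsg.Agent.S0775

open Matrix Cfsg.Agent.Helper13 Cfsg.Agent.S0776

/-- the order formula of `Sp_{2j}(q)` -/
def spOrd (q j : ℕ) : ℕ := q ^ (j ^ 2) * ∏ i ∈ Finset.range j, (q ^ (2 * (i + 1)) - 1)

/-- the number of totally isotropic `k`-frames -/
def frameOrd (q m k : ℕ) : ℕ := ∏ i ∈ Finset.range k, (q ^ (2 * m - i) - q ^ i)

theorem spOrd_succ (q j : ℕ) :
    spOrd q (j + 1) = q ^ (2 * j + 1) * (q ^ (2 * (j + 1)) - 1) * spOrd q j := by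
  unfold spOrd
  rw [Finset.prod_range_succ]
  have : (j + 1) ^ 2 = j ^ 2 + (2 * j + 1) := by ring
  rw [this, pow_add]
  ring

theorem arith_key (q m : ℕ) (hq : 1 ≤ q) : ∀ k, k ≤ m →
    q ^ (k * (k + 1) / 2 + 2 * k * (m - k)) * spOrd q (m - k) * frameOrd q m k = spOrd q m := by
  intro k
  induction k with
  | zero =>
    intro _
    simp [frameOrd]
  | succ k ih =>
    intro hk
    have ih' := ih (by omega)
    obtain ⟨j, rfl⟩ : ∃ j, m = j + k + 1 := ⟨m - (k + 1), by omega⟩
    have h1 : j + k + 1 - (k + 1) = j := by omega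
    have h2 : j + k + 1 - k = j + 1 := by omega
    rw [h1]
    rw [h2, spOrd_succ] at ih'
    have hT : frameOrd q (j + k + 1) (k + 1) =
        frameOrd q (j + k + 1) k * (q ^ k * (q ^ (2 * (j + 1)) - 1)) := by
      unfold frameOrd
      rw [Finset.prod_range_succ]
      congr 1
      have : 2 * (j + k + 1) - k = 2 * (j + 1) + k := by omega
      rw [this, pow_add, Nat.mul_sub, mul_one, mul_comm]
    have hE : (k + 1) * (k + 1 + 1) / 2 + 2 * (k + 1) * j + k =
        k * (k + 1) / 2 + 2 * k * (j + 1) + (2 * j + 1) := by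
      have h3 : (k + 1) * (k + 1 + 1) / 2 = k * (k + 1) / 2 + (k + 1) := by
        have : (k + 1) * (k + 1 + 1) = k * (k + 1) + 2 * (k + 1) := by ring
        rw [this, Nat.add_mul_div_left _ _ (by norm_num : 0 < 2)]
      rw [h3]
      ring
    rw [hT, ← ih']
    have : q ^ ((k + 1) * (k + 1 + 1) / 2 + 2 * (k + 1) * j) * spOrd q j *
        (frameOrd q (j + k + 1) k * (q ^ k * (q ^ (2 * (j + 1)) - 1))) =
        q ^ ((k + 1) * (k + 1 + 1) / 2 + 2 * (k + 1) * j + k) * spOrd q j *
        (frameOrd q (j + k + 1) k * (q ^ (2 * (j + 1)) - 1)) := by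
      rw [pow_add]; ring
    rw [this, hE, pow_add]
    ring

theorem frameOrd_pos (q m k : ℕ) (hq : 2 ≤ q) (hk : k ≤ m) : 0 < frameOrd q m k := by
  unfold frameOrd
  apply Finset.prod_pos
  intro i hi
  rw [Finset.mem_range] at hi
  have : q ^ i < q ^ (2 * m - i) := Nat.pow_lt_pow_right (by omega) (by omega)
  omega

/-- Maximal parabolics of the symplectic group: if W is a k-dimensional subspace of F^(2m) on which the symplectic form vanishes identically, its stabiliser in Sp_2m(q) has order q^(k(k+1)/2 + 2k(m−k)) · |Sp_(2m−2k)(q)| · |GL_k(q)|. -/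
theorem result {F : Type*} [Field F] [Fintype F] {q : ℕ} (hF : Fintype.card F = q) (m k : ℕ) (hk : k ≤ m) (W : Submodule F (Fin m ⊕ Fin m → F)) (hWk : Module.finrank F W = k) (hW : ∀ u ∈ W, ∀ v ∈ W, Cfsg.sympForm m F u v = 0) : Nat.card ↥(Cfsg.stabilizing (Cfsg.spToMat m F) (W : Set (Fin m ⊕ Fin m → F))) = q ^ (k * (k + 1) / 2 + 2 * k * (m - k)) * (q ^ ((m - k) ^ 2) * ∏ i ∈ Finset.range (m - k), (q ^ (2 * (i + 1)) - 1)) * ∏ i : Fin k, (q ^ k - q ^ (i : ℕ)) := by
  classical
  subst hF
  have hq : 2 ≤ Fintype.card F := Fintype.one_lt_card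
  have hfinV : Finite (Fin m ⊕ Fin m → F) := inferInstance
  have hfinSp : Finite (Matrix.symplecticGroup (Fin m) F) :=
    Finite.of_injective (fun g => g.1) Subtype.val_injective
  -- a frame spanning `W`
  set b := Module.finBasisOfFinrankEq F W hWk with hb
  set e₀ : Fin k → (Fin m ⊕ Fin m → F) := fun i => (b i : Fin m ⊕ Fin m → F) with he₀
  have he₀li : LinearIndependent F e₀ :=
    b.linearIndependent.map' W.subtype (Submodule.ker_subtype W)
  have he₀ti : IsTIFrame m e₀ := ⟨he₀li, fun i j => hW _ (b i).2 _ (b j).2⟩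
  have he₀span : Submodule.span F (Set.range e₀) = W := by
    have h1 : Set.range e₀ = W.subtype '' Set.range b := by
      rw [← Set.range_comp]; rfl
    rw [h1, Submodule.span_image, b.span_eq, Submodule.map_subtype_top]
  set e : TIFrames F m k := ⟨e₀, he₀ti⟩ with he
  -- the set of frames spanning `W`
  set S : Set (TIFrames F m k) := {f | Submodule.span F (Set.range f.1) = W} with hS
  -- the stabiliser is the preimage of `S`
  have h1 : Nat.card ↥(Cfsg.stabilizing (Cfsg.spToMat m F) (W : Set (Fin m ⊕ Fin m → F))) =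
      Nat.card {g : Matrix.symplecticGroup (Fin m) F // frameMap e g ∈ S} := by
    refine Nat.card_congr (Equiv.subtypeEquivRight ?_)
    intro g
    have hmap : Submodule.span F (Set.range (frameMap e g).1) =
        W.map (Matrix.toLin' (g : Matrix (Fin m ⊕ Fin m) (Fin m ⊕ Fin m) F)) := by
      rw [← he₀span, Submodule.map_span, ← Set.range_comp]
      rfl
    constructor
    · intro hg
      show Submodule.span F (Set.range (frameMap e g).1) = W
      apply Submodule.eq_of_le_of_finrank_eq
      · rw [hmap]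
        rintro _ ⟨v, hv, rfl⟩
        rw [Matrix.toLin'_apply]
        exact (hg v).mp hv
      · rw [finrank_span_eq_card (frameMap e g).2.1, Fintype.card_fin, hWk]
    · intro hg v
      have hg' : Submodule.span F (Set.range (frameMap e g).1) = W := hg
      rw [hmap] at hg'
      constructor
      · intro hv
        rw [← hg']
        exact ⟨v, hv, (Matrix.toLin'_apply _ _)⟩
      · intro hv
        have hv' : (g : Matrix (Fin m ⊕ Fin m) (Fin m ⊕ Fin m) F) *ᵥ v ∈ W := hv
        rw [← hg'] at hv'
        obtain ⟨w, hw, hwv⟩ := hv'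
        rw [Matrix.toLin'_apply] at hwv
        have hinj : Function.Injective (fun v : Fin m ⊕ Fin m → F =>
            (g : Matrix (Fin m ⊕ Fin m) (Fin m ⊕ Fin m) F) *ᵥ v) := by
          intro x y hxy
          have h1 : ((g⁻¹ : Matrix.symplecticGroup (Fin m) F) :
              Matrix (Fin m ⊕ Fin m) (Fin m ⊕ Fin m) F) *
              (g : Matrix (Fin m ⊕ Fin m) (Fin m ⊕ Fin m) F) = 1 := by
            rw [← Submonoid.coe_mul, inv_mul_cancel, Submonoid.coe_one]
          have := congrArg (fun u => ((g⁻¹ : Matrix.symplecticGroup (Fin m) F) :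
              Matrix (Fin m ⊕ Fin m) (Fin m ⊕ Fin m) F) *ᵥ u) hxy
          simpa [Matrix.mulVec_mulVec, h1] using this
        rw [← hinj hwv]
        exact hw
  -- the number of frames spanning `W`
  have h2 : Nat.card S = ∏ i : Fin k, (Fintype.card F ^ k - Fintype.card F ^ (i : ℕ)) := by
    have hcl := card_linearIndependent (K := F) (V := W) (k := k) (le_of_eq hWk.symm)
    rw [hWk] at hcl
    rw [← hcl]
    refine Nat.card_congr ?_
    refine
      { toFun := fun f => ⟨fun i => ⟨f.1.1 i, ?_⟩, ?_⟩
        invFun := fun s => ⟨⟨fun i => (s.1 i : Fin m ⊕ Fin m → F), ?_⟩, ?_⟩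
        left_inv := fun f => rfl
        right_inv := fun s => rfl }
    · have hf : Submodule.span F (Set.range f.1.1) = W := f.2
      rw [← hf]
      exact Submodule.subset_span (Set.mem_range_self i)
    · apply LinearIndependent.of_comp W.subtype
      exact f.1.2.1
    · exact ⟨s.2.map' W.subtype (Submodule.ker_subtype W), fun i j => hW _ (s.1 i).2 _ (s.1 j).2⟩
    · show Submodule.span F (Set.range fun i => (s.1 i : Fin m ⊕ Fin m → F)) = W
      apply Submodule.eq_of_le_of_finrank_eq
      · rw [Submodule.span_le]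
        rintro _ ⟨i, rfl⟩
        exact (s.1 i).2
      · have hli : LinearIndependent F (fun i => (s.1 i : Fin m ⊕ Fin m → F)) :=
          s.2.map' W.subtype (Submodule.ker_subtype W)
        rw [finrank_span_eq_card hli, Fintype.card_fin, hWk]
  -- the two fibrations
  have h3 := card_frameMap_preimage e S
  have h4 : Nat.card (Matrix.symplecticGroup (Fin m) F) = Nat.card (TIFrames F m k) *
      Nat.card {g : Matrix.symplecticGroup (Fin m) F // frameMap e g = e} := by
    apply card_eq_mul_of_fibers (frameMap e)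
    intro f
    exact card_frameMap_fiber e f
  rw [Cfsg.Agent.Helper5.card_sp, card_TIFrames] at h4
  rw [h1, h3, h2]
  have hkey := arith_key (Fintype.card F) m (by omega) k hk
  have hpos := frameOrd_pos (Fintype.card F) m k hq hk
  unfold spOrd frameOrd at hkey
  unfold frameOrd at hpos
  apply Nat.eq_of_mul_eq_mul_right hpos
  rw [← hkey] at h4
  set c := Nat.card {g : Matrix.symplecticGroup (Fin m) F // frameMap e g = e} with hc
  set T := ∏ i ∈ Finset.range k, (Fintype.card F ^ (2 * m - i) - Fintype.card F ^ i) with hT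
  calc (∏ i : Fin k, (Fintype.card F ^ k - Fintype.card F ^ (i : ℕ))) * c * T
      = (∏ i : Fin k, (Fintype.card F ^ k - Fintype.card F ^ (i : ℕ))) * (T * c) := by ring
    _ = _ := by rw [← h4]; ring

end Cfsg.Agent.S0775
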