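import Cfsg.Statements.S0778

set_option autoImplicit false
open Cfsg

namespace Cfsg.Agent.S0778

open Matrix

variable {F : Type*} [Field F] {m : ℕ}

/-- block-diagonal symplectic matrix attached to an invertible matrix -/
theorem diag_mem (X : Matrix.GeneralLinearGroup (Fin m) F) :
    Matrix.fromBlocks (X : Matrix (Fin m) (Fin m) F) 0 0
      (((X⁻¹ : Matrix.GeneralLinearGroup (Fin m) F) : Matrix (Fin m) (Fin m) F)ᵀ)
      ∈ Matrix.symplecticGroup (Fin m) F := by
  rw [SymplecticGroup.fromBlocks_mem_iff]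
  refine ⟨by simp, by simp, ?_⟩
  rw [← Matrix.transpose_mul]
  have : ((X⁻¹ : Matrix.GeneralLinearGroup (Fin m) F) : Matrix (Fin m) (Fin m) F)
      * (X : Matrix (Fin m) (Fin m) F) = 1 := by
    rw [← Matrix.GeneralLinearGroup.coe_mul, inv_mul_cancel]
    rfl
  simp

/-- the embedding of `GL_m` as the Levi subgroup -/
noncomputable def levi : Matrix.GeneralLinearGroup (Fin m) F →* Matrix.symplecticGroup (Fin m) F where
  toFun X := ⟨_, diag_mem X⟩
  map_one' := by
    apply Subtype.ext
    simp [Matrix.fromBlocks_one]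
  map_mul' X Y := by
    apply Subtype.ext
    change _ = Matrix.fromBlocks _ _ _ _ * Matrix.fromBlocks _ _ _ _
    rw [Matrix.fromBlocks_multiply]
    simp [Matrix.transpose_mul]

theorem levi_injective : Function.Injective (levi (F := F) (m := m)) := by
  intro X Y h
  have h1 := congrArg Subtype.val h
  change Matrix.fromBlocks _ _ _ _ = Matrix.fromBlocks _ _ _ _ at h1
  rw [Matrix.fromBlocks_inj] at h1
  exact Units.ext h1.1

theorem fromBlocks_diag_mulVec (X Y : Matrix (Fin m) (Fin m) F) (v : Fin m ⊕ Fin m → F) :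
    Matrix.fromBlocks X 0 0 Y *ᵥ v
      = Sum.elim (X *ᵥ (v ∘ Sum.inl)) (Y *ᵥ (v ∘ Sum.inr)) := by
  rw [Matrix.fromBlocks_mulVec]
  simp

theorem levi_range :
    (levi (F := F) (m := m)).range
      = Cfsg.stabilizing (Cfsg.spToMat m F) {v : Fin m ⊕ Fin m → F | ∀ i : Fin m, v (Sum.inr i) = 0}
        ⊓ Cfsg.stabilizing (Cfsg.spToMat m F) {v : Fin m ⊕ Fin m → F | ∀ i : Fin m, v (Sum.inl i) = 0} := by
  ext A
  constructor
  · rintro ⟨X, rfl⟩
    have hX : Function.Injective ((X : Matrix (Fin m) (Fin m) F).mulVec) :=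
      Matrix.mulVec_injective_of_isUnit (Matrix.isUnit_iff_isUnit_det _ |>.mpr
        (Matrix.GeneralLinearGroup.det X).isUnit |> fun h => by simpa using h)
    have hY : Function.Injective
        ((((X⁻¹ : Matrix.GeneralLinearGroup (Fin m) F) : Matrix (Fin m) (Fin m) F)ᵀ).mulVec) := by
      apply Matrix.mulVec_injective_of_isUnit
      rw [Matrix.isUnit_iff_isUnit_det, Matrix.det_transpose]
      have := (Matrix.GeneralLinearGroup.det X⁻¹).isUnit
      simpa using this
    constructor
    · intro v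
      change v ∈ _ ↔ Matrix.fromBlocks _ _ _ _ *ᵥ v ∈ _
      rw [fromBlocks_diag_mulVec]
      simp only [Set.mem_ofPred_eq, Sum.elim_inr]
      constructor
      · intro h i
        have : v ∘ Sum.inr = 0 := funext h
        rw [this, Matrix.mulVec_zero]
        rfl
      · intro h i
        have h0 : ((X⁻¹ : Matrix.GeneralLinearGroup (Fin m) F) : Matrix (Fin m) (Fin m) F)ᵀ
            *ᵥ (v ∘ Sum.inr) = 0 := funext h
        have := hY (h0.trans (Matrix.mulVec_zero _).symm)
        exact congrFun this i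
    · intro v
      change v ∈ _ ↔ Matrix.fromBlocks _ _ _ _ *ᵥ v ∈ _
      rw [fromBlocks_diag_mulVec]
      simp only [Set.mem_ofPred_eq, Sum.elim_inl]
      constructor
      · intro h i
        have : v ∘ Sum.inl = 0 := funext h
        rw [this, Matrix.mulVec_zero]
        rfl
      · intro h i
        have h0 : (X : Matrix (Fin m) (Fin m) F) *ᵥ (v ∘ Sum.inl) = 0 := funext h
        have := hX (h0.trans (Matrix.mulVec_zero _).symm)
        exact congrFun this i
  · rintro ⟨h1, h2⟩
    -- off-diagonal blocks vanish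
    have hA21 : (A : Matrix (Fin m ⊕ Fin m) (Fin m ⊕ Fin m) F).toBlocks₂₁ = 0 := by
      ext i j
      have := (h1 (Pi.single (Sum.inl j) 1)).mp (by
        intro i
        simp) i
      simpa [Cfsg.spToMat, Matrix.toBlocks₂₁] using this
    have hA12 : (A : Matrix (Fin m ⊕ Fin m) (Fin m ⊕ Fin m) F).toBlocks₁₂ = 0 := by
      ext i j
      have := (h2 (Pi.single (Sum.inr j) 1)).mp (by
        intro i
        simp) i
      simpa [Cfsg.spToMat, Matrix.toBlocks₁₂] using this
    have hAeq : (A : Matrix (Fin m ⊕ Fin m) (Fin m ⊕ Fin m) F)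
        = Matrix.fromBlocks (A : Matrix (Fin m ⊕ Fin m) (Fin m ⊕ Fin m) F).toBlocks₁₁ 0 0
          (A : Matrix (Fin m ⊕ Fin m) (Fin m ⊕ Fin m) F).toBlocks₂₂ := by
      conv_lhs => rw [← Matrix.fromBlocks_toBlocks (A : Matrix (Fin m ⊕ Fin m) (Fin m ⊕ Fin m) F)]
      rw [hA21, hA12]
    have hmem := A.2
    rw [hAeq, SymplecticGroup.fromBlocks_mem_iff] at hmem
    obtain ⟨-, -, h3⟩ := hmem
    simp only [Matrix.transpose_zero, Matrix.zero_mul, sub_zero] at h3
    set X := (A : Matrix (Fin m ⊕ Fin m) (Fin m ⊕ Fin m) F).toBlocks₁₁ with hXdef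
    set Y := (A : Matrix (Fin m ⊕ Fin m) (Fin m ⊕ Fin m) F).toBlocks₂₂ with hYdef
    -- `Xᵀ * Y = 1`
    have hdet : IsUnit X.det := by
      have := congrArg Matrix.det h3
      rw [Matrix.det_mul, Matrix.det_transpose, Matrix.det_one] at this
      exact IsUnit.of_mul_eq_one _ this
    have hXinv : X⁻¹ = Yᵀ := by
      apply Matrix.inv_eq_left_inv
      have := congrArg Matrix.transpose h3
      simpa [Matrix.transpose_mul] using this
    refine ⟨Matrix.GeneralLinearGroup.mk'' X hdet, ?_⟩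
    apply Subtype.ext
    rw [hAeq]
    change Matrix.fromBlocks _ _ _ _ = _
    congr 1
    change (((Matrix.GeneralLinearGroup.mk'' X hdet)⁻¹ : Matrix.GeneralLinearGroup (Fin m) F) :
      Matrix (Fin m) (Fin m) F)ᵀ = Y
    rw [Matrix.coe_units_inv]
    change (X⁻¹)ᵀ = Y
    rw [hXinv, Matrix.transpose_transpose]

/-- The elements of Sp_2m(F) stabilising both W = ⟨e_1..e_m⟩ and U = ⟨f_1..f_m⟩ form a subgroup isomorphic to GL_m(F) (block-diagonal matrices diag(X, X^(−ᵀ)) up to the sign convention of J), for m ≥ 1 or m = 0 alike. -/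
theorem result {F : Type*} [Field F] (m : ℕ) : Nonempty (↥(Cfsg.stabilizing (Cfsg.spToMat m F) {v : Fin m ⊕ Fin m → F | ∀ i : Fin m, v (Sum.inr i) = 0} ⊓ Cfsg.stabilizing (Cfsg.spToMat m F) {v : Fin m ⊕ Fin m → F | ∀ i : Fin m, v (Sum.inl i) = 0}) ≃* Matrix.GeneralLinearGroup (Fin m) F) := by
  refine ⟨MulEquiv.symm ?_⟩
  exact (MonoidHom.ofInjective levi_injective).trans (MulEquiv.subgroupCongr levi_range)

end Cfsg.Agent.S0778
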