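import Cfsg.Statements.S0782
import Cfsg.Agent.Helper13.UFramesCount
import Cfsg.Agent.Helper13.UStabDet
import Cfsg.Agent.S0277

set_option autoImplicit false
open Cfsg

namespace Cfsg.Agent.S0782

open Matrix Cfsg.Agent.Helper13

/-- the order formula of `GU_n(q)` -/
def uOrd (q n : ℕ) : ℕ := q ^ (n * (n - 1) / 2) * ∏ i ∈ Finset.range n, uFac q i

theorem uOrd_succ_succ (q j : ℕ) :
    uOrd q (j + 2) = q ^ (2 * j + 1) * uFac q j * uFac q (j + 1) * uOrd q j := by
  unfold uOrd
  rw [Finset.prod_range_succ, Finset.prod_range_succ]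
  have h1 : (j + 2) * (j + 2 - 1) / 2 = j * (j - 1) / 2 + (2 * j + 1) := by
    have h2 : (j + 2) * (j + 2 - 1) = j * (j - 1) + 2 * (2 * j + 1) := by
      cases j with
      | zero => simp
      | succ i =>
        simp only [Nat.add_sub_cancel]
        have : i + 1 + 2 - 1 = i + 2 := by omega
        rw [this]
        ring
    rw [h2, Nat.add_mul_div_left _ _ (by norm_num : 0 < 2)]
  rw [h1, pow_add]
  ring

theorem arith_key (q n : ℕ) : ∀ k, 2 * k ≤ n →
    q ^ (k * (2 * n - 3 * k)) * uOrd q (n - 2 * k) * ∏ i ∈ Finset.range k, uExt q n i =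
      uOrd q n := by
  intro k
  induction k with
  | zero =>
    intro _
    simp
  | succ k ih =>
    intro hk
    have ih' := ih (by omega)
    obtain ⟨j, rfl⟩ : ∃ j, n = j + 2 * k + 2 := ⟨n - 2 * k - 2, by omega⟩
    have h1 : j + 2 * k + 2 - 2 * (k + 1) = j := by omega
    have h2 : j + 2 * k + 2 - 2 * k = j + 2 := by omega
    have h3 : 2 * (j + 2 * k + 2) - 3 * (k + 1) = 2 * j + k + 1 := by omega
    have h4 : 2 * (j + 2 * k + 2) - 3 * k = 2 * j + k + 4 := by omega
    rw [h2, h4, uOrd_succ_succ] at ih'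
    rw [h1, h3, Finset.prod_range_succ, ← ih']
    have h5 : uExt q (j + 2 * k + 2) k = q ^ (2 * k) * uFac q (j + 1) * uFac q j := by
      unfold uExt
      have h6 : j + 2 * k + 2 - 2 * k - 1 = j + 1 := by omega
      have h7 : j + 2 * k + 2 - 2 * k - 2 = j := by omega
      rw [h6, h7]
    rw [h5]
    have h8 : (k + 1) * (2 * j + k + 1) + 2 * k = k * (2 * j + k + 4) + (2 * j + 1) := by ring
    calc q ^ ((k + 1) * (2 * j + k + 1)) * uOrd q j *
          ((∏ i ∈ Finset.range k, uExt q (j + 2 * k + 2) i) *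
            (q ^ (2 * k) * uFac q (j + 1) * uFac q j))
        = q ^ ((k + 1) * (2 * j + k + 1) + 2 * k) * uOrd q j *
          ((∏ i ∈ Finset.range k, uExt q (j + 2 * k + 2) i) *
            (uFac q (j + 1) * uFac q j)) := by rw [pow_add]; ring
      _ = _ := by rw [h8, pow_add]; ring

/-- Maximal parabolics of SU_n(q): if W is a k-dimensional subspace of F^n (n ≥ 1, |F| = q²) on which the Hermitian form vanishes, then (q + 1) times the order of its stabiliser in SU_n(q) equals q^(k(2n−3k)) · |GL_k(q²)| · |GU_(n−2k)(q)|, where |GU_m(q)| = q^(m(m−1)/2) Π_(i=1..m) (q^i − (−1)^i). -/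
theorem result {F : Type*} [Field F] [Fintype F] {q : ℕ} (hF : Fintype.card F = q ^ 2) (n k : ℕ) (hn : 1 ≤ n) (hk : 2 * k ≤ n) (W : Submodule F (Fin n → F)) (hWk : Module.finrank F W = k) (hW : ∀ u ∈ W, ∀ v ∈ W, Cfsg.hermForm n F q u v = 0) : (q + 1) * Nat.card ↥((Cfsg.stabilizing (Cfsg.slToMat n F) (W : Set (Fin n → F))).subgroupOf (Cfsg.SU n F q)) = q ^ (k * (2 * n - 3 * k)) * (∏ i : Fin k, ((q ^ 2) ^ k - (q ^ 2) ^ (i : ℕ))) * (q ^ ((n - 2 * k) * ((n - 2 * k) - 1) / 2) * ∏ i ∈ Finset.range (n - 2 * k), (if Even i then q ^ (i + 1) + 1 else q ^ (i + 1) - 1)) := by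
  classical
  have hq := two_le_of_card_eq_sq hF
  have hfinV : Finite (Fin n → F) := inferInstance
  -- a frame spanning `W`
  set b := Module.finBasisOfFinrankEq F W hWk with hb
  set e₀ : Fin k → (Fin n → F) := fun i => (b i : Fin n → F) with he₀
  have he₀li : LinearIndependent F e₀ :=
    b.linearIndependent.map' W.subtype (Submodule.ker_subtype W)
  have he₀ti : IsUFrame n q e₀ := ⟨he₀li, fun i j => hW _ (b i).2 _ (b j).2⟩
  have he₀span : Submodule.span F (Set.range e₀) = W := by
    have h1 : Set.range e₀ = W.subtype '' Set.range b := by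
      rw [← Set.range_comp]; rfl
    rw [h1, Submodule.span_image, b.span_eq, Submodule.map_subtype_top]
  set e : UFrames F n q k := ⟨e₀, he₀ti⟩ with he
  -- the set of frames spanning `W`
  set S : Set (UFrames F n q k) := {f | Submodule.span F (Set.range f.1) = W} with hS
  -- the stabiliser is the preimage of `S`
  have h1 : Nat.card (stabGU n F q W) =
      Nat.card {g : Cfsg.GU n F q // uFrameMap e g ∈ S} := by
    refine Nat.card_congr (Equiv.subtypeEquivRight ?_)
    intro g
    have hmap : Submodule.span F (Set.range (uFrameMap e g).1) =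
        W.map (Matrix.toLin' ((g : GL (Fin n) F) : Matrix (Fin n) (Fin n) F)) := by
      rw [← he₀span, Submodule.map_span, ← Set.range_comp]
      rfl
    constructor
    · intro hg
      show Submodule.span F (Set.range (uFrameMap e g).1) = W
      apply Submodule.eq_of_le_of_finrank_eq
      · rw [hmap]
        rintro _ ⟨v, hv, rfl⟩
        rw [Matrix.toLin'_apply]
        exact (hg v).mp hv
      · rw [finrank_span_eq_card (uFrameMap e g).2.1, Fintype.card_fin, hWk]
    · intro hg v
      have hg' : Submodule.span F (Set.range (uFrameMap e g).1) = W := hg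
      rw [hmap] at hg'
      constructor
      · intro hv
        show _ ∈ W
        rw [← hg']
        exact ⟨v, hv, (Matrix.toLin'_apply _ _)⟩
      · intro hv
        have hv' : ((g : GL (Fin n) F) : Matrix (Fin n) (Fin n) F) *ᵥ v ∈ W := hv
        rw [← hg'] at hv'
        obtain ⟨w, hw, hwv⟩ := hv'
        rw [Matrix.toLin'_apply] at hwv
        rw [← GU_mulVec_injective g hwv]
        exact hw
  -- the number of frames spanning `W`
  have h2 : Nat.card S = ∏ i : Fin k, (Fintype.card F ^ k - Fintype.card F ^ (i : ℕ)) := by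
    have hcl := card_linearIndependent (K := F) (V := W) (k := k) (le_of_eq hWk.symm)
    rw [hWk] at hcl
    rw [← hcl]
    refine Nat.card_congr ?_
    refine
      { toFun := fun f => ⟨fun i => ⟨f.1.1 i, ?_⟩, ?_⟩
        invFun := fun s => ⟨⟨fun i => (s.1 i : Fin n → F), ?_⟩, ?_⟩
        left_inv := fun f => rfl
        right_inv := fun s => rfl }
    · have hf : Submodule.span F (Set.range f.1.1) = W := f.2
      rw [← hf]
      exact Submodule.subset_span (Set.mem_range_self i)
    · apply LinearIndependent.of_comp W.subtype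
      exact f.1.2.1
    · exact ⟨s.2.map' W.subtype (Submodule.ker_subtype W), fun i j => hW _ (s.1 i).2 _ (s.1 j).2⟩
    · show Submodule.span F (Set.range fun i => (s.1 i : Fin n → F)) = W
      apply Submodule.eq_of_le_of_finrank_eq
      · rw [Submodule.span_le]
        rintro _ ⟨i, rfl⟩
        exact (s.1 i).2
      · have hli : LinearIndependent F (fun i => (s.1 i : Fin n → F)) :=
          s.2.map' W.subtype (Submodule.ker_subtype W)
        rw [finrank_span_eq_card hli, Fintype.card_fin, hWk]
  -- the two fibrations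
  have h3 := card_uFrameMap_preimage hF e S
  have h4 : Nat.card (Cfsg.GU n F q) = Nat.card (UFrames F n q k) *
      Nat.card {g : Cfsg.GU n F q // uFrameMap e g = e} := by
    have hfin : Finite (Fin k → (Fin n → F)) := inferInstance
    apply card_eq_mul_of_fibers (uFrameMap e)
    intro f
    exact card_uFrameMap_fiber hF e f
  rw [Cfsg.Agent.S0277.result hF n, card_UFrames hF k hk] at h4
  rw [card_stabSU_mul hF hn W hW, h1, h3, h2, hF]
  have hkey := arith_key q n k hk
  have hfac : ∀ m, ∏ i ∈ Finset.range m, (if Even i then q ^ (i + 1) + 1 else q ^ (i + 1) - 1) =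
      ∏ i ∈ Finset.range m, uFac q i := fun m => rfl
  rw [hfac] at h4 ⊢
  have hpos : 0 < ∏ i ∈ Finset.range k, uExt q n i := by
    rw [← card_UFrames hF k hk]
    exact Nat.card_pos_iff.mpr ⟨⟨e⟩, inferInstance⟩
  apply Nat.eq_of_mul_eq_mul_right hpos
  set c := Nat.card {g : Cfsg.GU n F q // uFrameMap e g = e} with hc
  set T := ∏ i ∈ Finset.range k, uExt q n i with hT
  unfold uOrd at hkey
  calc (∏ i : Fin k, ((q ^ 2) ^ k - (q ^ 2) ^ (i : ℕ))) * c * T
      = (∏ i : Fin k, ((q ^ 2) ^ k - (q ^ 2) ^ (i : ℕ))) * (T * c) := by ring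
    _ = _ := by rw [← h4, ← hkey]; ring

end Cfsg.Agent.S0782
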