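import Mathlib
import Cfsg.Prelude.Def_LieClassical
import Cfsg.Agent.Helper45.GUBasic

set_option autoImplicit false
open Matrix

namespace Cfsg.Agent.S0783

open Cfsg.Agent.Helper45.GU

theorem result {F : Type*} [Field F] [Fintype F] {q : ℕ} (hF : Fintype.card F = q ^ 2) (n : ℕ) (hn : 2 ≤ n) : ∃ φ : ↥(Cfsg.GU n F q) →* Multiplicative (ZMod (Nat.gcd n (q + 1))), Function.Surjective φ ∧ φ.ker = (Matrix.GeneralLinearGroup.det : Matrix.GeneralLinearGroup (Fin n) F →* Fˣ).ker.subgroupOf (Cfsg.GU n F q) ⊔ Subgroup.center ↥(Cfsg.GU n F q) := by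
  classical
  obtain ⟨bar, hbar⟩ := exists_bar hF
  have hq : 2 ≤ q := by
    have := Fintype.one_lt_card (α := F)
    rw [hF] at this
    nlinarith
  set d := Nat.gcd n (q + 1) with hd
  have hd0 : d ≠ 0 := Nat.gcd_ne_zero_left (by omega)
  have : NeZero d := ⟨hd0⟩
  have hcardU : Nat.card (U1 F q) = q + 1 := by
    rw [U1, IsCyclic.card_powMonoidHom_ker, Nat.card_eq_fintype_card, Fintype.card_units, hF]
    apply Nat.gcd_eq_right
    refine ⟨q - 1, ?_⟩
    obtain ⟨k, rfl⟩ : ∃ k, q = k + 1 := ⟨q - 1, by omega⟩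
    simp only [Nat.add_sub_cancel]
    ring_nf
    omega
  let R : Subgroup (U1 F q) := (powMonoidHom n : U1 F q →* U1 F q).range
  have hidx : R.index = d := by
    rw [IsCyclic.index_powMonoidHom_range, hcardU, Nat.gcd_comm]
  have hcard : Nat.card (U1 F q ⧸ R) = Nat.card (Multiplicative (ZMod d)) := by
    rw [← Subgroup.index_eq_card, hidx, Nat.card_eq_fintype_card]
    simp [ZMod.card]
  have hcyc : IsCyclic (U1 F q ⧸ R) :=
    isCyclic_of_surjective (QuotientGroup.mk' R) (QuotientGroup.mk'_surjective R)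
  let e : (U1 F q ⧸ R) ≃* Multiplicative (ZMod d) := mulEquivOfCyclicCardEq hcard
  let χ : U1 F q →* Multiplicative (ZMod d) := e.toMonoidHom.comp (QuotientGroup.mk' R)
  have hχ_surj : Function.Surjective χ :=
    e.surjective.comp (QuotientGroup.mk'_surjective R)
  have hχ_ker : ∀ u : U1 F q, χ u = 1 ↔ u ∈ R := by
    intro u
    show e (QuotientGroup.mk' R u) = 1 ↔ u ∈ R
    rw [MulEquiv.map_eq_one_iff, QuotientGroup.mk'_apply, QuotientGroup.eq_one_iff]
  let detU : Cfsg.GU n F q →* U1 F q :=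
    (Matrix.GeneralLinearGroup.det.comp (Cfsg.GU n F q).subtype).codRestrict (U1 F q) (fun g => by
      rw [mem_U1_iff bar hbar]
      exact det_mul_bar_det bar _ ((mem_GU_iff n bar hbar g.1).1 g.2))
  have hdetU : ∀ g : Cfsg.GU n F q, ((detU g : U1 F q) : Fˣ) = Matrix.GeneralLinearGroup.det g.1 :=
    fun g => rfl
  -- scalars
  have hsc_mem : ∀ v : U1 F q, dgGL n (fun _ => (v : Fˣ)) ∈ Cfsg.GU n F q :=
    fun v => dgGL_mem n bar hbar _ (fun _ => v.2)
  have hsc_det : ∀ v : U1 F q, detU ⟨dgGL n (fun _ => (v : Fˣ)), hsc_mem v⟩ = v ^ n := by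
    intro v
    apply Subtype.ext
    rw [hdetU, det_dgGL, Finset.prod_const, Finset.card_univ, Fintype.card_fin]
    rfl
  have hsc_center : ∀ v : U1 F q,
      (⟨dgGL n (fun _ => (v : Fˣ)), hsc_mem v⟩ : Cfsg.GU n F q) ∈ Subgroup.center (Cfsg.GU n F q) := by
    intro v
    rw [Subgroup.mem_center_iff]
    intro g
    apply Subtype.ext
    apply Units.ext
    show (g.1 : Matrix (Fin n) (Fin n) F) * diagonal (fun _ => ((v : Fˣ) : F))
      = diagonal (fun _ => ((v : Fˣ) : F)) * (g.1 : Matrix (Fin n) (Fin n) F)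
    ext a b
    rw [mul_diagonal, diagonal_mul, mul_comm]
  refine ⟨χ.comp detU, ?_, ?_⟩
  · intro y
    obtain ⟨u, rfl⟩ := hχ_surj y
    let i₀ : Fin n := ⟨0, by omega⟩
    let dd : Fin n → Fˣ := Function.update (fun _ => 1) i₀ (u : Fˣ)
    have hdd : ∀ k, dd k ∈ U1 F q := by
      intro k
      by_cases hk : k = i₀
      · subst hk; simp [dd]
      · simp [dd, hk]
    refine ⟨⟨dgGL n dd, dgGL_mem n bar hbar dd hdd⟩, ?_⟩
    show χ (detU _) = χ u
    congr 1
    apply Subtype.ext
    rw [hdetU, det_dgGL, Finset.prod_update_of_mem (Finset.mem_univ _)]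
    simp
  · ext g
    rw [MonoidHom.mem_ker]
    show χ (detU g) = 1 ↔ _
    rw [hχ_ker]
    constructor
    · rintro ⟨v, hv⟩
      have hv' : v ^ n = detU g := hv
      set s : Cfsg.GU n F q := ⟨dgGL n (fun _ => (v : Fˣ)), hsc_mem v⟩ with hs
      have hg : g = (g * s⁻¹) * s := by group
      rw [hg]
      apply Subgroup.mul_mem_sup _ (hsc_center v)
      rw [Subgroup.mem_subgroupOf, MonoidHom.mem_ker]
      have h1 : detU (g * s⁻¹) = 1 := by
        rw [map_mul, map_inv, hsc_det, hv', mul_inv_cancel]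
      have h2 := congrArg (fun x : U1 F q => (x : Fˣ)) h1
      exact h2
    · intro hg
      have h1 : (Matrix.GeneralLinearGroup.det : GL (Fin n) F →* Fˣ).ker.subgroupOf (Cfsg.GU n F q)
          ≤ (χ.comp detU).ker := by
        intro x hx
        rw [Subgroup.mem_subgroupOf, MonoidHom.mem_ker] at hx
        rw [MonoidHom.mem_ker]
        show χ (detU x) = 1
        have : detU x = 1 := Subtype.ext hx
        rw [this, map_one]
      have h2 : Subgroup.center (Cfsg.GU n F q) ≤ (χ.comp detU).ker := by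
        intro z hz
        have hnt : Nontrivial (U1 F q) := by
          apply (Finite.one_lt_card_iff_nontrivial).1
          rw [hcardU]
          omega
        obtain ⟨u, hu⟩ := exists_ne (1 : U1 F q)
        obtain ⟨l, hl, hzl⟩ := center_scalar n bar hbar (by omega) (u : Fˣ) u.2
          (fun h => hu (Subtype.ext h)) z hz
        rw [MonoidHom.mem_ker]
        show χ (detU z) = 1
        rw [hχ_ker]
        refine ⟨⟨l, hl⟩, ?_⟩
        show (⟨l, hl⟩ : U1 F q) ^ n = detU z
        rw [← hsc_det]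
        congr 1
        apply Subtype.ext
        apply Units.ext
        exact hzl.symm
      have := sup_le h1 h2 hg
      rw [MonoidHom.mem_ker] at this
      exact (hχ_ker _).1 this

end Cfsg.Agent.S0783
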