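import Mathlib
import Cfsg.Statements.S0792
import Cfsg.Agent.Helper14.ReflGen

set_option autoImplicit false
open Cfsg

namespace Cfsg.Agent.S0792

open Cfsg.Agent.Helper14

theorem mem_special_iff {F : Type*} [Field F] {n : ℕ} (Q : QuadraticForm F (Fin n → F))
    (g : ↥(Cfsg.isometryGroup F ⇑Q)) :
    g ∈ Cfsg.specialIsometryGroup F ⇑Q ↔
      ((g : Matrix.GeneralLinearGroup (Fin n) F) : Matrix (Fin n) (Fin n) F).det = 1 := by
  rw [Cfsg.specialIsometryGroup, MonoidHom.mem_ker, MonoidHom.comp_apply, Units.ext_iff,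
    Matrix.GeneralLinearGroup.val_det_apply, Units.val_one]
  rfl

theorem prod_mem_closure {F : Type*} [Field F] {n : ℕ} (Q : QuadraticForm F (Fin n → F)) :
    ∀ (l : List {w : Fin n → F // Q w ≠ 0}), Even l.length →
      (l.map (reflIso Q)).prod ∈ Subgroup.closure {g : ↥(Cfsg.isometryGroup F ⇑Q) |
        ∃ u v : Fin n → F, Q u ≠ 0 ∧ Q v ≠ 0 ∧
          ((g : Matrix.GeneralLinearGroup (Fin n) F) : Matrix (Fin n) (Fin n) F)
            = Cfsg.reflectionMatrix ⇑Q u * Cfsg.reflectionMatrix ⇑Q v}
  | [], _ => by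
    simp only [List.map_nil, List.prod_nil]
    exact one_mem _
  | [a], h => by
    exfalso
    simp at h
  | a :: b :: l, h => by
    rw [List.map_cons, List.map_cons, List.prod_cons, List.prod_cons, ← mul_assoc]
    apply Subgroup.mul_mem
    · apply Subgroup.subset_closure
      refine ⟨a.1, b.1, a.2, b.2, ?_⟩
      rw [Subgroup.coe_mul, Units.val_mul, reflIso_val, reflIso_val]
    · apply prod_mem_closure Q l
      obtain ⟨k, hk⟩ := h
      simp only [List.length_cons] at hk
      exact ⟨k - 1, by omega⟩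

/-- For q odd and Q with non-degenerate polar form on F^n, the determinant-one isometries form the subgroup generated by all products r_u r_v of two reflections (Q(u), Q(v) ≠ 0). -/
theorem result {F : Type*} [Field F] [Fintype F] (h2 : (2 : F) ≠ 0) {n : ℕ} (Q : QuadraticForm F (Fin n → F)) (hQ : (QuadraticMap.polarBilin Q).Nondegenerate) : Cfsg.specialIsometryGroup F ⇑Q = Subgroup.closure {g : ↥(Cfsg.isometryGroup F ⇑Q) | ∃ u v : Fin n → F, Q u ≠ 0 ∧ Q v ≠ 0 ∧ ((g : Matrix.GeneralLinearGroup (Fin n) F) : Matrix (Fin n) (Fin n) F) = Cfsg.reflectionMatrix ⇑Q u * Cfsg.reflectionMatrix ⇑Q v} := by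
  have hne : (-1 : F) ≠ 1 := by
    intro h
    apply h2
    have h3 : (2 : F) = 1 - (-1) := by norm_num
    rw [h3, h, sub_self]
  apply le_antisymm
  · intro g hg
    rw [mem_special_iff] at hg
    obtain ⟨l, hl⟩ := exists_reflIso_list h2 Q hQ g
    have hlen : Even l.length := by
      have h1 : ((g : Matrix.GeneralLinearGroup (Fin n) F) : Matrix (Fin n) (Fin n) F).det
          = (-1) ^ l.length := by
        rw [hl, prod_reflIso_val, det_prod_reflectionMatrix]
      rw [hg] at h1
      exact (neg_one_pow_eq_one_iff_even hne).mp h1.symm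
    rw [hl]
    exact prod_mem_closure Q l hlen
  · rw [Subgroup.closure_le]
    rintro g ⟨u, v, hu, hv, hg⟩
    show g ∈ Cfsg.specialIsometryGroup F ⇑Q
    rw [mem_special_iff, hg, Matrix.det_mul, Cfsg.Agent.Helper13.reflectionMatrix_det Q u hu,
      Cfsg.Agent.Helper13.reflectionMatrix_det Q v hv]
    ring

end Cfsg.Agent.S0792
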