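import Mathlib
import Cfsg.Statements.S0795
import Cfsg.Agent.Helper14.SiegelGen

set_option autoImplicit false
open Cfsg

namespace Cfsg.Agent.S0795

/-- In dimension at least 5 over a finite field of odd order, Ω (the commutator subgroup of the orthogonal group of a non-degenerate quadratic form) is generated by the Siegel transformations x ↦ x + c f(x,u)v − c f(x,v)u attached to pairs of orthogonal singular vectors u, v. -/
theorem result {F : Type*} [Field F] [Fintype F] (h2 : (2 : F) ≠ 0) {n : ℕ} (hn : 5 ≤ n) (Q : QuadraticForm F (Fin n → F)) (hQ : (QuadraticMap.polarBilin Q).Nondegenerate) : Cfsg.Omega F ⇑Q = Subgroup.closure {g : ↥(Cfsg.isometryGroup F ⇑Q) | ∃ (u v : Fin n → F) (c : F), Q u = 0 ∧ Q v = 0 ∧ QuadraticMap.polar ⇑Q u v = 0 ∧ ((g : Matrix.GeneralLinearGroup (Fin n) F) : Matrix (Fin n) (Fin n) F) = Cfsg.siegelMatrix ⇑Q u v c} :=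
  Cfsg.Agent.Helper14.omega_eq_closure_siegelSet h2 hn Q hQ

end Cfsg.Agent.S0795
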