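import Mathlib
import Cfsg.Statements.S0796

set_option autoImplicit false
open Cfsg

namespace Cfsg.Agent.S0796

/-- If G is finite and acts faithfully and primitively on X, H is the stabiliser of a point, A is a normal subgroup of H whose normal closure in G is G, then for every non-trivial normal subgroup K of G the quotient G ⧸ K is isomorphic to A ⧸ B for some normal subgroup B of A. -/
theorem result {G X : Type*} [Group G] [Finite G] [MulAction G X] [FaithfulSMul G X] (hprim : MulAction.IsPreprimitive G X) (x : X) (A : Subgroup G) (hA : A ≤ MulAction.stabilizer G x) (hAn : (A.subgroupOf (MulAction.stabilizer G x)).Normal) (hgen : Subgroup.normalClosure (A : Set G) = ⊤) (K : Subgroup G) [K.Normal] (hK : K ≠ ⊥) : ∃ (B : Subgroup A) (_ : B.Normal), Nonempty (G ⧸ K ≃* A ⧸ B) := by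
  classical
  -- K acts nontrivially, hence transitively
  have hfix : MulAction.fixedPoints K X ≠ Set.univ := by
    intro h
    apply hK
    rw [Subgroup.eq_bot_iff_forall]
    intro k hk
    apply FaithfulSMul.eq_of_smul_eq_smul (α := X)
    intro y
    rw [one_smul]
    have hy : y ∈ MulAction.fixedPoints K X := by rw [h]; trivial
    exact hy ⟨k, hk⟩
  have htrans : MulAction.IsPretransitive K X :=
    MulAction.IsQuasiPreprimitive.isPretransitive_of_normal hfix
  -- every g is k * h with k ∈ K, h ∈ stabilizer
  have hKH : ∀ g : G, ∃ k ∈ K, ∃ h ∈ MulAction.stabilizer G x, g = k * h := by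
    intro g
    obtain ⟨k, hk⟩ := MulAction.exists_smul_eq K x (g • x)
    refine ⟨k, k.2, (k : G)⁻¹ * g, ?_, by group⟩
    rw [MulAction.mem_stabilizer_iff, mul_smul]
    have : (k : G) • x = g • x := hk
    rw [← this, inv_smul_smul]
  -- A ⊔ K is normal
  have hnorm : (A ⊔ K).Normal := by
    constructor
    intro n hn g
    obtain ⟨k, hk, h, hh, rfl⟩ := hKH g
    have hkmem : k ∈ A ⊔ K := Subgroup.mem_sup_right hk
    -- conjugation by h preserves A ⊔ K
    have hconj : ∀ m ∈ A ⊔ K, h * m * h⁻¹ ∈ A ⊔ K := by
      intro m hm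
      have : A ⊔ K ≤ (A ⊔ K).comap (MulAut.conj h).toMonoidHom := by
        apply sup_le
        · intro a ha
          rw [Subgroup.mem_comap]
          apply Subgroup.mem_sup_left
          have := hAn.conj_mem ⟨a, hA ha⟩ (by simpa [Subgroup.mem_subgroupOf] using ha) ⟨h, hh⟩
          simpa [Subgroup.mem_subgroupOf] using this
        · intro k' hk'
          rw [Subgroup.mem_comap]
          apply Subgroup.mem_sup_right
          simpa using (inferInstance : K.Normal).conj_mem k' hk' h
      simpa using this hm
    have := (A ⊔ K).mul_mem ((A ⊔ K).mul_mem hkmem (hconj n hn)) ((A ⊔ K).inv_mem hkmem)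
    convert this using 1
    group
  have htop : A ⊔ K = ⊤ := by
    rw [eq_top_iff, ← hgen]
    exact Subgroup.normalClosure_le_normal (N := A ⊔ K) (fun a ha => Subgroup.mem_sup_left ha)
  -- the surjection A → G ⧸ K
  let φ : A →* G ⧸ K := (QuotientGroup.mk' K).comp A.subtype
  have hφ : Function.Surjective φ := by
    intro y
    obtain ⟨g, rfl⟩ := QuotientGroup.mk_surjective y
    have hg : g ∈ A ⊔ K := by rw [htop]; trivial
    rw [Subgroup.mem_sup_of_normal_right] at hg
    obtain ⟨a, ha, k, hk, rfl⟩ := hg
    refine ⟨⟨a, ha⟩, ?_⟩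
    simp only [φ, MonoidHom.comp_apply, Subgroup.coe_subtype, QuotientGroup.mk'_apply]
    rw [QuotientGroup.eq]
    simpa using hk
  exact ⟨φ.ker, inferInstance, ⟨(QuotientGroup.quotientKerEquivOfSurjective φ hφ).symm⟩⟩

end Cfsg.Agent.S0796
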