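import Cfsg.Statements.S0797
import Cfsg.Agent.Helper44.OmegaIndex
import Cfsg.Agent.Helper44.IndexTwo

set_option autoImplicit false
open Cfsg

namespace Cfsg.Agent.S0797

/-- O^ε_2m(q) ≅ Ω.2² for q odd: if F is finite of odd characteristic, n ≥ 2 is even and Q has non-degenerate polar form on F^n, the isometry group of Q has exactly three subgroups of index 2. -/
theorem result {F : Type*} [Field F] [Fintype F] (h2 : (2 : F) ≠ 0) {n : ℕ} (hn : 2 ≤ n) (heven : Even n) (Q : QuadraticForm F (Fin n → F)) (hQ : (QuadraticMap.polarBilin Q).Nondegenerate) : Nat.card {H : Subgroup ↥(Cfsg.isometryGroup F ⇑Q) // H.index = 2} = 3 := by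
  have hn' : 2 ≤ Module.finrank F (Fin n → F) := by
    rw [Module.finrank_fin_fun]
    exact hn
  obtain ⟨c, hc⟩ := FiniteField.exists_nonsquare
    (Cfsg.Agent.Helper44.ringChar_ne_two_of_two_ne_zero h2)
  rw [Cfsg.Agent.Helper44.card_index_two_eq_of_surjective (Cfsg.Agent.Helper44.omegaChar Q c)
    (Cfsg.Agent.Helper44.omegaChar_surjective Q h2 hQ hn' hc)
    (Cfsg.Agent.Helper44.ker_omegaChar Q h2 hQ hc)]
  apply Cfsg.Agent.Helper44.card_index_two_of_four
  · rw [Nat.card_prod]
    simp
  · intro a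
    exact Prod.ext (Int.units_mul_self _) (Int.units_mul_self _)

end Cfsg.Agent.S0797
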