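import Mathlib
import Cfsg.Statements.S0800

set_option autoImplicit false
open Cfsg

namespace Cfsg.Agent.S0800

open Polynomial

/-- the quadratic `X² - tX + 1` over a finite field divides `X^(q-1) - 1` or `X^(q+1) - 1`, or is a
square `(X - a)²` with `a² = 1`. -/
theorem main_lemma {F : Type*} [Field F] [Fintype F] (p : ℕ) [Fact p.Prime] [CharP F p] (t : F) :
    ((X ^ 2 - C t * X + 1 : F[X]) ∣ X ^ (Fintype.card F - 1) - 1) ∨
    ((X ^ 2 - C t * X + 1 : F[X]) ∣ X ^ (Fintype.card F + 1) - 1) ∨
    ∃ a : F, a ^ 2 = 1 ∧ (X ^ 2 - C t * X + 1 : F[X]) = (X - C a) ^ 2 := by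
  set χ : F[X] := X ^ 2 - C t * X + 1 with hχ
  have hq1 : 1 ≤ Fintype.card F := Fintype.card_pos
  by_cases hirr : Irreducible χ
  · have : Fact (Irreducible χ) := ⟨hirr⟩
    set r := AdjoinRoot.root χ with hr_def
    have hr : r ^ 2 - (AdjoinRoot.of χ t) * r + 1 = 0 := by
      have := AdjoinRoot.eval₂_root χ
      rw [hχ] at this
      simpa [eval₂_sub, eval₂_add, eval₂_mul, eval₂_pow] using this
    have : CharP (AdjoinRoot χ) p := charP_of_injective_ringHom (AdjoinRoot.of χ).injective p
    obtain ⟨n, _, hq⟩ := FiniteField.card F p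
    set s := r ^ Fintype.card F with hs_def
    have hs : s ^ 2 - (AdjoinRoot.of χ t) * s + 1 = 0 := by
      have h0 : (r ^ 2 - (AdjoinRoot.of χ t) * r + 1) ^ (p ^ (n : ℕ)) = 0 := by
        rw [hr, zero_pow (pow_ne_zero _ (Fact.out : p.Prime).ne_zero)]
      rw [add_pow_char_pow, sub_pow_char_pow, one_pow, mul_pow, ← map_pow, ← hq,
        FiniteField.pow_card] at h0
      rw [hs_def, ← pow_mul, mul_comm, pow_mul]
      exact h0
    have hprod : (s - r) * (s + r - AdjoinRoot.of χ t) = 0 := by
      linear_combination hs - hr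
    have hunit : r * (AdjoinRoot.of χ t - r) = 1 := by
      linear_combination -hr
    have hr0 : r ≠ 0 := by
      intro h
      rw [h, zero_mul] at hunit
      exact zero_ne_one hunit
    rcases mul_eq_zero.mp hprod with h | h
    · left
      have hsr : s = r := sub_eq_zero.mp h
      have : r ^ (Fintype.card F - 1) = 1 := by
        apply mul_right_cancel₀ hr0
        rw [← pow_succ, Nat.sub_add_cancel hq1, one_mul]
        exact hsr
      rw [← AdjoinRoot.mk_eq_zero, map_sub, map_pow, AdjoinRoot.mk_X, map_one, this, sub_self]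
    · right; left
      have hsr : s = AdjoinRoot.of χ t - r := by
        linear_combination h
      have : r ^ (Fintype.card F + 1) = 1 := by
        rw [pow_succ, ← hs_def, hsr, mul_comm]
        exact hunit
      rw [← AdjoinRoot.mk_eq_zero, map_sub, map_pow, AdjoinRoot.mk_X, map_one, this, sub_self]
  · have hmonic : χ.Monic := by
      rw [hχ]
      monicity!
    have hdeg : χ.natDegree = 2 := by
      rw [hχ]
      compute_degree!
    rw [hmonic.irreducible_iff_roots_eq_zero_of_degree_le_three (by omega) (by omega)] at hirr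
    obtain ⟨a, ha⟩ := Multiset.exists_mem_of_ne_zero hirr
    rw [mem_roots hmonic.ne_zero] at ha
    have ha' : a ^ 2 - t * a + 1 = 0 := by
      have := ha
      rw [IsRoot.def, hχ] at this
      simpa using this
    have ha0 : a ≠ 0 := by
      intro h
      rw [h] at ha'
      simp at ha'
    set b := a⁻¹ with hb
    have hab1 : a * b = 1 := mul_inv_cancel₀ ha0
    have ht : t = a + b := by
      have : a * t = a * (a + b) := by
        rw [mul_add, hab1]
        linear_combination -ha'
      exact mul_left_cancel₀ ha0 this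
    have hfac : χ = (X - C a) * (X - C b) := by
      have hC : (C a * C b : F[X]) = 1 := by rw [← C_mul, hab1, C_1]
      rw [hχ, ht, C_add]
      linear_combination -hC
    by_cases hab : a = b
    · right; right
      refine ⟨a, ?_, ?_⟩
      · rw [pow_two]
        nth_rewrite 2 [hab]
        exact hab1
      · rw [hfac, ← hab, pow_two]
    · left
      have hb0 : b ≠ 0 := inv_ne_zero ha0
      have hroot : ∀ c : F, c ≠ 0 → (X - C c : F[X]) ∣ X ^ (Fintype.card F - 1) - 1 := by
        intro c hc
        rw [dvd_iff_isRoot, IsRoot.def]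
        simp [FiniteField.pow_card_sub_one_eq_one c hc]
      rw [hfac]
      apply IsCoprime.mul_dvd _ (hroot a ha0) (hroot b hb0)
      apply isCoprime_X_sub_C_of_isUnit_sub
      exact (sub_ne_zero.mpr hab).isUnit

/-- Tori of SL_2(q): if g ∈ SL_2(q) has order coprime to the characteristic p, then the order of g divides q − 1 or q + 1. -/
theorem result {F : Type*} [Field F] [Fintype F] {q : ℕ} (hF : Fintype.card F = q) (p : ℕ) [Fact p.Prime] [CharP F p] (g : Matrix.SpecialLinearGroup (Fin 2) F) (hg : Nat.Coprime (orderOf g) p) : orderOf g ∣ q - 1 ∨ orderOf g ∣ q + 1 := by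
  subst hF
  set A : Matrix (Fin 2) (Fin 2) F := (g : Matrix (Fin 2) (Fin 2) F) with hA
  have hCH : aeval A (X ^ 2 - C A.trace * X + 1 : F[X]) = 0 := by
    have := Matrix.aeval_self_charpoly A
    rw [Matrix.charpoly_fin_two, hA, g.det_coe, C_1] at this
    exact this
  have key : ∀ n : ℕ, (X ^ 2 - C A.trace * X + 1 : F[X]) ∣ X ^ n - 1 → orderOf g ∣ n := by
    rintro n ⟨f, hf⟩
    have h0 : aeval A (X ^ n - 1 : F[X]) = 0 := by rw [hf, map_mul, hCH, zero_mul]
    rw [map_sub, map_pow, aeval_X, map_one, sub_eq_zero] at h0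
    apply orderOf_dvd_of_pow_eq_one
    apply Subtype.ext
    rw [Matrix.SpecialLinearGroup.coe_pow, Matrix.SpecialLinearGroup.coe_one]
    exact h0
  rcases main_lemma p A.trace with h | h | ⟨a, ha, h⟩
  · left; exact key _ h
  · right; exact key _ h
  · -- unipotent-by-sign case: order divides 2p, hence 2
    rw [h, map_pow, map_sub, aeval_X, aeval_C] at hCH
    set N := A - algebraMap F (Matrix (Fin 2) (Fin 2) F) a with hN
    have hAN : A = N + algebraMap F (Matrix (Fin 2) (Fin 2) F) a := by rw [hN]; abel
    have hp2 : 2 ≤ p := (Fact.out : p.Prime).two_le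
    have hNp : N ^ p = 0 := pow_eq_zero_of_le hp2 hCH
    have hcomm : Commute N (algebraMap F (Matrix (Fin 2) (Fin 2) F) a) :=
      Algebra.commute_algebraMap_right a N
    have hAp : A ^ p = algebraMap F (Matrix (Fin 2) (Fin 2) F) (a ^ p) := by
      rw [hAN, add_pow_char_of_commute p hcomm, hNp, zero_add, map_pow]
    have hA2p : A ^ (2 * p) = 1 := by
      rw [mul_comm, pow_mul, hAp, ← map_pow, ← pow_mul, mul_comm, pow_mul, ha, one_pow, map_one]
    have hord : orderOf g ∣ 2 * p := by
      apply orderOf_dvd_of_pow_eq_one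
      apply Subtype.ext
      rw [Matrix.SpecialLinearGroup.coe_pow, Matrix.SpecialLinearGroup.coe_one]
      exact hA2p
    have hord2 : orderOf g ∣ 2 := Nat.Coprime.dvd_of_dvd_mul_right hg hord
    left
    by_cases hp : p = 2
    · have : orderOf g = 1 := by
        have h1 : Nat.Coprime (orderOf g) 2 := hp ▸ hg
        exact Nat.Coprime.eq_one_of_dvd h1 hord2
      rw [this]; exact one_dvd _
    · obtain ⟨n, _, hq⟩ := FiniteField.card F p
      have hodd : Odd (Fintype.card F) := by
        rw [hq]
        exact ((Fact.out : p.Prime).odd_of_ne_two hp).pow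
      have : 2 ∣ Fintype.card F - 1 := by
        obtain ⟨k, hk⟩ := hodd
        rw [hk]; simp
      exact dvd_trans hord2 this

end Cfsg.Agent.S0800
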