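import Cfsg.Statements.S0806
import Cfsg.Agent.Helper46.PSL2Card
import Cfsg.Agent.S0799

set_option autoImplicit false
open Cfsg

namespace Cfsg.Agent.S0806

open Cfsg.Agent.Helper46.Dk

/-- a prime power below 13 avoiding the exceptional values is 4 or 8 -/
theorem small_prime_pow {p n q : ℕ} (hp : p.Prime) (hn : 1 ≤ n) (hq : q = p ^ n)
    (hex : q ∉ ({2, 3, 5, 7, 9, 11} : Finset ℕ)) : q = 4 ∨ q = 8 ∨ 13 ≤ q := by
  by_contra hcon
  push_neg at hcon
  obtain ⟨h4, h8, h13⟩ := hcon
  have hp2 := hp.two_le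
  have hple : p ≤ q := by
    rw [hq]
    calc p = p ^ 1 := (pow_one p).symm
      _ ≤ p ^ n := Nat.pow_le_pow_right (by omega) hn
  have hn4 : n < 4 := by
    by_contra h
    push_neg at h
    have : 2 ^ 4 ≤ p ^ n := by
      calc 2 ^ 4 ≤ 2 ^ n := Nat.pow_le_pow_right (by norm_num) h
        _ ≤ p ^ n := Nat.pow_le_pow_left hp2 n
    omega
  have hp13 : p < 13 := by omega
  simp only [Finset.mem_insert, Finset.mem_singleton, not_or] at hex
  subst hq
  interval_cases p <;>
    first | (exfalso; revert hp; norm_num; done) | (interval_cases n <;> norm_num at *)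

theorem result {F : Type*} [Field F] [Fintype F] {q : ℕ} (hF : Fintype.card F = q) (hq : q ∉ ({2, 3, 5, 7, 9, 11} : Finset ℕ)) : (∀ H : Subgroup (Matrix.ProjectiveSpecialLinearGroup (Fin 2) F), H ≠ ⊤ → q + 1 ≤ H.index) ∧ ∃ H : Subgroup (Matrix.ProjectiveSpecialLinearGroup (Fin 2) F), H.index = q + 1 := by
  refine ⟨?_, ⟨borelP, by rw [index_borelP, hF]⟩⟩
  intro H hH
  obtain ⟨p, hp, hc⟩ := exists_char_prime F
  obtain ⟨n, hpp, hn⟩ := FiniteField.card F p
  rw [hF] at hn
  have hcases := small_prime_pow hpp n.2 hn hq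
  have hq4 : 4 ≤ q := by omega
  obtain ⟨d, hddef⟩ : ∃ d, d = Nat.gcd 2 (q - 1) := ⟨_, rfl⟩
  have hd2 : d ≤ 2 := by
    rw [hddef]; exact Nat.le_of_dvd (by norm_num) (Nat.gcd_dvd_left 2 (q - 1))
  have hd0 : 0 < d := by rw [hddef]; exact Nat.gcd_pos_of_pos_left _ (by norm_num)
  have hGd := card_PSL2_mul_gcd' (F := F)
  rw [hF, ← hddef] at hGd
  have hHG : Nat.card H ≠ Nat.card (Matrix.ProjectiveSpecialLinearGroup (Fin 2) F) := by
    intro h
    exact hH ((Subgroup.card_eq_iff_eq_top H).1 h)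
  have hHdvd : Nat.card H ∣ Nat.card (Matrix.ProjectiveSpecialLinearGroup (Fin 2) F) :=
    Subgroup.card_subgroup_dvd_card H
  have hHle : Nat.card H ≤ Nat.card (Matrix.ProjectiveSpecialLinearGroup (Fin 2) F) :=
    Nat.le_of_dvd Nat.card_pos hHdvd
  have key : Nat.card H * d ≤ q * (q - 1) → q + 1 ≤ H.index := by
    intro h
    have := index_ge_of_card_le H (by rw [hF, ← hddef]; exact h)
    rwa [hF] at this
  apply key
  have hlist := Cfsg.Agent.S0799.result hF p H
  rw [← hddef] at hlist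
  rcases hlist with ⟨k, hk, hH'⟩ | ⟨P, K, hK, ⟨e⟩⟩ | ⟨⟨e⟩⟩ | ⟨⟨e⟩⟩ | ⟨⟨e⟩⟩ |
    ⟨K, _, _, m, hm, hH'⟩
  · -- cyclic or dihedral
    have hkd : k * d ≤ q + 1 := by
      rcases hk with hk | hk
      · have h1 : 0 < (q + 1) / d := Nat.div_pos (by omega) hd0
        calc k * d ≤ (q + 1) / d * d := Nat.mul_le_mul_right _ (Nat.le_of_dvd h1 hk)
          _ ≤ q + 1 := Nat.div_mul_le_self _ _
      · have h1 : 0 < (q - 1) / d := Nat.div_pos (by omega) hd0
        calc k * d ≤ (q - 1) / d * d := Nat.mul_le_mul_right _ (Nat.le_of_dvd h1 hk)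
          _ ≤ q - 1 := Nat.div_mul_le_self _ _
          _ ≤ q + 1 := by omega
    obtain ⟨r, hr⟩ : ∃ r, q = r + 4 := ⟨q - 4, by omega⟩
    have hr' : r + 4 - 1 = r + 3 := by omega
    rcases hH' with ⟨-, hcard⟩ | ⟨⟨e⟩⟩
    · rw [hcard, hr, hr']
      rw [hr] at hkd
      nlinarith
    · rw [Nat.card_congr e.toEquiv, DihedralGroup.nat_card, hr, hr']
      rw [hr] at hkd
      nlinarith
  · -- Borel type
    have h1 := card_normalizer_sylowP_mul p P
    rw [hF, ← hddef] at h1
    rw [← h1]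
    apply Nat.mul_le_mul_right
    rw [Nat.card_congr e.toEquiv]
    exact Nat.le_of_dvd Nat.card_pos (Subgroup.card_dvd_of_le hK)
  · -- A4
    have hc : Nat.card H = 12 := by rw [Nat.card_congr e.toEquiv, card_A4']
    rw [hc]
    rcases hcases with h | h | h
    · have hd1 : d = 1 := by rw [hddef, h]; decide
      rw [h, hd1]
    · have hd1 : d = 1 := by rw [hddef, h]; decide
      rw [h, hd1]
      norm_num
    · obtain ⟨r, hr⟩ : ∃ r, q = r + 13 := ⟨q - 13, by omega⟩
      have hr' : r + 13 - 1 = r + 12 := by omega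
      rw [hr, hr']
      nlinarith
  · -- S4
    have hc : Nat.card H = 24 := by rw [Nat.card_congr e.toEquiv, card_S4']
    rw [hc]
    rcases hcases with h | h | h
    · exfalso
      have hd1 : d = 1 := by rw [hddef, h]; decide
      rw [hd1, h] at hGd
      norm_num at hGd
      rw [hGd, hc] at hHdvd
      omega
    · have hd1 : d = 1 := by rw [hddef, h]; decide
      rw [h, hd1]
      norm_num
    · obtain ⟨r, hr⟩ : ∃ r, q = r + 13 := ⟨q - 13, by omega⟩
      have hr' : r + 13 - 1 = r + 12 := by omega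
      rw [hr, hr']
      nlinarith
  · -- A5
    have hc : Nat.card H = 60 := by rw [Nat.card_congr e.toEquiv, card_A5']
    rw [hc]
    rcases hcases with h | h | h
    · exfalso
      have hd1 : d = 1 := by rw [hddef, h]; decide
      rw [hd1, h] at hGd
      norm_num at hGd
      exact hHG (by rw [hc, hGd])
    · exfalso
      have hd1 : d = 1 := by rw [hddef, h]; decide
      rw [hd1, h] at hGd
      norm_num at hGd
      rw [hGd, hc] at hHdvd
      omega
    · obtain ⟨r, hr⟩ : ∃ r, q = r + 13 := ⟨q - 13, by omega⟩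
      have hr' : r + 13 - 1 = r + 12 := by omega
      rw [hr, hr']
      nlinarith
  · -- subfield type
    obtain ⟨r, hrdef⟩ : ∃ r, r = Fintype.card K := ⟨_, rfl⟩
    rw [← hrdef] at hm
    have hr2 : 2 ≤ r := by rw [hrdef]; exact Fintype.one_lt_card
    have hG2 := card_PSL2_mul_gcd (F := F)
    rw [hF, ← hddef] at hG2
    have hcardH : Nat.card H ≤ r * (r ^ 2 - 1) ∧
        (m = 1 → Nat.card (Matrix.ProjectiveSpecialLinearGroup (Fin 2) F) ≤ Nat.card H) := by
      rcases hH' with ⟨⟨e⟩⟩ | ⟨⟨e⟩⟩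
      · have h1 := card_PSL2_mul_gcd (F := K)
        rw [← Nat.card_congr e.toEquiv, ← hrdef] at h1
        have hdr : 0 < Nat.gcd 2 (r - 1) := Nat.gcd_pos_of_pos_left _ (by norm_num)
        refine ⟨?_, ?_⟩
        · rw [← h1]
          exact Nat.le_mul_of_pos_right _ hdr
        · intro hm1
          rw [hm1, pow_one] at hm
          rw [hm, ← hddef, ← hG2] at h1
          have := Nat.eq_of_mul_eq_mul_right hd0 h1
          omega
      · have h1 := Cfsg.Agent.Helper46.card_PGL2 (K := K)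
        rw [← Nat.card_congr e.toEquiv, ← hrdef] at h1
        refine ⟨h1.le, ?_⟩
        intro hm1
        rw [hm1, pow_one] at hm
        rw [hm] at h1
        rw [h1, ← hG2]
        exact Nat.le_mul_of_pos_right _ hd0
    have hm0 : m ≠ 0 := by
      intro h
      rw [h, pow_zero] at hm
      omega
    have hm1 : m ≠ 1 := by
      intro h
      have := hcardH.2 h
      omega
    have hrq : r ^ 2 ≤ q := by
      rw [← hm]
      exact Nat.pow_le_pow_right (by omega) (by omega)
    have h1 : Nat.card H * d ≤ r * (r ^ 2 - 1) * 2 := Nat.mul_le_mul hcardH.1 hd2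
    have h2 : r * (r ^ 2 - 1) * 2 ≤ r ^ 2 * (r ^ 2 - 1) := by
      have : r * (r ^ 2 - 1) * 2 = (2 * r) * (r ^ 2 - 1) := by ring
      rw [this]
      apply Nat.mul_le_mul_right
      nlinarith
    have h3 : r ^ 2 * (r ^ 2 - 1) ≤ q * (q - 1) :=
      Nat.mul_le_mul hrq (by omega)
    omega

end Cfsg.Agent.S0806
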