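import Cfsg.Statements.S0810
import Cfsg.Agent.Helper46.PSL2Solv
import Cfsg.Agent.S0799
import Cfsg.Agent.S0804

set_option autoImplicit false
open Cfsg

namespace Cfsg.Agent.S0810

open Cfsg.Agent.Helper46.Dk

section

variable {F : Type*} [Field F] [Fintype F]

/-- proper subgroups are solvable under the numerical hypotheses -/
theorem proper_solvable {q : ℕ} (hF : Fintype.card F = q) (hq4 : 4 ≤ q)
    (hA5 : 5 ∣ q * (q ^ 2 - 1) → q = 4 ∨ q = 5)
    (hsub : ∀ r m : ℕ, 2 ≤ m → r ^ m = q → r = 2 ∨ r = 3)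
    (H : Subgroup (Matrix.ProjectiveSpecialLinearGroup (Fin 2) F)) (hH : H ≠ ⊤) :
    Group.IsSolvable H := by
  obtain ⟨p, hp, hc⟩ := exists_char_prime F
  obtain ⟨d, hddef⟩ : ∃ d, d = Nat.gcd 2 (q - 1) := ⟨_, rfl⟩
  have hd0 : 0 < d := by rw [hddef]; exact Nat.gcd_pos_of_pos_left _ (by norm_num)
  have hG2 := card_PSL2_mul_gcd (F := F)
  rw [hF, ← hddef] at hG2
  have hHG : Nat.card H ≠ Nat.card (Matrix.ProjectiveSpecialLinearGroup (Fin 2) F) := by
    intro h
    exact hH ((Subgroup.card_eq_iff_eq_top H).1 h)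
  have hHle : Nat.card H ≤ Nat.card (Matrix.ProjectiveSpecialLinearGroup (Fin 2) F) :=
    Nat.le_of_dvd Nat.card_pos (Subgroup.card_subgroup_dvd_card H)
  have hlist := Cfsg.Agent.S0799.result hF p H
  rcases hlist with ⟨k, hk, hH'⟩ | ⟨P, K, hK, ⟨e⟩⟩ | ⟨⟨e⟩⟩ | ⟨⟨e⟩⟩ | ⟨⟨e⟩⟩ |
    ⟨K, _, _, m, hm, hH'⟩
  · rcases hH' with ⟨hcyc, -⟩ | ⟨⟨e⟩⟩
    · exact isSolvable_of_isCyclic
    · exact isSolvable_of_mulEquiv e
  · have h1 := isSolvable_normalizer_sylowP p P
    have h2 : Group.IsSolvable K :=
      Group.isSolvable_of_isSolvable_injective (f := Subgroup.inclusion hK)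
        (Subgroup.inclusion_injective hK)
    exact isSolvable_of_mulEquiv e
  · exact isSolvable_of_card_two_three 2 1 (by rw [Nat.card_congr e.toEquiv, card_A4']; norm_num)
  · exact isSolvable_of_card_two_three 3 1 (by rw [Nat.card_congr e.toEquiv, card_S4']; norm_num)
  · exfalso
    have h5 : 5 ∣ q * (q ^ 2 - 1) := (Cfsg.Agent.S0804.result hF).1 ⟨H, ⟨e⟩⟩
    have hc : Nat.card H = 60 := by rw [Nat.card_congr e.toEquiv, card_A5']
    apply hHG
    rw [hc]
    rcases hA5 h5 with h | h
    · have hd1 : d = 1 := by rw [hddef, h]; decide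
      rw [hd1, h] at hG2
      omega
    · have hd1 : d = 2 := by rw [hddef, h]; decide
      rw [hd1, h] at hG2
      omega
  · obtain ⟨r, hrdef⟩ : ∃ r, r = Fintype.card K := ⟨_, rfl⟩
    rw [← hrdef] at hm
    have hr2 : 2 ≤ r := by rw [hrdef]; exact Fintype.one_lt_card
    have hm0 : m ≠ 0 := by
      intro h
      rw [h, pow_zero] at hm
      omega
    have hm1 : m ≠ 1 := by
      intro hm1
      rw [hm1, pow_one] at hm
      rcases hH' with ⟨⟨e⟩⟩ | ⟨⟨e⟩⟩
      · have h1 := card_PSL2_mul_gcd (F := K)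
        rw [← Nat.card_congr e.toEquiv, ← hrdef, hm, ← hddef, ← hG2] at h1
        exact hHG (Nat.eq_of_mul_eq_mul_right hd0 h1)
      · have h1 := Cfsg.Agent.Helper46.card_PGL2 (K := K)
        rw [← Nat.card_congr e.toEquiv, ← hrdef, hm, ← hG2] at h1
        have : Nat.card (Matrix.ProjectiveSpecialLinearGroup (Fin 2) F) ≤ Nat.card H := by
          rw [h1]
          exact Nat.le_mul_of_pos_right _ hd0
        omega
    have hr23 := hsub r m (by omega) hm
    rcases hH' with ⟨⟨e⟩⟩ | ⟨⟨e⟩⟩
    · have h1 := card_PSL2_mul_gcd (F := K)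
      rw [← Nat.card_congr e.toEquiv, ← hrdef] at h1
      rcases hr23 with h | h
      · rw [h] at h1
        norm_num at h1
        exact isSolvable_of_card_two_three 1 1 (by rw [h1]; norm_num)
      · rw [h] at h1
        norm_num at h1
        exact isSolvable_of_card_two_three 2 1 (by omega)
    · have h1 := Cfsg.Agent.Helper46.card_PGL2 (K := K)
      rw [← Nat.card_congr e.toEquiv, ← hrdef] at h1
      rcases hr23 with h | h
      · rw [h] at h1
        norm_num at h1
        exact isSolvable_of_card_two_three 1 1 (by rw [h1]; norm_num)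
      · rw [h] at h1
        norm_num at h1
        exact isSolvable_of_card_two_three 3 1 (by rw [h1]; norm_num)

/-- a nonsolvable proper subgroup of subfield type -/
theorem exists_bad_subfield {q : ℕ} (hF : Fintype.card F = q) (p : ℕ) [Fact p.Prime]
    (s m : ℕ) (hm : 2 ≤ m) (hs : 4 ≤ p ^ s) (h : (p ^ s) ^ m = q) :
    ∃ H : Subgroup (Matrix.ProjectiveSpecialLinearGroup (Fin 2) F),
      H ≠ ⊤ ∧ ¬ Group.IsSolvable H := by
  have hs0 : s ≠ 0 := by
    intro h0
    rw [h0, pow_zero] at hs
    omega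
  let K := GaloisField p s
  letI : Fintype K := Fintype.ofFinite K
  have hK : Fintype.card K = p ^ s := by
    rw [← Nat.card_eq_fintype_card, GaloisField.card p s hs0]
  obtain ⟨ι⟩ := Cfsg.Agent.Helper46.exists_ringHom_of_card_pow (K := K) (F := F) m (by omega)
    (by rw [hK, h, hF])
  obtain ⟨H, ⟨e⟩⟩ := Cfsg.Agent.Helper46.exists_psl_subgroup ι
  refine ⟨H, ?_, ?_⟩
  · intro htop
    have h1 : Nat.card H = Nat.card (Matrix.ProjectiveSpecialLinearGroup (Fin 2) F) := by
      rw [htop, Subgroup.card_top]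
    rw [Nat.card_congr e.toEquiv] at h1
    have h2 := card_PSL2_mul_gcd (F := K)
    have h3 := card_PSL2_mul_gcd (F := F)
    rw [hK] at h2
    rw [hF] at h3
    rw [h1] at h2
    obtain ⟨r, hr⟩ : ∃ r, r = p ^ s := ⟨_, rfl⟩
    rw [← hr] at h2 h hs
    have hd2 : Nat.gcd 2 (q - 1) ≤ 2 := Nat.le_of_dvd (by norm_num) (Nat.gcd_dvd_left 2 (q - 1))
    have hdr : 0 < Nat.gcd 2 (r - 1) := Nat.gcd_pos_of_pos_left _ (by norm_num)
    have hrq : r ^ 2 ≤ q := by
      rw [← h]
      exact Nat.pow_le_pow_right (by omega) hm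
    -- q (q^2-1) ≤ 2 |G| ≤ 2 r (r^2-1)
    have h4 : q * (q ^ 2 - 1) ≤ 2 * (r * (r ^ 2 - 1)) := by
      calc q * (q ^ 2 - 1)
          = Nat.card (Matrix.ProjectiveSpecialLinearGroup (Fin 2) F) * Nat.gcd 2 (q - 1) := h3.symm
        _ ≤ Nat.card (Matrix.ProjectiveSpecialLinearGroup (Fin 2) F) * 2 :=
            Nat.mul_le_mul_left _ hd2
        _ = 2 * (Nat.card (Matrix.ProjectiveSpecialLinearGroup (Fin 2) F) * 1) := by ring
        _ ≤ 2 * (Nat.card (Matrix.ProjectiveSpecialLinearGroup (Fin 2) F) *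
              Nat.gcd 2 (r - 1)) :=
            Nat.mul_le_mul_left _ (Nat.mul_le_mul_left _ hdr)
        _ = 2 * (r * (r ^ 2 - 1)) := by rw [h2]
    have h5 : 2 * r ≤ q := by nlinarith
    have h6 : r ^ 2 ≤ q ^ 2 - 1 := by
      have : r + 1 ≤ q := by nlinarith
      have : (r + 1) ^ 2 ≤ q ^ 2 := Nat.pow_le_pow_left this 2
      have : (r + 1) ^ 2 = r ^ 2 + 2 * r + 1 := by ring
      omega
    have h7 : 2 * r * r ^ 2 ≤ q * (q ^ 2 - 1) := Nat.mul_le_mul h5 h6
    have h8 : 2 * (r * (r ^ 2 - 1)) < 2 * r * r ^ 2 := by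
      have : 1 ≤ r ^ 2 := Nat.one_le_pow _ _ (by omega)
      have : r * (r ^ 2 - 1) < r * r ^ 2 := Nat.mul_lt_mul_of_pos_left (by omega) (by omega)
      calc 2 * (r * (r ^ 2 - 1)) < 2 * (r * r ^ 2) := by omega
        _ = 2 * r * r ^ 2 := by ring
    omega
  · intro hsol
    have : Group.IsSolvable (Matrix.ProjectiveSpecialLinearGroup (Fin 2) K) :=
      isSolvable_of_mulEquiv e.symm
    exact not_isSolvable_PSL2 (F := K) (by rw [hK]; exact hs) this

/-- a nonsolvable proper subgroup of type `A₅` -/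
theorem exists_bad_A5 {q : ℕ} (hF : Fintype.card F = q) (h5 : 5 ∣ q * (q ^ 2 - 1))
    (h60 : Nat.card (Matrix.ProjectiveSpecialLinearGroup (Fin 2) F) ≠ 60) :
    ∃ H : Subgroup (Matrix.ProjectiveSpecialLinearGroup (Fin 2) F),
      H ≠ ⊤ ∧ ¬ Group.IsSolvable H := by
  obtain ⟨H, ⟨e⟩⟩ := (Cfsg.Agent.S0804.result hF).2 h5
  refine ⟨H, ?_, ?_⟩
  · intro htop
    have h1 : Nat.card H = Nat.card (Matrix.ProjectiveSpecialLinearGroup (Fin 2) F) := by
      rw [htop, Subgroup.card_top]
    rw [Nat.card_congr e.toEquiv, card_A5'] at h1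
    exact h60 h1.symm
  · intro hsol
    have : Group.IsSolvable (alternatingGroup (Fin 5)) := isSolvable_of_mulEquiv e.symm
    exact not_isSolvable_A5 this

end

/-! ### arithmetic -/

theorem root_of_prime_pow {p t r m : ℕ} (hp : p.Prime) (ht : t.Prime) (hm : 2 ≤ m)
    (h : r ^ m = p ^ t) : r = p := by
  have hr : r ∣ p ^ t := by rw [← h]; exact dvd_pow_self r (by omega)
  obtain ⟨s, hs, rfl⟩ := (Nat.dvd_prime_pow hp).1 hr
  rw [← pow_mul] at h
  have hsm : s * m = t := Nat.pow_right_injective hp.two_le h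
  have hmt : m ∣ t := ⟨s, by rw [← hsm]; ring⟩
  rcases (Nat.dvd_prime ht).1 hmt with h1 | h1
  · omega
  · subst h1
    have hs1 : s = 1 := by
      have hm0 : 0 < m := by omega
      exact Nat.eq_of_mul_eq_mul_right hm0 (by rw [hsm, one_mul])
    rw [hs1, pow_one]

theorem no_root_of_prime {q r m : ℕ} (hq : q.Prime) (hm : 2 ≤ m) (h : r ^ m = q) : False := by
  have hr : r ∣ q := by rw [← h]; exact dvd_pow_self r (by omega)
  rcases (Nat.dvd_prime hq).1 hr with h1 | h1
  · rw [h1, one_pow] at h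
    exact hq.ne_one h.symm
  · rw [h1] at h
    have : m = 1 := Nat.pow_right_injective hq.two_le (by simpa using h)
    omega

theorem not_five_dvd {q : ℕ} (hq : q % 5 = 2 ∨ q % 5 = 3) : ¬ 5 ∣ q * (q ^ 2 - 1) := by
  intro h
  have h4 : q ^ 2 % 5 = 4 := by
    rw [Nat.pow_mod]
    rcases hq with h | h <;> rw [h]
  rcases (Nat.Prime.dvd_mul Nat.prime_five).1 h with h1 | h1
  · omega
  · have : 1 ≤ q ^ 2 := by
      have : 0 < q := by
        rcases Nat.eq_zero_or_pos q with h0 | h0
        · rw [h0] at hq; omega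
        · exact h0
      exact Nat.one_le_pow _ _ this
    omega

theorem two_pow_odd_mod (k : ℕ) : 2 ^ (2 * k + 1) % 5 = 2 ∨ 2 ^ (2 * k + 1) % 5 = 3 := by
  induction k with
  | zero => left; rfl
  | succ k ih =>
    have : 2 ^ (2 * (k + 1) + 1) = 4 * 2 ^ (2 * k + 1) := by ring
    rw [this]
    omega

theorem three_pow_odd_mod (k : ℕ) : 3 ^ (2 * k + 1) % 5 = 2 ∨ 3 ^ (2 * k + 1) % 5 = 3 := by
  induction k with
  | zero => right; rfl
  | succ k ih =>
    have : 3 ^ (2 * (k + 1) + 1) = 9 * 3 ^ (2 * k + 1) := by ring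
    rw [this]
    omega

theorem minimal_of_list {F : Type*} [Field F] [Fintype F] {q : ℕ} (hF : Fintype.card F = q)
    (hq4 : 4 ≤ q)
    (hA5 : 5 ∣ q * (q ^ 2 - 1) → q = 4 ∨ q = 5)
    (hsub : ∀ r m : ℕ, 2 ≤ m → r ^ m = q → r = 2 ∨ r = 3) :
    Cfsg.IsMinimalSimple (Matrix.ProjectiveSpecialLinearGroup (Fin 2) F) := by
  refine ⟨Cfsg.Agent.Helper5.isSimpleGroup_PSL2_of_card (F := F) (by rw [hF]; exact hq4),
    not_isMulCommutative_PSL2, ?_⟩
  intro H hH
  exact proper_solvable hF hq4 hA5 hsub H hH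

theorem result {F : Type*} [Field F] [Fintype F] {q : ℕ} (hF : Fintype.card F = q) : Cfsg.IsMinimalSimple (Matrix.ProjectiveSpecialLinearGroup (Fin 2) F) ↔ ((∃ r : ℕ, r.Prime ∧ q = 2 ^ r) ∨ (∃ r : ℕ, r.Prime ∧ r ≠ 2 ∧ q = 3 ^ r) ∨ (q.Prime ∧ 5 < q ∧ (q % 5 = 2 ∨ q % 5 = 3)) ∨ q = 5) := by
  constructor
  · rintro ⟨hsimple, hnc, hsolv⟩
    have hno : ∀ H : Subgroup (Matrix.ProjectiveSpecialLinearGroup (Fin 2) F),
        H ≠ ⊤ → ¬ Group.IsSolvable H → False := fun H h1 h2 => h2 (hsolv H h1)
    obtain ⟨p, hp, hc⟩ := exists_char_prime F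
    obtain ⟨n, hpp, hn⟩ := FiniteField.card F p
    rw [hF] at hn
    have hG2 := card_PSL2_mul_gcd (F := F)
    rw [hF] at hG2
    have hd2 : Nat.gcd 2 (q - 1) ≤ 2 := Nat.le_of_dvd (by norm_num) (Nat.gcd_dvd_left 2 (q - 1))
    have hd0 : 0 < Nat.gcd 2 (q - 1) := Nat.gcd_pos_of_pos_left _ (by norm_num)
    have hq2 : 2 ≤ q := by rw [← hF]; exact Fintype.one_lt_card
    -- q ≥ 4
    have hq4 : 4 ≤ q := by
      by_contra hlt
      have hsol : Group.IsSolvable (Matrix.ProjectiveSpecialLinearGroup (Fin 2) F) := by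
        have h23 : q = 2 ∨ q = 3 := by omega
        rcases h23 with h | h
        · rw [h] at hG2
          norm_num at hG2
          exact isSolvable_of_card_two_three 1 1 (by rw [hG2]; norm_num)
        · rw [h] at hG2
          norm_num at hG2
          exact isSolvable_of_card_two_three 2 1 (by omega)
      exact hnc ⟨⟨IsSimpleGroup.comm_iff_isSolvable.2 hsol⟩⟩
    -- no subfield subgroups
    have hclaim : ∀ s : ℕ, s ∣ (n : ℕ) → s ≠ (n : ℕ) → p ^ s < 4 := by
      intro s hs hsn
      by_contra hge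
      push_neg at hge
      obtain ⟨m, hm⟩ := hs
      have hm2 : 2 ≤ m := by
        rcases Nat.lt_or_ge m 2 with h | h
        · exfalso
          have := n.pos
          interval_cases m
          · omega
          · omega
        · exact h
      obtain ⟨H, h1, h2⟩ := exists_bad_subfield (F := F) hF p s m hm2 hge
        (by rw [← pow_mul, ← hm, hn])
      exact hno H h1 h2
    have hnoA5 : 5 ∣ q * (q ^ 2 - 1) →
        Nat.card (Matrix.ProjectiveSpecialLinearGroup (Fin 2) F) = 60 := by
      intro h5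
      by_contra h60
      obtain ⟨H, h1, h2⟩ := exists_bad_A5 (F := F) hF h5 h60
      exact hno H h1 h2
    have hnprime : p < 4 → (n : ℕ).Prime := by
      intro hp4
      rw [Nat.prime_def]
      constructor
      · by_contra hlt
        have hn1 : (n : ℕ) = 1 := by
          have := n.pos
          omega
        rw [hn1, pow_one] at hn
        omega
      · intro s hs
        by_contra hcon
        push_neg at hcon
        have h1 := hclaim s hs hcon.2
        have hs0 : s ≠ 0 := by
          intro h0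
          rw [h0, zero_dvd_iff] at hs
          exact n.ne_zero hs
        have hs2 : 2 ≤ s := by omega
        have : p ^ 2 ≤ p ^ s := Nat.pow_le_pow_right hpp.pos hs2
        have : 2 ^ 2 ≤ p ^ 2 := Nat.pow_le_pow_left hpp.two_le 2
        omega
    rcases Nat.lt_or_ge p 4 with hp4 | hp4
    · have hnp := hnprime hp4
      have hp23 : p = 2 ∨ p = 3 := by
        have := hpp.two_le
        omega
      rcases hp23 with h | h
      · left
        exact ⟨n, hnp, by rw [hn, h]⟩
      · right; left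
        refine ⟨n, hnp, ?_, by rw [hn, h]⟩
        intro hn2
        rw [hn2, h] at hn
        have h5 : 5 ∣ q * (q ^ 2 - 1) := by rw [hn]; decide
        have := hnoA5 h5
        rw [this, hn] at hG2
        norm_num at hG2
    · have hp5 : 5 ≤ p := by
        rcases Nat.lt_or_ge p 5 with h | h
        · exfalso
          have : p = 4 := by omega
          rw [this] at hpp
          exact absurd hpp (by norm_num)
        · exact h
      have hn1 : (n : ℕ) = 1 := by
        by_contra hne
        have := hclaim 1 (one_dvd _) (fun h => hne h.symm)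
        rw [pow_one] at this
        omega
      rw [hn1, pow_one] at hn
      subst hn
      by_cases h5 : q = 5
      · right; right; right
        exact h5
      · right; right; left
        have hq5 : 5 < q := by omega
        refine ⟨hpp, hq5, ?_⟩
        have hmod0 : q % 5 ≠ 0 := by
          intro h0
          have : 5 ∣ q := Nat.dvd_of_mod_eq_zero h0
          rcases (Nat.dvd_prime hpp).1 this with h | h
          · omega
          · omega
        by_contra hcon
        push_neg at hcon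
        have h14 : q % 5 = 1 ∨ q % 5 = 4 := by omega
        have hsq : q ^ 2 % 5 = 1 := by
          rw [Nat.pow_mod]
          rcases h14 with h | h <;> rw [h]
        have h5' : 5 ∣ q * (q ^ 2 - 1) := by
          apply Dvd.dvd.mul_left
          have : 1 ≤ q ^ 2 := Nat.one_le_pow _ _ (by omega)
          omega
        have h60 := hnoA5 h5'
        rw [h60] at hG2
        have : 6 * (6 ^ 2 - 1) ≤ q * (q ^ 2 - 1) := by
          apply Nat.mul_le_mul (by omega)
          have : 6 ^ 2 ≤ q ^ 2 := Nat.pow_le_pow_left (by omega) 2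
          omega
        norm_num at this
        nlinarith
  · rintro (⟨t, ht, rfl⟩ | ⟨t, ht, ht2, rfl⟩ | ⟨hqp, hq5, hmod⟩ | rfl)
    · apply minimal_of_list hF
      · calc 4 = 2 ^ 2 := by norm_num
          _ ≤ 2 ^ t := Nat.pow_le_pow_right (by norm_num) ht.two_le
      · intro h5
        left
        rcases ht.eq_two_or_odd' with h | h
        · rw [h]; norm_num
        · exfalso
          obtain ⟨k, rfl⟩ := h
          exact not_five_dvd (two_pow_odd_mod k) h5
      · intro r m hm h
        left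
        exact root_of_prime_pow Nat.prime_two ht hm h
    · apply minimal_of_list hF
      · calc 4 ≤ 3 ^ 2 := by norm_num
          _ ≤ 3 ^ t := Nat.pow_le_pow_right (by norm_num) ht.two_le
      · intro h5
        exfalso
        rcases ht.eq_two_or_odd' with h | h
        · exact ht2 h
        · obtain ⟨k, rfl⟩ := h
          exact not_five_dvd (three_pow_odd_mod k) h5
      · intro r m hm h
        right
        exact root_of_prime_pow Nat.prime_three ht hm h
    · apply minimal_of_list hF (by omega)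
      · intro h5
        exact absurd h5 (not_five_dvd hmod)
      · intro r m hm h
        exact (no_root_of_prime hqp hm h).elim
    · apply minimal_of_list hF (by norm_num)
      · intro _
        right; rfl
      · intro r m hm h
        exact (no_root_of_prime Nat.prime_five hm h).elim

end Cfsg.Agent.S0810
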