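import Cfsg.Statements.S0811
import Cfsg.Agent.Helper46.PSL2MaxAux
import Cfsg.Agent.S0799

set_option autoImplicit false
open Cfsg

namespace Cfsg.Agent.S0811

open Cfsg.Agent.Helper46.Dk

theorem coprime_succ_self' (q : ℕ) : Nat.Coprime (q + 1) q := by
  rw [Nat.coprime_comm, add_comm]
  exact (Nat.coprime_add_self_right.2 (Nat.coprime_one_right q))

set_option maxHeartbeats 1600000 in
theorem result {F : Type*} [Field F] [Fintype F] {q : ℕ} (hF : Fintype.card F = q) (hq : q ∉ ({2, 7, 9} : Finset ℕ)) : ∃ H : Subgroup (Matrix.ProjectiveSpecialLinearGroup (Fin 2) F), IsCoatom H ∧ Nonempty (H ≃* DihedralGroup ((q + 1) / Nat.gcd 2 (q - 1))) := by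
  obtain ⟨p, hp, hc⟩ := exists_char_prime F
  have hpp : p.Prime := hp.out
  simp only [Finset.mem_insert, Finset.mem_singleton, not_or] at hq
  obtain ⟨hq2, hq7, hq9⟩ := hq
  have hq1 : 2 ≤ q := by rw [← hF]; exact Fintype.one_lt_card
  have hq3 : 3 ≤ q := by omega
  obtain ⟨d, hddef⟩ : ∃ d, d = Nat.gcd 2 (q - 1) := ⟨_, rfl⟩
  obtain ⟨n, hndef⟩ : ∃ n, n = (q + 1) / d := ⟨_, rfl⟩
  rw [← hddef, ← hndef]
  have hpq : p ∣ q := by
    obtain ⟨k, -, hk⟩ := FiniteField.card F p
    rw [← hF, hk]
    exact dvd_pow_self p k.ne_zero
  -- arithmetic of d and n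
  have hd12 : d = 1 ∨ d = 2 := by
    have h1 : d ∣ 2 := by rw [hddef]; exact Nat.gcd_dvd_left 2 (q - 1)
    have h2 : d ≤ 2 := Nat.le_of_dvd (by norm_num) h1
    have h3 : 0 < d := by rw [hddef]; exact Nat.gcd_pos_of_pos_left _ (by norm_num)
    interval_cases d
    · left; rfl
    · right; rfl
  have hdq : d ∣ q + 1 := by
    rcases hd12 with h | h
    · rw [h]; exact one_dvd _
    · have h2 : 2 ∣ q - 1 := by
        have : d ∣ q - 1 := by rw [hddef]; exact Nat.gcd_dvd_right 2 (q - 1)
        rwa [h] at this
      rw [h]
      omega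
  have hnd : n * d = q + 1 := by rw [hndef]; exact Nat.div_mul_cancel hdq
  have hn2 : 2 ≤ n := by
    rcases hd12 with h | h
    · rw [h] at hnd; omega
    · rw [h] at hnd; omega
  have hnq : n ∣ q + 1 := ⟨d, hnd.symm⟩
  have hcop : Nat.Coprime n p :=
    Nat.Coprime.coprime_dvd_left hnq (Nat.Coprime.coprime_dvd_right hpq (coprime_succ_self' q))
  -- the element and the dihedral group
  obtain ⟨g, hg⟩ := Cfsg.Agent.Helper41.psl2_exists_orderOf_eq_nonsplit (F := F) p
  rw [hF, ← hddef, ← hndef] at hg
  obtain ⟨D, w, hgD, hwD, hw2, hrel, ⟨eD⟩⟩ := exists_dihedral_of_orderOf p g hg hn2 hcop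
  have hcardD : Nat.card D = 2 * n := by rw [Nat.card_congr eD.toEquiv, DihedralGroup.nat_card]
  have hG := card_PSL2_mul_gcd' (F := F)
  rw [hF, ← hddef] at hG
  have hGn : Nat.card (Matrix.ProjectiveSpecialLinearGroup (Fin 2) F) = q * (q - 1) * n := by
    have h1 : Nat.card (Matrix.ProjectiveSpecialLinearGroup (Fin 2) F) * d =
        q * (q - 1) * n * d := by rw [hG, mul_assoc (q * (q - 1)), hnd]
    have hd0 : 0 < d := by rcases hd12 with h | h <;> omega
    exact Nat.eq_of_mul_eq_mul_right hd0 h1
  have hqq : 6 ≤ q * (q - 1) := by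
    obtain ⟨r, rfl⟩ : ∃ r, q = r + 3 := ⟨q - 3, by omega⟩
    have : r + 3 - 1 = r + 2 := by omega
    rw [this]; nlinarith
  refine ⟨D, ⟨?_, ?_⟩, ⟨eD⟩⟩
  · -- D ≠ ⊤
    intro htop
    have h1 : Nat.card D = Nat.card (Matrix.ProjectiveSpecialLinearGroup (Fin 2) F) := by
      rw [htop, Subgroup.card_top]
    rw [hcardD, hGn] at h1
    have : 2 * n < q * (q - 1) * n := Nat.mul_lt_mul_of_pos_right (by omega) (by omega)
    omega
  · intro M hDM
    by_contra hM
    have hle : D ≤ M := hDM.le
    have hgM : g ∈ M := hle hgD
    have hwM : w ∈ M := hle hwD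
    have h2nM : 2 * n ∣ Nat.card M := by
      rw [← hcardD]; exact Subgroup.card_dvd_of_le hle
    have hMpos : 0 < Nat.card M := Nat.card_pos
    have hnM : n ∣ Nat.card M := (Dvd.intro_left 2 rfl).trans h2nM
    have hMG : Nat.card M ≠ Nat.card (Matrix.ProjectiveSpecialLinearGroup (Fin 2) F) :=
      fun h => hM ((Subgroup.card_eq_iff_eq_top M).1 h)
    have hMdvd : Nat.card M ∣ Nat.card (Matrix.ProjectiveSpecialLinearGroup (Fin 2) F) :=
      Subgroup.card_subgroup_dvd_card M
    have hMle : Nat.card M ≤ Nat.card (Matrix.ProjectiveSpecialLinearGroup (Fin 2) F) :=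
      Nat.le_of_dvd Nat.card_pos hMdvd
    -- it suffices to bound the order of M
    suffices hcard : Nat.card M ≤ 2 * n by
      have : D = M := Subgroup.eq_of_le_of_card_ge hle (by rw [hcardD]; exact hcard)
      exact hDM.ne this
    have hlist := Cfsg.Agent.S0799.result hF p M
    rw [← hddef, ← hndef] at hlist
    rcases hlist with ⟨k, hk, hM'⟩ | ⟨P, K, hK, ⟨e⟩⟩ | ⟨⟨e⟩⟩ | ⟨⟨e⟩⟩ | ⟨⟨e⟩⟩ |
      ⟨K, _, _, m, hm, hM'⟩
    · -- cyclic or dihedral
      have hkn : k ≤ n := by
        rcases hk with hk | hk
        · exact Nat.le_of_dvd (by omega) hk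
        · have h1 : (q - 1) / d ≤ n := by
            rw [hndef]; exact Nat.div_le_div_right (by omega)
          have h2 : 0 < (q - 1) / d := by
            apply Nat.div_pos _ (by rcases hd12 with h | h <;> omega)
            rcases hd12 with h | h <;> omega
          exact (Nat.le_of_dvd h2 hk).trans h1
      rcases hM' with ⟨-, hcard⟩ | ⟨⟨e⟩⟩
      · exfalso
        have := Nat.le_of_dvd hMpos h2nM
        omega
      · rw [Nat.card_congr e.toEquiv, DihedralGroup.nat_card]
        omega
    · -- Borel type
      exfalso
      have hNP := card_normalizer_sylowP_mul p P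
      rw [hF, ← hddef] at hNP
      have h1 : Nat.card M ∣ Nat.card ↥(Subgroup.normalizer
          ((P : Subgroup (Matrix.ProjectiveSpecialLinearGroup (Fin 2) F)) :
            Set (Matrix.ProjectiveSpecialLinearGroup (Fin 2) F))) := by
        rw [Nat.card_congr e.toEquiv]
        exact Subgroup.card_dvd_of_le hK
      have h2 : 2 * n * d ∣ q * (q - 1) := by
        rw [← hNP]
        exact Nat.mul_dvd_mul_right (h2nM.trans h1) d
      have h3 : q + 1 ∣ q * (q - 1) := by
        have : 2 * n * d = 2 * (q + 1) := by rw [mul_assoc, hnd]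
        rw [this] at h2
        exact (Dvd.intro_left 2 rfl).trans h2
      have h4 : q + 1 ∣ q - 1 := (coprime_succ_self' q).dvd_of_dvd_mul_left h3
      have := Nat.le_of_dvd (by omega) h4
      omega
    · -- A4
      exfalso
      have hcM : Nat.card M = 12 := by rw [Nat.card_congr e.toEquiv, card_A4']
      have h1 := a4_inverted (e ⟨g, hgM⟩) (e ⟨w, hwM⟩)
        (by rw [← map_mul]; rw [show (⟨w, hwM⟩ : M) * ⟨w, hwM⟩ = 1 from Subtype.ext hw2, map_one])
        (by
          rw [← map_inv, ← map_mul, ← map_mul, ← map_inv]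
          congr 1
          exact Subtype.ext hrel)
      rw [← map_mul, ← map_one e] at h1
      have h2 : g * g = 1 := congrArg Subtype.val (e.injective h1)
      have h3 : n ∣ 2 := by
        rw [← hg]; exact orderOf_dvd_of_pow_eq_one (by rw [pow_two, h2])
      have hn : n = 2 := by
        have := Nat.le_of_dvd (by norm_num) h3
        omega
      rw [hn] at hnd
      have hq3' : q = 3 := by rcases hd12 with h | h <;> rw [h] at hnd <;> omega
      rw [hn, hq3'] at hGn
      omega
    · -- S4
      exfalso
      have hcM : Nat.card M = 24 := by rw [Nat.card_congr e.toEquiv, card_S4']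
      have h1 := s4_orders (e ⟨g, hgM⟩)
      have h2 : n ∣ 4 ∨ n ∣ 3 := by
        rcases h1 with h | h
        · left
          rw [← map_pow, ← map_one e] at h
          have h3 : g ^ 4 = 1 := by
            have := congrArg Subtype.val (e.injective h)
            simpa using this
          rw [← hg]; exact orderOf_dvd_of_pow_eq_one h3
        · right
          rw [← map_pow, ← map_one e] at h
          have h3 : g ^ 3 = 1 := by
            have := congrArg Subtype.val (e.injective h)
            simpa using this
          rw [← hg]; exact orderOf_dvd_of_pow_eq_one h3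
      have hn : n = 2 ∨ n = 3 ∨ n = 4 := by
        rcases h2 with h | h
        · have := Nat.le_of_dvd (by norm_num) h
          interval_cases n
          · left; rfl
          · omega
          · right; right; rfl
        · have := Nat.le_of_dvd (by norm_num) h
          interval_cases n
          · omega
          · right; left; rfl
      rcases hn with hn | hn | hn <;> rcases hd12 with hd | hd <;> rw [hn, hd] at hnd
      · omega
      · have hq' : q = 3 := by omega
        rw [hn, hq'] at hGn
        omega
      · omega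
      · have hq' : q = 5 := by omega
        rw [hn, hq'] at hGn
        rw [hGn, hcM] at hMdvd
        omega
      · have hq' : q = 3 := by omega
        rw [hq'] at hddef
        rw [hd] at hddef
        revert hddef; decide
      · omega
    · -- A5
      exfalso
      have hcM : Nat.card M = 60 := by rw [Nat.card_congr e.toEquiv, card_A5']
      have h1 := a5_orders (e ⟨g, hgM⟩)
      have key : ∀ j : ℕ, (e ⟨g, hgM⟩) ^ j = 1 → n ∣ j := by
        intro j h
        rw [← map_pow, ← map_one e] at h
        have h3 : g ^ j = 1 := by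
          have := congrArg Subtype.val (e.injective h)
          simpa using this
        rw [← hg]; exact orderOf_dvd_of_pow_eq_one h3
      have hn : n = 2 ∨ n = 3 ∨ n = 5 := by
        rcases h1 with h | h | h
        · have := Nat.le_of_dvd (by norm_num) (key 2 h)
          left; omega
        · have h' := key 3 h
          have := Nat.le_of_dvd (by norm_num) h'
          interval_cases n
          · omega
          · right; left; rfl
        · have h' := key 5 h
          have := Nat.le_of_dvd (by norm_num) h'
          interval_cases n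
          · omega
          · omega
          · omega
          · right; right; rfl
      rcases hn with hn | hn | hn <;> rcases hd12 with hd | hd <;> rw [hn, hd] at hnd
      · omega
      · have hq' : q = 3 := by omega
        rw [hn, hq'] at hGn
        omega
      · omega
      · have hq' : q = 5 := by omega
        rw [hn, hq'] at hGn
        omega
      · have hq' : q = 4 := by omega
        rw [hn, hq'] at hGn
        omega
      · omega
    · -- subfield type
      exfalso
      obtain ⟨r, hrdef⟩ : ∃ r, r = Fintype.card K := ⟨_, rfl⟩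
      have hr2 : 2 ≤ r := by rw [hrdef]; exact Fintype.one_lt_card
      have hm0 : m ≠ 0 := by
        intro h
        rw [h, pow_zero] at hm
        omega
      have hm1 : m ≠ 1 := by
        intro h
        rw [h, pow_one] at hm
        exact hM (eq_top_of_subfield_one M (hm.trans hF.symm) hM')
      have hdvd := card_dvd_of_subfield M hM'
      rw [← hrdef] at hdvd hm
      have hrq : r ∣ q := by rw [← hm]; exact dvd_pow_self r hm0
      have hcop' : Nat.Coprime n r :=
        Nat.Coprime.coprime_dvd_left hnq (Nat.Coprime.coprime_dvd_right hrq (coprime_succ_self' q))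
      have hn1 : n ∣ r ^ 2 - 1 := hcop'.dvd_of_dvd_mul_left (hnM.trans hdvd)
      have hr21 : 0 < r ^ 2 - 1 := by
        have : 2 ^ 2 ≤ r ^ 2 := Nat.pow_le_pow_left hr2 2
        omega
      have hnle : n ≤ r ^ 2 - 1 := Nat.le_of_dvd hr21 hn1
      rcases Nat.lt_or_ge m 3 with hm3 | hm3
      · have hm2 : m = 2 := by omega
        rw [hm2] at hm
        rw [hm] at hn1
        have h2 : n ∣ (q + 1) - (q - 1) := Nat.dvd_sub hnq hn1
        have h3 : (q + 1) - (q - 1) = 2 := by omega
        rw [h3] at h2
        have hn : n = 2 := by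
          have := Nat.le_of_dvd (by norm_num) h2
          omega
        rw [hn] at hnd
        have : 2 ^ 2 ≤ r ^ 2 := Nat.pow_le_pow_left hr2 2
        rcases hd12 with h | h <;> rw [h] at hnd <;> omega
      · have h1 : r ^ 3 ≤ q := by
          rw [← hm]; exact Nat.pow_le_pow_right (by omega) hm3
        have h2 : 2 * r ^ 2 ≤ r ^ 3 := by
          have : r ^ 3 = r * r ^ 2 := by ring
          rw [this]; exact Nat.mul_le_mul_right _ hr2
        have h3 : n * d ≤ n * 2 := Nat.mul_le_mul_left _ (by rcases hd12 with h | h <;> omega)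
        omega

end Cfsg.Agent.S0811
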