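import Cfsg.Statements.S0812
import Cfsg.Agent.Helper46.PSL2MaxAux
import Cfsg.Agent.S0799
import Cfsg.Agent.S0806

set_option autoImplicit false
open Cfsg

namespace Cfsg.Agent.S0812

open Cfsg.Agent.Helper46.Dk

theorem coprime_pred_self' (q : ℕ) (hq : 1 ≤ q) : Nat.Coprime (q - 1) q := by
  obtain ⟨k, rfl⟩ : ∃ k, q = k + 1 := ⟨q - 1, by omega⟩
  have : k + 1 - 1 = k := by omega
  rw [this, add_comm]
  exact (Nat.coprime_add_self_right.2 (Nat.coprime_one_right k))

set_option maxHeartbeats 1600000 in
theorem result {F : Type*} [Field F] [Fintype F] {q : ℕ} (hF : Fintype.card F = q) (hq : q ∉ ({2, 3, 5, 7, 9, 11} : Finset ℕ)) : ∃ H : Subgroup (Matrix.ProjectiveSpecialLinearGroup (Fin 2) F), IsCoatom H ∧ Nonempty (H ≃* DihedralGroup ((q - 1) / Nat.gcd 2 (q - 1))) := by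
  obtain ⟨p, hp, hc⟩ := exists_char_prime F
  have hpp : p.Prime := hp.out
  obtain ⟨kk, -, hkk⟩ := FiniteField.card F p
  rw [hF] at hkk
  have hcases := Cfsg.Agent.S0806.small_prime_pow hpp kk.pos hkk hq
  have hq4 : 4 ≤ q := by omega
  obtain ⟨d, hddef⟩ : ∃ d, d = Nat.gcd 2 (q - 1) := ⟨_, rfl⟩
  obtain ⟨n, hndef⟩ : ∃ n, n = (q - 1) / d := ⟨_, rfl⟩
  rw [← hddef, ← hndef]
  have hpq : p ∣ q := by
    rw [hkk]
    exact dvd_pow_self p kk.ne_zero
  -- arithmetic of d and n
  have hd12 : d = 1 ∨ d = 2 := by
    have h1 : d ∣ 2 := by rw [hddef]; exact Nat.gcd_dvd_left 2 (q - 1)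
    have h2 : d ≤ 2 := Nat.le_of_dvd (by norm_num) h1
    have h3 : 0 < d := by rw [hddef]; exact Nat.gcd_pos_of_pos_left _ (by norm_num)
    interval_cases d
    · left; rfl
    · right; rfl
  have hdq1 : d ∣ q - 1 := by rw [hddef]; exact Nat.gcd_dvd_right 2 (q - 1)
  have hdq : d ∣ q + 1 := by
    rcases hd12 with h | h
    · rw [h]; exact one_dvd _
    · rw [h] at hdq1 ⊢
      omega
  have hnd : n * d = q - 1 := by rw [hndef]; exact Nat.div_mul_cancel hdq1
  have hn3 : 3 ≤ n := by
    rcases hcases with h | h | h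
    · have : d = 1 := by rw [hddef, h]; decide
      rw [this, h] at hnd; omega
    · have : d = 1 := by rw [hddef, h]; decide
      rw [this, h] at hnd; omega
    · rcases hd12 with h' | h' <;> rw [h'] at hnd <;> omega
  have hn6 : n ≤ 5 → q = 4 ∧ n = 3 ∧ d = 1 := by
    intro h5
    rcases hcases with h | h | h
    · have h1 : d = 1 := by rw [hddef, h]; decide
      rw [h1, h] at hnd
      exact ⟨h, by omega, h1⟩
    · have h1 : d = 1 := by rw [hddef, h]; decide
      rw [h1, h] at hnd; omega
    · rcases hd12 with h' | h' <;> rw [h'] at hnd <;> omega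
  have hnq : n ∣ q - 1 := ⟨d, hnd.symm⟩
  have hcopq : Nat.Coprime n q :=
    Nat.Coprime.coprime_dvd_left hnq (coprime_pred_self' q (by omega))
  have hcop : Nat.Coprime n p := Nat.Coprime.coprime_dvd_right hpq hcopq
  -- the element and the dihedral group
  obtain ⟨g, hg⟩ := Cfsg.Agent.Helper41.psl2_exists_orderOf_eq_split (F := F)
  rw [hF, ← hddef, ← hndef] at hg
  obtain ⟨D, w, hgD, hwD, hw2, hrel, ⟨eD⟩⟩ :=
    exists_dihedral_of_orderOf p g hg (by omega) hcop
  have hcardD : Nat.card D = 2 * n := by rw [Nat.card_congr eD.toEquiv, DihedralGroup.nat_card]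
  have hG := card_PSL2_mul_gcd' (F := F)
  rw [hF, ← hddef] at hG
  have hGn : Nat.card (Matrix.ProjectiveSpecialLinearGroup (Fin 2) F) = q * n * (q + 1) := by
    have h1 : Nat.card (Matrix.ProjectiveSpecialLinearGroup (Fin 2) F) * d =
        q * n * (q + 1) * d := by
      rw [hG, ← hnd]; ring
    have hd0 : 0 < d := by rcases hd12 with h | h <;> omega
    exact Nat.eq_of_mul_eq_mul_right hd0 h1
  refine ⟨D, ⟨?_, ?_⟩, ⟨eD⟩⟩
  · -- D ≠ ⊤
    intro htop
    have h1 : Nat.card D = Nat.card (Matrix.ProjectiveSpecialLinearGroup (Fin 2) F) := by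
      rw [htop, Subgroup.card_top]
    rw [hcardD, hGn] at h1
    have : 2 * n < q * n * (q + 1) := by
      calc 2 * n < 4 * n * 5 := by omega
        _ ≤ q * n * (q + 1) := Nat.mul_le_mul (Nat.mul_le_mul hq4 le_rfl) (by omega)
    omega
  · intro M hDM
    by_contra hM
    have hle : D ≤ M := hDM.le
    have hgM : g ∈ M := hle hgD
    have hwM : w ∈ M := hle hwD
    have h2nM : 2 * n ∣ Nat.card M := by
      rw [← hcardD]; exact Subgroup.card_dvd_of_le hle
    have hMpos : 0 < Nat.card M := Nat.card_pos
    have hnM : n ∣ Nat.card M := (Dvd.intro_left 2 rfl).trans h2nM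
    have hMG : Nat.card M ≠ Nat.card (Matrix.ProjectiveSpecialLinearGroup (Fin 2) F) :=
      fun h => hM ((Subgroup.card_eq_iff_eq_top M).1 h)
    have hMdvd : Nat.card M ∣ Nat.card (Matrix.ProjectiveSpecialLinearGroup (Fin 2) F) :=
      Subgroup.card_subgroup_dvd_card M
    have hMle : Nat.card M ≤ Nat.card (Matrix.ProjectiveSpecialLinearGroup (Fin 2) F) :=
      Nat.le_of_dvd Nat.card_pos hMdvd
    suffices hcard : Nat.card M ≤ 2 * n by
      have : D = M := Subgroup.eq_of_le_of_card_ge hle (by rw [hcardD]; exact hcard)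
      exact hDM.ne this
    -- transport of powers through isomorphisms
    have keypow : ∀ {X : Type} [Group X] (e : M ≃* X) (j : ℕ), (e ⟨g, hgM⟩) ^ j = 1 → n ∣ j := by
      intro X _ e j h
      rw [← map_pow, ← map_one e] at h
      have h3 : g ^ j = 1 := by
        have := congrArg Subtype.val (e.injective h)
        simpa using this
      rw [← hg]; exact orderOf_dvd_of_pow_eq_one h3
    have hlist := Cfsg.Agent.S0799.result hF p M
    rw [← hddef, ← hndef] at hlist
    rcases hlist with ⟨k, hk, hM'⟩ | ⟨P, K, hK, ⟨e⟩⟩ | ⟨⟨e⟩⟩ | ⟨⟨e⟩⟩ | ⟨⟨e⟩⟩ |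
      ⟨K, _, _, m, hm, hM'⟩
    · -- cyclic or dihedral
      have hq1d : (q + 1) / d * d = q + 1 := Nat.div_mul_cancel hdq
      rcases hM' with ⟨-, hcard⟩ | ⟨⟨e⟩⟩
      · exfalso
        have h2n := Nat.le_of_dvd hMpos h2nM
        rw [hcard] at h2n
        rcases hk with hk | hk
        · have h1 : 0 < (q + 1) / d := Nat.div_pos (by rcases hd12 with h | h <;> omega)
            (by rcases hd12 with h | h <;> omega)
          have h2 := Nat.le_of_dvd h1 hk
          have h3 : 2 * n * d ≤ (q + 1) / d * d :=
            Nat.mul_le_mul_right d (h2n.trans h2)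
          rw [hq1d, mul_assoc, hnd] at h3
          omega
        · have h2 := Nat.le_of_dvd (by omega) hk
          omega
      · rw [Nat.card_congr e.toEquiv, DihedralGroup.nat_card] at h2nM ⊢
        have hnk : n ∣ k := Nat.dvd_of_mul_dvd_mul_left (by norm_num) h2nM
        rcases hk with hk | hk
        · exfalso
          have h1 : n * d ∣ (q + 1) / d * d := Nat.mul_dvd_mul_right (hnk.trans hk) d
          rw [hq1d, hnd] at h1
          have h2 : q - 1 ∣ (q + 1) - (q - 1) := Nat.dvd_sub h1 (dvd_refl _)
          have h3 : (q + 1) - (q - 1) = 2 := by omega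
          rw [h3] at h2
          have := Nat.le_of_dvd (by norm_num) h2
          omega
        · have := Nat.dvd_antisymm hk hnk
          omega
    · -- Borel type
      exfalso
      have haN : (e ⟨g, hgM⟩).1 ∈
          Subgroup.normalizer
          ((P : Subgroup (Matrix.ProjectiveSpecialLinearGroup (Fin 2) F)) :
            Set (Matrix.ProjectiveSpecialLinearGroup (Fin 2) F)) := hK (e ⟨g, hgM⟩).2
      have hbN : (e ⟨w, hwM⟩).1 ∈
          Subgroup.normalizer
          ((P : Subgroup (Matrix.ProjectiveSpecialLinearGroup (Fin 2) F)) :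
            Set (Matrix.ProjectiveSpecialLinearGroup (Fin 2) F)) := hK (e ⟨w, hwM⟩).2
      have hcomm := commutator_mem_sylowP p P hbN haN
      have hrel' : (e ⟨w, hwM⟩).1 * (e ⟨g, hgM⟩).1 * ((e ⟨w, hwM⟩).1)⁻¹ =
          ((e ⟨g, hgM⟩).1)⁻¹ := by
        have h1 : e ⟨w, hwM⟩ * e ⟨g, hgM⟩ * (e ⟨w, hwM⟩)⁻¹ = (e ⟨g, hgM⟩)⁻¹ := by
          rw [← map_inv, ← map_mul, ← map_mul, ← map_inv]
          congr 1
          exact Subtype.ext hrel
        have := congrArg Subtype.val h1
        simpa using this
      rw [hrel'] at hcomm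
      set a : Matrix.ProjectiveSpecialLinearGroup (Fin 2) F := (e ⟨g, hgM⟩).1 with hadef
      have ha2 : a ^ 2 ∈ (P : Subgroup (Matrix.ProjectiveSpecialLinearGroup (Fin 2) F)) := by
        have := Subgroup.inv_mem _ hcomm
        rwa [mul_inv_rev, inv_inv, ← pow_two] at this
      have hao : orderOf a = n := by
        rw [hadef, Subgroup.orderOf_coe, MulEquiv.orderOf_eq, Subgroup.orderOf_mk, hg]
      obtain ⟨j, hj⟩ := P.isPGroup' ⟨a ^ 2, ha2⟩
      have hj' : (a ^ 2) ^ (p ^ j) = 1 := by
        have := congrArg Subtype.val hj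
        simpa using this
      have h1 : orderOf (a ^ 2) ∣ p ^ j := orderOf_dvd_of_pow_eq_one hj'
      have h2 : orderOf (a ^ 2) ∣ n := by
        rw [← hao]; exact orderOf_pow_dvd 2
      have h3 : orderOf (a ^ 2) = 1 :=
        Nat.Coprime.eq_one_of_dvd (Nat.Coprime.coprime_dvd_left h2 (Nat.Coprime.pow_right j hcop)) h1
      have h4 : a ^ 2 = 1 := orderOf_eq_one_iff.1 h3
      have h5 : n ∣ 2 := by rw [← hao]; exact orderOf_dvd_of_pow_eq_one h4
      have := Nat.le_of_dvd (by norm_num) h5
      omega
    · -- A4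
      exfalso
      have h1 := a4_inverted (e ⟨g, hgM⟩) (e ⟨w, hwM⟩)
        (by rw [← map_mul]; rw [show (⟨w, hwM⟩ : M) * ⟨w, hwM⟩ = 1 from Subtype.ext hw2, map_one])
        (by
          rw [← map_inv, ← map_mul, ← map_mul, ← map_inv]
          congr 1
          exact Subtype.ext hrel)
      rw [← pow_two] at h1
      have := Nat.le_of_dvd (by norm_num) (keypow e 2 h1)
      omega
    · -- S4
      exfalso
      have hcM : Nat.card M = 24 := by rw [Nat.card_congr e.toEquiv, card_S4']
      have h1 := s4_orders (e ⟨g, hgM⟩)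
      have hn5 : n ≤ 5 := by
        rcases h1 with h | h
        · have := Nat.le_of_dvd (by norm_num) (keypow e 4 h); omega
        · have := Nat.le_of_dvd (by norm_num) (keypow e 3 h); omega
      obtain ⟨hq', hn', hd'⟩ := hn6 hn5
      rw [hq', hn'] at hGn
      rw [hGn, hcM] at hMdvd
      omega
    · -- A5
      exfalso
      have hcM : Nat.card M = 60 := by rw [Nat.card_congr e.toEquiv, card_A5']
      have h1 := a5_orders (e ⟨g, hgM⟩)
      have hn5 : n ≤ 5 := by
        rcases h1 with h | h | h
        · have := Nat.le_of_dvd (by norm_num) (keypow e 2 h); omega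
        · have := Nat.le_of_dvd (by norm_num) (keypow e 3 h); omega
        · exact Nat.le_of_dvd (by norm_num) (keypow e 5 h)
      obtain ⟨hq', hn', hd'⟩ := hn6 hn5
      rw [hq', hn'] at hGn
      omega
    · -- subfield type
      obtain ⟨r, hrdef⟩ : ∃ r, r = Fintype.card K := ⟨_, rfl⟩
      have hr2 : 2 ≤ r := by rw [hrdef]; exact Fintype.one_lt_card
      have hm0 : m ≠ 0 := by
        intro h
        rw [h, pow_zero] at hm
        omega
      have hm1 : m ≠ 1 := by
        intro h
        rw [h, pow_one] at hm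
        exact hM (eq_top_of_subfield_one M (hm.trans hF.symm) hM')
      have hdvd := card_dvd_of_subfield M hM'
      obtain ⟨p', hp', hc'⟩ := exists_char_prime K
      have hord := orderOf_dvd_of_subfield M p' hM' hgM
      rw [hg, ← hrdef] at hord
      rw [← hrdef] at hdvd hm
      have hrq : r ∣ q := by rw [← hm]; exact dvd_pow_self r hm0
      have hp'r : p' ∣ r := by
        obtain ⟨k', -, hk'⟩ := FiniteField.card K p'
        rw [hrdef, hk']
        exact dvd_pow_self p' k'.ne_zero
      have hrq2 : r ^ 2 ≤ q := by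
        rw [← hm]; exact Nat.pow_le_pow_right (by omega) (by omega)
      -- parity
      rcases Nat.even_or_odd r with hre | hro
      · -- r even: d = 1 and gcd 2 (r-1) = 1
        have hdr : Nat.gcd 2 (r - 1) = 1 := by
          obtain ⟨t, ht⟩ := hre
          have : ¬ 2 ∣ r - 1 := by omega
          exact (Nat.Prime.coprime_iff_not_dvd Nat.prime_two).mpr this
        have hqe : Even q := by rw [← hm]; exact (Nat.even_pow.2 ⟨hre, hm0⟩)
        have hd1 : d = 1 := by
          rw [hddef]
          obtain ⟨t, ht⟩ := hqe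
          have : ¬ 2 ∣ q - 1 := by omega
          exact (Nat.Prime.coprime_iff_not_dvd Nat.prime_two).mpr this
        rw [hd1, mul_one] at hnd
        rw [hdr, Nat.div_one, Nat.div_one] at hord
        have hnle : n ≤ 2 * (r + 1) := by
          rcases hord with h | h | h
          · exfalso
            have h1 : n ∣ 2 := (Nat.Coprime.coprime_dvd_right (hp'r.trans hrq) hcopq).dvd_of_dvd_mul_right h
            have := Nat.le_of_dvd (by norm_num) h1
            omega
          · have := Nat.le_of_dvd (by omega) h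
            omega
          · exact Nat.le_of_dvd (by omega) h
        have hr : r = 2 := by
          have h1 : r ^ 2 ≤ 2 * r + 3 := by omega
          have h2 : r ≤ 3 := by
            by_contra hcon
            push_neg at hcon
            have : 4 * r ≤ r * r := Nat.mul_le_mul_right r hcon
            rw [pow_two] at h1
            omega
          obtain ⟨t, ht⟩ := hre
          omega
        rw [hr] at hdvd hrq2 hnle
        have hq' : q = 4 := by
          rcases hcases with h | h | h <;> omega
        have := Nat.le_of_dvd (by norm_num) hdvd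
        norm_num at this
        omega
      · -- r odd
        exfalso
        have hdr : Nat.gcd 2 (r - 1) = 2 := by
          obtain ⟨t, ht⟩ := hro
          have : 2 ∣ r - 1 := by omega
          exact Nat.gcd_eq_left this
        have hqo : Odd q := by rw [← hm]; exact hro.pow
        have hd2 : d = 2 := by
          rw [hddef]
          obtain ⟨t, ht⟩ := hqo
          have : 2 ∣ q - 1 := by omega
          exact Nat.gcd_eq_left this
        rw [hd2] at hnd
        rw [hdr] at hord
        have hnle : n ≤ r + 1 := by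
          obtain ⟨t, ht⟩ := hro
          rcases hord with h | h | h
          · exfalso
            have h1 : n ∣ 2 := (Nat.Coprime.coprime_dvd_right (hp'r.trans hrq) hcopq).dvd_of_dvd_mul_right h
            have := Nat.le_of_dvd (by norm_num) h1
            omega
          · have h1 : 2 * ((r - 1) / 2) = r - 1 := by omega
            rw [h1] at h
            have := Nat.le_of_dvd (by omega) h
            omega
          · have h1 : 2 * ((r + 1) / 2) = r + 1 := by omega
            rw [h1] at h
            exact Nat.le_of_dvd (by omega) h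
        have hr : r ≤ 3 := by
          have h1 : r ^ 2 ≤ 2 * r + 3 := by omega
          by_contra hcon
          push_neg at hcon
          have : 4 * r ≤ r * r := Nat.mul_le_mul_right r hcon
          rw [pow_two] at h1
          omega
        have hr3 : r = 3 := by
          obtain ⟨t, ht⟩ := hro
          omega
        rw [hr3] at hnle hrq2
        rcases hcases with h | h | h <;> omega

end Cfsg.Agent.S0812
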