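import Cfsg.Statements.S0817
import Cfsg.Agent.Helper36.OutD4Iso
import Cfsg.Agent.S2695
import Cfsg.Agent.S2724
import Cfsg.Agent.Helper12.GammaOH
import Cfsg.Agent.Helper5.CosetL

set_option autoImplicit false
open Cfsg

namespace Cfsg.Agent.S0817

open Cfsg.Agent.Helper12.GammaO Cfsg.Agent.Helper44

theorem card_index_plus (m : ℕ) : Fintype.card (Fin m ⊕ Fin m) = 2 * m := by
  rw [Fintype.card_sum, Fintype.card_fin]
  omega

theorem even_cond_plus (m q : ℕ) (hq : Odd q) :
    Even (m * (q - 1) / 2) ↔ ¬ (Odd m ∧ q % 4 = 3) := by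
  have hq2 := Nat.odd_iff.1 hq
  have hdiv : 2 ∣ q - 1 := by omega
  rw [Nat.mul_div_assoc _ hdiv, Nat.even_mul, Nat.even_iff, Nat.even_iff, Nat.odd_iff]
  omega

/-- the case `m ≥ 5`: all automorphisms come from semisimilarities -/
theorem card_mulAut_plusForm {F : Type*} [Field F] [Fintype F] (p f : ℕ) [Fact p.Prime] (hf : 1 ≤ f)
    (hF : Fintype.card F = p ^ f) (m : ℕ) (hm : 5 ≤ m) :
    Nat.card (MulAut (Cfsg.POmega F (Cfsg.quadFormPlus m F)))
      = (if p = 2 then 2 else (if Even (m * (p ^ f - 1) / 2) then 8 else 4)) * f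
        * Nat.card (Cfsg.POmega F (Cfsg.quadFormPlus m F)) := by
  have hQ := nondegenerate_plusForm (F := F) m
  have hn : 7 ≤ Fintype.card (Fin m ⊕ Fin m) := by
    rw [card_index_plus]
    omega
  have h0 := card_mulAut_of_gamma_eq_top (plusForm m F) hQ hn
    (fun σ => ⟨1, Cfsg.Agent.Helper5.Coset.one_isSemisimilarityPair m σ⟩) (Cfsg.Agent.S2695.result hm)
  rw [(Cfsg.Agent.Helper37.OutPsl.card_ringAut hF hf).1] at h0
  have h0' : Nat.card (MulAut (Cfsg.POmega F (Cfsg.quadFormPlus m F)))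
      = f * Nat.card ↥(Cfsg.pgoAut F (Cfsg.quadFormPlus m F)) := h0
  rw [h0']
  by_cases hp : p = 2
  · rw [if_pos hp]
    have hchar : CharP F p := charP_of_card_eq_prime_pow hF
    rw [hp] at hchar
    have h1 := card_pgoAut_two' (plusForm m F) hQ hn
    have h1' : Nat.card ↥(Cfsg.pgoAut F (Cfsg.quadFormPlus m F))
        = 2 * Nat.card (Cfsg.POmega F (Cfsg.quadFormPlus m F)) := h1
    rw [h1']
    ring
  · rw [if_neg hp]
    have hpo : Odd p := (Fact.out : p.Prime).odd_of_ne_two hp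
    have hq : Odd (Fintype.card F) := by
      rw [hF]
      exact hpo.pow
    have h2 : (2 : F) ≠ 0 := two_ne_zero_of_odd_card rfl hq
    have hcond := even_cond_plus m (p ^ f) hpo.pow
    by_cases hc : Odd m ∧ Fintype.card F % 4 = 3
    · obtain ⟨φ, hs, hk⟩ := (Cfsg.Agent.S2724.result hq (by omega : 4 ≤ m)).1 hc
      have h1 := card_pgoAut_of_hom (plusForm m F) h2 hQ hn φ hs hk
      have h1' : Nat.card ↥(Cfsg.pgoAut F (Cfsg.quadFormPlus m F))
          = Nat.card (Multiplicative (ZMod 2 × ZMod 2))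
            * Nat.card (Cfsg.POmega F (Cfsg.quadFormPlus m F)) := h1
      have h4 : Nat.card (Multiplicative (ZMod 2 × ZMod 2)) = 4 := by
        rw [Nat.card_eq_fintype_card]
        rfl
      rw [h1', h4]
      have hne : ¬ Even (m * (p ^ f - 1) / 2) := by
        rw [hcond, not_not, ← hF]
        exact hc
      rw [if_neg hne]
      ring
    · obtain ⟨φ, hs, hk⟩ := (Cfsg.Agent.S2724.result hq (by omega : 4 ≤ m)).2 hc
      have h1 := card_pgoAut_of_hom (plusForm m F) h2 hQ hn φ hs hk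
      have h1' : Nat.card ↥(Cfsg.pgoAut F (Cfsg.quadFormPlus m F))
          = Nat.card (DihedralGroup 4)
            * Nat.card (Cfsg.POmega F (Cfsg.quadFormPlus m F)) := h1
      rw [h1', DihedralGroup.nat_card]
      have he : Even (m * (p ^ f - 1) / 2) := by
        rw [hcond, ← hF]
        exact hc
      rw [if_pos he]
      ring

/-- |Aut(PΩ⁺_2m(q))| for q = p^f, m ≥ 4: |PΩ⁺_2m(q)| times f, times 3 when m = 4, times 2 if p = 2, and times 8 or 4 if p is odd according as m(q−1)/2 is even or odd. -/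
theorem result {F : Type*} [Field F] [Fintype F] (p f : ℕ) [Fact p.Prime] (hf : 1 ≤ f) (hF : Fintype.card F = p ^ f) (m : ℕ) (hm : 4 ≤ m) : Nat.card (MulAut (Cfsg.POmega F (Cfsg.quadFormPlus m F))) = (if m = 4 then 3 else 1) * (if p = 2 then 2 else (if Even (m * (p ^ f - 1) / 2) then 8 else 4)) * f * Nat.card (Cfsg.POmega F (Cfsg.quadFormPlus m F)) := by
  by_cases h4 : m = 4
  · subst h4
    rw [if_pos rfl, Cfsg.Agent.Helper36.OutDiag.card_mulAut_POmega8 p f hf hF]
    have he : Even (4 * (p ^ f - 1) / 2) := by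
      have : 4 * (p ^ f - 1) / 2 = 2 * (p ^ f - 1) := by omega
      rw [this]
      exact even_two_mul _
    rw [if_pos he]
  · rw [if_neg h4, one_mul]
    exact card_mulAut_plusForm p f hf hF m (by omega)

end Cfsg.Agent.S0817
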