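import Cfsg.Statements.S0819
import Cfsg.Agent.Helper98.SL3GF4

set_option autoImplicit false
open Cfsg

namespace Cfsg.Agent.S0819

open Cfsg.Agent.Helper27 Cfsg.Agent.Helper98 Matrix in
/-- transport of the key fact to an arbitrary field with four elements -/
theorem key_field {F : Type*} [Field F] [Fintype F] (hF : Fintype.card F = 4)
    (A : Matrix (Fin 3) (Fin 3) F) (hdet : A.det = 1) (c : F)
    (h15 : A ^ 15 = c • (1 : Matrix (Fin 3) (Fin 3) F)) :
    (∃ c' : F, A ^ 5 = c' • (1 : Matrix (Fin 3) (Fin 3) F)) ∨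
      (∃ c' : F, A ^ 3 = c' • (1 : Matrix (Fin 3) (Fin 3) F)) := by
  set e := gf4Equiv F hF with he
  set E : Matrix (Fin 3) (Fin 3) GF4 ≃+* Matrix (Fin 3) (Fin 3) F := e.mapMatrix with hE
  have hsm : ∀ d : GF4, E (d • (1 : Matrix (Fin 3) (Fin 3) GF4)) =
      (e d) • (1 : Matrix (Fin 3) (Fin 3) F) := by
    intro d
    ext i j
    by_cases hij : i = j
    · simp [hE, RingEquiv.mapMatrix_apply, hij]
    · simp [hE, RingEquiv.mapMatrix_apply, hij]
  have hsm' : ∀ d : F, E.symm (d • (1 : Matrix (Fin 3) (Fin 3) F)) =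
      (e.symm d) • (1 : Matrix (Fin 3) (Fin 3) GF4) := by
    intro d
    apply E.injective
    rw [E.apply_symm_apply, hsm, e.apply_symm_apply]
  set B := E.symm A with hB
  have hEB : E B = A := E.apply_symm_apply A
  have hdetB : B.det = 1 := by
    have h1 : e B.det = (E B).det := by
      rw [hE, RingEquiv.mapMatrix_apply]
      exact RingHom.map_det e.toRingHom B
    rw [hEB, hdet] at h1
    have : e B.det = e 1 := by rw [h1, map_one]
    exact e.injective this
  have hB15 : B ^ 15 = (e.symm c) • (1 : Matrix (Fin 3) (Fin 3) GF4) := by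
    rw [hB, ← map_pow, h15, hsm']
  rcases key_GF4 B hdetB _ hB15 with ⟨c', h⟩ | ⟨c', h⟩
  · left
    refine ⟨e c', ?_⟩
    rw [← hEB, ← map_pow, h, hsm]
  · right
    refine ⟨e c', ?_⟩
    rw [← hEB, ← map_pow, h, hsm]

/-- a scalar matrix of determinant one is central in `SL` -/
theorem mem_center_of_scalar {F : Type*} [Field F] (g : Matrix.SpecialLinearGroup (Fin 3) F) (c : F)
    (h : g.1 = c • (1 : Matrix (Fin 3) (Fin 3) F)) :
    g ∈ Subgroup.center (Matrix.SpecialLinearGroup (Fin 3) F) := by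
  rw [Subgroup.mem_center_iff]
  intro x
  apply Subtype.ext
  show x.1 * g.1 = g.1 * x.1
  rw [h, Matrix.mul_smul, Matrix.smul_mul, mul_one, one_mul]

/-- No element of PSL_3(4) has order 15. -/
theorem result {F : Type*} [Field F] [Fintype F] (hF : Fintype.card F = 4) (g : Matrix.ProjectiveSpecialLinearGroup (Fin 3) F) : orderOf g ≠ 15 := by
  intro h15
  obtain ⟨x, rfl⟩ := QuotientGroup.mk_surjective g
  have hp15 : (QuotientGroup.mk x : Matrix.ProjectiveSpecialLinearGroup (Fin 3) F) ^ 15 = 1 := by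
    rw [← h15]; exact pow_orderOf_eq_one _
  have hp5 : (QuotientGroup.mk x : Matrix.ProjectiveSpecialLinearGroup (Fin 3) F) ^ 5 ≠ 1 := by
    intro h
    have := orderOf_dvd_of_pow_eq_one h
    rw [h15] at this
    norm_num at this
  have hp3 : (QuotientGroup.mk x : Matrix.ProjectiveSpecialLinearGroup (Fin 3) F) ^ 3 ≠ 1 := by
    intro h
    have := orderOf_dvd_of_pow_eq_one h
    rw [h15] at this
    norm_num at this
  rw [← QuotientGroup.mk_pow, QuotientGroup.eq_one_iff] at hp15
  rw [← QuotientGroup.mk_pow, Ne, QuotientGroup.eq_one_iff] at hp5 hp3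
  rw [Matrix.SpecialLinearGroup.mem_center_iff] at hp15
  obtain ⟨r, -, hr⟩ := hp15
  have h15' : (x.1) ^ 15 = r • (1 : Matrix (Fin 3) (Fin 3) F) := by
    have : (x ^ 15).1 = (x.1) ^ 15 := Matrix.SpecialLinearGroup.coe_pow x 15
    rw [← this, ← hr]
    simp [Matrix.smul_one_eq_diagonal]
  rcases key_field hF x.1 x.2 r h15' with ⟨c', h⟩ | ⟨c', h⟩
  · apply hp5
    apply mem_center_of_scalar _ c'
    rw [Matrix.SpecialLinearGroup.coe_pow, h]
  · apply hp3
    apply mem_center_of_scalar _ c'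
    rw [Matrix.SpecialLinearGroup.coe_pow, h]

end Cfsg.Agent.S0819
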