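import Cfsg.Statements.S2579
import Cfsg.Agent.Helper43.Transvection

set_option autoImplicit false
open Cfsg

namespace Cfsg.Agent.S2579

open Cfsg.Agent.Helper43 Module

/-- In SL_n(F) with n ≥ 3, over a finite field F, any two transvections (matrices t with t − 1 of rank one and square zero) are conjugate by an element of SL_n(F). -/
theorem result {F : Type*} [Field F] [Finite F] {n : ℕ} (hn : 3 ≤ n) (s t : Matrix.SpecialLinearGroup (Fin n) F) (hs : Cfsg.IsTransvection (s : Matrix (Fin n) (Fin n) F)) (ht : Cfsg.IsTransvection (t : Matrix (Fin n) (Fin n) F)) : IsConj s t := by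
  obtain ⟨m, rfl⟩ : ∃ m, n = m + 3 := ⟨n - 3, by omega⟩
  set S : Matrix (Fin (m + 3)) (Fin (m + 3)) F := (s : Matrix (Fin (m + 3)) (Fin (m + 3)) F) with hS
  set T : Matrix (Fin (m + 3)) (Fin (m + 3)) F := (t : Matrix (Fin (m + 3)) (Fin (m + 3)) F) with hT
  have hV : finrank F (Fin (m + 3) → F) = m + 3 := Module.finrank_fin_fun F
  have hrank : ∀ M : Matrix (Fin (m + 3)) (Fin (m + 3)) F, M.rank = 1 →
      finrank F (LinearMap.range (Matrix.toLin' M)) = 1 := by
    intro M hM
    rw [← hM, Matrix.rank, Matrix.toLin'_apply']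
  have hsq : ∀ M : Matrix (Fin (m + 3)) (Fin (m + 3)) F, M * M = 0 →
      Matrix.toLin' M * Matrix.toLin' M = 0 := by
    intro M hM
    rw [Module.End.mul_eq_comp, ← Matrix.toLin'_mul, hM, map_zero]
  have r1 := hrank _ hs.1
  have r2 := hsq _ hs.2
  have r3 := hrank _ ht.1
  have r4 := hsq _ ht.2
  have key := exists_det_one_conj (F := F) (V := Fin (m + 3) → F) (m := m) (Matrix.toLin' (S - 1)) (Matrix.toLin' (T - 1)) hV r1 r2 r3 r4
  obtain ⟨g, hgdet, hg⟩ := key
  have hGdet : (LinearMap.toMatrix' g).det = 1 := by rw [LinearMap.det_toMatrix', hgdet]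
  let c : Matrix.SpecialLinearGroup (Fin (m + 3)) F := ⟨LinearMap.toMatrix' g, hGdet⟩
  have h1 : LinearMap.toMatrix' g * (S - 1) = (T - 1) * LinearMap.toMatrix' g := by
    apply (Matrix.toLin' (R := F)).injective
    rw [Matrix.toLin'_mul, Matrix.toLin'_mul, Matrix.toLin'_toMatrix']
    exact hg
  rw [Matrix.mul_sub, Matrix.sub_mul, Matrix.mul_one, Matrix.one_mul] at h1
  have h2 : LinearMap.toMatrix' g * S = T * LinearMap.toMatrix' g := sub_left_inj.mp h1
  have h3 : c * s = t * c := by
    apply Matrix.SpecialLinearGroup.ext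
    intro i j
    rw [Matrix.SpecialLinearGroup.coe_mul, Matrix.SpecialLinearGroup.coe_mul]
    exact congrFun (congrFun h2 i) j
  rw [isConj_iff]
  exact ⟨c, by rw [h3, mul_inv_cancel_right]⟩

end Cfsg.Agent.S2579
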