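import Cfsg.Statements.S0820
import Cfsg.Agent.S2579

set_option autoImplicit false
open Cfsg

namespace Cfsg.Agent.S0820

open Module Matrix

/-- A nonzero square-zero `3 × 3` matrix has rank one. -/
theorem rank_eq_one_of_sq_zero {F : Type*} [Field F] (A : Matrix (Fin 3) (Fin 3) F)
    (hA : A * A = 0) (hA0 : A ≠ 0) : A.rank = 1 := by
  have h1 := LinearMap.finrank_range_add_finrank_ker (Matrix.toLin' A)
  rw [Module.finrank_fin_fun] at h1
  have h2 : finrank F (LinearMap.range (Matrix.toLin' A)) ≤ finrank F (LinearMap.ker (Matrix.toLin' A)) := by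
    apply Submodule.finrank_mono
    rintro _ ⟨x, rfl⟩
    rw [LinearMap.mem_ker, ← LinearMap.comp_apply, ← Matrix.toLin'_mul, hA, map_zero]
    rfl
  have h3 : finrank F (LinearMap.range (Matrix.toLin' A)) ≠ 0 := by
    intro h0
    have : LinearMap.range (Matrix.toLin' A) = ⊥ := Submodule.finrank_eq_zero.mp h0
    rw [LinearMap.range_eq_bot] at this
    apply hA0
    apply (Matrix.toLin' (R := F)).injective
    rw [this, map_zero]
  have h4 : A.rank = finrank F (LinearMap.range (Matrix.toLin' A)) := by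
    rw [Matrix.rank, Matrix.toLin'_apply']
  omega

/-- Every element of order two of `PSL_3(4)` is the image of a transvection of `SL_3(4)`. -/
theorem exists_transvection_lift {F : Type*} [Field F] [Fintype F] (hF : Fintype.card F = 4)
    (x : Matrix.ProjectiveSpecialLinearGroup (Fin 3) F) (hx : orderOf x = 2) :
    ∃ s : Matrix.SpecialLinearGroup (Fin 3) F,
      Cfsg.IsTransvection (s : Matrix (Fin 3) (Fin 3) F) ∧
      (QuotientGroup.mk s : Matrix.ProjectiveSpecialLinearGroup (Fin 3) F) = x := by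
  -- characteristic two
  have h2 : (2 : F) = 0 := by
    have h4 : ((Fintype.card F : ℕ) : F) = 0 := Nat.cast_card_eq_zero F
    rw [hF] at h4
    have : (2 : F) * 2 = 0 := by
      have : ((4 : ℕ) : F) = 2 * 2 := by norm_num
      rw [← this]; exact h4
    exact mul_self_eq_zero.mp this
  obtain ⟨x0, rfl⟩ := QuotientGroup.mk_surjective x
  have hx2 : (QuotientGroup.mk x0 : Matrix.ProjectiveSpecialLinearGroup (Fin 3) F) ^ 2 = 1 := by
    rw [← hx]; exact pow_orderOf_eq_one _
  have hx1 : (QuotientGroup.mk x0 : Matrix.ProjectiveSpecialLinearGroup (Fin 3) F) ≠ 1 := by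
    intro h
    rw [h, orderOf_one] at hx
    omega
  have hmem : x0 ^ 2 ∈ Subgroup.center (Matrix.SpecialLinearGroup (Fin 3) F) := by
    rw [← QuotientGroup.eq_one_iff, QuotientGroup.mk_pow]
    exact hx2
  obtain ⟨r, hr3, hr⟩ := Matrix.SpecialLinearGroup.mem_center_iff.mp hmem
  rw [Fintype.card_fin] at hr3
  -- the central element z = scalar r
  have hzdet : (Matrix.scalar (Fin 3) r).det = 1 := by
    rw [hr]; exact (x0 ^ 2).2
  let z : Matrix.SpecialLinearGroup (Fin 3) F := ⟨Matrix.scalar (Fin 3) r, hzdet⟩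
  have hzx : z = x0 ^ 2 := Subtype.ext hr
  have hzc : z ∈ Subgroup.center (Matrix.SpecialLinearGroup (Fin 3) F) := hzx ▸ hmem
  have hz3 : z ^ 3 = 1 := by
    apply Subtype.ext
    rw [Matrix.SpecialLinearGroup.coe_pow]
    show (Matrix.scalar (Fin 3) r) ^ 3 = 1
    rw [← map_pow, hr3, map_one]
  set s : Matrix.SpecialLinearGroup (Fin 3) F := z * x0 with hs
  have hcomm : z * x0 = x0 * z := (Subgroup.mem_center_iff.mp hzc x0).symm
  have hs2 : s * s = 1 := by
    calc s * s = (z * x0) * (z * x0) := rfl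
      _ = z * (x0 * z) * x0 := by simp only [mul_assoc]
      _ = z * (z * x0) * x0 := by rw [hcomm]
      _ = z * z * (x0 ^ 2) := by rw [pow_two]; simp only [mul_assoc]
      _ = z * z * z := by rw [hzx]
      _ = z ^ 3 := by rw [pow_succ, pow_two]
      _ = 1 := hz3
  have hsx : (QuotientGroup.mk s : Matrix.ProjectiveSpecialLinearGroup (Fin 3) F)
      = QuotientGroup.mk x0 := by
    rw [hs, QuotientGroup.mk_mul, (QuotientGroup.eq_one_iff z).mpr hzc, one_mul]
  have hs1 : s ≠ 1 := by
    intro h
    apply hx1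
    rw [← hsx, h]
    rfl
  set S : Matrix (Fin 3) (Fin 3) F := (s : Matrix (Fin 3) (Fin 3) F) with hS
  have hSS : S * S = 1 := by
    have := congrArg (fun t : Matrix.SpecialLinearGroup (Fin 3) F => (t : Matrix (Fin 3) (Fin 3) F)) hs2
    simpa using this
  have hS1 : S - 1 ≠ 0 := by
    intro h
    apply hs1
    apply Subtype.ext
    exact sub_eq_zero.mp h
  have hsq : (S - 1) * (S - 1) = 0 := by
    have e : (S - 1) * (S - 1) = S * S - (2 : F) • S + 1 := by
      rw [two_smul]
      noncomm_ring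
    rw [e, hSS, h2, zero_smul, sub_zero]
    have : (1 : Matrix (Fin 3) (Fin 3) F) + 1 = (2 : F) • 1 := by rw [two_smul]
    rw [this, h2, zero_smul]
  refine ⟨s, ⟨rank_eq_one_of_sq_zero _ hsq hS1, hsq⟩, hsx⟩

/-- Any two elements of order 2 of PSL_3(4) are conjugate. -/
theorem result {F : Type*} [Field F] [Fintype F] (hF : Fintype.card F = 4) (x y : Matrix.ProjectiveSpecialLinearGroup (Fin 3) F) (hx : orderOf x = 2) (hy : orderOf y = 2) : IsConj x y := by
  obtain ⟨s, hs, rfl⟩ := exists_transvection_lift hF x hx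
  obtain ⟨t, ht, rfl⟩ := exists_transvection_lift hF y hy
  have h := Cfsg.Agent.S2579.result (F := F) (n := 3) (le_refl 3) s t hs ht
  exact (QuotientGroup.mk' (Subgroup.center (Matrix.SpecialLinearGroup (Fin 3) F))).map_isConj h

end Cfsg.Agent.S0820
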