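import Cfsg.Statements.S0821
import Cfsg.Agent.Helper5.SpInvClass
import Cfsg.Agent.Helper5.OddInv
import Cfsg.Agent.Helper5.ConjCard

set_option autoImplicit false
open Cfsg

namespace Cfsg.Agent.S0821

open Cfsg.Agent.Helper5 Cfsg.Agent.Helper44 Cfsg.Agent.Helper5.ConjCard

/-- PSp_2m(q) ≇ PΩ_(2m+1)(q) for q odd and m ≥ 3 (they have the same order). -/
theorem result {F : Type*} [Field F] [Fintype F] (hodd : Odd (Fintype.card F)) (m : ℕ) (hm : 3 ≤ m) : IsEmpty (Cfsg.PSp m F ≃* Cfsg.POmega F (Cfsg.quadFormOdd m F)) := by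
  constructor
  intro φ₀
  have φ : Cfsg.PSp m F ≃* Cfsg.POmega F ⇑(oddForm m F) := φ₀
  clear φ₀
  have h2 : (2 : F) ≠ 0 := two_ne_zero_of_odd_card hodd
  have hq3 : 3 ≤ Fintype.card F := by
    have h1 : 1 < Fintype.card F := Fintype.one_lt_card
    rcases hodd with ⟨k, hk⟩
    omega
  have hcardι : Fintype.card (Unit ⊕ (Fin m ⊕ Fin m)) = 2 * m + 1 := by
    simp only [Fintype.card_sum, Fintype.card_unit, Fintype.card_fin]
    omega
  -- the `Ω` side: a small class of involutions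
  obtain ⟨T, hTT, hTc, hTn⟩ := OddInv.exists_small_inv (oddForm m F) h2
    (nondegenerate_oddForm h2 m) (by rw [hcardι]; exact ⟨m, rfl⟩) (by rw [hcardι]; omega)
    (isHypPair_oddForm m ⟨0, by omega⟩) (isHypPair_oddForm m ⟨1, by omega⟩)
    ⟨by simp [Fin.ext_iff], by simp, by simp, by simp [Fin.ext_iff]⟩
  rw [hcardι] at hTn
  set ZΩ := Subgroup.center ↥(Cfsg.Omega F ⇑(oddForm m F)) with hZΩ
  set Tbar : Cfsg.POmega F ⇑(oddForm m F) := QuotientGroup.mk' ZΩ T with hTbar
  have hT1 : Tbar ≠ 1 := fun h => hTc ((QuotientGroup.eq_one_iff T).1 h)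
  have hT2 : Tbar * Tbar = 1 := by rw [hTbar, ← map_mul, hTT, map_one]
  have hT3 : (conjugatesOf Tbar).ncard ≤ Fintype.card F ^ (2 * m + 1) :=
    (ncard_conjugatesOf_map_le (QuotientGroup.mk' ZΩ) (QuotientGroup.mk'_surjective ZΩ) T).trans hTn
  -- transport to `PSp`
  set s : Cfsg.PSp m F := φ.symm Tbar with hs
  have hs1 : s ≠ 1 := by
    intro h
    apply hT1
    have := congrArg φ h
    rwa [hs, MulEquiv.apply_symm_apply, map_one] at this
  have hs2 : s * s = 1 := by rw [hs, ← map_mul, hT2, map_one]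
  have hs3 : (conjugatesOf s).ncard = (conjugatesOf Tbar).ncard :=
    ncard_conjugatesOf_equiv φ.symm Tbar
  obtain ⟨t, ht⟩ := QuotientGroup.mk_surjective s
  have ht_sq : t * t ∈ Subgroup.center (Matrix.symplecticGroup (Fin m) F) := by
    rw [← QuotientGroup.eq_one_iff, QuotientGroup.mk_mul, ht, hs2]
  have ht_nc : t ∉ Subgroup.center (Matrix.symplecticGroup (Fin m) F) := by
    intro h
    apply hs1
    rw [← ht]
    exact (QuotientGroup.eq_one_iff t).2 h
  have hbound := SpInvClass.sp_centralizer_bound hodd hm t ht_sq ht_nc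
  have hcl := ncard_conjugatesOf_mul_card_centralizer t
  have hquot := ncard_conjugatesOf_le_quot (Subgroup.center (Matrix.symplecticGroup (Fin m) F)) t
  rw [ht] at hquot
  have hZ := SpInvClass.card_center_le (F := F) (m := m) (by omega)
  have hCpos : 0 < Nat.card (Subgroup.centralizer {t}) := Nat.card_pos
  have h5 : (conjugatesOf t).ncard ≤ 2 * Fintype.card F ^ (2 * m + 1) :=
    hquot.trans (Nat.mul_le_mul hZ (hs3.le.trans hT3))
  rw [← hcl] at hbound
  have h6 : Fintype.card F ^ (2 * m + 2) ≤ (conjugatesOf t).ncard :=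
    Nat.le_of_mul_le_mul_right hbound hCpos
  have h7 : Fintype.card F ^ (2 * m + 2) ≤ 2 * Fintype.card F ^ (2 * m + 1) := h6.trans h5
  rw [pow_succ, mul_comm] at h7
  have h8 : Fintype.card F ≤ 2 :=
    Nat.le_of_mul_le_mul_right h7 (pow_pos (by omega) _)
  omega

end Cfsg.Agent.S0821
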