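import Cfsg.Statements.S0822
import Cfsg.Agent.Helper96.UFour

set_option autoImplicit false
open Cfsg

namespace Cfsg.Agent.S0822

/-- PSU₄(2) ≅ PSp₄(3). -/
theorem result {F K : Type*} [Field F] [Fintype F] [Field K] [Fintype K] (hF : Fintype.card F = 4) (hK : Fintype.card K = 3) : Nonempty (Cfsg.PSU 4 F 2 ≃* Cfsg.PSp 2 K) :=
  Cfsg.Agent.Helper96.UFour.nonempty_mulEquiv hF hK

end Cfsg.Agent.S0822
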