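import Mathlib
import Cfsg.Statements.S0823
import Cfsg.Agent.S0286
import Cfsg.Agent.Helper14.SO33

set_option autoImplicit false
open Cfsg

namespace Cfsg.Agent.S0823

open Cfsg.Agent.Helper14.SO33 Matrix

/-- SO_3(3) ≅ S_4: the determinant-one isometries of the form x_0² + x_1y_1 over the field with 3 elements form a group isomorphic to the symmetric group on 4 letters. -/
theorem result {F : Type*} [Field F] [Fintype F] (hF : Fintype.card F = 3) : Nonempty (↥(Cfsg.specialIsometryGroup F (Cfsg.quadFormOdd 1 F)) ≃* Equiv.Perm (Fin 4)) := by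
  classical
  have h3 : (3 : F) = 0 := by
    have := Nat.cast_card_eq_zero F
    rw [hF] at this
    exact_mod_cast this
  have hsq : ∀ c : Fˣ, (c : F) ^ 2 = 1 := by
    intro c
    have := FiniteField.pow_card_sub_one_eq_one (c : F) c.ne_zero
    rw [hF] at this
    simpa using this
  have hneg : (-1 : F) ≠ 1 := by
    intro h
    have h2 : (2 : F) = 0 := by linear_combination -h
    have : (1 : F) = 0 := by linear_combination h3 - h2
    exact one_ne_zero this
  -- the scalar hom
  let sc : Fˣ →* GL ι3 F := Units.map (Matrix.scalar ι3 : F →+* Matrix ι3 ι3 F).toMonoidHom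
  have sc_val : ∀ c : Fˣ, ((sc c : GL ι3 F) : Matrix ι3 ι3 F) = Matrix.scalar ι3 (c : F) := fun c => rfl
  have sc_comm : ∀ (c : Fˣ) (g : GL ι3 F), sc c * g = g * sc c := by
    intro c g
    apply Units.ext
    rw [Units.val_mul, Units.val_mul, sc_val]
    exact (Matrix.scalar_commute (c : F) (fun r => Commute.all _ _) _).eq
  have sc_mulVec : ∀ (c : Fˣ) (v : ι3 → F), ((sc c : GL ι3 F) : Matrix ι3 ι3 F) *ᵥ v = (c : F) • v := by
    intro c v
    rw [sc_val, Matrix.scalar_apply]
    ext i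
    rw [Matrix.mulVec_diagonal]
    rfl
  have sc_det : ∀ c : Fˣ, Matrix.GeneralLinearGroup.det (sc c) = c ^ 3 := by
    intro c
    apply Units.ext
    rw [Matrix.GeneralLinearGroup.val_det_apply, sc_val, Matrix.scalar_apply, Matrix.det_diagonal,
      Finset.prod_const, Units.val_pow_eq_pow_val]
    rfl
  let ψu : Equiv.Perm (Fin 4) →* GL ι3 F := (ψhom h3).toHomUnits
  have ψu_val : ∀ σ, ((ψu σ : GL ι3 F) : Matrix ι3 ι3 F) = ψmat F σ := fun σ => rfl
  let χ : Equiv.Perm (Fin 4) →* Fˣ := Matrix.GeneralLinearGroup.det.comp ψu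
  let φ₀ : Equiv.Perm (Fin 4) →* GL ι3 F := MonoidHom.mk' (fun σ => sc (χ σ) * ψu σ) (by
    intro a b
    rw [map_mul, map_mul, map_mul]
    rw [mul_assoc, mul_assoc, ← mul_assoc (sc (χ b)), sc_comm (χ b) (ψu a), mul_assoc])
  have φ₀_apply : ∀ σ, φ₀ σ = sc (χ σ) * ψu σ := fun σ => rfl
  have hφ₀O : ∀ σ, φ₀ σ ∈ Cfsg.isometryGroup F (Cfsg.quadFormOdd 1 F) := by
    intro σ
    rw [Cfsg.Agent.Helper13.mem_isometryGroup_iff]
    intro v
    rw [φ₀_apply, Units.val_mul, ← Matrix.mulVec_mulVec, sc_mulVec, Q_smul, hsq, one_mul, ψu_val,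
      Q_ψmat h3]
  let φ₁ : Equiv.Perm (Fin 4) →* ↥(Cfsg.isometryGroup F (Cfsg.quadFormOdd 1 F)) :=
    φ₀.codRestrict _ hφ₀O
  have hφ₁S : ∀ σ, φ₁ σ ∈ Cfsg.specialIsometryGroup F (Cfsg.quadFormOdd 1 F) := by
    intro σ
    unfold Cfsg.specialIsometryGroup
    rw [MonoidHom.mem_ker, MonoidHom.comp_apply]
    change Matrix.GeneralLinearGroup.det (φ₀ σ) = 1
    rw [φ₀_apply, map_mul, sc_det]
    change χ σ ^ 3 * χ σ = 1
    apply Units.ext
    rw [Units.val_mul, Units.val_pow_eq_pow_val, Units.val_one]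
    have := hsq (χ σ)
    linear_combination ((χ σ : F) ^ 2 + 1) * this
  let φ : Equiv.Perm (Fin 4) →* ↥(Cfsg.specialIsometryGroup F (Cfsg.quadFormOdd 1 F)) :=
    φ₁.codRestrict _ hφ₁S
  have hφinj : Function.Injective φ := by
    rw [injective_iff_map_eq_one]
    intro σ hσ
    have h1 : φ₀ σ = 1 := by
      have := congrArg (fun g : ↥(Cfsg.specialIsometryGroup F (Cfsg.quadFormOdd 1 F)) =>
        ((g : ↥(Cfsg.isometryGroup F (Cfsg.quadFormOdd 1 F))) : GL ι3 F)) hσ
      exact this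
    rw [φ₀_apply] at h1
    have h2 : ψu σ = sc (χ σ)⁻¹ := by
      rw [map_inv, eq_inv_iff_mul_eq_one]
      exact (sc_comm _ _).symm.trans h1
    have h4 : ψmat F σ = Matrix.scalar ι3 (((χ σ)⁻¹ : Fˣ) : F) := by
      rw [← ψu_val, h2, sc_val]
    exact ψmat_injective h3 σ _ h4
  -- cardinalities
  have hO : Nat.card ↥(Cfsg.isometryGroup F (Cfsg.quadFormOdd 1 F)) = 48 := by
    rw [Cfsg.Agent.S0286.result hF (by decide) 1]
    norm_num [Finset.prod_range_one]
  have hne : Cfsg.specialIsometryGroup F (Cfsg.quadFormOdd 1 F) ≠ ⊤ := by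
    intro htop
    have hmem : sc (-1) ∈ Cfsg.isometryGroup F (Cfsg.quadFormOdd 1 F) := by
      rw [Cfsg.Agent.Helper13.mem_isometryGroup_iff]
      intro v
      rw [sc_mulVec, Q_smul]
      simp
    have : (⟨sc (-1), hmem⟩ : ↥(Cfsg.isometryGroup F (Cfsg.quadFormOdd 1 F))) ∈
        Cfsg.specialIsometryGroup F (Cfsg.quadFormOdd 1 F) := by
      rw [htop]; trivial
    unfold Cfsg.specialIsometryGroup at this
    rw [MonoidHom.mem_ker, MonoidHom.comp_apply] at this
    change Matrix.GeneralLinearGroup.det (sc (-1)) = 1 at this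
    rw [sc_det] at this
    have h5 := congrArg (fun u : Fˣ => (u : F)) this
    simp only [Units.val_pow_eq_pow_val, Units.val_neg, Units.val_one] at h5
    apply hneg
    linear_combination h5
  have hcard : Nat.card ↥(Cfsg.specialIsometryGroup F (Cfsg.quadFormOdd 1 F)) ≤ 24 := by
    have hmul := Subgroup.card_mul_index (Cfsg.specialIsometryGroup F (Cfsg.quadFormOdd 1 F))
    rw [hO] at hmul
    have hidx1 : (Cfsg.specialIsometryGroup F (Cfsg.quadFormOdd 1 F)).index ≠ 1 := by
      rw [Ne, Subgroup.index_eq_one]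
      exact hne
    have hidx0 : (Cfsg.specialIsometryGroup F (Cfsg.quadFormOdd 1 F)).index ≠ 0 := by
      intro h0
      rw [h0] at hmul
      omega
    have : 2 ≤ (Cfsg.specialIsometryGroup F (Cfsg.quadFormOdd 1 F)).index := by omega
    nlinarith
  have : Finite ↥(Cfsg.specialIsometryGroup F (Cfsg.quadFormOdd 1 F)) := by
    apply Nat.finite_of_card_ne_zero
    intro h0
    have hmul := Subgroup.card_mul_index (Cfsg.specialIsometryGroup F (Cfsg.quadFormOdd 1 F))
    rw [h0, hO] at hmul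
    omega
  have hbij : Function.Bijective φ := by
    apply hφinj.bijective_of_nat_card_le
    rw [Nat.card_perm, Nat.card_fin]
    exact hcard
  exact ⟨(MulEquiv.ofBijective φ hbij).symm⟩

end Cfsg.Agent.S0823
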