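import Mathlib
import Cfsg.Statements.S0826
import Cfsg.Agent.Helper14.EvenWeight

set_option autoImplicit false
open Cfsg

namespace Cfsg.Agent.S0826

open Cfsg.Agent.Helper14 in
/-- S_2n ≤ Sp_(2n−2)(2) for n ≥ 3: there is an injective homomorphism from the symmetric group on 2n letters into the symplectic group of degree 2n − 2 over the field with two elements. -/
theorem result (n : ℕ) (hn : 3 ≤ n) : ∃ f : Equiv.Perm (Fin (2 * n)) →* Matrix.symplecticGroup (Fin (n - 1)) (ZMod 2), Function.Injective f := by
  have hcard : Fintype.card (Fin (2 * n)) = 2 * n := Fintype.card_fin _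
  have heven : Even (Fintype.card (Fin (2 * n))) := by
    rw [hcard]; exact even_two_mul n
  have : Nonempty (Fin (2 * n)) := ⟨⟨0, by omega⟩⟩
  have hdim : Module.finrank (ZMod 2) (evenSub (Fin (2 * n))) = 2 * (n - 1) + 1 := by
    have h := finrank_evenSub (Fin (2 * n))
    rw [hcard] at h
    omega
  obtain ⟨f, hf⟩ := exists_symplectic_rep (evenForm (Fin (2 * n))) (evenForm_isAlt _)
    (onesVec _ heven) (onesVec_ne_zero _ heven) (evenForm_onesVec _ heven)
    (evenForm_radical _ heven) (n - 1) hdim (permRep (Fin (2 * n)))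
    (evenForm_permRep _) (permRep_onesVec _ heven)
  refine ⟨f, ?_⟩
  rw [injective_iff_map_eq_one]
  intro σ hσ
  exact permRep_faithful _ heven (by rw [hcard]; omega) σ (hf σ hσ)

end Cfsg.Agent.S0826
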