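import Cfsg.Statements.S0828
import Cfsg.Agent.Helper13.LineCount
import Cfsg.Agent.S0776

set_option autoImplicit false
open Cfsg

namespace Cfsg.Agent.S0828

open Cfsg.Agent.Helper13 Cfsg.Agent.S0776

variable {F : Type*} [Field F]

/-- totally isotropic subspaces -/
def TI (W : Submodule F (Fin 2 ⊕ Fin 2 → F)) : Prop :=
  ∀ u ∈ W, ∀ v ∈ W, Cfsg.sympForm 2 F u v = 0

theorem ti_span_pair_iff (v w : Fin 2 ⊕ Fin 2 → F) :
    TI (Submodule.span F ({v, w} : Set (Fin 2 ⊕ Fin 2 → F))) ↔ Cfsg.sympForm 2 F v w = 0 := by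
  constructor
  · intro h
    exact h v (Submodule.subset_span (Set.mem_insert _ _)) w
      (Submodule.subset_span (Set.mem_insert_of_mem _ rfl))
  · intro h u hu u' hu'
    obtain ⟨a, b, rfl⟩ := Submodule.mem_span_pair.mp hu
    obtain ⟨a', b', rfl⟩ := Submodule.mem_span_pair.mp hu'
    have h' : Cfsg.sympForm 2 F w v = 0 := by rw [sympForm_swap, h, neg_zero]
    simp only [sympForm_add_left, sympForm_add_right, sympForm_smul_left, sympForm_smul_right,
      sympForm_self, h, h', mul_zero, add_zero]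

variable [Fintype F]

/-- the number of vectors orthogonal to `v` but not in its span -/
theorem card_perp_diff (v : Fin 2 ⊕ Fin 2 → F) (hv : v ≠ 0) :
    Nat.card {w : Fin 2 ⊕ Fin 2 → F // w ∉ Submodule.span F {v} ∧
      Cfsg.sympForm 2 F v w = 0} = Fintype.card F ^ 3 - Fintype.card F := by
  set L : Submodule F (Fin 2 ⊕ Fin 2 → F) := Submodule.span F {v} with hL
  set H : Submodule F (Fin 2 ⊕ Fin 2 → F) := (omega 2 F).orthogonal L with hH
  have hmemH : ∀ w, w ∈ H ↔ Cfsg.sympForm 2 F v w = 0 := by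
    intro w
    rw [hH, LinearMap.BilinForm.mem_orthogonal_iff]
    constructor
    · intro h
      have := h v (Submodule.mem_span_singleton_self v)
      rw [omega_apply] at this
      exact this
    · intro h x hx
      obtain ⟨a, rfl⟩ := Submodule.mem_span_singleton.mp hx
      rw [omega_apply, sympForm_smul_left, h, mul_zero]
  have hLH : (L : Set (Fin 2 ⊕ Fin 2 → F)) ⊆ (H : Set (Fin 2 ⊕ Fin 2 → F)) := by
    intro x hx
    obtain ⟨a, rfl⟩ := Submodule.mem_span_singleton.mp hx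
    rw [SetLike.mem_coe, hmemH, sympForm_smul_right, sympForm_self, mul_zero]
  have hdimH : Module.finrank F H = 3 := by
    rw [hH, LinearMap.BilinForm.finrank_orthogonal (omega_nondegenerate 2), hL,
      finrank_span_singleton hv]
    simp
  have h1 : Nat.card {w : Fin 2 ⊕ Fin 2 → F // w ∉ Submodule.span F {v} ∧
      Cfsg.sympForm 2 F v w = 0} =
      ((H : Set (Fin 2 ⊕ Fin 2 → F)) \ (L : Set (Fin 2 ⊕ Fin 2 → F))).ncard := by
    rw [← Nat.card_coe_set_eq]
    refine Nat.card_congr (Equiv.subtypeEquivRight ?_)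
    intro w
    rw [Set.mem_sdiff, SetLike.mem_coe, SetLike.mem_coe, hmemH]
    exact and_comm
  rw [h1, Set.ncard_sdiff hLH, ← Nat.card_coe_set_eq, ← Nat.card_coe_set_eq]
  have h2 : Nat.card (H : Set (Fin 2 ⊕ Fin 2 → F)) = Fintype.card F ^ 3 := by
    rw [← hdimH]; exact natCard_submodule H
  have h3 : Nat.card (L : Set (Fin 2 ⊕ Fin 2 → F)) = Fintype.card F := by
    have := natCard_submodule L
    rw [hL, finrank_span_singleton hv, pow_one] at this
    exact this
  rw [h2, h3]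

theorem card_through (v : Fin 2 ⊕ Fin 2 → F) (hv : v ≠ 0) :
    Nat.card {W : Submodule F (Fin 2 ⊕ Fin 2 → F) // Module.finrank F W = 2 ∧ v ∈ W ∧ TI W} =
      Fintype.card F + 1 := by
  have hq : 2 ≤ Fintype.card F := Fintype.one_lt_card
  set Q := Fintype.card F with hQ
  have h1 := card_lines_through (F := F) TI v hv
  have h2 : Nat.card {w : Fin 2 ⊕ Fin 2 → F // w ∉ Submodule.span F {v} ∧
      TI (Submodule.span F ({v, w} : Set (Fin 2 ⊕ Fin 2 → F)))} = Q ^ 3 - Q := by
    rw [← card_perp_diff v hv]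
    refine Nat.card_congr (Equiv.subtypeEquivRight ?_)
    intro w
    rw [ti_span_pair_iff]
  rw [h2] at h1
  have h3 : Q ^ 3 - Q = (Q + 1) * (Q ^ 2 - Q) := by
    have hle1 : Q ≤ Q ^ 2 := by nlinarith
    have hle2 : Q ≤ Q ^ 3 := by nlinarith
    zify [hle1, hle2]
    ring
  rw [h3] at h1
  have hpos : 0 < Q ^ 2 - Q := by
    have : Q < Q ^ 2 := by nlinarith
    omega
  exact Nat.eq_of_mul_eq_mul_right hpos h1

/-- The symplectic generalised quadrangle over a field with q elements: the number of 2-dimensional subspaces of F^4 on which the symplectic form vanishes is (q + 1)(q² + 1), and every non-zero vector lies in exactly q + 1 of them. -/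
theorem result {F : Type*} [Field F] [Fintype F] {q : ℕ} (hF : Fintype.card F = q) : Nat.card {W : Submodule F (Fin 2 ⊕ Fin 2 → F) // Module.finrank F W = 2 ∧ ∀ u ∈ W, ∀ v ∈ W, Cfsg.sympForm 2 F u v = 0} = (q + 1) * (q ^ 2 + 1) ∧ ∀ v : Fin 2 ⊕ Fin 2 → F, v ≠ 0 → Nat.card {W : Submodule F (Fin 2 ⊕ Fin 2 → F) // Module.finrank F W = 2 ∧ v ∈ W ∧ ∀ u ∈ W, ∀ w ∈ W, Cfsg.sympForm 2 F u w = 0} = q + 1 := by
  classical
  subst hF
  have hq : 2 ≤ Fintype.card F := Fintype.one_lt_card
  refine ⟨?_, fun v hv => card_through v hv⟩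
  set Q := Fintype.card F with hQ
  have h1 := card_lines_double_count (F := F) (V := Fin 2 ⊕ Fin 2 → F) TI
  have h2 : ∑ v : {v : Fin 2 ⊕ Fin 2 → F // v ≠ 0},
      Nat.card {W : Submodule F (Fin 2 ⊕ Fin 2 → F) // Module.finrank F W = 2 ∧ v.1 ∈ W ∧ TI W} =
      (Q ^ 4 - 1) * (Q + 1) := by
    simp only [fun v : {v : Fin 2 ⊕ Fin 2 → F // v ≠ 0} => card_through v.1 v.2,
      Finset.sum_const, Finset.card_univ, smul_eq_mul]
    congr 1
    rw [Fintype.card_subtype_compl, Fintype.card_subtype_eq]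
    simp [hQ]
  rw [h2] at h1
  have h3 : (Q ^ 4 - 1) * (Q + 1) = ((Q + 1) * (Q ^ 2 + 1)) * (Q ^ 2 - 1) := by
    have hle1 : 1 ≤ Q ^ 2 := Nat.one_le_pow _ _ (by omega)
    have hle2 : 1 ≤ Q ^ 4 := Nat.one_le_pow _ _ (by omega)
    zify [hle1, hle2]
    ring
  rw [h3] at h1
  have hpos : 0 < Q ^ 2 - 1 := by
    have : 1 < Q ^ 2 := by nlinarith
    omega
  exact Nat.eq_of_mul_eq_mul_right hpos h1

end Cfsg.Agent.S0828
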