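import Cfsg.Statements.S0829
import Cfsg.Agent.Helper13.UnitaryLines

set_option autoImplicit false
open Cfsg

namespace Cfsg.Agent.S0829

open Cfsg.Agent.Helper13 Cfsg.Agent.Helper5

theorem arith_through (q N M l : ℕ) (hq : 2 ≤ q)
    (hN : (N : ℤ) = (q : ℤ) ^ 7 + (q : ℤ) ^ 4 - (q : ℤ) ^ 3)
    (h1 : q ^ 2 * N = M * q ^ 2 + ((q ^ 2) ^ 4 - (q ^ 2) ^ (4 - 1)) * q)
    (h2 : l * ((q ^ 2) ^ 2 - q ^ 2) + q ^ 2 = M) : l = q + 1 := by
  have hq2 : (2 : ℤ) ≤ (q : ℤ) := by exact_mod_cast hq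
  have hq0 : (q : ℤ) ≠ 0 := by omega
  have hqsq : (q : ℤ) ^ 2 ≠ 0 := pow_ne_zero 2 hq0
  have hqsq1 : (q : ℤ) ^ 2 - 1 ≠ 0 := by
    have : (4 : ℤ) ≤ (q : ℤ) ^ 2 := by nlinarith
    omega
  have hle1 : (q ^ 2) ^ (4 - 1) ≤ (q ^ 2) ^ 4 :=
    Nat.pow_le_pow_right (by positivity) (by norm_num)
  have hle2 : q ^ 2 ≤ (q ^ 2) ^ 2 := by nlinarith
  zify [hle1, hle2] at h1 h2
  rw [hN] at h1
  have hM : (M : ℤ) = (q : ℤ) ^ 5 + (q : ℤ) ^ 4 - (q : ℤ) ^ 3 := by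
    apply mul_right_cancel₀ hqsq
    norm_num at h1
    linear_combination (-1 : ℤ) * h1
  rw [hM] at h2
  have h3 : (l : ℤ) * ((q : ℤ) ^ 2 * ((q : ℤ) ^ 2 - 1)) =
      ((q : ℤ) + 1) * ((q : ℤ) ^ 2 * ((q : ℤ) ^ 2 - 1)) := by
    linear_combination h2
  have h4 := mul_right_cancel₀ (mul_ne_zero hqsq hqsq1) h3
  exact_mod_cast h4

theorem arith_total (q N L : ℕ) (hq : 2 ≤ q)
    (hN : (N : ℤ) = (q : ℤ) ^ 7 + (q : ℤ) ^ 4 - (q : ℤ) ^ 3)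
    (h3 : L * ((q ^ 2) ^ 2 - 1) + (q + 1) = N * (q + 1)) : L = (q + 1) * (q ^ 3 + 1) := by
  have hq2 : (2 : ℤ) ≤ (q : ℤ) := by exact_mod_cast hq
  have hq0 : (q : ℤ) ≠ 0 := by omega
  have hqsq1 : (q : ℤ) ^ 2 - 1 ≠ 0 := by
    have : (4 : ℤ) ≤ (q : ℤ) ^ 2 := by nlinarith
    omega
  have hqsq2 : (q : ℤ) ^ 2 + 1 ≠ 0 := by positivity
  have hle3 : 1 ≤ (q ^ 2) ^ 2 := Nat.one_le_pow _ _ (by positivity)
  zify [hle3] at h3
  rw [hN] at h3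
  have h5 : (L : ℤ) * (((q : ℤ) ^ 2 - 1) * ((q : ℤ) ^ 2 + 1)) =
      (((q : ℤ) + 1) * ((q : ℤ) ^ 3 + 1)) * (((q : ℤ) ^ 2 - 1) * ((q : ℤ) ^ 2 + 1)) := by
    linear_combination h3
  have h6 := mul_right_cancel₀ (mul_ne_zero hqsq1 hqsq2) h5
  exact_mod_cast h6

/-- The unitary quadrangle of PSU_4(q): with |F| = q², the number of 2-dimensional subspaces of F^4 on which the Hermitian form Σ x_i y_i^q vanishes is (q + 1)(q³ + 1). -/
theorem result {F : Type*} [Field F] [Fintype F] {q : ℕ} (hF : Fintype.card F = q ^ 2) : Nat.card {W : Submodule F (Fin 4 → F) // Module.finrank F W = 2 ∧ ∀ u ∈ W, ∀ v ∈ W, Cfsg.hermForm 4 F q u v = 0} = (q + 1) * (q ^ 3 + 1) := by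
  classical
  have hq := two_le_of_card_eq_sq hF
  have hq0 : (q : ℤ) ≠ 0 := by
    have : (2 : ℤ) ≤ (q : ℤ) := by exact_mod_cast hq
    omega
  -- the number of isotropic vectors
  have hN : (Nat.card {w : Fin 4 → F // Cfsg.hermForm 4 F q w w = 0} : ℤ) =
      (q : ℤ) ^ 7 + (q : ℤ) ^ 4 - (q : ℤ) ^ 3 := by
    rw [card_hermForm_eq]
    have h := hermCnt_zero_int (F := F) hF 4
    apply mul_right_cancel₀ hq0
    rw [h]
    ring
  -- lines through a point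
  have hℓ : ∀ v : Fin 4 → F, v ≠ 0 → Cfsg.hermForm 4 F q v v = 0 →
      Nat.card {W : Submodule F (Fin 4 → F) //
        Module.finrank F W = 2 ∧ v ∈ W ∧ HermTI 4 q W} = q + 1 := by
    intro v hv hvv
    have h1 := card_perp_isotropic hF v hv hvv
    have h2 := card_lines_through_isotropic hF v hv hvv
    rw [hF] at h1 h2
    exact arith_through q _ _ _ hq hN h1 h2
  have h3 := card_lines_total hF (q + 1) hℓ
  rw [hF] at h3
  exact arith_total q _ _ hq hN h3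

end Cfsg.Agent.S0829
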