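import Mathlib
import Cfsg.Statements.S0831
import Cfsg.Agent.Helper14.TwoFamilies
import Cfsg.Agent.Helper14.PlusForm2

set_option autoImplicit false
open Cfsg

namespace Cfsg.Agent.S0831

open Cfsg.Agent.Helper14 in
/-- The two families of maximal totally singular subspaces of the hyperbolic quadric: for the form Σ x_i y_i on F^(2m), m ≥ 1, and m-dimensional subspaces U, W, X on which it vanishes, the parities of m − dim(U ∩ W), m − dim(W ∩ X) and m − dim(U ∩ X) sum to an even number (so 'even codimension of the intersection' is an equivalence relation), and there exist two such subspaces meeting in codimension 1 (so there are exactly two classes). -/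
theorem result {F : Type*} [Field F] (m : ℕ) (hm : 1 ≤ m) : (∀ U W X : Submodule F (Fin m ⊕ Fin m → F), (Module.finrank F U = m ∧ ∀ w ∈ U, Cfsg.quadFormPlus m F w = 0) → (Module.finrank F W = m ∧ ∀ w ∈ W, Cfsg.quadFormPlus m F w = 0) → (Module.finrank F X = m ∧ ∀ w ∈ X, Cfsg.quadFormPlus m F w = 0) → Even ((m - Module.finrank F ↥(U ⊓ W)) + (m - Module.finrank F ↥(W ⊓ X)) + (m - Module.finrank F ↥(U ⊓ X)))) ∧ ∃ U W : Submodule F (Fin m ⊕ Fin m → F), (Module.finrank F U = m ∧ ∀ w ∈ U, Cfsg.quadFormPlus m F w = 0) ∧ (Module.finrank F W = m ∧ ∀ w ∈ W, Cfsg.quadFormPlus m F w = 0) ∧ Module.finrank F ↥(U ⊓ W) + 1 = m := by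
  have hQ := plusForm_nondegenerate m F
  have hV := finrank_plus_space m F
  constructor
  · intro U W X hU hW hX
    exact parity_maximal (plusForm m F) hQ m hV (LinearMap.range (inlMap m F))
      (finrank_range_inlMap m F) (plusForm_range_inlMap m F) _ W X U hW.1
      (fun w hw => by rw [plusForm_apply]; exact hW.2 w hw) hX.1
      (fun w hw => by rw [plusForm_apply]; exact hX.2 w hw) hU.1
      (fun w hw => by rw [plusForm_apply]; exact hU.2 w hw) rfl
  · obtain ⟨W', hW', hW'0, hadj, -⟩ := exists_adj_closer (plusForm m F) hQ m hV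
      (LinearMap.range (inlMap m F)) (LinearMap.range (inrMap m F))
      (finrank_range_inlMap m F) (plusForm_range_inlMap m F)
      (finrank_range_inrMap m F) (plusForm_range_inrMap m F)
      (range_inlMap_ne_range_inrMap m F hm)
    refine ⟨LinearMap.range (inlMap m F), W', ⟨finrank_range_inlMap m F, ?_⟩, ⟨hW', ?_⟩, hadj⟩
    · intro w hw
      rw [← plusForm_apply]
      exact plusForm_range_inlMap m F w hw
    · intro w hw
      rw [← plusForm_apply]
      exact hW'0 w hw

end Cfsg.Agent.S0831
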