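import Mathlib
import Cfsg.Statements.S0833
import Cfsg.Agent.Helper14.Lagrangian

set_option autoImplicit false
open Cfsg

namespace Cfsg.Agent.S0833

open Module LinearMap TensorProduct Cfsg.Agent.Helper14

variable {F U W : Type*} [Field F] [AddCommGroup U] [Module F U] [AddCommGroup W] [Module F W]

theorem tmul_tmul (B₁ : LinearMap.BilinForm F U) (B₂ : LinearMap.BilinForm F W) (u u' : U)
    (w w' : W) : (B₁.tmul B₂) (u ⊗ₜ w) (u' ⊗ₜ w') = B₁ u u' * B₂ w w' := by
  rw [LinearMap.BilinForm.tensorDistrib_tmul, smul_eq_mul, mul_comm]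

theorem tmul_isSymm_of_isAlt (B₁ : LinearMap.BilinForm F U) (B₂ : LinearMap.BilinForm F W)
    (hA₁ : B₁.IsAlt) (hA₂ : B₂.IsAlt) : (B₁.tmul B₂).IsSymm := by
  refine ⟨fun x y => ?_⟩
  induction x using TensorProduct.induction_on with
  | zero => simp
  | tmul u w =>
    induction y using TensorProduct.induction_on with
    | zero => simp
    | tmul u' w' =>
      rw [tmul_tmul, tmul_tmul, ← hA₁.neg_eq u u', ← hA₂.neg_eq w w']
      simp
    | add y₁ y₂ h₁ h₂ =>
      simp only [map_add, LinearMap.add_apply] at h₁ h₂ ⊢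
      rw [h₁, h₂]
  | add x₁ x₂ h₁ h₂ =>
    simp only [map_add, LinearMap.add_apply] at h₁ h₂ ⊢
    rw [h₁, h₂]

theorem tmul_separatingLeft [FiniteDimensional F U] [FiniteDimensional F W]
    (B₁ : LinearMap.BilinForm F U) (B₂ : LinearMap.BilinForm F W)
    (h₁ : B₁.Nondegenerate) (h₂ : B₂.Nondegenerate) : (B₁.tmul B₂).SeparatingLeft := by
  classical
  intro x hx
  let b₁ := Module.finBasis F U
  let b₂ := Module.finBasis F W
  let d₁ := B₁.dualBasis h₁ b₁
  let d₂ := B₂.dualBasis h₂ b₂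
  let T := d₁.tensorProduct d₂
  have hrepr : ∀ p, T.repr x p = 0 := by
    rintro ⟨j, b⟩
    have h0 := hx (b₁ j ⊗ₜ b₂ b)
    rw [← T.sum_repr x] at h0
    rw [map_sum, LinearMap.sum_apply] at h0
    have hterm : ∀ p : _ × _, (B₁.tmul B₂) (T.repr x p • T p) (b₁ j ⊗ₜ b₂ b) =
        if p = (j, b) then T.repr x p else 0 := by
      rintro ⟨i, a⟩
      rw [map_smul, LinearMap.smul_apply, Basis.tensorProduct_apply, tmul_tmul,
        LinearMap.BilinForm.apply_dualBasis_left, LinearMap.BilinForm.apply_dualBasis_left]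
      by_cases hi : j = i
      · by_cases ha : b = a
        · subst hi ha; simp
        · have : ¬ ((i, a) = (j, b)) := fun h => ha (Prod.mk.inj h).2.symm
          simp [ha, this]
      · have : ¬ ((i, a) = (j, b)) := fun h => hi (Prod.mk.inj h).1.symm
        simp [hi, this]
    simp_rw [hterm] at h0
    rw [Finset.sum_ite_eq' Finset.univ (j, b)] at h0
    simpa using h0
  have : T.repr x = 0 := by
    ext p; rw [hrepr p]; rfl
  exact (LinearEquiv.map_eq_zero_iff T.repr).mp this

theorem result {F U W : Type*} [Field F] [Fintype F] [AddCommGroup U] [Module F U] [FiniteDimensional F U] [AddCommGroup W] [Module F W] [FiniteDimensional F W] (B₁ : LinearMap.BilinForm F U) (B₂ : LinearMap.BilinForm F W) (h₁ : B₁.Nondegenerate) (h₂ : B₂.Nondegenerate) (hA₁ : B₁.IsAlt) (hA₂ : B₂.IsAlt) (k l : ℕ) (hU : Module.finrank F U = 2 * k) (hW : Module.finrank F W = 2 * l) : (B₁.tmul B₂).IsSymm ∧ (B₁.tmul B₂).Nondegenerate ∧ (∃ X : Submodule F (TensorProduct F U W), Module.finrank F X = 2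 * k * l ∧ ∀ x ∈ X, ∀ y ∈ X, (B₁.tmul B₂) x y = 0) := by
  have hsymm := tmul_isSymm_of_isAlt B₁ B₂ hA₁ hA₂
  refine ⟨hsymm, ?_, ?_⟩
  · rw [LinearMap.IsRefl.nondegenerate_iff_separatingLeft hsymm.isRefl]
    exact tmul_separatingLeft B₁ B₂ h₁ h₂
  · obtain ⟨L, hLk, hL⟩ := exists_lagrangian B₁ h₁ hA₁ k hU
    let φ : L ⊗[F] W →ₗ[F] U ⊗[F] W := LinearMap.rTensor W L.subtype
    have hφ : Function.Injective φ :=
      Module.Flat.rTensor_preserves_injective_linearMap L.subtype L.injective_subtype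
    refine ⟨LinearMap.range φ, ?_, ?_⟩
    · rw [LinearMap.finrank_range_of_inj hφ, Module.finrank_tensorProduct, hLk, hW]
      ring
    · rintro _ ⟨x, rfl⟩ _ ⟨y, rfl⟩
      induction x using TensorProduct.induction_on with
      | zero => simp
      | tmul u w =>
        induction y using TensorProduct.induction_on with
        | zero => simp
        | tmul u' w' =>
          simp only [φ, LinearMap.rTensor_tmul, Submodule.subtype_apply]
          rw [tmul_tmul, hL u u.2 u' u'.2, zero_mul]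
        | add y₁ y₂ h₁ h₂ =>
          rw [map_add, map_add, h₁, h₂, add_zero]
      | add x₁ x₂ h₁ h₂ =>
        rw [map_add, map_add, LinearMap.add_apply, h₁, h₂, add_zero]

end Cfsg.Agent.S0833
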