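import Mathlib
import Cfsg.Statements.S0835
import Cfsg.Agent.Helper14.DiscrLagr

set_option autoImplicit false
open Cfsg

namespace Cfsg.Agent.S0835

open Cfsg.Agent.Helper14 Module in
/-- Over a finite field with 2 ≠ 0: if B₁ on U (dim 2k, k ≥ 1) is non-degenerate symmetric of minus type (no totally isotropic k-subspace) and B₂ on W (dim 2l + 1) is non-degenerate symmetric, then B₁ ⊗ B₂ (dimension 2k(2l+1)) admits no totally isotropic subspace of dimension k(2l+1) (minus type). -/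
theorem result {F U W : Type*} [Field F] [Fintype F] [AddCommGroup U] [Module F U] [FiniteDimensional F U] [AddCommGroup W] [Module F W] [FiniteDimensional F W] (h2 : (2 : F) ≠ 0) (B₁ : LinearMap.BilinForm F U) (B₂ : LinearMap.BilinForm F W) (h₁ : B₁.Nondegenerate) (h₂ : B₂.Nondegenerate) (hS₁ : B₁.IsSymm) (hS₂ : B₂.IsSymm) (k l : ℕ) (hk : 1 ≤ k) (hU : Module.finrank F U = 2 * k) (hW : Module.finrank F W = 2 * l + 1) (hm₁ : ¬ (∃ X : Submodule F (U), Module.finrank F X = k ∧ ∀ x ∈ X, ∀ y ∈ X, (B₁) x y = 0)) : ¬ (∃ X : Submodule F (TensorProduct F U W), Module.finrank F X = k * (2 * l + 1) ∧ ∀ x ∈ X, ∀ y ∈ X, (B₁.tmul B₂) x y = 0) := by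
  classical
  rintro ⟨X, hX, hX0⟩
  apply hm₁
  let b₁ : Basis (Fin (2 * k)) F U := Module.finBasisOfFinrankEq F U hU
  let b₂ : Basis (Fin (2 * l + 1)) F W := Module.finBasisOfFinrankEq F W hW
  obtain ⟨g₁, hg₁def⟩ : ∃ g₁ : F, g₁ = (LinearMap.BilinForm.toMatrix b₁ B₁).det := ⟨_, rfl⟩
  obtain ⟨g₂, hg₂def⟩ : ∃ g₂ : F, g₂ = (LinearMap.BilinForm.toMatrix b₂ B₂).det := ⟨_, rfl⟩
  have hg₁ : g₁ ≠ 0 := by
    rw [hg₁def]
    exact (LinearMap.BilinForm.nondegenerate_iff_det_ne_zero b₁).mp h₁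
  have hg₂ : g₂ ≠ 0 := by
    rw [hg₂def]
    exact (LinearMap.BilinForm.nondegenerate_iff_det_ne_zero b₂).mp h₂
  have hST : LinearMap.BilinForm.IsSymm (B₁.tmul B₂) :=
    LinearMap.BilinForm.isSymm_iff.mpr (LinearMap.IsSymm.tmul
      (LinearMap.BilinForm.isSymm_iff.mp hS₁) (LinearMap.BilinForm.isSymm_iff.mp hS₂))
  have hT : finrank F (TensorProduct F U W) = 2 * (k * (2 * l + 1)) := by
    rw [Module.finrank_tensorProduct, hU, hW]
    ring
  obtain ⟨bX, p, hp⟩ := exists_basis_of_lagrangian (B₁.tmul B₂) hST (k * (2 * l + 1)) hT X hX hX0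
  obtain ⟨s, hs0, hs⟩ := det_gram_base_change (b₁.tensorProduct b₂) bX (B₁.tmul B₂)
  rw [hp, toMatrix_tmul, Matrix.det_kronecker, Fintype.card_fin, Fintype.card_fin, ← hg₁def,
    ← hg₂def] at hs
  have hsq : IsSquare ((-1) ^ k * (LinearMap.BilinForm.toMatrix b₁ B₁).det) := by
    rw [← hg₁def]
    have hA : ((-1 : F) ^ k) * ((-1) ^ k) = 1 := by
      rw [← mul_pow]
      simp
    have e1 : (-1 : F) ^ (k * (2 * l + 1)) = (-1) ^ k * ((-1) ^ (k * l)) ^ 2 := by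
      rw [← pow_mul, ← pow_add]
      congr 1
      ring
    have e2 : g₁ ^ (2 * l + 1) = g₁ * (g₁ ^ l) ^ 2 := by
      rw [← pow_mul, ← pow_succ']
      congr 1
      ring
    have e3 : g₂ ^ (2 * k) = (g₂ ^ k) ^ 2 := by
      rw [← pow_mul]
      congr 1
      ring
    rw [e1, e2, e3] at hs
    have hc : s * g₁ ^ l * g₂ ^ k ≠ 0 :=
      mul_ne_zero (mul_ne_zero hs0 (pow_ne_zero _ hg₁)) (pow_ne_zero _ hg₂)
    refine ⟨(-1) ^ (k * l) * p / (s * g₁ ^ l * g₂ ^ k), ?_⟩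
    rw [div_mul_div_comm, eq_div_iff (mul_ne_zero hc hc)]
    linear_combination (-((-1 : F) ^ k)) * hs + (((-1 : F) ^ (k * l)) ^ 2 * p ^ 2) * hA
  exact exists_lagrangian_of_disc h2 B₁ hS₁ h₁ k hk hU b₁ hsq

end Cfsg.Agent.S0835
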