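import Mathlib
import Cfsg.Statements.S0836

set_option autoImplicit false
open Cfsg
open scoped commutatorElement

namespace Cfsg.Agent.S0836

open Matrix

/-- reduction: to show `t` is the commutator of `g₁, g₂` it suffices that `g₁ g₂ = t g₂ g₁`. -/
theorem mem_commutatorSet_of_mul_eq {G : Type*} [Group G] (t g₁ g₂ : G) (h : g₁ * g₂ = t * g₂ * g₁) :
    t ∈ commutatorSet G := by
  refine ⟨g₁, g₂, ?_⟩
  rw [commutatorElement_def, h]
  group

theorem exists_third {n : ℕ} (hn : 3 ≤ n) (i j : Fin n) : ∃ k : Fin n, k ≠ i ∧ k ≠ j := by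
  by_contra hcon
  push Not at hcon
  have hsub : (Finset.univ : Finset (Fin n)) ⊆ {i, j} := by
    intro k _
    by_cases hk : k = i
    · simp [hk]
    · simp [hcon k hk]
  have := Finset.card_le_card hsub
  have h2 : ({i, j} : Finset (Fin n)).card ≤ 2 := Finset.card_le_two
  simp at this
  omega

theorem mat_eq_ge3 {F : Type*} [Field F] {n : ℕ} (i j k : Fin n) (hij : i ≠ j)
    (hkj : k ≠ j) (c : F) :
    Matrix.transvection i k c * Matrix.transvection k j (1 : F) =
      Matrix.transvection i j c * Matrix.transvection k j (1 : F) * Matrix.transvection i k c := by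
  have h1 : Matrix.single i k c * Matrix.single k j (1 : F) = Matrix.single i j c := by
    rw [Matrix.single_mul_single_same, mul_one]
  have h2 : Matrix.single k j (1 : F) * Matrix.single i k c = 0 :=
    Matrix.single_mul_single_of_ne _ _ _ _ hij.symm _
  have h3 : Matrix.single i j c * Matrix.single k j (1 : F) = 0 :=
    Matrix.single_mul_single_of_ne _ _ _ _ (Ne.symm hkj) _
  have h4 : Matrix.single i j c * Matrix.single i k c = 0 :=
    Matrix.single_mul_single_of_ne _ _ _ _ hij.symm _
  unfold Matrix.transvection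
  simp only [mul_add, add_mul, mul_one, one_mul, h1, h2, h3, h4, add_zero]
  abel

theorem diag_mul_single {F : Type*} [Field F] {n : ℕ} (d : Fin n → F) (i j : Fin n) (b : F) :
    Matrix.diagonal d * Matrix.single i j b = Matrix.single i j (d i * b) := by
  ext a a'
  rw [Matrix.diagonal_mul]
  by_cases h : i = a
  · subst h; by_cases h' : j = a' <;> simp [Matrix.single, h']
  · simp [Matrix.single, h]

theorem single_mul_diag {F : Type*} [Field F] {n : ℕ} (d : Fin n → F) (i j : Fin n) (b : F) :
    Matrix.single i j b * Matrix.diagonal d = Matrix.single i j (b * d j) := by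
  ext a a'
  rw [Matrix.mul_diagonal]
  by_cases h : j = a'
  · subst h; by_cases h' : i = a <;> simp [Matrix.single, h']
  · simp [Matrix.single, h]

theorem mat_eq_2 {F : Type*} [Field F] {n : ℕ} (i j : Fin n) (hij : i ≠ j) (d : Fin n → F)
    (b c : F) (h : d i * b = (b + c) * d j) :
    Matrix.diagonal d * Matrix.transvection i j b =
      Matrix.transvection i j c * Matrix.transvection i j b * Matrix.diagonal d := by
  rw [Matrix.transvection_mul_transvection_same i j hij]
  unfold Matrix.transvection
  rw [mul_add, add_mul, mul_one, one_mul, diag_mul_single, single_mul_diag, h, add_comm c b]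

/-- For i ≠ j and any scalar c, the elementary transvection 1 + c E_ij is a commutator ⁅g, h⁆ of two elements of SL_n(F) provided n ≥ 3, or n = 2 and F contains x ≠ 0 with x² ≠ 1. -/
theorem result {F : Type*} [Field F] (n : ℕ) (hn : 3 ≤ n ∨ (n = 2 ∧ ∃ x : F, x ≠ 0 ∧ x ^ 2 ≠ 1)) (i j : Fin n) (hij : i ≠ j) (c : F) (t : Matrix.SpecialLinearGroup (Fin n) F) (ht : (t : Matrix (Fin n) (Fin n) F) = Matrix.transvection i j c) : t ∈ commutatorSet (Matrix.SpecialLinearGroup (Fin n) F) := by
  rcases hn with hn | ⟨hn, x, hx0, hx1⟩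
  · obtain ⟨k, hki, hkj⟩ := exists_third hn i j
    let g₁ : Matrix.SpecialLinearGroup (Fin n) F :=
      ⟨Matrix.transvection i k c, Matrix.det_transvection_of_ne i k (Ne.symm hki) c⟩
    let g₂ : Matrix.SpecialLinearGroup (Fin n) F :=
      ⟨Matrix.transvection k j 1, Matrix.det_transvection_of_ne k j hkj 1⟩
    apply mem_commutatorSet_of_mul_eq t g₁ g₂
    apply Subtype.ext
    rw [Matrix.SpecialLinearGroup.coe_mul, Matrix.SpecialLinearGroup.coe_mul,
      Matrix.SpecialLinearGroup.coe_mul, ht]
    exact mat_eq_ge3 i j k hij hkj c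
  · subst hn
    have hx1' : x ^ 2 - 1 ≠ 0 := sub_ne_zero.mpr hx1
    set b : F := c / (x ^ 2 - 1) with hb
    have hbc : b * (x ^ 2 - 1) = c := by
      rw [hb]; field_simp
    let d : Fin 2 → F := fun a => if a = i then x else x⁻¹
    have hdi : d i = x := by simp [d]
    have hdj : d j = x⁻¹ := by simp [d, hij.symm]
    have hdet : (Matrix.diagonal d).det = 1 := by
      rw [Matrix.det_diagonal]
      have : (Finset.univ : Finset (Fin 2)) = {i, j} := by
        symm
        apply Finset.eq_univ_of_card
        rw [Finset.card_pair hij]; simp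
      rw [this, Finset.prod_pair hij, hdi, hdj, mul_inv_cancel₀ hx0]
    let g₁ : Matrix.SpecialLinearGroup (Fin 2) F := ⟨Matrix.diagonal d, hdet⟩
    let g₂ : Matrix.SpecialLinearGroup (Fin 2) F :=
      ⟨Matrix.transvection i j b, Matrix.det_transvection_of_ne i j hij b⟩
    apply mem_commutatorSet_of_mul_eq t g₁ g₂
    apply Subtype.ext
    rw [Matrix.SpecialLinearGroup.coe_mul, Matrix.SpecialLinearGroup.coe_mul,
      Matrix.SpecialLinearGroup.coe_mul, ht]
    have hxx : x * x⁻¹ = 1 := mul_inv_cancel₀ hx0
    have key : x * b = (b + c) * x⁻¹ := by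
      have : (b + c) = b * x ^ 2 := by rw [← hbc]; ring
      rw [this, pow_two, mul_assoc, mul_assoc, hxx, mul_one, mul_comm]
    apply mat_eq_2 i j hij d b c
    rw [hdi, hdj, key]

end Cfsg.Agent.S0836
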