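import Mathlib
import Cfsg.Statements.S0838
import Cfsg.Agent.Helper14.OddSim

set_option autoImplicit false
open Cfsg

namespace Cfsg.Agent.S0838

/-- Over a finite field with 2 ≠ 0 and n odd: two quadratic forms Q₁, Q₂ on F^n with non-degenerate polar forms are similar — there are an invertible linear map g and a scalar c ≠ 0 with Q₂ (g v) = c · Q₁ v for all v. -/
theorem result {F : Type*} [Field F] [Fintype F] (h2 : (2 : F) ≠ 0) {n : ℕ} (hn : Odd n) (Q₁ Q₂ : QuadraticForm F (Fin n → F)) (h₁ : (QuadraticMap.polarBilin Q₁).Nondegenerate) (h₂ : (QuadraticMap.polarBilin Q₂).Nondegenerate) : ∃ (g : (Fin n → F) ≃ₗ[F] (Fin n → F)) (c : F), c ≠ 0 ∧ ∀ v, Q₂ (g v) = c * Q₁ v := by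
  obtain ⟨k, hk⟩ := hn
  have hdim : Module.finrank F (Fin n → F) = 2 * k + 1 := by
    rw [Module.finrank_fin_fun, hk]
  have hS₁ : LinearMap.BilinForm.IsSymm (QuadraticMap.polarBilin Q₁) :=
    ⟨fun x y => QuadraticMap.polar_comm _ x y⟩
  have hS₂ : LinearMap.BilinForm.IsSymm (QuadraticMap.polarBilin Q₂) :=
    ⟨fun x y => QuadraticMap.polar_comm _ x y⟩
  obtain ⟨g, c, hc, hg⟩ := Cfsg.Agent.Helper14.exists_similitude_odd h2
    (QuadraticMap.polarBilin Q₁) (QuadraticMap.polarBilin Q₂) hS₁ hS₂ h₁ h₂ k hdim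
  refine ⟨g, c, hc, ?_⟩
  intro v
  have h := hg v v
  rw [QuadraticMap.polarBilin_apply_apply, QuadraticMap.polarBilin_apply_apply,
    QuadraticMap.polar_self, QuadraticMap.polar_self] at h
  simp only [nsmul_eq_mul, Nat.cast_ofNat] at h
  have h' : (2 : F) * Q₂ (g v) = 2 * (c * Q₁ v) := by
    rw [h]; ring
  exact mul_left_cancel₀ h2 h'

end Cfsg.Agent.S0838
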