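import Mathlib
import Cfsg.Statements.S0839

set_option autoImplicit false
open Cfsg

namespace Cfsg.Agent.S0839

open Matrix Module

/-- linear algebra core: a square-zero matrix `N` of rank one on `F^(n+2)`; there are a matrix `B` of
determinant one and a vector `v` with `v 0 = 0` such that `N * B = vecMulVec (B *ᵥ v) e₀`. -/
theorem core {F : Type*} [Field F] (n : ℕ) (N : Matrix (Fin (n + 2)) (Fin (n + 2)) F)
    (hrank : N.rank = 1) (hsq : N * N = 0) :
    ∃ (B : Matrix (Fin (n + 2)) (Fin (n + 2)) F) (v : Fin (n + 2) → F), B.det = 1 ∧ v 0 = 0 ∧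
      N * B = Matrix.vecMulVec (B *ᵥ v) (Pi.single 0 1) := by
  classical
  set f := N.mulVecLin with hf
  have hrange : finrank F (LinearMap.range f) = 1 := hrank
  have hker : finrank F (LinearMap.ker f) = n + 1 := by
    have := f.finrank_range_add_finrank_ker
    rw [hrange, Module.finrank_fin_fun] at this
    omega
  have hff : ∀ x, f (f x) = 0 := by
    intro x
    rw [hf, Matrix.mulVecLin_apply, Matrix.mulVecLin_apply, Matrix.mulVec_mulVec, hsq,
      Matrix.zero_mulVec]
  let bK := Module.finBasisOfFinrankEq F (LinearMap.ker f) hker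
  obtain ⟨w₀, hw₀⟩ : ∃ w₀, w₀ ∉ LinearMap.ker f := by
    by_contra h
    push Not at h
    have : LinearMap.ker f = ⊤ := eq_top_iff.mpr (fun x _ => h x)
    rw [this, finrank_top, Module.finrank_fin_fun] at hker
    omega
  let u : Fin (n + 1) → (Fin (n + 2) → F) := fun i => (bK i : Fin (n + 2) → F)
  have hspan : Submodule.span F (Set.range u) = LinearMap.ker f := by
    have : u = (LinearMap.ker f).subtype ∘ bK := rfl
    rw [this, Set.range_comp, ← Submodule.map_span, bK.span_eq, Submodule.map_top,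
      Submodule.range_subtype]
  have hu : LinearIndependent F u :=
    bK.linearIndependent.map' (LinearMap.ker f).subtype (Submodule.ker_subtype _)
  have hli : LinearIndependent F (Fin.cons w₀ u : Fin (n + 2) → (Fin (n + 2) → F)) := by
    apply LinearIndependent.finCons hu
    rw [hspan]; exact hw₀
  set A : Matrix (Fin (n + 2)) (Fin (n + 2)) F := Matrix.of (Fin.cons w₀ u) with hA
  have hdet : A.det ≠ 0 := by
    have h1 : IsUnit A := Matrix.linearIndependent_rows_iff_isUnit.mp hli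
    exact (Matrix.isUnit_iff_isUnit_det A).mp h1 |>.ne_zero
  set d := A.det with hd
  set A' : Matrix (Fin (n + 2)) (Fin (n + 2)) F := Matrix.of (Fin.cons (d⁻¹ • w₀) u) with hA'
  have hdet' : A'.det = 1 := by
    have e1 : A' = A.updateRow 0 (d⁻¹ • w₀) := by
      ext i j
      refine Fin.cases ?_ (fun i' => ?_) i
      · simp [hA', hA]
      · simp [hA', hA, Matrix.updateRow_apply, Fin.succ_ne_zero]
    have e2 : A = A.updateRow 0 w₀ := by
      ext i j
      refine Fin.cases ?_ (fun i' => ?_) i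
      · simp [hA]
      · simp [hA, Matrix.updateRow_apply, Fin.succ_ne_zero]
    rw [e1, Matrix.det_updateRow_smul, ← e2, ← hd, inv_mul_cancel₀ hdet]
  obtain ⟨y, hy⟩ : ∃ y, y = f (d⁻¹ • w₀) := ⟨_, rfl⟩
  have hNw : y ∈ LinearMap.ker f := by
    rw [LinearMap.mem_ker, hy]; exact hff _
  let c := bK.repr ⟨y, hNw⟩
  let v : Fin (n + 2) → F := Fin.cons 0 (fun i => c i)
  have hBv : A'ᵀ *ᵥ v = y := by
    rw [Matrix.mulVec_transpose, Matrix.vecMul_eq_sum, Fin.sum_univ_succ]
    have h0 : v 0 = 0 := rfl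
    rw [h0, zero_smul, zero_add]
    have hs : ∀ i : Fin (n + 1), v i.succ • A' i.succ = c i • u i := by
      intro i
      have : A' i.succ = u i := by
        ext j; simp [hA']
      rw [this]; rfl
    simp_rw [hs]
    have := bK.sum_repr ⟨y, hNw⟩
    have h2 := congrArg (LinearMap.ker f).subtype this
    rw [map_sum] at h2
    simpa [u] using h2
  refine ⟨A'ᵀ, v, by rw [Matrix.det_transpose]; exact hdet', rfl, ?_⟩
  rw [hBv]
  ext i j
  have hcol : (N * A'ᵀ) i j = (f (A' j)) i := by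
    rw [hf, Matrix.mulVecLin_apply]
    simp [Matrix.mul_apply, Matrix.mulVec, dotProduct]
  rw [hcol, Matrix.vecMulVec_apply]
  refine Fin.cases ?_ (fun j' => ?_) j
  · have : A' 0 = d⁻¹ • w₀ := by ext k; simp [hA']
    rw [this, hy]; simp
  · have : A' j'.succ = u j' := by ext k; simp [hA']
    rw [this]
    have hz : f (u j') = 0 := LinearMap.mem_ker.mp (bK j').2
    rw [hz]
    simp [Fin.succ_ne_zero]

theorem result {F : Type*} [Field F] (n : ℕ) (t : Matrix.SpecialLinearGroup (Fin (n + 2)) F) (ht : Cfsg.IsTransvection (t : Matrix (Fin (n + 2)) (Fin (n + 2)) F)) : ∃ (g : Matrix.SpecialLinearGroup (Fin (n + 2)) F) (v : Fin (n + 2) → F), v 0 = 0 ∧ ((g⁻¹ * t * g : Matrix.SpecialLinearGroup (Fin (n + 2)) F) : Matrix (Fin (n + 2)) (Fin (n + 2)) F) = 1 + Matrix.vecMulVec v (Pi.single 0 1) := by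
  obtain ⟨hrank, hsq⟩ := ht
  obtain ⟨B, v, hB, hv, hNB⟩ := core n _ hrank hsq
  let g : Matrix.SpecialLinearGroup (Fin (n + 2)) F := ⟨B, hB⟩
  refine ⟨g, v, hv, ?_⟩
  have hinv : ((g⁻¹ : Matrix.SpecialLinearGroup (Fin (n + 2)) F) : Matrix (Fin (n + 2)) (Fin (n + 2)) F) * B = 1 := by
    have : ((g⁻¹ * g : Matrix.SpecialLinearGroup (Fin (n + 2)) F) : Matrix (Fin (n + 2)) (Fin (n + 2)) F) = 1 := by
      rw [inv_mul_cancel]; rfl
    rw [Matrix.SpecialLinearGroup.coe_mul] at this
    exact this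
  have htB : (t : Matrix (Fin (n + 2)) (Fin (n + 2)) F) * B = B * (1 + Matrix.vecMulVec v (Pi.single 0 1)) := by
    have : (t : Matrix (Fin (n + 2)) (Fin (n + 2)) F) = 1 + ((t : Matrix (Fin (n + 2)) (Fin (n + 2)) F) - 1) := by abel
    rw [this, add_mul, one_mul, hNB, mul_add, mul_one, Matrix.mul_vecMulVec]
  rw [Matrix.SpecialLinearGroup.coe_mul, Matrix.SpecialLinearGroup.coe_mul]
  show ((g⁻¹ : Matrix.SpecialLinearGroup (Fin (n + 2)) F) : Matrix (Fin (n + 2)) (Fin (n + 2)) F) * (t : Matrix (Fin (n + 2)) (Fin (n + 2)) F) * B = _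
  rw [mul_assoc, htB, ← mul_assoc, hinv, one_mul]

end Cfsg.Agent.S0839
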