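import Mathlib
import Cfsg.Statements.S0842
import Cfsg.Agent.Helper14.QuatSylow2

set_option autoImplicit false
open Cfsg

namespace Cfsg.Agent.S0842

open Cfsg.Agent.Helper14

theorem orderOf_conj' {G : Type*} [Group G] (g y : G) : orderOf (g * y * g⁻¹) = orderOf y := by
  have := (MulAut.conj g).orderOf_eq y
  rwa [MulAut.conj_apply] at this

theorem result {G : Type*} [Group G] [Finite G] (S : Sylow 2 G) (n : ℕ) (e : (S : Subgroup G) ≃* QuaternionGroup (2 ^ (n + 2))) (D : Subgroup G) (hD : D = ⁅(S : Subgroup G), (S : Subgroup G)⁆) : ∃ K : Subgroup G, Odd (Nat.card K) ∧ K ≤ Subgroup.centralizer (D : Set G) ∧ Subgroup.normalizer (D : Set G) ≤ Subgroup.normalizer (K : Set G) ∧ K ⊔ (S : Subgroup G) = Subgroup.normalizer (D : Set G) ∧ K ⊔ ((S : Subgroup G) ⊓ Subgroup.centralizer (D : Set G)) = Subgroup.centralizer (D : Set G) ∧ ((Subgroup.centralizer (D : Set G)).subgroupOf (Subgroup.normalizer (D : Set G))).index = 2 := by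
  subst hD
  set D : Subgroup G := ⁅(S : Subgroup G), (S : Subgroup G)⁆ with hD
  set C : Subgroup G := Subgroup.centralizer (D : Set G) with hC
  set N : Subgroup G := Subgroup.normalizer (D : Set G) with hN
  set m : ℕ := 2 ^ (n + 2) with hm
  have hm3 : 3 ≤ m := by
    have : 2 ^ 2 ≤ 2 ^ (n + 2) := Nat.pow_le_pow_right (by norm_num) (by omega)
    omega
  have h4 := four_ne_zero_of_le hm3
  have hSN : (S : Subgroup G) ≤ N := le_normalizer_commutator (S : Subgroup G)
  have hCN : C ≤ N := Subgroup.centralizer_le_normalizer _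
  set A : Subgroup G := (S : Subgroup G) ⊓ C with hA
  have hAC : A ≤ C := inf_le_right
  have hcardA : Nat.card A = 2 * m := card_inf_centralizer (S : Subgroup G) e h4
  have hcardS : Nat.card (S : Subgroup G) = 4 * m := card_of_equiv (S : Subgroup G) e
  have hAcyc : IsCyclic A := isCyclic_inf_centralizer (S : Subgroup G) e h4
  -- the Sylow 2-subgroup of C
  let P : Sylow 2 C := sylowCentralizer S D hSN
  have hPA : (P : Subgroup C) = A.subgroupOf C := rfl
  have hPequiv : (P : Subgroup C) ≃* A := Subgroup.subgroupOfEquivOfLe hAC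
  have hPcyc : IsCyclic (P : Subgroup C) := hPequiv.isCyclic.mpr hAcyc
  have hcardP : Nat.card (P : Subgroup C) = 2 * m := by
    rw [Nat.card_congr hPequiv.toEquiv, hcardA]
  have h2C : 2 ∣ Nat.card C := by
    have := Subgroup.card_subgroup_dvd_card (P : Subgroup C)
    rw [hcardP] at this
    exact (dvd_mul_right 2 m).trans this
  have hmin : (Nat.card C).minFac = 2 := (Nat.minFac_eq_two_iff _).mpr h2C
  have hNC := hPcyc.normalizer_le_centralizer hmin
  set K₀ : Subgroup C := (MonoidHom.transferSylow P hNC).ker with hK₀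
  have hcompl : K₀.IsComplement' (P : Subgroup C) := IsCyclic.isComplement' hmin hPcyc
  have hodd₀ : ¬ 2 ∣ Nat.card K₀ := MonoidHom.not_dvd_card_ker_transferSylow P hNC
  have hoddK₀ : Odd (Nat.card K₀) := by
    rw [← Nat.not_even_iff_odd, even_iff_two_dvd]; exact hodd₀
  set K : Subgroup G := K₀.map C.subtype with hK
  have hcardK : Nat.card K = Nat.card K₀ :=
    (Nat.card_congr (K₀.equivMapOfInjective C.subtype C.subtype_injective).toEquiv).symm
  have hKC : K ≤ C := Subgroup.map_subtype_le K₀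
  have hcardC : Nat.card C = Nat.card K₀ * (2 * m) := by
    rw [← hcompl.card_mul_card, hcardP]
  -- characterization of K₀: elements of odd order
  have hchar : ∀ c : C, c ∈ K₀ ↔ Odd (orderOf c) := by
    intro c
    constructor
    · intro hc
      have h1 : orderOf (⟨c, hc⟩ : K₀) ∣ Nat.card K₀ := orderOf_dvd_natCard _
      have h2 : orderOf (⟨c, hc⟩ : K₀) = orderOf c := Subgroup.orderOf_mk c hc
      rw [h2] at h1
      exact hoddK₀.of_dvd_nat h1
    · intro hc
      rw [hK₀, MonoidHom.mem_ker]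
      set t := MonoidHom.transferSylow P hNC c with ht
      have h1 : orderOf t ∣ orderOf c := orderOf_map_dvd _ c
      have h2 : orderOf t ∣ 2 ^ (n + 3) := by
        have := orderOf_dvd_natCard t
        rw [hcardP, hm, ← pow_succ'] at this
        exact this
      obtain ⟨j, _, hj⟩ := (Nat.dvd_prime_pow Nat.prime_two).mp h2
      have h3 : Odd (orderOf t) := hc.of_dvd_nat h1
      rw [hj] at h3
      have hj0 : j = 0 := by
        by_contra hne
        have : Even (2 ^ j) := (Nat.even_pow' hne).mpr even_two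
        exact (Nat.not_odd_iff_even.mpr this) h3
      rw [hj0, pow_zero] at hj
      exact orderOf_eq_one_iff.mp hj
  -- index of C in N
  have hDA : D ≤ A := le_inf (Subgroup.commutator_le_self _)
    (commutator_le_centralizer (S : Subgroup G) e)
  have hDcyc : IsCyclic D := Subgroup.isCyclic_of_le hDA
  have hDp : IsPGroup 2 D := S.2.to_le (Subgroup.commutator_le_self _)
  obtain ⟨d, hd⟩ := IsPGroup.iff_card.mp hDp
  have hrel : ∃ j, C.relIndex N = 2 ^ j := by
    have key := Subgroup.card_dvd_of_injective _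
      (QuotientGroup.kerLift_injective D.normalizerMonoidHom)
    rw [Subgroup.normalizerMonoidHom_ker, ← Subgroup.index, ← Subgroup.relIndex] at key
    rw [IsCyclic.card_mulAut, hd] at key
    rcases Nat.eq_zero_or_pos d with h0 | h0
    · rw [h0, pow_zero, Nat.totient_one] at key
      exact ⟨0, by simpa using key⟩
    · rw [Nat.totient_prime_pow Nat.prime_two h0] at key
      simp only [Nat.add_one_sub_one, mul_one] at key
      obtain ⟨j, _, hj⟩ := (Nat.dvd_prime_pow Nat.prime_two).mp key
      exact ⟨j, hj⟩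
  obtain ⟨j, hj⟩ := hrel
  have hcardN : Nat.card N = 2 ^ j * Nat.card C := by
    have h1 := Subgroup.card_mul_index (C.subgroupOf N)
    have h2 : Nat.card (C.subgroupOf N) = Nat.card C :=
      Nat.card_congr (Subgroup.subgroupOfEquivOfLe hCN).toEquiv
    rw [h2, ← Subgroup.relIndex, hj] at h1
    rw [← h1, mul_comm]
  have hm' : 2 * m = 2 ^ (n + 3) := by rw [hm, ← pow_succ']
  have hS' : 4 * m = 2 ^ (n + 4) := by rw [hm]; ring
  have hj1 : j = 1 := by
    have hle1 : 1 ≤ j := by
      have h1 : Nat.card (S : Subgroup G) ∣ Nat.card N := Subgroup.card_dvd_of_le hSN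
      rw [hcardS, hcardN, hcardC, hS', hm'] at h1
      have h2 : 2 ^ (n + 4) ∣ 2 ^ (j + (n + 3)) * Nat.card K₀ := by
        convert h1 using 1; ring
      have hcop : Nat.Coprime (2 ^ (n + 4)) (Nat.card K₀) :=
        Nat.Coprime.pow_left _ (Nat.coprime_two_left.mpr hoddK₀)
      have h3 := hcop.dvd_of_dvd_mul_right h2
      have := (Nat.pow_dvd_pow_iff_le_right (by norm_num : 1 < 2)).mp h3
      omega
    have hle2 : j ≤ 1 := by
      have h1 : Nat.card N ∣ Nat.card G := Subgroup.card_subgroup_dvd_card N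
      have h2 : Nat.card (S : Subgroup G) * (S : Subgroup G).index = Nat.card G :=
        Subgroup.card_mul_index _
      rw [← h2, hcardS, hcardN, hcardC, hS', hm'] at h1
      have h3 : 2 ^ (j + (n + 3)) ∣ 2 ^ (n + 4) * (S : Subgroup G).index := by
        refine dvd_trans ?_ h1
        exact ⟨Nat.card K₀, by ring⟩
      have hidx : ¬ 2 ∣ (S : Subgroup G).index := S.not_dvd_index
      have hcop : Nat.Coprime (2 ^ (j + (n + 3))) (S : Subgroup G).index :=
        Nat.Coprime.pow_left _ ((Nat.Prime.coprime_iff_not_dvd Nat.prime_two).mpr hidx)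
      have h4' := hcop.dvd_of_dvd_mul_right h3
      have := (Nat.pow_dvd_pow_iff_le_right (by norm_num : 1 < 2)).mp h4'
      omega
    omega
  refine ⟨K, ?_, hKC, ?_, ?_, ?_, ?_⟩
  · rw [hcardK]; exact hoddK₀
  · -- N normalizes K
    have key : ∀ g ∈ N, ∀ k ∈ K, g * k * g⁻¹ ∈ K := by
      rintro g hg _ ⟨k₀, hk₀, rfl⟩
      have hodd := (hchar k₀).mp hk₀
      have hmem : g * (k₀ : G) * g⁻¹ ∈ C := conj_mem_centralizer hg k₀.2
      refine ⟨⟨g * (k₀ : G) * g⁻¹, hmem⟩, ?_, rfl⟩
      apply (hchar _).mpr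
      have h1 : orderOf (⟨g * (k₀ : G) * g⁻¹, hmem⟩ : C) = orderOf (g * (k₀ : G) * g⁻¹) :=
        Subgroup.orderOf_mk _ hmem
      rw [h1, orderOf_conj', Subgroup.orderOf_coe]
      exact hodd
    intro g hg
    rw [Subgroup.mem_normalizer_iff]
    intro k
    constructor
    · exact key g hg k
    · intro hk
      have := key g⁻¹ (N.inv_mem hg) _ hk
      simpa [mul_assoc] using this
  · -- K ⊔ S = N
    apply Subgroup.eq_of_le_of_card_ge (sup_le (hKC.trans hCN) hSN)
    have h1 : Nat.card K ∣ Nat.card ↥(K ⊔ (S : Subgroup G)) := Subgroup.card_dvd_of_le le_sup_left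
    have h2 : Nat.card (S : Subgroup G) ∣ Nat.card ↥(K ⊔ (S : Subgroup G)) :=
      Subgroup.card_dvd_of_le le_sup_right
    have hcop : Nat.Coprime (Nat.card K) (Nat.card (S : Subgroup G)) := by
      rw [hcardK, hcardS, hS']
      exact (Nat.Coprime.pow_left _ (Nat.coprime_two_left.mpr hoddK₀)).symm
    have h3 := hcop.mul_dvd_of_dvd_of_dvd h1 h2
    have h4' := Nat.le_of_dvd Nat.card_pos h3
    rw [hcardN, hcardC, hj1]
    rw [hcardK, hcardS] at h4'
    calc 2 ^ 1 * (Nat.card K₀ * (2 * m)) = Nat.card K₀ * (4 * m) := by ring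
      _ ≤ _ := h4'
  · -- K ⊔ A = C
    have h1 := hcompl.sup_eq_top
    have h2 := congrArg (Subgroup.map C.subtype) h1
    rw [Subgroup.map_sup, hPA, Subgroup.subgroupOf_map_subtype, ← MonoidHom.range_eq_map,
      Subgroup.range_subtype, inf_of_le_left hAC] at h2
    exact h2
  · rw [← Subgroup.relIndex, hj, hj1, pow_one]

end Cfsg.Agent.S0842
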