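import Mathlib
import Cfsg.Statements.S0843
import Cfsg.Agent.Helper14.QuatSylow

set_option autoImplicit false
open Cfsg

namespace Cfsg.Agent.S0843

open Cfsg.Agent.Helper14

theorem orderOf_conj' {G : Type*} [Group G] (g y : G) : orderOf (g * y * g⁻¹) = orderOf y := by
  have := (MulAut.conj g).orderOf_eq y
  rwa [MulAut.conj_apply] at this

/-- key lemma: `D ≤ ⟨y⟩` for `y ∈ C(D)` of order divisible by `|D|`. -/
theorem key {G : Type*} [Group G] [Finite G] (S : Sylow 2 G) (n : ℕ)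
    (e : (S : Subgroup G) ≃* QuaternionGroup (2 ^ (n + 2))) (y : G)
    (hy : y ∈ Subgroup.centralizer ((⁅(S : Subgroup G), (S : Subgroup G)⁆ : Subgroup G) : Set G))
    (hdvd : Nat.card (⁅(S : Subgroup G), (S : Subgroup G)⁆ : Subgroup G) ∣ orderOf y) :
    (⁅(S : Subgroup G), (S : Subgroup G)⁆ : Subgroup G) ≤ Subgroup.zpowers y := by
  set D : Subgroup G := ⁅(S : Subgroup G), (S : Subgroup G)⁆ with hD
  have hm3 : 3 ≤ 2 ^ (n + 2) := by
    have : 2 ^ 2 ≤ 2 ^ (n + 2) := Nat.pow_le_pow_right (by norm_num) (by omega)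
    omega
  have h4 := four_ne_zero_of_le hm3
  have hDS : D ≤ (S : Subgroup G) := Subgroup.commutator_le_self _
  have hDp : IsPGroup 2 D := S.2.to_le hDS
  obtain ⟨d, hd⟩ := IsPGroup.iff_card.mp hDp
  have hy0 : orderOf y ≠ 0 := (orderOf_pos y).ne'
  obtain ⟨k, r, hr, hkr⟩ := Nat.exists_eq_two_pow_mul_odd hy0
  have hr0 : r ≠ 0 := by rintro rfl; simp at hr
  have hrdvd : r ∣ orderOf y := ⟨2 ^ k, by rw [hkr, mul_comm]⟩
  set y₂ := y ^ r with hy₂
  have hord : orderOf y₂ = 2 ^ k := by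
    rw [hy₂, orderOf_pow_of_dvd hr0 hrdvd, hkr, Nat.mul_div_cancel _ (Nat.pos_of_ne_zero hr0)]
  have hdk : 2 ^ d ∣ 2 ^ k := by
    have : 2 ^ d ∣ 2 ^ k * r := by rw [← hkr, ← hd]; exact hdvd
    refine Nat.Coprime.dvd_of_dvd_mul_right ?_ this
    exact Nat.Coprime.pow_left d (Nat.coprime_two_left.mpr hr)
  set Z := Subgroup.zpowers y₂ with hZ
  have hZC : Z ≤ Subgroup.centralizer (D : Set G) := by
    rw [hZ, Subgroup.zpowers_le]
    exact Subgroup.pow_mem _ hy r
  have hDC : D ≤ Subgroup.centralizer (D : Set G) := commutator_le_centralizer (S : Subgroup G) e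
  have hZp : IsPGroup 2 Z := by
    apply IsPGroup.of_card (n := k)
    rw [hZ, Nat.card_zpowers, hord]
  have hZN : Z ≤ Subgroup.normalizer (D : Set G) :=
    hZC.trans (Subgroup.centralizer_le_normalizer _)
  have hRp : IsPGroup 2 (Z ⊔ D : Subgroup G) := IsPGroup.to_sup_of_normal_right' hZp hDp hZN
  have hRC : Z ⊔ D ≤ Subgroup.centralizer (D : Set G) := sup_le hZC hDC
  have : IsCyclic ↥(Z ⊔ D) := isCyclic_of_le_centralizer S e h4 (Z ⊔ D) hRC hRp
  have hDZ : D ≤ Z := by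
    apply le_of_card_dvd_of_isCyclic (Z ⊔ D) D Z le_sup_right le_sup_left
    rw [hd, hZ, Nat.card_zpowers, hord]
    exact hdk
  refine hDZ.trans ?_
  rw [hZ, Subgroup.zpowers_le]
  exact Subgroup.pow_mem _ (Subgroup.mem_zpowers y) r

theorem result {G : Type*} [Group G] [Finite G] (S : Sylow 2 G) (n : ℕ) (e : (S : Subgroup G) ≃* QuaternionGroup (2 ^ (n + 2))) (D : Subgroup G) (hD : D = ⁅(S : Subgroup G), (S : Subgroup G)⁆) : (∀ y : G, y ∈ Subgroup.centralizer (D : Set G) → Nat.card D ∣ orderOf y → D ≤ Subgroup.zpowers y) ∧ (∀ g y : G, y ∈ Subgroup.centralizer (D : Set G) → Nat.card D ∣ orderOf y → g * y * g⁻¹ ∈ Subgroup.centralizer (D : Set G) → g ∈ Subgroup.normalizer (D : Set G)) ∧ (∀ g y : G, g ∈ Subgroup.normalizer (D : Set G) → y ∈ Subgroup.centralizer (D : Set G) → Nat.card D ∣ orderOf y → g * y * g⁻¹ ∈ Subgroup.centralizer (D : Set G) ∧ Nat.card D ∣ orderOf (g * y * g⁻¹)) := by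
  subst hD
  set D : Subgroup G := ⁅(S : Subgroup G), (S : Subgroup G)⁆ with hD
  refine ⟨fun y hy hdvd => key S n e y hy hdvd, ?_, ?_⟩
  · intro g y hy hdvd hgy
    have h1 : D ≤ Subgroup.zpowers y := key S n e y hy hdvd
    have h2 : D ≤ Subgroup.zpowers (g * y * g⁻¹) :=
      key S n e _ hgy (by rw [orderOf_conj']; exact hdvd)
    set Dg : Subgroup G := D.map (MulAut.conj g).toMonoidHom with hDg
    have h3 : Dg ≤ Subgroup.zpowers (g * y * g⁻¹) := by
      have : (Subgroup.zpowers y).map (MulAut.conj g).toMonoidHom =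
          Subgroup.zpowers (g * y * g⁻¹) := by
        rw [MonoidHom.map_zpowers]
        rfl
      rw [← this]
      exact Subgroup.map_mono h1
    have hcard : Nat.card Dg = Nat.card D :=
      (Nat.card_congr (D.equivMapOfInjective (MulAut.conj g).toMonoidHom
        (MulAut.conj g).injective).toEquiv).symm
    have hle1 : Dg ≤ D :=
      le_of_card_dvd_of_isCyclic (Subgroup.zpowers (g * y * g⁻¹)) Dg D h3 h2 (by rw [hcard])
    have hle2 : D ≤ Dg :=
      le_of_card_dvd_of_isCyclic (Subgroup.zpowers (g * y * g⁻¹)) D Dg h2 h3 (by rw [hcard])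
    rw [Subgroup.mem_normalizer_iff]
    intro h
    constructor
    · intro hh
      apply hle1
      exact ⟨h, hh, rfl⟩
    · intro hh
      obtain ⟨h', hh', heq⟩ := hle2 hh
      have : h' = h := (MulAut.conj g).injective heq
      rw [← this]; exact hh'
  · intro g y hg hy hdvd
    refine ⟨conj_mem_centralizer hg hy, ?_⟩
    rw [orderOf_conj']; exact hdvd

end Cfsg.Agent.S0843
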