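import Mathlib
import Cfsg.Statements.S0849

set_option autoImplicit false
open Cfsg

namespace Cfsg.Agent.S0849

theorem finsum_mem_eq_sum_ite {α : Type*} [Fintype α] (s : Set α) [DecidablePred (· ∈ s)] (f : α → ℂ) :
    ∑ᶠ i ∈ s, f i = ∑ i, if i ∈ s then f i else 0 := by
  rw [finsum_mem_eq_sum_of_inter_support_eq f (t := Finset.univ.filter (· ∈ s)) (by ext; simp),
    Finset.sum_filter]

theorem extendByZero_apply_mem {G : Type*} [Group G] (H : Subgroup G) (φ : H → ℂ) (g : G)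
    (hg : g ∈ H) : Cfsg.extendByZero H φ g = φ ⟨g, hg⟩ := by
  unfold Cfsg.extendByZero
  exact Subtype.val_injective.extend_apply φ 0 ⟨g, hg⟩

theorem extendByZero_apply_not_mem {G : Type*} [Group G] (H : Subgroup G) (φ : H → ℂ) (g : G)
    (hg : g ∉ H) : Cfsg.extendByZero H φ g = 0 := by
  unfold Cfsg.extendByZero
  rw [Function.extend_apply']
  · rfl
  · rintro ⟨a, rfl⟩
    exact hg a.2

theorem result {G : Type*} [Group G] [Fintype G] (H : Subgroup G) (S : Set G) (hSH : S ⊆ H) (hHS : ∀ h ∈ H, ∀ s ∈ S, h * s * h⁻¹ ∈ S) (hTI : ∀ g : G, g ∉ H → ∀ s ∈ S, g * s * g⁻¹ ∉ S) (hinv : ∀ s ∈ S, s⁻¹ ∈ S) (φ : H → ℂ) (hφ : Cfsg.IsClassFunction H φ) (hφS : ∀ x : H, (x : G) ∉ S → φ x = 0) (u v : G) (hu : orderOf u = 2) (hv : orderOf v = 2) : ∑ᶠ p ∈ {p : G × G | IsConj u p.1 ∧ IsConj v p.2}, Cfsg.indFun H φ (p.1 * p.2) = (H.index : ℂ) * ∑ᶠ p ∈ {p : H × H | IsConj u (p.1 : G) ∧ IsConj v (p.2 : G)}, φ (p.1 * p.2) := by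
  classical
  set P : Set (G × G) := {p : G × G | IsConj u p.1 ∧ IsConj v p.2} with hP
  set φ' : G → ℂ := Cfsg.extendByZero H φ with hφ'
  -- involutions
  have hinvol : ∀ a w : G, orderOf w = 2 → IsConj w a → a * a = 1 := by
    intro a w hw hc
    obtain ⟨c, hc⟩ := isConj_iff.mp hc
    rw [← hc]
    have : w * w = 1 := by rw [← pow_two, ← hw, pow_orderOf_eq_one]
    calc c * w * c⁻¹ * (c * w * c⁻¹) = c * (w * w) * c⁻¹ := by group
      _ = 1 := by rw [this]; group
  -- Step 1: sum of φ' over P, reindexed by conjugation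
  have hreindex : ∀ x : G, (∑ p : G × G, if p ∈ P then φ' (x⁻¹ * (p.1 * p.2) * x) else 0) =
      ∑ p : G × G, if p ∈ P then φ' (p.1 * p.2) else 0 := by
    intro x
    let e : G × G ≃ G × G :=
      { toFun := fun p => (x⁻¹ * p.1 * x, x⁻¹ * p.2 * x)
        invFun := fun p => (x * p.1 * x⁻¹, x * p.2 * x⁻¹)
        left_inv := fun p => by ext <;> simp [mul_assoc]
        right_inv := fun p => by ext <;> simp [mul_assoc] }
    rw [← Equiv.sum_comp e (fun p => if p ∈ P then φ' (p.1 * p.2) else 0)]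
    apply Finset.sum_congr rfl
    intro p _
    have hmem : e p ∈ P ↔ p ∈ P := by
      simp only [hP, Set.mem_ofPred_eq, e, Equiv.coe_fn_mk]
      have h1 : ∀ w a : G, IsConj w (x⁻¹ * a * x) ↔ IsConj w a := by
        intro w a
        have : IsConj a (x⁻¹ * a * x) := isConj_iff.mpr ⟨x⁻¹, by simp⟩
        exact ⟨fun h => h.trans this.symm, fun h => h.trans this⟩
      rw [h1, h1]
    simp only [hmem]
    split_ifs
    · congr 1
      simp only [e, Equiv.coe_fn_mk]
      group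
    · rfl
  -- Step 2: the sum over P of φ' equals the sum over pairs in H
  have hkey : ∀ p : G × G, p ∈ P → φ' (p.1 * p.2) ≠ 0 → p.1 ∈ H ∧ p.2 ∈ H := by
    intro p hp hne
    have hmem : p.1 * p.2 ∈ H := by
      by_contra hcon
      exact hne (extendByZero_apply_not_mem H φ _ hcon)
    have hS : p.1 * p.2 ∈ S := by
      by_contra hcon
      apply hne
      rw [hφ', extendByZero_apply_mem H φ _ hmem]
      exact hφS ⟨_, hmem⟩ hcon
    have h1 : p.1 * p.1 = 1 := hinvol p.1 u hu hp.1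
    have h2 : p.2 * p.2 = 1 := hinvol p.2 v hv hp.2
    have h1' : p.1⁻¹ = p.1 := inv_eq_of_mul_eq_one_left h1
    have h2' : p.2⁻¹ = p.2 := inv_eq_of_mul_eq_one_left h2
    have hsinv : (p.1 * p.2)⁻¹ = p.2 * p.1 := by rw [mul_inv_rev, h1', h2']
    have hS' : p.2 * p.1 ∈ S := by rw [← hsinv]; exact hinv _ hS
    constructor
    · by_contra hcon
      apply hTI p.1 hcon _ hS
      rw [h1']
      have : p.1 * (p.1 * p.2) * p.1 = (p.1 * p.1) * p.2 * p.1 := by group
      rw [this, h1, one_mul]; exact hS'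
    · by_contra hcon
      apply hTI p.2 hcon _ hS
      rw [h2']
      have : p.2 * (p.1 * p.2) * p.2 = p.2 * p.1 * (p.2 * p.2) := by group
      rw [this, h2, mul_one]; exact hS'
  have hstep2 : (∑ p : G × G, if p ∈ P then φ' (p.1 * p.2) else 0) =
      ∑ p : H × H, if p ∈ {p : H × H | IsConj u (p.1 : G) ∧ IsConj v (p.2 : G)} then φ (p.1 * p.2) else 0 := by
    let ι : H × H → G × G := fun p => ((p.1 : G), (p.2 : G))
    have hι : Function.Injective ι := by
      intro p q h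
      simp only [ι, Prod.mk.injEq] at h
      exact Prod.ext (Subtype.ext h.1) (Subtype.ext h.2)
    have : (∑ p : H × H, if p ∈ {p : H × H | IsConj u (p.1 : G) ∧ IsConj v (p.2 : G)} then φ (p.1 * p.2) else 0) =
        ∑ p : H × H, (fun q : G × G => if q ∈ P then φ' (q.1 * q.2) else 0) (ι p) := by
      apply Finset.sum_congr rfl
      intro p _
      simp only [ι, hP, Set.mem_ofPred_eq]
      split_ifs
      · rw [hφ', extendByZero_apply_mem H φ _ (H.mul_mem p.1.2 p.2.2)]
        rfl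
      · rfl
    rw [this]
    refine (Finset.sum_subset (Finset.subset_univ (Finset.univ.map ⟨ι, hι⟩)) ?_).symm.trans
      (Finset.sum_map _ _ _)
    intro p _ hp
    simp only [Finset.mem_map, Finset.mem_univ, true_and, Function.Embedding.coeFn_mk, not_exists] at hp
    split_ifs with hpP
    · by_contra hne
      obtain ⟨h1, h2⟩ := hkey p hpP hne
      exact hp (⟨p.1, h1⟩, ⟨p.2, h2⟩) rfl
    · rfl
  -- assemble
  rw [finsum_mem_eq_sum_ite, finsum_mem_eq_sum_ite, ← hstep2]
  have hind : ∀ p : G × G, (if p ∈ P then Cfsg.indFun H φ (p.1 * p.2) else 0) =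
      (Nat.card H : ℂ)⁻¹ * ∑ x : G, if p ∈ P then φ' (x⁻¹ * (p.1 * p.2) * x) else 0 := by
    intro p
    split_ifs
    · rfl
    · simp
  simp_rw [hind]
  rw [← Finset.mul_sum, Finset.sum_comm]
  simp_rw [hreindex]
  rw [Finset.sum_const, Finset.card_univ, nsmul_eq_mul, ← mul_assoc]
  congr 1
  have hcard : (Nat.card H : ℂ) ≠ 0 := by
    have : Nat.card H ≠ 0 := Nat.card_pos.ne'
    exact_mod_cast this
  rw [inv_mul_eq_iff_eq_mul₀ hcard]
  have := Subgroup.card_mul_index H
  rw [Nat.card_eq_fintype_card (α := G)] at this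
  exact_mod_cast this.symm

end Cfsg.Agent.S0849
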