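import Cfsg.Statements.S0850
import Cfsg.Agent.Helper15.IndFun

set_option autoImplicit false
open Cfsg

namespace Cfsg.Agent.S0850

open Cfsg.Agent.Helper15

/-- Conjugation action of a subgroup of the normalizer of `K` on `K`. -/
@[reducible] def conjAct' {G : Type*} [Group G] (K Z : Subgroup G)
    (hZ : Z ≤ Subgroup.normalizer (K : Set G)) : MulAction Z K where
  smul u k := ⟨(u : G) * (k : G) * (u : G)⁻¹,
    (Subgroup.mem_normalizer_iff.mp (hZ u.2) (k : G)).mp k.2⟩
  one_smul k := by
    apply Subtype.ext
    show ((1 : Z) : G) * (k : G) * ((1 : Z) : G)⁻¹ = (k : G)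
    simp
  mul_smul u v k := by
    apply Subtype.ext
    show ((u * v : Z) : G) * (k : G) * ((u * v : Z) : G)⁻¹
      = (u : G) * ((v : G) * (k : G) * (v : G)⁻¹) * (u : G)⁻¹
    simp [mul_assoc]

/-- First part: no element of `N \ K` is conjugate into `K`. -/
theorem part1 {G : Type*} [Group G] [Finite G] (K : Subgroup G)
    (hTI : ∀ g : G, g ∉ Subgroup.normalizer (K : Set G) → ∀ k ∈ K, g * k * g⁻¹ ∈ K → k = 1)
    (hC : ∀ k ∈ K, k ≠ 1 → Subgroup.centralizer ({k} : Set G) ≤ K) :
    ∀ x ∈ Subgroup.normalizer (K : Set G), x ∉ K → ∀ g : G, g * x * g⁻¹ ∉ K := by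
  intro x hxN hxK g hgx
  have hx1 : x ≠ 1 := fun h => hxK (h ▸ K.one_mem)
  -- `g ∉ N`
  have hgN : g ∉ Subgroup.normalizer (K : Set G) := by
    intro hg
    exact hxK ((Subgroup.mem_normalizer_iff.mp hg x).mpr hgx)
  -- pass to an element of prime order
  set n := orderOf x with hn
  have hn0 : n ≠ 0 := (orderOf_pos x).ne'
  have hn1 : n ≠ 1 := fun h => hx1 (orderOf_eq_one_iff.mp h)
  obtain ⟨p, hp, hpn⟩ := Nat.exists_prime_and_dvd hn1
  have : Fact p.Prime := ⟨hp⟩
  set y := x ^ (n / p) with hy
  have hyord : orderOf y = p := orderOf_pow_orderOf_div hn0 hpn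
  have hy1 : y ≠ 1 := by
    intro h
    rw [h, orderOf_one] at hyord
    exact hp.one_lt.ne hyord
  have hyN : y ∈ Subgroup.normalizer (K : Set G) := Subgroup.pow_mem _ hxN _
  have hgy : g * y * g⁻¹ ∈ K := by
    have : g * y * g⁻¹ = (g * x * g⁻¹) ^ (n / p) := by
      rw [hy, conj_pow]
    rw [this]
    exact K.pow_mem hgx _
  have hyK : y ∉ K := fun h => hy1 (hTI g hgN y h hgy)
  -- `p ∣ |K|`
  have hpK : p ∣ Nat.card K := by
    have h1 : orderOf (⟨g * y * g⁻¹, hgy⟩ : K) = p := by
      rw [← hyord]
      have : orderOf ((⟨g * y * g⁻¹, hgy⟩ : K) : G) = orderOf y := by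
        show orderOf (g * y * g⁻¹) = orderOf y
        exact (MulAut.conj g).orderOf_eq y
      rw [← this, Subgroup.orderOf_coe]
    rw [← h1]
    exact orderOf_dvd_natCard _
  -- the cyclic group `⟨y⟩` acts on `K`
  have hZ : Subgroup.zpowers y ≤ Subgroup.normalizer (K : Set G) := by
    rw [Subgroup.zpowers_le]; exact hyN
  let _ := conjAct' K (Subgroup.zpowers y) hZ
  have hsmul : ∀ (u : Subgroup.zpowers y) (k : K), ((u • k : K) : G) = (u : G) * k * (u : G)⁻¹ :=
    fun _ _ => rfl
  have hPg : IsPGroup p (Subgroup.zpowers y) := by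
    apply IsPGroup.of_card (n := 1)
    rw [Nat.card_zpowers, hyord, pow_one]
  have hfix1 : (1 : K) ∈ MulAction.fixedPoints (Subgroup.zpowers y) K := by
    intro u
    apply Subtype.ext
    rw [hsmul]
    simp
  obtain ⟨b, hb, hb1⟩ :=
    hPg.exists_fixed_point_of_prime_dvd_card_of_fixed_point K hpK hfix1
  have hb1' : (b : G) ≠ 1 := by
    intro h
    apply hb1
    apply Subtype.ext
    rw [h]; rfl
  have hcomm : y * (b : G) * y⁻¹ = (b : G) := by
    have := hb ⟨y, Subgroup.mem_zpowers y⟩
    have h2 := congrArg (fun t : K => (t : G)) this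
    simpa [hsmul] using h2
  have hyC : y ∈ Subgroup.centralizer ({(b : G)} : Set G) := by
    rw [Subgroup.mem_centralizer_iff]
    intro z hz
    rw [Set.mem_singleton_iff] at hz
    subst hz
    calc (b : G) * y = (y * (b : G) * y⁻¹) * y := by rw [hcomm]
      _ = y * (b : G) := by group
  exact hyK (hC b b.2 hb1' hyC)

/-- Let K be a subgroup of the finite group G that meets each conjugate by an element outside its normalizer N trivially, is properly contained in N, and contains the centralizer of each of its non-identity elements (a T.I. subgroup with Frobenius normalizer). Then no element of N outside K is conjugate in G to an element of K, and for every class function ϑ of N that vanishes on N away from K and at the identity, the function induced from ϑ to G agrees with ϑ on all of N. -/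
theorem result {G : Type*} [Group G] [Fintype G] (K : Subgroup G) (hTI : ∀ g : G, g ∉ Subgroup.normalizer (K : Set G) → ∀ k ∈ K, g * k * g⁻¹ ∈ K → k = 1) (hlt : K < Subgroup.normalizer (K : Set G)) (hC : ∀ k ∈ K, k ≠ 1 → Subgroup.centralizer ({k} : Set G) ≤ K) : (∀ x ∈ Subgroup.normalizer (K : Set G), x ∉ K → ∀ g : G, g * x * g⁻¹ ∉ K) ∧ ∀ (ϑ : Subgroup.normalizer (K : Set G) → ℂ), Cfsg.IsClassFunction (Subgroup.normalizer (K : Set G)) ϑ → (∀ x : Subgroup.normalizer (K : Set G), (x : G) ∉ K → ϑ x = 0) → ϑ 1 = 0 → ∀ x : Subgroup.normalizer (K : Set G), Cfsg.indFun (Subgroup.normalizer (K : Set G)) ϑ x = ϑ x := by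
  classical
  have h1 := part1 K hTI hC
  refine ⟨h1, ?_⟩
  intro ϑ hcf hvan hone x
  rw [indFun_apply]
  by_cases hxK : (x : G) ∈ K
  · by_cases hx1 : (x : G) = 1
    · -- `x = 1`
      have hx : x = 1 := Subtype.ext hx1
      rw [hx, hone]
      have : ∀ g : G, extendByZero (Subgroup.normalizer (K : Set G)) ϑ
          (g⁻¹ * ((1 : Subgroup.normalizer (K : Set G)) : G) * g) = 0 := by
        intro g
        have : g⁻¹ * ((1 : Subgroup.normalizer (K : Set G)) : G) * g
            = ((1 : Subgroup.normalizer (K : Set G)) : G) := by simp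
        rw [this, extendByZero_coe, hone]
      simp only [this]
      simp
    · -- `x ∈ K \ {1}`
      have hterm : ∀ g : G, extendByZero (Subgroup.normalizer (K : Set G)) ϑ (g⁻¹ * (x : G) * g)
          = extendByZero (Subgroup.normalizer (K : Set G)) (fun _ => ϑ x) g := by
        intro g
        by_cases hg : g ∈ Subgroup.normalizer (K : Set G)
        · rw [extendByZero_of_mem _ _ hg]
          have hmem : g⁻¹ * (x : G) * g ∈ Subgroup.normalizer (K : Set G) :=
            Subgroup.mul_mem _ (Subgroup.mul_mem _ (Subgroup.inv_mem _ hg) x.2) hg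
          rw [extendByZero_of_mem _ _ hmem]
          have := hcf x (⟨g, hg⟩⁻¹ : Subgroup.normalizer (K : Set G))
          rw [← this]
          congr 1
          apply Subtype.ext
          simp
        · rw [extendByZero_of_not_mem _ _ hg]
          have hg' : g⁻¹ ∉ Subgroup.normalizer (K : Set G) :=
            fun h => hg (by simpa using Subgroup.inv_mem _ h)
          by_cases hmem : g⁻¹ * (x : G) * g ∈ Subgroup.normalizer (K : Set G)
          · rw [extendByZero_of_mem _ _ hmem]
            apply hvan
            intro hK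
            apply hx1
            apply hTI g⁻¹ hg' (x : G) hxK
            simpa using hK
          · rw [extendByZero_of_not_mem _ _ hmem]
      simp only [hterm]
      have : Fintype (Subgroup.normalizer (K : Set G)) := Fintype.ofFinite _
      rw [sum_extendByZero _ (fun _ => ϑ x)]
      rw [Finset.sum_const, Finset.card_univ, nsmul_eq_mul, ← Nat.card_eq_fintype_card]
      have hN0 : (Nat.card (Subgroup.normalizer (K : Set G)) : ℂ) ≠ 0 := by
        have : Nat.card (Subgroup.normalizer (K : Set G)) ≠ 0 := Nat.card_pos.ne'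
        exact_mod_cast this
      field_simp
  · rw [hvan x hxK]
    have : ∀ g : G, extendByZero (Subgroup.normalizer (K : Set G)) ϑ (g⁻¹ * (x : G) * g) = 0 := by
      intro g
      by_cases hmem : g⁻¹ * (x : G) * g ∈ Subgroup.normalizer (K : Set G)
      · rw [extendByZero_of_mem _ _ hmem]
        apply hvan
        have := h1 (x : G) x.2 hxK g⁻¹
        simpa using this
      · rw [extendByZero_of_not_mem _ _ hmem]
    simp [this]

end Cfsg.Agent.S0850
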