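import Cfsg.Statements.S0855
import Cfsg.Agent.Helper74.ThompsonDeg
import Cfsg.Agent.Helper16.Covering3
import Cfsg.Agent.Helper80.Degree

set_option autoImplicit false
open Cfsg

namespace Cfsg.Agent.S0855

/-- For a finite group G and a prime p: every irreducible character of G has degree a power of p if and only if G has an abelian normal subgroup whose order is prime to p and whose index is a power of p. -/
theorem result {G : Type*} [Group G] [Finite G] (p : ℕ) (hp : p.Prime) : (∀ χ : Cfsg.IrrCharacter G, ∃ k : ℕ, (χ : G → ℂ) 1 = (p : ℂ) ^ k) ↔ ∃ A : Subgroup G, A.Normal ∧ (∀ a ∈ A, ∀ b ∈ A, a * b = b * a) ∧ Nat.Coprime (Nat.card A) p ∧ ∃ k : ℕ, A.index = p ^ k := by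
  classical
  have : Fact p.Prime := ⟨hp⟩
  let _ : Fintype G := Fintype.ofFinite G
  constructor
  · intro hpow
    have hdegpow : ∀ χ : Cfsg.IrrCharacter G, ∃ k : ℕ, Cfsg.charDegree (χ : G → ℂ) = p ^ k := by
      intro χ
      obtain ⟨k, hk⟩ := hpow χ
      refine ⟨k, ?_⟩
      have h1 := Cfsg.Agent.Helper74.charDegree_cast (Cfsg.Agent.Helper74.irr_isCharacter χ)
      rw [hk] at h1
      exact_mod_cast h1
    have hdeg : ∀ χ : Cfsg.IrrCharacter G, Cfsg.charDegree (χ : G → ℂ) ≠ 1 →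
        p ∣ Cfsg.charDegree (χ : G → ℂ) := by
      intro χ hne
      obtain ⟨k, hk⟩ := hdegpow χ
      rw [hk] at hne ⊢
      rcases Nat.eq_zero_or_pos k with rfl | hpos
      · exact absurd (pow_zero p) hne
      · exact dvd_pow_self p hpos.ne'
    have hNn : (Cfsg.pResidual p G).Normal := Cfsg.Agent.Helper34.pResidual_normal p G
    have hcop := Cfsg.Agent.Helper74.coprime_card_pResidual_of_degrees p hdeg
    refine ⟨Cfsg.pResidual p G, hNn, ?_, hcop, ?_⟩
    · -- abelian
      by_contra hnc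
      have hnc' : ¬ IsMulCommutative (Cfsg.pResidual p G) := by
        intro hc
        apply hnc
        intro a ha b hb
        have := hc.is_comm.comm (⟨a, ha⟩ : Cfsg.pResidual p G) ⟨b, hb⟩
        exact congrArg Subtype.val this
      obtain ⟨θ, hθ⟩ := Cfsg.Agent.Helper80.exists_irr_charDegree_ne_one hnc'
      let _ : Fintype (Cfsg.pResidual p G) := Fintype.ofFinite _
      obtain ⟨χ, hχ⟩ := Cfsg.Agent.Helper16.exists_irr_over (Cfsg.pResidual p G) θ
      have h1 := Cfsg.Agent.Helper74.charDegree_dvd_of_constituent (Cfsg.pResidual p G) χ.2 θ.2 hχ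
      obtain ⟨k, hk⟩ := hdegpow χ
      rw [hk] at h1
      have h2 : Cfsg.charDegree (θ : ↥(Cfsg.pResidual p G) → ℂ) ∣ Nat.card (Cfsg.pResidual p G) :=
        Cfsg.Agent.Helper80.IsIrrCharacter.charDegree_dvd_card θ.2
      have h3 : (Cfsg.charDegree (θ : ↥(Cfsg.pResidual p G) → ℂ)).Coprime (p ^ k) :=
        Nat.Coprime.pow_right k (Nat.Coprime.coprime_dvd_left h2 hcop)
      exact hθ (Nat.Coprime.eq_one_of_dvd h3 h1)
    · have h1 : IsPGroup p (G ⧸ Cfsg.pResidual p G) :=
        Cfsg.Agent.Helper34.pResidual_quotient_isPGroup p G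
      obtain ⟨k, hk⟩ := IsPGroup.iff_card.mp h1
      exact ⟨k, by rw [Subgroup.index_eq_card]; exact hk⟩
  · rintro ⟨A, hAn, hAc, -, k, hk⟩ χ
    obtain ⟨n, hn, hdvd⟩ := Cfsg.Agent.Helper74.ito_degree_dvd_index A hAc χ.2
    rw [hk] at hdvd
    obtain ⟨j, -, rfl⟩ := (Nat.dvd_prime_pow hp).mp hdvd
    exact ⟨j, by rw [hn]; push_cast; rfl⟩

end Cfsg.Agent.S0855
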