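import Cfsg.Statements.S0861
import Cfsg.Agent.Helper82.Knorr
import Cfsg.Agent.Helper74.CharCount

set_option autoImplicit false
open Cfsg

namespace Cfsg.Agent.S0861

/-- A finite group with as many conjugacy classes as elements is commutative. -/
theorem comm_of_card_conjClasses_eq {H : Type*} [Group H] [Finite H]
    (h : Nat.card H ≤ Nat.card (ConjClasses H)) (a b : H) : a * b = b * a := by
  have hsurj : Function.Surjective (ConjClasses.mk : H → ConjClasses H) :=
    ConjClasses.mk_surjective
  have hle : Nat.card (ConjClasses H) ≤ Nat.card H := Nat.card_le_card_of_surjective _ hsurj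
  have heq : Nat.card H = Nat.card (ConjClasses H) := le_antisymm h hle
  have hbij : Function.Bijective (ConjClasses.mk : H → ConjClasses H) :=
    (Nat.bijective_iff_surjective_and_card _).mpr ⟨hsurj, heq⟩
  have h1 : ConjClasses.mk (b * a * b⁻¹) = ConjClasses.mk a := by
    rw [ConjClasses.mk_eq_mk_iff_isConj]
    exact (isConj_iff.mpr ⟨b, rfl⟩).symm
  have h2 := hbij.1 h1
  calc a * b = (b * a * b⁻¹) * b := by rw [h2]
    _ = b * a := by group

/-- Let P be a normal abelian Sylow p-subgroup of the finite group G and suppose some element g of P has centralizer exactly P. Then the number of irreducible characters of G is at most the order of P, and if equality holds then G / P is abelian (the commutator subgroup lies in P). -/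
theorem result {G : Type*} [Group G] [Finite G] (p : ℕ) [Fact p.Prime] (P : Sylow p G) [(P : Subgroup G).Normal] (hab : ∀ a ∈ P, ∀ b ∈ P, a * b = b * a) (g : G) (hg : g ∈ P) (hC : Subgroup.centralizer ({g} : Set G) = P) : Nat.card (Cfsg.IrrCharacter G) ≤ Nat.card P ∧ (Nat.card (Cfsg.IrrCharacter G) = Nat.card P → commutator G ≤ P) := by
  classical
  set V : Subgroup G := (P : Subgroup G) with hV
  have hVp : IsPGroup p V := P.isPGroup'
  have hidx : ¬ p ∣ V.index := P.not_dvd_index
  have hcop : Nat.Coprime (Nat.card V) V.index := by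
    obtain ⟨n, hn⟩ := IsPGroup.iff_card.mp hVp
    rw [hn]
    exact Nat.Coprime.pow_left n ((Nat.Prime.coprime_iff_not_dvd Fact.out).mpr hidx)
  obtain ⟨H, hH⟩ := Subgroup.exists_right_complement'_of_coprime hcop
  have knorr := Cfsg.Agent.Helper82.knorr_bound p V hVp hidx hab H hH g hg
  have hinf : H ⊓ Subgroup.centralizer ({g} : Set G) = ⊥ := by
    rw [hC, inf_comm]
    exact hH.disjoint.eq_bot
  rw [hinf, Subgroup.card_bot, one_mul] at knorr
  have hkH : Nat.card (ConjClasses H) ≤ Nat.card H :=
    Nat.card_le_card_of_surjective _ ConjClasses.mk_surjective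
  have hk : Nat.card (IrrCharacter G) = Nat.card (ConjClasses G) :=
    Cfsg.Agent.Helper74.card_irr_eq_card_conjClasses
  refine ⟨by rw [hk]; omega, fun heq => ?_⟩
  rw [hk] at heq
  have hle : Nat.card H ≤ Nat.card (ConjClasses H) := by omega
  have hcomm : IsMulCommutative H := ⟨⟨fun a b => comm_of_card_conjClasses_eq hle a b⟩⟩
  exact Subgroup.Normal.commutator_le_of_self_sup_commutative_eq_top hH.sup_eq_top hcomm

end Cfsg.Agent.S0861
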