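import Cfsg.Statements.S0868
import Cfsg.Agent.Helper15.Gallagher

set_option autoImplicit false
set_option linter.unusedSectionVars false
open scoped ComplexConjugate
open Cfsg

namespace Cfsg.Agent.S0868

open Cfsg.Agent.Helper15

universe u

variable {G : Type u} [Group G] [Fintype G] (N : Subgroup G) [hN : N.Normal] [Fintype N]

/-- The coset average of a function. -/
noncomputable def avg (F : G → ℂ) : G → ℂ :=
  fun g => (Nat.card N : ℂ)⁻¹ * ∑ n : N, F ((n : G) * g)

/-- The coset average of a class function is a class function. -/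
theorem isClassFunction_avg {F : G → ℂ} (hF : IsClassFunction G F) :
    IsClassFunction G (avg N F) := by
  intro g y
  unfold avg
  congr 1
  symm
  apply Fintype.sum_equiv (MulAut.conjNormal y : N ≃* N).toEquiv
  intro n
  have h1 : (((MulAut.conjNormal y : N ≃* N).toEquiv n : N) : G) = y * n * y⁻¹ := by
    simp [MulAut.conjNormal_apply]
  rw [h1]
  have := hF ((n : G) * g) y
  rw [← this]
  congr 1
  group

/-- The inner product of a coset average with `ξ`. -/
theorem classInner_avg (F ξ : G → ℂ) :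
    classInner (avg N F) ξ
      = (Nat.card G : ℂ)⁻¹ * ((Nat.card N : ℂ)⁻¹ *
          ∑ x : G, F x * conj (∑ n : N, ξ ((n : G) * x))) := by
  rw [classInner_apply]
  congr 1
  unfold avg
  simp only [mul_assoc, Finset.sum_mul]
  rw [← Finset.mul_sum]
  congr 1
  rw [Finset.sum_comm]
  -- for fixed `n`, substitute `x = n g`
  have h1 : ∀ n : N, ∑ g : G, F ((n : G) * g) * conj (ξ g)
      = ∑ x : G, F x * conj (ξ ((n : G)⁻¹ * x)) := by
    intro n
    apply Fintype.sum_equiv (Equiv.mulLeft (n : G))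
    intro g
    simp
  simp only [h1]
  rw [Finset.sum_comm]
  apply Finset.sum_congr rfl
  intro x _
  rw [← Finset.mul_sum, map_sum]
  congr 1
  apply Fintype.sum_equiv (Equiv.inv N)
  intro n
  simp

/-- Let N be a normal subgroup of the finite group G, χ an irreducible character of G whose restriction ϑ to N is irreducible, and ψ an irreducible character of G. Define η on G by η g = (1 / order of N) * Σ over n in N of ψ (n * g) * conj (χ (n * g)). Then: if the restriction of ψ to N has nonzero inner product with ϑ, η is an irreducible character of G; if that inner product is zero, η vanishes identically; and if ψ = χ then η is identically 1. -/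
theorem result {G : Type*} [Group G] [Fintype G] (N : Subgroup G) [N.Normal] [Fintype N] (χ : G → ℂ) (hχ : Cfsg.IsIrrCharacter G χ) (hχN : Cfsg.IsIrrCharacter N (fun n : N => χ n)) (ψ : G → ℂ) (hψ : Cfsg.IsIrrCharacter G ψ) (η : G → ℂ) (hη : η = fun g => (Nat.card N : ℂ)⁻¹ * ∑ n : N, ψ ((n : G) * g) * conj (χ ((n : G) * g))) : (Cfsg.classInner (fun n : N => ψ n) (fun n : N => χ n) ≠ 0 → Cfsg.IsIrrCharacter G η) ∧ (Cfsg.classInner (fun n : N => ψ n) (fun n : N => χ n) = 0 → η = 0) ∧ (ψ = χ → η = fun _ => 1) := by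
  classical
  let _ := Helper74.irrFintype G
  have hχc := Helper74.isCharacter_of_isIrr hχ
  have hψc := Helper74.isCharacter_of_isIrr hψ
  have hχcf := Helper74.isClassFunction_of_isCharacter hχc
  have hψcf := Helper74.isClassFunction_of_isCharacter hψc
  have hGne : (Nat.card G : ℂ) ≠ 0 := by
    have : Nat.card G ≠ 0 := Nat.card_pos.ne'
    exact_mod_cast this
  have hNne : (Nat.card N : ℂ) ≠ 0 := by
    have : Nat.card N ≠ 0 := Nat.card_pos.ne'
    exact_mod_cast this
  -- `η` is a coset average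
  let F : G → ℂ := fun x => ψ x * conj (χ x)
  have hFcf : IsClassFunction G F := by
    intro g y
    show ψ (y * g * y⁻¹) * conj (χ (y * g * y⁻¹)) = ψ g * conj (χ g)
    rw [hψcf g y, hχcf g y]
  have hηavg : η = avg N F := hη
  have hηcf : IsClassFunction G η := hηavg ▸ isClassFunction_avg N hFcf
  have hηdec := Helper74.classFunction_eq_sum_irr hηcf
  -- inner products of `η` with irreducible characters
  have hB1 : ∀ ξ : IrrCharacter G,
      classInner (fun n : N => (ξ : G → ℂ) n) (fun _ => (1 : ℂ)) = 0 →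
        classInner η (ξ : G → ℂ) = 0 := by
    intro ξ h0
    rw [hηavg, classInner_avg]
    have : ∀ x : G, ∑ n : N, (ξ : G → ℂ) ((n : G) * x) = 0 :=
      fun x => sum_normal_translate_eq_zero N ξ.2 h0 x
    simp [this]
  have hB2 : ∀ ξ : IrrCharacter G,
      classInner (fun n : N => (ξ : G → ℂ) n) (fun _ => (1 : ℂ)) ≠ 0 →
        classInner η (ξ : G → ℂ) = classInner ψ ((ξ : G → ℂ) * χ) := by
    intro ξ h0
    rw [hηavg, classInner_avg, classInner_apply]
    have : ∀ x : G, ∑ n : N, (ξ : G → ℂ) ((n : G) * x) = (Nat.card N : ℂ) * (ξ : G → ℂ) x := by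
      intro x
      rw [Finset.sum_congr rfl (fun n _ => normal_mul_of_inner_one_ne_zero N ξ.2 h0 n x)]
      rw [Finset.sum_const, Finset.card_univ, nsmul_eq_mul, ← Nat.card_eq_fintype_card]
    simp only [this]
    congr 1
    rw [Finset.mul_sum]
    apply Finset.sum_congr rfl
    intro x _
    simp only [F, Pi.mul_apply, map_mul, Complex.conj_natCast]
    field_simp
  -- Gallagher
  have hgal := gallagher_bijOn N hχ hχN
  have hmemS : ∀ ξ : IrrCharacter G,
      (ξ : G → ℂ) ∈ {β : G → ℂ | IsIrrCharacter G β ∧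
        classInner (indFun N (fun _ => (1 : ℂ))) β ≠ 0}
      ↔ classInner (fun n : N => (ξ : G → ℂ) n) (fun _ => (1 : ℂ)) ≠ 0 := by
    intro ξ
    simp only [Set.mem_ofPred_eq]
    rw [frobenius_reciprocity N _ _ (Helper74.irr_isClassFunction ξ), ← classInner_conj_symm]
    constructor
    · rintro ⟨_, h⟩ h0; apply h; rw [h0]; simp
    · intro h; exact ⟨ξ.2, fun h0 => h (by simpa using h0)⟩
  have hmemS' : ψ ∈ {ψ : G → ℂ | IsIrrCharacter G ψ ∧
        classInner (indFun N (fun n : N => χ n)) ψ ≠ 0}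
      ↔ classInner (fun n : N => ψ n) (fun n : N => χ n) ≠ 0 := by
    simp only [Set.mem_ofPred_eq]
    rw [frobenius_reciprocity N _ _ hψcf, ← classInner_conj_symm]
    constructor
    · rintro ⟨_, h⟩ h0; apply h; rw [h0]; simp
    · intro h; exact ⟨hψ, fun h0 => h (by simpa using h0)⟩
  -- main lemma: if `ψ = β χ` with `β` over `1_N`, then `η = β`
  have main : ∀ β : IrrCharacter G,
      classInner (fun n : N => (β : G → ℂ) n) (fun _ => (1 : ℂ)) ≠ 0 →
        (β : G → ℂ) * χ = ψ → η = (β : G → ℂ) := by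
    intro β hβ hβψ
    rw [hηdec, Finset.sum_eq_single β]
    · rw [hB2 β hβ, hβψ, Helper74.irr_inner_self ⟨ψ, hψ⟩, one_smul]
    · intro ξ _ hne
      by_cases hξ : classInner (fun n : N => (ξ : G → ℂ) n) (fun _ => (1 : ℂ)) = 0
      · rw [hB1 ξ hξ, zero_smul]
      · rw [hB2 ξ hξ]
        have hξirr : IsIrrCharacter G ((ξ : G → ℂ) * χ) := (hgal.mapsTo ((hmemS ξ).mpr hξ)).1
        have hneq : ψ ≠ (ξ : G → ℂ) * χ := by
          intro heq
          apply hne
          apply Subtype.ext
          exact hgal.injOn ((hmemS ξ).mpr hξ) ((hmemS β).mpr hβ) (by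
            show (ξ : G → ℂ) * χ = (β : G → ℂ) * χ
            rw [hβψ, heq])
        rw [Helper74.irr_inner_ne (χ := ⟨ψ, hψ⟩) (ψ := ⟨_, hξirr⟩)
          (fun h => hneq (congrArg Subtype.val h)), zero_smul]
    · intro hn; exact absurd (Finset.mem_univ _) hn
  refine ⟨?_, ?_, ?_⟩
  · intro hne
    obtain ⟨β, hβS, hβψ⟩ := hgal.surjOn (hmemS'.mpr hne)
    have hβ' := (hmemS ⟨β, hβS.1⟩).mp hβS
    rw [main ⟨β, hβS.1⟩ hβ' hβψ]
    exact hβS.1
  · intro h0
    rw [hηdec]
    apply Finset.sum_eq_zero
    intro ξ _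
    by_cases hξ : classInner (fun n : N => (ξ : G → ℂ) n) (fun _ => (1 : ℂ)) = 0
    · rw [hB1 ξ hξ, zero_smul]
    · rw [hB2 ξ hξ]
      have hξS' := hgal.mapsTo ((hmemS ξ).mpr hξ)
      have hneq : ψ ≠ (ξ : G → ℂ) * χ := by
        intro heq
        have : ψ ∈ {ψ : G → ℂ | IsIrrCharacter G ψ ∧
            classInner (indFun N (fun n : N => χ n)) ψ ≠ 0} := by rw [heq]; exact hξS'
        exact (hmemS'.mp this) h0
      rw [Helper74.irr_inner_ne (χ := ⟨ψ, hψ⟩) (ψ := ⟨_, hξS'.1⟩)
        (fun h => hneq (congrArg Subtype.val h)), zero_smul]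
  · intro hψχ
    have h1 : classInner (fun n : N => (fun _ : G => (1 : ℂ)) n) (fun _ : N => (1 : ℂ)) ≠ 0 := by
      have := Helper74.irr_inner_self ⟨_, isIrrCharacter_one N⟩
      simp only at this
      rw [this]; exact one_ne_zero
    have := main ⟨fun _ => 1, isIrrCharacter_one G⟩ h1 (by
      rw [hψχ]; funext x; simp)
    rw [this]

end Cfsg.Agent.S0868
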