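import Cfsg.Statements.S0873
import Cfsg.Agent.Helper15.LinChar

set_option autoImplicit false
open Cfsg

namespace Cfsg.Agent.S0873

open Cfsg.Agent.Helper15

/-- Let C be a normal subgroup of the finite group G of order prime to p and P a p-subgroup with C ⊔ P = G. Let λ be a character of C of degree 1 invariant under conjugation by G and equal to 1 at every element of C centralized by P. Then λ is identically 1. -/
theorem result {G : Type*} [Group G] [Finite G] (p : ℕ) [Fact p.Prime] (C P : Subgroup G) [hC : C.Normal] (hP : IsPGroup p P) (hcop : Nat.Coprime (Nat.card C) p) (hCP : C ⊔ P = ⊤) (lam : C → ℂ) (hlam : Cfsg.IsCharacter C lam ∧ lam 1 = 1) (hinv : ∀ (g : G) (c : C), lam ⟨g * c * g⁻¹, hC.conj_mem (c : G) c.2 g⟩ = lam c) (hker : ∀ c : C, (c : G) ∈ Subgroup.centralizer (P : Set G) → lam c = 1) : lam = fun _ => 1 := by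
  classical
  funext c
  -- the fibre of `lam` through `c`
  let X : Type _ := {k : C // lam k = lam c}
  -- `P` acts on it by conjugation
  let act : MulAction P X :=
    { smul := fun u k => ⟨⟨(u : G) * (k.1 : G) * (u : G)⁻¹, hC.conj_mem _ k.1.2 _⟩, by
        rw [hinv]; exact k.2⟩
      one_smul := fun k => by
        apply Subtype.ext; apply Subtype.ext
        show ((1 : P) : G) * (k.1 : G) * ((1 : P) : G)⁻¹ = (k.1 : G)
        simp
      mul_smul := fun u v k => by
        apply Subtype.ext; apply Subtype.ext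
        show ((u * v : P) : G) * (k.1 : G) * ((u * v : P) : G)⁻¹
          = (u : G) * ((v : G) * (k.1 : G) * (v : G)⁻¹) * (u : G)⁻¹
        simp [mul_assoc] }
  have hsmul : ∀ (u : P) (k : X), ((u • k).1 : G) = (u : G) * (k.1 : G) * (u : G)⁻¹ :=
    fun _ _ => rfl
  -- the fibre has as many elements as the kernel
  let φ : C →* ℂˣ := linCharUnits hlam.1 hlam.2
  have hφ : ∀ k : C, ((φ k : ℂˣ) : ℂ) = lam k := fun k => rfl
  have hXcard : Nat.card X = Nat.card φ.ker := by
    apply Nat.card_congr
    refine
      { toFun := fun k => ⟨c⁻¹ * k.1, ?_⟩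
        invFun := fun k => ⟨c * k.1, ?_⟩
        left_inv := fun k => by apply Subtype.ext; simp
        right_inv := fun k => by apply Subtype.ext; simp }
    · rw [MonoidHom.mem_ker]
      apply Units.ext
      rw [hφ, linChar_mul hlam.1 hlam.2, linChar_inv hlam.1 hlam.2, k.2]
      simp [inv_mul_cancel₀ (linChar_ne_zero hlam.1 hlam.2 c)]
    · have hk : φ k.1 = 1 := k.2
      have hk' : lam k.1 = 1 := by rw [← hφ, hk]; rfl
      rw [linChar_mul hlam.1 hlam.2, hk', mul_one]
  have hnd : ¬ p ∣ Nat.card X := by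
    rw [hXcard]
    intro hdvd
    have h2 : p ∣ Nat.card C := hdvd.trans (Subgroup.card_subgroup_dvd_card φ.ker)
    have := Nat.Coprime.eq_one_of_dvd hcop.symm h2
    exact (Fact.out : p.Prime).one_lt.ne' this
  obtain ⟨k, hk⟩ := hP.nonempty_fixed_point_of_prime_not_dvd_card X hnd
  have hkc : ((k.1 : C) : G) ∈ Subgroup.centralizer (P : Set G) := by
    rw [Subgroup.mem_centralizer_iff]
    intro u hu
    have h1 := congrArg (fun t : X => ((t.1 : C) : G)) (hk ⟨u, hu⟩)
    simp only [hsmul] at h1
    calc u * (k.1 : G) = (u * (k.1 : G) * u⁻¹) * u := by group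
      _ = (k.1 : G) * u := by rw [h1]
  rw [← k.2]
  exact hker k.1 hkc

end Cfsg.Agent.S0873
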