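import Cfsg.Statements.S0875
import Cfsg.Agent.Helper3.AlgIntBrauer

set_option autoImplicit false
open Cfsg

namespace Cfsg.Agent.S0875

/-- Let G be a finite group of order m * n with m and n coprime, and g an element whose order is coprime to m. Every x in G factors uniquely as x = u * v with u, v commuting, the order of u coprime to n and the order of v coprime to m; let ϑ be the function on G equal to n at those x whose factor v is conjugate to g and equal to 0 elsewhere. Then ϑ is a linear combination of the irreducible characters of G with algebraic-integer coefficients. -/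
theorem result {G : Type*} [Group G] [Fintype G] (m n : ℕ) (hmn : Nat.card G = m * n) (hcop : Nat.Coprime m n) (g : G) (hg : Nat.Coprime (orderOf g) m) (ϑ : G → ℂ) (hϑ1 : ∀ x : G, (∃ v : G, IsConj v g ∧ (∃ u : G, x = u * v ∧ Commute u v ∧ Nat.Coprime (orderOf u) n ∧ Nat.Coprime (orderOf v) m)) → ϑ x = n) (hϑ0 : ∀ x : G, (¬ ∃ v : G, IsConj v g ∧ (∃ u : G, x = u * v ∧ Commute u v ∧ Nat.Coprime (orderOf u) n ∧ Nat.Coprime (orderOf v) m)) → ϑ x = 0) : ∃ c : Cfsg.IrrCharacter G → ℂ, (∀ χ, c χ ∈ Cfsg.AlgInt) ∧ ϑ = ∑ᶠ χ : Cfsg.IrrCharacter G, c χ • (χ : G → ℂ) := by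
  classical
  have hm0 : m ≠ 0 := by
    rintro rfl
    rw [zero_mul] at hmn
    exact Nat.card_pos.ne' hmn
  have hn0 : n ≠ 0 := by
    rintro rfl
    rw [mul_zero] at hmn
    exact Nat.card_pos.ne' hmn
  obtain ⟨k, hk0, hk1⟩ := Nat.chineseRemainder hcop 0 1
  obtain ⟨k2, hk21, hk20⟩ := Nat.chineseRemainder hcop 1 0
  have hkm : m ∣ k := (Nat.modEq_zero_iff_dvd).mp hk0
  have hk2n : n ∣ k2 := (Nat.modEq_zero_iff_dvd).mp hk20
  have hord : ∀ x : G, orderOf x ∣ m * n := fun x => hmn ▸ orderOf_dvd_natCard x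
  -- characterization of the condition
  have hiff : ∀ x : G, (∃ v : G, IsConj v g ∧ (∃ u : G, x = u * v ∧ Commute u v ∧
      Nat.Coprime (orderOf u) n ∧ Nat.Coprime (orderOf v) m)) ↔ IsConj (x ^ k) g := by
    intro x
    constructor
    · rintro ⟨v, hvg, u, rfl, huv, hu, hv⟩
      have hum : orderOf u ∣ m := hu.dvd_of_dvd_mul_right (hord u)
      have hvn : orderOf v ∣ n := hv.dvd_of_dvd_mul_left (hord v)
      have h1 : u ^ k = 1 := orderOf_dvd_iff_pow_eq_one.mp (hum.trans hkm)
      have h2 : v ^ k = v := by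
        have := pow_eq_pow_iff_modEq.mpr (hk1.of_dvd hvn)
        rwa [pow_one] at this
      rw [huv.mul_pow, h1, h2, one_mul]
      exact hvg
    · intro hx
      refine ⟨x ^ k, hx, x ^ k2, ?_, (Commute.refl x).pow_pow _ _, ?_, ?_⟩
      · rw [← pow_add]
        have h1 : k2 + k ≡ 1 [MOD m * n] := by
          rw [← Nat.modEq_and_modEq_iff_modEq_mul hcop]
          exact ⟨by simpa using hk21.add hk0, by simpa using hk20.add hk1⟩
        have := pow_eq_pow_iff_modEq.mpr (h1.of_dvd (hord x))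
        rw [pow_one] at this
        exact this.symm
      · have h1 : (x ^ k2) ^ m = 1 := by
          rw [← pow_mul]
          obtain ⟨t, rfl⟩ := hk2n
          apply orderOf_dvd_iff_pow_eq_one.mp
          refine (hord x).trans ⟨t, by ring⟩
        exact Nat.Coprime.coprime_dvd_left (orderOf_dvd_of_pow_eq_one h1) hcop
      · have h1 : (x ^ k) ^ n = 1 := by
          rw [← pow_mul]
          obtain ⟨t, rfl⟩ := hkm
          apply orderOf_dvd_iff_pow_eq_one.mp
          refine (hord x).trans ⟨t, by ring⟩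
        exact Nat.Coprime.coprime_dvd_left (orderOf_dvd_of_pow_eq_one h1) hcop.symm
  have h1 : ∀ x : G, IsConj (x ^ k) g → ϑ x = n := fun x hx => hϑ1 x ((hiff x).mpr hx)
  have h0 : ∀ x : G, ¬ IsConj (x ^ k) g → ϑ x = 0 := fun x hx =>
    hϑ0 x (fun h => hx ((hiff x).mp h))
  have hcl : Cfsg.IsClassFunction G ϑ := by
    intro x h
    have hc : IsConj ((h * x * h⁻¹) ^ k) g ↔ IsConj (x ^ k) g := by
      rw [conj_pow]
      constructor
      · intro hh
        exact (isConj_iff.mpr ⟨h, rfl⟩ : IsConj (x ^ k) (h * x ^ k * h⁻¹)).trans hh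
      · intro hh
        exact (isConj_iff.mpr ⟨h, rfl⟩ : IsConj (x ^ k) (h * x ^ k * h⁻¹)).symm.trans hh
    by_cases hx : IsConj (x ^ k) g
    · rw [h1 x hx, h1 _ (hc.mpr hx)]
    · rw [h0 x hx, h0 _ (fun hh => hx (hc.mp hh))]
  refine ⟨fun χ => Cfsg.classInner ϑ (χ : G → ℂ), fun χ => ?_,
    Cfsg.Agent.Helper3.class_function_expansion_finsum ϑ hcl⟩
  rw [mem_integralClosure_iff]
  exact Cfsg.Agent.Helper3.isIntegral_inner_section hmn hcop hkm hk1 (fun y => IsConj y g) ϑ hcl
    h1 h0 (Cfsg.Agent.Helper3.isCharacter_of_isIrrCharacter χ.2)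

end Cfsg.Agent.S0875
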