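import Cfsg.Statements.S0876
import Cfsg.Agent.Helper76.PRegularConj
import Cfsg.Agent.Helper16.Idempotent
import Cfsg.Agent.Helper80.CharLevel

set_option autoImplicit false
open Cfsg
open scoped ComplexConjugate

namespace Cfsg.Agent.S0876

open Cfsg.Agent.Helper16

/-- A character value at `x` is congruent, modulo the local ideal at `M`, to its value at the
`p`-regular part of `x`. -/
theorem char_sub_pRegular_memLocalIdeal {G : Type*} [Group G] [Finite G] {p : ℕ}
    {M : Ideal AlgInt} (hM : IsPModular p M) (χ : G → ℂ) (hχ : IsCharacter G χ) (x a : G)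
    (ha : IsPPart p x a) : MemLocalIdeal M (χ x - χ (a⁻¹ * x)) := by
  have hp : Fact p.Prime := ⟨hM.1⟩
  have hMp : M.IsPrime := IsPModular.isPrime hM
  obtain ⟨g, hag, hcomm, ⟨k, hk⟩, hg⟩ := ha
  have hgx : a⁻¹ * x = g := by rw [← hag]; group
  have hxg : x * g⁻¹ = a := by rw [← hag]; group
  rw [hgx]
  set n := (Nat.card G).factorization p with hn
  have hxq : x ^ (p ^ n) = g ^ (p ^ n) :=
    Helper76.pow_eq_pow_pRegular_part p x g ⟨⟨k, by rw [hxg]; exact hk⟩, by rw [hxg]; exact hcomm⟩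
  obtain ⟨γ₁, h1⟩ := Helper76.character_pow_prime_pow_sub p n χ hχ x
  obtain ⟨γ₂, h2⟩ := Helper76.character_pow_prime_pow_sub p n χ hχ g
  let u : AlgInt := ⟨χ x, Helper80.IsCharacter.isIntegral hχ x⟩
  let v : AlgInt := ⟨χ g, Helper80.IsCharacter.isIntegral hχ g⟩
  have huv : u ^ (p ^ n) - v ^ (p ^ n) = (p : AlgInt) * (γ₁ - γ₂) := by
    apply Subtype.ext
    push_cast
    show χ x ^ (p ^ n) - χ g ^ (p ^ n) = (p : ℂ) * ((γ₁ : ℂ) - (γ₂ : ℂ))
    have h3 : χ (x ^ (p ^ n)) = χ (g ^ (p ^ n)) := by rw [hxq]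
    linear_combination h1 - h2 + h3
  have hmem : (u - v) ^ (p ^ n) ∈ M := by
    rw [← Ideal.Quotient.eq_zero_iff_mem]
    have hnt : Nontrivial (AlgInt ⧸ M) := Ideal.Quotient.nontrivial_iff.mpr hMp.ne_top
    have hp0 : ((p : ℕ) : AlgInt ⧸ M) = 0 := by
      have : (Ideal.Quotient.mk M) (p : AlgInt) = 0 := by
        rw [Ideal.Quotient.eq_zero_iff_mem]
        exact hM.2.2
      simpa using this
    have hchar : CharP (AlgInt ⧸ M) p := (CharP.charP_iff_prime_eq_zero hp.out).mpr hp0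
    rw [map_pow, map_sub, sub_pow_char_pow, ← map_pow, ← map_pow, ← map_sub, huv,
      Ideal.Quotient.eq_zero_iff_mem]
    exact M.mul_mem_right _ hM.2.2
  have h4 : u - v ∈ M := hMp.mem_of_pow_mem _ hmem
  have h5 := (memLocalIdeal_algInt_iff (M := M) (u - v)).mpr h4
  simpa [u, v] using h5

/-- For non-conjugate `p`-regular elements `g`, `h` there is an algebraic-integer combination of
the differences `χ g - χ h` which is a natural number prime to `p` (argument of helper76's
`isConj_of_irr_congr_mod_p`). -/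
theorem exists_nat_combination {G : Type*} [Group G] [Finite G] (p : ℕ) [hp : Fact p.Prime]
    [Fintype (IrrCharacter G)]
    (g h : G) (hg : ¬ p ∣ orderOf g) (hh : ¬ p ∣ orderOf h) (hne : ¬ IsConj g h) :
    ∃ (m : ℕ) (A : IrrCharacter G → ℂ), ¬ p ∣ m ∧ (∀ χ, IsIntegral ℤ (A χ)) ∧
      ∑ χ : IrrCharacter G, A χ * ((χ : G → ℂ) g - (χ : G → ℂ) h) = (m : ℂ) := by
  classical
  have : Fintype G := Fintype.ofFinite G
  set C := Subgroup.centralizer ({g} : Set G) with hC
  obtain ⟨P₀⟩ : Nonempty (Sylow p C) := inferInstance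
  set P : Subgroup G := (P₀ : Subgroup C).map C.subtype with hP
  have : Fintype P := Fintype.ofFinite _
  have hPcomm : ∀ u ∈ P, g * u = u * g := by
    rintro _ ⟨c, -, rfl⟩
    exact Subgroup.mem_centralizer_iff.mp c.2 g rfl
  have hPp : ∀ u ∈ P, ∃ k : ℕ, orderOf u = p ^ k := by
    rintro _ ⟨c, hc, rfl⟩
    obtain ⟨k, hk⟩ := (IsPGroup.iff_orderOf.mp P₀.2) ⟨c, hc⟩
    refine ⟨k, ?_⟩
    rw [← hk]
    simp
  have hcardP : Nat.card P = Nat.card (P₀ : Subgroup C) :=
    Subgroup.card_map_of_injective C.subtype_injective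
  have hidx : Nat.card (P₀ : Subgroup C) * (P₀ : Subgroup C).index = Nat.card C :=
    Subgroup.card_mul_index _
  have hnd : ¬ p ∣ (P₀ : Subgroup C).index := P₀.not_dvd_index
  set m := (P₀ : Subgroup C).index with hm
  set c : ℂ := (Fintype.card P : ℂ) with hc
  have hc0 : c ≠ 0 := by
    rw [hc]; exact_mod_cast Fintype.card_ne_zero
  have hcC : (Nat.card C : ℂ) = c * (m : ℂ) := by
    rw [hc, ← Nat.card_eq_fintype_card, hcardP, ← hidx]; push_cast; ring
  let A : Cfsg.IrrCharacter G → ℂ := fun χ =>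
    conj (c⁻¹ * ∑ u : P, (χ : G → ℂ) (g * (u : G)))
  have hA : ∀ χ, IsIntegral ℤ (A χ) := by
    intro χ
    obtain ⟨n, ρ, -, hρ⟩ := χ.2
    apply map_isIntegral_int (starRingEnd ℂ)
    have := Helper76.isIntegral_average_character ρ g (isOfFinOrder_of_finite g) P hPcomm
    rw [hρ] at this
    exact this
  have hsum : ∀ z : G, ∑ χ : Cfsg.IrrCharacter G, A χ * (χ : G → ℂ) z
      = c⁻¹ * ∑ u : P, (if IsConj z (g * (u : G)) then
          (Nat.card (Subgroup.centralizer ({z} : Set G)) : ℂ) else 0) := by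
    intro z
    have h1 : ∀ χ : Cfsg.IrrCharacter G, A χ * (χ : G → ℂ) z =
        conj c⁻¹ * ∑ u : P, (χ : G → ℂ) z * conj ((χ : G → ℂ) (g * (u : G))) := by
      intro χ
      simp only [A, map_mul, map_sum]
      rw [mul_assoc, Finset.sum_mul]
      congr 1
      refine Finset.sum_congr rfl fun u _ => mul_comm _ _
    simp_rw [h1]
    rw [← Finset.mul_sum, Finset.sum_comm]
    have h2 : conj c⁻¹ = c⁻¹ := by rw [hc]; simp
    rw [h2]
    congr 1
    refine Finset.sum_congr rfl fun u _ => ?_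
    exact Cfsg.Agent.Helper3.column_orthogonality z (g * (u : G))
  have hg_eval : ∑ u : P, (if IsConj g (g * (u : G)) then
      (Nat.card (Subgroup.centralizer ({g} : Set G)) : ℂ) else 0) = (Nat.card C : ℂ) := by
    rw [Finset.sum_eq_single (1 : P)]
    · have h1 : g * ((1 : P) : G) = g := by simp
      rw [h1, if_pos (IsConj.refl g)]
    · intro u _ hu1
      rw [if_neg]
      intro hcj
      apply hu1
      have : (u : G) = 1 :=
        Helper76.eq_one_of_isConj_mul_of_pRegular p g u g (hPcomm u u.2) hg hg (hPp u u.2) hcj.symm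
      exact Subtype.ext this
    · intro h; exact absurd (Finset.mem_univ _) h
  have hh_eval : ∑ u : P, (if IsConj h (g * (u : G)) then
      (Nat.card (Subgroup.centralizer ({h} : Set G)) : ℂ) else 0) = 0 := by
    apply Finset.sum_eq_zero
    intro u _
    rw [if_neg]
    intro hcj
    have hu1 : (u : G) = 1 :=
      Helper76.eq_one_of_isConj_mul_of_pRegular p g u h (hPcomm u u.2) hg hh (hPp u u.2) hcj.symm
    apply hne
    rw [hu1, mul_one] at hcj
    exact hcj.symm
  refine ⟨m, A, hnd, hA, ?_⟩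
  have e1 := hsum g
  have e2 := hsum h
  rw [hg_eval, hcC] at e1
  rw [hh_eval, mul_zero] at e2
  simp_rw [mul_sub]
  rw [Finset.sum_sub_distrib, e1, e2, sub_zero, ← mul_assoc, inv_mul_cancel₀ hc0, one_mul]

/-- Let G be a finite group, p a prime and M a maximal ideal of the ring of algebraic integers containing p. Let x, y be elements with p-parts a and b (so a⁻¹ * x and b⁻¹ * y are their p-regular parts). Then a⁻¹ * x and b⁻¹ * y are conjugate in G if and only if, for every irreducible character χ, the difference χ x - χ y lies in the local ideal at M. -/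
theorem result {G : Type*} [Group G] [Finite G] (p : ℕ) (M : Ideal Cfsg.AlgInt) (hM : Cfsg.IsPModular p M) (x y a b : G) (ha : Cfsg.IsPPart p x a) (hb : Cfsg.IsPPart p y b) : IsConj (a⁻¹ * x) (b⁻¹ * y) ↔ ∀ χ : Cfsg.IrrCharacter G, Cfsg.MemLocalIdeal M ((χ : G → ℂ) x - (χ : G → ℂ) y) := by
  classical
  have hp : Fact p.Prime := ⟨hM.1⟩
  have hMp : M.IsPrime := IsPModular.isPrime hM
  have : Fintype G := Fintype.ofFinite G
  have : Fintype (IrrCharacter G) := Fintype.ofFinite _
  have hchar : ∀ χ : Cfsg.IrrCharacter G, Cfsg.IsCharacter G (χ : G → ℂ) := by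
    intro χ
    obtain ⟨n, ρ, -, hρ⟩ := χ.2
    exact ⟨n, ρ, hρ⟩
  have hx := fun χ : IrrCharacter G => char_sub_pRegular_memLocalIdeal hM χ (hchar χ) x a ha
  have hy := fun χ : IrrCharacter G => char_sub_pRegular_memLocalIdeal hM χ (hchar χ) y b hb
  constructor
  · intro hconj χ
    have hχ : (χ : G → ℂ) (a⁻¹ * x) = (χ : G → ℂ) (b⁻¹ * y) :=
      Cfsg.Agent.Helper3.isClassFunction_isConj (Cfsg.Agent.Helper3.isClassFunction_irr χ) hconj
    have h1 := memLocalIdeal_sub (hx χ) (hy χ)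
    have e : (χ : G → ℂ) x - (χ : G → ℂ) (a⁻¹ * x) - ((χ : G → ℂ) y - (χ : G → ℂ) (b⁻¹ * y))
        = (χ : G → ℂ) x - (χ : G → ℂ) y := by rw [hχ]; ring
    rw [e] at h1
    exact h1
  · intro hall
    by_contra hne
    obtain ⟨g, hag, -, -, hg⟩ := ha
    obtain ⟨h, hbh, -, -, hh⟩ := hb
    have hgx : a⁻¹ * x = g := by rw [← hag]; group
    have hhy : b⁻¹ * y = h := by rw [← hbh]; group
    rw [hgx, hhy] at hne
    obtain ⟨m, A, hnd, hA, hsum⟩ := exists_nat_combination p g h hg hh hne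
    have hmem : MemLocalIdeal M (m : ℂ) := by
      rw [← hsum]
      apply memLocalIdeal_sum
      intro χ _
      apply memLocalIdeal_mul_left (memLocalRing_of_isIntegral (hA χ))
      have h1 := memLocalIdeal_sub (memLocalIdeal_sub (hall χ) (hx χ)) (memLocalIdeal_neg (hy χ))
      have e : (χ : G → ℂ) x - (χ : G → ℂ) y - ((χ : G → ℂ) x - (χ : G → ℂ) (a⁻¹ * x))
          - -((χ : G → ℂ) y - (χ : G → ℂ) (b⁻¹ * y)) = (χ : G → ℂ) g - (χ : G → ℂ) h := by
        rw [hgx, hhy]; ring
      rw [e] at h1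
      exact h1
    exact not_memLocalIdeal_natCast hM hnd hmem

end Cfsg.Agent.S0876
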