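import Cfsg.Statements.S0877
import Cfsg.Agent.Helper3.BrauerSuzuki

set_option autoImplicit false
open Cfsg

namespace Cfsg.Agent.S0877

/-- Let H be a subgroup of the finite group G whose order is coprime to its index. Suppose that elements of H conjugate in G are conjugate in H, and that every subgroup E of G that is elementary for some prime (in the sense used for Brauer's characterisation of characters) and whose order divides the order of H is conjugate to a subgroup of H. Then there is a normal subgroup K with K ⊔ H = ⊤ and K ⊓ H trivial. -/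
theorem result {G : Type*} [Group G] [Finite G] (H : Subgroup G) (hHall : Nat.Coprime (Nat.card H) H.index) (hfus : ∀ x ∈ H, ∀ y ∈ H, IsConj x y → ∃ h ∈ H, h * x * h⁻¹ = y) (helem : ∀ (E : Subgroup G) (p : ℕ), p.Prime → Cfsg.IsElementary p E → Nat.card E ∣ Nat.card H → ∃ g : G, E.map (MulAut.conj g).toMonoidHom ≤ H) : ∃ K : Subgroup G, K.Normal ∧ K ⊔ H = ⊤ ∧ K ⊓ H = ⊥ := by
  classical
  haveI : Fintype G := Fintype.ofFinite G
  haveI : Fintype H := Fintype.ofFinite H
  have hjc : H.index.Coprime (Nat.card H) := hHall.symm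
  have hG : Nat.card G = H.index * Nat.card H := by
    rw [mul_comm]
    exact (Subgroup.card_mul_index H).symm
  obtain ⟨k, hk0, hk1⟩ := Nat.chineseRemainder hjc 0 1
  have hkj : H.index ∣ k := Nat.modEq_zero_iff_dvd.mp hk0
  have hpow : ∀ h ∈ H, h ^ k = h := by
    intro h hh
    have h1 : orderOf h ∣ Nat.card H := by
      have := orderOf_dvd_natCard (⟨h, hh⟩ : H)
      rwa [Subgroup.orderOf_mk] at this
    have := pow_eq_pow_iff_modEq.mpr (hk1.of_dvd h1)
    rwa [pow_one] at this
  have hconj : ∀ x : G, ∃ g : G, g * x ^ k * g⁻¹ ∈ H := by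
    intro x
    have hyc : (x ^ k) ^ Nat.card H = 1 := by
      rw [← pow_mul]
      obtain ⟨t, rfl⟩ := hkj
      apply orderOf_dvd_iff_pow_eq_one.mp
      refine (hG ▸ orderOf_dvd_natCard x).trans ⟨t, by ring⟩
    obtain ⟨p, hpge, hp⟩ := Nat.exists_infinite_primes (orderOf (x ^ k) + 1)
    have hel : Cfsg.IsElementary p (Subgroup.zpowers (x ^ k)) := by
      refine ⟨⟨x ^ k, Subgroup.mem_zpowers _⟩, ?_, ?_, 0, ?_⟩
      · rw [Subgroup.mem_center_iff]
        intro z
        obtain ⟨i, hi⟩ := Subgroup.mem_zpowers_iff.mp z.2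
        apply Subtype.ext
        simp only [Subgroup.coe_mul]
        rw [← hi]
        exact ((Commute.refl (x ^ k)).zpow_left i)
      · rw [Subgroup.orderOf_mk]
        exact Nat.Coprime.symm ((Nat.Prime.coprime_iff_not_dvd hp).mpr
          (Nat.not_dvd_of_pos_of_lt (orderOf_pos _) (by omega)))
      · have : Subgroup.zpowers (⟨x ^ k, Subgroup.mem_zpowers _⟩ : Subgroup.zpowers (x ^ k)) = ⊤ := by
          rw [eq_top_iff]
          rintro ⟨z, hz⟩ -
          obtain ⟨i, hi⟩ := Subgroup.mem_zpowers_iff.mp hz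
          refine Subgroup.mem_zpowers_iff.mpr ⟨i, ?_⟩
          apply Subtype.ext
          simpa using hi
        rw [this, Subgroup.index_top, pow_zero]
    have hcard : Nat.card (Subgroup.zpowers (x ^ k)) ∣ Nat.card H := by
      rw [Nat.card_zpowers]
      exact orderOf_dvd_of_pow_eq_one hyc
    obtain ⟨g, hg⟩ := helem _ p hp hel hcard
    exact ⟨g, hg ⟨x ^ k, Subgroup.mem_zpowers _, by simp [MulAut.conj_apply]⟩⟩
  exact Cfsg.Agent.Helper3.BS.exists_normal_complement hconj hfus hpow hjc hG rfl hkj hk1 helem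

end Cfsg.Agent.S0877
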