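import Cfsg.Statements.S0879
import Cfsg.Agent.Helper60.Zassenhaus

set_option autoImplicit false
open Cfsg

namespace Cfsg.Agent.S0879

open MulAction Cfsg.Agent.Helper60.Zassenhaus

/-- Let G be a Zassenhaus group on the finite set Ω and E the stabilizer of two distinct points a, b. Then an element outside the normalizer of E conjugates no non-identity element of E into E, and E has index 2 in its normalizer. -/
theorem result {G Ω : Type*} [Group G] [Finite G] [MulAction G Ω] [Fintype Ω] (hZ : Cfsg.IsZassenhausGroup G Ω) {a b : Ω} (hab : a ≠ b) : (∀ g : G, g ∉ Subgroup.normalizer ((MulAction.stabilizer G a ⊓ MulAction.stabilizer G b : Subgroup G) : Set G) → ∀ x ∈ (MulAction.stabilizer G a ⊓ MulAction.stabilizer G b : Subgroup G), g * x * g⁻¹ ∈ (MulAction.stabilizer G a ⊓ MulAction.stabilizer G b : Subgroup G) → x = 1) ∧ ((MulAction.stabilizer G a ⊓ MulAction.stabilizer G b : Subgroup G).subgroupOf (Subgroup.normalizer ((MulAction.stabilizer G a ⊓ MulAction.stabilizer G b : Subgroup G) : Set G))).index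 = 2 := by
  have h2 := hZ.2.1
  have h3 := hZ.2.2.1
  constructor
  · intro g hg x hx hgx
    by_contra hx1
    apply hg
    apply mem_normalizer_of_pair
    simp only [Subgroup.mem_inf, mem_stabilizer_iff] at hx hgx
    have hne : g * x * g⁻¹ ≠ 1 := by
      intro hcon
      apply hx1
      have : x = g⁻¹ * (g * x * g⁻¹) * g := by group
      rw [this, hcon]; group
    have hga : (g * x * g⁻¹) • (g • a) = g • a := by
      rw [mul_smul, mul_smul, inv_smul_smul, hx.1]
    have hgb : (g * x * g⁻¹) • (g • b) = g • b := by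
      rw [mul_smul, mul_smul, inv_smul_smul, hx.2]
    have hgab : g • a ≠ g • b := fun h => hab (MulAction.injective g h)
    exact pair_eq_of_fix h3 hne hab hgab hgx.1 hgx.2 hga hgb
  · rw [Subgroup.index_eq_two_iff]
    obtain ⟨s, sa, sb⟩ := exists_map2 h2 hab hab.symm
    have hsN : s ∈ Subgroup.normalizer ((stabilizer G a ⊓ stabilizer G b : Subgroup G) : Set G) :=
      mem_normalizer_of_pair (Or.inr ⟨sa, sb⟩)
    refine ⟨⟨s, hsN⟩, ?_⟩
    rintro ⟨g, hgN⟩
    simp only [Subgroup.mem_subgroupOf, Subgroup.coe_mul, Subgroup.mem_inf, mem_stabilizer_iff,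
      mul_smul, sa, sb]
    rcases pair_of_mem_normalizer hZ hab hgN with ⟨ga, gb⟩ | ⟨ga, gb⟩
    · right
      refine ⟨⟨ga, gb⟩, ?_⟩
      rintro ⟨h1, -⟩
      rw [gb] at h1
      exact hab h1.symm
    · left
      refine ⟨⟨gb, ga⟩, ?_⟩
      rintro ⟨h1, -⟩
      rw [ga] at h1
      exact hab h1.symm

end Cfsg.Agent.S0879
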