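import Cfsg.Statements.S0880
import Cfsg.Agent.Helper15.ZassCount

set_option autoImplicit false
open Cfsg

namespace Cfsg.Agent.S0880

open MulAction
open Cfsg.Agent.Helper15.Zass
open Cfsg.Agent.Helper60.Zassenhaus

/-- The two-point stabilizer of a Zassenhaus group of odd order has order at least `3`. -/
theorem three_le_card_stab2 {G Ω : Type*} [Group G] [Finite G] [MulAction G Ω]
    (hZ : Cfsg.IsZassenhausGroup G Ω) {a b : Ω} (hab : a ≠ b)
    (hodd : Odd (Nat.card ↥(stabilizer G a ⊓ stabilizer G b : Subgroup G))) :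
    3 ≤ Nat.card ↥(stabilizer G a ⊓ stabilizer G b : Subgroup G) := by
  obtain ⟨y, hy1, hya, hyb⟩ := exists_ne_one_fix hZ hab
  have hnt : Nontrivial ↥(stabilizer G a ⊓ stabilizer G b : Subgroup G) :=
    ⟨⟨⟨y, ⟨hya, hyb⟩⟩, 1, fun h => hy1 (congrArg Subtype.val h)⟩⟩
  have h1 : 1 < Nat.card ↥(stabilizer G a ⊓ stabilizer G b : Subgroup G) :=
    Finite.one_lt_card
  obtain ⟨k, hk⟩ := hodd
  omega

/-- Let G be a finite simple Zassenhaus group on Ω with n points whose two-point stabilizer E has odd order less than n - 2. Then there are two elements of G, each fixing no point of Ω, that are not conjugate. -/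
theorem result {G Ω : Type*} [Group G] [Finite G] [MulAction G Ω] [Fintype Ω] (hZ : Cfsg.IsZassenhausGroup G Ω) {a b : Ω} (hab : a ≠ b) [IsSimpleGroup G] (hodd : Odd (Nat.card ↥(MulAction.stabilizer G a ⊓ MulAction.stabilizer G b : Subgroup G))) (hlt : Nat.card ↥(MulAction.stabilizer G a ⊓ MulAction.stabilizer G b : Subgroup G) < Fintype.card Ω - 2) : ∃ x y : G, (∀ c : Ω, x • c ≠ c) ∧ (∀ c : Ω, y • c ≠ c) ∧ ¬ IsConj x y := by
  classical
  have := Fintype.ofFinite G
  have hn := three_le_card hZ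
  have he := three_le_card_stab2 hZ hab hodd
  have hcount := two_mul_card_fpf hZ hab
  have hG := card_group_eq hZ.2.1 hab
  obtain ⟨m, hm⟩ : ∃ m, Fintype.card Ω = m + 3 := ⟨Fintype.card Ω - 3, by omega⟩
  set e := Nat.card ↥(stabilizer G a ⊓ stabilizer G b : Subgroup G) with he_def
  set F0 := Nat.card {g : G // ∀ c : Ω, g • c ≠ c} with hF0
  have e1 : (m + 3) * (m + 3) - (m + 3) = (m + 3) * (m + 2) := by
    rw [Nat.sub_eq_iff_eq_add (Nat.le_mul_self _)]; ring
  rw [hm, e1] at hcount hG
  rw [show m + 3 - 1 = m + 2 by omega, show m + 3 - 2 = m + 1 by omega] at hcount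
  -- `X > 3 Y`
  have hXY : 3 * ((m + 2) * (m + 1)) < (m + 3) * (m + 2) * e := by
    calc 3 * ((m + 2) * (m + 1)) < 3 * ((m + 3) * (m + 2)) := by nlinarith
      _ = (m + 3) * (m + 2) * 3 := by ring
      _ ≤ (m + 3) * (m + 2) * e := Nat.mul_le_mul_left _ he
  have hF0pos : 0 < F0 := by
    by_contra h0
    have : F0 = 0 := by omega
    rw [this] at hcount
    omega
  by_contra hcon
  push Not at hcon
  obtain ⟨⟨x₀, hx₀⟩⟩ : Nonempty {g : G // ∀ c : Ω, g • c ≠ c} := by
    rw [← Finite.card_pos_iff]; exact hF0pos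
  -- the fixed-point-free elements form the conjugacy class of `x₀`
  have horb : ∀ g : G, g ∈ orbit (ConjAct G) x₀ ↔ ∀ c : Ω, g • c ≠ c := by
    intro g
    rw [ConjAct.mem_orbit_conjAct]
    constructor
    · intro h
      rw [isConj_comm, isConj_iff] at h
      obtain ⟨k, hk⟩ := h
      intro c hc
      apply hx₀ (k⁻¹ • c)
      rw [← hk] at hc
      rw [mul_smul, mul_smul] at hc
      apply MulAction.injective k
      show k • x₀ • k⁻¹ • c = k • k⁻¹ • c
      rw [hc, smul_inv_smul]
    · intro h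
      exact hcon g x₀ h hx₀
  have hcard : F0 = (orbit (ConjAct G) x₀).ncard := by
    rw [hF0, ← Nat.card_coe_set_eq]
    apply Nat.card_congr
    exact (Equiv.subtypeEquivRight (fun g => (horb g))).symm
  have hos := Subgroup.card_mul_index (stabilizer (ConjAct G) x₀)
  rw [index_stabilizer, ← hcard] at hos
  have hGc : Nat.card (ConjAct G) = Nat.card G := rfl
  rw [hGc, hG] at hos
  generalize Nat.card ↥(stabilizer (ConjAct G) x₀) = cc at hos
  generalize (m + 3) * (m + 2) * e = X at hos hcount hXY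
  have hYpos : 0 < (m + 2) * (m + 1) := Nat.mul_pos (by omega) (by omega)
  generalize (m + 2) * (m + 1) = Y at hcount hXY hYpos
  rcases Nat.lt_or_ge cc 3 with h3 | h3
  · have : cc * F0 ≤ 2 * F0 := Nat.mul_le_mul_right _ (by omega)
    omega
  · have : 3 * F0 ≤ cc * F0 := Nat.mul_le_mul_right _ h3
    omega

end Cfsg.Agent.S0880
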