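import Cfsg.Statements.S0889
import Cfsg.Agent.Helper15.BergerD
import Cfsg.Agent.Helper25.IndTransSub

set_option autoImplicit false
open Cfsg

namespace Cfsg.Agent.S0889

open Cfsg.Agent.Helper15 Cfsg.Agent.Helper15.Berger

/-- Let G be a finite solvable group and χ an irreducible character of G such that for every normal subgroup N the restriction of χ to N is a natural-number multiple of one irreducible character of N. Then χ is not induced from a character of any proper subgroup. -/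
theorem result {G : Type*} [Group G] [Fintype G] [Group.IsSolvable G] (χ : G → ℂ) (hχ : Cfsg.IsIrrCharacter G χ) (hqp : ∀ (N : Subgroup G), N.Normal → ∃ (ϑ : N → ℂ) (e : ℕ), Cfsg.IsIrrCharacter N ϑ ∧ (fun n : N => χ n) = (e : ℂ) • ϑ) (K : Subgroup G) (hK : K ≠ ⊤) (ψ : K → ℂ) (hψ : Cfsg.IsCharacter K ψ) : Cfsg.indFun K ψ ≠ χ := by
  classical
  intro hind
  -- choose an inducing pair `(T, N)` with `N ⊴ G`, `N ≤ T < G` and `|N|` maximal
  let P : ℕ → Prop := fun n => ∃ (T N : Subgroup G), T ≠ ⊤ ∧ N.Normal ∧ N ≤ T ∧ Nat.card N = n ∧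
    ∃ ψ : T → ℂ, IsCharacter T ψ ∧ indFun T ψ = χ
  have hP1 : P 1 := ⟨K, ⊥, hK, inferInstance, bot_le, Subgroup.card_bot, ψ, hψ, hind⟩
  have hbound : ∀ n, P n → n ≤ Nat.card G := by
    rintro n ⟨T, N, -, -, -, rfl, -⟩
    exact Subgroup.card_le_card_group N
  have hPn₀ : P (Nat.findGreatest P (Nat.card G)) :=
    Nat.findGreatest_spec (hbound 1 hP1) hP1
  have hmax0 : ∀ n, P n → n ≤ Nat.findGreatest P (Nat.card G) :=
    fun n hn => Nat.le_findGreatest (hbound n hn) hn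
  obtain ⟨T₀, N₀, hT₀, hN₀n, hN₀T, hN₀card, ψ₀, hψ₀, hind₀⟩ := hPn₀
  -- enlarge `T₀` to a maximal subgroup
  obtain ⟨H, hH, hT₀H⟩ : ∃ H : Subgroup G, IsCoatom H ∧ T₀ ≤ H := by
    rcases eq_top_or_exists_le_coatom T₀ with h | ⟨H, hH, hle⟩
    · exact absurd h hT₀
    · exact ⟨H, hH, hle⟩
  have : Fintype ↥H := Fintype.ofFinite _
  have hϑc : IsCharacter H (indFun (T₀.subgroupOf H) (toSub T₀ H hT₀H ψ₀)) :=
    isCharacter_indFun _ (isCharacter_toSub T₀ H hT₀H hψ₀)
  have hindH : indFun H (indFun (T₀.subgroupOf H) (toSub T₀ H hT₀H ψ₀)) = χ := by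
    rw [← hind₀]
    exact Helper25.indFun_indFun_toSub T₀ H hT₀H ψ₀
  have hN₀L : N₀ ≤ H.normalCore := Subgroup.normal_le_normalCore.mpr (hN₀T.trans hT₀H)
  apply berger_core χ hχ H hH _ hϑc hindH (hqp H.normalCore inferInstance)
  intro T N hT hN hNT hex
  have h1 : Nat.card N ≤ Nat.findGreatest P (Nat.card G) :=
    hmax0 _ ⟨T, N, hT, hN, hNT, rfl, hex⟩
  rw [← hN₀card] at h1
  exact h1.trans (Subgroup.card_le_of_le hN₀L)

end Cfsg.Agent.S0889
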