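import Cfsg.Statements.S0892
import Cfsg.Agent.Helper96.AltStemE
import Cfsg.Agent.Helper38.AltStemG

set_option autoImplicit false
open Cfsg

namespace Cfsg.Agent.S0892

/-- Let n ≥ 4 with n ≠ 6 and n ≠ 7, and let Γ be a finite group with a subgroup Z contained in both the centre and the commutator subgroup of Γ such that Γ / Z is isomorphic to the alternating group on n letters. Then Z has order at most 2. -/
theorem result (n : ℕ) (hn : 4 ≤ n) (h6 : n ≠ 6) (h7 : n ≠ 7) {Γ : Type*} [Group Γ] [Finite Γ] (Z : Subgroup Γ) [Z.Normal] (hZc : Z ≤ Subgroup.center Γ) (hZd : Z ≤ commutator Γ) (e : Γ ⧸ Z ≃* alternatingGroup (Fin n)) : Nat.card Z ≤ 2 := by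
  set σ : Γ →* alternatingGroup (Fin n) := e.toMonoidHom.comp (QuotientGroup.mk' Z) with hσdef
  have hker : σ.ker = Z := by
    ext x
    rw [MonoidHom.mem_ker, hσdef, MonoidHom.comp_apply]
    change e (QuotientGroup.mk' Z x) = 1 ↔ _
    rw [e.map_eq_one_iff, QuotientGroup.mk'_apply, QuotientGroup.eq_one_iff]
  have hsurj : Function.Surjective σ := e.surjective.comp (QuotientGroup.mk'_surjective Z)
  have hσ : Cfsg.IsStemExtension σ := ⟨hsurj, by rw [hker]; exact hZc, by rw [hker]; exact hZd⟩
  rw [← hker]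
  by_cases h8 : 8 ≤ n
  · set ρ : Γ →* Equiv.Perm (Fin n) := (alternatingGroup (Fin n)).subtype.comp σ with hρ
    have hρk : ρ.ker = σ.ker := by
      ext x
      rw [MonoidHom.mem_ker, MonoidHom.mem_ker, hρ, MonoidHom.comp_apply]
      constructor
      · intro h
        exact Subtype.ext h
      · intro h
        rw [h]; rfl
    have hr : ρ.range = alternatingGroup (Fin n) := by
      rw [hρ, MonoidHom.range_comp, MonoidHom.range_eq_top.mpr hsurj, ← MonoidHom.range_eq_map,
        Subgroup.range_subtype]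
    rw [← hρk]
    apply Cfsg.Agent.Helper96.AltStem.card_ker_le_two ρ hr
    · rw [hρk, hker]; exact hZc
    · rw [Fintype.card_fin]; exact h8
    · rw [hρk, hker]; exact hZd
  · have h45 : n = 4 ∨ n = 5 := by omega
    exact Cfsg.Agent.Helper38.AltStem.card_ker_le_two_small h45 σ hσ

end Cfsg.Agent.S0892
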