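import Cfsg.Statements.S0893
import Cfsg.Agent.Helper15.ConjChar
import Cfsg.Agent.Helper15.LinChar

set_option autoImplicit false
set_option linter.unusedSectionVars false
open Cfsg

namespace Cfsg.Agent.S0893

open Cfsg.Agent.Helper15
open scoped ComplexConjugate
open scoped commutatorElement

/-- A function `μ : P → ℂ` with `μ (g₀ g) = μ g₀ * μ g` and `μ g₀ ≠ 1` sums to zero. -/
theorem sum_eq_zero_of_twist {P : Type*} [Group P] [Fintype P] (μ : P → ℂ) (g₀ : P)
    (hmul : ∀ g, μ (g₀ * g) = μ g₀ * μ g) (hne : μ g₀ ≠ 1) : ∑ g : P, μ g = 0 := by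
  have h1 : ∑ g : P, μ g = ∑ g : P, μ (g₀ * g) :=
    (Fintype.sum_equiv (Equiv.mulLeft g₀) _ _ (fun g => rfl)).symm
  simp only [hmul, ← Finset.mul_sum] at h1
  have h2 : (1 - μ g₀) * ∑ g : P, μ g = 0 := by
    rw [sub_mul, one_mul, ← h1, sub_self]
  rcases mul_eq_zero.mp h2 with h | h
  · exact absurd (sub_eq_zero.mp h).symm hne
  · exact h

/-- Let P be an extraspecial p-group of order p ^ (2 * n + 1), A an abelian subgroup of order p ^ (n + 1), and λ a character of A of degree 1 that is not identically 1 on the elements of A lying in the centre of P. Then the function induced from λ to P is an irreducible character of P and vanishes at every element outside the centre. -/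
theorem result {P : Type*} [Group P] [Fintype P] (p n : ℕ) [Fact p.Prime] (hP : Cfsg.IsExtraspecial p P) (hcard : Nat.card P = p ^ (2 * n + 1)) (A : Subgroup P) (hab : ∀ a ∈ A, ∀ b ∈ A, a * b = b * a) (hA : Nat.card A = p ^ (n + 1)) (lam : A → ℂ) (hlam : Cfsg.IsCharacter A lam ∧ lam 1 = 1) (hZ : ∃ a : A, (a : P) ∈ Subgroup.center P ∧ lam a ≠ 1) : Cfsg.IsIrrCharacter P (Cfsg.indFun A lam) ∧ ∀ x : P, x ∉ Subgroup.center P → Cfsg.indFun A lam x = 0 := by
  classical
  obtain ⟨⟨hpg, hfrat, hcomm⟩, hcardZ⟩ := hP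
  obtain ⟨a₀, ha₀Z, ha₀⟩ := hZ
  have hp : p.Prime := Fact.out
  have ha₀1 : (a₀ : P) ≠ 1 := by
    intro h
    apply ha₀
    have : a₀ = 1 := Subtype.ext h
    rw [this, hlam.2]
  -- the centre is generated by `a₀`
  have hgen : ∀ z ∈ Subgroup.center P, z ∈ Subgroup.zpowers (a₀ : P) := by
    intro z hz
    have h1 : Subgroup.zpowers (⟨(a₀ : P), ha₀Z⟩ : Subgroup.center P) = ⊤ :=
      zpowers_eq_top_of_prime_card hcardZ (fun h => ha₀1 (congrArg Subtype.val h))
    have h2 : (⟨z, hz⟩ : Subgroup.center P) ∈ Subgroup.zpowers (⟨(a₀ : P), ha₀Z⟩ : Subgroup.center P) := by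
      rw [h1]; trivial
    obtain ⟨k, hk⟩ := Subgroup.mem_zpowers_iff.mp h2
    refine Subgroup.mem_zpowers_iff.mpr ⟨k, ?_⟩
    have := congrArg Subtype.val hk
    simpa using this
  have hZA : Subgroup.center P ≤ A := by
    intro z hz
    have := hgen z hz
    exact (Subgroup.zpowers_le.mpr a₀.2) this
  -- commutators are central
  have hcommZ : ∀ x g : P, x⁻¹ * g * x * g⁻¹ ∈ Subgroup.center P := by
    intro x g
    rw [← hcomm]
    have : x⁻¹ * g * x * g⁻¹ = ⁅x⁻¹, g⁆ := by
      rw [commutatorElement_def]; group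
    rw [this]
    exact Subgroup.commutator_mem_commutator (Subgroup.mem_top _) (Subgroup.mem_top _)
  -- `A` is normal
  have hAnormal : A.Normal := by
    constructor
    intro a ha g
    have h1 : g * a * g⁻¹ = a * (a⁻¹ * g * a * g⁻¹) := by group
    rw [h1]
    exact A.mul_mem ha (hZA (hcommZ a g))
  have hAne : (Nat.card A : ℂ) ≠ 0 := by
    have : Nat.card A ≠ 0 := Nat.card_pos.ne'
    exact_mod_cast this
  have hmul := linChar_mul hlam.1 hlam.2
  -- vanishing off the centre
  have hvan : ∀ x : P, x ∉ Subgroup.center P → indFun A lam x = 0 := by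
    intro x hx
    by_cases hxA : x ∈ A
    · rw [indFun_apply']
      -- each term is `lam x * μ g`
      let μ : P → ℂ := fun g => lam ⟨x⁻¹ * g * x * g⁻¹, hZA (hcommZ x g)⟩
      have hterm : ∀ g : P, extendByZero A lam (g * x * g⁻¹) = lam ⟨x, hxA⟩ * μ g := by
        intro g
        have hmem : g * x * g⁻¹ ∈ A := hAnormal.conj_mem x hxA g
        rw [extendByZero_of_mem A lam hmem, ← hmul]
        congr 1
        apply Subtype.ext
        show g * x * g⁻¹ = x * (x⁻¹ * g * x * g⁻¹)
        group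
      simp only [hterm, ← Finset.mul_sum]
      -- `μ` is a nontrivial twist
      have hμmul : ∀ g₀ g : P, μ (g₀ * g) = μ g₀ * μ g := by
        intro g₀ g
        show lam _ = lam _ * lam _
        rw [← hmul]
        congr 1
        apply Subtype.ext
        show x⁻¹ * (g₀ * g) * x * (g₀ * g)⁻¹ = (x⁻¹ * g₀ * x * g₀⁻¹) * (x⁻¹ * g * x * g⁻¹)
        have hc := Subgroup.mem_center_iff.mp (hcommZ x g) g₀⁻¹
        calc x⁻¹ * (g₀ * g) * x * (g₀ * g)⁻¹
            = x⁻¹ * g₀ * x * ((x⁻¹ * g * x * g⁻¹) * g₀⁻¹) := by group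
          _ = x⁻¹ * g₀ * x * (g₀⁻¹ * (x⁻¹ * g * x * g⁻¹)) := by rw [hc]
          _ = (x⁻¹ * g₀ * x * g₀⁻¹) * (x⁻¹ * g * x * g⁻¹) := by group
      -- find `g₀` with `c(g₀) = a₀`
      have hexg : ∃ g : P, x⁻¹ * g * x * g⁻¹ ≠ 1 := by
        by_contra hcon
        push Not at hcon
        apply hx
        rw [Subgroup.mem_center_iff]
        intro g
        have := hcon g
        calc g * x = x * (x⁻¹ * g * x * g⁻¹) * g := by group
          _ = x * g := by rw [this, mul_one]
      obtain ⟨g₁, hg₁⟩ := hexg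
      -- `c g₁` generates the centre, so `a₀` is a power of it
      have h1 : Subgroup.zpowers (⟨x⁻¹ * g₁ * x * g₁⁻¹, hcommZ x g₁⟩ : Subgroup.center P) = ⊤ :=
        zpowers_eq_top_of_prime_card hcardZ (fun h => hg₁ (congrArg Subtype.val h))
      have h2 : (⟨(a₀ : P), ha₀Z⟩ : Subgroup.center P) ∈
          Subgroup.zpowers (⟨x⁻¹ * g₁ * x * g₁⁻¹, hcommZ x g₁⟩ : Subgroup.center P) := by
        rw [h1]; trivial
      obtain ⟨k, hk⟩ := Subgroup.mem_zpowers_iff.mp h2
      -- `μ (g₁ ^ k) = (μ g₁) ^ k` for integers `k`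
      have hμ1 : μ 1 = 1 := by
        show lam _ = 1
        rw [← hlam.2]
        congr 1
        apply Subtype.ext
        show x⁻¹ * 1 * x * 1⁻¹ = 1
        group
      let μhom : P →* ℂ := { toFun := μ, map_one' := hμ1, map_mul' := hμmul }
      have hμne : ∃ g₀ : P, μ g₀ ≠ 1 := by
        by_contra hcon
        push Not at hcon
        apply ha₀
        -- `lam a₀ = lam (c g₁ ^ k) = (μ g₁)^k = 1`
        have hk' : (a₀ : P) = (x⁻¹ * g₁ * x * g₁⁻¹) ^ k := by
          have := congrArg Subtype.val hk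
          simpa using this.symm
        have hlamZ : ∀ j : ℤ, ∀ hmem : (x⁻¹ * g₁ * x * g₁⁻¹) ^ j ∈ A,
            lam ⟨(x⁻¹ * g₁ * x * g₁⁻¹) ^ j, hmem⟩ = 1 := by
          intro j hmem
          have hpow : (⟨(x⁻¹ * g₁ * x * g₁⁻¹) ^ j, hmem⟩ : A)
              = (⟨x⁻¹ * g₁ * x * g₁⁻¹, hZA (hcommZ x g₁)⟩ : A) ^ j := by
            apply Subtype.ext
            simp
          rw [hpow]
          have := map_zpow (linCharUnits hlam.1 hlam.2) (⟨x⁻¹ * g₁ * x * g₁⁻¹, hZA (hcommZ x g₁)⟩ : A) j
          have h3 : (linCharUnits hlam.1 hlam.2) (⟨x⁻¹ * g₁ * x * g₁⁻¹, hZA (hcommZ x g₁)⟩ : A) = 1 := by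
            apply Units.ext
            rw [linCharUnits_apply]
            exact hcon g₁
          rw [h3, one_zpow] at this
          have h4 : (((linCharUnits hlam.1 hlam.2)
              ((⟨x⁻¹ * g₁ * x * g₁⁻¹, hZA (hcommZ x g₁)⟩ : A) ^ j) : ℂˣ) : ℂ) = 1 := by
            rw [this]; rfl
          rwa [linCharUnits_apply] at h4
        have := hlamZ k (hk' ▸ a₀.2)
        rw [← this]
        congr 1
        apply Subtype.ext
        exact hk'
      obtain ⟨g₀, hg₀⟩ := hμne
      rw [sum_eq_zero_of_twist μ g₀ (hμmul g₀) hg₀]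
      simp
    · have := hAnormal
      exact indFun_normal_of_not_mem A lam hxA
  refine ⟨?_, hvan⟩
  -- values on the centre
  have hval : ∀ z : P, z ∈ Subgroup.center P →
      ∃ hz : z ∈ A, indFun A lam z = (p : ℂ) ^ n * lam ⟨z, hz⟩ := by
    intro z hz
    refine ⟨hZA hz, ?_⟩
    rw [indFun_apply']
    have hterm : ∀ g : P, extendByZero A lam (g * z * g⁻¹) = lam ⟨z, hZA hz⟩ := by
      intro g
      have : g * z * g⁻¹ = z := by
        rw [Subgroup.mem_center_iff.mp hz g]; group
      rw [this, extendByZero_of_mem A lam (hZA hz)]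
    simp only [hterm, Finset.sum_const, Finset.card_univ, nsmul_eq_mul]
    rw [← Nat.card_eq_fintype_card, hcard, hA]
    have hpne : (p : ℂ) ≠ 0 := by exact_mod_cast hp.ne_zero
    push_cast
    field_simp
    ring
  -- the norm is one
  have hchar : IsCharacter P (indFun A lam) := isCharacter_indFun A hlam.1
  apply isIrrCharacter_of_inner_self_eq_one hchar
  rw [classInner_apply]
  -- the sum is supported on the centre
  have hsum : ∑ g : P, indFun A lam g * conj (indFun A lam g)
      = ∑ z : Subgroup.center P, (p : ℂ) ^ (2 * n) := by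
    have h1 : ∑ g : P, indFun A lam g * conj (indFun A lam g)
        = ∑ g ∈ Finset.univ.filter (fun g : P => g ∈ Subgroup.center P),
            indFun A lam g * conj (indFun A lam g) := by
      symm
      apply Finset.sum_subset (Finset.filter_subset _ _)
      intro g _ hg
      have : g ∉ Subgroup.center P := by simpa using hg
      rw [hvan g this, zero_mul]
    rw [h1, Finset.sum_subtype (p := fun g : P => g ∈ Subgroup.center P)
      (Finset.univ.filter (fun g : P => g ∈ Subgroup.center P)) (by intro x; simp)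
      (fun g => indFun A lam g * conj (indFun A lam g))]
    apply Finset.sum_congr rfl
    intro z _
    obtain ⟨hzA, hv⟩ := hval z z.2
    rw [hv, map_mul, map_pow, Complex.conj_natCast]
    have hnorm : lam ⟨z, hzA⟩ * conj (lam ⟨z, hzA⟩) = 1 := by
      rw [Complex.mul_conj, Complex.normSq_eq_norm_sq, linChar_norm hlam.1 hlam.2]
      simp
    calc (p : ℂ) ^ n * lam ⟨z, hzA⟩ * ((p : ℂ) ^ n * conj (lam ⟨z, hzA⟩))
        = (p : ℂ) ^ n * (p : ℂ) ^ n * (lam ⟨z, hzA⟩ * conj (lam ⟨z, hzA⟩)) := by ring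
      _ = (p : ℂ) ^ (2 * n) := by rw [hnorm, mul_one, ← pow_add, two_mul]
  rw [hsum, Finset.sum_const, Finset.card_univ, nsmul_eq_mul, ← Nat.card_eq_fintype_card, hcardZ,
    hcard]
  have hpne : (p : ℂ) ≠ 0 := by exact_mod_cast hp.ne_zero
  push_cast
  rw [pow_succ]
  field_simp

end Cfsg.Agent.S0893
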