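import Cfsg.Statements.S0894
import Cfsg.Agent.Helper15.LinChar
import Cfsg.Agent.Helper74.CharCount
import Cfsg.Agent.Helper76.CharCentral
import Cfsg.Agent.Helper80.Pullback
import Cfsg.Agent.Helper80.Degree

set_option autoImplicit false
set_option linter.unusedSectionVars false
open Cfsg

namespace Cfsg.Agent.S0894

open Cfsg.Agent.Helper15
open scoped ComplexConjugate
open scoped commutatorElement

universe u

section

variable {P : Type u} [Group P] [Finite P]

/-- If the commutator subgroup is the centre, the quotient by the centre is commutative. -/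
theorem quotient_center_comm (hcomm : commutator P = Subgroup.center P)
    (a b : P ⧸ Subgroup.center P) : a * b = b * a := by
  induction a using QuotientGroup.induction_on with
  | H x =>
    induction b using QuotientGroup.induction_on with
    | H y =>
      rw [← QuotientGroup.mk_mul, ← QuotientGroup.mk_mul, QuotientGroup.eq]
      rw [← hcomm]
      have : (x * y)⁻¹ * (y * x) = ⁅y⁻¹, x⁻¹⁆ := by
        rw [commutatorElement_def]; group
      rw [this]
      exact Subgroup.commutator_mem_commutator (Subgroup.mem_top _) (Subgroup.mem_top _)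

/-- An irreducible character trivial on the centre (= commutator subgroup) is linear. -/
theorem degree_one_of_trivial_on_center (hcomm : commutator P = Subgroup.center P)
    {χ : P → ℂ} (hχ : IsIrrCharacter P χ) (htriv : ∀ z ∈ Subgroup.center P, χ z = χ 1) :
    χ 1 = 1 := by
  obtain ⟨ψ, hψ, hψχ⟩ := Helper80.IsIrrCharacter.exists_descend hχ
    (QuotientGroup.mk' (Subgroup.center P)) (QuotientGroup.mk'_surjective _)
    (fun g hg => htriv g ((QuotientGroup.eq_one_iff g).mp hg))
  have h1 := Helper76.irr_one_of_comm (quotient_center_comm hcomm) hψ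
  rw [hψχ 1, map_one, h1]

/-- A linear character is trivial on the commutator subgroup. -/
theorem trivial_on_commutator_of_degree_one {χ : P → ℂ} (hχ : IsCharacter P χ) (h1 : χ 1 = 1)
    (z : P) (hz : z ∈ commutator P) : χ z = χ 1 := by
  rw [h1]
  let φ := linCharUnits hχ h1
  have hker : commutator P ≤ φ.ker := by
    rw [commutator_def, Subgroup.commutator_le]
    intro a _ b _
    rw [MonoidHom.mem_ker, commutatorElement_def, map_mul, map_mul, map_mul, map_inv, map_inv]
    rw [mul_comm (φ a) (φ b), mul_assoc, mul_assoc, mul_inv_cancel_left, mul_inv_cancel]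
  have := hker hz
  rw [MonoidHom.mem_ker] at this
  have h2 := congrArg (fun u : ℂˣ => (u : ℂ)) this
  simpa [φ] using h2

end

section nonlinear

variable {P : Type u} [Group P] [Fintype P]

/-- A faithful-on-the-centre irreducible character of an extraspecial-like group vanishes off the
centre. -/
theorem vanish_off_center (p : ℕ) [Fact p.Prime] (hcomm : commutator P = Subgroup.center P)
    (hcardZ : Nat.card (Subgroup.center P) = p) {χ : P → ℂ} (hχ : IsIrrCharacter P χ)
    (hnt : ∃ z ∈ Subgroup.center P, χ z ≠ χ 1) (x : P) (hx : x ∉ Subgroup.center P) :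
    χ x = 0 := by
  have hχcf := Helper74.isClassFunction_of_isCharacter (Helper74.isCharacter_of_isIrr hχ)
  -- a nontrivial commutator of `x`
  have hexg : ∃ g : P, x⁻¹ * g * x * g⁻¹ ≠ 1 := by
    by_contra hcon
    push Not at hcon
    apply hx
    rw [Subgroup.mem_center_iff]
    intro g
    have := hcon g
    calc g * x = x * (x⁻¹ * g * x * g⁻¹) * g := by group
      _ = x * g := by rw [this, mul_one]
  obtain ⟨g, hg⟩ := hexg
  set c := x⁻¹ * g * x * g⁻¹ with hc
  have hcZ : c ∈ Subgroup.center P := by
    rw [← hcomm]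
    have : c = ⁅x⁻¹, g⁆ := by rw [hc, commutatorElement_def]; group
    rw [this]
    exact Subgroup.commutator_mem_commutator (Subgroup.mem_top _) (Subgroup.mem_top _)
  obtain ⟨ω, hω⟩ := Helper76.irr_exists_central_scalar hχ c hcZ
  -- `ω ≠ 1`
  have hω1 : ω ≠ 1 := by
    intro h1
    obtain ⟨z, hz, hzne⟩ := hnt
    apply hzne
    -- the set of `z` with `χ (z g) = χ g` for all `g` is a subgroup containing `c`
    let S : Subgroup P :=
      { carrier := {z | ∀ g, χ (z * g) = χ g}
        one_mem' := by intro g; simp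
        mul_mem' := by
          intro a b ha hb g
          rw [mul_assoc, ha, hb]
        inv_mem' := by
          intro a ha g
          have := ha (a⁻¹ * g)
          rw [mul_inv_cancel_left] at this
          exact this.symm }
    have hcS : c ∈ S := by
      intro g'
      rw [hω g', h1, one_mul]
    have h2 : Subgroup.zpowers (⟨c, hcZ⟩ : Subgroup.center P) = ⊤ :=
      zpowers_eq_top_of_prime_card hcardZ (fun h => hg (congrArg Subtype.val h))
    have h3 : (⟨z, hz⟩ : Subgroup.center P) ∈ Subgroup.zpowers (⟨c, hcZ⟩ : Subgroup.center P) := by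
      rw [h2]; trivial
    obtain ⟨k, hk⟩ := Subgroup.mem_zpowers_iff.mp h3
    have hzc : z = c ^ k := by
      have := congrArg Subtype.val hk
      simpa using this.symm
    have hzS : z ∈ S := by
      rw [hzc]; exact S.zpow_mem hcS k
    have := hzS 1
    simpa using this
  -- `χ x = χ (c x) = ω χ x`
  have h1 : χ (g * x * g⁻¹) = χ x := hχcf x g
  have h2 : g * x * g⁻¹ = c * x := by
    have hcx := Subgroup.mem_center_iff.mp hcZ x
    rw [← hcx, hc]; group
  rw [h2, hω x] at h1
  have h3 : (ω - 1) * χ x = 0 := by rw [sub_mul, one_mul, h1, sub_self]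
  rcases mul_eq_zero.mp h3 with h | h
  · exact absurd (sub_eq_zero.mp h) hω1
  · exact h

/-- The degree of an irreducible character vanishing off the centre. -/
theorem degree_of_vanish_off_center (p n : ℕ) [Fact p.Prime]
    (hcardZ : Nat.card (Subgroup.center P) = p) (hcard : Nat.card P = p ^ (2 * n + 1))
    {χ : P → ℂ} (hχ : IsIrrCharacter P χ) (hvan : ∀ x : P, x ∉ Subgroup.center P → χ x = 0) :
    χ 1 = (p : ℂ) ^ n := by
  classical
  have hp : p.Prime := Fact.out
  have hsum : ∑ g : P, χ g * conj (χ g) = (Nat.card P : ℂ) := by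
    have h := Helper74.irr_inner_self ⟨χ, hχ⟩
    rw [Helper74.classInner_def] at h
    have hG : (Nat.card P : ℂ) ≠ 0 := by
      have : Nat.card P ≠ 0 := Nat.card_pos.ne'
      exact_mod_cast this
    field_simp at h
    exact h
  set d := charDegree χ with hd
  have hdcast : (d : ℂ) = χ 1 := Helper74.charDegree_cast (Helper74.isCharacter_of_isIrr hχ)
  have hsum2 : ∑ g : P, χ g * conj (χ g)
      = ∑ z : Subgroup.center P, ((d : ℂ)) ^ 2 := by
    have h1 : ∑ g : P, χ g * conj (χ g)
        = ∑ g ∈ Finset.univ.filter (fun g : P => g ∈ Subgroup.center P), χ g * conj (χ g) := by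
      symm
      apply Finset.sum_subset (Finset.filter_subset _ _)
      intro g _ hg
      have : g ∉ Subgroup.center P := by simpa using hg
      rw [hvan g this, zero_mul]
    rw [h1, Finset.sum_subtype (p := fun g : P => g ∈ Subgroup.center P)
      (Finset.univ.filter (fun g : P => g ∈ Subgroup.center P)) (by intro x; simp)
      (fun g => χ g * conj (χ g))]
    apply Finset.sum_congr rfl
    intro z _
    have hn := Helper80.IsIrrCharacter.norm_eq_of_mem_center hχ z.2
    rw [Complex.mul_conj, Complex.normSq_eq_norm_sq, hn]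
    push_cast
    rfl
  rw [hsum, Finset.sum_const, Finset.card_univ, nsmul_eq_mul, ← Nat.card_eq_fintype_card, hcardZ,
    hcard] at hsum2
  have hnat : p ^ (2 * n + 1) = p * d ^ 2 := by exact_mod_cast hsum2
  have hd2 : d ^ 2 = (p ^ n) ^ 2 := by
    have : p * d ^ 2 = p * (p ^ n) ^ 2 := by
      rw [← hnat, ← pow_mul, pow_succ]; ring
    exact Nat.eq_of_mul_eq_mul_left hp.pos this
  have hdn : d = p ^ n := Nat.pow_left_injective (by norm_num : 2 ≠ 0) hd2
  rw [← hdcast, hdn]
  push_cast
  rfl

end nonlinear

/-- Let P be an extraspecial p-group of order p ^ (2 * n + 1). Then every irreducible character of P has degree 1 or p ^ n, and exactly p - 1 of them have degree p ^ n. -/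
theorem result {P : Type*} [Group P] [Finite P] (p n : ℕ) [Fact p.Prime] (hP : Cfsg.IsExtraspecial p P) (hcard : Nat.card P = p ^ (2 * n + 1)) : (∀ χ : Cfsg.IrrCharacter P, (χ : P → ℂ) 1 = 1 ∨ (χ : P → ℂ) 1 = (p : ℂ) ^ n) ∧ Nat.card {χ : Cfsg.IrrCharacter P // (χ : P → ℂ) 1 = (p : ℂ) ^ n} = p - 1 := by
  classical
  obtain ⟨⟨hpg, hfrat, hcomm⟩, hcardZ⟩ := hP
  have hp : p.Prime := Fact.out
  let _ : Fintype P := Fintype.ofFinite P
  let _ := Helper74.irrFintype P
  -- dichotomy
  have hdich : ∀ χ : IrrCharacter P,
      ((∀ z ∈ Subgroup.center P, (χ : P → ℂ) z = (χ : P → ℂ) 1) ∧ (χ : P → ℂ) 1 = 1) ∨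
      ((∃ z ∈ Subgroup.center P, (χ : P → ℂ) z ≠ (χ : P → ℂ) 1) ∧ (χ : P → ℂ) 1 = (p : ℂ) ^ n) := by
    intro χ
    by_cases h : ∀ z ∈ Subgroup.center P, (χ : P → ℂ) z = (χ : P → ℂ) 1
    · exact Or.inl ⟨h, degree_one_of_trivial_on_center hcomm χ.2 h⟩
    · push Not at h
      refine Or.inr ⟨h, ?_⟩
      exact degree_of_vanish_off_center p n hcardZ hcard χ.2
        (vanish_off_center p hcomm hcardZ χ.2 h)
  refine ⟨fun χ => (hdich χ).elim (fun h => Or.inl h.2) (fun h => Or.inr h.2), ?_⟩
  -- `n ≠ 0`
  have hn0 : n ≠ 0 := by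
    intro h0
    subst h0
    simp only [mul_zero, zero_add, pow_one] at hcard
    -- then the centre is everything, so the commutator subgroup is trivial
    have hZtop : Subgroup.center P = ⊤ := by
      apply Subgroup.eq_top_of_card_eq
      rw [hcardZ, hcard]
    have hcommbot : commutator P = ⊥ := by
      rw [eq_bot_iff, commutator_def, Subgroup.commutator_le]
      intro a _ b _
      rw [Subgroup.mem_bot, commutatorElement_eq_one_iff_commute]
      have ha : a ∈ Subgroup.center P := hZtop ▸ Subgroup.mem_top a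
      exact (Subgroup.mem_center_iff.mp ha b).symm
    rw [hcommbot] at hcomm
    have : Nat.card (Subgroup.center P) = 1 := by rw [← hcomm]; simp
    rw [hcardZ] at this
    exact hp.one_lt.ne' this
  have hpn1 : (p : ℂ) ^ n ≠ 1 := by
    have : p ^ n ≠ 1 := by
      have := Nat.one_lt_pow hn0 hp.one_lt
      omega
    exact_mod_cast this
  -- the number of linear characters
  have hlin : Nat.card {χ : IrrCharacter P // (χ : P → ℂ) 1 = 1} = p ^ (2 * n) := by
    have hequiv : {χ : IrrCharacter P // (χ : P → ℂ) 1 = 1}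
        ≃ {χ : IrrCharacter P // ∀ z ∈ Subgroup.center P, (χ : P → ℂ) z = (χ : P → ℂ) 1} :=
      Equiv.subtypeEquivRight (fun χ => by
        constructor
        · intro h1 z hz
          exact trivial_on_commutator_of_degree_one (Helper74.irr_isCharacter χ) h1 z
            (hcomm ▸ hz)
        · intro h
          exact degree_one_of_trivial_on_center hcomm χ.2 h)
    rw [Nat.card_congr hequiv, ← Nat.card_congr (Helper80.irrQuotientEquiv (Subgroup.center P)),
      Helper74.card_irr_eq_card_conjClasses]
    have hcommQ := quotient_center_comm hcomm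
    let _ : CommGroup (P ⧸ Subgroup.center P) :=
      { (inferInstance : Group (P ⧸ Subgroup.center P)) with mul_comm := hcommQ }
    rw [← Nat.card_congr (ConjClasses.mkEquiv (α := P ⧸ Subgroup.center P))]
    have h1 := (Subgroup.center P).card_mul_index
    rw [hcardZ, hcard] at h1
    rw [← Subgroup.index_eq_card]
    have : p * (Subgroup.center P).index = p * p ^ (2 * n) := by rw [h1, pow_succ]; ring
    exact Nat.eq_of_mul_eq_mul_left hp.pos this
  -- the degree equation
  have hsq := Helper74.sum_irr_degree_sq (G := P)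
  rw [hcard] at hsq
  -- split the sum according to the degree
  have hsplit : ∑ χ : IrrCharacter P, (χ : P → ℂ) 1 * (χ : P → ℂ) 1
      = ∑ χ ∈ Finset.univ.filter (fun χ : IrrCharacter P => (χ : P → ℂ) 1 = 1), (1 : ℂ)
        + ∑ χ ∈ Finset.univ.filter (fun χ : IrrCharacter P => ¬ (χ : P → ℂ) 1 = 1),
            ((p : ℂ) ^ n * (p : ℂ) ^ n) := by
    rw [← Finset.sum_filter_add_sum_filter_not Finset.univ
      (fun χ : IrrCharacter P => (χ : P → ℂ) 1 = 1)]
    congr 1
    · apply Finset.sum_congr rfl
      intro χ hχ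
      rw [(Finset.mem_filter.mp hχ).2]; ring
    · apply Finset.sum_congr rfl
      intro χ hχ
      have hne := (Finset.mem_filter.mp hχ).2
      rcases hdich χ with h | h
      · exact absurd h.2 hne
      · rw [h.2]
  have hfilt2 : Finset.univ.filter (fun χ : IrrCharacter P => ¬ (χ : P → ℂ) 1 = 1)
      = Finset.univ.filter (fun χ : IrrCharacter P => (χ : P → ℂ) 1 = (p : ℂ) ^ n) := by
    ext χ
    simp only [Finset.mem_filter, Finset.mem_univ, true_and]
    constructor
    · intro hne
      rcases hdich χ with h | h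
      · exact absurd h.2 hne
      · exact h.2
    · intro h h1
      rw [h] at h1
      exact hpn1 h1
  rw [hsplit, hfilt2, Finset.sum_const, Finset.sum_const, nsmul_eq_mul, nsmul_eq_mul, mul_one] at hsq
  have hc1 : (Finset.univ.filter (fun χ : IrrCharacter P => (χ : P → ℂ) 1 = 1)).card
      = p ^ (2 * n) := by
    rw [← hlin, Nat.card_eq_fintype_card, Fintype.card_subtype]
  have hc2 : (Finset.univ.filter (fun χ : IrrCharacter P => (χ : P → ℂ) 1 = (p : ℂ) ^ n)).card
      = Nat.card {χ : IrrCharacter P // (χ : P → ℂ) 1 = (p : ℂ) ^ n} := by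
    rw [Nat.card_eq_fintype_card, Fintype.card_subtype]
  rw [← hc2]
  set K := (Finset.univ.filter (fun χ : IrrCharacter P => (χ : P → ℂ) 1 = (p : ℂ) ^ n)).card
  rw [hc1] at hsq
  have hnat : p ^ (2 * n) + K * (p ^ n * p ^ n) = p ^ (2 * n + 1) := by exact_mod_cast hsq
  have hpp : p ^ n * p ^ n = p ^ (2 * n) := by rw [← pow_add, two_mul]
  rw [hpp, pow_succ] at hnat
  have hpos : 0 < p ^ (2 * n) := Nat.pos_of_ne_zero (pow_ne_zero _ hp.ne_zero)
  have h3 : (1 + K) * p ^ (2 * n) = p * p ^ (2 * n) := by rw [mul_comm p, ← hnat]; ring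
  have h4 : 1 + K = p := Nat.eq_of_mul_eq_mul_right hpos h3
  omega

end Cfsg.Agent.S0894
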