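import Cfsg.Statements.S0895
import Cfsg.Agent.Helper81.FSIrr

set_option autoImplicit false
open Cfsg

namespace Cfsg.Agent.S0895

open Cfsg.Agent

/-- An injective (nondegenerate) bilinear form with `B.flip = -B` cannot live on an odd-dimensional
coordinate space. -/
theorem not_injective_of_flip_neg_of_odd {n : ℕ} (hn : Odd n)
    (B : LinearMap.BilinForm ℂ (Fin n → ℂ)) (hflip : B.flip = -B) :
    ¬ Function.Injective B := by
  classical
  intro hinj
  let M : Matrix (Fin n) (Fin n) ℂ := Matrix.of fun i j => B (Pi.single i 1) (Pi.single j 1)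
  have hMt : M.transpose = -M := by
    ext i j
    have := congrArg (fun T : LinearMap.BilinForm ℂ (Fin n → ℂ) =>
      T (Pi.single i 1) (Pi.single j 1)) hflip
    simp only [LinearMap.neg_apply] at this
    simp only [M, Matrix.transpose_apply, Matrix.of_apply, Matrix.neg_apply]
    exact this
  have hdet : M.det = 0 := by
    have h1 : M.det = (-M).det := by rw [← hMt, Matrix.det_transpose]
    rw [Matrix.det_neg, Fintype.card_fin, hn.neg_one_pow] at h1
    have : (2 : ℂ) * M.det = 0 := by linear_combination h1
    rcases mul_eq_zero.mp this with h | h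
    · norm_num at h
    · exact h
  obtain ⟨v, hv0, hv⟩ := Matrix.exists_vecMul_eq_zero_iff.mpr hdet
  apply hv0
  apply hinj
  rw [map_zero]
  apply (Pi.basisFun ℂ (Fin n)).ext
  intro j
  have hvdec : v = ∑ i, v i • (Pi.single i (1 : ℂ) : Fin n → ℂ) := by
    funext k
    simp [Finset.sum_apply, Pi.single_apply]
  have : B v (Pi.single j 1) = (Matrix.vecMul v M) j := by
    conv_lhs => rw [hvdec]
    rw [map_sum, LinearMap.sum_apply]
    simp only [map_smul, LinearMap.smul_apply, smul_eq_mul, Matrix.vecMul, dotProduct, M,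
      Matrix.of_apply]
  simp only [Pi.basisFun_apply, LinearMap.zero_apply]
  rw [this, hv]
  rfl

/-- Let χ be a real-valued irreducible character of a finite group G whose degree is an odd natural number. Then the average over s in G of χ (s * s) equals 1. -/
theorem result {G : Type*} [Group G] [Fintype G] (χ : G → ℂ) (hχ : Cfsg.IsIrrCharacter G χ) (hreal : ∀ g : G, (χ g).im = 0) (d : ℕ) (hd : χ 1 = d) (hodd : Odd d) : (Nat.card G : ℂ)⁻¹ * ∑ s : G, χ (s * s) = 1 := by
  classical
  obtain ⟨n, ρ, hirr, rfl⟩ := hχ
  have hnd : n = d := by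
    rw [Representation.char_one] at hd
    simp only [Module.finrank_fintype_fun_eq_card, Fintype.card_fin] at hd
    exact_mod_cast hd
  subst hnd
  have : ρ.IsIrreducible := hirr
  have hinv : ∀ g : G, ρ.character g⁻¹ = ρ.character g :=
    (Helper81.char_real_iff_inv ρ).mp hreal
  obtain ⟨B, hB, hne⟩ := Helper81.exists_form_of_char_inv ρ hinv
  have hinj : Function.Injective B :=
    (Helper81.invariantForm_eq_zero_or_injective ρ B hB).resolve_left hne
  have hGne : (Nat.card G : ℂ) ≠ 0 := by
    have : Nat.card G ≠ 0 := Nat.card_pos.ne'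
    exact_mod_cast this
  rcases Helper81.fs_flip ρ B hB hne with hs | ha
  · rw [Helper81.fs_sum_of_symm ρ B hB hne hs, inv_mul_cancel₀ hGne]
  · exact absurd hinj (not_injective_of_flip_neg_of_odd hodd B ha)

end Cfsg.Agent.S0895
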