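import Cfsg.Statements.S0897
import Cfsg.Agent.S0896
import Cfsg.Agent.S0887
import Cfsg.Agent.Helper15.ElemFacts
import Cfsg.Agent.Helper15.CliffordCorr
import Cfsg.Agent.Helper74.CharBasic

set_option autoImplicit false
open Cfsg

namespace Cfsg.Agent.S0897

open Cfsg.Agent.Helper15
open scoped ComplexConjugate

/-- Counting step: if `E N = G`, `φh` is a character of `E` and `ϑ` is `G`-invariant, then the
multiplicity of `ϑ` in the restriction to `N` of `φh` induced to `G` is the conjugate of the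
multiplicity computed on `E ⊓ N`. -/
theorem classInner_restrict_indFun {G : Type*} [Group G] [Fintype G] (N : Subgroup G)
    [hN : N.Normal] [Fintype N] (ϑ : N → ℂ)
    (hinv : ∀ (g : G) (n : N), ϑ ⟨g * n * g⁻¹, hN.conj_mem (n : G) n.2 g⟩ = ϑ n)
    (E : Subgroup G) [Fintype E] [Fintype ↥(E ⊓ N)] (hEN : E ⊔ N = ⊤) (ψ : E → ℂ) :
    classInner (fun n : N => indFun E ψ (n : G)) ϑ =
      (Nat.card ↥(E ⊓ N) : ℂ)⁻¹ *
        ∑ x : ↥(E ⊓ N), ψ ⟨(x : G), x.2.1⟩ * conj (ϑ ⟨(x : G), x.2.2⟩) := by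
  rw [classInner_apply]
  have h1 := Cfsg.Agent.S0896.sum_indFun_mul_invariant N (fun n => conj (ϑ n))
    (fun g n => by rw [hinv]) E ψ
  rw [h1]
  have hc := Cfsg.Agent.S0896.card_mul_card_inf N E
  rw [hEN, Subgroup.index_top, mul_one] at hc
  have hc' : (Nat.card G : ℂ) * (Nat.card ↥(E ⊓ N) : ℂ)
      = (Nat.card N : ℂ) * (Nat.card E : ℂ) := by exact_mod_cast hc
  have hN0 : (Nat.card N : ℂ) ≠ 0 := by exact_mod_cast Nat.card_pos.ne'
  have hE0 : (Nat.card E : ℂ) ≠ 0 := by exact_mod_cast Nat.card_pos.ne'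
  have hB0 : (Nat.card ↥(E ⊓ N) : ℂ) ≠ 0 := by exact_mod_cast Nat.card_pos.ne'
  field_simp
  linear_combination (∑ x : ↥(E ⊓ N), ψ ⟨(x : G), x.2.1⟩ * conj (ϑ ⟨(x : G), x.2.2⟩)) * hc'

/-- Let N be a normal subgroup of the finite group G with the index of N a power of the prime p, and P a Sylow p-subgroup of G such that P ⊓ N lies in the centre of P and every character of degree 1 of P ⊓ N is the restriction of a character of degree 1 of P. Then every irreducible character of N invariant under conjugation by G is the restriction of an irreducible character of G. -/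
theorem result {G : Type*} [Group G] [Fintype G] (p : ℕ) [Fact p.Prime] (N : Subgroup G) [hN : N.Normal] (hind : ∃ k : ℕ, N.index = p ^ k) (P : Sylow p G) (hcent : ∀ x ∈ (P : Subgroup G) ⊓ N, ∀ y ∈ (P : Subgroup G), x * y = y * x) (hlin : ∀ lam : ↥((P : Subgroup G) ⊓ N) → ℂ, Cfsg.IsCharacter ↥((P : Subgroup G) ⊓ N) lam → lam 1 = 1 → ∃ μ : ↥(P : Subgroup G) → ℂ, Cfsg.IsCharacter ↥(P : Subgroup G) μ ∧ μ 1 = 1 ∧ ∀ x : ↥((P : Subgroup G) ⊓ N), μ ⟨(x : G), x.2.1⟩ = lam x) (ϑ : N → ℂ) (hϑ : Cfsg.IsIrrCharacter N ϑ) (hinv : ∀ (g : G) (n : N), ϑ ⟨g * n * g⁻¹, hN.conj_mem (n : G) n.2 g⟩ = ϑ n) : ∃ χ : G → ℂ, Cfsg.IsIrrCharacter G χ ∧ ∀ n : N, χ n = ϑ n := by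
  classical
  obtain ⟨k, hk⟩ := hind
  have hp : p.Prime := Fact.out
  have htriv : ∀ z ∈ (P : Subgroup G) ⊓ N, z ∈ ⁅(P : Subgroup G), (P : Subgroup G)⁆ → z = 1 := by
    intro z hz hzc
    exact eq_one_of_mem_commutator_of_linear_extend (P : Subgroup G) ((P : Subgroup G) ⊓ N)
      inf_le_left hcent hlin hz hzc
  obtain ⟨E, φ, hE, hEN, hφ, -, m, hpm, hm⟩ :=
    Cfsg.Agent.S0896.result p hp N ⟨k, hk⟩ ϑ hϑ hinv
  obtain ⟨hab, hcomm1⟩ := elementary_inf_facts N hk P hcent htriv E hE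
  -- `φ` is linear
  have hφ1 : φ 1 = 1 :=
    irr_one_eq_one_of_comm (fun a b => Subtype.ext (hab a a.2 b b.2)) hφ
  have hφc : IsCharacter ↥(E ⊓ N) φ := Helper74.isCharacter_of_isIrr hφ
  let lam : ↥(E ⊓ N) →* ℂˣ := linCharUnits hφc hφ1
  let B' : Subgroup ↥E := (E ⊓ N).subgroupOf E
  let iso : ↥B' ≃* ↥(E ⊓ N) := Subgroup.subgroupOfEquivOfLe inf_le_left
  let lam' : ↥B' →* ℂˣ := lam.comp iso.toMonoidHom
  obtain ⟨μ, hμ⟩ := exists_hom_extension_of_commutator B' lam' (by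
    intro b hb
    have hbN : (((b : ↥E)) : G) ∈ N := (Subgroup.mem_subgroupOf.mp b.2).2
    have h1 : (b : ↥E) = 1 := hcomm1 (b : ↥E) hbN hb
    have h2 : b = 1 := Subtype.ext h1
    rw [h2, map_one])
  -- the extension `φh` of `φ` to `E`
  have hφh : IsCharacter ↥E (unitsFun μ) := (isCharacter_unitsFun μ).1
  have hφhB : ∀ x : ↥(E ⊓ N), unitsFun μ ⟨(x : G), x.2.1⟩ = φ x := by
    intro x
    have hx' : (⟨(x : G), x.2.1⟩ : ↥E) ∈ B' := Subgroup.mem_subgroupOf.mpr x.2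
    have h1 := hμ ⟨⟨(x : G), x.2.1⟩, hx'⟩
    have h2 : iso ⟨⟨(x : G), x.2.1⟩, hx'⟩ = x := Subtype.ext rfl
    have h3 : lam' ⟨⟨(x : G), x.2.1⟩, hx'⟩ = lam x := by
      show lam (iso ⟨⟨(x : G), x.2.1⟩, hx'⟩) = lam x
      rw [h2]
    rw [unitsFun_apply]
    have h4 : μ ⟨(x : G), x.2.1⟩ = lam x := by rw [← h3, ← h1]
    rw [h4]
    exact linCharUnits_apply hφc hφ1 x
  -- the induced character
  have hΨ : IsCharacter G (indFun E (unitsFun μ)) := isCharacter_indFun E hφh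
  have hmult : classInner (fun n : N => indFun E (unitsFun μ) (n : G)) ϑ = (m : ℂ) := by
    rw [classInner_restrict_indFun N ϑ hinv E hEN (unitsFun μ)]
    rw [finsum_eq_sum_of_fintype] at hm
    have h1 := congrArg conj hm
    rw [map_mul, map_inv₀, map_natCast, map_natCast, map_sum] at h1
    rw [← h1]
    congr 1
    apply Finset.sum_congr rfl
    intro x _
    rw [map_mul, Complex.conj_conj, hφhB x, mul_comm]
  -- expand in irreducibles
  have := Helper74.irrFintype G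
  have hexp := Helper74.isCharacter_eq_sum_irr hΨ
  have hmult2 : (m : ℂ) = ∑ ψ : IrrCharacter G,
      classInner (indFun E (unitsFun μ)) (ψ : G → ℂ) *
        classInner (fun n : N => (ψ : G → ℂ) (n : G)) ϑ := by
    rw [← hmult]
    have h1 : (fun n : N => indFun E (unitsFun μ) (n : G)) =
        ∑ ψ : IrrCharacter G, classInner (indFun E (unitsFun μ)) (ψ : G → ℂ) •
          (fun n : N => (ψ : G → ℂ) (n : G)) := by
      funext n
      conv_lhs => rw [hexp]
      simp only [Finset.sum_apply, Pi.smul_apply]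
    rw [h1, classInner_finset_sum_left]
    apply Finset.sum_congr rfl
    intro ψ _
    rw [classInner_smul_left]
  choose b hb using fun ψ : IrrCharacter G => Helper74.isCharacter_inner_irr_nat hΨ ψ
  choose a ha using fun ψ : IrrCharacter G => Helper74.isCharacter_inner_irr_nat
    (Helper74.isCharacter_restrict N (Helper74.isCharacter_of_isIrr ψ.2)) (⟨ϑ, hϑ⟩ : IrrCharacter N)
  have hmult3 : m = ∑ ψ : IrrCharacter G, b ψ * a ψ := by
    have : (m : ℂ) = ((∑ ψ : IrrCharacter G, b ψ * a ψ : ℕ) : ℂ) := by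
      rw [hmult2]
      push_cast
      apply Finset.sum_congr rfl
      intro ψ _
      rw [hb ψ]
      congr 1
      exact ha ψ
    exact_mod_cast this
  obtain ⟨χ, hχ⟩ : ∃ χ : IrrCharacter G, ¬ p ∣ b χ * a χ := by
    by_contra hcon
    push Not at hcon
    apply hpm
    rw [hmult3]
    exact Finset.dvd_sum (fun ψ _ => hcon ψ)
  have hpa : ¬ p ∣ a χ := fun h => hχ (dvd_mul_of_dvd_right h _)
  have ha0 : a χ ≠ 0 := by
    intro h0
    apply hpa
    rw [h0]
    exact dvd_zero p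
  have haχ : classInner (fun n : N => (χ : G → ℂ) (n : G)) ϑ = (a χ : ℂ) := ha χ
  have hcon : classInner (fun n : N => (χ : G → ℂ) (n : G)) ϑ ≠ 0 := by
    rw [haχ]
    exact_mod_cast ha0
  have hres := restrict_eq_smul_of_invariant N χ.2 hϑ hcon (fun g => funext (hinv g))
  rw [haχ] at hres
  obtain ⟨d, hd0, hd⟩ := irr_degree_pos hϑ
  have hχ1 : (χ : G → ℂ) 1 = ((a χ * d : ℕ) : ℂ) := by
    have := congrFun hres 1
    simp only [Pi.smul_apply, smul_eq_mul] at this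
    rw [hd] at this
    push_cast
    rw [← this]
    rfl
  obtain ⟨-, hdvd⟩ := Cfsg.Agent.S0887.result N (χ : G → ℂ) χ.2 ϑ hϑ hcon (a χ * d) d hχ1 hd
  rw [Nat.mul_div_cancel _ hd0, hk] at hdvd
  obtain ⟨j, -, hj⟩ := (Nat.dvd_prime_pow hp).mp hdvd
  have hj0 : j = 0 := by
    by_contra hne
    apply hpa
    rw [hj]
    exact dvd_pow_self p hne
  rw [hj0, pow_zero] at hj
  refine ⟨(χ : G → ℂ), χ.2, fun n => ?_⟩
  have := congrFun hres n
  simp only [Pi.smul_apply, smul_eq_mul] at this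
  rw [hj, Nat.cast_one, one_mul] at this
  exact this

end Cfsg.Agent.S0897
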