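import Cfsg.Statements.S0900
import Cfsg.Agent.Helper15.CliffordCorr

set_option autoImplicit false
set_option linter.unusedSectionVars false
open Cfsg

namespace Cfsg.Agent.S0900

open Cfsg.Agent.Helper15
open scoped ComplexConjugate

universe u

variable {G : Type u} [Group G] [Fintype G]

/-- `∑_{g ∈ G} χ(g) conj χ(g) = |G|` for irreducible `χ`. -/
theorem sum_mul_conj_irr {χ : G → ℂ} (hχ : IsIrrCharacter G χ) :
    ∑ g : G, χ g * conj (χ g) = (Nat.card G : ℂ) := by
  have h := Helper74.irr_inner_self ⟨χ, hχ⟩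
  rw [classInner_apply] at h
  have hG : (Nat.card G : ℂ) ≠ 0 := by
    have : Nat.card G ≠ 0 := Nat.card_pos.ne'
    exact_mod_cast this
  field_simp at h
  exact h

open Classical in
/-- Split a sum over `G` along a subgroup. -/
theorem sum_split (N : Subgroup G) [Fintype N] (F : G → ℂ) :
    ∑ g : G, F g = ∑ n : N, F n + ∑ g ∈ Finset.univ.filter (fun g : G => g ∉ N), F g := by
  classical
  rw [← Finset.sum_filter_add_sum_filter_not Finset.univ (fun g : G => g ∈ N) F]
  congr 1
  rw [Finset.sum_subtype (p := fun g : G => g ∈ N) (Finset.univ.filter (fun g : G => g ∈ N))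
    (by intro x; simp) F]

/-- `χ` vanishes off `N` iff `∑_{n ∈ N} |χ n|² = |G|`. -/
theorem vanish_off_iff (N : Subgroup G) [Fintype N] {χ : G → ℂ} (hχ : IsIrrCharacter G χ) :
    (∀ g : G, g ∉ N → χ g = 0) ↔ ∑ n : N, χ n * conj (χ n) = (Nat.card G : ℂ) := by
  classical
  have hsplit := sum_split N (fun g => χ g * conj (χ g))
  rw [sum_mul_conj_irr hχ] at hsplit
  constructor
  · intro hvan
    have : ∑ g ∈ Finset.univ.filter (fun g : G => g ∉ N), χ g * conj (χ g) = 0 := by
      apply Finset.sum_eq_zero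
      intro g hg
      have : g ∉ N := by simpa using hg
      rw [hvan g this, zero_mul]
    rw [this, add_zero] at hsplit
    exact hsplit.symm
  · intro hsum g hg
    rw [hsum] at hsplit
    have h0 : ∑ g ∈ Finset.univ.filter (fun g : G => g ∉ N), χ g * conj (χ g) = 0 := by
      have := hsplit
      linear_combination (-1 : ℂ) * this
    have h1 : ∀ g : G, χ g * conj (χ g) = ((Complex.normSq (χ g) : ℝ) : ℂ) :=
      fun g => Complex.mul_conj (χ g)
    simp only [h1] at h0
    have h2 : ∑ g ∈ Finset.univ.filter (fun g : G => g ∉ N), Complex.normSq (χ g) = 0 := by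
      have : ((∑ g ∈ Finset.univ.filter (fun g : G => g ∉ N), Complex.normSq (χ g) : ℝ) : ℂ)
          = 0 := by
        push_cast
        exact h0
      exact_mod_cast this
    have h3 := (Finset.sum_eq_zero_iff_of_nonneg (fun g _ => Complex.normSq_nonneg (χ g))).mp h2 g
      (by simp [hg])
    exact Complex.normSq_eq_zero.mp h3

variable (N : Subgroup G) [hN : N.Normal] [Fintype N]

/-- If `χ_N = e • ϑ` with `e ≠ 0` then `ϑ` is invariant. -/
theorem invariant_of_restrict_eq_smul {χ : G → ℂ} (hχ : IsIrrCharacter G χ) {ϑ : N → ℂ}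
    {e : ℕ} (he0 : e ≠ 0) (hres : (fun n : N => χ n) = (e : ℂ) • ϑ) (g : G) :
    conjFun N g ϑ = ϑ := by
  have hχcf : IsClassFunction G χ :=
    Helper74.isClassFunction_of_isCharacter (Helper74.isCharacter_of_isIrr hχ)
  have h1 := conjFun_restrict N hχcf g
  rw [hres, conjFun_smul] at h1
  have he : (e : ℂ) ≠ 0 := by exact_mod_cast he0
  funext n
  have := congrFun h1 n
  simp only [Pi.smul_apply, smul_eq_mul] at this
  exact mul_left_cancel₀ he this

/-- The norm of `χ_N = e • ϑ`. -/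
theorem sum_restrict_of_eq_smul {χ : G → ℂ} {ϑ : N → ℂ} (hϑ : IsIrrCharacter N ϑ)
    {e : ℕ} (hres : (fun n : N => χ n) = (e : ℂ) • ϑ) :
    ∑ n : N, χ n * conj (χ n) = (Nat.card N : ℂ) * (e : ℂ) ^ 2 := by
  have h := Helper74.irr_inner_self ⟨ϑ, hϑ⟩
  rw [classInner_apply] at h
  have hNne : (Nat.card N : ℂ) ≠ 0 := by
    have : Nat.card N ≠ 0 := Nat.card_pos.ne'
    exact_mod_cast this
  have h' : ∑ n : N, ϑ n * conj (ϑ n) = (Nat.card N : ℂ) := by
    field_simp at h
    exact h
  have : ∀ n : N, χ n * conj (χ n) = (e : ℂ) ^ 2 * (ϑ n * conj (ϑ n)) := by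
    intro n
    have := congrFun hres n
    simp only [Pi.smul_apply, smul_eq_mul] at this
    rw [this]
    simp only [map_mul, Complex.conj_natCast]
    ring
  simp only [this]
  rw [← Finset.mul_sum, h']
  ring

theorem card_eq_card_mul_index_complex :
    (Nat.card G : ℂ) = (Nat.card N : ℂ) * (N.index : ℂ) := by
  rw [← N.card_mul_index]; push_cast; ring

/-- If `Ψ` is a character, `χ` irreducible with multiplicity `m` in `Ψ` and `Ψ 1 = m χ 1`, then
`χ` is the only irreducible constituent of `Ψ`. -/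
theorem only_constituent {Ψ χ : G → ℂ} (hΨ : IsCharacter G Ψ) (hχ : IsIrrCharacter G χ)
    (m : ℕ) (hm : classInner Ψ χ = m) (hdeg : Ψ 1 = (m : ℂ) * χ 1) {ψ : G → ℂ}
    (hψ : IsIrrCharacter G ψ) (hcon : classInner Ψ ψ ≠ 0) : ψ = χ := by
  classical
  let _ := Helper74.irrFintype G
  have hdec := Helper74.isCharacter_eq_sum_irr hΨ
  choose mm hmm using fun ξ : IrrCharacter G => Helper74.isCharacter_inner_irr_nat hΨ ξ
  choose d hdpos hd using fun ξ : IrrCharacter G => irr_degree_pos ξ.2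
  let χ' : IrrCharacter G := ⟨χ, hχ⟩
  let ψ' : IrrCharacter G := ⟨ψ, hψ⟩
  have hmχ : mm χ' = m := by
    have h1 : classInner Ψ (χ' : G → ℂ) = mm χ' := hmm χ'
    have h2 : classInner Ψ (χ' : G → ℂ) = m := hm
    rw [h1] at h2
    exact_mod_cast h2
  have hdegN : ((∑ ξ : IrrCharacter G, mm ξ * d ξ : ℕ) : ℂ) = ((m * d χ' : ℕ) : ℂ) := by
    have h1 : Ψ 1 = ((∑ ξ : IrrCharacter G, mm ξ * d ξ : ℕ) : ℂ) := by
      conv_lhs => rw [hdec]
      push_cast
      rw [Finset.sum_apply]
      apply Finset.sum_congr rfl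
      intro ξ _
      rw [Pi.smul_apply, hmm ξ, hd ξ, smul_eq_mul]
    rw [← h1, hdeg]
    have : χ 1 = d χ' := hd χ'
    rw [this]
    push_cast
    ring
  have hdegN' : ∑ ξ : IrrCharacter G, mm ξ * d ξ = m * d χ' := by exact_mod_cast hdegN
  have hsplit : ∑ ξ : IrrCharacter G, mm ξ * d ξ
      = mm χ' * d χ' + ∑ ξ ∈ Finset.univ.erase χ', mm ξ * d ξ :=
    (Finset.add_sum_erase Finset.univ (fun ξ => mm ξ * d ξ) (Finset.mem_univ χ')).symm
  have hzero : ∑ ξ ∈ Finset.univ.erase χ', mm ξ * d ξ = 0 := by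
    rw [hsplit, hmχ] at hdegN'
    omega
  by_contra hne
  have hne' : ψ' ≠ χ' := fun h => hne (congrArg Subtype.val h)
  have h3 := (Finset.sum_eq_zero_iff.mp hzero) ψ' (Finset.mem_erase.mpr ⟨hne', Finset.mem_univ _⟩)
  rcases Nat.mul_eq_zero.mp h3 with h | h
  · apply hcon
    have : classInner Ψ (ψ' : G → ℂ) = mm ψ' := hmm ψ'
    rw [h] at this
    simpa using this
  · exact absurd h (hdpos ψ').ne'

/-- Let N be a normal subgroup of the finite group G, χ an irreducible character of G and ϑ an irreducible character of N having nonzero inner product with the restriction of χ. Consider: (a) the restriction of χ to N is e • ϑ for a natural number e with e ^ 2 equal to the index of N; (b) χ vanishes outside N and ϑ is invariant under conjugation by G; (c) ϑ is invariant and every irreducible character of G having nonzero inner product with the function induced from ϑ equals χ. Then (a) ↔ (b) and (a) ↔ (c). -/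
theorem result {G : Type*} [Group G] [Fintype G] (N : Subgroup G) [hN : N.Normal] [Fintype N] (χ : G → ℂ) (hχ : Cfsg.IsIrrCharacter G χ) (ϑ : N → ℂ) (hϑ : Cfsg.IsIrrCharacter N ϑ) (hcon : Cfsg.classInner (fun n : N => χ n) ϑ ≠ 0) : ((∃ e : ℕ, (fun n : N => χ n) = (e : ℂ) • ϑ ∧ e ^ 2 = N.index) ↔ ((∀ g : G, g ∉ N → χ g = 0) ∧ ∀ (g : G) (n : N), ϑ ⟨g * n * g⁻¹, hN.conj_mem (n : G) n.2 g⟩ = ϑ n)) ∧ ((∃ e : ℕ, (fun n : N => χ n) = (e : ℂ) • ϑ ∧ e ^ 2 = N.index) ↔ (∀ (g : G) (n : N), ϑ ⟨g * n * g⁻¹, hN.conj_mem (n : G) n.2 g⟩ = ϑ n ∧ ∀ ψ : G → ℂ, Cfsg.IsIrrCharacter G ψ → Cfsg.classInner (Cfsg.indFun N ϑ) ψ ≠ 0 → ψ = χ)) := by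
  classical
  have hχc : IsCharacter G χ := Helper74.isCharacter_of_isIrr hχ
  have hχcf : IsClassFunction G χ := Helper74.isClassFunction_of_isCharacter hχc
  have hϑc : IsCharacter N ϑ := Helper74.isCharacter_of_isIrr hϑ
  have hNne : (Nat.card N : ℂ) ≠ 0 := by
    have : Nat.card N ≠ 0 := Nat.card_pos.ne'
    exact_mod_cast this
  have hidx0 : N.index ≠ 0 := Subgroup.index_ne_zero_of_finite
  obtain ⟨d, hdpos, hd⟩ := irr_degree_pos hϑ
  have hd0 : (d : ℂ) ≠ 0 := by exact_mod_cast hdpos.ne'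
  obtain ⟨e₀, he₀⟩ := isCharacter_inner_nat (Helper74.isCharacter_restrict N hχc) hϑc
  -- invariance gives `χ_N = e₀ • ϑ`
  have hInvRes : (∀ g : G, conjFun N g ϑ = ϑ) → (fun n : N => χ n) = (e₀ : ℂ) • ϑ := by
    intro hinv
    have := restrict_eq_smul_of_invariant N hχ hϑ hcon hinv
    rwa [he₀] at this
  have hInvIff : (∀ (g : G) (n : N), ϑ ⟨g * n * g⁻¹, hN.conj_mem (n : G) n.2 g⟩ = ϑ n)
      ↔ ∀ g : G, conjFun N g ϑ = ϑ := by
    constructor
    · intro h g; funext n; exact h g n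
    · intro h g n; exact congrFun (h g) n
  -- `(a) → invariance`
  have hAInv : (∃ e : ℕ, (fun n : N => χ n) = (e : ℂ) • ϑ ∧ e ^ 2 = N.index) →
      ∀ g : G, conjFun N g ϑ = ϑ := by
    rintro ⟨e, hres, he2⟩ g
    have he0 : e ≠ 0 := by
      intro h0; rw [h0] at he2; exact hidx0 (by simpa using he2.symm)
    exact invariant_of_restrict_eq_smul N hχ he0 hres g
  -- degree of `χ` under `(a)`-type restriction
  have hχ1 : ∀ e : ℕ, (fun n : N => χ n) = (e : ℂ) • ϑ → χ 1 = (e : ℂ) * d := by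
    intro e hres
    have := congrFun hres 1
    simp only [Pi.smul_apply, smul_eq_mul, hd] at this
    rw [← this]; simp
  -- multiplicity of `χ` in `ϑ^G`
  have hmult : ∀ e : ℕ, (fun n : N => χ n) = (e : ℂ) • ϑ → classInner (indFun N ϑ) χ = e := by
    intro e hres
    rw [frobenius_reciprocity N ϑ χ hχcf, hres, classInner_smul_right,
      Helper74.irr_inner_self ⟨ϑ, hϑ⟩]
    simp
  refine ⟨⟨?_, ?_⟩, ⟨?_, ?_⟩⟩
  · -- (a) → (b)
    intro hA
    have hinv := hAInv hA
    obtain ⟨e, hres, he2⟩ := hA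
    refine ⟨?_, hInvIff.mpr hinv⟩
    rw [vanish_off_iff N hχ, sum_restrict_of_eq_smul N hϑ hres, card_eq_card_mul_index_complex N]
    congr 1
    exact_mod_cast he2
  · -- (b) → (a)
    rintro ⟨hvan, hinv⟩
    have hres := hInvRes (hInvIff.mp hinv)
    refine ⟨e₀, hres, ?_⟩
    have h1 := (vanish_off_iff N hχ).mp hvan
    rw [sum_restrict_of_eq_smul N hϑ hres, card_eq_card_mul_index_complex N] at h1
    have h2 : ((e₀ ^ 2 : ℕ) : ℂ) = ((N.index : ℕ) : ℂ) := by
      push_cast
      exact mul_left_cancel₀ hNne h1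
    exact_mod_cast h2
  · -- (a) → (c)
    intro hA g n
    have hinv := hAInv hA
    obtain ⟨e, hres, he2⟩ := hA
    refine ⟨congrFun (hinv g) n, ?_⟩
    intro ψ hψ hψcon
    refine only_constituent (isCharacter_indFun N hϑc) hχ e (hmult e hres) ?_ hψ hψcon
    rw [indFun_apply_one, hd, hχ1 e hres, ← he2]
    push_cast
    ring
  · -- (c) → (a)
    intro hC
    have hinv : ∀ g : G, conjFun N g ϑ = ϑ := by
      intro g; funext n; exact (hC g n).1
    have honly := (hC 1 1).2
    have hres := hInvRes hinv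
    refine ⟨e₀, hres, ?_⟩
    let _ := Helper74.irrFintype G
    have hdec := Helper74.isCharacter_eq_sum_irr (isCharacter_indFun N hϑc)
    have hsingle : indFun N ϑ = (e₀ : ℂ) • χ := by
      rw [hdec, Finset.sum_eq_single (⟨χ, hχ⟩ : IrrCharacter G)]
      · rw [hmult e₀ hres]
      · intro ψ _ hne
        by_contra h0
        have hne0 : classInner (indFun N ϑ) (ψ : G → ℂ) ≠ 0 := by
          intro hz; apply h0; rw [hz, zero_smul]
        exact hne (Subtype.ext (honly ψ ψ.2 hne0))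
      · intro hn; exact absurd (Finset.mem_univ _) hn
    have h1 := congrFun hsingle 1
    rw [indFun_apply_one, Pi.smul_apply, smul_eq_mul, hd, hχ1 e₀ hres] at h1
    have h2 : ((N.index : ℕ) : ℂ) = ((e₀ ^ 2 : ℕ) : ℂ) := by
      push_cast
      have : (N.index : ℂ) * d = ((e₀ : ℂ) ^ 2) * d := by rw [h1]; ring
      exact mul_right_cancel₀ hd0 this
    exact_mod_cast h2.symm

end Cfsg.Agent.S0900
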