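import Cfsg.Statements.S0903
import Mathlib

set_option autoImplicit false
open Cfsg

namespace Cfsg.Agent.S0903

/-- The set of pairs on which the `p`-group acts. -/
abbrev PairSet {G : Type*} [Group G] (g h c : G) : Type _ :=
  {xy : G × G // IsConj g xy.1 ∧ IsConj h xy.2 ∧ xy.1 * xy.2 = c}

/-- Simultaneous conjugation by elements of a subgroup centralizing `c`. -/
@[reducible] def pairAction {G : Type*} [Group G] (P : Subgroup G) (g h c : G)
    (hc : c ∈ Subgroup.centralizer (P : Set G)) : MulAction P (PairSet g h c) where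
  smul u xy := ⟨((u : G) * xy.1.1 * (u : G)⁻¹, (u : G) * xy.1.2 * (u : G)⁻¹), by
    obtain ⟨⟨x, y⟩, h1, h2, h3⟩ := xy
    refine ⟨?_, ?_, ?_⟩
    · exact h1.trans (isConj_iff.mpr ⟨u, rfl⟩)
    · exact h2.trans (isConj_iff.mpr ⟨u, rfl⟩)
    · simp only at h3 ⊢
      have hcu : (u : G) * c = c * (u : G) := (Subgroup.mem_centralizer_iff.mp hc (u : G) u.2)
      calc (u : G) * x * (u : G)⁻¹ * ((u : G) * y * (u : G)⁻¹)
          = (u : G) * (x * y) * (u : G)⁻¹ := by group
        _ = (u : G) * c * (u : G)⁻¹ := by rw [h3]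
        _ = c := by rw [hcu]; group⟩
  one_smul xy := by
    apply Subtype.ext
    show (((1 : P) : G) * xy.1.1 * ((1 : P) : G)⁻¹, ((1 : P) : G) * xy.1.2 * ((1 : P) : G)⁻¹) = xy.1
    simp
  mul_smul u v xy := by
    apply Subtype.ext
    show (((u * v : P) : G) * xy.1.1 * ((u * v : P) : G)⁻¹,
        ((u * v : P) : G) * xy.1.2 * ((u * v : P) : G)⁻¹)
      = ((u : G) * ((v : G) * xy.1.1 * (v : G)⁻¹) * (u : G)⁻¹,
        (u : G) * ((v : G) * xy.1.2 * (v : G)⁻¹) * (u : G)⁻¹)
    simp [mul_assoc]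

/-- Let P be a p-subgroup of the finite group G, let c centralize P and let g, h ∈ G. The number of pairs (x, y) with x conjugate to g, y conjugate to h and x * y = c is congruent modulo p to the number of such pairs in which x and y both centralize P. (This is why the Brauer map on class sums is multiplicative.) -/
theorem result {G : Type*} [Group G] [Finite G] (p : ℕ) [Fact p.Prime] (P : Subgroup G) (hP : IsPGroup p P) (c : G) (hc : c ∈ Subgroup.centralizer (P : Set G)) (g h : G) : Nat.card {xy : G × G // IsConj g xy.1 ∧ IsConj h xy.2 ∧ xy.1 * xy.2 = c} ≡ Nat.card {xy : G × G // IsConj g xy.1 ∧ IsConj h xy.2 ∧ xy.1 * xy.2 = c ∧ xy.1 ∈ Subgroup.centralizer (P : Set G) ∧ xy.2 ∈ Subgroup.centralizer (P : Set G)} [MOD p] := by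
  let _ := pairAction P g h c hc
  have hfin : Finite (PairSet g h c) := Subtype.finite
  have key := hP.card_modEq_card_fixedPoints (PairSet g h c)
  refine key.trans ?_
  have hsmul : ∀ (u : P) (xy : PairSet g h c),
      (u • xy).1 = ((u : G) * xy.1.1 * (u : G)⁻¹, (u : G) * xy.1.2 * (u : G)⁻¹) := fun _ _ => rfl
  suffices hsuff : Nat.card (MulAction.fixedPoints P (PairSet g h c)) = Nat.card {xy : G × G // IsConj g xy.1 ∧ IsConj h xy.2 ∧ xy.1 * xy.2 = c ∧ xy.1 ∈ Subgroup.centralizer (P : Set G) ∧ xy.2 ∈ Subgroup.centralizer (P : Set G)} by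
    rw [hsuff]
  apply Nat.card_congr
  refine
    { toFun := fun z => ⟨z.1.1, z.1.2.1, z.1.2.2.1, z.1.2.2.2, ?_, ?_⟩
      invFun := fun w => ⟨⟨w.1, w.2.1, w.2.2.1, w.2.2.2.1⟩, ?_⟩
      left_inv := fun z => rfl
      right_inv := fun w => rfl }
  · rw [Subgroup.mem_centralizer_iff]
    intro u hu
    have := congrArg (fun t => t.1.1) (z.2 ⟨u, hu⟩)
    simp only [hsmul] at this
    calc u * z.1.1.1 = (u * z.1.1.1 * u⁻¹) * u := by group
      _ = z.1.1.1 * u := by rw [this]
  · rw [Subgroup.mem_centralizer_iff]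
    intro u hu
    have := congrArg (fun t => t.1.2) (z.2 ⟨u, hu⟩)
    simp only [hsmul] at this
    calc u * z.1.1.2 = (u * z.1.1.2 * u⁻¹) * u := by group
      _ = z.1.1.2 * u := by rw [this]
  · intro u
    apply Subtype.ext
    rw [hsmul]
    have h1 := Subgroup.mem_centralizer_iff.mp w.2.2.2.2.1 (u : G) u.2
    have h2 := Subgroup.mem_centralizer_iff.mp w.2.2.2.2.2 (u : G) u.2
    apply Prod.ext
    · show (u : G) * w.1.1 * (u : G)⁻¹ = w.1.1
      rw [h1]; group
    · show (u : G) * w.1.2 * (u : G)⁻¹ = w.1.2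
      rw [h2]; group

end Cfsg.Agent.S0903
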