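import Cfsg.Statements.S0905
-- import your own Cfsg.Agent.* helpers here
import Cfsg.Agent.Helper77.ClassNilpotent
import Cfsg.Agent.Lib.Cores

set_option autoImplicit false
open Cfsg

namespace Cfsg.Agent.S0905

/-- Let F be a field of characteristic p and let g be an element of the finite group G no conjugate of which centralizes O_p(G). Then the class sum of g is a nilpotent element of the group algebra F[G]. -/
theorem result {G : Type*} [Group G] [Finite G] (p : ℕ) [Fact p.Prime] (F : Type*) [Field F] [CharP F p] (g : G) (hg : ∀ x : G, IsConj g x → x ∉ Subgroup.centralizer (Cfsg.pCore p G : Set G)) : IsNilpotent (∑ᶠ x ∈ ConjClasses.carrier (ConjClasses.mk g), MonoidAlgebra.single x (1 : F) : MonoidAlgebra F G) := by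
  classical
  have : Fintype G := Fintype.ofFinite G
  set O : Subgroup G := Cfsg.pCore p G with hO
  have hOc : O.Characteristic := Cfsg.Agent.Lib.pCore_characteristic p
  have hOn : O.Normal := inferInstance
  have hOp : IsPGroup p O := Cfsg.Agent.Lib.isPGroup_pCore p
  have h := Helper77.classSum_isNilpotent p (F := F) O hOp g (hg g (IsConj.refl g))
  have heq : (∑ᶠ x ∈ ConjClasses.carrier (ConjClasses.mk g), MonoidAlgebra.single x (1 : F) :
      MonoidAlgebra F G) =
      ∑ k ∈ Finset.univ.filter (fun k => IsConj g k), MonoidAlgebra.single k (1 : F) := by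
    rw [finsum_mem_eq_finite_toFinset_sum _ (Set.toFinite _)]
    refine Finset.sum_congr ?_ (fun _ _ => rfl)
    ext x
    simp only [Set.Finite.mem_toFinset, Finset.mem_filter, Finset.mem_univ, true_and,
      ConjClasses.mem_carrier_iff_mk_eq, ConjClasses.mk_eq_mk_iff_isConj]
    exact ⟨fun h => h.symm, fun h => h.symm⟩
  rw [heq]
  exact h

end Cfsg.Agent.S0905
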