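import Cfsg.Statements.S0909
-- import your own Cfsg.Agent.* helpers here
import Cfsg.Agent.Helper16.BlockIdem
import Cfsg.Agent.Helper78.BlockBasic

set_option autoImplicit false
open Cfsg

namespace Cfsg.Agent.S0909

open Cfsg.Agent.Helper16
open scoped ComplexConjugate

section

variable {G : Type*} [Group G] [Fintype G]

/-- The idempotent coefficient function of any set of irreducible characters is a class
function. -/
theorem isClassFunction_blockCoeff (A : Set (IrrCharacter G)) :
    IsClassFunction G (blockCoeff A) := by
  classical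
  intro g h
  rw [blockCoeff_eq_sum, blockCoeff_eq_sum]
  congr 1
  refine Finset.sum_congr rfl fun φ _ => ?_
  rw [irr_isClassFunction φ g h]

/-- The central character of `ψ` takes the value `1` or `0` on the idempotent of `A` according
as `ψ ∈ A` or not. -/
theorem omega_blockCoeff (A : Set (IrrCharacter G)) [DecidablePred (· ∈ A)]
    (ψ : IrrCharacter G) :
    omega (ψ : G → ℂ) (blockCoeff A) = if ψ ∈ A then 1 else 0 := by
  classical
  have h1 := irr_one_ne_zero ψ
  unfold omega
  rw [div_eq_iff h1]
  have hsum : ∑ x : G, blockCoeff A x * (ψ : G → ℂ) x =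
      ∑ φ : IrrCharacter G, (if φ ∈ A then (1 : ℂ) else 0) * (φ : G → ℂ) 1 *
        classInner (ψ : G → ℂ) (φ : G → ℂ) := by
    simp_rw [blockCoeff_eq_sum, Finset.mul_sum, Finset.sum_mul]
    rw [Finset.sum_comm]
    refine Finset.sum_congr rfl fun φ _ => ?_
    unfold classInner
    rw [Finset.mul_sum, Finset.mul_sum]
    refine Finset.sum_congr rfl fun x _ => ?_
    ring
  rw [hsum]
  simp_rw [Cfsg.Agent.Helper79.classInner_irr]
  rw [Finset.sum_eq_single ψ]
  · simp
  · intro φ _ hne
    rw [if_neg (Ne.symm hne), mul_zero]
  · intro h; exact absurd (Finset.mem_univ ψ) h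

end

/-- Let A be a set of irreducible characters of the finite group G such that, for every g, the inverse of the group order times the sum over χ ∈ A of χ 1 * conj (χ g) is a local integer at the maximal ideal M (containing the prime p) of the algebraic integers. Then A is a union of blocks relative to M: it contains the whole block of each of its members. -/
theorem result {G : Type*} [Group G] [Finite G] (p : ℕ) [Fact p.Prime] (M : Ideal Cfsg.AlgInt) (hM : Cfsg.IsPModular p M) (A : Set (Cfsg.IrrCharacter G)) (hA : ∀ g : G, Cfsg.MemLocalRing M (Cfsg.blockCoeff A g)) (χ : Cfsg.IrrCharacter G) (hχ : χ ∈ A) : Cfsg.blockOf M (χ : G → ℂ) ⊆ A := by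
  classical
  have := Fintype.ofFinite G
  have hM' : M.IsPrime := hM.2.1.isPrime
  intro ψ hψ
  by_contra hψA
  have h1 := omega_sub_memLocalIdeal (M := M) hψ (isClassFunction_blockCoeff A) hA
  rw [omega_blockCoeff A χ, omega_blockCoeff A ψ, if_pos hχ, if_neg hψA, sub_zero] at h1
  exact Cfsg.Agent.Helper78.not_memLocalIdeal_one hM' h1

end Cfsg.Agent.S0909
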