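import Cfsg.Statements.S0913
import Cfsg.Agent.Helper16.BlockIdem

set_option autoImplicit false
open Cfsg

namespace Cfsg.Agent.S0913

open Cfsg.Agent.Helper16

/-- Osima's Theorem: for a p-block B and any group element g, the idempotent coefficient of B at g is a local integer at M. -/
theorem result {G : Type*} [Group G] [Finite G] (p : ℕ) [Fact p.Prime] (M : Ideal Cfsg.AlgInt) (hM : Cfsg.IsPModular p M) (B : Set (Cfsg.IrrCharacter G)) (hB : Cfsg.IsPBlock M B) (g : G) : Cfsg.MemLocalRing M (Cfsg.blockCoeff B g) := by
  have : Fintype G := Fintype.ofFinite G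
  have : M.IsPrime := IsPModular.isPrime hM
  exact osima hB g

end Cfsg.Agent.S0913
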