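import Cfsg.Statements.S0915
-- import your own Cfsg.Agent.* helpers here
import Cfsg.Agent.Helper77.SupportOn
import Cfsg.Agent.Helper11.PSolvable

set_option autoImplicit false
open Cfsg

namespace Cfsg.Agent.S0915

/-- Let G be a finite p-solvable group with trivial largest normal subgroup of order prime to p. Then any two irreducible characters of G lie in the same block relative to every maximal ideal M of the algebraic integers containing p: G has a single p-block. -/
theorem result {G : Type*} [Group G] [Finite G] (p : ℕ) [Fact p.Prime] (M : Ideal Cfsg.AlgInt) (hM : Cfsg.IsPModular p M) (hsolv : Cfsg.IsPSolvable p G) (hcore : Cfsg.pPrimeCore p G = ⊥) (χ ψ : Cfsg.IrrCharacter G) : Cfsg.SameBlock M (χ : G → ℂ) (ψ : G → ℂ) := by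
  classical
  have : Fintype G := Fintype.ofFinite G
  have hMp : M.IsPrime := Helper77.isPrime_of_isPModular hM
  have hp : p.Prime := hM.1
  set O : Subgroup G := Cfsg.pCore p G with hO
  have hOc : O.Characteristic := Cfsg.Agent.Lib.pCore_characteristic p
  have hOn : O.Normal := inferInstance
  have hOp : IsPGroup p O := Cfsg.Agent.Lib.isPGroup_pCore p
  have hHH : Subgroup.centralizer (O : Set G) ≤ O :=
    Helper11.centralizer_pCore_le_of_isPSolvable hsolv hcore
  have hB : IsPBlock M (blockOf M (χ : G → ℂ)) := ⟨χ, rfl⟩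
  -- the block idempotent of `χ` is supported on the identity
  have hsupp : ∀ g : G, g ≠ 1 → blockCoeff (blockOf M (χ : G → ℂ)) g = 0 := by
    intro g hg
    by_cases hgC : g ∈ Subgroup.centralizer (O : Set G)
    · apply Helper77.blockCoeff_eq_zero_of_dvd_orderOf hM hB
      obtain ⟨k, hk⟩ := hOp ⟨g, hHH hgC⟩
      have hk' : g ^ p ^ k = 1 := by
        have := congrArg (fun y : O => (y : G)) hk
        simpa using this
      obtain ⟨j, _, hj'⟩ := (Nat.dvd_prime_pow hp).1 (orderOf_dvd_of_pow_eq_one hk')
      have hj0 : j ≠ 0 := by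
        rintro rfl
        rw [pow_zero, orderOf_eq_one_iff] at hj'
        exact hg hj'
      rw [hj']
      exact dvd_pow_self p hj0
    · exact Helper77.blockCoeff_eq_zero_of_not_mem_centralizer hM O hOp hB g hgC
  obtain ⟨_, _, hom⟩ := Helper16.osima_strong (M := M) χ
  have homega : ∀ φ : IrrCharacter G,
      Helper16.omega (φ : G → ℂ) (blockCoeff (blockOf M (χ : G → ℂ))) =
        blockCoeff (blockOf M (χ : G → ℂ)) 1 := by
    intro φ
    unfold Helper16.omega
    rw [Finset.sum_eq_single (1 : G)]
    · rw [mul_div_assoc, div_self (Helper16.irr_one_ne_zero φ), mul_one]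
    · intro g _ hg
      rw [hsupp g hg, zero_mul]
    · intro h
      exact absurd (Finset.mem_univ _) h
  have h1 : blockCoeff (blockOf M (χ : G → ℂ)) 1 = 1 := by
    rw [← homega χ, hom χ, if_pos (Helper16.sameBlock_refl _)]
  have h2 := hom ψ
  rw [homega ψ, h1] at h2
  by_contra hne
  rw [if_neg hne] at h2
  exact one_ne_zero h2

end Cfsg.Agent.S0915
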