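import Cfsg.Statements.S0917
import Cfsg.Agent.Helper16.Defect

set_option autoImplicit false
open Cfsg

namespace Cfsg.Agent.S0917

open Cfsg.Agent.Helper16

/-- If a block b of a subgroup H induces the block B of G (Brauer correspondence), then every defect group of b is contained in a defect group of B. -/
theorem result {G : Type*} [Group G] [Finite G] (p : ℕ) [Fact p.Prime] (M : Ideal Cfsg.AlgInt) (hM : Cfsg.IsPModular p M) (H : Subgroup G) (b : Set (Cfsg.IrrCharacter H)) (hb : Cfsg.IsPBlock M b) (B : Set (Cfsg.IrrCharacter G)) (hB : Cfsg.IsPBlock M B) (hind : Cfsg.IsInducedBlock M H b B) (D : Subgroup H) (hD : Cfsg.IsDefectGroup p M b D) : ∃ E : Subgroup G, Cfsg.IsDefectGroup p M B E ∧ D.map H.subtype ≤ E := by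
  classical
  have : Fintype G := Fintype.ofFinite G
  have : Fintype H := Fintype.ofFinite H
  have hMp : M.IsPrime := IsPModular.isPrime hM
  have hpM : (p : AlgInt) ∈ M := hM.2.2
  obtain ⟨ξ₀, rfl⟩ := hb
  obtain ⟨χ₀, rfl⟩ := hB
  have hcong : ∀ g : G, MemLocalIdeal M
      (inducedCentralChar H (ξ₀ : H → ℂ) g - centralChar (χ₀ : G → ℂ) g) :=
    fun g => hind.2.2 ξ₀ (sameBlock_refl _) χ₀ (sameBlock_refl _) g
  obtain ⟨hbc, hbS, hbo⟩ := osima_strong (M := M) χ₀
  -- Step 2: a class with unit block coefficient and unit induced central character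
  have h1 : omega (χ₀ : G → ℂ) (blockCoeff (blockOf M (χ₀ : G → ℂ))) = 1 := by
    rw [hbo χ₀, if_pos (sameBlock_refl _)]
  rw [omega_eq_sum_classes _ _ (irr_isClassFunction χ₀) hbc] at h1
  have hex : ∃ C : ConjClasses G, ¬ MemLocalIdeal M
      (blockCoeff (blockOf M (χ₀ : G → ℂ)) (classRep C) *
        inducedCentralChar H (ξ₀ : H → ℂ) (classRep C)) := by
    by_contra hcon
    have hall : ∀ C : ConjClasses G, MemLocalIdeal M
        (blockCoeff (blockOf M (χ₀ : G → ℂ)) (classRep C) * centralChar (χ₀ : G → ℂ) (classRep C)) := by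
      intro C
      have h2 : MemLocalIdeal M (blockCoeff (blockOf M (χ₀ : G → ℂ)) (classRep C) *
          inducedCentralChar H (ξ₀ : H → ℂ) (classRep C)) := by
        by_contra h
        exact hcon ⟨C, h⟩
      have h3 := memLocalIdeal_mul_left (hbS (classRep C)) (hcong (classRep C))
      have h4 := memLocalIdeal_sub h2 h3
      have h5 : blockCoeff (blockOf M (χ₀ : G → ℂ)) (classRep C) *
          inducedCentralChar H (ξ₀ : H → ℂ) (classRep C) -
          blockCoeff (blockOf M (χ₀ : G → ℂ)) (classRep C) *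
            (inducedCentralChar H (ξ₀ : H → ℂ) (classRep C) - centralChar (χ₀ : G → ℂ) (classRep C)) =
          blockCoeff (blockOf M (χ₀ : G → ℂ)) (classRep C) * centralChar (χ₀ : G → ℂ) (classRep C) := by
        ring
      rwa [h5] at h4
    have := memLocalIdeal_sum Finset.univ _ (fun C _ => hall C)
    rw [h1] at this
    exact not_memLocalIdeal_one this
  obtain ⟨C, hC⟩ := hex
  set g := classRep C with hgdef
  have hgu : ¬ MemLocalIdeal M (blockCoeff (blockOf M (χ₀ : G → ℂ)) g) := fun h =>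
    hC (memLocalIdeal_mul_right h (inducedCentralChar_memLocalRing H ξ₀ g))
  have hiu : ¬ MemLocalIdeal M (inducedCentralChar H (ξ₀ : H → ℂ) g) := fun h =>
    hC (memLocalIdeal_mul_left (hbS g) h)
  -- Step 3: an H-class inside the class of g with unit central character
  rw [inducedCentralChar_eq_omega,
    omega_eq_sum_classes _ _ (irr_isClassFunction ξ₀) (isClassFunction_classIndRes H g)] at hiu
  have hex2 : ∃ C' : ConjClasses H, ¬ MemLocalIdeal M
      (classIndRes H g (classRep C') * centralChar (ξ₀ : H → ℂ) (classRep C')) := by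
    by_contra hcon
    apply hiu
    refine memLocalIdeal_sum _ _ (fun C' _ => ?_)
    by_contra h
    exact hcon ⟨C', h⟩
  obtain ⟨C', hC'⟩ := hex2
  set y := classRep C' with hydef
  have hyg : IsConj g (y : G) := by
    by_contra hcon
    apply hC'
    have : classIndRes H g y = 0 := by
      unfold classIndRes classInd
      rw [if_neg hcon]
    rw [this, zero_mul]
    exact memLocalIdeal_zero
  have hyu : ¬ MemLocalIdeal M (centralChar (ξ₀ : H → ℂ) y) := fun h =>
    hC' (memLocalIdeal_mul_left (classIndRes_memLocalRing H g y) h)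
  -- Step 4: inside H
  obtain ⟨y₀, hy₀, S, rfl⟩ := hD
  obtain ⟨_, hy₀u, _⟩ := hy₀
  have hDp : IsPGroup p ((S : Subgroup _).map (Subgroup.centralizer ({y₀} : Set H)).subtype) :=
    S.isPGroup'.map _
  obtain ⟨x, hyx, hDx⟩ := minmax_core (G := H) hpM ξ₀ y y₀
    (fun ξ hξ => not_memLocalIdeal_centralChar_of_mem hξ hyu) hy₀u _ hDp
    (Subgroup.map_subtype_le _)
  -- Step 5: inside G
  have hgx : IsConj g (x : G) := by
    refine hyg.trans ?_
    obtain ⟨c, hc⟩ := isConj_iff.mp hyx
    exact isConj_iff.mpr ⟨(c : G), by rw [← hc]; simp⟩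
  have hxu : ¬ MemLocalIdeal M (blockCoeff (blockOf M (χ₀ : G → ℂ)) (x : G)) := by
    rw [blockCoeff_of_isConj χ₀ hgx]; exact hgu
  set D' : Subgroup G := (((S : Subgroup _).map (Subgroup.centralizer ({y₀} : Set H)).subtype)).map
    H.subtype with hD'
  have hD'p : IsPGroup p D' := hDp.map _
  have hD'x : D' ≤ Subgroup.centralizer ({(x : G)} : Set G) := by
    rintro _ ⟨u, hu, rfl⟩
    have := hDx hu
    rw [Subgroup.mem_centralizer_singleton_iff] at this ⊢
    have h2 := congrArg (Subtype.val : H → G) this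
    simpa using h2
  obtain ⟨g₀, hg₀⟩ := exists_defectClass (M := M) χ₀
  obtain ⟨x', hx', hD'x'⟩ := minmax_core hpM χ₀ g₀ (x : G) hg₀.2.2 hxu D' hD'p hD'x
  have hx'd : IsDefectClass M (blockOf M (χ₀ : G → ℂ)) x' := isDefectClass_of_isConj χ₀ hx' hg₀
  have hsub : IsPGroup p (D'.subgroupOf (Subgroup.centralizer ({x'} : Set G))) :=
    hD'p.comap_subtype
  obtain ⟨E', hE'⟩ := hsub.exists_le_sylow
  refine ⟨(E' : Subgroup _).map (Subgroup.centralizer ({x'} : Set G)).subtype,
    ⟨x', hx'd, E', rfl⟩, ?_⟩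
  intro u hu
  exact ⟨⟨u, hD'x' hu⟩, hE' (Subgroup.mem_subgroupOf.mpr hu), rfl⟩

end Cfsg.Agent.S0917
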