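import Cfsg.Statements.S0926
import Cfsg.Agent.Helper16.HeightZeroSection

set_option autoImplicit false
open Cfsg

namespace Cfsg.Agent.S0926

open Cfsg.Agent.Helper16 in
/-- Let B be a block of the finite group G with defect group D (relative to a maximal ideal M of the algebraic integers containing p), let χ ∈ B have height zero, and let x be a p-element. Then some conjugate of x lies in D if and only if χ does not vanish on the whole p-section of x (the elements whose p-part is conjugate to x). -/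
theorem result {G : Type*} [Group G] [Finite G] (p : ℕ) [Fact p.Prime] (M : Ideal Cfsg.AlgInt) (hM : Cfsg.IsPModular p M) (B : Set (Cfsg.IrrCharacter G)) (hB : Cfsg.IsPBlock M B) (D : Subgroup G) (hD : Cfsg.IsDefectGroup p M B D) (χ : Cfsg.IrrCharacter G) (hχ : χ ∈ B) (h0 : Cfsg.blockHeight p B (χ : G → ℂ) = 0) (x : G) (hx : ∃ k : ℕ, orderOf x = p ^ k) : (∃ g : G, g * x * g⁻¹ ∈ D) ↔ ∃ u : G, (∃ z : G, Cfsg.IsPPart p u z ∧ IsConj x z) ∧ (χ : G → ℂ) u ≠ 0 := by
  classical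
  haveI : Fintype G := Fintype.ofFinite G
  haveI hMp : M.IsPrime := IsPModular.isPrime hM
  constructor
  · rintro ⟨g, hg⟩
    obtain ⟨k, hkreg, hcomm, hne⟩ :=
      exists_ne_zero_of_mem_defectGroup hM hB D hD χ hχ h0 (g * x * g⁻¹) hg
    refine ⟨g * x * g⁻¹ * k, ⟨g * x * g⁻¹, ⟨k, rfl, hcomm, ?_, hkreg⟩, isConj_iff.mpr ⟨g, rfl⟩⟩, hne⟩
    obtain ⟨kk, hkk⟩ := hx
    refine ⟨kk, ?_⟩
    rw [← hkk]
    exact MulEquiv.orderOf_eq (MulAut.conj g) x
  · rintro ⟨u, ⟨z, hz, hxz⟩, hne⟩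
    by_contra hno
    apply hne
    apply irr_eq_zero_of_pPart_not_mem_defectGroup hM χ u z hz
    intro D' hD' hzD'
    have hBχ : B = blockOf M (χ : G → ℂ) := Helper78.isPBlock_eq_blockOf_of_mem hMp hB hχ
    rw [← hBχ] at hD'
    obtain ⟨c, hc⟩ := exists_conj_eq_of_isDefectGroup hM hB hD hD'
    rw [hc] at hzD'
    obtain ⟨d, hd, hdz⟩ := hzD'
    obtain ⟨t, ht⟩ := isConj_iff.mp hxz
    apply hno
    refine ⟨c⁻¹ * t, ?_⟩
    have e : c⁻¹ * t * x * (c⁻¹ * t)⁻¹ = d := by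
      have h1 : c * d * c⁻¹ = z := by simpa using hdz
      have h2 : d = c⁻¹ * z * c := by rw [← h1]; group
      rw [h2, ← ht]
      group
    rw [e]
    exact hd

end Cfsg.Agent.S0926
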