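import Cfsg.Statements.S0927
import Cfsg.Agent.Helper78.HeightZero

set_option autoImplicit false
open Cfsg

namespace Cfsg.Agent.S0927

/-- Let B be a block of the finite group G relative to a maximal ideal M of the algebraic integers containing p, let y represent a defect class of B and let P be a Sylow p-subgroup of the centralizer of y. (a) If x ∈ P and χ ∈ B has height zero, then χ (x * y) is not in the local ideal at M. (b) If x lies in the centre of P, then for every χ ∈ B the central character of χ at x * y is not in the local ideal at M. -/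
theorem result {G : Type*} [Group G] [Finite G] (p : ℕ) [Fact p.Prime] (M : Ideal Cfsg.AlgInt) (hM : Cfsg.IsPModular p M) (B : Set (Cfsg.IrrCharacter G)) (hB : Cfsg.IsPBlock M B) (y : G) (hy : Cfsg.IsDefectClass M B y) (P : Sylow p (Subgroup.centralizer ({y} : Set G))) (x : Subgroup.centralizer ({y} : Set G)) (hx : x ∈ (P : Subgroup (Subgroup.centralizer ({y} : Set G)))) : (∀ χ ∈ B, Cfsg.blockHeight p B (χ : G → ℂ) = 0 → ¬ Cfsg.MemLocalIdeal M ((χ : G → ℂ) ((x : G) * y))) ∧ ((∀ w ∈ (P : Subgroup (Subgroup.centralizer ({y} : Set G))), x * w = w * x) → ∀ χ ∈ B, ¬ Cfsg.MemLocalIdeal M (Cfsg.centralChar (χ : G → ℂ) ((x : G) * y))) := by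
  classical
  haveI : Fintype G := Fintype.ofFinite G
  have hMp : M.IsPrime := Cfsg.Agent.Helper78.isPrime_of_isPModular hM
  have hp : p.Prime := hM.1
  have hyreg : ¬ p ∣ orderOf y := Cfsg.Agent.Helper78.not_dvd_orderOf_of_isDefectClass hM hB hy
  have hxy : Commute (x : G) y := by
    have := x.2
    rw [Subgroup.mem_centralizer_singleton_iff] at this
    exact this
  obtain ⟨k, hk⟩ := P.isPGroup' ⟨x, hx⟩
  have hxk : (x : G) ^ p ^ k = 1 := by
    have h1 := congrArg (fun w : (P : Subgroup (Subgroup.centralizer ({y} : Set G))) =>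
      ((w : Subgroup.centralizer ({y} : Set G)) : G)) hk
    simpa using h1
  -- part (a)
  have partA : ∀ χ ∈ B, Cfsg.blockHeight p B (χ : G → ℂ) = 0 →
      ¬ Cfsg.MemLocalIdeal M ((χ : G → ℂ) ((x : G) * y)) := by
    intro χ hχ hht hmem
    have h1 := Cfsg.Agent.Helper78.irr_mul_sub_memLocalIdeal hM χ (x : G) y hxy hxk hyreg
    have h2 : MemLocalIdeal M ((χ : G → ℂ) y) := by
      have := Cfsg.Agent.Helper78.memLocalIdeal_sub hMp hmem h1
      simpa using this
    apply hy.2.2 χ hχ
    exact Cfsg.Agent.Helper78.centralChar_memLocalIdeal_of_value hM χ y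
      (Cfsg.Agent.Helper78.factorization_charDegree_of_height_zero hM hB hy χ hχ hht).le h2
  refine ⟨partA, ?_⟩
  intro hcen χ hχ hmem
  -- a height zero character
  obtain ⟨χ₁, hχ₁, hht⟩ := Cfsg.Agent.Helper78.exists_height_zero (p := p) hMp hB
  have hsb := Cfsg.Agent.Helper78.sameBlock_of_mem_of_mem hMp hB hχ hχ₁ ((x : G) * y)
  have h1 : MemLocalIdeal M (centralChar (χ₁ : G → ℂ) ((x : G) * y)) := by
    have := Cfsg.Agent.Helper78.memLocalIdeal_sub hMp hmem hsb
    simpa using this
  apply partA χ₁ hχ₁ hht
  refine Cfsg.Agent.Helper78.value_memLocalIdeal_of_centralChar hM χ₁ _ ?_ h1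
  rw [Cfsg.Agent.Helper78.factorization_charDegree_of_height_zero hM hB hy χ₁ hχ₁ hht]
  -- compare the centralizers of `x * y` and `y`
  have hG0 : Nat.card G ≠ 0 := Nat.card_pos.ne'
  have e1 : (Subgroup.centralizer ({y} : Set G)).index *
      Nat.card (Subgroup.centralizer ({y} : Set G)) = Nat.card G := Subgroup.index_mul_card _
  have e2 : (Subgroup.centralizer ({(x : G) * y} : Set G)).index *
      Nat.card (Subgroup.centralizer ({(x : G) * y} : Set G)) = Nat.card G :=
    Subgroup.index_mul_card _
  have hi1 : (Subgroup.centralizer ({y} : Set G)).index ≠ 0 := by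
    intro h0; rw [h0, zero_mul] at e1; exact hG0 e1.symm
  have hi2 : (Subgroup.centralizer ({(x : G) * y} : Set G)).index ≠ 0 := by
    intro h0; rw [h0, zero_mul] at e2; exact hG0 e2.symm
  have hc1 : Nat.card (Subgroup.centralizer ({y} : Set G)) ≠ 0 := Nat.card_pos.ne'
  have hc2 : Nat.card (Subgroup.centralizer ({(x : G) * y} : Set G)) ≠ 0 := Nat.card_pos.ne'
  have f1 : (Subgroup.centralizer ({y} : Set G)).index.factorization p +
      (Nat.card (Subgroup.centralizer ({y} : Set G))).factorization p =
      (Nat.card G).factorization p := by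
    rw [← e1, Nat.factorization_mul hi1 hc1]; rfl
  have f2 : (Subgroup.centralizer ({(x : G) * y} : Set G)).index.factorization p +
      (Nat.card (Subgroup.centralizer ({(x : G) * y} : Set G))).factorization p =
      (Nat.card G).factorization p := by
    rw [← e2, Nat.factorization_mul hi2 hc2]; rfl
  -- the Sylow subgroup `P` lies in the centralizer of `x * y`
  have hPle : (P : Subgroup (Subgroup.centralizer ({y} : Set G))).map
      (Subgroup.centralizer ({y} : Set G)).subtype ≤
      Subgroup.centralizer ({(x : G) * y} : Set G) := by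
    rintro _ ⟨w, hw, rfl⟩
    rw [Subgroup.mem_centralizer_singleton_iff]
    have hwy : (w : G) * y = y * (w : G) := by
      have := w.2
      rw [Subgroup.mem_centralizer_singleton_iff] at this
      exact this
    have hwx : (x : G) * (w : G) = (w : G) * (x : G) := congrArg Subtype.val (hcen w hw)
    show (w : G) * ((x : G) * y) = (x : G) * y * (w : G)
    calc (w : G) * ((x : G) * y) = ((w : G) * (x : G)) * y := by rw [mul_assoc]
      _ = ((x : G) * (w : G)) * y := by rw [hwx]
      _ = (x : G) * ((w : G) * y) := by rw [mul_assoc]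
      _ = (x : G) * (y * (w : G)) := by rw [hwy]
      _ = (x : G) * y * (w : G) := by rw [mul_assoc]
  have hdvd : p ^ (Nat.card (Subgroup.centralizer ({y} : Set G))).factorization p ∣
      Nat.card (Subgroup.centralizer ({(x : G) * y} : Set G)) := by
    have h3 := Subgroup.card_dvd_of_le hPle
    rwa [Subgroup.card_map_of_injective (Subgroup.subtype_injective _),
      P.card_eq_multiplicity] at h3
  have hle : (Nat.card (Subgroup.centralizer ({y} : Set G))).factorization p ≤
      (Nat.card (Subgroup.centralizer ({(x : G) * y} : Set G))).factorization p :=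
    (hp.pow_dvd_iff_le_factorization hc2).mp hdvd
  omega

end Cfsg.Agent.S0927
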