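import Cfsg.Statements.S0929
import Cfsg.Agent.Helper78.PPart
import Cfsg.Agent.Helper78.InducedDefect
import Cfsg.Agent.S0920

set_option autoImplicit false
open Cfsg

namespace Cfsg.Agent.S0929

/-- Let B be a block of the finite group G with defect group P (relative to a maximal ideal M of the algebraic integers containing p), and let g be an element at which the central character of some member of B is not in the local ideal at M. Then some conjugate x of g centralizes P and has its p-part in the centre of P. -/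
theorem result {G : Type*} [Group G] [Finite G] (p : ℕ) [Fact p.Prime] (M : Ideal Cfsg.AlgInt) (hM : Cfsg.IsPModular p M) (B : Set (Cfsg.IrrCharacter G)) (hB : Cfsg.IsPBlock M B) (P : Subgroup G) (hP : Cfsg.IsDefectGroup p M B P) (g : G) (hg : ∃ χ ∈ B, ¬ Cfsg.MemLocalIdeal M (Cfsg.centralChar (χ : G → ℂ) g)) : ∃ x : G, IsConj g x ∧ x ∈ Subgroup.centralizer (P : Set G) ∧ ∀ z : G, Cfsg.IsPPart p x z → z ∈ P ∧ ∀ w ∈ P, z * w = w * z := by
  classical
  haveI : Fintype G := Fintype.ofFinite G
  have hMp : M.IsPrime := Cfsg.Agent.Helper78.isPrime_of_isPModular hM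
  have hp : p.Prime := hM.1
  have hPp : IsPGroup p P := by
    obtain ⟨g', -, Q, rfl⟩ := hP
    exact Q.isPGroup'.map _
  haveI : Fintype (Subgroup.normalizer (P : Set G)) := Fintype.ofFinite _
  have hPN : P ≤ Subgroup.normalizer (P : Set G) := Subgroup.le_normalizer
  haveI hnorm : (P.subgroupOf (Subgroup.normalizer (P : Set G))).Normal :=
    Subgroup.normal_in_normalizer
  obtain ⟨b, hb, hDb, hind⟩ := Cfsg.Agent.S0920.part_two_exists p M hM P hPp B hB hP
  obtain ⟨ξ₀, hξ₀⟩ := id hb
  have hξ₀b : ξ₀ ∈ b := by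
    rw [hξ₀]; exact Cfsg.Agent.Helper16.sameBlock_refl (M := M) _
  obtain ⟨χ, hχ, hχg⟩ := hg
  have h1 : ¬ MemLocalIdeal M (inducedCentralChar (Subgroup.normalizer (P : Set G))
      (ξ₀ : Subgroup.normalizer (P : Set G) → ℂ) g) := by
    intro hc
    apply hχg
    have := Cfsg.Agent.Helper16.memLocalIdeal_sub hc (hind.2.2 ξ₀ hξ₀b χ hχ g)
    simpa using this
  obtain ⟨x', hconj, hx'⟩ :=
    Cfsg.Agent.Helper78.exists_of_inducedCentralChar_not_mem _ ξ₀ g h1
  -- `x'` centralizes `P`
  have hx'c : x' ∈ Subgroup.centralizer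
      ((P.subgroupOf (Subgroup.normalizer (P : Set G)) :
        Subgroup (Subgroup.normalizer (P : Set G))) : Set (Subgroup.normalizer (P : Set G))) := by
    by_contra hcon
    exact hx' (Cfsg.Agent.Helper77.centralChar_memLocalIdeal_of_not_mem_centralizer hM
      (P.subgroupOf (Subgroup.normalizer (P : Set G))) hPp.comap_subtype x' hcon ξ₀)
  have hxc : (x' : G) ∈ Subgroup.centralizer (P : Set G) :=
    (Cfsg.Agent.Helper78.mem_centralizer_subgroupOf_iff hPN x').mp hx'c
  refine ⟨(x' : G), hconj, hxc, ?_⟩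
  intro z hz
  obtain ⟨t, ht⟩ := Cfsg.Agent.Helper78.exists_pow_eq_of_isPPart hp hz
  obtain ⟨z', hz'z, hz'⟩ := Cfsg.Agent.Helper78.isPPart_subgroup hp _ x' hz
  have hmem := Cfsg.Agent.Helper78.isPPart_mem_of_normal_defectGroup hM
    (P.subgroupOf (Subgroup.normalizer (P : Set G))) hb hDb ξ₀ hξ₀b x' hx' hz'
  have hzP : z ∈ P := by
    rw [← hz'z]; exact Subgroup.mem_subgroupOf.mp hmem
  refine ⟨hzP, fun w hw => ?_⟩
  have hzc : z ∈ Subgroup.centralizer (P : Set G) := by
    rw [← ht]; exact Subgroup.pow_mem _ hxc t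
  exact (hzc w hw).symm

end Cfsg.Agent.S0929
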