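import Cfsg.Statements.S0930
import Cfsg.Agent.Helper78.PPart
import Cfsg.Agent.Helper78.InducedDefect
import Cfsg.Agent.S0927
import Cfsg.Agent.S0929

set_option autoImplicit false
open Cfsg

namespace Cfsg.Agent.S0930

/-- Let H be a subgroup of the finite group G and fix a maximal ideal M of the algebraic integers containing the prime p. If the block b of H with defect group D induces the block B of G with defect group P, then every element of the centre of P is conjugate in G to an element of the centre of D. -/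
theorem result {G : Type*} [Group G] [Finite G] (p : ℕ) [Fact p.Prime] (M : Ideal Cfsg.AlgInt) (hM : Cfsg.IsPModular p M) (H : Subgroup G) (b : Set (Cfsg.IrrCharacter H)) (B : Set (Cfsg.IrrCharacter G)) (hind : Cfsg.IsInducedBlock M H b B) (D : Subgroup H) (hD : Cfsg.IsDefectGroup p M b D) (P : Subgroup G) (hP : Cfsg.IsDefectGroup p M B P) (x : G) (hx : x ∈ P) (hxc : ∀ w ∈ P, x * w = w * x) : ∃ g : G, g * x * g⁻¹ ∈ D.map H.subtype ∧ ∀ w ∈ D.map H.subtype, (g * x * g⁻¹) * w = w * (g * x * g⁻¹) := by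
  classical
  haveI : Fintype G := Fintype.ofFinite G
  haveI : Fintype H := Fintype.ofFinite H
  have hMp : M.IsPrime := Cfsg.Agent.Helper78.isPrime_of_isPModular hM
  have hp : p.Prime := hM.1
  have hb : IsPBlock M b := hind.1
  have hB : IsPBlock M B := hind.2.1
  obtain ⟨ξ₀, hξ₀⟩ := id hb
  obtain ⟨χ₀, hχ₀⟩ := id hB
  have hξ₀b : ξ₀ ∈ b := by
    rw [hξ₀]; exact Cfsg.Agent.Helper16.sameBlock_refl (M := M) _
  have hχ₀B : χ₀ ∈ B := by
    rw [hχ₀]; exact Cfsg.Agent.Helper16.sameBlock_refl (M := M) _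
  obtain ⟨y₀, hy₀, Q, hQ⟩ := id hP
  have hyreg := Cfsg.Agent.Helper78.not_dvd_orderOf_of_isDefectClass hM hB hy₀
  have hPp : IsPGroup p P := by rw [hQ]; exact Q.isPGroup'.map _
  -- `x` as an element of the Sylow subgroup `Q`
  have hx' := hx
  rw [hQ] at hx'
  obtain ⟨x₀, hx₀, hx₀x⟩ := hx'
  have hx₀x' : (x₀ : G) = x := hx₀x
  have hcen : ∀ w ∈ (Q : Subgroup (Subgroup.centralizer ({y₀} : Set G))), x₀ * w = w * x₀ := by
    intro w hw
    apply Subtype.ext
    have hwP : (w : G) ∈ P := by rw [hQ]; exact ⟨w, hw, rfl⟩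
    have := hxc (w : G) hwP
    rw [← hx₀x'] at this
    exact this
  have h927 := (Cfsg.Agent.S0927.result p M hM B hB y₀ hy₀ Q x₀ hx₀).2 hcen χ₀ hχ₀B
  rw [hx₀x'] at h927
  -- pass to `H`
  have h1 : ¬ MemLocalIdeal M (inducedCentralChar H (ξ₀ : H → ℂ) (x * y₀)) := by
    intro hc
    apply h927
    have := Cfsg.Agent.Helper16.memLocalIdeal_sub hc (hind.2.2 ξ₀ hξ₀b χ₀ hχ₀B (x * y₀))
    simpa using this
  obtain ⟨h, hconj, hh⟩ :=
    Cfsg.Agent.Helper78.exists_of_inducedCentralChar_not_mem H ξ₀ (x * y₀) h1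
  obtain ⟨x₁, hhx₁, -, hx₁⟩ := Cfsg.Agent.S0929.result p M hM b hb D hD h ⟨ξ₀, hξ₀b, hh⟩
  -- `x₁` is conjugate to `x * y₀` in `G`
  have hconj2 : IsConj (x * y₀) (x₁ : G) := by
    obtain ⟨c', hc'⟩ := isConj_iff.mp hhx₁
    refine hconj.trans (isConj_iff.mpr ⟨(c' : G), ?_⟩)
    rw [← hc']; simp
  obtain ⟨c, hc⟩ := isConj_iff.mp hconj2
  -- `x` is the `p`-part of `x * y₀`
  have hxy : Commute x y₀ := by
    have := x₀.2
    rw [Subgroup.mem_centralizer_singleton_iff] at this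
    rw [← hx₀x']
    exact this
  have hpp : IsPPart p (x * y₀) x := by
    obtain ⟨k, hk⟩ := (IsPGroup.iff_orderOf.mp hPp) ⟨x, hx⟩
    refine ⟨y₀, rfl, hxy, ⟨k, ?_⟩, hyreg⟩
    rw [← hk]
    exact Subgroup.orderOf_coe (⟨x, hx⟩ : P)
  have hpp2 := Cfsg.Agent.Helper78.isPPart_conj hpp c
  rw [hc] at hpp2
  obtain ⟨z', hz'z, hz'⟩ := Cfsg.Agent.Helper78.isPPart_subgroup hp H x₁ hpp2
  obtain ⟨hz'D, hz'c⟩ := hx₁ z' hz'
  refine ⟨c, ?_, ?_⟩
  · rw [← hz'z]
    exact ⟨z', hz'D, rfl⟩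
  · rintro _ ⟨w', hw', rfl⟩
    rw [← hz'z]
    exact congrArg Subtype.val (hz'c w' hw')

end Cfsg.Agent.S0930
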