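import Cfsg.Statements.S0931
import Cfsg.Agent.Helper78.HeightZero
import Cfsg.Agent.Helper78.InducedDefect
import Cfsg.Agent.Helper74.DefectZero
import Cfsg.Agent.S0927

set_option autoImplicit false
open Cfsg

namespace Cfsg.Agent.S0931

/-- Let H be a subgroup of the finite group G and fix a maximal ideal M of the algebraic integers containing the prime p. If the block b of H induces the block B of G, then b has defect 0 if and only if B has defect 0. -/
theorem result {G : Type*} [Group G] [Finite G] (p : ℕ) [Fact p.Prime] (M : Ideal Cfsg.AlgInt) (hM : Cfsg.IsPModular p M) (H : Subgroup G) (b : Set (Cfsg.IrrCharacter H)) (B : Set (Cfsg.IrrCharacter G)) (hind : Cfsg.IsInducedBlock M H b B) : Cfsg.blockDefect p b = 0 ↔ Cfsg.blockDefect p B = 0 := by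
  classical
  haveI : Fintype G := Fintype.ofFinite G
  haveI : Fintype H := Fintype.ofFinite H
  have hMp : M.IsPrime := Cfsg.Agent.Helper78.isPrime_of_isPModular hM
  have hp : p.Prime := hM.1
  have hb : IsPBlock M b := hind.1
  have hB : IsPBlock M B := hind.2.1
  obtain ⟨ξ₀, hξ₀⟩ := id hb
  obtain ⟨χ₀, hχ₀⟩ := id hB
  have hξ₀b : ξ₀ ∈ b := by
    rw [hξ₀]; exact Cfsg.Agent.Helper16.sameBlock_refl (M := M) _
  have hχ₀B : χ₀ ∈ B := by
    rw [hχ₀]; exact Cfsg.Agent.Helper16.sameBlock_refl (M := M) _
  constructor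
  · -- `b` of defect zero
    intro hb0
    by_contra hB0
    -- `ξ₀` vanishes on `p`-singular elements
    have hdiv : p ^ (Nat.card H).factorization p ∣ charDegree (ξ₀ : H → ℂ) := by
      have hdeg0 : charDegree (ξ₀ : H → ℂ) ≠ 0 :=
        (Cfsg.Agent.Helper78.charDegree_pos_of_isIrrCharacter ξ₀.2).ne'
      rw [hp.pow_dvd_iff_le_factorization hdeg0]
      unfold blockDefect at hb0
      have h1 : sInf ((fun ξ : IrrCharacter H => (charDegree (ξ : H → ℂ)).factorization p) '' b) ≤
          (charDegree (ξ₀ : H → ℂ)).factorization p := Nat.sInf_le ⟨ξ₀, hξ₀b, rfl⟩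
      omega
    have hvan : ∀ h : H, p ∣ orderOf h → (ξ₀ : H → ℂ) h = 0 := fun h hh =>
      Cfsg.Agent.Helper74.irr_eq_zero_of_defect_zero ξ₀ hp hdiv h hh
    -- a defect class of `B` and a nontrivial central element of a Sylow subgroup
    obtain ⟨y, hy⟩ := Cfsg.Agent.Helper16.exists_defectClass (M := M) χ₀
    rw [← hχ₀] at hy
    have hyreg := Cfsg.Agent.Helper78.not_dvd_orderOf_of_isDefectClass hM hB hy
    obtain ⟨P⟩ : Nonempty (Sylow p (Subgroup.centralizer ({y} : Set G))) := inferInstance
    have hcardP : Nat.card (P : Subgroup (Subgroup.centralizer ({y} : Set G))) =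
        p ^ blockDefect p B := by
      rw [P.card_eq_multiplicity, Cfsg.Agent.Helper78.blockDefect_eq_of_isDefectClass hM hB hy]
    have hnt : Nontrivial (P : Subgroup (Subgroup.centralizer ({y} : Set G))) := by
      rw [← Finite.one_lt_card_iff_nontrivial, hcardP]
      exact Nat.one_lt_pow hB0 hp.one_lt
    have hcn := IsPGroup.center_nontrivial P.isPGroup'
    obtain ⟨z, hz1⟩ := exists_ne (1 : Subgroup.center (P : Subgroup (Subgroup.centralizer ({y} : Set G))))
    have hzc : ∀ w : (P : Subgroup (Subgroup.centralizer ({y} : Set G))),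
        w * (z : (P : Subgroup (Subgroup.centralizer ({y} : Set G)))) =
          (z : (P : Subgroup (Subgroup.centralizer ({y} : Set G)))) * w :=
      fun w => Subgroup.mem_center_iff.mp z.2 w
    set x : Subgroup.centralizer ({y} : Set G) :=
      ((z : (P : Subgroup (Subgroup.centralizer ({y} : Set G)))) :
        Subgroup.centralizer ({y} : Set G)) with hxdef
    have hx : x ∈ (P : Subgroup (Subgroup.centralizer ({y} : Set G))) :=
      (z : (P : Subgroup (Subgroup.centralizer ({y} : Set G)))).2
    have hx1 : (x : G) ≠ 1 := by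
      intro h1
      apply hz1
      apply Subtype.ext
      apply Subtype.ext
      apply Subtype.ext
      exact h1
    have hcen : ∀ w ∈ (P : Subgroup (Subgroup.centralizer ({y} : Set G))), x * w = w * x := by
      intro w hw
      have := hzc ⟨w, hw⟩
      exact (congrArg Subtype.val this).symm
    have h927 := (Cfsg.Agent.S0927.result p M hM B hB y hy P x hx).2 hcen χ₀ hχ₀B
    -- pass to `H`
    have h1 : ¬ MemLocalIdeal M (inducedCentralChar H (ξ₀ : H → ℂ) ((x : G) * y)) := by
      intro hc
      apply h927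
      have := Cfsg.Agent.Helper16.memLocalIdeal_sub hc (hind.2.2 ξ₀ hξ₀b χ₀ hχ₀B ((x : G) * y))
      simpa using this
    obtain ⟨h, hconj, hh⟩ :=
      Cfsg.Agent.Helper78.exists_of_inducedCentralChar_not_mem H ξ₀ ((x : G) * y) h1
    have hxy : (x : G) * y = y * (x : G) := by
      have := x.2
      rw [Subgroup.mem_centralizer_singleton_iff] at this
      exact this
    have hsing : p ∣ orderOf ((x : G) * y) :=
      Cfsg.Agent.Helper77.dvd_orderOf_mul_of_isPGroup
        (D := (P : Subgroup (Subgroup.centralizer ({y} : Set G))).map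
          (Subgroup.centralizer ({y} : Set G)).subtype) (P.isPGroup'.map _)
        ⟨x, hx, rfl⟩ hx1 hxy hyreg
    have hord : orderOf h = orderOf ((x : G) * y) := by
      obtain ⟨c, hc⟩ := isConj_iff.mp hconj
      rw [← Subgroup.orderOf_coe, ← hc]
      exact (MulAut.conj c).orderOf_eq _
    apply hh
    unfold centralChar
    rw [hvan h (hord ▸ hsing), mul_zero, zero_div]
    exact Cfsg.Agent.Helper16.memLocalIdeal_zero
  · -- `B` of defect zero
    intro hB0
    obtain ⟨Db, hDb⟩ := Cfsg.Agent.Helper16.exists_defectGroup (M := M) p ξ₀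
    rw [← hξ₀] at hDb
    obtain ⟨PB, hPB⟩ := Cfsg.Agent.Helper16.exists_defectGroup (M := M) p χ₀
    rw [← hχ₀] at hPB
    obtain ⟨x, hx⟩ := Cfsg.Agent.Helper78.defectGroup_le_of_induced hM H b B hind Db hDb PB hPB
    have h1 := Cfsg.Agent.Helper77.card_defectGroup hM hB PB hPB
    have h2 := Cfsg.Agent.Helper77.card_defectGroup hM hb Db hDb
    rw [hB0, pow_zero] at h1
    have h3 := Subgroup.card_le_of_le hx
    rw [Subgroup.card_map_of_injective (MulAut.conj x).injective,
      Subgroup.card_map_of_injective (Subgroup.subtype_injective _), h1, h2] at h3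
    by_contra hne
    have : 1 < p ^ blockDefect p b := Nat.one_lt_pow hne hp.one_lt
    omega

end Cfsg.Agent.S0931
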