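import Cfsg.Statements.S0933
import Cfsg.Agent.Helper16.Induced
import Cfsg.Agent.S0932

set_option autoImplicit false
open Cfsg

namespace Cfsg.Agent.S0933

open Cfsg.Agent.Helper16

/-- If ξ is an irreducible character of H ≤ G whose induced character is irreducible, then the block of ξ induces the block of the induced character. -/
theorem result {G : Type*} [Group G] [Fintype G] (p : ℕ) [Fact p.Prime] (M : Ideal Cfsg.AlgInt) (hM : Cfsg.IsPModular p M) (H : Subgroup G) (ξ : Cfsg.IrrCharacter H) (hind : Cfsg.IsIrrCharacter G (Cfsg.indFun H (ξ : H → ℂ))) : Cfsg.IsInducedBlock M H (Cfsg.blockOf M (ξ : H → ℂ)) (Cfsg.blockOf M (Cfsg.indFun H (ξ : H → ℂ))) := by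
  classical
  have : Fintype H := Fintype.ofFinite H
  have hMp : M.IsPrime := IsPModular.isPrime hM
  refine ⟨⟨ξ, rfl⟩, ⟨⟨Cfsg.indFun H (ξ : H → ℂ), hind⟩, rfl⟩, ?_⟩
  intro ξ' hξ' χ hχ g
  have hξchar : Cfsg.IsCharacter H (ξ : H → ℂ) := by
    obtain ⟨ξ, n, ρ, _, rfl⟩ := ξ
    exact ⟨n, ρ, rfl⟩
  have h1 : MemLocalIdeal M (inducedCentralChar H (ξ' : H → ℂ) g - inducedCentralChar H (ξ : H → ℂ) g) :=
    inducedCentralChar_sub_memLocalIdeal H (sameBlock_symm hξ') g
  have h2 : inducedCentralChar H (ξ : H → ℂ) g = centralChar (Cfsg.indFun H (ξ : H → ℂ)) g :=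
    Cfsg.Agent.S0932.result H (ξ : H → ℂ) hξchar g
  have h3 : MemLocalIdeal M (centralChar (Cfsg.indFun H (ξ : H → ℂ)) g - centralChar (χ : G → ℂ) g) :=
    hχ g
  have := memLocalIdeal_add h1 h3
  rw [h2] at this
  simpa using this

end Cfsg.Agent.S0933
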