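import Cfsg.Statements.S0934
import Cfsg.Agent.Helper16.Defect
import Cfsg.Agent.Helper15.IndFun
import Cfsg.Agent.S0932

set_option autoImplicit false
open Cfsg

namespace Cfsg.Agent.S0934

open Cfsg.Agent.Helper16
open scoped ComplexConjugate

/-- If the block b of H induces the block B of G and ξ ∈ b, then some member of B has ξ as a constituent of its restriction to H (equivalently, ξ induced to G has an irreducible constituent in B). -/
theorem result {G : Type*} [Group G] [Fintype G] (p : ℕ) [Fact p.Prime] (M : Ideal Cfsg.AlgInt) (hM : Cfsg.IsPModular p M) (H : Subgroup G) [Fintype H] (b : Set (Cfsg.IrrCharacter H)) (B : Set (Cfsg.IrrCharacter G)) (hind : Cfsg.IsInducedBlock M H b B) (ξ : Cfsg.IrrCharacter H) (hξ : ξ ∈ b) : ∃ χ ∈ B, Cfsg.classInner (fun h : H => (χ : G → ℂ) h) (ξ : H → ℂ) ≠ 0 := by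
  classical
  have hMp : M.IsPrime := IsPModular.isPrime hM
  obtain ⟨_, ⟨χ₀, rfl⟩, hcongr⟩ := hind
  by_contra hcon
  have hzero : ∀ χ : IrrCharacter G, SameBlock M (χ₀ : G → ℂ) (χ : G → ℂ) →
      classInner (fun h : H => (χ : G → ℂ) h) (ξ : H → ℂ) = 0 := by
    intro χ hχ
    by_contra h
    exact hcon ⟨χ, hχ, h⟩
  set f : G → ℂ := indFun H (ξ : H → ℂ) with hfdef
  have hf : IsClassFunction G f := Cfsg.Agent.Helper15.isClassFunction_indFun H _
  have hexp := Cfsg.Agent.Helper79.classFunction_expansion hf
  obtain ⟨hbc, hbS, hbo⟩ := osima_strong (M := M) χ₀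
  set bG := blockCoeff (blockOf M (χ₀ : G → ℂ)) with hbG
  -- the multiplicities vanish on B
  have hm : ∀ χ : IrrCharacter G, SameBlock M (χ₀ : G → ℂ) (χ : G → ℂ) →
      classInner f (χ : G → ℂ) = 0 := by
    intro χ hχ
    rw [hfdef, Cfsg.Agent.Helper15.frobenius_reciprocity H _ _ (irr_isClassFunction χ),
      ← Cfsg.Agent.Helper15.classInner_conj_symm, hzero χ hχ, map_zero]
  -- (1) omega f bG = 0
  have h1 : omega f bG = 0 := by
    unfold omega
    have : ∑ x : G, bG x * f x = 0 := by
      have hfx : ∀ x : G, f x = ∑ χ : IrrCharacter G, classInner f (χ : G → ℂ) * (χ : G → ℂ) x := by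
        intro x
        have := congrFun hexp x
        simpa [Finset.sum_apply, Pi.smul_apply, smul_eq_mul] using this
      calc ∑ x : G, bG x * f x
          = ∑ x : G, ∑ χ : IrrCharacter G, classInner f (χ : G → ℂ) * (bG x * (χ : G → ℂ) x) := by
            refine Finset.sum_congr rfl (fun x _ => ?_)
            rw [hfx x, Finset.mul_sum]
            refine Finset.sum_congr rfl (fun χ _ => ?_)
            ring
        _ = ∑ χ : IrrCharacter G, classInner f (χ : G → ℂ) * ∑ x : G, bG x * (χ : G → ℂ) x := by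
            rw [Finset.sum_comm]
            refine Finset.sum_congr rfl (fun χ _ => ?_)
            rw [Finset.mul_sum]
        _ = 0 := by
            refine Finset.sum_eq_zero (fun χ _ => ?_)
            by_cases hχ : SameBlock M (χ₀ : G → ℂ) (χ : G → ℂ)
            · rw [hm χ hχ, zero_mul]
            · have h2 := hbo χ
              rw [if_neg hχ] at h2
              unfold omega at h2
              have h3 : ∑ x : G, bG x * (χ : G → ℂ) x = 0 := by
                rcases div_eq_zero_iff.mp h2 with h | h
                · exact h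
                · exact absurd h (irr_one_ne_zero χ)
              rw [h3, mul_zero]
    rw [this, zero_div]
  -- (2) congruence with omega χ₀ bG = 1
  have h2 : MemLocalIdeal M (omega f bG - omega (χ₀ : G → ℂ) bG) := by
    rw [omega_eq_sum_classes _ _ hf hbc, omega_eq_sum_classes _ _ (irr_isClassFunction χ₀) hbc,
      ← Finset.sum_sub_distrib]
    refine memLocalIdeal_sum _ _ (fun C _ => ?_)
    rw [← mul_sub]
    refine memLocalIdeal_mul_left (hbS _) ?_
    have hξchar : Cfsg.IsCharacter H (ξ : H → ℂ) := by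
      obtain ⟨ξ, n, ρ, _, rfl⟩ := ξ
      exact ⟨n, ρ, rfl⟩
    rw [hfdef, ← Cfsg.Agent.S0932.result H (ξ : H → ℂ) hξchar]
    exact hcongr ξ hξ χ₀ (sameBlock_refl _) _
  have h3 : omega (χ₀ : G → ℂ) bG = 1 := by
    rw [hbo χ₀, if_pos (sameBlock_refl _)]
  rw [h1, h3, zero_sub] at h2
  have := memLocalIdeal_neg h2
  rw [neg_neg] at this
  exact not_memLocalIdeal_one this

end Cfsg.Agent.S0934
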