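import Cfsg.Statements.S0935
import Cfsg.Agent.Helper16.Blau
import Cfsg.Agent.S4426

set_option autoImplicit false
open Cfsg

namespace Cfsg.Agent.S0935

open Cfsg.Agent.Helper16 in
/-- Let H be a subgroup of the finite group G and χ an irreducible character of G whose restriction to H is irreducible; fix a maximal ideal M of the algebraic integers containing the prime p and suppose χ and its restriction have height zero in their blocks B and b. If e is a block of H whose induced block is defined, then e induces B if and only if e = b. -/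
theorem result {G : Type*} [Group G] [Finite G] (p : ℕ) [Fact p.Prime] (M : Ideal Cfsg.AlgInt) (hM : Cfsg.IsPModular p M) (H : Subgroup G) (χ : Cfsg.IrrCharacter G) (hres : Cfsg.IsIrrCharacter H (fun h : H => (χ : G → ℂ) h)) (hχ0 : Cfsg.blockHeight p (Cfsg.blockOf M (χ : G → ℂ)) (χ : G → ℂ) = 0) (hψ0 : Cfsg.blockHeight p (Cfsg.blockOf M (fun h : H => (χ : G → ℂ) h)) (fun h : H => (χ : G → ℂ) h) = 0) (e : Set (Cfsg.IrrCharacter H)) (he : Cfsg.InducedBlockDefined M H e) : Cfsg.IsInducedBlock M H e (Cfsg.blockOf M (χ : G → ℂ)) ↔ e = Cfsg.blockOf M (fun h : H => (χ : G → ℂ) h) := by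
  classical
  haveI : Fintype G := Fintype.ofFinite G
  haveI : Fintype H := Fintype.ofFinite H
  haveI hMp : M.IsPrime := IsPModular.isPrime hM
  set ψ : IrrCharacter H := ⟨fun h : H => (χ : G → ℂ) h, hres⟩ with hψdef
  have hψB : ψ ∈ blockOf M (ψ : H → ℂ) := Helper78.mem_blockOf_self hMp ψ
  have hχB : χ ∈ blockOf M (χ : G → ℂ) := Helper78.mem_blockOf_self hMp χ
  constructor
  · intro hind
    obtain ⟨ξ, hξ, -, n, hn, hpn⟩ := blau hM H e _ hind χ hχB hχ0
    have hξψ : ψ = ξ := by
      by_contra hne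
      have h1 : classInner (fun h : H => (χ : G → ℂ) h) (ξ : H → ℂ) = 0 :=
        Helper79.classInner_irr_ne (χ := ψ) (ψ := ξ) hne
      rw [h1] at hn
      have hn0 : n = 0 := by exact_mod_cast hn.symm
      exact hpn (hn0 ▸ dvd_zero p)
    rw [← hξψ] at hξ
    exact Helper78.isPBlock_eq_blockOf_of_mem hMp hind.1 hξ
  · intro he'
    obtain ⟨B', hB'⟩ := he
    have hψe : ψ ∈ e := by rw [he']; exact hψB
    have hχB' : χ ∈ B' := by
      by_contra hnot
      have h1 := (Cfsg.Agent.S4431.result p M hM H e B' hB' χ ψ hψe).1 hnot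
      have h2 := (Cfsg.Agent.S4426.height_zero_iff p hM _ ⟨ψ, rfl⟩ ψ hψB).mp hψ0
      exact h2 h1
    have hBB' : B' = blockOf M (χ : G → ℂ) :=
      Helper78.isPBlock_eq_blockOf_of_mem hMp hB'.2.1 hχB'
    rw [← hBB']
    exact hB'

end Cfsg.Agent.S0935
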