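import Cfsg.Statements.S0943
import Cfsg.Agent.Helper16.CharBasic

set_option autoImplicit false
open Cfsg

namespace Cfsg.Agent.S0943

open Cfsg.Agent.Helper16

/-- Let χ be an irreducible character of the finite group G and u, v ∈ G. If χ takes the same value on all products x y with x conjugate to u and y conjugate to v, then χ(u) χ(v) = χ(1) χ(u v). -/
theorem result {G : Type*} [Group G] [Finite G] (χ : Cfsg.IrrCharacter G) (u v : G) (hc : ∀ x y : G, IsConj u x → IsConj v y → (χ : G → ℂ) (x * y) = (χ : G → ℂ) (u * v)) : (χ : G → ℂ) u * (χ : G → ℂ) v = (χ : G → ℂ) 1 * (χ : G → ℂ) (u * v) := by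
  classical
  have : Fintype G := Fintype.ofFinite G
  obtain ⟨χ, n, ρ, hirr, rfl⟩ := χ
  have hirr' : ρ.IsIrreducible := hirr
  have hsum := sum_char_mul_conj ρ u v
  have hterm : ∀ t : G, ρ.character (u * (t * v * t⁻¹)) = ρ.character (u * v) := by
    intro t
    exact hc u (t * v * t⁻¹) (IsConj.refl u) (isConj_iff.mpr ⟨t, rfl⟩)
  simp only [hterm, Finset.sum_const, Finset.card_univ, nsmul_eq_mul] at hsum
  have hG : (Nat.card G : ℂ) ≠ 0 := by
    exact_mod_cast Nat.card_pos.ne'
  have hn : (Module.finrank ℂ (Fin n → ℂ) : ℂ) ≠ 0 := by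
    exact_mod_cast (finrank_pos_of_irreducible ρ).ne'
  show ρ.character u * ρ.character v = ρ.character 1 * ρ.character (u * v)
  rw [Representation.char_one]
  rw [← Nat.card_eq_fintype_card] at hsum
  field_simp at hsum
  linear_combination -hsum

end Cfsg.Agent.S0943
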