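import Cfsg.Statements.S0944

set_option autoImplicit false
open Cfsg

namespace Cfsg.Agent.S0944

/-- Trace of an involutive endomorphism of a finite-dimensional complex space: `2 r - n`. -/
theorem trace_involution {V : Type*} [AddCommGroup V] [Module ℂ V] [FiniteDimensional ℂ V]
    (f : V →ₗ[ℂ] V) (hf : f * f = 1) :
    ∃ r : ℕ, LinearMap.trace ℂ V f = 2 * (r : ℂ) - (Module.finrank ℂ V : ℂ) := by
  set P : V →ₗ[ℂ] V := (2 : ℂ)⁻¹ • (1 + f) with hP
  have hidem : IsIdempotentElem P := by
    unfold IsIdempotentElem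
    rw [hP, smul_mul_smul_comm]
    have : (1 + f) * (1 + f) = (2 : ℂ) • (1 + f) := by
      rw [mul_add, add_mul, add_mul, hf, one_mul, mul_one, one_mul, two_smul]
      abel
    rw [this, smul_smul]
    congr 1
    norm_num
  have htr := (LinearMap.IsIdempotentElem.isProj_range P hidem).trace
  refine ⟨Module.finrank ℂ (LinearMap.range P), ?_⟩
  have h2 : f = (2 : ℂ) • P - 1 := by
    rw [hP, smul_smul]
    norm_num
  rw [h2, map_sub, map_smul, htr, LinearMap.trace_one]
  simp

/-- Let χ be an irreducible character of the finite group G and u an involution. Then χ u is a rational integer n with n ≡ χ 1 (mod 2). -/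
theorem result {G : Type*} [Group G] [Finite G] (χ : Cfsg.IrrCharacter G) (u : G) (hu : orderOf u = 2) : ∃ n : ℤ, (χ : G → ℂ) u = (n : ℂ) ∧ (2 : ℤ) ∣ (Cfsg.charDegree (χ : G → ℂ) : ℤ) - n := by
  obtain ⟨χ, n, ρ, hirr, rfl⟩ := χ
  have huu : ρ u * ρ u = 1 := by
    rw [← map_mul, ← pow_two, ← hu, pow_orderOf_eq_one, map_one]
  obtain ⟨r, hr⟩ := trace_involution (ρ u) huu
  have hdeg : Cfsg.charDegree ρ.character = n := by
    unfold Cfsg.charDegree
    rw [Representation.char_one]
    simp
  refine ⟨2 * (r : ℤ) - (n : ℤ), ?_, ?_⟩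
  · show ρ.character u = _
    unfold Representation.character
    rw [hr]
    simp
  · show (2 : ℤ) ∣ (Cfsg.charDegree ρ.character : ℤ) - _
    rw [hdeg]
    exact ⟨(n : ℤ) - r, by ring⟩

end Cfsg.Agent.S0944
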