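import Cfsg.Statements.S0946
import Cfsg.Agent.Helper55.AbelianSylowTwo

set_option autoImplicit false
open Cfsg

namespace Cfsg.Agent.S0946

open Cfsg.Agent.Helper55

theorem zmod_two_pow_add_self_eq_zero {m : ℕ} (hm : 1 ≤ m) (a : ZMod (2 ^ m)) (h : a + a = 0) :
    a = 0 ∨ a = ((2 ^ (m - 1) : ℕ) : ZMod (2 ^ m)) := by
  obtain ⟨m', rfl⟩ : ∃ m', m = m' + 1 := ⟨m - 1, by omega⟩
  have hne : NeZero (2 ^ (m' + 1)) := ⟨by positivity⟩
  have hval := ZMod.natCast_zmod_val a
  have hlt := ZMod.val_lt a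
  set n := a.val with hn
  rw [← hval] at h ⊢
  have h1 : ((n + n : ℕ) : ZMod (2 ^ (m' + 1))) = 0 := by push_cast; exact h
  rw [ZMod.natCast_eq_zero_iff] at h1
  have h2 : 2 ^ m' ∣ n := by
    have : 2 * 2 ^ m' ∣ 2 * n := by
      have e1 : 2 ^ (m' + 1) = 2 * 2 ^ m' := by ring
      have e2 : n + n = 2 * n := by ring
      rw [← e1, ← e2]; exact h1
    exact (Nat.mul_dvd_mul_iff_left (by norm_num)).1 this
  obtain ⟨c, hc⟩ := h2
  have hc2 : c < 2 := by
    have e1 : 2 ^ (m' + 1) = 2 ^ m' * 2 := by ring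
    rw [hc, e1] at hlt
    exact Nat.lt_of_mul_lt_mul_left hlt
  have hsimp : m' + 1 - 1 = m' := by omega
  rw [hsimp]
  interval_cases c
  · left; rw [hc]; simp
  · right; rw [hc]; simp

theorem half_ne_zero {m : ℕ} (hm : 1 ≤ m) : ((2 ^ (m - 1) : ℕ) : ZMod (2 ^ m)) ≠ 0 := by
  rw [Ne, ZMod.natCast_eq_zero_iff]
  intro h
  have h1 := Nat.le_of_dvd (by positivity) h
  have h2 : 2 ^ (m - 1) < 2 ^ m := Nat.pow_lt_pow_right (by norm_num) (by omega)
  omega

theorem half_add_half {m : ℕ} (hm : 1 ≤ m) :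
    ((2 ^ (m - 1) : ℕ) : ZMod (2 ^ m)) + ((2 ^ (m - 1) : ℕ) : ZMod (2 ^ m)) = 0 := by
  have : ((2 ^ (m - 1) + 2 ^ (m - 1) : ℕ) : ZMod (2 ^ m)) = 0 := by
    rw [ZMod.natCast_eq_zero_iff]
    have : 2 ^ (m - 1) + 2 ^ (m - 1) = 2 ^ m := by
      obtain ⟨m', rfl⟩ : ∃ m', m = m' + 1 := ⟨m - 1, by omega⟩
      simp; ring
    rw [this]
  push_cast at this
  exact_mod_cast this

/-- Let P be a Sylow 2-subgroup of the finite group G isomorphic to Z/2^m × Z/2^m with m ≥ 1. Then either P has a normal complement in G, or all involutions of G are conjugate. -/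
theorem result {G : Type*} [Group G] [Finite G] (P : Sylow 2 G) (m : ℕ) (hm : 1 ≤ m) (e : (P : Subgroup G) ≃* Multiplicative (ZMod (2 ^ m) × ZMod (2 ^ m))) : (∃ N : Subgroup G, N.Normal ∧ Subgroup.IsComplement' N (P : Subgroup G)) ∨ ∀ s t : G, orderOf s = 2 → orderOf t = 2 → IsConj s t := by
  set hh : ZMod (2 ^ m) := ((2 ^ (m - 1) : ℕ) : ZMod (2 ^ m)) with hhdef
  have hh0 : hh ≠ 0 := half_ne_zero hm
  have hh2 : hh + hh = 0 := half_add_half hm
  -- P is abelian
  have hab : ∀ x ∈ (P : Subgroup G), ∀ y ∈ (P : Subgroup G), x * y = y * x := by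
    intro x hx y hy
    have : (⟨x, hx⟩ : (P : Subgroup G)) * ⟨y, hy⟩ = ⟨y, hy⟩ * ⟨x, hx⟩ := by
      apply e.injective
      rw [map_mul, map_mul, mul_comm]
    exact congrArg Subtype.val this
  let U : Multiplicative (ZMod (2 ^ m) × ZMod (2 ^ m)) := Multiplicative.ofAdd (hh, 0)
  let V : Multiplicative (ZMod (2 ^ m) × ZMod (2 ^ m)) := Multiplicative.ofAdd (0, hh)
  have hUU : U * U = 1 := by
    show Multiplicative.ofAdd ((hh, (0 : ZMod (2 ^ m))) + (hh, 0)) = 1
    rw [Prod.mk_add_mk, hh2, add_zero]; rfl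
  have hVV : V * V = 1 := by
    show Multiplicative.ofAdd (((0 : ZMod (2 ^ m)), hh) + (0, hh)) = 1
    rw [Prod.mk_add_mk, hh2, add_zero]; rfl
  have hU1 : U ≠ 1 := by
    intro h
    have : (hh, (0 : ZMod (2 ^ m))) = 0 := Multiplicative.ofAdd.injective h
    exact hh0 (congrArg Prod.fst this)
  have hV1 : V ≠ 1 := by
    intro h
    have : ((0 : ZMod (2 ^ m)), hh) = 0 := Multiplicative.ofAdd.injective h
    exact hh0 (congrArg Prod.snd this)
  have hUV : U ≠ V := by
    intro h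
    have : (hh, (0 : ZMod (2 ^ m))) = (0, hh) := Multiplicative.ofAdd.injective h
    exact hh0 (congrArg Prod.fst this)
  have hord : ∀ X : Multiplicative (ZMod (2 ^ m) × ZMod (2 ^ m)), X * X = 1 → X ≠ 1 →
      orderOf ((e.symm X : (P : Subgroup G)) : G) = 2 := by
    intro X hXX hX1
    rw [Subgroup.orderOf_coe]
    apply orderOf_eq_prime
    · rw [pow_two, ← map_mul, hXX, map_one]
    · intro h
      apply hX1
      have := congrArg e h
      simpa using this
  refine complement_or_conj_of_three_invol P hab (u := (e.symm U : (P : Subgroup G)))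
    (v := (e.symm V : (P : Subgroup G))) (e.symm U).2 (e.symm V).2 (hord U hUU hU1) (hord V hVV hV1) ?_ ?_
  · intro h
    apply hUV
    exact e.symm.injective (Subtype.ext h)
  · intro x hx hxx
    set X := e ⟨x, hx⟩ with hX
    have hXX : X * X = 1 := by
      rw [hX, ← map_mul]
      have : (⟨x, hx⟩ : (P : Subgroup G)) * ⟨x, hx⟩ = 1 := Subtype.ext hxx
      rw [this, map_one]
    have hx' : x = ((e.symm X : (P : Subgroup G)) : G) := by rw [hX, MulEquiv.symm_apply_apply]
    have hadd : Multiplicative.toAdd X + Multiplicative.toAdd X = 0 := by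
      have := congrArg Multiplicative.toAdd hXX
      simpa using this
    have ha := zmod_two_pow_add_self_eq_zero hm (Multiplicative.toAdd X).1 (congrArg Prod.fst hadd)
    have hb := zmod_two_pow_add_self_eq_zero hm (Multiplicative.toAdd X).2 (congrArg Prod.snd hadd)
    have hXeq : X = Multiplicative.ofAdd ((Multiplicative.toAdd X).1, (Multiplicative.toAdd X).2) := rfl
    rcases ha with ha | ha <;> rcases hb with hb | hb
    · left
      rw [hx', hXeq, ha, hb]
      have : (Multiplicative.ofAdd ((0 : ZMod (2 ^ m)), (0 : ZMod (2 ^ m)))) = 1 := rfl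
      rw [this, map_one]; rfl
    · right; right; left
      rw [hx', hXeq, ha, hb]
    · right; left
      rw [hx', hXeq, ha, hb]
    · right; right; right
      rw [hx', hXeq, ha, hb]
      have : (Multiplicative.ofAdd (hh, hh) : Multiplicative (ZMod (2 ^ m) × ZMod (2 ^ m))) = U * V := by
        show _ = Multiplicative.ofAdd ((hh, (0 : ZMod (2 ^ m))) + (0, hh))
        rw [Prod.mk_add_mk, add_zero, zero_add]
      rw [this, map_mul]; rfl

end Cfsg.Agent.S0946
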