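import Cfsg.Statements.S0954
import Cfsg.Agent.S0921
import Cfsg.Agent.S0966

set_option autoImplicit false
open Cfsg

namespace Cfsg.Agent.S0954

open Cfsg.Agent.Helper16 Cfsg.Agent.Helper15

/-- Let G be a finite group with a normal subgroup N of order prime to p and of p-power index, and fix a maximal ideal M of the algebraic integers containing p. Then two irreducible characters of G lie in the same block relative to M if and only if their restrictions to N have a common irreducible constituent. -/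
theorem result {G : Type*} [Group G] [Fintype G] (p : ℕ) [Fact p.Prime] (M : Ideal Cfsg.AlgInt) (hM : Cfsg.IsPModular p M) (N : Subgroup G) [N.Normal] [Fintype N] (hN : ¬ p ∣ Nat.card N) (hidx : ∃ k : ℕ, N.index = p ^ k) (χ ψ : Cfsg.IrrCharacter G) : Cfsg.SameBlock M (χ : G → ℂ) (ψ : G → ℂ) ↔ ∃ θ : Cfsg.IrrCharacter N, Cfsg.classInner (fun n : N => (χ : G → ℂ) n) (θ : N → ℂ) ≠ 0 ∧ Cfsg.classInner (fun n : N => (ψ : G → ℂ) n) (θ : N → ℂ) ≠ 0 := by
  classical
  haveI hMp : M.IsPrime := IsPModular.isPrime hM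
  constructor
  · intro h
    -- some constituent of χ_N
    have hex : ∃ θ : IrrCharacter N,
        classInner (fun n : N => (χ : G → ℂ) n) (θ : N → ℂ) ≠ 0 := by
      by_contra hcon
      have hall : ∀ θ : IrrCharacter N,
          classInner (fun n : N => (χ : G → ℂ) n) (θ : N → ℂ) = 0 := by
        intro θ
        by_contra h0
        exact hcon ⟨θ, h0⟩
      have hexp := congrFun (Helper79.classFunction_expansion
        (isClassFunction_restrict N (irr_isClassFunction χ))) 1
      rw [Finset.sum_apply] at hexp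
      simp only [Pi.smul_apply, smul_eq_mul, hall, zero_mul, Finset.sum_const_zero] at hexp
      exact irr_one_ne_zero χ hexp
    obtain ⟨θ, hθ⟩ := hex
    exact ⟨θ, hθ, (Cfsg.Agent.S0921.main p M hM N hN χ ψ h θ).mp hθ⟩
  · rintro ⟨θ, hχθ, hψθ⟩
    obtain ⟨B, _, huniq⟩ := Cfsg.Agent.S0966.result p M hM N hidx (blockOf M (θ : N → ℂ)) ⟨θ, rfl⟩
    have hθmem : θ ∈ blockOf M (θ : N → ℂ) := sameBlock_refl _
    have h1 := huniq (blockOf M (χ : G → ℂ))
      ⟨⟨χ, rfl⟩, χ, sameBlock_refl _, θ, hθmem, hχθ⟩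
    have h2 := huniq (blockOf M (ψ : G → ℂ))
      ⟨⟨ψ, rfl⟩, ψ, sameBlock_refl _, θ, hθmem, hψθ⟩
    have hψmem : ψ ∈ blockOf M (ψ : G → ℂ) := sameBlock_refl _
    rw [h2, ← h1] at hψmem
    exact hψmem

end Cfsg.Agent.S0954
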