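import Cfsg.Statements.S0957

set_option autoImplicit false
open Cfsg

namespace Cfsg.Agent.S0957

/-- If every orbit of a group action on a finite set has size divisible by `d`, so has the set. -/
theorem dvd_card_of_forall_dvd_orbit {Γ X : Type*} [Group Γ] [MulAction Γ X] [Finite X] (d : ℕ)
    (h : ∀ x : X, d ∣ Nat.card (MulAction.orbit Γ x)) : d ∣ Nat.card X := by
  classical
  have : Fintype (Quotient (MulAction.orbitRel Γ X)) := Fintype.ofFinite _
  rw [Nat.card_congr (MulAction.selfEquivSigmaOrbits Γ X), Nat.card_sigma]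
  exact Finset.dvd_sum (fun ω _ => h _)

/-- The set of pairs on which a Sylow subgroup acts by simultaneous conjugation. -/
abbrev Pairs {G : Type*} [Group G] (P : Subgroup G) (g h : G) : Type _ :=
  {yz : G × G // IsConj g yz.1 ∧ IsConj h yz.2 ∧ yz.2 * yz.1⁻¹ ∈ P}

/-- Simultaneous conjugation action of `P` on the pairs. -/
@[reducible] def pairsAction {G : Type*} [Group G] (P : Subgroup G) (g h : G) : MulAction P (Pairs P g h) where
  smul u x := ⟨((u : G) * x.1.1 * (u : G)⁻¹, (u : G) * x.1.2 * (u : G)⁻¹), by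
    obtain ⟨⟨y, z⟩, hy, hz, hyz⟩ := x
    refine ⟨?_, ?_, ?_⟩
    · exact hy.trans (isConj_iff.mpr ⟨u, rfl⟩)
    · exact hz.trans (isConj_iff.mpr ⟨u, rfl⟩)
    · have : (u : G) * z * (u : G)⁻¹ * ((u : G) * y * (u : G)⁻¹)⁻¹ = (u : G) * (z * y⁻¹) * (u : G)⁻¹ := by
        simp [mul_assoc]
      show (u : G) * z * (u : G)⁻¹ * ((u : G) * y * (u : G)⁻¹)⁻¹ ∈ P
      rw [this]
      exact P.mul_mem (P.mul_mem u.2 hyz) (P.inv_mem u.2)⟩
  one_smul x := by
    apply Subtype.ext
    show (((1 : P) : G) * x.1.1 * ((1 : P) : G)⁻¹, ((1 : P) : G) * x.1.2 * ((1 : P) : G)⁻¹) = x.1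
    simp
  mul_smul u v x := by
    apply Subtype.ext
    show (((u * v : P) : G) * x.1.1 * ((u * v : P) : G)⁻¹, ((u * v : P) : G) * x.1.2 * ((u * v : P) : G)⁻¹) =
      ((u : G) * ((v : G) * x.1.1 * (v : G)⁻¹) * (u : G)⁻¹, (u : G) * ((v : G) * x.1.2 * (v : G)⁻¹) * (u : G)⁻¹)
    simp [mul_assoc]

/-- For a Sylow p-subgroup P of G of order p^a and elements g, h of G, let p^d be the order of a Sylow p-subgroup of the centralizer of g. Then p^(a-d) divides the number of pairs (y, z) with y conjugate to g, z conjugate to h and z * y⁻¹ ∈ P. -/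
theorem result {G : Type*} [Group G] [Finite G] (p : ℕ) [Fact p.Prime] (P : Sylow p G) (g h : G) (S : Sylow p (Subgroup.centralizer ({g} : Set G))) : Nat.card P / Nat.card S ∣ Nat.card {yz : G × G // IsConj g yz.1 ∧ IsConj h yz.2 ∧ yz.2 * yz.1⁻¹ ∈ (P : Subgroup G)} := by
  classical
  have hp : p.Prime := Fact.out
  let _ := pairsAction (P : Subgroup G) g h
  have hcardS : Nat.card S = p ^ (Nat.card (Subgroup.centralizer ({g} : Set G))).factorization p :=
    S.card_eq_multiplicity
  have hcardP : Nat.card P = p ^ (Nat.card G).factorization p := P.card_eq_multiplicity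
  have hCne : Nat.card (Subgroup.centralizer ({g} : Set G)) ≠ 0 := Nat.card_pos.ne'
  have hGne : Nat.card G ≠ 0 := Nat.card_pos.ne'
  have hSP : Nat.card S ∣ Nat.card P := by
    rw [hcardS, hcardP]
    apply pow_dvd_pow
    exact (Nat.factorization_le_iff_dvd hCne hGne).mpr
      (Subgroup.card_subgroup_dvd_card _) p
  apply dvd_card_of_forall_dvd_orbit (Γ := (P : Subgroup G))
  intro x
  -- stabilizer
  set St := MulAction.stabilizer (P : Subgroup G) x with hSt
  have horb : Nat.card St * Nat.card (MulAction.orbit (P : Subgroup G) x) = Nat.card P := by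
    have h1 := Subgroup.card_mul_index St
    rw [MulAction.index_stabilizer, ← Nat.card_coe_set_eq] at h1
    exact h1
  -- the stabilizer is a p-group
  have hStp : IsPGroup p St := P.isPGroup'.to_subgroup St
  obtain ⟨k, hk⟩ := IsPGroup.iff_card.mp hStp
  -- it embeds in the centralizer of g
  obtain ⟨⟨y, z⟩, hy, hz, hyz⟩ := x
  obtain ⟨c, hc⟩ := isConj_iff.mp hy
  replace hc : c * g * c⁻¹ = y := hc
  have hmem : ∀ u : St, c⁻¹ * ((u : P) : G) * c ∈ Subgroup.centralizer ({g} : Set G) := by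
    intro u
    have hu : (u : P) • (⟨(y, z), hy, hz, hyz⟩ : Pairs (P : Subgroup G) g h) =
        ⟨(y, z), hy, hz, hyz⟩ := MulAction.mem_stabilizer_iff.mp u.2
    have hu1 : ((u : P) : G) * y * ((u : P) : G)⁻¹ = y := by
      have := congrArg (fun t : Pairs (P : Subgroup G) g h => t.1.1) hu
      exact this
    rw [Subgroup.mem_centralizer_singleton_iff]
    rw [← hc] at hu1
    have h2 : c⁻¹ * (((u : P) : G) * (c * g * c⁻¹) * ((u : P) : G)⁻¹) * c = c⁻¹ * (c * g * c⁻¹) * c := by
      rw [hu1]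
    have h3 : c⁻¹ * ((u : P) : G) * c * g * (c⁻¹ * ((u : P) : G) * c)⁻¹ = g := by
      simpa [mul_assoc] using h2
    calc c⁻¹ * ((u : P) : G) * c * g
        = (c⁻¹ * ((u : P) : G) * c * g * (c⁻¹ * ((u : P) : G) * c)⁻¹) * (c⁻¹ * ((u : P) : G) * c) := by
          simp [mul_assoc]
      _ = g * (c⁻¹ * ((u : P) : G) * c) := by rw [h3]
  let φ : St →* Subgroup.centralizer ({g} : Set G) :=
    { toFun := fun u => ⟨c⁻¹ * ((u : P) : G) * c, hmem u⟩
      map_one' := by
        apply Subtype.ext
        simp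
      map_mul' := by
        intro u v
        apply Subtype.ext
        simp [mul_assoc] }
  have hφ : Function.Injective φ := by
    intro u v huv
    have h1 : c⁻¹ * ((u : P) : G) * c = c⁻¹ * ((v : P) : G) * c := congrArg Subtype.val huv
    have h2 : ((u : P) : G) = ((v : P) : G) := by
      have := congrArg (fun t => c * t * c⁻¹) h1
      simpa [mul_assoc] using this
    exact Subtype.ext (Subtype.ext h2)
  have hdvd : Nat.card St ∣ Nat.card (Subgroup.centralizer ({g} : Set G)) :=
    Subgroup.card_dvd_of_injective φ hφ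
  have hdvdS : Nat.card St ∣ Nat.card S := by
    rw [hk, hcardS]
    rw [hk] at hdvd
    exact (hp.pow_dvd_iff_dvd_ordProj hCne).mp hdvd
  obtain ⟨m, hm⟩ := hdvdS
  obtain ⟨d, hd⟩ := hSP
  have hSpos : 0 < Nat.card S := Nat.card_pos
  have hStpos : 0 < Nat.card St := Nat.card_pos
  have hdiv : Nat.card P / Nat.card S = d := by
    rw [hd]
    exact Nat.mul_div_cancel_left d hSpos
  rw [hdiv]
  -- card St * card orbit = card St * m * d
  rw [hd, hm] at horb
  have : Nat.card (MulAction.orbit (P : Subgroup G) (⟨(y, z), hy, hz, hyz⟩ : Pairs (P : Subgroup G) g h)) = m * d := by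
    have h4 : Nat.card St * Nat.card (MulAction.orbit (P : Subgroup G) (⟨(y, z), hy, hz, hyz⟩ : Pairs (P : Subgroup G) g h)) = Nat.card St * (m * d) := by
      rw [horb]; ring
    exact Nat.eq_of_mul_eq_mul_left hStpos h4
  rw [this]
  exact Dvd.intro_left m rfl

end Cfsg.Agent.S0957
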