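import Cfsg.Statements.S0958
import Cfsg.Agent.Helper78.InducedDefect

set_option autoImplicit false
open Cfsg

namespace Cfsg.Agent.S0958

/-- Let P be a p-subgroup of the finite group G and H a subgroup with P ⊔ C_G(P) ≤ H ≤ N_G(P); fix a maximal ideal M of the algebraic integers containing p. Then a block B of G is induced by some block of H if and only if some conjugate of P is contained in a defect group of B. -/
theorem result {G : Type*} [Group G] [Finite G] (p : ℕ) [Fact p.Prime] (M : Ideal Cfsg.AlgInt) (hM : Cfsg.IsPModular p M) (P H : Subgroup G) (hP : IsPGroup p P) (hPH : P ⊔ Subgroup.centralizer (P : Set G) ≤ H) (hHN : H ≤ Subgroup.normalizer (P : Set G)) (B : Set (Cfsg.IrrCharacter G)) (hB : Cfsg.IsPBlock M B) : (∃ b : Set (Cfsg.IrrCharacter H), Cfsg.IsInducedBlock M H b B) ↔ ∃ D : Subgroup G, Cfsg.IsDefectGroup p M B D ∧ ∃ x : G, P.map (MulAut.conj x).toMonoidHom ≤ D := by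
  classical
  haveI : Fintype G := Fintype.ofFinite G
  haveI : Fintype H := Fintype.ofFinite H
  have hMp : M.IsPrime := Cfsg.Agent.Helper78.isPrime_of_isPModular hM
  have hPH' : P ≤ H := le_sup_left.trans hPH
  have hCH : Subgroup.centralizer (P : Set G) ≤ H := le_sup_right.trans hPH
  obtain ⟨χ₀, rfl⟩ := hB
  constructor
  · rintro ⟨b, hind⟩
    obtain ⟨ξ₀, hξ₀⟩ := hind.1
    have hξ₀b : ξ₀ ∈ b := by
      rw [hξ₀]; exact Cfsg.Agent.Helper16.sameBlock_refl (M := M) (ξ₀ : H → ℂ)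
    have hχ₀B : χ₀ ∈ blockOf M (χ₀ : G → ℂ) :=
      Cfsg.Agent.Helper16.sameBlock_refl (M := M) (χ₀ : G → ℂ)
    obtain ⟨k, hk⟩ := Cfsg.Agent.Helper16.exists_defectClass (M := M) χ₀
    have h1 := (Cfsg.Agent.Helper78.isInducedBlock_iff_brauerCentralChar hM hP hPH' hHN b hind.1 _
      hind.2.1).mp hind ξ₀ hξ₀b χ₀ hχ₀B k
    have h2 : brauerCentralChar P H (ξ₀ : H → ℂ) k ≠ 0 := by
      intro h0
      rw [h0, zero_sub] at h1
      have := Cfsg.Agent.Helper16.memLocalIdeal_neg h1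
      rw [neg_neg] at this
      exact hk.2.2 χ₀ hχ₀B this
    have h3 : ({h : H | IsConj k (h : G) ∧ (h : G) ∈ Subgroup.centralizer (P : Set G)} :
        Set H).Nonempty := by
      by_contra hne
      rw [Set.not_nonempty_iff_eq_empty] at hne
      apply h2
      unfold brauerCentralChar
      rw [hne]
      exact finsum_mem_empty
    obtain ⟨h, hkh, hhP⟩ := h3
    have hdef : IsDefectClass M (blockOf M (χ₀ : G → ℂ)) (h : G) :=
      Cfsg.Agent.Helper16.isDefectClass_of_isConj χ₀ hkh hk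
    have hPc : P ≤ Subgroup.centralizer ({(h : G)} : Set G) := by
      intro u hu
      rw [Subgroup.mem_centralizer_singleton_iff]
      exact hhP u hu
    have hPs : IsPGroup p (P.subgroupOf (Subgroup.centralizer ({(h : G)} : Set G))) := hP.comap_subtype
    obtain ⟨Q, hQ⟩ := hPs.exists_le_sylow
    refine ⟨_, ⟨(h : G), hdef, Q, rfl⟩, 1, ?_⟩
    rintro _ ⟨u, hu, rfl⟩
    refine ⟨⟨u, hPc hu⟩, hQ (Subgroup.mem_subgroupOf.mpr hu), ?_⟩
    simp
  · rintro ⟨D, ⟨g, hg, Q, rfl⟩, x, hx⟩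
    have hcent : x⁻¹ * g * x ∈ Subgroup.centralizer (P : Set G) := by
      intro u hu
      have h1 : x * u * x⁻¹ ∈ Subgroup.centralizer ({g} : Set G) := by
        have h2 := hx (Subgroup.mem_map_of_mem (MulAut.conj x).toMonoidHom hu)
        have h3 : (MulAut.conj x).toMonoidHom u = x * u * x⁻¹ := by simp
        rw [h3] at h2
        exact Subgroup.map_subtype_le _ h2
      rw [Subgroup.mem_centralizer_singleton_iff] at h1
      -- h1 : x u x⁻¹ * g = g * (x u x⁻¹)
      have h4 : x⁻¹ * (x * u * x⁻¹ * g) * x = x⁻¹ * (g * (x * u * x⁻¹)) * x := by rw [h1]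
      simpa [mul_assoc] using h4
    have hconj : IsConj g (x⁻¹ * g * x) := isConj_iff.mpr ⟨x⁻¹, by simp⟩
    have hco : ¬ MemLocalIdeal M (blockCoeff (blockOf M (χ₀ : G → ℂ)) (x⁻¹ * g * x)) := by
      rw [Cfsg.Agent.Helper16.blockCoeff_of_isConj χ₀ hconj]
      exact hg.2.1
    exact Cfsg.Agent.Helper78.exists_induced_of_blockCoeff_not_mem hM hP hPH' hCH hHN χ₀ _ hcent hco

end Cfsg.Agent.S0958
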