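import Cfsg.Statements.S0969
import Cfsg.Agent.Helper16.CentralDefectZero

set_option autoImplicit false
open Cfsg

namespace Cfsg.Agent.S0969

open Cfsg.Agent.Helper16 in
/-- Let D be a central p-subgroup of the finite group G and χ an irreducible character with the exponent of p in χ(1) equal to the exponent of p in the index of D; fix a maximal ideal M of the algebraic integers containing p. Then D is a defect group of the block of χ, and χ g = 0 whenever the p-part of g does not lie in D. -/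
theorem result {G : Type*} [Group G] [Finite G] (p : ℕ) [Fact p.Prime] (M : Ideal Cfsg.AlgInt) (hM : Cfsg.IsPModular p M) (D : Subgroup G) (hD : IsPGroup p D) (hDZ : D ≤ Subgroup.center G) (χ : Cfsg.IrrCharacter G) (hdeg : (Cfsg.charDegree (χ : G → ℂ)).factorization p = D.index.factorization p) : Cfsg.IsDefectGroup p M (Cfsg.blockOf M (χ : G → ℂ)) D ∧ ∀ g x : G, Cfsg.IsPPart p g x → x ∉ D → (χ : G → ℂ) g = 0 := by
  classical
  haveI : Fintype G := Fintype.ofFinite G
  refine ⟨isDefectGroup_of_central_defect_zero hM D hD hDZ χ hdeg, ?_⟩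
  intro g x hgx hxD
  obtain ⟨y, hxy, hcomm, ⟨k, hk⟩, hy⟩ := hgx
  apply (central_defect_zero_aux D hD hDZ χ hdeg).2 g
  intro z hz x' hx' hgz
  apply hxD
  -- `x = z`
  have hzc : ∀ t : G, t * z = z * t := Subgroup.mem_center_iff.mp (hDZ hz)
  have hx'eq : x' = (z⁻¹ * x) * y := by
    have h1 : z * x' = x * y := by rw [← hgz, hxy]
    have h2 : x' = z⁻¹ * (x * y) := by rw [← h1]; group
    rw [h2, mul_assoc]
  set u : G := z⁻¹ * x with hu
  have huy : u * y = y * u := by
    rw [hu]
    have hzy : z⁻¹ * y = y * z⁻¹ := by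
      have := hzc y
      calc z⁻¹ * y = z⁻¹ * (y * z) * z⁻¹ := by group
        _ = z⁻¹ * (z * y) * z⁻¹ := by rw [this]
        _ = y * z⁻¹ := by group
    calc z⁻¹ * x * y = z⁻¹ * (x * y) := by group
      _ = z⁻¹ * (y * x) := by rw [hcomm.eq]
      _ = (z⁻¹ * y) * x := by group
      _ = (y * z⁻¹) * x := by rw [hzy]
      _ = y * (z⁻¹ * x) := by group
  -- `u` is a `p`-element
  have hup : ∃ j : ℕ, u ^ p ^ j = 1 := by
    obtain ⟨i, hi⟩ := hD ⟨z, hz⟩
    have hi' : z ^ p ^ i = 1 := by
      have := congrArg (fun t : D => (t : G)) hi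
      simpa using this
    refine ⟨i + k, ?_⟩
    have hzx : Commute z⁻¹ x := by
      have := hzc x
      show z⁻¹ * x = x * z⁻¹
      calc z⁻¹ * x = z⁻¹ * (x * z) * z⁻¹ := by group
        _ = z⁻¹ * (z * x) * z⁻¹ := by rw [this]
        _ = x * z⁻¹ := by group
    rw [hu, hzx.mul_pow, inv_pow, pow_add, pow_mul, hi', one_pow, inv_one, one_mul,
      mul_comm (p ^ i) (p ^ k), pow_mul, ← hk, pow_orderOf_eq_one, one_pow]
  have hu1 : u = 1 := by
    by_contra hne
    obtain ⟨j, hj⟩ := hup
    have hUp : IsPGroup p (Subgroup.zpowers u) := by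
      rintro ⟨w, hw⟩
      obtain ⟨i, rfl⟩ := Subgroup.mem_zpowers_iff.mp hw
      refine ⟨j, Subtype.ext ?_⟩
      show (u ^ i) ^ p ^ j = 1
      rw [← zpow_natCast, ← zpow_mul, mul_comm, zpow_mul, zpow_natCast, hj, one_zpow]
    apply hx'
    rw [hx'eq]
    exact Helper77.dvd_orderOf_mul_of_isPGroup hUp (Subgroup.mem_zpowers u) hne huy hy
  have : x = z := by
    have := congrArg (fun t => z * t) hu1
    simpa [hu] using this
  rw [this]
  exact hz

end Cfsg.Agent.S0969
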