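import Mathlib
import Cfsg.Statements.S0974
import Cfsg.Agent.Helper17.ExcApply

set_option autoImplicit false
open Cfsg

namespace Cfsg.Agent.S0974

open Cfsg.Agent.Helper17 Cfsg.Agent.Helper17.Exc Subgroup

set_option maxRecDepth 100000 in
theorem key1 : ∀ d₁ ∈ Nat.divisors 3648, 1 < d₁ → d₁ % 19 = 1 → ¬ (d₁ + 1 ∣ 3648) := by decide

set_option maxRecDepth 100000 in
theorem key2 : ∀ d ∈ Nat.divisors 3648, d % 19 = 17 → ¬ (d + 1 ∣ 3648) := by decide

theorem key3 : ∀ n ∈ Nat.divisors 192, n % 19 = 1 → n ≠ 1 → n = 96 := by decide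

/-- No finite simple group has order 3648 = 2^6 * 3 * 19. -/
theorem result {G : Type*} [Group G] [Finite G] [IsSimpleGroup G] : Nat.card G ≠ 3648 := by
  intro h
  haveI : Fact (Nat.Prime 19) := ⟨by norm_num⟩
  have hG : Nat.card G = 19 ^ 1 * 192 := by rw [h]; norm_num
  have h19 : ¬ 19 ∣ 192 := by norm_num
  obtain ⟨P⟩ : Nonempty (Sylow 19 G) := inferInstance
  have hP : Nat.card (P : Subgroup G) = 19 := by
    have := card_sylow_subgroup_of_card_eq hG h19 P
    simpa using this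
  have hn1 : Nat.card (Sylow 19 G) ∣ 192 := card_sylow_dvd_of_card_eq hG h19
  have hn2 : Nat.card (Sylow 19 G) ≡ 1 [MOD 19] := card_sylow_modEq_one 19 G
  have hn3 : Nat.card (Sylow 19 G) ≠ 1 :=
    card_sylow_ne_one_of_simple hG h19 (by norm_num) (by norm_num)
  have hn : Nat.card (Sylow 19 G) = 96 :=
    key3 _ (Nat.mem_divisors.mpr ⟨hn1, by norm_num⟩) hn2 hn3
  have hN : Nat.card (normalizer ((P : Subgroup G) : Set G)) = 19 * 2 := by
    have := card_normalizer_mul_card_sylow P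
    rw [hn, h] at this
    omega
  have hC := self_centralizing_setup P hP (by rw [h]; norm_num) hN (by
    intro d hd1 _ hd2
    have := Nat.le_of_dvd (by norm_num) hd2
    omega)
  have hperf : commutator G = ⊤ := commutator_eq_top_of_simple (by rw [h]; norm_num)
  obtain ⟨δ, ε, d₁, d, r, hδ, hε, hd₁, hd, hd₁1, hc₁, hc, heq, _, _⟩ :=
    brauer_two hperf (P : Subgroup G) (by norm_num : Nat.Prime 19) hP hC hN (by norm_num)
  rw [h] at hd₁ hd
  have hd₁m : d₁ ∈ Nat.divisors 3648 := Nat.mem_divisors.mpr ⟨hd₁, by norm_num⟩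
  have hdm : d ∈ Nat.divisors 3648 := Nat.mem_divisors.mpr ⟨hd, by norm_num⟩
  have hdpos : 0 < d := Nat.pos_of_dvd_of_pos hd (by norm_num)
  unfold Int.ModEq at hc₁ hc
  rcases hδ with rfl | rfl <;> rcases hε with rfl | rfl
  · -- d = d₁ + 1
    have e1 : d = d₁ + 1 := by omega
    refine key1 d₁ hd₁m hd₁1 (by omega) ?_
    rw [← e1]; exact hd
  · omega
  · omega
  · -- d₁ = d + 1
    have e1 : d₁ = d + 1 := by omega
    refine key2 d hdm (by omega) ?_
    rw [← e1]; exact hd₁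

end Cfsg.Agent.S0974
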