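import Mathlib
import Cfsg.Statements.S0975
import Cfsg.Agent.Helper17.ExcApply

set_option autoImplicit false
open Cfsg

namespace Cfsg.Agent.S0975

open Cfsg.Agent.Helper17 Cfsg.Agent.Helper17.Exc Subgroup

set_option maxRecDepth 100000 in
theorem key1 : ∀ d₁ ∈ Nat.divisors 3744, 1 < d₁ → d₁ % 13 = 1 → ¬ (d₁ + 1 ∣ 3744) := by decide

set_option maxRecDepth 100000 in
theorem key2 : ∀ d ∈ Nat.divisors 3744, d % 13 = 11 → ¬ (d + 1 ∣ 3744) := by decide

theorem key3 : ∀ n ∈ Nat.divisors 288, n % 13 = 1 → n ≠ 1 → n = 144 := by decide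

/-- No finite simple group has order 3744 = 2^5 * 3^2 * 13. -/
theorem result {G : Type*} [Group G] [Finite G] [IsSimpleGroup G] : Nat.card G ≠ 3744 := by
  intro h
  haveI : Fact (Nat.Prime 13) := ⟨by norm_num⟩
  have hG : Nat.card G = 13 ^ 1 * 288 := by rw [h]; norm_num
  have h13 : ¬ 13 ∣ 288 := by norm_num
  obtain ⟨P⟩ : Nonempty (Sylow 13 G) := inferInstance
  have hP : Nat.card (P : Subgroup G) = 13 := by
    have := card_sylow_subgroup_of_card_eq hG h13 P
    simpa using this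
  have hn1 : Nat.card (Sylow 13 G) ∣ 288 := card_sylow_dvd_of_card_eq hG h13
  have hn2 : Nat.card (Sylow 13 G) ≡ 1 [MOD 13] := card_sylow_modEq_one 13 G
  have hn3 : Nat.card (Sylow 13 G) ≠ 1 :=
    card_sylow_ne_one_of_simple hG h13 (by norm_num) (by norm_num)
  have hn : Nat.card (Sylow 13 G) = 144 :=
    key3 _ (Nat.mem_divisors.mpr ⟨hn1, by norm_num⟩) hn2 hn3
  have hN : Nat.card (normalizer ((P : Subgroup G) : Set G)) = 13 * 2 := by
    have := card_normalizer_mul_card_sylow P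
    rw [hn, h] at this
    omega
  have hC := self_centralizing_setup P hP (by rw [h]; norm_num) hN (by
    intro d hd1 _ hd2
    have := Nat.le_of_dvd (by norm_num) hd2
    omega)
  have hperf : commutator G = ⊤ := commutator_eq_top_of_simple (by rw [h]; norm_num)
  obtain ⟨δ, ε, d₁, d, r, hδ, hε, hd₁, hd, hd₁1, hc₁, hc, heq, _, _⟩ :=
    brauer_two hperf (P : Subgroup G) (by norm_num : Nat.Prime 13) hP hC hN (by norm_num)
  rw [h] at hd₁ hd
  have hd₁m : d₁ ∈ Nat.divisors 3744 := Nat.mem_divisors.mpr ⟨hd₁, by norm_num⟩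
  have hdm : d ∈ Nat.divisors 3744 := Nat.mem_divisors.mpr ⟨hd, by norm_num⟩
  have hdpos : 0 < d := Nat.pos_of_dvd_of_pos hd (by norm_num)
  unfold Int.ModEq at hc₁ hc
  rcases hδ with rfl | rfl <;> rcases hε with rfl | rfl
  · have e1 : d = d₁ + 1 := by omega
    refine key1 d₁ hd₁m hd₁1 (by omega) ?_
    rw [← e1]; exact hd
  · omega
  · omega
  · have e1 : d₁ = d + 1 := by omega
    refine key2 d hdm (by omega) ?_
    rw [← e1]; exact hd₁

end Cfsg.Agent.S0975
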