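import Mathlib
import Cfsg.Statements.S0976
import Cfsg.Agent.Helper17.VTrick2
import Cfsg.Agent.Helper17.ExcChar5
import Cfsg.Agent.Helper17.ExcApply
import Cfsg.Agent.Helper17.OrbitCount
import Cfsg.Agent.Helper17.CountOrder
import Cfsg.Agent.Helper43.ClassCount

set_option autoImplicit false
set_option linter.style.haveILetI false
open Cfsg

namespace Cfsg.Agent.S0976

open Cfsg.Agent.Helper17 Cfsg.Agent.Helper17.Exc Subgroup

theorem key_n7 : ∀ n ∈ Nat.divisors 576, n % 7 = 1 → n ≠ 1 →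
    n = 8 ∨ n = 36 ∨ n = 64 ∨ n = 288 := by
  decide

theorem key_n36 : ∀ n ∈ Nat.divisors 36, n % 7 = 1 → n = 1 ∨ n = 36 := by decide

theorem key_n64 : ∀ n ∈ Nat.divisors 64, n % 7 = 1 → n = 1 ∨ n = 8 ∨ n = 64 := by decide

theorem key_n3 : ∀ n ∈ Nat.divisors 448, n % 3 = 1 →
    n = 1 ∨ n = 4 ∨ n = 7 ∨ n = 16 ∨ n = 28 ∨ n = 64 ∨ n = 112 ∨ n = 448 := by
  decide

set_option maxRecDepth 100000 in
theorem key_d1 : ∀ d₁ ∈ Nat.divisors 4032, 1 < d₁ → d₁ % 7 = 1 → d₁ + 1 ∣ 4032 →
    1 + d₁ ^ 2 + 3 * (d₁ + 1) ^ 2 ≤ 4032 → d₁ = 8 := by decide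

set_option maxRecDepth 100000 in
theorem key_d2 : ∀ d ∈ Nat.divisors 4032, d % 7 = 5 → ¬ (d + 1 ∣ 4032) := by decide

theorem not_isSquare : ¬ IsSquare (7 * 4032 * 8 * 9) := by
  rintro ⟨m, hm⟩
  have h1 : m ≤ 1425 ∨ 1426 ≤ m := by omega
  rcases h1 with h1 | h1
  · have : m * m ≤ 1425 * 1425 := Nat.mul_le_mul h1 h1
    omega
  · have : 1426 * 1426 ≤ m * m := Nat.mul_le_mul h1 h1
    omega

variable {G : Type*} [Group G] [Finite G] [IsSimpleGroup G]

/-- The 7-local structure. -/
theorem local7 (h : Nat.card G = 4032) [Fact (Nat.Prime 7)] (P : Sylow 7 G) :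
    Nat.card (P : Subgroup G) = 7 ∧
    ((Nat.card (normalizer ((P : Subgroup G) : Set G)) = 112 ∧
        Nat.card (centralizer ((P : Subgroup G) : Set G)) = 56) ∨
      (Nat.card (normalizer ((P : Subgroup G) : Set G)) = 63 ∧
        Nat.card (centralizer ((P : Subgroup G) : Set G)) = 21) ∨
      (Nat.card (normalizer ((P : Subgroup G) : Set G)) = 14 ∧
        Nat.card (centralizer ((P : Subgroup G) : Set G)) = 7)) := by
  have hG : ¬ IsMulCommutative G := not_comm_of_simple_of_not_prime (by rw [h]; norm_num)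
  have hG7 : Nat.card G = 7 ^ 1 * 576 := by rw [h]; norm_num
  have h7 : ¬ 7 ∣ 576 := by norm_num
  have hP : Nat.card (P : Subgroup G) = 7 := by
    have := card_sylow_subgroup_of_card_eq hG7 h7 P
    simpa using this
  have hn1 : Nat.card (Sylow 7 G) ∣ 576 := card_sylow_dvd_of_card_eq hG7 h7
  have hn2 : Nat.card (Sylow 7 G) ≡ 1 [MOD 7] := card_sylow_modEq_one 7 G
  have hn3 : Nat.card (Sylow 7 G) ≠ 1 :=
    card_sylow_ne_one_of_simple hG7 h7 (by norm_num) (by norm_num)
  have hNn := card_normalizer_mul_card_sylow P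
  rw [h] at hNn
  obtain ⟨hd1, hd2⟩ := relIndex_dvd_of_card_sylow_prime P hP
  have hcm := card_centralizer_mul_relIndex (P : Subgroup G)
  have h0 : (centralizer ((P : Subgroup G) : Set G)).relIndex
    (normalizer ((P : Subgroup G) : Set G)) ≠ 0 := Subgroup.index_ne_zero_of_finite
  have hne : ¬ (normalizer ((P : Subgroup G) : Set G) ≤ centralizer ((P : Subgroup G) : Set G)) :=
    not_normalizer_le_centralizer_of_simple P (by rw [hP]; norm_num) (by rw [hP, h]; norm_num)
  have h1' : (centralizer ((P : Subgroup G) : Set G)).relIndex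
    (normalizer ((P : Subgroup G) : Set G)) ≠ 1 := fun h => hne (Subgroup.relIndex_eq_one.mp h)
  generalize hdd : (centralizer ((P : Subgroup G) : Set G)).relIndex
    (normalizer ((P : Subgroup G) : Set G)) = d at hd1 hd2 hcm h0 h1'
  have hd6 : d ≤ 6 := Nat.le_of_dvd (by norm_num) hd1
  refine ⟨hP, ?_⟩
  rcases key_n7 _ (Nat.mem_divisors.mpr ⟨hn1, by norm_num⟩) hn2 hn3 with h8 | h36 | h64 | h288
  · -- n_7 = 8: Lemma N
    exfalso
    rw [h8] at hNn
    have hN : Nat.card (normalizer ((P : Subgroup G) : Set G)) = 504 := by omega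
    have hidx : (normalizer ((P : Subgroup G) : Set G)).index = 7 + 1 := by
      have := Sylow.card_eq_index_normalizer P
      rw [h8] at this
      exact this.symm
    have hne_top : normalizer ((P : Subgroup G) : Set G) ≠ ⊤ := by
      intro ht
      rw [ht, Subgroup.index_top] at hidx
      omega
    have := two_mul_card_normalizer_dvd_of_index hG _ hne_top 7 (Or.inr hidx)
      (by rw [h]; norm_num) P
    rw [hN] at this
    norm_num at this
  · left
    rw [h36] at hNn
    have hN : Nat.card (normalizer ((P : Subgroup G) : Set G)) = 112 := by omega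
    refine ⟨hN, ?_⟩
    rw [hN] at hd2 hcm
    have hd16 : d ∣ 16 := by
      have : 7 * d ∣ 7 * 16 := hd2
      exact (Nat.mul_dvd_mul_iff_left (by norm_num)).mp this
    have hd2' : d = 2 := by
      have h2 : d ∣ Nat.gcd 16 6 := Nat.dvd_gcd hd16 hd1
      have h3 : d ≤ 2 := Nat.le_of_dvd (by norm_num) h2
      omega
    rw [hd2'] at hcm
    omega
  · right; left
    rw [h64] at hNn
    have hN : Nat.card (normalizer ((P : Subgroup G) : Set G)) = 63 := by omega
    refine ⟨hN, ?_⟩
    rw [hN] at hd2 hcm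
    have hd9 : d ∣ 9 := by
      have : 7 * d ∣ 7 * 9 := hd2
      exact (Nat.mul_dvd_mul_iff_left (by norm_num)).mp this
    have hd3' : d = 3 := by
      have h2 : d ∣ Nat.gcd 9 6 := Nat.dvd_gcd hd9 hd1
      have h3 : d ≤ 3 := Nat.le_of_dvd (by norm_num) h2
      interval_cases d <;> simp_all
    rw [hd3'] at hcm
    omega
  · right; right
    rw [h288] at hNn
    have hN : Nat.card (normalizer ((P : Subgroup G) : Set G)) = 14 := by omega
    refine ⟨hN, ?_⟩
    rw [hN] at hd2 hcm
    have hd2'' : d ∣ 2 := by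
      have : 7 * d ∣ 7 * 2 := hd2
      exact (Nat.mul_dvd_mul_iff_left (by norm_num)).mp this
    have hd2' : d = 2 := by
      have h3 : d ≤ 2 := Nat.le_of_dvd (by norm_num) hd2''
      omega
    rw [hd2'] at hcm
    omega

/-- Case A: `n_7 = 36`. -/
theorem caseA (h : Nat.card G = 4032) [Fact (Nat.Prime 7)] (P : Sylow 7 G)
    (hN : Nat.card (normalizer ((P : Subgroup G) : Set G)) = 112)
    (hC : Nat.card (centralizer ((P : Subgroup G) : Set G)) = 56) : False := by
  have hG : ¬ IsMulCommutative G := not_comm_of_simple_of_not_prime (by rw [h]; norm_num)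
  haveI : Fact (Nat.Prime 2) := ⟨by norm_num⟩
  obtain ⟨hP, -⟩ := local7 h P
  refine vtrick hG (p := 7) (q := 2) (by norm_num) P hP ?_ (a := 4) (b := 3)
    (by rw [hN]; norm_num) (by rw [hC]; norm_num) (by norm_num) (by rw [h]; norm_num)
  intro R hNR hR
  have hPR : (P : Subgroup G) ≤ R := le_normalizer.trans hNR
  have hcount := card_sylow_of_le P R hPR
  rw [inf_eq_right.mpr hNR, hN] at hcount
  have hmod : Nat.card (Sylow 7 ↥R) ≡ 1 [MOD 7] := card_sylow_modEq_one 7 _
  have hRdvd : Nat.card R ∣ 4032 := by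
    have := Subgroup.card_subgroup_dvd_card R
    rwa [h] at this
  generalize hn : Nat.card (Sylow 7 ↥R) = n at hcount hmod
  have hn36 : n ∣ 36 := by
    have : n * 112 ∣ 36 * 112 := by rw [hcount]; exact hRdvd
    exact (Nat.mul_dvd_mul_iff_right (by norm_num)).mp this
  rcases key_n36 n (Nat.mem_divisors.mpr ⟨hn36, by norm_num⟩) hmod with rfl | rfl
  · symm
    apply Subgroup.eq_of_le_of_card_ge hNR
    rw [hN, ← hcount]
  · exfalso
    apply hR
    apply Subgroup.eq_top_of_card_eq
    rw [← hcount, h]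

/-- Case C: `n_7 = 288`. -/
theorem caseC (h : Nat.card G = 4032) [Fact (Nat.Prime 7)] (P : Sylow 7 G)
    (hN : Nat.card (normalizer ((P : Subgroup G) : Set G)) = 14) : False := by
  obtain ⟨hP, -⟩ := local7 h P
  have hN' : Nat.card (normalizer ((P : Subgroup G) : Set G)) = 7 * 2 := by rw [hN]
  have hC := self_centralizing_setup P hP (by rw [h]; norm_num) hN' (by
    intro d hd1 _ hd2
    have := Nat.le_of_dvd (by norm_num) hd2
    omega)
  have hperf : commutator G = ⊤ := commutator_eq_top_of_simple (by rw [h]; norm_num)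
  obtain ⟨δ, d₁, d, r, hδ, hd₁, hd, hd₁1, hc₁, heq, hr, hle, hsq⟩ :=
    brauer_two_sq hperf (P : Subgroup G) (by norm_num : Nat.Prime 7) hP hC hN' (by norm_num)
  rw [h] at hd₁ hd hle hsq
  have hr3 : r = 3 := by omega
  subst hr3
  have hd₁m : d₁ ∈ Nat.divisors 4032 := Nat.mem_divisors.mpr ⟨hd₁, by norm_num⟩
  have hdm : d ∈ Nat.divisors 4032 := Nat.mem_divisors.mpr ⟨hd, by norm_num⟩
  unfold Int.ModEq at hc₁
  rcases hδ with rfl | rfl
  · have e1 : d = d₁ + 1 := by omega
    subst e1
    have := key_d1 d₁ hd₁m hd₁1 (by omega) hd hle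
    subst this
    exact not_isSquare hsq
  · have e1 : d₁ = d + 1 := by omega
    subst e1
    exact key_d2 d hdm (by omega) hd₁


/-- Case B: a proper subgroup containing `N(P)` equals `N(P)`. -/
theorem maxB (h : Nat.card G = 4032) [Fact (Nat.Prime 7)] (P : Sylow 7 G)
    (hN : Nat.card (normalizer ((P : Subgroup G) : Set G)) = 63)
    (R : Subgroup G) (hNR : normalizer ((P : Subgroup G) : Set G) ≤ R) (hR : R ≠ ⊤) :
    R = normalizer ((P : Subgroup G) : Set G) := by
  have hG : ¬ IsMulCommutative G := not_comm_of_simple_of_not_prime (by rw [h]; norm_num)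
  have hPR : (P : Subgroup G) ≤ R := le_normalizer.trans hNR
  have hcount := card_sylow_of_le P R hPR
  rw [inf_eq_right.mpr hNR, hN] at hcount
  have hmod : Nat.card (Sylow 7 ↥R) ≡ 1 [MOD 7] := card_sylow_modEq_one 7 _
  have hRdvd : Nat.card R ∣ 4032 := by
    have := Subgroup.card_subgroup_dvd_card R
    rwa [h] at this
  have hidx := Subgroup.card_mul_index R
  rw [h] at hidx
  generalize hn : Nat.card (Sylow 7 ↥R) = n at hcount hmod
  have hn64 : n ∣ 64 := by
    have : n * 63 ∣ 64 * 63 := by rw [hcount]; exact hRdvd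
    exact (Nat.mul_dvd_mul_iff_right (by norm_num)).mp this
  rcases key_n64 n (Nat.mem_divisors.mpr ⟨hn64, by norm_num⟩) hmod with rfl | rfl | rfl
  · symm
    apply Subgroup.eq_of_le_of_card_ge hNR
    rw [hN, ← hcount]
  · exfalso
    have hidx8 : R.index = 7 + 1 := by
      rw [← hcount] at hidx
      omega
    have := two_mul_card_normalizer_dvd_of_index hG R hR 7 (Or.inr hidx8)
      (by rw [h]; norm_num) P
    rw [hN] at this
    norm_num at this
  · exfalso
    apply hR
    apply Subgroup.eq_top_of_card_eq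
    rw [← hcount, h]

/-- In case B, no element of order `7` normalizes a Sylow `3`-subgroup. -/
theorem seven_not_dvd (h : Nat.card G = 4032) [Fact (Nat.Prime 7)] [Fact (Nat.Prime 3)]
    (Q : Sylow 3 G) (hQ : Nat.card (Q : Subgroup G) = 9)
    (h7 : 7 ∣ Nat.card (normalizer ((Q : Subgroup G) : Set G))) : False := by
  obtain ⟨z', hz'⟩ := exists_prime_orderOf_dvd_card'
    (G := ↥(normalizer ((Q : Subgroup G) : Set G))) 7 h7
  obtain ⟨z, hzdef⟩ : ∃ z : G, z = (z' : G) := ⟨_, rfl⟩
  have hz7 : orderOf z = 7 := by rw [hzdef, Subgroup.orderOf_coe, hz']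
  have hzH : z ∈ normalizer ((Q : Subgroup G) : Set G) := by rw [hzdef]; exact z'.2
  have hP7 : ∀ P : Sylow 7 G, Nat.card (P : Subgroup G) = 7 := fun P => (local7 h P).1
  obtain ⟨P', hP'⟩ := exists_sylow_eq_zpowers hP7 z hz7
  have hZ7 : IsPGroup 7 (zpowers z) := by
    apply IsPGroup.of_card (n := 1)
    rw [Nat.card_zpowers, hz7, pow_one]
  have hcong := card_modEq_card_inf_centralizer (zpowers z) (Q : Subgroup G) hZ7
    (zpowers_le.mpr hzH)
  rw [hQ] at hcong
  have hdvd : Nat.card ((Q : Subgroup G) ⊓ centralizer ((zpowers z : Subgroup G) : Set G) :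
      Subgroup G) ∣ 9 := by
    have := Subgroup.card_dvd_of_le (inf_le_left :
      (Q : Subgroup G) ⊓ centralizer ((zpowers z : Subgroup G) : Set G) ≤ (Q : Subgroup G))
    rwa [hQ] at this
  have h9 : Nat.card ((Q : Subgroup G) ⊓ centralizer ((zpowers z : Subgroup G) : Set G) :
      Subgroup G) = 9 := by
    generalize Nat.card ((Q : Subgroup G) ⊓ centralizer ((zpowers z : Subgroup G) : Set G) :
      Subgroup G) = x at hcong hdvd
    have hx : x ≤ 9 := Nat.le_of_dvd (by norm_num) hdvd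
    unfold Nat.ModEq at hcong
    interval_cases x <;> simp_all
  have hQC : (Q : Subgroup G) ≤ centralizer (((P' : Subgroup G)) : Set G) := by
    rw [hP']
    have : (Q : Subgroup G) ⊓ centralizer ((zpowers z : Subgroup G) : Set G) = (Q : Subgroup G) :=
      Subgroup.eq_of_le_of_card_ge inf_le_left (by rw [h9, hQ])
    exact inf_eq_left.mp this
  have h9C := Subgroup.card_dvd_of_le hQC
  rw [hQ] at h9C
  obtain ⟨-, ⟨-, hC⟩ | ⟨-, hC⟩ | ⟨-, hC⟩⟩ := local7 h P' <;> rw [hC] at h9C <;> omega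

/-- Case B: `n_7 = 64`. -/
theorem caseB (h : Nat.card G = 4032) [Fact (Nat.Prime 7)] (P : Sylow 7 G)
    (hN : Nat.card (normalizer ((P : Subgroup G) : Set G)) = 63)
    (hC : Nat.card (centralizer ((P : Subgroup G) : Set G)) = 21) : False := by
  classical
  have hG : ¬ IsMulCommutative G := not_comm_of_simple_of_not_prime (by rw [h]; norm_num)
  haveI : Fact (Nat.Prime 3) := ⟨by norm_num⟩
  haveI : Fact (Nat.Prime 2) := ⟨by norm_num⟩
  obtain ⟨hP, -⟩ := local7 h P
  have hCN : centralizer ((P : Subgroup G) : Set G) ≤ normalizer ((P : Subgroup G) : Set G) :=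
    Subgroup.centralizer_le_normalizer _
  -- an element w of order 3 in C(P)
  obtain ⟨w', hw'⟩ := exists_prime_orderOf_dvd_card'
    (G := ↥(centralizer ((P : Subgroup G) : Set G))) 3 (by rw [hC]; norm_num)
  obtain ⟨w, hwdef⟩ : ∃ w : G, w = (w' : G) := ⟨_, rfl⟩
  have hw3 : orderOf w = 3 := by rw [hwdef, Subgroup.orderOf_coe, hw']
  have hwC : w ∈ centralizer ((P : Subgroup G) : Set G) := by rw [hwdef]; exact w'.2
  have hwN : w ∈ normalizer ((P : Subgroup G) : Set G) := hCN hwC
  have hw1 : w ≠ 1 := by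
    rintro rfl
    rw [orderOf_one] at hw3
    omega
  have hwww : w * w * w = 1 := by
    have := pow_orderOf_eq_one w
    rw [hw3] at this
    rw [← this, pow_succ, pow_succ, pow_one]
  -- a Sylow 3-subgroup of N(P) containing w
  have hZ3 : IsPGroup 3 (zpowers w) := by
    apply IsPGroup.of_card (n := 1)
    rw [Nat.card_zpowers, hw3, pow_one]
  have hZ3' : IsPGroup 3 ((zpowers w).subgroupOf (normalizer ((P : Subgroup G) : Set G))) :=
    hZ3.comap_subtype
  obtain ⟨Q', hQ'⟩ := hZ3'.exists_le_sylow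
  have hQ'9 : Nat.card (Q' : Subgroup ↥(normalizer ((P : Subgroup G) : Set G))) = 9 := by
    have := card_sylow_subgroup_of_card_eq (G := ↥(normalizer ((P : Subgroup G) : Set G)))
      (p := 3) (k := 2) (m := 7) (by rw [hN]; norm_num) (by norm_num) Q'
    simpa using this
  obtain ⟨Q₀, hQ₀def⟩ : ∃ Q₀ : Subgroup G, Q₀ = (Q' : Subgroup ↥(normalizer
    ((P : Subgroup G) : Set G))).map (normalizer ((P : Subgroup G) : Set G)).subtype := ⟨_, rfl⟩
  have hQ₀9 : Nat.card Q₀ = 9 := by
    rw [hQ₀def, Subgroup.card_map_of_injective (Subgroup.subtype_injective _), hQ'9]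
  have hQ₀N : Q₀ ≤ normalizer ((P : Subgroup G) : Set G) := by
    rw [hQ₀def]
    rintro _ ⟨x, -, rfl⟩
    exact x.2
  have hwQ₀ : w ∈ Q₀ := by
    rw [hQ₀def]
    exact ⟨⟨w, hwN⟩, hQ' (Subgroup.mem_subgroupOf.mpr (Subgroup.mem_zpowers w)), rfl⟩
  obtain ⟨Q, hQ₀Q⟩ := (IsPGroup.of_card (p := 3) (n := 2) (by rw [hQ₀9]; norm_num) :
    IsPGroup 3 Q₀).exists_le_sylow
  have hQ9 : Nat.card (Q : Subgroup G) = 9 := by
    have := card_sylow_subgroup_of_card_eq (p := 3) (k := 2) (m := 448) (by rw [h]; norm_num)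
      (by norm_num) Q
    simpa using this
  have hQeq : Q₀ = (Q : Subgroup G) := Subgroup.eq_of_le_of_card_ge hQ₀Q (by rw [hQ9, hQ₀9])
  have hQN : (Q : Subgroup G) ≤ normalizer ((P : Subgroup G) : Set G) := hQeq ▸ hQ₀N
  have hwQ : w ∈ (Q : Subgroup G) := hQeq ▸ hwQ₀
  have hQcomm : ∀ a b : (Q : Subgroup G), a * b = b * a :=
    (IsPGroup.isMulCommutative_of_card_eq_prime_sq (p := 3) (by rw [hQ9]; norm_num)).is_comm.comm
  -- C(w) = N(P)
  have hQM : (Q : Subgroup G) ≤ centralizer ({w} : Set G) := by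
    intro x hx
    rw [Subgroup.mem_centralizer_singleton_iff]
    exact congrArg Subtype.val (hQcomm ⟨x, hx⟩ ⟨w, hwQ⟩)
  have hPM : (P : Subgroup G) ≤ centralizer ({w} : Set G) := by
    intro x hx
    rw [Subgroup.mem_centralizer_singleton_iff]
    have := hwC
    rw [Subgroup.mem_centralizer_iff] at this
    exact (this x hx)
  have hNM : normalizer ((P : Subgroup G) : Set G) ≤ centralizer ({w} : Set G) :=
    le_of_card_parts (A := (P : Subgroup G)) (B := (Q : Subgroup G)) hPM Subgroup.le_normalizer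
      hQM hQN (by rw [hP, hQ9]; norm_num) (by rw [hN, hP, hQ9])
  have hMtop : centralizer ({w} : Set G) ≠ ⊤ := centralizer_ne_top_of_simple hG hw1
  have hMN := maxB h P hN _ hNM hMtop
  -- w is not conjugate to its inverse
  have hclaimA : ∀ g : G, g * w * g⁻¹ ≠ w⁻¹ := by
    intro g hg
    have hgn : g ∈ normalizer ((zpowers w : Subgroup G) : Set G) := by
      apply mem_normalizer_of_conj_mem
      intro x hx
      obtain ⟨i, rfl⟩ := Subgroup.mem_zpowers_iff.mp hx
      rw [← conj_zpow, hg]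
      exact Subgroup.zpow_mem _ (Subgroup.inv_mem _ (Subgroup.mem_zpowers w)) i
    have hle : normalizer ((P : Subgroup G) : Set G)
        ≤ normalizer ((zpowers w : Subgroup G) : Set G) := by
      rw [← hMN]
      intro x hx
      apply mem_normalizer_of_conj_mem
      intro y hy
      obtain ⟨i, rfl⟩ := Subgroup.mem_zpowers_iff.mp hy
      have hxw : x * w = w * x := Subgroup.mem_centralizer_singleton_iff.mp hx
      have : x * w ^ i * x⁻¹ = w ^ i := by
        rw [← conj_zpow]
        congr 1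
        calc x * w * x⁻¹ = w * x * x⁻¹ := by rw [hxw]
          _ = w := by group
      rw [this]
      exact Subgroup.zpow_mem _ (Subgroup.mem_zpowers w) i
    have htop : normalizer ((zpowers w : Subgroup G) : Set G) ≠ ⊤ :=
      normalizer_ne_top_of_simple (zpowers w) (by rw [Nat.card_zpowers, hw3]; norm_num)
        (by rw [Nat.card_zpowers, hw3, h]; norm_num)
    have heq := maxB h P hN _ hle htop
    rw [heq, ← hMN, Subgroup.mem_centralizer_singleton_iff] at hgn
    have : g * w * g⁻¹ = w := by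
      calc g * w * g⁻¹ = w * g * g⁻¹ := by rw [hgn]
        _ = w := by group
    rw [this] at hg
    -- w = w⁻¹ contradicts order 3
    have hww : w * w = 1 := by
      calc w * w = w * w⁻¹ := by rw [← hg]
        _ = 1 := mul_inv_cancel w
    apply hw1
    calc w = (w * w * w) * (w * w)⁻¹ := by group
      _ = 1 := by rw [hwww, hww]; group
  -- the normalizer H of Q
  have hG3 : Nat.card G = 3 ^ 2 * 448 := by rw [h]; norm_num
  have h3 : ¬ 3 ∣ 448 := by norm_num
  have hn1 : Nat.card (Sylow 3 G) ∣ 448 := card_sylow_dvd_of_card_eq hG3 h3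
  have hn2 : Nat.card (Sylow 3 G) ≡ 1 [MOD 3] := card_sylow_modEq_one 3 G
  have hn3 : Nat.card (Sylow 3 G) ≠ 1 :=
    card_sylow_ne_one_of_simple hG3 h3 (by norm_num) (by norm_num)
  obtain ⟨H, hHdef⟩ : ∃ H : Subgroup G, H = normalizer ((Q : Subgroup G) : Set G) := ⟨_, rfl⟩
  have hHn : Nat.card H * Nat.card (Sylow 3 G) = 4032 := by
    have := card_normalizer_mul_card_sylow Q
    rw [h] at this
    rw [hHdef]; exact this
  have hidxH : Nat.card (Sylow 3 G) = H.index := by
    have := Sylow.card_eq_index_normalizer Q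
    rw [hHdef]; exact this
  have hQH : (Q : Subgroup G) ≤ H := by rw [hHdef]; exact Subgroup.le_normalizer
  have hHcard : Nat.card H = 36 ∨ Nat.card H = 144 := by
    rcases key_n3 _ (Nat.mem_divisors.mpr ⟨hn1, by norm_num⟩) hn2 with
      h1 | h4 | h7 | h16 | h28 | h64 | h112 | h448
    · exact absurd h1 hn3
    · exfalso
      have hHtop : H ≠ ⊤ := by
        intro ht
        rw [ht, Subgroup.index_top] at hidxH
        omega
      have := two_mul_card_dvd_factorial_of_index_le hG H hHtop (k := 7) (by omega)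
      rw [h] at this
      norm_num [Nat.factorial] at this
    · exfalso
      have hHtop : H ≠ ⊤ := by
        intro ht
        rw [ht, Subgroup.index_top] at hidxH
        omega
      have := two_mul_card_dvd_factorial_of_index_le hG H hHtop (k := 7) (by omega)
      rw [h] at this
      norm_num [Nat.factorial] at this
    · exfalso
      apply seven_not_dvd h Q hQ9
      rw [← hHdef]
      have : Nat.card H = 252 := by rw [h16] at hHn; omega
      rw [this]; norm_num
    · right
      rw [h28] at hHn; omega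
    · exfalso
      apply seven_not_dvd h Q hQ9
      rw [← hHdef]
      have : Nat.card H = 63 := by rw [h64] at hHn; omega
      rw [this]; norm_num
    · left
      rw [h112] at hHn; omega
    · exfalso
      have hH9 : Nat.card H = 9 := by rw [h448] at hHn; omega
      have hHQ : (Q : Subgroup G) = H := Subgroup.eq_of_le_of_card_ge hQH (by rw [hH9, hQ9])
      apply not_normalizer_le_centralizer_of_simple Q (by rw [hQ9]; norm_num)
        (by rw [hQ9, h]; norm_num)
      rw [← hHdef, ← hHQ]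
      intro x hx
      rw [Subgroup.mem_centralizer_iff]
      intro y hy
      exact congrArg Subtype.val (hQcomm ⟨y, hy⟩ ⟨x, hx⟩)
  have hMcard : Nat.card (centralizer ({w} : Set G)) = 63 := by rw [hMN, hN]
  -- H ⊓ C(w) has order 9
  have hHM9 : Nat.card (H ⊓ centralizer ({w} : Set G) : Subgroup G) = 9 := by
    have h1 : 9 ∣ Nat.card (H ⊓ centralizer ({w} : Set G) : Subgroup G) := by
      have := Subgroup.card_dvd_of_le (le_inf hQH hQM)
      rwa [hQ9] at this
    have h2 : Nat.card (H ⊓ centralizer ({w} : Set G) : Subgroup G) ∣ 63 := by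
      have := Subgroup.card_dvd_of_le (inf_le_right : H ⊓ centralizer ({w} : Set G) ≤ _)
      rwa [hMcard] at this
    have h3' : Nat.card (H ⊓ centralizer ({w} : Set G) : Subgroup G) ∣ Nat.card H :=
      Subgroup.card_dvd_of_le inf_le_left
    generalize Nat.card (H ⊓ centralizer ({w} : Set G) : Subgroup G) = x at h1 h2 h3'
    have h4 : x ∣ 9 := by
      rcases hHcard with hc | hc <;> rw [hc] at h3'
      · exact (Nat.dvd_gcd h2 h3' : x ∣ Nat.gcd 63 36)
      · exact (Nat.dvd_gcd h2 h3' : x ∣ Nat.gcd 63 144)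
    exact Nat.dvd_antisymm h4 h1
  have hwH : w ∈ H := hQH hwQ
  obtain ⟨u, hudef⟩ : ∃ u : ↥H, u = ⟨w, hwH⟩ := ⟨_, rfl⟩
  have hucoe : (u : G) = w := by rw [hudef]
  have hcls := Helper43.card_class_mul_card_centralizer u
  have hcent : Nat.card (centralizer ({u} : Set ↥H)) = 9 := by
    have e : (centralizer ({u} : Set ↥H)) = (centralizer ({w} : Set G)).subgroupOf H := by
      ext x
      rw [Subgroup.mem_centralizer_singleton_iff, Subgroup.mem_subgroupOf,
        Subgroup.mem_centralizer_singleton_iff, ← hucoe]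
      constructor
      · intro hx
        exact_mod_cast congrArg Subtype.val hx
      · intro hx
        exact Subtype.ext (by exact_mod_cast hx)
    rw [e, ← hHM9, inf_comm, ← inf_subgroupOf_right]
    exact Nat.card_congr (subgroupOfEquivOfLe inf_le_right).toEquiv
  rw [hcent] at hcls
  -- the sets O and O'
  obtain ⟨O, hOdef⟩ : ∃ O : Set G, O = {x | x ∈ (Q : Subgroup G) ∧ IsConj w x} := ⟨_, rfl⟩
  obtain ⟨O', hO'def⟩ : ∃ O' : Set G, O' = {x | x ∈ (Q : Subgroup G) ∧ IsConj w⁻¹ x} := ⟨_, rfl⟩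
  have hOge : Nat.card {x : ↥H // ConjClasses.mk x = ConjClasses.mk u} ≤ O.ncard := by
    rw [← Nat.card_coe_set_eq]
    have hmem : ∀ x : {x : ↥H // ConjClasses.mk x = ConjClasses.mk u}, ((x.1 : ↥H) : G) ∈ O := by
      rintro ⟨x, hx⟩
      rw [ConjClasses.mk_eq_mk_iff_isConj, isConj_iff] at hx
      obtain ⟨c, hc⟩ := hx
      have hc' : (c : G) * (x : G) * (c : G)⁻¹ = w := by
        have := congrArg Subtype.val hc
        rw [hucoe] at this
        exact_mod_cast this
      have hxeq : (x : G) = (c : G)⁻¹ * w * ((c : G)⁻¹)⁻¹ := by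
        rw [← hc']; group
      rw [hOdef]
      refine ⟨?_, ?_⟩
      · have hcH : (c : G)⁻¹ ∈ normalizer ((Q : Subgroup G) : Set G) := by
          rw [← hHdef]; exact H.inv_mem c.2
        simp only
        rw [hxeq]
        exact (Subgroup.mem_normalizer_iff.mp hcH w).mp hwQ
      · simp only
        rw [isConj_iff]
        exact ⟨(c : G)⁻¹, hxeq.symm⟩
    apply Nat.card_le_card_of_injective (fun x => (⟨((x.1 : ↥H) : G), hmem x⟩ : ↥O))
    intro x y hxy
    have := congrArg Subtype.val hxy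
    simp only at this
    exact Subtype.ext (Subtype.ext this)
  have hO'eq : O' = (fun x => x⁻¹) '' O := by
    rw [hOdef, hO'def]
    ext x
    simp only [Set.mem_ofPred_eq, Set.mem_image]
    constructor
    · rintro ⟨hxQ, hxc⟩
      refine ⟨x⁻¹, ⟨Subgroup.inv_mem _ hxQ, ?_⟩, inv_inv x⟩
      obtain ⟨c, hc⟩ := isConj_iff.mp hxc
      rw [isConj_iff]
      refine ⟨c, ?_⟩
      rw [← hc]; group
    · rintro ⟨z, ⟨hzQ, hzc⟩, rfl⟩
      refine ⟨Subgroup.inv_mem _ hzQ, ?_⟩
      obtain ⟨c, hc⟩ := isConj_iff.mp hzc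
      rw [isConj_iff]
      refine ⟨c, ?_⟩
      rw [← hc]; group
  have hO'card : O'.ncard = O.ncard := by
    rw [hO'eq, Set.ncard_image_of_injective _ inv_injective]
  have hdisj : Disjoint O O' := by
    rw [Set.disjoint_left]
    intro x hx hx'
    rw [hOdef] at hx
    rw [hO'def] at hx'
    obtain ⟨c, hc⟩ := isConj_iff.mp hx.2
    obtain ⟨c', hc'⟩ := isConj_iff.mp hx'.2
    apply hclaimA (c'⁻¹ * c)
    have : c'⁻¹ * c * w * (c'⁻¹ * c)⁻¹ = c'⁻¹ * (c * w * c⁻¹) * c' := by group
    rw [this, hc, ← hc']; group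
  have hsub : O ∪ O' ⊆ ((Q : Subgroup G) : Set G) \ {1} := by
    intro x hx
    rcases hx with hx | hx
    · rw [hOdef] at hx
      refine ⟨hx.1, ?_⟩
      rintro (rfl : x = 1)
      obtain ⟨c, hc⟩ := isConj_iff.mp hx.2
      apply hw1
      calc w = c⁻¹ * (c * w * c⁻¹) * c := by group
        _ = 1 := by rw [hc]; group
    · rw [hO'def] at hx
      refine ⟨hx.1, ?_⟩
      rintro (rfl : x = 1)
      obtain ⟨c, hc⟩ := isConj_iff.mp hx.2
      apply hw1
      have : w⁻¹ = 1 := by
        calc w⁻¹ = c⁻¹ * (c * w⁻¹ * c⁻¹) * c := by group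
          _ = 1 := by rw [hc]; group
      exact inv_eq_one.mp this
  have hcardQ1 : (((Q : Subgroup G) : Set G) \ {1}).ncard = 8 := by
    rw [Set.ncard_sdiff_singleton_of_mem (Subgroup.one_mem _), ← Nat.card_coe_set_eq]
    change Nat.card (Q : Subgroup G) - 1 = 8
    rw [hQ9]
  have hsum : O.ncard + O'.ncard ≤ 8 := by
    rw [← Set.ncard_union_eq hdisj (Set.toFinite _) (Set.toFinite _), ← hcardQ1]
    exact Set.ncard_le_ncard hsub (Set.toFinite _)
  have hH36 : Nat.card H = 36 := by
    rcases hHcard with hc | hc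
    · exact hc
    · exfalso
      rw [hc] at hcls
      have : Nat.card {x : ↥H // ConjClasses.mk x = ConjClasses.mk u} = 16 := by omega
      rw [this] at hOge
      omega
  rw [hH36] at hcls
  have hO4 : O.ncard = 4 := by
    have : Nat.card {x : ↥H // ConjClasses.mk x = ConjClasses.mk u} = 4 := by omega
    rw [this] at hOge
    omega
  have hunion : O ∪ O' = ((Q : Subgroup G) : Set G) \ {1} := by
    apply Set.eq_of_subset_of_ncard_le hsub _ (Set.toFinite _)
    rw [Set.ncard_union_eq hdisj (Set.toFinite _) (Set.toFinite _), hcardQ1, hO'card, hO4]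
  -- an involution in H
  obtain ⟨a', ha'⟩ := exists_prime_orderOf_dvd_card' (G := ↥H) 2 (by rw [hH36]; norm_num)
  obtain ⟨a, hadef⟩ : ∃ a : G, a = (a' : G) := ⟨_, rfl⟩
  have ha2 : orderOf a = 2 := by rw [hadef, Subgroup.orderOf_coe, ha']
  have haH : a ∈ normalizer ((Q : Subgroup G) : Set G) := by
    rw [← hHdef, hadef]; exact a'.2
  have haa : a * a = 1 := by
    have := pow_orderOf_eq_one a
    rwa [ha2, pow_two] at this
  have hainv : a⁻¹ = a := inv_eq_of_mul_eq_one_left haa
  have hawQ : a * w * a⁻¹ ∈ (Q : Subgroup G) := (Subgroup.mem_normalizer_iff.mp haH w).mp hwQ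
  have hcomm : w * (a * w * a⁻¹) = (a * w * a⁻¹) * w :=
    congrArg Subtype.val (hQcomm ⟨w, hwQ⟩ ⟨_, hawQ⟩)
  obtain ⟨y, hydef⟩ : ∃ y : G, y = w * (a * w * a⁻¹) := ⟨_, rfl⟩
  have hyQ : y ∈ (Q : Subgroup G) := by rw [hydef]; exact Subgroup.mul_mem _ hwQ hawQ
  have hay : a * y = y * a := by
    have h1 : a * y = w * a * w := by
      rw [hydef, hcomm, hainv]
      calc a * (a * w * a * w) = (a * a) * w * a * w := by group
        _ = w * a * w := by rw [haa, one_mul]
    have h2 : y * a = w * a * w := by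
      rw [hydef, hainv]
      calc w * (a * w * a) * a = w * a * w * (a * a) := by group
        _ = w * a * w := by rw [haa, mul_one]
    rw [h1, h2]
  have hodd : ∀ b : G, b ∈ centralizer ({w} : Set G) → orderOf b = 2 → False := by
    intro b hb hbo
    have := orderOf_dvd_natCard (⟨b, hb⟩ : ↥(centralizer ({w} : Set G)))
    rw [hMcard, Subgroup.orderOf_mk, hbo] at this
    omega
  have hconj2 : ∀ g : G, orderOf (g⁻¹ * a * g) = 2 := by
    intro g
    have := (MulAut.conj g⁻¹).orderOf_eq a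
    rw [MulAut.conj_apply, inv_inv] at this
    rw [this, ha2]
  by_cases hy1 : y = 1
  · apply hclaimA a
    calc a * w * a⁻¹ = w⁻¹ * (w * (a * w * a⁻¹)) := by group
      _ = w⁻¹ := by rw [← hydef, hy1, mul_one]
  · have hyU : y ∈ O ∪ O' := by
      rw [hunion]
      exact ⟨hyQ, hy1⟩
    rcases hyU with hyO | hyO
    · rw [hOdef] at hyO
      obtain ⟨g, hg⟩ := isConj_iff.mp hyO.2
      apply hodd (g⁻¹ * a * g) _ (hconj2 g)
      rw [Subgroup.mem_centralizer_singleton_iff]
      calc g⁻¹ * a * g * w = g⁻¹ * (a * (g * w * g⁻¹)) * g := by group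
        _ = g⁻¹ * (a * y) * g := by rw [hg]
        _ = g⁻¹ * (y * a) * g := by rw [hay]
        _ = g⁻¹ * (g * w * g⁻¹ * a) * g := by rw [hg]
        _ = w * (g⁻¹ * a * g) := by group
    · rw [hO'def] at hyO
      obtain ⟨g, hg⟩ := isConj_iff.mp hyO.2
      apply hodd (g⁻¹ * a * g) _ (hconj2 g)
      rw [Subgroup.mem_centralizer_singleton_iff]
      have hbw : g⁻¹ * a * g * w⁻¹ = w⁻¹ * (g⁻¹ * a * g) := by
        calc g⁻¹ * a * g * w⁻¹ = g⁻¹ * (a * (g * w⁻¹ * g⁻¹)) * g := by group
          _ = g⁻¹ * (a * y) * g := by rw [hg]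
          _ = g⁻¹ * (y * a) * g := by rw [hay]
          _ = g⁻¹ * (g * w⁻¹ * g⁻¹ * a) * g := by rw [hg]
          _ = w⁻¹ * (g⁻¹ * a * g) := by group
      calc g⁻¹ * a * g * w = w * (w⁻¹ * (g⁻¹ * a * g)) * w := by group
        _ = w * (g⁻¹ * a * g * w⁻¹) * w := by rw [hbw]
        _ = w * (g⁻¹ * a * g) := by group

end Cfsg.Agent.S0976

namespace Cfsg.Agent.S0976

/-- No finite simple group has order 4032 = 2^6 * 3^2 * 7. -/
theorem result {G : Type*} [Group G] [Finite G] [IsSimpleGroup G] : Nat.card G ≠ 4032 := by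
  intro h
  haveI : Fact (Nat.Prime 7) := ⟨by norm_num⟩
  obtain ⟨P⟩ : Nonempty (Sylow 7 G) := inferInstance
  rcases (local7 h P).2 with ⟨hN, hC⟩ | ⟨hN, hC⟩ | ⟨hN, -⟩
  · exact caseA h P hN hC
  · exact caseB h P hN hC
  · exact caseC h P hN

end Cfsg.Agent.S0976
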