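import Mathlib
import Cfsg.Statements.S0977
import Cfsg.Agent.Helper17.G4320a
import Cfsg.Agent.Helper17.G4320b
import Cfsg.Agent.Helper17.G4320c
import Cfsg.Agent.Helper17.G4320d

set_option autoImplicit false
open Cfsg

namespace Cfsg.Agent.S0977

/-- No finite simple group has order 4320 = 2^5 * 3^3 * 5. -/
theorem result {G : Type*} [Group G] [Finite G] [IsSimpleGroup G] : Nat.card G ≠ 4320 := by
  intro h
  have : Fact (Nat.Prime 5) := ⟨by norm_num⟩
  have : Fact (Nat.Prime 3) := ⟨by norm_num⟩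
  have : Fact (Nat.Prime 2) := ⟨by norm_num⟩
  obtain ⟨P⟩ : Nonempty (Sylow 5 G) := inferInstance
  obtain ⟨hP, hcase⟩ := Cfsg.Agent.Helper17.G4320.local5 h P
  rcases hcase with ⟨hN, hC⟩ | ⟨hN, hC | hC⟩
  · exact Cfsg.Agent.Helper17.G4320.caseA h P hP hN hC
  · exact Cfsg.Agent.Helper17.G4320.caseB h P hP hN hC
  · exact Cfsg.Agent.Helper17.G4320.caseC h P hP hN hC

end Cfsg.Agent.S0977
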