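-- Statement S0978: no finite simple group has order 5040.
import Mathlib
import Cfsg.Statements.S0978
import Cfsg.Agent.S1010
import Cfsg.Agent.Helper39.SimpOrd.Kit
import Cfsg.Agent.Helper39.SimpOrd.H5040A
import Cfsg.Agent.Helper68.H5040B
import Cfsg.Agent.Helper17.G5040c

set_option autoImplicit false
open Cfsg

namespace Cfsg.Agent.S0978

/-- No finite simple group has order 5040 = 2^4 * 3^2 * 5 * 7. -/
theorem result {G : Type*} [Group G] [Finite G] [IsSimpleGroup G] : Nat.card G ≠ 5040 := by
  intro hcard
  have hG : ¬ IsMulCommutative G :=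
    Cfsg.Agent.Helper17.not_comm_of_simple_of_not_prime (by rw [hcard]; norm_num)
  have hmem := Cfsg.Agent.Helper39.SimpOrd.card_sylow_mem_npList hG 5 1 1008 (by norm_num)
    (by rw [hcard]; norm_num) (by norm_num) (by norm_num) (by norm_num)
  have hlist : Cfsg.Agent.Helper39.SimpOrd.npList 5 1 1008 = [21, 36, 56, 126] := by
    decide +kernel
  rw [hlist] at hmem
  simp only [List.mem_cons, List.mem_nil_iff, or_false] at hmem
  rcases hmem with h | h | h | h
  · exact Cfsg.Agent.S1010.result h
  · exact Cfsg.Agent.Helper68.H5040B.not_n5_36 hcard h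
  · exact Cfsg.Agent.Helper39.SimpOrd.not_n5_56 hcard h
  · exact Cfsg.Agent.Helper17.G5040.not_n5_126 hcard h

end Cfsg.Agent.S0978
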