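import Mathlib
import Cfsg.Statements.S0979
import Cfsg.Agent.Helper17.ExcApply

set_option autoImplicit false
open Cfsg

namespace Cfsg.Agent.S0979

open Cfsg.Agent.Helper17 Cfsg.Agent.Helper17.Exc Subgroup

set_option maxRecDepth 100000 in
theorem key1 : ∀ n ∈ Nat.divisors 5472, 1 < n → (n % 19 = 1 ∨ n % 19 = 18) →
    (n = 18 ∨ n = 96) := by decide

set_option maxRecDepth 100000 in
theorem key2 : ∀ n ∈ Nat.divisors 5472, (n % 19 = 3 ∨ n % 19 = 16) →
    (n = 3 ∨ n = 16 ∨ n = 288) := by decide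

theorem key3 : ∀ n ∈ Nat.divisors 288, n % 19 = 1 → n ≠ 1 → n = 96 := by decide

/-- No finite simple group has order 5472 = 2^5 * 3^2 * 19. -/
theorem result {G : Type*} [Group G] [Finite G] [IsSimpleGroup G] : Nat.card G ≠ 5472 := by
  intro h
  haveI : Fact (Nat.Prime 19) := ⟨by norm_num⟩
  have hG : Nat.card G = 19 ^ 1 * 288 := by rw [h]; norm_num
  have h19 : ¬ 19 ∣ 288 := by norm_num
  obtain ⟨P⟩ : Nonempty (Sylow 19 G) := inferInstance
  have hP : Nat.card (P : Subgroup G) = 19 := by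
    have := card_sylow_subgroup_of_card_eq hG h19 P
    simpa using this
  have hn1 : Nat.card (Sylow 19 G) ∣ 288 := card_sylow_dvd_of_card_eq hG h19
  have hn2 : Nat.card (Sylow 19 G) ≡ 1 [MOD 19] := card_sylow_modEq_one 19 G
  have hn3 : Nat.card (Sylow 19 G) ≠ 1 :=
    card_sylow_ne_one_of_simple hG h19 (by norm_num) (by norm_num)
  have hn : Nat.card (Sylow 19 G) = 96 :=
    key3 _ (Nat.mem_divisors.mpr ⟨hn1, by norm_num⟩) hn2 hn3
  have hN : Nat.card (normalizer ((P : Subgroup G) : Set G)) = 19 * 3 := by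
    have := card_normalizer_mul_card_sylow P
    rw [hn, h] at this
    omega
  have hC := self_centralizing_setup P hP (by rw [h]; norm_num) hN (by
    intro d hd1 _ hd2
    have := Nat.le_of_dvd (by norm_num) hd2
    interval_cases d
    · norm_num at hd2
    · rfl)
  have hperf : commutator G = ⊤ := commutator_eq_top_of_simple (by rw [h]; norm_num)
  obtain ⟨δ₁, δ₂, ε, d₁, d₂, d, r, hδ₁, hδ₂, hε, hd₁, hd₂, hd, hd₁1, hd₂1, hc₁, hc₂, hc, heq, _, _⟩ :=
    brauer_three hperf (P : Subgroup G) (by norm_num : Nat.Prime 19) hP hC hN (by norm_num)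
  rw [h] at hd₁ hd₂ hd
  have hd₁m : d₁ ∈ Nat.divisors 5472 := Nat.mem_divisors.mpr ⟨hd₁, by norm_num⟩
  have hd₂m : d₂ ∈ Nat.divisors 5472 := Nat.mem_divisors.mpr ⟨hd₂, by norm_num⟩
  have hdm : d ∈ Nat.divisors 5472 := Nat.mem_divisors.mpr ⟨hd, by norm_num⟩
  unfold Int.ModEq at hc₁ hc₂ hc
  have h1 := key1 d₁ hd₁m hd₁1 (by rcases hδ₁ with rfl | rfl <;> omega)
  have h2 := key1 d₂ hd₂m hd₂1 (by rcases hδ₂ with rfl | rfl <;> omega)
  have h3 := key2 d hdm (by rcases hε with rfl | rfl <;> omega)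
  rcases hδ₁ with rfl | rfl <;> rcases hδ₂ with rfl | rfl <;> rcases hε with rfl | rfl <;>
    rcases h1 with rfl | rfl <;> rcases h2 with rfl | rfl <;>
    rcases h3 with rfl | rfl | rfl <;> omega

end Cfsg.Agent.S0979
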