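import Cfsg.Statements.S0980
-- import your own Cfsg.Agent.* helpers here
import Cfsg.Agent.S0904
import Cfsg.Agent.Helper82.BrauerTwoBound

set_option autoImplicit false
open Cfsg

namespace Cfsg.Agent.S0980

/-- No finite simple group has order 5760 = 2^7 * 3^2 * 5. -/
theorem result {G : Type*} [Group G] [Finite G] [IsSimpleGroup G] : Nat.card G ≠ 5760 := by
  intro hcard
  haveI f5 : Fact (Nat.Prime 5) := ⟨by norm_num⟩
  haveI f2 : Fact (Nat.Prime 2) := ⟨by norm_num⟩
  -- the Sylow 5-subgroup is self-centralizing (S0904) and has normalizer of order 10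
  obtain ⟨P⟩ : Nonempty (Sylow 5 G) := inferInstance
  have hP : Nat.card (P : Subgroup G) = 5 := by
    have := Helper17.card_sylow_subgroup_of_card_eq (G := G) (p := 5) (k := 1) (m := 1152)
      (by rw [hcard]; norm_num) (by norm_num) P
    simpa using this
  have hcent : Subgroup.centralizer ((P : Subgroup G) : Set G) = (P : Subgroup G) :=
    Cfsg.Agent.S0904.result (G := G) 2 3 5 7 2 (by norm_num) (by norm_num)
      (by norm_num) (by norm_num) (by norm_num) (by rw [hcard]; norm_num) P
  have hCcard : Nat.card (Subgroup.centralizer ((P : Subgroup G) : Set G)) = 5 := by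
    rw [hcent]; exact hP
  obtain ⟨hd4, -⟩ := Helper17.relIndex_dvd_of_card_sylow_prime P hP
  have hmul := Helper17.card_centralizer_mul_relIndex (P : Subgroup G)
  rw [hCcard] at hmul
  have hNn := Helper17.card_normalizer_mul_card_sylow P
  rw [hcard] at hNn
  have hmod : Nat.card (Sylow 5 G) ≡ 1 [MOD 5] := card_sylow_modEq_one 5 G
  set d := (Subgroup.centralizer ((P : Subgroup G) : Set G)).relIndex
    (Subgroup.normalizer ((P : Subgroup G) : Set G)) with hd
  have hN10 : Nat.card (Subgroup.normalizer ((P : Subgroup G) : Set G)) = 5 * 2 := by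
    have hd_le : d ≤ 4 := Nat.le_of_dvd (by norm_num) hd4
    have hd0 : d ≠ 0 := Subgroup.index_ne_zero_of_finite
    unfold Nat.ModEq at hmod
    rw [← hmul] at hNn ⊢
    interval_cases d <;> first | rfl | omega
  have hC : ∀ k ∈ (P : Subgroup G), k ≠ 1 →
      Subgroup.centralizer ({k} : Set G) ≤ (P : Subgroup G) :=
    Helper17.Exc.self_centralizing_setup P hP (by rw [hcard]; norm_num) hN10 (by
      intro d hd1 _ hd2
      have := Nat.le_of_dvd (by norm_num) hd2
      omega)
  -- a 2-central involution
  obtain ⟨T⟩ : Nonempty (Sylow 2 G) := inferInstance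
  have hT : Nat.card (T : Subgroup G) = 128 := by
    have := Helper17.card_sylow_subgroup_of_card_eq (G := G) (p := 2) (k := 7) (m := 45)
      (by rw [hcard]; norm_num) (by norm_num) T
    simpa using this
  haveI : Nontrivial (T : Subgroup G) := by
    rw [← Finite.one_lt_card_iff_nontrivial, hT]; norm_num
  have hTp : IsPGroup 2 (T : Subgroup G) := T.isPGroup'
  haveI := hTp.center_nontrivial
  have h2dvd : 2 ∣ Nat.card (Subgroup.center (T : Subgroup G)) := by
    have hZp : IsPGroup 2 (Subgroup.center (T : Subgroup G)) :=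
      hTp.to_subgroup (Subgroup.center (T : Subgroup G))
    rcases hZp.card_eq_or_dvd with h | h
    · exfalso
      rw [Subgroup.card_eq_one] at h
      exact (Subgroup.nontrivial_iff_ne_bot _).mp inferInstance h
    · exact h
  obtain ⟨w, hw⟩ := exists_prime_orderOf_dvd_card'
    (G := ↥(Subgroup.center (T : Subgroup G))) 2 h2dvd
  set z : G := ((w : (T : Subgroup G)) : G) with hzdef
  have hz2 : orderOf z = 2 := by
    rw [hzdef, Subgroup.orderOf_coe, Subgroup.orderOf_coe]; exact hw
  have hTle : (T : Subgroup G) ≤ Subgroup.centralizer ({z} : Set G) := by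
    intro t ht
    rw [Subgroup.mem_centralizer_singleton_iff]
    have := (Subgroup.mem_center_iff.mp w.2) ⟨t, ht⟩
    exact congrArg Subtype.val this
  have h128 : 128 ∣ Nat.card (Subgroup.centralizer ({z} : Set G)) := by
    rw [← hT]; exact Subgroup.card_dvd_of_le hTle
  have hclass := Helper82.B2I.card_centralizer_mul_card_class z
  rw [hcard] at hclass
  have hcl45 : Nat.card {x : G // IsConj z x} ≤ 45 := by
    obtain ⟨k, hk⟩ := h128
    rw [hk] at hclass
    have hk0 : k ≠ 0 := by
      rintro rfl
      simp at hclass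
    have h45 : k * Nat.card {x : G // IsConj z x} = 45 := by
      have : 128 * (k * Nat.card {x : G // IsConj z x}) = 128 * 45 := by
        rw [← mul_assoc]; exact hclass
      exact Nat.eq_of_mul_eq_mul_left (by norm_num) this
    calc Nat.card {x : G // IsConj z x} ≤ k * Nat.card {x : G // IsConj z x} :=
          Nat.le_mul_of_pos_left _ (Nat.pos_of_ne_zero hk0)
      _ = 45 := h45
  -- Brauer's bound
  have hbound := Helper82.B2I.card_mul_le_eight_mul_class_sq (P : Subgroup G) (by norm_num) hP hC
    hN10 le_rfl z hz2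
  rw [hcard] at hbound
  have : Nat.card {x : G // IsConj z x} ^ 2 ≤ 45 ^ 2 := Nat.pow_le_pow_left hcl45 2
  omega

end Cfsg.Agent.S0980
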