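import Cfsg.Statements.S0981
import Cfsg.Agent.Helper61.G4080
import Cfsg.Agent.Helper61.PSLCongr
import Cfsg.Agent.S1230

set_option autoImplicit false
open Cfsg

namespace Cfsg.Agent.S0981

/-- A simple group of order 4080 is isomorphic to the projective special linear group of dimension 2 over the field with 16 elements. -/
theorem result {G : Type*} [Group G] [Finite G] [IsSimpleGroup G] (h : Nat.card G = 4080) {F : Type*} [Field F] [Fintype F] (hF : Fintype.card F = 16) : Nonempty (G ≃* Matrix.ProjectiveSpecialLinearGroup (Fin 2) F) := by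
  classical
  haveI : Fact (Nat.Prime 2) := ⟨Nat.prime_two⟩
  obtain ⟨T⟩ : Nonempty (Sylow 2 G) := inferInstance
  have hTcard : Nat.card (T : Subgroup G) = 16 := Cfsg.Agent.Helper61.G4080.card_sylow2 h T
  obtain ⟨hsq, hC⟩ := Cfsg.Agent.Helper61.G4080.cit h T
  have hnc : ¬ IsCyclic (T : Subgroup G) := by
    intro hcyc
    obtain ⟨g, hg⟩ := IsCyclic.exists_ofOrder_eq_natCard (α := (T : Subgroup G))
    rw [hTcard] at hg
    have h2 : (g : G) ^ 2 = 1 := hsq g g.2
    have h3 : orderOf (g : G) ∣ 2 := orderOf_dvd_of_pow_eq_one h2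
    rw [Subgroup.orderOf_coe, hg] at h3
    norm_num at h3
  have hnn : ¬ (T : Subgroup G).Normal := by
    intro hN
    rcases hN.eq_bot_or_eq_top with hb | ht
    · rw [hb, Subgroup.card_bot] at hTcard
      omega
    · rw [ht, Subgroup.card_top, h] at hTcard
      omega
  obtain ⟨F', instF, instFin, hF', ⟨e⟩⟩ := Cfsg.Agent.S1230.result T hnc hnn hC
  have hcard : Fintype.card F' = Fintype.card F := by rw [hF', hTcard, hF]
  exact ⟨e.trans (Cfsg.Agent.Helper61.pslCongr (FiniteField.ringEquivOfCardEq hcard))⟩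

end Cfsg.Agent.S0981
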