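import Cfsg.Statements.S0983
import Cfsg.Agent.Helper39.Ord983.Blk00
import Cfsg.Agent.Helper39.Ord983.Blk01
import Cfsg.Agent.Helper39.Ord983.Blk02
import Cfsg.Agent.Helper39.Ord983.Blk03
import Cfsg.Agent.Helper39.Ord983.Blk04
import Cfsg.Agent.Helper39.Ord983.Blk05
import Cfsg.Agent.Helper39.Ord983.Blk06
import Cfsg.Agent.Helper39.Ord983.Blk07
import Cfsg.Agent.Helper39.Ord983.Blk08
import Cfsg.Agent.Helper39.Ord983.Blk09
import Cfsg.Agent.Helper39.Ord983.Blk10
import Cfsg.Agent.Helper39.Ord983.Blk11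
import Cfsg.Agent.Helper39.Ord983.Blk12
import Cfsg.Agent.Helper39.Ord983.Blk13
import Cfsg.Agent.Helper39.Ord983.Blk14
import Cfsg.Agent.Helper39.Ord983.Blk15
import Cfsg.Agent.Helper39.Ord983.Blk16
import Cfsg.Agent.Helper39.Ord983.Blk17
import Cfsg.Agent.Helper39.Ord983.Blk18
import Cfsg.Agent.Helper39.Ord983.Blk19
import Cfsg.Agent.Helper39.Ord983.Blk20
import Cfsg.Agent.Helper39.Ord983.Blk21
import Cfsg.Agent.Helper39.Ord983.Blk22
import Cfsg.Agent.Helper39.Ord983.Blk23
import Cfsg.Agent.Helper39.Ord983.Blk24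
import Cfsg.Agent.Helper39.Ord983.Blk25
import Cfsg.Agent.Helper20.Ord5148
import Cfsg.Agent.Helper34.NoSimple3960
import Cfsg.Agent.Helper39.Ord983.HandA
import Cfsg.Agent.Helper39.Ord983.HandB
import Cfsg.Agent.Helper54.Ord4680
import Cfsg.Agent.Helper54.Ord5400
import Cfsg.Agent.Helper68.Ord5460
import Cfsg.Agent.Helper68.Ord5940
import Cfsg.Agent.Helper82.OrdA
import Cfsg.Agent.Helper82.OrdB
import Cfsg.Agent.Helper82.OrdC
import Cfsg.Agent.Helper82.OrdD
import Cfsg.Agent.S0974
import Cfsg.Agent.S0975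
import Cfsg.Agent.S0976
import Cfsg.Agent.S0977
import Cfsg.Agent.S0978
import Cfsg.Agent.S0979
import Cfsg.Agent.S0980

set_option autoImplicit false
set_option maxRecDepth 100000
open Cfsg

namespace Cfsg.Agent.S0983

/-- A non-abelian finite simple group of order greater than 3640 and at most 6232 has order 4080, 5616, 6048 or 6072. -/
theorem result {G : Type*} [Group G] [Finite G] [IsSimpleGroup G] (hG : ¬ IsMulCommutative G) (h1 : 3640 < Nat.card G) (h2 : Nat.card G ≤ 6232) : Nat.card G = 4080 ∨ Nat.card G = 5616 ∨ Nat.card G = 6048 ∨ Nat.card G = 6072 := by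
  by_cases hb0 : Nat.card G ≤ 3740
  · refine Cfsg.Agent.Helper39.Ord983.blk00 hG (by omega) hb0 ?_
    intro n hn hc
    simp only [List.mem_cons, List.not_mem_nil, or_false] at hn
    rcases hn with rfl | rfl
    · exact absurd hc Cfsg.Agent.S0974.result
    · exact Cfsg.Agent.Helper39.Ord983.no_simple_3696 hc
  by_cases hb1 : Nat.card G ≤ 3840
  · refine Cfsg.Agent.Helper39.Ord983.blk01 hG (by omega) hb1 ?_
    intro n hn hc
    simp only [List.mem_cons, List.not_mem_nil, or_false] at hn
    rcases hn with rfl | rfl | rfl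
    · exact absurd hc Cfsg.Agent.S0975.result
    · exact Cfsg.Agent.Helper39.Ord983.no_simple_3780 hc
    · exact Cfsg.Agent.Helper82.Ord.no_simple_3840 hc
  by_cases hb2 : Nat.card G ≤ 3940
  · refine Cfsg.Agent.Helper39.Ord983.blk02 hG (by omega) hb2 ?_
    intro n hn hc
    exact absurd hn (List.not_mem_nil)
  by_cases hb3 : Nat.card G ≤ 4040
  · refine Cfsg.Agent.Helper39.Ord983.blk03 hG (by omega) hb3 ?_
    intro n hn hc
    simp only [List.mem_cons, List.not_mem_nil, or_false] at hn
    rcases hn with rfl | rfl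
    · exact Cfsg.Agent.Helper34.NoSimple3960.no_simple_3960 hc
    · exact absurd hc Cfsg.Agent.S0976.result
  by_cases hb4 : Nat.card G ≤ 4140
  · refine Cfsg.Agent.Helper39.Ord983.blk04 hG (by omega) hb4 ?_
    intro n hn hc
    exact absurd hn (List.not_mem_nil)
  by_cases hb5 : Nat.card G ≤ 4240
  · refine Cfsg.Agent.Helper39.Ord983.blk05 hG (by omega) hb5 ?_
    intro n hn hc
    simp only [List.mem_cons, List.not_mem_nil, or_false] at hn
    rcases hn with rfl | rfl | rfl
    · exact Cfsg.Agent.Helper82.Ord.no_simple_4160 hc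
    · exact Cfsg.Agent.Helper82.Ord.no_simple_4200 hc
    · exact Cfsg.Agent.Helper39.Ord983.no_simple_4212 hc
  by_cases hb6 : Nat.card G ≤ 4340
  · refine Cfsg.Agent.Helper39.Ord983.blk06 hG (by omega) hb6 ?_
    intro n hn hc
    simp only [List.mem_cons, List.not_mem_nil, or_false] at hn
    subst hn
    exact absurd hc Cfsg.Agent.S0977.result
  by_cases hb7 : Nat.card G ≤ 4440
  · refine Cfsg.Agent.Helper39.Ord983.blk07 hG (by omega) hb7 ?_
    intro n hn hc
    simp only [List.mem_cons, List.not_mem_nil, or_false] at hn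
    subst hn
    exact Cfsg.Agent.Helper82.Ord.no_simple_4400 hc
  by_cases hb8 : Nat.card G ≤ 4540
  · refine Cfsg.Agent.Helper39.Ord983.blk08 hG (by omega) hb8 ?_
    intro n hn hc
    simp only [List.mem_cons, List.not_mem_nil, or_false] at hn
    rcases hn with rfl | rfl | rfl
    · exact Cfsg.Agent.Helper82.Ord.no_simple_4480 hc
    · exact Cfsg.Agent.Helper39.Ord983.no_simple_4500 hc
    · exact Cfsg.Agent.Helper82.Ord.no_simple_4536 hc
  by_cases hb9 : Nat.card G ≤ 4640
  · refine Cfsg.Agent.Helper39.Ord983.blk09 hG (by omega) hb9 ?_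
    intro n hn hc
    simp only [List.mem_cons, List.not_mem_nil, or_false] at hn
    subst hn
    exact Cfsg.Agent.Helper39.Ord983.no_simple_4620 hc
  by_cases hb10 : Nat.card G ≤ 4740
  · refine Cfsg.Agent.Helper39.Ord983.blk10 hG (by omega) hb10 ?_
    intro n hn hc
    simp only [List.mem_cons, List.not_mem_nil, or_false] at hn
    rcases hn with rfl | rfl
    · exact Cfsg.Agent.Helper54.Ord4680.no_simple_4680 hc
    · exact Cfsg.Agent.Helper39.Ord983.no_simple_4725 hc
  by_cases hb11 : Nat.card G ≤ 4840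
  · refine Cfsg.Agent.Helper39.Ord983.blk11 hG (by omega) hb11 ?_
    intro n hn hc
    simp only [List.mem_cons, List.not_mem_nil, or_false] at hn
    rcases hn with rfl | rfl
    · exact Cfsg.Agent.Helper39.Ord983.no_simple_4760 hc
    · exact Cfsg.Agent.Helper82.Ord.no_simple_4800 hc
  by_cases hb12 : Nat.card G ≤ 4940
  · refine Cfsg.Agent.Helper39.Ord983.blk12 hG (by omega) hb12 ?_
    intro n hn hc
    simp only [List.mem_cons, List.not_mem_nil, or_false] at hn
    subst hn
    exact Cfsg.Agent.Helper82.Ord.no_simple_4928 hc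
  by_cases hb13 : Nat.card G ≤ 5040
  · refine Cfsg.Agent.Helper39.Ord983.blk13 hG (by omega) hb13 ?_
    intro n hn hc
    simp only [List.mem_cons, List.not_mem_nil, or_false] at hn
    rcases hn with rfl | rfl
    · exact Cfsg.Agent.Helper82.Ord.no_simple_4960 hc
    · exact absurd hc Cfsg.Agent.S0978.result
  by_cases hb14 : Nat.card G ≤ 5140
  · refine Cfsg.Agent.Helper39.Ord983.blk14 hG (by omega) hb14 ?_
    intro n hn hc
    simp only [List.mem_cons, List.not_mem_nil, or_false] at hn
    subst hn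
    exact Cfsg.Agent.Helper82.Ord.no_simple_5104 hc
  by_cases hb15 : Nat.card G ≤ 5240
  · refine Cfsg.Agent.Helper39.Ord983.blk15 hG (by omega) hb15 ?_
    intro n hn hc
    simp only [List.mem_cons, List.not_mem_nil, or_false] at hn
    rcases hn with rfl | rfl
    · exact Cfsg.Agent.Helper20.Ord5148.no_simple_5148 hc
    · exact Cfsg.Agent.Helper82.Ord.no_simple_5200 hc
  by_cases hb16 : Nat.card G ≤ 5340
  · refine Cfsg.Agent.Helper39.Ord983.blk16 hG (by omega) hb16 ?_
    intro n hn hc
    simp only [List.mem_cons, List.not_mem_nil, or_false] at hn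
    subst hn
    exact Cfsg.Agent.Helper39.Ord983.no_simple_5292 hc
  by_cases hb17 : Nat.card G ≤ 5440
  · refine Cfsg.Agent.Helper39.Ord983.blk17 hG (by omega) hb17 ?_
    intro n hn hc
    simp only [List.mem_cons, List.not_mem_nil, or_false] at hn
    rcases hn with rfl | rfl
    · exact Cfsg.Agent.Helper82.Ord.no_simple_5376 hc
    · exact Cfsg.Agent.Helper54.Ord5400.no_simple_5400 hc
  by_cases hb18 : Nat.card G ≤ 5540
  · refine Cfsg.Agent.Helper39.Ord983.blk18 hG (by omega) hb18 ?_
    intro n hn hc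
    simp only [List.mem_cons, List.not_mem_nil, or_false] at hn
    rcases hn with rfl | rfl
    · exact Cfsg.Agent.Helper68.Ord.no_simple_5460 hc
    · exact absurd hc Cfsg.Agent.S0979.result
  by_cases hb19 : Nat.card G ≤ 5640
  · refine Cfsg.Agent.Helper39.Ord983.blk19 hG (by omega) hb19 ?_
    intro n hn hc
    simp only [List.mem_cons, List.not_mem_nil, or_false] at hn
    subst hn
    exact Cfsg.Agent.Helper82.Ord.no_simple_5600 hc
  by_cases hb20 : Nat.card G ≤ 5740
  · refine Cfsg.Agent.Helper39.Ord983.blk20 hG (by omega) hb20 ?_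
    intro n hn hc
    simp only [List.mem_cons, List.not_mem_nil, or_false] at hn
    subst hn
    exact Cfsg.Agent.Helper82.Ord.no_simple_5724 hc
  by_cases hb21 : Nat.card G ≤ 5840
  · refine Cfsg.Agent.Helper39.Ord983.blk21 hG (by omega) hb21 ?_
    intro n hn hc
    simp only [List.mem_cons, List.not_mem_nil, or_false] at hn
    subst hn
    exact absurd hc Cfsg.Agent.S0980.result
  by_cases hb22 : Nat.card G ≤ 5940
  · refine Cfsg.Agent.Helper39.Ord983.blk22 hG (by omega) hb22 ?_
    intro n hn hc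
    simp only [List.mem_cons, List.not_mem_nil, or_false] at hn
    rcases hn with rfl | rfl
    · exact Cfsg.Agent.Helper82.Ord.no_simple_5880 hc
    · exact Cfsg.Agent.Helper68.Ord.no_simple_5940 hc
  by_cases hb23 : Nat.card G ≤ 6040
  · refine Cfsg.Agent.Helper39.Ord983.blk23 hG (by omega) hb23 ?_
    intro n hn hc
    simp only [List.mem_cons, List.not_mem_nil, or_false] at hn
    subst hn
    exact Cfsg.Agent.Helper39.Ord983.no_simple_6000 hc
  by_cases hb24 : Nat.card G ≤ 6140
  · refine Cfsg.Agent.Helper39.Ord983.blk24 hG (by omega) hb24 ?_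
    intro n hn hc
    exact absurd hn (List.not_mem_nil)
  by_cases hb25 : Nat.card G ≤ 6232
  · refine Cfsg.Agent.Helper39.Ord983.blk25 hG (by omega) hb25 ?_
    intro n hn hc
    simp only [List.mem_cons, List.not_mem_nil, or_false] at hn
    subst hn
    exact Cfsg.Agent.Helper39.Ord983.no_simple_6160 hc
  omega

end Cfsg.Agent.S0983
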