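import Mathlib
import Cfsg.Statements.S0987
import Cfsg.Agent.Helper17.SylowKit

set_option autoImplicit false
open Cfsg

namespace Cfsg.Agent.S0987

open Subgroup Cfsg.Agent.Helper17

theorem minFac_pqr (p q r : ℕ) (hp : p.Prime) (hq : q.Prime) (hr : r.Prime) (hpq : p < q)
    (hqr : q < r) : (p * q * r).minFac = p := by
  have hne : p * q * r ≠ 1 := by
    have := hp.two_le; have := hq.two_le; have := hr.two_le
    intro h
    have h1 : 2 * 2 * 2 ≤ p * q * r := Nat.mul_le_mul (Nat.mul_le_mul ‹_› ‹_›) ‹_›
    omega
  have hmp : (p * q * r).minFac.Prime := Nat.minFac_prime hne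
  have hdvd : (p * q * r).minFac ∣ p * q * r := Nat.minFac_dvd _
  apply le_antisymm
  · exact Nat.minFac_le_of_dvd hp.two_le ⟨q * r, by ring⟩
  · rcases (Nat.Prime.dvd_mul hmp).mp hdvd with h | h
    · rcases (Nat.Prime.dvd_mul hmp).mp h with h | h
      · exact le_of_eq ((Nat.prime_dvd_prime_iff_eq hmp hp).mp h).symm
      · have := (Nat.prime_dvd_prime_iff_eq hmp hq).mp h; omega
    · have := (Nat.prime_dvd_prime_iff_eq hmp hr).mp h; omega

theorem result' {G : Type*} [Group G] [Finite G] (p q r : ℕ) (hp : p.Prime) (hq : q.Prime) [Fact r.Prime] (hpq : p < q) (hqr : q < r) (hG : Nat.card G = p * q * r) (R : Sylow r G) : (R : Subgroup G).Normal := by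
  have hr : r.Prime := Fact.out
  haveI : Fact p.Prime := ⟨hp⟩
  have hmin : (Nat.card G).minFac = p := by rw [hG]; exact minFac_pqr p q r hp hq hr hpq hqr
  obtain ⟨P⟩ : Nonempty (Sylow p G) := inferInstance
  have hpqr : ¬ p ∣ q * r := by
    intro h
    rcases (Nat.Prime.dvd_mul hp).mp h with h | h
    · have := (Nat.prime_dvd_prime_iff_eq hp hq).mp h; omega
    · have := (Nat.prime_dvd_prime_iff_eq hp hr).mp h; omega
  have hPcard : Nat.card (P : Subgroup G) = p := by
    have := card_sylow_subgroup_of_card_eq (p := p) (k := 1) (m := q * r) (by rw [hG]; ring) hpqr P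
    simpa using this
  have hPcyc : IsCyclic (P : Subgroup G) := by
    haveI : Fact (Nat.card (P : Subgroup G)).Prime := ⟨hPcard.symm ▸ hp⟩
    exact isCyclic_of_prime_card rfl
  have hcompl := IsCyclic.isComplement' hmin hPcyc
  set f := MonoidHom.transferSylow P (hPcyc.normalizer_le_centralizer hmin) with hf
  set K := f.ker with hK
  have hKcard : Nat.card K = r ^ 1 * q := by
    have h1 := hcompl.card_mul_card
    rw [hPcard, hG] at h1
    have h2 : Nat.card K * p = (r ^ 1 * q) * p := by rw [h1]; ring
    exact Nat.eq_of_mul_eq_mul_right hp.pos h2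
  have hRK : (R : Subgroup G) ≤ K := by
    intro x hx
    rw [hK, MonoidHom.mem_ker]
    have hRcard : Nat.card (R : Subgroup G) = r := by
      have hrpq : ¬ r ∣ p * q := by
        intro h
        rcases (Nat.Prime.dvd_mul hr).mp h with h | h
        · have := (Nat.prime_dvd_prime_iff_eq hr hp).mp h; omega
        · have := (Nat.prime_dvd_prime_iff_eq hr hq).mp h; omega
      have := card_sylow_subgroup_of_card_eq (p := r) (k := 1) (m := p * q) (by rw [hG]; ring) hrpq R
      simpa using this
    have h1 : orderOf (f x) ∣ r := by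
      have h2 : orderOf x ∣ r := by
        have := orderOf_dvd_natCard (⟨x, hx⟩ : (R : Subgroup G))
        rw [hRcard] at this
        rwa [Subgroup.orderOf_mk] at this
      exact (orderOf_map_dvd f x).trans h2
    have h3 : orderOf (f x) ∣ p := by
      have := orderOf_dvd_natCard (f x)
      rwa [hPcard] at this
    have h4 : orderOf (f x) ∣ Nat.gcd r p := Nat.dvd_gcd h1 h3
    have hcop : Nat.gcd r p = 1 := by
      rw [← Nat.coprime_iff_gcd_eq_one]
      exact (Nat.coprime_primes hr hp).mpr (by omega)
    rw [hcop, Nat.dvd_one] at h4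
    exact orderOf_eq_one_iff.mp h4
  -- unique Sylow r in K
  have hrq : ¬ r ∣ q := by
    intro h
    have := (Nat.prime_dvd_prime_iff_eq hr hq).mp h; omega
  have hn1 : Nat.card (Sylow r K) = 1 := by
    have hdvd : Nat.card (Sylow r K) ∣ q := card_sylow_dvd_of_card_eq hKcard hrq
    have hmod : Nat.card (Sylow r K) ≡ 1 [MOD r] := card_sylow_modEq_one r K
    rcases (Nat.dvd_prime hq).mp hdvd with h | h
    · exact h
    · rw [h] at hmod
      have h1 : q % r = q := Nat.mod_eq_of_lt hqr
      have h2 : 1 % r = 1 := Nat.mod_eq_of_lt hr.one_lt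
      unfold Nat.ModEq at hmod
      rw [h1, h2] at hmod
      have := hq.two_le
      omega
  haveI : Subsingleton (Sylow r K) := (Nat.card_eq_one_iff_unique.mp hn1).1
  set R' : Sylow r K := R.subtype hRK with hR'
  have hN : (R' : Subgroup K).Normal := Sylow.normal_of_subsingleton R'
  haveI hchar : (R' : Subgroup K).Characteristic := Sylow.characteristic_of_normal R' hN
  haveI : K.Normal := MonoidHom.normal_ker f
  have hmap : ((R' : Subgroup K).map K.subtype) = (R : Subgroup G) := by
    rw [hR', Sylow.coe_subtype, subgroupOf_map_subtype, inf_of_le_left hRK]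
  rw [← hmap]
  exact ConjAct.normal_of_characteristic_of_normal

/-- If a finite group has order pqr for primes p < q < r, then its Sylow r-subgroups are normal. -/
theorem result {G : Type*} [Group G] [Finite G] (p q r : ℕ) (hp : p.Prime) (hq : q.Prime) [Fact r.Prime] (hpq : p < q) (hqr : q < r) (hG : Nat.card G = p * q * r) (R : Sylow r G) : (R : Subgroup G).Normal := by
  exact result' p q r hp hq hpq hqr hG R

end Cfsg.Agent.S0987
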