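import Mathlib
import Cfsg.Statements.S0988
import Cfsg.Agent.Helper17.PSqQR

set_option autoImplicit false
open Cfsg

namespace Cfsg.Agent.S0988

open Cfsg.Agent.Helper17

/-- If a finite simple group has order p^2 * q * r with p, q and r prime, then its order is 60. -/
theorem result {G : Type*} [Group G] [Finite G] [IsSimpleGroup G] (p q r : ℕ) (hp : p.Prime) (hq : q.Prime) (hr : r.Prime) (hG : Nat.card G = p ^ 2 * q * r) : Nat.card G = 60 := by
  have hp2 := hp.two_le
  have hq2 := hq.two_le
  have hr2 := hr.two_le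
  have hnp : ¬ (Nat.card G).Prime := by
    rw [hG]
    have e : p ^ 2 * q * r = p * (p * q * r) := by ring
    rw [e]
    apply Nat.not_prime_mul
    · omega
    · have : 2 * 2 * 2 ≤ p * q * r := Nat.mul_le_mul (Nat.mul_le_mul hp2 hq2) hr2
      omega
  have hnc : ¬ IsMulCommutative G := not_comm_of_simple_of_not_prime hnp
  have hns : ¬ Group.IsSolvable G := fun hs =>
    hnc ⟨⟨IsSimpleGroup.comm_iff_isSolvable.mpr hs⟩⟩
  have hpq : p ≠ q := by
    rintro rfl
    exact hns (Cfsg.Agent.S0144.result p r 3 1 hp hr (by rw [hG]; ring))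
  have hpr : p ≠ r := by
    rintro rfl
    exact hns (Cfsg.Agent.S0144.result p q 3 1 hp hq (by rw [hG]; ring))
  have hqr : q ≠ r := by
    rintro rfl
    exact hns (Cfsg.Agent.S0144.result p q 2 2 hp hq (by rw [hG]; ring))
  obtain ⟨rfl, h3⟩ := p_sq_qr_aux hnc p q r hp hq hr hpq hpr hqr hG
  rcases h3 with rfl | rfl
  · -- |G| = 12 r
    have hr5 : 5 ≤ r := by
      by_contra h
      interval_cases r
      · exact hpr rfl
      · exact hqr rfl
      · norm_num at hr
    exact card_eq_sixty_of_card_eq_twelve_mul hnc r hr hr5 (by rw [hG]; ring)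
  · have hq5 : 5 ≤ q := by
      by_contra h
      interval_cases q
      · exact hpq rfl
      · exact hqr rfl
      · norm_num at hq
    exact card_eq_sixty_of_card_eq_twelve_mul hnc q hq hq5 (by rw [hG]; ring)

end Cfsg.Agent.S0988
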