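import Cfsg.Statements.S0990

set_option autoImplicit false
open Cfsg

namespace Cfsg.Agent.S0990

open Subgroup in
/-- general fact: for `P ≤ A` with `A` normal of index 2 and Frattini, `2 * |N_A(P)| = |N(P)|`. -/
theorem aux {G : Type*} [Group G] [Finite G] (A : Subgroup G) [A.Normal] (hA : A.index = 2)
    (P : Subgroup G) (hPA : P ≤ A) (hF : normalizer (P : Set G) ⊔ A = ⊤) :
    2 * Nat.card ↥(normalizer ((P.subgroupOf A : Subgroup ↥A) : Set ↥A)) =
      Nat.card ↥(normalizer (P : Set G)) := by
  rw [← subgroupOf_normalizer_eq hPA]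
  have h1 : A.relIndex (normalizer (P : Set G)) = 2 := by
    rw [← relIndex_sup_right, hF, relIndex_top_right, hA]
  have h2 := Subgroup.card_mul_index (A.subgroupOf (normalizer (P : Set G)))
  rw [← relIndex, h1] at h2
  have e1 : Nat.card ↥(A.subgroupOf (normalizer (P : Set G))) =
      Nat.card ↥(A ⊓ normalizer (P : Set G) : Subgroup G) := by
    rw [← inf_subgroupOf_right]
    exact Nat.card_congr (subgroupOfEquivOfLe inf_le_right).toEquiv
  have e2 : Nat.card ↥((normalizer (P : Set G)).subgroupOf A) =
      Nat.card ↥(A ⊓ normalizer (P : Set G) : Subgroup G) := by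
    rw [← inf_subgroupOf_left]
    exact Nat.card_congr (subgroupOfEquivOfLe inf_le_left).toEquiv
  rw [e2, ← e1, ← h2, mul_comm]

/-- Let p be an odd prime and P a Sylow p-subgroup of the symmetric group on a finite set with at least two elements. Then P is contained in the alternating group, and twice the order of the normalizer of P inside the alternating group equals the order of the normalizer of P in the symmetric group. -/
theorem result {α : Type*} [Fintype α] [DecidableEq α] (hα : 2 ≤ Fintype.card α) (p : ℕ) [Fact p.Prime] (hp : p ≠ 2) (P : Sylow p (Equiv.Perm α)) : (P : Subgroup (Equiv.Perm α)) ≤ alternatingGroup α ∧ 2 * Nat.card ↥(Subgroup.normalizer ((((P : Subgroup (Equiv.Perm α)).subgroupOf (alternatingGroup α) : Subgroup ↥(alternatingGroup α)) : Set ↥(alternatingGroup α)))) = Nat.card ↥(Subgroup.normalizer ((P : Subgroup (Equiv.Perm α)) : Set (Equiv.Perm α))) := by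
  have hpp : p.Prime := Fact.out
  have hodd : Odd p := hpp.odd_of_ne_two hp
  have hle : (P : Subgroup (Equiv.Perm α)) ≤ alternatingGroup α := by
    intro σ hσ
    rw [Equiv.Perm.mem_alternatingGroup]
    obtain ⟨k, hk⟩ := P.2 ⟨σ, hσ⟩
    have hk' : σ ^ (p ^ k) = 1 := by
      have := congrArg Subtype.val hk
      simpa using this
    have hs : (Equiv.Perm.sign σ) ^ (p ^ k) = 1 := by
      rw [← map_pow, hk', map_one]
    rcases Int.units_eq_one_or (Equiv.Perm.sign σ) with h | h
    · exact h
    · rw [h, Odd.neg_one_pow (hodd.pow)] at hs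
      exact absurd hs (by decide)
  refine ⟨hle, ?_⟩
  haveI : Nontrivial α := Fintype.one_lt_card_iff_nontrivial.mp (by omega)
  exact aux (alternatingGroup α) alternatingGroup.index_eq_two _ hle
    (Sylow.normalizer_sup_eq_top' P hle)

end Cfsg.Agent.S0990
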