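import Cfsg.Statements.S0994
import Cfsg.Agent.Helper17.SylowKit

set_option autoImplicit false
open Cfsg

namespace Cfsg.Agent.S0994

open Cfsg.Agent.Helper17 in
/-- No finite simple group has order 1188 = 2^2 * 3^3 * 11. -/
theorem result {G : Type*} [Group G] [Finite G] [IsSimpleGroup G] : Nat.card G ≠ 1188 := by
  intro hG
  haveI : Fact (Nat.Prime 11) := ⟨by norm_num⟩
  have hG' : Nat.card G = 11 ^ 1 * 108 := by rw [hG]; norm_num
  have hm : ¬ 11 ∣ 108 := by norm_num
  obtain ⟨P⟩ : Nonempty (Sylow 11 G) := inferInstance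
  have hPcard : Nat.card (P : Subgroup G) = 11 := by
    simpa using card_sylow_subgroup_of_card_eq hG' hm P
  have hdvd : Nat.card (Sylow 11 G) ∣ 108 := card_sylow_dvd_of_card_eq hG' hm
  have hmod : Nat.card (Sylow 11 G) ≡ 1 [MOD 11] := card_sylow_modEq_one 11 G
  have hne1 : Nat.card (Sylow 11 G) ≠ 1 :=
    card_sylow_ne_one_of_simple hG' hm (by norm_num) (by norm_num)
  have hn : Nat.card (Sylow 11 G) = 12 := by
    have hmem : Nat.card (Sylow 11 G) ∈ Nat.divisors 108 := Nat.mem_divisors.mpr ⟨hdvd, by norm_num⟩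
    have key : ∀ n ∈ Nat.divisors 108, n % 11 = 1 → n ≠ 1 → n = 12 := by decide
    exact key _ hmem hmod hne1
  have hN : Nat.card (Subgroup.normalizer ((P : Subgroup G) : Set G)) = 99 := by
    have := card_normalizer_mul_card_sylow P
    rw [hn, hG] at this
    omega
  obtain ⟨d, hd1, hd2, hd3⟩ := exists_dvd_of_simple_sylow_prime P hPcard (by rw [hG]; norm_num)
  rw [hN] at hd3
  have h9 : d ∣ 9 := by
    have : 11 * d ∣ 11 * 9 := by simpa using hd3
    exact (Nat.mul_dvd_mul_iff_left (by norm_num)).mp this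
  have h10 : d ∣ 10 := by simpa using hd2
  have : d ∣ Nat.gcd 9 10 := Nat.dvd_gcd h9 h10
  have : d ∣ 1 := by simpa using this
  have := Nat.le_of_dvd (by norm_num) this
  omega

end Cfsg.Agent.S0994
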