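import Cfsg.Statements.S0997
-- import your own Cfsg.Agent.* helpers here
import Cfsg.Agent.Helper16.BT.Main
import Cfsg.Agent.S0999
import Cfsg.Agent.Helper25.BRRigid
import Cfsg.Agent.Helper25.NPCSimple

set_option autoImplicit false
open Cfsg

namespace Cfsg.Agent.S0997

/-- Let G be a non-cyclic finite simple group of order p * q^b * g₀, where p and q are distinct primes and g₀ < p - 1. Then either p has the form 2^m + 1 or 2^m - 1 and G is isomorphic to the projective special linear group of dimension 2 over the field with p elements, or p = 2^m + 1 > 3 and G is isomorphic to that group over the field with 2^m elements. -/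
theorem result {G : Type*} [Group G] [Finite G] [IsSimpleGroup G] (hG : ¬ IsCyclic G) (p q b g₀ : ℕ) (hp : p.Prime) (hq : q.Prime) (hpq : p ≠ q) (hG' : Nat.card G = p * q ^ b * g₀) (hg : g₀ < p - 1) : (∃ (m : ℕ) (F : Type) (_ : Field F) (_ : Fintype F), Fintype.card F = p ∧ (p = 2 ^ m + 1 ∨ p = 2 ^ m - 1) ∧ Nonempty (G ≃* Matrix.ProjectiveSpecialLinearGroup (Fin 2) F)) ∨ (∃ (m : ℕ) (F : Type) (_ : Field F) (_ : Fintype F), Fintype.card F = 2 ^ m ∧ p = 2 ^ m + 1 ∧ 3 < p ∧ Nonempty (G ≃* Matrix.ProjectiveSpecialLinearGroup (Fin 2) F)) := by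
  classical
  haveI : Fintype G := Fintype.ofFinite G
  haveI : Fact p.Prime := ⟨hp⟩
  have hGpos : 0 < Nat.card G := Nat.card_pos
  have hg0 : 0 < g₀ := by
    rcases Nat.eq_zero_or_pos g₀ with h | h
    · rw [h, mul_zero] at hG'
      omega
    · exact h
  have hdvd : p ∣ Nat.card G := by
    rw [hG', mul_assoc]
    exact dvd_mul_right _ _
  obtain ⟨P⟩ : Nonempty (Sylow p G) := inferInstance
  -- the Sylow subgroup has order `p`
  have hP : Nat.card P = p := by
    have hnq : ¬ p ∣ q ^ b := fun h => hpq ((Nat.prime_dvd_prime_iff_eq hp hq).mp (hp.dvd_of_dvd_pow h))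
    have hng : ¬ p ∣ g₀ := fun h => by
      have := Nat.le_of_dvd hg0 h
      omega
    have hfac : (Nat.card G).factorization p = 1 := by
      rw [hG', Nat.factorization_mul (Nat.mul_ne_zero hp.ne_zero (pow_ne_zero _ hq.ne_zero))
        hg0.ne', Nat.factorization_mul hp.ne_zero (pow_ne_zero _ hq.ne_zero)]
      rw [Finsupp.add_apply, Finsupp.add_apply, hp.factorization,
        Nat.factorization_eq_zero_of_not_dvd hnq, Nat.factorization_eq_zero_of_not_dvd hng]
      simp
    rw [P.card_eq_multiplicity, hfac, pow_one]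
  have hPn : ¬ (P : Subgroup G).Normal := Cfsg.Agent.Helper25.BRMain.not_normal_of_simple hG p hdvd P
  have hperf : commutator G = ⊤ :=
    Cfsg.Agent.Helper25.NPCSimple.commutator_eq_top_of_simple (P : Subgroup G) hPn
  obtain ⟨hbig, m, hm⟩ := Cfsg.Agent.Helper16.BT.card_lt_cube P hperf hP q b g₀ hq hpq hG' hg
  rcases Cfsg.Agent.S0999.result hG p hp hdvd hbig with
    ⟨F, iF, iFt, hF, -, hiso⟩ | ⟨m', F, iF, iFt, hF, hpm, h3, hiso⟩
  · left
    exact ⟨m, F, iF, iFt, hF, hm, hiso⟩
  · right
    exact ⟨m', F, iF, iFt, hF, hpm, h3, hiso⟩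

end Cfsg.Agent.S0997
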