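import Cfsg.Statements.S1001
-- import your own Cfsg.Agent.* helpers here
import Cfsg.Agent.S0904
import Cfsg.Agent.S0144

set_option autoImplicit false
open Cfsg

namespace Cfsg.Agent.S1001

theorem result {G : Type*} [Group G] [Finite G] [IsSimpleGroup G] (p a b : ℕ) (hp : p.Prime) (hG : Nat.card G = p * 3 ^ a * 2 ^ b) (x : G) (hx : orderOf x = p) : Subgroup.centralizer ({x} : Set G) = Subgroup.zpowers x := by
  classical
  have hx1 : x ≠ 1 := by
    rintro rfl
    rw [orderOf_one] at hx
    exact hp.ne_one hx.symm
  have hzle : Subgroup.zpowers x ≤ Subgroup.centralizer ({x} : Set G) := by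
    intro g hg
    rw [Subgroup.mem_centralizer_iff]
    intro h hh
    rw [Set.mem_singleton_iff] at hh
    subst hh
    obtain ⟨k, rfl⟩ := hg
    exact (Commute.self_zpow h k).eq
  by_cases hcomm : ∀ g h : G, g * h = h * g
  · -- abelian simple group: `zpowers x` is normal, hence everything
    have hn : (Subgroup.zpowers x).Normal :=
      ⟨fun n hn g => by rw [hcomm g n, mul_inv_cancel_right]; exact hn⟩
    rcases hn.eq_bot_or_eq_top with h | h
    · exact absurd (Subgroup.zpowers_eq_bot.1 h) hx1
    · rw [h] at hzle ⊢
      exact top_le_iff.1 hzle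
  · -- nonabelian: not solvable, so `p ≠ 2, 3`
    have hns : ¬ Group.IsSolvable G := fun hs => hcomm (IsSimpleGroup.comm_iff_isSolvable.2 hs)
    have hp2 : p ≠ 2 := by
      rintro rfl
      apply hns
      refine S0144.result 3 2 a (b + 1) Nat.prime_three Nat.prime_two ?_
      rw [hG]; ring
    have hp3 : p ≠ 3 := by
      rintro rfl
      apply hns
      refine S0144.result 3 2 (a + 1) b Nat.prime_three Nat.prime_two ?_
      rw [hG]; ring
    have : Fact p.Prime := ⟨hp⟩
    have hcard : Nat.card G = 3 ^ a * 2 ^ b * p := by rw [hG]; ring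
    -- a Sylow `p`-subgroup containing `x`
    have hpg : IsPGroup p (Subgroup.zpowers x) := by
      refine IsPGroup.of_card (n := 1) ?_
      rw [Nat.card_zpowers, hx, pow_one]
    obtain ⟨S, hS⟩ := hpg.exists_le_sylow
    have hfac : (Nat.card G).factorization p = 1 := by
      rw [hcard]
      exact S0904.factorization_r 3 2 p a b Nat.prime_three Nat.prime_two hp (Ne.symm hp3)
        (Ne.symm hp2)
    have hScard : Nat.card (S : Subgroup G) = p := by
      rw [Sylow.card_eq_multiplicity, hfac, pow_one]
    have hSeq : Subgroup.zpowers x = (S : Subgroup G) := by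
      refine Subgroup.eq_of_le_of_card_ge hS ?_
      rw [hScard, Nat.card_zpowers, hx]
    have h904 := S0904.result 3 2 p a b Nat.prime_three Nat.prime_two (by norm_num)
      (Ne.symm hp3) (Ne.symm hp2) hcard S
    refine le_antisymm ?_ hzle
    intro g hg
    rw [hSeq, ← h904, Subgroup.mem_centralizer_iff]
    intro h hh
    have hh' : h ∈ Subgroup.zpowers x := by rw [hSeq]; exact hh
    obtain ⟨k, rfl⟩ := hh'
    have hgx : Commute g x := by
      have := (Subgroup.mem_centralizer_iff.1 hg) x (Set.mem_singleton x)
      exact this.symm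
    exact (hgx.zpow_right k).eq.symm

end Cfsg.Agent.S1001
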