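import Mathlib
import Cfsg.Statements.S1002
import Cfsg.Agent.Helper17.SylowKit
import Cfsg.Agent.Helper17.OrbitCount
import Cfsg.Agent.S0071

set_option autoImplicit false
open Cfsg

namespace Cfsg.Agent.S1002

open Subgroup MulAction Cfsg.Agent.Helper17

/-- Some Sylow 3-subgroup is non-commutative. -/
theorem exists_sylow3_not_comm {G : Type*} [Group G] [Finite G] [IsSimpleGroup G]
    (h : Nat.card G = 1004913) :
    ∃ P : Sylow 3 G, ¬ (∀ a ∈ (P : Subgroup G), ∀ b ∈ (P : Subgroup G), a * b = b * a) := by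
  have hnc : ¬ IsMulCommutative G := not_comm_of_simple_of_not_prime (by rw [h]; norm_num)
  haveI : Fact (Nat.Prime 409) := ⟨by norm_num⟩
  haveI : Fact (Nat.Prime 3) := ⟨by norm_num⟩
  obtain ⟨Q⟩ : Nonempty (Sylow 409 G) := inferInstance
  have hcard : Nat.card G = 409 ^ 1 * 2457 := by rw [h]; norm_num
  have hm : ¬ 409 ∣ 2457 := by decide
  have hQcard : Nat.card (Q : Subgroup G) = 409 := by
    simpa using card_sylow_subgroup_of_card_eq hcard hm Q
  -- n_409 = 819
  have hn : Nat.card (Sylow 409 G) = 819 := by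
    have hdvd : Nat.card (Sylow 409 G) ∣ 2457 := card_sylow_dvd_of_card_eq hcard hm
    have hmod : Nat.card (Sylow 409 G) ≡ 1 [MOD 409] := card_sylow_modEq_one 409 G
    have hne1 := card_sylow_ne_one_of_simple hcard hm one_ne_zero (by norm_num)
    have hle : Nat.card (Sylow 409 G) ≤ 2457 := Nat.le_of_dvd (by norm_num) hdvd
    generalize Nat.card (Sylow 409 G) = n at *
    unfold Nat.ModEq at hmod
    obtain ⟨k, rfl⟩ : ∃ k, n = 409 * k + 1 := ⟨n / 409, by omega⟩
    have hk : k ≤ 6 := by omega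
    interval_cases k
    · exact absurd rfl hne1
    · exact absurd hdvd (by decide)
    · rfl
    · exact absurd hdvd (by decide)
    · exact absurd hdvd (by decide)
    · exact absurd hdvd (by decide)
    · exact absurd hdvd (by decide)
  have hN : Nat.card (normalizer ((Q : Subgroup G) : Set G)) = 1227 := by
    have := card_normalizer_mul_card_sylow Q
    rw [hn, h] at this
    omega
  -- an element of order 3 in N(Q)
  obtain ⟨x, hx⟩ := exists_prime_orderOf_dvd_card' (G := ↥(normalizer ((Q : Subgroup G) : Set G))) 3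
    (by rw [hN]; norm_num)
  have hxG : orderOf (x : G) = 3 := by rw [Subgroup.orderOf_coe]; exact hx
  have hxC : (x : G) ∉ centralizer ((Q : Subgroup G) : Set G) := by
    intro hxc
    have hQcomm : IsMulCommutative (Q : Subgroup G) := by
      haveI : Fact (Nat.card (Q : Subgroup G)).Prime := ⟨hQcard.symm ▸ (by norm_num)⟩
      have : IsCyclic (Q : Subgroup G) := isCyclic_of_prime_card rfl
      exact ⟨⟨fun a b => by
        obtain ⟨g, hg⟩ := IsCyclic.exists_generator (α := (Q : Subgroup G))
        obtain ⟨m, rfl⟩ := Subgroup.mem_zpowers_iff.mp (hg a)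
        obtain ⟨n, rfl⟩ := Subgroup.mem_zpowers_iff.mp (hg b)
        exact (Commute.zpow_zpow_self g m n).eq⟩⟩
    have hQC : (Q : Subgroup G) ≤ centralizer ((Q : Subgroup G) : Set G) :=
      Subgroup.le_centralizer_iff_isMulCommutative.mpr hQcomm
    have h3 : 3 ∣ Nat.card (centralizer ((Q : Subgroup G) : Set G)) := by
      have := orderOf_dvd_natCard (⟨(x : G), hxc⟩ : centralizer ((Q : Subgroup G) : Set G))
      rwa [Subgroup.orderOf_mk, hxG] at this
    have h409 : 409 ∣ Nat.card (centralizer ((Q : Subgroup G) : Set G)) := by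
      have := Subgroup.card_dvd_of_le hQC
      rwa [hQcard] at this
    have h1227 : 3 * 409 ∣ Nat.card (centralizer ((Q : Subgroup G) : Set G)) :=
      Nat.Coprime.mul_dvd_of_dvd_of_dvd (by norm_num) h3 h409
    have hCN : centralizer ((Q : Subgroup G) : Set G) ≤ normalizer ((Q : Subgroup G) : Set G) :=
      Subgroup.centralizer_le_normalizer _
    have hge : Nat.card (normalizer ((Q : Subgroup G) : Set G)) ≤
        Nat.card (centralizer ((Q : Subgroup G) : Set G)) := by
      rw [hN]
      exact Nat.le_of_dvd Nat.card_pos h1227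
    have heq := Subgroup.eq_of_le_of_card_ge hCN hge
    refine not_normalizer_le_centralizer_of_simple Q ?_ ?_ heq.ge
    · rw [hQcard]; norm_num
    · rw [hQcard, h]; norm_num
  -- fixed points of x
  have hfix : Nat.card (fixedBy (G ⧸ normalizer ((Q : Subgroup G) : Set G)) (x : G)) ≤ 3 := by
    have h1 := card_fixedBy_le_card_orbits Q hQcard x.2 hxC
    have h2 := card_orbits_mul_prime Q hQcard
    rw [hn] at h2
    omega
  -- a Sylow 3-subgroup containing x
  have hpx : IsPGroup 3 (zpowers (x : G)) :=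
    IsPGroup.of_card (n := 1) (by rw [Nat.card_zpowers, hxG]; norm_num)
  obtain ⟨P, hP⟩ := hpx.exists_le_sylow
  refine ⟨P, fun hcomm => ?_⟩
  have hcard3 : Nat.card G = 3 ^ 3 * 37219 := by rw [h]; norm_num
  have hPcard : Nat.card (P : Subgroup G) = 27 := by
    have := card_sylow_subgroup_of_card_eq hcard3 (by decide) P
    simpa using this
  have hxP : (x : G) ∈ (P : Subgroup G) := hP (Subgroup.mem_zpowers _)
  have key := card_le_card_inf_mul_card_fixedBy (normalizer ((Q : Subgroup G) : Set G))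
    (P : Subgroup G) (x : G) x.2 (fun s hs => hcomm s hs _ hxP)
  have hinf : Nat.card ((P : Subgroup G) ⊓ normalizer ((Q : Subgroup G) : Set G) : Subgroup G) ≤ 3 := by
    have h1 : Nat.card ((P : Subgroup G) ⊓ normalizer ((Q : Subgroup G) : Set G) : Subgroup G) ∣ 27 :=
      hPcard ▸ Subgroup.card_dvd_of_le inf_le_left
    have h2 : Nat.card ((P : Subgroup G) ⊓ normalizer ((Q : Subgroup G) : Set G) : Subgroup G) ∣ 1227 :=
      hN ▸ Subgroup.card_dvd_of_le inf_le_right
    have h3 := Nat.dvd_gcd h1 h2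
    exact Nat.le_of_dvd (by norm_num) h3
  rw [hPcard] at key
  have : Nat.card ((P : Subgroup G) ⊓ normalizer ((Q : Subgroup G) : Set G) : Subgroup G) *
      Nat.card (fixedBy (G ⧸ normalizer ((Q : Subgroup G) : Set G)) (x : G)) ≤ 3 * 3 :=
    Nat.mul_le_mul hinf hfix
  omega


/-- Reduction of the Frobenius hypothesis to elements of prime-power order. -/
theorem mem_centralizer_of_coprime {G : Type*} [Group G] [Finite G] (D : Subgroup G)
    (hprime : ∀ (r : ℕ) [Fact r.Prime], r ≠ 3 → ∀ K : Subgroup G, IsPGroup r K →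
      K ≤ normalizer (D : Set G) → ∀ d ∈ D, ∀ k ∈ K, k * d = d * k) :
    ∀ m : ℕ, ∀ g : G, orderOf g = m → g ∈ normalizer (D : Set G) → Nat.Coprime m 3 →
      g ∈ centralizer (D : Set G) := by
  intro m
  induction m using Nat.strong_induction_on with
  | _ m ih =>
    intro g hg hgN hcop
    by_cases hm1 : m = 1
    · rw [hm1, orderOf_eq_one_iff] at hg
      rw [hg]; exact one_mem _
    have hm0 : m ≠ 0 := by rw [← hg]; exact (orderOf_pos g).ne'
    have hr : m.minFac.Prime := Nat.minFac_prime hm1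
    set r := m.minFac with hrdef
    haveI : Fact r.Prime := ⟨hr⟩
    have hrm : r ∣ m := Nat.minFac_dvd m
    have hr3 : r ≠ 3 := by
      intro h3
      have : 3 ∣ Nat.gcd m 3 := Nat.dvd_gcd (h3 ▸ hrm) dvd_rfl
      rw [Nat.Coprime] at hcop
      rw [hcop] at this
      norm_num at this
    obtain ⟨k, m', hrm', hmm'⟩ := Nat.exists_eq_pow_mul_and_not_dvd hm0 r hr.ne_one
    have hm'0 : m' ≠ 0 := by rintro rfl; simp at hmm'; exact hm0 hmm'
    have hk0 : k ≠ 0 := by
      rintro rfl
      rw [pow_zero, one_mul] at hmm'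
      exact hrm' (hmm' ▸ hrm)
    have hcop' : Nat.Coprime (r ^ k) m' :=
      Nat.Coprime.pow_left k ((Nat.Prime.coprime_iff_not_dvd hr).mpr hrm')
    -- the two powers
    have ho1 : orderOf (g ^ m') = r ^ k := by
      rw [orderOf_pow' g hm'0, hg, hmm', Nat.gcd_mul_left_left, Nat.mul_div_cancel _ (Nat.pos_of_ne_zero hm'0)]
    have ho2 : orderOf (g ^ (r ^ k)) = m' := by
      rw [orderOf_pow' g (pow_ne_zero k hr.ne_zero), hg, hmm', Nat.gcd_mul_right_left,
        Nat.mul_div_cancel_left _ (pow_pos hr.pos k)]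
    have hm'lt : m' < m := by
      rw [hmm']
      have : 2 ≤ r ^ k := by
        calc 2 ≤ r := hr.two_le
          _ = r ^ 1 := (pow_one r).symm
          _ ≤ r ^ k := Nat.pow_le_pow_right hr.pos (Nat.one_le_iff_ne_zero.mpr hk0)
      nlinarith [Nat.pos_of_ne_zero hm'0]
    have h2 : g ^ (r ^ k) ∈ centralizer (D : Set G) :=
      ih m' hm'lt _ ho2 (pow_mem hgN _) (Nat.Coprime.coprime_dvd_left ⟨r ^ k, by rw [hmm']; ring⟩ hcop)
    have h1 : g ^ m' ∈ centralizer (D : Set G) := by
      have hK : IsPGroup r (zpowers (g ^ m')) :=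
        IsPGroup.of_card (n := k) (by rw [Nat.card_zpowers, ho1])
      have hKN : zpowers (g ^ m') ≤ normalizer (D : Set G) :=
        Subgroup.zpowers_le.mpr (pow_mem hgN _)
      rw [Subgroup.mem_centralizer_iff]
      intro d hd
      exact (hprime r hr3 _ hK hKN d hd _ (Subgroup.mem_zpowers _)).symm
    have hbez := Nat.gcd_eq_gcd_ab (r ^ k) m'
    rw [Nat.Coprime] at hcop'
    rw [hcop'] at hbez
    have hg1 : g = (g ^ (r ^ k)) ^ (Nat.gcdA (r ^ k) m') * (g ^ m') ^ (Nat.gcdB (r ^ k) m') := by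
      rw [← zpow_natCast, ← zpow_natCast, ← zpow_mul, ← zpow_mul, ← zpow_add, ← hbez]
      simp
    rw [hg1]
    exact mul_mem (zpow_mem h2 _) (zpow_mem h1 _)


theorem conj_mem_inf_centralizer {G : Type*} [Group G] (H : Subgroup G) {g z : G}
    (hg : g ∈ normalizer (H : Set G)) (hz : z ∈ H ⊓ centralizer (H : Set G)) :
    g * z * g⁻¹ ∈ H ⊓ centralizer (H : Set G) := by
  refine ⟨(Subgroup.mem_normalizer_iff.mp hg z).mp hz.1, ?_⟩
  change g * z * g⁻¹ ∈ centralizer (H : Set G)
  rw [Subgroup.mem_centralizer_iff]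
  intro y hy
  have hy' : g⁻¹ * y * g ∈ H := by
    have := (Subgroup.mem_normalizer_iff.mp (inv_mem hg) y).mp hy
    simpa using this
  have hc := (Subgroup.mem_centralizer_iff.mp hz.2) _ hy'
  calc y * (g * z * g⁻¹) = g * ((g⁻¹ * y * g) * z) * g⁻¹ := by group
    _ = g * (z * (g⁻¹ * y * g)) * g⁻¹ := by rw [hc]
    _ = g * z * g⁻¹ * y := by group

theorem normalizer_le_normalizer_inf_centralizer {G : Type*} [Group G] (H : Subgroup G) :
    normalizer (H : Set G) ≤ normalizer ((H ⊓ centralizer (H : Set G) : Subgroup G) : Set G) := by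
  intro g hg
  rw [Subgroup.mem_normalizer_iff]
  intro z
  constructor
  · intro hz
    exact conj_mem_inf_centralizer H hg hz
  · intro hz
    have := conj_mem_inf_centralizer H (inv_mem hg) hz
    simpa [mul_assoc] using this

theorem arith1 : ∀ d ∈ Nat.divisors 27, ∀ c ∈ Nat.divisors d, ∀ r ∈ ({7, 13, 409} : Finset ℕ),
    d % r = c % r → c = d ∨ (r = 13 ∧ d = 27 ∧ c = 1) := by decide

theorem arith2 : ∀ d ∈ Nat.divisors 27, d ≠ 1 → d ≠ 27 → ∀ c ∈ Nat.divisors d,
    d % 13 = c % 13 → c = d := by decide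

/-- There is no simple group of order 1004913 = 3^3 * 7 * 13 * 409. -/
theorem result {G : Type*} [Group G] [Finite G] [IsSimpleGroup G] : Nat.card G ≠ 1004913 := by
  intro h
  obtain ⟨P, hPnc⟩ := exists_sylow3_not_comm h
  haveI : Fact (Nat.Prime 3) := ⟨by norm_num⟩
  have hcard3 : Nat.card G = 3 ^ 3 * 37219 := by rw [h]; norm_num
  have hPcard : Nat.card (P : Subgroup G) = 27 := by
    have := card_sylow_subgroup_of_card_eq hcard3 (by decide) P
    simpa using this
  set Z : Subgroup G := (P : Subgroup G) ⊓ centralizer ((P : Subgroup G) : Set G) with hZ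
  have hZle : Z ≤ (P : Subgroup G) := inf_le_left
  have hZdvd : Nat.card Z ∣ 27 := hPcard ▸ Subgroup.card_dvd_of_le hZle
  have hZ1 : Nat.card Z ≠ 1 := by
    intro h1
    have hbot : Z = ⊥ := Subgroup.card_eq_one.mp h1
    haveI : Nontrivial (P : Subgroup G) := by
      rw [← Finite.one_lt_card_iff_nontrivial, hPcard]; norm_num
    have hPp : IsPGroup 3 (P : Subgroup G) := P.isPGroup'
    haveI := hPp.center_nontrivial
    obtain ⟨⟨z, hz⟩, hzne⟩ := exists_ne (1 : Subgroup.center (P : Subgroup G))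
    have hzZ : (z : G) ∈ Z := by
      refine ⟨z.2, ?_⟩
      change (z : G) ∈ centralizer (((P : Subgroup G)) : Set G)
      rw [Subgroup.mem_centralizer_iff]
      intro y hy
      have := (Subgroup.mem_center_iff.mp hz) ⟨y, hy⟩
      exact congrArg Subtype.val this
    rw [hbot, Subgroup.mem_bot] at hzZ
    apply hzne
    apply Subtype.ext
    apply Subtype.ext
    exact hzZ
  have hZ27 : Nat.card Z ≠ 27 := by
    intro h27
    have hZP : Z = (P : Subgroup G) := Subgroup.eq_of_le_of_card_ge hZle (by rw [h27, hPcard])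
    apply hPnc
    intro a ha b hb
    have hb' : b ∈ Z := hZP ▸ hb
    exact (Subgroup.mem_centralizer_iff.mp hb'.2) a ha
  have hZnorm : normalizer ((P : Subgroup G) : Set G) ≤ normalizer (Z : Set G) :=
    normalizer_le_normalizer_inf_centralizer (P : Subgroup G)
  -- the key claim
  have hprime : ∀ D : Subgroup G, D ≤ (P : Subgroup G) → ∀ (r : ℕ) [Fact r.Prime], r ≠ 3 →
      ∀ K : Subgroup G, IsPGroup r K → K ≤ normalizer (D : Set G) →
      ∀ d ∈ D, ∀ k ∈ K, k * d = d * k := by
    intro D hD r hrf hr3 K hK hKD d hd k hk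
    have hr : r.Prime := hrf.out
    obtain ⟨n, hn⟩ := IsPGroup.iff_card.mp hK
    by_cases hn0 : n = 0
    · rw [hn0, pow_zero] at hn
      have hbot : K = ⊥ := Subgroup.card_eq_one.mp hn
      rw [hbot, Subgroup.mem_bot] at hk
      rw [hk]; simp
    have hrG : r ∣ Nat.card G := by
      have h1 : r ∣ Nat.card K := hn ▸ dvd_pow_self r hn0
      exact h1.trans (Subgroup.card_subgroup_dvd_card K)
    have hrmem : r ∈ ({7, 13, 409} : Finset ℕ) := by
      have e : Nat.card G = 3 ^ 3 * 7 * 13 * 409 := by rw [h]; norm_num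
      rw [e] at hrG
      rcases (Nat.Prime.dvd_mul hr).mp hrG with h1 | h1
      · rcases (Nat.Prime.dvd_mul hr).mp h1 with h1 | h1
        · rcases (Nat.Prime.dvd_mul hr).mp h1 with h1 | h1
          · exact absurd ((Nat.prime_dvd_prime_iff_eq hr (by norm_num)).mp (hr.dvd_of_dvd_pow h1)) hr3
          · rw [(Nat.prime_dvd_prime_iff_eq hr (by norm_num)).mp h1]; decide
        · rw [(Nat.prime_dvd_prime_iff_eq hr (by norm_num)).mp h1]; decide
      · rw [(Nat.prime_dvd_prime_iff_eq hr (by norm_num)).mp h1]; decide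
    have hmod := card_modEq_card_inf_centralizer K D hK hKD
    have hd27 : Nat.card D ∈ Nat.divisors 27 :=
      Nat.mem_divisors.mpr ⟨hPcard ▸ Subgroup.card_dvd_of_le hD, by norm_num⟩
    have hc : Nat.card (D ⊓ centralizer (K : Set G) : Subgroup G) ∈ Nat.divisors (Nat.card D) :=
      Nat.mem_divisors.mpr ⟨Subgroup.card_dvd_of_le inf_le_left, Nat.card_pos.ne'⟩
    have hcase := arith1 _ hd27 _ hc r hrmem hmod
    have hDC : D ≤ centralizer (K : Set G) := by
      rcases hcase with hcd | ⟨hr13, hd27', hc1⟩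
      · have : D ⊓ centralizer (K : Set G) = D :=
          Subgroup.eq_of_le_of_card_ge inf_le_left (by rw [hcd])
        exact this ▸ inf_le_right
      · exfalso
        have hDP : D = (P : Subgroup G) := Subgroup.eq_of_le_of_card_ge hD (by rw [hd27', hPcard])
        have hKZ : K ≤ normalizer (Z : Set G) := by
          rw [hDP] at hKD
          exact hKD.trans hZnorm
        have hmodZ := card_modEq_card_inf_centralizer K Z hK hKZ
        rw [hr13] at hmodZ
        have hZd : Nat.card Z ∈ Nat.divisors 27 := Nat.mem_divisors.mpr ⟨hZdvd, by norm_num⟩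
        have hcZ : Nat.card (Z ⊓ centralizer (K : Set G) : Subgroup G) ∈ Nat.divisors (Nat.card Z) :=
          Nat.mem_divisors.mpr ⟨Subgroup.card_dvd_of_le inf_le_left, Nat.card_pos.ne'⟩
        have heq := arith2 _ hZd hZ1 hZ27 _ hcZ hmodZ
        have hZC : Z ≤ centralizer (K : Set G) := by
          have : Z ⊓ centralizer (K : Set G) = Z :=
            Subgroup.eq_of_le_of_card_ge inf_le_left (by rw [heq])
          exact this ▸ inf_le_right
        have hZD : Z ≤ D ⊓ centralizer (K : Set G) := le_inf (hDP ▸ hZle) hZC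
        have := Subgroup.card_dvd_of_le hZD
        rw [hc1, Nat.dvd_one] at this
        exact hZ1 this
    exact (Subgroup.mem_centralizer_iff.mp (hDC hd)) k hk
  -- Frobenius
  obtain ⟨N, hNn, hNc⟩ := (Cfsg.Agent.S0071.result P).mpr (fun D hD g hg hcop =>
    mem_centralizer_of_coprime D (fun r _ hr3 K hK hKD => hprime D hD r hr3 K hK hKD) _ g rfl hg hcop)
  have hcc := hNc.card_mul_card
  rw [hPcard, h] at hcc
  rcases hNn.eq_bot_or_eq_top with hb | ht
  · rw [hb] at hcc
    simp at hcc
  · rw [ht] at hcc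
    simp [h] at hcc

end Cfsg.Agent.S1002
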