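import Mathlib
import Cfsg.Statements.S1014
import Cfsg.Agent.Helper17.SylowKit
import Cfsg.Agent.Helper17.LemmaN

set_option autoImplicit false
open Cfsg

namespace Cfsg.Agent.S1014

open Subgroup Cfsg.Agent.Helper17 in
/-- No finite simple group has order 1104 = 2^4 * 3 * 23. -/
theorem result {G : Type*} [Group G] [Finite G] [IsSimpleGroup G] : Nat.card G ≠ 1104 := by
  intro hG
  haveI : Fact (Nat.Prime 23) := ⟨by norm_num⟩
  have hnc : ¬ IsMulCommutative G := not_comm_of_simple_of_not_prime (by rw [hG]; norm_num)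
  have hG' : Nat.card G = 23 ^ 1 * 48 := by rw [hG]; norm_num
  have hm : ¬ 23 ∣ 48 := by norm_num
  obtain ⟨P⟩ : Nonempty (Sylow 23 G) := inferInstance
  have hdvd : Nat.card (Sylow 23 G) ∣ 48 := card_sylow_dvd_of_card_eq hG' hm
  have hmod : Nat.card (Sylow 23 G) ≡ 1 [MOD 23] := card_sylow_modEq_one 23 G
  have hne1 : Nat.card (Sylow 23 G) ≠ 1 :=
    card_sylow_ne_one_of_simple hG' hm (by norm_num) (by norm_num)
  have hn : Nat.card (Sylow 23 G) = 24 := by
    have hmem : Nat.card (Sylow 23 G) ∈ Nat.divisors 48 := Nat.mem_divisors.mpr ⟨hdvd, by norm_num⟩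
    have key : ∀ n ∈ Nat.divisors 48, n % 23 = 1 → n ≠ 1 → n = 24 := by decide
    exact key _ hmem hmod hne1
  have hN : Nat.card (normalizer ((P : Subgroup G) : Set G)) = 46 := by
    have := card_normalizer_mul_card_sylow P
    rw [hn, hG] at this
    omega
  have hidx : (normalizer ((P : Subgroup G) : Set G)).index = 24 := by
    rw [← hn]; exact (P.card_eq_index_normalizer).symm
  have hne : normalizer ((P : Subgroup G) : Set G) ≠ ⊤ := by
    intro htop
    rw [htop, index_top] at hidx
    omega
  have := two_mul_card_normalizer_dvd_of_index hnc _ hne 23 (Or.inr hidx) (by rw [hG]; norm_num) P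
  rw [hN] at this
  norm_num at this

end Cfsg.Agent.S1014
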