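import Mathlib
import Cfsg.Statements.S1015
import Cfsg.Agent.Helper17.SylowKit2

set_option autoImplicit false
open Cfsg

namespace Cfsg.Agent.S1015

open Subgroup Cfsg.Agent.Helper17 in
/-- No finite simple group has order 1200 = 2^4 * 3 * 5^2. -/
theorem result {G : Type*} [Group G] [Finite G] [IsSimpleGroup G] : Nat.card G ≠ 1200 := by
  intro hG
  haveI : Fact (Nat.Prime 5) := ⟨by norm_num⟩
  have hnc : ¬ IsMulCommutative G := not_comm_of_simple_of_not_prime (by rw [hG]; norm_num)
  have hG' : Nat.card G = 5 ^ 2 * 48 := by rw [hG]; norm_num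
  have hm : ¬ 5 ∣ 48 := by norm_num
  have hcardP : ∀ P : Sylow 5 G, Nat.card (P : Subgroup G) = 25 := fun P => by
    simpa using card_sylow_subgroup_of_card_eq hG' hm P
  have hdvd : Nat.card (Sylow 5 G) ∣ 48 := card_sylow_dvd_of_card_eq hG' hm
  have hmod : Nat.card (Sylow 5 G) ≡ 1 [MOD 5] := card_sylow_modEq_one 5 G
  have hne1 : Nat.card (Sylow 5 G) ≠ 1 :=
    card_sylow_ne_one_of_simple hG' hm (by norm_num) (by norm_num)
  have hne6 : Nat.card (Sylow 5 G) ≠ 6 := by
    intro h6
    obtain ⟨P⟩ : Nonempty (Sylow 5 G) := inferInstance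
    have hidx : Nat.card (Sylow 5 G) = (normalizer ((P : Subgroup G) : Set G)).index :=
      P.card_eq_index_normalizer
    have hne : normalizer ((P : Subgroup G) : Set G) ≠ ⊤ := by
      intro htop
      rw [htop, index_top] at hidx
      omega
    have := two_mul_card_dvd_factorial_of_index_le hnc _ hne (k := 6) (by omega)
    rw [hG] at this
    norm_num [Nat.factorial] at this
  have hn : Nat.card (Sylow 5 G) = 16 := by
    have hmem : Nat.card (Sylow 5 G) ∈ Nat.divisors 48 := Nat.mem_divisors.mpr ⟨hdvd, by norm_num⟩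
    have key : ∀ n ∈ Nat.divisors 48, n % 5 = 1 → n ≠ 1 → n ≠ 6 → n = 16 := by decide
    exact key _ hmem hmod hne1 hne6
  have hnmod : ¬ Nat.card (Sylow 5 G) ≡ 1 [MOD 5 ^ 2] := by
    rw [hn]; decide
  obtain ⟨P, R, hPR, hidx⟩ := exists_sylow_pair_large_inter 5 2 hnmod
  set D : Subgroup G := (P : Subgroup G) ⊓ (R : Subgroup G) with hD
  have hDcard : 5 ≤ Nat.card D := by
    have h1 : ((R : Subgroup G).subgroupOf (P : Subgroup G)).index * Nat.card D = 25 := by
      rw [← hcardP P]; exact index_subgroupOf_mul_card_inf (P : Subgroup G) (R : Subgroup G)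
    have h2 : ((R : Subgroup G).subgroupOf (P : Subgroup G)).index ≤ 5 := by simpa using hidx
    by_contra hlt
    push Not at hlt
    have : ((R : Subgroup G).subgroupOf (P : Subgroup G)).index * Nat.card D ≤ 5 * 4 :=
      Nat.mul_le_mul h2 (by omega)
    omega
  have hDcard' : Nat.card D ≤ 25 := by
    have := Subgroup.card_le_of_le (inf_le_left : D ≤ (P : Subgroup G))
    rwa [hcardP P] at this
  have hcomm : ∀ S : Sylow 5 G, ∀ a b : (S : Subgroup G), a * b = b * a := fun S a b =>
    (IsPGroup.isMulCommutative_of_card_eq_prime_sq (p := 5) (by rw [hcardP S]; norm_num)).is_comm.comm a b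
  have hPN : (P : Subgroup G) ≤ normalizer (D : Set G) := le_normalizer_of_comm inf_le_left (hcomm P)
  have hRN : (R : Subgroup G) ≤ normalizer (D : Set G) := le_normalizer_of_comm inf_le_right (hcomm R)
  obtain ⟨n, m, hn1, -, hcardN⟩ := card_ge_of_two_sylow_le P R hPR hPN hRN
  rw [hcardP P] at hcardN
  have hNne : normalizer (D : Set G) ≠ ⊤ :=
    normalizer_ne_top_of_simple D (by omega) (by rw [hG]; omega)
  have hidxN := Subgroup.card_mul_index (normalizer (D : Set G))
  rw [hcardN, hG] at hidxN
  have hm0 : m ≠ 0 := by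
    rintro rfl
    simp at hidxN
  have hidx8 : (normalizer (D : Set G)).index ≤ 8 := by
    by_contra hlt
    push Not at hlt
    have h1 : 6 * 1 ≤ n * m := Nat.mul_le_mul hn1 (by omega)
    have h2 : 25 * 6 * 9 ≤ 25 * (n * m) * (normalizer (D : Set G)).index :=
      Nat.mul_le_mul (by omega) hlt
    omega
  have := two_mul_card_dvd_factorial_of_index_le hnc _ hNne hidx8
  rw [hG] at this
  norm_num [Nat.factorial] at this

end Cfsg.Agent.S1015
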