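import Mathlib
import Cfsg.Statements.S1016
import Cfsg.Agent.Helper17.VTrick
import Cfsg.Agent.Helper17.LemmaR
import Cfsg.Agent.Helper17.Parity

set_option autoImplicit false
set_option linter.style.haveILetI false
open Cfsg

namespace Cfsg.Agent.S1016

open Cfsg.Agent.Helper17 Subgroup

theorem key_n5 : ∀ n ∈ Nat.divisors 288, n % 5 = 1 → n ≠ 1 → n = 6 ∨ n = 16 ∨ n = 36 ∨ n = 96 := by
  decide

theorem key_n36 : ∀ n ∈ Nat.divisors 36, n % 5 = 1 → n = 1 ∨ n = 6 ∨ n = 36 := by decide

variable {G : Type*} [Group G] [Finite G] [IsSimpleGroup G]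

/-- The 5-local structure: `n_5 = 36`, `|N(P)| = 40`, `|C(P)| ∈ {20, 10}`. -/
theorem local5 (h : Nat.card G = 1440) [Fact (Nat.Prime 5)] (P : Sylow 5 G) :
    Nat.card (P : Subgroup G) = 5 ∧
    Nat.card (normalizer ((P : Subgroup G) : Set G)) = 40 ∧
    (Nat.card (centralizer ((P : Subgroup G) : Set G)) = 20 ∨
      Nat.card (centralizer ((P : Subgroup G) : Set G)) = 10) := by
  have hG : ¬ IsMulCommutative G := not_comm_of_simple_of_not_prime (by rw [h]; norm_num)
  have hG5 : Nat.card G = 5 ^ 1 * 288 := by rw [h]; norm_num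
  have h5 : ¬ 5 ∣ 288 := by norm_num
  have hP : Nat.card (P : Subgroup G) = 5 := by
    have := card_sylow_subgroup_of_card_eq hG5 h5 P
    simpa using this
  have hn1 : Nat.card (Sylow 5 G) ∣ 288 := card_sylow_dvd_of_card_eq hG5 h5
  have hn2 : Nat.card (Sylow 5 G) ≡ 1 [MOD 5] := card_sylow_modEq_one 5 G
  have hn3 : Nat.card (Sylow 5 G) ≠ 1 :=
    card_sylow_ne_one_of_simple hG5 h5 (by norm_num) (by norm_num)
  have hNn := card_normalizer_mul_card_sylow P
  rw [h] at hNn
  obtain ⟨hd1, hd2⟩ := relIndex_dvd_of_card_sylow_prime P hP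
  have hcm := card_centralizer_mul_relIndex (P : Subgroup G)
  have h0 : (centralizer ((P : Subgroup G) : Set G)).relIndex
    (normalizer ((P : Subgroup G) : Set G)) ≠ 0 := Subgroup.index_ne_zero_of_finite
  have hne : ¬ (normalizer ((P : Subgroup G) : Set G) ≤ centralizer ((P : Subgroup G) : Set G)) :=
    not_normalizer_le_centralizer_of_simple P (by rw [hP]; norm_num) (by rw [hP, h]; norm_num)
  have h1' : (centralizer ((P : Subgroup G) : Set G)).relIndex
    (normalizer ((P : Subgroup G) : Set G)) ≠ 1 := fun h => hne (Subgroup.relIndex_eq_one.mp h)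
  have hCN : centralizer ((P : Subgroup G) : Set G) ≤ normalizer ((P : Subgroup G) : Set G) :=
    Subgroup.centralizer_le_normalizer _
  generalize hdd : (centralizer ((P : Subgroup G) : Set G)).relIndex
    (normalizer ((P : Subgroup G) : Set G)) = d at hd1 hd2 hcm h0 h1'
  have hd4 : d ≤ 4 := Nat.le_of_dvd (by norm_num) hd1
  rcases key_n5 _ (Nat.mem_divisors.mpr ⟨hn1, by norm_num⟩) hn2 hn3 with h6 | h16 | h36 | h96
  · -- n_5 = 6: index 6
    exfalso
    have hidx : (normalizer ((P : Subgroup G) : Set G)).index = 6 := by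
      have := Sylow.card_eq_index_normalizer P
      rw [h6] at this
      exact this.symm
    have hne_top : normalizer ((P : Subgroup G) : Set G) ≠ ⊤ := by
      intro ht
      rw [ht, Subgroup.index_top] at hidx
      omega
    have := two_mul_card_dvd_factorial_of_index_le hG _ hne_top (le_of_eq hidx)
    rw [h] at this
    norm_num [Nat.factorial] at this
  · -- n_5 = 16: Lemma R
    exfalso
    rw [h16] at hNn
    have hN : Nat.card (normalizer ((P : Subgroup G) : Set G)) = 90 := by omega
    rw [hN] at hd2 hcm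
    have hd18 : d ∣ 18 := by
      have : 5 * d ∣ 5 * 18 := hd2
      exact (Nat.mul_dvd_mul_iff_left (by norm_num)).mp this
    have hd2' : d = 2 := by
      have h2 : d ∣ Nat.gcd 18 4 := Nat.dvd_gcd hd18 hd1
      have h3 : d ≤ 2 := Nat.le_of_dvd (by norm_num) h2
      omega
    rw [hd2'] at hcm
    have hC : Nat.card (centralizer ((P : Subgroup G) : Set G)) = 45 := by omega
    haveI : Fact (Nat.Prime 3) := ⟨by norm_num⟩
    obtain ⟨W₁⟩ : Nonempty (Sylow 3 ↥(centralizer ((P : Subgroup G) : Set G))) := inferInstance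
    have hW₁ : Nat.card (W₁ : Subgroup ↥(centralizer ((P : Subgroup G) : Set G))) = 9 := by
      have := card_sylow_subgroup_of_card_eq (G := ↥(centralizer ((P : Subgroup G) : Set G)))
        (p := 3) (k := 2) (m := 5) (by rw [hC]; norm_num) (by norm_num) W₁
      simpa using this
    set W : Subgroup G := (W₁ : Subgroup ↥(centralizer ((P : Subgroup G) : Set G))).map
      (centralizer ((P : Subgroup G) : Set G)).subtype with hWdef
    have hW9 : Nat.card W = 9 := by
      rw [hWdef, Subgroup.card_map_of_injective (Subgroup.subtype_injective _), hW₁]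
    have hWC : W ≤ centralizer ((P : Subgroup G) : Set G) := by
      rw [hWdef]
      rintro _ ⟨x, -, rfl⟩
      exact x.2
    have hWp : IsPGroup 3 W := IsPGroup.of_card (n := 2) (by rw [hW9]; norm_num)
    have := card_dvd_of_le_centralizer_sylow P (q := 3) (by norm_num) (by rw [h16]) W hWp hWC
    rw [hW9] at this
    norm_num at this
  · rw [h36] at hNn
    have hN : Nat.card (normalizer ((P : Subgroup G) : Set G)) = 40 := by omega
    refine ⟨hP, hN, ?_⟩
    rw [hN] at hd2 hcm
    have hd8 : d ∣ 8 := by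
      have : 5 * d ∣ 5 * 8 := hd2
      exact (Nat.mul_dvd_mul_iff_left (by norm_num)).mp this
    have hd24 : d = 2 ∨ d = 4 := by
      have h3 : d ≤ 4 := hd4
      interval_cases d <;> simp_all
    rcases hd24 with rfl | rfl
    · left; omega
    · right; omega
  · exfalso
    rw [h96] at hNn
    have hN : Nat.card (normalizer ((P : Subgroup G) : Set G)) = 15 := by omega
    rw [hN] at hd2
    have hd3 : d ∣ 3 := by
      have : 5 * d ∣ 5 * 3 := hd2
      exact (Nat.mul_dvd_mul_iff_left (by norm_num)).mp this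
    have h2 : d ∣ Nat.gcd 3 4 := Nat.dvd_gcd hd3 hd1
    have h3 : d ≤ 1 := Nat.le_of_dvd (by norm_num) h2
    omega

/-- A proper subgroup containing `N(P)` equals `N(P)`. -/
theorem eq_normalizer_of_le (h : Nat.card G = 1440) [Fact (Nat.Prime 5)] (P : Sylow 5 G)
    (R : Subgroup G) (hNR : normalizer ((P : Subgroup G) : Set G) ≤ R) (hR : R ≠ ⊤) :
    R = normalizer ((P : Subgroup G) : Set G) := by
  have hG : ¬ IsMulCommutative G := not_comm_of_simple_of_not_prime (by rw [h]; norm_num)
  obtain ⟨hP, hN, -⟩ := local5 h P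
  have hPR : (P : Subgroup G) ≤ R := le_normalizer.trans hNR
  have hcount := card_sylow_of_le P R hPR
  rw [inf_eq_right.mpr hNR, hN] at hcount
  have hmod : Nat.card (Sylow 5 ↥R) ≡ 1 [MOD 5] := card_sylow_modEq_one 5 _
  have hRdvd : Nat.card R ∣ 1440 := by
    have := Subgroup.card_subgroup_dvd_card R
    rwa [h] at this
  have hidx := Subgroup.card_mul_index R
  rw [h] at hidx
  generalize hn : Nat.card (Sylow 5 ↥R) = n at hcount hmod
  have hn36 : n ∣ 36 := by
    have : n * 40 ∣ 36 * 40 := by rw [hcount]; exact hRdvd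
    exact (Nat.mul_dvd_mul_iff_right (by norm_num)).mp this
  rcases key_n36 n (Nat.mem_divisors.mpr ⟨hn36, by norm_num⟩) hmod with rfl | rfl | rfl
  · symm
    apply Subgroup.eq_of_le_of_card_ge hNR
    rw [hN, ← hcount]
  · exfalso
    have hidx6 : R.index ≤ 6 := by
      rw [← hcount] at hidx
      nlinarith
    have := two_mul_card_dvd_factorial_of_index_le hG _ hR hidx6
    rw [h] at this
    norm_num [Nat.factorial] at this
  · exfalso
    apply hR
    apply Subgroup.eq_top_of_card_eq
    rw [← hcount, h]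

/-- If `R` contains `P` and a subgroup of order `8` of `N(P)`, then `N(P) ≤ R`. -/
theorem normalizer_le_of_parts (h : Nat.card G = 1440) [Fact (Nat.Prime 5)] (P : Sylow 5 G)
    (R T : Subgroup G) (hPR : (P : Subgroup G) ≤ R) (hTR : T ≤ R)
    (hTN : T ≤ normalizer ((P : Subgroup G) : Set G)) (hT : Nat.card T = 8) :
    normalizer ((P : Subgroup G) : Set G) ≤ R := by
  obtain ⟨hP, hN, -⟩ := local5 h P
  have h5 : 5 ∣ Nat.card (R ⊓ normalizer ((P : Subgroup G) : Set G) : Subgroup G) := by
    have := Subgroup.card_dvd_of_le (le_inf hPR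
      (Subgroup.le_normalizer : (P : Subgroup G) ≤ normalizer ((P : Subgroup G) : Set G)))
    rwa [hP] at this
  have h8 : 8 ∣ Nat.card (R ⊓ normalizer ((P : Subgroup G) : Set G) : Subgroup G) := by
    have := Subgroup.card_dvd_of_le (le_inf hTR hTN)
    rwa [hT] at this
  have h40 : 40 ∣ Nat.card (R ⊓ normalizer ((P : Subgroup G) : Set G) : Subgroup G) :=
    Nat.Coprime.mul_dvd_of_dvd_of_dvd (by norm_num : Nat.Coprime 5 8) h5 h8
  have : R ⊓ normalizer ((P : Subgroup G) : Set G) = normalizer ((P : Subgroup G) : Set G) := by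
    apply Subgroup.eq_of_le_of_card_ge inf_le_right
    rw [hN]
    exact Nat.le_of_dvd Nat.card_pos h40
  exact inf_eq_right.mp this


/-- Case A: `|C(P)| = 20`. -/
theorem caseA (h : Nat.card G = 1440) [Fact (Nat.Prime 5)] [Fact (Nat.Prime 2)] (P : Sylow 5 G)
    (hC : Nat.card (centralizer ((P : Subgroup G) : Set G)) = 20) : False := by
  have hG : ¬ IsMulCommutative G := not_comm_of_simple_of_not_prime (by rw [h]; norm_num)
  obtain ⟨hP, hN, -⟩ := local5 h P
  have hCN : centralizer ((P : Subgroup G) : Set G) ≤ normalizer ((P : Subgroup G) : Set G) :=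
    Subgroup.centralizer_le_normalizer _
  -- the Sylow 2-subgroup of C(P)
  obtain ⟨V₁⟩ : Nonempty (Sylow 2 ↥(centralizer ((P : Subgroup G) : Set G))) := inferInstance
  have hV₁ : Nat.card (V₁ : Subgroup ↥(centralizer ((P : Subgroup G) : Set G))) = 4 := by
    have := card_sylow_subgroup_of_card_eq (G := ↥(centralizer ((P : Subgroup G) : Set G)))
      (p := 2) (k := 2) (m := 5) (by rw [hC]; norm_num) (by norm_num) V₁
    simpa using this
  set V : Subgroup G := (V₁ : Subgroup ↥(centralizer ((P : Subgroup G) : Set G))).map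
    (centralizer ((P : Subgroup G) : Set G)).subtype with hVdef
  have hV4 : Nat.card V = 4 := by
    rw [hVdef, Subgroup.card_map_of_injective (Subgroup.subtype_injective _), hV₁]
  have hVC : V ≤ centralizer ((P : Subgroup G) : Set G) := by
    rw [hVdef]
    rintro _ ⟨x, -, rfl⟩
    exact x.2
  have hVN : V ≤ normalizer ((P : Subgroup G) : Set G) := hVC.trans hCN
  have hV2 : IsPGroup 2 V := IsPGroup.of_card (n := 2) (by rw [hV4]; norm_num)
  -- a Sylow 2-subgroup of N(P) containing V
  have hV2' : IsPGroup 2 (V.subgroupOf (normalizer ((P : Subgroup G) : Set G))) :=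
    hV2.comap_subtype
  obtain ⟨T', hT'⟩ := hV2'.exists_le_sylow
  have hT'8 : Nat.card (T' : Subgroup ↥(normalizer ((P : Subgroup G) : Set G))) = 8 := by
    have := card_sylow_subgroup_of_card_eq (G := ↥(normalizer ((P : Subgroup G) : Set G)))
      (p := 2) (k := 3) (m := 5) (by rw [hN]; norm_num) (by norm_num) T'
    simpa using this
  set T₀ : Subgroup G := (T' : Subgroup ↥(normalizer ((P : Subgroup G) : Set G))).map
    (normalizer ((P : Subgroup G) : Set G)).subtype with hT₀def
  have hT₀8 : Nat.card T₀ = 8 := by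
    rw [hT₀def, Subgroup.card_map_of_injective (Subgroup.subtype_injective _), hT'8]
  have hT₀N : T₀ ≤ normalizer ((P : Subgroup G) : Set G) := by
    rw [hT₀def]
    rintro _ ⟨x, -, rfl⟩
    exact x.2
  have hVT₀ : V ≤ T₀ := by
    intro x hx
    exact ⟨⟨x, hVN hx⟩, hT' (Subgroup.mem_subgroupOf.mpr hx), rfl⟩
  have hT₀2 : IsPGroup 2 T₀ := IsPGroup.of_card (n := 3) (by rw [hT₀8]; norm_num)
  obtain ⟨S, hTS⟩ := hT₀2.exists_le_sylow
  have hS : Nat.card (S : Subgroup G) = 32 := by
    have := card_sylow_subgroup_of_card_eq (p := 2) (k := 5) (m := 45) (by rw [h]; norm_num)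
      (by norm_num) S
    simpa using this
  set T : Subgroup G := (S : Subgroup G) ⊓ normalizer ((P : Subgroup G) : Set G) with hTdef
  have hT₀T : T₀ ≤ T := le_inf hTS hT₀N
  have hT8 : Nat.card T = 8 := by
    have h1 : Nat.card T ∣ 32 := hS ▸ Subgroup.card_dvd_of_le inf_le_left
    have h2 : Nat.card T ∣ 40 := hN ▸ Subgroup.card_dvd_of_le inf_le_right
    have h3 : Nat.card T ∣ 8 := Nat.dvd_gcd h1 h2
    have h4 : 8 ∣ Nat.card T := hT₀8 ▸ Subgroup.card_dvd_of_le hT₀T
    exact Nat.dvd_antisymm h3 h4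
  have hTS' : T < (S : Subgroup G) := by
    refine lt_of_le_of_ne inf_le_left (fun heq => ?_)
    have : Nat.card T = Nat.card (S : Subgroup G) := by rw [heq]
    omega
  obtain ⟨g, hgS, hgN, hgT⟩ := exists_mem_normalizer_not_mem S.2 hTS'
  have hgnotN : g ∉ normalizer ((P : Subgroup G) : Set G) := fun hg => hgT ⟨hgS, hg⟩
  have hVT : V ≤ T := hVT₀.trans hT₀T
  -- V is normal in T
  have hVnT : T ≤ normalizer (V : Set G) := by
    have hidx : (V.subgroupOf T).index = 2 := by
      have h1 := Subgroup.card_mul_index (V.subgroupOf T)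
      have h2 : Nat.card (V.subgroupOf T) = 4 := by
        rw [Nat.card_congr (subgroupOfEquivOfLe hVT).toEquiv, hV4]
      rw [h2, hT8] at h1
      omega
    haveI := Subgroup.normal_of_index_eq_two hidx
    exact Subgroup.le_normalizer_of_normal_subgroupOf hVT
  have hPnV : (P : Subgroup G) ≤ normalizer (V : Set G) :=
    (Subgroup.le_centralizer_iff.mp hVC).trans (Subgroup.centralizer_le_normalizer _)
  have hNV : normalizer ((P : Subgroup G) : Set G) ≤ normalizer (V : Set G) :=
    normalizer_le_of_parts h P _ T hPnV hVnT inf_le_right hT8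
  have hVtop : normalizer (V : Set G) ≠ ⊤ :=
    normalizer_ne_top_of_simple V (by rw [hV4]; norm_num) (by rw [hV4, h]; norm_num)
  have hNVeq : normalizer (V : Set G) = normalizer ((P : Subgroup G) : Set G) :=
    eq_normalizer_of_le h P _ hNV hVtop
  -- the conjugate V' = V^g
  obtain ⟨V', hV'def⟩ : ∃ V' : Subgroup G, V' = V.map (MulAut.conj g).toMonoidHom := ⟨_, rfl⟩
  have hV'mem : ∀ y, y ∈ V' ↔ ∃ x ∈ V, g * x * g⁻¹ = y := by
    intro y
    rw [hV'def]
    constructor
    · rintro ⟨x, hx, rfl⟩
      exact ⟨x, hx, by simp [MulAut.conj_apply]⟩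
    · rintro ⟨x, hx, rfl⟩
      exact ⟨x, hx, by simp [MulAut.conj_apply]⟩
  have hV'T : V' ≤ T := by
    intro y hy
    obtain ⟨x, hx, rfl⟩ := (hV'mem y).mp hy
    exact (Subgroup.mem_normalizer_iff.mp hgN x).mp (hVT hx)
  have hV'4 : Nat.card V' = 4 := by
    rw [hV'def, Subgroup.card_map_of_injective (MulAut.conj g).injective, hV4]
  have hV'ne : V' ≠ V := by
    intro heq
    apply hgnotN
    rw [← hNVeq]
    apply mem_normalizer_of_conj_mem
    intro x hx
    rw [← heq]
    exact (hV'mem _).mpr ⟨x, hx, rfl⟩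
  have hVcomm : ∀ a b : V, a * b = b * a :=
    (IsPGroup.isMulCommutative_of_card_eq_prime_sq (p := 2) (by rw [hV4]; norm_num)).is_comm.comm
  -- V ⊔ V' = T
  have hsup : V ⊔ V' = T := by
    apply Subgroup.eq_of_le_of_card_ge (sup_le hVT hV'T)
    rw [hT8]
    have h4 : 4 ∣ Nat.card (V ⊔ V' : Subgroup G) := by
      have := Subgroup.card_dvd_of_le (le_sup_left : V ≤ V ⊔ V')
      rwa [hV4] at this
    have h8 : Nat.card (V ⊔ V' : Subgroup G) ∣ 8 := by
      have := Subgroup.card_dvd_of_le (sup_le hVT hV'T)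
      rwa [hT8] at this
    have hne4 : Nat.card (V ⊔ V' : Subgroup G) ≠ 4 := by
      intro h4'
      apply hV'ne
      have h1 : V = V ⊔ V' :=
        Subgroup.eq_of_le_of_card_ge le_sup_left (by rw [h4', hV4])
      have h2 : V' ≤ V := by
        have : V' ≤ V ⊔ V' := le_sup_right
        rwa [← h1] at this
      exact Subgroup.eq_of_le_of_card_ge h2 (by rw [hV4, hV'4])
    have hpos : 0 < Nat.card (V ⊔ V' : Subgroup G) := Nat.card_pos
    obtain ⟨k, hk⟩ := h4
    have hle := Nat.le_of_dvd (by norm_num) h8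
    omega
  have hne := inf_ne_bot_of_card_lt hVT hV'T (by rw [hV4, hV'4, hT8]; norm_num)
  obtain ⟨⟨w, hw⟩, hw1⟩ := Subgroup.ne_bot_iff_exists_ne_one.mp hne
  have hw1' : w ≠ 1 := fun h => hw1 (Subtype.ext h)
  obtain ⟨hwV, hwV'⟩ := hw
  obtain ⟨w₀, hw₀V, hw₀'⟩ := (hV'mem w).mp hwV'
  -- T centralizes w
  have hVM : V ≤ centralizer ({w} : Set G) := by
    intro x hx
    rw [Subgroup.mem_centralizer_singleton_iff]
    have := hVcomm ⟨x, hx⟩ ⟨w, hwV⟩
    exact congrArg Subtype.val this
  have hV'M : V' ≤ centralizer ({w} : Set G) := by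
    intro y hy
    obtain ⟨x, hx, rfl⟩ := (hV'mem y).mp hy
    rw [Subgroup.mem_centralizer_singleton_iff]
    have hc : x * w₀ = w₀ * x := congrArg Subtype.val (hVcomm ⟨x, hx⟩ ⟨w₀, hw₀V⟩)
    rw [← hw₀']
    calc g * x * g⁻¹ * (g * w₀ * g⁻¹) = g * (x * w₀) * g⁻¹ := by group
      _ = g * (w₀ * x) * g⁻¹ := by rw [hc]
      _ = g * w₀ * g⁻¹ * (g * x * g⁻¹) := by group
  have hTM : T ≤ centralizer ({w} : Set G) := by
    rw [← hsup]; exact sup_le hVM hV'M
  have hPM : (P : Subgroup G) ≤ centralizer ({w} : Set G) := by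
    intro x hx
    rw [Subgroup.mem_centralizer_singleton_iff]
    have := hVC hwV
    rw [Subgroup.mem_centralizer_iff] at this
    exact (this x hx)
  have hNM := normalizer_le_of_parts h P _ T hPM hTM inf_le_right hT8
  have hMtop : centralizer ({w} : Set G) ≠ ⊤ := centralizer_ne_top_of_simple hG hw1'
  have hMN := eq_normalizer_of_le h P _ hNM hMtop
  -- P^g ≤ C(w) = N(P)
  apply hgnotN
  apply mem_normalizer_of_conj_mem
  intro x hx
  have hxw₀ : x * w₀ = w₀ * x := by
    have := hVC hw₀V
    rw [Subgroup.mem_centralizer_iff] at this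
    exact this x hx
  have hmem : g * x * g⁻¹ ∈ centralizer ({w} : Set G) := by
    rw [Subgroup.mem_centralizer_singleton_iff, ← hw₀']
    calc g * x * g⁻¹ * (g * w₀ * g⁻¹) = g * (x * w₀) * g⁻¹ := by group
      _ = g * (w₀ * x) * g⁻¹ := by rw [hxw₀]
      _ = g * w₀ * g⁻¹ * (g * x * g⁻¹) := by group
  rw [hMN] at hmem
  refine mem_sylow_of_mem_normalizer_of_orderOf P hmem ?_
  have hord : orderOf (g * x * g⁻¹) = orderOf x := by
    have := (MulAut.conj g).orderOf_eq x
    simpa [MulAut.conj_apply] using this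
  rw [hord]
  have h1 : orderOf x ∣ 5 := by
    have := orderOf_dvd_natCard (⟨x, hx⟩ : (P : Subgroup G))
    rwa [hP, Subgroup.orderOf_mk] at this
  rcases (Nat.dvd_prime (by norm_num : Nat.Prime 5)).mp h1 with h2 | h2
  · exact ⟨0, by rw [h2]; norm_num⟩
  · exact ⟨1, by rw [h2]; norm_num⟩


/-- Case B: `|C(P)| = 10`. -/
theorem caseB (h : Nat.card G = 1440) [Fact (Nat.Prime 5)] [Fact (Nat.Prime 2)] (P : Sylow 5 G)
    (hC : Nat.card (centralizer ((P : Subgroup G) : Set G)) = 10) : False := by
  have hG : ¬ IsMulCommutative G := not_comm_of_simple_of_not_prime (by rw [h]; norm_num)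
  obtain ⟨hP, hN, -⟩ := local5 h P
  have hCN : centralizer ((P : Subgroup G) : Set G) ≤ normalizer ((P : Subgroup G) : Set G) :=
    Subgroup.centralizer_le_normalizer _
  -- the involution of C(P)
  obtain ⟨t', ht'⟩ := exists_prime_orderOf_dvd_card' (G := ↥(centralizer ((P : Subgroup G) : Set G)))
    2 (by rw [hC]; norm_num)
  obtain ⟨t, htdef⟩ : ∃ t : G, t = (t' : G) := ⟨_, rfl⟩
  have ht2 : orderOf t = 2 := by rw [htdef, Subgroup.orderOf_coe, ht']
  have htC : t ∈ centralizer ((P : Subgroup G) : Set G) := by rw [htdef]; exact t'.2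
  have htt : t * t = 1 := by
    have := pow_orderOf_eq_one t
    rwa [ht2, pow_two] at this
  have ht1 : t ≠ 1 := by
    rintro rfl
    rw [orderOf_one] at ht2
    omega
  -- P is abelian
  have hPC : (P : Subgroup G) ≤ centralizer ((P : Subgroup G) : Set G) := by
    haveI : IsCyclic (P : Subgroup G) := isCyclic_of_prime_card hP
    intro a ha
    rw [Subgroup.mem_centralizer_iff]
    intro b hb
    have := (IsCyclic.isMulCommutative (α := (P : Subgroup G))).is_comm.comm ⟨b, hb⟩ ⟨a, ha⟩
    exact congrArg Subtype.val this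
  have hnotP : ∀ c : G, orderOf c = 2 → c ∉ (P : Subgroup G) := by
    intro c hc hcP
    have := orderOf_dvd_natCard (⟨c, hcP⟩ : (P : Subgroup G))
    rw [hP, Subgroup.orderOf_mk, hc] at this
    omega
  -- uniqueness of the involution
  have huniq : ∀ c ∈ centralizer ((P : Subgroup G) : Set G), orderOf c = 2 → c = t := by
    intro c hcC hc2
    have hcc : c * c = 1 := by
      have := pow_orderOf_eq_one c
      rwa [hc2, pow_two] at this
    have hidx : ((P : Subgroup G).subgroupOf (centralizer ((P : Subgroup G) : Set G))).index = 2 := by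
      have h1 := Subgroup.card_mul_index
        ((P : Subgroup G).subgroupOf (centralizer ((P : Subgroup G) : Set G)))
      have h2 : Nat.card ((P : Subgroup G).subgroupOf (centralizer ((P : Subgroup G) : Set G))) = 5 := by
        rw [Nat.card_congr (subgroupOfEquivOfLe hPC).toEquiv, hP]
      rw [h2, hC] at h1
      omega
    have hmem := Subgroup.mul_mem_iff_of_index_two hidx
      (a := (⟨c, hcC⟩ : ↥(centralizer ((P : Subgroup G) : Set G))))
      (b := (⟨t, htC⟩ : ↥(centralizer ((P : Subgroup G) : Set G))))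
    have hyP : c * t ∈ (P : Subgroup G) := by
      have : (⟨c, hcC⟩ : ↥(centralizer ((P : Subgroup G) : Set G))) * ⟨t, htC⟩ ∈
          (P : Subgroup G).subgroupOf (centralizer ((P : Subgroup G) : Set G)) := by
        rw [hmem]
        constructor
        · intro hx
          exact absurd (Subgroup.mem_subgroupOf.mp hx) (hnotP c hc2)
        · intro hx
          exact absurd (Subgroup.mem_subgroupOf.mp hx) (hnotP t ht2)
      exact Subgroup.mem_subgroupOf.mp this
    have hcomm : c * t * t = t * (c * t) := (Subgroup.mem_centralizer_iff.mp htC) _ hyP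
    have hyy : (c * t) * (c * t) = 1 := by
      calc (c * t) * (c * t) = c * (t * (c * t)) := by group
        _ = c * (c * t * t) := by rw [hcomm]
        _ = (c * c) * (t * t) := by group
        _ = 1 := by rw [hcc, htt, one_mul]
    have hy5 : (c * t) ^ 5 = 1 := by
      have := pow_card_eq_one' (G := (P : Subgroup G)) (x := ⟨c * t, hyP⟩)
      rw [hP] at this
      exact congrArg Subtype.val this
    have hy1 : c * t = 1 := by
      have : (c * t) ^ 5 = (c * t) * ((c * t) * (c * t)) * ((c * t) * (c * t)) := by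
        rw [pow_succ, pow_succ, pow_succ, pow_succ, pow_one]
        simp only [mul_assoc]
      rw [this, hyy, mul_one, mul_one] at hy5
      exact hy5
    calc c = c * (t * t) := by rw [htt, mul_one]
      _ = (c * t) * t := by group
      _ = t := by rw [hy1, one_mul]
  -- N(P) centralizes t
  have hNt : normalizer ((P : Subgroup G) : Set G) ≤ centralizer ({t} : Set G) := by
    intro n hn
    rw [Subgroup.mem_centralizer_singleton_iff]
    have hmemC : n * t * n⁻¹ ∈ centralizer ((P : Subgroup G) : Set G) := by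
      rw [Subgroup.mem_centralizer_iff]
      intro x hx
      have hx' : n⁻¹ * x * n ∈ (P : Subgroup G) := (Subgroup.mem_normalizer_iff''.mp hn x).mp hx
      have hc := (Subgroup.mem_centralizer_iff.mp htC) _ hx'
      calc x * (n * t * n⁻¹) = n * (n⁻¹ * x * n * t) * n⁻¹ := by group
        _ = n * (t * (n⁻¹ * x * n)) * n⁻¹ := by rw [hc]
        _ = n * t * n⁻¹ * x := by group
    have hord : orderOf (n * t * n⁻¹) = 2 := by
      have := (MulAut.conj n).orderOf_eq t
      rw [MulAut.conj_apply] at this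
      rw [this, ht2]
    have := huniq _ hmemC hord
    calc n * t = n * t * n⁻¹ * n := by group
      _ = t * n := by rw [this]
  have hMtop : centralizer ({t} : Set G) ≠ ⊤ := centralizer_ne_top_of_simple hG ht1
  have hCt := eq_normalizer_of_le h P _ hNt hMtop
  obtain ⟨F, m, hF1, hF2, hF3⟩ := parity_count (by rw [h]; norm_num) P hP t ht2 htC huniq hCt
  have hidx : (normalizer ((P : Subgroup G) : Set G)).index = 36 := by
    have := Subgroup.card_mul_index (normalizer ((P : Subgroup G) : Set G))
    rw [hN, h] at this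
    omega
  rw [hC] at hF2
  rw [hidx] at hF3
  unfold Nat.ModEq at hF1
  omega

/-- No finite simple group has order 1440 = 2^5 * 3^2 * 5. -/
theorem result {G : Type*} [Group G] [Finite G] [IsSimpleGroup G] : Nat.card G ≠ 1440 := by
  intro h
  haveI : Fact (Nat.Prime 5) := ⟨by norm_num⟩
  haveI : Fact (Nat.Prime 2) := ⟨by norm_num⟩
  obtain ⟨P⟩ : Nonempty (Sylow 5 G) := inferInstance
  obtain ⟨-, -, hC | hC⟩ := local5 h P
  · exact caseA h P hC
  · exact caseB h P hC

end Cfsg.Agent.S1016
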