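import Mathlib
import Cfsg.Statements.S1017
import Cfsg.Agent.Helper17.VTrick

set_option autoImplicit false
open Cfsg

namespace Cfsg.Agent.S1017

open Cfsg.Agent.Helper17 Subgroup

theorem key_n7 : ∀ n ∈ Nat.divisors 288, n % 7 = 1 → n ≠ 1 → n = 8 ∨ n = 36 ∨ n = 288 := by
  decide

theorem key_n72 : ∀ n ∈ Nat.divisors 72, n % 7 = 1 → n = 1 ∨ n = 8 ∨ n = 36 := by decide

variable {G : Type*} [Group G] [Finite G] [IsSimpleGroup G]

/-- The 7-local structure: `n_7 = 36`, `|N(P)| = 56`, `|C(P)| = 28`. -/
theorem local7 (h : Nat.card G = 2016) [Fact (Nat.Prime 7)] (P : Sylow 7 G) :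
    Nat.card (P : Subgroup G) = 7 ∧
    Nat.card (normalizer ((P : Subgroup G) : Set G)) = 56 ∧
    Nat.card (centralizer ((P : Subgroup G) : Set G)) = 28 := by
  have hG : ¬ IsMulCommutative G := not_comm_of_simple_of_not_prime (by rw [h]; norm_num)
  have hG7 : Nat.card G = 7 ^ 1 * 288 := by rw [h]; norm_num
  have h7 : ¬ 7 ∣ 288 := by norm_num
  have hP : Nat.card (P : Subgroup G) = 7 := by
    have := card_sylow_subgroup_of_card_eq hG7 h7 P
    simpa using this
  have hn1 : Nat.card (Sylow 7 G) ∣ 288 := card_sylow_dvd_of_card_eq hG7 h7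
  have hn2 : Nat.card (Sylow 7 G) ≡ 1 [MOD 7] := card_sylow_modEq_one 7 G
  have hn3 : Nat.card (Sylow 7 G) ≠ 1 :=
    card_sylow_ne_one_of_simple hG7 h7 (by norm_num) (by norm_num)
  have hNn := card_normalizer_mul_card_sylow P
  rw [h] at hNn
  obtain ⟨hd1, hd2⟩ := relIndex_dvd_of_card_sylow_prime P hP
  have hcm := card_centralizer_mul_relIndex (P : Subgroup G)
  have h0 : (centralizer ((P : Subgroup G) : Set G)).relIndex
    (normalizer ((P : Subgroup G) : Set G)) ≠ 0 := Subgroup.index_ne_zero_of_finite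
  have hne : ¬ (normalizer ((P : Subgroup G) : Set G) ≤ centralizer ((P : Subgroup G) : Set G)) :=
    not_normalizer_le_centralizer_of_simple P (by rw [hP]; norm_num) (by rw [hP, h]; norm_num)
  have h1' : (centralizer ((P : Subgroup G) : Set G)).relIndex
    (normalizer ((P : Subgroup G) : Set G)) ≠ 1 := fun h => hne (Subgroup.relIndex_eq_one.mp h)
  generalize (centralizer ((P : Subgroup G) : Set G)).relIndex
    (normalizer ((P : Subgroup G) : Set G)) = d at hd1 hd2 hcm h0 h1'
  have hd6 : d ≤ 6 := Nat.le_of_dvd (by norm_num) hd1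
  rcases key_n7 _ (Nat.mem_divisors.mpr ⟨hn1, by norm_num⟩) hn2 hn3 with h8 | h36 | h288
  · -- n_7 = 8: Lemma N
    exfalso
    rw [h8] at hNn
    have hN : Nat.card (normalizer ((P : Subgroup G) : Set G)) = 252 := by omega
    have hidx : (normalizer ((P : Subgroup G) : Set G)).index = 7 + 1 := by
      have := Sylow.card_eq_index_normalizer P
      rw [h8] at this
      exact this.symm
    have hne_top : normalizer ((P : Subgroup G) : Set G) ≠ ⊤ := by
      intro ht
      rw [ht, Subgroup.index_top] at hidx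
      omega
    have := two_mul_card_normalizer_dvd_of_index hG _ hne_top 7 (Or.inr hidx)
      (by rw [h]; norm_num) P
    rw [hN] at this
    norm_num at this
  · rw [h36] at hNn
    have hN : Nat.card (normalizer ((P : Subgroup G) : Set G)) = 56 := by omega
    refine ⟨hP, hN, ?_⟩
    rw [hN] at hd2 hcm
    have hd8 : d ∣ 8 := by
      have : 7 * d ∣ 7 * 8 := hd2
      exact (Nat.mul_dvd_mul_iff_left (by norm_num)).mp this
    have hd2' : d = 2 := by
      have h2 : d ∣ Nat.gcd 8 6 := Nat.dvd_gcd hd8 hd1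
      have h3 : d ≤ 2 := Nat.le_of_dvd (by norm_num) h2
      omega
    rw [hd2'] at hcm
    omega
  · exfalso
    rw [h288] at hNn
    have hN : Nat.card (normalizer ((P : Subgroup G) : Set G)) = 7 := by omega
    rw [hN] at hd2
    have : 7 * d ∣ 7 * 1 := hd2
    have := (Nat.mul_dvd_mul_iff_left (by norm_num : 0 < 7)).mp this
    have := Nat.le_of_dvd (by norm_num) this
    omega


/-- Non-identity elements of a four-subgroup of `C(P)` have their centralizers inside `N(P)`. -/
theorem cent_le (h : Nat.card G = 2016) [Fact (Nat.Prime 7)] (P : Sylow 7 G)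
    (V : Subgroup G) (hV4 : Nat.card V = 4)
    (hVC : V ≤ centralizer ((P : Subgroup G) : Set G)) {w : G} (hwV : w ∈ V) (hw1 : w ≠ 1) :
    centralizer ({w} : Set G) ≤ normalizer ((P : Subgroup G) : Set G) := by
  have hG : ¬ IsMulCommutative G := not_comm_of_simple_of_not_prime (by rw [h]; norm_num)
  obtain ⟨hP, hN, hC⟩ := local7 h P
  have hCN : centralizer ((P : Subgroup G) : Set G) ≤ normalizer ((P : Subgroup G) : Set G) :=
    Subgroup.centralizer_le_normalizer _
  have hM : centralizer ({w} : Set G) ≠ ⊤ := centralizer_ne_top_of_simple hG hw1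
  have hPM : (P : Subgroup G) ≤ centralizer ({w} : Set G) := by
    intro x hx
    rw [Subgroup.mem_centralizer_singleton_iff]
    have := hVC hwV
    rw [Subgroup.mem_centralizer_iff] at this
    exact (this x hx)
  have hVcomm : ∀ a b : V, a * b = b * a :=
    (IsPGroup.isMulCommutative_of_card_eq_prime_sq (p := 2) (by rw [hV4]; norm_num)).is_comm.comm
  have hVM : V ≤ centralizer ({w} : Set G) := by
    intro x hx
    rw [Subgroup.mem_centralizer_singleton_iff]
    have := hVcomm ⟨x, hx⟩ ⟨w, hwV⟩
    exact congrArg Subtype.val this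
  have hcount := card_sylow_of_le P _ hPM
  have hmod : Nat.card (Sylow 7 ↥(centralizer ({w} : Set G))) ≡ 1 [MOD 7] :=
    card_sylow_modEq_one 7 _
  have ha7 : 7 ∣ Nat.card (centralizer ({w} : Set G) ⊓ normalizer ((P : Subgroup G) : Set G) :
      Subgroup G) := by
    have := Subgroup.card_dvd_of_le (le_inf hPM
      (Subgroup.le_normalizer : (P : Subgroup G) ≤ normalizer ((P : Subgroup G) : Set G)))
    rwa [hP] at this
  have ha4 : 4 ∣ Nat.card (centralizer ({w} : Set G) ⊓ normalizer ((P : Subgroup G) : Set G) :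
      Subgroup G) := by
    have := Subgroup.card_dvd_of_le (le_inf hVM (hVC.trans hCN))
    rwa [hV4] at this
  have ha56 : Nat.card (centralizer ({w} : Set G) ⊓ normalizer ((P : Subgroup G) : Set G) :
      Subgroup G) ∣ 56 := by
    have := Subgroup.card_dvd_of_le (inf_le_right :
      centralizer ({w} : Set G) ⊓ normalizer ((P : Subgroup G) : Set G)
        ≤ normalizer ((P : Subgroup G) : Set G))
    rwa [hN] at this
  have hMdvd : Nat.card (centralizer ({w} : Set G)) ∣ 2016 := by
    have := Subgroup.card_subgroup_dvd_card (centralizer ({w} : Set G))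
    rwa [h] at this
  have hidx := Subgroup.card_mul_index (centralizer ({w} : Set G))
  rw [h] at hidx
  generalize ha : Nat.card (centralizer ({w} : Set G) ⊓ normalizer ((P : Subgroup G) : Set G) :
      Subgroup G) = a at hcount ha7 ha4 ha56
  generalize hn : Nat.card (Sylow 7 ↥(centralizer ({w} : Set G))) = n at hcount hmod
  have ha28 : 28 ∣ a := Nat.Coprime.mul_dvd_of_dvd_of_dvd (by norm_num : Nat.Coprime 7 4) ha7 ha4
  have ha_cases : a = 28 ∨ a = 56 := by
    obtain ⟨k, hk⟩ := ha28
    have hapos : 0 < a := Nat.pos_of_dvd_of_pos ha56 (by norm_num)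
    have hale : a ≤ 56 := Nat.le_of_dvd (by norm_num) ha56
    have : k = 1 ∨ k = 2 := by omega
    rcases this with rfl | rfl <;> omega
  have hn72 : n ∣ 72 := by
    have h1 : n * 28 ∣ 2016 := by
      refine Dvd.dvd.trans ?_ hMdvd
      rw [← hcount]
      exact Nat.mul_dvd_mul_left n ha28
    have : n * 28 ∣ 72 * 28 := h1
    exact (Nat.mul_dvd_mul_iff_right (by norm_num)).mp this
  rcases key_n72 n (Nat.mem_divisors.mpr ⟨hn72, by norm_num⟩) hmod with rfl | rfl | rfl
  · -- normal Sylow
    rw [one_mul] at hcount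
    have : centralizer ({w} : Set G) ⊓ normalizer ((P : Subgroup G) : Set G)
        = centralizer ({w} : Set G) :=
      Subgroup.eq_of_le_of_card_ge inf_le_left (by rw [ha, hcount])
    exact inf_eq_left.mp this
  · exfalso
    rcases ha_cases with rfl | rfl
    · -- order 224, index 9
      have hidx9 : (centralizer ({w} : Set G)).index = 9 := by
        rw [← hcount] at hidx
        omega
      have := two_mul_card_normalizer_dvd_of_index' hG _ hM 7 (by rw [hidx9]; norm_num)
        (by rw [hidx9]; norm_num) (by rw [h]; norm_num) P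
      rw [hN, hidx9] at this
      norm_num [Nat.factorial] at this
    · rw [← hcount] at hMdvd
      norm_num at hMdvd
  · exfalso
    have hidx2 : (centralizer ({w} : Set G)).index ≤ 2 := by
      rw [← hcount] at hidx
      rcases ha_cases with rfl | rfl <;> nlinarith
    have := two_mul_card_dvd_factorial_of_index_le hG _ hM hidx2
    rw [h] at this
    norm_num [Nat.factorial] at this

/-- No finite simple group has order 2016 = 2^5 * 3^2 * 7. -/
theorem result {G : Type*} [Group G] [Finite G] [IsSimpleGroup G] : Nat.card G ≠ 2016 := by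
  intro h
  haveI : Fact (Nat.Prime 7) := ⟨by norm_num⟩
  haveI : Fact (Nat.Prime 2) := ⟨by norm_num⟩
  obtain ⟨P⟩ : Nonempty (Sylow 7 G) := inferInstance
  obtain ⟨hP, hN, hC⟩ := local7 h P
  have hCN : centralizer ((P : Subgroup G) : Set G) ≤ normalizer ((P : Subgroup G) : Set G) :=
    Subgroup.centralizer_le_normalizer _
  -- the Sylow 2-subgroup of C(P)
  obtain ⟨V₁⟩ : Nonempty (Sylow 2 ↥(centralizer ((P : Subgroup G) : Set G))) := inferInstance
  have hV₁ : Nat.card (V₁ : Subgroup ↥(centralizer ((P : Subgroup G) : Set G))) = 4 := by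
    have := card_sylow_subgroup_of_card_eq (G := ↥(centralizer ((P : Subgroup G) : Set G)))
      (p := 2) (k := 2) (m := 7) (by rw [hC]; norm_num) (by norm_num) V₁
    simpa using this
  set V : Subgroup G := (V₁ : Subgroup ↥(centralizer ((P : Subgroup G) : Set G))).map
    (centralizer ((P : Subgroup G) : Set G)).subtype with hVdef
  have hV4 : Nat.card V = 4 := by
    rw [hVdef, Subgroup.card_map_of_injective (Subgroup.subtype_injective _), hV₁]
  have hVC : V ≤ centralizer ((P : Subgroup G) : Set G) := by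
    rw [hVdef]
    rintro _ ⟨x, -, rfl⟩
    exact x.2
  obtain ⟨S, hVS⟩ := (IsPGroup.of_card (p := 2) (n := 2) (by rw [hV4]; norm_num) :
    IsPGroup 2 V).exists_le_sylow
  have hS : Nat.card (S : Subgroup G) = 32 := by
    have := card_sylow_subgroup_of_card_eq (p := 2) (k := 5) (m := 63) (by rw [h]; norm_num) (by norm_num) S
    simpa using this
  set T : Subgroup G := (S : Subgroup G) ⊓ normalizer ((P : Subgroup G) : Set G) with hTdef
  have hVT : V ≤ T := le_inf hVS (hVC.trans hCN)
  have hT8 : Nat.card T ∣ 8 := by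
    have h1 : Nat.card T ∣ 32 := hS ▸ Subgroup.card_dvd_of_le inf_le_left
    have h2 : Nat.card T ∣ 56 := hN ▸ Subgroup.card_dvd_of_le inf_le_right
    exact Nat.dvd_gcd h1 h2
  have hTle : Nat.card T ≤ 8 := Nat.le_of_dvd (by norm_num) hT8
  have hTS : T < (S : Subgroup G) := by
    refine lt_of_le_of_ne inf_le_left (fun heq => ?_)
    have : Nat.card T = Nat.card (S : Subgroup G) := by rw [heq]
    omega
  obtain ⟨g, hgS, hgN, hgT⟩ := exists_mem_normalizer_not_mem S.2 hTS
  have hV'T : V.map (MulAut.conj g).toMonoidHom ≤ T := by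
    rintro _ ⟨x, hx, rfl⟩
    have := (Subgroup.mem_normalizer_iff.mp hgN x).mp (hVT hx)
    simpa [MulAut.conj_apply] using this
  have hV'4 : Nat.card (V.map (MulAut.conj g).toMonoidHom) = 4 := by
    rw [Subgroup.card_map_of_injective (MulAut.conj g).injective, hV4]
  have hne := inf_ne_bot_of_card_lt hVT hV'T (by rw [hV4, hV'4]; omega)
  obtain ⟨⟨v, hv⟩, hv1⟩ := Subgroup.ne_bot_iff_exists_ne_one.mp hne
  have hv1' : v ≠ 1 := fun h => hv1 (Subtype.ext h)
  obtain ⟨hvV, w, hwV, hwv⟩ := hv
  have hwv' : g * w * g⁻¹ = v := by simpa [MulAut.conj_apply] using hwv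
  have hw1 : w ≠ 1 := by
    rintro rfl
    apply hv1'
    rw [← hwv']; group
  have hcw := cent_le h P V hV4 hVC hwV hw1
  -- g⁻¹ normalizes P
  have hgP : g⁻¹ ∈ normalizer ((P : Subgroup G) : Set G) := by
    apply mem_normalizer_of_conj_mem
    intro x hx
    have hxv : x * v = v * x := by
      have := hVC hvV
      rw [Subgroup.mem_centralizer_iff] at this
      exact this x hx
    have hmem : g⁻¹ * x * g⁻¹⁻¹ ∈ centralizer ({w} : Set G) := by
      rw [Subgroup.mem_centralizer_singleton_iff]
      have hw' : w = g⁻¹ * v * g := by rw [← hwv']; group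
      rw [hw']
      calc g⁻¹ * x * g⁻¹⁻¹ * (g⁻¹ * v * g) = g⁻¹ * (x * v) * g := by group
        _ = g⁻¹ * (v * x) * g := by rw [hxv]
        _ = g⁻¹ * v * g * (g⁻¹ * x * g⁻¹⁻¹) := by group
    refine mem_sylow_of_mem_normalizer_of_orderOf P (hcw hmem) ?_
    have hord : orderOf (g⁻¹ * x * g⁻¹⁻¹) = orderOf x := by
      have := (MulAut.conj g⁻¹).orderOf_eq x
      simpa [MulAut.conj_apply] using this
    rw [hord]
    have h1 : orderOf x ∣ 7 := by
      have := orderOf_dvd_natCard (⟨x, hx⟩ : (P : Subgroup G))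
      rwa [hP, Subgroup.orderOf_mk] at this
    rcases (Nat.dvd_prime (by norm_num : Nat.Prime 7)).mp h1 with h2 | h2
    · exact ⟨0, by rw [h2]; norm_num⟩
    · exact ⟨1, by rw [h2]; norm_num⟩
  have hgP' : g ∈ normalizer ((P : Subgroup G) : Set G) := by
    have := Subgroup.inv_mem _ hgP
    simpa using this
  exact hgT ⟨hgS, hgP'⟩

end Cfsg.Agent.S1017
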