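import Cfsg.Statements.S1022
import Cfsg.Agent.S4441
import Cfsg.Agent.Helper17.O459Main

set_option autoImplicit false
open Cfsg

namespace Cfsg.Agent.S1022

/-- No finite simple group has order 459648 = 2^7 * 3^3 * 7 * 19. -/
theorem result {G : Type*} [Group G] [Finite G] [IsSimpleGroup G] : Nat.card G ≠ 459648 := by
  have : Fintype G := Fintype.ofFinite G
  have : Fact (Nat.Prime 19) := ⟨by norm_num⟩
  refine Cfsg.Agent.Helper17.O459.main (fun M hM P hP e he => ?_)
  obtain ⟨X, Y, h1, h2, h3, h4, εX, ε, h5, h6, h7, h8, h9⟩ :=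
    Cfsg.Agent.S4441.result 19 M hM (by norm_num) P hP e he
  exact ⟨X, Y, εX, ε, h1, h2, h3, h4, h5, h6, h7, h8, h9⟩

end Cfsg.Agent.S1022
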