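import Cfsg.Statements.S1108
import Cfsg.Agent.Helper36.TwistD4
import Cfsg.Agent.Helper36.FrobHom
import Cfsg.Agent.S1025
import Cfsg.Agent.S1031
import Cfsg.Agent.S1032

set_option autoImplicit false
open Cfsg

namespace Cfsg.Agent.S1108

open Cfsg.Lie Cfsg.Agent.Helper40.ChevAdd Cfsg.Agent.Helper36 Cfsg.Agent.Helper36.Perfect
  Cfsg.Agent.Helper36.ChevSimple Cfsg.Agent.Helper36.Twist Cfsg.Agent.Helper36.TwistD4

theorem gens_eq {K : Type*} [Field K] (q : ℕ) (φ : K →+* K) (hφ : ∀ x, φ x = x ^ q) :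
    {g : GL chevD4.Idx K | ∃ w ∈ d4Words K q, (g : Matrix chevD4.Idx chevD4.Idx K) = chevD4.wordMat K w}
      = gens φ := by
  have hφ2 : ∀ t : K, (t ^ q) ^ q = t ^ (q ^ 2) := by
    intro t
    rw [← pow_mul, pow_two]
  ext g
  constructor
  · rintro ⟨w, hw, hg⟩
    rcases hw with ⟨t, ht, r, hr, rfl⟩ | ⟨t, rs, hrs, rfl⟩
    · left
      refine ⟨t, by rw [hφ]; exact ht, ?_⟩
      simp only [d4p2, d4m2, List.mem_cons, List.not_mem_nil, or_false] at hr
      rcases hr with rfl | rfl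
      · left
        apply Units.ext
        rw [hg]
        simp [ChevalleyDatum.wordMat]
      · right
        apply Units.ext
        rw [hg]
        simp [ChevalleyDatum.wordMat]
    · right
      refine ⟨t, ?_⟩
      simp only [d4p1, d4p3, d4p4, d4m1, d4m3, d4m4, List.mem_cons, List.not_mem_nil, or_false] at hrs
      rcases hrs with rfl | rfl
      · left
        apply Units.ext
        rw [hg]
        simp [ChevalleyDatum.wordMat, Yp, hφ2, hφ, mul_assoc]
      · right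
        apply Units.ext
        rw [hg]
        simp [ChevalleyDatum.wordMat, Ym, hφ2, hφ, mul_assoc]
  · rintro (⟨t, ht, rfl | rfl⟩ | ⟨t, rfl | rfl⟩)
    · refine ⟨[(14, t)], Or.inl ⟨t, by rw [← hφ]; exact ht, 14, by simp [d4p2], rfl⟩, ?_⟩
      simp [ChevalleyDatum.wordMat]
    · refine ⟨[(9, t)], Or.inl ⟨t, by rw [← hφ]; exact ht, 9, by simp [d4m2], rfl⟩, ?_⟩
      simp [ChevalleyDatum.wordMat]
    · refine ⟨[(18, t), (13, t ^ q), (12, t ^ (q ^ 2))],
        Or.inr ⟨t, (d4p1, d4p3, d4p4), by simp, rfl⟩, ?_⟩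
      simp [ChevalleyDatum.wordMat, Yp, hφ2, hφ, mul_assoc]
    · refine ⟨[(5, t), (10, t ^ q), (11, t ^ (q ^ 2))],
        Or.inr ⟨t, (d4m1, d4m3, d4m4), by simp, rfl⟩, ?_⟩
      simp [ChevalleyDatum.wordMat, Ym, hφ2, hφ, mul_assoc]

/-- ³D₄(q) equals its derived subgroup. -/
theorem result {K : Type*} [Field K] [Fintype K] {q : ℕ} (hq : IsPrimePow q) (hK : Fintype.card K = q ^ 3) : commutator ↥(Cfsg.Lie.twistedD4 K q) = ⊤ := by
  obtain ⟨φ, hφ⟩ := exists_frobHom hq (by norm_num) hK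
  have hD : chevD4 ∈ [chevG2, chevB2, chevD4, chevF4, chevE6, chevE7, chevE8] := by simp
  have hcomm : CommHyp K chevD4 := fun r s hr hs hsr hsn t u =>
    Cfsg.Agent.S1025.result chevD4 hD r s hr hs hsr hsn t u
  have htor : TorHyp K chevD4 := fun i s hi hs c hc t =>
    Cfsg.Agent.S1032.result chevD4 hD i s hi hs c hc t
  have hn : NConjHyp K chevD4 := fun i s hi hs => Cfsg.Agent.S1031.result chevD4 hD i s hi hs
  have hl : ∃ l : K, l ≠ 0 ∧ l ^ 2 ≠ 1 := by
    apply exists_sq_ne_one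
    rw [hK]
    have h2 : 2 ≤ q := hq.two_le
    calc 3 < 2 ^ 3 := by norm_num
      _ ≤ q ^ 3 := Nat.pow_le_pow_left h2 3
  have e : twistedD4 K q = G₁ φ := by
    unfold twistedD4 ChevalleyDatum.genSubgroup G₁
    rw [gens_eq q φ hφ]
  rw [e]
  exact TwistD4.perfect φ hcomm htor hn hl

end Cfsg.Agent.S1108
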