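import Cfsg.Statements.S1109
import Cfsg.Agent.Helper36.TwistCoreD4
import Cfsg.Agent.S1108

set_option autoImplicit false
open Cfsg

namespace Cfsg.Agent.S1109

open Cfsg.Lie Cfsg.Agent.Helper40.ChevAdd Cfsg.Agent.Helper36 Cfsg.Agent.Helper36.Perfect
  Cfsg.Agent.Helper36.ChevSimple Cfsg.Agent.Helper36.Twist Cfsg.Agent.Helper36.TwistD4

/-- The normal core of `B¹ = G¹ ∩ B` in ³D₄(q) is trivial. -/
theorem result {K : Type*} [Field K] [Fintype K] {q : ℕ} (hq : IsPrimePow q) (hK : Fintype.card K = q ^ 3) :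
    ((Cfsg.Lie.chevD4.borelSubgroup K ⊓ Cfsg.Lie.twistedD4 K q).subgroupOf (Cfsg.Lie.twistedD4 K q)).normalCore = ⊥ := by
  obtain ⟨φ, hφ⟩ := exists_frobHom hq (by norm_num) hK
  have hD : chevD4 ∈ [chevG2, chevB2, chevD4, chevF4, chevE6, chevE7, chevE8] := by simp
  have hcomm : CommHyp K chevD4 := fun r s hr hs hsr hsn t u =>
    Cfsg.Agent.S1025.result chevD4 hD r s hr hs hsr hsn t u
  have htor : TorHyp K chevD4 := fun i s hi hs c hc t =>
    Cfsg.Agent.S1032.result chevD4 hD i s hi hs c hc t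
  have hn : NConjHyp K chevD4 := fun i s hi hs => Cfsg.Agent.S1031.result chevD4 hD i s hi hs
  have hl : ∃ l : K, l ≠ 0 ∧ l ^ 2 ≠ 1 := by
    apply exists_sq_ne_one
    rw [hK]
    have h2 : 2 ≤ q := hq.two_le
    calc 3 < 2 ^ 3 := by norm_num
      _ ≤ q ^ 3 := Nat.pow_le_pow_left h2 3
  have e : twistedD4 K q = G₁ φ := by
    unfold twistedD4 ChevalleyDatum.genSubgroup G₁
    rw [Cfsg.Agent.S1108.gens_eq q φ hφ]
  rw [e]
  exact TwistD4.core_trivial φ hcomm htor hn hl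

end Cfsg.Agent.S1109
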