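import Cfsg.Statements.S1071
import Cfsg.Agent.Helper19.Twist.SimpleInst
import Cfsg.Agent.Helper18.BNPairChev
import Cfsg.Agent.Helper18.UpStruct
import Cfsg.Agent.S1025
import Cfsg.Agent.S1031
import Cfsg.Agent.S1038
import Cfsg.Agent.S1050
import Cfsg.Agent.S1108
import Cfsg.Agent.S1109

set_option autoImplicit false
open Cfsg

namespace Cfsg.Agent.S1071

/-- ³D₄(q) is simple for every `q`. -/
theorem result {K : Type*} [Field K] [Fintype K] {q : ℕ} (hq : IsPrimePow q) (hK : Fintype.card K = q ^ 3) :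
    IsSimpleGroup ↥(Cfsg.Lie.twistedD4 K q) ∧ ¬ IsMulCommutative ↥(Cfsg.Lie.twistedD4 K q) := by
  open Cfsg.Lie Cfsg.Agent.Helper18 Cfsg.Agent.Helper19.Twist Cfsg.Agent.S1081 Cfsg.Agent.Helper19.Cox
    Cfsg.Agent.Helper19.Poinc in
  obtain ⟨f, hf⟩ := exists_frob hq hK
  have h25 : CommHyp chevD4 K :=
    fun r s hr hs h1 h2 t u => Cfsg.Agent.S1025.result chevD4 memD4 r s hr hs h1 h2 t u
  have h31 : NConjHyp chevD4 K := fun i s hi hs => Cfsg.Agent.S1031.result chevD4 memD4 i s hi hs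
  have hn : (HN chevD4 K).Normal := Cfsg.Agent.S1038.result chevD4 memD4
  have h42 : H42 chevD4 K := exists_bnPair (F := K) chevD4 memD4 h25
  have h45 : H45 chevD4 K := fun i hi =>
    ⟨rootSubgroup_le_normalizer_Up chevD4 memD4 h25 i hi, Up_sup_rootSubgroup chevD4 memD4 i hi⟩
  exact simple_D4 f hf h31 hq.two_le hK h42 h45 h25 (Cfsg.Agent.S1050.result chevD4 memD4)
    (Cfsg.Agent.S1108.result hq hK) (Cfsg.Agent.S1109.result hq hK)

end Cfsg.Agent.S1071
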