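import Cfsg.Statements.S1084
import Cfsg.Agent.S1077
import Cfsg.Agent.S1054
import Cfsg.Agent.Helper83.E6CTorus

set_option autoImplicit false
open Cfsg

namespace Cfsg.Agent.S1084

open Cfsg.Lie Cfsg.Agent.Helper83.E6C Matrix

/-- two root elements of the isometry group of the cubic form which do not commute -/
theorem noncomm (F : Type*) [Field F] :
    x27GL F 0 1 * x27GL F (chevE6.neg 0) 1 ≠ x27GL F (chevE6.neg 0) 1 * x27GL F 0 1 := by
  intro h
  have h1 := congrArg (fun u : GL I27 F => (u : Matrix I27 I27 F)) h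
  simp only [Units.val_mul, x27GL_val] at h1
  unfold x27 xr at h1
  simp only [one_smul] at h1
  have h2 : Emat F 0 * Emat F (chevE6.neg 0) = Emat F (chevE6.neg 0) * Emat F 0 := by
    calc Emat F 0 * Emat F (chevE6.neg 0)
        = (1 + Emat F 0) * (1 + Emat F (chevE6.neg 0)) - 1 - Emat F 0 - Emat F (chevE6.neg 0) := by
          noncomm_ring
      _ = (1 + Emat F (chevE6.neg 0)) * (1 + Emat F 0) - 1 - Emat F 0 - Emat F (chevE6.neg 0) := by rw [h1]
      _ = Emat F (chevE6.neg 0) * Emat F 0 := by noncomm_ring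
  have hq := Emat_proj F (chevE6.neg 0) (neg_lt 0 (by norm_num))
  rw [neg_neg' 0 (by norm_num)] at hq
  rw [Emat_proj F 0 (by norm_num), hq] at h2
  have h3 := congrFun (congrFun h2 ((0, 0, 0) : I27)) ((0, 0, 0) : I27)
  rw [Matrix.diagonal_apply_eq, Matrix.diagonal_apply_eq] at h3
  have e1 : upper 0 ((0, 0, 0) : I27) = true := by decide +kernel
  have e2 : upper (chevE6.neg 0) ((0, 0, 0) : I27) = false := by decide +kernel
  rw [e1, e2] at h3
  simp at h3

/-- E₆ via the 27-dimensional cubic form: for a finite field with at least three elements, (isometries of the cubic form) / centre ≅ the Chevalley group E₆(F). -/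
theorem result {F : Type*} [Field F] [Fintype F] (hF : 3 ≤ Fintype.card F) : Nonempty (Cfsg.Lie.E6 F ≃* ↥(Cfsg.Lie.chevE6.group F)) := by
  classical
  have hF' := exists_ne_zero_one hF
  obtain ⟨θ, hθs, hθk, -⟩ := Cfsg.Agent.S1077.result (K := F) chevE6 (by simp)
  obtain ⟨hsimple, -⟩ := Cfsg.Agent.S1054.result (F := F) chevE6 (by simp)
  have hmem : ∀ x, psi0 F x ∈ E6univ F := fun x => G0_le F (by rw [← range_psi0]; exact ⟨x, rfl⟩)
  let ψ : chevE6.SteinbergGroup F →* E6univ F := (psi0 F).codRestrict (E6univ F) hmem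
  have hψs : Function.Surjective ψ := by
    rintro ⟨g, hg⟩
    have hr : g ∈ (psi0 F).range := by
      rw [range_psi0]
      exact E6univ_le_G0 hF' hg
    obtain ⟨x, hx⟩ := hr
    exact ⟨x, Subtype.ext hx⟩
  have hcen : ∀ z ∈ Subgroup.center (chevE6.SteinbergGroup F), ψ z ∈ Subgroup.center (E6univ F) := by
    intro z hz
    rw [Subgroup.mem_center_iff]
    intro y
    obtain ⟨x, rfl⟩ := hψs y
    rw [← map_mul, ← map_mul, Subgroup.mem_center_iff.mp hz x]
  let φ : chevE6.SteinbergGroup F →* E6univ F ⧸ Subgroup.center (E6univ F) :=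
    (QuotientGroup.mk' (Subgroup.center (E6univ F))).comp ψ
  have hφs : Function.Surjective φ := (QuotientGroup.mk'_surjective _).comp hψs
  have hker : φ.ker = θ.ker := by
    rw [hθk]
    have e1 : φ.ker = (Subgroup.center (E6univ F)).comap ψ := by
      rw [← MonoidHom.comap_ker, QuotientGroup.ker_mk']
    rw [e1]
    apply le_antisymm
    · have hNn : ((Subgroup.center (E6univ F)).comap ψ).Normal := Subgroup.Normal.comap inferInstance ψ
      have hmapn : (((Subgroup.center (E6univ F)).comap ψ).map θ).Normal := Subgroup.Normal.map hNn θ hθs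
      rcases hmapn.eq_bot_or_eq_top with hb | ht
      · intro z hz
        rw [← hθk, MonoidHom.mem_ker]
        have h1 : θ z ∈ ((Subgroup.center (E6univ F)).comap ψ).map θ := Subgroup.mem_map_of_mem θ hz
        rw [hb] at h1
        exact Subgroup.mem_bot.mp h1
      · exfalso
        have hall : ∀ x : chevE6.SteinbergGroup F, ψ x ∈ Subgroup.center (E6univ F) := by
          intro x
          have hx : θ x ∈ ((Subgroup.center (E6univ F)).comap ψ).map θ := by
            rw [ht]
            trivial
          obtain ⟨n, hn, hnx⟩ := hx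
          have hz : n⁻¹ * x ∈ Subgroup.center (chevE6.SteinbergGroup F) := by
            rw [← hθk, MonoidHom.mem_ker, map_mul, map_inv, hnx, inv_mul_cancel]
          have e : x = n * (n⁻¹ * x) := by group
          rw [e, map_mul]
          exact Subgroup.mul_mem _ hn (hcen _ hz)
        have h1 := Subgroup.mem_center_iff.mp (hall (chevE6.stGen F 0 1)) (ψ (chevE6.stGen F (chevE6.neg 0) 1))
        have h2 := congrArg (fun u : E6univ F => (u : GL I27 F)) h1
        simp only [Subgroup.coe_mul] at h2
        have e1 : ((ψ (chevE6.stGen F 0 1) : E6univ F) : GL I27 F) = x27GL F 0 1 := psi0_stGen F 0 1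
        have e2 : ((ψ (chevE6.stGen F (chevE6.neg 0) 1) : E6univ F) : GL I27 F) = x27GL F (chevE6.neg 0) 1 :=
          psi0_stGen F _ 1
        rw [e1, e2] at h2
        exact noncomm F h2.symm
    · intro z hz
      exact hcen z hz
  exact ⟨((QuotientGroup.quotientKerEquivOfSurjective φ hφs).symm.trans
    (QuotientGroup.quotientMulEquivOfEq hker)).trans (QuotientGroup.quotientKerEquivOfSurjective θ hθs)⟩

end Cfsg.Agent.S1084
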