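import Cfsg.Statements.S1085
import Cfsg.Agent.Helper19.Twist.BNInst
import Cfsg.Agent.Helper18.BNPairChev
import Cfsg.Agent.Helper18.UpStruct
import Cfsg.Agent.S1025
import Cfsg.Agent.S1031
import Cfsg.Agent.S1038

set_option autoImplicit false
open Cfsg

namespace Cfsg.Agent.S1085

/-- ²E₆(q) has a (B,N)-pair: B¹ = G¹ ∩ B and N¹ = G¹ ∩ N, intersections with the ambient Chevalley group's B = UH and N. -/
theorem result {K : Type*} [Field K] [Fintype K] {q : ℕ} (hq : IsPrimePow q) (hK : Fintype.card K = q ^ 2) :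
    ∃ P : Cfsg.BNPair ↥(Cfsg.Lie.twistedE6 K q),
      P.B = (Cfsg.Lie.chevE6.borelSubgroup K ⊓ Cfsg.Lie.twistedE6 K q).subgroupOf (Cfsg.Lie.twistedE6 K q) ∧
      P.N = (Cfsg.Lie.chevE6.monomialSubgroup K ⊓ Cfsg.Lie.twistedE6 K q).subgroupOf (Cfsg.Lie.twistedE6 K q) := by
  open Cfsg.Lie Cfsg.Agent.Helper18 Cfsg.Agent.Helper19.Twist Cfsg.Agent.S1081 Cfsg.Agent.Helper19.Cox
    Cfsg.Agent.Helper19.Poinc in
  obtain ⟨f, hf⟩ := exists_frob hq hK
  have h25 : CommHyp chevE6 K :=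
    fun r s hr hs h1 h2 t u => Cfsg.Agent.S1025.result chevE6 memE6 r s hr hs h1 h2 t u
  have h31 : NConjHyp chevE6 K := fun i s hi hs => Cfsg.Agent.S1031.result chevE6 memE6 i s hi hs
  have hn : (HN chevE6 K).Normal := Cfsg.Agent.S1038.result chevE6 memE6
  have h42 : H42 chevE6 K := exists_bnPair (F := K) chevE6 memE6 h25
  have h45 : H45 chevE6 K := fun i hi =>
    ⟨rootSubgroup_le_normalizer_Up chevE6 memE6 h25 i hi, Up_sup_rootSubgroup chevE6 memE6 i hi⟩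
  exact bnPair_E6 f hf h31 hq.two_le hK h42 h45 h25

end Cfsg.Agent.S1085
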