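import Cfsg.Statements.S1103
import Cfsg.Agent.Helper19.Twist.Assemble
import Cfsg.Agent.Helper19.Twist.FoldData
import Cfsg.Agent.Helper19.Twist.ClassE6
import Cfsg.Agent.S1031
import Cfsg.Agent.S1038

set_option autoImplicit false
open Cfsg

namespace Cfsg.Agent.S1103

/-- `N¹/H¹ ≅ W¹`: a surjective homomorphism from `N¹ = G¹ ∩ N` onto the Coxeter group of type F₄ with kernel `H¹`. -/
theorem result {K : Type*} [Field K] [Fintype K] {q : ℕ} (hq : IsPrimePow q) (hK : Fintype.card K = q ^ 2) :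
    ∃ φ : ↥(Cfsg.Lie.chevE6.monomialSubgroup K ⊓ Cfsg.Lie.twistedE6 K q) →* (CoxeterMatrix.F₄).Group, Function.Surjective φ ∧
      φ.ker = (Cfsg.Lie.chevE6.diagonalSubgroup K ⊓ Cfsg.Lie.twistedE6 K q).subgroupOf (Cfsg.Lie.chevE6.monomialSubgroup K ⊓ Cfsg.Lie.twistedE6 K q) := by
  open Cfsg.Lie Cfsg.Agent.Helper18 Cfsg.Agent.Helper19.Twist Cfsg.Agent.Helper19.Poinc Cfsg.Agent.Helper19.Cox
    Cfsg.Agent.S1081 in
  obtain ⟨f, hf⟩ := exists_frob hq hK
  have h31 : NConjHyp chevE6 K := fun i s hi hs => Cfsg.Agent.S1031.result chevE6 memE6 i s hi hs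
  have hn : (HN chevE6 K).Normal := Cfsg.Agent.S1038.result chevE6 memE6
  refine twisted_weyl memE6 certE6 certF4 JE6 rho0 rhoInv0 pi0 piInv0 eps0 h31 permsOK_E6 f allOK0 rootInjOK_E6
    piOK_E6 relOK_E6 orbOK_E6 orthOK_E6 iotaE6_injective (twistedE6 K q) (twistedE6_le_FixE6 f hf hK) ?_
  intro a ha
  have ha2 : a < 4 := ha
  have f1 : f 1 = 1 := map_one f
  have s0 : chevE6.simple 0 = 56 := rfl
  have s1 : chevE6.simple 1 = 46 := rfl
  have s2 : chevE6.simple 2 = 42 := rfl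
  have s3 : chevE6.simple 3 = 39 := rfl
  have s4 : chevE6.simple 4 = 37 := rfl
  have s5 : chevE6.simple 5 = 36 := rfl
  have e0 := theta_nN (F := K) chevE6 memE6 certE6 h31 0 (by decide)
  have e1 := theta_nN (F := K) chevE6 memE6 certE6 h31 1 (by decide)
  have e2 := theta_nN (F := K) chevE6 memE6 certE6 h31 2 (by decide)
  have e3 := theta_nN (F := K) chevE6 memE6 certE6 h31 3 (by decide)
  have e4 := theta_nN (F := K) chevE6 memE6 certE6 h31 4 (by decide)
  have e5 := theta_nN (F := K) chevE6 memE6 certE6 h31 5 (by decide)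
  rw [s0] at e0; rw [s1] at e1; rw [s2] at e2; rw [s3] at e3; rw [s4] at e4; rw [s5] at e5
  interval_cases a
  · refine ⟨nN chevE6 K 56 * nN chevE6 K 36, ?_, ?_⟩
    · rw [Subgroup.coe_mul, nN_val chevE6 memE6 56 (by decide), nN_val chevE6 memE6 36 (by decide)]
      have := nJ1E6_mem f hf (1 : K)
      rw [f1] at this
      exact this
    · rw [map_mul, e0, e5]
      have : JE6 0 = [0, 5] := rfl
      rw [this, gp_cons, gp_singleton]
  · refine ⟨nN chevE6 K 42 * nN chevE6 K 37, ?_, ?_⟩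
    · rw [Subgroup.coe_mul, nN_val chevE6 memE6 42 (by decide), nN_val chevE6 memE6 37 (by decide)]
      have := nJ3E6_mem f hf (1 : K)
      rw [f1] at this
      exact this
    · rw [map_mul, e2, e4]
      have : JE6 1 = [2, 4] := rfl
      rw [this, gp_cons, gp_singleton]
  · refine ⟨nN chevE6 K 39, ?_, ?_⟩
    · rw [nN_val chevE6 memE6 39 (by decide)]
      exact n4E6_mem f hf (1 : K) f1
    · rw [e3]
      have : JE6 2 = [3] := rfl
      rw [this, gp_singleton]
  · refine ⟨nN chevE6 K 46, ?_, ?_⟩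
    · rw [nN_val chevE6 memE6 46 (by decide)]
      exact n2E6_mem f hf (1 : K) f1
    · rw [e1]
      have : JE6 3 = [1] := rfl
      rw [this, gp_singleton]

end Cfsg.Agent.S1103
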