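import Cfsg.Statements.S1107
import Cfsg.Agent.Helper19.Twist.Assemble
import Cfsg.Agent.Helper19.Twist.FoldData
import Cfsg.Agent.Helper19.Twist.ClassD4
import Cfsg.Agent.S1031
import Cfsg.Agent.S1038

set_option autoImplicit false
open Cfsg

namespace Cfsg.Agent.S1107

/-- `N¹/H¹ ≅ W¹`: a surjective homomorphism from `N¹ = G¹ ∩ N` onto the Coxeter group of type G₂ (dihedral of order 12) with kernel `H¹`. -/
theorem result {K : Type*} [Field K] [Fintype K] {q : ℕ} (hq : IsPrimePow q) (hK : Fintype.card K = q ^ 3) :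
    ∃ φ : ↥(Cfsg.Lie.chevD4.monomialSubgroup K ⊓ Cfsg.Lie.twistedD4 K q) →* (CoxeterMatrix.G₂).Group, Function.Surjective φ ∧
      φ.ker = (Cfsg.Lie.chevD4.diagonalSubgroup K ⊓ Cfsg.Lie.twistedD4 K q).subgroupOf (Cfsg.Lie.chevD4.monomialSubgroup K ⊓ Cfsg.Lie.twistedD4 K q) := by
  open Cfsg.Lie Cfsg.Agent.Helper18 Cfsg.Agent.Helper19.Twist Cfsg.Agent.Helper19.Poinc Cfsg.Agent.Helper19.Cox
    Cfsg.Agent.S1081 in
  obtain ⟨f, hf⟩ := exists_frob hq hK
  have h31 : NConjHyp chevD4 K := fun i s hi hs => Cfsg.Agent.S1031.result chevD4 memD4 i s hi hs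
  have hn : (HN chevD4 K).Normal := Cfsg.Agent.S1038.result chevD4 memD4
  refine twisted_weyl memD4 certD4 certG2 JD4 rho1 rhoInv1 pi1 piInv1 eps1 h31 permsOK_D4 f allOK1 rootInjOK_D4
    piOK_D4 relOK_D4 orbOK_D4 orthOK_D4 iotaD4_injective (twistedD4 K q) (twistedD4_le_FixD4 f hf hK) ?_
  intro a ha
  have ha2 : a < 2 := ha
  have f1 : f 1 = 1 := map_one f
  interval_cases a
  · refine ⟨nN chevD4 K 18 * nN chevD4 K 13 * nN chevD4 K 12, ?_, ?_⟩
    · rw [Subgroup.coe_mul, Subgroup.coe_mul, nN_val chevD4 memD4 18 (by decide), nN_val chevD4 memD4 13 (by decide),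
        nN_val chevD4 memD4 12 (by decide)]
      have := nJD4_mem f hf (1 : K)
      rw [f1, f1] at this
      exact this
    · rw [map_mul, map_mul]
      have e0 := theta_nN (F := K) chevD4 memD4 certD4 h31 0 (by decide)
      have e2 := theta_nN (F := K) chevD4 memD4 certD4 h31 2 (by decide)
      have e3 := theta_nN (F := K) chevD4 memD4 certD4 h31 3 (by decide)
      have s0 : chevD4.simple 0 = 18 := rfl
      have s2 : chevD4.simple 2 = 13 := rfl
      have s3 : chevD4.simple 3 = 12 := rfl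
      rw [s0] at e0; rw [s2] at e2; rw [s3] at e3
      rw [e0, e2, e3]
      have : JD4 0 = [0, 2, 3] := rfl
      rw [this, gp_cons, gp_cons, gp_singleton, mul_assoc]
  · refine ⟨nN chevD4 K 14, ?_, ?_⟩
    · rw [nN_val chevD4 memD4 14 (by decide)]
      exact n2D4_mem f hf (1 : K) f1
    · have e1 := theta_nN (F := K) chevD4 memD4 certD4 h31 1 (by decide)
      have s1 : chevD4.simple 1 = 14 := rfl
      rw [s1] at e1
      rw [e1]
      have : JD4 1 = [1] := rfl
      rw [this, gp_singleton]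

end Cfsg.Agent.S1107
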