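import Cfsg.Statements.S1118
import Cfsg.Agent.Helper19.RankOne
-- import your own Cfsg.Agent.* helpers here

set_option autoImplicit false
open Cfsg

namespace Cfsg.Agent.S1118

open Cfsg.Agent.Helper19 MulAction in
/-- In the rank-one set-up (`G` finite and doubly transitive on `Ω`, `t` an involution moving `a`, `Q` normal in `G_a` with `G_a = Q D`, `Q ⊓ D = 1` for the two-point stabiliser `D = G_a ⊓ G_{t • a}`, `|Q|` even, `|D|` odd), the normaliser of a subset of `Q` containing a non-identity element lies in `G_a`; consequently `N_G(Q) = N_G(G_a) = G_a`. -/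
theorem result {G Ω : Type*} [Group G] [Finite G] [MulAction G Ω] {a : Ω} {t : G} {Q : Subgroup G}
    (hS : Cfsg.IsRankOneSetup G Ω a t Q) :
    (∀ X : Set G, X ⊆ (Q : Set G) → (∃ x ∈ X, x ≠ 1) → Subgroup.normalizer X ≤ MulAction.stabilizer G a) ∧
      Subgroup.normalizer (Q : Set G) = MulAction.stabilizer G a ∧
      Subgroup.normalizer (MulAction.stabilizer G a : Set G) = MulAction.stabilizer G a := by
  have h1 : ∀ X : Set G, X ⊆ (Q : Set G) → (∃ x ∈ X, x ≠ 1) →
      Subgroup.normalizer X ≤ MulAction.stabilizer G a := by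
    rintro X hXQ ⟨x, hxX, hx1⟩ g hg
    rw [Subgroup.mem_set_normalizer_iff] at hg
    have h2 : g * x * g⁻¹ ∈ Q := hXQ ((hg x).mp hxX)
    have h3 : g * x * g⁻¹ ≠ 1 := by
      intro h
      apply hx1
      have : x = g⁻¹ * (g * x * g⁻¹) * g := by group
      rw [this, h]; group
    have h4 : (g * x * g⁻¹) • (g • a) = g • a := by
      rw [mul_smul, inv_smul_smul, mul_smul, Q_smul_a hS (hXQ hxX)]
    exact mem_stabilizer_iff.mpr ((Q_fixed_iff hS h2 h3).mp h4)
  refine ⟨h1, ?_, ?_⟩
  · apply le_antisymm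
    · exact h1 Q subset_rfl (Q_ne_bot hS)
    · exact stab_le_normalizer hS
  · apply le_antisymm
    · intro g hg
      obtain ⟨x, hxQ, hx1⟩ := Q_ne_bot hS
      rw [Subgroup.mem_set_normalizer_iff] at hg
      have h2 : g * x * g⁻¹ ∈ stabilizer G a := (hg x).mp (hS.le hxQ)
      have h3 : x • (g⁻¹ • a) = g⁻¹ • a := by
        have := mem_stabilizer_iff.mp h2
        rw [mul_smul, mul_smul] at this
        calc x • g⁻¹ • a = g⁻¹ • (g • x • g⁻¹ • a) := by rw [inv_smul_smul]
          _ = g⁻¹ • a := by rw [this]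
      have h4 := (Q_fixed_iff hS hxQ hx1).mp h3
      have : g⁻¹ ∈ stabilizer G a := mem_stabilizer_iff.mpr h4
      simpa using Subgroup.inv_mem _ this
    · exact Subgroup.le_normalizer

end Cfsg.Agent.S1118
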