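import Cfsg.Statements.S1129
import Cfsg.Agent.Helper19.RankOne10
import Cfsg.Agent.Helper1.FpfThompson

set_option autoImplicit false
open Cfsg

namespace Cfsg.Agent.S1129

open Cfsg.Agent.Helper19 MulAction

/-- conjugation by an element normalising `Q`, as an automorphism of `Q` -/
def conjEquiv {G : Type*} [Group G] (Q : Subgroup G) (y : G) (h1 : ∀ x ∈ Q, y * x * y⁻¹ ∈ Q)
    (h2 : ∀ x ∈ Q, y⁻¹ * x * y ∈ Q) : Q ≃* Q where
  toFun x := ⟨y * x * y⁻¹, h1 x x.2⟩
  invFun x := ⟨y⁻¹ * x * y, h2 x x.2⟩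
  left_inv x := by ext; simp [mul_assoc]
  right_inv x := by ext; simp [mul_assoc]
  map_mul' a b := by ext; simp [mul_assoc]

theorem conjEquiv_pow {G : Type*} [Group G] (Q : Subgroup G) (y : G) (h1 : ∀ x ∈ Q, y * x * y⁻¹ ∈ Q)
    (h2 : ∀ x ∈ Q, y⁻¹ * x * y ∈ Q) (n : ℕ) (x : Q) :
    (((conjEquiv Q y h1 h2) ^ n) x : G) = y ^ n * x * (y ^ n)⁻¹ := by
  induction n with
  | zero => simp
  | succ n ih =>
    rw [pow_succ', MulAut.mul_apply]
    show y * (((conjEquiv Q y h1 h2) ^ n) x : G) * y⁻¹ = _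
    rw [ih, pow_succ']
    group


/-- In the rank-one set-up (`G` finite and doubly transitive on `Ω`, `t` an involution moving `a`, `Q` normal in `G_a` with `G_a = Q D`, `Q ⊓ D = 1` for the two-point stabiliser `D = G_a ⊓ G_{t • a}`, `|Q|` even, `|D|` odd), with the action faithful and `G` containing two distinct commuting involutions: `Q` is nilpotent. -/
theorem result {G Ω : Type*} [Group G] [Finite G] [MulAction G Ω] [FaithfulSMul G Ω] {a : Ω} {t : G} {Q : Subgroup G}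
    (hS : Cfsg.IsRankOneSetup G Ω a t Q)
    (h2 : ∃ x y : G, x ≠ 1 ∧ y ≠ 1 ∧ x ≠ y ∧ x * x = 1 ∧ y * y = 1 ∧ x * y = y * x) :
    Group.IsNilpotent Q := by
  classical
  obtain ⟨x, y, hx1, hy1, hxy, hxx, hyy, hcomm⟩ := h2
  obtain ⟨c, hxc⟩ := invol_fixed_exists hS hxx
  have hyc : y • c = c := invol_fixed_of_commute hS hxx hx1 hcomm hxc
  have := pretransitive hS
  obtain ⟨g, hg⟩ := exists_smul_eq G c a
  have hmem : ∀ w : G, w ≠ 1 → w * w = 1 → w • c = c →
      g * w * g⁻¹ ∈ Cfsg.involutionsIn (stabilizer G a : Set G) := by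
    intro w hw1 hww hwc
    refine ⟨?_, conj_ne_one hw1 g, conj_mul_self hww g⟩
    show g * w * g⁻¹ ∈ stabilizer G a
    rw [mem_stabilizer_iff, mul_smul, mul_smul, ← hg, inv_smul_smul, hwc]
  obtain ⟨k, hk, hks⟩ := exists_K_conj hS (hmem x hx1 hxx hxc) (hmem y hy1 hyy hyc)
  have hk1 : k ≠ 1 := by
    rintro rfl
    apply hxy
    have : g * x * g⁻¹ = g * y * g⁻¹ := by simpa using hks
    have h2 : g⁻¹ * (g * x * g⁻¹) * g = g⁻¹ * (g * y * g⁻¹) * g := by rw [this]
    simpa [mul_assoc] using h2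
  -- a power of `k` of prime order
  have hn1 : orderOf k ≠ 1 := fun h => hk1 (orderOf_eq_one_iff.mp h)
  obtain ⟨r, hr, hrk⟩ := Nat.exists_prime_and_dvd hn1
  obtain ⟨m, hm⟩ := hrk
  set z := k ^ m with hz
  have hkpos : 0 < orderOf k := orderOf_pos k
  have hmpos : 0 < m := by
    rcases Nat.eq_zero_or_pos m with h | h
    · rw [h, mul_zero] at hm; omega
    · exact h
  have hzr : z ^ r = 1 := by
    rw [hz, ← pow_mul, mul_comm, ← hm]; exact pow_orderOf_eq_one k
  have hz1 : z ≠ 1 := by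
    intro h
    have hdvd : orderOf k ∣ m := orderOf_dvd_of_pow_eq_one h
    have hle := Nat.le_of_dvd hmpos hdvd
    have : 2 ≤ r := hr.two_le
    nlinarith
  have hzK : z ∈ Cfsg.invertedBy (stabilizer G a ⊓ stabilizer G (t • a)) t := by
    refine ⟨Subgroup.pow_mem _ hk.1 m, ?_⟩
    have h1 : t * k ^ m * t⁻¹ = (t * k * t⁻¹) ^ m := by
      rw [conj_pow]
    rw [hz, h1, hk.2, inv_pow]
  have hfpf := K_fixed_point_free hS hzK hz1
  have hzstab : z ∈ stabilizer G a := hzK.1.1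
  have h1 : ∀ q ∈ Q, z * q * z⁻¹ ∈ Q := fun q hq => hS.conj_mem z hzstab q hq
  have h2 : ∀ q ∈ Q, z⁻¹ * q * z ∈ Q := fun q hq => by
    have := hS.conj_mem z⁻¹ (Subgroup.inv_mem _ hzstab) q hq
    simpa using this
  refine Cfsg.Agent.Helper1.fpf_prime_nilpotent hr (conjEquiv Q z h1 h2) ?_ ?_
  · intro q hq
    have hq' : z * (q : G) * z⁻¹ = q := congrArg Subtype.val hq
    have hmemC : (q : G) ∈ Q ⊓ Subgroup.centralizer {z} := by
      refine ⟨q.2, ?_⟩
      show (q : G) ∈ Subgroup.centralizer {z}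
      rw [Subgroup.mem_centralizer_iff]
      intro h hh
      rw [Set.mem_singleton_iff] at hh
      rw [hh]
      calc z * (q : G) = (z * q * z⁻¹) * z := by group
        _ = q * z := by rw [hq']
    rw [hfpf, Subgroup.mem_bot] at hmemC
    exact Subtype.ext hmemC
  · ext q
    rw [conjEquiv_pow, hzr]
    simp

end Cfsg.Agent.S1129
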