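import Cfsg.Statements.S1139
import Cfsg.Agent.Helper65.Suzuki30

set_option autoImplicit false
open Cfsg

namespace Cfsg.Agent.S1139

/-- A Suzuki 2-group `P` with `|P| = |Z(P)|²` is of type A: for some finite field `F` with `|F| = |Z(P)|` and some field automorphism `φ ≠ 1` of odd order, `P` is isomorphic to the group of lower unitriangular matrices with rows `(1,0,0)`, `(x,1,0)`, `(y, φ x, 1)`. -/
theorem result {P : Type*} [Group P] (hP : Cfsg.IsSuzukiTwoGroup P)
    (hcard : Nat.card P = Nat.card (Subgroup.center P) ^ 2) :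
    ∃ (F : Type) (_ : Field F) (_ : Fintype F) (φ : F ≃+* F), Fintype.card F = Nat.card (Subgroup.center P) ∧
      φ ≠ RingEquiv.refl F ∧ Odd (orderOf φ) ∧ Nonempty (P ≃* Cfsg.suzukiTypeA F (φ : F →+* F)) := by
  classical
  have hinv : ∀ x : P, x * x = 1 → x ∈ Subgroup.center P :=
    fun x hx => Cfsg.Agent.Helper65.Suz.higman_inv hP hx
  have hP' := hP
  obtain ⟨hfin, hG, _, ⟨x₀, _, _, hx₀, hx₀2, _, _⟩, _⟩ := hP'
  haveI := hfin
  haveI : Fact (Nat.Prime 2) := ⟨Nat.prime_two⟩
  obtain ⟨n, hn⟩ := (IsPGroup.iff_card).mp (hG.to_subgroup (Subgroup.center P))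
  have hn0 : n ≠ 0 := by
    intro h0
    rw [h0, pow_zero] at hn
    haveI : Subsingleton (Subgroup.center P) := (Nat.card_eq_one_iff_unique.mp hn).1
    have h1 : (⟨x₀, hinv x₀ hx₀2⟩ : Subgroup.center P) = 1 := Subsingleton.elim _ _
    exact hx₀ (congrArg Subtype.val h1)
  letI : Fintype (GaloisField 2 n) := Fintype.ofFinite _
  have hF : Fintype.card (GaloisField 2 n) = Nat.card (Subgroup.center P) := by
    rw [Fintype.card_eq_nat_card, GaloisField.card 2 n hn0, hn]
  obtain ⟨φ, h1, h2, h3⟩ := Cfsg.Agent.Helper65.Suz.typeA hP hcard hF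
  exact ⟨GaloisField 2 n, inferInstance, inferInstance, φ, hF, h1, h2, h3⟩

end Cfsg.Agent.S1139
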