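import Cfsg.Statements.S1141
import Cfsg.Agent.Helper19.SU3.Embed
import Cfsg.Agent.Helper19.SU3.Transport
import Cfsg.Agent.Helper45.SUCard

set_option autoImplicit false
open Cfsg

namespace Cfsg.Agent.S1141

/-- Let `q = 2^n ≥ 4` and `|F| = q²`. A Sylow 2-subgroup `S` of `PSU₃(q)` has order `q³`, its centre has order `q`, and `S` is a Suzuki 2-group. -/
theorem result {F : Type*} [Field F] [Fintype F] {n : ℕ} (hn : 2 ≤ n)
    (hF : Fintype.card F = (2 ^ n) ^ 2) (S : Sylow 2 (Cfsg.PSU 3 F (2 ^ n))) :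
    Nat.card S = (2 ^ n) ^ 3 ∧ Nat.card (Subgroup.center ↥(S : Subgroup (Cfsg.PSU 3 F (2 ^ n)))) = 2 ^ n ∧
      Cfsg.IsSuzukiTwoGroup ↥(S : Subgroup (Cfsg.PSU 3 F (2 ^ n))) := by
  classical
  have hq1 : 2 < 2 ^ n := by
    calc 2 < 2 ^ 2 := by norm_num
      _ ≤ 2 ^ n := Nat.pow_le_pow_right (by norm_num) hn
  have hqe : Even (2 ^ n) := (Nat.even_pow.mpr ⟨even_two, by omega⟩)
  obtain ⟨bar, hbar⟩ := Cfsg.Agent.Helper45.GU.exists_bar hF
  have : Cfsg.Agent.Helper19.SU3.BarField F bar :=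
    Cfsg.Agent.Helper19.SU3.barField bar hF hqe hbar
  have : Fact (Nat.Prime 2) := ⟨Nat.prime_two⟩
  have hTr := Cfsg.Agent.Helper19.SU3.hTr bar hF (by omega) hbar
  have hω := Cfsg.Agent.Helper19.SU3.hω bar hF (by omega) hbar
  have hc := Cfsg.Agent.Helper19.SU3.hc bar hF hq1 hbar
  have hsq := Cfsg.Agent.Helper19.SU3.hsq hF hqe
  have hfix := Cfsg.Agent.Helper19.SU3.card_fixed bar hF (by omega) hbar
  -- the embedding into PSU
  let f : Cfsg.Agent.Helper19.SU3.Heis bar →* Cfsg.PSU 3 F (2 ^ n) :=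
    (QuotientGroup.mk' (Subgroup.center (Cfsg.SU 3 F (2 ^ n)))).comp
      (Cfsg.Agent.Helper19.SU3.toSU bar hbar)
  have hcen : Nat.card (Subgroup.center (Cfsg.SU 3 F (2 ^ n))) ∣ 3 := by
    rw [Cfsg.Agent.Helper45.GU.card_center_SU hF 3 (by norm_num)]
    exact Nat.gcd_dvd_left _ _
  have hf : Function.Injective f := by
    rw [injective_iff_map_eq_one]
    intro x hx
    have h1 : Cfsg.Agent.Helper19.SU3.toSU bar hbar x ∈ Subgroup.center (Cfsg.SU 3 F (2 ^ n)) := by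
      have := (QuotientGroup.eq_one_iff _).mp hx
      exact this
    have h2 : (Cfsg.Agent.Helper19.SU3.toSU bar hbar x) ^ 4 = 1 := by
      rw [← map_pow, Cfsg.Agent.Helper19.SU3.Heis.pow_four, map_one]
    have h3 : (Cfsg.Agent.Helper19.SU3.toSU bar hbar x) ^ 3 = 1 := by
      have h4 : orderOf (⟨_, h1⟩ : Subgroup.center (Cfsg.SU 3 F (2 ^ n))) ∣ 3 :=
        dvd_trans (orderOf_dvd_natCard _) hcen
      have h6 := orderOf_dvd_iff_pow_eq_one.mp h4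
      exact congrArg Subtype.val h6
    have h5 : Cfsg.Agent.Helper19.SU3.toSU bar hbar x = 1 := by
      have : (Cfsg.Agent.Helper19.SU3.toSU bar hbar x) ^ 4 =
          (Cfsg.Agent.Helper19.SU3.toSU bar hbar x) ^ 3 * Cfsg.Agent.Helper19.SU3.toSU bar hbar x :=
        pow_succ _ 3
      rw [h2, h3, one_mul] at this
      exact this.symm
    apply Cfsg.Agent.Helper19.SU3.toSU_injective bar hbar
    rw [h5, map_one]
  have hcardH : Nat.card (Cfsg.Agent.Helper19.SU3.Heis bar) = (2 ^ n) ^ 3 := by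
    rw [Cfsg.Agent.Helper19.SU3.Heis.card_eq hTr, hfix, Nat.card_eq_fintype_card, hF]
    ring
  -- the 2-part of the order of PSU
  have hPSU := Cfsg.Agent.Helper45.GU.card_PSU hF 3 (by norm_num)
  have hQ1 : 1 ≤ (2 ^ n) ^ 2 := Nat.one_le_pow _ _ (by positivity)
  have hoddQ1 : Odd (2 ^ n + 1) := hqe.add_one
  have hodd2 : Odd ((2 ^ n) ^ 2 - 1) :=
    Nat.Even.sub_odd hQ1 (hqe.pow_of_ne_zero two_ne_zero) odd_one
  have hodd3 : Odd ((2 ^ n) ^ 3 + 1) := (hqe.pow_of_ne_zero (by norm_num)).add_one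
  have hoddg : Odd (Nat.gcd 3 (2 ^ n + 1)) := Odd.of_dvd_nat hoddQ1 (Nat.gcd_dvd_right _ _)
  have hPSU' : (Nat.gcd 3 (2 ^ n + 1) * (2 ^ n + 1)) * Nat.card (Cfsg.PSU 3 F (2 ^ n)) =
      (2 ^ n) ^ 3 * ((2 ^ n + 1) * ((2 ^ n) ^ 2 - 1) * ((2 ^ n) ^ 3 + 1)) := by
    rw [mul_assoc, hPSU]
    simp [Finset.prod_range_succ]
  have hA : Odd (Nat.gcd 3 (2 ^ n + 1) * (2 ^ n + 1)) := hoddg.mul hoddQ1
  have hB : Odd ((2 ^ n + 1) * ((2 ^ n) ^ 2 - 1) * ((2 ^ n) ^ 3 + 1)) :=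
    (hoddQ1.mul hodd2).mul hodd3
  have hN0 : Nat.card (Cfsg.PSU 3 F (2 ^ n)) ≠ 0 := Nat.card_pos.ne'
  have hfac : (Nat.card (Cfsg.PSU 3 F (2 ^ n))).factorization 2 = 3 * n := by
    have h1 : ((Nat.gcd 3 (2 ^ n + 1) * (2 ^ n + 1)) *
        Nat.card (Cfsg.PSU 3 F (2 ^ n))).factorization 2 =
      ((2 ^ n) ^ 3 * ((2 ^ n + 1) * ((2 ^ n) ^ 2 - 1) * ((2 ^ n) ^ 3 + 1))).factorization 2 := by
      rw [hPSU']
    rw [Nat.factorization_mul hA.pos.ne' hN0, Nat.factorization_mul (by positivity) hB.pos.ne']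
      at h1
    simp only [Finsupp.add_apply] at h1
    rw [Nat.factorization_eq_zero_of_not_dvd hA.not_two_dvd_nat,
      Nat.factorization_eq_zero_of_not_dvd hB.not_two_dvd_nat, ← pow_mul,
      Nat.Prime.factorization_pow Nat.prime_two] at h1
    rw [Finsupp.single_eq_same] at h1
    omega
  -- the Sylow subgroup
  have hcardP : Nat.card f.range = 2 ^ (Nat.card (Cfsg.PSU 3 F (2 ^ n))).factorization 2 := by
    rw [hfac, ← Nat.card_congr (MonoidHom.ofInjective hf).toEquiv, hcardH, ← pow_mul, mul_comm]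
  let e : Cfsg.Agent.Helper19.SU3.Heis bar ≃* ↥(S : Subgroup (Cfsg.PSU 3 F (2 ^ n))) :=
    (MonoidHom.ofInjective hf).trans (Sylow.equiv (Sylow.ofCard f.range hcardP) S)
  refine ⟨?_, ?_, ?_⟩
  · rw [← Nat.card_congr e.toEquiv, hcardH]
  · rw [← Cfsg.Agent.Helper19.SU3.card_center_congr e,
      Cfsg.Agent.Helper19.SU3.Heis.card_center hω hTr, hfix]
  · exact Cfsg.Agent.Helper19.SU3.isSuzukiTwoGroup_congr e
      (Cfsg.Agent.Helper19.SU3.Heis.isSuzukiTwoGroup hω hTr hsq hc)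

end Cfsg.Agent.S1141
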