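import Cfsg.Statements.S1142
import Cfsg.Agent.Helper19.FH.PartA
import Cfsg.Agent.Helper19.FH.PartB
import Cfsg.Agent.Helper53.FHC

set_option autoImplicit false
open Cfsg

namespace Cfsg.Agent.S1142

/-- Feit–Higman: if a finite group has a (B,N)-pair of rank 2, its Weyl group `N/(B ⊓ N)` has order 4, 6, 8, 12 or 16. -/
theorem result {G : Type*} [Group G] [Finite G] (P : Cfsg.BNPair G)
    (h2 : P.rank = 2) :
    ((P.B ⊓ P.N).subgroupOf P.N).index ∈ ({4, 6, 8, 12, 16} : Set ℕ) := by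
  classical
  haveI : Fintype (G ⧸ P.B) := Fintype.ofFinite _
  obtain ⟨n, a, b, T₁, T₂, hidx, hn, ha, hb, hs₁, hs₂, hH, htr, hodd⟩ :=
    Cfsg.Agent.Helper19.FH.partA P h2
  haveI hX : Nonempty (G ⧸ P.B) := ⟨QuotientGroup.mk 1⟩
  have hc : ∀ j : ℕ, 0 < j → 2 * j < n → ∃ q : ℚ,
      Cfsg.Agent.Helper19.FH.cfun n a b (Cfsg.Agent.Helper19.FH.tauOf n a b j) = (q : ℝ) := by
    intro j hj hjn
    obtain ⟨m, hm⟩ := Cfsg.Agent.Helper19.FH.partB n hn (a : ℝ) (b : ℝ) (by exact_mod_cast ha)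
      (by exact_mod_cast hb) T₁ T₂ hs₁ hs₂ hH htr (fun h => by exact_mod_cast hodd h) j hj hjn
    have hcard : (0 : ℝ) < (Fintype.card (G ⧸ P.B) : ℝ) := by exact_mod_cast Fintype.card_pos
    have hm0 : (m : ℝ) ≠ 0 := by
      intro h
      rw [h, zero_mul] at hm
      linarith
    refine ⟨(Fintype.card (G ⧸ P.B) : ℚ) / (m : ℚ), ?_⟩
    push_cast
    rw [eq_div_iff hm0]
    linarith
  rw [hidx]
  rcases Cfsg.Agent.Helper53.FH.partC n hn a b ha hb hodd hc with rfl | rfl | rfl | rfl | rfl <;>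
    simp

end Cfsg.Agent.S1142
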