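import Cfsg.Statements.S1147
import Cfsg.Agent.Helper95.SzOrd.Main
import Cfsg.Agent.S0345
import Cfsg.Agent.S1139

set_option autoImplicit false
open Cfsg

namespace Cfsg.Agent.S1147

/-- Let a finite simple Zassenhaus group `G` on `Ω` have a normal subgroup `U` of `G_a`, regular on `Ω` minus `a`, which is a non-abelian 2-group. Then `|Ω| = 2^(2n) + 1` with `n` odd, `n > 1`, a two-point stabiliser `G_a ⊓ G_b` is cyclic of order `2^n - 1`, and `U` is isomorphic to the type-A group over a field with `2^n` elements for some field automorphism `φ`. -/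
theorem result {G Ω : Type*} [Group G] [Finite G] [MulAction G Ω] [Finite Ω]
    (hZ : Cfsg.IsZassenhausGroup G Ω) [IsSimpleGroup G] {a b : Ω} (hab : a ≠ b)
    (U : Subgroup G) (hUle : U ≤ MulAction.stabilizer G a)
    (hUn : ∀ h ∈ MulAction.stabilizer G a, ∀ u ∈ U, h * u * h⁻¹ ∈ U)
    (hreg : ∀ c d : Ω, c ≠ a → d ≠ a → ∃! u : U, (u : G) • c = d)
    (hU2 : IsPGroup 2 U) (hUna : ∃ u ∈ U, ∃ v ∈ U, u * v ≠ v * u) :
    ∃ n : ℕ, Odd n ∧ 1 < n ∧ Nat.card Ω = 2 ^ (2 * n) + 1 ∧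
      IsCyclic ↥(MulAction.stabilizer G a ⊓ MulAction.stabilizer G b) ∧
      Nat.card ↥(MulAction.stabilizer G a ⊓ MulAction.stabilizer G b) = 2 ^ n - 1 ∧
      ∃ (F : Type) (_ : Field F) (_ : Fintype F) (φ : F ≃+* F), Fintype.card F = 2 ^ n ∧
        Nonempty (U ≃* Cfsg.suzukiTypeA F (φ : F →+* F)) := by
  classical
  haveI : Fintype G := Fintype.ofFinite G
  haveI : Fintype Ω := Fintype.ofFinite Ω
  have hzt : Cfsg.Agent.Helper95.SzOrd.ZT a U :=
    { hZ := hZ
      simple := inferInstance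
      Qle := hUle
      Qnorm := hUn
      reg := hreg
      two := hU2
      nonab := hUna }
  obtain ⟨q, n, F, hN, hodd⟩ := Cfsg.Agent.Helper95.SzOrd.suzuki_main hzt hab
  have hn := F.hn
  have hq := F.hq
  have hK := F.card_K
  have hcen : Nat.card (Subgroup.center U) = q := by
    rw [Cfsg.Agent.Helper95.SzOrd.card_center_eq_card_Zs, F.card_Zs]
  have hS2 : Cfsg.IsSuzukiTwoGroup U := Cfsg.Agent.Helper95.SzOrd.A3_isSuzukiTwoGroup hzt hab
  obtain ⟨K, iK, iKf, φ, hKcard, -, -, hiso⟩ :=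
    Cfsg.Agent.S1139.result (P := U) hS2 (by rw [hcen, hN])
  refine ⟨n, hodd, by omega, ?_, (Cfsg.Agent.S0345.result hZ hab).1, ?_, K, iK, iKf, φ, ?_, hiso⟩
  · rw [F.card_Ω, hN, hq, ← pow_mul, mul_comm]
  · have : Nat.card ↥(MulAction.stabilizer G a ⊓ MulAction.stabilizer G b) + 1 = q := hK
    rw [← hq]
    omega
  · rw [hKcard, hcen, hq]

end Cfsg.Agent.S1147
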