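import Cfsg.Statements.S1154
import Cfsg.Agent.Helper41.ReeUC

set_option autoImplicit false
open Cfsg

namespace Cfsg.Agent.S1154

/-- In the small Ree group ²G₂(q), q = 3^(2m+1) with m ≥ 1, realised as G¹ inside the Chevalley group G₂ over the field with q elements (θ the 3^m-th power map), with `U¹ = G¹ ∩ U` (U the positive unipotent subgroup of the ambient G₂): `U¹` has exactly `q² - 1` elements of order 3. -/
theorem result {K : Type*} [Field K] [Fintype K] {m : ℕ} (hm : 1 ≤ m) (hK : Fintype.card K = 3 ^ (2 * m + 1)) :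
    Nat.card {u : ↥(Cfsg.Lie.chevG2.posUnipotent K ⊓ Cfsg.Lie.twistedG2 K (3 ^ m)) // orderOf u = 3} = (3 ^ (2 * m + 1)) ^ 2 - 1 := by
  classical
  haveI := Cfsg.Agent.Helper18.Ree.charP_three hK
  have hθ : (3 ^ m : ℕ) ≠ 0 := pow_ne_zero _ (by norm_num)
  let f : {x : K × K // x ≠ (0, 0)} →
      {u : ↥(Cfsg.Lie.chevG2.posUnipotent K ⊓ Cfsg.Lie.twistedG2 K (3 ^ m)) // orderOf u = 3} := fun x =>
    ⟨⟨Cfsg.Agent.Helper41.ReeU.wordGLU (3 ^ m) 0 x.1.1 x.1.2,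
      (Cfsg.Agent.Helper41.ReeU.mem_U1_iff hK _).mpr ⟨0, x.1.1, x.1.2, rfl⟩⟩, by
      rw [← Subgroup.orderOf_coe]
      refine (Cfsg.Agent.Helper41.ReeU.orderOf_wordGLU_eq_three_iff hθ _ _ _).mpr ⟨rfl, ?_⟩
      by_contra h
      rw [not_or, not_not, not_not] at h
      exact x.2 (Prod.ext h.1 h.2)⟩
  have hf : Function.Bijective f := by
    constructor
    · rintro ⟨⟨u, v⟩, hx⟩ ⟨⟨u', v'⟩, hx'⟩ h
      have h1 := congrArg (fun y => ((y.1 : ↥(Cfsg.Lie.chevG2.posUnipotent K ⊓ Cfsg.Lie.twistedG2 K (3 ^ m))) :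
        GL Cfsg.Lie.chevG2.Idx K)) h
      obtain ⟨-, h2, h3⟩ := Cfsg.Agent.Helper41.ReeU.wordGLU_injective _ _ _ _ _ _ _ h1
      simp only at h2 h3
      subst h2 h3
      rfl
    · rintro ⟨⟨g, hg⟩, ho⟩
      obtain ⟨t, u, v, rfl⟩ := (Cfsg.Agent.Helper41.ReeU.mem_U1_iff hK g).mp hg
      rw [← Subgroup.orderOf_coe] at ho
      obtain ⟨rfl, huv⟩ := (Cfsg.Agent.Helper41.ReeU.orderOf_wordGLU_eq_three_iff hθ _ _ _).mp ho
      refine ⟨⟨(u, v), ?_⟩, rfl⟩
      intro h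
      rw [Prod.mk.injEq] at h
      rcases huv with h' | h'
      · exact h' h.1
      · exact h' h.2
  rw [← Nat.card_congr (Equiv.ofBijective f hf), Nat.card_eq_fintype_card, Fintype.card_subtype_compl,
    Fintype.card_subtype_eq, Fintype.card_prod, hK]
  ring_nf

end Cfsg.Agent.S1154
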