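import Cfsg.Statements.S1160
import Cfsg.Agent.Helper60.ConstStab

set_option autoImplicit false
open Cfsg

namespace Cfsg.Agent.S1160

/-- Let `p ≠ 2` be prime and `P` a finite `p`-group acting faithfully by additive automorphisms on a finite elementary abelian `q`-group `E` (`q` prime), such that `|P_a|` is the same for all `a ≠ 0`. Then `P` is cyclic and every non-identity element of `P` fixes only `0`. -/
theorem result {P E : Type*} [Group P] [Finite P]
    [AddCommGroup E] [Finite E] [DistribMulAction P E] [FaithfulSMul P E]
    {p q : ℕ} [Fact p.Prime] (hp2 : p ≠ 2) (hP : IsPGroup p P) (hq : q.Prime) (hE : ∀ e : E, q • e = 0)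
    (hconst : ∀ a b : E, a ≠ 0 → b ≠ 0 →
      Nat.card (MulAction.stabilizer P a) = Nat.card (MulAction.stabilizer P b)) :
    IsCyclic P ∧ ∀ g : P, g ≠ 1 → ∀ a : E, g • a = a → a = 0 := by
  by_cases hpq : p = q
  · subst hpq
    -- `P` is trivial
    have htriv : ∀ g : P, g = 1 := by
      intro g
      apply Cfsg.Agent.Helper60.ConstStab.eq_one_of_forall_smul (E := E)
      intro e
      by_cases he : e = 0
      · rw [he, smul_zero]
      · have hdvd : p ∣ Nat.card E := by
          have h1 : addOrderOf e = p := addOrderOf_eq_prime (hE e) he
          rw [← h1]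
          exact addOrderOf_dvd_natCard e
        obtain ⟨b, hb, hb0⟩ :=
          hP.exists_fixed_point_of_prime_dvd_card_of_fixed_point E hdvd (a := 0)
            (by intro g; exact smul_zero g)
        have hstab : MulAction.stabilizer P b = ⊤ := by
          rw [eq_top_iff]
          intro x _
          exact MulAction.mem_stabilizer_iff.2 (hb x)
        have hstab' : MulAction.stabilizer P e = ⊤ := by
          apply Subgroup.eq_top_of_card_eq
          rw [hconst e b he (Ne.symm hb0), hstab, Subgroup.card_top]
        have hg : g ∈ MulAction.stabilizer P e := by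
          rw [hstab']
          exact Subgroup.mem_top g
        exact MulAction.mem_stabilizer_iff.1 hg
    have hsub : Subsingleton P := ⟨fun a b => by rw [htriv a, htriv b]⟩
    exact ⟨inferInstance, fun g hg => absurd (htriv g) hg⟩
  · have hcyc := Cfsg.Agent.Helper60.ConstStab.cyclic_of_const hp2 hP hpq hq hE hconst
    refine ⟨hcyc, ?_⟩
    intro g hg a ha
    have hgc : g ∈ Subgroup.center P := by
      rw [Subgroup.mem_center_iff]
      intro h
      have : IsMulCommutative P := IsCyclic.isMulCommutative
      exact mul_comm' h g
    exact Cfsg.Agent.Helper60.ConstStab.central_fpf' hP hpq hq hE hconst hgc hg a ha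

end Cfsg.Agent.S1160
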