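import Cfsg.Statements.S1167
import Cfsg.Agent.Helper95.ZassEven

set_option autoImplicit false
open Cfsg

namespace Cfsg.Agent.S1167

/-- Let `G` be a finite simple Zassenhaus group on `Ω`, `U` a normal subgroup of `G_a` regular on `Ω` minus `a` which is an abelian 2-group, and `v` an involution with `v • a ≠ a`. Then there is a unique `u₀ ∈ U`, `u₀ ≠ 1`, with `v u₀ v = u₀ v u₀`. -/
theorem result {G Ω : Type*} [Group G] [Finite G] [MulAction G Ω] [Finite Ω]
    (hZ : Cfsg.IsZassenhausGroup G Ω) [IsSimpleGroup G] {a : Ω}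
    (U : Subgroup G) (hUle : U ≤ MulAction.stabilizer G a)
    (hUn : ∀ h ∈ MulAction.stabilizer G a, ∀ u ∈ U, h * u * h⁻¹ ∈ U)
    (hreg : ∀ c d : Ω, c ≠ a → d ≠ a → ∃! u : U, (u : G) • c = d)
    (hU2 : IsPGroup 2 U) (hUab : ∀ u ∈ U, ∀ u' ∈ U, u * u' = u' * u)
    (v : G) (hv1 : v ≠ 1) (hv2 : v * v = 1) (hva : v • a ≠ a) :
    ∃! u₀ : G, u₀ ∈ U ∧ u₀ ≠ 1 ∧ v * u₀ * v = u₀ * v * u₀ := by
  classical
  open Cfsg.Agent.Helper95.ZassEven Cfsg.Agent.Helper95.CT in
  haveI : Fintype Ω := Fintype.ofFinite Ω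
  have hexp := exponent_two hZ U hUle hUn hreg hU2 hUab
  have hcard := card_eq hZ U hUle hreg
  have hev := even_card hZ U hreg hU2
  have hoddΩ : Odd (Nat.card Ω) := by
    rw [hcard]; exact Even.add_one hev
  have hodd := odd_caE hZ U hUle hUn hreg hU2
  have hNeq := normalizer_eq hZ U hUle hUn hreg
  have hvinv : v⁻¹ = v := inv_eq_of_mul_eq_one_left hv2
  -- the fixed point of `v`
  haveI : Fact (Nat.Prime 2) := ⟨Nat.prime_two⟩
  let σ : Equiv.Perm Ω := MulAction.toPerm v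
  have hσ : σ ^ 2 ^ 1 = 1 := by
    rw [pow_one]
    ext x
    show v • (v • x) = x
    rw [← mul_smul, hv2, one_smul]
  have hnd : ¬ 2 ∣ Fintype.card Ω := by
    rw [← Nat.card_eq_fintype_card]
    rcases hoddΩ with ⟨m, hm⟩
    omega
  obtain ⟨c, hc⟩ := Equiv.Perm.exists_fixed_point_of_prime hnd hσ
  have hvc : v • c = c := hc
  have hca : c ≠ a := by
    intro h
    apply hva
    rw [← h]; exact hvc
  have hvva : v • (v • a) = a := by rw [← mul_smul, hv2, one_smul]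
  obtain ⟨u₀, hu₀, hu₀uniq⟩ := hreg (v • a) c hva hca
  have hu₀a : (u₀ : G) • a = a := MulAction.mem_stabilizer_iff.mp (hUle u₀.2)
  have hu₀sq : (u₀ : G) * (u₀ : G) = 1 := hexp _ u₀.2
  have hu₀c : (u₀ : G) • c = v • a := by
    rw [← hu₀, ← mul_smul, hu₀sq, one_smul]
  have hu₀1 : (u₀ : G) ≠ 1 := by
    intro h
    rw [h, one_smul] at hu₀
    exact hca (MulAction.injective v (hvc.trans hu₀.symm))
  -- uniqueness of the fixed point
  have hfixuniq : ∀ c' : Ω, v • c' = c' → c' = c := by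
    intro c' hc'
    by_contra hne
    exact no_invol_two_fixed hZ hoddΩ hv1 hv2 hne hc' hvc
  refine ⟨u₀, ⟨u₀.2, hu₀1, ?_⟩, ?_⟩
  · -- existence
    have hy2 : ((u₀ : G) * v * (u₀ : G)) * ((u₀ : G) * v * (u₀ : G)) = 1 := by
      calc ((u₀ : G) * v * (u₀ : G)) * ((u₀ : G) * v * (u₀ : G))
          = (u₀ : G) * v * ((u₀ : G) * (u₀ : G)) * v * (u₀ : G) := by group
        _ = (u₀ : G) * (v * v) * (u₀ : G) := by rw [hu₀sq]; group
        _ = 1 := by rw [hv2, mul_one, hu₀sq]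
    have hya : ((u₀ : G) * v * (u₀ : G)) • a = c := by
      rw [mul_smul, mul_smul, hu₀a, hu₀]
    have hyb : ((u₀ : G) * v * (u₀ : G)) • (v • a) = v • a := by
      rw [mul_smul, mul_smul, hu₀, hvc, hu₀c]
    -- `u₁ = v y v` is an involution of `G_a`, so lies in `U`
    have hu₁sq : (v * ((u₀ : G) * v * (u₀ : G)) * v) * (v * ((u₀ : G) * v * (u₀ : G)) * v) = 1 := by
      calc (v * ((u₀ : G) * v * (u₀ : G)) * v) * (v * ((u₀ : G) * v * (u₀ : G)) * v)
          = v * ((u₀ : G) * v * (u₀ : G)) * (v * v) * ((u₀ : G) * v * (u₀ : G)) * v := by group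
        _ = v * (((u₀ : G) * v * (u₀ : G)) * ((u₀ : G) * v * (u₀ : G))) * v := by
            rw [hv2]; group
        _ = 1 := by rw [hy2, mul_one, hv2]
    have hu₁a : (v * ((u₀ : G) * v * (u₀ : G)) * v) • a = a := by
      rw [mul_smul, mul_smul, hyb, hvva]
    have hu₁b : (v * ((u₀ : G) * v * (u₀ : G)) * v) • (v • a) = c := by
      rw [mul_smul, mul_smul, hvva, hya, hvc]
    have hu₁1 : v * ((u₀ : G) * v * (u₀ : G)) * v ≠ 1 := by
      intro h
      rw [h, one_smul] at hu₁b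
      exact hca (MulAction.injective v (hvc.trans hu₁b.symm))
    have hu₁ord : orderOf (v * ((u₀ : G) * v * (u₀ : G)) * v) = 2 := by
      apply orderOf_eq_prime
      · rw [pow_two]; exact hu₁sq
      · exact hu₁1
    have hu₁N : v * ((u₀ : G) * v * (u₀ : G)) * v ∈ Subgroup.normalizer (U : Set G) := by
      rw [hNeq, MulAction.mem_stabilizer_iff]; exact hu₁a
    have hu₁U : v * ((u₀ : G) * v * (u₀ : G)) * v ∈ U := invol_mem_of_odd hodd hu₁ord hu₁N
    have heq : (⟨v * ((u₀ : G) * v * (u₀ : G)) * v, hu₁U⟩ : U) = u₀ := hu₀uniq _ hu₁b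
    have heq' : v * ((u₀ : G) * v * (u₀ : G)) * v = (u₀ : G) := congrArg Subtype.val heq
    calc v * (u₀ : G) * v = v * (v * ((u₀ : G) * v * (u₀ : G)) * v) * v := by rw [heq']
      _ = (v * v) * ((u₀ : G) * v * (u₀ : G)) * (v * v) := by group
      _ = (u₀ : G) * v * (u₀ : G) := by rw [hv2, one_mul, mul_one]
  · -- uniqueness
    rintro k ⟨hk, hk1, hkeq⟩
    have hka : k • a = a := MulAction.mem_stabilizer_iff.mp (hUle hk)
    have h1 : v • (k • (v • a)) = k • (v • a) := by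
      have e1 : (v * k * v) • a = v • (k • (v • a)) := by rw [mul_smul, mul_smul]
      have e2 : (k * v * k) • a = k • (v • a) := by rw [mul_smul, mul_smul, hka]
      rw [← e1, hkeq, e2]
    have h2 : k • (v • a) = c := hfixuniq _ h1
    have := hu₀uniq ⟨k, hk⟩ h2
    rw [← this]

end Cfsg.Agent.S1167
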