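import Cfsg.Statements.S1168
-- import your own Cfsg.Agent.* helpers here

set_option autoImplicit false
open Cfsg

namespace Cfsg.Agent.S1168

open scoped BigOperators

/-!
Proof outline.  Take a `ZMod 2`-basis `b` of `F` and its dual basis `e` for the trace form, so that
the coordinates of `x` in `e` are `Tr (x * b i) = ∑ σ, σ (b i) * σ x`, sums over the automorphisms.
Expanding `q (∑ i, X i • e i)` with the polarization of `q` writes `q` as a combination of products
of two coordinates, i.e. of products `σ x * τ x`.
-/

section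

variable {F : Type*} [Field F] [Fintype F]

theorem finite_ringAut : Finite (F ≃+* F) :=
  Finite.of_injective (fun e : F ≃+* F => (e : F → F)) DFunLike.coe_injective

/-- A `Fintype` structure on the ring automorphisms of a finite field. -/
@[reducible] noncomputable def fintypeRingAut : Fintype (F ≃+* F) :=
  haveI := finite_ringAut (F := F)
  Fintype.ofFinite _

attribute [local instance] fintypeRingAut

/-- `g` is an `F`-combination of field automorphisms. -/
def IsLin (g : F → F) : Prop := ∃ a : (F ≃+* F) → F, ∀ x, g x = ∑ ρ, a ρ * ρ x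

/-- `g` is an `F`-combination of products of two field automorphisms. -/
def IsQuad (g : F → F) : Prop :=
  ∃ c : (F ≃+* F) × (F ≃+* F) → F, ∀ x, g x = ∑ p, c p * (p.1 x * p.2 x)

lemma IsLin.mul {g h : F → F} (hg : IsLin g) (hh : IsLin h) : IsQuad (fun x => g x * h x) := by
  obtain ⟨a, ha⟩ := hg
  obtain ⟨b, hb⟩ := hh
  refine ⟨fun p => a p.1 * b p.2, fun x => ?_⟩
  simp only [ha, hb, Finset.sum_mul_sum]
  rw [← Finset.sum_product', Finset.univ_product_univ]
  refine Finset.sum_congr rfl fun p _ => ?_
  ring

lemma IsQuad.zero : IsQuad (fun _ : F => (0 : F)) :=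
  ⟨fun _ => 0, fun x => by simp⟩

lemma IsQuad.add {g h : F → F} (hg : IsQuad g) (hh : IsQuad h) : IsQuad (fun x => g x + h x) := by
  obtain ⟨a, ha⟩ := hg
  obtain ⟨b, hb⟩ := hh
  refine ⟨fun p => a p + b p, fun x => ?_⟩
  simp only [ha, hb, ← Finset.sum_add_distrib]
  refine Finset.sum_congr rfl fun p _ => ?_
  ring

lemma IsQuad.mul_const {g : F → F} (hg : IsQuad g) (k : F) : IsQuad (fun x => g x * k) := by
  obtain ⟨a, ha⟩ := hg
  refine ⟨fun p => a p * k, fun x => ?_⟩
  simp only [ha, Finset.sum_mul]
  refine Finset.sum_congr rfl fun p _ => ?_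
  ring

lemma IsQuad.sum {ι : Type*} (S : Finset ι) (g : ι → F → F) (hg : ∀ i ∈ S, IsQuad (g i)) :
    IsQuad (fun x => ∑ i ∈ S, g i x) := by
  classical
  induction S using Finset.induction_on with
  | empty =>
    simp only [Finset.sum_empty]
    exact @IsQuad.zero F _ _
  | insert i S hi ih =>
    have h1 := (hg i (Finset.mem_insert_self i S)).add
      (ih fun j hj => hg j (Finset.mem_insert_of_mem hj))
    convert h1 using 2
    rw [Finset.sum_insert hi]

variable [CharP F 2]

/-- ring automorphisms are `ZMod 2`-algebra automorphisms -/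
noncomputable def autEquiv : 
    letI : Algebra (ZMod 2) F := ZMod.algebra F 2
    (F ≃ₐ[ZMod 2] F) ≃ (F ≃+* F) :=
  letI : Algebra (ZMod 2) F := ZMod.algebra F 2
  { toFun := fun σ => σ.toRingEquiv
    invFun := fun ρ => AlgEquiv.ofRingEquiv (f := ρ) (fun x => by
      have : (ρ : F →+* F).comp (algebraMap (ZMod 2) F) = algebraMap (ZMod 2) F :=
        Subsingleton.elim _ _
      exact RingHom.congr_fun this x)
    left_inv := fun σ => by ext; rfl
    right_inv := fun ρ => by ext; rfl }

lemma isLin_trace (b : F) :
    letI : Algebra (ZMod 2) F := ZMod.algebra F 2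
    IsLin (fun x : F => algebraMap (ZMod 2) F (Algebra.trace (ZMod 2) F (x * b))) := by
  letI : Algebra (ZMod 2) F := ZMod.algebra F 2
  refine ⟨fun ρ => ρ b, fun x => ?_⟩
  beta_reduce
  rw [trace_eq_sum_automorphisms]
  rw [← Fintype.sum_equiv (autEquiv (F := F)) (fun σ => σ (x * b)) (fun ρ => ρ b * ρ x)]
  intro σ
  show σ (x * b) = σ b * σ x
  rw [map_mul, mul_comm]

/-- the polarization of `q` -/
def pol (q : F → F) (u v : F) : F := q (u + v) + q u + q v

variable (q : F → F)
  (hq : ∀ x y z : F, q (x + y + z) + q (x + y) + q (x + z) + q (y + z) + q x + q y + q z = 0)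

include hq

lemma q_zero : q 0 = 0 := by
  have h := hq 0 0 0
  simp only [add_zero] at h
  have h2 : q 0 + q 0 = 0 := CharTwo.add_self_eq_zero _
  linear_combination h - 3 * h2

lemma pol_add_left (u u' v : F) : pol q (u + u') v = pol q u v + pol q u' v := by
  have h := hq u u' v
  have h2 : (2 : F) = 0 := CharTwo.two_eq_zero
  unfold pol
  linear_combination h - (q (u + v) + q (u' + v) + q u + q u' + q v) * h2

lemma pol_zero_left (v : F) : pol q 0 v = 0 := by
  unfold pol
  rw [zero_add, q_zero q hq]
  have h2 : q v + q v = 0 := CharTwo.add_self_eq_zero _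
  linear_combination h2

omit hq in
lemma pol_comm (u v : F) : pol q u v = pol q v u := by
  unfold pol
  rw [add_comm u v]
  ring

lemma pol_zero_right (u : F) : pol q u 0 = 0 := by
  rw [pol_comm, pol_zero_left q hq]

lemma pol_sum_left {ι : Type*} (S : Finset ι) (u : ι → F) (v : F) :
    pol q (∑ j ∈ S, u j) v = ∑ j ∈ S, pol q (u j) v := by
  classical
  induction S using Finset.induction_on with
  | empty => simp [pol_zero_left q hq]
  | insert i S hi ih =>
    rw [Finset.sum_insert hi, Finset.sum_insert hi, pol_add_left q hq, ih]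

omit hq in
lemma q_add (u v : F) : q (u + v) = pol q u v + q u + q v := by
  unfold pol
  have h2 : (2 : F) = 0 := CharTwo.two_eq_zero
  linear_combination (- q u - q v) * h2

lemma q_smul (X : ZMod 2) (u : F) :
    letI : Algebra (ZMod 2) F := ZMod.algebra F 2
    q (X • u) = algebraMap (ZMod 2) F X * algebraMap (ZMod 2) F X * q u := by
  let _ : Algebra (ZMod 2) F := ZMod.algebra F 2
  have hX : X = 0 ∨ X = 1 := by revert X; decide
  rcases hX with rfl | rfl
  · simp [q_zero q hq]
  · simp

lemma pol_smul (X Y : ZMod 2) (u v : F) :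
    letI : Algebra (ZMod 2) F := ZMod.algebra F 2
    pol q (X • u) (Y • v) = algebraMap (ZMod 2) F X * algebraMap (ZMod 2) F Y * pol q u v := by
  let _ : Algebra (ZMod 2) F := ZMod.algebra F 2
  have hX : X = 0 ∨ X = 1 := by revert X; decide
  have hY : Y = 0 ∨ Y = 1 := by revert Y; decide
  rcases hX with rfl | rfl <;> rcases hY with rfl | rfl
  · simp [pol_zero_left q hq]
  · simp [pol_zero_left q hq]
  · simp [pol_zero_right q hq]
  · simp

theorem isQuad_of_hq : IsQuad q := by
  classical
  letI : Algebra (ZMod 2) F := ZMod.algebra F 2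
  let b := Module.finBasis (ZMod 2) F
  let e := (Algebra.traceForm (ZMod 2) F).dualBasis (traceForm_nondegenerate (ZMod 2) F) b
  have hrepr : ∀ x i, e.repr x i = Algebra.trace (ZMod 2) F (x * b i) := by
    intro x i
    rw [LinearMap.BilinForm.dualBasis_repr_apply, Algebra.traceForm_apply]
  have hlin : ∀ i, IsLin (fun x : F => algebraMap (ZMod 2) F (e.repr x i)) := by
    intro i
    simp_rw [hrepr]
    exact isLin_trace (b i)
  have key : ∀ S : Finset _, IsQuad (fun x : F => q (∑ i ∈ S, e.repr x i • e i)) := by
    intro S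
    induction S using Finset.induction_on with
    | empty =>
      simp only [Finset.sum_empty, q_zero q hq]
      exact @IsQuad.zero F _ _
    | insert i S hi ih =>
      have h1 : ∀ x : F, q (∑ j ∈ insert i S, e.repr x j • e j) =
          (∑ j ∈ S, algebraMap (ZMod 2) F (e.repr x j) * algebraMap (ZMod 2) F (e.repr x i) *
              pol q (e j) (e i)) +
            algebraMap (ZMod 2) F (e.repr x i) * algebraMap (ZMod 2) F (e.repr x i) * q (e i) +
            q (∑ j ∈ S, e.repr x j • e j) := by
        intro x
        rw [Finset.sum_insert hi, q_add q, pol_comm q, pol_sum_left q hq, q_smul q hq]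
        simp_rw [pol_smul q hq]
      have hA : IsQuad (fun x : F => ∑ j ∈ S, algebraMap (ZMod 2) F (e.repr x j) *
          algebraMap (ZMod 2) F (e.repr x i) * pol q (e j) (e i)) :=
        IsQuad.sum S _ fun j _ => ((hlin j).mul (hlin i)).mul_const _
      have hB : IsQuad (fun x : F => algebraMap (ZMod 2) F (e.repr x i) *
          algebraMap (ZMod 2) F (e.repr x i) * q (e i)) :=
        ((hlin i).mul (hlin i)).mul_const _
      have := (hA.add hB).add ih
      convert this using 2
      exact h1 _
  have := key Finset.univ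
  convert this using 2
  rename_i x
  rw [e.sum_repr]

end

/-- For a finite field `F` of characteristic 2: if `q : F → F` is quadratic over the prime field, i.e. `(x, y) ↦ q (x + y) + q x + q y` is additive in each variable, then `q x = Σ c_{σ,τ} σ(x) τ(x)` for some coefficients indexed by pairs of field automorphisms. -/
theorem result {F : Type*} [Field F] [Fintype F] [CharP F 2]
    (q : F → F)
    (hq : ∀ x y z : F, q (x + y + z) + q (x + y) + q (x + z) + q (y + z) + q x + q y + q z = 0) :
    ∃ (s : Finset ((F ≃+* F) × (F ≃+* F))) (c : (F ≃+* F) × (F ≃+* F) → F),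
      ∀ x : F, q x = ∑ p ∈ s, c p * (p.1 x * p.2 x) := by
  letI := fintypeRingAut (F := F)
  obtain ⟨c, hc⟩ := isQuad_of_hq q hq
  exact ⟨Finset.univ, c, hc⟩

end Cfsg.Agent.S1168
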