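import Cfsg.Statements.S1176
import Cfsg.Agent.Helper20.Dihedral
import Mathlib.GroupTheory.Commutator.Basic

set_option autoImplicit false
open Cfsg

namespace Cfsg.Agent.S1176

open Cfsg.Agent.Helper20 in
open scoped commutatorElement in
/-- Let x₀ be an involution of the finite group G and D its conjugacy class. Assume (a) for each x ∈ D the subgroup W(x) generated by the members of D commuting with x is a 2-group of nilpotency class at most 2, and (b) the product of two distinct commuting members of D again lies in D. Then for all x, y ∈ D, if xy has even order greater than 2, its order is 4. -/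
theorem result {G : Type*} [Group G] [Finite G] (x₀ : G) (hx₀ : orderOf x₀ = 2) (ha : ∀ x : G, IsConj x₀ x → IsPGroup 2 ↥(Subgroup.closure {y : G | IsConj x₀ y ∧ Commute y x}) ∧ ⁅⁅Subgroup.closure {y : G | IsConj x₀ y ∧ Commute y x}, Subgroup.closure {y : G | IsConj x₀ y ∧ Commute y x}⁆, Subgroup.closure {y : G | IsConj x₀ y ∧ Commute y x}⁆ = ⊥) (hb : ∀ x y : G, IsConj x₀ x → IsConj x₀ y → x ≠ y → Commute x y → IsConj x₀ (x * y)) (x y : G) (hx : IsConj x₀ x) (hy : IsConj x₀ y) (heven : Even (orderOf (x * y))) (hgt : 2 < orderOf (x * y)) : orderOf (x * y) = 4 := by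
  have hx₀2 : x₀ * x₀ = 1 := by
    have h := pow_orderOf_eq_one x₀
    rwa [hx₀, pow_two] at h
  have hsq : ∀ v : G, IsConj x₀ v → v * v = 1 := by
    intro v hv
    obtain ⟨c, rfl⟩ := isConj_iff.mp hv
    calc c * x₀ * c⁻¹ * (c * x₀ * c⁻¹) = c * (x₀ * x₀) * c⁻¹ := by group
      _ = 1 := by rw [hx₀2, mul_one, mul_inv_cancel]
  have hxx := hsq x hx
  have hyy := hsq y hy
  obtain ⟨k, hk⟩ := heven
  have hk0 : 0 < k := by omega
  have hk2 : orderOf (x * y) = 2 * k := by omega
  obtain ⟨hconj, hne, hcomm, hmul, hwsq, -⟩ := dihedral_middle hxx hyy hk0 hk2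
  set u := x * y with hu
  -- the middle element is in the class
  have hw' : IsConj x₀ (u ^ k * x) := by
    rcases hconj with ⟨c, hc⟩ | ⟨c, hc⟩
    · rw [← hc]
      obtain ⟨d, rfl⟩ := isConj_iff.mp hx
      exact isConj_iff.mpr ⟨c * d, by group⟩
    · rw [← hc]
      obtain ⟨d, rfl⟩ := isConj_iff.mp hy
      exact isConj_iff.mpr ⟨c * d, by group⟩
  have hw : IsConj x₀ (u ^ k) := by
    have h1 := hb x (u ^ k * x) hx hw' (Ne.symm hne) hcomm
    have h2 : x * (u ^ k * x) = u ^ k := by
      rw [hcomm.eq]; exact hmul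
    rwa [h2] at h1
  obtain ⟨-, hcl⟩ := ha (u ^ k) hw
  set W := Subgroup.closure {y : G | IsConj x₀ y ∧ Commute y (u ^ k)} with hW
  have hwinv : (u ^ k)⁻¹ = u ^ k := inv_eq_self_of_sq hwsq
  have hxW : x ∈ W := by
    apply Subgroup.subset_closure
    refine ⟨hx, ?_⟩
    have h := inv_conj_mul_pow hxx hyy k
    rw [hwinv] at h
    show x * u ^ k = u ^ k * x
    calc x * u ^ k = x * u ^ k * (x * x) := by rw [hxx, mul_one]
      _ = (x * u ^ k * x) * x := by group
      _ = u ^ k * x := by rw [h]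
  have hyW : y ∈ W := by
    apply Subgroup.subset_closure
    refine ⟨hy, ?_⟩
    have h := inv_conj_mul_pow' hxx hyy k
    rw [hwinv] at h
    show y * u ^ k = u ^ k * y
    calc y * u ^ k = y * u ^ k * (y * y) := by rw [hyy, mul_one]
      _ = (y * u ^ k * y) * y := by group
      _ = u ^ k * y := by rw [h]
  have hmem : ⁅⁅x, y⁆, x⁆ ∈ ⁅⁅W, W⁆, W⁆ :=
    Subgroup.commutator_mem_commutator (Subgroup.commutator_mem_commutator hxW hyW) hxW
  rw [hcl, Subgroup.mem_bot] at hmem
  have hxi : x⁻¹ = x := inv_eq_self_of_sq hxx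
  have hyi : y⁻¹ = y := inv_eq_self_of_sq hyy
  have h4 : u ^ 4 = 1 := by
    have e1 : ⁅x, y⁆ = u ^ 2 := by
      rw [commutatorElement_def, hxi, hyi, hu, pow_two]; group
    have e2 : ⁅u ^ 2, x⁆ = u ^ 4 := by
      rw [commutatorElement_def, hxi]
      have h := inv_conj_mul_pow hxx hyy 2
      have : u ^ 2 * x * (u ^ 2)⁻¹ * x = u ^ 2 * (x * (u ^ 2)⁻¹ * x) := by group
      rw [this]
      have h' : x * (u ^ 2)⁻¹ * x = u ^ 2 := by
        rw [← h]
        simp only [mul_assoc]
        rw [← mul_assoc x x, hxx, one_mul, mul_one]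
      rw [h', ← pow_add]
    rw [← e2, ← e1]; exact hmem
  have hdvd : orderOf u ∣ 4 := orderOf_dvd_of_pow_eq_one h4
  have hle : orderOf u ≤ 4 := Nat.le_of_dvd (by norm_num) hdvd
  have : orderOf u = 3 ∨ orderOf u = 4 := by omega
  rcases this with h3 | h4'
  · rw [h3] at hdvd; norm_num at hdvd
  · exact h4'

end Cfsg.Agent.S1176
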