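import Cfsg.Statements.S1177
import Cfsg.Agent.Helper20.SylowConj

set_option autoImplicit false
open Cfsg

namespace Cfsg.Agent.S1177

open Cfsg.Agent.Helper20 in
/-- Let A be a nontrivial elementary abelian 2-subgroup of a finite group G which is a T.I. set (each conjugate of A meets A trivially or equals A) and which does not commute elementwise with any conjugate of A other than A itself. Then for every a ∈ A, a ≠ 1, every conjugate of A contained in C_G(a) is equal to A (A is weakly closed in C_G(a)). -/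
theorem result {G : Type*} [Group G] [Finite G] (A : Subgroup G) (hA : Cfsg.IsElementaryAbelian 2 A) (hA1 : A ≠ ⊥) (hTI : ∀ g : G, A.map (MulAut.conj g).toMonoidHom ⊓ A = ⊥ ∨ A.map (MulAut.conj g).toMonoidHom = A) (hb : ∀ g : G, (∀ a ∈ A, ∀ b ∈ A.map (MulAut.conj g).toMonoidHom, a * b = b * a) → A.map (MulAut.conj g).toMonoidHom = A) (a : G) (ha : a ∈ A) (ha1 : a ≠ 1) (g : G) (hg : A.map (MulAut.conj g).toMonoidHom ≤ Subgroup.centralizer ({a} : Set G)) : A.map (MulAut.conj g).toMonoidHom = A := by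
  -- basic facts on `A`
  have hcommA : ∀ x ∈ A, ∀ y ∈ A, x * y = y * x := by
    intro x hx y hy
    have := isMulCommutative_iff.mp hA.1 ⟨x, hx⟩ ⟨y, hy⟩
    exact congrArg Subtype.val this
  have hsqA : ∀ x ∈ A, x * x = 1 := by
    intro x hx
    have := hA.2 x hx
    rwa [pow_two] at this
  rcases hTI g with hBA | hBA
  swap
  · exact hBA
  set B := A.map (MulAut.conj g).toMonoidHom with hB
  have hmemB : ∀ x, x ∈ B ↔ g⁻¹ * x * g ∈ A := fun x => mem_map_conj_iff A g x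
  have hsqB : ∀ y ∈ B, y * y = 1 := by
    intro y hy
    have h1 := hsqA _ ((hmemB y).mp hy)
    have : y * y = g * ((g⁻¹ * y * g) * (g⁻¹ * y * g)) * g⁻¹ := by group
    rw [this, h1]; group
  have hcommB : ∀ x ∈ B, ∀ y ∈ B, x * y = y * x := by
    intro x hx y hy
    have h1 := hcommA _ ((hmemB x).mp hx) _ ((hmemB y).mp hy)
    have e1 : x * y = g * ((g⁻¹ * x * g) * (g⁻¹ * y * g)) * g⁻¹ := by group
    have e2 : y * x = g * ((g⁻¹ * y * g) * (g⁻¹ * x * g)) * g⁻¹ := by group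
    rw [e1, e2, h1]
  have hAB : ∀ x, x ∈ A → x ∈ B → x = 1 := by
    intro x hxA hxB
    have : x ∈ B ⊓ A := ⟨hxB, hxA⟩
    rw [hBA] at this
    exact Subgroup.mem_bot.mp this
  -- (i) every element of `B` normalizes `A`
  have hBnormA : ∀ b ∈ B, ∀ x, x ∈ A ↔ b⁻¹ * x * b ∈ A := by
    intro b hb' x
    rcases hTI b with h | h
    · exfalso
      have hab : a * b = b * a := by
        have := hg hb'
        rw [Subgroup.mem_centralizer_iff] at this
        exact this a rfl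
      have h1 : a ∈ A.map (MulAut.conj b).toMonoidHom := by
        rw [mem_map_conj_iff]
        have : b⁻¹ * a * b = a := by rw [mul_assoc, hab]; group
        rwa [this]
      have : a ∈ A.map (MulAut.conj b).toMonoidHom ⊓ A := ⟨h1, ha⟩
      rw [h] at this
      exact ha1 (Subgroup.mem_bot.mp this)
    · rw [← mem_map_conj_iff, h]
  have hBnormA' : ∀ b ∈ B, ∀ x ∈ A, b * x * b⁻¹ ∈ A := by
    intro b hb' x hx
    rw [hBnormA b hb']
    have : b⁻¹ * (b * x * b⁻¹) * b = x := by group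
    rwa [this]
  -- (F1)
  have F1 : ∀ a' ∈ A, a' ≠ 1 → ∀ b ∈ B, b ≠ 1 → a' * b = b * a' → ∀ y ∈ B, a' * y * a'⁻¹ ∈ B := by
    intro a' ha' ha'1 b hb' hb1 hab y hy
    rcases hTI (g⁻¹ * a' * g) with h | h
    · exfalso
      have hb0 : g⁻¹ * b * g ∈ A := (hmemB b).mp hb'
      have h1 : g⁻¹ * b * g ∈ A.map (MulAut.conj (g⁻¹ * a' * g)).toMonoidHom := by
        rw [mem_map_conj_iff]
        have : (g⁻¹ * a' * g)⁻¹ * (g⁻¹ * b * g) * (g⁻¹ * a' * g) = g⁻¹ * (a'⁻¹ * (b * a')) * g := by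
          group
        rw [this, ← hab]
        have : g⁻¹ * (a'⁻¹ * (a' * b)) * g = g⁻¹ * b * g := by group
        rwa [this]
      have : g⁻¹ * b * g ∈ A.map (MulAut.conj (g⁻¹ * a' * g)).toMonoidHom ⊓ A := ⟨h1, hb0⟩
      rw [h] at this
      have h2 : g⁻¹ * b * g = 1 := Subgroup.mem_bot.mp this
      apply hb1
      have : b = g * (g⁻¹ * b * g) * g⁻¹ := by group
      rw [this, h2]; group
    · rw [hmemB]
      have hy0 : g⁻¹ * y * g ∈ A := (hmemB y).mp hy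
      have key : ∀ x, x ∈ A ↔ (g⁻¹ * a' * g)⁻¹ * x * (g⁻¹ * a' * g) ∈ A := by
        intro x
        rw [← mem_map_conj_iff, h]
      rw [key]
      have : (g⁻¹ * a' * g)⁻¹ * (g⁻¹ * (a' * y * a'⁻¹) * g) * (g⁻¹ * a' * g) = g⁻¹ * y * g := by group
      rwa [this]
  -- (F2)
  have F2 : ∀ a' ∈ A, (∀ y ∈ B, a' * y * a'⁻¹ ∈ B) → ∀ y ∈ B, a' * y = y * a' := by
    intro a' ha' hn y hy
    have h1 : a' * y * a'⁻¹ * y⁻¹ ∈ B := B.mul_mem (hn y hy) (B.inv_mem hy)
    have h2 : a' * y * a'⁻¹ * y⁻¹ ∈ A := by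
      have : a' * y * a'⁻¹ * y⁻¹ = a' * (y * a'⁻¹ * y⁻¹) := by group
      rw [this]
      exact A.mul_mem ha' (hBnormA' y hy _ (A.inv_mem ha'))
    have h3 := hAB _ h2 h1
    calc a' * y = (a' * y * a'⁻¹ * y⁻¹) * y * a' := by group
      _ = y * a' := by rw [h3, one_mul]
  -- (F3)
  have F3 : ∀ a' ∈ A, ∀ b ∈ B, ∀ y ∈ B, (a' * b * a'⁻¹ * b⁻¹) * y = y * (a' * b * a'⁻¹ * b⁻¹) := by
    intro a' ha' b hb' y hy
    have hbi : b⁻¹ = b := inv_eq_of_mul_eq_one_right (hsqB b hb')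
    have hai : a'⁻¹ = a' := inv_eq_of_mul_eq_one_right (hsqA a' ha')
    have hcA : a' * b * a'⁻¹ * b⁻¹ ∈ A := by
      have : a' * b * a'⁻¹ * b⁻¹ = a' * (b * a'⁻¹ * b⁻¹) := by group
      rw [this]
      exact A.mul_mem ha' (hBnormA' b hb' _ (A.inv_mem ha'))
    by_cases hc1 : a' * b * a'⁻¹ * b⁻¹ = 1
    · rw [hc1, one_mul, mul_one]
    by_cases hb1 : b = 1
    · exfalso; apply hc1; rw [hb1]; group
    -- c commutes with b
    have hcb : (a' * b * a'⁻¹ * b⁻¹) * b = b * (a' * b * a'⁻¹ * b⁻¹) := by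
      have h1 : b * a' * b⁻¹ ∈ A := hBnormA' b hb' a' ha'
      have h2 := hcommA a' ha' _ h1
      rw [hbi] at h2
      rw [hai, hbi]
      calc a' * b * a' * b * b = (a' * (b * a' * b)) * b := by group
        _ = (b * a' * b * a') * b := by rw [h2]
        _ = b * (a' * b * a' * b) := by group
    exact F2 _ hcA (F1 _ hcA hc1 b hb' hb1 hcb) y hy
  -- (F5) every element of `A` normalizes `B`
  have F5 : ∀ a' ∈ A, ∀ y ∈ B, a' * y * a'⁻¹ ∈ B := by
    intro a' ha' y hy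
    have hcomm : ∀ x ∈ A, ∀ w ∈ A.map (MulAut.conj (g⁻¹ * a' * g)).toMonoidHom, x * w = w * x := by
      intro x hx w hw
      rw [mem_map_conj_iff] at hw
      -- b := g * (h⁻¹ w h) * g⁻¹ ∈ B, and g w g⁻¹ = a' b a'⁻¹
      set b := g * ((g⁻¹ * a' * g)⁻¹ * w * (g⁻¹ * a' * g)) * g⁻¹ with hb_def
      have hbB : b ∈ B := by
        rw [hmemB]
        have : g⁻¹ * b * g = (g⁻¹ * a' * g)⁻¹ * w * (g⁻¹ * a' * g) := by rw [hb_def]; group
        rwa [this]
      have hxB : g * x * g⁻¹ ∈ B := by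
        rw [hmemB]
        have : g⁻¹ * (g * x * g⁻¹) * g = x := by group
        rwa [this]
      have hw' : g * w * g⁻¹ = (a' * b * a'⁻¹ * b⁻¹) * b := by rw [hb_def]; group
      have h1 := F3 a' ha' b hbB (g * x * g⁻¹) hxB
      have h2 := hcommB b hbB _ hxB
      have h3 : (g * x * g⁻¹) * (g * w * g⁻¹) = (g * w * g⁻¹) * (g * x * g⁻¹) := by
        rw [hw']
        calc g * x * g⁻¹ * (a' * b * a'⁻¹ * b⁻¹ * b)
            = (g * x * g⁻¹ * (a' * b * a'⁻¹ * b⁻¹)) * b := by group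
          _ = ((a' * b * a'⁻¹ * b⁻¹) * (g * x * g⁻¹)) * b := by rw [h1]
          _ = (a' * b * a'⁻¹ * b⁻¹) * ((g * x * g⁻¹) * b) := by group
          _ = (a' * b * a'⁻¹ * b⁻¹) * (b * (g * x * g⁻¹)) := by rw [h2]
          _ = a' * b * a'⁻¹ * b⁻¹ * b * (g * x * g⁻¹) := by group
      calc x * w = g⁻¹ * ((g * x * g⁻¹) * (g * w * g⁻¹)) * g := by group
        _ = g⁻¹ * ((g * w * g⁻¹) * (g * x * g⁻¹)) * g := by rw [h3]
        _ = w * x := by group
    have h := hb _ hcomm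
    rw [hmemB]
    have hy0 : g⁻¹ * y * g ∈ A := (hmemB y).mp hy
    have key : ∀ x, x ∈ A ↔ (g⁻¹ * a' * g)⁻¹ * x * (g⁻¹ * a' * g) ∈ A := by
      intro x
      rw [← mem_map_conj_iff, h]
    rw [key]
    have : (g⁻¹ * a' * g)⁻¹ * (g⁻¹ * (a' * y * a'⁻¹) * g) * (g⁻¹ * a' * g) = g⁻¹ * y * g := by group
    rwa [this]
  exact hb g (fun a' ha' y hy => F2 a' ha' (F5 a' ha') y hy)

end Cfsg.Agent.S1177
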