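import Cfsg.Statements.S1178
import Cfsg.Agent.Helper20.SylowConj

set_option autoImplicit false
open Cfsg

namespace Cfsg.Agent.S1178

open Cfsg.Agent.Helper20 in
/-- Let A be a subgroup of a Sylow 2-subgroup S of the finite group G which is weakly closed in S. If a conjugate g A g⁻¹ commutes elementwise with A, then g A g⁻¹ = A. -/
theorem result {G : Type*} [Group G] [Finite G] (S : Sylow 2 G) (A : Subgroup G) (hW : Cfsg.IsWeaklyClosed A (S : Subgroup G)) (g : G) (hc : ∀ a ∈ A, ∀ b ∈ A.map (MulAut.conj g).toMonoidHom, a * b = b * a) : A.map (MulAut.conj g).toMonoidHom = A := by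
  haveI : Fact (Nat.Prime 2) := ⟨Nat.prime_two⟩
  have hA2 : IsPGroup 2 A := S.isPGroup'.to_le hW.1
  have hB2 : IsPGroup 2 (A.map (MulAut.conj g).toMonoidHom) := hA2.map _
  have hAB : A ≤ Subgroup.normalizer ((A.map (MulAut.conj g).toMonoidHom : Subgroup G) : Set G) := by
    rw [Subgroup.le_normalizer_iff]
    intro h hh k hk
    have : h * k * h⁻¹ = k := by rw [hc h hh k hk]; group
    rwa [this]
  have hsup : IsPGroup 2 (A ⊔ A.map (MulAut.conj g).toMonoidHom : Subgroup G) :=
    hA2.to_sup_of_normal_right' hB2 hAB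
  obtain ⟨h, hh⟩ := exists_conj_le_sylow S hsup
  have h1 : A.map (MulAut.conj h).toMonoidHom ≤ S :=
    (Subgroup.map_mono le_sup_left).trans hh
  have h2 : (A.map (MulAut.conj g).toMonoidHom).map (MulAut.conj h).toMonoidHom ≤ S :=
    (Subgroup.map_mono le_sup_right).trans hh
  have e1 := hW.2 h h1
  rw [map_conj_map_conj] at h2
  have e2 := hW.2 (h * g) h2
  rw [← map_conj_map_conj] at e2
  have : (A.map (MulAut.conj g).toMonoidHom).map (MulAut.conj h).toMonoidHom
      = A.map (MulAut.conj h).toMonoidHom := e2.trans e1.symm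
  exact Subgroup.map_injective (MulAut.conj h).injective this

end Cfsg.Agent.S1178
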