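import Cfsg.Statements.S1181
import Cfsg.Agent.Helper20.Isolated

set_option autoImplicit false
open Cfsg

namespace Cfsg.Agent.S1181

open Cfsg.Agent.Helper20 in
/-- Let z be an isolated involution of the finite group G and N a normal subgroup with z ∉ N. Then the centralizer of zN in G/N is the image of C_G(z), and zN is an isolated involution of G/N. -/
theorem result {G : Type*} [Group G] [Finite G] (z : G) (hz : Cfsg.IsIsolatedInvolution z) (N : Subgroup G) [N.Normal] (hzN : z ∉ N) : Subgroup.centralizer ({(QuotientGroup.mk z : G ⧸ N)} : Set (G ⧸ N)) = (Subgroup.centralizer ({z} : Set G)).map (QuotientGroup.mk' N) ∧ Cfsg.IsIsolatedInvolution (QuotientGroup.mk z : G ⧸ N) := by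
  have hzz := isolated_sq hz
  have hzi := isolated_inv hz
  constructor
  · ext x
    constructor
    · intro hx
      obtain ⟨g, rfl⟩ := QuotientGroup.mk_surjective x
      rw [Subgroup.mem_centralizer_iff] at hx
      have h1 := hx _ rfl
      -- z * g = g * z mod N
      have h2 : ((z * (g * z * g⁻¹) : G) : G ⧸ N) = 1 := by
        have : ((z * (g * z * g⁻¹) : G) : G ⧸ N) = (z : G ⧸ N) * (g : G ⧸ N) * (z : G ⧸ N) * (g : G ⧸ N)⁻¹ := by
          simp [mul_assoc]
        rw [this, h1]
        have hz2 : (z : G ⧸ N) * (z : G ⧸ N) = 1 := by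
          rw [← QuotientGroup.mk_mul, hzz]; rfl
        rw [mul_assoc (g : G ⧸ N), hz2, mul_one, mul_inv_cancel]
      have huN : z * (g * z * g⁻¹) ∈ N := (QuotientGroup.eq_one_iff _).mp h2
      obtain ⟨k, hk⟩ := isolated_conj_by_pow hz g
      set u := z * (g * z * g⁻¹) with hu
      rw [Subgroup.mem_map]
      refine ⟨(u ^ k)⁻¹ * g, ?_, ?_⟩
      · rw [Subgroup.mem_centralizer_iff]
        intro y hy
        rw [Set.mem_singleton_iff] at hy
        subst hy
        calc y * ((u ^ k)⁻¹ * g) = (u ^ k)⁻¹ * (u ^ k * y * (u ^ k)⁻¹) * g := by group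
          _ = (u ^ k)⁻¹ * (g * y * g⁻¹) * g := by rw [hk]
          _ = (u ^ k)⁻¹ * g * y := by group
      · show (((u ^ k)⁻¹ * g : G) : G ⧸ N) = (g : G ⧸ N)
        rw [QuotientGroup.mk_mul]
        have : (((u ^ k)⁻¹ : G) : G ⧸ N) = 1 :=
          (QuotientGroup.eq_one_iff _).mpr (N.inv_mem (N.pow_mem huN k))
        rw [this, one_mul]
    · intro hx
      rw [Subgroup.mem_map] at hx
      obtain ⟨c, hc, rfl⟩ := hx
      rw [Subgroup.mem_centralizer_iff] at hc ⊢
      intro y hy
      rw [Set.mem_singleton_iff] at hy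
      subst hy
      have := hc z rfl
      show (z : G ⧸ N) * (c : G ⧸ N) = (c : G ⧸ N) * (z : G ⧸ N)
      rw [← QuotientGroup.mk_mul, ← QuotientGroup.mk_mul, this]
  · constructor
    · have hz2 : (z : G ⧸ N) ^ 2 = 1 := by
        rw [pow_two, ← QuotientGroup.mk_mul, hzz]; rfl
      have hz1 : (z : G ⧸ N) ≠ 1 := by
        intro h
        exact hzN ((QuotientGroup.eq_one_iff _).mp h)
      exact orderOf_eq_prime hz2 hz1
    · intro x hc
      obtain ⟨g, rfl⟩ := QuotientGroup.mk_surjective x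
      obtain ⟨j, hj⟩ := isolated_odd_order hz g
      set t := g * z * g⁻¹ with ht
      have htt : t * t = 1 := conj_sq hzz g
      have hti : t⁻¹ = t := inv_eq_self_of_sq htt
      have hc' : (z : G ⧸ N) * (t : G ⧸ N) = (t : G ⧸ N) * (z : G ⧸ N) := by
        have : (t : G ⧸ N) = (g : G ⧸ N) * (z : G ⧸ N) * (g : G ⧸ N)⁻¹ := by
          rw [ht]; simp
        rw [this]; exact hc
      -- (z t)^2 ∈ N
      have h2 : (((z * t) * (z * t) : G) : G ⧸ N) = 1 := by
        have : (((z * t) * (z * t) : G) : G ⧸ N) = ((z : G ⧸ N) * (t : G ⧸ N)) * ((z : G ⧸ N) * (t : G ⧸ N)) := by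
          simp
        rw [this]
        nth_rewrite 2 [hc']
        have hz2 : (z : G ⧸ N) * (z : G ⧸ N) = 1 := by
          rw [← QuotientGroup.mk_mul, hzz]; rfl
        have ht2 : (t : G ⧸ N) * (t : G ⧸ N) = 1 := by
          rw [← QuotientGroup.mk_mul, htt]; rfl
        calc (z : G ⧸ N) * (t : G ⧸ N) * ((t : G ⧸ N) * (z : G ⧸ N))
            = (z : G ⧸ N) * ((t : G ⧸ N) * (t : G ⧸ N)) * (z : G ⧸ N) := by group
          _ = 1 := by rw [ht2, mul_one, hz2]
      have hsqN : (z * t) * (z * t) ∈ N := (QuotientGroup.eq_one_iff _).mp h2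
      have hztN : z * t ∈ N := by
        have : z * t = ((z * t) * (z * t)) ^ (j + 1) := by
          rw [← pow_two, ← pow_mul]
          have : 2 * (j + 1) = (2 * j + 1) + 1 := by ring
          rw [this, pow_succ, ← hj, pow_orderOf_eq_one, one_mul]
        rw [this]
        exact N.pow_mem hsqN _
      have h3 : ((z * t : G) : G ⧸ N) = 1 := (QuotientGroup.eq_one_iff _).mpr hztN
      have h4 : (t : G ⧸ N) = (z : G ⧸ N) := by
        have : (z : G ⧸ N) * (t : G ⧸ N) = 1 := by rw [← QuotientGroup.mk_mul]; exact h3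
        have h5 : (t : G ⧸ N) = (z : G ⧸ N)⁻¹ := eq_inv_of_mul_eq_one_right this
        rw [h5, ← QuotientGroup.mk_inv, hzi]
      have : (g : G ⧸ N) * (z : G ⧸ N) * (g : G ⧸ N)⁻¹ = (t : G ⧸ N) := by
        rw [ht]; simp
      rw [this, h4]

end Cfsg.Agent.S1181
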