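import Cfsg.Statements.S1182
import Cfsg.Agent.Helper20.Isolated

set_option autoImplicit false
open Cfsg

namespace Cfsg.Agent.S1182

open Cfsg.Agent.Helper20 in
/-- Let z be an isolated involution of the finite group G and H a subgroup normalized by z. If x, y ∈ H both commute with z and y = h x h⁻¹ for some h ∈ H, then y = c x c⁻¹ for some c ∈ H commuting with z. -/
theorem result {G : Type*} [Group G] [Finite G] (z : G) (hz : Cfsg.IsIsolatedInvolution z) (H : Subgroup G) (hzH : z ∈ Subgroup.normalizer (H : Set G)) (x y : G) (hx : x ∈ H) (hy : y ∈ H) (hxz : Commute x z) (hyz : Commute y z) (h : G) (hh : h ∈ H) (hconj : h * x * h⁻¹ = y) : ∃ c ∈ H, Commute c z ∧ c * x * c⁻¹ = y := by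
  have hzz := isolated_sq hz
  have hzi := isolated_inv hz
  obtain ⟨k, hk⟩ := isolated_conj_by_pow hz h⁻¹
  rw [inv_inv] at hk
  set u := z * (h⁻¹ * z * h) with hu
  -- u ∈ H
  have huH : u ∈ H := by
    have h1 : z * h⁻¹ * z⁻¹ ∈ H := (Subgroup.mem_normalizer_iff.mp hzH h⁻¹).mp (H.inv_mem hh)
    have : u = (z * h⁻¹ * z⁻¹) * h := by rw [hu, hzi]; group
    rw [this]
    exact H.mul_mem h1 hh
  -- u commutes with x
  have hxz' : x * z = z * x := hxz
  have hyz' : y * z = z * y := hyz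
  have hxu : x * u = u * x := by
    have h2 : x * (h⁻¹ * z * h) = (h⁻¹ * z * h) * x := by
      calc x * (h⁻¹ * z * h) = h⁻¹ * ((h * x * h⁻¹) * z) * h := by group
        _ = h⁻¹ * (z * (h * x * h⁻¹)) * h := by rw [hconj, hyz']
        _ = (h⁻¹ * z * h) * x := by group
    calc x * u = (x * z) * (h⁻¹ * z * h) := by rw [hu]; group
      _ = z * (x * (h⁻¹ * z * h)) := by rw [hxz']; group
      _ = u * x := by rw [h2, hu]; group
  have hxuk : x * u ^ k = u ^ k * x := (Commute.pow_right (show Commute x u from hxu) k)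
  refine ⟨h * u ^ k, H.mul_mem hh (H.pow_mem huH k), ?_, ?_⟩
  · show h * u ^ k * z = z * (h * u ^ k)
    have : h * u ^ k * z = h * (u ^ k * z * (u ^ k)⁻¹) * u ^ k := by group
    rw [this, hk]
    group
  · calc h * u ^ k * x * (h * u ^ k)⁻¹ = h * (u ^ k * x) * (u ^ k)⁻¹ * h⁻¹ := by group
      _ = h * (x * u ^ k) * (u ^ k)⁻¹ * h⁻¹ := by rw [hxuk]
      _ = h * x * h⁻¹ := by group
      _ = y := hconj

end Cfsg.Agent.S1182
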