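import Cfsg.Statements.S1185
import Cfsg.Agent.Helper20.Isolated

set_option autoImplicit false
open Cfsg

namespace Cfsg.Agent.S1185

open Cfsg.Agent.Helper20 in
/-- Let z be an isolated involution of the finite group G with centralizer C. Then for every g ∈ G there is exactly one element k in the coset gC that has odd order and is inverted by z. -/
theorem result {G : Type*} [Group G] [Finite G] (z : G) (hz : Cfsg.IsIsolatedInvolution z) (g : G) : ∃! k : G, (Odd (orderOf k) ∧ z * k * z⁻¹ = k⁻¹) ∧ g⁻¹ * k ∈ Subgroup.centralizer ({z} : Set G) := by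
  have hzz := isolated_sq hz
  have hzi := isolated_inv hz
  have htt := conj_sq hzz g
  -- general facts about an element `k` inverted by `z`
  have hconj : ∀ k : G, z * k * z⁻¹ = k⁻¹ → k * z * k⁻¹ = k * k * z := by
    intro k hk
    rw [← hk, hzi]
    simp only [mul_assoc]
    rw [← mul_assoc z z, hzz, one_mul]
  have hcent : ∀ k : G, g⁻¹ * k ∈ Subgroup.centralizer ({z} : Set G) ↔ k * z * k⁻¹ = g * z * g⁻¹ := by
    intro k
    rw [Subgroup.mem_centralizer_iff]
    constructor
    · intro h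
      have h1 := h z rfl
      calc k * z * k⁻¹ = g * (g⁻¹ * k * z) * k⁻¹ := by group
        _ = g * (z * (g⁻¹ * k)) * k⁻¹ := by rw [h1]
        _ = g * z * g⁻¹ := by group
    · intro h y hy
      rw [Set.mem_singleton_iff] at hy
      subst hy
      calc y * (g⁻¹ * k) = g⁻¹ * (g * y * g⁻¹) * k := by group
        _ = g⁻¹ * (k * y * k⁻¹) * k := by rw [h]
        _ = g⁻¹ * k * y := by group
  obtain ⟨j, hj⟩ : Odd (orderOf (g * z * g⁻¹ * z)) := by
    rw [orderOf_mul_comm']; exact isolated_odd_order hz g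
  set a := g * z * g⁻¹ * z with ha
  have hainv : z * a * z⁻¹ = a⁻¹ := by
    rw [ha, hzi, mul_inv_rev, mul_inv_rev, mul_inv_rev, inv_inv, hzi]
    simp only [mul_assoc]
    rw [hzz, mul_one]
  have hkk : a ^ (j + 1) * a ^ (j + 1) = a := by
    rw [← pow_add]
    have : j + 1 + (j + 1) = (2 * j + 1) + 1 := by ring
    rw [this, pow_succ, ← hj, pow_orderOf_eq_one, one_mul]
  have hkinv : z * a ^ (j + 1) * z⁻¹ = (a ^ (j + 1))⁻¹ := by
    rw [← conj_pow, hainv, inv_pow]
  refine ⟨a ^ (j + 1), ⟨⟨?_, hkinv⟩, ?_⟩, ?_⟩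
  · have hdvd : orderOf (a ^ (j + 1)) ∣ orderOf a := orderOf_pow_dvd (j + 1)
    have : Odd (orderOf a) := ⟨j, hj⟩
    exact Odd.of_dvd_nat this hdvd
  · rw [hcent, hconj _ hkinv, hkk, ha]
    simp only [mul_assoc]
    rw [hzz, mul_one]
  · rintro k' ⟨⟨hodd, hinv⟩, hmem⟩
    have h1 : k' * k' * z = g * z * g⁻¹ := by
      rw [← hconj _ hinv, ← hcent]; exact hmem
    have h2 : a ^ (j + 1) * a ^ (j + 1) * z = g * z * g⁻¹ := by
      rw [hkk, ha]
      simp only [mul_assoc]
      rw [hzz, mul_one]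
    have h3 : k' * k' = a ^ (j + 1) * a ^ (j + 1) := mul_right_cancel (h1.trans h2.symm)
    have hodd2 : Odd (orderOf (a ^ (j + 1))) := by
      have hdvd : orderOf (a ^ (j + 1)) ∣ orderOf a := orderOf_pow_dvd (j + 1)
      have : Odd (orderOf a) := ⟨j, hj⟩
      exact Odd.of_dvd_nat this hdvd
    exact eq_of_sq_eq_of_odd hodd hodd2 h3

end Cfsg.Agent.S1185
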