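import Cfsg.Statements.S1183
import Cfsg.Agent.Helper20.Isolated
import Cfsg.Agent.Lib.Cores
import Cfsg.Agent.Helper76.TransferSq
import Cfsg.Agent.S1185
import Cfsg.Agent.S1180

set_option autoImplicit false
open Cfsg

namespace Cfsg.Agent.S1183

open Cfsg.Agent.Helper20

variable {G : Type*} [Group G]

/-- odd order elements of a subgroup are odd order elements of the group -/
theorem map_pResidual_le (C : Subgroup G) :
    (Cfsg.pResidual 2 C).map C.subtype ≤ Cfsg.pResidual 2 G := by
  unfold Cfsg.pResidual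
  rw [MonoidHom.map_closure, Subgroup.closure_le]
  rintro _ ⟨c, hc, rfl⟩
  apply Subgroup.subset_closure
  show Nat.Coprime (orderOf (C.subtype c)) 2
  rw [Subgroup.coe_subtype, Subgroup.orderOf_coe]
  exact hc

/-- The centralizer of an isolated involution contains a Sylow 2-subgroup, so has odd index. -/
theorem odd_index_centralizer [Finite G] {z : G} (hz : Cfsg.IsIsolatedInvolution z) :
    Odd (Subgroup.centralizer ({z} : Set G)).index := by
  have : Fact (Nat.Prime 2) := ⟨Nat.prime_two⟩
  have hzz := isolated_sq hz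
  have hzi := isolated_inv hz
  have h2 : IsPGroup 2 (Subgroup.zpowers z) := by
    apply IsPGroup.of_card (n := 1)
    rw [Nat.card_zpowers, hz.1, pow_one]
  obtain ⟨T, hT⟩ := h2.exists_le_sylow
  have hzT : z ∈ (T : Subgroup G) := hT (Subgroup.mem_zpowers z)
  have hTC : (T : Subgroup G) ≤ Subgroup.centralizer ({z} : Set G) := by
    intro g hg
    rw [Subgroup.mem_centralizer_iff]
    intro y hy
    rw [Set.mem_singleton_iff] at hy
    subst hy
    have huT : y * (g * y * g⁻¹) ∈ (T : Subgroup G) :=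
      T.mul_mem hzT (T.mul_mem (T.mul_mem hg hzT) (T.inv_mem hg))
    obtain ⟨k, hk⟩ := T.isPGroup' ⟨_, huT⟩
    have hk' : (y * (g * y * g⁻¹)) ^ 2 ^ k = 1 := by
      have := congrArg Subtype.val hk
      simpa using this
    have hodd := isolated_odd_order hz g
    have hd := orderOf_dvd_of_pow_eq_one hk'
    have hcop : Nat.Coprime (orderOf (y * (g * y * g⁻¹))) (2 ^ k) :=
      Nat.Coprime.pow_right k (Nat.coprime_two_right.mpr hodd)
    have h1 : orderOf (y * (g * y * g⁻¹)) = 1 := Nat.Coprime.eq_one_of_dvd hcop hd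
    have h3 : y * (g * y * g⁻¹) = 1 := orderOf_eq_one_iff.mp h1
    calc y * g = y * (g * y * g⁻¹) * g * y⁻¹ := by group
      _ = g * y := by rw [h3, hzi]; group
  have hdvd : (Subgroup.centralizer ({z} : Set G)).index ∣ (T : Subgroup G).index :=
    Subgroup.index_dvd_of_le hTC
  have hTodd : ¬ 2 ∣ (T : Subgroup G).index := T.not_dvd_index
  rw [← Nat.not_even_iff_odd, even_iff_two_dvd]
  exact fun h => hTodd (h.trans hdvd)

/-- The centralizer of an isolated involution controls its own fusion. -/
theorem fusion_control [Finite G] {z : G} (hz : Cfsg.IsIsolatedInvolution z) (g y : G)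
    (hy : y ∈ Subgroup.centralizer ({z} : Set G))
    (hw : g⁻¹ * y * g ∈ Subgroup.centralizer ({z} : Set G)) :
    ∃ c ∈ Subgroup.centralizer ({z} : Set G), g⁻¹ * y * g = c⁻¹ * y * c := by
  rw [Subgroup.mem_centralizer_iff] at hy hw
  have hy' : z * y = y * z := hy z rfl
  have hw' : z * (g⁻¹ * y * g) = (g⁻¹ * y * g) * z := hw z rfl
  have hzL : z ∈ Subgroup.centralizer ({y} : Set G) := by
    rw [Subgroup.mem_centralizer_iff]
    intro v hv
    rw [Set.mem_singleton_iff] at hv
    subst hv
    exact hy'.symm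
  have hgL : g * z * g⁻¹ ∈ Subgroup.centralizer ({y} : Set G) := by
    rw [Subgroup.mem_centralizer_iff]
    intro v hv
    rw [Set.mem_singleton_iff] at hv
    subst hv
    calc v * (g * z * g⁻¹) = g * ((g⁻¹ * v * g) * z) * g⁻¹ := by group
      _ = g * (z * (g⁻¹ * v * g)) * g⁻¹ := by rw [hw']
      _ = g * z * g⁻¹ * v := by group
  obtain ⟨l, hl, hlz⟩ := Cfsg.Agent.S1180.result z hz _ hzL g hgL
  rw [Subgroup.mem_centralizer_iff] at hl
  have hly : y * l = l * y := hl y rfl
  refine ⟨l⁻¹ * g, ?_, ?_⟩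
  · rw [Subgroup.mem_centralizer_iff]
    intro v hv
    rw [Set.mem_singleton_iff] at hv
    subst hv
    calc v * (l⁻¹ * g) = l⁻¹ * (l * v * l⁻¹) * g := by group
      _ = l⁻¹ * (g * v * g⁻¹) * g := by rw [hlz]
      _ = l⁻¹ * g * v := by group
  · calc g⁻¹ * y * g = g⁻¹ * (y * l) * l⁻¹ * g := by group
      _ = g⁻¹ * (l * y) * l⁻¹ * g := by rw [hly]
      _ = (l⁻¹ * g)⁻¹ * y * (l⁻¹ * g) := by group

/-- Let z be an isolated involution of the finite group G and C = C_G(z). Then the subgroup of G generated by its elements of odd order is all of G if and only if the subgroup of C generated by its elements of odd order is all of C. -/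
theorem result {G : Type*} [Group G] [Finite G] (z : G) (hz : Cfsg.IsIsolatedInvolution z) : Cfsg.pResidual 2 G = ⊤ ↔ Cfsg.pResidual 2 ↥(Subgroup.centralizer ({z} : Set G)) = ⊤ := by
  have hprime : Fact (Nat.Prime 2) := ⟨Nat.prime_two⟩
  set C := Subgroup.centralizer ({z} : Set G) with hC
  constructor
  · intro hG
    -- the quotient of C by its 2-residual, abelianized
    set R := Cfsg.pResidual 2 C with hR
    have hRn : R.Normal := Cfsg.Agent.Lib.pResidual_normal 2
    have hQ : IsPGroup 2 (C ⧸ R) := Cfsg.Agent.Lib.isPGroup_quotient_pResidual 2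
    have hA : IsPGroup 2 (Abelianization (C ⧸ R)) := hQ.to_quotient _
    set φ : C →* Abelianization (C ⧸ R) := (Abelianization.of).comp (QuotientGroup.mk' R) with hφ
    have hφsurj : Function.Surjective φ := by
      intro a
      obtain ⟨q, rfl⟩ := QuotientGroup.mk_surjective a
      obtain ⟨c, rfl⟩ := QuotientGroup.mk_surjective q
      exact ⟨c, rfl⟩
    set V : G →* Abelianization (C ⧸ R) := MonoidHom.transfer φ with hV
    -- V kills odd order elements, hence everything
    have hVodd : ∀ g : G, Nat.Coprime (orderOf g) 2 → V g = 1 := by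
      intro g hg
      obtain ⟨k, hk⟩ := hA (V g)
      have h1 : V g ^ orderOf g = 1 := by rw [← map_pow, pow_orderOf_eq_one, map_one]
      have d1 := orderOf_dvd_of_pow_eq_one hk
      have d2 := orderOf_dvd_of_pow_eq_one h1
      have hcop : Nat.Coprime (2 ^ k) (orderOf g) := Nat.Coprime.pow_left k hg.symm
      have : orderOf (V g) = 1 := Nat.eq_one_of_dvd_coprimes hcop d1 d2
      exact orderOf_eq_one_iff.mp this
    have hVtriv : ∀ g : G, V g = 1 := by
      have hle : Cfsg.pResidual 2 G ≤ V.ker := by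
        unfold Cfsg.pResidual
        rw [Subgroup.closure_le]
        intro g hg
        exact hVodd g hg
      intro g
      have : g ∈ Cfsg.pResidual 2 G := by rw [hG]; trivial
      exact hle this
    -- evaluation of the transfer on C
    have hconj : ∀ (g y : G) (hy : y ∈ C) (hw : g⁻¹ * y * g ∈ C),
        ∃ e ∈ (⊥ : Subgroup (Abelianization (C ⧸ R))), φ ⟨g⁻¹ * y * g, hw⟩ = φ ⟨y, hy⟩ * e := by
      intro g y hy hw
      refine ⟨1, Subgroup.one_mem _, ?_⟩
      obtain ⟨c, hc, hcy⟩ := fusion_control hz g y hy hw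
      have : (⟨g⁻¹ * y * g, hw⟩ : C) = (⟨c, hc⟩ : C)⁻¹ * ⟨y, hy⟩ * ⟨c, hc⟩ := Subtype.ext hcy
      rw [this, map_mul, map_mul, map_inv, mul_one]
      exact inv_mul_cancel_comm _ _
    have hodd : Odd C.index := odd_index_centralizer hz
    have hφtriv : ∀ c : C, φ c = 1 := by
      rintro ⟨x, hx⟩
      obtain ⟨e, he, hx'⟩ := Cfsg.Agent.Helper76.transfer_mem_pow_mul C φ ⊥ hconj x hx
      rw [Subgroup.mem_bot] at he
      rw [he, mul_one, ← hV, hVtriv x] at hx'
      obtain ⟨k, hk⟩ := hA (φ ⟨x, hx⟩)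
      have d1 := orderOf_dvd_of_pow_eq_one hk
      have d2 := orderOf_dvd_of_pow_eq_one hx'.symm
      have hcop : Nat.Coprime (2 ^ k) C.index :=
        Nat.Coprime.pow_left k (Nat.coprime_two_left.mpr hodd)
      have : orderOf (φ ⟨x, hx⟩) = 1 := Nat.eq_one_of_dvd_coprimes hcop d1 d2
      exact orderOf_eq_one_iff.mp this
    -- so the abelianization of C/R is trivial
    have hcomm : commutator (C ⧸ R) = ⊤ := by
      rw [eq_top_iff]
      intro q _
      obtain ⟨c, rfl⟩ := QuotientGroup.mk_surjective q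
      rw [← Abelianization.ker_of, MonoidHom.mem_ker]
      exact hφtriv c
    have hnil : Group.IsNilpotent (C ⧸ R) := hQ.isNilpotent
    have hsub : Subsingleton (C ⧸ R) := by
      by_contra hns
      rw [not_subsingleton_iff_nontrivial] at hns
      have := Group.IsSolvable.commutator_lt_top_of_nontrivial (C ⧸ R)
      rw [hcomm] at this
      exact lt_irrefl _ this
    exact QuotientGroup.subgroup_eq_top_of_subsingleton R hsub
  · intro hCres
    rw [eq_top_iff]
    intro g _
    obtain ⟨k, ⟨⟨hodd, -⟩, hmem⟩, -⟩ := Cfsg.Agent.S1185.result z hz g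
    have hk : k ∈ Cfsg.pResidual 2 G :=
      Cfsg.Agent.Lib.mem_pResidual_of_coprime (Nat.coprime_two_right.mpr hodd)
    have hc : g⁻¹ * k ∈ Cfsg.pResidual 2 G := by
      apply map_pResidual_le C
      refine ⟨⟨g⁻¹ * k, hmem⟩, ?_, rfl⟩
      rw [hCres]; trivial
    have : g = k * (g⁻¹ * k)⁻¹ := by group
    rw [this]
    exact Subgroup.mul_mem _ hk (Subgroup.inv_mem _ hc)

end Cfsg.Agent.S1183
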