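import Cfsg.Statements.S1184
import Cfsg.Agent.Helper20.Isolated

set_option autoImplicit false
open Cfsg

namespace Cfsg.Agent.S1184

open Cfsg.Agent.Helper20 in
/-- Let z be an isolated involution of the finite group G. If s and t are distinct conjugates of z, then st does not commute with z. -/
theorem result {G : Type*} [Group G] [Finite G] (z : G) (hz : Cfsg.IsIsolatedInvolution z) (g h : G) (hne : g * z * g⁻¹ ≠ h * z * h⁻¹) : ¬ Commute (g * z * g⁻¹ * (h * z * h⁻¹)) z := by
  intro hc
  apply hne
  have hzz := isolated_sq hz
  have hss := conj_sq hzz g
  have htt := conj_sq hzz h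
  generalize hs : g * z * g⁻¹ = s at *
  generalize ht : h * z * h⁻¹ = t at *
  have hoa : Odd (orderOf (s * z)) := by
    rw [orderOf_mul_comm', ← hs]; exact isolated_odd_order hz g
  have hob : Odd (orderOf (t * z)) := by
    rw [orderOf_mul_comm', ← ht]; exact isolated_odd_order hz h
  have hc' : s * t * z = z * (s * t) := hc
  have key : s * z * s = t * z * t := by
    calc s * z * s = s * z * s * (t * t) := by rw [htt, mul_one]
      _ = s * (z * (s * t)) * t := by group
      _ = s * (s * t * z) * t := by rw [hc']
      _ = (s * s) * t * z * t := by group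
      _ = t * z * t := by rw [hss, one_mul]
  have hsq : (s * z) * (s * z) = (t * z) * (t * z) := by
    calc (s * z) * (s * z) = (s * z * s) * z := by group
      _ = (t * z * t) * z := by rw [key]
      _ = (t * z) * (t * z) := by group
  have := eq_of_sq_eq_of_odd hoa hob hsq
  exact mul_right_cancel this

end Cfsg.Agent.S1184
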