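import Cfsg.Statements.S1186
import Mathlib
import Cfsg.Agent.Helper20.Isolated
import Cfsg.Agent.Helper55.InvolCount

set_option autoImplicit false
open Cfsg

namespace Cfsg.Agent.S1186

open Cfsg.Agent.Helper20 in
/-- The "midpoint" of an isolated involution `y` and its conjugate `s y s⁻¹` (`s` an involution):
an involution `m`, conjugate to `y`, commuting with `s`, with `m y m⁻¹ = s y s⁻¹`. -/
theorem midpoint_spec {G : Type*} [Group G] [Finite G] {y : G} (hy : Cfsg.IsIsolatedInvolution y)
    {s : G} (hs : s * s = 1) :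
    ∃ m : G, IsConj y m ∧ Commute m s ∧ m * y * m⁻¹ = s * y * s⁻¹ := by
  have hyy := isolated_sq hy
  have htt := conj_sq hyy s
  obtain ⟨k, hk⟩ := isolated_odd_order hy s
  set t := s * y * s⁻¹ with ht
  set u := y * t with hu
  have hsinv : s⁻¹ = s := inv_eq_self_of_sq hs
  have hyinv : y⁻¹ = y := inv_eq_self_of_sq hyy
  have htinv : t⁻¹ = t := inv_eq_self_of_sq htt
  have hc1 : u ^ k * y * (u ^ k)⁻¹ = t := conj_of_odd_order hyy htt hk
  have hc2 : y * u ^ k * y = (u ^ k)⁻¹ := inv_conj_mul_pow hyy htt k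
  have hc3 : u ^ k * y * (u ^ k)⁻¹ = u ^ (2 * k) * y := pow_conj_left hyy htt k
  have hmm : (u ^ k * y) * (u ^ k * y) = 1 := by
    calc (u ^ k * y) * (u ^ k * y) = u ^ k * (y * u ^ k * y) := by group
      _ = 1 := by rw [hc2, mul_inv_cancel]
  have hminv : (u ^ k * y)⁻¹ = u ^ k * y := inv_eq_self_of_sq hmm
  refine ⟨u ^ k * y, ?_, ?_, ?_⟩
  · -- conjugate to y: y * m = (u^k)⁻¹ has odd order
    have hym : y * (u ^ k * y) = (u ^ k)⁻¹ := by rw [← hc2]; group
    have hodd : Odd (orderOf (y * (u ^ k * y))) := by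
      rw [hym, orderOf_inv]
      have hdvd : orderOf (u ^ k) ∣ 2 * k + 1 := by
        rw [← hk]; exact orderOf_pow_dvd k
      exact Odd.of_dvd_nat (odd_two_mul_add_one k) hdvd
    obtain ⟨j, hj⟩ := hodd
    have := conj_of_odd_order hyy hmm hj
    exact isConj_iff.mpr ⟨_, this⟩
  · -- commutes with s
    have hsus : s * u * s⁻¹ = u⁻¹ := by
      have h1 : s * t * s⁻¹ = y := by
        rw [ht, hsinv]
        calc s * (s * y * s) * s = (s * s) * y * (s * s) := by group
          _ = y := by rw [hs, one_mul, mul_one]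
      calc s * u * s⁻¹ = (s * y * s⁻¹) * (s * t * s⁻¹) := by rw [hu]; group
        _ = t * y := by rw [h1]
        _ = u⁻¹ := by rw [hu, mul_inv_rev, hyinv, htinv]
    have hsm : s * (u ^ k * y) * s⁻¹ = u ^ k * y := by
      calc s * (u ^ k * y) * s⁻¹ = (s * u * s⁻¹) ^ k * (s * y * s⁻¹) := by
            rw [conj_pow]; group
        _ = (u ^ k)⁻¹ * t := by rw [hsus, inv_pow]
        _ = (u ^ k)⁻¹ * (u ^ (2 * k) * y) := by rw [← hc3, hc1]
        _ = u ^ k * y := by
            rw [two_mul, pow_add]; group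
    show (u ^ k * y) * s = s * (u ^ k * y)
    calc (u ^ k * y) * s = (s * (u ^ k * y) * s⁻¹) * s := by rw [hsm]
      _ = s * (u ^ k * y) := by group
  · rw [hminv]
    calc u ^ k * y * y * (u ^ k * y) = u ^ k * (y * y) * (u ^ k * y) := by group
      _ = u ^ k * (u ^ k * y) := by rw [hyy, mul_one]
      _ = u ^ (2 * k) * y := by rw [two_mul, pow_add]; group
      _ = t := by rw [← hc3, hc1]

open Cfsg.Agent.Helper20 in
/-- Uniqueness of the midpoint among the conjugates of `y`. -/
theorem midpoint_unique {G : Type*} [Group G] [Finite G] {y : G}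
    (hy : Cfsg.IsIsolatedInvolution y) {a b t : G} (ha : IsConj y a) (hb : IsConj y b)
    (hat : a * y * a⁻¹ = t) (hbt : b * y * b⁻¹ = t) : a = b := by
  have hyy := isolated_sq hy
  obtain ⟨ga, hga⟩ := isConj_iff.mp ha
  obtain ⟨gb, hgb⟩ := isConj_iff.mp hb
  have haa : a * a = 1 := by rw [← hga]; exact conj_sq hyy ga
  have hbb : b * b = 1 := by rw [← hgb]; exact conj_sq hyy gb
  have hainv : a⁻¹ = a := inv_eq_self_of_sq haa
  have hbinv : b⁻¹ = b := inv_eq_self_of_sq hbb
  have hoa : Odd (orderOf (y * a)) := by rw [← hga]; exact isolated_odd_order hy ga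
  have hob : Odd (orderOf (y * b)) := by rw [← hgb]; exact isolated_odd_order hy gb
  have hsq : (y * a) * (y * a) = (y * b) * (y * b) := by
    calc (y * a) * (y * a) = y * (a * y * a) := by group
      _ = y * t := by rw [← hat, hainv]
      _ = y * (b * y * b) := by rw [← hbt, hbinv]
      _ = (y * b) * (y * b) := by group
  have := eq_of_sq_eq_of_odd hoa hob hsq
  exact mul_left_cancel this

/-- Let z be an isolated involution of the finite group G, C = C_G(z), K the set of elements of odd order inverted by z, and s an involution of C. Then |G| = |C| · |C_K(sz)| · |C_K(s)|. -/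
theorem result {G : Type*} [Group G] [Finite G] (z : G) (hz : Cfsg.IsIsolatedInvolution z) (s : G) (hs : orderOf s = 2) (hsz : Commute s z) : Nat.card G = Nat.card (Subgroup.centralizer ({z} : Set G)) * Nat.card {k : G // Odd (orderOf k) ∧ z * k * z⁻¹ = k⁻¹ ∧ Commute k (s * z)} * Nat.card {k : G // Odd (orderOf k) ∧ z * k * z⁻¹ = k⁻¹ ∧ Commute k s} := by
  classical
  have hfG := Fintype.ofFinite G
  have hzz : z * z = 1 := Cfsg.Agent.Helper20.isolated_sq hz
  have hss : s * s = 1 := by
    have := pow_orderOf_eq_one s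
    rwa [hs, pow_two] at this
  have hsinv : s⁻¹ = s := Cfsg.Agent.Helper20.inv_eq_self_of_sq hss
  have hzinv : z⁻¹ = z := Cfsg.Agent.Helper20.inv_eq_self_of_sq hzz
  -- conjugates of z are isolated involutions
  have hiso : ∀ y : G, IsConj z y → Cfsg.IsIsolatedInvolution y := by
    intro y hy
    obtain ⟨g, hg⟩ := isConj_iff.mp hy
    rw [← hg]
    exact Cfsg.Agent.Helper20.isolated_conj hz g
  have hsq : ∀ y : G, IsConj z y → y * y = 1 := fun y hy =>
    Cfsg.Agent.Helper20.isolated_sq (hiso y hy)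
  set Ω : Finset G := Finset.univ.filter (fun y => IsConj z y) with hΩ
  let ΩC : G → Finset G := fun t => Finset.univ.filter (fun y => IsConj z y ∧ Commute y t)
  have hmemΩ : ∀ y, y ∈ Ω ↔ IsConj z y := by intro y; simp [hΩ]
  have hmemΩC : ∀ t y, y ∈ ΩC t ↔ (IsConj z y ∧ Commute y t) := by intro t y; simp [ΩC]
  -- Step A
  have hA : Nat.card G = Nat.card (Subgroup.centralizer ({z} : Set G)) * Ω.card := by
    rw [Nat.card_eq_fintype_card]
    exact Cfsg.Agent.Helper55.card_eq_card_centralizer_mul_card_conj z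
  -- Step B
  have hB : ∀ t : G, Commute t z →
      Nat.card {k : G // Odd (orderOf k) ∧ z * k * z⁻¹ = k⁻¹ ∧ Commute k t} = (ΩC t).card := by
    intro t ht
    rw [Nat.card_eq_fintype_card, Fintype.card_subtype]
    apply Finset.card_bij (fun k _ => z * k)
    · intro k hk
      rw [Finset.mem_filter] at hk
      obtain ⟨-, hodd, hinv, hcomm⟩ := hk
      rw [hmemΩC]
      have hyy : (z * k) * (z * k) = 1 := by
        calc (z * k) * (z * k) = (z * k * z⁻¹) * k := by rw [hzinv]; group
          _ = 1 := by rw [hinv, inv_mul_cancel]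
      constructor
      · -- z ~ z k since z * (z k) = k has odd order
        have hzk : z * (z * k) = k := by rw [← mul_assoc, hzz, one_mul]
        obtain ⟨j, hj⟩ := hodd
        have hj' : orderOf (z * (z * k)) = 2 * j + 1 := by rw [hzk]; exact hj
        have := Cfsg.Agent.Helper20.conj_of_odd_order hzz hyy hj'
        exact isConj_iff.mpr ⟨_, this⟩
      · show (z * k) * t = t * (z * k)
        rw [mul_assoc, hcomm.eq, ← mul_assoc, ← ht.eq, mul_assoc]
    · intro k1 _ k2 _ h
      exact mul_left_cancel h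
    · intro y hy
      rw [hmemΩC] at hy
      obtain ⟨hconj, hcomm⟩ := hy
      obtain ⟨g, hg⟩ := isConj_iff.mp hconj
      have hyy := hsq y hconj
      have hyinv : y⁻¹ = y := Cfsg.Agent.Helper20.inv_eq_self_of_sq hyy
      refine ⟨z * y, ?_, ?_⟩
      · rw [Finset.mem_filter]
        refine ⟨Finset.mem_univ _, ?_, ?_, ?_⟩
        · rw [← hg]; exact Cfsg.Agent.Helper20.isolated_odd_order hz g
        · rw [mul_inv_rev, hyinv, hzinv]
          calc z * (z * y) * z = (z * z) * y * z := by group
            _ = y * z := by rw [hzz, one_mul]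
        · show (z * y) * t = t * (z * y)
          rw [mul_assoc, hcomm.eq, ← mul_assoc, ← ht.eq, mul_assoc]
      · rw [← mul_assoc, hzz, one_mul]
  -- Step C : the midpoint map
  have hmid : ∀ y : {y : G // IsConj z y}, ∃ m : G, IsConj z m ∧ Commute m s ∧
      m * y.1 * m⁻¹ = s * y.1 * s⁻¹ := by
    intro y
    obtain ⟨m, h1, h2, h3⟩ := midpoint_spec (hiso y.1 y.2) hss
    exact ⟨m, y.2.trans h1, h2, h3⟩
  choose mfun hm1 hm2 hm3 using hmid
  let f : G → G := fun y => if h : IsConj z y then mfun ⟨y, h⟩ else 1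
  have hf : ∀ y (h : IsConj z y), f y = mfun ⟨y, h⟩ := fun y h => dif_pos h
  have hmaps : ∀ y ∈ Ω, f y ∈ ΩC s := by
    intro y hy
    rw [hmemΩ] at hy
    rw [hf y hy, hmemΩC]
    exact ⟨hm1 _, hm2 _⟩
  have hC : Ω.card = (ΩC s).card * (ΩC (s * z)).card := by
    rw [Finset.card_eq_sum_card_fiberwise hmaps]
    rw [Finset.sum_const_nat (m := (ΩC (s * z)).card)]
    intro a ha
    rw [hmemΩC] at ha
    obtain ⟨haconj, hacomm⟩ := ha
    have haa := hsq a haconj
    have hainv : a⁻¹ = a := Cfsg.Agent.Helper20.inv_eq_self_of_sq haa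
    -- g ∈ C(s) with g a g⁻¹ = z
    obtain ⟨ga, hga⟩ := isConj_iff.mp haconj
    have hoz : Odd (orderOf (z * a)) := by
      rw [← hga]; exact Cfsg.Agent.Helper20.isolated_odd_order hz ga
    have hoaz : Odd (orderOf (a * z)) := by
      rw [Cfsg.Agent.Helper20.orderOf_mul_comm']; exact hoz
    obtain ⟨k, hk⟩ := hoaz
    set g := (a * z) ^ k with hgdef
    have hgconj : g * a * g⁻¹ = z := Cfsg.Agent.Helper20.conj_of_odd_order haa hzz hk
    have hgs : g * s = s * g := by
      have h1 : Commute (a * z) s := hacomm.mul_left hsz.symm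
      exact (h1.pow_left k).eq
    have hgsinv : g⁻¹ * s = s * g⁻¹ := by
      calc g⁻¹ * s = g⁻¹ * (s * g) * g⁻¹ := by group
        _ = g⁻¹ * (g * s) * g⁻¹ := by rw [hgs]
        _ = s * g⁻¹ := by group
    apply Finset.card_bij (fun y _ => g * y * g⁻¹)
    · intro y hy
      rw [Finset.mem_filter, hmemΩ] at hy
      obtain ⟨hyconj, hfy⟩ := hy
      rw [hf y hyconj] at hfy
      have h3 := hm3 ⟨y, hyconj⟩
      rw [hfy] at h3
      -- a y a⁻¹ = s y s⁻¹
      rw [hmemΩC]
      constructor
      · exact hyconj.trans (isConj_iff.mpr ⟨g, rfl⟩)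
      · -- Commute (g y g⁻¹) (s z)
        have hc : (s * a) * y = y * (s * a) := by
          have h4 : a * y * a = s * y * s := by rw [hainv, hsinv] at h3; exact h3
          calc (s * a) * y = s * a * y * (a * a) := by rw [haa, mul_one]
            _ = s * (a * y * a) * a := by group
            _ = s * (s * y * s) * a := by rw [h4]
            _ = (s * s) * y * (s * a) := by group
            _ = y * (s * a) := by rw [hss, one_mul]
        have hsz' : s * z = g * (s * a) * g⁻¹ := by
          calc s * z = s * (g * a * g⁻¹) := by rw [hgconj]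
            _ = (s * g) * a * g⁻¹ := by group
            _ = (g * s) * a * g⁻¹ := by rw [hgs]
            _ = g * (s * a) * g⁻¹ := by group
        show (g * y * g⁻¹) * (s * z) = (s * z) * (g * y * g⁻¹)
        rw [hsz']
        calc (g * y * g⁻¹) * (g * (s * a) * g⁻¹) = g * (y * (s * a)) * g⁻¹ := by group
          _ = g * ((s * a) * y) * g⁻¹ := by rw [hc]
          _ = (g * (s * a) * g⁻¹) * (g * y * g⁻¹) := by group
    · intro y1 _ y2 _ h
      have : g * y1 = g * y2 := mul_right_cancel h
      exact mul_left_cancel this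
    · intro w hw
      rw [hmemΩC] at hw
      obtain ⟨hwconj, hwcomm⟩ := hw
      have hyconj : IsConj z (g⁻¹ * w * g) := by
        refine hwconj.trans (isConj_iff.mpr ⟨g⁻¹, ?_⟩)
        rw [inv_inv]
      refine ⟨g⁻¹ * w * g, ?_, ?_⟩
      · rw [Finset.mem_filter, hmemΩ]
        refine ⟨hyconj, ?_⟩
        rw [hf _ hyconj]
        -- uniqueness of the midpoint
        have hy_iso := hiso _ hyconj
        have h3 := hm3 ⟨g⁻¹ * w * g, hyconj⟩
        have h1 : IsConj (g⁻¹ * w * g) (mfun ⟨g⁻¹ * w * g, hyconj⟩) := hyconj.symm.trans (hm1 _)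
        have h2 : IsConj (g⁻¹ * w * g) a := hyconj.symm.trans haconj
        refine midpoint_unique hy_iso h1 h2 h3 ?_
        -- a y a⁻¹ = s y s⁻¹
        have hsa : s * a = g⁻¹ * (s * z) * g := by
          calc s * a = s * (g⁻¹ * (g * a * g⁻¹) * g) := by group
            _ = s * (g⁻¹ * z * g) := by rw [hgconj]
            _ = (s * g⁻¹) * z * g := by group
            _ = (g⁻¹ * s) * z * g := by rw [hgsinv]
            _ = g⁻¹ * (s * z) * g := by group
        have hc : (s * a) * (g⁻¹ * w * g) = (g⁻¹ * w * g) * (s * a) := by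
          rw [hsa]
          calc g⁻¹ * (s * z) * g * (g⁻¹ * w * g) = g⁻¹ * ((s * z) * w) * g := by group
            _ = g⁻¹ * (w * (s * z)) * g := by rw [hwcomm.eq]
            _ = g⁻¹ * w * g * (g⁻¹ * (s * z) * g) := by group
        rw [hainv, hsinv]
        calc a * (g⁻¹ * w * g) * a = (s * s) * (a * (g⁻¹ * w * g) * a) := by rw [hss, one_mul]
          _ = s * ((s * a) * (g⁻¹ * w * g)) * a := by group
          _ = s * ((g⁻¹ * w * g) * (s * a)) * a := by rw [hc]
          _ = s * (g⁻¹ * w * g) * s * (a * a) := by group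
          _ = s * (g⁻¹ * w * g) * s := by rw [haa, mul_one]
      · group
  have hcomm_sz : Commute (s * z) z := by
    show (s * z) * z = z * (s * z)
    rw [← mul_assoc z s z, ← hsz.eq]
  rw [hA, hB (s * z) hcomm_sz, hB s hsz, hC]
  ring

end Cfsg.Agent.S1186
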