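import Cfsg.Statements.S1189
import Cfsg.Agent.Helper20.QD2

set_option autoImplicit false
open Cfsg

namespace Cfsg.Agent.S1189

open Cfsg.Agent.Helper20 in
/-- A quasi-dihedral 2-group has exactly two conjugacy classes of elements of order 2 and exactly two conjugacy classes of elements of order 4. -/
theorem result {S : Type*} [Group S] [Finite S] (hS : Cfsg.IsQuasiDihedral S) : Nat.card {C : ConjClasses S // ∃ t : S, orderOf t = 2 ∧ ConjClasses.mk t = C} = 2 ∧ Nat.card {C : ConjClasses S // ∃ t : S, orderOf t = 4 ∧ ConjClasses.mk t = C} = 2 := by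
  obtain ⟨k, x, y, h⟩ := exists_qdData hS
  constructor
  · apply card_subtype_eq_two _ (ConjClasses.mk (x ^ (4 * 2 ^ k : ℤ))) (ConjClasses.mk y)
    · rw [Ne, ConjClasses.mk_eq_mk_iff_isConj]
      have := h.not_isConj_xpow_xpow_y (4 * 2 ^ k) 0
      rwa [zpow_zero, one_mul] at this
    · intro C
      constructor
      · rintro ⟨t, ht, rfl⟩
        rcases (h.involution_iff t).mp ht with rfl | ⟨c, rfl⟩
        · left; rfl
        · right
          rw [ConjClasses.mk_eq_mk_iff_isConj]
          have := h.isConj_xpow_y (2 * c) 0 ⟨-c, by ring⟩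
          rwa [zpow_zero, one_mul] at this
      · rintro (rfl | rfl)
        · exact ⟨_, (h.involution_iff _).mpr (Or.inl rfl), rfl⟩
        · exact ⟨y, h.oy, rfl⟩
  · apply card_subtype_eq_two _ (ConjClasses.mk (x ^ (2 * 2 ^ k : ℤ))) (ConjClasses.mk (x ^ (1 : ℤ) * y))
    · rw [Ne, ConjClasses.mk_eq_mk_iff_isConj]
      exact h.not_isConj_xpow_xpow_y _ _
    · intro C
      constructor
      · rintro ⟨t, ht, rfl⟩
        rcases (h.order_four_iff t).mp ht with rfl | rfl | ⟨c, rfl⟩
        · left; rfl
        · left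
          rw [ConjClasses.mk_eq_mk_iff_isConj]
          exact h.isConj_xpow_twoP.symm
        · right
          rw [ConjClasses.mk_eq_mk_iff_isConj]
          exact h.isConj_xpow_y (2 * c + 1) 1 ⟨-c, by ring⟩
      · rintro (rfl | rfl)
        · exact ⟨_, (h.order_four_iff _).mpr (Or.inl rfl), rfl⟩
        · exact ⟨_, (h.order_four_iff _).mpr (Or.inr (Or.inr ⟨0, by norm_num⟩)), rfl⟩

end Cfsg.Agent.S1189
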