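import Cfsg.Statements.S1194
import Cfsg.Agent.Helper20.QD4

set_option autoImplicit false
open Cfsg

namespace Cfsg.Agent.S1194

open Cfsg.Agent.Helper20 in
/-- In a quasi-dihedral 2-group S, every proper normal subgroup is either a maximal subgroup or a cyclic subgroup contained in the derived subgroup S'. -/
theorem result {S : Type*} [Group S] [Finite S] (hS : Cfsg.IsQuasiDihedral S) (N : Subgroup S) [N.Normal] (hN : N ≠ ⊤) : IsCoatom N ∨ (IsCyclic N ∧ N ≤ commutator S) := by
  obtain ⟨k, x, y, h⟩ := exists_qdData hS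
  have hnorm : N.Normal := inferInstance
  by_cases hA : ∃ i : ℤ, x ^ i * y ∈ N
  · -- N contains a maximal subgroup
    left
    obtain ⟨i, hi⟩ := hA
    have h1 : x ^ (i + 1 * (2 - 4 * 2 ^ k)) * y ∈ N := by
      rw [← h.conj_xpow_y_by_xpow]
      exact hnorm.conj_mem _ hi _
    have h2 : x ^ (2 - 4 * 2 ^ k : ℤ) ∈ N := by
      have : x ^ (2 - 4 * 2 ^ k : ℤ) = (x ^ (i + 1 * (2 - 4 * 2 ^ k)) * y) * (x ^ i * y)⁻¹ := by
        rw [h.xpow_y_inv, h.xpow_y_mul_xpow_y, h.xpow_eq_iff]
        exact ⟨i * (2 * 2 ^ k - 1), by ring⟩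
      rw [this]
      exact N.mul_mem h1 (N.inv_mem hi)
    have h3 : ∀ c : ℤ, x ^ (2 * c) ∈ N := by
      intro c
      have : x ^ (2 * c) = (x ^ (2 - 4 * 2 ^ k : ℤ)) ^ (c * (1 + 2 * 2 ^ k + 4 * 2 ^ k * 2 ^ k)) := by
        rw [← zpow_mul, h.xpow_eq_iff]
        exact ⟨2 * c * 2 ^ k * 2 ^ k, by ring⟩
      rw [this]
      exact N.zpow_mem h2 _
    have hle : h.maxSub i ≤ N := by
      rintro s (⟨c, rfl⟩ | ⟨c, rfl⟩)
      · exact h3 c
      · have : x ^ (2 * c + i) * y = x ^ (2 * c) * (x ^ i * y) := by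
          rw [QDData.xpow_mul_xpow_y]
        rw [this]
        exact N.mul_mem (h3 c) hi
    have hco := h.isCoatom_maxSub i
    rcases hco.le_iff.mp hle with h4 | h4
    · exact absurd h4 hN
    · rw [h4]; exact hco
  · have hsub : N ≤ Subgroup.zpowers x := by
      intro s hs
      rcases h.cases s with ⟨i, rfl⟩ | ⟨i, rfl⟩
      · exact Subgroup.zpow_mem_zpowers x i
      · exact absurd ⟨i, hs⟩ hA
    by_cases hB : ∃ d : ℤ, x ^ (2 * d + 1) ∈ N
    · left
      obtain ⟨d, hd⟩ := hB
      -- 2d+1 is invertible modulo 8P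
      have hcop : IsCoprime (2 * d + 1) ((2 : ℤ) ^ (k + 3)) := by
        apply IsCoprime.pow_right
        exact ⟨1, -d, by ring⟩
      obtain ⟨a, b, hab⟩ := hcop
      have hx : x ∈ N := by
        have : x = (x ^ (2 * d + 1)) ^ a := by
          rw [← zpow_mul]
          have h1 : x = x ^ (1 : ℤ) := (zpow_one x).symm
          conv_lhs => rw [h1]
          rw [h.xpow_eq_iff]
          refine ⟨b, ?_⟩
          have : (2 : ℤ) ^ (k + 3) = 8 * 2 ^ k := by ring
          rw [this] at hab
          linarith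
        rw [this]
        exact N.zpow_mem hd _
      have hle : Subgroup.zpowers x ≤ N := by
        rw [Subgroup.zpowers_le]; exact hx
      have hco := h.isCoatom_zpowers
      rcases hco.le_iff.mp hle with h4 | h4
      · exact absurd h4 hN
      · rw [h4]; exact hco
    · right
      constructor
      · haveI : IsCyclic (Subgroup.zpowers x) := inferInstance
        exact isCyclic_of_injective (Subgroup.inclusion hsub) (Subgroup.inclusion_injective hsub)
      · intro s hs
        rw [h.mem_commutator_iff]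
        obtain ⟨i, rfl⟩ := Subgroup.mem_zpowers_iff.mp (hsub hs)
        rcases Int.even_or_odd' i with ⟨d, rfl | rfl⟩
        · exact ⟨d, rfl⟩
        · exact absurd ⟨d, hs⟩ hB

end Cfsg.Agent.S1194
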