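import Mathlib
import Cfsg.Statements.S1196
import Cfsg.Agent.Helper99.WreathedIso
import Cfsg.Agent.Helper99.WreathedModel3

set_option autoImplicit false
open Cfsg

namespace Cfsg.Agent.S1196

open Cfsg.Agent.Helper99

theorem key {S : Type*} [Group S] [Finite S] {n : ℕ} (hn2 : 2 ≤ n) (e : Wr (2 ^ n) ≃* S)
    (U : Subgroup S) (hU : IsMulCommutative U) (hcard : Nat.card U = 2 ^ (2 * n)) :
    U.map e.symm.toMonoidHom = Wr.abel (2 ^ n) := by
  haveI : Fact (1 < 2 ^ n) := ⟨Nat.one_lt_two_pow (by omega)⟩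
  haveI : NeZero (2 ^ n) := ⟨by positivity⟩
  have hcard' : Nat.card (U.map e.symm.toMonoidHom) = 2 ^ (2 * n) := by
    rw [← hcard]
    exact (Nat.card_congr (e.symm.subgroupMap U).toEquiv).symm
  have hcomm : ∀ u ∈ U.map e.symm.toMonoidHom, ∀ v ∈ U.map e.symm.toMonoidHom, u * v = v * u := by
    rintro _ ⟨a, ha, rfl⟩ _ ⟨b, hb, rfl⟩
    show e.symm a * e.symm b = e.symm b * e.symm a
    rw [← map_mul, ← map_mul]
    congr 1
    exact congrArg Subtype.val (hU.is_comm.comm ⟨a, ha⟩ ⟨b, hb⟩)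
  have hle : U.map e.symm.toMonoidHom ≤ Wr.abel (2 ^ n) := by
    by_contra hnot
    have h1 := Wr.card_le_of_comm_of_not_le _ hcomm hnot
    rw [hcard'] at h1
    have h2 : 2 ^ (2 * n) = 2 ^ n * 2 ^ n := by rw [two_mul, pow_add]
    have h3 : 2 ^ 2 ≤ 2 ^ n := Nat.pow_le_pow_right (by norm_num) hn2
    nlinarith
  apply Subgroup.eq_of_le_of_card_ge hle
  rw [hcard', Wr.card_abel, two_mul, pow_add]

/-- A wreathed 2-group S of order 2^(2n+1) has a unique commutative subgroup of order 2^(2n), and this subgroup is isomorphic to the direct product of two cyclic groups of order 2^n. -/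
theorem result {S : Type*} [Group S] [Finite S] (hS : Cfsg.IsWreathed S) (n : ℕ) (hn : Nat.card S = 2 ^ (2 * n + 1)) : (∃! U : Subgroup S, IsMulCommutative U ∧ Nat.card U = 2 ^ (2 * n)) ∧ ∀ U : Subgroup S, IsMulCommutative U → Nat.card U = 2 ^ (2 * n) → Nonempty (U ≃* Multiplicative (ZMod (2 ^ n) × ZMod (2 ^ n))) := by
  obtain ⟨n', x, y, z, h⟩ := exists_wrData hS
  have hnn : n' = n := by
    have h1 := h.card
    rw [hn] at h1
    have := Nat.pow_right_injective (le_refl 2) h1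
    omega
  subst hnn
  haveI : NeZero (2 ^ n') := ⟨by positivity⟩
  let e : Wr (2 ^ n') ≃* S := h.iso
  have hback : ∀ U : Subgroup S, (U.map e.symm.toMonoidHom).map e.toMonoidHom = U := by
    intro U
    ext s
    constructor
    · rintro ⟨_, ⟨a, ha, rfl⟩, rfl⟩
      show e (e.symm a) ∈ U
      rw [e.apply_symm_apply]
      exact ha
    · intro hs
      exact ⟨e.symm s, ⟨s, hs, rfl⟩, e.apply_symm_apply s⟩
  constructor
  · refine ⟨(Wr.abel (2 ^ n')).map e.toMonoidHom, ⟨?_, ?_⟩, ?_⟩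
    · refine ⟨⟨fun u v => ?_⟩⟩
      obtain ⟨_, ⟨a, ha, rfl⟩⟩ := u
      obtain ⟨_, ⟨b, hb, rfl⟩⟩ := v
      apply Subtype.ext
      show e a * e b = e b * e a
      rw [← map_mul, ← map_mul, Wr.comm_ff ha hb]
    · have h1 := Nat.card_congr (e.subgroupMap (Wr.abel (2 ^ n'))).toEquiv
      rw [Wr.card_abel] at h1
      rw [two_mul, pow_add]
      exact h1.symm
    · rintro U ⟨hU, hcard⟩
      rw [← key h.hn e U hU hcard, hback]
  · intro U hU hcard
    have hk := key h.hn e U hU hcard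
    exact ⟨((e.symm.subgroupMap U).trans (MulEquiv.subgroupCongr hk)).trans (Wr.abelEquiv (2 ^ n'))⟩

end Cfsg.Agent.S1196
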