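import Mathlib
import Cfsg.Statements.S1197
import Cfsg.Agent.Helper99.WreathedIso
import Cfsg.Agent.Helper99.WreathedModel2
import Cfsg.Agent.Helper99.Transport

set_option autoImplicit false
open Cfsg

namespace Cfsg.Agent.S1197

open Cfsg.Agent.Helper99

/-- Let S be a wreathed 2-group of order 2^(2n+1). Then Z(S) is cyclic of order 2^n, the derived subgroup S' is cyclic of order 2^n, and S/Z(S) is isomorphic to the dihedral group of order 2^(n+1). -/
theorem result {S : Type*} [Group S] [Finite S] (hS : Cfsg.IsWreathed S) (n : ℕ) (hn : Nat.card S = 2 ^ (2 * n + 1)) : IsCyclic (Subgroup.center S) ∧ Nat.card (Subgroup.center S) = 2 ^ n ∧ IsCyclic (commutator S) ∧ Nat.card (commutator S) = 2 ^ n ∧ Nonempty (S ⧸ Subgroup.center S ≃* DihedralGroup (2 ^ n)) := by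
  obtain ⟨n', x, y, z, h⟩ := exists_wrData hS
  have hnn : n' = n := by
    have h1 := h.card
    rw [hn] at h1
    have := Nat.pow_right_injective (le_refl 2) h1
    omega
  subst hnn
  haveI : Fact (1 < 2 ^ n') := ⟨Nat.one_lt_two_pow (by have := h.hn; omega)⟩
  haveI : NeZero (2 ^ n') := ⟨by positivity⟩
  let e : Wr (2 ^ n') ≃* S := h.iso
  -- centre
  have hcyc1 : IsCyclic (Subgroup.center (Wr (2 ^ n'))) := by
    rw [Wr.center_eq]
    exact isCyclic_of_surjective (Wr.diag (2 ^ n')).rangeRestrict (Wr.diag (2 ^ n')).rangeRestrict_surjective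
  have hcyc2 : IsCyclic (commutator (Wr (2 ^ n'))) := by
    rw [Wr.commutator_eq]
    exact isCyclic_of_surjective (Wr.anti (2 ^ n')).rangeRestrict (Wr.anti (2 ^ n')).rangeRestrict_surjective
  have hcard2 : Nat.card (commutator (Wr (2 ^ n'))) = 2 ^ n' := by
    rw [Wr.commutator_eq, ← Nat.card_congr (MonoidHom.ofInjective (Wr.anti_injective (N := 2 ^ n'))).toEquiv,
      Nat.card_eq_fintype_card, Fintype.card_multiplicative]
    exact ZMod.card _
  refine ⟨isCyclic_of_mulEquiv (Subgroup.centerCongr e), ?_, isCyclic_of_mulEquiv (commutatorCongr e), ?_, ?_⟩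
  · rw [← Nat.card_congr (Subgroup.centerCongr e).toEquiv, Wr.card_center]
  · rw [← Nat.card_congr (commutatorCongr e).toEquiv, hcard2]
  · obtain ⟨f⟩ := Wr.quot_dihedral (N := 2 ^ n')
    exact ⟨(centerQuotCongr e).symm.trans f⟩

end Cfsg.Agent.S1197
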