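import Mathlib
import Cfsg.Statements.S1198
import Cfsg.Agent.Helper99.WreathedIso
import Cfsg.Agent.Helper99.WreathedKlein

set_option autoImplicit false
open Cfsg

namespace Cfsg.Agent.S1198

open Cfsg.Agent.Helper99

theorem card_fourK_zero {N h : ℕ} [NeZero N] (hN : N = 2 * h) (hh : 0 < h) :
    Nat.card (Wr.fourK (0 : ZMod N)) = 4 := by
  have hne := Wr.half_ne_zero hN hh
  have h2h : 2 * (h : ZMod N) = 0 := (Wr.two_mul_eq_zero_iff hN _).mpr (Or.inr rfl)
  let f : Bool × Bool → Wr.fourK (0 : ZMod N) := fun p =>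
    ⟨⟨bif p.1 then (h : ZMod N) else 0, bif p.1 then (h : ZMod N) else 0, p.2⟩, by
      rw [Wr.mem_fourK]
      rcases p with ⟨p1, p2⟩
      cases p1 <;> cases p2 <;> simp [h2h] <;> linear_combination h2h⟩
  have hf : Function.Bijective f := by
    constructor
    · rintro ⟨p1, p2⟩ ⟨q1, q2⟩ hpq
      have h1 := congrArg (fun t : Wr.fourK (0 : ZMod N) => t.1.a) hpq
      have h2 := congrArg (fun t : Wr.fourK (0 : ZMod N) => t.1.c) hpq
      simp only [f] at h1 h2
      have e1 : p1 = q1 := by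
        cases p1 <;> cases q1 <;> simp_all
      rw [e1, h2]
    · rintro ⟨u, hu⟩
      rcases hu with ⟨h1, h2, h3⟩ | ⟨h1, h2, h3⟩
      · rcases (Wr.two_mul_eq_zero_iff hN _).mp h3 with ha | ha
        · exact ⟨(false, false), Subtype.ext (Wr.ext ha.symm (by rw [← h2]; exact ha.symm) h1.symm)⟩
        · exact ⟨(true, false), Subtype.ext (Wr.ext ha.symm (by rw [← h2]; exact ha.symm) h1.symm)⟩
      · have h3' : 2 * u.a = 0 := by linear_combination h3
        have hb : u.b = u.a := by linear_combination h2 - h3'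
        rcases (Wr.two_mul_eq_zero_iff hN _).mp h3' with ha | ha
        · exact ⟨(false, true), Subtype.ext (Wr.ext ha.symm (by rw [hb]; exact ha.symm) h1.symm)⟩
        · exact ⟨(true, true), Subtype.ext (Wr.ext ha.symm (by rw [hb]; exact ha.symm) h1.symm)⟩
  rw [← Nat.card_congr (Equiv.ofBijective f hf)]
  simp

theorem fourK_zero_isKleinFour {N h : ℕ} [NeZero N] (hN : N = 2 * h) (hh : 0 < h) :
    IsKleinFour (Wr.fourK (0 : ZMod N)) := by
  refine ⟨card_fourK_zero hN hh, ?_⟩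
  have hdvd : Monoid.exponent (Wr.fourK (0 : ZMod N)) ∣ 2 := by
    apply Monoid.exponent_dvd_of_forall_pow_eq_one
    rintro ⟨u, hu⟩
    apply Subtype.ext
    rw [pow_two]
    show u * u = 1
    rcases hu with ⟨h1, h2, h3⟩ | ⟨h1, h2, h3⟩
    · ext
      · simp only [Wr.mul_a, h1, cond_false, Wr.one_a]; linear_combination h3
      · simp only [Wr.mul_b, h1, cond_false, Wr.one_b]; linear_combination h3 - 2 * h2
      · simp [h1]
    · ext
      · simp only [Wr.mul_a, h1, cond_true, Wr.one_a]; exact h2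
      · simp only [Wr.mul_b, h1, cond_true, Wr.one_b]; linear_combination h2
      · simp [h1]
  have hne1 : Monoid.exponent (Wr.fourK (0 : ZMod N)) ≠ 1 := by
    intro h1
    have hsub : Subsingleton (Wr.fourK (0 : ZMod N)) := Monoid.exp_eq_one_iff.mp h1
    have hc := card_fourK_zero hN hh
    rw [Nat.card_eq_one_iff_unique.mpr ⟨hsub, ⟨1⟩⟩] at hc
    omega
  rcases (Nat.dvd_prime Nat.prime_two).mp hdvd with h1 | h2
  · exact absurd h1 hne1
  · exact h2

/-- A wreathed 2-group S has a normal Klein four-subgroup T such that every Klein four-subgroup of S other than T is conjugate in S to any other such subgroup. -/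
theorem result {S : Type*} [Group S] [Finite S] (hS : Cfsg.IsWreathed S) : ∃ T : Subgroup S, IsKleinFour T ∧ T.Normal ∧ (∃ T₀ : Subgroup S, IsKleinFour T₀ ∧ T₀ ≠ T) ∧ ∀ T₁ T₂ : Subgroup S, IsKleinFour T₁ → IsKleinFour T₂ → T₁ ≠ T → T₂ ≠ T → ∃ s : S, T₁.map (MulAut.conj s).toMonoidHom = T₂ := by
  obtain ⟨n', x, y, z, h⟩ := exists_wrData hS
  have hn2 := h.hn
  obtain ⟨m, rfl⟩ : ∃ m, n' = m + 1 := ⟨n' - 1, by omega⟩
  haveI : NeZero (2 ^ (m + 1)) := ⟨by positivity⟩
  haveI : Fact (1 < 2 ^ (m + 1)) := ⟨Nat.one_lt_two_pow (by omega)⟩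
  have hN : 2 ^ (m + 1) = 2 * 2 ^ m := by rw [pow_succ]; ring
  have hh : 0 < 2 ^ m := by positivity
  let e : Wr (2 ^ (m + 1)) ≃* S := h.iso
  have hback : ∀ U : Subgroup S, (U.map e.symm.toMonoidHom).map e.toMonoidHom = U := by
    intro U
    ext s
    constructor
    · rintro ⟨_, ⟨a, ha, rfl⟩, rfl⟩
      show e (e.symm a) ∈ U
      rw [e.apply_symm_apply]
      exact ha
    · intro hs
      exact ⟨e.symm s, ⟨s, hs, rfl⟩, e.apply_symm_apply s⟩
  have hinj : ∀ U V : Subgroup (Wr (2 ^ (m + 1))), U.map e.toMonoidHom = V.map e.toMonoidHom → U = V := by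
    intro U V hUV
    exact Subgroup.map_injective e.injective hUV
  haveI := Wr.fourT_isKleinFour hN hh
  haveI := fourK_zero_isKleinFour hN hh
  refine ⟨(Wr.fourT (2 ^ (m + 1))).map e.toMonoidHom,
    isKleinFour_of_mulEquiv (e.subgroupMap (Wr.fourT (2 ^ (m + 1)))),
    Subgroup.Normal.map Wr.fourT_normal _ e.surjective,
    ⟨(Wr.fourK (0 : ZMod (2 ^ (m + 1)))).map e.toMonoidHom,
      isKleinFour_of_mulEquiv (e.subgroupMap (Wr.fourK (0 : ZMod (2 ^ (m + 1))))), ?_⟩, ?_⟩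
  · intro heq
    have h1 := hinj _ _ heq
    have h2 : (⟨0, 0, true⟩ : Wr (2 ^ (m + 1))) ∈ Wr.fourK (0 : ZMod (2 ^ (m + 1))) := by
      right
      simp
    rw [h1] at h2
    have := h2.1
    simp at this
  · intro T₁ T₂ hK₁ hK₂ hne₁ hne₂
    have hK₁' : IsKleinFour (T₁.map e.symm.toMonoidHom) := isKleinFour_of_mulEquiv (e.symm.subgroupMap T₁)
    have hK₂' : IsKleinFour (T₂.map e.symm.toMonoidHom) := isKleinFour_of_mulEquiv (e.symm.subgroupMap T₂)
    have hne₁' : T₁.map e.symm.toMonoidHom ≠ Wr.fourT (2 ^ (m + 1)) := by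
      intro heq
      apply hne₁
      rw [← heq, hback]
    have hne₂' : T₂.map e.symm.toMonoidHom ≠ Wr.fourT (2 ^ (m + 1)) := by
      intro heq
      apply hne₂
      rw [← heq, hback]
    obtain ⟨a₁, ha₁⟩ := Wr.exists_fourK hN hh _ hK₁' hne₁'
    obtain ⟨a₂, ha₂⟩ := Wr.exists_fourK hN hh _ hK₂' hne₂'
    refine ⟨e ⟨a₂ - a₁, 0, false⟩, ?_⟩
    have h1 : T₁ = (Wr.fourK a₁).map e.toMonoidHom := by rw [← ha₁, hback]
    have h2 : T₂ = (Wr.fourK a₂).map e.toMonoidHom := by rw [← ha₂, hback]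
    rw [h1, h2, Subgroup.map_map]
    have hcomp : (MulAut.conj (e ⟨a₂ - a₁, 0, false⟩)).toMonoidHom.comp e.toMonoidHom =
        e.toMonoidHom.comp (MulAut.conj (⟨a₂ - a₁, 0, false⟩ : Wr (2 ^ (m + 1)))).toMonoidHom := by
      ext u
      show e ⟨a₂ - a₁, 0, false⟩ * e u * (e ⟨a₂ - a₁, 0, false⟩)⁻¹ =
        e (⟨a₂ - a₁, 0, false⟩ * u * (⟨a₂ - a₁, 0, false⟩ : Wr (2 ^ (m + 1)))⁻¹)
      rw [map_mul, map_mul, map_inv]
    rw [hcomp, ← Subgroup.map_map, Wr.map_conj_fourK]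
    congr 2
    ring

end Cfsg.Agent.S1198
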