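import Mathlib
import Cfsg.Statements.S1199
import Cfsg.Agent.Helper99.WreathedIso
import Cfsg.Agent.Helper99.WreathedQuat

set_option autoImplicit false
open Cfsg

namespace Cfsg.Agent.S1199

open Cfsg.Agent.Helper99

/-- A wreathed 2-group S of order 2^(2n+1) has exactly one subgroup of order 2^(n+1) isomorphic to a generalized quaternion group, and that subgroup is normal in S. -/
theorem result {S : Type*} [Group S] [Finite S] (hS : Cfsg.IsWreathed S) (n : ℕ) (hn : Nat.card S = 2 ^ (2 * n + 1)) : (∃! Y : Subgroup S, Nat.card Y = 2 ^ (n + 1) ∧ Nonempty (Y ≃* QuaternionGroup (2 ^ (n - 1)))) ∧ ∀ Y : Subgroup S, Nat.card Y = 2 ^ (n + 1) → Nonempty (Y ≃* QuaternionGroup (2 ^ (n - 1))) → Y.Normal := by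
  obtain ⟨n', x, y, z, h⟩ := exists_wrData hS
  have hnn : n' = n := by
    have h1 := h.card
    rw [hn] at h1
    have := Nat.pow_right_injective (le_refl 2) h1
    omega
  subst hnn
  have : NeZero (2 ^ n') := ⟨by positivity⟩
  have hn2 := h.hn
  obtain ⟨m, rfl⟩ : ∃ m, n' = m + 1 := ⟨n' - 1, by omega⟩
  have : NeZero (2 ^ m) := ⟨by positivity⟩
  have hN : 2 ^ (m + 1) = 2 * 2 ^ m := by rw [pow_succ]; ring
  have hm1 : 1 ≤ m := by omega
  have hh : 2 ≤ 2 ^ m := by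
    calc 2 = 2 ^ 1 := by norm_num
      _ ≤ 2 ^ m := Nat.pow_le_pow_right (by norm_num) hm1
  change (∃! Y : Subgroup S, Nat.card Y = 2 ^ (m + 1 + 1) ∧ Nonempty (Y ≃* QuaternionGroup (2 ^ m))) ∧ ∀ Y : Subgroup S, Nat.card Y = 2 ^ (m + 1 + 1) → Nonempty (Y ≃* QuaternionGroup (2 ^ m)) → Y.Normal
  let e : Wr (2 ^ (m + 1)) ≃* S := h.iso
  set Q : Subgroup S := (Wr.quatQ hN).map e.toMonoidHom with hQdef
  have huniq : ∀ Y : Subgroup S, Nonempty (Y ≃* QuaternionGroup (2 ^ m)) → Y = Q := by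
    rintro Y ⟨ψ⟩
    have e1 : Y ≃* Y.map e.symm.toMonoidHom := e.symm.subgroupMap Y
    have h1 := Wr.eq_quatQ hN hh (Y.map e.symm.toMonoidHom) (e1.symm.trans ψ)
    rw [hQdef, ← h1, Subgroup.map_map]
    ext s
    simp
  have hQnormal : Q.Normal :=
    Subgroup.Normal.map (Wr.quatQ_normal hN) e.toMonoidHom e.surjective
  have hQcard : Nat.card Q = 2 ^ (m + 1 + 1) := by
    have h1 : Nat.card (Wr.quatQ hN) = Nat.card Q :=
      Nat.card_congr (e.subgroupMap (Wr.quatQ hN)).toEquiv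
    rw [← h1, Wr.card_quatQ]
    ring
  have hQiso : Nonempty (Q ≃* QuaternionGroup (2 ^ m)) := by
    obtain ⟨φ⟩ := Wr.quatQ_iso hN
    exact ⟨(e.subgroupMap (Wr.quatQ hN)).symm.trans φ⟩
  refine ⟨⟨Q, ⟨hQcard, hQiso⟩, fun Y hY => huniq Y hY.2⟩, fun Y _ hY => ?_⟩
  rw [huniq Y hY]
  exact hQnormal

end Cfsg.Agent.S1199
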