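import Mathlib
import Cfsg.Statements.S1200
import Cfsg.Agent.Helper99.WreathedIso
import Cfsg.Agent.Helper99.WreathedOmega

set_option autoImplicit false
open Cfsg

namespace Cfsg.Agent.S1200

open Cfsg.Agent.Helper99

/-- Let S be a wreathed 2-group of order 2^(2n+1) and Ω the subgroup generated by its involutions. Then Ω has order 2^(n+2) and S/Ω is cyclic: some s ∈ S together with Ω generates S. -/
theorem result {S : Type*} [Group S] [Finite S] (hS : Cfsg.IsWreathed S) (n : ℕ) (hn : Nat.card S = 2 ^ (2 * n + 1)) : Nat.card (Subgroup.closure {x : S | orderOf x = 2}) = 2 ^ (n + 2) ∧ ∃ s : S, Subgroup.closure {x : S | orderOf x = 2} ⊔ Subgroup.zpowers s = ⊤ := by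
  obtain ⟨n', x, y, z, h⟩ := exists_wrData hS
  have hnn : n' = n := by
    have h1 := h.card
    rw [hn] at h1
    have := Nat.pow_right_injective (le_refl 2) h1
    omega
  subst hnn
  haveI : NeZero (2 ^ n') := ⟨by positivity⟩
  have hn2 := h.hn
  obtain ⟨m, rfl⟩ : ∃ m, n' = m + 1 := ⟨n' - 1, by omega⟩
  haveI : NeZero (2 ^ m) := ⟨by positivity⟩
  have hN : 2 ^ (m + 1) = 2 * 2 ^ m := by rw [pow_succ]; ring
  let e : Wr (2 ^ (m + 1)) ≃* S := h.iso
  have himage : e.toMonoidHom '' {u : Wr (2 ^ (m + 1)) | orderOf u = 2} = {s : S | orderOf s = 2} := by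
    ext s
    constructor
    · rintro ⟨u, hu, rfl⟩
      rw [Set.mem_ofPred_eq] at hu ⊢
      exact (MulEquiv.orderOf_eq e u).trans hu
    · intro hs
      refine ⟨e.symm s, ?_, e.apply_symm_apply s⟩
      rw [Set.mem_ofPred_eq] at hs ⊢
      exact (MulEquiv.orderOf_eq e.symm s).trans hs
  have hcl : Subgroup.closure {s : S | orderOf s = 2} =
      ((Wr.sHom (Dvd.intro_left 2 hN.symm)).ker).map e.toMonoidHom := by
    rw [← Wr.closure_involutions hN (by positivity), MonoidHom.map_closure, himage]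
  constructor
  · rw [hcl]
    have h1 := Nat.card_congr (e.subgroupMap (Wr.sHom (Dvd.intro_left 2 hN.symm)).ker).toEquiv
    have h2 := Wr.card_ker_sHom (Dvd.intro_left 2 hN.symm)
    have h3 : Nat.card ↥(Subgroup.map e.toMonoidHom (Wr.sHom (Dvd.intro_left 2 hN.symm)).ker) * 2 ^ m
        = 2 ^ (m + 1 + 2) * 2 ^ m := by
      have : Nat.card ↥(Subgroup.map e.toMonoidHom (Wr.sHom (Dvd.intro_left 2 hN.symm)).ker) =
          Nat.card (Wr.sHom (Dvd.intro_left 2 hN.symm)).ker := h1.symm
      rw [this, h2]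
      ring
    exact Nat.eq_of_mul_eq_mul_right (by positivity) h3
  · refine ⟨x, ?_⟩
    rw [eq_top_iff]
    set T := Subgroup.closure {x : S | orderOf x = 2} ⊔ Subgroup.zpowers x with hT
    have hx : x ∈ T := Subgroup.mem_sup_right (Subgroup.mem_zpowers x)
    have hz : z ∈ T := Subgroup.mem_sup_left (Subgroup.subset_closure h.oz)
    have hy : y ∈ T := by
      rw [← h.conj]
      exact T.mul_mem (T.mul_mem hz hx) (T.inv_mem hz)
    intro g _
    obtain ⟨u, rfl⟩ := h.iso.surjective g
    rw [WrData.iso_apply, WrData.toFun]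
    refine T.mul_mem (T.mul_mem ?_ ?_) ?_
    · exact (Subgroup.zpowers_le.mpr hx) (pw_mem _ _ _ _)
    · exact (Subgroup.zpowers_le.mpr hy) (pw_mem _ _ _ _)
    · cases u.c
      · exact T.one_mem
      · exact hz

end Cfsg.Agent.S1200
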