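import Mathlib
import Cfsg.Statements.S1202
import Cfsg.Agent.Helper99.WreathedIso
import Cfsg.Agent.Helper99.Transport
import Cfsg.Agent.Helper99.WreathedSC

set_option autoImplicit false
open Cfsg

namespace Cfsg.Agent.S1202

open Cfsg.Agent.Helper99

section transport
variable {G H : Type*} [Group G] [Group H]

theorem centralizer_map_le (e : G ≃* H) (X : Subgroup G)
    (hC : Subgroup.centralizer (X : Set G) ≤ X) :
    Subgroup.centralizer ((X.map e.toMonoidHom : Subgroup H) : Set H) ≤ X.map e.toMonoidHom := by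
  intro u hu
  refine ⟨e.symm u, hC ?_, e.apply_symm_apply u⟩
  rw [Subgroup.mem_centralizer_iff]
  intro x hx
  apply e.injective
  rw [map_mul, map_mul, e.apply_symm_apply]
  exact (Subgroup.mem_centralizer_iff.mp hu) (e x) ⟨x, hx, rfl⟩

theorem not_isPGroup_mulAut_map (e : G ≃* H) (X : Subgroup G) (hA : ¬ IsPGroup 2 (MulAut X)) :
    ¬ IsPGroup 2 (MulAut (X.map e.toMonoidHom)) :=
  fun h => hA (h.of_equiv (MulAut.congr (e.subgroupMap X).symm))

theorem isMulCommutative_of_map (e : G ≃* H) (X : Subgroup G)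
    (h : IsMulCommutative (X.map e.toMonoidHom)) : IsMulCommutative X :=
  ⟨⟨fun a b => (e.subgroupMap X).injective (by
    rw [map_mul, map_mul]
    exact h.is_comm.comm _ _)⟩⟩

theorem map_symm_map (e : G ≃* H) (X : Subgroup H) :
    (X.map e.symm.toMonoidHom).map e.toMonoidHom = X := by
  rw [Subgroup.map_map]
  ext s
  simp

theorem map_conj_map (e : G ≃* H) (X : Subgroup G) (s : G) :
    (X.map (MulAut.conj s).toMonoidHom).map e.toMonoidHom =
      (X.map e.toMonoidHom).map (MulAut.conj (e s)).toMonoidHom := by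
  rw [Subgroup.map_map, Subgroup.map_map]
  congr 1
  ext x
  simp

end transport

/-- Let S be a wreathed 2-group of order 2^(2n+1) and X a subgroup with C_S(X) ≤ X such that Aut(X) is not a 2-group. Then |N_S(X) : X| = 2, and either X is the commutative subgroup of order 2^(2n), or X = Q·Z(S) for some subgroup Q ≅ Q₈; in the latter case any two such subgroups are conjugate in S. -/
theorem result {S : Type*} [Group S] [Finite S] (hS : Cfsg.IsWreathed S) (n : ℕ) (hn : Nat.card S = 2 ^ (2 * n + 1)) (X : Subgroup S) (hC : Subgroup.centralizer (X : Set S) ≤ X) (hA : ¬ IsPGroup 2 (MulAut X)) : X.relIndex (Subgroup.normalizer (X : Set S)) = 2 ∧ ((IsMulCommutative X ∧ Nat.card X = 2 ^ (2 * n)) ∨ ∃ Q : Subgroup S, Nonempty (Q ≃* QuaternionGroup 2) ∧ X = Q ⊔ Subgroup.center S) ∧ ∀ X' : Subgroup S, Subgroup.centralizer (X' : Set S) ≤ X' → ¬ IsPGroup 2 (MulAut X') → ¬ IsMulCommutative X → ¬ IsMulCommutative X' → ∃ s : S, X.map (MulAut.conj s).toMonoidHom = X' := by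
  obtain ⟨n', x, y, z, h⟩ := exists_wrData hS
  have hnn : n' = n := by
    have h1 := h.card
    rw [hn] at h1
    have := Nat.pow_right_injective (le_refl 2) h1
    omega
  subst hnn
  have hn2 := h.hn
  obtain ⟨m, rfl⟩ : ∃ m, n' = m + 2 := ⟨n' - 2, by omega⟩
  have : NeZero (2 ^ (m + 2)) := ⟨by positivity⟩
  have : Fact (1 < 2 ^ (m + 2)) := ⟨Nat.one_lt_two_pow (by omega)⟩
  have hN : 2 ^ (m + 2) = 2 * 2 ^ (m + 1) := by rw [pow_succ]; ring
  have hh : 2 ^ (m + 1) = 2 * 2 ^ m := by rw [pow_succ]; ring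
  have hh0 : 0 < 2 ^ (m + 1) := by positivity
  let e : Wr (2 ^ (m + 2)) ≃* S := h.iso
  have main := fun (Y : Subgroup (Wr (2 ^ (m + 2)))) => Wr.selfCentralizing_main hN hh hh0 rfl Y
  set X₀ : Subgroup (Wr (2 ^ (m + 2))) := X.map e.symm.toMonoidHom with hX₀
  have hback : X₀.map e.toMonoidHom = X := map_symm_map e X
  have hC₀ := centralizer_map_le e.symm X hC
  have hA₀ := not_isPGroup_mulAut_map e.symm X hA
  obtain ⟨h1, h2, h3⟩ := main X₀ hC₀ hA₀
  have hcommX : IsMulCommutative X₀ → IsMulCommutative X := isMulCommutative_of_map e.symm X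
  refine ⟨?_, ?_, ?_⟩
  · have hrel : (X₀.map e.toMonoidHom).relIndex
        ((Subgroup.normalizer (X₀ : Set (Wr (2 ^ (m + 2))))).map e.toMonoidHom) =
        X₀.relIndex (Subgroup.normalizer (X₀ : Set (Wr (2 ^ (m + 2))))) :=
      Subgroup.relIndex_map_map_of_injective (f := e.toMonoidHom) X₀ _ e.injective
    rw [Subgroup.map_equiv_normalizer_eq, hback] at hrel
    rw [hrel]
    exact h1
  · rcases h2 with ⟨hc, hcard⟩ | ⟨Q, ⟨φ⟩, hQ⟩
    · left
      refine ⟨hcommX hc, ?_⟩
      have : Nat.card X = Nat.card X₀ := Nat.card_congr (e.symm.subgroupMap X).toEquiv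
      rw [this, hcard, ← pow_add]
      congr 1
      ring
    · right
      refine ⟨Q.map e.toMonoidHom, ⟨(e.subgroupMap Q).symm.trans φ⟩, ?_⟩
      rw [← hback, hQ, Subgroup.map_sup, map_center_equiv]
  · intro X' hC' hA' hX hX'
    set X₀' : Subgroup (Wr (2 ^ (m + 2))) := X'.map e.symm.toMonoidHom with hX₀'
    have hback' : X₀'.map e.toMonoidHom = X' := map_symm_map e X'
    obtain ⟨s, hs⟩ := h3 X₀' (centralizer_map_le e.symm X' hC') (not_isPGroup_mulAut_map e.symm X' hA')
      (fun hc => hX (hcommX hc)) (fun hc => hX' (isMulCommutative_of_map e.symm X' hc))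
    refine ⟨e s, ?_⟩
    rw [← hback, ← map_conj_map, hs, hback']

end Cfsg.Agent.S1202
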