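import Cfsg.Statements.S1214
import Cfsg.Agent.Helper20.SimpleNormal2
import Cfsg.Agent.Helper20.OddQuot

set_option autoImplicit false
open Cfsg

namespace Cfsg.Agent.S1214

/-- Let G be a finite group with quasi-dihedral or wreathed Sylow 2-subgroups and no subgroup of index 2. Then G/O(G), the quotient by the largest normal subgroup of odd order, has a normal subgroup of odd index which is a non-abelian simple group. -/
theorem result {G : Type*} [Group G] [Finite G] (S : Sylow 2 G) (hS : Cfsg.IsQuasiDihedral (S : Subgroup G) ∨ Cfsg.IsWreathed (S : Subgroup G)) (hG : ∀ H : Subgroup G, H.index ≠ 2) : ∃ L : Subgroup (G ⧸ Cfsg.oddCore G), L.Normal ∧ Odd L.index ∧ IsSimpleGroup L ∧ ¬ IsMulCommutative L := by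
  haveI : Fact (Nat.Prime 2) := ⟨Nat.prime_two⟩
  have hNodd : Odd (Nat.card (Cfsg.oddCore G)) := Cfsg.Agent.Lib.odd_card_oddCore
  obtain ⟨St, hStdef⟩ : ∃ St : Sylow 2 (G ⧸ Cfsg.oddCore G),
      St = S.mapSurjective (QuotientGroup.mk'_surjective (Cfsg.oddCore G)) := ⟨_, rfl⟩
  obtain ⟨e⟩ : Nonempty (↥(S : Subgroup G) ≃* ↥(St : Subgroup (G ⧸ Cfsg.oddCore G))) := by
    rw [hStdef]
    exact Cfsg.Agent.Helper20.sylow_quotient_equiv (Cfsg.oddCore G) hNodd S
  have hO := Cfsg.Agent.Helper20.oddCore_quotient_eq_bot (G := G)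
  have hG' := Cfsg.Agent.Helper20.no_index_two_quotient (Cfsg.oddCore G) hG
  rcases hS with hS | hS
  · exact Cfsg.Agent.Helper20.exists_simple_normal_of_qd St
      (Cfsg.Agent.Helper20.isQuasiDihedral_of_equiv e.symm hS) hO hG'
  · exact Cfsg.Agent.Helper20.exists_simple_normal_of_wr St
      (Cfsg.Agent.Helper20.isWreathed_of_equiv e.symm hS) hO hG'

end Cfsg.Agent.S1214
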