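import Cfsg.Statements.S1224
import Cfsg.Agent.Helper21.SE

set_option autoImplicit false
open Cfsg

namespace Cfsg.Agent.S1224

open Cfsg.Agent.Helper21

/-- Let H be a strongly embedded subgroup of the finite group G and x ≠ y two cosets in G/H. Then the number of involutions i of G with i • x = y equals the number of involutions lying in H. -/
theorem result {G : Type*} [Group G] [Finite G] (H : Subgroup G) (hH : Cfsg.IsStronglyEmbedded H) (x y : G ⧸ H) (hxy : x ≠ y) : Nat.card {i : G // orderOf i = 2 ∧ i • x = y} = Nat.card {t : G // orderOf t = 2 ∧ t ∈ H} := by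
  induction x using QuotientGroup.induction_on with
  | H a =>
  induction y using QuotientGroup.induction_on with
  | H b =>
  have hg : a⁻¹ * b ∉ H := fun h => hxy (QuotientGroup.eq.2 h)
  obtain ⟨t₀, ht₀H, ht₀⟩ := IsStronglyEmbedded.exists_invol hH
  have e1 : {i : G // orderOf i = 2 ∧ i • (a : G ⧸ H) = (b : G ⧸ H)} ≃
      {j : G // orderOf j = 2 ∧ (a⁻¹ * b)⁻¹ * j ∈ H} := by
    refine Equiv.subtypeEquiv (MulAut.conj a⁻¹).toEquiv ?_
    intro i
    simp only [MulEquiv.toEquiv_eq_coe, MulEquiv.coe_toEquiv, MulAut.conj_apply, inv_inv]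
    rw [orderOf_conj_eq', MulAction.Quotient.smul_mk, QuotientGroup.eq, smul_eq_mul]
    constructor
    · rintro ⟨h1, h2⟩
      refine ⟨h1, ?_⟩
      have := H.inv_mem h2
      have e : ((i * a)⁻¹ * b)⁻¹ = (a⁻¹ * b)⁻¹ * (a⁻¹ * i * a) := by group
      rwa [e] at this
    · rintro ⟨h1, h2⟩
      refine ⟨h1, ?_⟩
      have := H.inv_mem h2
      have e : ((a⁻¹ * b)⁻¹ * (a⁻¹ * i * a))⁻¹ = (i * a)⁻¹ * b := by group
      rwa [e] at this
  exact Nat.card_congr (e1.trans (IsStronglyEmbedded.involEquiv hH hg ht₀ ht₀H))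

end Cfsg.Agent.S1224
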