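import Cfsg.Statements.S1228
import Cfsg.Agent.Helper21.CIT3

set_option autoImplicit false
open Cfsg

namespace Cfsg.Agent.S1228

open Cfsg.Agent.Helper21 Cfsg.Agent.Helper4

/-- Let G be a finite group with a Sylow 2-subgroup T that is neither cyclic nor normal, such that the centralizer of every involution is an elementary abelian 2-group; put H = N_G(T), let u be an involution outside H and D = H ∩ uHu⁻¹. Then N_G(D) = D ⊔ ⟨u⟩, and a coset gH is fixed by every element of D exactly when gH = H or gH = uH. -/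
theorem result {G : Type*} [Group G] [Finite G] (T : Sylow 2 G) (hnc : ¬ IsCyclic (T : Subgroup G)) (hnn : ¬ (T : Subgroup G).Normal) (hC : ∀ t : G, orderOf t = 2 → IsMulCommutative (Subgroup.centralizer ({t} : Set G)) ∧ ∀ c ∈ Subgroup.centralizer ({t} : Set G), c ^ 2 = 1) (u : G) (hu : orderOf u = 2) (huH : u ∉ Subgroup.normalizer ((T : Subgroup G) : Set G)) : Subgroup.normalizer ((Subgroup.normalizer ((T : Subgroup G) : Set G) ⊓ (Subgroup.normalizer ((T : Subgroup G) : Set G)).map (MulAut.conj u).toMonoidHom : Subgroup G) : Set G) = (Subgroup.normalizer ((T : Subgroup G) : Set G) ⊓ (Subgroup.normalizer ((T : Subgroup G) : Set G)).map (MulAut.conj u).toMonoidHom) ⊔ Subgroup.zpowers u ∧ ∀ g : G, ((∀ d ∈ Subgroup.normalizer ((T : Subgroup G) : Set G) ⊓ (Subgroup.normalizer ((T : Subgroup G) : Set G)).map (MulAut.conj u).toMonoidHom, d • (QuotientGroup.mk g : G ⧸ Subgroup.normalizer ((T : Subgroup G) : Set G)) = QuotientGroup.mk g) ↔ (QuotientGroup.mk g : G ⧸ Subgroup.normalizer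 ((T : Subgroup G) : Set G)) = QuotientGroup.mk 1 ∨ (QuotientGroup.mk g : G ⧸ Subgroup.normalizer ((T : Subgroup G) : Set G)) = QuotientGroup.mk u) := by
  have hC' : CITHyp G := hC
  refine ⟨CITHyp.normalizer_inf hC' T hnc hnn hu huH, ?_⟩
  intro g
  set N := Subgroup.normalizer ((T : Subgroup G) : Set G) with hN
  set D := N ⊓ N.map (MulAut.conj u).toMonoidHom with hD
  have hsmul : ∀ d : G, d • (QuotientGroup.mk g : G ⧸ N) = QuotientGroup.mk g ↔
      g⁻¹ * d⁻¹ * g ∈ N := by
    intro d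
    rw [MulAction.Quotient.smul_mk, QuotientGroup.eq]
    have : (d • g)⁻¹ * g = g⁻¹ * d⁻¹ * g := by rw [smul_eq_mul]; group
    rw [this]
  have h1 : (QuotientGroup.mk g : G ⧸ N) = QuotientGroup.mk 1 ↔ g ∈ N := by
    rw [QuotientGroup.eq, mul_one]
    exact ⟨fun h => by simpa using N.inv_mem h, fun h => N.inv_mem h⟩
  have h2 : (QuotientGroup.mk g : G ⧸ N) = QuotientGroup.mk u ↔ u⁻¹ * g ∈ N := by
    rw [QuotientGroup.eq]
    constructor
    · intro h
      have := N.inv_mem h
      rwa [mul_inv_rev, inv_inv] at this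
    · intro h
      have := N.inv_mem h
      rwa [mul_inv_rev, inv_inv] at this
  rw [h1, h2]
  constructor
  · intro hfix
    by_cases hg : g ∈ N
    · exact Or.inl hg
    · right
      apply CITHyp.mem_of_fixed hC' T hnc hnn hu huH hg
      intro d hd
      have := (hsmul d⁻¹).1 (hfix d⁻¹ (D.inv_mem hd))
      rwa [inv_inv] at this
  · rintro (hg | hg) d hd
    · rw [hsmul]
      exact N.mul_mem (N.mul_mem (N.inv_mem hg) (N.inv_mem hd.1)) hg
    · rw [hsmul]
      have hd' := ((mem_inf_conj N u d⁻¹).1 (D.inv_mem hd)).2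
      have : g⁻¹ * d⁻¹ * g = (u⁻¹ * g)⁻¹ * (u⁻¹ * d⁻¹ * u) * (u⁻¹ * g) := by group
      rw [this]
      exact N.mul_mem (N.mul_mem (N.inv_mem hg) hd') hg

end Cfsg.Agent.S1228
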