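import Cfsg.Statements.S1229
import Cfsg.Agent.Helper21.CIT4

set_option autoImplicit false
open Cfsg

namespace Cfsg.Agent.S1229

open Cfsg.Agent.Helper21 Cfsg.Agent.Helper4

/-- Let G be a finite group with a Sylow 2-subgroup T that is neither cyclic nor normal, such that the centralizer of every involution is an elementary abelian 2-group; put H = N_G(T) and X = G/H. Then G is triply transitive on X, an element fixing three distinct points of X is the identity, and T acts regularly on X minus the point H. -/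
theorem result {G : Type*} [Group G] [Finite G] (T : Sylow 2 G) (hnc : ¬ IsCyclic (T : Subgroup G)) (hnn : ¬ (T : Subgroup G).Normal) (hC : ∀ t : G, orderOf t = 2 → IsMulCommutative (Subgroup.centralizer ({t} : Set G)) ∧ ∀ c ∈ Subgroup.centralizer ({t} : Set G), c ^ 2 = 1) : (∀ x₁ x₂ x₃ y₁ y₂ y₃ : G ⧸ Subgroup.normalizer ((T : Subgroup G) : Set G), x₁ ≠ x₂ → x₁ ≠ x₃ → x₂ ≠ x₃ → y₁ ≠ y₂ → y₁ ≠ y₃ → y₂ ≠ y₃ → ∃ g : G, g • x₁ = y₁ ∧ g • x₂ = y₂ ∧ g • x₃ = y₃) ∧ (∀ g : G, ∀ x₁ x₂ x₃ : G ⧸ Subgroup.normalizer ((T : Subgroup G) : Set G), x₁ ≠ x₂ → x₁ ≠ x₃ → x₂ ≠ x₃ → g • x₁ = x₁ → g • x₂ = x₂ → g • x₃ = x₃ → g = 1) ∧ (∀ x y : G ⧸ Subgroup.normalizer ((T : Subgroup G) : Set G), x ≠ QuotientGroup.mk 1 → y ≠ QuotientGroup.mk 1 → ∃! t : G, t ∈ T ∧ t • x = y) := by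
  have hC' : CITHyp G := hC
  have hH := CITHyp.isStronglyEmbedded hC' T hnc hnn
  obtain ⟨u, hu, huH⟩ := IsStronglyEmbedded.exists_invol_not_mem hH
  refine ⟨?_, ?_, ?_⟩
  · intro x₁ x₂ x₃ y₁ y₂ y₃ hx12 hx13 hx23 hy12 hy13 hy23
    obtain ⟨c, hc1, hc2⟩ := CITHyp.exists_smul_eq_pair hC' T hnc hnn hu huH x₁ x₂ hx12
    obtain ⟨c', hc'1, hc'2⟩ := CITHyp.exists_smul_eq_pair hC' T hnc hnn hu huH y₁ y₂ hy12
    have hz1 : c • x₃ ≠ QuotientGroup.mk 1 := by
      rw [← hc1]; intro h; exact hx13 (smul_left_cancel c h).symm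
    have hzu : c • x₃ ≠ QuotientGroup.mk u := by
      rw [← hc2]; intro h; exact hx23 (smul_left_cancel c h).symm
    have hz'1 : c' • y₃ ≠ QuotientGroup.mk 1 := by
      rw [← hc'1]; intro h; exact hy13 (smul_left_cancel c' h).symm
    have hz'u : c' • y₃ ≠ QuotientGroup.mk u := by
      rw [← hc'2]; intro h; exact hy23 (smul_left_cancel c' h).symm
    obtain ⟨d, hdD, hd⟩ := CITHyp.exists_inf_smul hC' T hnc hnn hu huH _ _ hz1 hzu hz'1 hz'u
    obtain ⟨hd1, hdu⟩ := CITHyp.smul_eq_of_mem_inf T hdD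
    refine ⟨c'⁻¹ * d * c, ?_, ?_, ?_⟩
    · rw [mul_smul, mul_smul, hc1, hd1, ← hc'1, ← mul_smul, inv_mul_cancel, one_smul]
    · rw [mul_smul, mul_smul, hc2, hdu, ← hc'2, ← mul_smul, inv_mul_cancel, one_smul]
    · rw [mul_smul, mul_smul, hd, ← mul_smul, inv_mul_cancel, one_smul]
  · intro g x₁ x₂ x₃ hx12 hx13 hx23 h1 h2 h3
    obtain ⟨c, hc1, hc2⟩ := CITHyp.exists_smul_eq_pair hC' T hnc hnn hu huH x₁ x₂ hx12
    have hz1 : c • x₃ ≠ QuotientGroup.mk 1 := by
      rw [← hc1]; intro h; exact hx13 (smul_left_cancel c h).symm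
    have hzu : c • x₃ ≠ QuotientGroup.mk u := by
      rw [← hc2]; intro h; exact hx23 (smul_left_cancel c h).symm
    have hfix : ∀ x : G ⧸ Subgroup.normalizer ((T : Subgroup G) : Set G), g • x = x →
        (c * g * c⁻¹) • (c • x) = c • x := by
      intro x hx
      rw [← mul_smul, mul_assoc, mul_assoc, inv_mul_cancel, mul_one, mul_smul, hx]
    have k1 := hfix x₁ h1
    have k2 := hfix x₂ h2
    have k3 := hfix x₃ h3
    rw [hc1] at k1
    rw [hc2] at k2
    have hD := CITHyp.mem_inf_of_smul_eq T k1 k2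
    have hone : c * g * c⁻¹ = 1 := by
      by_contra hne
      rcases CITHyp.eq_of_smul_eq hC' T hnc hnn hu huH hD hne _ k3 with h | h
      · exact hz1 h
      · exact hzu h
    have : g = c⁻¹ * (c * g * c⁻¹) * c := by group
    rw [this, hone]; group
  · intro x y hx hy
    exact CITHyp.existsUnique_sylow_smul hC' T hnc hnn x y hx hy

end Cfsg.Agent.S1229
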