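import Cfsg.Statements.S1231
import Cfsg.Agent.Helper21.PRank2

set_option autoImplicit false
open Cfsg

namespace Cfsg.Agent.S1231

open Cfsg.Agent.Helper21

/-- Let H be a subgroup of the finite group G, p a prime, k ≥ 1, and P a Sylow p-subgroup of H whose p-rank is at least k. Then N_G(X) ≤ H for every subgroup X of P of p-rank at least k if and only if H ∩ gHg⁻¹ has p-rank less than k for every g ∉ H. -/
theorem result {G : Type*} [Group G] [Finite G] {p : ℕ} [Fact p.Prime] (k : ℕ) (hk : 1 ≤ k) (H : Subgroup G) (P : Sylow p ↥H) (hP : ¬ Cfsg.PRankLE p (k - 1) ↥(P : Subgroup ↥H)) : (∀ X : Subgroup G, X ≤ (P : Subgroup ↥H).map H.subtype → ¬ Cfsg.PRankLE p (k - 1) ↥X → Subgroup.normalizer (X : Set G) ≤ H) ↔ (∀ g : G, g ∉ H → Cfsg.PRankLE p (k - 1) ↥(H ⊓ H.map (MulAut.conj g).toMonoidHom)) := by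
  constructor
  · intro h1 g hg
    by_contra hcon
    rw [not_prankLE_iff] at hcon
    apply hg
    apply mem_of_hasEA_inf_conj H P _ g hcon
    intro X hX hXea
    exact h1 X hX ((not_prankLE_iff X).2 hXea)
  · intro h2 X hX hXr m hm
    by_contra hmH
    have h3 := h2 m hmH
    apply hXr
    by_contra hcon
    rw [not_prankLE_iff] at hcon
    have h4 : HasEA p (k - 1) (H ⊓ H.map (MulAut.conj m).toMonoidHom) := by
      apply hcon.mono
      apply le_inf
      · intro x hx
        obtain ⟨y, -, rfl⟩ := hX hx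
        exact y.2
      · intro x hx
        rw [mem_map_conj_iff]
        have hm' : m⁻¹ ∈ Subgroup.normalizer (X : Set G) := Subgroup.inv_mem _ hm
        have h5 := (Subgroup.mem_normalizer_iff.1 hm' x).1 hx
        rw [inv_inv] at h5
        obtain ⟨y, -, hy⟩ := hX h5
        rw [← hy]
        exact y.2
    exact (not_prankLE_iff _).2 h4 h3

end Cfsg.Agent.S1231
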