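import Cfsg.Statements.S1236
import Mathlib
import Cfsg.Agent.Helper4.ThinCyclic

set_option autoImplicit false
open Cfsg

namespace Cfsg.Agent.S1236

/-- Let R be a finite group, t a central involution of R such that R ⧸ ⟨t⟩ is dihedral (of order ≥ 4) or quasi-dihedral, and A ≤ R an elementary abelian subgroup of order 8 containing t. Then C_R(A) = A. -/
theorem result {R : Type*} [Group R] [Finite R] (t : R) (ht : orderOf t = 2) (htz : t ∈ Subgroup.center R) [(Subgroup.zpowers t).Normal] (hq : (∃ m : ℕ, 2 ≤ m ∧ Nonempty (R ⧸ Subgroup.zpowers t ≃* DihedralGroup m)) ∨ Cfsg.IsQuasiDihedral (R ⧸ Subgroup.zpowers t)) (A : Subgroup R) (hA : Cfsg.IsElementaryAbelian 2 A) (hA8 : Nat.card A = 8) (htA : t ∈ A) : Subgroup.centralizer (A : Set R) = A := by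
  have hthin : Cfsg.Agent.Helper4.HasThinCyclicIndexTwo (R ⧸ Subgroup.zpowers t) := by
    rcases hq with ⟨m, hm, ⟨e⟩⟩ | hq
    · exact Cfsg.Agent.Helper4.hasThin_of_mulEquiv e (Cfsg.Agent.Helper4.hasThin_dihedral m hm)
    · exact Cfsg.Agent.Helper4.hasThin_quasiDihedral hq
  obtain ⟨hAcomm, hA2⟩ := hA
  have hAab : ∀ a ∈ A, ∀ b ∈ A, a * b = b * a := by
    intro a ha b hb
    have := mul_comm' (⟨a, ha⟩ : A) ⟨b, hb⟩
    exact congrArg Subtype.val this
  set π := QuotientGroup.mk' (Subgroup.zpowers t) with hπ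
  set V := A.map π with hV
  have hker : π.ker = Subgroup.zpowers t := QuotientGroup.ker_mk' _
  have hkerA : π.ker ≤ A := by
    rw [hker, Subgroup.zpowers_le]
    exact htA
  have hcomap : V.comap π = A := by
    rw [hV, Subgroup.comap_map_eq, sup_eq_left.mpr hkerA]
  have hV4 : Nat.card V = 4 := by
    have h1 : Nat.card (Subgroup.zpowers t) = 2 := by rw [Nat.card_zpowers, ht]
    have h2 := Subgroup.card_eq_card_quotient_mul_card_subgroup (Subgroup.zpowers t)
    have h3 := Subgroup.card_mul_index A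
    have h4 := Subgroup.card_mul_index V
    have h5 : V.index = A.index := by
      rw [← hcomap, Subgroup.index_comap_of_surjective V (QuotientGroup.mk'_surjective _)]
    rw [h5] at h4
    rw [h1] at h2
    rw [hA8] at h3
    have hpos : 0 < A.index := Nat.pos_of_ne_zero (Subgroup.index_ne_zero_of_finite)
    nlinarith
  have hV2 : ∀ a ∈ V, a * a = 1 := by
    rintro _ ⟨a, ha, rfl⟩
    rw [← map_mul, ← pow_two, hA2 a ha, map_one]
  have hVab : ∀ a ∈ V, ∀ b ∈ V, a * b = b * a := by
    rintro _ ⟨a, ha, rfl⟩ _ ⟨b, hb, rfl⟩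
    rw [← map_mul, ← map_mul, hAab a ha b hb]
  have hself := Cfsg.Agent.Helper4.four_self_centralizing hthin V hV4 hV2 hVab
  apply le_antisymm
  · intro z hz
    rw [← hcomap, Subgroup.mem_comap, ← hself, Subgroup.mem_centralizer_iff]
    rintro _ ⟨a, ha, rfl⟩
    rw [← map_mul, ← map_mul, (Subgroup.mem_centralizer_iff.mp hz) a ha]
  · intro a ha
    rw [Subgroup.mem_centralizer_iff]
    intro b hb
    exact hAab b hb a ha

end Cfsg.Agent.S1236
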