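import Cfsg.Statements.S1241
import Mathlib.GroupTheory.Focal
import Mathlib.GroupTheory.Abelianization.Defs

set_option autoImplicit false
open Cfsg

namespace Cfsg.Agent.S1241

open scoped IsMulCommutative commutatorElement

/-- Transfer into an abelian quotient `H ⧸ K'`, evaluated on an element `g ∈ H` all of whose
`G`-conjugates of powers that land in `H` are congruent to those powers modulo `K'`. -/
theorem transfer_mk'_eq_pow {G : Type*} [Group G] (H : Subgroup G) [H.FiniteIndex]
    (K' : Subgroup H) [K'.Normal] [IsMulCommutative (H ⧸ K')] (g : G) (hgH : g ∈ H)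
    (key : ∀ (n : ℕ) (a : G) (h : a⁻¹ * g ^ n * a ∈ H),
      (⟨a⁻¹ * g ^ n * a, h⟩ : H) * ((⟨g, hgH⟩ : H) ^ n)⁻¹ ∈ K') :
    MonoidHom.transfer (QuotientGroup.mk' K') g =
      ((QuotientGroup.mk' K') ⟨g, hgH⟩) ^ H.index := by
  classical
  have : Fintype (Quotient (MulAction.orbitRel (Subgroup.zpowers g) (G ⧸ H))) :=
    Fintype.ofFinite _
  rw [Subgroup.index_eq_sum_minimalPeriod H g, ← Finset.prod_pow_eq_pow_sum,
    MonoidHom.transfer_eq_prod_quotient_orbitRel_zpowers_quot]
  apply Finset.prod_congr rfl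
  intro q _
  rw [← map_pow, ← mul_inv_eq_one, ← map_inv, ← map_mul, QuotientGroup.mk'_apply,
    QuotientGroup.eq_one_iff]
  exact key _ _ _

/-- Let G be a finite group, p a prime, H a subgroup of index prime to p, K a subgroup of H normal in H with H/K commutative, and g ∈ H ∖ K an element of p-power order such that for all integers m and all a ∈ G with a g^m a⁻¹ ∈ H one has a g^m a⁻¹ ∈ g^m K. Then g ∉ G'. -/
theorem result {G : Type*} [Group G] [Finite G] {p : ℕ} [Fact p.Prime] (H K : Subgroup G) (hHK : K ≤ H) (hKn : (K.subgroupOf H).Normal) (hab : ∀ x ∈ H, ∀ y ∈ H, x * y * x⁻¹ * y⁻¹ ∈ K) (hidx : Nat.Coprime p H.index) (g : G) (hgH : g ∈ H) (hgK : g ∉ K) (hgp : ∃ k : ℕ, orderOf g = p ^ k) (hctrl : ∀ (m : ℤ) (a : G), a * g ^ m * a⁻¹ ∈ H → (a * g ^ m * a⁻¹) * (g ^ m)⁻¹ ∈ K) : g ∉ commutator G := by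
  intro hgc
  haveI := hKn
  have hcomm : commutator H ≤ K.subgroupOf H := by
    rw [commutator_def, Subgroup.commutator_le]
    intro x _ y _
    rw [Subgroup.mem_subgroupOf, commutatorElement_def]
    exact hab x x.2 y y.2
  haveI : IsMulCommutative (H ⧸ K.subgroupOf H) :=
    Subgroup.Normal.quotient_commutative_iff_commutator_le.mpr hcomm
  have h1 := transfer_mk'_eq_pow H (K.subgroupOf H) g hgH (by
    intro n a h
    rw [Subgroup.mem_subgroupOf]
    have := hctrl (n : ℤ) a⁻¹ (by simpa using h)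
    simpa using this)
  have h2 : MonoidHom.transfer (QuotientGroup.mk' (K.subgroupOf H)) g = 1 :=
    MonoidHom.mem_ker.1 (Abelianization.commutator_subset_ker _ hgc)
  rw [h2, ← map_pow, eq_comm, QuotientGroup.mk'_apply, QuotientGroup.eq_one_iff,
    Subgroup.mem_subgroupOf] at h1
  have h3 : g ^ H.index ∈ K := by simpa using h1
  obtain ⟨k, hk⟩ := hgp
  have hcop : H.index.Coprime (orderOf g) := by
    rw [hk]
    exact (Nat.Coprime.pow_left k hidx).symm
  obtain ⟨m, hm⟩ := exists_pow_eq_self_of_coprime hcop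
  apply hgK
  rw [← hm]
  exact K.pow_mem h3 m

end Cfsg.Agent.S1241
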