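import Cfsg.Statements.S1242
import Cfsg.Agent.S1241

set_option autoImplicit false
set_option linter.style.haveILetI false
open Cfsg

namespace Cfsg.Agent.S1242

open scoped IsMulCommutative commutatorElement

/-- `O^p(H)` is a normal subgroup. -/
theorem pResidual_normal (p : ℕ) (H : Type*) [Group H] : (Cfsg.pResidual p H).Normal := by
  unfold Cfsg.pResidual
  rw [← Subgroup.normalizer_eq_top_iff, eq_top_iff, Subgroup.le_normalizer_closure_iff]
  intro g _ n hn
  apply Subgroup.subset_closure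
  simp only [Set.mem_ofPred_eq] at hn ⊢
  have : orderOf (g * n * g⁻¹) = orderOf n := by
    have := orderOf_injective (MulAut.conj g).toMonoidHom (MulAut.conj g).injective n
    simpa using this
  rw [this]; exact hn

theorem result {G : Type*} [Group G] [Finite G] {p : ℕ} [Fact p.Prime] (H : Subgroup G) (hidx : Nat.Coprime p H.index) (hfus : ∀ g ∈ H, (∃ k : ℕ, orderOf g = p ^ k) → ∀ a : G, a * g * a⁻¹ ∈ H → ∃ h ∈ H, h * g * h⁻¹ = a * g * a⁻¹) : (Cfsg.pResidual p G ⊔ commutator G) ⊓ H = (Cfsg.pResidual p ↥H ⊔ commutator ↥H).map H.subtype := by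
  have hp : p.Prime := Fact.out
  set K' : Subgroup H := Cfsg.pResidual p ↥H ⊔ commutator ↥H with hK'
  haveI hn1 : (Cfsg.pResidual p ↥H).Normal := pResidual_normal p H
  haveI hK'n : K'.Normal := Subgroup.sup_normal _ _
  haveI : IsMulCommutative (H ⧸ K') :=
    Subgroup.Normal.quotient_commutative_iff_commutator_le.mpr le_sup_right
  -- elements of order prime to `p` die in the quotient
  have hpr : ∀ h : H, (orderOf h).Coprime p → (QuotientGroup.mk' K') h = 1 := by
    intro h hh
    rw [QuotientGroup.mk'_apply, QuotientGroup.eq_one_iff]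
    exact le_sup_left (a := Cfsg.pResidual p ↥H) (Subgroup.subset_closure hh)
  -- the quotient is a `p`-group
  have hQ : IsPGroup p (H ⧸ K') := by
    intro y
    obtain ⟨h, rfl⟩ := QuotientGroup.mk'_surjective K' y
    have hpos : orderOf h ≠ 0 := (orderOf_pos h).ne'
    obtain ⟨a, m, hm, hord⟩ := Nat.exists_eq_pow_mul_and_not_dvd hpos p hp.ne_one
    refine ⟨a, ?_⟩
    rw [← map_pow]
    apply hpr
    have h1 : orderOf (h ^ p ^ a) = m := by
      rw [orderOf_pow' h (pow_ne_zero a hp.ne_zero), hord, Nat.gcd_eq_right (dvd_mul_right _ _),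
        Nat.mul_div_cancel_left _ (pow_pos hp.pos a)]
    rw [h1]
    exact ((Nat.Prime.coprime_iff_not_dvd hp).2 hm).symm
  set V : G →* H ⧸ K' := MonoidHom.transfer (QuotientGroup.mk' K') with hV
  -- `O^p(G) G'` lies in the kernel of the transfer
  have hker : Cfsg.pResidual p G ⊔ commutator G ≤ V.ker := by
    apply sup_le
    · unfold Cfsg.pResidual
      rw [Subgroup.closure_le]
      intro g hg
      simp only [Set.mem_ofPred_eq] at hg
      rw [SetLike.mem_coe, MonoidHom.mem_ker]
      obtain ⟨k, hk⟩ := hQ (V g)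
      have h1 : orderOf (V g) ∣ orderOf g := orderOf_map_dvd V g
      have h2 : orderOf (V g) ∣ p ^ k := orderOf_dvd_of_pow_eq_one hk
      have h3 : (orderOf g).Coprime (p ^ k) := Nat.Coprime.pow_right k hg
      have := Nat.eq_one_of_dvd_coprimes h3 h1 h2
      exact orderOf_eq_one_iff.1 this
    · exact Abelianization.commutator_subset_ker V
  apply le_antisymm
  · rintro x ⟨hxA, hxH⟩
    have hxH' : x ∈ H := hxH
    have hpos : orderOf x ≠ 0 := (orderOf_pos x).ne'
    obtain ⟨a, m, hm, hord⟩ := Nat.exists_eq_pow_mul_and_not_dvd hpos p hp.ne_one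
    -- y = x ^ m is a p-element
    set y : G := x ^ m with hy
    have hyH : y ∈ H := H.pow_mem hxH' m
    have hmpos : m ≠ 0 := by
      rintro rfl
      rw [mul_zero] at hord
      exact hpos hord
    have hyord : orderOf y = p ^ a := by
      rw [hy, orderOf_pow' x hmpos, hord, Nat.gcd_eq_right (dvd_mul_left _ _),
        Nat.mul_div_cancel _ (Nat.pos_of_ne_zero hmpos)]
    have hyA : y ∈ Cfsg.pResidual p G ⊔ commutator G := Subgroup.pow_mem _ hxA m
    have hVy : V y = 1 := MonoidHom.mem_ker.1 (hker hyA)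
    have h1 := Cfsg.Agent.S1241.transfer_mk'_eq_pow H K' y hyH (by
      intro n a' h
      -- y^n is a p-element of H
      have hynH : y ^ n ∈ H := H.pow_mem hyH n
      have hynord : ∃ k : ℕ, orderOf (y ^ n) = p ^ k := by
        have : orderOf (y ^ n) ∣ p ^ a := by
          rw [← hyord]; exact orderOf_pow_dvd n
        obtain ⟨k, _, hk⟩ := (Nat.dvd_prime_pow hp).1 this
        exact ⟨k, hk⟩
      obtain ⟨h', hh'H, hh'⟩ := hfus (y ^ n) hynH hynord a'⁻¹ (by simpa using h)
      have hcomm : (⟨a'⁻¹ * y ^ n * a', h⟩ : H) * ((⟨y, hyH⟩ : H) ^ n)⁻¹ =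
          ⁅(⟨h', hh'H⟩ : H), (⟨y, hyH⟩ : H) ^ n⁆ := by
        apply Subtype.ext
        simp only [commutatorElement_def, Subgroup.coe_mul, Subgroup.coe_inv, Subgroup.coe_pow]
        have : a'⁻¹ * y ^ n * a' = h' * y ^ n * h'⁻¹ := by
          rw [hh']; simp
        rw [this]
      rw [hcomm]
      apply le_sup_right (a := Cfsg.pResidual p ↥H)
      rw [commutator_def]
      exact Subgroup.commutator_mem_commutator (Subgroup.mem_top _) (Subgroup.mem_top _))
    rw [← hV, hVy] at h1
    -- mk y = 1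
    have hmky : (QuotientGroup.mk' K') ⟨y, hyH⟩ = 1 := by
      obtain ⟨k, hk⟩ := hQ ((QuotientGroup.mk' K') ⟨y, hyH⟩)
      have h2 : orderOf ((QuotientGroup.mk' K') ⟨y, hyH⟩) ∣ p ^ k := orderOf_dvd_of_pow_eq_one hk
      have h3 : orderOf ((QuotientGroup.mk' K') ⟨y, hyH⟩) ∣ H.index :=
        orderOf_dvd_of_pow_eq_one h1.symm
      have h4 : (p ^ k).Coprime H.index := Nat.Coprime.pow_left k hidx
      exact orderOf_eq_one_iff.1 (Nat.eq_one_of_dvd_coprimes h4 h2 h3)
    -- mk x = 1
    have hmkx : (QuotientGroup.mk' K') ⟨x, hxH'⟩ = 1 := by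
      obtain ⟨k, hk⟩ := hQ ((QuotientGroup.mk' K') ⟨x, hxH'⟩)
      have h2 : orderOf ((QuotientGroup.mk' K') ⟨x, hxH'⟩) ∣ p ^ k := orderOf_dvd_of_pow_eq_one hk
      have h3 : orderOf ((QuotientGroup.mk' K') ⟨x, hxH'⟩) ∣ m := by
        apply orderOf_dvd_of_pow_eq_one
        rw [← map_pow]
        exact hmky
      have h4 : (p ^ k).Coprime m :=
        Nat.Coprime.pow_left k ((Nat.Prime.coprime_iff_not_dvd hp).2 hm)
      exact orderOf_eq_one_iff.1 (Nat.eq_one_of_dvd_coprimes h4 h2 h3)
    rw [QuotientGroup.mk'_apply, QuotientGroup.eq_one_iff] at hmkx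
    exact ⟨⟨x, hxH'⟩, hmkx, rfl⟩
  · apply le_inf
    · rw [hK', Subgroup.map_sup]
      apply sup_le_sup
      · unfold Cfsg.pResidual
        rw [MonoidHom.map_closure, Subgroup.closure_le]
        rintro _ ⟨h, hh, rfl⟩
        apply Subgroup.subset_closure
        simp only [Set.mem_ofPred_eq] at hh ⊢
        rwa [Subgroup.coe_subtype, Subgroup.orderOf_coe]
      · rw [commutator_def, Subgroup.map_commutator, commutator_def]
        exact Subgroup.commutator_mono le_top le_top
    · exact Subgroup.map_subtype_le _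

end Cfsg.Agent.S1242
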