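import Cfsg.Statements.S1243

set_option autoImplicit false
open Cfsg

namespace Cfsg.Agent.S1243

theorem mem_map_conj {G : Type*} [Group G] (W : Subgroup G) (g x : G) :
    x ∈ W.map (MulAut.conj g).toMonoidHom ↔ g⁻¹ * x * g ∈ W := by
  constructor
  · rintro ⟨w, hw, rfl⟩
    simpa [mul_assoc] using hw
  · intro h
    exact ⟨g⁻¹ * x * g, h, by simp [mul_assoc]⟩

theorem map_conj_mul {G : Type*} [Group G] (W : Subgroup G) (a b : G) :
    W.map (MulAut.conj (a * b)).toMonoidHom
      = (W.map (MulAut.conj b).toMonoidHom).map (MulAut.conj a).toMonoidHom := by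
  ext x
  simp only [mem_map_conj]
  simp [mul_assoc]

/-- Let T be a Sylow p-subgroup of the finite group G and W ≤ T a subgroup weakly closed in T. If d and g d g⁻¹ both centralize W, then g d g⁻¹ = h d h⁻¹ for some h ∈ N_G(W). -/
theorem result {G : Type*} [Group G] [Finite G] {p : ℕ} [Fact p.Prime] (T : Sylow p G) (W : Subgroup G) (hW : Cfsg.IsWeaklyClosed W (T : Subgroup G)) (d g : G) (hd : d ∈ Subgroup.centralizer (W : Set G)) (hgd : g * d * g⁻¹ ∈ Subgroup.centralizer (W : Set G)) : ∃ h ∈ Subgroup.normalizer (W : Set G), h * d * h⁻¹ = g * d * g⁻¹ := by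
  classical
  obtain ⟨hWT, hwc⟩ := hW
  set e : G := g * d * g⁻¹ with he
  set C : Subgroup G := Subgroup.centralizer ({e} : Set G) with hC
  have hWp : IsPGroup p W := T.isPGroup'.to_le hWT
  set Wg : Subgroup G := W.map (MulAut.conj g).toMonoidHom with hWg
  have hWgp : IsPGroup p Wg := hWp.map _
  have hWC : W ≤ C := by
    intro w hw
    rw [hC, Subgroup.mem_centralizer_iff]
    intro y hy
    rw [Set.mem_singleton_iff] at hy
    subst hy
    exact (hgd w hw).symm
  have hWgC : Wg ≤ C := by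
    rintro _ ⟨w, hw, rfl⟩
    rw [hC, Subgroup.mem_centralizer_iff]
    intro y hy
    rw [Set.mem_singleton_iff] at hy
    subst hy
    have := hd w hw
    simp only [MulEquiv.coe_toMonoidHom, MulAut.conj_apply, he]
    calc g * d * g⁻¹ * (g * w * g⁻¹) = g * (d * w) * g⁻¹ := by group
      _ = g * (w * d) * g⁻¹ := by rw [this]
      _ = g * w * g⁻¹ * (g * d * g⁻¹) := by group
  -- Sylow subgroups of C containing W and Wg
  obtain ⟨R, hR⟩ := (hWp.comap_subtype (K := C)).exists_le_sylow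
  obtain ⟨R', hR'⟩ := (hWgp.comap_subtype (K := C)).exists_le_sylow
  obtain ⟨c, hc⟩ := MulAction.exists_smul_eq C R' R
  -- R mapped to G is a p-group, contained in a Sylow subgroup of G, a conjugate k • T
  have hRp : IsPGroup p ((R : Subgroup C).map C.subtype) := R.isPGroup'.map _
  obtain ⟨T', hT'⟩ := hRp.exists_le_sylow
  obtain ⟨k, hk⟩ := MulAction.exists_smul_eq G T T'
  have hT'mem : ∀ y : G, y ∈ (T' : Subgroup G) ↔ k⁻¹ * y * k ∈ (T : Subgroup G) := by
    intro y
    rw [← hk, Sylow.coe_subgroup_smul, Subgroup.mem_pointwise_smul_iff_inv_smul_mem]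
    simp [MulAut.smul_def, mul_assoc]
  -- W ≤ T'
  have h1 : ∀ w ∈ W, w ∈ (T' : Subgroup G) := by
    intro w hw
    apply hT'
    exact ⟨⟨w, hWC hw⟩, hR (show (⟨w, hWC hw⟩ : C) ∈ W.comap C.subtype from hw), rfl⟩
  -- c Wg c⁻¹ ≤ T'
  have h2 : ∀ w ∈ Wg, (c : G) * w * (c : G)⁻¹ ∈ (T' : Subgroup G) := by
    intro w hw
    apply hT'
    have hwR' : (⟨w, hWgC hw⟩ : C) ∈ (R' : Subgroup C) :=
      hR' (show (⟨w, hWgC hw⟩ : C) ∈ Wg.comap C.subtype from hw)
    have : c * ⟨w, hWgC hw⟩ * c⁻¹ ∈ (R : Subgroup C) := by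
      rw [← hc, Sylow.coe_subgroup_smul, Subgroup.mem_pointwise_smul_iff_inv_smul_mem]
      simpa [MulAut.smul_def, mul_assoc] using hwR'
    exact ⟨_, this, by simp⟩
  -- weak closure
  have h3 : W.map (MulAut.conj k⁻¹).toMonoidHom = W := by
    apply hwc
    rintro _ ⟨w, hw, rfl⟩
    have := (hT'mem w).1 (h1 w hw)
    simpa using this
  have h4 : W.map (MulAut.conj (k⁻¹ * (c * g))).toMonoidHom = W := by
    apply hwc
    rintro _ ⟨w, hw, rfl⟩
    have hw' : g * w * g⁻¹ ∈ Wg := ⟨w, hw, rfl⟩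
    have := (hT'mem _).1 (h2 _ hw')
    simpa [mul_assoc] using this
  have h5 : W.map (MulAut.conj k).toMonoidHom = W := by
    conv_lhs => rw [← h3]
    rw [← map_conj_mul]
    ext x
    simp [mem_map_conj]
  have h6 : W.map (MulAut.conj ((c : G) * g)).toMonoidHom = W := by
    have : (c : G) * g = k * (k⁻¹ * (c * g)) := by group
    rw [this, map_conj_mul, h4, h5]
  refine ⟨c * g, ?_, ?_⟩
  · rw [Subgroup.mem_normalizer_iff]
    intro w
    constructor
    · intro hw
      rw [← h6]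
      exact ⟨w, hw, rfl⟩
    · intro hw
      rw [← h6, mem_map_conj] at hw
      simpa [mul_assoc] using hw
  · have hcC : (c : G) ∈ Subgroup.centralizer ({e} : Set G) := c.2
    rw [Subgroup.mem_centralizer_iff] at hcC
    have := hcC e (Set.mem_singleton e)
    calc (c : G) * g * d * ((c : G) * g)⁻¹ = c * (g * d * g⁻¹) * (c : G)⁻¹ := by group
      _ = (c * e) * (c : G)⁻¹ := by rw [he]
      _ = (e * c) * (c : G)⁻¹ := by rw [this]
      _ = g * d * g⁻¹ := by rw [he]; group

end Cfsg.Agent.S1243
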