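import Cfsg.Statements.S1244
import Cfsg.Agent.Helper21.AbelianSylow

set_option autoImplicit false
set_option linter.style.haveILetI false
open Cfsg

namespace Cfsg.Agent.S1244

open Cfsg.Agent.Helper21
open scoped IsMulCommutative

/-- Let G be a finite group with no subgroup of index 2 whose Sylow 2-subgroup S is commutative, and let R ≤ S be a subgroup whose 2-rank is exactly one less than the 2-rank r of S. Then every involution of S is conjugate, by an element of N_G(S), to an element of R. -/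
theorem result {G : Type*} [Group G] [Finite G] (hG : ∀ H : Subgroup G, H.index ≠ 2) (S : Sylow 2 G) (hS : IsMulCommutative (S : Subgroup G)) (r : ℕ) (hr1 : 1 ≤ r) (hSr : Cfsg.PRankLE 2 r (S : Subgroup G) ∧ ¬ Cfsg.PRankLE 2 (r - 1) (S : Subgroup G)) (R : Subgroup G) (hRS : R ≤ S) (hRr : Cfsg.PRankLE 2 (r - 1) R ∧ (r = 1 ∨ ¬ Cfsg.PRankLE 2 (r - 2) R)) (t : G) (ht : orderOf t = 2) (htS : t ∈ S) : ∃ n ∈ Subgroup.normalizer ((S : Subgroup G) : Set G), n * t * n⁻¹ ∈ R := by
  haveI : Fact (Nat.Prime 2) := ⟨Nat.prime_two⟩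
  haveI := hS
  by_contra hcon
  push Not at hcon
  set N := Subgroup.normalizer ((S : Subgroup G) : Set G) with hN
  have hSN : (S : Subgroup G) ≤ N := Subgroup.le_normalizer
  have hcommS : ∀ a ∈ (S : Subgroup G), ∀ b ∈ (S : Subgroup G), a * b = b * a :=
    fun a ha b hb => congrArg Subtype.val (hS.is_comm.comm ⟨a, ha⟩ ⟨b, hb⟩)
  have ht2 : t ^ 2 = 1 := by rw [← ht]; exact pow_orderOf_eq_one t
  have hconjS : ∀ n : G, n ∈ N → n * t * n⁻¹ ∈ (S : Subgroup G) := fun n hn =>
    (Subgroup.mem_normalizer_iff.1 hn t).1 htS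
  -- the index type
  let ι := ↥N ⧸ ((S : Subgroup G).subgroupOf N)
  haveI : Fintype ι := Fintype.ofFinite ι
  let F : ι → ↥(S : Subgroup G) := fun q =>
    ⟨((q.out : ↥N) : G) * t * ((q.out : ↥N) : G)⁻¹, hconjS _ q.out.2⟩
  have hF : ∀ n : ↥N, F (QuotientGroup.mk n) = ⟨(n : G) * t * (n : G)⁻¹, hconjS _ n.2⟩ := by
    intro n
    obtain ⟨s, hs⟩ := QuotientGroup.mk_out_eq_mul ((S : Subgroup G).subgroupOf N) n
    apply Subtype.ext
    show (((QuotientGroup.mk n : ι).out : ↥N) : G) * t *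
      (((QuotientGroup.mk n : ι).out : ↥N) : G)⁻¹ = (n : G) * t * (n : G)⁻¹
    rw [hs]
    have hsS : ((s : ↥N) : G) ∈ (S : Subgroup G) := Subgroup.mem_subgroupOf.1 s.2
    have hst := hcommS _ hsS t htS
    rw [Subgroup.coe_mul]
    calc (n : G) * ((s : ↥N) : G) * t * ((n : G) * ((s : ↥N) : G))⁻¹
        = (n : G) * (((s : ↥N) : G) * t) * ((s : ↥N) : G)⁻¹ * (n : G)⁻¹ := by group
      _ = (n : G) * (t * ((s : ↥N) : G)) * ((s : ↥N) : G)⁻¹ * (n : G)⁻¹ := by rw [hst]
      _ = (n : G) * t * (n : G)⁻¹ := by group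
  -- Ω and K
  set Ω := omegaOne 2 ↥(S : Subgroup G) with hΩ
  set K := Ω ⊓ R.subgroupOf (S : Subgroup G) with hK
  have hcardΩ : Nat.card Ω = 2 ^ r :=
    card_omegaOne Nat.prime_two S.isPGroup' r hSr.1 (Or.inr hSr.2)
  haveI hRc : IsMulCommutative R :=
    ⟨⟨fun a b => Subtype.ext (hcommS a (hRS a.2) b (hRS b.2))⟩⟩
  have hRp : IsPGroup 2 R := S.isPGroup'.to_le hRS
  have hcardΩR : Nat.card (omegaOne 2 ↥R) = 2 ^ (r - 1) := by
    apply card_omegaOne Nat.prime_two hRp (r - 1) hRr.1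
    rcases hRr.2 with h | h
    · left; omega
    · right
      have : r - 1 - 1 = r - 2 := by omega
      rw [this]; exact h
  have hKmap : K = (omegaOne 2 ↥R).map (Subgroup.inclusion hRS) := by
    ext x
    rw [hK, Subgroup.mem_inf, Subgroup.mem_subgroupOf, Subgroup.mem_map]
    constructor
    · rintro ⟨hx1, hx2⟩
      refine ⟨⟨(x : G), hx2⟩, ?_, Subtype.ext rfl⟩
      rw [mem_omegaOne]
      apply Subtype.ext
      have : (x : G) ^ 2 = 1 := by
        have := congrArg Subtype.val (mem_omegaOne.1 hx1)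
        simpa using this
      simpa using this
    · rintro ⟨z, hz, rfl⟩
      refine ⟨?_, z.2⟩
      rw [hΩ, mem_omegaOne, ← map_pow, mem_omegaOne.1 hz, map_one]
  have hcardK : Nat.card K = 2 ^ (r - 1) := by
    rw [hKmap, Subgroup.card_map_of_injective (Subgroup.inclusion_injective hRS), hcardΩR]
  have hKΩ : K ≤ Ω := inf_le_left
  have hrel : K.relIndex Ω = 2 := by
    have h1 := (K.subgroupOf Ω).card_mul_index
    rw [Nat.card_congr (Subgroup.subgroupOfEquivOfLe hKΩ).toEquiv, hcardK, hcardΩ] at h1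
    have h2 : 2 ^ r = 2 ^ (r - 1) * 2 := by
      rw [← pow_succ]; congr 1; omega
    rw [h2] at h1
    exact Nat.eq_of_mul_eq_mul_left (pow_pos (by norm_num) _) h1
  -- parity
  have hFΩ : ∀ q : ι, F q ∈ Ω := by
    intro q
    rw [hΩ, mem_omegaOne]
    apply Subtype.ext
    show (((q.out : ↥N) : G) * t * ((q.out : ↥N) : G)⁻¹) ^ 2 = 1
    rw [conj_pow, ht2]; group
  have hFK : ∀ q : ι, F q ∉ K := by
    intro q hq
    have h1 : F q ∈ R.subgroupOf (S : Subgroup G) := hq.2
    rw [Subgroup.mem_subgroupOf] at h1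
    exact hcon _ q.out.2 h1
  have hpar := prod_mem_iff_even Ω K hrel Finset.univ F (fun q _ => ⟨hFΩ q, hFK q⟩)
  have hodd : ¬ Even (Finset.univ : Finset ι).card := by
    rw [Finset.card_univ, ← Nat.card_eq_fintype_card]
    have h1 : Nat.card ι = (S : Subgroup G).relIndex N := rfl
    rw [h1]
    intro heven
    have h2 : 2 ∣ (S : Subgroup G).relIndex N := even_iff_two_dvd.1 heven
    exact S.not_dvd_index (h2.trans (Subgroup.relIndex_dvd_index_of_le hSN))
  have hyK : (∏ q : ι, F q) ∉ K := fun h => hodd (hpar.2.1 h)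
  -- invariance
  have hfix : ∀ m ∈ N, m⁻¹ * ((∏ q : ι, F q : ↥(S : Subgroup G)) : G) * m =
      ((∏ q : ι, F q : ↥(S : Subgroup G)) : G) := by
    intro m hm
    have hm' : m⁻¹ ∈ N := N.inv_mem hm
    have hcmem : ∀ x : ↥(S : Subgroup G), m⁻¹ * (x : G) * m ∈ (S : Subgroup G) := by
      intro x
      have := (Subgroup.mem_normalizer_iff.1 hm' (x : G)).1 x.2
      rwa [inv_inv] at this
    let c : ↥(S : Subgroup G) →* ↥(S : Subgroup G) :=
      { toFun := fun x => ⟨m⁻¹ * (x : G) * m, hcmem x⟩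
        map_one' := by
          apply Subtype.ext
          show m⁻¹ * ((1 : ↥(S : Subgroup G)) : G) * m = 1
          rw [Subgroup.coe_one]; group
        map_mul' := by
          intro a b
          apply Subtype.ext
          show m⁻¹ * ((a * b : ↥(S : Subgroup G)) : G) * m =
            (m⁻¹ * (a : G) * m) * (m⁻¹ * (b : G) * m)
          rw [Subgroup.coe_mul]; group }
    have hcF : ∀ q : ι, c (F q) = F ((⟨m⁻¹, hm'⟩ : ↥N) • q) := by
      intro q
      induction q using QuotientGroup.induction_on with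
      | H n =>
        rw [MulAction.Quotient.smul_mk, hF, hF]
        apply Subtype.ext
        show m⁻¹ * ((n : G) * t * (n : G)⁻¹) * m = _
        simp only [smul_eq_mul, Subgroup.coe_mul]
        group
    have h1 : c (∏ q : ι, F q) = ∏ q : ι, F q := by
      rw [map_prod]
      simp_rw [hcF]
      exact Equiv.prod_comp (MulAction.toPerm (⟨m⁻¹, hm'⟩ : ↥N)) F
    exact congrArg Subtype.val h1
  have hy1 := eq_one_of_normalizer_fixed hG S _ (∏ q : ι, F q).2 hfix
  apply hyK
  have : (∏ q : ι, F q) = 1 := Subtype.ext hy1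
  rw [this]
  exact K.one_mem

end Cfsg.Agent.S1244
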