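import Cfsg.Statements.S1247
import Cfsg.Agent.Helper31.BenderMax

set_option autoImplicit false
open Cfsg

namespace Cfsg.Agent.S1247

/-- Let G be a non-abelian finite simple group, A a maximal subgroup, F = F*(A) its generalized Fitting subgroup (viewed in G), and S ≤ F a subgroup subnormal in F with C_F(S) ≤ S. Let B be any subgroup of G containing S. Then (a) for every prime q not dividing |F(A)|, O_q(B) ∩ A = 1; and (b) for every prime p dividing |F(A)|, O_p(B) commutes elementwise with the subgroup of F generated by its elements of order prime to p. -/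
theorem result {G : Type*} [Group G] [Finite G] [IsSimpleGroup G] (hna : ¬ IsMulCommutative G) (A : Subgroup G) (hA : IsCoatom A) (S : Subgroup G) (hSF : S ≤ (Cfsg.generalizedFittingSubgroup ↥A).map A.subtype) (hSsn : (S.subgroupOf ((Cfsg.generalizedFittingSubgroup ↥A).map A.subtype)).IsSubnormal) (hSC : (Cfsg.generalizedFittingSubgroup ↥A).map A.subtype ⊓ Subgroup.centralizer (S : Set G) ≤ S) (B : Subgroup G) (hSB : S ≤ B) : (∀ q : ℕ, q.Prime → ¬ q ∣ Nat.card (Cfsg.fittingSubgroup ↥A) → (Cfsg.pCore q ↥B).map B.subtype ⊓ A = ⊥) ∧ (∀ p : ℕ, p.Prime → p ∣ Nat.card (Cfsg.fittingSubgroup ↥A) → ∀ x ∈ (Cfsg.pCore p ↥B).map B.subtype, ∀ y ∈ (Cfsg.pResidual p ↥(Cfsg.generalizedFittingSubgroup ↥A)).map ((Cfsg.generalizedFittingSubgroup ↥A).subtype) , x * (A.subtype y) = (A.subtype y) * x) := by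
  have hL := Cfsg.Agent.Helper31.largeSub_subgroupOf A S hSF hSsn hSC
  constructor
  · intro q hq hqF
    haveI : Fact q.Prime := ⟨hq⟩
    haveI : (Cfsg.pCore q ↥B).Normal := Cfsg.Agent.Helper71.pCore_normal q
    exact Cfsg.Agent.Helper31.ambient_inf_eq_bot A S hL _
      ((Cfsg.Agent.Helper71.pCore_isPGroup q).map _)
      (hSB.trans (Cfsg.Agent.Helper31.le_normalizer_map_subtype_of_normal B _))
      (Cfsg.Agent.Helper31.pCore_eq_bot_of_not_dvd_card_fittingSubgroup hqF)
  · intro p hp hpF x hx y hy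
    haveI : Fact p.Prime := ⟨hp⟩
    haveI : (Cfsg.pCore p ↥B).Normal := Cfsg.Agent.Helper71.pCore_normal p
    have hp0 := Cfsg.Agent.Helper31.pCore_ne_bot_of_dvd_card_fittingSubgroup hpF
    have hXp : IsPGroup p ↥((Cfsg.pCore p ↥B).map B.subtype) :=
      (Cfsg.Agent.Helper71.pCore_isPGroup p).map _
    have hSX := hSB.trans (Cfsg.Agent.Helper31.le_normalizer_map_subtype_of_normal B
      (Cfsg.pCore p ↥B))
    obtain ⟨g, hg, rfl⟩ := hy
    have key : Cfsg.pResidual p ↥(Cfsg.generalizedFittingSubgroup ↥A) ≤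
        ((Subgroup.centralizer ({x} : Set G)).comap A.subtype).comap
          (Cfsg.generalizedFittingSubgroup ↥A).subtype := by
      unfold Cfsg.pResidual
      rw [Subgroup.closure_le]
      intro g' hg'
      have hg'' : (orderOf g').Coprime p := hg'
      rw [SetLike.mem_coe, Subgroup.mem_comap, Subgroup.mem_comap, Subgroup.mem_centralizer_iff]
      intro x' hx'
      rw [Set.mem_singleton_iff.mp hx']
      exact Cfsg.Agent.Helper31.ambient_commute_of_coprime hA hL hXp hSX hp0 g'.2
        (by rw [Subgroup.orderOf_coe]; exact hg'') x hx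
    have := key hg
    rw [Subgroup.mem_comap, Subgroup.mem_comap, Subgroup.mem_centralizer_iff] at this
    exact this x rfl

end Cfsg.Agent.S1247
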