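import Cfsg.Statements.S1248
import Cfsg.Agent.Helper19.SU3.Sylow
import Cfsg.Agent.Helper19.SU3.Struct

set_option autoImplicit false
open Cfsg

namespace Cfsg.Agent.S1248

/-- Let F be a field with 16 elements and S a Sylow 2-subgroup of PSU(3) over F (the unitary group U₃(4)). Then |S| = 64; the centre Z(S) is a Klein four-group and coincides with the subgroup generated by the involutions of S and with the derived subgroup; and every element of S ⧸ Z(S) squares to the identity, S ⧸ Z(S) having order 16. -/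
theorem result {F : Type*} [Field F] [Fintype F] (hF : Fintype.card F = 16) (S : Sylow 2 (Cfsg.PSU 3 F 4)) : Nat.card S = 64 ∧ IsKleinFour (Subgroup.center (S : Subgroup (Cfsg.PSU 3 F 4))) ∧ Subgroup.center (S : Subgroup (Cfsg.PSU 3 F 4)) = Subgroup.closure {x : (S : Subgroup (Cfsg.PSU 3 F 4)) | orderOf x = 2} ∧ Subgroup.center (S : Subgroup (Cfsg.PSU 3 F 4)) = commutator (S : Subgroup (Cfsg.PSU 3 F 4)) ∧ Nat.card ((S : Subgroup (Cfsg.PSU 3 F 4)) ⧸ Subgroup.center (S : Subgroup (Cfsg.PSU 3 F 4))) = 16 ∧ ∀ x : (S : Subgroup (Cfsg.PSU 3 F 4)) ⧸ Subgroup.center (S : Subgroup (Cfsg.PSU 3 F 4)), x ^ 2 = 1 := by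
  classical
  have hF' : Fintype.card F = (2 ^ 2) ^ 2 := by rw [hF]; norm_num
  obtain ⟨bar, hbar⟩ := Cfsg.Agent.Helper45.GU.exists_bar hF'
  have : Cfsg.Agent.Helper19.SU3.BarField F bar :=
    Cfsg.Agent.Helper19.SU3.barField bar hF' (by decide) hbar
  obtain ⟨e⟩ := Cfsg.Agent.Helper19.SU3.exists_equiv_sylow_PSU (n := 2) (by norm_num) hF' bar hbar S
  have hH : Cfsg.Agent.Helper19.SU3.HeisLike (Cfsg.Agent.Helper19.SU3.Heis bar) 4 :=
    Cfsg.Agent.Helper19.SU3.Heis.heisLike
      (Cfsg.Agent.Helper19.SU3.hω bar hF' (by norm_num) hbar)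
      (Cfsg.Agent.Helper19.SU3.hTr bar hF' (by norm_num) hbar)
      (Cfsg.Agent.Helper19.SU3.card_fixed bar hF' (by norm_num) hbar)
      (by rw [Nat.card_eq_fintype_card, hF]; norm_num)
  have hS := hH.congr e
  refine ⟨hS.card.trans (by norm_num), hS.isKleinFour_center, hS.center_eq_closure, hS.center_eq_commutator,
    (hS.card_quotient (by norm_num)).trans (by norm_num), hS.quotient_sq⟩

end Cfsg.Agent.S1248
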