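import Cfsg.Statements.S1249

set_option autoImplicit false
open Cfsg

namespace Cfsg.Agent.S1249

/-- Let P and Q be Sylow p-subgroups of the finite group G both containing the subgroup A. If A is strongly closed in P, then A is strongly closed in Q. -/
theorem result {G : Type*} [Group G] [Finite G] {p : ℕ} [Fact p.Prime] (P Q : Sylow p G) (A : Subgroup G) (hAQ : A ≤ Q) (hA : Cfsg.IsStronglyClosed A (P : Subgroup G)) : Cfsg.IsStronglyClosed A (Q : Subgroup G) := by
  obtain ⟨hAP, hcl⟩ := hA
  refine ⟨hAQ, ?_⟩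
  -- Q = g • P
  obtain ⟨g, hg⟩ := MulAction.exists_smul_eq G P Q
  have hQ : ∀ y : G, y ∈ (Q : Subgroup G) ↔ g⁻¹ * y * g ∈ (P : Subgroup G) := by
    intro y
    rw [← hg, Sylow.coe_subgroup_smul, Subgroup.mem_pointwise_smul_iff_inv_smul_mem]
    simp [MulAut.smul_def, mul_assoc]
  -- g⁻¹ A g ≤ A
  have h1 : ∀ a ∈ A, g⁻¹ * a * g ∈ A := by
    intro a ha
    have := hcl a ha g⁻¹ (by simpa using (hQ a).1 (hAQ ha))
    simpa using this
  -- the map a ↦ g⁻¹ a g is an injective self-map of the finite set A, hence surjective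
  have h2 : ∀ a ∈ A, g * a * g⁻¹ ∈ A := by
    intro a ha
    let f : A → A := fun a => ⟨g⁻¹ * a * g, h1 a a.2⟩
    have hf : Function.Injective f := by
      intro a b hab
      have : g⁻¹ * (a : G) * g = g⁻¹ * (b : G) * g := congrArg Subtype.val hab
      apply Subtype.ext
      simpa using this
    obtain ⟨b, hb⟩ := (Finite.injective_iff_surjective.1 hf) ⟨a, ha⟩
    have hb' : g⁻¹ * (b : G) * g = a := congrArg Subtype.val hb
    have : g * a * g⁻¹ = b := by rw [← hb']; group
    rw [this]; exact b.2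
  intro x hx h hh
  have h3 : (g⁻¹ * h) * x * (g⁻¹ * h)⁻¹ ∈ A := by
    apply hcl x hx
    have := (hQ _).1 hh
    simpa [mul_assoc] using this
  have := h2 _ h3
  simpa [mul_assoc] using this

end Cfsg.Agent.S1249
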