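import Cfsg.Statements.S1250

set_option autoImplicit false
open Cfsg

namespace Cfsg.Agent.S1250

/-- a `p`-element of `S ⊔ N` (with `N` normal, `S` Sylow) is `N`-conjugate into `S`. -/
theorem conj_mem_of_mem_sup {G : Type*} [Group G] [Finite G] {p : ℕ} [Fact p.Prime]
    (S : Sylow p G) (N : Subgroup G) [N.Normal] (y : G) (hy : y ∈ (S : Subgroup G) ⊔ N)
    (hyp : IsPGroup p (Subgroup.zpowers y)) : ∃ n ∈ N, n * y * n⁻¹ ∈ (S : Subgroup G) := by
  classical
  set K : Subgroup G := (S : Subgroup G) ⊔ N with hK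
  have hSK : (S : Subgroup G) ≤ K := le_sup_left
  -- S as Sylow subgroup of K
  let S' : Sylow p K := S.subtype hSK
  -- the cyclic group generated by y inside K
  let yK : K := ⟨y, hy⟩
  have hyK : IsPGroup p (Subgroup.zpowers yK) := by
    have h2 : IsPGroup p ((Subgroup.zpowers y).comap K.subtype) := hyp.comap_subtype
    refine h2.to_le ?_
    rw [Subgroup.zpowers_le]
    simp only [Subgroup.mem_comap, Subgroup.coe_subtype]
    exact Subgroup.mem_zpowers y
  obtain ⟨k, hk⟩ := hyK.exists_le_sylow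
  obtain ⟨g, hg⟩ := MulAction.exists_smul_eq K k S'
  -- g • k = S', so g * yK * g⁻¹ ∈ S'
  have h1 : g * yK * g⁻¹ ∈ (S' : Subgroup K) := by
    rw [← hg, Sylow.coe_subgroup_smul, Subgroup.mem_pointwise_smul_iff_inv_smul_mem]
    have : yK ∈ (k : Subgroup K) := hk (Subgroup.mem_zpowers yK)
    simpa [MulAut.smul_def, mul_assoc] using this
  have h1' : (g : G) * y * (g : G)⁻¹ ∈ (S : Subgroup G) := by
    have : g * yK * g⁻¹ ∈ (S : Subgroup G).subgroupOf K := by
      rw [← Sylow.coe_subtype (h := hSK)]; exact h1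
    simpa [Subgroup.mem_subgroupOf] using this
  -- g = s * n
  have hgK : (g : G) ∈ (S : Subgroup G) ⊔ N := g.2
  rw [Subgroup.mem_sup_of_normal_right] at hgK
  obtain ⟨s, hs, n, hn, hsn⟩ := hgK
  refine ⟨n, hn, ?_⟩
  have : n * y * n⁻¹ = s⁻¹ * ((g : G) * y * (g : G)⁻¹) * s := by
    rw [← hsn]; group
  rw [this]
  exact (S : Subgroup G).mul_mem ((S : Subgroup G).mul_mem ((S : Subgroup G).inv_mem hs) h1') hs

/-- Let S be a Sylow p-subgroup of the finite group G, A ≤ S strongly closed in S, and N a normal subgroup. Then the image of A in G ⧸ N is strongly closed in the image of S (which is a Sylow p-subgroup of G ⧸ N). -/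
theorem result {G : Type*} [Group G] [Finite G] {p : ℕ} [Fact p.Prime] (S : Sylow p G) (A : Subgroup G) (hA : Cfsg.IsStronglyClosed A (S : Subgroup G)) (N : Subgroup G) [N.Normal] : Cfsg.IsStronglyClosed (A.map (QuotientGroup.mk' N)) ((S : Subgroup G).map (QuotientGroup.mk' N)) := by
  obtain ⟨hAS, hcl⟩ := hA
  refine ⟨Subgroup.map_mono hAS, ?_⟩
  rintro _ ⟨x, hx, rfl⟩ gbar hg
  obtain ⟨g, rfl⟩ := QuotientGroup.mk'_surjective N gbar
  -- g x g⁻¹ ∈ S N
  have h1 : g * x * g⁻¹ ∈ (S : Subgroup G) ⊔ N := by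
    obtain ⟨s, hs, hs'⟩ := hg
    have : (QuotientGroup.mk' N) s = (QuotientGroup.mk' N) (g * x * g⁻¹) := by
      rw [hs']; simp
    rw [QuotientGroup.mk'_eq_mk'] at this
    obtain ⟨z, hz, hz'⟩ := this
    rw [← hz']
    exact Subgroup.mul_mem _ (Subgroup.mem_sup_left hs) (Subgroup.mem_sup_right hz)
  have h2 : IsPGroup p (Subgroup.zpowers (g * x * g⁻¹)) := by
    have hx' : IsPGroup p (Subgroup.zpowers x) :=
      S.isPGroup'.to_le ((Subgroup.zpowers_le).2 (hAS hx))
    have : Subgroup.zpowers (g * x * g⁻¹) = (Subgroup.zpowers x).map (MulAut.conj g).toMonoidHom := by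
      rw [MonoidHom.map_zpowers]; rfl
    rw [this]
    exact hx'.map _
  obtain ⟨n, hn, hn'⟩ := conj_mem_of_mem_sup S N _ h1 h2
  have h3 : (n * g) * x * (n * g)⁻¹ ∈ A := by
    apply hcl x hx
    have : (n * g) * x * (n * g)⁻¹ = n * (g * x * g⁻¹) * n⁻¹ := by group
    rw [this]; exact hn'
  refine ⟨(n * g) * x * (n * g)⁻¹, h3, ?_⟩
  have hn1 : (QuotientGroup.mk' N) n = 1 := by
    rw [QuotientGroup.mk'_apply, QuotientGroup.eq_one_iff]; exact hn
  simp only [map_mul, map_inv, hn1, one_mul]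

end Cfsg.Agent.S1250
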