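import Cfsg.Statements.S1254
import Cfsg.Agent.Helper55.DihFourNorm

set_option autoImplicit false
open Cfsg

namespace Cfsg.Agent.S1254

open Cfsg.Agent.Helper55 DihedralGroup

/-- Let X be a finite group whose Sylow 2-subgroup S is dihedral (of order at least 4). Then X has a normal 2-complement if and only if, for every Klein four-subgroup U ≤ S, the normalizer N_X(U) is generated by C_X(U) and N_S(U). -/
theorem result {X : Type*} [Group X] [Finite X] (S : Sylow 2 X) (m : ℕ) (hm : 2 ≤ m) (eS : (S : Subgroup X) ≃* DihedralGroup m) : Cfsg.HasNormalPComplement 2 X ↔ ∀ U : Subgroup X, U ≤ S → IsKleinFour U → Subgroup.normalizer (U : Set X) = Subgroup.centralizer (U : Set X) ⊔ ((S : Subgroup X) ⊓ Subgroup.normalizer (U : Set X)) := by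
  have hp2 : Fact (Nat.Prime 2) := ⟨Nat.prime_two⟩
  obtain ⟨φ, hφdef⟩ : ∃ φ : DihedralGroup m →* X, φ = sylowEmb S eS := ⟨_, rfl⟩
  have hφ : Function.Injective φ := hφdef ▸ sylowEmb_injective S eS
  have hr : φ.range = (S : Subgroup X) := hφdef ▸ sylowEmb_range S eS
  have h2 : 2 ∣ m := two_dvd_of_sylow hm hφ hr
  constructor
  · rintro ⟨P, K, hKn, hKP⟩ U hUS _
    -- K is a complement of S too
    have hKS : K.IsComplement' (S : Subgroup X) := by
      have hcard : Nat.card (S : Subgroup X) = Nat.card (P : Subgroup X) := by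
        rw [Sylow.card_eq_multiplicity, Sylow.card_eq_multiplicity]
      apply Subgroup.isComplement'_of_coprime
      · rw [hcard]; exact hKP.card_mul_card
      · rw [hcard, ← hKP.index_eq_card]
        exact P.card_coprime_index.symm
    have hdisj : ∀ y : X, y ∈ K → y ∈ (S : Subgroup X) → y = 1 := by
      intro y hyK hyS
      have := hKS.disjoint
      rw [Subgroup.disjoint_def] at this
      exact this hyK hyS
    apply le_antisymm
    · intro x hx
      obtain ⟨⟨⟨k, hk⟩, ⟨s, hs⟩⟩, hks, -⟩ := (Subgroup.isComplement_iff_existsUnique.1 hKS) x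
      have hks : k * s = x := hks
      -- k centralizes s u s⁻¹ for u ∈ U
      have hcen : ∀ u ∈ U, k * (s * u * s⁻¹) * k⁻¹ = s * u * s⁻¹ ∧ s * u * s⁻¹ ∈ U := by
        intro u hu
        have hxu : x * u * x⁻¹ ∈ U := (Subgroup.mem_normalizer_iff.1 hx u).1 hu
        have hvS : s * u * s⁻¹ ∈ (S : Subgroup X) :=
          (S : Subgroup X).mul_mem ((S : Subgroup X).mul_mem hs (hUS hu)) ((S : Subgroup X).inv_mem hs)
        have e : x * u * x⁻¹ = k * (s * u * s⁻¹) * k⁻¹ := by rw [← hks]; group
        rw [e] at hxu
        have h1 : k * (s * u * s⁻¹) * k⁻¹ * (s * u * s⁻¹)⁻¹ ∈ K := by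
          have : k * (s * u * s⁻¹) * k⁻¹ * (s * u * s⁻¹)⁻¹ =
              k * ((s * u * s⁻¹) * k⁻¹ * (s * u * s⁻¹)⁻¹) := by group
          rw [this]
          exact K.mul_mem hk (hKn.conj_mem _ (K.inv_mem hk) _)
        have h2' : k * (s * u * s⁻¹) * k⁻¹ * (s * u * s⁻¹)⁻¹ ∈ (S : Subgroup X) :=
          (S : Subgroup X).mul_mem (hUS hxu) ((S : Subgroup X).inv_mem hvS)
        have h3 := hdisj _ h1 h2'
        have h4 : k * (s * u * s⁻¹) * k⁻¹ = s * u * s⁻¹ := mul_inv_eq_one.1 h3
        exact ⟨h4, h4 ▸ hxu⟩
      have hsN : s ∈ Subgroup.normalizer (U : Set X) :=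
        Subgroup.mem_normalizer_fintype (fun u hu => (hcen u hu).2)
      have hkC : k ∈ Subgroup.centralizer (U : Set X) := by
        rw [Subgroup.mem_centralizer_iff]
        intro w hw
        have hu : s⁻¹ * w * s ∈ U := by
          have := (Subgroup.mem_normalizer_iff.1 ((Subgroup.normalizer (U : Set X)).inv_mem hsN) w).1 hw
          simpa using this
        have := (hcen _ hu).1
        have e : s * (s⁻¹ * w * s) * s⁻¹ = w := by group
        rw [e] at this
        exact (mul_inv_eq_iff_eq_mul.1 this).symm
      rw [← hks]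
      exact Subgroup.mul_mem_sup hkC ⟨hs, hsN⟩
    · exact sup_le (Subgroup.centralizer_le_normalizer _) inf_le_right
  · intro hyp
    rcases two_or_four_dvd hm hφ hr with hm2 | h4
    · -- S is a four-group
      subst hm2
      have hcardS : Nat.card (S : Subgroup X) = 4 := by
        rw [card_sylow_eq (by omega) hφ hr]
      have hsq : ∀ s ∈ (S : Subgroup X), s * s = 1 := by
        intro s hs
        obtain ⟨d, rfl⟩ := (mem_sylow_iff_exists hr s).1 hs
        rw [← map_mul, IsKleinFour.mul_self, map_one]
      have hcomm : ∀ s ∈ (S : Subgroup X), ∀ t ∈ (S : Subgroup X), s * t = t * s := by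
        intro s hs t ht
        obtain ⟨d, rfl⟩ := (mem_sylow_iff_exists hr s).1 hs
        obtain ⟨d', rfl⟩ := (mem_sylow_iff_exists hr t).1 ht
        have : IsMulCommutative (DihedralGroup 2) := IsKleinFour.isMulCommutative
        rw [← map_mul, ← map_mul, mul_comm']
      have hK : IsKleinFour (S : Subgroup X) := by
        refine ⟨hcardS, ?_⟩
        have hdvd : Monoid.exponent (S : Subgroup X) ∣ 2 :=
          Monoid.exponent_dvd_of_forall_pow_eq_one (fun t => by
            rw [pow_two]; exact Subtype.ext (hsq t t.2))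
        have hne1 : Monoid.exponent (S : Subgroup X) ≠ 1 := by
          intro h
          have h1 := Monoid.exp_eq_one_iff.mp h
          have h2 : Nat.card (S : Subgroup X) = 1 := Nat.card_eq_one_iff_unique.mpr ⟨h1, ⟨1⟩⟩
          omega
        rcases (Nat.dvd_prime Nat.prime_two).mp hdvd with h | h
        · exact absurd h hne1
        · exact h
      have hN := hyp (S : Subgroup X) le_rfl hK
      have hSC : (S : Subgroup X) ≤ Subgroup.centralizer ((S : Subgroup X) : Set X) := by
        intro s hs
        rw [Subgroup.mem_centralizer_iff]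
        intro t ht
        exact hcomm t ht s hs
      have hNC : Subgroup.normalizer ((S : Subgroup X) : Set X) ≤
          Subgroup.centralizer ((S : Subgroup X) : Set X) := by
        rw [hN]
        exact sup_le le_rfl (inf_le_left.trans hSC)
      obtain ⟨K, hKn, hodd, hidx⟩ := exists_normal_two_complement_of_burnside S hNC
      exact hasNormalPComplement_two_of_odd_of_index hKn hodd hidx
    · have hD : ∀ U : Subgroup X, IsPGroup 2 U → DihType U :=
        dihType_of_sylow_dihedral S m ⟨eS⟩
      have hiso := isolated_of_four_group_normalizers hm h4 hφ hr hyp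
      obtain ⟨K, hKn, hodd, hidx⟩ := exists_normal_two_complement_of_isolated _ X rfl hD
        (φ (dz m)) (orderOf_phi_dz hm h2 hφ) hiso
      exact hasNormalPComplement_two_of_odd_of_index hKn hodd hidx

end Cfsg.Agent.S1254
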