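import Cfsg.Statements.S1255
import Cfsg.Agent.Helper55.DihSylow

set_option autoImplicit false
open Cfsg

namespace Cfsg.Agent.S1255

open Cfsg.Agent.Helper55 DihedralGroup

/-- Let X be a finite group whose Sylow 2-subgroup S is dihedral of order 2m ≥ 4. Then X has no subgroup of index 2 and no isolated involution if and only if either all involutions of X are conjugate, or for every Klein four-subgroup U ≤ S the index |N_X(U) : C_X(U)| equals 3 when |S| = 4 and equals 6 when |S| > 4. -/
theorem result {X : Type*} [Group X] [Finite X] (S : Sylow 2 X) (m : ℕ) (hm : 2 ≤ m) (eS : (S : Subgroup X) ≃* DihedralGroup m) : ((∀ H : Subgroup X, H.index ≠ 2) ∧ (∀ z : X, ¬ Cfsg.IsIsolatedInvolution z)) ↔ ((∀ a b : X, orderOf a = 2 → orderOf b = 2 → IsConj a b) ∨ (∀ U : Subgroup X, U ≤ S → IsKleinFour U → (Subgroup.centralizer (U : Set X)).relIndex (Subgroup.normalizer (U : Set X)) = (if Nat.card S = 4 then 3 else 6))) := by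
  have hp2 : Fact (Nat.Prime 2) := ⟨Nat.prime_two⟩
  obtain ⟨φ, hφdef⟩ : ∃ φ : DihedralGroup m →* X, φ = sylowEmb S eS := ⟨_, rfl⟩
  have hφ : Function.Injective φ := hφdef ▸ sylowEmb_injective S eS
  have hr : φ.range = (S : Subgroup X) := hφdef ▸ sylowEmb_range S eS
  have h2 : 2 ∣ m := two_dvd_of_sylow hm hφ hr
  have hzo : orderOf (φ (dz m)) = 2 := orderOf_phi_dz hm h2 hφ
  -- reduction: enough that reflections are conjugate to `z`
  have red : (∀ j : ZMod m, IsConj (φ (sr j)) (φ (dz m))) →
      ∀ a : X, orderOf a = 2 → IsConj a (φ (dz m)) := by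
    intro hsr a ha
    obtain ⟨g, hg⟩ := exists_conj_mem_sylow_of_orderOf_two S a ha
    have ho : orderOf (g * a * g⁻¹) = 2 := by rw [orderOf_conj_eq, ha]
    rcases invol_in_sylow hm h2 hφ hr _ hg ho with h | ⟨j, h⟩
    · exact isConj_iff.2 ⟨g, h⟩
    · exact (isConj_iff.2 ⟨g, h⟩).trans (hsr j)
  have key2 : (∀ a b : X, orderOf a = 2 → orderOf b = 2 → IsConj a b) →
      (∀ H : Subgroup X, H.index ≠ 2) ∧ (∀ z : X, ¬ Cfsg.IsIsolatedInvolution z) := by
    intro hall
    constructor
    · intro H hH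
      have hHn : H.Normal := Subgroup.normal_of_index_eq_two hH
      -- all involutions lie in H
      have hmem : ∀ t : X, orderOf t = 2 → t ∈ H := by
        have hprop : ∀ t u : X, orderOf t = 2 → orderOf u = 2 → t ∈ H → u ∈ H := by
          intro t u ht hu htH
          obtain ⟨g, hg⟩ := isConj_iff.1 (hall t u ht hu)
          rw [← hg]
          exact hHn.conj_mem t htH g
        by_cases h0 : φ (sr 0) ∈ H
        · intro t ht
          exact hprop _ t (orderOf_phi_sr hφ 0) ht h0
        · exfalso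
          have hz : φ (dz m) ∉ H := fun h => h0 (hprop _ _ hzo (orderOf_phi_sr hφ 0) h)
          have hprod : φ (dz m) * φ (sr 0) ∈ H :=
            (Subgroup.mul_mem_iff_of_index_two hH).2 ⟨fun h => absurd h hz, fun h => absurd h h0⟩
          rw [← map_mul, dz, r_mul_sr] at hprod
          exact h0 (hprop _ _ (orderOf_phi_sr hφ _) (orderOf_phi_sr hφ 0) hprod)
      have hSH : (S : Subgroup X) ≤ H := by
        intro x hx
        obtain ⟨d, rfl⟩ := (mem_sylow_iff_exists hr x).1 hx
        rcases d with i | i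
        · have : (r i : DihedralGroup m) = sr 0 * sr i := by rw [sr_mul_sr, sub_zero]
          rw [this, map_mul]
          exact H.mul_mem (hmem _ (orderOf_phi_sr hφ 0)) (hmem _ (orderOf_phi_sr hφ i))
        · exact hmem _ (orderOf_phi_sr hφ i)
      have h1 := Subgroup.relIndex_mul_index hSH
      have h3 : ¬ 2 ∣ (S : Subgroup X).index := S.not_dvd_index
      apply h3
      rw [← h1, hH]
      exact Dvd.intro_left _ rfl
    · intro w hw
      obtain ⟨hwo, hiso⟩ := hw
      obtain ⟨h, hh⟩ := isConj_iff.1 (hall _ w hzo hwo)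
      have hs'o : orderOf (h * φ (sr 0) * h⁻¹) = 2 := by rw [orderOf_conj_eq, orderOf_phi_sr hφ 0]
      obtain ⟨g, hg⟩ := isConj_iff.1 (hall w _ hwo hs'o)
      have hcomm : Commute w (g * w * g⁻¹) := by
        rw [hg, ← hh]
        have e := phi_dz_comm h2 hr (φ (sr 0)) ((mem_sylow_iff_exists hr _).2 ⟨_, rfl⟩)
        show h * φ (dz m) * h⁻¹ * (h * φ (sr 0) * h⁻¹) = h * φ (sr 0) * h⁻¹ * (h * φ (dz m) * h⁻¹)
        have e1 : h * φ (dz m) * h⁻¹ * (h * φ (sr 0) * h⁻¹) = h * (φ (dz m) * φ (sr 0)) * h⁻¹ := by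
          group
        have e2 : h * φ (sr 0) * h⁻¹ * (h * φ (dz m) * h⁻¹) = h * (φ (sr 0) * φ (dz m)) * h⁻¹ := by
          group
        rw [e1, e2, e]
      have := hiso g hcomm
      rw [hg, ← hh] at this
      have h3 : φ (sr 0) = φ (dz m) := by simpa using this
      exact sr_ne_dz 0 (hφ h3)
  constructor
  · rintro ⟨hno, -⟩
    left
    intro a b ha hb
    have h := red (isConj_sr_dz_of_no_index_two hm h2 hφ hr hno)
    exact (h a ha).trans (h b hb).symm
  · rintro (hall | hrel)
    · exact key2 hall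
    · apply key2
      have hsr : ∀ j : ZMod m, IsConj (φ (sr j)) (φ (dz m)) := by
        intro j
        have hzz : φ (dz m) * φ (dz m) = 1 := by rw [← map_mul, dz_mul_self h2, map_one]
        have hss : φ (sr j) * φ (sr j) = 1 := by rw [← map_mul, sr_mul_self', map_one]
        have hcm : φ (dz m) * φ (sr j) = φ (sr j) * φ (dz m) :=
          (phi_dz_comm h2 hr (φ (sr j)) ((mem_sylow_iff_exists hr _).2 ⟨_, rfl⟩)).symm
        have hz1 : φ (dz m) ≠ 1 := by
          intro h; rw [h, orderOf_one] at hzo; omega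
        have hs1 : φ (sr j) ≠ 1 := by
          intro h; have := orderOf_phi_sr hφ j; rw [h, orderOf_one] at this; omega
        have hne : φ (dz m) ≠ φ (sr j) := fun h => sr_ne_dz j (hφ h).symm
        have hK := isKleinFour_kSub _ _ hzz hss hcm hz1 hs1 hne
        have hle : kSub _ _ hzz hss hcm ≤ (S : Subgroup X) :=
          kSub_le _ _ hzz hss hcm _ (phi_dz_mem hr) ((mem_sylow_iff_exists hr _).2 ⟨_, rfl⟩)
        have h3 : 3 ∣ (Subgroup.centralizer (kSub _ _ hzz hss hcm : Set X)).relIndex
            (Subgroup.normalizer (kSub _ _ hzz hss hcm : Set X)) := by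
          rw [hrel _ hle hK]
          split_ifs <;> norm_num
        exact isConj_of_three_dvd_relIndex _ hK h3 _ (Or.inr (Or.inr (Or.inl rfl))) _
          (Or.inr (Or.inl rfl)) hs1 hz1
      intro a b ha hb
      exact (red hsr a ha).trans (red hsr b hb).symm

end Cfsg.Agent.S1255
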