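import Cfsg.Statements.S1256
import Cfsg.Agent.Helper55.DihFourClasses
import Cfsg.Agent.Helper64.Dihedral

set_option autoImplicit false
open Cfsg

namespace Cfsg.Agent.S1256

open Cfsg.Agent.Helper55 Cfsg.Agent.Helper64 DihedralGroup

theorem map_conj_mul {X : Type*} [Group X] (A : Subgroup X) (g h : X) :
    A.map (MulAut.conj (h * g)).toMonoidHom =
      (A.map (MulAut.conj g).toMonoidHom).map (MulAut.conj h).toMonoidHom := by
  rw [Subgroup.map_map]
  ext t
  simp only [Subgroup.mem_map, MonoidHom.coe_comp, MulEquiv.coe_toMonoidHom, Function.comp_apply,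
    MulAut.conj_apply]
  constructor
  · rintro ⟨s, hs, rfl⟩
    exact ⟨s, hs, by group⟩
  · rintro ⟨s, hs, rfl⟩
    exact ⟨s, hs, by group⟩

theorem parity_dz {m : ℕ} (h4 : 4 ∣ m) (h2 : 2 ∣ m) : dihedralParity h2 (dz m) = 1 := by
  change Multiplicative.ofAdd (ZMod.castHom h2 (ZMod 2) ((m / 2 : ℕ) : ZMod m)) = 1
  rw [map_natCast]
  have : ((m / 2 : ℕ) : ZMod 2) = 0 := by
    rw [ZMod.natCast_eq_zero_iff]
    obtain ⟨c, hc⟩ := h4
    exact ⟨c, by omega⟩
  rw [this]; rfl

/-- Let X be a finite group whose Sylow 2-subgroup S is dihedral of order 2m ≥ 4. If |S| = 4, any two Klein four-subgroups of X are conjugate; if |S| > 4, there are Klein four-subgroups U₁, U₂ of X that are not conjugate, and every Klein four-subgroup of X is conjugate to U₁ or to U₂. -/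
theorem result {X : Type*} [Group X] [Finite X] (S : Sylow 2 X) (m : ℕ) (hm : 2 ≤ m) (eS : (S : Subgroup X) ≃* DihedralGroup m) : (Nat.card S = 4 → ∀ U V : Subgroup X, IsKleinFour U → IsKleinFour V → (∃ x : X, U.map (MulAut.conj x).toMonoidHom = V)) ∧ (4 < Nat.card S → ∃ U₁ U₂ : Subgroup X, IsKleinFour U₁ ∧ IsKleinFour U₂ ∧ ¬ (∃ x : X, U₁.map (MulAut.conj x).toMonoidHom = U₂) ∧ ∀ V : Subgroup X, IsKleinFour V → (∃ x : X, V.map (MulAut.conj x).toMonoidHom = U₁) ∨ (∃ x : X, V.map (MulAut.conj x).toMonoidHom = U₂)) := by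
  have hp2 : Fact (Nat.Prime 2) := ⟨Nat.prime_two⟩
  obtain ⟨φ, hφdef⟩ : ∃ φ : DihedralGroup m →* X, φ = sylowEmb S eS := ⟨_, rfl⟩
  have hφ : Function.Injective φ := hφdef ▸ sylowEmb_injective S eS
  have hr : φ.range = (S : Subgroup X) := hφdef ▸ sylowEmb_range S eS
  have h2 : 2 ∣ m := two_dvd_of_sylow hm hφ hr
  have hcardS : Nat.card (S : Subgroup X) = 2 * m := card_sylow_eq (by omega) hφ hr
  constructor
  · -- |S| = 4: four-groups are Sylow subgroups
    intro h4 U V hU hV
    have hcU : Nat.card U = 2 ^ (Nat.card X).factorization 2 := by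
      rw [IsKleinFour.card_four, ← Sylow.card_eq_multiplicity S]; exact h4.symm
    have hcV : Nat.card V = 2 ^ (Nat.card X).factorization 2 := by
      rw [IsKleinFour.card_four, ← Sylow.card_eq_multiplicity S]; exact h4.symm
    obtain ⟨g, hg⟩ := MulAction.exists_smul_eq X (Sylow.ofCard U hcU) (Sylow.ofCard V hcV)
    refine ⟨g, ?_⟩
    ext t
    have h1 : t ∈ V ↔ t ∈ ((g • Sylow.ofCard U hcU : Sylow 2 X) : Subgroup X) := by
      rw [hg]; rfl
    rw [h1, mem_smul_sylow_iff]
    simp only [Subgroup.mem_map, MulEquiv.coe_toMonoidHom, MulAut.conj_apply]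
    constructor
    · rintro ⟨u, hu, rfl⟩
      have : g⁻¹ * (g * u * g⁻¹) * g = u := by group
      rw [this]; exact hu
    · intro ht
      exact ⟨g⁻¹ * t * g, ht, by group⟩
  · intro hgt
    have hm4 : 4 ∣ m := by
      rcases two_or_four_dvd hm hφ hr with h | h
      · omega
      · exact h
    obtain ⟨z, hz⟩ : ∃ z, z = φ (dz m) := ⟨_, rfl⟩
    have hzo : orderOf z = 2 := hz ▸ orderOf_phi_dz hm h2 hφ
    have hzS : z ∈ (S : Subgroup X) := hz ▸ phi_dz_mem hr
    have hzc : ∀ s ∈ (S : Subgroup X), s * z = z * s := fun s hs => hz ▸ phi_dz_comm h2 hr s hs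
    have hzz : z * z = 1 := by rw [← pow_two, ← hzo]; exact pow_orderOf_eq_one z
    have hz1 : z ≠ 1 := by intro h; rw [h, orderOf_one] at hzo; omega
    have hsS : ∀ j : ZMod m, φ (sr j) ∈ (S : Subgroup X) := fun j =>
      (mem_sylow_iff_exists hr _).2 ⟨_, rfl⟩
    have hss : ∀ j : ZMod m, φ (sr j) * φ (sr j) = 1 := fun j => by
      rw [← map_mul, sr_mul_self', map_one]
    have hcm : ∀ j : ZMod m, z * φ (sr j) = φ (sr j) * z := fun j => (hzc _ (hsS j)).symm
    have hs1 : ∀ j : ZMod m, φ (sr j) ≠ 1 := fun j h => by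
      have := orderOf_phi_sr hφ j; rw [h, orderOf_one] at this; omega
    have hzs : ∀ j : ZMod m, z ≠ φ (sr j) := fun j h => sr_ne_dz j (hφ (hz ▸ h)).symm
    obtain ⟨Uj, hUj⟩ : ∃ Uj : ZMod m → Subgroup X,
        ∀ j, Uj j = kSub z (φ (sr j)) hzz (hss j) (hcm j) := ⟨_, fun j => rfl⟩
    have hUjK : ∀ j, IsKleinFour (Uj j) := fun j => by
      rw [hUj]; exact isKleinFour_kSub _ _ _ _ _ hz1 (hs1 j) (hzs j)
    have hUjS : ∀ j, Uj j ≤ (S : Subgroup X) := fun j => by
      rw [hUj]; exact kSub_le _ _ _ _ _ _ hzS (hsS j)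
    refine ⟨Uj 0, Uj 1, hUjK 0, hUjK 1, ?_, ?_⟩
    · -- not conjugate
      rintro ⟨x, hx⟩
      have hxz : x * z * x⁻¹ ∈ Uj 1 := by
        rw [← hx]
        exact ⟨z, by rw [hUj]; exact Or.inr (Or.inl rfl), rfl⟩
      have hxs : x * φ (sr 0) * x⁻¹ ∈ Uj 1 := by
        rw [← hx]
        exact ⟨φ (sr 0), by rw [hUj]; exact Or.inr (Or.inr (Or.inl rfl)), rfl⟩
      -- find y in C(z) mapping s₀ into U₂
      have hy : ∃ y : X, y * z * y⁻¹ = z ∧ y * φ (sr 0) * y⁻¹ ∈ Uj 1 := by
        by_cases hw : x * z * x⁻¹ = z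
        · exact ⟨x, hw, hxs⟩
        · obtain ⟨t, ht⟩ : ∃ t, t = x * z * x⁻¹ := ⟨_, rfl⟩
          rw [← ht] at hw hxz
          have htS : t ∈ (S : Subgroup X) := hUjS 1 hxz
          obtain ⟨n, hnz, hnt⟩ := exists_normalizer_swap hm hm4 hφ hr x
            (by rw [← hz, ← ht]; exact htS) (by rw [← hz, ← ht]; exact hw)
          rw [← hz, ← ht] at hnz hnt
          have hto : orderOf t = 2 := by rw [ht, orderOf_conj_eq, hzo]
          have htt : t * t = 1 := by rw [← pow_two, ← hto]; exact pow_orderOf_eq_one t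
          have ht1 : t ≠ 1 := by intro h; rw [h, orderOf_one] at hto; omega
          have hzt : z * t = t * z := (hzc t htS).symm
          obtain ⟨j, hj⟩ : ∃ j, t = φ (sr j) := by
            rcases invol_in_sylow hm h2 hφ hr t htS hto with h | h
            · exact absurd (h.trans hz.symm) hw
            · exact h
          obtain ⟨a, ha⟩ : ∃ a, a = φ (da m) := ⟨_, rfl⟩
          have hat : a * t * a⁻¹ = t * z := by
            rw [ha, hj, hz, ← map_inv, ← map_mul, ← map_mul, ← map_mul, da_conj_sr hm4]
          have haz : a * z * a⁻¹ = z := by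
            rw [ha, hz, ← map_inv, ← map_mul, ← map_mul, da_conj_dz h2]
          -- U₂ = {1, z, t, zt}
          have hU2 : Uj 1 = kSub z t hzz htt hzt := by
            rw [hUj]
            symm
            apply kSub_eq_of_mem hzz htt hzt hzz (hss 1) (hcm 1) hz1 ht1 (fun h => hw h.symm) hz1
              (hs1 1) (hzs 1) (Or.inr (Or.inl rfl))
            rw [← hUj]; exact hxz
          have hnaz : (n * a) * z * (n * a)⁻¹ = z * t := by
            have e : (n * a) * z * (n * a)⁻¹ = n * (a * z * a⁻¹) * n⁻¹ := by group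
            rw [e, haz, hnz]
          have hnat : (n * a) * t * (n * a)⁻¹ = z := by
            have e : (n * a) * t * (n * a)⁻¹ = n * (a * t * a⁻¹) * n⁻¹ := by group
            have e2 : n * (t * z) * n⁻¹ = (n * t * n⁻¹) * (n * z * n⁻¹) := by group
            rw [e, hat, e2, hnt, hnz, ← mul_assoc, ← hzt, mul_assoc, htt, mul_one]
          refine ⟨n * a * x, ?_, ?_⟩
          · have e : (n * a * x) * z * (n * a * x)⁻¹ = (n * a) * (x * z * x⁻¹) * (n * a)⁻¹ := by group
            rw [e, ← ht, hnat]
          · have e : (n * a * x) * φ (sr 0) * (n * a * x)⁻¹ =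
                (n * a) * (x * φ (sr 0) * x⁻¹) * (n * a)⁻¹ := by group
            rw [e, hU2]
            rw [hU2] at hxs
            rcases hxs with h | h | h | h
            · rw [h]; left; group
            · rw [h, hnaz]; right; right; right; rfl
            · rw [h, hnat]; right; left; rfl
            · rw [h]
              have e3 : (n * a) * (z * t) * (n * a)⁻¹ =
                  ((n * a) * z * (n * a)⁻¹) * ((n * a) * t * (n * a)⁻¹) := by group
              rw [e3, hnaz, hnat]
              right; right; left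
              rw [hzt, mul_assoc, hzz, mul_one]
      obtain ⟨y, hyz, hys⟩ := hy
      obtain ⟨s₀, hs₀S, hs₀⟩ := centralizer_fusion_in_sylow hm h2 hφ hr ⟨eS⟩ y (hz ▸ hyz)
        (φ (sr 0)) (hsS 0) (hUjS 1 hys)
      obtain ⟨d, rfl⟩ := (mem_sylow_iff_exists hr s₀).1 hs₀S
      rw [← hs₀, hUj] at hys
      have hpar : dihedralParity h2 (d * sr 0 * d⁻¹) = 1 := by
        rw [map_mul, map_mul, map_inv, dihedralParity_sr_zero, mul_one, mul_inv_cancel]
      have hconj : φ d * φ (sr 0) * (φ d)⁻¹ = φ (d * sr 0 * d⁻¹) := by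
        rw [map_mul, map_mul, map_inv]
      rw [hconj] at hys
      rcases hys with h | h | h | h
      · rw [← map_one φ] at h
        have h' := hφ h
        have : (sr 0 : DihedralGroup m) = 1 := by
          have e : (sr 0 : DihedralGroup m) = d⁻¹ * (d * sr 0 * d⁻¹) * d := by group
          rw [e, h']; group
        exact sr_ne_one' 0 this
      · rw [hz] at h
        have h' := hφ h
        have : (sr 0 : DihedralGroup m) = dz m := by
          have e : (sr 0 : DihedralGroup m) = d⁻¹ * (d * sr 0 * d⁻¹) * d := by group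
          rw [e, h', mul_assoc, ← dz_comm h2 d, ← mul_assoc, inv_mul_cancel, one_mul]
        exact sr_ne_dz 0 this
      · have h' := hφ h
        rw [h'] at hpar
        exact dihedralParity_sr_one h2 hpar
      · rw [hz, ← map_mul] at h
        have h' := hφ h
        rw [h', map_mul, parity_dz hm4 h2, one_mul] at hpar
        exact dihedralParity_sr_one h2 hpar
    · -- every four-group is conjugate to U₁ or U₂
      intro V hV
      obtain ⟨a, haV, b, hbV, ha1, hb1, hab⟩ := exists_two_of_isKleinFour V hV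
      obtain ⟨haa, hbb, hcab, hVk⟩ := eq_kSub_of_isKleinFour V hV haV hbV ha1 hb1 hab
      have hVp : IsPGroup 2 V :=
        IsPGroup.of_card (n := 2) (by rw [IsKleinFour.card_four]; norm_num)
      obtain ⟨Q, hQ⟩ := hVp.exists_le_sylow
      obtain ⟨g, hg⟩ := MulAction.exists_smul_eq X Q S
      have hconjS : ∀ v ∈ V, g * v * g⁻¹ ∈ (S : Subgroup X) := by
        intro v hv
        have h1 : g * v * g⁻¹ ∈ ((g • Q : Sylow 2 X) : Subgroup X) := by
          rw [mem_smul_sylow_iff]
          have : g⁻¹ * (g * v * g⁻¹) * g = v := by group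
          rw [this]; exact hQ hv
        rwa [hg] at h1
      obtain ⟨a', ha'⟩ : ∃ a', a' = g * a * g⁻¹ := ⟨_, rfl⟩
      obtain ⟨b', hb'⟩ : ∃ b', b' = g * b * g⁻¹ := ⟨_, rfl⟩
      have ha'S : a' ∈ (S : Subgroup X) := ha' ▸ hconjS a haV
      have hb'S : b' ∈ (S : Subgroup X) := hb' ▸ hconjS b hbV
      have ha'a' : a' * a' = 1 := ha' ▸ conj_sq_eq_one haa g
      have hb'b' : b' * b' = 1 := hb' ▸ conj_sq_eq_one hbb g
      have hc' : a' * b' = b' * a' := by rw [ha', hb']; exact conj_comm_of_comm hcab g
      have ha'1 : a' ≠ 1 := by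
        intro h; apply ha1
        have : a = g⁻¹ * a' * g := by rw [ha']; group
        rw [this, h]; group
      have hb'1 : b' ≠ 1 := by
        intro h; apply hb1
        have : b = g⁻¹ * b' * g := by rw [hb']; group
        rw [this, h]; group
      have hab' : a' ≠ b' := by
        intro h; apply hab
        have e1 : a = g⁻¹ * a' * g := by rw [ha']; group
        have e2 : b = g⁻¹ * b' * g := by rw [hb']; group
        rw [e1, e2, h]
      have hmapV : V.map (MulAut.conj g).toMonoidHom = kSub a' b' ha'a' hb'b' hc' := by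
        rw [hVk, map_conj_kSub]
        congr 1 <;> simp [ha', hb']
      have ha'o : orderOf a' = 2 := orderOf_eq_prime (by rw [pow_two]; exact ha'a') ha'1
      have hb'o : orderOf b' = 2 := orderOf_eq_prime (by rw [pow_two]; exact hb'b') hb'1
      -- the image is some `Uj j`
      have hj : ∃ j, kSub a' b' ha'a' hb'b' hc' = Uj j := by
        rcases invol_in_sylow hm h2 hφ hr a' ha'S ha'o with hA | ⟨i, hA⟩
        · rcases invol_in_sylow hm h2 hφ hr b' hb'S hb'o with hB | ⟨j, hB⟩
          · exact absurd (hA.trans hB.symm) hab'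
          · refine ⟨j, ?_⟩
            rw [hUj]
            apply kSub_eq_of_mem _ _ _ hzz (hss j) (hcm j) ha'1 hb'1 hab' hz1 (hs1 j) (hzs j)
            · exact Or.inr (Or.inl (hA.trans hz.symm))
            · exact Or.inr (Or.inr (Or.inl hB))
        · refine ⟨i, ?_⟩
          rw [hUj]
          apply kSub_eq_of_mem _ _ _ hzz (hss i) (hcm i) ha'1 hb'1 hab' hz1 (hs1 i) (hzs i)
          · exact Or.inr (Or.inr (Or.inl hA))
          · rcases invol_in_sylow hm h2 hφ hr b' hb'S hb'o with hB | ⟨j, hB⟩
            · exact Or.inr (Or.inl (hB.trans hz.symm))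
            · -- a' b' is a rotation of order two
              right; right; right
              have hprod : a' * b' = φ (r (j - i)) := by rw [hA, hB, ← map_mul, sr_mul_sr]
              have hne1 : r (j - i) ≠ (1 : DihedralGroup m) := by
                intro h
                rw [h, map_one] at hprod
                apply hab'
                have : a' = b'⁻¹ := eq_inv_of_mul_eq_one_left hprod
                rw [this]; exact inv_eq_of_mul_eq_one_right hb'b'
              have hsq : r (j - i) * r (j - i) = (1 : DihedralGroup m) := by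
                apply hφ
                rw [map_mul, ← hprod, map_one]
                calc a' * b' * (a' * b') = a' * (b' * a') * b' := by group
                  _ = a' * (a' * b') * b' := by rw [hc']
                  _ = (a' * a') * (b' * b') := by group
                  _ = 1 := by rw [ha'a', hb'b', one_mul]
              have hrz := r_eq_dz_of_invol hm h2 _ hsq hne1
              rw [hrz, ← hz] at hprod
              -- b' = a' * z = z * a'
              have : b' = a'⁻¹ * z := by rw [← hprod]; group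
              rw [this, inv_eq_of_mul_eq_one_right ha'a', ← hA]
              exact hzc a' ha'S
      obtain ⟨j, hj⟩ := hj
      have hne0 : NeZero m := ⟨by omega⟩
      obtain ⟨y, hy⟩ := exists_conj_sr (m := m) j
      -- conjugating `Uj 0` or `Uj 1` to `Uj j`
      have hmove : ∀ i : ZMod m, y * sr i * y⁻¹ = sr j →
          (Uj j).map (MulAut.conj (φ y)⁻¹).toMonoidHom = Uj i := by
        intro i hi
        apply map_conj_inv_of_map_conj
        rw [hUj i, map_conj_kSub, hUj j]
        apply kSub_eq_of_mem _ _ _ hzz (hss j) (hcm j)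
        · intro h
          apply hz1
          have : z = (φ y)⁻¹ * (φ y * z * (φ y)⁻¹) * φ y := by group
          rw [this, h]; group
        · intro h
          apply hs1 i
          have : φ (sr i) = (φ y)⁻¹ * (φ y * φ (sr i) * (φ y)⁻¹) * φ y := by group
          rw [this, h]; group
        · intro h
          apply hzs i
          have e1 : z = (φ y)⁻¹ * (φ y * z * (φ y)⁻¹) * φ y := by group
          have e2 : φ (sr i) = (φ y)⁻¹ * (φ y * φ (sr i) * (φ y)⁻¹) * φ y := by group
          rw [e1, e2, h]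
        · exact hz1
        · exact hs1 j
        · exact hzs j
        · right; left
          rw [hzc (φ y) ((mem_sylow_iff_exists hr _).2 ⟨_, rfl⟩), mul_assoc, mul_inv_cancel, mul_one]
        · right; right; left
          rw [← map_inv, ← map_mul, ← map_mul, hi]
      rcases hy with hy | hy
      · left
        refine ⟨(φ y)⁻¹ * g, ?_⟩
        rw [map_conj_mul, hmapV, hj, hmove 0 hy]
      · right
        refine ⟨(φ y)⁻¹ * g, ?_⟩
        rw [map_conj_mul, hmapV, hj, hmove 1 hy]

end Cfsg.Agent.S1256
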