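import Cfsg.Statements.S1267
import Mathlib
import Cfsg.Agent.Helper22.PLocal
import Cfsg.Agent.Helper22.SubLayer

set_option autoImplicit false
open Cfsg

namespace Cfsg.Agent.S1267

open Cfsg.Agent.Helper22 Cfsg.Agent.Helper21

/-- Let G be finite and P ≤ O_p(G). Then E(N_G(P)) = E(G). -/
theorem result {G : Type*} [Group G] [Finite G] (p : ℕ) [Fact p.Prime] (P : Subgroup G) (hP : P ≤ Cfsg.pCore p G) : (Cfsg.layer ↥(Subgroup.normalizer ((P : Subgroup G) : Set G))).map (Subgroup.normalizer ((P : Subgroup G) : Set G)).subtype = Cfsg.layer G := by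
  have hPp : IsPGroup p ↥P := (Cfsg.Agent.Lib.isPGroup_pCore p).to_le hP
  haveI hQn : (pCore p G).Normal := by
    haveI := Cfsg.Agent.Lib.pCore_characteristic (G := G) p
    infer_instance
  have hCP : Subgroup.centralizer (pCore p G : Set G) ≤ Subgroup.normalizer (P : Set G) :=
    (Subgroup.centralizer_le hP).trans (Subgroup.centralizer_le_normalizer _)
  apply le_antisymm
  · -- components of `N` are components of `G`
    rw [Subgroup.map_le_iff_le_comap, layer_le_iff]
    intro L hL
    rw [← Subgroup.map_le_iff_le_comap]
    apply IsComponent.le_layer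
    have hLC : L.map (Subgroup.normalizer (P : Set G)).subtype ≤
        Subgroup.centralizer (pCore p G : Set G) :=
      (Subgroup.map_mono ((IsComponent.le_layer hL).trans (layer_le_pLayerPre p))).trans
        (pLayerPre_normalizer_le_centralizer_pCore p P hPp)
    refine ⟨?_, IsQuasisimple.of_mulEquiv (L.equivMapOfInjective _
      (Subgroup.subtype_injective _)) hL.2⟩
    have hCn : (Subgroup.centralizer (pCore p G : Set G)).Normal := inferInstance
    refine Subgroup.IsSubnormal.trans hLC ?_ hCn.isSubnormal
    have hsn := hL.1.comap (Subgroup.inclusion hCP)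
    convert hsn using 1
    ext x
    rw [Subgroup.mem_subgroupOf, Subgroup.mem_comap, Subgroup.mem_map]
    constructor
    · rintro ⟨y, hy, hyx⟩
      have : Subgroup.inclusion hCP x = y := Subtype.ext hyx.symm
      rw [this]; exact hy
    · intro h
      exact ⟨_, h, rfl⟩
  · -- components of `G` are components of `N`
    have hEN : layer G ≤ Subgroup.normalizer (P : Set G) := by
      have h1 : layer G ≤ Subgroup.centralizer (fittingSubgroup G : Set G) := by
        rw [← Subgroup.commutator_eq_bot_iff_le_centralizer]
        exact layer_commutator_fittingSubgroup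
      refine h1.trans ((Subgroup.centralizer_le ?_).trans (Subgroup.centralizer_le_normalizer _))
      exact hP.trans (Cfsg.Agent.Lib.pCore_le_fittingSubgroup p)
    rw [layer_le_iff]
    intro K hK
    have hKN : K ≤ Subgroup.normalizer (P : Set G) := (IsComponent.le_layer hK).trans hEN
    have h1 : K.subgroupOf (Subgroup.normalizer (P : Set G)) ≤
        layer ↥(Subgroup.normalizer (P : Set G)) :=
      IsComponent.le_layer (IsComponent.subgroupOf hK hKN)
    have h2 := Subgroup.map_mono (f := (Subgroup.normalizer (P : Set G)).subtype) h1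
    rwa [Subgroup.subgroupOf_map_subtype, inf_eq_left.mpr hKN] at h2

end Cfsg.Agent.S1267
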