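-- Statement S1268: characteristic p is inherited by normalizers of p-subgroups.
import Cfsg.Statements.S1268
import Cfsg.Agent.Helper31.CharPChain2

set_option autoImplicit false
open Cfsg
open Cfsg.Agent.Helper31 Cfsg.Agent.Helper49

namespace Cfsg.Agent.S1268

/-- Let G be finite with F*(G) = O_p(G). Then F*(N) = O_p(N) for N the normalizer of any p-subgroup P of G. -/
theorem result {G : Type*} [Group G] [Finite G] (p : ℕ) [Fact p.Prime] (h : Cfsg.generalizedFittingSubgroup G = Cfsg.pCore p G) (P : Subgroup G) (hP : IsPGroup p ↥P) : Cfsg.generalizedFittingSubgroup ↥(Subgroup.normalizer ((P : Subgroup G) : Set G)) = Cfsg.pCore p ↥(Subgroup.normalizer ((P : Subgroup G) : Set G)) := by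
  have h1 : CharPIn p (⊤ : Subgroup G) := charPIn_top_iff.mpr (gfs_eq_pCore_iff.mp h)
  have h2 : CharPIn p (Subgroup.centralizer (((⊥ : Subgroup G) : Subgroup G) : Set G)) := by
    rw [centralizer_bot_eq_top]; exact h1
  have h3 : CharPIn p (Subgroup.centralizer (P : Set G)) := charPIn_centralizer_of_le h2 P hP bot_le
  have h4 : CharPIn p (Subgroup.normalizer (P : Set G)) := charPIn_normalizer_of_centralizer hP h3
  exact (charPIn_iff_gfs _).mp h4

end Cfsg.Agent.S1268
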