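import Mathlib
import Cfsg.Prelude.Def_Local
import Cfsg.Agent.Helper22.PComponent4

set_option autoImplicit false

namespace Cfsg.Agent.S1272

open Cfsg Cfsg.Agent.Helper22

theorem result {X : Type*} [Group X] [Finite X] (p : ℕ) [Fact p.Prime] : (∀ Kbar : Subgroup (X ⧸ Cfsg.pPrimeCore p X), Cfsg.IsComponent Kbar → ∃! K : Subgroup X, Cfsg.IsPComponent p K ∧ K.map (QuotientGroup.mk' (Cfsg.pPrimeCore p X)) = Kbar) ∧ (Cfsg.pLayer p X).map (QuotientGroup.mk' (Cfsg.pPrimeCore p X)) = Cfsg.layer (X ⧸ Cfsg.pPrimeCore p X) := by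
  refine ⟨?_, (layer_quotient_eq_map_pLayer p).symm⟩
  intro Kbar hKbar
  obtain ⟨K, hK, hKmap⟩ := exists_isPComponent_map_eq p hKbar
  refine ⟨K, ⟨hK, hKmap⟩, ?_⟩
  rintro L ⟨hL, hLmap⟩
  exact IsPComponent.eq_of_map_eq_map hL hK (hLmap.trans hKmap.symm)

end Cfsg.Agent.S1272
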