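import Cfsg.Statements.S1276
import Mathlib
import Cfsg.Agent.Helper22.PComponent3

set_option autoImplicit false
open Cfsg

namespace Cfsg.Agent.S1276

open Cfsg.Agent.Helper22 Cfsg.Agent.Helper21

/-- `⁅K, N.map K.subtype⁆ = ⊥` iff `N` is central in `K`. -/
theorem commutator_map_subtype_eq_bot_iff {X : Type*} [Group X] (K : Subgroup X) (N : Subgroup ↥K) :
    ⁅K, N.map K.subtype⁆ = ⊥ ↔ N ≤ Subgroup.center ↥K := by
  rw [Subgroup.commutator_comm, Subgroup.commutator_eq_bot_iff_le_centralizer]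
  constructor
  · intro h n hn
    rw [Subgroup.mem_center_iff]
    intro g
    have h1 : (n : X) ∈ Subgroup.centralizer (K : Set X) := h ⟨n, hn, rfl⟩
    exact Subtype.ext (Subgroup.mem_centralizer_iff.mp h1 g g.2)
  · rintro h _ ⟨n, hn, rfl⟩
    rw [Subgroup.mem_centralizer_iff]
    intro g hg
    have := Subgroup.mem_center_iff.mp (h hn) ⟨g, hg⟩
    exact congrArg Subtype.val this

theorem result {X : Type*} [Group X] [Finite X] (K : Subgroup X) (hK : Cfsg.IsPComponent 2 K) : Cfsg.IsQuasisimple ↥K ↔ ⁅K, ((Cfsg.oddCore ↥K).map K.subtype)⁆ = ⊥ := by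
  haveI : Fact (Nat.Prime 2) := ⟨Nat.prime_two⟩
  rw [commutator_map_subtype_eq_bot_iff]
  constructor
  · intro hq
    rcases IsQuasisimple.normal_eq_top_or_le_center hq (Cfsg.oddCore ↥K) with h | h
    · exfalso
      have h1 : Odd (Nat.card ↥(Cfsg.oddCore ↥K)) := Cfsg.Agent.Lib.odd_card_oddCore
      rw [h, Nat.card_congr Subgroup.topEquiv.toEquiv] at h1
      have h2 : 2 ∣ Nat.card ↥K := IsPComponent.dvd_card hK
      rw [← even_iff_two_dvd] at h2
      exact (Nat.not_even_iff_odd.mpr h1) h2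
    · exact h
  · intro h
    exact isQuasisimple_of_quotient_central (Cfsg.oddCore ↥K) h
      (Subgroup.isPerfect_iff.mpr (IsPComponent.commutator_self hK))
      (IsPComponent.isQuasisimple_quotient hK)

end Cfsg.Agent.S1276
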