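import Cfsg.Statements.S1277
import Mathlib
import Cfsg.Agent.Helper22.PComponent4

set_option autoImplicit false
open Cfsg

namespace Cfsg.Agent.S1277

open Cfsg.Agent.Helper22

theorem result {X : Type*} [Group X] [Finite X] : (Cfsg.layer X).map (QuotientGroup.mk' (Cfsg.oddCore X)) = Cfsg.layer (X ⧸ Cfsg.oddCore X) ↔ Cfsg.pLayer 2 X ≤ Cfsg.layer X := by
  haveI : Fact (Nat.Prime 2) := ⟨Nat.prime_two⟩
  exact map_layer_eq_layer_quotient_iff 2

end Cfsg.Agent.S1277
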