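import Cfsg.Statements.S1278
import Mathlib
import Cfsg.Agent.S1276

set_option autoImplicit false
open Cfsg

namespace Cfsg.Agent.S1278

open Cfsg.Agent.Helper22 Cfsg.Agent.Helper21

theorem result {X : Type*} [Group X] [Finite X] (K L : Subgroup X) (hK : Cfsg.IsPComponent 2 K) (hL : Cfsg.IsPComponent 2 L) (hne : K ≠ L) : ⁅K, L⁆ ≤ ((Cfsg.oddCore ↥K).map K.subtype) ⊓ ((Cfsg.oddCore ↥L).map L.subtype) ∧ (Cfsg.IsQuasisimple ↥K → ⁅K, L⁆ = ⊥) := by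
  haveI : Fact (Nat.Prime 2) := ⟨Nat.prime_two⟩
  have hO : ⁅K, L⁆ ≤ Cfsg.pPrimeCore 2 X := IsPComponent.commutator_le_pPrimeCore hK hL hne
  have hKn : ⁅K, L⁆ ≤ K := commutator_le_of_le_normalizer (IsPComponent.le_normalizer hK hL)
  have hLn : ⁅K, L⁆ ≤ L := by
    rw [Subgroup.commutator_comm]
    exact commutator_le_of_le_normalizer (IsPComponent.le_normalizer hL hK)
  have h1 : ⁅K, L⁆ ≤ (Cfsg.oddCore ↥K).map K.subtype := by
    show ⁅K, L⁆ ≤ (Cfsg.pPrimeCore 2 ↥K).map K.subtype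
    rw [map_pPrimeCore_subtype_of_isSubnormal 2 hK.1]
    exact le_inf hO hKn
  have h2 : ⁅K, L⁆ ≤ (Cfsg.oddCore ↥L).map L.subtype := by
    show ⁅K, L⁆ ≤ (Cfsg.pPrimeCore 2 ↥L).map L.subtype
    rw [map_pPrimeCore_subtype_of_isSubnormal 2 hL.1]
    exact le_inf hO hLn
  refine ⟨le_inf h1 h2, ?_⟩
  intro hq
  have h3 := (Cfsg.Agent.S1276.result K hK).mp hq
  -- ⁅⁅L, K⁆, K⁆ = ⊥
  have h4 : ⁅⁅L, K⁆, K⁆ = ⊥ := by
    rw [eq_bot_iff, ← h3, Subgroup.commutator_comm L K, Subgroup.commutator_comm _ K]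
    exact Subgroup.commutator_mono le_rfl h1
  have h5 := commutator_eq_bot_of_perfect (IsPComponent.commutator_self hK) h4
  rw [Subgroup.commutator_comm]; exact h5

end Cfsg.Agent.S1278
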