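import Cfsg.Statements.S1286
import Mathlib

set_option autoImplicit false
open Cfsg

namespace Cfsg.Agent.S1286

abbrev P5 := Equiv.Perm (Fin 5)

def mkP (f g : Fin 5 → Fin 5) (h1 : ∀ x, g (f x) = x) (h2 : ∀ x, f (g x) = x) : P5 := ⟨f, g, h1, h2⟩

/-- (0 1) -/
def pa : P5 := mkP ![1,0,2,3,4] ![1,0,2,3,4] (by decide) (by decide)
/-- (2 3) -/
def pb : P5 := mkP ![0,1,3,2,4] ![0,1,3,2,4] (by decide) (by decide)
/-- (2 3 4) -/
def ps : P5 := mkP ![0,1,3,4,2] ![0,1,4,2,3] (by decide) (by decide)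
/-- (0 1 4) -/
def pt : P5 := mkP ![1,4,2,3,0] ![4,0,2,3,1] (by decide) (by decide)

def sgA : Subgroup P5 where
  carrier := {x | x = 1 ∨ x = pa ∨ x = pb ∨ x = pa * pb}
  mul_mem' := by
    rintro _ _ (rfl|rfl|rfl|rfl) (rfl|rfl|rfl|rfl) <;> decide
  one_mem' := Or.inl rfl
  inv_mem' := by
    rintro _ (rfl|rfl|rfl|rfl) <;> decide

def sgS : Subgroup P5 where
  carrier := {x | x = 1 ∨ x = ps ∨ x = ps⁻¹}
  mul_mem' := by
    rintro _ _ (rfl|rfl|rfl) (rfl|rfl|rfl) <;> decide
  one_mem' := Or.inl rfl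
  inv_mem' := by
    rintro _ (rfl|rfl|rfl) <;> decide

def sgT : Subgroup P5 where
  carrier := {x | x = 1 ∨ x = pt ∨ x = pt⁻¹}
  mul_mem' := by
    rintro _ _ (rfl|rfl|rfl) (rfl|rfl|rfl) <;> decide
  one_mem' := Or.inl rfl
  inv_mem' := by
    rintro _ (rfl|rfl|rfl) <;> decide

def th (x : P5) : Subgroup P5 := if x = pa then sgS else if x = pb then sgT else ⊥

lemma th_pa : th pa = sgS := by simp [th]
lemma th_pb : th pb = sgT := by
  have : pb ≠ pa := by decide
  simp [th, this]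
lemma th_pab : th (pa * pb) = ⊥ := by
  have h1 : pa * pb ≠ pa := by decide
  have h2 : pa * pb ≠ pb := by decide
  simp [th, h1, h2]

lemma mem_sgA {x : P5} : x ∈ sgA ↔ x = 1 ∨ x = pa ∨ x = pb ∨ x = pa * pb := Iff.rfl
lemma mem_sgS {x : P5} : x ∈ sgS ↔ x = 1 ∨ x = ps ∨ x = ps⁻¹ := Iff.rfl
lemma mem_sgT {x : P5} : x ∈ sgT ↔ x = 1 ∨ x = pt ∨ x = pt⁻¹ := Iff.rfl

lemma card_sgA : Nat.card sgA = 4 := by
  have h : (sgA : Set P5) = ((({1, pa, pb, pa * pb} : Finset P5)) : Set P5) := by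
    ext x
    simp [mem_sgA]
  have h2 : Nat.card sgA = Set.ncard (sgA : Set P5) := (Nat.card_coe_set_eq _)
  rw [h2, h, Set.ncard_coe_finset]
  decide

lemma not_two_dvd_card_of_pow_three {H : Subgroup P5} (h : ∀ x ∈ H, x ^ 3 = 1) :
    ¬ 2 ∣ Nat.card H := by
  have hp : IsPGroup 3 H := by
    intro g
    refine ⟨1, ?_⟩
    apply Subtype.ext
    simpa using h g g.2
  haveI : Fact (Nat.Prime 3) := ⟨by norm_num⟩
  obtain ⟨n, hn⟩ := hp.exists_card_eq
  rw [hn]
  intro h2
  have := Nat.Prime.dvd_of_dvd_pow Nat.prime_two h2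
  omega

lemma not_two_dvd_card_sgS : ¬ 2 ∣ Nat.card sgS :=
  not_two_dvd_card_of_pow_three (by rintro _ (rfl|rfl|rfl) <;> decide)

lemma not_two_dvd_card_sgT : ¬ 2 ∣ Nat.card sgT :=
  not_two_dvd_card_of_pow_three (by rintro _ (rfl|rfl|rfl) <;> decide)

lemma isSolvable_of_comm' {H : Subgroup P5} (h : ∀ x ∈ H, ∀ y ∈ H, x * y = y * x) :
    Group.IsSolvable H :=
  isSolvable_of_comm (fun x y => Subtype.ext (h x x.2 y y.2))

lemma mem_centralizer_singleton {a x : P5} : x ∈ Subgroup.centralizer {a} ↔ a * x = x * a := by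
  rw [Subgroup.mem_centralizer_iff]
  simp

lemma isSignalizerFunctor : Cfsg.IsSignalizerFunctor 2 sgA th := by
  refine ⟨?_, ?_, ?_, ?_⟩
  · rintro _ (rfl|rfl|rfl|rfl) ha1
    · exact absurd rfl ha1
    · rw [th_pa]
      rintro _ (rfl|rfl|rfl) <;> rw [mem_centralizer_singleton] <;> decide
    · rw [th_pb]
      rintro _ (rfl|rfl|rfl) <;> rw [mem_centralizer_singleton] <;> decide
    · rw [th_pab]
      exact bot_le
  · rintro _ (rfl|rfl|rfl|rfl) ha1
    · exact absurd rfl ha1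
    · rw [th_pa]; exact not_two_dvd_card_sgS
    · rw [th_pb]; exact not_two_dvd_card_sgT
    · rw [th_pab]
      simp
  · rintro _ (rfl|rfl|rfl|rfl) ha1
    · exact absurd rfl ha1
    · rw [th_pa]
      rintro _ (rfl|rfl|rfl|rfl) _ (rfl|rfl|rfl) <;> rw [mem_sgS] <;> decide
    · rw [th_pb]
      rintro _ (rfl|rfl|rfl|rfl) _ (rfl|rfl|rfl) <;> rw [mem_sgT] <;> decide
    · rw [th_pab]
      intro b _ x hx
      rw [Subgroup.mem_bot] at hx
      subst hx
      simp
  · rintro _ (rfl|rfl|rfl|rfl) ha1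
    · exact absurd rfl ha1
    · rw [th_pa]
      rintro _ (rfl|rfl|rfl|rfl) hb1
      · exact absurd rfl hb1
      · rw [th_pa]; exact inf_le_left
      · intro x hx
        obtain ⟨hx1, hx2⟩ := Subgroup.mem_inf.mp hx
        rw [mem_centralizer_singleton] at hx2
        rcases hx1 with (rfl|rfl|rfl)
        · exact one_mem _
        · exact absurd hx2 (by decide)
        · exact absurd hx2 (by decide)
      · intro x hx
        obtain ⟨hx1, hx2⟩ := Subgroup.mem_inf.mp hx
        rw [mem_centralizer_singleton] at hx2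
        rcases hx1 with (rfl|rfl|rfl)
        · exact one_mem _
        · exact absurd hx2 (by decide)
        · exact absurd hx2 (by decide)
    · rw [th_pb]
      rintro _ (rfl|rfl|rfl|rfl) hb1
      · exact absurd rfl hb1
      · intro x hx
        obtain ⟨hx1, hx2⟩ := Subgroup.mem_inf.mp hx
        rw [mem_centralizer_singleton] at hx2
        rcases hx1 with (rfl|rfl|rfl)
        · exact one_mem _
        · exact absurd hx2 (by decide)
        · exact absurd hx2 (by decide)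
      · rw [th_pb]; exact inf_le_left
      · intro x hx
        obtain ⟨hx1, hx2⟩ := Subgroup.mem_inf.mp hx
        rw [mem_centralizer_singleton] at hx2
        rcases hx1 with (rfl|rfl|rfl)
        · exact one_mem _
        · exact absurd hx2 (by decide)
        · exact absurd hx2 (by decide)
    · rw [th_pab]
      intro b _ _
      exact inf_le_left.trans bot_le

/-- There exist a finite group X, an elementary abelian subgroup A of order 4 and a solvable A-signalizer functor θ on X for the prime 2 which is not complete. -/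
theorem result : ∃ (X : Type) (_ : Group X) (_ : Finite X) (A : Subgroup X) (θ : X → Subgroup X), Cfsg.IsElementaryAbelian 2 A ∧ Nat.card ↥A = 4 ∧ Cfsg.IsSolvableSignalizerFunctor 2 A θ ∧ ¬ Cfsg.IsCompleteSignalizerFunctor 2 A θ := by
  refine ⟨P5, inferInstance, inferInstance, sgA, th, ⟨?_, ?_⟩, card_sgA, ⟨isSignalizerFunctor, ?_⟩, ?_⟩
  · refine ⟨⟨fun x y => Subtype.ext ?_⟩⟩
    obtain ⟨x, hx⟩ := x
    obtain ⟨y, hy⟩ := y
    change x * y = y * x
    rcases hx with (rfl|rfl|rfl|rfl) <;> rcases hy with (rfl|rfl|rfl|rfl) <;> decide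
  · rintro _ (rfl|rfl|rfl|rfl) <;> decide
  · rintro _ (rfl|rfl|rfl|rfl) ha1
    · exact absurd rfl ha1
    · rw [th_pa]
      exact isSolvable_of_comm' (by rintro _ (rfl|rfl|rfl) _ (rfl|rfl|rfl) <;> decide)
    · rw [th_pb]
      exact isSolvable_of_comm' (by rintro _ (rfl|rfl|rfl) _ (rfl|rfl|rfl) <;> decide)
    · rw [th_pab]
      infer_instance
  · rintro ⟨_, X, _, hX2, hX⟩
    have h1 := hX pa (Or.inr (Or.inl rfl)) (by decide)
    have h2 := hX pb (Or.inr (Or.inr (Or.inl rfl))) (by decide)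
    rw [th_pa] at h1
    rw [th_pb] at h2
    have hs : ps ∈ X := by
      have : ps ∈ sgS := Or.inr (Or.inl rfl)
      rw [← h1] at this
      exact this.1
    have ht : pt ∈ X := by
      have : pt ∈ sgT := Or.inr (Or.inl rfl)
      rw [← h2] at this
      exact this.1
    have hw : ps * pt * ps * pt⁻¹ ∈ X := X.mul_mem (X.mul_mem (X.mul_mem hs ht) hs) (X.inv_mem ht)
    apply hX2
    have ho : orderOf (ps * pt * ps * pt⁻¹) = 2 := by
      apply orderOf_eq_prime
      · decide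
      · decide
    rw [← ho]
    have := orderOf_dvd_natCard (⟨ps * pt * ps * pt⁻¹, hw⟩ : X)
    rwa [← Subgroup.orderOf_mk _ hw]

end Cfsg.Agent.S1286
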