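import Cfsg.Statements.S1287
import Cfsg.Agent.Helper48.WielandtOrder
import Cfsg.Agent.Helper63.ProdCard
import Cfsg.Agent.S0030

set_option autoImplicit false
open scoped Pointwise
open Cfsg

namespace Cfsg.Agent.S1287

open Cfsg.Agent.Helper48

/-- product formula from a set factorization -/
theorem card_mul_card_of_coe_eq {H : Type*} [Group H] (K X Y D : Subgroup H)
    (hD : X ⊓ Y = D)
    (h : (K : Set H) = (X : Set H) * (Y : Set H)) :
    Nat.card ↥K * Nat.card ↥D = Nat.card ↥X * Nat.card ↥Y := by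
  have h1 := Cfsg.Agent.Helper63.card_mul_card_inf X Y
  rw [hD, ← h] at h1
  exact h1

/-- Let A be a noncyclic elementary abelian p-subgroup of a finite group H normalizing a subgroup K of order prime to p, and X, Y ≤ K subgroups normalized by A with C_K(a) = C_X(a) C_Y(a) (as sets) for every non-identity a ∈ A, where X is also normalized by C_K(A). Then K = XY as sets. -/
theorem result {H : Type*} [Group H] [Finite H] (p : ℕ) [Fact p.Prime] (A K X Y : Subgroup H) (hA : Cfsg.IsElementaryAbelian p A) (hA2 : p ^ 2 ≤ Nat.card ↥A) (hK : ¬ p ∣ Nat.card ↥K) (hAK : A ≤ Subgroup.normalizer (K : Set H)) (hX : X ≤ K) (hY : Y ≤ K) (hAX : A ≤ Subgroup.normalizer (X : Set H)) (hAY : A ≤ Subgroup.normalizer (Y : Set H)) (hCX : K ⊓ Subgroup.centralizer (A : Set H) ≤ Subgroup.normalizer (X : Set H)) (hfac : ∀ a ∈ A, a ≠ 1 → ((K ⊓ Subgroup.centralizer {a} : Subgroup H) : Set H) = ((X ⊓ Subgroup.centralizer {a} : Subgroup H) : Set H) * ((Y ⊓ Subgroup.centralizer {a} : Subgroup H)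 : Set H)) : (K : Set H) = (X : Set H) * (Y : Set H) := by
  have hp : p.Prime := Fact.out
  have hcomm : ∀ x ∈ A, ∀ y ∈ A, x * y = y * x := by
    intro x hx y hy
    have := hA.1.is_comm.comm ⟨x, hx⟩ ⟨y, hy⟩
    exact congrArg Subtype.val this
  -- choose b ≠ 1 and a ∉ ⟨b⟩
  have hAcard : 1 < Nat.card ↥A := lt_of_lt_of_le (Nat.one_lt_pow (by norm_num) hp.one_lt) hA2
  obtain ⟨b, hbA, hb1⟩ : ∃ b ∈ A, b ≠ 1 := by
    by_contra hcon
    push Not at hcon
    have : A = ⊥ := (Subgroup.eq_bot_iff_forall A).2 hcon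
    rw [this, Subgroup.card_bot] at hAcard
    exact lt_irrefl _ hAcard
  have hbp : b ^ p = 1 := hA.2 b hbA
  have hzb : Subgroup.zpowers b ≤ A := (Subgroup.zpowers_le).2 hbA
  have hzcard : Nat.card ↥(Subgroup.zpowers b) ≤ p := by
    rw [Nat.card_zpowers]
    exact Nat.le_of_dvd hp.pos (orderOf_dvd_of_pow_eq_one hbp)
  have hlt : Subgroup.zpowers b < A := by
    refine lt_of_le_of_ne hzb ?_
    intro heq
    rw [heq] at hzcard
    have : p ^ 2 ≤ p := hA2.trans hzcard
    have h2 : p < p ^ 2 := by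
      calc p = p ^ 1 := (pow_one p).symm
        _ < p ^ 2 := Nat.pow_lt_pow_right hp.one_lt (by norm_num)
    omega
  obtain ⟨a, haA, hab'⟩ := SetLike.exists_of_lt hlt
  have hap : a ^ p = 1 := hA.2 a haA
  have hab : Commute a b := hcomm a haA b hbA
  have hgA : ∀ i : ZMod p, a * b ^ i.val ∈ A := fun i =>
    A.mul_mem haA (A.pow_mem hbA _)
  have hg1 : ∀ i : ZMod p, a * b ^ i.val ≠ 1 := by
    intro i h
    apply hab'
    have : a = (b ^ i.val)⁻¹ := eq_inv_of_mul_eq_one_left h
    rw [this]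
    exact Subgroup.inv_mem _ (Subgroup.pow_mem _ (Subgroup.mem_zpowers b) _)
  -- coprimality
  have hcopK : (Nat.card ↥K).Coprime p := (Nat.Coprime.symm ((Nat.Prime.coprime_iff_not_dvd hp).2 hK))
  have hcop : ∀ L : Subgroup H, L ≤ K → (Nat.card ↥L).Coprime p := fun L hL =>
    Nat.Coprime.coprime_dvd_left (Subgroup.card_dvd_of_le hL) hcopK
  have hXY : X ⊓ Y ≤ K := inf_le_left.trans hX
  have hAXY : A ≤ Subgroup.normalizer ((X ⊓ Y : Subgroup H) : Set H) :=
    (le_inf hAX hAY).trans Subgroup.inf_normalizer_le_normalizer_inf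
  -- Wielandt formulas
  have WK := wFormula hab hap hbp K (hAK haA) (hAK hbA) hcopK
  have WX := wFormula hab hap hbp X (hAX haA) (hAX hbA) (hcop X hX)
  have WY := wFormula hab hap hbp Y (hAY haA) (hAY hbA) (hcop Y hY)
  have WD := wFormula hab hap hbp (X ⊓ Y) (hAXY haA) (hAXY hbA) (hcop _ hXY)
  unfold WFormula at WK WX WY WD
  -- product formulas for single centralizers
  have hprod : ∀ g ∈ A, g ≠ 1 →
      Nat.card ↥(K ⊓ Subgroup.centralizer ({g} : Set H)) *
        Nat.card ↥(X ⊓ Y ⊓ Subgroup.centralizer ({g} : Set H)) =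
      Nat.card ↥(X ⊓ Subgroup.centralizer ({g} : Set H)) *
        Nat.card ↥(Y ⊓ Subgroup.centralizer ({g} : Set H)) := by
    intro g hg hg1
    exact card_mul_card_of_coe_eq _ _ _ _ (inf_inf_distrib_right _ _ _).symm (hfac g hg hg1)
  -- the joint centralizer
  have hjoint : ((K ⊓ Subgroup.centralizer ({a} : Set H) ⊓ Subgroup.centralizer ({b} : Set H) :
      Subgroup H) : Set H) =
      ((X ⊓ Subgroup.centralizer ({a} : Set H) ⊓ Subgroup.centralizer ({b} : Set H) :
        Subgroup H) : Set H) *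
      ((Y ⊓ Subgroup.centralizer ({a} : Set H) ⊓ Subgroup.centralizer ({b} : Set H) :
        Subgroup H) : Set H) := by
    have ha1 : a ≠ 1 := by
      have := hg1 0
      simpa using this
    have hbN : ∀ L : Subgroup H, b ∈ Subgroup.normalizer (L : Set H) →
        Subgroup.zpowers b ≤ Subgroup.normalizer
          ((L ⊓ Subgroup.centralizer ({a} : Set H) : Subgroup H) : Set H) := by
      intro L hL
      rw [Subgroup.zpowers_le]
      apply Subgroup.inf_normalizer_le_normalizer_inf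
      refine Subgroup.mem_inf.2 ⟨hL, Subgroup.le_normalizer ?_⟩
      rw [Subgroup.mem_centralizer_singleton_iff]
      exact hab.eq.symm
    have hPb := Cfsg.Agent.Helper22.isPGroup_zpowers_of_pow_eq_one p b hbp
    have hcopb : (Nat.card ↥(Subgroup.zpowers b)).Coprime
        (Nat.card ↥(K ⊓ Subgroup.centralizer ({a} : Set H))) :=
      coprime_card_of_isPGroup hPb (hcop _ inf_le_left)
    have h30 := Cfsg.Agent.S0030.result (Subgroup.zpowers b)
      (K ⊓ Subgroup.centralizer ({a} : Set H)) (hbN K (hAK hbA)) hcopb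
      (Or.inl (isSolvable_of_isPGroup hPb))
      (X ⊓ Subgroup.centralizer ({a} : Set H)) (Y ⊓ Subgroup.centralizer ({a} : Set H))
      (inf_le_inf_right _ hX) (inf_le_inf_right _ hY) (hbN X (hAX hbA)) (hbN Y (hAY hbA))
      (by
        intro k hk
        have hk' : k ∈ ((K ⊓ Subgroup.centralizer ({a} : Set H) : Subgroup H) : Set H) := hk
        rw [hfac a haA ha1] at hk'
        obtain ⟨x, hx, y, hy, rfl⟩ := hk'
        exact ⟨x, hx, y, hy, rfl⟩)
    apply Set.Subset.antisymm
    · intro k hk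
      have hk' : k ∈ K ⊓ Subgroup.centralizer ({a} : Set H) ⊓
          Subgroup.centralizer ((Subgroup.zpowers b : Subgroup H) : Set H) := by
        rw [centralizer_zpowers_eq]; exact hk
      obtain ⟨x, hx, y, hy, rfl⟩ := h30 k hk'
      rw [centralizer_zpowers_eq] at hx hy
      exact ⟨x, hx, y, hy, rfl⟩
    · rintro _ ⟨x, hx, y, hy, rfl⟩
      have hle : ∀ L : Subgroup H, L ≤ K →
          L ⊓ Subgroup.centralizer ({a} : Set H) ⊓ Subgroup.centralizer ({b} : Set H) ≤
          K ⊓ Subgroup.centralizer ({a} : Set H) ⊓ Subgroup.centralizer ({b} : Set H) :=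
        fun L hL => inf_le_inf_right _ (inf_le_inf_right _ hL)
      exact Subgroup.mul_mem _ (hle X hX hx) (hle Y hY hy)
  have hjcard := card_mul_card_of_coe_eq _ _ _
    (X ⊓ Y ⊓ Subgroup.centralizer ({a} : Set H) ⊓ Subgroup.centralizer ({b} : Set H))
    (by rw [← inf_inf_distrib_right, ← inf_inf_distrib_right]) hjoint
  -- arithmetic
  have hb5 := hprod b hbA hb1
  have hi5 : ∀ i : ZMod p, _ := fun i => hprod (a * b ^ i.val) (hgA i) (hg1 i)
  have hmain : Nat.card ↥K * Nat.card ↥(X ⊓ Y : Subgroup H) = Nat.card ↥X * Nat.card ↥Y := by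
    have hne : (Nat.card ↥(K ⊓ Subgroup.centralizer ({a} : Set H) ⊓
        Subgroup.centralizer ({b} : Set H)) *
        Nat.card ↥(X ⊓ Y ⊓ Subgroup.centralizer ({a} : Set H) ⊓
          Subgroup.centralizer ({b} : Set H))) ^ p ≠ 0 :=
      pow_ne_zero _ (mul_ne_zero Nat.card_pos.ne' Nat.card_pos.ne')
    apply Nat.eq_of_mul_eq_mul_right (Nat.pos_of_ne_zero hne)
    calc Nat.card ↥K * Nat.card ↥(X ⊓ Y : Subgroup H) *
          (Nat.card ↥(K ⊓ Subgroup.centralizer ({a} : Set H) ⊓
            Subgroup.centralizer ({b} : Set H)) *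
          Nat.card ↥(X ⊓ Y ⊓ Subgroup.centralizer ({a} : Set H) ⊓
            Subgroup.centralizer ({b} : Set H))) ^ p
        = (Nat.card ↥K * Nat.card ↥(K ⊓ Subgroup.centralizer ({a} : Set H) ⊓
            Subgroup.centralizer ({b} : Set H)) ^ p) *
          (Nat.card ↥(X ⊓ Y : Subgroup H) *
            Nat.card ↥(X ⊓ Y ⊓ Subgroup.centralizer ({a} : Set H) ⊓
              Subgroup.centralizer ({b} : Set H)) ^ p) := by ring
      _ = ((∏ i : ZMod p, Nat.card ↥(K ⊓ Subgroup.centralizer ({a * b ^ i.val} : Set H))) *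
            Nat.card ↥(K ⊓ Subgroup.centralizer ({b} : Set H))) *
          ((∏ i : ZMod p, Nat.card ↥(X ⊓ Y ⊓ Subgroup.centralizer ({a * b ^ i.val} : Set H))) *
            Nat.card ↥(X ⊓ Y ⊓ Subgroup.centralizer ({b} : Set H))) := by rw [WK, WD]
      _ = (∏ i : ZMod p, (Nat.card ↥(K ⊓ Subgroup.centralizer ({a * b ^ i.val} : Set H)) *
            Nat.card ↥(X ⊓ Y ⊓ Subgroup.centralizer ({a * b ^ i.val} : Set H)))) *
          (Nat.card ↥(K ⊓ Subgroup.centralizer ({b} : Set H)) *
            Nat.card ↥(X ⊓ Y ⊓ Subgroup.centralizer ({b} : Set H))) := by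
        rw [Finset.prod_mul_distrib]; ring
      _ = (∏ i : ZMod p, (Nat.card ↥(X ⊓ Subgroup.centralizer ({a * b ^ i.val} : Set H)) *
            Nat.card ↥(Y ⊓ Subgroup.centralizer ({a * b ^ i.val} : Set H)))) *
          (Nat.card ↥(X ⊓ Subgroup.centralizer ({b} : Set H)) *
            Nat.card ↥(Y ⊓ Subgroup.centralizer ({b} : Set H))) := by
        rw [hb5]
        congr 1
        exact Finset.prod_congr rfl (fun i _ => hi5 i)
      _ = ((∏ i : ZMod p, Nat.card ↥(X ⊓ Subgroup.centralizer ({a * b ^ i.val} : Set H))) *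
            Nat.card ↥(X ⊓ Subgroup.centralizer ({b} : Set H))) *
          ((∏ i : ZMod p, Nat.card ↥(Y ⊓ Subgroup.centralizer ({a * b ^ i.val} : Set H))) *
            Nat.card ↥(Y ⊓ Subgroup.centralizer ({b} : Set H))) := by
        rw [Finset.prod_mul_distrib]; ring
      _ = (Nat.card ↥X * Nat.card ↥(X ⊓ Subgroup.centralizer ({a} : Set H) ⊓
            Subgroup.centralizer ({b} : Set H)) ^ p) *
          (Nat.card ↥Y * Nat.card ↥(Y ⊓ Subgroup.centralizer ({a} : Set H) ⊓
            Subgroup.centralizer ({b} : Set H)) ^ p) := by rw [WX, WY]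
      _ = Nat.card ↥X * Nat.card ↥Y *
          (Nat.card ↥(X ⊓ Subgroup.centralizer ({a} : Set H) ⊓
            Subgroup.centralizer ({b} : Set H)) *
          Nat.card ↥(Y ⊓ Subgroup.centralizer ({a} : Set H) ⊓
            Subgroup.centralizer ({b} : Set H))) ^ p := by ring
      _ = _ := by rw [hjcard]
  -- conclude
  have hsub : (X : Set H) * (Y : Set H) ⊆ (K : Set H) := by
    rintro _ ⟨x, hx, y, hy, rfl⟩
    exact K.mul_mem (hX hx) (hY hy)
  have hcardXY : Nat.card ((X : Set H) * (Y : Set H) : Set H) = Nat.card ↥K := by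
    have h1 := Cfsg.Agent.Helper63.card_mul_card_inf X Y
    rw [← hmain] at h1
    exact Nat.eq_of_mul_eq_mul_right Nat.card_pos h1
  symm
  apply Set.eq_of_subset_of_ncard_le hsub _ (Set.toFinite _)
  rw [← Nat.card_coe_set_eq, ← Nat.card_coe_set_eq, hcardXY]
  exact le_of_eq rfl

end Cfsg.Agent.S1287
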