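import Cfsg.Statements.S1289
import Mathlib
import Cfsg.Agent.Helper22.PComponent

set_option autoImplicit false
open Cfsg

namespace Cfsg.Agent.S1289

open Cfsg.Agent.Helper22 Cfsg.Agent.Helper21

theorem result {X : Type*} [Group X] [Finite X] (p : ℕ) [Fact p.Prime] (K : Subgroup X) (hK : Cfsg.IsPComponent p K) : K.IsSubnormal ∧ ⁅K, K⁆ = K ∧ p ∣ Nat.card ↥K ∧ ∀ H : Subgroup X, H ≤ K → H.IsSubnormal → ⁅H, H⁆ = H → p ∣ Nat.card ↥H → H = K := by
  refine ⟨hK.1, IsPComponent.commutator_self hK, IsPComponent.dvd_card hK, ?_⟩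
  intro H hHK hHsn hHperf hpH
  rcases IsPComponent.map_eq_or_le_centralizer hK hHsn hHK with h | h
  · exact IsPComponent.eq_of_map_eq hK hHsn hHK h
  · exfalso
    set π := QuotientGroup.mk' (Cfsg.pPrimeCore p X) with hπ
    have h1 : ⁅H.map π, H.map π⁆ = ⊥ := by
      rw [Subgroup.commutator_eq_bot_iff_le_centralizer]
      refine h.trans (Subgroup.centralizer_le ?_)
      exact Subgroup.map_mono hHK
    rw [← Subgroup.map_commutator, hHperf, Subgroup.map_eq_bot_iff, QuotientGroup.ker_mk'] at h1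
    have h2 : (Nat.card ↥H).Coprime p :=
      Nat.Coprime.coprime_dvd_left (Subgroup.card_dvd_of_le h1)
        (Cfsg.Agent.Lib.card_pPrimeCore_coprime p)
    exact not_dvd_of_coprime_card h2 hpH

end Cfsg.Agent.S1289
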