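import Cfsg.Statements.S1292
import Cfsg.Agent.Helper49.FStar
import Cfsg.Agent.Helper49.LocalCharP

set_option autoImplicit false
open Cfsg

namespace Cfsg.Agent.S1292

open Cfsg.Agent.Helper49

/-- A nontrivial finite `2`-subgroup has a central involution. -/
theorem exists_central_involution {G : Type*} [Group G] [Finite G] (T : Subgroup G)
    (hT : IsPGroup 2 ↥T) (hT1 : T ≠ ⊥) :
    ∃ t : G, t ∈ T ∧ orderOf t = 2 ∧ ∀ x ∈ T, x * t = t * x := by
  have : Nontrivial ↥T := (Subgroup.nontrivial_iff_ne_bot T).mpr hT1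
  have : Fact (Nat.Prime 2) := ⟨Nat.prime_two⟩
  have : Nontrivial ↥(Subgroup.center ↥T) := hT.center_nontrivial
  have hZ : IsPGroup 2 ↥(Subgroup.center ↥T) := hT.to_subgroup _
  obtain ⟨n, hn⟩ := IsPGroup.iff_card.mp hZ
  have hn0 : n ≠ 0 := by
    rintro rfl
    rw [pow_zero] at hn
    have h1 : 1 < Nat.card ↥(Subgroup.center ↥T) := Finite.one_lt_card
    omega
  have hdvd : 2 ∣ Nat.card ↥(Subgroup.center ↥T) := by
    rw [hn]; exact dvd_pow_self 2 hn0
  obtain ⟨z, hz⟩ := exists_prime_orderOf_dvd_card' 2 hdvd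
  refine ⟨((z : ↥T) : G), (z : ↥T).2, ?_, ?_⟩
  · rw [Subgroup.orderOf_coe, Subgroup.orderOf_coe]; exact hz
  · intro x hx
    have h1 := (Subgroup.mem_center_iff.mp z.2) ⟨x, hx⟩
    exact congrArg Subtype.val h1

/-- Let G be a finite group such that F*(C_G(t)) = O_2(C_G(t)) for every involution t. Then F*(N_G(T)) = O_2(N_G(T)) for every nontrivial 2-subgroup T of G. -/
theorem result {G : Type*} [Group G] [Finite G] (h : ∀ t : G, orderOf t = 2 → Cfsg.generalizedFittingSubgroup ↥(Subgroup.centralizer ({t} : Set G)) = Cfsg.pCore 2 ↥(Subgroup.centralizer ({t} : Set G))) (T : Subgroup G) (hT : IsPGroup 2 ↥T) (hT1 : T ≠ ⊥) : Cfsg.generalizedFittingSubgroup ↥(Subgroup.normalizer (T : Set G)) = Cfsg.pCore 2 ↥(Subgroup.normalizer (T : Set G)) := by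
  have : Fact (Nat.Prime 2) := ⟨Nat.prime_two⟩
  obtain ⟨t, htT, ht2, htc⟩ := exists_central_involution T hT hT1
  rw [gfs_eq_pCore_iff, ← charPIn_iff]
  have hM : CharPIn 2 (Subgroup.centralizer ({t} : Set G)) := by
    rw [charPIn_iff, ← gfs_eq_pCore_iff]
    exact h t ht2
  have hTM : T ≤ Subgroup.centralizer ({t} : Set G) := by
    intro x hx
    rw [Subgroup.mem_centralizer_singleton_iff]
    exact htc x hx
  have hCM : Subgroup.centralizer (T : Set G) ≤ Subgroup.centralizer ({t} : Set G) := by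
    intro x hx
    rw [Subgroup.mem_centralizer_singleton_iff]
    exact ((Subgroup.mem_centralizer_iff.mp hx) t htT).symm
  refine charPIn_of_centralizer_le hM hT hTM hCM (Subgroup.centralizer_le_normalizer _) ?_
  intro d _ hdr
  rw [Subgroup.mem_centralizer_iff]
  intro x hx
  have hx' : x ∈ coreIn 2 (Subgroup.normalizer (T : Set G)) := by
    refine le_coreIn Subgroup.le_normalizer ?_ hT hx
    intro l hl n hn
    exact (Subgroup.mem_normalizer_iff.mp hl n).mp hn
  exact (hdr x hx').symm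

end Cfsg.Agent.S1292
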