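import Cfsg.Statements.S1327
import Cfsg.Agent.Helper54.PConstrained
import Cfsg.Agent.Helper49.FStar
import Cfsg.Agent.Helper22.Layer
import Cfsg.Agent.Helper71.Fitting

set_option autoImplicit false
open Cfsg

namespace Cfsg.Agent.S1327

open Cfsg.Agent.Helper54

variable {X : Type*} [Group X]

/-- The `p`-layer is trivial iff there is no `p`-component. -/
theorem pLayer_eq_bot_iff (p : ℕ) : pLayer p X = ⊥ ↔ ∀ K : Subgroup X, ¬ IsPComponent p K := by
  constructor
  · intro h K hK
    have h1 : K ≤ pLayer p X := le_sSup hK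
    rw [h, le_bot_iff] at h1
    have h2 := Cfsg.Agent.Helper22.IsComponent.ne_bot hK.2.1
    rw [h1, Subgroup.map_bot] at h2
    exact h2 rfl
  · intro h
    unfold pLayer
    rw [sSup_eq_bot]
    intro K hK
    exact absurd hK (h K)

/-- A `p`-component exists iff the quotient by `O_{p'}` has a component. -/
theorem exists_isPComponent_iff [Finite X] (p : ℕ) :
    (∃ K : Subgroup X, IsPComponent p K) ↔
      ∃ L : Subgroup (X ⧸ pPrimeCore p X), IsComponent L := by
  constructor
  · rintro ⟨K, hK⟩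
    exact ⟨_, hK.2.1⟩
  · rintro ⟨L, hL⟩
    -- subnormal subgroups with image `L`
    have hne : ∃ n : ℕ, ∃ H : Subgroup X, H.IsSubnormal ∧
        H.map (QuotientGroup.mk' (pPrimeCore p X)) = L ∧ Nat.card H = n := by
      refine ⟨_, L.comap (QuotientGroup.mk' (pPrimeCore p X)), hL.1.comap _, ?_, rfl⟩
      exact Subgroup.map_comap_eq_self_of_surjective (QuotientGroup.mk'_surjective _) L
    classical
    obtain ⟨H, hHsn, hHL, hHn⟩ := Nat.find_spec hne
    refine ⟨H, hHsn, hHL ▸ hL, ?_⟩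
    intro H' hH'sn hH'H hH'L
    have h1 : Nat.find hne ≤ Nat.card H' :=
      Nat.find_min' hne ⟨H', hH'sn, hH'L.trans hHL, rfl⟩
    rw [← hHn] at h1
    exact Subgroup.eq_of_le_of_card_ge hH'H h1

/-- If `O_{p'}(H) = 1` then `F(H) ≤ O_p(H)`. -/
theorem fittingSubgroup_le_pCore {H : Type*} [Group H] [Finite H] (p : ℕ) [hp : Fact p.Prime]
    (h0 : pPrimeCore p H = ⊥) : fittingSubgroup H ≤ pCore p H := by
  refine Cfsg.Agent.Helper71.fittingSubgroup_le_pCoreJoin.trans ?_
  unfold Cfsg.Agent.Helper71.pCoreJoin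
  rw [iSup_le_iff]
  intro q
  have hq : (q : ℕ).Prime := Nat.prime_of_mem_primeFactors q.2
  by_cases hqp : (q : ℕ) = p
  · rw [hqp]
  · have : Fact (q : ℕ).Prime := ⟨hq⟩
    have hQ : IsPGroup (q : ℕ) (pCore (q : ℕ) H) := Cfsg.Agent.Lib.isPGroup_pCore (q : ℕ)
    obtain ⟨n, hn⟩ := IsPGroup.iff_card.mp hQ
    have hcop : (Nat.card (pCore (q : ℕ) H)).Coprime p := by
      rw [hn]
      exact Nat.Coprime.pow_left n ((Nat.coprime_primes hq hp.out).mpr hqp)
    have hle : pCore (q : ℕ) H ≤ pPrimeCore p H :=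
      Cfsg.Agent.Lib.le_pPrimeCore inferInstance hcop
    rw [h0] at hle
    exact hle.trans bot_le

/-- `CharP p H` iff `O_{p'}(H) = 1` and `H` has no component. -/
theorem charP_iff_layer {H : Type*} [Group H] [Finite H] (p : ℕ) [hp : Fact p.Prime]
    (h0 : pPrimeCore p H = ⊥) : CharP p H ↔ layer H = ⊥ := by
  constructor
  · intro h
    exact Cfsg.Agent.Helper49.layer_eq_bot_of_charP h.2
  · intro h
    refine ⟨h0, ?_⟩
    rw [← Cfsg.Agent.Helper49.gfs_eq_pCore_iff]
    unfold generalizedFittingSubgroup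
    rw [h, bot_sup_eq]
    exact le_antisymm (fittingSubgroup_le_pCore p h0) (Cfsg.Agent.Lib.pCore_le_fittingSubgroup p)

/-- A finite group X is p-constrained if and only if its p-layer L_{p'}(X) is trivial (equivalently X / O_{p'}(X) has trivial layer). -/
theorem result {X : Type*} [Group X] [Finite X] (p : ℕ) [Fact p.Prime] : Cfsg.IsPConstrained p X ↔ Cfsg.pLayer p X = ⊥ := by
  rw [isPConstrained_iff_charP, charP_iff_layer p pPrimeCore_quotient_eq_bot,
    Cfsg.Agent.Helper22.layer_eq_bot_iff, pLayer_eq_bot_iff]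
  have h := exists_isPComponent_iff (X := X) p
  constructor
  · intro h1 K hK
    obtain ⟨L, hL⟩ := h.mp ⟨K, hK⟩
    exact h1 L hL
  · intro h1 L hL
    obtain ⟨K, hK⟩ := h.mpr ⟨L, hL⟩
    exact h1 K hK

end Cfsg.Agent.S1327
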