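import Cfsg.Statements.S1300
import Mathlib

set_option autoImplicit false
open Cfsg

namespace Cfsg.Agent.S1300

/-- the signalizer delta of the group generated by an involution -/
theorem delta_zpowers {G : Type*} [Group G] (x : G) (hx : orderOf x = 2) :
    Cfsg.signalizerDelta 2 (Subgroup.zpowers x) = Cfsg.centralizerPPrimeCore 2 x := by
  unfold Cfsg.signalizerDelta
  have hx2 : x ^ 2 = 1 := by rw [← hx]; exact pow_orderOf_eq_one x
  have hx1 : x ≠ 1 := by
    intro h; rw [h, orderOf_one] at hx; omega
  apply le_antisymm
  · exact iInf_le (fun a : {a : G // a ∈ Subgroup.zpowers x ∧ a ≠ 1} =>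
      Cfsg.centralizerPPrimeCore 2 (a : G)) ⟨x, Subgroup.mem_zpowers x, hx1⟩
  · apply le_iInf
    rintro ⟨a, ha, ha1⟩
    obtain ⟨k, hk⟩ := Subgroup.mem_zpowers_iff.mp ha
    have hx2z : x ^ (2 : ℤ) = 1 := by
      have : x ^ (2 : ℤ) = x ^ (2 : ℕ) := zpow_ofNat x 2
      rw [this]; exact hx2
    have : a = x := by
      rcases Int.emod_two_eq_zero_or_one k with h | h
      · exfalso; apply ha1
        have : k = 2 * (k / 2) := by omega
        rw [← hk, this, zpow_mul, hx2z, one_zpow]
      · have : k = 1 + 2 * (k / 2) := by omega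
        rw [← hk, this, zpow_add, zpow_mul, hx2z, one_zpow, zpow_one, mul_one]
    simp only [this, le_refl]

theorem result {G : Type*} [Group G] [Finite G] : Cfsg.IsBalanced G ↔ Cfsg.IsKBalanced 2 1 G := by
  constructor
  · intro hbal A hA hcard b hb hcomm
    -- A has order 2
    have hcard2 : Nat.card A = 2 := by simpa using hcard
    -- find the non-identity element
    have : Nontrivial A := by
      rw [← Finite.one_lt_card_iff_nontrivial]; omega
    obtain ⟨⟨a, haA⟩, ha1⟩ := exists_ne (1 : A)
    have ha1' : a ≠ 1 := by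
      intro h; apply ha1; ext; simpa using h
    have ha2 : a ^ 2 = 1 := hA.2 a haA
    have hoa : orderOf a = 2 := orderOf_eq_prime ha2 ha1'
    have hAz : A = Subgroup.zpowers a := by
      symm
      apply Subgroup.eq_of_le_of_card_ge
      · rw [Subgroup.zpowers_le]; exact haA
      · rw [hcard2, Nat.card_zpowers, hoa]
    rw [hAz, delta_zpowers a hoa]
    have hab : a * b = b * a := hcomm a haA
    rw [hbal a b hoa hb hab]
    exact inf_le_left
  · intro hk x y hx hy hxy
    have key : ∀ x y : G, orderOf x = 2 → orderOf y = 2 → x * y = y * x →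
        Cfsg.centralizerPPrimeCore 2 x ⊓ Subgroup.centralizer {y} ≤
          Cfsg.centralizerPPrimeCore 2 y ⊓ Subgroup.centralizer {x} := by
      intro x y hx hy hxy
      apply le_inf
      · have hx2 : x ^ 2 = 1 := by rw [← hx]; exact pow_orderOf_eq_one x
        have hEA : Cfsg.IsElementaryAbelian 2 (Subgroup.zpowers x) := by
          refine ⟨?_, ?_⟩
          · exact ⟨⟨fun a b => by
              obtain ⟨a, ha⟩ := a
              obtain ⟨b, hb⟩ := b
              obtain ⟨i, rfl⟩ := ha
              obtain ⟨j, rfl⟩ := hb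
              ext
              simp only [Subgroup.coe_mul]
              rw [← zpow_add, ← zpow_add, add_comm]⟩⟩
          · rintro a ⟨k, rfl⟩
            rw [← zpow_natCast, ← zpow_mul, mul_comm, zpow_mul, zpow_natCast, hx2, one_zpow]
        have hc : Nat.card (Subgroup.zpowers x) = 2 ^ 1 := by
          rw [Nat.card_zpowers, hx]; rfl
        have := hk (Subgroup.zpowers x) hEA hc y hy (by
          rintro a ⟨k, rfl⟩
          have : Commute x y := hxy
          exact (this.zpow_left k).eq)
        rwa [delta_zpowers x hx] at this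
      · intro g hg
        have h1 : g ∈ Cfsg.centralizerPPrimeCore 2 x := hg.1
        unfold Cfsg.centralizerPPrimeCore at h1
        obtain ⟨c, _, rfl⟩ := h1
        exact c.2
    exact le_antisymm (key x y hx hy hxy) (key y x hy hx hxy.symm)

end Cfsg.Agent.S1300
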