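import Cfsg.Statements.S1304
import Mathlib

set_option autoImplicit false
open Cfsg
open scoped commutatorElement

namespace Cfsg.Agent.S1304

/-- Let X be a perfect group and α an automorphism of X with α(x) x⁻¹ central for every x. Then α is the identity. -/
theorem result {X : Type*} [Group X] (hperf : commutator X = ⊤) (α : X ≃* X) (h : ∀ x : X, α x * x⁻¹ ∈ Subgroup.center X) : ∀ x : X, α x = x := by
  -- the fixed-point subgroup of α
  let F : Subgroup X :=
    { carrier := {x | α x = x}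
      one_mem' := by simp
      mul_mem' := by
        intro a b ha hb
        simp only [Set.mem_ofPred_eq] at ha hb ⊢
        rw [map_mul, ha, hb]
      inv_mem' := by
        intro a ha
        simp only [Set.mem_ofPred_eq] at ha ⊢
        rw [map_inv, ha] }
  have hF : commutator X ≤ F := by
    rw [commutator_def, Subgroup.commutator_le]
    intro x _ y _
    show α ⁅x, y⁆ = ⁅x, y⁆
    have hx := h x
    have hy := h y
    set z := α x * x⁻¹ with hz
    set w := α y * y⁻¹ with hw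
    have hax : α x = z * x := by simp [hz]
    have hay : α y = w * y := by simp [hw]
    rw [Subgroup.mem_center_iff] at hx hy
    rw [commutatorElement_def, map_mul, map_mul, map_mul, map_inv, map_inv, hax, hay]
    have e1 : (z * x)⁻¹ = x⁻¹ * z⁻¹ := by group
    have e2 : (w * y)⁻¹ = y⁻¹ * w⁻¹ := by group
    rw [e1, e2]
    have hzi : ∀ g : X, g * z⁻¹ = z⁻¹ * g := by
      intro g
      have := hx g
      calc g * z⁻¹ = z⁻¹ * (z * g) * z⁻¹ := by group
        _ = z⁻¹ * (g * z) * z⁻¹ := by rw [this]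
        _ = z⁻¹ * g := by group
    have hwi : ∀ g : X, g * w⁻¹ = w⁻¹ * g := by
      intro g
      have := hy g
      calc g * w⁻¹ = w⁻¹ * (w * g) * w⁻¹ := by group
        _ = w⁻¹ * (g * w) * w⁻¹ := by rw [this]
        _ = w⁻¹ * g := by group
    calc z * x * (w * y) * (x⁻¹ * z⁻¹) * (y⁻¹ * w⁻¹)
        = z * x * (w * y) * (x⁻¹ * z⁻¹) * y⁻¹ * w⁻¹ := by group
      _ = z * x * (w * y) * x⁻¹ * z⁻¹ * y⁻¹ * w⁻¹ := by group
      _ = z * x * w * y * x⁻¹ * (z⁻¹ * y⁻¹) * w⁻¹ := by group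
      _ = z * x * w * y * x⁻¹ * (y⁻¹ * z⁻¹) * w⁻¹ := by rw [hzi]
      _ = z * (x * w) * y * x⁻¹ * y⁻¹ * z⁻¹ * w⁻¹ := by group
      _ = z * (w * x) * y * x⁻¹ * y⁻¹ * z⁻¹ * w⁻¹ := by rw [hy x]
      _ = (z * w) * (x * y * x⁻¹ * y⁻¹ * z⁻¹) * w⁻¹ := by group
      _ = (z * w) * (z⁻¹ * (x * y * x⁻¹ * y⁻¹)) * w⁻¹ := by rw [hzi]
      _ = z * (w * z⁻¹) * (x * y * x⁻¹ * y⁻¹) * w⁻¹ := by group
      _ = z * (z⁻¹ * w) * (x * y * x⁻¹ * y⁻¹) * w⁻¹ := by rw [hzi]
      _ = w * ((x * y * x⁻¹ * y⁻¹) * w⁻¹) := by group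
      _ = w * (w⁻¹ * (x * y * x⁻¹ * y⁻¹)) := by rw [hwi]
      _ = x * y * x⁻¹ * y⁻¹ := by group
  intro x
  have : x ∈ F := hF (hperf ▸ Subgroup.mem_top x)
  exact this

end Cfsg.Agent.S1304
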