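import Cfsg.Statements.S1306
import Mathlib
import Cfsg.Agent.Helper22.Conj

set_option autoImplicit false
open Cfsg

namespace Cfsg.Agent.S1306

open Cfsg.Agent.Helper22 Cfsg.Agent.Helper21

theorem result {G : Type*} [Group G] [Finite G] (x : G) (hx : orderOf x = 2) (L : Subgroup G) (hLx : L ≤ Subgroup.centralizer ({x} : Set G)) (hL : Cfsg.IsComponent (L.subgroupOf (Subgroup.centralizer ({x} : Set G)))) (hne : ∀ y : G, orderOf y = 2 → y ∈ Subgroup.centralizer (L : Set G) → L ≤ Subgroup.centralizer ({y} : Set G) ∧ Cfsg.IsComponent (L.subgroupOf (Subgroup.centralizer ({y} : Set G)))) (hnc : ∀ g : G, L.map (MulAut.conj g).toMonoidHom ≠ L → ⁅L, L.map (MulAut.conj g).toMonoidHom⁆ ≠ ⊥) : Cfsg.IsStandardSubgroup L := by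
  -- x centralizes L
  have hxL : x ∈ Subgroup.centralizer (L : Set G) := by
    rw [Subgroup.mem_centralizer_iff]
    intro l hl
    have := (mem_centralizer_singleton_iff x l).mp (hLx hl)
    exact this.symm
  -- key: if y' and g y' g⁻¹ are involutions centralizing L then g normalizes L
  have key : ∀ g y' : G, orderOf y' = 2 → y' ∈ Subgroup.centralizer (L : Set G) →
      g * y' * g⁻¹ ∈ Subgroup.centralizer (L : Set G) → L.map (MulAut.conj g).toMonoidHom = L := by
    intro g y' hy' hy'L hyL
    have hy : orderOf (g * y' * g⁻¹) = 2 := by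
      have : g * y' * g⁻¹ = MulAut.conj g y' := by simp [MulAut.conj_apply]
      rw [this, MulEquiv.orderOf_eq]; exact hy'
    obtain ⟨h1le, h1⟩ := hne y' hy' hy'L
    obtain ⟨h2le, h2⟩ := hne _ hy hyL
    have h3 := isComponent_subgroupOf_map_conj g h1
    rw [map_conj_centralizer_singleton] at h3
    by_contra hneq
    have hle3 : L.map (MulAut.conj g).toMonoidHom ≤ Subgroup.centralizer ({g * y' * g⁻¹} : Set G) := by
      rw [← map_conj_centralizer_singleton]
      exact Subgroup.map_mono h1le
    have hneq' : (L.map (MulAut.conj g).toMonoidHom).subgroupOf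
        (Subgroup.centralizer ({g * y' * g⁻¹} : Set G)) ≠
        L.subgroupOf (Subgroup.centralizer ({g * y' * g⁻¹} : Set G)) := by
      intro h
      apply hneq
      rw [← Subgroup.map_subgroupOf_eq_of_le hle3, h, Subgroup.map_subgroupOf_eq_of_le h2le]
    have hcomm := IsComponent.commutator_eq_bot_of_ne h2 h3 (Ne.symm hneq')
    apply hnc g hneq
    have := congrArg (Subgroup.map (Subgroup.centralizer ({g * y' * g⁻¹} : Set G)).subtype) hcomm
    rw [Subgroup.map_commutator, Subgroup.map_subgroupOf_eq_of_le hle3,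
      Subgroup.map_subgroupOf_eq_of_le h2le, Subgroup.map_bot] at this
    exact this
  refine ⟨?_, ⟨?_, ?_⟩, hnc, ?_⟩
  · exact IsQuasisimple.of_mulEquiv (Subgroup.subgroupOfEquivOfLe hLx) hL.2
  · -- even order
    have : orderOf (⟨x, hxL⟩ : ↥(Subgroup.centralizer (L : Set G))) = 2 := by
      rw [← hx]; exact Subgroup.orderOf_mk x hxL
    rw [even_iff_two_dvd, ← this]
    exact orderOf_dvd_natCard _
  · intro g hg
    by_contra hodd
    rw [Nat.not_odd_iff_even, even_iff_two_dvd] at hodd
    haveI : Fact (Nat.Prime 2) := ⟨Nat.prime_two⟩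
    obtain ⟨⟨y, hyK⟩, hy⟩ := exists_prime_orderOf_dvd_card' 2 hodd
    have hy2 : orderOf y = 2 := by rw [← hy]; exact (Subgroup.orderOf_mk y hyK).symm
    obtain ⟨hyL, hyLg⟩ := Subgroup.mem_inf.mp hyK
    rw [mem_map_conj_iff] at hyLg
    have hy'2 : orderOf (g⁻¹ * y * g) = 2 := by
      have : g⁻¹ * y * g = MulAut.conj g⁻¹ y := by simp [MulAut.conj_apply]
      rw [this, MulEquiv.orderOf_eq]; exact hy2
    have hback : g * (g⁻¹ * y * g) * g⁻¹ = y := by group
    have := key g (g⁻¹ * y * g) hy'2 hyLg (by rw [hback]; exact hyL)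
    exact hg (normalizer_le_normalizer_centralizer L (mem_normalizer_of_map_conj_eq this))
  · apply le_antisymm (normalizer_le_normalizer_centralizer L)
    intro g hg
    apply mem_normalizer_of_map_conj_eq
    apply key g x hx hxL
    exact (Subgroup.mem_normalizer_iff.mp hg x).mp hxL

end Cfsg.Agent.S1306
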