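import Cfsg.Statements.S1312
import Cfsg.Agent.Helper31.BenderPair

set_option autoImplicit false
open Cfsg

namespace Cfsg.Agent.S1312

/-- Let G be a non-abelian finite simple group and M ≠ N maximal subgroups of G with F*(M) ≤ N and F*(N) ≤ M. Then there is a prime p such that F*(M) and F*(N) are both p-groups. -/
theorem result {G : Type*} [Group G] [Finite G] [IsSimpleGroup G] (hna : ¬ IsMulCommutative G) (M N : Subgroup G) (hM : IsCoatom M) (hN : IsCoatom N) (hMN : M ≠ N) (h1 : (Cfsg.generalizedFittingSubgroup ↥M).map M.subtype ≤ N) (h2 : (Cfsg.generalizedFittingSubgroup ↥N).map N.subtype ≤ M) : ∃ p : ℕ, p.Prime ∧ IsPGroup p ↥(Cfsg.generalizedFittingSubgroup ↥M) ∧ IsPGroup p ↥(Cfsg.generalizedFittingSubgroup ↥N) := by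
  have hprim : ∀ {M N : Subgroup G}, IsCoatom M → ∀ A : Subgroup G, A ≠ ⊥ → A ≤ M ⊓ N →
      M ≤ Subgroup.normalizer (A : Set G) → N ⊓ Subgroup.normalizer (A : Set G) ≤ M := by
    intro M N hM A hA hAle hn
    rw [Cfsg.Agent.Helper31.normalizer_eq_of_isCoatom hM (hAle.trans inf_le_left) hA hn]
    exact inf_le_right
  have hpair : Cfsg.Agent.Helper31.BPair M N :=
    ⟨hMN, hprim hM, fun A hA hAle hn => hprim hN A hA (by rwa [inf_comm]) hn, h1, h2⟩
  obtain ⟨p, hp, hFM, hFN⟩ := hpair.exists_prime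
  haveI : Fact p.Prime := ⟨hp⟩
  refine ⟨p, hp, ?_, ?_⟩
  · rw [hFM]; exact Cfsg.Agent.Helper71.pCore_isPGroup p
  · rw [hFN]; exact Cfsg.Agent.Helper71.pCore_isPGroup p

end Cfsg.Agent.S1312
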