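import Cfsg.Statements.S1313
import Mathlib
import Cfsg.Agent.Helper22.Bender

set_option autoImplicit false
open Cfsg

namespace Cfsg.Agent.S1313

open Cfsg.Agent.Helper22

theorem result {H : Type*} [Group H] [Finite H] : Nat.card H ≤ Nat.factorial (Nat.card ↥(Cfsg.generalizedFittingSubgroup H)) := by
  classical
  have hFn : (Cfsg.generalizedFittingSubgroup H).Normal := inferInstance
  set F := Cfsg.generalizedFittingSubgroup H with hF
  let φ : H →* MulAut ↥F := MulAut.conjNormal
  let ψ : H →* Equiv.Perm ↥F := (MulAut.toPerm ↥F).comp φ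
  let T : Subgroup (Equiv.Perm ↥F) := MulAction.stabilizer (Equiv.Perm ↥F) (1 : ↥F)
  -- kernel of ψ is in the centralizer of F, hence in F
  have hker : ψ.ker ≤ F := by
    refine le_trans ?_ (centralizer_generalizedFittingSubgroup_le (G := H))
    intro h hh
    rw [MonoidHom.mem_ker] at hh
    rw [Subgroup.mem_centralizer_iff]
    intro x hx
    have h1 : ψ h ⟨x, hx⟩ = ⟨x, hx⟩ := by rw [hh]; rfl
    have h2 : ((ψ h ⟨x, hx⟩ : ↥F) : H) = h * x * h⁻¹ := by
      show ((MulAut.conjNormal h : MulAut ↥F) ⟨x, hx⟩ : H) = h * x * h⁻¹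
      rw [MulAut.conjNormal_apply]
    rw [h1] at h2
    simp only at h2
    calc x * h = (h * x * h⁻¹) * h := by rw [← h2]
      _ = h * x := by group
  -- range of ψ fixes 1
  have hrange : ψ.range ≤ T := by
    rintro _ ⟨h, rfl⟩
    rw [MulAction.mem_stabilizer_iff]
    show ψ h 1 = 1
    show (MulAut.conjNormal h : MulAut ↥F) 1 = 1
    exact map_one _
  have h1 : Nat.card ↥ψ.ker * Nat.card ↥ψ.range = Nat.card H := by
    rw [← Subgroup.index_ker]; exact Subgroup.card_mul_index _
  have h2 : Nat.card ↥T * Nat.card ↥F = Nat.card (Equiv.Perm ↥F) := by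
    rw [← MulAction.index_stabilizer_of_transitive (Equiv.Perm ↥F) (1 : ↥F)]
    exact Subgroup.card_mul_index _
  calc Nat.card H = Nat.card ↥ψ.ker * Nat.card ↥ψ.range := h1.symm
    _ ≤ Nat.card ↥F * Nat.card ↥T :=
      Nat.mul_le_mul (Subgroup.card_le_of_le hker) (Subgroup.card_le_of_le hrange)
    _ = Nat.card (Equiv.Perm ↥F) := by rw [mul_comm]; exact h2
    _ = Nat.factorial (Nat.card ↥F) := Nat.card_perm

end Cfsg.Agent.S1313
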