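import Cfsg.Statements.S1314
import Mathlib

set_option autoImplicit false
open Cfsg
open scoped commutatorElement Pointwise

namespace Cfsg.Agent.S1314

theorem result {G : Type*} [Group G] [Finite G] (x : G) (hx : orderOf x = 2) (L : Subgroup G) (hperf : ⁅L, L⁆ = L) (hcomm : ⁅L, L.map (MulAut.conj x).toMonoidHom⁆ = ⊥) : ∃ π : ↥L →* G, (∀ l : ↥L, π l = (l : G) * (x * (l : G) * x⁻¹)) ∧ π.ker ≤ Subgroup.center ↥L ∧ π.range ≤ Subgroup.centralizer ({x} : Set G) ∧ ⁅(L ⊔ L.map (MulAut.conj x).toMonoidHom) ⊓ Subgroup.centralizer ({x} : Set G), (L ⊔ L.map (MulAut.conj x).toMonoidHom) ⊓ Subgroup.centralizer ({x} : Set G)⁆ = π.range := by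
  have hx2 : x * x = 1 := by
    have : x ^ 2 = 1 := by rw [← hx]; exact pow_orderOf_eq_one x
    rwa [pow_two] at this
  have hxi : x⁻¹ = x := inv_eq_of_mul_eq_one_right hx2
  -- elements of L commute with conjugates of elements of L
  have hc : ∀ l ∈ L, ∀ m ∈ L, l * (x * m * x⁻¹) = (x * m * x⁻¹) * l := by
    intro l hl m hm
    rw [Subgroup.commutator_eq_bot_iff_le_centralizer] at hcomm
    have h1 := hcomm hl
    rw [Subgroup.mem_centralizer_iff] at h1
    have h2 : x * m * x⁻¹ ∈ (L.map (MulAut.conj x).toMonoidHom : Subgroup G) :=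
      ⟨m, hm, by simp [MulAut.conj_apply]⟩
    exact (h1 _ h2).symm
  have hmemLx : ∀ g : G, g ∈ L.map (MulAut.conj x).toMonoidHom ↔ ∃ m ∈ L, g = x * m * x⁻¹ := by
    intro g
    constructor
    · rintro ⟨m, hm, rfl⟩
      exact ⟨m, hm, by simp [MulAut.conj_apply]⟩
    · rintro ⟨m, hm, rfl⟩
      exact ⟨m, hm, by simp [MulAut.conj_apply]⟩
  let π : ↥L →* G :=
    { toFun := fun l => (l : G) * (x * (l : G) * x⁻¹)
      map_one' := by simp
      map_mul' := by
        intro a b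
        have h := hc b b.2 a a.2
        simp only [Subgroup.coe_mul]
        calc (a : G) * b * (x * (a * b) * x⁻¹)
            = a * (b * (x * a * x⁻¹)) * (x * b * x⁻¹) := by group
          _ = a * ((x * a * x⁻¹) * b) * (x * b * x⁻¹) := by rw [h]
          _ = a * (x * a * x⁻¹) * (b * (x * b * x⁻¹)) := by group }
  have hπ : ∀ l : ↥L, π l = (l : G) * (x * (l : G) * x⁻¹) := fun l => rfl
  -- the range is in the centralizer of x
  have hrange : π.range ≤ Subgroup.centralizer ({x} : Set G) := by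
    rintro _ ⟨l, rfl⟩
    rw [Subgroup.mem_centralizer_iff]
    intro y hy
    rw [Set.mem_singleton_iff] at hy
    subst hy
    rw [hπ]
    have h := hc l l.2 l l.2
    rw [hxi] at h ⊢
    calc y * ((l : G) * (y * l * y)) = (y * l * y) * l * y := by group
      _ = (l * (y * l * y)) * y := by rw [h]
      _ = l * (y * l * (y * y)) := by group
      _ = l * (y * l * y) * y := by simp only [mul_assoc, hx2, mul_one]
  have hrangeLE : π.range ≤ L ⊔ L.map (MulAut.conj x).toMonoidHom := by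
    rintro _ ⟨l, rfl⟩
    rw [hπ]
    exact Subgroup.mul_mem_sup l.2 ((hmemLx _).2 ⟨l, l.2, rfl⟩)
  refine ⟨π, hπ, ?_, hrange, ?_⟩
  · -- kernel is central
    intro l hl
    rw [MonoidHom.mem_ker, hπ] at hl
    rw [Subgroup.mem_center_iff]
    intro m
    have h1 : x * (l : G) * x⁻¹ = (l : G)⁻¹ := by
      exact (inv_eq_of_mul_eq_one_right hl).symm
    have h2 := hc m m.2 l l.2
    rw [h1] at h2
    ext
    simp only [Subgroup.coe_mul]
    calc (m : G) * l = l * ((l : G)⁻¹ * m) * l := by group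
      _ = l * (m * (l : G)⁻¹) * l := by rw [h2]
      _ = l * m := by group
  · -- commutator subgroup of the centralizer
    set Lx := L.map (MulAut.conj x).toMonoidHom with hLx
    set C := (L ⊔ Lx) ⊓ Subgroup.centralizer ({x} : Set G) with hC
    apply le_antisymm
    · -- every element of C is π l * z with z ∈ L ⊓ Lx
      have hdecomp : ∀ c ∈ C, ∃ l : ↥L, ∃ z : G, z ∈ L ∧ z ∈ Lx ∧ c = π l * z := by
        intro c hcC
        have hc1 : c ∈ L ⊔ Lx := hcC.1
        have hc2 : c ∈ Subgroup.centralizer ({x} : Set G) := hcC.2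
        have hnorm : L ≤ Subgroup.normalizer (Lx : Set G) := by
          refine le_trans ?_ (Subgroup.centralizer_le_normalizer _)
          rw [← Subgroup.commutator_eq_bot_iff_le_centralizer]
          exact hcomm
        have hset := Subgroup.coe_mul_of_left_le_normalizer_right L Lx hnorm
        have : c ∈ ((L ⊔ Lx : Subgroup G) : Set G) := hc1
        rw [hset] at this
        obtain ⟨l, hl, m', hm', rfl⟩ := this
        obtain ⟨m, hm, rfl⟩ := (hmemLx m').1 hm'
        rw [Subgroup.mem_centralizer_iff] at hc2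
        have hxc := hc2 x rfl
        -- x * (l * (x m x⁻¹)) = l * (x m x⁻¹) * x
        have e1 : (x * l * x⁻¹) * m = l * (x * m * x⁻¹) := by
          have : x * (l * (x * m * x⁻¹)) * x⁻¹ = l * (x * m * x⁻¹) := by
            rw [hxc]; group
          rw [← this, hxi]
          calc x * l * x * m = x * l * x * m * (x * x) := by rw [hx2, mul_one]
            _ = x * (l * (x * m * x)) * x := by group
        have e2 : m * (x * l * x⁻¹) = l * (x * m * x⁻¹) := by
          rw [hc m hm l hl]; exact e1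
        -- z = l⁻¹ * m
        have hzL : l⁻¹ * m ∈ L := L.mul_mem (L.inv_mem hl) hm
        have hzLx : l⁻¹ * m ∈ Lx := by
          rw [hmemLx]
          refine ⟨m * l⁻¹, L.mul_mem hm (L.inv_mem hl), ?_⟩
          calc l⁻¹ * m = l⁻¹ * (m * (x * l * x⁻¹)) * (x * l * x⁻¹)⁻¹ := by group
            _ = l⁻¹ * (l * (x * m * x⁻¹)) * (x * l * x⁻¹)⁻¹ := by rw [e2]
            _ = x * (m * l⁻¹) * x⁻¹ := by group
        -- z' = x z x⁻¹
        refine ⟨⟨l, hl⟩, x * (l⁻¹ * m) * x⁻¹, ?_, ?_, ?_⟩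
        · obtain ⟨w, hw, hw'⟩ := (hmemLx _).1 hzLx
          rw [hw', hxi]
          have : x * (x * w * x) * x = (x * x) * w * (x * x) := by group
          rw [this, hx2, one_mul, mul_one]
          exact hw
        · exact (hmemLx _).2 ⟨_, hzL, rfl⟩
        · rw [hπ]
          show l * (x * m * x⁻¹) = l * (x * l * x⁻¹) * (x * (l⁻¹ * m) * x⁻¹)
          group
      rw [Subgroup.commutator_le]
      intro c₁ hc₁ c₂ hc₂
      obtain ⟨l₁, z₁, hz₁L, hz₁Lx, rfl⟩ := hdecomp c₁ hc₁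
      obtain ⟨l₂, z₂, hz₂L, hz₂Lx, rfl⟩ := hdecomp c₂ hc₂
      -- z commutes with π l
      have hzcomm : ∀ z : G, z ∈ L → z ∈ Lx → ∀ l : ↥L, z * π l = π l * z := by
        intro z hzL hzLx l
        rw [hπ]
        obtain ⟨w, hw, rfl⟩ := (hmemLx z).1 hzLx
        have a1 := hc l l.2 w hw
        have a2 := hc (x * w * x⁻¹) hzL l l.2
        calc x * w * x⁻¹ * ((l : G) * (x * l * x⁻¹))
            = ((x * w * x⁻¹) * l) * (x * l * x⁻¹) := by group
          _ = (l * (x * w * x⁻¹)) * (x * l * x⁻¹) := by rw [a1]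
          _ = l * ((x * w * x⁻¹) * (x * l * x⁻¹)) := by group
          _ = l * ((x * l * x⁻¹) * (x * w * x⁻¹)) := by rw [a2]
          _ = l * (x * l * x⁻¹) * (x * w * x⁻¹) := by group
      have hzz : z₁ * z₂ = z₂ * z₁ := by
        obtain ⟨w, hw, rfl⟩ := (hmemLx z₂).1 hz₂Lx
        exact hc z₁ hz₁L w hw
      have e : ⁅π l₁ * z₁, π l₂ * z₂⁆ = π ⁅l₁, l₂⁆ := by
        rw [map_commutatorElement, commutatorElement_def, commutatorElement_def]
        have b1 := hzcomm z₁ hz₁L hz₁Lx l₂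
        have b2 := hzcomm z₂ hz₂L hz₂Lx l₁
        have b3 := hzcomm z₁ hz₁L hz₁Lx l₁
        have b4 := hzcomm z₂ hz₂L hz₂Lx l₂
        have c1 : Commute z₁ (π l₂) := b1
        have c2 : Commute z₂ (π l₁) := b2
        have c3 : Commute z₁ (π l₁) := b3
        have c4 : Commute z₂ (π l₂) := b4
        have c5 : Commute z₁ z₂ := hzz
        calc π l₁ * z₁ * (π l₂ * z₂) * (π l₁ * z₁)⁻¹ * (π l₂ * z₂)⁻¹
            = π l₁ * (z₁ * π l₂) * z₂ * z₁⁻¹ * (π l₁)⁻¹ * z₂⁻¹ * (π l₂)⁻¹ := by group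
          _ = π l₁ * (π l₂ * z₁) * z₂ * z₁⁻¹ * (π l₁)⁻¹ * z₂⁻¹ * (π l₂)⁻¹ := by rw [b1]
          _ = π l₁ * π l₂ * (z₁ * z₂) * z₁⁻¹ * (π l₁)⁻¹ * z₂⁻¹ * (π l₂)⁻¹ := by group
          _ = π l₁ * π l₂ * (z₂ * z₁) * z₁⁻¹ * (π l₁)⁻¹ * z₂⁻¹ * (π l₂)⁻¹ := by rw [hzz]
          _ = π l₁ * π l₂ * (z₂ * (π l₁)⁻¹) * z₂⁻¹ * (π l₂)⁻¹ := by group
          _ = π l₁ * π l₂ * ((π l₁)⁻¹ * z₂) * z₂⁻¹ * (π l₂)⁻¹ := by rw [(c2.inv_right).eq]
          _ = π l₁ * π l₂ * (π l₁)⁻¹ * (π l₂)⁻¹ := by group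
      rw [e]
      exact ⟨_, rfl⟩
    · -- range is perfect and inside C
      have htop : (⁅(⊤ : Subgroup ↥L), ⊤⁆ : Subgroup ↥L) = ⊤ := by
        apply Subgroup.map_injective L.subtype_injective
        rw [Subgroup.map_commutator]
        simp only [← MonoidHom.range_eq_map, Subgroup.range_subtype]
        exact hperf
      have hle : π.range ≤ C := le_inf hrangeLE hrange
      calc π.range = Subgroup.map π ⊤ := MonoidHom.range_eq_map π
        _ = Subgroup.map π ⁅(⊤ : Subgroup ↥L), ⊤⁆ := by rw [htop]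
        _ = ⁅Subgroup.map π ⊤, Subgroup.map π ⊤⁆ := Subgroup.map_commutator _ _ _
        _ = ⁅π.range, π.range⁆ := by rw [← MonoidHom.range_eq_map]
        _ ≤ ⁅C, C⁆ := Subgroup.commutator_mono hle hle

end Cfsg.Agent.S1314
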