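import Cfsg.Statements.S1316
import Mathlib
import Cfsg.Agent.Helper22.Layer

set_option autoImplicit false
open Cfsg

namespace Cfsg.Agent.S1316

open Cfsg.Agent.Helper22

theorem map_derivedSeries_zero {X : Type*} [Group X] (H : Subgroup X) :
    (derivedSeries ↥H 0).map H.subtype = H := by
  rw [derivedSeries_zero, ← MonoidHom.range_eq_map, Subgroup.range_subtype]

theorem map_derivedSeries_succ {X : Type*} [Group X] (H : Subgroup X) (n : ℕ) :
    (derivedSeries ↥H (n + 1)).map H.subtype =
      ⁅(derivedSeries ↥H n).map H.subtype, (derivedSeries ↥H n).map H.subtype⁆ := by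
  rw [derivedSeries_succ, Subgroup.map_commutator]

theorem commutator_sup_le {X : Type*} [Group X] (N A : Subgroup X) [N.Normal] :
    ⁅N ⊔ A, N ⊔ A⁆ ≤ N ⊔ ⁅A, A⁆ := by
  have h1 : (⁅N ⊔ A, N ⊔ A⁆).map (QuotientGroup.mk' N) = (⁅A, A⁆).map (QuotientGroup.mk' N) := by
    rw [Subgroup.map_commutator, Subgroup.map_commutator, Subgroup.map_sup,
      QuotientGroup.map_mk'_self, bot_sup_eq]
  calc ⁅N ⊔ A, N ⊔ A⁆ ≤ ((⁅N ⊔ A, N ⊔ A⁆).map (QuotientGroup.mk' N)).comap (QuotientGroup.mk' N) :=
        Subgroup.le_comap_map _ _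
    _ = ((⁅A, A⁆).map (QuotientGroup.mk' N)).comap (QuotientGroup.mk' N) := by rw [h1]
    _ = ⁅A, A⁆ ⊔ N := by rw [Subgroup.comap_map_eq, QuotientGroup.ker_mk']
    _ = N ⊔ ⁅A, A⁆ := sup_comm _ _

theorem result {X : Type*} [Group X] [Finite X] : (⨅ n : ℕ, (derivedSeries ↥(Cfsg.generalizedFittingSubgroup X) n).map (Cfsg.generalizedFittingSubgroup X).subtype) = Cfsg.layer X := by
  have hE : Cfsg.layer X ≤ Cfsg.generalizedFittingSubgroup X := le_sup_left
  apply le_antisymm
  · -- upper bound
    have hb : ∀ n : ℕ, (derivedSeries ↥(Cfsg.generalizedFittingSubgroup X) n).map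
        (Cfsg.generalizedFittingSubgroup X).subtype ≤
        Cfsg.layer X ⊔ (derivedSeries ↥(Cfsg.fittingSubgroup X) n).map
          (Cfsg.fittingSubgroup X).subtype := by
      intro n
      induction n with
      | zero =>
        rw [map_derivedSeries_zero, map_derivedSeries_zero]
        exact le_rfl
      | succ n ih =>
        rw [map_derivedSeries_succ, map_derivedSeries_succ]
        exact (Subgroup.commutator_mono ih ih).trans (commutator_sup_le _ _)
    have hnil : Group.IsNilpotent ↥(Cfsg.fittingSubgroup X) :=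
      Cfsg.Agent.Lib.isNilpotent_fittingSubgroup
    have hsolv : Group.IsSolvable ↥(Cfsg.fittingSubgroup X) := inferInstance
    obtain ⟨n, hn⟩ := (isSolvable_def _).mp hsolv
    calc (⨅ n : ℕ, (derivedSeries ↥(Cfsg.generalizedFittingSubgroup X) n).map
          (Cfsg.generalizedFittingSubgroup X).subtype)
        ≤ (derivedSeries ↥(Cfsg.generalizedFittingSubgroup X) n).map
          (Cfsg.generalizedFittingSubgroup X).subtype := iInf_le _ n
      _ ≤ Cfsg.layer X ⊔ (derivedSeries ↥(Cfsg.fittingSubgroup X) n).map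
          (Cfsg.fittingSubgroup X).subtype := hb n
      _ = Cfsg.layer X := by rw [hn, Subgroup.map_bot, sup_bot_eq]
  · apply le_iInf
    intro n
    induction n with
    | zero => rw [map_derivedSeries_zero]; exact hE
    | succ n ih =>
      rw [map_derivedSeries_succ]
      calc Cfsg.layer X = ⁅Cfsg.layer X, Cfsg.layer X⁆ := layer_commutator_self.symm
        _ ≤ _ := Subgroup.commutator_mono ih ih

end Cfsg.Agent.S1316
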