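import Cfsg.Statements.S1317
import Mathlib
import Cfsg.Agent.Helper22.Layer

set_option autoImplicit false
open Cfsg

namespace Cfsg.Agent.S1317

open Cfsg.Agent.Helper22

theorem result {X : Type*} [Group X] [Finite X] : (Subgroup.center ↥(Cfsg.layer X)).map (Cfsg.layer X).subtype = Cfsg.fittingSubgroup X ⊓ Cfsg.layer X := by
  apply le_antisymm
  · apply le_inf
    · -- the centre of the layer is a normal abelian subgroup of X
      have hN : ((Subgroup.center ↥(Cfsg.layer X)).map (Cfsg.layer X).subtype).Normal :=
        ConjAct.normal_of_characteristic_of_normal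
      apply Cfsg.Agent.Lib.le_fittingSubgroup hN
      have e := (Subgroup.center ↥(Cfsg.layer X)).equivMapOfInjective (Cfsg.layer X).subtype
        (Cfsg.layer X).subtype_injective
      have : Group.IsNilpotent ↥(Subgroup.center ↥(Cfsg.layer X)) :=
        Cfsg.Agent.Helper29.isNilpotent_of_isMulCommutative _
      exact Group.nilpotent_of_mulEquiv e
    · exact Subgroup.map_subtype_le _
  · intro x hx
    obtain ⟨hxF, hxE⟩ := Subgroup.mem_inf.mp hx
    refine ⟨⟨x, hxE⟩, ?_, rfl⟩
    have hc : Cfsg.layer X ≤ Subgroup.centralizer (Cfsg.fittingSubgroup X : Set X) := by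
      rw [← Subgroup.commutator_eq_bot_iff_le_centralizer]
      exact layer_commutator_fittingSubgroup
    show (⟨x, hxE⟩ : ↥(Cfsg.layer X)) ∈ Subgroup.center ↥(Cfsg.layer X)
    rw [Subgroup.mem_center_iff]
    intro g
    apply Subtype.ext
    have := Subgroup.mem_centralizer_iff.mp (hc g.2) x hxF
    simpa using this.symm

end Cfsg.Agent.S1317
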