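import Cfsg.Statements.S1318
import Mathlib
import Cfsg.Agent.Helper22.FStar2

set_option autoImplicit false
open Cfsg

namespace Cfsg.Agent.S1318

open Cfsg.Agent.Helper22 Cfsg.Agent.Helper21

theorem result {X : Type*} [Group X] [Finite X] (S : Subgroup X) (hS : S ≤ Cfsg.generalizedFittingSubgroup X) (hsn : (S.subgroupOf (Cfsg.generalizedFittingSubgroup X)).IsSubnormal) : (Cfsg.fittingSubgroup ↥S).map S.subtype = Cfsg.fittingSubgroup X ⊓ S ∧ Cfsg.fittingSubgroup ↥S ⊔ Cfsg.layer ↥S = ⊤ := by
  have hFn : (Cfsg.generalizedFittingSubgroup X).Normal := inferInstance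
  have hSsn : S.IsSubnormal := Subgroup.IsSubnormal.trans hS hsn hFn.isSubnormal
  refine ⟨map_fittingSubgroup_subtype_of_isSubnormal hSsn, ?_⟩
  rw [eq_top_iff]
  have h1 : S ≤ (Cfsg.generalizedFittingSubgroup ↥S).map S.subtype := by
    calc S = Cfsg.generalizedFittingSubgroup X ⊓ S := (inf_eq_right.mpr hS).symm
      _ ≤ _ := generalizedFittingSubgroup_inf_le_map_of_isSubnormal hSsn
  have h2 : (⊤ : Subgroup ↥S).map S.subtype ≤ (Cfsg.generalizedFittingSubgroup ↥S).map S.subtype := by
    rw [← MonoidHom.range_eq_map, Subgroup.range_subtype]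
    exact h1
  have h3 := (Subgroup.map_le_map_iff_of_injective S.subtype_injective).mp h2
  unfold Cfsg.generalizedFittingSubgroup at h3
  rw [sup_comm]
  exact h3

end Cfsg.Agent.S1318
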