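import Cfsg.Statements.S1320
import Mathlib
import Cfsg.Agent.Helper22.FStar

set_option autoImplicit false
open Cfsg

namespace Cfsg.Agent.S1320

open Cfsg.Agent.Helper22 Cfsg.Agent.Helper21

theorem result {A : Type*} [Group A] [Finite A] (B : Subgroup A) [B.Normal] : Cfsg.generalizedFittingSubgroup A ⊓ B = (Cfsg.generalizedFittingSubgroup ↥B).map B.subtype := by
  have hBsn : B.IsSubnormal := Subgroup.Normal.isSubnormal inferInstance
  have hFB : (Cfsg.fittingSubgroup ↥B).map B.subtype ≤ Cfsg.fittingSubgroup A := by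
    have hN : ((Cfsg.fittingSubgroup ↥B).map B.subtype).Normal :=
      ConjAct.normal_of_characteristic_of_normal
    exact Cfsg.Agent.Lib.le_fittingSubgroup hN (isNilpotent_map_fittingSubgroup B)
  have hE1 := map_layer_subtype hBsn
  apply le_antisymm
  · intro x hx
    obtain ⟨hxF, hxB⟩ := Subgroup.mem_inf.mp hx
    unfold Cfsg.generalizedFittingSubgroup at hxF
    obtain ⟨e, he, f, hf, rfl⟩ := Subgroup.mem_sup_of_normal_right.mp hxF
    -- split e
    set E₁ := sSup {K : Subgroup A | IsComponent K ∧ K ≤ B} with hE₁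
    set E₂ := sSup {K : Subgroup A | IsComponent K ∧ ¬ K ≤ B} with hE₂
    have hsplit : Cfsg.layer A = E₁ ⊔ E₂ := layer_eq_sup_of_split B
    have hE₁B : E₁ ≤ B := by
      apply sSup_le
      rintro K ⟨_, hKB⟩
      exact hKB
    have hE₁n : E₁.Normal := by
      rw [← hE1]
      exact ConjAct.normal_of_characteristic_of_normal
    have he' : e ∈ E₁ ⊔ E₂ := hsplit ▸ he
    obtain ⟨e₁, he₁, e₂, he₂, rfl⟩ := Subgroup.mem_sup_of_normal_left.mp he'
    have hE₂layer : E₂ ≤ Cfsg.layer A := hsplit ▸ le_sup_right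
    -- y = e₂ f ∈ B
    have hy : e₂ * f ∈ B := by
      have : e₂ * f = e₁⁻¹ * (e₁ * e₂ * f) := by group
      rw [this]
      exact B.mul_mem (B.inv_mem (hE₁B he₁)) hxB
    -- f commutes with the layer
    have hfE : ∀ g ∈ Cfsg.layer A, g * f = f * g := by
      intro g hg
      have hc : Cfsg.layer A ≤ Subgroup.centralizer (Cfsg.fittingSubgroup A : Set A) := by
        rw [← Subgroup.commutator_eq_bot_iff_le_centralizer]
        exact layer_commutator_fittingSubgroup
      exact (Subgroup.mem_centralizer_iff.mp (hc hg) f hf).symm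
    -- e₂ is central in the layer
    have he₂c : ∀ g ∈ Cfsg.layer A, g * e₂ = e₂ * g := by
      intro g hg
      have hg' : g ∈ E₁ ⊔ E₂ := hsplit ▸ hg
      obtain ⟨g₁, hg₁, g₂, hg₂, rfl⟩ := Subgroup.mem_sup_of_normal_left.mp hg'
      -- g₁ commutes with e₂
      have c1 : g₁ * e₂ = e₂ * g₁ :=
        Subgroup.mem_centralizer_iff.mp (sSup_not_le_le_centralizer_sSup_le B he₂) g₁ hg₁
      -- g₂ commutes with y = e₂ f (y ∈ B) and with f
      have c2 : (e₂ * f) * g₂ = g₂ * (e₂ * f) :=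
        Subgroup.mem_centralizer_iff.mp (sSup_not_le_le_centralizer hBsn hg₂) _ hy
      have c3 : g₂ * f = f * g₂ := hfE g₂ (hE₂layer hg₂)
      have c4 : g₂ * e₂ = e₂ * g₂ := by
        calc g₂ * e₂ = g₂ * (e₂ * f) * f⁻¹ := by group
          _ = (e₂ * f) * g₂ * f⁻¹ := by rw [c2]
          _ = e₂ * (f * g₂) * f⁻¹ := by group
          _ = e₂ * (g₂ * f) * f⁻¹ := by rw [c3]
          _ = e₂ * g₂ := by group
      calc g₁ * g₂ * e₂ = g₁ * (g₂ * e₂) := by group
        _ = g₁ * (e₂ * g₂) := by rw [c4]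
        _ = (g₁ * e₂) * g₂ := by group
        _ = (e₂ * g₁) * g₂ := by rw [c1]
        _ = e₂ * (g₁ * g₂) := by group
    have he₂F : e₂ ∈ Cfsg.fittingSubgroup A :=
      mem_fittingSubgroup_of_mem_layer_of_commute (hE₂layer he₂) he₂c
    -- y ∈ F(A) ⊓ B ≤ F(B)
    have hyF : e₂ * f ∈ Cfsg.fittingSubgroup A ⊓ B :=
      Subgroup.mem_inf.mpr ⟨(Cfsg.fittingSubgroup A).mul_mem he₂F hf, hy⟩
    have hFle : Cfsg.fittingSubgroup A ⊓ B ≤ (Cfsg.fittingSubgroup ↥B).map B.subtype := by
      apply le_map_fittingSubgroup_of_le_normalizer inf_le_right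
      · have : (Cfsg.fittingSubgroup A ⊓ B).Normal := inferInstance
        exact le_trans le_top (Subgroup.normalizer_eq_top_iff.mpr this).ge
      · exact isNilpotent_of_le inf_le_left Cfsg.Agent.Lib.isNilpotent_fittingSubgroup
    unfold Cfsg.generalizedFittingSubgroup
    rw [Subgroup.map_sup, hE1]
    have : e₁ * e₂ * f = e₁ * (e₂ * f) := by group
    rw [this]
    exact Subgroup.mul_mem_sup he₁ (hFle hyF)
  · unfold Cfsg.generalizedFittingSubgroup
    rw [Subgroup.map_sup]
    apply le_inf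
    · exact sup_le_sup (map_layer_subtype_le hBsn) hFB
    · rw [← Subgroup.map_sup]
      exact Subgroup.map_subtype_le _

end Cfsg.Agent.S1320
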