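import Cfsg.Statements.S1321
import Mathlib
import Cfsg.Agent.Helper22.Layer

set_option autoImplicit false
open Cfsg
open scoped commutatorElement

namespace Cfsg.Agent.S1321

open Cfsg.Agent.Helper22 Cfsg.Agent.Helper21

/-- `H` normalizes `⁅H, K⁆`. -/
theorem le_normalizer_commutator {G : Type*} [Group G] (H K : Subgroup G) :
    H ≤ Subgroup.normalizer ((⁅H, K⁆ : Subgroup G) : Set G) := by
  have key : ∀ h ∈ H, ∀ x ∈ ⁅H, K⁆, h * x * h⁻¹ ∈ ⁅H, K⁆ := by
    intro h hh x hx
    have : (⁅H, K⁆).map (MulAut.conj h).toMonoidHom ≤ ⁅H, K⁆ := by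
      rw [Subgroup.map_le_iff_le_comap, Subgroup.commutator_le]
      intro a ha b hb
      rw [Subgroup.mem_comap]
      show h * ⁅a, b⁆ * h⁻¹ ∈ ⁅H, K⁆
      have e : h * ⁅a, b⁆ * h⁻¹ = ⁅h * a, b⁆ * ⁅h, b⁆⁻¹ := by
        simp only [commutatorElement_def]; group
      rw [e]
      exact Subgroup.mul_mem _ (Subgroup.commutator_mem_commutator (H.mul_mem hh ha) hb)
        (Subgroup.inv_mem _ (Subgroup.commutator_mem_commutator hh hb))
    exact this ⟨x, hx, rfl⟩
  intro h hh
  rw [Subgroup.mem_normalizer_iff]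
  intro x
  constructor
  · exact key h hh x
  · intro hx
    have := key h⁻¹ (H.inv_mem hh) _ hx
    simpa [mul_assoc] using this

theorem result {X : Type*} [Group X] [Finite X] (U : Subgroup X) : Cfsg.layer X = (Cfsg.layer X ⊓ Subgroup.centralizer (U : Set X)) ⊔ ⁅Cfsg.layer X, U⁆ ∧ ⁅Cfsg.layer X, U⁆ ≤ Cfsg.layer X := by
  have h2 : ⁅Cfsg.layer X, U⁆ ≤ Cfsg.layer X := Subgroup.commutator_le_left _ _
  refine ⟨?_, h2⟩
  apply le_antisymm
  · rw [layer_le_iff]
    intro K hK
    have hnorm := le_normalizer_commutator K U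
    rcases IsComponent.le_or_commutator_eq_bot hK ⁅K, U⁆ hnorm with h | h
    · exact (h.trans (Subgroup.commutator_mono (IsComponent.le_layer hK) le_rfl)).trans le_sup_right
    · -- ⁅K, ⁅K, U⁆⁆ = ⊥, so ⁅⁅U, K⁆, K⁆ = ⊥
      have h' : ⁅⁅U, K⁆, K⁆ = ⊥ := by
        rw [Subgroup.commutator_comm U K, Subgroup.commutator_comm]; exact h
      have h3 := commutator_eq_bot_of_perfect (IsComponent.commutator_self hK) h'
      rw [Subgroup.commutator_comm, Subgroup.commutator_eq_bot_iff_le_centralizer] at h3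
      exact (le_inf (IsComponent.le_layer hK) h3).trans le_sup_left
  · exact sup_le inf_le_left h2

end Cfsg.Agent.S1321
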