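import Cfsg.Statements.S1323
import Mathlib
import Cfsg.Agent.Helper22.AltStd

set_option autoImplicit false
open Cfsg

namespace Cfsg.Agent.S1323

open Cfsg.Agent.Helper22 Equiv Equiv.Perm

variable {α : Type*} [Fintype α] [DecidableEq α]

theorem even_card_supA {s : Finset α} (hs : 4 ≤ s.card) : Even (Nat.card ↥(supA s)) := by
  have hcard : Nat.card ↥s = s.card := by simp
  haveI : Nontrivial ↥s := by
    rw [← Finite.one_lt_card_iff_nontrivial, hcard]; omega
  have h1 : Nat.card ↥(supA s) = Nat.card (alternatingGroup ↥s) :=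
    (Nat.card_congr (supAEquiv s).toEquiv).symm
  have h2 : 2 * Nat.card (alternatingGroup ↥s) = (s.card).factorial := by
    rw [two_mul_nat_card_alternatingGroup, Nat.card_perm, hcard]
  have h3 : (4 : ℕ).factorial ∣ (s.card).factorial := Nat.factorial_dvd_factorial hs
  obtain ⟨q, hq⟩ := h3
  rw [h1]
  refine ⟨6 * q, ?_⟩
  have : (4 : ℕ).factorial = 24 := by decide
  rw [this] at hq
  omega

theorem card_image_perm (g : Perm α) (s : Finset α) : (s.image ⇑g).card = s.card :=
  Finset.card_image_of_injective s g.injective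

theorem image_perm_compl (g : Perm α) (s : Finset α) : (sᶜ).image ⇑g = (s.image ⇑g)ᶜ := by
  ext x
  simp only [Finset.mem_image, Finset.mem_compl]
  constructor
  · rintro ⟨a, ha, rfl⟩ ⟨b, hb, hgb⟩
    exact ha (g.injective hgb ▸ hb)
  · intro h
    refine ⟨g⁻¹ x, ?_, by simp⟩
    intro hmem
    exact h ⟨_, hmem, by simp⟩

/-- the four points -/
def S4 (n : ℕ) (h4 : 4 ≤ n) : Finset (Fin n) := Finset.univ.image (Fin.castLE h4)

theorem card_S4 (n : ℕ) (h4 : 4 ≤ n) : (S4 n h4).card = 4 := by
  unfold S4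
  rw [Finset.card_image_of_injective _ (Fin.castLE_injective h4)]
  simp

theorem card_S4_compl (n : ℕ) (h4 : 4 ≤ n) : ((S4 n h4)ᶜ).card = n - 4 := by
  rw [Finset.card_compl, card_S4]
  simp

theorem stab_eq_supA (n : ℕ) (h4 : 4 ≤ n) :
    (⨅ i : Fin 4, MulAction.stabilizer ↥(alternatingGroup (Fin n)) (Fin.castLE h4 i : Fin n)) =
      supA (S4 n h4)ᶜ := by
  ext k
  rw [Subgroup.mem_iInf, mem_supA_iff_fix]
  constructor
  · intro h a ha
    rw [Finset.mem_compl, not_not] at ha
    unfold S4 at ha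
    rw [Finset.mem_image] at ha
    obtain ⟨i, -, rfl⟩ := ha
    have := MulAction.mem_stabilizer_iff.mp (h i)
    exact this
  · intro h i
    rw [MulAction.mem_stabilizer_iff]
    apply h
    rw [Finset.mem_compl, not_not]
    unfold S4
    exact Finset.mem_image_of_mem _ (Finset.mem_univ i)

/-- For n ≥ 9, the subgroup of the alternating group on Fin n fixing each of the points 0, 1, 2, 3 is a standard subgroup. -/
theorem result (n : ℕ) (h4 : 4 ≤ n) (hn : 9 ≤ n) : Cfsg.IsStandardSubgroup (⨅ i : Fin 4, MulAction.stabilizer ↥(alternatingGroup (Fin n)) (Fin.castLE h4 i : Fin n)) := by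
  rw [stab_eq_supA n h4]
  have hS : (S4 n h4).card = 4 := card_S4 n h4
  have hT : ((S4 n h4)ᶜ).card = n - 4 := card_S4_compl n h4
  have hcen : Subgroup.centralizer (supA (S4 n h4)ᶜ : Set (alternatingGroup (Fin n))) =
      supA (S4 n h4) := by
    rw [centralizer_supA (by rw [hT]; omega), compl_compl]
  have hcen2 : Subgroup.centralizer (supA (S4 n h4) : Set (alternatingGroup (Fin n))) =
      supA (S4 n h4)ᶜ := centralizer_supA (by rw [hS])
  refine ⟨isQuasisimple_supA (by rw [hT]; omega), ?_, ?_, ?_⟩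
  · -- tightly embedded
    rw [hcen]
    refine ⟨even_card_supA (by rw [hS]), ?_⟩
    intro g hg
    rw [map_conj_supA, supA_inf]
    apply odd_card_supA
    have hne : (S4 n h4).image ⇑(g : Perm (Fin n)) ≠ S4 n h4 := by
      intro heq
      apply hg
      apply mem_normalizer_of_map_conj_eq
      rw [map_conj_supA, heq]
    have hss : S4 n h4 ∩ (S4 n h4).image ⇑(g : Perm (Fin n)) ⊂ S4 n h4 := by
      refine ⟨Finset.inter_subset_left, ?_⟩
      intro hsub
      apply hne
      have h1 : S4 n h4 ⊆ (S4 n h4).image ⇑(g : Perm (Fin n)) :=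
        fun x hx => (Finset.mem_inter.mp (hsub hx)).2
      exact (Finset.eq_of_subset_of_card_le h1 (by rw [card_image_perm])).symm
    have := Finset.card_lt_card hss
    omega
  · -- non-commuting conjugates
    intro g hg
    rw [map_conj_supA] at hg ⊢
    have hcardT' : ((S4 n h4)ᶜ.image ⇑(g : Perm (Fin n))).card = n - 4 := by
      rw [card_image_perm, hT]
    -- a point of `T ∩ gT`
    have hinter : ((S4 n h4)ᶜ ∩ (S4 n h4)ᶜ.image ⇑(g : Perm (Fin n))).Nonempty := by
      rw [← Finset.card_pos]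
      have h1 := Finset.card_union_add_card_inter (S4 n h4)ᶜ
        ((S4 n h4)ᶜ.image ⇑(g : Perm (Fin n)))
      have h2 : ((S4 n h4)ᶜ ∪ (S4 n h4)ᶜ.image ⇑(g : Perm (Fin n))).card ≤ n := by
        have := Finset.card_le_univ ((S4 n h4)ᶜ ∪ (S4 n h4)ᶜ.image ⇑(g : Perm (Fin n)))
        simpa using this
      rw [hT, hcardT'] at h1
      omega
    obtain ⟨a, ha⟩ := hinter
    rw [Finset.mem_inter] at ha
    -- a point of `T \ gT`
    have hb : ∃ b ∈ (S4 n h4)ᶜ, b ∉ (S4 n h4)ᶜ.image ⇑(g : Perm (Fin n)) := by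
      by_contra hcon
      push Not at hcon
      apply hg
      rw [(Finset.eq_of_subset_of_card_le hcon (by rw [hcardT', hT])).symm]
    obtain ⟨b, hbT, hbT'⟩ := hb
    exact commutator_supA_ne_bot (by rw [hT]; omega) (by rw [hcardT']; omega)
      ha.1 ha.2 hbT hbT'
  · -- normalizers
    apply le_antisymm (normalizer_le_normalizer_centralizer _)
    have := normalizer_le_normalizer_centralizer
      (Subgroup.centralizer (supA (S4 n h4)ᶜ : Set (alternatingGroup (Fin n))))
    rw [hcen, hcen2] at this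
    rw [hcen]
    exact this

end Cfsg.Agent.S1323
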