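-- Statement S1331: members of the family of a signalizer functor are generated by hyperplane parts.
import Cfsg.Statements.S1331
import Cfsg.Agent.Helper31.CoprimeHypRel
import Cfsg.Agent.Lib.Cores

set_option autoImplicit false
open Cfsg
open Cfsg.Agent.Helper31

namespace Cfsg.Agent.S1331

/-- Let θ be a solvable A-signalizer functor on the finite group G for the prime p, A elementary abelian of rank at least 3, X a member of the family of θ, and B ≤ A with |B| ≥ p². Then X is generated by the subgroups X ∩ ⋂_{d ∈ D, d ≠ 1} θ d, D ranging over the subgroups of index p in B. -/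
theorem result {G : Type*} [Group G] [Finite G] (p : ℕ) [Fact p.Prime] (A : Subgroup G) (hA : Cfsg.IsElementaryAbelian p A) (hA3 : p ^ 3 ≤ Nat.card ↥A) (θ : G → Subgroup G) (hθ : Cfsg.IsSolvableSignalizerFunctor p A θ) (X : Subgroup G) (hX : X ∈ Cfsg.signalizerFamily p A θ) (B : Subgroup G) (hB : B ≤ A) (hB2 : p ^ 2 ≤ Nat.card ↥B) : X = ⨆ D : {D : Subgroup G // D ≤ B ∧ D.relIndex B = p}, X ⊓ Cfsg.signalizerInf (D : Subgroup G) θ := by
  obtain ⟨_, hXp, hXinv, hXθ⟩ := hX
  have hBX : B ≤ Subgroup.normalizer (X : Set G) := by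
    intro b hb
    rw [Subgroup.mem_normalizer_iff]
    intro u
    constructor
    · intro hu
      exact hXinv b (hB hb) u hu
    · intro hu
      have := hXinv b⁻¹ (A.inv_mem (hB hb)) _ hu
      have h2 : b⁻¹ * (b * u * b⁻¹) * b⁻¹⁻¹ = u := by group
      rwa [h2] at this
  apply le_antisymm
  · refine (le_iSup_hyperplane_relIndex X B hXp hBX
      (fun x hx y hy => Cfsg.Agent.Lib.isElementaryAbelian_commute hA (hB hx) (hB hy))
      (fun x hx => hA.2 x (hB hx)) hB2).trans ?_
    apply iSup_le
    rintro ⟨F, hFB, hF⟩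
    refine le_trans ?_ (le_iSup (fun D : {D : Subgroup G // D ≤ B ∧ D.relIndex B = p} =>
      X ⊓ Cfsg.signalizerInf (D : Subgroup G) θ) ⟨F, hFB, hF⟩)
    refine le_inf inf_le_left ?_
    unfold Cfsg.signalizerInf
    apply le_iInf
    rintro ⟨d, hdF, hd1⟩
    refine le_trans ?_ (hXθ d (hB (hFB hdF)) hd1)
    exact inf_le_inf_left X (Subgroup.centralizer_le (Set.singleton_subset_iff.mpr hdF))
  · apply iSup_le
    intro D
    exact inf_le_left

end Cfsg.Agent.S1331
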