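import Cfsg.Statements.S1335
import Cfsg.Agent.Helper23.Basic

set_option autoImplicit false
open Cfsg

namespace Cfsg.Agent.S1335

/-- Let H be a subgroup of the finite group G, p a prime, k ≥ 1, P a Sylow p-subgroup of H of p-rank at least k, and suppose N_G(X) ≤ H for every subgroup X ≤ P of p-rank at least k. Then P is a Sylow p-subgroup of G. -/
theorem result {G : Type*} [Group G] [Finite G] {p : ℕ} [Fact p.Prime] (k : ℕ) (hk : 1 ≤ k) (H : Subgroup G) (P : Sylow p ↥H) (hP : ¬ Cfsg.PRankLE p (k - 1) ↥(P : Subgroup ↥H)) (hΓ : (∀ X : Subgroup G, X ≤ (P : Subgroup ↥H).map H.subtype → ¬ Cfsg.PRankLE p (k - 1) ↥X → Subgroup.normalizer (X : Set G) ≤ H)) : ∃ Q : Sylow p G, (Q : Subgroup G) = (P : Subgroup ↥H).map H.subtype := by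
  set P' : Subgroup G := (P : Subgroup ↥H).map H.subtype with hP'
  have hinj : Function.Injective H.subtype := H.subtype_injective
  -- P' is a p-group
  have hP'p : IsPGroup p P' := P.2.map H.subtype
  -- rank of P'
  have hrk : ¬ Cfsg.PRankLE p (k - 1) ↥P' := by
    intro h
    apply hP
    exact (Cfsg.Agent.Helper23.pRankLE_of_mulEquiv p (k - 1)
      ((P : Subgroup ↥H).equivMapOfInjective H.subtype hinj)).mpr h
  have hN : Subgroup.normalizer (P' : Set G) ≤ H := hΓ P' le_rfl hrk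
  obtain ⟨Q, hQ⟩ := hP'p.exists_le_sylow
  refine ⟨Q, ?_⟩
  -- Q ⊓ H = P'
  have hP'H : P' ≤ H := by
    rintro _ ⟨x, _, rfl⟩
    exact x.2
  have hQH : (Q : Subgroup G) ⊓ H ≤ P' := by
    -- (Q ⊓ H).subgroupOf H is a p-subgroup of H containing P
    have h1 : IsPGroup p (((Q : Subgroup G) ⊓ H).subgroupOf H) := by
      have : IsPGroup p ((Q : Subgroup G) ⊓ H : Subgroup G) := Q.2.to_le inf_le_left
      exact this.comap_of_injective H.subtype hinj
    have h2 : (P : Subgroup ↥H) ≤ ((Q : Subgroup G) ⊓ H).subgroupOf H := by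
      intro x hx
      rw [Subgroup.mem_subgroupOf]
      refine ⟨hQ ?_, x.2⟩
      exact ⟨x, hx, rfl⟩
    have h3 := P.3 h1 h2
    intro x hx
    have hxH : x ∈ H := hx.2
    have : (⟨x, hxH⟩ : ↥H) ∈ ((Q : Subgroup G) ⊓ H).subgroupOf H := by
      rw [Subgroup.mem_subgroupOf]; exact hx
    rw [h3] at this
    exact ⟨⟨x, hxH⟩, this, rfl⟩
  -- normalizer condition in Q
  by_contra hne
  have hlt : P'.subgroupOf (Q : Subgroup G) < ⊤ := by
    rw [lt_top_iff_ne_top]
    intro htop
    apply hne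
    apply le_antisymm _ hQ
    intro x hx
    have : (⟨x, hx⟩ : ↥(Q : Subgroup G)) ∈ P'.subgroupOf (Q : Subgroup G) := by
      rw [htop]; trivial
    exact this
  have hnil : Group.IsNilpotent ↥(Q : Subgroup G) := Q.2.isNilpotent
  have hnc := Group.normalizerCondition_of_isNilpotent (G := ↥(Q : Subgroup G)) _ hlt
  obtain ⟨x, hxN, hxP⟩ := SetLike.exists_of_lt hnc
  apply hxP
  rw [Subgroup.mem_subgroupOf]
  apply hQH
  refine ⟨x.2, hN ?_⟩
  rw [Subgroup.mem_normalizer_iff] at hxN ⊢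
  intro y
  constructor
  · intro hy
    have hyQ : y ∈ (Q : Subgroup G) := hQ hy
    have := (hxN ⟨y, hyQ⟩).mp (by rw [Subgroup.mem_subgroupOf]; exact hy)
    rw [Subgroup.mem_subgroupOf] at this
    exact this
  · intro hy
    have hyQ : y ∈ (Q : Subgroup G) := by
      have h1 : (x : G) * y * (x : G)⁻¹ ∈ (Q : Subgroup G) := hQ hy
      have := (Q : Subgroup G).mul_mem ((Q : Subgroup G).mul_mem ((Q : Subgroup G).inv_mem x.2) h1) x.2
      simpa [mul_assoc] using this
    have := (hxN ⟨y, hyQ⟩).mpr (by rw [Subgroup.mem_subgroupOf]; exact hy)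
    rw [Subgroup.mem_subgroupOf] at this
    exact this

end Cfsg.Agent.S1335
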