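import Cfsg.Statements.S1336
import Cfsg.Agent.Helper23.Conn

set_option autoImplicit false
open Cfsg

namespace Cfsg.Agent.S1336

open Cfsg.Agent.Helper23 Relation

/-- Let G be finite and p prime. Then G has a proper subgroup H with p ∣ |H| and p ∤ |H ∩ gHg⁻¹| for every g ∉ H (a strongly p-embedded subgroup) if and only if G is not 1-connected for p. -/
theorem result {G : Type*} [Group G] [Finite G] (p : ℕ) [Fact p.Prime] : (∃ H : Subgroup G, H ≠ ⊤ ∧ p ∣ Nat.card ↥H ∧ ∀ g : G, g ∉ H → ¬ p ∣ Nat.card ↥(H ⊓ H.map (MulAut.conj g).toMonoidHom)) ↔ ¬ Cfsg.IsKConnected p 1 G := by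
  have hp : p.Prime := Fact.out
  constructor
  · rintro ⟨H, hHtop, hpH, hstr⟩ hconn
    rw [isKConnected_iff] at hconn
    obtain ⟨⟨x, hxH⟩, hxo⟩ := exists_prime_orderOf_dvd_card' p hpH
    have hxo' : orderOf x = p := by rw [← hxo, Subgroup.orderOf_mk]
    obtain ⟨g, hg⟩ : ∃ g, g ∉ H := by
      by_contra h
      push Not at h
      exact hHtop (eq_top_iff.mpr fun y _ => h y)
    have hE := vtx_zpowers hxo'
    have hE' : Vtx p 1 (cj g (Subgroup.zpowers x)) := vtx_cj g hE
    have hc := hconn _ _ hE hE'
    have key : ∀ A B : Subgroup G, A ≤ H → Adj p 1 A B → B ≤ H := by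
      intro A B hA hAB
      rw [adj_iff] at hAB
      obtain ⟨a, ha, hao⟩ := exists_orderOf_eq_of_vtx hp hAB.1
      intro b hb
      by_contra hbH
      apply hstr b hbH
      have hmem : a ∈ H ⊓ cj b H := by
        refine ⟨hA ha, ?_⟩
        show a ∈ cj b H
        rw [mem_cj]
        have h1 := hAB.2.2 a ha b hb
        have : b⁻¹ * a * b = a := by rw [mul_assoc, h1, inv_mul_cancel_left]
        rw [this]; exact hA ha
      rw [← hao]
      exact Subgroup.orderOf_dvd_natCard _ hmem
    have hle : cj g (Subgroup.zpowers x) ≤ H := by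
      have h0 : Subgroup.zpowers x ≤ H := by
        rw [Subgroup.zpowers_le]; exact hxH
      have hgen : ∀ B : Subgroup G, ReflTransGen (Adj p 1) (Subgroup.zpowers x) B → B ≤ H := by
        intro B hB
        induction hB with
        | refl => exact h0
        | tail _ hbc ih => exact key _ _ ih hbc
      exact hgen _ hc
    have h1 : g * x * g⁻¹ ∈ H := hle (conj_mem_cj (Subgroup.mem_zpowers x))
    apply hstr g hg
    have hmem : g * x * g⁻¹ ∈ H ⊓ cj g H := ⟨h1, conj_mem_cj hxH⟩
    have ho : orderOf (g * x * g⁻¹) = p := by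
      have := orderOf_injective (MulAut.conj g).toMonoidHom (MulAut.conj g).injective x
      rw [← hxo', ← this]; rfl
    rw [← ho]
    exact Subgroup.orderOf_dvd_natCard _ hmem
  · intro hnc
    rw [isKConnected_iff] at hnc
    push Not at hnc
    obtain ⟨E, E', hE, hE', hnot⟩ := hnc
    let H : Subgroup G :=
      { carrier := {g | ReflTransGen (Adj p 1) E (cj g E)}
        one_mem' := by
          show ReflTransGen (Adj p 1) E (cj 1 E)
          rw [cj_one]
        mul_mem' := by
          intro g h hg hh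
          show ReflTransGen (Adj p 1) E (cj (g * h) E)
          rw [cj_mul]
          exact hg.trans (conn_cj g hh)
        inv_mem' := by
          intro g hg
          show ReflTransGen (Adj p 1) E (cj g⁻¹ E)
          have := conn_cj g⁻¹ hg
          rw [cj_inv_cj] at this
          exact conn_symm this }
    have hHmem : ∀ g, g ∈ H ↔ ReflTransGen (Adj p 1) E (cj g E) := fun g => Iff.rfl
    have hEH : E ≤ H := by
      intro e he
      rw [hHmem, cj_of_mem he]
    -- Sylow subgroup containing E
    have hEp : IsPGroup p ↥E := by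
      intro ⟨e, he⟩
      refine ⟨1, ?_⟩
      apply Subtype.ext
      simpa using hE.1.2 e he
    obtain ⟨P, hEP⟩ := hEp.exists_le_sylow
    have hPH : (P : Subgroup G) ≤ H := by
      intro s hs
      rw [hHmem]
      refine conn_of_le_pGroup P.2 hEP ?_ hE (vtx_cj s hE)
      have := cj_mono s hEP
      rwa [cj_of_mem hs] at this
    -- every vertex inside H is connected to E
    have star : ∀ Y : Subgroup G, Y ≤ H → Vtx p 1 Y → ReflTransGen (Adj p 1) E Y := by
      intro Y hYH hY
      have hYp : IsPGroup p ↥(Y.subgroupOf H) := by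
        intro ⟨⟨y, hyH⟩, hy⟩
        refine ⟨1, ?_⟩
        apply Subtype.ext
        apply Subtype.ext
        have : y ∈ Y := hy
        simpa using hY.1.2 y this
      obtain ⟨Q, hYQ⟩ := hYp.exists_le_sylow
      obtain ⟨h, hh⟩ := MulAction.exists_smul_eq ↥H (P.subtype hPH) Q
      have hcj : cj (h : G)⁻¹ Y ≤ P := by
        intro y hy
        rw [mem_cj, inv_inv] at hy
        have hyH : (h : G) * y * (h : G)⁻¹ ∈ H := hYH hy
        have h1 : (⟨(h : G) * y * (h : G)⁻¹, hyH⟩ : ↥H) ∈ (Q : Subgroup ↥H) := hYQ hy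
        rw [← hh, Sylow.coe_subgroup_smul, Subgroup.mem_pointwise_smul_iff_inv_smul_mem] at h1
        rw [Sylow.coe_subtype, Subgroup.mem_subgroupOf] at h1
        simpa [MulAut.smul_def, mul_assoc] using h1
      have h1 : ReflTransGen (Adj p 1) E (cj (h : G)⁻¹ Y) :=
        conn_of_le_pGroup P.2 hEP hcj hE (vtx_cj _ hY)
      have h2 : ReflTransGen (Adj p 1) E (cj (h : G)⁻¹ E) := (hHmem _).mp (H.inv_mem h.2)
      have h3 := conn_cj (h : G) ((conn_symm h2).trans h1)
      rwa [cj_cj_inv, cj_cj_inv] at h3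
    refine ⟨H, ?_, ?_, ?_⟩
    · intro htop
      apply hnot
      apply star E' _ hE'
      rw [htop]; exact le_top
    · obtain ⟨e, he, heo⟩ := exists_orderOf_eq_of_vtx hp hE
      rw [← heo]
      exact Subgroup.orderOf_dvd_natCard _ (hEH he)
    · intro g hg hdvd
      apply hg
      obtain ⟨⟨y, hy⟩, hyo⟩ := exists_prime_orderOf_dvd_card' p hdvd
      have hyo' : orderOf y = p := by rw [← hyo, Subgroup.orderOf_mk]
      have hY := vtx_zpowers hyo'
      have hY1 : Subgroup.zpowers y ≤ H := by
        rw [Subgroup.zpowers_le]; exact hy.1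
      have hY2 : cj g⁻¹ (Subgroup.zpowers y) ≤ H := by
        have h1 : Subgroup.zpowers y ≤ cj g H := by
          rw [Subgroup.zpowers_le]; exact hy.2
        have := cj_mono g⁻¹ h1
        rwa [cj_inv_cj] at this
      have c1 := star _ hY1 hY
      have c2 := conn_cj g (star _ hY2 (vtx_cj _ hY))
      rw [cj_cj_inv] at c2
      rw [hHmem]
      exact c1.trans (conn_symm c2)

end Cfsg.Agent.S1336
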