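import Cfsg.Statements.S1337
import Cfsg.Agent.Helper23.RankTwo

set_option autoImplicit false
open Cfsg

namespace Cfsg.Agent.S1337

open Cfsg.Agent.Helper23 Relation

/-- two vertices of the rank-two graph whose join has order at most `p ^ 2` coincide -/
theorem eq_of_card_sup_le {P : Type*} [Group P] [Finite P] {p : ℕ} {A B : Subgroup P}
    (hA : p ^ 2 ≤ Nat.card ↥A) (hB : p ^ 2 ≤ Nat.card ↥B) (h : Nat.card ↥(A ⊔ B) ≤ p ^ 2) :
    A = B := by
  have h1 : A = A ⊔ B := Subgroup.eq_of_le_of_card_ge le_sup_left (h.trans hA)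
  have h2 : B = A ⊔ B := Subgroup.eq_of_le_of_card_ge le_sup_right (h.trans hB)
  rw [h1]; exact h2.symm

/-- Let P be a finite p-group of p-rank greater than 2. Then P has a normal elementary abelian subgroup U of order p², and for every elementary abelian X ≤ P with |X| ≥ p²: X is joined to U by a chain of pairwise commuting elementary abelian subgroups of order ≥ p² if and only if C_P(X) has p-rank greater than 2. -/
theorem result {P : Type*} [Group P] [Finite P] (p : ℕ) [Fact p.Prime] (hP : IsPGroup p P) (hrk : ¬ Cfsg.PRankLE p 2 P) : ∃ U : Subgroup P, U.Normal ∧ Cfsg.IsElementaryAbelian p U ∧ Nat.card ↥U = p ^ 2 ∧ ∀ X : Subgroup P, Cfsg.IsElementaryAbelian p X → p ^ 2 ≤ Nat.card ↥X → (Relation.ReflTransGen (fun A B : Subgroup P => Cfsg.IsElementaryAbelian p A ∧ p ^ 2 ≤ Nat.card ↥A ∧ Cfsg.IsElementaryAbelian p B ∧ p ^ 2 ≤ Nat.card ↥B ∧ ∀ a ∈ A, ∀ b ∈ B, a * b = b * a) X U ↔ ¬ Cfsg.PRankLE p 2 ↥(Subgroup.centralizer (X : Set P))) := by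
  have hp : p.Prime := Fact.out
  obtain ⟨U, hUn, hUe, hUc⟩ := exists_normal_elementaryAbelian_sq_of_rank p hP hrk
  refine ⟨U, hUn, hUe, hUc, ?_⟩
  have hidx := index_centralizer_dvd_of_normal_sq hP U hUe hUc
  have hUcomm : ∀ a ∈ U, ∀ b ∈ U, a * b = b * a := (isMulCommutative_subgroup_iff U).mp hUe.1
  -- large abelian subgroups meet C(U) in a subgroup of order at least p^2
  have hmeet : ∀ A : Subgroup P, Cfsg.IsElementaryAbelian p A → p ^ 2 < Nat.card ↥A →
      p ^ 2 ≤ Nat.card ↥(A ⊓ Subgroup.centralizer (U : Set P)) := by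
    intro A hAe hAc
    have h1 : (Subgroup.centralizer (U : Set P)).relIndex A ∣ p :=
      (Subgroup.relIndex_dvd_index_of_normal _ _).trans hidx
    have h2 : Nat.card ↥(A ⊓ Subgroup.centralizer (U : Set P)) *
        (A ⊓ Subgroup.centralizer (U : Set P)).relIndex A = Nat.card ↥A := by
      have := Subgroup.relIndex_mul_relIndex ⊥ (A ⊓ Subgroup.centralizer (U : Set P)) A bot_le inf_le_left
      rwa [Subgroup.relIndex_bot_left, Subgroup.relIndex_bot_left] at this
    rw [inf_comm, Subgroup.inf_relIndex_right] at h2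
    rw [inf_comm]
    obtain ⟨k, hk⟩ := (hP.to_subgroup A).exists_card_eq
    have hk3 : 3 ≤ k := by
      by_contra h
      have h2 : k ≤ 2 := by omega
      have := Nat.pow_le_pow_right hp.pos h2
      omega
    have hle : (Subgroup.centralizer (U : Set P)).relIndex A ≤ p := Nat.le_of_dvd hp.pos h1
    have h3 : p ^ 3 ≤ Nat.card ↥A := by rw [hk]; exact Nat.pow_le_pow_right hp.pos hk3
    by_contra hlt
    push Not at hlt
    have h4 : Nat.card ↥(Subgroup.centralizer (U : Set P) ⊓ A) *
        (Subgroup.centralizer (U : Set P)).relIndex A < p ^ 2 * p := by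
      calc _ ≤ Nat.card ↥(Subgroup.centralizer (U : Set P) ⊓ A) * p := Nat.mul_le_mul_left _ hle
        _ < p ^ 2 * p := Nat.mul_lt_mul_of_pos_right hlt hp.pos
    rw [h2] at h4
    have : p ^ 2 * p = p ^ 3 := by ring
    omega
  -- rank of C(U) is at least 3
  have hbase : ∃ A : Subgroup P, A ≤ Subgroup.centralizer (U : Set P) ∧
      Cfsg.IsElementaryAbelian p A ∧ p ^ 2 < Nat.card ↥A := by
    have hrk' := hrk
    unfold Cfsg.PRankLE at hrk'
    push Not at hrk'
    obtain ⟨A₀, h1, h2, h3⟩ := hrk'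
    have hA₀e : Cfsg.IsElementaryAbelian p A₀ := ⟨h1, h2⟩
    set B₀ := A₀ ⊓ Subgroup.centralizer (U : Set P) with hB₀
    have hB₀c := hmeet A₀ hA₀e h3
    have hB₀e : Cfsg.IsElementaryAbelian p B₀ := isElementaryAbelian_of_le hA₀e inf_le_left
    have hcomm : ∀ a ∈ B₀, ∀ b ∈ U, a * b = b * a := by
      intro a ha b hb
      exact ((Subgroup.mem_centralizer_iff.mp ha.2) b hb).symm
    by_cases hbig : p ^ 2 < Nat.card ↥(B₀ ⊔ U)
    · refine ⟨B₀ ⊔ U, sup_le inf_le_right ?_, isElementaryAbelian_sup_of_commute hB₀e hUe hcomm, hbig⟩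
      intro u hu
      rw [Subgroup.mem_centralizer_iff]
      intro v hv
      exact hUcomm v hv u hu
    · push Not at hbig
      have hBU : B₀ = U := eq_of_card_sup_le hB₀c (le_of_eq hUc.symm) hbig
      refine ⟨A₀, ?_, hA₀e, h3⟩
      intro a ha
      rw [Subgroup.mem_centralizer_iff]
      intro u hu
      have huA : u ∈ A₀ := by
        have : u ∈ B₀ := by rw [hBU]; exact hu
        exact this.1
      exact (isMulCommutative_subgroup_iff A₀).mp h1 u huA a ha
  intro X hXe hXc
  show ReflTransGen (Adj p 2) X U ↔ _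
  rw [not_pRankLE_subgroup_iff]
  constructor
  · intro hchain
    -- induction along the chain, from the end U
    have key : ∀ Y : Subgroup P, ReflTransGen (Adj p 2) Y U →
        ∃ A : Subgroup P, A ≤ Subgroup.centralizer (Y : Set P) ∧
          Cfsg.IsElementaryAbelian p A ∧ p ^ 2 < Nat.card ↥A := by
      intro Y hY
      induction hY using ReflTransGen.head_induction_on with
      | refl => exact hbase
      | @head Y Y₁ hYY₁ _ ih =>
        obtain ⟨hYe, hYc, hY₁e, hY₁c, hcomm⟩ := hYY₁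
        have hYcomm : ∀ a ∈ Y, ∀ b ∈ Y, a * b = b * a := (isMulCommutative_subgroup_iff Y).mp hYe.1
        by_cases hbig : p ^ 2 < Nat.card ↥(Y ⊔ Y₁)
        · refine ⟨Y ⊔ Y₁, sup_le ?_ ?_, isElementaryAbelian_sup_of_commute hYe hY₁e hcomm, hbig⟩
          · intro a ha
            rw [Subgroup.mem_centralizer_iff]
            intro b hb
            exact hYcomm b hb a ha
          · intro a ha
            rw [Subgroup.mem_centralizer_iff]
            intro b hb
            exact hcomm b hb a ha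
        · push Not at hbig
          have : Y = Y₁ := eq_of_card_sup_le hYc hY₁c hbig
          rw [this]; exact ih
    exact key X hchain
  · rintro ⟨A, hAC, hAe, hAc⟩
    have hcomm : ∀ a ∈ A, ∀ b ∈ X, a * b = b * a := by
      intro a ha b hb
      exact ((Subgroup.mem_centralizer_iff.mp (hAC ha)) b hb).symm
    set A₁ := A ⊔ X with hA₁
    have hA₁e : Cfsg.IsElementaryAbelian p A₁ := isElementaryAbelian_sup_of_commute hAe hXe hcomm
    have hA₁c : p ^ 2 < Nat.card ↥A₁ := lt_of_lt_of_le hAc (Subgroup.card_le_of_le le_sup_left)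
    have hA₁comm : ∀ a ∈ A₁, ∀ b ∈ A₁, a * b = b * a := (isMulCommutative_subgroup_iff A₁).mp hA₁e.1
    set B := A₁ ⊓ Subgroup.centralizer (U : Set P) with hB
    have hBc := hmeet A₁ hA₁e hA₁c
    have hBe : Cfsg.IsElementaryAbelian p B := isElementaryAbelian_of_le hA₁e inf_le_left
    have s1 : Adj p 2 X A₁ :=
      ⟨hXe, hXc, hA₁e, le_of_lt hA₁c, fun a ha b hb => hA₁comm a (le_sup_right (a := A) ha) b hb⟩
    have s2 : Adj p 2 A₁ B :=
      ⟨hA₁e, le_of_lt hA₁c, hBe, hBc, fun a ha b hb => hA₁comm a ha b hb.1⟩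
    have s3 : Adj p 2 B U :=
      ⟨hBe, hBc, hUe, le_of_eq hUc.symm, fun a ha b hb =>
        ((Subgroup.mem_centralizer_iff.mp ha.2) b hb).symm⟩
    exact (ReflTransGen.single s1).trans ((ReflTransGen.single s2).trans (ReflTransGen.single s3))

end Cfsg.Agent.S1337
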