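import Mathlib
import Cfsg.Agent.Helper49.FStar
import Cfsg.Agent.Lib.Cores

set_option autoImplicit false
open Cfsg

namespace Cfsg.Agent.S1339

open Matrix

variable {F : Type*} [Field F] [Fintype F] [DecidableEq F] {n : ℕ}

theorem two_eq_zero (hF : Fintype.card F = 2) : (2 : F) = 0 := by
  have h := FiniteField.cast_card_eq_zero F
  rw [hF] at h
  exact_mod_cast h

theorem add_self_eq_zero' (hF : Fintype.card F = 2) (x : F) : x + x = 0 := by
  have h := two_eq_zero hF
  calc x + x = 2 * x := by ring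
    _ = 0 := by rw [h, zero_mul]

theorem eq_one_of_ne_zero (hF : Fintype.card F = 2) {x : F} (hx : x ≠ 0) : x = 1 := by
  have h := FiniteField.pow_card_sub_one_eq_one x hx
  rw [hF] at h
  simpa using h

/-- An element of `SL` commuting with `t = 1 + E_{ij}` commutes (as a matrix) with `E_{ij}`. -/
theorem commute_single_of_mem {i j : Fin n} {t g : Matrix.SpecialLinearGroup (Fin n) F}
    (ht : (t : Matrix (Fin n) (Fin n) F) = Matrix.transvection i j 1)
    (hg : g ∈ Subgroup.centralizer ({t} : Set (Matrix.SpecialLinearGroup (Fin n) F))) :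
    Commute (Matrix.single i j (1 : F)) (g : Matrix (Fin n) (Fin n) F) := by
  rw [Subgroup.mem_centralizer_singleton_iff] at hg
  have h := congrArg (fun x : Matrix.SpecialLinearGroup (Fin n) F =>
    (x : Matrix (Fin n) (Fin n) F)) hg
  simp only [Matrix.SpecialLinearGroup.coe_mul, ht, Matrix.transvection] at h
  rw [mul_add, add_mul, mul_one, one_mul] at h
  exact (add_left_cancel h).symm

/-- An element of `SL` which (as a matrix) commutes with `E_{ij}` lies in the centralizer of `t`. -/
theorem mem_of_commute_single {i j : Fin n} {t g : Matrix.SpecialLinearGroup (Fin n) F}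
    (ht : (t : Matrix (Fin n) (Fin n) F) = Matrix.transvection i j 1)
    (hg : Commute (Matrix.single i j (1 : F)) (g : Matrix (Fin n) (Fin n) F)) :
    g ∈ Subgroup.centralizer ({t} : Set (Matrix.SpecialLinearGroup (Fin n) F)) := by
  rw [Subgroup.mem_centralizer_singleton_iff]
  apply Subtype.ext
  simp only [Matrix.SpecialLinearGroup.coe_mul, ht, Matrix.transvection]
  rw [mul_add, add_mul, mul_one, one_mul, hg.eq]

/-- The diagonal entry `g i i` of an element of `SL` commuting with `E_{ij}` over `F_2` is `1`. -/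
theorem diag_eq_one (hF : Fintype.card F = 2) {i j : Fin n}
    {g : Matrix.SpecialLinearGroup (Fin n) F}
    (hg : Commute (Matrix.single i j (1 : F)) (g : Matrix (Fin n) (Fin n) F)) :
    (g : Matrix (Fin n) (Fin n) F) i i = 1 := by
  apply eq_one_of_ne_zero hF
  intro h0
  have hcol : ∀ l, (g : Matrix (Fin n) (Fin n) F) l i = 0 := by
    intro l
    by_cases hl : l = i
    · rw [hl]; exact h0
    · exact Matrix.col_eq_zero_of_commute_single hg hl
  have hdet := Matrix.det_eq_zero_of_column_eq_zero i hcol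
  rw [g.det_coe] at hdet
  exact one_ne_zero hdet

theorem diag_eq_one' (hF : Fintype.card F = 2) {i j : Fin n}
    {g : Matrix.SpecialLinearGroup (Fin n) F}
    (hg : Commute (Matrix.single i j (1 : F)) (g : Matrix (Fin n) (Fin n) F)) :
    (g : Matrix (Fin n) (Fin n) F) j j = 1 := by
  rw [← Matrix.diag_eq_of_commute_single hg]
  exact diag_eq_one hF hg

section hom

variable (i j : Fin n) (t : Matrix.SpecialLinearGroup (Fin n) F)
  (ht : (t : Matrix (Fin n) (Fin n) F) = Matrix.transvection i j 1)

/-- The action on `H / P`: the submatrix on the indices different from `i` and `j`. -/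
noncomputable def subHom :
    ↥(Subgroup.centralizer ({t} : Set (Matrix.SpecialLinearGroup (Fin n) F))) →*
      Matrix {k : Fin n // k ≠ i ∧ k ≠ j} {k : Fin n // k ≠ i ∧ k ≠ j} F where
  toFun g := fun l k => (g.1 : Matrix (Fin n) (Fin n) F) l.1 k.1
  map_one' := by
    ext l k
    simp only [Subgroup.coe_one, Matrix.SpecialLinearGroup.coe_one, Matrix.one_apply]
    by_cases h : l = k
    · rw [if_pos h, if_pos (congrArg Subtype.val h)]
    · rw [if_neg h, if_neg (fun h' => h (Subtype.ext h'))]
  map_mul' := by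
    intro g h
    ext l k
    have hg := commute_single_of_mem ht g.2
    have hh := commute_single_of_mem ht h.2
    change ((((g * h : ↥(Subgroup.centralizer ({t} : Set (Matrix.SpecialLinearGroup (Fin n) F)))).1 :
        Matrix.SpecialLinearGroup (Fin n) F) : Matrix (Fin n) (Fin n) F) l.1 k.1) =
      ∑ m : {k : Fin n // k ≠ i ∧ k ≠ j}, (g.1 : Matrix (Fin n) (Fin n) F) l.1 m.1 *
        (h.1 : Matrix (Fin n) (Fin n) F) m.1 k.1
    simp only [Subgroup.coe_mul, Matrix.SpecialLinearGroup.coe_mul, Matrix.mul_apply]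
    rw [← Finset.sum_subtype (Finset.univ.filter fun m : Fin n => m ≠ i ∧ m ≠ j)
      (fun m => by simp) (fun m => (g.1 : Matrix (Fin n) (Fin n) F) l.1 m *
        (h.1 : Matrix (Fin n) (Fin n) F) m k.1)]
    symm
    apply Finset.sum_filter_of_ne
    intro m _ hm
    constructor
    · rintro rfl
      apply hm
      rw [Matrix.col_eq_zero_of_commute_single hg l.2.1, zero_mul]
    · rintro rfl
      apply hm
      rw [Matrix.row_eq_zero_of_commute_single hh k.2.2, mul_zero]

/-- Entries of an element of the kernel: off row `i` and column `j` it is the identity matrix. -/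
theorem entry_of_mem_ker (hF : Fintype.card F = 2)
    {g : ↥(Subgroup.centralizer ({t} : Set (Matrix.SpecialLinearGroup (Fin n) F)))}
    (hg : g ∈ (subHom i j t ht).ker) {l k : Fin n} (hl : l ≠ i) (hk : k ≠ j) :
    (g.1 : Matrix (Fin n) (Fin n) F) l k = if l = k then 1 else 0 := by
  have hc := commute_single_of_mem ht g.2
  by_cases hlj : l = j
  · subst hlj
    rw [if_neg (fun h => hk h.symm)]
    exact Matrix.row_eq_zero_of_commute_single hc hk
  by_cases hki : k = i
  · subst hki
    rw [if_neg hl]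
    exact Matrix.col_eq_zero_of_commute_single hc hl
  have h1 : subHom i j t ht g = 1 := hg
  have h2 := congrFun (congrFun h1 ⟨l, hl, hlj⟩) ⟨k, hki, hk⟩
  rw [Matrix.one_apply] at h2
  simp only [Subtype.mk.injEq] at h2
  exact h2

/-- The support of `N = g - 1` for `g` in the kernel. -/
theorem sub_one_entry_of_mem_ker (hF : Fintype.card F = 2)
    {g : ↥(Subgroup.centralizer ({t} : Set (Matrix.SpecialLinearGroup (Fin n) F)))}
    (hg : g ∈ (subHom i j t ht).ker) {l k : Fin n}
    (h1 : l ≠ i ∨ k = i) (h2 : k ≠ j ∨ l = j) :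
    ((g.1 : Matrix (Fin n) (Fin n) F) - 1) l k = 0 := by
  have hc := commute_single_of_mem ht g.2
  rw [Matrix.sub_apply, Matrix.one_apply]
  by_cases hl : l = i
  · have hk : k = i := by
      rcases h1 with h | h
      · exact absurd hl h
      · exact h
    rw [hl, hk, if_pos rfl, diag_eq_one hF hc, sub_self]
  · by_cases hk : k = j
    · have hlj : l = j := by
        rcases h2 with h | h
        · exact absurd hk h
        · exact h
      rw [hlj, hk, if_pos rfl, diag_eq_one' hF hc, sub_self]
    · rw [entry_of_mem_ker i j t ht hF hg hl hk, sub_self]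

end hom

/-- A matrix supported on row `i` (off the diagonal) and column `j` (off the diagonal), `i ≠ j`, has
square supported at the `(i, j)` entry. -/
theorem sq_entry {i j : Fin n} (hij : i ≠ j) (N : Matrix (Fin n) (Fin n) F)
    (hN : ∀ l k, (l ≠ i ∨ k = i) → (k ≠ j ∨ l = j) → N l k = 0) {l k : Fin n}
    (hlk : ¬ (l = i ∧ k = j)) : (N * N) l k = 0 := by
  rw [Matrix.mul_apply]
  apply Finset.sum_eq_zero
  intro m _
  by_cases h1 : N l m = 0
  · rw [h1, zero_mul]
  by_cases h2 : N m k = 0
  · rw [h2, mul_zero]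
  exfalso
  -- N l m ≠ 0: (l = i ∧ m ≠ i) ∨ (m = j ∧ l ≠ j)
  have a1 : ¬ ((l ≠ i ∨ m = i) ∧ (m ≠ j ∨ l = j)) := fun h => h1 (hN l m h.1 h.2)
  have a2 : ¬ ((m ≠ i ∨ k = i) ∧ (k ≠ j ∨ m = j)) := fun h => h2 (hN m k h.1 h.2)
  by_cases hl : l = i
  · by_cases hk : k = j
    · exact hlk ⟨hl, hk⟩
    · -- then from a2: need (m ≠ i ∨ k = i) false, i.e. m = i and k ≠ i; from a1 with l = i: m ≠ i
      apply a2
      refine ⟨?_, Or.inl hk⟩
      by_cases hm : m = i
      · exfalso
        apply a1
        exact ⟨Or.inr hm, Or.inl (by rw [hm]; exact hij)⟩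
      · exact Or.inl hm
  · -- l ≠ i: a1 says ¬ (m ≠ j ∨ l = j), so m = j and l ≠ j
    have hmj : m = j := by
      by_contra hm
      exact a1 ⟨Or.inl hl, Or.inl hm⟩
    apply a2
    refine ⟨Or.inl (by rw [hmj]; exact hij.symm), Or.inr hmj⟩

theorem sq_mul_sq {i j : Fin n} (hij : i ≠ j) (N : Matrix (Fin n) (Fin n) F)
    (hN : ∀ l k, (l ≠ i ∨ k = i) → (k ≠ j ∨ l = j) → N l k = 0) :
    (N * N) * (N * N) = 0 := by
  ext l k
  rw [Matrix.mul_apply, Matrix.zero_apply]
  apply Finset.sum_eq_zero
  intro m _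
  by_cases hm : m = j
  · rw [sq_entry hij N hN (l := m) (k := k) (fun h => hij (h.1.symm.trans hm)), mul_zero]
  · rw [sq_entry hij N hN (l := l) (k := m) (fun h => hm h.2), zero_mul]

theorem pow_four_eq_one (hF : Fintype.card F = 2) {i j : Fin n} (hij : i ≠ j)
    (M : Matrix (Fin n) (Fin n) F)
    (hN : ∀ l k, (l ≠ i ∨ k = i) → (k ≠ j ∨ l = j) → (M - 1) l k = 0) :
    (M * M) * (M * M) = 1 := by
  set N := M - 1 with hNdef
  have hM : M = 1 + N := by rw [hNdef]; abel
  have h2 : N + N = 0 := by
    ext l k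
    rw [Matrix.add_apply, Matrix.zero_apply]
    exact add_self_eq_zero' hF _
  have hMM : M * M = 1 + N * N := by
    rw [hM]
    calc (1 + N) * (1 + N) = 1 + (N + N) + N * N := by
          rw [mul_add, add_mul, add_mul, mul_one, one_mul, mul_one]; abel
      _ = 1 + N * N := by rw [h2, add_zero]
  have h22 : N * N + N * N = 0 := by
    ext l k
    rw [Matrix.add_apply, Matrix.zero_apply]
    exact add_self_eq_zero' hF _
  rw [hMM]
  calc (1 + N * N) * (1 + N * N) = 1 + (N * N + N * N) + (N * N) * (N * N) := by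
        rw [mul_add, add_mul, add_mul, mul_one, one_mul, mul_one]; abel
    _ = 1 := by rw [h22, sq_mul_sq hij N hN, add_zero, add_zero]

section main

variable (i j : Fin n) (t : Matrix.SpecialLinearGroup (Fin n) F)
  (ht : (t : Matrix (Fin n) (Fin n) F) = Matrix.transvection i j 1)

theorem isPGroup_ker (hF : Fintype.card F = 2) (hij : i ≠ j) :
    IsPGroup 2 ↥(subHom i j t ht).ker := by
  intro q
  refine ⟨2, ?_⟩
  apply Subtype.ext
  apply Subtype.ext
  apply Subtype.ext
  have h4 := pow_four_eq_one hF hij ((q.1.1 : Matrix.SpecialLinearGroup (Fin n) F) :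
      Matrix (Fin n) (Fin n) F)
    (fun l k h1 h2 => sub_one_entry_of_mem_ker i j t ht hF q.2 h1 h2)
  have : (q ^ 2 ^ 2 : ↥(subHom i j t ht).ker) = (q * q) * (q * q) := by
    rw [show (2 : ℕ) ^ 2 = 2 + 2 from rfl, pow_add, pow_two]
  rw [this]
  simp only [Subgroup.coe_mul, Matrix.SpecialLinearGroup.coe_mul, Subgroup.coe_one,
    Matrix.SpecialLinearGroup.coe_one]
  exact h4

/-- The transvection `1 + E_{ik}` as an element of `SL`. -/
noncomputable def tv (k : Fin n) (hk : i ≠ k) : Matrix.SpecialLinearGroup (Fin n) F :=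
  ⟨Matrix.transvection i k 1, Matrix.det_transvection_of_ne i k hk 1⟩

include ht in
theorem tv_mem (hij : i ≠ j) (k : Fin n) (hk : i ≠ k) :
    tv i k hk ∈ Subgroup.centralizer ({t} : Set (Matrix.SpecialLinearGroup (Fin n) F)) := by
  apply mem_of_commute_single ht
  change Commute (Matrix.single i j (1 : F)) (Matrix.transvection i k 1)
  rw [Matrix.transvection]
  apply Commute.add_right (Commute.one_right _)
  have h1 : Matrix.single i j (1 : F) * Matrix.single i k (1 : F) = 0 :=
    Matrix.single_mul_single_of_ne _ _ _ _ (Ne.symm hij) _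
  have h2 : Matrix.single i k (1 : F) * Matrix.single i j (1 : F) = 0 :=
    Matrix.single_mul_single_of_ne _ _ _ _ (Ne.symm hk) _
  rw [Commute, SemiconjBy, h1, h2]

theorem tv_mem_ker (hij : i ≠ j) (k : Fin n) (hk : i ≠ k) :
    (⟨tv i k hk, tv_mem i j t ht hij k hk⟩ :
      ↥(Subgroup.centralizer ({t} : Set (Matrix.SpecialLinearGroup (Fin n) F)))) ∈
      (subHom i j t ht).ker := by
  rw [MonoidHom.mem_ker]
  ext l m
  change (Matrix.transvection i k (1 : F)) l.1 m.1 = (1 : Matrix _ _ F) l m
  rw [Matrix.transvection, Matrix.add_apply, Matrix.one_apply, Matrix.one_apply,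
    Matrix.single_apply_of_row_ne (Ne.symm l.2.1), add_zero]
  by_cases h : l = m
  · rw [if_pos h, if_pos (congrArg Subtype.val h)]
  · rw [if_neg h, if_neg (fun h' => h (Subtype.ext h'))]

theorem centralizer_ker_le (hF : Fintype.card F = 2) (hij : i ≠ j) :
    Subgroup.centralizer ((subHom i j t ht).ker : Set ↥(Subgroup.centralizer
      ({t} : Set (Matrix.SpecialLinearGroup (Fin n) F)))) ≤ (subHom i j t ht).ker := by
  intro c hc
  rw [MonoidHom.mem_ker]
  have hcc := commute_single_of_mem ht c.2
  -- for each `k ≠ i, j`, `c` commutes with `1 + E_{ik}`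
  have hrow : ∀ k : Fin n, k ≠ i → k ≠ j →
      Commute (Matrix.single i k (1 : F)) (c.1 : Matrix (Fin n) (Fin n) F) := by
    intro k hki hkj
    have h1 := hc _ (tv_mem_ker i j t ht hij k (Ne.symm hki))
    -- h1 : x * c = c * x
    have h2 := congrArg (fun x : ↥(Subgroup.centralizer
      ({t} : Set (Matrix.SpecialLinearGroup (Fin n) F))) =>
        ((x.1 : Matrix.SpecialLinearGroup (Fin n) F) : Matrix (Fin n) (Fin n) F)) h1
    simp only [Subgroup.coe_mul, Matrix.SpecialLinearGroup.coe_mul] at h2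
    change Matrix.transvection i k (1 : F) * _ = _ * Matrix.transvection i k (1 : F) at h2
    rw [Matrix.transvection, mul_add, add_mul, mul_one, one_mul] at h2
    exact add_left_cancel h2
  ext l m
  change (c.1 : Matrix (Fin n) (Fin n) F) l.1 m.1 = (1 : Matrix _ _ F) l m
  rw [Matrix.one_apply]
  have hl := hrow l.1 l.2.1 l.2.2
  by_cases h : l = m
  · rw [if_pos h, ← h, ← Matrix.diag_eq_of_commute_single hl]
    exact diag_eq_one hF hcc
  · rw [if_neg h]
    exact Matrix.row_eq_zero_of_commute_single hl (fun h' => h (Subtype.ext h'.symm))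

end main

/-- Let F be a field with 2 elements, n ≥ 3, and t ∈ SL(n, F) a transvection (t = 1 + E_{ij}, i ≠ j). Then the generalized Fitting subgroup of C(t) is O_2(C(t)). -/
theorem result {F : Type*} [Field F] [Fintype F] [DecidableEq F] (hF : Fintype.card F = 2) (n : ℕ) (hn : 3 ≤ n) (i j : Fin n) (hij : i ≠ j) (t : Matrix.SpecialLinearGroup (Fin n) F) (ht : (t : Matrix (Fin n) (Fin n) F) = Matrix.transvection i j 1) : Cfsg.generalizedFittingSubgroup ↥(Subgroup.centralizer ({t} : Set (Matrix.SpecialLinearGroup (Fin n) F))) = Cfsg.pCore 2 ↥(Subgroup.centralizer ({t} : Set (Matrix.SpecialLinearGroup (Fin n) F))) := by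
  haveI : Fact (Nat.Prime 2) := ⟨Nat.prime_two⟩
  rw [Cfsg.Agent.Helper49.gfs_eq_pCore_iff]
  have hQ : (subHom i j t ht).ker ≤ Cfsg.pCore 2
      ↥(Subgroup.centralizer ({t} : Set (Matrix.SpecialLinearGroup (Fin n) F))) :=
    Cfsg.Agent.Lib.le_pCore (MonoidHom.normal_ker _) (isPGroup_ker i j t ht hF hij)
  exact (Subgroup.centralizer_le hQ).trans ((centralizer_ker_le i j t ht hF hij).trans hQ)

end Cfsg.Agent.S1339
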