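import Mathlib
import Cfsg.Prelude.Def_CaseTheorems
import Cfsg.Agent.Helper21.Quasisimple
import Cfsg.Agent.Helper22.PComponent3
import Cfsg.Agent.Helper5.PSL2Simple
import Cfsg.Agent.Lib.Cores

set_option autoImplicit false
open Cfsg

namespace Cfsg.Agent.S1340

open Matrix

/-- The image of a quasisimple subgroup `K` in a quotient `C ⧸ N` is quasisimple as soon as `K ≰ N`. -/
theorem isQuasisimple_map_mk_of_not_le {C : Type*} [Group C] (N K : Subgroup C) [N.Normal]
    (hK : IsQuasisimple ↥K) (hKN : ¬ K ≤ N) :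
    IsQuasisimple ↥(K.map (QuotientGroup.mk' N)) := by
  let f : ↥K →* ↥(K.map (QuotientGroup.mk' N)) := (QuotientGroup.mk' N).subgroupMap K
  have hf : Function.Surjective f := (QuotientGroup.mk' N).subgroupMap_surjective K
  have hker : f.ker ≠ ⊤ := by
    intro h
    apply hKN
    intro k hk
    have h1 : (⟨k, hk⟩ : ↥K) ∈ f.ker := by rw [h]; trivial
    rw [MonoidHom.mem_ker] at h1
    have h2 := congrArg Subtype.val h1
    have h3 : (QuotientGroup.mk' N) k = 1 := h2
    rwa [QuotientGroup.mk'_apply, QuotientGroup.eq_one_iff] at h3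
  have hcen : f.ker ≤ Subgroup.center ↥K := by
    rcases Cfsg.Agent.Helper21.IsQuasisimple.normal_eq_top_or_le_center hK f.ker with h | h
    · exact absurd h hker
    · exact h
  have hq := Cfsg.Agent.Helper22.isQuasisimple_quotient_of_le_center f.ker hcen hK
  exact Cfsg.Agent.Helper21.IsQuasisimple.of_mulEquiv
    (QuotientGroup.quotientKerEquivOfSurjective f hf) hq

variable {F : Type*} [Field F] [DecidableEq F] {m : ℕ}

/-- The diagonal `(-1, 1, …, 1)`. -/
def dvec (F : Type*) [Field F] (m : ℕ) : Fin (m + 1) → F := Fin.cons (-1) (fun _ => 1)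

@[simp] theorem dvec_zero : dvec F m 0 = -1 := rfl

@[simp] theorem dvec_succ (k : Fin m) : dvec F m k.succ = 1 := rfl

theorem dvec_mul_self (k : Fin (m + 1)) : dvec F m k * dvec F m k = 1 := by
  refine Fin.cases ?_ (fun k' => ?_) k
  · simp
  · simp

theorem diag_mul_diag :
    (Matrix.diagonal (dvec F m)) * (Matrix.diagonal (dvec F m)) = 1 := by
  rw [Matrix.diagonal_mul_diagonal]
  rw [← Matrix.diagonal_one]
  congr 1
  funext k
  exact dvec_mul_self k

/-- The involution `t = diag(-1, 1, …, 1)` of `GL_{m+1}(F)`. -/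
noncomputable def tt (F : Type*) [Field F] [DecidableEq F] (m : ℕ) : GL (Fin (m + 1)) F :=
  ⟨Matrix.diagonal (dvec F m), Matrix.diagonal (dvec F m), diag_mul_diag, diag_mul_diag⟩

omit [DecidableEq F] in
theorem two_ne_zero_of_odd [Fintype F] (hF : Odd (Fintype.card F)) : (2 : F) ≠ 0 := by
  intro h2
  have hchar : ringChar F = 2 := by
    have : ringChar F ∣ 2 := by
      have := (ringChar.spec F 2).mp (by exact_mod_cast h2)
      exact this
    rcases (Nat.dvd_prime Nat.prime_two).mp this with h | h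
    · exfalso
      have := CharP.ringChar_ne_one (R := F)
      exact this h
    · exact h
  have hdvd : 2 ∣ Fintype.card F := by
    have h0 : ((Fintype.card F : ℕ) : F) = 0 := FiniteField.cast_card_eq_zero F
    have := (ringChar.spec F (Fintype.card F)).mp h0
    rwa [hchar] at this
  rcases hF with ⟨k, hk⟩
  omega

section cent

theorem tt_coe : ((tt F m : GL (Fin (m + 1)) F) : Matrix (Fin (m + 1)) (Fin (m + 1)) F) =
    Matrix.diagonal (dvec F m) := rfl

theorem commute_of_mem {g : GL (Fin (m + 1)) F}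
    (hg : g ∈ Subgroup.centralizer ({tt F m} : Set (GL (Fin (m + 1)) F))) :
    (g : Matrix (Fin (m + 1)) (Fin (m + 1)) F) * Matrix.diagonal (dvec F m) =
      Matrix.diagonal (dvec F m) * (g : Matrix (Fin (m + 1)) (Fin (m + 1)) F) := by
  rw [Subgroup.mem_centralizer_singleton_iff] at hg
  have h := congrArg (fun x : GL (Fin (m + 1)) F => (x : Matrix (Fin (m + 1)) (Fin (m + 1)) F)) hg
  simpa only [Matrix.GeneralLinearGroup.coe_mul, tt_coe] using h

theorem mem_of_commute {g : GL (Fin (m + 1)) F}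
    (hg : (g : Matrix (Fin (m + 1)) (Fin (m + 1)) F) * Matrix.diagonal (dvec F m) =
      Matrix.diagonal (dvec F m) * (g : Matrix (Fin (m + 1)) (Fin (m + 1)) F)) :
    g ∈ Subgroup.centralizer ({tt F m} : Set (GL (Fin (m + 1)) F)) := by
  rw [Subgroup.mem_centralizer_singleton_iff]
  apply Units.ext
  simpa only [Matrix.GeneralLinearGroup.coe_mul, tt_coe] using hg

theorem entry_zero_succ (h2 : (2 : F) ≠ 0) {g : GL (Fin (m + 1)) F}
    (hg : g ∈ Subgroup.centralizer ({tt F m} : Set (GL (Fin (m + 1)) F))) (k : Fin m) :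
    (g : Matrix (Fin (m + 1)) (Fin (m + 1)) F) 0 k.succ = 0 := by
  have h := congrFun (congrFun (commute_of_mem hg) 0) k.succ
  rw [Matrix.mul_diagonal, Matrix.diagonal_mul, dvec_zero, dvec_succ] at h
  have : (2 : F) * (g : Matrix (Fin (m + 1)) (Fin (m + 1)) F) 0 k.succ = 0 := by
    linear_combination h
  rcases mul_eq_zero.mp this with h' | h'
  · exact absurd h' h2
  · exact h'

theorem entry_succ_zero (h2 : (2 : F) ≠ 0) {g : GL (Fin (m + 1)) F}
    (hg : g ∈ Subgroup.centralizer ({tt F m} : Set (GL (Fin (m + 1)) F))) (k : Fin m) :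
    (g : Matrix (Fin (m + 1)) (Fin (m + 1)) F) k.succ 0 = 0 := by
  have h := congrFun (congrFun (commute_of_mem hg) k.succ) 0
  rw [Matrix.mul_diagonal, Matrix.diagonal_mul, dvec_zero, dvec_succ] at h
  have : (2 : F) * (g : Matrix (Fin (m + 1)) (Fin (m + 1)) F) k.succ 0 = 0 := by
    linear_combination -h
  rcases mul_eq_zero.mp this with h' | h'
  · exact absurd h' h2
  · exact h'

variable (F m) in
/-- The `(0,0)` entry as a homomorphism on the centralizer. -/
noncomputable def chi0 (h2 : (2 : F) ≠ 0) :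
    ↥(Subgroup.centralizer ({tt F m} : Set (GL (Fin (m + 1)) F))) →* F where
  toFun g := (g.1 : Matrix (Fin (m + 1)) (Fin (m + 1)) F) 0 0
  map_one' := by simp
  map_mul' g h := by
    simp only [Subgroup.coe_mul, Matrix.GeneralLinearGroup.coe_mul, Matrix.mul_apply]
    rw [Fin.sum_univ_succ]
    have : ∑ k : Fin m, (g.1 : Matrix (Fin (m + 1)) (Fin (m + 1)) F) 0 k.succ *
        (h.1 : Matrix (Fin (m + 1)) (Fin (m + 1)) F) k.succ 0 = 0 := by
      apply Finset.sum_eq_zero
      intro k _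
      rw [entry_zero_succ h2 g.2 k, zero_mul]
    rw [this, add_zero]

variable (F m) in
/-- The lower right block as a homomorphism on the centralizer. -/
noncomputable def rho (h2 : (2 : F) ≠ 0) :
    ↥(Subgroup.centralizer ({tt F m} : Set (GL (Fin (m + 1)) F))) →* Matrix (Fin m) (Fin m) F where
  toFun g := (g.1 : Matrix (Fin (m + 1)) (Fin (m + 1)) F).submatrix Fin.succ Fin.succ
  map_one' := by
    ext a b
    simp [Matrix.one_apply]
  map_mul' g h := by
    ext a b
    simp only [Subgroup.coe_mul, Matrix.GeneralLinearGroup.coe_mul, Matrix.submatrix_apply,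
      Matrix.mul_apply]
    rw [Fin.sum_univ_succ, entry_succ_zero h2 g.2 a, zero_mul, zero_add]

variable (F m) in
/-- The subgroup `1 × SL_m(F)` of the centralizer of `t`. -/
noncomputable def KK (h2 : (2 : F) ≠ 0) :
    Subgroup ↥(Subgroup.centralizer ({tt F m} : Set (GL (Fin (m + 1)) F))) :=
  ((chi0 F m h2).prod (Matrix.detMonoidHom.comp (rho F m h2))).ker

theorem mem_KK (h2 : (2 : F) ≠ 0)
    (g : ↥(Subgroup.centralizer ({tt F m} : Set (GL (Fin (m + 1)) F)))) :
    g ∈ KK F m h2 ↔ (g.1 : Matrix (Fin (m + 1)) (Fin (m + 1)) F) 0 0 = 1 ∧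
      ((g.1 : Matrix (Fin (m + 1)) (Fin (m + 1)) F).submatrix Fin.succ Fin.succ).det = 1 := by
  unfold KK
  rw [MonoidHom.mem_ker, MonoidHom.prod_apply, Prod.mk_eq_one]
  rfl

instance KK_normal (h2 : (2 : F) ≠ 0) : (KK F m h2).Normal := by
  unfold KK
  exact MonoidHom.normal_ker _

variable (F m) in
/-- Restriction to the lower right block, `K → SL_m(F)`. -/
noncomputable def rhoK (h2 : (2 : F) ≠ 0) :
    ↥(KK F m h2) →* Matrix.SpecialLinearGroup (Fin m) F where
  toFun g := ⟨rho F m h2 g.1, ((mem_KK h2 g.1).mp g.2).2⟩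
  map_one' := by
    apply Subtype.ext
    simp
  map_mul' g h := by
    apply Subtype.ext
    simp only [Subgroup.coe_mul, map_mul]
    rfl

theorem rhoK_injective (h2 : (2 : F) ≠ 0) : Function.Injective (rhoK F m h2) := by
  intro g h hgh
  have h1 : rho F m h2 g.1 = rho F m h2 h.1 := congrArg Subtype.val hgh
  apply Subtype.ext
  apply Subtype.ext
  apply Units.ext
  ext a b
  refine Fin.cases ?_ (fun a' => ?_) a
  · refine Fin.cases ?_ (fun b' => ?_) b
    · rw [((mem_KK h2 g.1).mp g.2).1, ((mem_KK h2 h.1).mp h.2).1]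
    · rw [entry_zero_succ h2 g.1.2 b', entry_zero_succ h2 h.1.2 b']
  · refine Fin.cases ?_ (fun b' => ?_) b
    · rw [entry_succ_zero h2 g.1.2 a', entry_succ_zero h2 h.1.2 a']
    · exact congrFun (congrFun h1 a') b'

/-- The block matrix `diag(1, A)`. -/
def emb (A : Matrix (Fin m) (Fin m) F) : Matrix (Fin (m + 1)) (Fin (m + 1)) F :=
  Matrix.of fun a b =>
    Fin.cases (Fin.cases (1 : F) (fun _ => 0) b) (fun a' => Fin.cases (0 : F) (fun b' => A a' b') b) a

omit [DecidableEq F] in
@[simp] theorem emb_zero_zero (A : Matrix (Fin m) (Fin m) F) : emb A 0 0 = 1 := by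
  simp [emb]

omit [DecidableEq F] in
@[simp] theorem emb_zero_succ (A : Matrix (Fin m) (Fin m) F) (b : Fin m) : emb A 0 b.succ = 0 := by
  simp [emb]

omit [DecidableEq F] in
@[simp] theorem emb_succ_zero (A : Matrix (Fin m) (Fin m) F) (a : Fin m) : emb A a.succ 0 = 0 := by
  simp [emb]

omit [DecidableEq F] in
@[simp] theorem emb_succ_succ (A : Matrix (Fin m) (Fin m) F) (a b : Fin m) :
    emb A a.succ b.succ = A a b := by
  simp [emb]

omit [DecidableEq F] in
theorem emb_submatrix (A : Matrix (Fin m) (Fin m) F) :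
    (emb A).submatrix Fin.succ Fin.succ = A := by
  ext a b
  simp

omit [DecidableEq F] in
theorem det_emb (A : Matrix (Fin m) (Fin m) F) : (emb A).det = A.det := by
  rw [Matrix.det_succ_row_zero, Fin.sum_univ_succ]
  have : ∑ j : Fin m, (-1 : F) ^ ((j.succ : Fin (m + 1)) : ℕ) * emb A 0 j.succ *
      ((emb A).submatrix Fin.succ j.succ.succAbove).det = 0 := by
    apply Finset.sum_eq_zero
    intro j _
    rw [emb_zero_succ, mul_zero, zero_mul]
  rw [this, add_zero, Fin.succAbove_zero, emb_submatrix]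
  simp

theorem emb_commute (A : Matrix (Fin m) (Fin m) F) :
    emb A * Matrix.diagonal (dvec F m) = Matrix.diagonal (dvec F m) * emb A := by
  ext a b
  rw [Matrix.mul_diagonal, Matrix.diagonal_mul]
  refine Fin.cases ?_ (fun a' => ?_) a
  · refine Fin.cases ?_ (fun b' => ?_) b
    · simp
    · simp
  · refine Fin.cases ?_ (fun b' => ?_) b
    · simp
    · simp

theorem rhoK_surjective (h2 : (2 : F) ≠ 0) : Function.Surjective (rhoK F m h2) := by
  intro A
  have hdet : (emb (A : Matrix (Fin m) (Fin m) F)).det ≠ 0 := by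
    rw [det_emb, A.det_coe]
    exact one_ne_zero
  let g : GL (Fin (m + 1)) F := Matrix.GeneralLinearGroup.mkOfDetNeZero _ hdet
  have hgcoe : (g : Matrix (Fin (m + 1)) (Fin (m + 1)) F) = emb (A : Matrix (Fin m) (Fin m) F) := rfl
  have hgC : g ∈ Subgroup.centralizer ({tt F m} : Set (GL (Fin (m + 1)) F)) := by
    apply mem_of_commute
    rw [hgcoe]
    exact emb_commute _
  have hgK : (⟨g, hgC⟩ : ↥(Subgroup.centralizer ({tt F m} : Set (GL (Fin (m + 1)) F)))) ∈
      KK F m h2 := by
    rw [mem_KK]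
    change (g : Matrix (Fin (m + 1)) (Fin (m + 1)) F) 0 0 = 1 ∧
      ((g : Matrix (Fin (m + 1)) (Fin (m + 1)) F).submatrix Fin.succ Fin.succ).det = 1
    rw [hgcoe, emb_zero_zero, emb_submatrix, A.det_coe]
    exact ⟨rfl, rfl⟩
  refine ⟨⟨⟨g, hgC⟩, hgK⟩, ?_⟩
  apply Subtype.ext
  change (g : Matrix (Fin (m + 1)) (Fin (m + 1)) F).submatrix Fin.succ Fin.succ = _
  rw [hgcoe, emb_submatrix]

variable (F m) in
/-- `K ≃* SL_m(F)`. -/
noncomputable def equivK (h2 : (2 : F) ≠ 0) :
    ↥(KK F m h2) ≃* Matrix.SpecialLinearGroup (Fin m) F :=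
  MulEquiv.ofBijective (rhoK F m h2) ⟨rhoK_injective h2, rhoK_surjective h2⟩

end cent

section SL

/-- `SL_m(F)` is quasisimple for `m ≥ 3`, or `m = 2` and `|F| ≥ 4`. -/
theorem isQuasisimple_SL [Fintype F] (hm : 2 ≤ m) (h : 3 ≤ m ∨ 4 ≤ Fintype.card F) :
    IsQuasisimple (Matrix.SpecialLinearGroup (Fin m) F) := by
  haveI : Nontrivial (Fin m) := Fin.nontrivial_iff_two_le.mpr hm
  rcases h with h | h
  · refine ⟨⟨Cfsg.Agent.Helper5.commutator_SL_eq_top_of_three_le (by simpa using h)⟩, ?_⟩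
    exact Cfsg.Agent.S0249.simple_of_three_le (by simpa using h)
  · have hex := Cfsg.Agent.Helper5.exists_sq_ne_one_of_card h
    refine ⟨⟨Cfsg.Agent.Helper5.commutator_SL_eq_top_of_exists hex⟩, ?_⟩
    exact Cfsg.Agent.Helper5.isSimpleGroup_PSL_of_exists hex

/-- The diagonal `(-1, -1, 1, …, 1)`. -/
def d2 (F : Type*) [Field F] (m : ℕ) : Fin (m + 2) → F := Fin.cons (-1) (Fin.cons (-1) (fun _ => 1))

omit [DecidableEq F] in
theorem d2_mul_self (k : Fin (m + 2)) : d2 F m k * d2 F m k = 1 := by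
  refine Fin.cases ?_ (fun k' => ?_) k
  · simp [d2]
  · refine Fin.cases ?_ (fun k'' => ?_) k'
    · simp [d2]
    · simp [d2]

theorem two_dvd_card_SL [Fintype F] (h2 : (2 : F) ≠ 0) :
    2 ∣ Nat.card (Matrix.SpecialLinearGroup (Fin (m + 2)) F) := by
  have hdet : (Matrix.diagonal (d2 F m)).det = 1 := by
    rw [Matrix.det_diagonal, Fin.prod_univ_succ, Fin.prod_univ_succ]
    simp [d2]
  let s : Matrix.SpecialLinearGroup (Fin (m + 2)) F := ⟨Matrix.diagonal (d2 F m), hdet⟩
  have hs2 : s ^ 2 = 1 := by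
    apply Subtype.ext
    rw [pow_two]
    change Matrix.diagonal (d2 F m) * Matrix.diagonal (d2 F m) = 1
    rw [Matrix.diagonal_mul_diagonal, ← Matrix.diagonal_one]
    congr 1
    funext k
    exact d2_mul_self k
  have hs1 : s ≠ 1 := by
    intro h
    have h' := congrArg (fun x : Matrix.SpecialLinearGroup (Fin (m + 2)) F =>
      (x : Matrix (Fin (m + 2)) (Fin (m + 2)) F) 0 0) h
    change Matrix.diagonal (d2 F m) 0 0 = (1 : Matrix (Fin (m + 2)) (Fin (m + 2)) F) 0 0 at h'
    rw [Matrix.diagonal_apply_eq, Matrix.one_apply_eq] at h'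
    have h3 : (-1 : F) = 1 := h'
    apply h2
    linear_combination -h3
  haveI : Fact (Nat.Prime 2) := ⟨Nat.prime_two⟩
  have ho : orderOf s = 2 := orderOf_eq_prime hs2 hs1
  have := orderOf_dvd_natCard s
  rwa [ho] at this

end SL

/-- Let F be a finite field of odd order, n ≥ 3, (n, |F|) ≠ (3, 3). Then GL(n, F) has a noncentral involution t such that C(t)/O(C(t)) has a component. -/
theorem result {F : Type*} [Field F] [Fintype F] [DecidableEq F] (hF : Odd (Fintype.card F)) (n : ℕ) (hn : 3 ≤ n) (h33 : ¬ (n = 3 ∧ Fintype.card F = 3)) : ∃ t : Matrix.GeneralLinearGroup (Fin n) F, orderOf t = 2 ∧ t ∉ Subgroup.center (Matrix.GeneralLinearGroup (Fin n) F) ∧ Cfsg.HasComponent (↥(Subgroup.centralizer ({t} : Set (Matrix.GeneralLinearGroup (Fin n) F))) ⧸ Cfsg.oddCore ↥(Subgroup.centralizer ({t} : Set (Matrix.GeneralLinearGroup (Fin n) F)))) := by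
  obtain ⟨m, rfl⟩ : ∃ m, n = m + 1 := ⟨n - 1, by omega⟩
  have hm : 2 ≤ m := by omega
  have h2 : (2 : F) ≠ 0 := two_ne_zero_of_odd hF
  have hcard : 3 ≤ m ∨ 4 ≤ Fintype.card F := by
    by_cases h : 3 ≤ m
    · exact Or.inl h
    · right
      have hm2 : m = 2 := by omega
      have h3 : Fintype.card F ≠ 3 := fun h3 => h33 ⟨by omega, h3⟩
      have h1 : 1 < Fintype.card F := Fintype.one_lt_card
      rcases hF with ⟨k, hk⟩
      omega
  haveI : Fact (Nat.Prime 2) := ⟨Nat.prime_two⟩
  refine ⟨tt F m, ?_, ?_, ?_⟩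
  · apply orderOf_eq_prime
    · apply Units.ext
      rw [pow_two]
      exact diag_mul_diag
    · intro h
      have h' := congrArg (fun x : GL (Fin (m + 1)) F =>
        (x : Matrix (Fin (m + 1)) (Fin (m + 1)) F) 0 0) h
      change Matrix.diagonal (dvec F m) 0 0 = (1 : Matrix (Fin (m + 1)) (Fin (m + 1)) F) 0 0 at h'
      rw [Matrix.diagonal_apply_eq, Matrix.one_apply_eq, dvec_zero] at h'
      apply h2
      linear_combination -h'
  · intro hc
    -- every element of GL centralizes t; apply to a transvection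
    obtain ⟨m', rfl⟩ : ∃ m', m = m' + 1 := ⟨m - 1, by omega⟩
    have hdet : (Matrix.transvection (0 : Fin (m' + 1 + 1)) (Fin.succ 0) (1 : F)).det ≠ 0 := by
      rw [Matrix.det_transvection_of_ne _ _ (Fin.succ_ne_zero 0).symm]
      exact one_ne_zero
    let g : GL (Fin (m' + 1 + 1)) F := Matrix.GeneralLinearGroup.mkOfDetNeZero _ hdet
    have hg : g ∈ Subgroup.centralizer ({tt F (m' + 1)} : Set (GL (Fin (m' + 1 + 1)) F)) := by
      rw [Subgroup.mem_centralizer_singleton_iff]
      exact (Subgroup.mem_center_iff.mp hc g)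
    have h0 := entry_zero_succ h2 hg (0 : Fin (m' + 1))
    change (Matrix.transvection (0 : Fin (m' + 1 + 1)) (Fin.succ 0) (1 : F)) 0 (Fin.succ 0) = 0 at h0
    rw [Matrix.transvection, Matrix.add_apply, Matrix.single_apply_same,
      Matrix.one_apply_ne (Fin.succ_ne_zero 0).symm, zero_add] at h0
    exact one_ne_zero h0
  · -- the component
    have hSL : IsQuasisimple (Matrix.SpecialLinearGroup (Fin m) F) := isQuasisimple_SL hm hcard
    have hKq : IsQuasisimple ↥(KK F m h2) :=
      Cfsg.Agent.Helper21.IsQuasisimple.of_mulEquiv (equivK F m h2).symm hSL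
    have hK2 : 2 ∣ Nat.card ↥(KK F m h2) := by
      rw [Nat.card_congr (equivK F m h2).toEquiv]
      obtain ⟨m', rfl⟩ : ∃ m', m = m' + 2 := ⟨m - 2, by omega⟩
      exact two_dvd_card_SL h2
    have hnot : ¬ KK F m h2 ≤
        Cfsg.oddCore ↥(Subgroup.centralizer ({tt F m} : Set (GL (Fin (m + 1)) F))) := by
      intro hle
      have hodd := Cfsg.Agent.Lib.odd_card_oddCore
        (G := ↥(Subgroup.centralizer ({tt F m} : Set (GL (Fin (m + 1)) F))))
      have hdvd := Subgroup.card_dvd_of_le hle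
      have : Odd (Nat.card ↥(KK F m h2)) := Odd.of_dvd_nat hodd hdvd
      rw [Nat.odd_iff] at this
      omega
    refine ⟨(KK F m h2).map (QuotientGroup.mk' (Cfsg.oddCore _)), ?_, ?_⟩
    · exact ((KK_normal h2).map _ (QuotientGroup.mk'_surjective _)).isSubnormal
    · exact isQuasisimple_map_mk_of_not_le _ _ hKq hnot

end Cfsg.Agent.S1340
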