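import Cfsg.Statements.S1341
import Cfsg.Agent.Helper23.ExtLayer2

set_option autoImplicit false
open Cfsg

namespace Cfsg.Agent.S1341

open Cfsg.Agent.Helper23

/-- Let X be finite and T a Sylow 2-subgroup of L_{2'}(X) O_{2',2}(X). Then L*_{2'}(X) = L_{2'}(X) ⊔ O(X) ⊔ O(C_X(T)). -/
theorem result {X : Type*} [Group X] [Finite X] (T : Sylow 2 ↥(Cfsg.pLayer 2 X ⊔ Cfsg.pPrimePCore 2 X)) : Cfsg.extendedTwoLayer X = Cfsg.pLayer 2 X ⊔ Cfsg.oddCore X ⊔ ((Cfsg.oddCore ↥(Subgroup.centralizer (((T : Subgroup ↥(Cfsg.pLayer 2 X ⊔ Cfsg.pPrimePCore 2 X)).map (Cfsg.pLayer 2 X ⊔ Cfsg.pPrimePCore 2 X).subtype : Subgroup X) : Set X))).map (Subgroup.centralizer (((T : Subgroup ↥(Cfsg.pLayer 2 X ⊔ Cfsg.pPrimePCore 2 X)).map (Cfsg.pLayer 2 X ⊔ Cfsg.pPrimePCore 2 X).subtype : Subgroup X) : Set X)).subtype) := by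
  change Cfsg.extendedTwoLayer X = Cfsg.pLayer 2 X ⊔ Cfsg.oddCore X ⊔
    oddCoreCent ((T : Subgroup ↥(Cfsg.pLayer 2 X ⊔ Cfsg.pPrimePCore 2 X)).map
      (Cfsg.pLayer 2 X ⊔ Cfsg.pPrimePCore 2 X).subtype)
  have hdef : Cfsg.extendedTwoLayer X = Cfsg.pLayer 2 X ⊔ Cfsg.oddCore X ⊔
      ⨆ T₁ : Sylow 2 ↥(Cfsg.pLayer 2 X ⊔ Cfsg.pPrimePCore 2 X),
        oddCoreCent ((T₁ : Subgroup ↥(Cfsg.pLayer 2 X ⊔ Cfsg.pPrimePCore 2 X)).map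
          (Cfsg.pLayer 2 X ⊔ Cfsg.pPrimePCore 2 X).subtype) := rfl
  rw [hdef]
  apply le_antisymm
  · refine sup_le le_sup_left (iSup_le fun T₁ => ?_)
    obtain ⟨n, rfl⟩ := MulAction.exists_smul_eq ↥(Cfsg.pLayer 2 X ⊔ Cfsg.pPrimePCore 2 X) T T₁
    rw [sylow_smul_map_subtype, oddCoreCent_cj]
    have hn := layer_core_le_sup_sylow T n.2
    have hnorm : (T : Subgroup ↥(Cfsg.pLayer 2 X ⊔ Cfsg.pPrimePCore 2 X)).map
        (Cfsg.pLayer 2 X ⊔ Cfsg.pPrimePCore 2 X).subtype ≤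
        Subgroup.normalizer ((Cfsg.pLayer 2 X ⊔ Cfsg.oddCore X : Subgroup X) : Set X) := by
      rw [Subgroup.normalizer_eq_top]; exact le_top
    obtain ⟨m, hm, t, ht, hnmt⟩ := (mem_sup_iff_of_le_normalizer hnorm).mp hn
    rw [hnmt, cj_mul, cj_eq_self_of_le_centralizer (oddCoreCent_le_centralizer _) ht]
    exact cj_le_sup_of_mem hm
  · exact sup_le le_sup_left (le_trans (le_iSup (fun T₁ : Sylow 2 ↥(Cfsg.pLayer 2 X ⊔ Cfsg.pPrimePCore 2 X) =>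
      oddCoreCent ((T₁ : Subgroup ↥(Cfsg.pLayer 2 X ⊔ Cfsg.pPrimePCore 2 X)).map
        (Cfsg.pLayer 2 X ⊔ Cfsg.pPrimePCore 2 X).subtype)) T) le_sup_right)

end Cfsg.Agent.S1341
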