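import Cfsg.Statements.S1343
import Cfsg.Agent.S1341

set_option autoImplicit false
open Cfsg

namespace Cfsg.Agent.S1343

open Cfsg.Agent.Helper23

/-- Let X be finite. Then L*_{2'}(X) = L_{2'}(X) ⊔ F for some subgroup F of odd order normalized by a Sylow 2-subgroup of X. -/
theorem result {X : Type*} [Group X] [Finite X] : ∃ F : Subgroup X, Odd (Nat.card ↥F) ∧ (∃ S : Sylow 2 X, (S : Subgroup X) ≤ Subgroup.normalizer (F : Set X)) ∧ Cfsg.extendedTwoLayer X = Cfsg.pLayer 2 X ⊔ F := by
  have h2 : Fact (Nat.Prime 2) := ⟨Nat.prime_two⟩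
  obtain ⟨T⟩ : Nonempty (Sylow 2 ↥(Cfsg.pLayer 2 X ⊔ Cfsg.pPrimePCore 2 X)) := inferInstance
  have hT := isSylowIn_of_sylow T
  set T' : Subgroup X := (T : Subgroup ↥(Cfsg.pLayer 2 X ⊔ Cfsg.pPrimePCore 2 X)).map
      (Cfsg.pLayer 2 X ⊔ Cfsg.pPrimePCore 2 X).subtype with hT'
  obtain ⟨S, hTS⟩ := hT.2.1.exists_le_sylow
  refine ⟨Cfsg.oddCore X ⊔ oddCoreCent T', ?_, ⟨S, ?_⟩, ?_⟩
  · -- odd order
    have hO : (Nat.card ↥(Cfsg.oddCore X)).Coprime 2 := Cfsg.Agent.Lib.card_pPrimeCore_coprime 2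
    have hD : (Nat.card ↥(oddCoreCent T')).Coprime 2 := by
      unfold oddCoreCent pPrimeCoreOf
      rw [Subgroup.card_map_of_injective (Subgroup.subtype_injective _)]
      exact Cfsg.Agent.Lib.card_pPrimeCore_coprime 2
    have := Cfsg.Agent.Lib.card_sup_coprime_of_normal (H := oddCoreCent T') (K := Cfsg.oddCore X) hD hO
    rw [sup_comm] at this
    exact Nat.Coprime.odd_of_right this
  · -- normalized by S
    intro s hs
    have hN : (Cfsg.pLayer 2 X ⊔ Cfsg.pPrimePCore 2 X).Normal := inferInstance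
    -- cj s T' = T'
    have hcjT : cj s T' = T' := by
      have h1 : cj s T' ≤ Cfsg.pLayer 2 X ⊔ Cfsg.pPrimePCore 2 X := by
        have := cj_mono s hT.1
        intro x hx
        have hx' := this hx
        rw [mem_cj] at hx'
        have := hN.conj_mem _ hx' s
        simpa [mul_assoc] using this
      have h2' : IsPGroup 2 ↥(cj s T' ⊔ T') := by
        apply IsPGroup.to_le S.2
        refine sup_le ?_ hTS
        have := cj_mono s hTS
        rwa [cj_of_mem hs] at this
      have h3 := hT.2.2 (cj s T' ⊔ T') (sup_le h1 hT.1) h2' le_sup_right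
      have h4 : cj s T' ≤ T' := le_sup_left.trans (le_of_eq h3)
      have hcard : Nat.card ↥(cj s T') = Nat.card ↥T' :=
        Subgroup.card_map_of_injective (MulAut.conj s).injective
      exact Subgroup.eq_of_le_of_card_ge h4 (le_of_eq hcard.symm)
    have hcjD : cj s (oddCoreCent T') = oddCoreCent T' := by
      rw [← oddCoreCent_cj, hcjT]
    have hcjO : cj s (Cfsg.oddCore X) = Cfsg.oddCore X := by
      have hn : (Cfsg.oddCore X).Normal := inferInstance
      exact (Subgroup.mem_normalizer_iff_map_conj_eq.mp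
        (by rw [Subgroup.normalizer_eq_top]; trivial))
    rw [Subgroup.mem_normalizer_iff_map_conj_eq]
    show cj s (Cfsg.oddCore X ⊔ oddCoreCent T') = _
    unfold cj
    rw [Subgroup.map_sup]
    exact congrArg₂ (· ⊔ ·) hcjO hcjD
  · rw [← sup_assoc]
    exact Cfsg.Agent.S1341.result T

end Cfsg.Agent.S1343
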