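import Mathlib
import Cfsg.Prelude.Def_Balance
import Cfsg.Agent.Helper23.TwoComp

set_option autoImplicit false

namespace Cfsg.Agent.S1344

open Cfsg Cfsg.Agent.Helper22 Cfsg.Agent.Helper23

theorem result {X : Type*} [Group X] [Finite X] (K : Subgroup X) (hK : Cfsg.IsPComponent 2 K) : K ≤ Cfsg.extendedTwoLayer X ∧ (K.subgroupOf (Cfsg.extendedTwoLayer X)).Normal := by
  haveI : Fact (Nat.Prime 2) := ⟨Nat.prime_two⟩
  have hKE : K ≤ Cfsg.extendedTwoLayer X := by
    rw [extendedTwoLayer_eq]
    exact (IsPComponent.le_pLayer hK).trans (le_sup_left.trans le_sup_left)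
  refine ⟨hKE, ?_⟩
  rw [Subgroup.normal_subgroupOf_iff_le_normalizer hKE, extendedTwoLayer_eq]
  refine sup_le (sup_le (IsPComponent.pLayer_le_normalizer hK) ?_) ?_
  · exact (oddCore_le_pPrimePCore 2 X).trans (IsPComponent.pPrimePCore_le_normalizer hK)
  · refine iSup_le fun S => ?_
    exact (oddCoreCent_le_centralizer S.1).trans
      (IsPComponent.centralizer_le_normalizer_of_isSylowIn hK S.2)

end Cfsg.Agent.S1344
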