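import Mathlib
import Cfsg.Prelude.Def_CaseTheorems
import Cfsg.Prelude.Def_Local
import Cfsg.Agent.Helper21.Quasisimple
import Cfsg.Agent.Helper21.Components
import Cfsg.Agent.Helper21.Layer
import Cfsg.Agent.Helper5.PSL2Simple
import Cfsg.Agent.S1340

set_option autoImplicit false
open Cfsg

namespace Cfsg.Agent.S1348

open Matrix

variable {F : Type*} [Field F] [DecidableEq F] {m : ℕ}

/-- The diagonal `(-1, …, -1, 1)`. -/
def dv (F : Type*) [Field F] (m : ℕ) : Fin (m + 1) → F :=
  fun i => if (i : ℕ) + 1 = m + 1 then (1 : F) else -1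

omit [DecidableEq F] in
@[simp] theorem dv_last : dv F m (Fin.last m) = 1 := by
  simp [dv]

omit [DecidableEq F] in
@[simp] theorem dv_castSucc (k : Fin m) : dv F m k.castSucc = -1 := by
  have : ¬ ((k.castSucc : Fin (m + 1)) : ℕ) + 1 = m + 1 := by
    rw [Fin.val_castSucc]
    have := k.2
    omega
  unfold dv
  rw [if_neg this]

section cent

variable (t : Matrix.SpecialLinearGroup (Fin (m + 1)) F)
  (ht : (t : Matrix (Fin (m + 1)) (Fin (m + 1)) F) = Matrix.diagonal (dv F m))

include ht in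
theorem commute_of_mem {g : Matrix.SpecialLinearGroup (Fin (m + 1)) F}
    (hg : g ∈ Subgroup.centralizer ({t} : Set (Matrix.SpecialLinearGroup (Fin (m + 1)) F))) :
    (g : Matrix (Fin (m + 1)) (Fin (m + 1)) F) * Matrix.diagonal (dv F m) =
      Matrix.diagonal (dv F m) * (g : Matrix (Fin (m + 1)) (Fin (m + 1)) F) := by
  rw [Subgroup.mem_centralizer_singleton_iff] at hg
  have h := congrArg (fun x : Matrix.SpecialLinearGroup (Fin (m + 1)) F =>
    (x : Matrix (Fin (m + 1)) (Fin (m + 1)) F)) hg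
  simpa only [Matrix.SpecialLinearGroup.coe_mul, ht] using h

include ht in
theorem mem_of_commute {g : Matrix.SpecialLinearGroup (Fin (m + 1)) F}
    (hg : (g : Matrix (Fin (m + 1)) (Fin (m + 1)) F) * Matrix.diagonal (dv F m) =
      Matrix.diagonal (dv F m) * (g : Matrix (Fin (m + 1)) (Fin (m + 1)) F)) :
    g ∈ Subgroup.centralizer ({t} : Set (Matrix.SpecialLinearGroup (Fin (m + 1)) F)) := by
  rw [Subgroup.mem_centralizer_singleton_iff]
  apply Subtype.ext
  simpa only [Matrix.SpecialLinearGroup.coe_mul, ht] using hg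

include ht in
theorem entry_last_cast (h2 : (2 : F) ≠ 0) {g : Matrix.SpecialLinearGroup (Fin (m + 1)) F}
    (hg : g ∈ Subgroup.centralizer ({t} : Set (Matrix.SpecialLinearGroup (Fin (m + 1)) F)))
    (k : Fin m) : (g : Matrix (Fin (m + 1)) (Fin (m + 1)) F) (Fin.last m) k.castSucc = 0 := by
  have h := congrFun (congrFun (commute_of_mem t ht hg) (Fin.last m)) k.castSucc
  rw [Matrix.mul_diagonal, Matrix.diagonal_mul, dv_last, dv_castSucc] at h
  have : (2 : F) * (g : Matrix (Fin (m + 1)) (Fin (m + 1)) F) (Fin.last m) k.castSucc = 0 := by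
    linear_combination -h
  rcases mul_eq_zero.mp this with h' | h'
  · exact absurd h' h2
  · exact h'

include ht in
theorem entry_cast_last (h2 : (2 : F) ≠ 0) {g : Matrix.SpecialLinearGroup (Fin (m + 1)) F}
    (hg : g ∈ Subgroup.centralizer ({t} : Set (Matrix.SpecialLinearGroup (Fin (m + 1)) F)))
    (k : Fin m) : (g : Matrix (Fin (m + 1)) (Fin (m + 1)) F) k.castSucc (Fin.last m) = 0 := by
  have h := congrFun (congrFun (commute_of_mem t ht hg) k.castSucc) (Fin.last m)
  rw [Matrix.mul_diagonal, Matrix.diagonal_mul, dv_last, dv_castSucc] at h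
  have : (2 : F) * (g : Matrix (Fin (m + 1)) (Fin (m + 1)) F) k.castSucc (Fin.last m) = 0 := by
    linear_combination h
  rcases mul_eq_zero.mp this with h' | h'
  · exact absurd h' h2
  · exact h'

/-- The `(last, last)` entry as a homomorphism on the centralizer. -/
noncomputable def chiL (h2 : (2 : F) ≠ 0) :
    ↥(Subgroup.centralizer ({t} : Set (Matrix.SpecialLinearGroup (Fin (m + 1)) F))) →* F where
  toFun g := (g.1 : Matrix (Fin (m + 1)) (Fin (m + 1)) F) (Fin.last m) (Fin.last m)
  map_one' := by simp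
  map_mul' g h := by
    simp only [Subgroup.coe_mul, Matrix.SpecialLinearGroup.coe_mul, Matrix.mul_apply]
    rw [Fin.sum_univ_castSucc]
    have : ∑ k : Fin m, (g.1 : Matrix (Fin (m + 1)) (Fin (m + 1)) F) (Fin.last m) k.castSucc *
        (h.1 : Matrix (Fin (m + 1)) (Fin (m + 1)) F) k.castSucc (Fin.last m) = 0 := by
      apply Finset.sum_eq_zero
      intro k _
      rw [entry_last_cast t ht h2 g.2 k, zero_mul]
    rw [this, zero_add]

/-- The upper left block as a homomorphism on the centralizer. -/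
noncomputable def rhoL (h2 : (2 : F) ≠ 0) :
    ↥(Subgroup.centralizer ({t} : Set (Matrix.SpecialLinearGroup (Fin (m + 1)) F))) →*
      Matrix (Fin m) (Fin m) F where
  toFun g := (g.1 : Matrix (Fin (m + 1)) (Fin (m + 1)) F).submatrix Fin.castSucc Fin.castSucc
  map_one' := by
    ext a b
    simp [Matrix.one_apply]
  map_mul' g h := by
    ext a b
    simp only [Subgroup.coe_mul, Matrix.SpecialLinearGroup.coe_mul, Matrix.submatrix_apply,
      Matrix.mul_apply]
    rw [Fin.sum_univ_castSucc, entry_cast_last t ht h2 g.2 a, zero_mul, add_zero]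

include ht in
/-- The determinant of an element of the centralizer is the product of the block determinants. -/
theorem det_eq (h2 : (2 : F) ≠ 0) {g : Matrix.SpecialLinearGroup (Fin (m + 1)) F}
    (hg : g ∈ Subgroup.centralizer ({t} : Set (Matrix.SpecialLinearGroup (Fin (m + 1)) F))) :
    (g : Matrix (Fin (m + 1)) (Fin (m + 1)) F) (Fin.last m) (Fin.last m) *
      ((g : Matrix (Fin (m + 1)) (Fin (m + 1)) F).submatrix Fin.castSucc Fin.castSucc).det = 1 := by
  have hdet := g.det_coe
  rw [Matrix.det_succ_row _ (Fin.last m), Fin.sum_univ_castSucc] at hdet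
  have : ∑ j : Fin m, (-1 : F) ^ (((Fin.last m : Fin (m + 1)) : ℕ) + ((j.castSucc : Fin (m + 1)) : ℕ)) *
      (g : Matrix (Fin (m + 1)) (Fin (m + 1)) F) (Fin.last m) j.castSucc *
      ((g : Matrix (Fin (m + 1)) (Fin (m + 1)) F).submatrix (Fin.last m).succAbove
        j.castSucc.succAbove).det = 0 := by
    apply Finset.sum_eq_zero
    intro j _
    rw [entry_last_cast t ht h2 hg j, mul_zero, zero_mul]
  rw [this, zero_add, Fin.succAbove_last] at hdet
  have hsign : (-1 : F) ^ (((Fin.last m : Fin (m + 1)) : ℕ) + ((Fin.last m : Fin (m + 1)) : ℕ)) = 1 := by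
    rw [← two_mul, pow_mul]
    simp
  rw [hsign, one_mul] at hdet
  exact hdet

/-- The subgroup `SL_m(F) × 1` of the centralizer of `t`. -/
noncomputable def KL (h2 : (2 : F) ≠ 0) :
    Subgroup ↥(Subgroup.centralizer ({t} : Set (Matrix.SpecialLinearGroup (Fin (m + 1)) F))) :=
  (chiL t ht h2).ker

theorem mem_KL (h2 : (2 : F) ≠ 0)
    (g : ↥(Subgroup.centralizer ({t} : Set (Matrix.SpecialLinearGroup (Fin (m + 1)) F)))) :
    g ∈ KL t ht h2 ↔ (g.1 : Matrix (Fin (m + 1)) (Fin (m + 1)) F) (Fin.last m) (Fin.last m) = 1 := by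
  unfold KL
  rw [MonoidHom.mem_ker]
  rfl

instance KL_normal (h2 : (2 : F) ≠ 0) : (KL t ht h2).Normal := by
  unfold KL
  exact MonoidHom.normal_ker _

theorem det_block_of_mem_KL (h2 : (2 : F) ≠ 0)
    {g : ↥(Subgroup.centralizer ({t} : Set (Matrix.SpecialLinearGroup (Fin (m + 1)) F)))}
    (hg : g ∈ KL t ht h2) :
    ((g.1 : Matrix (Fin (m + 1)) (Fin (m + 1)) F).submatrix Fin.castSucc Fin.castSucc).det = 1 := by
  have h := det_eq t ht h2 g.2
  rw [(mem_KL t ht h2 g).mp hg, one_mul] at h
  exact h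

/-- Restriction to the upper left block, `K → SL_m(F)`. -/
noncomputable def rhoKL (h2 : (2 : F) ≠ 0) :
    ↥(KL t ht h2) →* Matrix.SpecialLinearGroup (Fin m) F where
  toFun g := ⟨rhoL t ht h2 g.1, det_block_of_mem_KL t ht h2 g.2⟩
  map_one' := by
    apply Subtype.ext
    simp
  map_mul' g h := by
    apply Subtype.ext
    simp only [Subgroup.coe_mul, map_mul]
    rfl

theorem rhoKL_injective (h2 : (2 : F) ≠ 0) : Function.Injective (rhoKL t ht h2) := by
  intro g h hgh
  have h1 : rhoL t ht h2 g.1 = rhoL t ht h2 h.1 := congrArg Subtype.val hgh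
  apply Subtype.ext
  apply Subtype.ext
  apply Subtype.ext
  ext a b
  refine Fin.lastCases ?_ (fun a' => ?_) a
  · refine Fin.lastCases ?_ (fun b' => ?_) b
    · rw [(mem_KL t ht h2 g.1).mp g.2, (mem_KL t ht h2 h.1).mp h.2]
    · rw [entry_last_cast t ht h2 g.1.2 b', entry_last_cast t ht h2 h.1.2 b']
  · refine Fin.lastCases ?_ (fun b' => ?_) b
    · rw [entry_cast_last t ht h2 g.1.2 a', entry_cast_last t ht h2 h.1.2 a']
    · exact congrFun (congrFun h1 a') b'

end cent

/-- The block matrix `diag(A, 1)`. -/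
def embL (A : Matrix (Fin m) (Fin m) F) : Matrix (Fin (m + 1)) (Fin (m + 1)) F :=
  Matrix.of fun a b =>
    Fin.lastCases (Fin.lastCases (1 : F) (fun _ => 0) b)
      (fun a' => Fin.lastCases (0 : F) (fun b' => A a' b') b) a

omit [DecidableEq F] in
@[simp] theorem embL_last_last (A : Matrix (Fin m) (Fin m) F) :
    embL A (Fin.last m) (Fin.last m) = 1 := by
  simp [embL]

omit [DecidableEq F] in
@[simp] theorem embL_last_cast (A : Matrix (Fin m) (Fin m) F) (b : Fin m) :
    embL A (Fin.last m) b.castSucc = 0 := by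
  simp [embL]

omit [DecidableEq F] in
@[simp] theorem embL_cast_last (A : Matrix (Fin m) (Fin m) F) (a : Fin m) :
    embL A a.castSucc (Fin.last m) = 0 := by
  simp [embL]

omit [DecidableEq F] in
@[simp] theorem embL_cast_cast (A : Matrix (Fin m) (Fin m) F) (a b : Fin m) :
    embL A a.castSucc b.castSucc = A a b := by
  simp [embL]

omit [DecidableEq F] in
theorem embL_submatrix (A : Matrix (Fin m) (Fin m) F) :
    (embL A).submatrix Fin.castSucc Fin.castSucc = A := by
  ext a b
  simp

omit [DecidableEq F] in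
theorem det_embL (A : Matrix (Fin m) (Fin m) F) : (embL A).det = A.det := by
  rw [Matrix.det_succ_row _ (Fin.last m), Fin.sum_univ_castSucc]
  have : ∑ j : Fin m, (-1 : F) ^ (((Fin.last m : Fin (m + 1)) : ℕ) + ((j.castSucc : Fin (m + 1)) : ℕ)) *
      embL A (Fin.last m) j.castSucc *
      ((embL A).submatrix (Fin.last m).succAbove j.castSucc.succAbove).det = 0 := by
    apply Finset.sum_eq_zero
    intro j _
    rw [embL_last_cast, mul_zero, zero_mul]
  rw [this, zero_add, Fin.succAbove_last, embL_submatrix, embL_last_last, mul_one]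
  have hsign : (-1 : F) ^ (((Fin.last m : Fin (m + 1)) : ℕ) + ((Fin.last m : Fin (m + 1)) : ℕ)) = 1 := by
    rw [← two_mul, pow_mul]
    simp
  rw [hsign, one_mul]

theorem embL_commute (A : Matrix (Fin m) (Fin m) F) :
    embL A * Matrix.diagonal (dv F m) = Matrix.diagonal (dv F m) * embL A := by
  ext a b
  rw [Matrix.mul_diagonal, Matrix.diagonal_mul]
  refine Fin.lastCases ?_ (fun a' => ?_) a
  · refine Fin.lastCases ?_ (fun b' => ?_) b
    · simp
    · simp
  · refine Fin.lastCases ?_ (fun b' => ?_) b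
    · simp
    · simp

section cent2

variable (t : Matrix.SpecialLinearGroup (Fin (m + 1)) F)
  (ht : (t : Matrix (Fin (m + 1)) (Fin (m + 1)) F) = Matrix.diagonal (dv F m))

/-- `diag(A, 1)` as an element of `SL_{m+1}(F)`. -/
def embSL (A : Matrix.SpecialLinearGroup (Fin m) F) : Matrix.SpecialLinearGroup (Fin (m + 1)) F :=
  ⟨embL (A : Matrix (Fin m) (Fin m) F), by rw [det_embL, A.det_coe]⟩

include ht in
theorem embSL_mem (A : Matrix.SpecialLinearGroup (Fin m) F) :
    embSL A ∈ Subgroup.centralizer ({t} : Set (Matrix.SpecialLinearGroup (Fin (m + 1)) F)) := by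
  apply mem_of_commute t ht
  exact embL_commute _

theorem embSL_mem_KL (h2 : (2 : F) ≠ 0) (A : Matrix.SpecialLinearGroup (Fin m) F) :
    (⟨embSL A, embSL_mem t ht A⟩ :
      ↥(Subgroup.centralizer ({t} : Set (Matrix.SpecialLinearGroup (Fin (m + 1)) F)))) ∈
      KL t ht h2 := by
  rw [mem_KL]
  exact embL_last_last _

theorem rhoKL_surjective (h2 : (2 : F) ≠ 0) : Function.Surjective (rhoKL t ht h2) := by
  intro A
  refine ⟨⟨⟨embSL A, embSL_mem t ht A⟩, embSL_mem_KL t ht h2 A⟩, ?_⟩
  apply Subtype.ext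
  exact embL_submatrix _

/-- `K ≃* SL_m(F)`. -/
noncomputable def equivKL (h2 : (2 : F) ≠ 0) :
    ↥(KL t ht h2) ≃* Matrix.SpecialLinearGroup (Fin m) F :=
  MulEquiv.ofBijective (rhoKL t ht h2) ⟨rhoKL_injective t ht h2, rhoKL_surjective t ht h2⟩

/-- The image of `K` in `SL_{m+1}(F)`. -/
noncomputable def KG (h2 : (2 : F) ≠ 0) : Subgroup (Matrix.SpecialLinearGroup (Fin (m + 1)) F) :=
  (KL t ht h2).map (Subgroup.centralizer
    ({t} : Set (Matrix.SpecialLinearGroup (Fin (m + 1)) F))).subtype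

theorem mem_KG_iff (h2 : (2 : F) ≠ 0) (g : Matrix.SpecialLinearGroup (Fin (m + 1)) F) :
    g ∈ KG t ht h2 ↔
      g ∈ Subgroup.centralizer ({t} : Set (Matrix.SpecialLinearGroup (Fin (m + 1)) F)) ∧
        (g : Matrix (Fin (m + 1)) (Fin (m + 1)) F) (Fin.last m) (Fin.last m) = 1 := by
  unfold KG
  constructor
  · rintro ⟨x, hx, rfl⟩
    exact ⟨x.2, (mem_KL t ht h2 x).mp hx⟩
  · rintro ⟨hg, h1⟩
    exact ⟨⟨g, hg⟩, (mem_KL t ht h2 ⟨g, hg⟩).mpr h1, rfl⟩

omit [DecidableEq F] in
theorem transvection_commute_diag (d : Fin (m + 1) → F) (a b : Fin (m + 1)) (hd : d a = d b) :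
    Matrix.transvection a b (1 : F) * Matrix.diagonal d =
      Matrix.diagonal d * Matrix.transvection a b (1 : F) := by
  ext i j
  rw [Matrix.mul_diagonal, Matrix.diagonal_mul, Matrix.transvection, Matrix.add_apply,
    Matrix.one_apply, Matrix.single_apply]
  by_cases hij : i = j
  · subst hij; ring
  · rw [if_neg hij, zero_add]
    by_cases h : a = i ∧ b = j
    · rw [if_pos h]
      obtain ⟨rfl, rfl⟩ := h
      rw [hd]; ring
    · rw [if_neg h]; ring

/-- The transvection `1 + E_{kl}` (`k ≠ l` in the first block) as an element of `SL_{m+1}(F)`. -/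
def tvL (k l : Fin m) (hkl : k ≠ l) : Matrix.SpecialLinearGroup (Fin (m + 1)) F :=
  ⟨Matrix.transvection k.castSucc l.castSucc 1,
    Matrix.det_transvection_of_ne _ _ (fun h => hkl (Fin.castSucc_injective _ h)) 1⟩

theorem tvL_mem_KG (h2 : (2 : F) ≠ 0) (k l : Fin m) (hkl : k ≠ l) :
    tvL k l hkl ∈ KG t ht h2 := by
  rw [mem_KG_iff]
  constructor
  · apply mem_of_commute t ht
    exact transvection_commute_diag _ _ _ (by rw [dv_castSucc, dv_castSucc])
  · change Matrix.transvection k.castSucc l.castSucc (1 : F) (Fin.last m) (Fin.last m) = 1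
    rw [Matrix.transvection, Matrix.add_apply, Matrix.one_apply_eq,
      Matrix.single_apply_of_row_ne (Fin.castSucc_ne_last k), add_zero]

/-- An element centralizing `K` commutes with the matrix units `E_{kl}` of the first block. -/
theorem commute_single_of_mem_centralizer (h2 : (2 : F) ≠ 0)
    {g : Matrix.SpecialLinearGroup (Fin (m + 1)) F}
    (hg : g ∈ Subgroup.centralizer ((KG t ht h2 : Subgroup _) :
      Set (Matrix.SpecialLinearGroup (Fin (m + 1)) F))) (k l : Fin m) (hkl : k ≠ l) :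
    Commute (Matrix.single k.castSucc l.castSucc (1 : F))
      (g : Matrix (Fin (m + 1)) (Fin (m + 1)) F) := by
  have h1 := hg _ (tvL_mem_KG t ht h2 k l hkl)
  have h3 := congrArg (fun x : Matrix.SpecialLinearGroup (Fin (m + 1)) F =>
    (x : Matrix (Fin (m + 1)) (Fin (m + 1)) F)) h1
  simp only [Matrix.SpecialLinearGroup.coe_mul] at h3
  change Matrix.transvection k.castSucc l.castSucc (1 : F) * _ =
    _ * Matrix.transvection k.castSucc l.castSucc (1 : F) at h3
  rw [Matrix.transvection, mul_add, add_mul, mul_one, one_mul] at h3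
  exact add_left_cancel h3

/-- Elements of `C_G(K)` are diagonal. -/
theorem offdiag_of_mem_centralizer (h2 : (2 : F) ≠ 0) (hm : 2 ≤ m)
    {g : Matrix.SpecialLinearGroup (Fin (m + 1)) F}
    (hg : g ∈ Subgroup.centralizer ((KG t ht h2 : Subgroup _) :
      Set (Matrix.SpecialLinearGroup (Fin (m + 1)) F))) {i j : Fin (m + 1)} (hij : i ≠ j) :
    (g : Matrix (Fin (m + 1)) (Fin (m + 1)) F) i j = 0 := by
  haveI : Nontrivial (Fin m) := Fin.nontrivial_iff_two_le.mpr hm
  revert hij
  refine Fin.lastCases ?_ (fun i' => ?_) i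
  · refine Fin.lastCases ?_ (fun j' => ?_) j
    · intro h; exact absurd rfl h
    · intro _
      -- column `j'` is zero off the diagonal
      obtain ⟨l, hl⟩ := exists_ne j'
      exact Matrix.col_eq_zero_of_commute_single
        (commute_single_of_mem_centralizer t ht h2 hg j' l hl.symm) (Fin.castSucc_ne_last j').symm
  · intro hij
    -- row `i'` is zero off the diagonal
    obtain ⟨k, hk⟩ := exists_ne i'
    exact Matrix.row_eq_zero_of_commute_single
      (commute_single_of_mem_centralizer t ht h2 hg k i' hk) hij.symm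

/-- Elements of `C_G(K)` are scalar on the first block. -/
theorem diag_eq_of_mem_centralizer (h2 : (2 : F) ≠ 0)
    {g : Matrix.SpecialLinearGroup (Fin (m + 1)) F}
    (hg : g ∈ Subgroup.centralizer ((KG t ht h2 : Subgroup _) :
      Set (Matrix.SpecialLinearGroup (Fin (m + 1)) F))) (k l : Fin m) :
    (g : Matrix (Fin (m + 1)) (Fin (m + 1)) F) k.castSucc k.castSucc =
      (g : Matrix (Fin (m + 1)) (Fin (m + 1)) F) l.castSucc l.castSucc := by
  by_cases hkl : k = l
  · rw [hkl]
  · exact Matrix.diag_eq_of_commute_single (commute_single_of_mem_centralizer t ht h2 hg k l hkl)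

/-- Elements of `C_G(K)` are diagonal matrices. -/
theorem coe_eq_diagonal_of_mem_centralizer (h2 : (2 : F) ≠ 0) (hm : 2 ≤ m)
    {g : Matrix.SpecialLinearGroup (Fin (m + 1)) F}
    (hg : g ∈ Subgroup.centralizer ((KG t ht h2 : Subgroup _) :
      Set (Matrix.SpecialLinearGroup (Fin (m + 1)) F))) :
    (g : Matrix (Fin (m + 1)) (Fin (m + 1)) F) =
      Matrix.diagonal (fun i => (g : Matrix (Fin (m + 1)) (Fin (m + 1)) F) i i) := by
  ext i j
  by_cases hij : i = j
  · rw [hij, Matrix.diagonal_apply_eq]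
  · rw [Matrix.diagonal_apply_ne _ hij, offdiag_of_mem_centralizer t ht h2 hm hg hij]

/-- `C_G(K)` is commutative. -/
theorem centralizer_KG_comm (h2 : (2 : F) ≠ 0) (hm : 2 ≤ m)
    {z₁ z₂ : Matrix.SpecialLinearGroup (Fin (m + 1)) F}
    (h₁ : z₁ ∈ Subgroup.centralizer ((KG t ht h2 : Subgroup _) :
      Set (Matrix.SpecialLinearGroup (Fin (m + 1)) F)))
    (h₂ : z₂ ∈ Subgroup.centralizer ((KG t ht h2 : Subgroup _) :
      Set (Matrix.SpecialLinearGroup (Fin (m + 1)) F))) : z₁ * z₂ = z₂ * z₁ := by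
  apply Subtype.ext
  rw [Matrix.SpecialLinearGroup.coe_mul, Matrix.SpecialLinearGroup.coe_mul,
    coe_eq_diagonal_of_mem_centralizer t ht h2 hm h₁,
    coe_eq_diagonal_of_mem_centralizer t ht h2 hm h₂,
    Matrix.diagonal_mul_diagonal, Matrix.diagonal_mul_diagonal]
  congr 1
  funext i
  exact mul_comm _ _

theorem t_mem_centralizer_KG (h2 : (2 : F) ≠ 0) :
    t ∈ Subgroup.centralizer ((KG t ht h2 : Subgroup _) :
      Set (Matrix.SpecialLinearGroup (Fin (m + 1)) F)) := by
  intro x hx
  have hx' := ((mem_KG_iff t ht h2 x).mp hx).1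
  rw [Subgroup.mem_centralizer_singleton_iff] at hx'
  exact hx'

include ht in
theorem t_sq : t ^ 2 = 1 := by
  apply Subtype.ext
  rw [pow_two, Matrix.SpecialLinearGroup.coe_mul, ht, Matrix.diagonal_mul_diagonal,
    Matrix.SpecialLinearGroup.coe_one, ← Matrix.diagonal_one]
  congr 1
  funext i
  refine Fin.lastCases ?_ (fun k => ?_) i
  · simp
  · simp

include ht in
theorem t_ne_one (h2 : (2 : F) ≠ 0) (hm : 1 ≤ m) : t ≠ 1 := by
  intro h
  have h' := congrArg (fun x : Matrix.SpecialLinearGroup (Fin (m + 1)) F =>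
    (x : Matrix (Fin (m + 1)) (Fin (m + 1)) F) (Fin.castSucc ⟨0, hm⟩) (Fin.castSucc ⟨0, hm⟩)) h
  simp only [ht, Matrix.SpecialLinearGroup.coe_one, Matrix.diagonal_apply_eq,
    Matrix.one_apply_eq, dv_castSucc] at h'
  apply h2
  linear_combination -h'

/-- The only involution of `C_G(K)` is `t`. -/
theorem eq_t_of_sq_eq_one (h2 : (2 : F) ≠ 0) (hm : 2 ≤ m) (hev : Even m)
    {z : Matrix.SpecialLinearGroup (Fin (m + 1)) F}
    (hz : z ∈ Subgroup.centralizer ((KG t ht h2 : Subgroup _) :
      Set (Matrix.SpecialLinearGroup (Fin (m + 1)) F))) (hz2 : z ^ 2 = 1) (hz1 : z ≠ 1) : z = t := by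
  have hdiag := coe_eq_diagonal_of_mem_centralizer t ht h2 hm hz
  set e : Fin (m + 1) → F := fun i => (z : Matrix (Fin (m + 1)) (Fin (m + 1)) F) i i with he
  have hsq : ∀ i, e i * e i = 1 := by
    intro i
    have h := congrArg (fun x : Matrix.SpecialLinearGroup (Fin (m + 1)) F =>
      (x : Matrix (Fin (m + 1)) (Fin (m + 1)) F) i i) hz2
    simp only [pow_two, Matrix.SpecialLinearGroup.coe_mul, Matrix.SpecialLinearGroup.coe_one,
      Matrix.one_apply_eq] at h
    rw [hdiag, Matrix.diagonal_mul_diagonal, Matrix.diagonal_apply_eq] at h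
    exact h
  let k₀ : Fin m := ⟨0, by omega⟩
  set a := e k₀.castSucc with ha
  set b := e (Fin.last m) with hb
  have hea : ∀ k : Fin m, e k.castSucc = a := fun k => diag_eq_of_mem_centralizer t ht h2 hz k k₀
  have hdet : a ^ m * b = 1 := by
    have h := z.det_coe
    rw [hdiag, Matrix.det_diagonal, Fin.prod_univ_castSucc] at h
    simp only [hea, Finset.prod_const, Finset.card_univ, Fintype.card_fin] at h
    exact h
  have ham : a ^ m = 1 := by
    obtain ⟨r, hr⟩ := hev
    rw [hr, ← two_mul, pow_mul, pow_two, hsq, one_pow]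
  have hb1 : b = 1 := by rw [ham, one_mul] at hdet; exact hdet
  have ha1 : a = 1 ∨ a = -1 := by
    have h := hsq k₀.castSucc
    have : (a - 1) * (a + 1) = 0 := by linear_combination h
    rcases mul_eq_zero.mp this with h' | h'
    · left; linear_combination h'
    · right; linear_combination h'
  rcases ha1 with ha1 | ha1
  · exfalso
    apply hz1
    apply Subtype.ext
    rw [hdiag, Matrix.SpecialLinearGroup.coe_one, ← Matrix.diagonal_one]
    congr 1
    funext i
    refine Fin.lastCases ?_ (fun k => ?_) i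
    · exact hb1
    · rw [hea k, ha1]
  · apply Subtype.ext
    rw [hdiag, ht]
    congr 1
    funext i
    refine Fin.lastCases ?_ (fun k => ?_) i
    · rw [dv_last]; exact hb1
    · rw [dv_castSucc, hea k, ha1]

/-- The centralizer of `t` normalizes `K`. -/
theorem centralizer_le_normalizer_KG (h2 : (2 : F) ≠ 0) :
    Subgroup.centralizer ({t} : Set (Matrix.SpecialLinearGroup (Fin (m + 1)) F)) ≤
      Subgroup.normalizer ((KG t ht h2 : Subgroup _) :
        Set (Matrix.SpecialLinearGroup (Fin (m + 1)) F)) := by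
  have h1 := Subgroup.le_normalizer_map (H := KL t ht h2)
    (Subgroup.centralizer ({t} : Set (Matrix.SpecialLinearGroup (Fin (m + 1)) F))).subtype
  rw [Subgroup.normalizer_eq_top (KL t ht h2), ← MonoidHom.range_eq_map, Subgroup.range_subtype] at h1
  exact h1

end cent2

/-- The normalizer of a subgroup normalizes its centralizer. -/
theorem normalizer_le_normalizer_centralizer {G : Type*} [Group G] (H : Subgroup G) :
    Subgroup.normalizer (H : Set G) ≤
      Subgroup.normalizer ((Subgroup.centralizer (H : Set G) : Subgroup G) : Set G) := by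
  intro g hg
  rw [Subgroup.mem_normalizer_iff] at hg ⊢
  intro z
  constructor
  · intro hz h hh
    have h1 : g⁻¹ * h * g ∈ H := by
      rw [hg (g⁻¹ * h * g)]
      simpa [mul_assoc] using hh
    have h2 := hz _ h1
    calc h * (g * z * g⁻¹) = g * ((g⁻¹ * h * g) * z) * g⁻¹ := by group
      _ = g * (z * (g⁻¹ * h * g)) * g⁻¹ := by rw [h2]
      _ = g * z * g⁻¹ * h := by group
  · intro hz h hh
    have h1 : g * h * g⁻¹ ∈ H := (hg h).mp hh
    have h2 := hz _ h1
    calc h * z = g⁻¹ * ((g * h * g⁻¹) * (g * z * g⁻¹)) * g := by group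
      _ = g⁻¹ * ((g * z * g⁻¹) * (g * h * g⁻¹)) * g := by rw [h2]
      _ = z * h := by group

section final

variable [Fintype F] (t : Matrix.SpecialLinearGroup (Fin (m + 1)) F)
  (ht : (t : Matrix (Fin (m + 1)) (Fin (m + 1)) F) = Matrix.diagonal (dv F m))

theorem isQuasisimple_KL (h2 : (2 : F) ≠ 0) (hm : 3 ≤ m) : IsQuasisimple ↥(KL t ht h2) :=
  Cfsg.Agent.Helper21.IsQuasisimple.of_mulEquiv (equivKL t ht h2).symm
    (Cfsg.Agent.S1340.isQuasisimple_SL (by omega) (Or.inl hm))

theorem isComponent_KL (h2 : (2 : F) ≠ 0) (hm : 3 ≤ m) : IsComponent (KL t ht h2) :=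
  ⟨(KL_normal t ht h2).isSubnormal, isQuasisimple_KL t ht h2 hm⟩

theorem layer_eq_KL (h2 : (2 : F) ≠ 0) (hm : 3 ≤ m) :
    Cfsg.layer ↥(Subgroup.centralizer ({t} : Set (Matrix.SpecialLinearGroup (Fin (m + 1)) F))) =
      KL t ht h2 := by
  unfold Cfsg.layer
  apply le_antisymm
  · apply sSup_le
    intro J hJ
    have hJ' : IsComponent J := hJ
    by_contra hle
    have hne : J ≠ KL t ht h2 := fun h => hle (h ▸ le_rfl)
    -- `J` commutes with `K`, hence lies in the commutative group `C_G(K)`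
    have hJZ : ∀ x ∈ J, (x : Matrix.SpecialLinearGroup (Fin (m + 1)) F) ∈
        Subgroup.centralizer ((KG t ht h2 : Subgroup _) :
          Set (Matrix.SpecialLinearGroup (Fin (m + 1)) F)) := by
      intro x hx y hy
      obtain ⟨y', hy', rfl⟩ := hy
      have hc := Cfsg.Agent.Helper21.IsComponent.commute_of_ne hJ' (isComponent_KL t ht h2 hm) hne hx hy'
      have := congrArg Subtype.val hc.eq
      exact this.symm
    apply Cfsg.Agent.Helper21.IsQuasisimple.not_isSolvable hJ'.2
    apply Group.isSolvable_of_comm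
    intro x y
    apply Subtype.ext
    apply Subtype.ext
    exact centralizer_KG_comm t ht h2 (by omega) (hJZ x.1 x.2) (hJZ y.1 y.2)
  · exact le_sSup (isComponent_KL t ht h2 hm)

end final

/-- Let F be a finite field of odd order, n ≥ 7 odd, and t ∈ SL(n, F) the diagonal matrix with entries −1, …, −1, 1. Then E(C(t)) is a standard subgroup of SL(n, F). -/
theorem result {F : Type*} [Field F] [Fintype F] [DecidableEq F] (hF : Odd (Fintype.card F)) (n : ℕ) (hn : 7 ≤ n) (hodd : Odd n) (t : Matrix.SpecialLinearGroup (Fin n) F) (ht : (t : Matrix (Fin n) (Fin n) F) = Matrix.diagonal (fun i : Fin n => if (i : ℕ) + 1 = n then (1 : F) else -1)) : Cfsg.IsStandardSubgroup ((Cfsg.layer ↥(Subgroup.centralizer ({t} : Set (Matrix.SpecialLinearGroup (Fin n) F)))).map (Subgroup.centralizer ({t} : Set (Matrix.SpecialLinearGroup (Fin n) F))).subtype) := by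
  obtain ⟨m, rfl⟩ : ∃ m, n = m + 1 := ⟨n - 1, by omega⟩
  have hm : 3 ≤ m := by omega
  have hm2 : 2 ≤ m := by omega
  have hev : Even m := by
    rcases hodd with ⟨k, hk⟩
    exact ⟨k, by omega⟩
  have h2 : (2 : F) ≠ 0 := Cfsg.Agent.S1340.two_ne_zero_of_odd hF
  have ht' : (t : Matrix (Fin (m + 1)) (Fin (m + 1)) F) = Matrix.diagonal (dv F m) := ht
  rw [layer_eq_KL t ht' h2 hm]
  change Cfsg.IsStandardSubgroup (KG t ht' h2)
  have hq : IsQuasisimple ↥(KG t ht' h2) :=
    Cfsg.Agent.Helper21.IsQuasisimple.of_mulEquiv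
      (Subgroup.equivMapOfInjective (KL t ht' h2) _ (Subgroup.subtype_injective _))
      (isQuasisimple_KL t ht' h2 hm)
  haveI : Fact (Nat.Prime 2) := ⟨Nat.prime_two⟩
  have hto : orderOf t = 2 := orderOf_eq_prime (t_sq t ht') (t_ne_one t ht' h2 (by omega))
  -- conjugates of `t` in `C_G(K)` equal `t`
  have hconjt : ∀ g : Matrix.SpecialLinearGroup (Fin (m + 1)) F,
      g * t * g⁻¹ ∈ Subgroup.centralizer ((KG t ht' h2 : Subgroup _) :
        Set (Matrix.SpecialLinearGroup (Fin (m + 1)) F)) →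
      g ∈ Subgroup.centralizer ({t} : Set (Matrix.SpecialLinearGroup (Fin (m + 1)) F)) := by
    intro g hg
    have h1 : (g * t * g⁻¹) ^ 2 = 1 := by
      rw [conj_pow, t_sq t ht', mul_one, mul_inv_cancel]
    have h3 : g * t * g⁻¹ ≠ 1 := by
      intro h
      apply t_ne_one t ht' h2 (by omega)
      have : t = g⁻¹ * (g * t * g⁻¹) * g := by group
      rw [this, h]; group
    have h4 := eq_t_of_sq_eq_one t ht' h2 hm2 hev hg h1 h3
    rw [Subgroup.mem_centralizer_singleton_iff]
    calc g * t = (g * t * g⁻¹) * g := by group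
      _ = t * g := by rw [h4]
  refine ⟨hq, ⟨?_, ?_⟩, ?_, ?_⟩
  · -- even order
    rw [even_iff_two_dvd]
    have h1 := orderOf_dvd_natCard (⟨t, t_mem_centralizer_KG t ht' h2⟩ :
      ↥(Subgroup.centralizer ((KG t ht' h2 : Subgroup _) :
        Set (Matrix.SpecialLinearGroup (Fin (m + 1)) F))))
    rwa [Subgroup.orderOf_mk, hto] at h1
  · -- tightly embedded
    intro g hg
    by_contra hodd'
    rw [Nat.not_odd_iff_even, even_iff_two_dvd] at hodd'
    obtain ⟨x, hx⟩ := exists_prime_orderOf_dvd_card' 2 hodd'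
    have hxz := x.2.1
    obtain ⟨w, hw, hwx⟩ := x.2.2
    have hx2 : (x : Matrix.SpecialLinearGroup (Fin (m + 1)) F) ^ 2 = 1 := by
      have := pow_orderOf_eq_one x
      rw [hx] at this
      exact_mod_cast congrArg Subtype.val this
    have hx1 : (x : Matrix.SpecialLinearGroup (Fin (m + 1)) F) ≠ 1 := by
      intro h
      have : x = 1 := Subtype.ext h
      rw [this, orderOf_one] at hx
      omega
    have hxt := eq_t_of_sq_eq_one t ht' h2 hm2 hev hxz hx2 hx1
    -- `w` is also an involution of `C_G(K)`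
    have hwx' : g * w * g⁻¹ = (x : Matrix.SpecialLinearGroup (Fin (m + 1)) F) := hwx
    have hw2 : w ^ 2 = 1 := by
      have hw' : w = g⁻¹ * (x : Matrix.SpecialLinearGroup (Fin (m + 1)) F) * g := by
        rw [← hwx']; group
      rw [hw', pow_two]
      calc (g⁻¹ * (x : Matrix.SpecialLinearGroup (Fin (m + 1)) F) * g)
            * (g⁻¹ * (x : Matrix.SpecialLinearGroup (Fin (m + 1)) F) * g)
          = g⁻¹ * ((x : Matrix.SpecialLinearGroup (Fin (m + 1)) F) ^ 2) * g := by
            rw [pow_two]; simp only [mul_assoc, mul_inv_cancel_left]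
        _ = 1 := by rw [hx2]; group
    have hw1 : w ≠ 1 := by
      intro h
      apply hx1
      rw [← hwx', h]; group
    have hwt := eq_t_of_sq_eq_one t ht' h2 hm2 hev hw hw2 hw1
    apply hg
    apply normalizer_le_normalizer_centralizer
    apply centralizer_le_normalizer_KG t ht' h2
    apply hconjt
    have e : g * t * g⁻¹ = (x : Matrix.SpecialLinearGroup (Fin (m + 1)) F) := by
      have e1 : g * t * g⁻¹ = g * w * g⁻¹ := congrArg (fun y => g * y * g⁻¹) hwt.symm
      exact e1.trans hwx'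
    exact e ▸ hxz
  · -- no conjugate commutes with `K`
    intro g _ hbot
    rw [Subgroup.commutator_comm, Subgroup.commutator_eq_bot_iff_le_centralizer] at hbot
    apply Cfsg.Agent.Helper21.IsQuasisimple.not_isSolvable hq
    apply Group.isSolvable_of_comm
    intro x y
    apply Subtype.ext
    have hx : g * x.1 * g⁻¹ ∈ Subgroup.centralizer ((KG t ht' h2 : Subgroup _) :
        Set (Matrix.SpecialLinearGroup (Fin (m + 1)) F)) := hbot ⟨x.1, x.2, rfl⟩
    have hy : g * y.1 * g⁻¹ ∈ Subgroup.centralizer ((KG t ht' h2 : Subgroup _) :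
        Set (Matrix.SpecialLinearGroup (Fin (m + 1)) F)) := hbot ⟨y.1, y.2, rfl⟩
    have h := centralizer_KG_comm t ht' h2 hm2 hx hy
    change x.1 * y.1 = y.1 * x.1
    calc x.1 * y.1 = g⁻¹ * ((g * x.1 * g⁻¹) * (g * y.1 * g⁻¹)) * g := by group
      _ = g⁻¹ * ((g * y.1 * g⁻¹) * (g * x.1 * g⁻¹)) * g := by rw [h]
      _ = y.1 * x.1 := by group
  · -- equal normalizers
    apply le_antisymm (normalizer_le_normalizer_centralizer _)
    intro g hg
    apply centralizer_le_normalizer_KG t ht' h2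
    apply hconjt
    exact (Subgroup.mem_normalizer_iff.mp hg t).mp (t_mem_centralizer_KG t ht' h2)

end Cfsg.Agent.S1348
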