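import Cfsg.Statements.S1349
import Cfsg.Agent.Helper55.ThompsonDihedral3
import Cfsg.Agent.Helper45.Dihedral

set_option autoImplicit false
open Cfsg

namespace Cfsg.Agent.S1349

open Cfsg.Agent.Helper55

section Dih

variable {G : Type*} [Group G]

/-- `⟨x⟩ ∪ b⟨x⟩` as a subgroup, for an involution `b` inverting `x`. -/
def dihSub (b x : G) (hbb : b * b = 1) (hinv : b * x * b⁻¹ = x⁻¹) : Subgroup G where
  carrier := {g | g ∈ Subgroup.zpowers x ∨ b * g ∈ Subgroup.zpowers x}
  one_mem' := Or.inl (Subgroup.one_mem _)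
  mul_mem' := by
    have hbinv : b⁻¹ = b := inv_eq_of_mul_eq_one_right hbb
    have hZb : ∀ z ∈ Subgroup.zpowers x, b * z * b⁻¹ ∈ Subgroup.zpowers x := by
      rintro _ ⟨k, rfl⟩
      show b * x ^ k * b⁻¹ ∈ Subgroup.zpowers x
      rw [← conj_zpow, hinv]
      exact Subgroup.zpow_mem _ (Subgroup.inv_mem _ (Subgroup.mem_zpowers x)) k
    rintro g g' (hg | hg) (hg' | hg')
    · exact Or.inl (Subgroup.mul_mem _ hg hg')
    · right
      have e : b * (g * g') = (b * g * b⁻¹) * (b * g') := by group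
      show b * (g * g') ∈ Subgroup.zpowers x
      rw [e]; exact Subgroup.mul_mem _ (hZb g hg) hg'
    · right
      show b * (g * g') ∈ Subgroup.zpowers x
      rw [← mul_assoc]; exact Subgroup.mul_mem _ hg hg'
    · left
      have e : g * g' = (b * (b * g) * b⁻¹) * (b * g') := by
        calc g * g' = (b * b) * g * ((b * b)⁻¹ * g') := by rw [hbb]; group
          _ = (b * (b * g) * b⁻¹) * (b⁻¹ * g') := by group
          _ = (b * (b * g) * b⁻¹) * (b * g') := by rw [hbinv]
      show g * g' ∈ Subgroup.zpowers x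
      rw [e]; exact Subgroup.mul_mem _ (hZb _ hg) hg'
  inv_mem' := by
    have hbinv : b⁻¹ = b := inv_eq_of_mul_eq_one_right hbb
    have hZb : ∀ z ∈ Subgroup.zpowers x, b * z * b⁻¹ ∈ Subgroup.zpowers x := by
      rintro _ ⟨k, rfl⟩
      show b * x ^ k * b⁻¹ ∈ Subgroup.zpowers x
      rw [← conj_zpow, hinv]
      exact Subgroup.zpow_mem _ (Subgroup.inv_mem _ (Subgroup.mem_zpowers x)) k
    rintro g (hg | hg)
    · exact Or.inl (Subgroup.inv_mem _ hg)
    · right
      have e : b * g⁻¹ = b * (b * g)⁻¹ * b⁻¹ := by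
        calc b * g⁻¹ = b * g⁻¹ * ((b * b)⁻¹) := by rw [hbb]; group
          _ = b * (b * g)⁻¹ * b⁻¹ := by group
      show b * g⁻¹ ∈ Subgroup.zpowers x
      rw [e]; exact hZb _ (Subgroup.inv_mem _ hg)

theorem sup_le_dihSub (b x : G) (hbb : b * b = 1) (hinv : b * x * b⁻¹ = x⁻¹) :
    Subgroup.zpowers b ⊔ Subgroup.zpowers x ≤ dihSub b x hbb hinv := by
  apply sup_le
  · rw [Subgroup.zpowers_le]
    right
    show b * b ∈ Subgroup.zpowers x
    rw [hbb]; exact Subgroup.one_mem _
  · rw [Subgroup.zpowers_le]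
    exact Or.inl (Subgroup.mem_zpowers x)

/-- The subgroup generated by an involution `b` and an element `x ≠ 1` of odd order inverted by `b` is
dihedral of order `2 * orderOf x`. -/
theorem nonempty_sup_equiv_dihedral (b x : G) (hbb : b * b = 1) (hinv : b * x * b⁻¹ = x⁻¹)
    (hodd : Odd (orderOf x)) (hx1 : x ≠ 1) :
    Nonempty (↥(Subgroup.zpowers b ⊔ Subgroup.zpowers x) ≃* DihedralGroup (orderOf x)) := by
  have hbK : b ∈ Subgroup.zpowers b ⊔ Subgroup.zpowers x :=
    (le_sup_left : Subgroup.zpowers b ≤ _) (Subgroup.mem_zpowers b)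
  have hxK : x ∈ Subgroup.zpowers b ⊔ Subgroup.zpowers x :=
    (le_sup_right : Subgroup.zpowers x ≤ _) (Subgroup.mem_zpowers x)
  have hbZ : b ∉ Subgroup.zpowers x := by
    rintro ⟨k, hk⟩
    have hk' : x ^ k = b := hk
    have hcomm : b * x = x * b := by
      rw [← hk']
      exact ((Commute.refl x).zpow_left k).eq
    have : x⁻¹ = x := by rw [← hinv, hcomm, mul_assoc, mul_inv_cancel, mul_one]
    exact hx1 (eq_one_of_inv_eq_self_of_odd hodd this)
  apply Cfsg.Agent.Helper45.nonempty_mulEquiv_dihedral (orderOf x)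
    (⟨x, hxK⟩ : ↥(Subgroup.zpowers b ⊔ Subgroup.zpowers x)) ⟨b, hbK⟩
  · exact Subgroup.orderOf_mk x hxK
  · exact Subtype.ext hbb
  · exact Subtype.ext hinv
  · intro h
    apply hbZ
    obtain ⟨k, hk⟩ := Subgroup.mem_zpowers_iff.1 h
    have := congrArg Subtype.val hk
    rw [Subgroup.mem_zpowers_iff]
    exact ⟨k, by simpa using this⟩
  · rintro ⟨g, hg⟩
    have hcoe : ∀ z : G, ∀ hz : z ∈ Subgroup.zpowers b ⊔ Subgroup.zpowers x, z ∈ Subgroup.zpowers x →
        (⟨z, hz⟩ : ↥(Subgroup.zpowers b ⊔ Subgroup.zpowers x)) ∈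
          Subgroup.zpowers (⟨x, hxK⟩ : ↥(Subgroup.zpowers b ⊔ Subgroup.zpowers x)) := by
      rintro z hz ⟨k, hk⟩
      refine ⟨k, ?_⟩
      apply Subtype.ext
      have hk' : x ^ k = z := hk
      simpa using hk'
    rcases sup_le_dihSub b x hbb hinv hg with h | h
    · exact Or.inl (hcoe g hg h)
    · right
      exact hcoe (b * g) (Subgroup.mul_mem _ hbK hg) h

end Dih

/-- Let G be finite, L ≤ G solvable of odd order, and A an elementary abelian 2-subgroup of order 2^d (d ≥ 1) normalizing L with C_A(L) = 1. Then there are subgroups A_1, …, A_d of A of order 2 generating A and subgroups L_1, …, L_d of L such that each A_i ⊔ L_i is dihedral of order 2 n_i with n_i odd and at least 3, and A_i ⊔ L_i commutes elementwise with A_j ⊔ L_j for i ≠ j. -/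
theorem result {G : Type*} [Group G] [Finite G] (L A : Subgroup G) (hLs : Group.IsSolvable ↥L) (hLodd : Odd (Nat.card ↥L)) (hA : Cfsg.IsElementaryAbelian 2 A) (d : ℕ) (hd : 1 ≤ d) (hAd : Nat.card ↥A = 2 ^ d) (hAL : A ≤ Subgroup.normalizer (L : Set G)) (hfaith : A ⊓ Subgroup.centralizer (L : Set G) = ⊥) : ∃ (Ai : Fin d → Subgroup G) (Li : Fin d → Subgroup G) (n : Fin d → ℕ), (∀ i, Ai i ≤ A ∧ Nat.card ↥(Ai i) = 2 ∧ Li i ≤ L ∧ Odd (n i) ∧ 3 ≤ n i ∧ Nonempty (↥(Ai i ⊔ Li i) ≃* DihedralGroup (n i))) ∧ (⨆ i, Ai i) = A ∧ ∀ i j, i ≠ j → ∀ x ∈ Ai i ⊔ Li i, ∀ y ∈ Ai j ⊔ Li j, x * y = y * x := by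
  obtain ⟨hAc, hA2⟩ := hA
  have hD : TData L A A := by
    refine ⟨hLodd, hLs, ?_, ?_, ?_, le_rfl, ?_⟩
    · intro a ha
      rw [← pow_two]; exact hA2 a ha
    · intro a ha b hb
      have := mul_comm' (⟨a, ha⟩ : A) ⟨b, hb⟩
      exact Subtype.ext_iff.1 this
    · intro a ha x hx
      exact (Subgroup.mem_normalizer_iff.1 (hAL ha) x).1 hx
    · intro b hb hcen
      have : b ∈ A ⊓ Subgroup.centralizer (L : Set G) := by
        rw [Subgroup.mem_inf]
        refine ⟨hb, ?_⟩
        rw [Subgroup.mem_centralizer_iff]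
        intro y hy
        exact (mul_inv_eq_iff_eq_mul.1 (hcen y hy)).symm
      rw [hfaith, Subgroup.mem_bot] at this
      exact this
  obtain ⟨b, x, hbA, hxL, hx1, -, hinv, hcen, hcomm, hgen⟩ :=
    thompson_dihedral_core d (Nat.card L) G L A A hD rfl hAd
  have hoddx : ∀ i, Odd (orderOf (x i)) := fun i => odd_orderOf_of_mem hLodd (hxL i)
  have hbb : ∀ i, b i * b i = 1 := fun i => hD.sq (b i) (hbA i)
  have hb1 : ∀ i, b i ≠ 1 := by
    intro i h
    have := hinv i
    rw [h, one_mul, inv_one, mul_one] at this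
    exact hx1 i (eq_one_of_inv_eq_self_of_odd (hoddx i) this.symm)
  refine ⟨fun i => Subgroup.zpowers (b i), fun i => Subgroup.zpowers (x i), fun i => orderOf (x i),
    ?_, ?_, ?_⟩
  · intro i
    refine ⟨Subgroup.zpowers_le.2 (hbA i), ?_, Subgroup.zpowers_le.2 (hxL i), hoddx i, ?_, ?_⟩
    · rw [Nat.card_zpowers]
      exact orderOf_eq_prime (by rw [pow_two]; exact hbb i) (hb1 i)
    · show 3 ≤ orderOf (x i)
      obtain ⟨k, hk⟩ := hoddx i
      have h1 : orderOf (x i) ≠ 1 := fun h => hx1 i (orderOf_eq_one_iff.1 h)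
      omega
    · exact nonempty_sup_equiv_dihedral (b i) (x i) (hbb i) (hinv i) (hoddx i) (hx1 i)
  · rw [← hgen]
    apply le_antisymm
    · apply iSup_le
      intro i
      rw [Subgroup.zpowers_le]
      exact Subgroup.subset_closure ⟨i, rfl⟩
    · rw [Subgroup.closure_le]
      rintro _ ⟨i, rfl⟩
      exact (le_iSup (fun i => Subgroup.zpowers (b i)) i) (Subgroup.mem_zpowers (b i))
  · intro i j hij
    -- the generators commute
    have hgens : ∀ u ∈ ({b i, x i} : Set G), ∀ v ∈ ({b j, x j} : Set G), u * v = v * u := by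
      rintro u (rfl | rfl) v (rfl | rfl)
      · exact hD.comm _ (hbA i) _ (hbA j)
      · exact (mul_inv_eq_iff_eq_mul.1 (hcen j i (Ne.symm hij)))
      · exact (mul_inv_eq_iff_eq_mul.1 (hcen i j hij)).symm
      · exact hcomm i j
    have hsup : ∀ k, Subgroup.zpowers (b k) ⊔ Subgroup.zpowers (x k) =
        Subgroup.closure ({b k, x k} : Set G) := by
      intro k
      rw [Subgroup.zpowers_eq_closure, Subgroup.zpowers_eq_closure, ← Subgroup.closure_union]
      rfl
    intro u hu v hv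
    rw [hsup] at hu hv
    have h1 : Subgroup.closure ({b i, x i} : Set G) ≤
        Subgroup.centralizer (Subgroup.closure ({b j, x j} : Set G) : Set G) := by
      rw [Subgroup.closure_le]
      intro u hu
      rw [SetLike.mem_coe, Subgroup.mem_centralizer_iff]
      intro v hv
      induction hv using Subgroup.closure_induction with
      | mem w hw => exact (hgens u hu w hw).symm
      | one => rw [one_mul, mul_one]
      | mul w w' _ _ hw hw' => rw [mul_assoc, hw', ← mul_assoc, hw, mul_assoc]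
      | inv w _ hw =>
        have : w⁻¹ * (w * u) * w⁻¹ = w⁻¹ * (u * w) * w⁻¹ := by rw [hw]
        have h2 : u * w⁻¹ = w⁻¹ * u := by simpa [mul_assoc] using this
        exact h2.symm
    exact (Subgroup.mem_centralizer_iff.1 (h1 hu) v hv).symm

end Cfsg.Agent.S1349
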