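import Cfsg.Statements.S1358
import Cfsg.Agent.S1403
import Cfsg.Agent.S1417
import Cfsg.Agent.Helper54.BG128
import Cfsg.Agent.Helper55.BGU
import Cfsg.Agent.Helper23.Basic

set_option autoImplicit false
open Cfsg

namespace Cfsg.Agent.S1358

/-- Let G be a minimal simple group of odd order and M a maximal subgroup with standard factorisation M = K U M_σ. Then for every prime p, every Sylow p-subgroup of U is abelian and has no elementary abelian subgroup of order p ^ 3. -/
theorem result {G : Type*} [Group G] [Finite G] (hG : Cfsg.IsMinSimpleOddOrder G)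
    (M : Subgroup G) (hM : IsCoatom M) (K U : Subgroup G) (hKU : Cfsg.IsSigmaDecomposition M K U) :
    ∀ (p : ℕ), p.Prime → ∀ P : Sylow p U, IsMulCommutative (P : Subgroup U) ∧ Cfsg.PRankLE p 2 (P : Subgroup U) := by
  intro p hp P
  haveI : Fact p.Prime := ⟨hp⟩
  have hUT : Cfsg.Agent.Helper29.BG10.UniquenessThm G :=
    fun K hK hK2 hK3 => Cfsg.Agent.S1403.result hG K hK hK2 hK3
  have h125b : Cfsg.Agent.Helper54.BG128.H125b G :=
    fun M hM p _ hpτ A hAM hAe hAc P =>
      ((Cfsg.Agent.S1417.result hG M hM p hpτ A ⟨hAM, hAe, hAc⟩).2.1 P).1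
  have hUM : U ≤ M := Cfsg.Agent.Helper55.BGU.U_le hKU
  by_cases hpU : p ∣ Nat.card U
  · have hpσ : p ∉ Cfsg.sigma M :=
      Cfsg.Agent.Helper55.BGU.not_sigma_of_dvd_card_U hG hUT hM hKU hp hpU
    -- the image of `P` in `G`
    have hYp : IsPGroup p ((P : Subgroup U).map U.subtype) := P.isPGroup'.map _
    have hYM : (P : Subgroup U).map U.subtype ≤ M := by
      rintro _ ⟨u, -, rfl⟩
      exact hUM u.2
    have hcomm := Cfsg.Agent.Helper54.BG128.comm_of_pgroup_of_not_sigma hG hUT h125b hM hp hpσ
      hYp hYM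
    refine ⟨?_, ?_⟩
    · rw [Cfsg.Agent.Helper23.isMulCommutative_subgroup_iff]
      intro a ha b hb
      have := hcomm (a : G) ⟨a, ha, rfl⟩ (b : G) ⟨b, hb, rfl⟩
      exact Subtype.ext this
    · have hα : p ∉ Cfsg.alpha M :=
        fun h => hpσ (Cfsg.Agent.Helper29.BG10.alpha_subset_sigma hG hUT hM h)
      have hr2 : Cfsg.PRankLE p 2 ↥M := by
        by_contra h
        exact hα ⟨hp, h⟩
      -- the injective homomorphism `↥P → ↥M`
      let f : ↥(P : Subgroup U) →* ↥M :=
        { toFun := fun x => ⟨((x : U) : G), hUM (x : U).2⟩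
          map_one' := rfl
          map_mul' := fun _ _ => rfl }
      have hf : Function.Injective f := by
        intro x y hxy
        have h1 : ((x : U) : G) = ((y : U) : G) := congrArg (fun z : ↥M => (z : G)) hxy
        exact Subtype.ext (Subtype.ext h1)
      exact Cfsg.Agent.Helper23.pRankLE_of_injective p 2 f hf hr2
  · -- `P` is trivial
    have hcard : Nat.card (P : Subgroup U) = 1 := by
      obtain ⟨n, hn⟩ := IsPGroup.iff_card.mp P.isPGroup'
      have hdvd : Nat.card (P : Subgroup U) ∣ Nat.card U := Subgroup.card_subgroup_dvd_card _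
      rcases Nat.eq_zero_or_pos n with h0 | hpos
      · rw [hn, h0, pow_zero]
      · exfalso
        apply hpU
        rw [hn] at hdvd
        exact (dvd_pow_self p hpos.ne').trans hdvd
    have hsub : Subsingleton (P : Subgroup U) := (Nat.card_eq_one_iff_unique.mp hcard).1
    refine ⟨⟨⟨fun a b => Subsingleton.elim _ _⟩⟩, ?_⟩
    intro A _ _
    have h1 : Nat.card A ≤ Nat.card (P : Subgroup U) := by
      have := Subgroup.card_subgroup_dvd_card A
      exact Nat.le_of_dvd Nat.card_pos this
    rw [hcard] at h1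
    exact h1.trans (Nat.one_le_pow _ _ hp.pos)

end Cfsg.Agent.S1358
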