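import Cfsg.Statements.S1359
import Cfsg.Agent.S1403
import Cfsg.Agent.S1421
import Cfsg.Agent.S1430
import Cfsg.Agent.Helper55.BGThmB

set_option autoImplicit false
open Cfsg

namespace Cfsg.Agent.S1359

/-- Let G be a minimal simple group of odd order and M a maximal subgroup with standard factorisation M = K U M_σ. Then the subgroup generated by those elements of U which centralize some non-identity element of M_σ is abelian. -/
theorem result {G : Type*} [Group G] [Finite G] (hG : Cfsg.IsMinSimpleOddOrder G)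
    (M : Subgroup G) (hM : IsCoatom M) (K U : Subgroup G) (hKU : Cfsg.IsSigmaDecomposition M K U) :
    IsMulCommutative (Subgroup.closure ((U : Set G) ∩ Cfsg.sigmaHat M)) := by
  have hUT : Cfsg.Agent.Helper29.BG10.UniquenessThm G :=
    fun K hK hK2 hK3 => Cfsg.Agent.S1403.result hG K hK hK2 hK3
  have h1212 : Cfsg.Agent.Helper55.BGThmB.H1212 G :=
    fun M hM E hE h => Cfsg.Agent.S1421.result hG M hM E hE h
  have h144 : Cfsg.Agent.Helper55.BGThmB.H144b G := by
    intro M hM K hK hK1
    obtain ⟨-, ⟨U, hUc, hUH, -, -⟩, -⟩ := Cfsg.Agent.S1430.result hG M hM K hK hK1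
    exact ⟨U, hUc, hUH⟩
  exact Cfsg.Agent.Helper55.BGThmB.thmB_c hG hUT h1212 h144 hM hKU

end Cfsg.Agent.S1359
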