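import Cfsg.Statements.S1360
import Cfsg.Agent.S1403
import Cfsg.Agent.S1417
import Cfsg.Agent.S1418
import Cfsg.Agent.S1421
import Cfsg.Agent.S1430
import Cfsg.Agent.Helper55.BGThmBd

set_option autoImplicit false
open Cfsg

namespace Cfsg.Agent.S1360

/-- Let G be a minimal simple group of odd order and M a maximal subgroup with standard factorisation M = K U M_σ. Then U contains a subgroup U₀ with the same exponent as U such that no non-identity element of U₀ centralizes a non-identity element of M_σ. -/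
theorem result {G : Type*} [Group G] [Finite G] (hG : Cfsg.IsMinSimpleOddOrder G)
    (M : Subgroup G) (hM : IsCoatom M) (K U : Subgroup G) (hKU : Cfsg.IsSigmaDecomposition M K U) :
    ∃ U₀ : Subgroup G, U₀ ≤ U ∧ Monoid.exponent U₀ = Monoid.exponent U ∧ ∀ u ∈ U₀, u ∈ Cfsg.sigmaHat M → u = 1 := by
  have hUT : Cfsg.Agent.Helper29.BG10.UniquenessThm G :=
    fun K hK hK2 hK3 => Cfsg.Agent.S1403.result hG K hK hK2 hK3
  have h1212 : Cfsg.Agent.Helper55.BGThmB.H1212 G :=
    fun M hM E hE h => Cfsg.Agent.S1421.result hG M hM E hE h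
  have h144 : Cfsg.Agent.Helper55.BGThmB.H144b G := by
    intro M hM K hK hK1
    obtain ⟨-, ⟨U, hUc, hUH, -, -⟩, -⟩ := Cfsg.Agent.S1430.result hG M hM K hK hK1
    exact ⟨U, hUc, hUH⟩
  have h125 : Cfsg.Agent.Helper55.BGThmB.H125 G := by
    intro M hM p _ hpτ A hAM hAe hAc
    obtain ⟨-, hb, -, -, he, hf⟩ := Cfsg.Agent.S1417.result hG M hM p hpτ A ⟨hAM, hAe, hAc⟩
    exact ⟨hb, he, hf⟩
  have h126a : Cfsg.Agent.Helper54.BG128.H126a G := by
    intro M hM E hE p hp hpτ A hAE hAe hAc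
    haveI : Fact p.Prime := ⟨hp⟩
    exact (Cfsg.Agent.S1418.result hG M hM E hE p hpτ A ⟨hAE, hAe, hAc⟩).1.1
  exact Cfsg.Agent.Helper55.BGThmB.thmB_d hG hUT h1212 h144 h125 h126a hM hKU

end Cfsg.Agent.S1360
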