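import Cfsg.Statements.S1361
import Cfsg.Agent.S1403
import Cfsg.Agent.S1417
import Cfsg.Agent.S1418
import Cfsg.Agent.Helper54.BG128
import Cfsg.Agent.Helper55.BG1211

set_option autoImplicit false
open Cfsg

namespace Cfsg.Agent.S1361

/-- Let G be a minimal simple group of odd order and M a maximal subgroup with standard factorisation M = K U M_σ. If X is a nontrivial subgroup of U centralizing some non-identity element of M_σ, then C_G(X) ≤ M and M is the unique maximal subgroup of G containing C_G(X). -/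
theorem result {G : Type*} [Group G] [Finite G] (hG : Cfsg.IsMinSimpleOddOrder G)
    (M : Subgroup G) (hM : IsCoatom M) (K U : Subgroup G) (hKU : Cfsg.IsSigmaDecomposition M K U) (X : Subgroup G) (hXU : X ≤ U) (hX : X ≠ ⊥)
    (hXc : Cfsg.sigmaCore M ⊓ Subgroup.centralizer (X : Set G) ≠ ⊥) :
    Subgroup.centralizer (X : Set G) ≤ M ∧ ∀ L : Subgroup G, IsCoatom L → Subgroup.centralizer (X : Set G) ≤ L → L = M := by
  have hUT : Cfsg.Agent.Helper29.BG10.UniquenessThm G :=
    fun K hK hK2 hK3 => Cfsg.Agent.S1403.result hG K hK hK2 hK3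
  have h125b : Cfsg.Agent.Helper54.BG128.H125b G :=
    fun M hM p _ hpτ A hAM hAe hAc P =>
      ((Cfsg.Agent.S1417.result hG M hM p hpτ A ⟨hAM, hAe, hAc⟩).2.1 P).1
  have h125e : Cfsg.Agent.Helper54.BG128.H125e G := by
    intro M hM p hp hpτ A hAM hAe hAc L hL hne hAL
    haveI : Fact p.Prime := ⟨hp⟩
    exact (Cfsg.Agent.S1417.result hG M hM p hpτ A ⟨hAM, hAe, hAc⟩).2.2.2.2.1 L hL hne hAL
  have h126a : Cfsg.Agent.Helper54.BG128.H126a G := by
    intro M hM E hE p hp hpτ A hAE hAe hAc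
    haveI : Fact p.Prime := ⟨hp⟩
    exact (Cfsg.Agent.S1418.result hG M hM E hE p hpτ A ⟨hAE, hAe, hAc⟩).1.1
  exact Cfsg.Agent.Helper55.BG1211.thmB_e hG hUT h125b h125e h126a hM hKU X hXU hX hXc

end Cfsg.Agent.S1361
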