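-- Statement S1371 (B-G: the M-conjugates of Ẑ = K K* \ (K ∪ K*) make up A₀(M) \ A(M), a TI-subset),
-- conditional on S1366, S1430, S1434 (helper60).
import Cfsg.Statements.S1371
import Cfsg.Agent.S1350
import Cfsg.Agent.S1366
import Cfsg.Agent.S1430
import Cfsg.Agent.S1434
import Cfsg.Agent.Helper60.BGAsmC
import Cfsg.Agent.Helper60.BGAsmE

set_option autoImplicit false
open Cfsg

namespace Cfsg.Agent.S1371

open Cfsg.Agent.Helper60.BGAsm

/-- the abstract statement -/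
theorem a0_of_data {G : Type*} [Group G] [Finite G] {M K U Ks : Subgroup G}
    (hKM : K ≤ M) (hKs1 : Ks ≠ ⊥) (hKsS : Ks ≤ Cfsg.sigmaCore M)
    (hcomm : ∀ a ∈ K, ∀ b ∈ Ks, a * b = b * a) (hcop : (Nat.card K).Coprime (Nat.card Ks))
    (hNn : M ≤ Subgroup.normalizer ((U ⊔ Cfsg.sigmaCore M : Subgroup G) : Set G))
    (hNK : (U ⊔ Cfsg.sigmaCore M) ⊓ K = ⊥)
    (hpowN : ∀ a ∈ M, a ^ K.relIndex M = 1 → a ∈ U ⊔ Cfsg.sigmaCore M)
    (hconj : ∀ b ∈ M, b ^ Nat.card K = 1 → ∃ g ∈ M, ∃ c ∈ K, b = g * c * g⁻¹)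
    (hcent : ∀ x ∈ K, x ≠ 1 → M ⊓ Subgroup.centralizer ({x} : Set G) = K ⊔ Ks)
    (h34 : ∀ g : G, g ∉ M → ∀ z ∈ ((↑(K ⊔ Ks) : Set G) \ ((K : Set G) ∪ ↑Ks)),
      z ∉ M.map (MulAut.conj g).toMonoidHom) :
    {a : G | ∃ m ∈ M, ∃ z ∈ ((↑(K ⊔ Ks) : Set G) \ ((K : Set G) ∪ ↑Ks)), a = m * z * m⁻¹} =
        Cfsg.sigmaA0 M K \ Cfsg.sigmaA M U ∧
      Cfsg.IsTISubset (Cfsg.sigmaA0 M K \ Cfsg.sigmaA M U) := by
  have hσ := le_normalizer_sigmaCore M
  have hSM : Cfsg.sigmaCore M ≤ M := sigmaCore_le' M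
  have hZM : K ⊔ Ks ≤ M := sup_le hKM (hKsS.trans hSM)
  have hcomm' : ∀ a ∈ Ks, ∀ b ∈ K, a * b = b * a := fun a ha b hb => (hcomm b hb a ha).symm
  have hcardM : Nat.card K * K.relIndex M = Nat.card ↥M := card_mul_relIndex_of_le hKM
  have hpowM : ∀ a ∈ M, a ^ Nat.card ↥M = 1 := by
    intro a ha
    have := pow_card_eq_one' (G := ↥M) (x := ⟨a, ha⟩)
    exact congrArg Subtype.val this
  have hmain : {a : G | ∃ m ∈ M, ∃ z ∈ ((↑(K ⊔ Ks) : Set G) \ ((K : Set G) ∪ ↑Ks)), a = m * z * m⁻¹} =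
      Cfsg.sigmaA0 M K \ Cfsg.sigmaA M U := by
    ext a
    constructor
    · rintro ⟨m, hm, z, ⟨hzZ, hzn⟩, rfl⟩
      have hzZ' : z ∈ K ⊔ Ks := hzZ
      have hzK : z ∉ K := fun h => hzn (Or.inl h)
      have hzKs : z ∉ Ks := fun h => hzn (Or.inr h)
      obtain ⟨x, hx, y, hy, rfl⟩ := (mem_sup_of_commute hcomm).mp hzZ'
      have hy1 : y ≠ 1 := by
        rintro rfl
        apply hzK
        rw [mul_one]; exact hx
      have hx1 : x ≠ 1 := by
        rintro rfl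
        apply hzKs
        rw [one_mul]; exact hy
      have haM : m * (x * y) * m⁻¹ ∈ M := M.mul_mem (M.mul_mem hm (hZM hzZ')) (M.inv_mem hm)
      have hhat : m * (x * y) * m⁻¹ ∈ Cfsg.sigmaHat M := by
        refine ⟨haM, m * y * m⁻¹, ?_, ?_, ?_⟩
        · exact (Subgroup.mem_normalizer_iff.mp (hσ hm) y).mp (hKsS hy)
        · intro h
          apply hy1
          have h3 : y = m⁻¹ * (m * y * m⁻¹) * m := by group
          rw [h3, h]; group
        · have hxy := hcomm x hx y hy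
          have h1 : x * y * y = y * (x * y) := by
            calc x * y * y = (y * x) * y := by rw [hxy]
              _ = y * (x * y) := mul_assoc _ _ _
          calc m * (x * y) * m⁻¹ * (m * y * m⁻¹) = m * (x * y * y) * m⁻¹ := by group
            _ = m * (y * (x * y)) * m⁻¹ := by rw [h1]
            _ = m * y * m⁻¹ * (m * (x * y) * m⁻¹) := by group
      refine ⟨⟨hhat, ?_⟩, ?_⟩
      · rintro ⟨c, hc, hc1, m', hm', hmm⟩
        -- `x * y` is conjugate to `c ∈ K`, so its `|K|`-th power is trivial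
        have h1 : (x * y) ^ Nat.card K = 1 := by
          have h2 : x * y = (m⁻¹ * m') * c * (m⁻¹ * m')⁻¹ := by
            have h3 : x * y = m⁻¹ * (m * (x * y) * m⁻¹) * m := by group
            rw [h3, hmm]; group
          rw [h2, conj_pow]
          have h4 : c ^ Nat.card K = 1 := by
            have := pow_card_eq_one' (G := ↥K) (x := ⟨c, hc⟩)
            exact congrArg Subtype.val this
          rw [h4]; group
        have hz2 : x * y ∈ Ks ⊔ K := by rw [sup_comm]; exact hzZ'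
        exact pow_card_ne_one_of_commute hcomm' hcop.symm hz2 hzK h1
      · rintro ⟨-, hN⟩
        have hN' : m * (x * y) * m⁻¹ ∈ U ⊔ Cfsg.sigmaCore M := hN
        have h1 : x * y ∈ U ⊔ Cfsg.sigmaCore M :=
          (Subgroup.mem_normalizer_iff.mp (hNn hm) (x * y)).mpr hN'
        have h2 : x ∈ U ⊔ Cfsg.sigmaCore M := by
          have h3 : x = (x * y) * y⁻¹ := by group
          rw [h3]
          exact Subgroup.mul_mem _ h1 (Subgroup.inv_mem _ (Subgroup.mem_sup_right (hKsS hy)))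
        have h4 : x ∈ (U ⊔ Cfsg.sigmaCore M) ⊓ K := ⟨h2, hx⟩
        rw [hNK, Subgroup.mem_bot] at h4
        exact hx1 h4
    · rintro ⟨⟨hhat, hnotK⟩, hnotA⟩
      have haM : a ∈ M := hhat.1
      have haN : a ∉ U ⊔ Cfsg.sigmaCore M := fun h => hnotA ⟨hhat, h⟩
      -- the `κ`-part `b` of `a`
      have hb1 : a ^ K.relIndex M ≠ 1 := fun h => haN (hpowN a haM h)
      have hbM : a ^ K.relIndex M ∈ M := M.pow_mem haM _
      have hbk : (a ^ K.relIndex M) ^ Nat.card K = 1 := by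
        rw [← pow_mul, mul_comm, hcardM]
        exact hpowM a haM
      obtain ⟨g, hg, c, hc, hbc⟩ := hconj _ hbM hbk
      have hc1 : c ≠ 1 := by
        rintro rfl
        apply hb1
        rw [hbc]; group
      -- `a' = g⁻¹ a g` centralizes `c`
      have ha'M : g⁻¹ * a * g ∈ M := M.mul_mem (M.mul_mem (M.inv_mem hg) haM) hg
      have ha'pow : (g⁻¹ * a * g) ^ K.relIndex M = c := by
        have h1 : g⁻¹ * a * g = g⁻¹ * a * g⁻¹⁻¹ := by rw [inv_inv]
        rw [h1, conj_pow, hbc]; group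
      have ha'c : g⁻¹ * a * g ∈ Subgroup.centralizer ({c} : Set G) := by
        rw [Subgroup.mem_centralizer_iff]
        intro d hd
        rw [Set.mem_singleton_iff] at hd
        subst hd
        rw [← ha'pow]
        exact ((Commute.refl (g⁻¹ * a * g)).pow_right _).eq.symm
      have ha'Z : g⁻¹ * a * g ∈ K ⊔ Ks := by
        rw [← hcent c hc hc1]
        exact ⟨ha'M, ha'c⟩
      have ha'1 : g⁻¹ * a * g ≠ 1 := by
        intro h
        rw [h, one_pow] at ha'pow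
        exact hc1 ha'pow.symm
      have haeq : a = g * (g⁻¹ * a * g) * g⁻¹ := by group
      refine ⟨g, hg, g⁻¹ * a * g, ⟨ha'Z, ?_⟩, haeq⟩
      rintro (h | h)
      · exact hnotK ⟨g⁻¹ * a * g, h, ha'1, g, hg, haeq⟩
      · apply haN
        rw [haeq]
        exact (Subgroup.mem_normalizer_iff.mp (hNn hg) _).mp (Subgroup.mem_sup_right (hKsS h))
  refine ⟨hmain, ?_⟩
  rw [← hmain]
  -- `M` normalizes the union of the `M`-conjugates of `Ẑ`
  have hMN : M ≤ Subgroup.normalizer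
      {a : G | ∃ m ∈ M, ∃ z ∈ ((↑(K ⊔ Ks) : Set G) \ ((K : Set G) ∪ ↑Ks)), a = m * z * m⁻¹} := by
    intro g hg
    rw [Subgroup.mem_set_normalizer_iff]
    intro n
    constructor
    · rintro ⟨m, hm, z, hz, rfl⟩
      exact ⟨g * m, M.mul_mem hg hm, z, hz, by group⟩
    · rintro ⟨m, hm, z, hz, h⟩
      refine ⟨g⁻¹ * m, M.mul_mem (M.inv_mem hg) hm, z, hz, ?_⟩
      have h1 : n = g⁻¹ * (g * n * g⁻¹) * g := by group
      rw [h1, h]; group
  intro g hg x hx hgx
  exfalso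
  apply hg
  apply hMN
  obtain ⟨m, hm, z, hz, rfl⟩ := hx
  obtain ⟨m', hm', z', hz', h⟩ := hgx
  -- `h₀ = m'⁻¹ g m` conjugates `z` to `z' ∈ M`
  have hh : (m'⁻¹ * g * m)⁻¹ ∈ M := by
    by_contra hnot
    apply h34 _ hnot z hz
    refine ⟨z', hZM hz'.1, ?_⟩
    simp only [MulEquiv.coe_toMonoidHom, MulAut.conj_apply]
    have h1 : z' = m'⁻¹ * (g * (m * z * m⁻¹) * g⁻¹) * m' := by rw [h]; group
    rw [h1]; group
  have hh' : m'⁻¹ * g * m ∈ M := by
    have := M.inv_mem hh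
    rwa [inv_inv] at this
  have h2 : g = m' * (m'⁻¹ * g * m) * m⁻¹ := by group
  rw [h2]
  exact M.mul_mem (M.mul_mem hm' hh') (M.inv_mem hm)

/-- Let G be a minimal simple group of odd order, M a maximal subgroup with standard factorisation M = K U M_σ, K ≠ 1, K* = M_σ ∩ C_G(K), and Ẑ the set of elements of K K* outside K ∪ K*. Then the union of the M-conjugates of Ẑ equals A₀(M) with A(M) removed, and it is a TI-subset of G. -/
theorem result {G : Type*} [Group G] [Finite G] (hG : Cfsg.IsMinSimpleOddOrder G)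
    (M : Subgroup G) (hM : IsCoatom M) (K U : Subgroup G) (hKU : Cfsg.IsSigmaDecomposition M K U) (hK1 : K ≠ ⊥) :
    {a : G | ∃ m ∈ M, ∃ z ∈ ((↑(K ⊔ (Cfsg.sigmaCore M ⊓ Subgroup.centralizer (K : Set G))) : Set G) \ ((K : Set G) ∪ ↑(Cfsg.sigmaCore M ⊓ Subgroup.centralizer (K : Set G)))), a = m * z * m⁻¹} = Cfsg.sigmaA0 M K \ Cfsg.sigmaA M U ∧
      Cfsg.IsTISubset (Cfsg.sigmaA0 M K \ Cfsg.sigmaA M U) := by
  have hK := hKU.hall
  obtain ⟨Mstar, ⟨hMstar, hKst, hKstH⟩, -⟩ := Cfsg.Agent.S1366.result hG M hM K U hKU hK1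
  have h34 := Cfsg.Agent.S1434.result hG M hM K U hKU hK1 Mstar hMstar hKst hKstH
  have hKs1 := kstar_ne_bot hG hM hK hK1
  obtain ⟨y, hy, hy1⟩ := (Cfsg.sigmaCore M ⊓ Subgroup.centralizer (K : Set G)).bot_or_exists_ne_one.resolve_left hKs1
  refine a0_of_data hK.1 hKs1 inf_le_left (commute_K_kstar M K) (coprime_K_kstar hG hM hK)
    (normal_part' M K U hKU) (inf_eq_bot_of_coprime_card (coprime_card_N_K hG hM hKU))
    (fun a ha h => mem_N_of_pow_relIndex_eq_one hG hM hKU ha h)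
    (fun b hb h => exists_conj_mem_K hG hM hK hb h)
    (fun x hx hx1 => (h34.2.2.1 x hx hx1 y hy hy1).1) h34.2.2.2.1

end Cfsg.Agent.S1371
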