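import Cfsg.Statements.S1376
import Cfsg.Agent.Helper57.BG144Z
import Cfsg.Agent.Helper22.BG144C2
import Cfsg.Agent.Helper4.BG144C58
import Cfsg.Agent.Helper75.BG144C3
import Cfsg.Agent.S1365
import Cfsg.Agent.S1372
import Cfsg.Agent.S1375
import Cfsg.Agent.S1432
import Cfsg.Agent.S1436
import Cfsg.Agent.S1437

set_option autoImplicit false
open Cfsg

namespace Cfsg.Agent.S1376

/-- Let G be a minimal simple group of odd order, M a maximal subgroup, x ≠ 1 in M_σ with C_G(x) not contained in M, and N a maximal subgroup containing C_G(x) with κ(N) nonempty. Then κ(M) is empty, M has a cyclic Frobenius complement (M is a Frobenius group), and M_F is not a TI-subset of G. -/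
theorem result {G : Type*} [Group G] [Finite G] (hG : Cfsg.IsMinSimpleOddOrder G)
    (M : Subgroup G) (hM : IsCoatom M) (x : G) (hx : x ∈ Cfsg.sigmaCore M) (hx1 : x ≠ 1) (hxM : ¬ Subgroup.centralizer ({x} : Set G) ≤ M)
    (N : Subgroup G) (hN : IsCoatom N) (hxN : Subgroup.centralizer ({x} : Set G) ≤ N) (hkN : (Cfsg.kappa N).Nonempty) :
    Cfsg.kappa M = ∅ ∧ (∃ E : Subgroup ↥M, Cfsg.IsFrobeniusComplement E ∧ IsCyclic E) ∧ ¬ Cfsg.IsTISubset (Cfsg.fittingHallOf M : Set G) := by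
  have h75 : Cfsg.Agent.Helper22.BG144C.H1375 G :=
    fun M hM x hx hx1 hxM => Cfsg.Agent.S1375.result hG M hM x hx hx1 hxM
  have h32 : Cfsg.Agent.Helper22.BG146.H1432 G :=
    fun M hM x hx hx1 x' hx' hx'1 hσ => Cfsg.Agent.S1432.result hG M hM x hx hx1 x' hx' hx'1 hσ
  have h36 : Cfsg.Agent.Helper22.BG144C.H1436a G :=
    fun M hM x hx hx1 hxM N hN hxN => (Cfsg.Agent.S1436.result hG M hM x hx hx1 hxM N hN hxN).1
  have h72 : Cfsg.Agent.Helper22.BG144C.H1372 G :=
    fun M hM K U hKU hK1 hU1 => Cfsg.Agent.S1372.result hG M hM K U hKU hK1 hU1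
  have h65 : Cfsg.Agent.Helper22.BG144C.H1365 G :=
    fun M hM K U hKU hK1 => Cfsg.Agent.S1365.result hG M hM K U hKU hK1
  have h37 : Cfsg.Agent.Helper22.BG144C.H1437 G :=
    fun M hM K U hKU hne => Cfsg.Agent.S1437.result hG M hM K U hKU hne
  refine Cfsg.Agent.Helper57.BG144.s1376_of hG ?_ M hM x hx hx1 hxM N hN hxN hkN
  intro M N Nst K U Ust x p q c
  exact Cfsg.Agent.Helper22.BG144C.tau2_eq_empty hG h75 h32 h36 h72 c
    (fun s E B b₀ hs hE hEq hBE hBea hb₀ hb₀1 hcb hsN hsab hUst hEle hnil =>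
      Cfsg.Agent.Helper4.BG144C58.step58 hG h65 c hs hE hEq hBE hBea hb₀ hb₀1 hcb hsN hsab hUst
        hEle hnil)
    (Cfsg.Agent.Helper75.BG144C3.c3 hG h37 c)

end Cfsg.Agent.S1376
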