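import Cfsg.Statements.S1379
import Mathlib
import Cfsg.Agent.S1403
import Cfsg.Agent.S1417
import Cfsg.Agent.S1425
import Cfsg.Agent.S1432
import Cfsg.Agent.S1374
import Cfsg.Agent.S1375
import Cfsg.Agent.S1378
import Cfsg.Agent.S1433
import Cfsg.Agent.S1430
import Cfsg.Agent.S1431
import Cfsg.Agent.S1366
import Cfsg.Agent.S1367
import Cfsg.Agent.S1369
import Cfsg.Agent.S1434
import Cfsg.Agent.Helper22.BG146c

set_option autoImplicit false
open Cfsg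

namespace Cfsg.Agent.S1379

/-- Let G be a minimal simple group of odd order; for a maximal subgroup M write M̃ for the union of the G-conjugates of the cosets x R(x), x ≠ 1 in M_σ. Then M̃ ∩ Ñ = ∅ for non-conjugate maximal M, N; if every maximal subgroup has κ empty, every g ≠ 1 lies in some M̃; and if M = K U M_σ has K ≠ 1 with Ẑ = K K* − (K ∪ K*), then every g ≠ 1 lies in some Ñ or in a conjugate of Ẑ, and no conjugate of an element of Ẑ lies in any Ñ. -/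
theorem result {G : Type*} [Group G] [Finite G] (hG : Cfsg.IsMinSimpleOddOrder G) :
    (∀ M N : Subgroup G, IsCoatom M → IsCoatom N → (∀ g : G, N ≠ M.map (MulAut.conj g).toMonoidHom) → Cfsg.tildeOf M ((Cfsg.sigmaCore M : Set G) \ {1}) ∩ Cfsg.tildeOf N ((Cfsg.sigmaCore N : Set G) \ {1}) = ∅) ∧
      ((∀ M : Subgroup G, IsCoatom M → Cfsg.kappa M = ∅) →
        ∀ g : G, g ≠ 1 → ∃ M : Subgroup G, IsCoatom M ∧ g ∈ Cfsg.tildeOf M ((Cfsg.sigmaCore M : Set G) \ {1})) ∧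
      ∀ (M K U : Subgroup G), IsCoatom M → Cfsg.IsSigmaDecomposition M K U → K ≠ ⊥ →
        (∀ g : G, g ≠ 1 → (∃ N : Subgroup G, IsCoatom N ∧ g ∈ Cfsg.tildeOf N ((Cfsg.sigmaCore N : Set G) \ {1})) ∨
            ∃ y : G, ∃ z ∈ ((↑(K ⊔ (Cfsg.sigmaCore M ⊓ Subgroup.centralizer (K : Set G))) : Set G) \ ((K : Set G) ∪ ↑(Cfsg.sigmaCore M ⊓ Subgroup.centralizer (K : Set G)))), g = y * z * y⁻¹) ∧
        ∀ N : Subgroup G, IsCoatom N → ∀ y : G, ∀ z ∈ ((↑(K ⊔ (Cfsg.sigmaCore M ⊓ Subgroup.centralizer (K : Set G))) : Set G) \ ((K : Set G) ∪ ↑(Cfsg.sigmaCore M ⊓ Subgroup.centralizer (K : Set G)))), y * z * y⁻¹ ∉ Cfsg.tildeOf N ((Cfsg.sigmaCore N : Set G) \ {1}) := by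
  have hU : Cfsg.Agent.Helper29.BG10.UniquenessThm G :=
    fun K hK hK2 hK3 => Cfsg.Agent.S1403.result hG K hK hK2 hK3
  have h75 : Cfsg.Agent.Helper22.BG146.H1375 G := by
    intro M hM x hx hx1 hC
    obtain ⟨N, h1, h2, h3, h4, h5, -, -⟩ := Cfsg.Agent.S1375.result hG M hM x hx hx1 hC
    exact ⟨N, h1, h2, h3, h4, h5⟩
  have h74 : Cfsg.Agent.Helper22.BG146.H1374 G := fun M hM x hx hx1 =>
    (Cfsg.Agent.S1374.result hG M hM x hx hx1).1
  have h33 : Cfsg.Agent.Helper22.BG146.H1433 G := fun M N hM hN x y hx hy hx1 hy1 hxy =>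
    Cfsg.Agent.S1433.result hG M N hM hN x y hx hy hx1 hy1 hxy
  have h78a : Cfsg.Agent.Helper22.BG146.H1378a G := (Cfsg.Agent.S1378.result hG).1
  have h78b : Cfsg.Agent.Helper22.BG146.H1378b G := (Cfsg.Agent.S1378.result hG).2
  have h32 : Cfsg.Agent.Helper22.BG146.H1432 G := fun M hM x hx hx1 x' hx' hx'1 hσ =>
    Cfsg.Agent.S1432.result hG M hM x hx hx1 x' hx' hx'1 hσ
  have h25 : Cfsg.Agent.Helper22.BG146.H1425 G := fun M hM Y hY1 hY =>
    Cfsg.Agent.S1425.result hG M hM Y hY1 hY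
  have h17 : Cfsg.Agent.Helper22.BG146.H1417a G := fun M hM p _ hp A hAM hAe hA2 =>
    (Cfsg.Agent.S1417.result hG M hM p hp A ⟨hAM, hAe, hA2⟩).1
  have h30 : Cfsg.Agent.Helper22.BG146.H1430a G := fun M hM K hK hK1 =>
    (Cfsg.Agent.S1430.result hG M hM K hK hK1).1
  have h31 : Cfsg.Agent.Helper22.BG146.H1431a G := fun M hM K hK hK1 =>
    (Cfsg.Agent.S1431.result hG M hM K hK hK1).1
  have h66 : Cfsg.Agent.Helper22.BG146.H1366 G := by
    intro M K U hM hKU hK1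
    obtain ⟨Mstar, ⟨h1, h2, h3⟩, -⟩ := Cfsg.Agent.S1366.result hG M hM K U hKU hK1
    exact ⟨Mstar, ⟨hM, hKU, hK1, h1, h2, h3⟩⟩
  have h69 : Cfsg.Agent.Helper22.BG146.H1369b G := fun M K U Mstar hP =>
    (Cfsg.Agent.S1369.result hG M hP.hM K U hP.hKU hP.hK1 Mstar hP.hMs hP.hKst hP.hKstH).2
  have h34 : Cfsg.Agent.Helper22.BG146.H1434c G := fun M K U Mstar hP x hx hx1 y hy hy1 =>
    ((Cfsg.Agent.S1434.result hG M hP.hM K U hP.hKU hP.hK1 Mstar hP.hMs hP.hKst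
      hP.hKstH).2.2.1 x hx hx1 y hy hy1).2.2
  have h67 : Cfsg.Agent.Helper22.BG146.H1367 G := by
    intro M K U Mstar hP
    have h := Cfsg.Agent.S1367.result hG M hP.hM K U hP.hKU hP.hK1 Mstar hP.hMs hP.hKst hP.hKstH
    exact ⟨fun X hX hXp => (h.1 X hX hXp).1, fun Y hY hYp => (h.2 Y hY hYp).1⟩
  exact Cfsg.Agent.Helper22.BG146.thm_14_6 hG hU h75 h74 h33 h78a h78b h32 h25 h17 h30 h31
    h66 h69 h34 h67

end Cfsg.Agent.S1379
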