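import Cfsg.Statements.S1381
-- CONDITIONAL on S1354, S1355, S1356, S1357, S1360, S1363, S1364, S1365, S1370, S1372 (helper50)
import Cfsg.Agent.S1357
import Cfsg.Agent.S1360
import Cfsg.Agent.S1363
import Cfsg.Agent.S1372
import Cfsg.Agent.Helper50.BG16Glue
import Cfsg.Agent.Helper50.BG16E

set_option autoImplicit false
open Cfsg

namespace Cfsg.Agent.S1381

/-- Let G be a minimal simple group of odd order and M a maximal subgroup with standard factorisation M = K U M_σ. Then M is of Type II if and only if K ≠ 1 and U ≠ 1. -/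
theorem result {G : Type*} [Group G] [Finite G] (hG : Cfsg.IsMinSimpleOddOrder G)
    (M : Subgroup G) (hM : IsCoatom M) (K U : Subgroup G) (hKU : Cfsg.IsSigmaDecomposition M K U) :
    Cfsg.IsOfTypeII M ↔ (K ≠ ⊥ ∧ U ≠ ⊥) := by
  have h50 := (Cfsg.Agent.S1350.result hG M hM).1
  obtain ⟨-, h55b, h55c, -, -⟩ := Cfsg.Agent.S1355.result hG M hM
  constructor
  · intro h
    exact Cfsg.Agent.Helper50.BG16.ne_bot_of_isOfTypeII hG hM hKU h50 h55b h55c
      (fun hK1 => (Cfsg.Agent.S1365.result hG M hM K U hKU hK1).1) h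
  · rintro ⟨hK1, hU1⟩
    have f := Cfsg.Agent.Helper50.BG16.kStarFacts_of hG M hM K U hKU hK1
    have hHN : Cfsg.fittingHallOf M = Cfsg.sigmaCore M := by
      by_contra h
      exact hU1 (Cfsg.Agent.S1357.result hG M hM K U hKU h).1
    obtain ⟨h63a, h63b⟩ := Cfsg.Agent.S1363.result hG M hM K U hKU hK1
    obtain ⟨h72a, h72b, -⟩ := Cfsg.Agent.S1372.result hG M hM K U hKU hK1 hU1
    exact Cfsg.Agent.Helper50.BG16.isOfTypeII_of hG hM hKU hK1 hU1 f hHN h63a h63b h72a h72b
      (Cfsg.Agent.S1360.result hG M hM K U hKU)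

end Cfsg.Agent.S1381
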