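import Cfsg.Statements.S1383
-- CONDITIONAL on S1351, S1352, S1354, S1355, S1356, S1364, S1365, S1370, S1375, S1432 (helper50);
-- the non-TI alternative is helper75's argument (Helper50/BG16G.lean), no Theorem 15.? needed.
import Cfsg.Agent.S1351
import Cfsg.Agent.S1352
import Cfsg.Agent.S1375
import Cfsg.Agent.S1432
import Cfsg.Agent.Helper50.BG16Glue
import Cfsg.Agent.Helper50.BG16F
import Cfsg.Agent.Helper50.BG16G

set_option autoImplicit false
open Cfsg

namespace Cfsg.Agent.S1383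

/-- Let G be a minimal simple group of odd order and M a maximal subgroup with standard factorisation M = K U M_σ. Then M is of Type V if and only if K ≠ 1, U = 1 and M_F = M_σ. -/
theorem result {G : Type*} [Group G] [Finite G] (hG : Cfsg.IsMinSimpleOddOrder G)
    (M : Subgroup G) (hM : IsCoatom M) (K U : Subgroup G) (hKU : Cfsg.IsSigmaDecomposition M K U) :
    Cfsg.IsOfTypeV M ↔ (K ≠ ⊥ ∧ U = ⊥ ∧ Cfsg.fittingHallOf M = Cfsg.sigmaCore M) := by
  have h50 := (Cfsg.Agent.S1350.result hG M hM).1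
  obtain ⟨-, h55b, h55c, -, -⟩ := Cfsg.Agent.S1355.result hG M hM
  constructor
  · intro h
    exact Cfsg.Agent.Helper50.BG16.of_isOfTypeV hG hM hKU h50 h55b h55c
      (fun hK1 => (Cfsg.Agent.S1365.result hG M hM K U hKU hK1).1) h
  · rintro ⟨hK1, hUb, hHN⟩
    have f := Cfsg.Agent.Helper50.BG16.kStarFacts_of hG M hM K U hKU hK1
    refine Cfsg.Agent.Helper50.BG16.isOfTypeV_of_nonTI hG hM hKU hK1 hUb f hHN (fun hTI => ?_)
    refine Cfsg.Agent.Helper50.BG16.typeV_nonTI hG hM hKU hK1 hUb f hHN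
      (fun x hx hx1 hxM => Cfsg.Agent.S1375.result hG M hM x hx hx1 hxM) ?_
      (fun N K' U' hN hKU' hK'1 => Cfsg.Agent.Helper50.BG16.kStarFacts_of hG N hN K' U' hKU' hK'1)
      (fun N hN x hx hx1 x' hx' hx'1 hσ =>
        Cfsg.Agent.S1432.result hG N hN x hx hx1 x' hx' hx'1 hσ) hTI
    intro N hN
    obtain ⟨⟨K', hK'⟩, hcyc⟩ := Cfsg.Agent.S1351.result hG N hN
    obtain ⟨U', hU'⟩ := (Cfsg.Agent.S1352.result hG N hN K' (hcyc K' hK') hK').1
    exact ⟨K', U', hU'⟩

end Cfsg.Agent.S1383
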