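import Cfsg.Statements.S1386
import Cfsg.Agent.Helper23.Sup

set_option autoImplicit false
open Cfsg

namespace Cfsg.Agent.S1386

open Cfsg.Agent.Helper23

/-- Let G be a finite group, W₁, W₂ subgroups forming a self-normalizing cyclic pair, S a subgroup with W₂ ≤ S and W₁ a complement to S' in S, and (W₁, U, W₂') type-P data for S. Then W₂' = W₂ (that is, C_{S'}(W₁) = W₂). -/
theorem result {G : Type*} [Group G] [Finite G] (W₁ W₂ S U W₂' : Subgroup G) (hW : Cfsg.IsSelfNormalizingCyclic W₁ W₂)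
    (hSW : Cfsg.IsComplIn ⁅S, S⁆ W₁ S) (hW₂S : W₂ ≤ S) (hP : Cfsg.IsTypePWith S W₁ U W₂') :
    W₂' = W₂ := by
  obtain ⟨hW₁ne, hW₂ne, hdisj, hcomm, -, hnorm⟩ := hW
  obtain ⟨-, -, hdisj', hcomm', -, hnorm'⟩ := hP.selfNormalizing
  obtain ⟨-, hW₁S, hSW₁, hSprod⟩ := hSW
  -- cardinalities coprime
  have hcop : (Nat.card W₁).Coprime (Nat.card W₂) := by
    have h1 := hP.W₁_hall
    have hle : W₁ ⊔ W₂ ≤ S := sup_le hW₁S hW₂S
    have h2 := Subgroup.relIndex_mul_relIndex W₁ (W₁ ⊔ W₂) S le_sup_left hle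
    have h3 : Nat.card ↥(W₁ ⊔ W₂) = Nat.card W₁ * Nat.card W₂ :=
      card_sup_of_disjoint_of_le_normalizer hdisj (le_normalizer_of_commute hcomm)
    have h4 : W₁.relIndex (W₁ ⊔ W₂) * Nat.card W₁ = Nat.card ↥(W₁ ⊔ W₂) := by
      have := Subgroup.relIndex_mul_relIndex ⊥ W₁ (W₁ ⊔ W₂) bot_le le_sup_left
      rw [Subgroup.relIndex_bot_left, Subgroup.relIndex_bot_left] at this
      rw [mul_comm]; exact this
    have hpos : 0 < Nat.card W₁ := Nat.card_pos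
    have h5 : W₁.relIndex (W₁ ⊔ W₂) = Nat.card W₂ := by
      rw [h3, mul_comm] at h4
      exact Nat.eq_of_mul_eq_mul_left hpos h4
    refine h1.coprime_dvd_right ?_
    rw [← h2, h5]
    exact dvd_mul_right _ _
  -- Step 1: W₂ ≤ ⁅S, S⁆
  have hW₂S' : W₂ ≤ ⁅S, S⁆ := by
    intro w hw
    have hwS : w ∈ S := hW₂S hw
    obtain ⟨a, ha, b, hb, hwab⟩ := hSprod w hwS
    set n := Nat.card W₁ with hn
    -- w ^ n ∈ ⁅S,S⁆
    have hpow : w ^ n ∈ ⁅S, S⁆ := by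
      rw [← Subgroup.map_subtype_commutator]
      have haS : a ∈ S := Subgroup.commutator_le_self S ha
      have hbS : b ∈ S := hW₁S hb
      have ha' : (⟨a, haS⟩ : ↥S) ∈ commutator ↥S := by
        rw [← Subgroup.map_subtype_commutator] at ha
        obtain ⟨a', ha', haa'⟩ := ha
        have : a' = ⟨a, haS⟩ := Subtype.ext haa'
        rwa [this] at ha'
      refine ⟨⟨w, hwS⟩ ^ n, ?_, by simp⟩
      rw [SetLike.mem_coe, ← QuotientGroup.eq_one_iff]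
      have hw' : (⟨w, hwS⟩ : ↥S) = ⟨a, haS⟩ * ⟨b, hbS⟩ := Subtype.ext hwab
      rw [hw', QuotientGroup.mk_pow, QuotientGroup.mk_mul, (QuotientGroup.eq_one_iff _).mpr ha', one_mul,
        ← QuotientGroup.mk_pow]
      have hbn : b ^ n = 1 :=
        orderOf_dvd_iff_pow_eq_one.mp (Subgroup.orderOf_dvd_natCard W₁ hb)
      have : (⟨b, hbS⟩ : ↥S) ^ n = 1 := Subtype.ext (by simpa using hbn)
      rw [this, QuotientGroup.mk_one]
    -- order of w is coprime to n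
    have hord : (orderOf w).Coprime n := by
      have h1 : orderOf w ∣ Nat.card W₂ := Subgroup.orderOf_dvd_natCard W₂ hw
      exact (hcop.symm).coprime_dvd_left h1
    -- so w ∈ zpowers (w ^ n)
    obtain ⟨m, hm⟩ := exists_pow_eq_self_of_coprime hord.symm
    rw [← hm]
    exact Subgroup.pow_mem _ hpow m
  -- pick nontrivial elements
  obtain ⟨⟨w₁, hw₁⟩, hw₁ne⟩ := (Subgroup.ne_bot_iff_exists_ne_one).mp hW₁ne
  obtain ⟨⟨w₂, hw₂⟩, hw₂ne⟩ := (Subgroup.ne_bot_iff_exists_ne_one).mp hW₂ne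
  have hw₁ne' : w₁ ≠ 1 := fun h => hw₁ne (Subtype.ext h)
  have hw₂ne' : w₂ ≠ 1 := fun h => hw₂ne (Subtype.ext h)
  -- Step 2: W₂ ≤ W₂'
  have hle : W₂ ≤ W₂' := by
    intro w hw
    rw [← hP.W₂_centralizer w₁ hw₁ hw₁ne']
    refine ⟨hW₂S' hw, ?_⟩
    show w ∈ Subgroup.centralizer {w₁}
    rw [Subgroup.mem_centralizer_iff]
    intro y hy
    rw [Set.mem_singleton_iff] at hy
    subst hy
    exact hcomm y hw₁ w hw
  -- Step 3
  apply le_antisymm _ hle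
  set x := w₁ * w₂ with hx
  have hx1 : x ∈ (↑(W₁ ⊔ W₂) : Set G) \ (↑W₁ ∪ ↑W₂) := by
    refine ⟨Subgroup.mul_mem _ (Subgroup.mem_sup_left hw₁) (Subgroup.mem_sup_right hw₂), ?_⟩
    rintro (h | h)
    · have : w₂ ∈ W₁ ⊓ W₂ := ⟨by
        have := W₁.mul_mem (W₁.inv_mem hw₁) h
        simpa [hx] using this, hw₂⟩
      rw [hdisj, Subgroup.mem_bot] at this
      exact hw₂ne' this
    · have : w₁ ∈ W₁ ⊓ W₂ := ⟨hw₁, by
        have := W₂.mul_mem h (W₂.inv_mem hw₂)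
        simpa [hx] using this⟩
      rw [hdisj, Subgroup.mem_bot] at this
      exact hw₁ne' this
  have hx2 : x ∈ (↑(W₁ ⊔ W₂') : Set G) \ (↑W₁ ∪ ↑W₂') := by
    refine ⟨Subgroup.mul_mem _ (Subgroup.mem_sup_left hw₁) (Subgroup.mem_sup_right (hle hw₂)), ?_⟩
    rintro (h | h)
    · exact hx1.2 (Or.inl h)
    · have : w₁ ∈ W₁ ⊓ W₂' := ⟨hw₁, by
        have := W₂'.mul_mem h (W₂'.inv_mem (hle hw₂))
        simpa [hx] using this⟩
      rw [hdisj', Subgroup.mem_bot] at this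
      exact hw₁ne' this
  have e1 := hnorm {x} (Set.singleton_subset_iff.mpr hx1) (Set.singleton_nonempty x)
  have e2 := hnorm' {x} (Set.singleton_subset_iff.mpr hx2) (Set.singleton_nonempty x)
  have e3 : W₁ ⊔ W₂' = W₁ ⊔ W₂ := e2.symm.trans e1
  intro y hy
  have hy' : y ∈ W₁ ⊔ W₂ := by rw [← e3]; exact Subgroup.mem_sup_right hy
  obtain ⟨a, ha, b, hb, rfl⟩ := (mem_sup_iff_of_commute hcomm).mp hy'
  have : a ∈ W₁ ⊓ W₂' := ⟨ha, by
    have := W₂'.mul_mem hy (W₂'.inv_mem (hle hb))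
    simpa using this⟩
  rw [hdisj', Subgroup.mem_bot] at this
  rw [this, one_mul]
  exact hb

end Cfsg.Agent.S1386
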