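import Cfsg.Statements.S1387
import Cfsg.Agent.Helper23.FittingHall

set_option autoImplicit false
open Cfsg

namespace Cfsg.Agent.S1387

open Cfsg.Agent.Helper23

/-- Let M be a subgroup of a finite group G with type-P data (W₁, U, W₂) and H = M_F. Then the Fitting subgroup F(M) is generated by H and the centralizer of H in U. -/
theorem result {G : Type*} [Group G] [Finite G] (M W₁ U W₂ : Subgroup G) (hP : Cfsg.IsTypePWith M W₁ U W₂) :
    Cfsg.fittingOf M = Cfsg.fittingHallOf M ⊔ (U ⊓ Subgroup.centralizer (Cfsg.fittingHallOf M : Set G)) := by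
  rw [← hP.fitting_eq]
  obtain ⟨hHM', hUM', hHU, hprod⟩ := hP.U_compl
  have hM'M : ⁅M, M⁆ ≤ M := Subgroup.commutator_le_self M
  apply le_antisymm
  · refine sup_le le_sup_left ?_
    intro x hx
    obtain ⟨n, m, hnm, hHn, hMm, hMnm, -, -⟩ := fittingHallOf_data M
    obtain ⟨a, b, hab⟩ : ∃ a b : ℤ, a * (n : ℤ) + b * (m : ℤ) = 1 :=
      (Nat.isCoprime_iff_coprime.mpr hnm)
    have hxM : x ∈ M := hx.1
    have hxC : x ∈ Subgroup.centralizer (Cfsg.fittingHallOf M : Set G) := hx.2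
    -- the two parts
    have hx1 : x ^ (b * (m : ℤ)) ∈ Cfsg.fittingHallOf M := by
      rw [mul_comm, zpow_mul, zpow_natCast]
      exact Subgroup.zpow_mem _ (hMm x hxM) b
    have hx2C : x ^ (a * (n : ℤ)) ∈ Subgroup.centralizer (Cfsg.fittingHallOf M : Set G) :=
      Subgroup.zpow_mem _ hxC _
    have hx2M : x ^ (a * (n : ℤ)) ∈ M := Subgroup.zpow_mem _ hxM _
    have hx2m : (x ^ (a * (n : ℤ))) ^ m = 1 := by
      rw [← zpow_natCast, ← zpow_mul, mul_assoc, mul_comm, zpow_mul, ← Nat.cast_mul, zpow_natCast,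
        hMnm x hxM, one_zpow]
    have hx2M' : x ^ (a * (n : ℤ)) ∈ ⁅M, M⁆ := by
      apply hP.fitting_le
      rw [← hP.fitting_eq]
      exact Subgroup.mem_sup_right ⟨hx2M, hx2C⟩
    obtain ⟨h, hh, u, hu, hhu⟩ := hprod _ hx2M'
    have hcomm : Commute h⁻¹ (x ^ (a * (n : ℤ))) := by
      have := (Subgroup.mem_centralizer_iff.mp hx2C) h hh
      exact (Commute.inv_left (show Commute h (x ^ (a * (n : ℤ))) from this))
    have hu_eq : u = h⁻¹ * x ^ (a * (n : ℤ)) := by rw [hhu, inv_mul_cancel_left]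
    have hum : u ^ m = (h ^ m)⁻¹ := by
      rw [hu_eq, hcomm.mul_pow, hx2m, mul_one, inv_pow]
    have hhm : h ^ m = 1 := by
      have h1 : (h ^ m)⁻¹ ∈ Cfsg.fittingHallOf M ⊓ U :=
        ⟨Subgroup.inv_mem _ (Subgroup.pow_mem _ hh m), by rw [← hum]; exact Subgroup.pow_mem _ hu m⟩
      rw [hHU, Subgroup.mem_bot, inv_eq_one] at h1
      exact h1
    have hh1 : h = 1 := by
      have : h = h ^ (a * (n : ℤ) + b * (m : ℤ)) := by rw [hab, zpow_one]
      rw [this, zpow_add, mul_comm a, mul_comm b, zpow_mul, zpow_mul, zpow_natCast, zpow_natCast,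
        hHn h hh, hhm, one_zpow, one_zpow, one_mul]
    have hx2U : x ^ (a * (n : ℤ)) ∈ U := by
      rw [hhu, hh1, one_mul]; exact hu
    have hxdecomp : x = x ^ (a * (n : ℤ)) * x ^ (b * (m : ℤ)) := by
      rw [← zpow_add, hab, zpow_one]
    rw [hxdecomp]
    exact Subgroup.mul_mem _ (Subgroup.mem_sup_right ⟨hx2U, hx2C⟩) (Subgroup.mem_sup_left hx1)
  · exact sup_le_sup le_rfl (inf_le_inf_right _ (hUM'.trans hM'M))

end Cfsg.Agent.S1387
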