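import Cfsg.Statements.S1388
import Cfsg.Agent.S1387
import Cfsg.Agent.Helper23.Sup

set_option autoImplicit false
open Cfsg

namespace Cfsg.Agent.S1388

open Cfsg.Agent.Helper23

theorem le_normalizer_map_subtype {G : Type*} [Group G] (M : Subgroup G) (N : Subgroup ↥M)
    [hN : N.Normal] : M ≤ Subgroup.normalizer ((N.map M.subtype : Subgroup G) : Set G) := by
  intro m hm
  rw [Subgroup.mem_normalizer_iff]
  intro x
  constructor
  · rintro ⟨y, hy, rfl⟩
    exact ⟨⟨m, hm⟩ * y * ⟨m, hm⟩⁻¹, hN.conj_mem y hy _, by simp⟩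
  · rintro ⟨y, hy, hyx⟩
    have h1 := hN.conj_mem y hy ⟨m, hm⟩⁻¹
    refine ⟨_, h1, ?_⟩
    simp only [Subgroup.subtype_apply, Subgroup.coe_mul, Subgroup.coe_inv, inv_inv] at hyx ⊢
    rw [hyx]; simp [mul_assoc]

theorem card_eq_relIndex_mul_card {G : Type*} [Group G] {A B : Subgroup G} (h : A ≤ B) :
    Nat.card B = A.relIndex B * Nat.card A := by
  have := Subgroup.relIndex_mul_relIndex ⊥ A B bot_le h
  rw [Subgroup.relIndex_bot_left, Subgroup.relIndex_bot_left] at this
  rw [← this, mul_comm]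

/-- Let M be a subgroup of a finite group G with type-P data (W₁, U, W₂) and H = M_F. Then the derived subgroup of U centralizes H, and if U ≠ 1 then U does not centralize H. -/
theorem result {G : Type*} [Group G] [Finite G] (M W₁ U W₂ : Subgroup G) (hP : Cfsg.IsTypePWith M W₁ U W₂) :
    ⁅U, U⁆ ≤ Subgroup.centralizer (Cfsg.fittingHallOf M : Set G) ∧ (U ≠ ⊥ → ¬ U ≤ Subgroup.centralizer (Cfsg.fittingHallOf M : Set G)) := by
  obtain ⟨hHM', hUM', hHU, hprod⟩ := hP.U_compl
  have hM'M : ⁅M, M⁆ ≤ M := Subgroup.commutator_le_self M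
  constructor
  · intro y hy
    have hyU : y ∈ U := Subgroup.commutator_le_self U hy
    have h1 : y ∈ ⁅⁅M, M⁆, ⁅M, M⁆⁆ := Subgroup.commutator_mono hUM' hUM' hy
    have h2 := hP.derived_two_le h1
    rw [hP.fitting_eq, Cfsg.Agent.S1387.result M W₁ U W₂ hP] at h2
    have hcomm : ∀ a ∈ Cfsg.fittingHallOf M,
        ∀ b ∈ U ⊓ Subgroup.centralizer (Cfsg.fittingHallOf M : Set G), a * b = b * a := by
      intro a ha b hb
      exact (Subgroup.mem_centralizer_iff.mp hb.2) a ha
    obtain ⟨h, hh, c, hc, rfl⟩ := (mem_sup_iff_of_commute hcomm).mp h2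
    have hh1 : h ∈ Cfsg.fittingHallOf M ⊓ U := by
      refine ⟨hh, ?_⟩
      have := U.mul_mem hyU (U.inv_mem hc.1)
      simpa using this
    rw [hHU, Subgroup.mem_bot] at hh1
    rw [hh1, one_mul]
    exact hc.2
  · intro hUne hUC
    apply hUne
    have hUM : U ≤ M := hUM'.trans hM'M
    have hHM : Cfsg.fittingHallOf M ≤ M := hHM'.trans hM'M
    obtain ⟨-, hW₁M, hM'W₁, hprod'⟩ := hP.W₁_compl
    -- U commutes with H elementwise
    have hcommUH : ∀ a ∈ U, ∀ b ∈ Cfsg.fittingHallOf M, a * b = b * a := by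
      intro a ha b hb
      exact ((Subgroup.mem_centralizer_iff.mp (hUC ha)) b hb).symm
    -- M normalizes U
    have hMU : M ≤ Subgroup.normalizer (U : Set G) := by
      intro x hx
      obtain ⟨a, ha, b, hb, rfl⟩ := hprod' x hx
      obtain ⟨h, hh, u, hu, rfl⟩ := hprod a ha
      refine Subgroup.mul_mem _ (Subgroup.mul_mem _ ?_ (Subgroup.le_normalizer hu)) (hP.U_normal hb)
      exact le_normalizer_of_commute hcommUH hh
    -- normality of H in M
    have hMH : M ≤ Subgroup.normalizer ((Cfsg.fittingHallOf M : Subgroup G) : Set G) :=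
      le_normalizer_map_subtype M (Cfsg.fittingHall ↥M)
    -- cardinalities
    have e1 : ⁅M, M⁆ = Cfsg.fittingHallOf M ⊔ U := by
      apply le_antisymm
      · intro x hx
        obtain ⟨h, hh, u, hu, rfl⟩ := hprod x hx
        exact Subgroup.mul_mem _ (Subgroup.mem_sup_left hh) (Subgroup.mem_sup_right hu)
      · exact sup_le hHM' hUM'
    have e2 : M = ⁅M, M⁆ ⊔ W₁ := by
      apply le_antisymm
      · intro x hx
        obtain ⟨a, ha, b, hb, rfl⟩ := hprod' x hx
        exact Subgroup.mul_mem _ (Subgroup.mem_sup_left ha) (Subgroup.mem_sup_right hb)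
      · exact sup_le hM'M hW₁M
    have c1 : Nat.card ↥⁅M, M⁆ = Nat.card ↥(Cfsg.fittingHallOf M) * Nat.card ↥U := by
      rw [e1]
      exact card_sup_of_disjoint_of_le_normalizer hHU (hUM.trans hMH)
    have hM'norm : W₁ ≤ Subgroup.normalizer ((⁅M, M⁆ : Subgroup G) : Set G) := by
      have := le_normalizer_map_subtype M (commutator ↥M)
      rw [Subgroup.map_subtype_commutator] at this
      exact hW₁M.trans this
    have c2 : Nat.card ↥M = Nat.card ↥⁅M, M⁆ * Nat.card ↥W₁ := by
      conv_lhs => rw [e2]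
      exact card_sup_of_disjoint_of_le_normalizer hM'W₁ hM'norm
    have c3 := card_eq_relIndex_mul_card hUM
    have c4 := card_eq_relIndex_mul_card hW₁M
    have c5 := card_eq_relIndex_mul_card hHM
    have hposU : 0 < Nat.card ↥U := Nat.card_pos
    have hposH : 0 < Nat.card ↥(Cfsg.fittingHallOf M) := Nat.card_pos
    have hposW : 0 < Nat.card ↥W₁ := Nat.card_pos
    -- relIndex computations
    have r1 : U.relIndex M = Nat.card ↥(Cfsg.fittingHallOf M) * Nat.card ↥W₁ := by
      apply Nat.eq_of_mul_eq_mul_right hposU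
      rw [← c3, c2, c1]; ring
    have r2 : W₁.relIndex M = Nat.card ↥(Cfsg.fittingHallOf M) * Nat.card ↥U := by
      apply Nat.eq_of_mul_eq_mul_right hposW
      rw [← c4, c2, c1]
    have r3 : (Cfsg.fittingHallOf M).relIndex M = Nat.card ↥U * Nat.card ↥W₁ := by
      apply Nat.eq_of_mul_eq_mul_right hposH
      rw [← c5, c2, c1]; ring
    have g1 : (Nat.card ↥U).Coprime (Nat.card ↥W₁) := by
      have := hP.W₁_hall
      rw [r2] at this
      exact (Nat.Coprime.coprime_mul_left_right this).symm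
    have g2 : (Nat.card ↥U).Coprime (Nat.card ↥(Cfsg.fittingHallOf M)) := by
      have h1 := fittingHall_coprime ↥M
      have h2 : Nat.card ↥(Cfsg.fittingHallOf M) = Nat.card (Cfsg.fittingHall ↥M) := by
        unfold Cfsg.fittingHallOf
        rw [Subgroup.card_map_of_injective M.subtype_injective]
      have h3 : (Cfsg.fittingHallOf M).relIndex M = (Cfsg.fittingHall ↥M).index := by
        unfold Subgroup.relIndex Cfsg.fittingHallOf
        congr 1
        rw [Subgroup.subgroupOf]
        exact Subgroup.comap_map_eq_self_of_injective M.subtype_injective _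
      rw [← h2, ← h3, r3] at h1
      exact (Nat.Coprime.coprime_mul_right_right h1).symm
    -- U.subgroupOf M is a normal nilpotent Hall subgroup of M
    have hn : (U.subgroupOf M).Normal := by
      rw [← Subgroup.normalizer_eq_top_iff]
      rw [eq_top_iff]
      intro x _
      rw [Subgroup.mem_normalizer_iff]
      intro y
      have := (Subgroup.mem_normalizer_iff.mp (hMU x.2)) y
      simp only [Subgroup.mem_subgroupOf, Subgroup.coe_mul, Subgroup.coe_inv]
      exact this
    have hnil : Group.IsNilpotent ↥(U.subgroupOf M) := by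
      have := hP.U_nilpotent
      exact Group.nilpotent_of_mulEquiv (Subgroup.subgroupOfEquivOfLe hUM).symm
    have hcard : Nat.card ↥(U.subgroupOf M) = Nat.card ↥U :=
      Nat.card_congr (Subgroup.subgroupOfEquivOfLe hUM).toEquiv
    have hhall : (Nat.card ↥(U.subgroupOf M)).Coprime (U.subgroupOf M).index := by
      rw [hcard]
      show (Nat.card ↥U).Coprime (U.relIndex M)
      rw [r1]
      exact Nat.Coprime.mul_right g2 g1
    have hle := le_fittingHall hn hnil hhall
    rw [eq_bot_iff]
    intro u hu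
    have h1 : (⟨u, hUM hu⟩ : ↥M) ∈ Cfsg.fittingHall ↥M := hle (by
      rw [Subgroup.mem_subgroupOf]; exact hu)
    have h2 : u ∈ Cfsg.fittingHallOf M ⊓ U := ⟨⟨⟨u, hUM hu⟩, h1, rfl⟩, hu⟩
    rwa [hHU] at h2

end Cfsg.Agent.S1388
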