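import Cfsg.Statements.S1389
import Cfsg.Agent.S1350
import Cfsg.Agent.S1351
import Cfsg.Agent.S1352
import Cfsg.Agent.S1355
import Cfsg.Agent.S1365
import Cfsg.Agent.S1382
import Cfsg.Agent.Helper75.BGTypeCore

set_option autoImplicit false
open Cfsg

namespace Cfsg.Agent.S1389

/-- Let G be a minimal simple group of odd order and M a maximal subgroup, and let M_s be M' if M is of Type III or IV and M_F otherwise. Then N_G(P) ≤ M for every nontrivial Sylow subgroup P of M_s, and both M_F and M_s have order coprime to their index in G. -/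
theorem result {G : Type*} [Group G] [Finite G] (hG : Cfsg.IsMinSimpleOddOrder G)
    (M : Subgroup G) (hM : IsCoatom M) :
    (∀ (p : ℕ), p.Prime → ∀ (P : Sylow p ↥(Cfsg.typeCore M)), (P : Subgroup ↥(Cfsg.typeCore M)) ≠ ⊥ →
        Subgroup.normalizer ((((P : Subgroup ↥(Cfsg.typeCore M)).map (Cfsg.typeCore M).subtype : Subgroup G)) : Set G) ≤ M) ∧
      (Nat.card (Cfsg.fittingHallOf M)).Coprime (Cfsg.fittingHallOf M).index ∧
      (Nat.card (Cfsg.typeCore M)).Coprime (Cfsg.typeCore M).index := by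
  classical
  obtain ⟨hMsM, hMsG, -⟩ := Cfsg.Agent.S1350.result hG M hM
  obtain ⟨-, hHMs, -, -, -⟩ := Cfsg.Agent.S1355.result hG M hM
  -- data for `M_σ`
  have hMs_le : Cfsg.sigmaCore M ≤ M := hMsM.1
  have hMs_primes : ∀ p : ℕ, p.Prime → p ∣ Nat.card (Cfsg.sigmaCore M) → p ∈ Cfsg.sigma M :=
    hMsM.2.1
  have hMs_hall : (Nat.card (Cfsg.sigmaCore M)).Coprime ((Cfsg.sigmaCore M).relIndex M) := by
    apply Nat.coprime_of_dvd
    intro q hq h1 h2
    exact hMsM.2.2 q hq (hMs_primes q hq h1) h2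
  -- data for `M_F`
  have hH_le : Cfsg.fittingHallOf M ≤ M := Cfsg.Agent.Helper75.BGTypeCore.fittingHallOf_le M
  have hH_primes : ∀ p : ℕ, p.Prime → p ∣ Nat.card (Cfsg.fittingHallOf M) → p ∈ Cfsg.sigma M :=
    fun p hp hd => hMs_primes p hp (hd.trans (Subgroup.card_dvd_of_le hHMs))
  have hH_hall := Cfsg.Agent.Helper75.BGTypeCore.coprime_fittingHallOf M
  -- the statement for an arbitrary `T` with these data
  have key : ∀ T : Subgroup G, T ≤ M →
      (∀ p : ℕ, p.Prime → p ∣ Nat.card T → p ∈ Cfsg.sigma M) →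
      (Nat.card T).Coprime (T.relIndex M) →
      (∀ (p : ℕ), p.Prime → ∀ (P : Sylow p ↥T), (P : Subgroup ↥T) ≠ ⊥ →
        Subgroup.normalizer ((((P : Subgroup ↥T).map T.subtype : Subgroup G)) : Set G) ≤ M) ∧
      (Nat.card T).Coprime T.index := fun T h1 h2 h3 =>
    ⟨fun p hp P hP => Cfsg.Agent.Helper75.BGTypeCore.normalizer_sylow_le h1 h2 h3 p hp P hP,
      Cfsg.Agent.Helper75.BGTypeCore.coprime_index_of_hall h1 h2 h3 hMsG⟩
  have hT : Cfsg.typeCore M = Cfsg.sigmaCore M ∨ Cfsg.typeCore M = Cfsg.fittingHallOf M := by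
    unfold Cfsg.typeCore
    split_ifs with h
    · left
      obtain ⟨⟨K, hK⟩, hcyc⟩ := Cfsg.Agent.S1351.result hG M hM
      obtain ⟨⟨U, hKU⟩, -⟩ := Cfsg.Agent.S1352.result hG M hM K (hcyc K hK) hK
      obtain ⟨hK1, hU, -⟩ := (Cfsg.Agent.S1382.result hG M hM K U hKU).1 h
      have h65 := (Cfsg.Agent.S1365.result hG M hM K U hKU hK1).1
      rw [h65, hU, bot_sup_eq]
    · right; rfl
  have hHfin := key (Cfsg.fittingHallOf M) hH_le hH_primes hH_hall
  refine ⟨?_, hHfin.2, ?_⟩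
  · rcases hT with h | h
    · rw [h]
      exact (key _ hMs_le hMs_primes hMs_hall).1
    · rw [h]
      exact hHfin.1
  · rcases hT with h | h
    · rw [h]
      exact (key _ hMs_le hMs_primes hMs_hall).2
    · rw [h]
      exact hHfin.2

end Cfsg.Agent.S1389
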