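import Cfsg.Statements.S1390
import Cfsg.Agent.S1350
import Cfsg.Agent.S1351
import Cfsg.Agent.S1352
import Cfsg.Agent.S1354
import Cfsg.Agent.S1355
import Cfsg.Agent.S1357
import Cfsg.Agent.S1358
import Cfsg.Agent.S1361
import Cfsg.Agent.S1362
import Cfsg.Agent.S1364
import Cfsg.Agent.S1365
import Cfsg.Agent.Helper21.BGIIb

set_option autoImplicit false
open Cfsg

namespace Cfsg.Agent.S1390

/-- Let G be a minimal simple group of odd order, M a maximal subgroup and H = M_F; suppose M is of Type I and U is a complement to H in M, or M is of Type II and U is a complement to H in M'. Then every Sylow subgroup of U is abelian with no elementary abelian subgroup of order p ^ 3; for every nonempty set X of non-identity elements of U centralizing a non-identity element of H, C_G(X) ≤ M and M is the unique maximal subgroup containing C_G(X); and A(M) with A₁(M) removed is a TI-subset of G. -/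
theorem result {G : Type*} [Group G] [Finite G] (hG : Cfsg.IsMinSimpleOddOrder G)
    (M : Subgroup G) (hM : IsCoatom M) (U : Subgroup G)
    (hU : (Cfsg.IsOfTypeI M ∧ Cfsg.IsComplIn (Cfsg.fittingHallOf M) U M) ∨ (Cfsg.IsOfTypeII M ∧ Cfsg.IsComplIn (Cfsg.fittingHallOf M) U ⁅M, M⁆)) :
    (∀ (p : ℕ), p.Prime → ∀ P : Sylow p U, IsMulCommutative (P : Subgroup U) ∧ Cfsg.PRankLE p 2 (P : Subgroup U)) ∧
      (∀ X : Set G, X ⊆ (U : Set G) \ {1} → X.Nonempty → Cfsg.fittingHallOf M ⊓ Subgroup.centralizer X ≠ ⊥ →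
        Subgroup.centralizer X ≤ M ∧ ∀ L : Subgroup G, IsCoatom L → Subgroup.centralizer X ≤ L → L = M) ∧
      Cfsg.IsTISubset (Cfsg.typeA M \ Cfsg.typeA1 M) := by
  have h1351 := Cfsg.Agent.S1351.result hG M hM
  have h1355 := Cfsg.Agent.S1355.result hG M hM
  exact Cfsg.Agent.Helper21.BGIIb.s1390_core hG M hM
    (Cfsg.Agent.S1350.result hG M hM).1
    (by obtain ⟨K, hK⟩ := h1351.1; exact ⟨K, hK, h1351.2 K hK⟩)
    (fun K hKc hK => (Cfsg.Agent.S1352.result hG M hM K hKc hK).1)
    (fun K hKc hK => (Cfsg.Agent.S1354.result hG M hM K hKc hK).1)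
    ⟨h1355.2.1, h1355.2.2.1⟩
    (fun K U hKU hne => ⟨(Cfsg.Agent.S1357.result hG M hM K U hKU hne).1,
      (Cfsg.Agent.S1357.result hG M hM K U hKU hne).2.2⟩)
    (fun K U hKU => Cfsg.Agent.S1358.result hG M hM K U hKU)
    (fun K U hKU X hXU hX hXc => Cfsg.Agent.S1361.result hG M hM K U hKU X hXU hX hXc)
    (fun K U hKU => Cfsg.Agent.S1362.result hG M hM K U hKU)
    (fun K U hKU hK1 => (Cfsg.Agent.S1364.result hG M hM K U hKU hK1).2.2.1)
    (fun K U hKU hK1 => (Cfsg.Agent.S1365.result hG M hM K U hKU hK1).1)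
    U hU

end Cfsg.Agent.S1390
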