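import Cfsg.Statements.S1442
-- import your own Cfsg.Agent.* helpers here

set_option autoImplicit false
open Cfsg

namespace Cfsg.Agent.S1442

/-- If `a n a⁻¹ = z n` with `z` commuting with `a`, and the orders of `a` and `z` are coprime,
then `a` and `n` commute. -/
theorem commute_of_conj_eq_mul {G : Type*} [Group G] (a n z : G) (hconj : a * n * a⁻¹ = z * n)
    (hza : a * z = z * a) (hcop : (orderOf a).Coprime (orderOf z)) : a * n = n * a := by
  have hpow : ∀ k : ℕ, a ^ k * n * (a ^ k)⁻¹ = z ^ k * n := by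
    intro k
    induction k with
    | zero => simp
    | succ k ih =>
      have hzk : a * z ^ k = z ^ k * a := (Commute.pow_right (show Commute a z from hza) k)
      calc a ^ (k + 1) * n * (a ^ (k + 1))⁻¹
          = a * (a ^ k * n * (a ^ k)⁻¹) * a⁻¹ := by
            rw [pow_succ']; group
        _ = a * (z ^ k * n) * a⁻¹ := by rw [ih]
        _ = (a * z ^ k) * n * a⁻¹ := by group
        _ = z ^ k * (a * n * a⁻¹) := by rw [hzk]; group
        _ = z ^ (k + 1) * n := by rw [hconj, pow_succ]; group
  have h1 := hpow (orderOf a)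
  rw [pow_orderOf_eq_one] at h1
  have hz1 : z ^ orderOf a = 1 := by
    have : n = z ^ orderOf a * n := by simpa using h1
    have h2 : z ^ orderOf a * n = 1 * n := by rw [one_mul]; exact this.symm
    exact mul_right_cancel h2
  have hdvd : orderOf z ∣ orderOf a := orderOf_dvd_of_pow_eq_one hz1
  have hz : orderOf z = 1 := Nat.eq_one_of_dvd_coprimes hcop.symm (dvd_refl _) hdvd
  rw [orderOf_eq_one_iff] at hz
  rw [hz, one_mul] at hconj
  calc a * n = a * n * a⁻¹ * a := by group
    _ = n * a := by rw [hconj]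

/-- Let G be a finite group, H a nilpotent subgroup and A a subgroup normalizing H with the orders of A and H coprime. Put C = H ∩ C_G(A). If H ∩ C_G(C) ≤ C then A centralizes H. -/
theorem result {G : Type*} [Group G] [Finite G] (H A : Subgroup G) (hH : Group.IsNilpotent H) (hA : (A ≤ Subgroup.normalizer (H : Set G))) (hcop : (Nat.card A).Coprime (Nat.card H))
    (hC : H ⊓ Subgroup.centralizer (((H ⊓ Subgroup.centralizer (A : Set G)) : Subgroup G) : Set G) ≤ (H ⊓ Subgroup.centralizer (A : Set G))) :
    A ≤ Subgroup.centralizer (H : Set G) := by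
  set C : Subgroup G := H ⊓ Subgroup.centralizer (A : Set G) with hCdef
  -- it suffices to show C = H
  suffices hCH : (C.subgroupOf H) = ⊤ by
    intro a ha
    rw [Subgroup.mem_centralizer_iff]
    intro h hh
    have : (⟨h, hh⟩ : H) ∈ C.subgroupOf H := by rw [hCH]; trivial
    rw [Subgroup.mem_subgroupOf] at this
    have h2 : h ∈ Subgroup.centralizer (A : Set G) := (Subgroup.mem_inf.mp this).2
    rw [Subgroup.mem_centralizer_iff] at h2
    exact (h2 a ha).symm
  by_contra hne
  have hlt : C.subgroupOf H < ⊤ := lt_top_iff_ne_top.mpr hne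
  have hnc := (Group.normalizerCondition_of_isNilpotent (G := H)) (C.subgroupOf H) hlt
  obtain ⟨n, hnN, hnC⟩ := SetLike.exists_of_lt hnc
  apply hnC
  rw [Subgroup.mem_subgroupOf]
  refine Subgroup.mem_inf.mpr ⟨n.2, ?_⟩
  rw [Subgroup.mem_centralizer_iff]
  intro a ha
  -- n normalizes C inside H
  have hnorm : ∀ c : G, c ∈ C → (n : G)⁻¹ * c * (n : G) ∈ C := by
    intro c hc
    have hcH : c ∈ H := (Subgroup.mem_inf.mp hc).1
    have h1 := (Subgroup.mem_normalizer_iff''.mp hnN) ⟨c, hcH⟩
    have h2 : (⟨c, hcH⟩ : H) ∈ C.subgroupOf H := by rw [Subgroup.mem_subgroupOf]; exact hc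
    have h3 := h1.mp h2
    rw [Subgroup.mem_subgroupOf] at h3
    simpa using h3
  -- the commutator z = a n a⁻¹ n⁻¹ lies in H
  have haH : a * (n : G) * a⁻¹ ∈ H := by
    have := (Subgroup.mem_normalizer_iff.mp (hA ha)) (n : G)
    exact this.mp n.2
  set z : G := a * (n : G) * a⁻¹ * (n : G)⁻¹ with hzdef
  have hzH : z ∈ H := H.mul_mem haH (H.inv_mem n.2)
  -- z centralizes C
  have hzcent : z ∈ Subgroup.centralizer (C : Set G) := by
    rw [Subgroup.mem_centralizer_iff]
    intro c hc
    have hc' := hnorm c hc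
    have hcA : ∀ b ∈ A, b * c = c * b := by
      intro b hb
      have := (Subgroup.mem_inf.mp hc).2
      rw [Subgroup.mem_centralizer_iff] at this
      exact (this b hb)
    have hc'A : ∀ b ∈ A, b * ((n : G)⁻¹ * c * (n : G)) = ((n : G)⁻¹ * c * (n : G)) * b := by
      intro b hb
      have := (Subgroup.mem_inf.mp hc').2
      rw [Subgroup.mem_centralizer_iff] at this
      exact (this b hb)
    have e1 := hcA a ha
    have e2 := hc'A a⁻¹ (A.inv_mem ha)
    -- c * z = z * c
    have : z * c * z⁻¹ = c := by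
      calc z * c * z⁻¹ = a * (n : G) * (a⁻¹ * ((n : G)⁻¹ * c * (n : G))) * a * (n : G)⁻¹ * a⁻¹ := by
            rw [hzdef]; group
        _ = a * (n : G) * (((n : G)⁻¹ * c * (n : G)) * a⁻¹) * a * (n : G)⁻¹ * a⁻¹ := by rw [e2]
        _ = (a * c) * a⁻¹ := by group
        _ = c := by rw [e1]; group
    calc c * z = (z * c * z⁻¹) * z := by rw [this]
      _ = z * c := by group
  have hzC : z ∈ C := hC (Subgroup.mem_inf.mpr ⟨hzH, hzcent⟩)
  have hza : a * z = z * a := by
    have := (Subgroup.mem_inf.mp hzC).2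
    rw [Subgroup.mem_centralizer_iff] at this
    exact this a ha
  have hconj : a * (n : G) * a⁻¹ = z * (n : G) := by rw [hzdef]; group
  have hoa : orderOf a ∣ Nat.card A := by
    have : orderOf (⟨a, ha⟩ : A) ∣ Nat.card A := orderOf_dvd_natCard _
    rwa [Subgroup.orderOf_mk] at this
  have hoz : orderOf z ∣ Nat.card H := by
    have : orderOf (⟨z, hzH⟩ : H) ∣ Nat.card H := orderOf_dvd_natCard _
    rwa [Subgroup.orderOf_mk] at this
  have hcop' : (orderOf a).Coprime (orderOf z) :=
    Nat.Coprime.coprime_dvd_left hoa (Nat.Coprime.coprime_dvd_right hoz hcop)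
  exact commute_of_conj_eq_mul a (n : G) z hconj hza hcop'

end Cfsg.Agent.S1442
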