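-- S1456: Bender–Glauberman: solvable odd-order G, E ≤ F(G) elementary abelian with C_F(E) of rank ≤ 2
-- ⇒ G' ≤ F(G) (helper32; builds on helper4 RankTwoSolv2 and the narrow-group lemma).
import Cfsg.Statements.S1456
import Cfsg.Agent.Helper32.Narrow
import Cfsg.Agent.Helper4.RankTwoSolv2
import Cfsg.Agent.Helper63.PrimePow

set_option autoImplicit false
open Cfsg

namespace Cfsg.Agent.S1456

open Cfsg.Agent.Helper4

/-- helper4's `commutator_le_fittingSubgroup` with the key property `hstar` as a hypothesis:
if the derived subgroup of the solvable group `G` acts on every `O_p(G)` as a `p`-group, then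
`G' ≤ F(G)`. -/
theorem commutator_le_fittingSubgroup_of_star {G : Type*} [Group G] [Finite G]
    [Group.IsSolvable G]
    (hstar : ∀ p : ℕ, p.Prime → ∀ c ∈ commutator G, ∃ i : ℕ,
      c ^ p ^ i ∈ Subgroup.centralizer (Cfsg.pCore p G : Set G)) :
    commutator G ≤ Cfsg.fittingSubgroup G := by
  classical
  set F := Cfsg.fittingSubgroup G with hF
  set N := commutator G with hN
  have hOF : ∀ p : ℕ, p.Prime → Cfsg.pCore p G ≤ F := by
    intro p hp
    haveI := Fact.mk hp
    exact Cfsg.Agent.Lib.pCore_le_fittingSubgroup p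
  have hOFi : ∀ p : ℕ, p.Prime → ((Cfsg.pCore p G).relIndex F).Coprime p := by
    intro p hp
    haveI := Fact.mk hp
    exact Cfsg.Agent.Lib.relIndex_pCore_fittingSubgroup_coprime p
  -- an element centralizing every `O_p(G)` lies in `F`
  have hcentF : ∀ x : G, (∀ p : ℕ, p.Prime → x ∈ Subgroup.centralizer (Cfsg.pCore p G : Set G)) →
      x ∈ F := by
    intro x hx
    apply Cfsg.Agent.S0044.result
    have hle : F ≤ Subgroup.centralizer ({x} : Set G) := by
      apply le_of_forall_prime_exists_le
      intro r hr'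
      refine ⟨Cfsg.pCore r G, ?_, hOFi r hr'⟩
      intro y hy
      rw [Subgroup.mem_centralizer_singleton_iff]
      exact Subgroup.mem_centralizer_iff.mp (hx r hr') y hy
    rw [Subgroup.mem_centralizer_iff]
    intro y hy
    have := Subgroup.mem_centralizer_singleton_iff.mp (hle hy)
    exact this
  apply le_of_forall_prime_exists_le
  intro q hq
  haveI := Fact.mk hq
  obtain ⟨Q⟩ : Nonempty (Sylow q N) := inferInstance
  refine ⟨(Q : Subgroup N).map N.subtype, ?_, relIndex_map_sylow_coprime N q Q⟩
  -- the subgroup `T`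
  set J : Subgroup G := ⨆ p ∈ {p : ℕ | p.Prime ∧ p ≠ q}, Cfsg.pCore p G with hJ
  haveI hJn : J.Normal := Subgroup.biSup_normal _ _ (fun p _ => inferInstance)
  haveI hCJn : (Subgroup.centralizer (J : Set G)).Normal := Subgroup.normal_centralizer
  haveI hNn : N.Normal := by rw [hN, commutator_def]; infer_instance
  set T : Subgroup G := N ⊓ Subgroup.centralizer (J : Set G) with hT
  have hTn : T.Normal := Subgroup.normal_inf_normal _ _
  have hOJ : ∀ p : ℕ, p.Prime → p ≠ q → Cfsg.pCore p G ≤ J := by
    intro p hp hpq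
    exact le_biSup (fun p => Cfsg.pCore p G) (show p ∈ {p : ℕ | p.Prime ∧ p ≠ q} from ⟨hp, hpq⟩)
  have hJF : J ≤ F := by
    apply iSup₂_le
    intro p hp
    exact hOF p hp.1
  -- `q`-elements of `N` lie in `T`
  have hqT : ∀ y ∈ N, (∃ k : ℕ, y ^ q ^ k = 1) → y ∈ T := by
    rintro y hy ⟨k, hk⟩
    suffices hyc : y ∈ Subgroup.centralizer (J : Set G) from ⟨hy, hyc⟩
    have hle : J ≤ Subgroup.centralizer ({y} : Set G) := by
      apply iSup₂_le
      intro p hp
      obtain ⟨i, hi⟩ := hstar p hp.1 y hy
      have hcop : (p ^ i).Coprime (orderOf y) := by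
        apply Nat.Coprime.pow_left
        have h1 : orderOf y ∣ q ^ k := orderOf_dvd_of_pow_eq_one hk
        have h2 : p.Coprime (q ^ k) :=
          Nat.Coprime.pow_right k ((Nat.coprime_primes hp.1 hq).mpr hp.2)
        exact Nat.Coprime.coprime_dvd_right h1 h2
      obtain ⟨m, hm⟩ := exists_pow_eq_self_of_coprime hcop
      have hyc : y ∈ Subgroup.centralizer (Cfsg.pCore p G : Set G) := by
        rw [← hm]
        exact Subgroup.pow_mem _ hi m
      intro z hz
      rw [Subgroup.mem_centralizer_singleton_iff]
      exact Subgroup.mem_centralizer_iff.mp hyc z hz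
    rw [Subgroup.mem_centralizer_iff]
    intro z hz
    exact Subgroup.mem_centralizer_singleton_iff.mp (hle hz)
  -- the index of `J` in `F` is a power of `q`
  have hJidx : ∃ k : ℕ, J.relIndex F = q ^ k := by
    refine ⟨_, Nat.eq_prime_pow_of_unique_prime_dvd ?_ ?_⟩
    · have h0 : (J.subgroupOf F).index ≠ 0 := Subgroup.index_ne_zero_of_finite
      exact h0
    · intro d hd hdd
      by_contra hdq
      have h1 : J.relIndex F ∣ (Cfsg.pCore d G).relIndex F :=
        Subgroup.relIndex_dvd_of_le_left F (hOJ d hd hdq)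
      exact hd.one_lt.ne' (Nat.Coprime.eq_one_of_dvd (hOFi d hd).symm (hdd.trans h1))
  obtain ⟨kJ, hkJ⟩ := hJidx
  -- every element of `T` has a `q`-power in `J`
  have hpowJ : ∀ x ∈ T, ∃ i : ℕ, x ^ q ^ i ∈ J := by
    intro x hx
    obtain ⟨j, hj⟩ := hstar q hq x hx.1
    set u := x ^ q ^ j with hu
    have huT : u ∈ T := T.pow_mem hx _
    have huF : u ∈ F := by
      apply hcentF
      intro p hp
      by_cases hpq : p = q
      · rw [hpq]; exact hj
      · exact Subgroup.centralizer_le (hOJ p hp hpq) huT.2
    haveI : (J.subgroupOf F).Normal := Subgroup.normal_subgroupOf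
    have h1 := Subgroup.pow_index_mem (J.subgroupOf F) (⟨u, huF⟩ : F)
    rw [Subgroup.mem_subgroupOf] at h1
    have h2 : (J.subgroupOf F).index = q ^ kJ := hkJ
    rw [h2] at h1
    refine ⟨j + kJ, ?_⟩
    rw [pow_add, pow_mul]
    simpa using h1
  -- `T` is nilpotent
  have hTnil : Group.IsNilpotent T := by
    apply Group.of_quotient_center_nilpotent
    have hPG : IsPGroup q (↥T ⧸ Subgroup.center ↥T) := by
      intro y
      induction y using QuotientGroup.induction_on with
      | H x =>
        obtain ⟨i, hi⟩ := hpowJ x x.2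
        refine ⟨i, ?_⟩
        rw [← QuotientGroup.mk_pow, QuotientGroup.eq_one_iff, Subgroup.mem_center_iff]
        intro w
        apply Subtype.ext
        have hw := Subgroup.mem_centralizer_iff.mp w.2.2 _ hi
        simpa using hw.symm
    exact hPG.isNilpotent
  have hTF : T ≤ F := Cfsg.Agent.Lib.le_fittingSubgroup hTn hTnil
  rintro _ ⟨y, hy, rfl⟩
  apply hTF
  apply hqT _ y.2
  obtain ⟨k, hk⟩ := Q.isPGroup' ⟨y, hy⟩
  exact ⟨k, by simpa using congrArg (fun z : (Q : Subgroup N) => ((z : N) : G)) hk⟩


/-- Let G be a solvable group of odd order, p a prime, and E an elementary abelian p-subgroup of the Fitting subgroup F(G) such that F(G) ∩ C_G(E) has no elementary abelian subgroup of order q ^ 3 for any prime q. Then the derived subgroup of G is contained in F(G). -/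
theorem result {G : Type*} [Group G] [Finite G] [Group.IsSolvable G] (hodd : Odd (Nat.card G)) (p : ℕ) [Fact p.Prime] (E : Subgroup G) (hE : E ≤ Cfsg.fittingSubgroup G) (hEe : Cfsg.IsElementaryAbelian p E)
    (hr : Cfsg.RankLE 2 ↥(Cfsg.fittingSubgroup G ⊓ Subgroup.centralizer (E : Set G))) :
    commutator G ≤ Cfsg.fittingSubgroup G := by
  classical
  have hpp : p.Prime := Fact.out
  set F := Cfsg.fittingSubgroup G with hF
  set P := Cfsg.pCore p G with hP
  have hPp : IsPGroup p P := Cfsg.Agent.Lib.isPGroup_pCore p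
  -- `E ≤ O_p(G)`
  have hEP : E ≤ P := by
    intro x hx
    apply Cfsg.Agent.Helper63.mem_pCore_of_mem_fittingSubgroup (k := 1) (hE hx)
    rw [pow_one]
    exact hEe.2 x hx
  apply commutator_le_fittingSubgroup_of_star
  intro q hq
  haveI := Fact.mk hq
  by_cases hqp : q = p
  · subst hqp
    by_cases hrk : Cfsg.PRankLE q 2 ↥P
    · exact exists_pow_mem_centralizer_pCore hodd q hrk
    · -- the narrow case
      have hq2 : q ≠ 2 := by
        intro h2
        apply hrk
        have hcard : Nat.card P = 1 := by
          obtain ⟨k, hk⟩ := IsPGroup.iff_card.mp hPp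
          have hdvd : Nat.card P ∣ Nat.card G := Subgroup.card_subgroup_dvd_card P
          have hoddP : Odd (Nat.card P) := Odd.of_dvd_nat hodd hdvd
          rw [hk, h2] at hoddP
          rcases Nat.eq_zero_or_pos k with h0 | hpos
          · rw [hk, h0, pow_zero]
          · exfalso
            have : Even (2 ^ k) := (Nat.even_pow.mpr ⟨even_two, hpos.ne'⟩)
            exact (Nat.not_odd_iff_even.mpr this) hoddP
        intro A _ _
        have h1 : Nat.card A ≤ Nat.card P := by
          have := Subgroup.card_subgroup_dvd_card A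
          exact Nat.le_of_dvd Nat.card_pos this
        rw [hcard] at h1
        exact h1.trans (Nat.one_le_pow _ _ hq.pos)
      set E' : Subgroup P := E.subgroupOf P with hE'
      have hE'e : Cfsg.IsElementaryAbelian q E' := by
        refine ⟨?_, ?_⟩
        · rw [Cfsg.Agent.Helper23.isMulCommutative_subgroup_iff]
          intro a ha b hb
          apply Subtype.ext
          have := hEe.1.is_comm.comm ⟨(a : G), Subgroup.mem_subgroupOf.mp ha⟩
            ⟨(b : G), Subgroup.mem_subgroupOf.mp hb⟩
          simpa using congrArg Subtype.val this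
        · intro a ha
          apply Subtype.ext
          rw [SubgroupClass.coe_pow]
          exact hEe.2 _ (Subgroup.mem_subgroupOf.mp ha)
      have hCE' : Cfsg.PRankLE q 2 ↥(Subgroup.centralizer (E' : Set P)) := by
        have hmem : ∀ x : ↥(Subgroup.centralizer (E' : Set P)),
            (((x : P) : G)) ∈ F ⊓ Subgroup.centralizer (E : Set G) := by
          intro x
          refine ⟨Cfsg.Agent.Lib.pCore_le_fittingSubgroup q (x : P).2,
            Subgroup.mem_centralizer_iff.mpr ?_⟩
          intro a ha
          have h1 := Subgroup.mem_centralizer_iff.mp x.2 ⟨a, hEP ha⟩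
            (Subgroup.mem_subgroupOf.mpr ha)
          simpa using congrArg Subtype.val h1
        set f : ↥(Subgroup.centralizer (E' : Set P)) →*
            ↥(F ⊓ Subgroup.centralizer (E : Set G)) :=
          (P.subtype.comp (Subgroup.centralizer (E' : Set P)).subtype).codRestrict _ hmem with hf
        have hfinj : Function.Injective f := by
          intro a b hab
          have h0 : ((f a : ↥(F ⊓ Subgroup.centralizer (E : Set G))) : G) = (f b : G) :=
            congrArg Subtype.val hab
          have h1 : ((a : P) : G) = ((b : P) : G) := h0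
          exact Subtype.ext (Subtype.ext h1)
        exact Cfsg.Agent.Helper23.pRankLE_of_injective q 2 f hfinj (hr q hq)
      have hmain := Cfsg.Agent.Helper32.Narrow.narrow_commutator_aut (R := ↥P) q hq2 hPp hrk
        E' hE'e hCE'
      intro c hc
      set Θ : G →* MulAut ↥P := MulAut.conjNormal with hΘ
      have hΘc : Θ c ∈ commutator (MulAut ↥P) := by
        have h1 : Θ c ∈ (commutator G).map Θ := Subgroup.mem_map_of_mem Θ hc
        rw [commutator_def, Subgroup.map_commutator] at h1
        rw [commutator_def]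
        exact Subgroup.commutator_mono le_top le_top h1
      obtain ⟨i, hi⟩ := hmain (Θ c) hΘc
      refine ⟨i, ?_⟩
      rw [Subgroup.mem_centralizer_iff]
      intro x hx
      have h1 : (Θ (c ^ q ^ i)) ⟨x, hx⟩ = ⟨x, hx⟩ := by rw [map_pow, hi]; rfl
      have h2 : c ^ q ^ i * x * (c ^ q ^ i)⁻¹ = x := by
        have := congrArg Subtype.val h1
        rwa [hΘ, MulAut.conjNormal_apply] at this
      calc x * c ^ q ^ i = (c ^ q ^ i * x * (c ^ q ^ i)⁻¹) * c ^ q ^ i := by rw [h2]
        _ = c ^ q ^ i * x := by group
  · -- `q ≠ p`: `O_q(G)` has rank at most two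
    have hOq : Cfsg.pCore q G ≤ F ⊓ Subgroup.centralizer (E : Set G) := by
      intro y hy
      refine ⟨Cfsg.Agent.Lib.pCore_le_fittingSubgroup q hy,
        Subgroup.mem_centralizer_iff.mpr ?_⟩
      intro a ha
      have hdis : Disjoint P (Cfsg.pCore q G) :=
        IsPGroup.disjoint_of_ne p q (fun h => hqp h.symm) _ _ hPp
          (Cfsg.Agent.Lib.isPGroup_pCore q)
      exact (Subgroup.commute_of_normal_of_disjoint P (Cfsg.pCore q G) inferInstance
        inferInstance hdis a y (hEP ha) hy)
    have hrk : Cfsg.PRankLE q 2 ↥(Cfsg.pCore q G) := pRankLE_of_le hOq (hr q hq)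
    exact exists_pow_mem_centralizer_pCore hodd q hrk

end Cfsg.Agent.S1456
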