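import Cfsg.Statements.S1458
import Cfsg.Agent.Helper21.ZJe6
import Cfsg.Agent.Helper64.OddStable
import Cfsg.Agent.Helper54.PConstrained3

set_option autoImplicit false
open Cfsg

namespace Cfsg.Agent.S1458

/-- Let G be a solvable group of odd order, p a prime and S a Sylow p-subgroup of G. Then the subgroup generated by the centre of the Thompson subgroup of S and O_{p'}(G) is normal in G. -/
theorem result {G : Type*} [Group G] [Finite G] [Group.IsSolvable G] (hodd : Odd (Nat.card G)) (p : ℕ) [Fact p.Prime] (S : Sylow p G) :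
    (Cfsg.centerThompsonOf p (S : Subgroup G) ⊔ Cfsg.pPrimeCore p G).Normal := by
  have hKn : (Cfsg.pPrimeCore p G).Normal := by
    have := Cfsg.Agent.Lib.pPrimeCore_characteristic (G := G) p
    infer_instance
  by_cases hp2 : p = 2
  · -- the Sylow 2-subgroup of a group of odd order is trivial
    have hS : (S : Subgroup G) = ⊥ := by
      obtain ⟨n, hn⟩ := IsPGroup.iff_card.1 S.2
      have hdvd : Nat.card (S : Subgroup G) ∣ Nat.card G := Subgroup.card_subgroup_dvd_card _
      have hoddS : Odd (Nat.card (S : Subgroup G)) := Odd.of_dvd_nat hodd hdvd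
      rw [hn, hp2] at hoddS
      have hn0 : n = 0 := by
        by_contra hne
        have : Even (2 ^ n) := (Nat.even_pow.2 ⟨even_two, hne⟩)
        exact (Nat.not_even_iff_odd.2 hoddS) this
      rw [hn0, pow_zero] at hn
      exact Subgroup.card_eq_one.1 hn
    have hZ : Cfsg.centerThompsonOf p (S : Subgroup G) = ⊥ := by
      rw [eq_bot_iff, ← hS]
      exact Cfsg.Agent.Helper21.ZJe.centerThompsonOf_le p _
    rw [hZ, bot_sup_eq]
    exact hKn
  · have hcons : Cfsg.IsPConstrained p G := Cfsg.Agent.Helper54.isPConstrained_of_isSolvable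
    have hcb := Cfsg.Agent.Helper54.isPConstrained_iff.1 hcons
    have hoddq : Odd (Nat.card (G ⧸ Cfsg.pPrimeCore p G)) :=
      Odd.of_dvd_nat hodd (Subgroup.card_quotient_dvd_card _)
    exact Cfsg.Agent.Helper21.ZJe.centerThompsonOf_sup_pPrimeCore_normal hp2 hcb
      (fun Pb _ hPb => Cfsg.Agent.Helper64.isPStableOn_of_odd_solvable hoddq Pb hPb) S

end Cfsg.Agent.S1458
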