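import Cfsg.Statements.S1460
import Cfsg.Agent.Helper1.SZ

set_option autoImplicit false
open Cfsg

namespace Cfsg.Agent.S1460

open Cfsg.Agent.Helper1 Pointwise

variable {G : Type*} [Group G]

/-- An element lying in two subgroups of coprime orders is trivial. -/
theorem eq_one_of_mem_of_coprime [Finite G] {A B : Subgroup G}
    (h : (Nat.card A).Coprime (Nat.card B)) {x : G} (hA : x ∈ A) (hB : x ∈ B) : x = 1 := by
  have h1 : orderOf x ∣ Nat.card A := Subgroup.orderOf_dvd_natCard _ hA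
  have h2 : orderOf x ∣ Nat.card B := Subgroup.orderOf_dvd_natCard _ hB
  exact orderOf_eq_one_iff.mp (Nat.eq_one_of_dvd_coprimes h h1 h2)

/-- `c ∈ K` (normal, of order prime to `|H|`) with `c H c⁻¹ ⊆ H` centralizes `H`. -/
theorem mem_centralizer_of_conj_mem [Finite G] {K H : Subgroup G} [hK : K.Normal]
    (hcop : (Nat.card H).Coprime (Nat.card K)) {c : G} (hc : c ∈ K)
    (hcH : ∀ h ∈ H, c * h * c⁻¹ ∈ H) : c ∈ Subgroup.centralizer (H : Set G) := by
  rw [Subgroup.mem_centralizer_iff]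
  intro h hh
  have h1 : c * h * c⁻¹ * h⁻¹ ∈ H := H.mul_mem (hcH h hh) (H.inv_mem hh)
  have h2 : c * h * c⁻¹ * h⁻¹ ∈ K := by
    have h3 : h * c⁻¹ * h⁻¹ ∈ K := hK.conj_mem _ (K.inv_mem hc) h
    have h4 := K.mul_mem hc h3
    have h5 : c * (h * c⁻¹ * h⁻¹) = c * h * c⁻¹ * h⁻¹ := by group
    rw [h5] at h4; exact h4
  have h6 := eq_one_of_mem_of_coprime hcop h1 h2
  have h7 := mul_inv_eq_one.mp h6
  exact (mul_inv_eq_iff_eq_mul.mp h7).symm

theorem part3 [Finite G] [Group.IsSolvable G] (K U H : Subgroup G) [hKn : K.Normal]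
    (hKU : K ⊔ U = ⊤) (hH : H ≤ U) (hcop : (Nat.card H).Coprime (Nat.card K)) (g : G)
    (hg : H.map (MulAut.conj g).toMonoidHom ≤ U) :
    ∃ u ∈ U, ∃ c ∈ K ⊓ Subgroup.centralizer (H : Set G), g = u * c := by
  have hgm : g ∈ U ⊔ K := by rw [sup_comm, hKU]; exact Subgroup.mem_top g
  obtain ⟨u, hu, k, hk, rfl⟩ := Subgroup.mem_sup_of_normal_right.mp hgm
  -- `k H k⁻¹ ≤ U`
  have hkU : ∀ h ∈ H, k * h * k⁻¹ ∈ U := by
    intro h hh
    have h1 : (u * k) * h * (u * k)⁻¹ ∈ U := hg ⟨h, hh, rfl⟩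
    have h2 : k * h * k⁻¹ = u⁻¹ * ((u * k) * h * (u * k)⁻¹) * u := by group
    rw [h2]
    exact U.mul_mem (U.mul_mem (U.inv_mem hu) h1) hu
  have hdisj : K ⊓ H = ⊥ := by
    rw [eq_bot_iff]
    intro x hx
    obtain ⟨h1, h2⟩ := Subgroup.mem_inf.mp hx
    exact Subgroup.mem_bot.mpr (eq_one_of_mem_of_coprime hcop h2 h1)
  have hdisj1 : K ⊓ (MulAut.conj k • H) = ⊥ := by
    rw [eq_bot_iff]
    intro x hx
    obtain ⟨h1, h2⟩ := Subgroup.mem_inf.mp hx
    rw [mem_conj_smul] at h2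
    have h3 : k⁻¹ * x * k ∈ K := by
      have := hKn.conj_mem x h1 k⁻¹
      rwa [inv_inv] at this
    have h4 := eq_one_of_mem_of_coprime hcop h2 h3
    rw [Subgroup.mem_bot]
    calc x = k * (k⁻¹ * x * k) * k⁻¹ := by group
      _ = 1 := by rw [h4]; group
  have hHL : H ≤ U ⊓ (K ⊔ H) := le_inf hH le_sup_right
  have hH1L : MulAut.conj k • H ≤ U ⊓ (K ⊔ H) := by
    intro x hx
    rw [mem_conj_smul] at hx
    have h1 : x = k * (k⁻¹ * x * k) * k⁻¹ := by group
    rw [h1]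
    refine Subgroup.mem_inf.mpr ⟨hkU _ hx, ?_⟩
    exact Subgroup.mul_mem _ (Subgroup.mul_mem _ (Subgroup.mem_sup_left hk)
      (Subgroup.mem_sup_right hx)) (Subgroup.inv_mem _ (Subgroup.mem_sup_left hk))
  have hprod : ∀ l ∈ U ⊓ (K ⊔ H), ∃ m ∈ K, ∃ x ∈ H, l = m * x := by
    intro l hl
    obtain ⟨m, hm, x, hx, rfl⟩ := Subgroup.mem_sup_of_normal_left.mp (Subgroup.mem_inf.mp hl).2
    exact ⟨m, hm, x, hx, rfl⟩
  have hprod1 : ∀ l ∈ U ⊓ (K ⊔ H), ∃ m ∈ K, ∃ x ∈ MulAut.conj k • H, l = m * x := by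
    intro l hl
    obtain ⟨m, hm, x, hx, rfl⟩ := hprod l hl
    refine ⟨m * x * (k * x * k⁻¹)⁻¹, ?_, k * x * k⁻¹, conj_mem_conj_smul hx, by group⟩
    have h1 : x * k * x⁻¹ ∈ K := hKn.conj_mem k hk x
    have h2 : m * x * (k * x * k⁻¹)⁻¹ = m * (x * k * x⁻¹) * k⁻¹ := by group
    rw [h2]
    exact K.mul_mem (K.mul_mem hm h1) (K.inv_mem hk)
  have hc1 := isComplement'_subgroupOf hHL hdisj hprod
  have hc2 := isComplement'_subgroupOf hH1L hdisj1 hprod1
  have hcop' : (Nat.card (K.subgroupOf (U ⊓ (K ⊔ H)))).Coprime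
      (Nat.card (H.subgroupOf (U ⊓ (K ⊔ H)))) := by
    rw [card_subgroupOf_of_le hHL]
    exact Nat.Coprime.coprime_dvd_left (card_subgroupOf_dvd K _) hcop.symm
  obtain ⟨l, hl⟩ := sz_conj (K.subgroupOf (U ⊓ (K ⊔ H))) (H.subgroupOf (U ⊓ (K ⊔ H)))
    ((MulAut.conj k • H).subgroupOf (U ⊓ (K ⊔ H))) hcop' hc1 hc2 (Or.inl inferInstance)
  have hconj : MulAut.conj (l : G) • H = MulAut.conj k • H := conj_of_subgroupOf hHL hH1L l hl
  obtain ⟨m, hm, h₀, hh₀, hl0⟩ := hprod (l : G) l.2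
  have hmU : m ∈ U := by
    have h1 : m = (l : G) * h₀⁻¹ := by rw [hl0]; group
    rw [h1]
    exact U.mul_mem (Subgroup.mem_inf.mp l.2).1 (U.inv_mem (hH hh₀))
  -- `c = m⁻¹ k`
  have hcK : m⁻¹ * k ∈ K := K.mul_mem (K.inv_mem hm) hk
  have hcH : ∀ h ∈ H, (m⁻¹ * k) * h * (m⁻¹ * k)⁻¹ ∈ H := by
    intro h hh
    have h1 : k * h * k⁻¹ ∈ MulAut.conj (l : G) • H := by
      rw [hconj]; exact conj_mem_conj_smul hh
    rw [mem_conj_smul, hl0] at h1
    have h2 : (m⁻¹ * k) * h * (m⁻¹ * k)⁻¹ =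
        h₀ * ((m * h₀)⁻¹ * (k * h * k⁻¹) * (m * h₀)) * h₀⁻¹ := by group
    rw [h2]
    exact H.mul_mem (H.mul_mem hh₀ h1) (H.inv_mem hh₀)
  have hcC := mem_centralizer_of_conj_mem hcop hcK hcH
  refine ⟨u * m, U.mul_mem hu hmU, m⁻¹ * k, Subgroup.mem_inf.mpr ⟨hcK, hcC⟩, by group⟩

/-- Let G be a finite solvable group, K a normal subgroup and U a subgroup with G = KU, and H ≤ U a subgroup whose order is coprime to that of K. Then H ∩ G' = H ∩ U'; N_G(H) is generated by K ∩ C_G(H) and U ∩ N_G(H); and if gHg⁻¹ ≤ U for some g ∈ G then g = u c with u ∈ U and c ∈ K ∩ C_G(H). -/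
theorem result {G : Type*} [Group G] [Finite G] [Group.IsSolvable G] (K U H : Subgroup G) [K.Normal] (hKU : K ⊔ U = ⊤) (hH : H ≤ U) (hcop : (Nat.card H).Coprime (Nat.card K)) :
    H ⊓ commutator G = H ⊓ ⁅U, U⁆ ∧
      Subgroup.normalizer (H : Set G) = (K ⊓ Subgroup.centralizer (H : Set G)) ⊔ (U ⊓ Subgroup.normalizer (H : Set G)) ∧
      ∀ g : G, H.map (MulAut.conj g).toMonoidHom ≤ U → ∃ u ∈ U, ∃ c ∈ K ⊓ Subgroup.centralizer (H : Set G), g = u * c := by
  refine ⟨?_, ?_, fun g hg => part3 K U H hKU hH hcop g hg⟩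
  · -- (1)
    apply le_antisymm
    · intro x hx
      obtain ⟨hxH, hxG⟩ := Subgroup.mem_inf.mp hx
      refine Subgroup.mem_inf.mpr ⟨hxH, ?_⟩
      have hmap : (commutator G).map (QuotientGroup.mk' K) = (⁅U, U⁆).map (QuotientGroup.mk' K) := by
        have h1 : U.map (QuotientGroup.mk' K) = (⊤ : Subgroup G).map (QuotientGroup.mk' K) := by
          rw [← hKU, Subgroup.map_sup]
          have h2 : K.map (QuotientGroup.mk' K) = ⊥ := by
            rw [Subgroup.map_eq_bot_iff, QuotientGroup.ker_mk']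
          rw [h2, bot_sup_eq]
        rw [commutator_def, Subgroup.map_commutator, Subgroup.map_commutator, h1]
      have h3 : QuotientGroup.mk' K x ∈ (⁅U, U⁆).map (QuotientGroup.mk' K) := by
        rw [← hmap]; exact Subgroup.mem_map_of_mem _ hxG
      obtain ⟨u', hu', hu'x⟩ := h3
      have hu'U : u' ∈ U := Subgroup.commutator_le_self U hu'
      have hvK : u'⁻¹ * x ∈ K := by
        have : QuotientGroup.mk' K (u'⁻¹ * x) = 1 := by
          rw [map_mul, map_inv, hu'x, inv_mul_cancel]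
        rwa [QuotientGroup.mk'_apply, QuotientGroup.eq_one_iff] at this
      have hxU : x ∈ U := hH hxH
      -- pass to the abelianization of `U`
      rw [← Subgroup.map_subtype_commutator] at hu' ⊢
      obtain ⟨w, hw, hwu⟩ := hu'
      have hw1 : Abelianization.of w = 1 := by
        rw [← MonoidHom.mem_ker, Abelianization.ker_of]; exact hw
      have hxv : (⟨x, hxU⟩ : ↥U) = w * ⟨u'⁻¹ * x, U.mul_mem (U.inv_mem hu'U) hxU⟩ := by
        apply Subtype.ext
        have hwu' : (w : G) = u' := hwu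
        show x = (w : G) * (u'⁻¹ * x)
        rw [hwu']
        group
      have h4 : Abelianization.of (⟨x, hxU⟩ : ↥U) =
          Abelianization.of (⟨u'⁻¹ * x, U.mul_mem (U.inv_mem hu'U) hxU⟩ : ↥U) := by
        rw [hxv, map_mul, hw1, one_mul]
      have h5 : orderOf (Abelianization.of (⟨x, hxU⟩ : ↥U)) ∣ Nat.card H := by
        have h6 : orderOf (Abelianization.of (⟨x, hxU⟩ : ↥U)) ∣ orderOf (⟨x, hxU⟩ : ↥U) :=
          orderOf_map_dvd _ _
        have h7 : orderOf (⟨x, hxU⟩ : ↥U) = orderOf x := Subgroup.orderOf_mk x hxU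
        rw [h7] at h6
        exact h6.trans (Subgroup.orderOf_dvd_natCard _ hxH)
      have h8 : orderOf (Abelianization.of (⟨x, hxU⟩ : ↥U)) ∣ Nat.card K := by
        rw [h4]
        have h6 := orderOf_map_dvd (Abelianization.of (G := ↥U))
          (⟨u'⁻¹ * x, U.mul_mem (U.inv_mem hu'U) hxU⟩ : ↥U)
        have h7 : orderOf (⟨u'⁻¹ * x, U.mul_mem (U.inv_mem hu'U) hxU⟩ : ↥U) = orderOf (u'⁻¹ * x) :=
          Subgroup.orderOf_mk _ _
        rw [h7] at h6
        exact h6.trans (Subgroup.orderOf_dvd_natCard _ hvK)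
      have h9 : Abelianization.of (⟨x, hxU⟩ : ↥U) = 1 :=
        orderOf_eq_one_iff.mp (Nat.eq_one_of_dvd_coprimes hcop h5 h8)
      rw [← MonoidHom.mem_ker, Abelianization.ker_of] at h9
      exact ⟨⟨x, hxU⟩, h9, rfl⟩
    · apply inf_le_inf_left
      rw [commutator_def]
      exact Subgroup.commutator_mono le_top le_top
  · -- (2)
    apply le_antisymm
    · intro g hg
      have hgU : H.map (MulAut.conj g).toMonoidHom ≤ U := by
        rintro _ ⟨h, hh, rfl⟩
        exact hH ((Subgroup.mem_normalizer_iff.mp hg h).mp hh)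
      obtain ⟨u, hu, c, hc, rfl⟩ := part3 K U H hKU hH hcop g hgU
      have hcN : c ∈ Subgroup.normalizer (H : Set G) :=
        Subgroup.centralizer_le_normalizer _ (Subgroup.mem_inf.mp hc).2
      have huN : u ∈ Subgroup.normalizer (H : Set G) := by
        have h1 : u = (u * c) * c⁻¹ := by group
        rw [h1]
        exact Subgroup.mul_mem _ hg (Subgroup.inv_mem _ hcN)
      exact Subgroup.mul_mem _ (Subgroup.mem_sup_right (Subgroup.mem_inf.mpr ⟨hu, huN⟩))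
        (Subgroup.mem_sup_left hc)
    · apply sup_le
      · exact inf_le_right.trans (Subgroup.centralizer_le_normalizer _)
      · exact inf_le_right

end Cfsg.Agent.S1460
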