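import Cfsg.Statements.S1462
import Cfsg.Agent.Helper54.PConstrained3
import Cfsg.Agent.Helper54.PLength
import Cfsg.Agent.Helper24.OddOmega
import Cfsg.Agent.Helper65.Cover
import Cfsg.Agent.Helper11.Basic

set_option autoImplicit false
open Cfsg

namespace Cfsg.Agent.S1462

open Cfsg.Agent.Helper54

variable {G : Type*} [Group G]

/-- If `E` is a maximal elementary abelian `p`-subgroup of `G` and `π : G → H` has kernel of order
prime to `p`, then every `x` with `x ^ p = 1` centralizing `π(E)` lies in `π(E)`. -/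
theorem mem_map_of_centralizes [Finite G] {p : ℕ} [hp : Fact p.Prime] {H : Type*} [Group H]
    (π : G →* H) (hπ : Function.Surjective π) (hker : (Nat.card π.ker).Coprime p)
    (E : Subgroup G) (hE : IsElementaryAbelian p E)
    (hEmax : ∀ B : Subgroup G, IsElementaryAbelian p B → E ≤ B → B = E)
    (x : H) (hxp : x ^ p = 1) (hx : x ∈ Subgroup.centralizer ((E.map π : Subgroup H) : Set H)) :
    x ∈ E.map π := by
  have hEp : IsPGroup p E := Cfsg.Agent.Lib.isElementaryAbelian_isPGroup hE
  obtain ⟨g₀, rfl⟩ := hπ x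
  obtain ⟨g, hg, hgx⟩ := exists_mem_centralizer_map_eq π hker E hEp g₀ hx
  obtain ⟨k, l, hkl, ⟨j, hj⟩, hcop⟩ := Cfsg.Agent.Helper65.exists_pow_decomp g (orderOf_pos g) p
  -- the `p'`-part maps to `1`
  have h1 : π (g ^ l) = 1 := by
    have h2 : orderOf (π (g ^ l)) ∣ orderOf (g ^ l) := orderOf_map_dvd π _
    have h3 : orderOf (π (g ^ l)) ∣ p := by
      apply orderOf_dvd_of_pow_eq_one
      rw [map_pow, ← pow_mul, mul_comm, pow_mul, hgx, hxp, one_pow]
    have h4 : orderOf (π (g ^ l)) = 1 :=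
      Nat.eq_one_of_dvd_coprimes hcop h2 h3
    exact orderOf_eq_one_iff.mp h4
  have hu : π (g ^ k) = π g₀ := by
    rw [← hgx]
    conv_rhs => rw [← hkl]
    rw [map_mul, h1, mul_one]
  -- `u = g ^ k` has `u ^ p = 1`
  have hup : (g ^ k) ^ p = 1 := by
    have h2 : (g ^ k) ^ p ∈ π.ker := by
      rw [MonoidHom.mem_ker, map_pow, hu, hxp]
    have h3 : (orderOf ((g ^ k) ^ p)).Coprime p := orderOf_coprime_of_mem hker h2
    have h4 : orderOf ((g ^ k) ^ p) ∣ p ^ j := by
      rw [← hj]; exact orderOf_pow_dvd p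
    have h5 : orderOf ((g ^ k) ^ p) = 1 :=
      Nat.eq_one_of_dvd_coprimes (Nat.Coprime.pow_right j h3) dvd_rfl h4
    exact orderOf_eq_one_iff.mp h5
  have huE : ∀ a ∈ E, a * g ^ k = g ^ k * a := by
    intro a ha
    have h2 : g * a = a * g := ((Subgroup.mem_centralizer_iff.mp hg) a ha).symm
    exact ((Commute.pow_right (show Commute a g from h2.symm) k)).eq
  have hB := Cfsg.Agent.Helper11.elAb_adjoin p E hE (g ^ k) hup huE
  have hEB : E ≤ Subgroup.closure ((E : Set G) ∪ {g ^ k}) := by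
    intro a ha
    exact Subgroup.subset_closure (Or.inl ha)
  have hBE := hEmax _ hB hEB
  have hgE : g ^ k ∈ E := by
    rw [← hBE]
    exact Subgroup.subset_closure (Or.inr rfl)
  rw [← hu]
  exact Subgroup.mem_map_of_mem _ hgE

/-- Let G be a finite solvable group, p an odd prime with G = O_{p',p,p'}(G), E an elementary abelian p-subgroup contained in no larger elementary abelian p-subgroup of G, and L a subgroup of order coprime to p normalized by E. Then L ≤ O_{p'}(G). -/
theorem result {G : Type*} [Group G] [Finite G] [Group.IsSolvable G] (p : ℕ) [Fact p.Prime] (hp : p ≠ 2) (hpl : Cfsg.PLengthLE p 1 G) (E L : Subgroup G) (hE : Cfsg.IsElementaryAbelian p E)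
    (hEmax : ∀ B : Subgroup G, Cfsg.IsElementaryAbelian p B → E ≤ B → B = E) (hL : (Nat.card L).Coprime p) (hEL : E ≤ Subgroup.normalizer (L : Set G)) :
    L ≤ Cfsg.pPrimeCore p G := by
  have hKc : (Nat.card (pPrimeCore p G)).Coprime p := Cfsg.Agent.Lib.card_pPrimeCore_coprime p
  have hker : (QuotientGroup.mk' (pPrimeCore p G)).ker = pPrimeCore p G := QuotientGroup.ker_mk' _
  have hGbar : CharP p (G ⧸ pPrimeCore p G) :=
    isPConstrained_iff_charP.mp isPConstrained_of_isSolvable
  have hEp : IsPGroup p E := Cfsg.Agent.Lib.isElementaryAbelian_isPGroup hE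
  have hEQ : E.map (QuotientGroup.mk' (pPrimeCore p G)) ≤ pCore p (G ⧸ pPrimeCore p G) :=
    map_le_pCore_of_pLengthLE_one hpl E hEp
  have hQp : IsPGroup p (pCore p (G ⧸ pPrimeCore p G)) := Cfsg.Agent.Lib.isPGroup_pCore p
  have hQn : (pCore p (G ⧸ pPrimeCore p G)).Normal := inferInstance
  intro l hl
  have hcop : (orderOf (QuotientGroup.mk' (pPrimeCore p G) l)).Coprime p := by
    have h1 : orderOf (QuotientGroup.mk' (pPrimeCore p G) l) ∣ orderOf l := orderOf_map_dvd _ l
    exact Nat.Coprime.coprime_dvd_left h1 (orderOf_coprime_of_mem hL hl)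
  -- the image of `l` centralizes the image of `E`
  have hcT : ∀ t ∈ E.map (QuotientGroup.mk' (pPrimeCore p G)),
      QuotientGroup.mk' (pPrimeCore p G) l * t = t * QuotientGroup.mk' (pPrimeCore p G) l := by
    rintro _ ⟨e, he, rfl⟩
    have h1 : e * l * e⁻¹ * l⁻¹ ∈ L :=
      L.mul_mem ((Subgroup.mem_normalizer_iff.mp (hEL he) l).mp hl) (L.inv_mem hl)
    have h2 : (orderOf (QuotientGroup.mk' (pPrimeCore p G) (e * l * e⁻¹ * l⁻¹))).Coprime p := by
      have h3 : orderOf (QuotientGroup.mk' (pPrimeCore p G) (e * l * e⁻¹ * l⁻¹)) ∣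
          orderOf (e * l * e⁻¹ * l⁻¹) := orderOf_map_dvd _ _
      exact Nat.Coprime.coprime_dvd_left h3 (orderOf_coprime_of_mem hL h1)
    have h4 : QuotientGroup.mk' (pPrimeCore p G) (e * l * e⁻¹ * l⁻¹) ∈
        pCore p (G ⧸ pPrimeCore p G) := by
      have h5 : QuotientGroup.mk' (pPrimeCore p G) e ∈ pCore p (G ⧸ pPrimeCore p G) :=
        hEQ (Subgroup.mem_map_of_mem _ he)
      have h6 := hQn.conj_mem _ (Subgroup.inv_mem _ h5) (QuotientGroup.mk' (pPrimeCore p G) l)
      have h7 := Subgroup.mul_mem _ h5 h6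
      have h8 : QuotientGroup.mk' (pPrimeCore p G) (e * l * e⁻¹ * l⁻¹) =
          QuotientGroup.mk' (pPrimeCore p G) e * (QuotientGroup.mk' (pPrimeCore p G) l *
            (QuotientGroup.mk' (pPrimeCore p G) e)⁻¹ *
            (QuotientGroup.mk' (pPrimeCore p G) l)⁻¹) := by
        simp only [map_mul, map_inv, mul_assoc]
      rw [h8]; exact h7
    have h9 := Cfsg.Agent.Helper49.eq_one_of_mem_pGroup_of_coprime hQp h4 h2
    have h10 : QuotientGroup.mk' (pPrimeCore p G) e * QuotientGroup.mk' (pPrimeCore p G) l *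
        (QuotientGroup.mk' (pPrimeCore p G) e)⁻¹ * (QuotientGroup.mk' (pPrimeCore p G) l)⁻¹ = 1 := by
      rw [← h9]; simp only [map_mul, map_inv]
    have h11 := mul_inv_eq_one.mp h10
    have h12 := mul_inv_eq_iff_eq_mul.mp h11
    exact h12.symm
  have hl1 : QuotientGroup.mk' (pPrimeCore p G) l = 1 := by
    apply eq_one_of_centralizes hGbar.2 (E.map (QuotientGroup.mk' (pPrimeCore p G))) (hEp.map _)
      hcop hcT
    intro u hu hut
    -- `D = C_{O_p}(Ē)`
    have hnorm : QuotientGroup.mk' (pPrimeCore p G) l ∈ Subgroup.normalizer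
        ((pCore p (G ⧸ pPrimeCore p G) : Subgroup (G ⧸ pPrimeCore p G)) :
          Set (G ⧸ pPrimeCore p G)) := by
      rw [Subgroup.normalizer_eq_top]; exact Subgroup.mem_top _
    have hnormD := Cfsg.Agent.Helper24.mem_normalizer_inf_centralizer
      (N := E.map (QuotientGroup.mk' (pPrimeCore p G))) hnorm hcT
    have hDp : IsPGroup p ↥(pCore p (G ⧸ pPrimeCore p G) ⊓
        Subgroup.centralizer ((E.map (QuotientGroup.mk' (pPrimeCore p G)) :
          Subgroup (G ⧸ pPrimeCore p G)) : Set (G ⧸ pPrimeCore p G))) := hQp.to_inf_left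
    have hall := Cfsg.Agent.Helper24.commute_of_commute_omega_odd hp hcop _ hDp hnormD
    apply hall
    · intro x hx hxp
      obtain ⟨_, hx2⟩ := Subgroup.mem_inf.mp hx
      have hxE := mem_map_of_centralizes (QuotientGroup.mk' (pPrimeCore p G))
        (QuotientGroup.mk'_surjective _) (by rw [hker]; exact hKc) E hE hEmax x hxp hx2
      exact hcT x hxE
    · refine Subgroup.mem_inf.mpr ⟨hu, ?_⟩
      rw [Subgroup.mem_centralizer_iff]
      exact hut
  rw [QuotientGroup.mk'_apply, QuotientGroup.eq_one_iff] at hl1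
  exact hl1

end Cfsg.Agent.S1462
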