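import Cfsg.Statements.S1463
import Mathlib
import Cfsg.Agent.Helper4.OddSL2

set_option autoImplicit false
open scoped MatrixGroups
open Cfsg

namespace Cfsg.Agent.S1463

/-- Let F be a field of odd characteristic p and H a finite subgroup of odd order of GL(2, F) that leaves no 1-dimensional subspace of F² invariant. Then p does not divide the order of H. -/
theorem result {F : Type*} [Field F] (p : ℕ) [Fact p.Prime] [CharP F p] (hp : p ≠ 2)
    (H : Subgroup (GL (Fin 2) F)) [Finite H] (hodd : Odd (Nat.card H))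
    (hirr : ∀ v : Fin 2 → F, v ≠ 0 → ∃ g ∈ H, (g : Matrix (Fin 2) (Fin 2) F).mulVec v ∉ Submodule.span F {v}) :
    ¬ p ∣ Nat.card H := by
  intro hdvd
  obtain ⟨u, hu⟩ := exists_prime_orderOf_dvd_card' p hdvd
  have hu1 : (u : GL (Fin 2) F) ≠ 1 := by
    intro h
    have : u = 1 := Subtype.ext h
    rw [this, orderOf_one] at hu
    exact (Fact.out : p.Prime).one_lt.ne hu
  have hup : ((u : GL (Fin 2) F) : Matrix (Fin 2) (Fin 2) F) ^ p = 1 := by
    have h1 : u ^ p = 1 := by rw [← hu]; exact pow_orderOf_eq_one u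
    have h2 : ((u : GL (Fin 2) F)) ^ p = 1 := by
      rw [← Subgroup.coe_pow, h1]; rfl
    rw [← Units.val_pow_eq_pow_val, h2]; rfl
  have hNp : (((u : GL (Fin 2) F) : Matrix (Fin 2) (Fin 2) F) - 1) ^ p = 0 := by
    rw [sub_pow_char_of_commute (R := Matrix (Fin 2) (Fin 2) F) (p := p) (Commute.one_right _),
      hup, one_pow, sub_self]
  have hN := Cfsg.Agent.Helper4.sq_eq_zero_of_pow_eq_zero _ p hNp
  obtain ⟨v, hv0, hv⟩ := Cfsg.Agent.Helper4.exists_invariant_line_of_odd p hp H hodd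
    (u : GL (Fin 2) F) u.2 hu1 hN
  obtain ⟨g, hgH, hg⟩ := hirr v hv0
  apply hg
  obtain ⟨c, hc⟩ := hv g hgH
  rw [hc]
  exact Submodule.smul_mem _ _ (Submodule.mem_span_singleton_self v)

end Cfsg.Agent.S1463
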