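import Cfsg.Statements.S1472
import Cfsg.Agent.Helper47.AppCEnd
import Cfsg.Agent.Helper25.AppCTransfer
import Cfsg.Agent.Helper82.AppCField

set_option autoImplicit false
open Cfsg

namespace Cfsg.Agent.S1472

open Cfsg.Agent.Helper47.AppC

/-- an additive map into a group sends integers to powers. -/
lemma x_intCast_aux {G : Type*} [Group G] {F : Type*} [Field F] (x : F → G)
    (hadd : ∀ a b, x (a + b) = x a * x b) (k : ℤ) : x (k : F) = x 1 ^ k := by
  have h0 : x 0 = 1 := by
    have h := hadd 0 0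
    rw [add_zero] at h
    exact mul_eq_left.mp h.symm
  have hneg : ∀ a, x (-a) = (x a)⁻¹ := by
    intro a
    rw [eq_inv_iff_mul_eq_one, ← hadd, neg_add_cancel, h0]
  have hnat : ∀ m : ℕ, x (m : F) = x 1 ^ m := by
    intro m
    induction m with
    | zero => simp [h0]
    | succ m ih => rw [Nat.cast_succ, hadd, ih, pow_succ]
  cases k with
  | ofNat m => simpa using hnat m
  | negSucc m => rw [Int.cast_negSucc, hneg, zpow_negSucc, hnat]

/-- Let p, q be primes with (p^q − 1)/(p − 1) coprime to p − 1, G a finite group, F a field with p ^ q elements, and P, U, Q subgroups of G with: f : G → F bijective from P onto F and additive on P; U normalizing P and acting through ψ : G → F, injective and multiplicative on U with ψ(u) ≠ 0 and f(uxu⁻¹) = ψ(u) f(x); #U · (p − 1) = p^q − 1; Q abelian of order coprime to p, normalized by every x ∈ P with f(x) in the prime field; and some y ∈ Q such that y x y⁻¹ normalizes U for every such x. Then p ≤ q. -/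
theorem result {G : Type*} [Group G] [Finite G] (p q : ℕ) [Fact p.Prime] [Fact q.Prime] (hA : Nat.Coprime ((p ^ q - 1) / (p - 1)) (p - 1))
    (F : Type*) [Field F] [Fintype F] (hF : Fintype.card F = p ^ q) (P U Q : Subgroup G) (f ψ : G → F)
    (hf : Set.BijOn f (P : Set G) Set.univ) (hfadd : ∀ x ∈ P, ∀ z ∈ P, f (x * z) = f x + f z)
    (hUP : U ≤ Subgroup.normalizer (P : Set G)) (hψ : ∀ u ∈ U, ψ u ≠ 0 ∧ ∀ x ∈ P, f (u * x * u⁻¹) = ψ u * f x)
    (hψmul : ∀ u ∈ U, ∀ v ∈ U, ψ (u * v) = ψ u * ψ v) (hψinj : Set.InjOn ψ (U : Set G)) (hUcard : Nat.card U * (p - 1) = p ^ q - 1)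
    (hQ : IsMulCommutative Q) (hQp : (Nat.card Q).Coprime p) (hP0Q : ∀ x ∈ P, f x ^ p = f x → x ∈ Subgroup.normalizer (Q : Set G))
    (y : G) (hy : y ∈ Q) (hP0U : ∀ x ∈ P, f x ^ p = f x → y * x * y⁻¹ ∈ Subgroup.normalizer (U : Set G)) :
    p ≤ q := by
  classical
  have hp : p.Prime := Fact.out
  have hqp : q.Prime := Fact.out
  -- trivial cases
  by_cases hp2 : p = 2
  · rw [hp2]; exact hqp.two_le
  by_cases hq2 : q = 2
  · exfalso
    subst hq2
    have hodd : Odd p := hp.odd_of_ne_two hp2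
    obtain ⟨m, hm⟩ := hodd
    have h1 : (p ^ 2 - 1) / (p - 1) = p + 1 := by
      have : p ^ 2 - 1 = (p + 1) * (p - 1) := by
        have hp1 : 1 ≤ p := hp.one_le
        zify [hp1, Nat.one_le_pow 2 p hp.pos]; ring
      rw [this, Nat.mul_div_cancel _ (by have := hp.two_le; omega)]
    rw [h1] at hA
    have h2 : 2 ∣ Nat.gcd (p + 1) (p - 1) := Nat.dvd_gcd ⟨m + 1, by omega⟩ ⟨m, by omega⟩
    rw [hA] at h2
    omega
  -- main case
  set n := (p ^ q - 1) / (p - 1) with hn
  have : CharP F p := charP_of_card_eq_prime_pow hF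
  have hnpos : 0 < n := Cfsg.Agent.Helper82.AppC.norm_exp_pos p q
  have hcardU : Nat.card U = n := by
    rw [hn, ← hUcard, Nat.mul_div_cancel _ (by have := hp.two_le; omega)]
  -- the parametrisation `x`
  have hex : ∀ a : F, ∃ g, g ∈ P ∧ f g = a := fun a => by
    obtain ⟨g, hg, hga⟩ := hf.surjOn (Set.mem_univ a)
    exact ⟨g, hg, hga⟩
  choose x hxP hfx using hex
  have hfinj : ∀ g ∈ P, ∀ h ∈ P, f g = f h → g = h := fun g hg h hh e => hf.injOn hg hh e
  have x_add : ∀ a b, x (a + b) = x a * x b := fun a b =>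
    hfinj _ (hxP _) _ (P.mul_mem (hxP a) (hxP b)) (by rw [hfx, hfadd _ (hxP a) _ (hxP b), hfx, hfx])
  have x_inj : Function.Injective x := fun a b e => by rw [← hfx a, ← hfx b, e]
  have hconj : ∀ u ∈ U, ∀ a, u * x a * u⁻¹ = x (ψ u * a) := fun u hu a => by
    have hmem : u * x a * u⁻¹ ∈ P := (Subgroup.mem_normalizer_iff.mp (hUP hu) (x a)).mp (hxP a)
    exact hfinj _ hmem _ (hxP _) (by rw [(hψ u hu).2 _ (hxP a), hfx, hfx])
  have hψ1 : ψ 1 = 1 := by
    have h := hψmul 1 U.one_mem 1 U.one_mem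
    rw [mul_one] at h
    have h0 := (hψ 1 U.one_mem).1
    field_simp at h
    exact h.symm ▸ rfl
  have hψpow : ∀ u ∈ U, ∀ k : ℕ, ψ (u ^ k) = ψ u ^ k := by
    intro u hu k
    induction k with
    | zero => simp [hψ1]
    | succ k ih => rw [pow_succ, hψmul _ (U.pow_mem hu k) _ hu, ih, pow_succ]
  have hψn : ∀ u ∈ U, ψ u ^ n = 1 := by
    intro u hu
    rw [← hψpow u hu, ← hcardU]
    have : u ^ Nat.card U = 1 := by
      have h := pow_card_eq_one' (G := U) (x := ⟨u, hu⟩)
      have := congrArg Subtype.val h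
      simpa only [SubmonoidClass.coe_pow, OneMemClass.coe_one] using this
    rw [this, hψ1]
  -- surjectivity of ψ onto the roots of X^n - 1
  have hψsurj : ∀ c : F, c ^ n = 1 → ∃ u ∈ U, ψ u = c := by
    intro c hc
    let _ : Fintype U := Fintype.ofFinite U
    set S : Finset F := Finset.univ.image (fun u : U => ψ u) with hS
    have hScard : S.card = n := by
      rw [hS, Finset.card_image_of_injective, Finset.card_univ, ← hcardU, Nat.card_eq_fintype_card]
      intro u v huv
      exact Subtype.ext (hψinj u.2 v.2 huv)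
    have hSroot : ∀ c ∈ S, c ^ n = 1 := by
      intro c hc
      rw [hS, Finset.mem_image] at hc
      obtain ⟨u, _, rfl⟩ := hc
      exact hψn u u.2
    have := Cfsg.Agent.Helper82.AppC.mem_of_pow_eq_one_of_card n hnpos S hSroot hScard c hc
    rw [hS, Finset.mem_image] at this
    obtain ⟨u, _, hu⟩ := this
    exact ⟨u, u.2, hu⟩
  -- `U` is nontrivial
  have hUnt : ∃ w ∈ U, w ≠ 1 := by
    have h2 : 1 < Nat.card U := by
      rw [hcardU]
      by_contra hle
      have hn1 : n = 1 := by omega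
      have h3 := Cfsg.Agent.Helper82.AppC.norm_exp_mul p q
      rw [← hn, hn1, mul_one] at h3
      have h4 : p ^ 1 < p ^ q := Nat.pow_lt_pow_right hp.one_lt hqp.one_lt
      rw [pow_one] at h4
      have hp1 := hp.one_le
      generalize p ^ q = N at h3 h4
      omega
    have hne : U ≠ ⊥ := by
      intro h
      rw [h, Subgroup.card_bot] at h2
      exact lt_irrefl _ h2
    obtain ⟨w, hw, hw1⟩ := (Subgroup.ne_bot_iff_exists_ne_one).mp hne |>.imp (fun w h => h)
      |> fun ⟨w, hw1⟩ => (⟨w.1, w.2, fun h => hw1 (Subtype.ext h)⟩ : ∃ w, w ∈ U ∧ w ≠ 1)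
    exact ⟨w, hw, hw1⟩
  -- prime-field elements
  have hfrobInt : ∀ k : ℤ, ((k : F)) ^ p = k := fun k => by
    have := map_intCast (frobenius F p) k
    rwa [frobenius_def] at this
  have hxk : ∀ k : ℤ, x 1 ^ k = x (k : F) := fun k => (x_intCast_aux x x_add k).symm
  have hsQ : ∀ k : ℤ, ∀ g ∈ Q, (x 1) ^ k * g * (x 1) ^ (-k) ∈ Q := by
    intro k g hg
    have hnorm := hP0Q (x (k : F)) (hxP _) (by rw [hfx, hfrobInt])
    rw [zpow_neg, hxk]
    exact (Subgroup.mem_normalizer_iff.mp hnorm g).mp hg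
  have htU : ∀ k : ℤ, ∀ u ∈ U, (y * x 1 * y⁻¹) ^ k * u * (y * x 1 * y⁻¹) ^ (-k) ∈ U := by
    intro k u hu
    have hnorm := hP0U (x (k : F)) (hxP _) (by rw [hfx, hfrobInt])
    rw [zpow_neg, conj_zpow, hxk]
    exact (Subgroup.mem_normalizer_iff.mp hnorm u).mp hu
  have hQcomm : ∀ a ∈ Q, ∀ b ∈ Q, a * b = b * a := by
    intro a ha b hb
    have := hQ.is_comm.comm (⟨a, ha⟩ : Q) ⟨b, hb⟩
    exact congrArg Subtype.val this
  let S : Setup p G F :=
    { n := n, U := U, Q := Q, x := x, ψ := ψ, y := y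
      x_add := x_add, x_inj := x_inj
      ψ_ne := fun u hu => (hψ u hu).1
      ψ_mul := hψmul, ψ_inj := hψinj, conj := hconj, ψ_pow := hψn, ψ_surj := hψsurj
      U_nontriv := hUnt, pprime := hp, charP := inferInstance
      Qcomm := hQcomm, Qfin := inferInstance, Qcop := hQp, hy := hy, sQ := hsQ, tU := htU
      decomp := by
        intro d hd
        obtain ⟨k, c, hk, hc, hdc⟩ :=
          Cfsg.Agent.Helper82.AppC.exists_nat_mul_root p q hA F hF d hd
        obtain ⟨w, hw, rfl⟩ := hψsurj c hc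
        exact ⟨k, w, hw, hk, hdc⟩
      frob_nat := Cfsg.Agent.Helper82.AppC.exists_nat_eq_of_pow_eq_self p q F hF
      fp_n1 := Cfsg.Agent.Helper82.AppC.eq_one_of_pow_eq_one_of_pow_eq_self p q hA F hF }
  refine Cfsg.Agent.Helper25.AppC.transfer_E p q hp2 hq2 hA F hF ?_
  intro a ha1 ha2
  exact (S.InE_inv hp2 (a := a) ⟨ha1, ha2⟩).2

end Cfsg.Agent.S1472
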