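import Cfsg.Statements.S1475
import Cfsg.Agent.Helper60.SolvGraph

set_option autoImplicit false
open Cfsg

namespace Cfsg.Agent.S1475

/-- A product of two distinct primes is not a prime power. -/
theorem not_isPrimePow_mul {p q : ℕ} (hp : p.Prime) (hq : q.Prime) (hpq : p ≠ q) :
    ¬ IsPrimePow (p * q) := by
  intro h
  rw [isPrimePow_nat_iff] at h
  obtain ⟨r, k, hr, hk, hrk⟩ := h
  have h1 : p ∣ r ^ k := hrk ▸ dvd_mul_right p q
  have h2 : q ∣ r ^ k := hrk ▸ dvd_mul_left q p
  have e1 : p = r := (Nat.prime_dvd_prime_iff_eq hp hr).1 (hp.dvd_of_dvd_pow h1)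
  have e2 : q = r := (Nat.prime_dvd_prime_iff_eq hq hr).1 (hq.dvd_of_dvd_pow h2)
  exact hpq (e1.trans e2.symm)

/-- Let G be a finite solvable group such that the order of every element is a prime power (1 included). Then at most two distinct primes divide the order of G. -/
theorem result {G : Type*} [Group G] [Finite G] [Group.IsSolvable G] (h : ∀ g : G, IsPrimePow (orderOf g) ∨ g = 1) :
    (Nat.card G).primeFactors.card ≤ 2 := by
  by_contra hcon
  have h3 : 2 < (Nat.card G).primeFactors.card := by omega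
  obtain ⟨p, q, r, hp, hq, hr, hpq, hpr, hqr⟩ := Finset.two_lt_card_iff.1 h3
  have hp' := Nat.prime_of_mem_primeFactors hp
  have hq' := Nat.prime_of_mem_primeFactors hq
  have hr' := Nat.prime_of_mem_primeFactors hr
  have key : ∀ a b : ℕ, a.Prime → b.Prime → a ≠ b → ¬ ∃ x : G, orderOf x = a * b := by
    rintro a b ha hb hab ⟨x, hx⟩
    rcases h x with h1 | h1
    · rw [hx] at h1
      exact not_isPrimePow_mul ha hb hab h1
    · rw [h1, orderOf_one] at hx
      have := ha.two_le
      have := hb.two_le
      nlinarith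
  rcases Cfsg.Agent.Helper60.hasEdge_of_solvable G p q r hp' hq' hr' hpq hpr hqr
    (Nat.dvd_of_mem_primeFactors hp) (Nat.dvd_of_mem_primeFactors hq)
    (Nat.dvd_of_mem_primeFactors hr) with h1 | h1 | h1
  · exact key p q hp' hq' hpq h1
  · exact key p r hp' hr' hpr h1
  · exact key q r hq' hr' hqr h1

end Cfsg.Agent.S1475
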