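import Cfsg.Statements.S1476
import Cfsg.Agent.Helper9.CNSolv4
import Cfsg.Agent.Helper23.FittingHall

set_option autoImplicit false
open Cfsg

namespace Cfsg.Agent.S1476

/-- Let G be a finite solvable group in which every non-identity element has nilpotent centralizer. Then either G is nilpotent; or G has a normal subgroup K with a Frobenius complement E (K E = G, K ∩ E = 1, E meets its conjugates by outside elements trivially) such that E is cyclic or E is generated by two elementwise-commuting subgroups, one cyclic of odd order and one isomorphic to a generalized quaternion group; or G is a three-step group with respect to some prime p. -/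
theorem result {G : Type*} [Group G] [Finite G] [Group.IsSolvable G] (hCN : Cfsg.IsCNGroup G) :
    Group.IsNilpotent G ∨
      (∃ K E : Subgroup G, K.Normal ∧ Subgroup.IsComplement' K E ∧ Cfsg.IsFrobeniusComplement E ∧
        (IsCyclic E ∨ ∃ C Q : Subgroup G, C ⊔ Q = E ∧ (∀ a ∈ C, ∀ b ∈ Q, a * b = b * a) ∧ IsCyclic C ∧ Odd (Nat.card C) ∧
          ∃ n : ℕ, Nonempty (↥Q ≃* QuaternionGroup (2 ^ n)))) ∨
      ∃ p : ℕ, p.Prime ∧ Cfsg.IsThreeStepGroup p G := by
  by_cases hnil : Group.IsNilpotent G
  · exact Or.inl hnil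
  right
  by_cases hns : Helper9.HasNormalSylow G
  · left
    obtain ⟨r, hr, R, hR1, hRn⟩ := hns
    obtain ⟨hFbot, hFtop, ⟨E, hE, hEF, hfpf⟩, -⟩ := S1474.result hCN hnil r R hR1 hRn
    refine ⟨Cfsg.fittingHall G, E, inferInstance, hE, hEF, ?_⟩
    have hRF : (R : Subgroup G) ≤ Cfsg.fittingHall G :=
      Helper23.le_fittingHall hRn R.2.isNilpotent R.card_coprime_index
    have hCRn : (Subgroup.centralizer ((R : Subgroup G) : Set G)).Normal :=
      Subgroup.normal_centralizer
    obtain ⟨Z, hZ⟩ : ∃ Z : Subgroup G,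
      Z = (R : Subgroup G) ⊓ Subgroup.centralizer ((R : Subgroup G) : Set G) := ⟨_, rfl⟩
    have hZn : Z.Normal := by
      rw [hZ]
      exact Subgroup.normal_inf_normal _ _
    have hZF : Z ≤ Cfsg.fittingHall G := by
      rw [hZ]
      exact inf_le_left.trans hRF
    have hZc : ∀ a ∈ Z, ∀ b ∈ Z, a * b = b * a := by
      intro a ha b hb
      rw [hZ] at ha hb
      exact ((Subgroup.mem_centralizer_iff.mp (Subgroup.mem_inf.mp ha).2) b
        (Subgroup.mem_inf.mp hb).1).symm
    have hZ1 : Z ≠ ⊥ := by
      have : Nontrivial (R : Subgroup G) := (Subgroup.nontrivial_iff_ne_bot _).mpr hR1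
      have := R.2.center_nontrivial
      obtain ⟨w, hw1⟩ := exists_ne (1 : Subgroup.center (R : Subgroup G))
      have hwZ : ((w : (R : Subgroup G)) : G) ∈ Z := by
        rw [hZ]
        refine Subgroup.mem_inf.mpr ⟨(w : (R : Subgroup G)).2, ?_⟩
        rw [Subgroup.mem_centralizer_iff]
        intro u hu
        have := (Subgroup.mem_center_iff.mp w.2) ⟨u, hu⟩
        exact congrArg Subtype.val this
      intro hbot
      rw [hbot, Subgroup.mem_bot] at hwZ
      apply hw1
      apply Subtype.ext
      apply Subtype.ext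
      exact hwZ
    have hEcard : (Cfsg.fittingHall G).index = Nat.card E := hE.symm.index_eq_card
    have hcop : (Nat.card E).Coprime (Nat.card Z) := by
      rw [← hEcard]
      exact Nat.Coprime.coprime_dvd_right (Subgroup.card_dvd_of_le hZF)
        (Helper23.fittingHall_coprime G).symm
    have hfpfZ : ∀ e ∈ E, e ≠ 1 → ∀ v ∈ Z, e * v = v * e → v = 1 := by
      intro e he he1 v hv hev
      have h1 : v ∈ Cfsg.fittingHall G ⊓ Subgroup.centralizer ({e} : Set G) :=
        Subgroup.mem_inf.mpr ⟨hZF hv, Subgroup.mem_centralizer_singleton_iff.mpr hev.symm⟩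
      rw [hfpf e he he1, Subgroup.mem_bot] at h1
      exact h1
    obtain ⟨hEnil, hEU⟩ := Helper9.nilpotent_uniqueOrderP_of_fpf_conj hCN Z E hZc hZ1 hcop hfpfZ
    exact Helper9.cyclic_or_cq_of_uniqueOrderP' E hEnil (fun r hr => (hEU r hr).1)
  · right
    have hnt : Nontrivial G := by
      by_contra h
      rw [not_nontrivial_iff_subsingleton] at h
      exact hnil inferInstance
    obtain ⟨p, hp, R0, hR0n, hR01, hR0p⟩ := Helper1.exists_normal_pSubgroup G
    haveI hFp := Fact.mk hp
    have hO : Cfsg.pCore p G ≠ ⊥ :=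
      fun h => hR01 (le_bot_iff.mp (h ▸ Lib.le_pCore hR0n hR0p))
    have hHS : p ∣ (Cfsg.pCore p G).index := by
      by_contra h
      apply hns
      refine ⟨p, hFp, (Lib.isPGroup_pCore p).toSylow h, ?_, ?_⟩
      · rw [IsPGroup.toSylow_coe]
        exact hO
      · rw [IsPGroup.toSylow_coe]
        infer_instance
    refine ⟨p, hp, ?_⟩
    unfold Cfsg.IsThreeStepGroup
    refine ⟨hO, ?_⟩
    refine Helper9.threeStep_core hCN hnil hp (Cfsg.pCore p G) (Lib.isPGroup_pCore p) hO hHS ?_ ?_ ?_
    · intro e he1 hep v hv hev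
      by_contra hv1
      exact hns (Helper9.hasNormalSylow_of_commute_pCore hCN hp he1 hep hv hv1 hev)
    · intro g s hs hsp hpg hsg
      exact Helper9.noMixed_of_cn hCN hp hO hns g s hs hsp hpg hsg
    · intro N hNn hNp
      have := Lib.le_pCore hNn hNp
      rwa [Helper62.pCore_quotient_pCore_eq_bot, le_bot_iff] at this

end Cfsg.Agent.S1476
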