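import Cfsg.Statements.S1478
import Cfsg.Agent.Helper9.CNSolv8

set_option autoImplicit false
open Cfsg

namespace Cfsg.Agent.S1478

/-- Let G be a minimal simple group of odd order in which every non-identity element has nilpotent centralizer. Then no subgroup of G is a three-step group with respect to any prime. -/
theorem result {G : Type*} [Group G] [Finite G] (hG : Cfsg.IsMinSimpleOddOrder G) (hCN : Cfsg.IsCNGroup G) :
    ∀ (H : Subgroup G) (p : ℕ), ¬ Cfsg.IsThreeStepGroup p ↥H := by
  intro H p h3
  have hHCN : Cfsg.IsCNGroup H := Helper95.Fpf.cn_subgroup hCN H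
  obtain ⟨hnil, hns⟩ := Helper9.not_nilpotent_of_isThreeStepGroup hHCN h3
  by_cases hH : H = ⊤
  · subst hH
    obtain ⟨hK1, A, hA1, -, -, -, hBn, hBtop, -⟩ := h3
    haveI := hG.2.1
    haveI : IsSimpleGroup (⊤ : Subgroup G) := (Subgroup.topEquiv (G := G)).isSimpleGroup
    have hKn : (Cfsg.pCore p ↥(⊤ : Subgroup G)).Normal := inferInstance
    rcases hKn.eq_bot_or_eq_top with h | h
    · exact hK1 h
    · apply hBtop
      rw [h, top_sup_eq]
  · haveI hsolv : Group.IsSolvable H := hG.2.2.2 H hH
    haveI : Nontrivial H := by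
      by_contra h
      rw [not_nontrivial_iff_subsingleton] at h
      exact hnil inferInstance
    obtain ⟨r, hr, R0, hR0n, hR01, hR0p⟩ := Helper1.exists_normal_pSubgroup H
    have hO : Cfsg.pCore r ↥H ≠ ⊥ :=
      fun h => hR01 (le_bot_iff.mp (h ▸ Lib.le_pCore hR0n hR0p))
    exact Helper9.false_of_threeStep_candidate hG hCN hr H hnil hns hO

end Cfsg.Agent.S1478
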