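import Cfsg.Statements.S1484
import Cfsg.Agent.S1483

set_option autoImplicit false
open Cfsg

namespace Cfsg.Agent.S1484

open Cfsg.Agent.Helper9 Cfsg.Agent.Helper48

universe u

/-- For a maximal subgroup `M`, `M_F` is a maximal nilpotent subgroup of `G` and `M = N_G(M_F)`. -/
theorem fittingHallOf_coatom {G : Type u} [Group G] [Finite G] (hG : Cfsg.IsMinSimpleOddOrder G)
    (hCN : Cfsg.IsCNGroup G) {M : Subgroup G} (hM : IsCoatom M) :
    MaxNil (Cfsg.fittingHallOf M) ∧
      M = Subgroup.normalizer ((Cfsg.fittingHallOf M : Subgroup G) : Set G) := by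
  obtain ⟨T, hT, hMT⟩ := exists_maxNil_of_isCoatom hG hCN hM
  have h1 := (hT.structure hG hCN).1
  rw [← hMT] at h1
  rw [h1]
  exact ⟨hT, hMT⟩

lemma factorization_eq_of_coprime_index {G : Type u} [Group G] [Finite G] {p : ℕ} (hp : p.Prime)
    (H : Subgroup G) (hcop : (Nat.card H).Coprime H.index) (hpH : p ∣ Nat.card H) :
    (Nat.card G).factorization p = (Nat.card H).factorization p := by
  have hpi : ¬ p ∣ H.index := fun h => hp.ne_one (Nat.eq_one_of_dvd_coprimes hcop hpH h)
  rw [← H.card_mul_index, Nat.factorization_mul Nat.card_pos.ne' Subgroup.index_ne_zero_of_finite,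
    Finsupp.add_apply, Nat.factorization_eq_zero_of_not_dvd hpi, add_zero]

/-- Let G be a minimal simple group of odd order in which every non-identity element has nilpotent centralizer, and M₁, …, M_k maximal subgroups, pairwise non-conjugate, such that every maximal subgroup is conjugate to some M_i. Let H_i be the largest normal nilpotent Hall subgroup of M_i. Then the orders of the H_i are pairwise coprime, their product is the order of G, and every element of G is conjugate to an element of some H_i. -/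
theorem result {G : Type*} [Group G] [Finite G] (hG : Cfsg.IsMinSimpleOddOrder G) (hCN : Cfsg.IsCNGroup G) (k : ℕ) (Mrep : Fin k → Subgroup G) (hmax : ∀ i, IsCoatom (Mrep i))
    (hnc : ∀ i j, i ≠ j → ∀ g : G, Mrep j ≠ (Mrep i).map (MulAut.conj g).toMonoidHom) (hall : ∀ M : Subgroup G, IsCoatom M → ∃ i, ∃ g : G, M = (Mrep i).map (MulAut.conj g).toMonoidHom) :
    (∀ i j, i ≠ j → (Nat.card (Cfsg.fittingHallOf (Mrep i))).Coprime (Nat.card (Cfsg.fittingHallOf (Mrep j)))) ∧
      ∏ i, Nat.card (Cfsg.fittingHallOf (Mrep i)) = Nat.card G ∧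
      ∀ x : G, ∃ i, ∃ g : G, g * x * g⁻¹ ∈ Cfsg.fittingHallOf (Mrep i) := by
  obtain ⟨Hf, hHf⟩ : ∃ Hf : Fin k → Subgroup G, Hf = fun i => Cfsg.fittingHallOf (Mrep i) :=
    ⟨_, rfl⟩
  have hH : ∀ i, MaxNil (Hf i) ∧ Mrep i = Subgroup.normalizer ((Hf i : Subgroup G) : Set G) := by
    intro i
    rw [hHf]
    exact fittingHallOf_coatom hG hCN (hmax i)
  have h1 : ∀ i j, i ≠ j → (Nat.card (Hf i)).Coprime (Nat.card (Hf j)) := by
    intro i j hij
    rcases S1483.conj_or_coprime hG hCN (hH i).1 (hH j).1 with ⟨g, hg⟩ | hc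
    · exfalso
      apply hnc i j hij g
      calc Mrep j = Subgroup.normalizer ((Hf j : Subgroup G) : Set G) := (hH j).2
        _ = Subgroup.normalizer ((conjSub g (Hf i) : Subgroup G) : Set G) := by rw [hg]
        _ = conjSub g (Subgroup.normalizer ((Hf i : Subgroup G) : Set G)) :=
          normalizer_conjSub g _
        _ = conjSub g (Mrep i) := by rw [← (hH i).2]
    · exact hc
  have h3 : ∀ x : G, ∃ i, ∃ g : G, g * x * g⁻¹ ∈ Hf i := by
    intro x
    obtain ⟨T, hxT, hT⟩ := exists_maxNil_ge (isNilpotent_zpowers x)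
    have hx : x ∈ T := hxT (Subgroup.mem_zpowers x)
    obtain ⟨i, g, hg⟩ := hall _ (hT.isCoatom_normalizer hG hCN)
    have hN : Subgroup.normalizer ((T : Subgroup G) : Set G) =
        Subgroup.normalizer ((conjSub g (Hf i) : Subgroup G) : Set G) := by
      rw [normalizer_conjSub, ← (hH i).2]
      exact hg
    have hTeq : T = conjSub g (Hf i) :=
      hT.eq_of_normalizer_le hG hCN ((hH i).1.conj g) hN.le
    rw [hTeq] at hx
    refine ⟨i, g⁻¹, ?_⟩
    rw [inv_inv]
    exact mem_conjSub.mp hx
  have hcop : ∀ i, (Nat.card (Hf i)).Coprime (Hf i).index := by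
    intro i
    exact (S1477.result hCN (Hf i) (hH i).1.1 (hH i).1.2).1
  have h2 : ∏ i, Nat.card (Hf i) = Nat.card G := by
    have hpos : ∀ i, Nat.card (Hf i) ≠ 0 := fun i => Nat.card_pos.ne'
    apply Nat.eq_of_factorization_eq (Finset.prod_ne_zero_iff.mpr (fun i _ => hpos i))
      Nat.card_pos.ne'
    intro r
    rw [Nat.factorization_prod (fun i _ => hpos i), Finsupp.finsetSum_apply]
    by_cases hr : r.Prime
    · by_cases hrG : r ∣ Nat.card G
      · haveI := Fact.mk hr
        obtain ⟨x, hx⟩ := exists_prime_orderOf_dvd_card' r hrG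
        obtain ⟨i, g, hg⟩ := h3 x
        have hri : r ∣ Nat.card (Hf i) := by
          have h4 := orderOf_dvd_natCard (⟨g * x * g⁻¹, hg⟩ : Hf i)
          have h5 : orderOf (⟨g * x * g⁻¹, hg⟩ : Hf i) = orderOf (g * x * g⁻¹) :=
            Subgroup.orderOf_mk _ _
          rw [h5, orderOf_conj', hx] at h4
          exact h4
        rw [Finset.sum_eq_single i]
        · exact (factorization_eq_of_coprime_index hr (Hf i) (hcop i) hri).symm
        · intro j _ hji
          apply Nat.factorization_eq_zero_of_not_dvd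
          intro hrj
          exact hr.ne_one (Nat.eq_one_of_dvd_coprimes (h1 i j hji.symm) hri hrj)
        · intro h
          exact absurd (Finset.mem_univ i) h
      · rw [Nat.factorization_eq_zero_of_not_dvd hrG]
        apply Finset.sum_eq_zero
        intro j _
        apply Nat.factorization_eq_zero_of_not_dvd
        intro hrj
        exact hrG (hrj.trans (Subgroup.card_subgroup_dvd_card _))
    · rw [Nat.factorization_eq_zero_of_not_prime _ hr]
      apply Finset.sum_eq_zero
      intro j _
      exact Nat.factorization_eq_zero_of_not_prime _ hr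
  subst hHf
  exact ⟨h1, h2, h3⟩

end Cfsg.Agent.S1484
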