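import Cfsg.Statements.S1488
import Cfsg.Agent.Helper25.QuotSum
import Cfsg.Agent.Helper15.IndFun

set_option autoImplicit false
open Cfsg

namespace Cfsg.Agent.S1488

open Cfsg.Agent.Helper25 Cfsg.Agent.Helper15

theorem mem_iff_mk_mem {G : Type*} [Group G] (A H : Subgroup G) [A.Normal] (hAH : A ≤ H) (y : G) :
    QuotientGroup.mk' A y ∈ H.map (QuotientGroup.mk' A) ↔ y ∈ H := by
  constructor
  · rintro ⟨z, hz, hzy⟩
    have h1 : z⁻¹ * y ∈ A := QuotientGroup.eq.mp hzy
    have h2 : y = z * (z⁻¹ * y) := by group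
    rw [h2]
    exact H.mul_mem hz (hAH h1)
  · intro hy
    exact Subgroup.mem_map_of_mem _ hy

theorem card_eq_mul {G : Type*} [Group G] [Fintype G] (A H : Subgroup G) [A.Normal] (hAH : A ≤ H)
    [Fintype (G ⧸ A)] :
    (Nat.card H : ℂ) = (Nat.card A : ℂ) * (Nat.card ↥(H.map (QuotientGroup.mk' A)) : ℂ) := by
  classical
  have h1 : (Nat.card H : ℂ) = ∑ x : G, (if x ∈ H then (1 : ℂ) else 0) := by
    rw [Finset.sum_boole, Nat.card_eq_fintype_card, Fintype.card_subtype]
  have h2 : (Nat.card ↥(H.map (QuotientGroup.mk' A)) : ℂ) =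
      ∑ q : G ⧸ A, (if q ∈ H.map (QuotientGroup.mk' A) then (1 : ℂ) else 0) := by
    rw [Finset.sum_boole, Nat.card_eq_fintype_card, Fintype.card_subtype]
  rw [h1, h2, ← sum_comp_mk A (fun q => if q ∈ H.map (QuotientGroup.mk' A) then (1 : ℂ) else 0)]
  apply Finset.sum_congr rfl
  intro x _
  have := mem_iff_mk_mem A H hAH x
  simp only [QuotientGroup.mk'_apply] at this
  by_cases hx : x ∈ H
  · rw [if_pos hx, if_pos (this.mpr hx)]
  · rw [if_neg hx, if_neg (fun h => hx (this.mp h))]

/-- Let A be a normal subgroup of the finite group G contained in the subgroup H, let θ be a function on H and θ₁ a function on the image of H in G ⧸ A whose composite with the projection is θ. Then the function induced from θ₁ to G ⧸ A, composed with the projection G → G ⧸ A, equals the function induced from θ to G. -/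
theorem result {G : Type*} [Group G] [Fintype G] (A H : Subgroup G) [A.Normal] (hAH : A ≤ H) [Fintype (G ⧸ A)] [Fintype ↥(H.map (QuotientGroup.mk' A))] (θ : H → ℂ) (θ₁ : ↥(H.map (QuotientGroup.mk' A)) → ℂ) (hθ : ∀ x : H, θ₁ ⟨QuotientGroup.mk' A x, Subgroup.mem_map_of_mem _ x.2⟩ = θ x) (g : G) : Cfsg.indFun (H.map (QuotientGroup.mk' A)) θ₁ (QuotientGroup.mk' A g) = Cfsg.indFun H θ g := by
  classical
  have hext : ∀ y : G, extendByZero H θ y =
      extendByZero (H.map (QuotientGroup.mk' A)) θ₁ (QuotientGroup.mk' A y) := by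
    intro y
    by_cases hy : y ∈ H
    · rw [extendByZero_of_mem H θ hy,
        extendByZero_of_mem _ θ₁ (Subgroup.mem_map_of_mem (QuotientGroup.mk' A) hy)]
      exact (hθ ⟨y, hy⟩).symm
    · rw [extendByZero_of_not_mem H θ hy,
        extendByZero_of_not_mem _ θ₁ (fun h => hy ((mem_iff_mk_mem A H hAH y).mp h))]
  rw [indFun_apply, indFun_apply]
  have hsum : ∑ x : G, extendByZero H θ (x⁻¹ * g * x) =
      (Nat.card A : ℂ) * ∑ q : G ⧸ A,
        extendByZero (H.map (QuotientGroup.mk' A)) θ₁ (q⁻¹ * QuotientGroup.mk' A g * q) := by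
    rw [← sum_comp_mk A (fun q => extendByZero (H.map (QuotientGroup.mk' A)) θ₁
      (q⁻¹ * QuotientGroup.mk' A g * q))]
    apply Finset.sum_congr rfl
    intro x _
    rw [hext]
    simp
  rw [hsum, card_eq_mul A H hAH]
  have hA : (Nat.card A : ℂ) ≠ 0 := by
    have : Nat.card A ≠ 0 := Nat.card_pos.ne'
    exact_mod_cast this
  rw [mul_inv, mul_assoc, ← mul_assoc _ (Nat.card A : ℂ), mul_comm _ (Nat.card A : ℂ), ← mul_assoc,
    ← mul_assoc, inv_mul_cancel₀ hA, one_mul]

end Cfsg.Agent.S1488
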