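import Mathlib
import Cfsg.Statements.S1490
import Cfsg.Agent.Helper25.AbelianInertia
import Cfsg.Agent.Helper25.CliffordInd
import Cfsg.Agent.Helper25.IndTransSub

set_option autoImplicit false
open Cfsg

namespace Cfsg.Agent.S1490

open Cfsg.Agent.Helper25 Cfsg.Agent.Helper15 in
/-- Let H be a normal subgroup of the finite group G, θ an irreducible character of H with inertia group T, and suppose the commutator of any two elements of T lies in H (T/H abelian). Then there are a positive integer e and a finite set C of irreducible characters of G with e ^ 2 * |C| * |H| = |T|, such that the function induced from θ is e times the sum of the members of C and every member of C has degree [G:T] * e * θ(1). -/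
theorem result {G : Type*} [Group G] [Fintype G] (H T : Subgroup G) [hN : H.Normal] (θ : H → ℂ) (hθ : Cfsg.IsIrrCharacter H θ) (hT : ∀ g : G, g ∈ T ↔ ∀ h : H, θ ⟨g * h * g⁻¹, hN.conj_mem h h.2 g⟩ = θ h) (hab : ∀ x ∈ T, ∀ y ∈ T, x * y * x⁻¹ * y⁻¹ ∈ H) : ∃ (e : ℕ) (C : Finset (G → ℂ)), 0 < e ∧ (∀ χ ∈ C, Cfsg.IsIrrCharacter G χ) ∧ e ^ 2 * C.card * Nat.card H = Nat.card T ∧ Cfsg.indFun H θ = (e : ℂ) • ∑ χ ∈ C, χ ∧ ∀ χ ∈ C, χ 1 = (T.index : ℂ) * e * θ 1 := by
  classical
  let _ : Fintype T := Fintype.ofFinite T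
  let _ : Fintype H := Fintype.ofFinite H
  have hθcf : IsClassFunction H θ :=
    Helper74.isClassFunction_of_isCharacter (Helper74.isCharacter_of_isIrr hθ)
  have hTeq : T = inertia H θ := by
    ext g
    rw [hT g, mem_inertia_iff]
  have hHT : H ≤ T := by
    rw [hTeq]
    exact le_inertia H hθcf
  have hθ' : IsIrrCharacter (H.subgroupOf T) (toSub H T hHT θ) := isIrrCharacter_toSub H T hHT hθ
  have hinv' : ∀ t : T, Helper15.conjFun (H.subgroupOf T) t (toSub H T hHT θ) = toSub H T hHT θ := by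
    intro t
    rw [Helper15.conjFun_toSub]
    congr 1
    funext h
    exact (hT (t : G)).mp t.2 h
  have hab' : ∀ x y : T, x * y * x⁻¹ * y⁻¹ ∈ H.subgroupOf T := by
    intro x y
    rw [Subgroup.mem_subgroupOf]
    exact hab x x.2 y y.2
  obtain ⟨e, C, he, hCirr, hCne, hcard, hdec, hdeg⟩ :=
    abelian_inertia (H.subgroupOf T) hθ' hinv' hab'
  have hinj : Set.InjOn (indFun T) (C : Set (T → ℂ)) := by
    intro χ hχ χ' hχ' heq
    exact (clifford_induce H T hθ hT hHT (hCirr χ hχ) (hCirr χ' hχ') (hCne χ hχ)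
      (hCne χ' hχ')).2 heq
  refine ⟨e, C.image (indFun T), he, ?_, ?_, ?_, ?_⟩
  · intro χ hχ
    obtain ⟨ψ, hψ, rfl⟩ := Finset.mem_image.mp hχ
    exact (clifford_induce H T hθ hT hHT (hCirr ψ hψ) (hCirr ψ hψ) (hCne ψ hψ) (hCne ψ hψ)).1
  · rw [Finset.card_image_of_injOn hinj, ← hcard]
    congr 1
    exact (Nat.card_congr (Subgroup.subgroupOfEquivOfLe hHT).toEquiv).symm
  · rw [← indFun_indFun_toSub H T hHT θ, hdec, indFun_smul, indFun_finset_sum,
      Finset.sum_image hinj]
  · intro χ hχ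
    obtain ⟨ψ, hψ, rfl⟩ := Finset.mem_image.mp hχ
    rw [indFun_apply_one, hdeg ψ hψ, toSub_apply]
    have : (⟨(((1 : H.subgroupOf T) : T) : G), (1 : H.subgroupOf T).2⟩ : H) = 1 := rfl
    rw [this]
    ring

end Cfsg.Agent.S1490
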