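import Cfsg.Statements.S1491
import Cfsg.Agent.Helper82.CoprimeExt

set_option autoImplicit false
open Cfsg

namespace Cfsg.Agent.S1491

/-- Let H be a normal subgroup of the finite group G and θ an irreducible character of H with inertia group T, where T/H is abelian (commutators of T lie in H) and the index of H in T is coprime to the order of H. Then the function induced from θ is the sum of a set of exactly [T:H] irreducible characters of G, each of degree [G:T] * θ(1). -/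
theorem result {G : Type*} [Group G] [Fintype G] (H T : Subgroup G) [hN : H.Normal] (θ : H → ℂ) (hθ : Cfsg.IsIrrCharacter H θ) (hT : ∀ g : G, g ∈ T ↔ ∀ h : H, θ ⟨g * h * g⁻¹, hN.conj_mem h h.2 g⟩ = θ h) (hab : ∀ x ∈ T, ∀ y ∈ T, x * y * x⁻¹ * y⁻¹ ∈ H) (hcop : Nat.Coprime (Nat.card H) (H.relIndex T)) : ∃ C : Finset (G → ℂ), (∀ χ ∈ C, Cfsg.IsIrrCharacter G χ) ∧ C.card = H.relIndex T ∧ Cfsg.indFun H θ = ∑ χ ∈ C, χ ∧ ∀ χ ∈ C, χ 1 = (T.index : ℂ) * θ 1 := by
  classical
  let _ : Fintype T := Fintype.ofFinite T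
  let _ : Fintype H := Fintype.ofFinite H
  have hθcf : IsClassFunction H θ :=
    Cfsg.Agent.Helper74.isClassFunction_of_isCharacter (Cfsg.Agent.Helper74.isCharacter_of_isIrr hθ)
  have hTeq : T = Cfsg.Agent.Helper15.inertia H θ := by
    ext g
    rw [hT g, Cfsg.Agent.Helper15.mem_inertia_iff]
  have hHT : H ≤ T := by
    rw [hTeq]
    exact Cfsg.Agent.Helper15.le_inertia H hθcf
  have hθ' : IsIrrCharacter (H.subgroupOf T) (Cfsg.Agent.Helper15.toSub H T hHT θ) :=
    Cfsg.Agent.Helper15.isIrrCharacter_toSub H T hHT hθ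
  have hinv' : ∀ t : T, Cfsg.Agent.Helper15.conjFun (H.subgroupOf T) t
      (Cfsg.Agent.Helper15.toSub H T hHT θ) = Cfsg.Agent.Helper15.toSub H T hHT θ := by
    intro t
    rw [Cfsg.Agent.Helper15.conjFun_toSub]
    congr 1
    funext h
    exact (hT (t : G)).mp t.2 h
  have hab' : ∀ x y : T, x * y * x⁻¹ * y⁻¹ ∈ H.subgroupOf T := by
    intro x y
    rw [Subgroup.mem_subgroupOf]
    exact hab x x.2 y y.2
  have hcardeq : Nat.card (H.subgroupOf T) = Nat.card H :=
    Nat.card_congr (Subgroup.subgroupOfEquivOfLe hHT).toEquiv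
  have hcop' : Nat.Coprime (Nat.card (H.subgroupOf T)) (H.subgroupOf T).index := by
    rw [hcardeq]
    exact hcop
  obtain ⟨C, hCirr, hCne, hcard, hdec, hdeg⟩ :=
    Cfsg.Agent.Helper82.abelian_inertia_coprime (H.subgroupOf T) hθ' hinv' hab' hcop'
  have hinj : Set.InjOn (indFun T) (C : Set (T → ℂ)) := by
    intro χ hχ χ' hχ' heq
    exact (Cfsg.Agent.Helper25.clifford_induce H T hθ hT hHT (hCirr χ hχ) (hCirr χ' hχ')
      (hCne χ hχ) (hCne χ' hχ')).2 heq
  refine ⟨C.image (indFun T), ?_, ?_, ?_, ?_⟩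
  · intro χ hχ
    obtain ⟨ψ, hψ, rfl⟩ := Finset.mem_image.mp hχ
    exact (Cfsg.Agent.Helper25.clifford_induce H T hθ hT hHT (hCirr ψ hψ) (hCirr ψ hψ)
      (hCne ψ hψ) (hCne ψ hψ)).1
  · rw [Finset.card_image_of_injOn hinj, hcard]
    rfl
  · rw [← Cfsg.Agent.Helper25.indFun_indFun_toSub H T hHT θ, hdec,
      Cfsg.Agent.Helper15.indFun_finset_sum, Finset.sum_image hinj]
  · intro χ hχ
    obtain ⟨ψ, hψ, rfl⟩ := Finset.mem_image.mp hχ
    rw [Cfsg.Agent.Helper15.indFun_apply_one, hdeg ψ hψ, Cfsg.Agent.Helper15.toSub_apply]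
    rfl

end Cfsg.Agent.S1491
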