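import Cfsg.Statements.S1493
import Cfsg.Agent.Helper82.GaloisConj
-- import your own Cfsg.Agent.* helpers here

set_option autoImplicit false
open Cfsg

namespace Cfsg.Agent.S1493

/-- Let G be a finite group of order a * b with a and b coprime, let k be coprime to a, and let χ be a character of G. Then there is a character χ' of G such that χ'(g) = χ(g ^ k) whenever the order of g divides a and χ'(g) = χ(g) whenever the order of g is coprime to a; moreover χ' is irreducible if χ is. -/
theorem result {G : Type*} [Group G] [Finite G] (a b k : ℕ) (hab : Nat.card G = a * b) (hcop : Nat.Coprime a b) (hk : Nat.Coprime k a) (χ : G → ℂ) (hχ : Cfsg.IsCharacter G χ) : ∃ χ' : G → ℂ, Cfsg.IsCharacter G χ' ∧ (Cfsg.IsIrrCharacter G χ → Cfsg.IsIrrCharacter G χ') ∧ (∀ g : G, orderOf g ∣ a → χ' g = χ (g ^ k)) ∧ (∀ g : G, Nat.Coprime (orderOf g) a → χ' g = χ g) := by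
  classical
  have hGpos : 0 < Nat.card G := Nat.card_pos
  have ha : a ≠ 0 := by
    rintro rfl
    rw [zero_mul] at hab; omega
  have hb : b ≠ 0 := by
    rintro rfl
    rw [mul_zero] at hab; omega
  -- Chinese remainder
  let k' : ℕ := (Nat.chineseRemainder hcop k 1 : ℕ)
  have hk'a : k' ≡ k [MOD a] := (Nat.chineseRemainder hcop k 1).2.1
  have hk'b : k' ≡ 1 [MOD b] := (Nat.chineseRemainder hcop k 1).2.2
  have hcopa : Nat.Coprime k' a := by
    have h1 : Nat.gcd k' a = Nat.gcd k a := hk'a.gcd_eq
    exact h1.trans hk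
  have hcopb : Nat.Coprime k' b := by
    have h1 : Nat.gcd k' b = Nat.gcd 1 b := hk'b.gcd_eq
    exact h1.trans (Nat.gcd_one_left b)
  have hcopG : Nat.Coprime k' (Nat.card G) := by
    rw [hab]; exact Nat.Coprime.mul_right hcopa hcopb
  refine ⟨fun g => χ (g ^ k'), Cfsg.Agent.Helper82.galoisConj_isCharacter hχ k' hcopG,
    fun hirr => Cfsg.Agent.Helper82.galoisConj_isIrrCharacter hirr k' hcopG, ?_, ?_⟩
  · intro g hg
    have : g ^ k' = g ^ k := by
      rw [pow_eq_pow_iff_modEq]
      exact hk'a.of_dvd hg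
    show χ (g ^ k') = χ (g ^ k)
    rw [this]
  · intro g hg
    have hdvd : orderOf g ∣ b := by
      have h1 : orderOf g ∣ a * b := hab ▸ orderOf_dvd_natCard g
      exact hg.dvd_of_dvd_mul_left h1
    have : g ^ k' = g := by
      conv_rhs => rw [← pow_one g]
      rw [pow_eq_pow_iff_modEq]
      exact hk'b.of_dvd hdvd
    show χ (g ^ k') = χ g
    rw [this]

end Cfsg.Agent.S1493
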