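import Cfsg.Statements.S1494
import Mathlib
import Cfsg.Agent.Helper79.CharComplete
import Cfsg.Agent.Helper80.Induced
import Cfsg.Agent.Helper76.CharCentral
import Cfsg.Agent.Helper74.CharBasic

set_option autoImplicit false
open Cfsg

namespace Cfsg.Agent.S1494

/-- The statement for characters. -/
theorem char_case {G : Type*} [Group G] [Finite G] (χ : G → ℂ) (hχ : Cfsg.IsCharacter G χ) (p : ℕ)
    (hp : p.Prime) (x y : G) (hx : x ^ p = 1) (hxy : x * y = y * x) :
    ∃ ω : ℂ, IsIntegral ℤ ω ∧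
      χ (x * y) - χ y = (1 - Complex.exp (2 * Real.pi * Complex.I / p)) * ω := by
  classical
  set ε := Complex.exp (2 * Real.pi * Complex.I / p) with hε
  have hprim : IsPrimitiveRoot ε p := Complex.isPrimitiveRoot_exp p hp.ne_zero
  have hne : NeZero p := ⟨hp.ne_zero⟩
  let A : Subgroup G := Subgroup.closure {x, y}
  have hAc : IsMulCommutative A := Subgroup.isMulCommutative_closure (by
    intro a ha b hb
    simp only [Set.mem_insert_iff, Set.mem_singleton_iff] at ha hb
    rcases ha with rfl | rfl <;> rcases hb with rfl | rfl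
    · rfl
    · exact hxy
    · exact hxy.symm
    · rfl)
  have hcomm : ∀ a b : A, a * b = b * a := fun a b => mul_comm' a b
  have hfA := Fintype.ofFinite A
  have hfinIrr : Finite (IrrCharacter A) := Cfsg.Agent.Helper79.irr_finite
  have hfI := Fintype.ofFinite (IrrCharacter A)
  have hres : IsCharacter A (fun a : A => χ a) := Cfsg.Agent.Helper74.isCharacter_restrict A hχ
  have hdec := Cfsg.Agent.Helper80.eq_sum_mult _ hres
  have hxA : x ∈ A := Subgroup.subset_closure (by simp)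
  have hyA : y ∈ A := Subgroup.subset_closure (by simp)
  have hεint : IsIntegral ℤ ε :=
    IsIntegral.of_pow hp.pos (by rw [hprim.pow_eq_one]; exact isIntegral_one)
  have hlam : ∀ l : IrrCharacter A, ∃ ω : ℂ, IsIntegral ℤ ω ∧
      (l : A → ℂ) (⟨x, hxA⟩ * ⟨y, hyA⟩) - (l : A → ℂ) ⟨y, hyA⟩ = (1 - ε) * ω := by
    intro l
    have hmul := Cfsg.Agent.Helper76.irr_mul_of_comm hcomm l.2
    have hone := Cfsg.Agent.Helper76.irr_one_of_comm hcomm l.2
    have hpow : ∀ (a : A) (n : ℕ), (l : A → ℂ) (a ^ n) = ((l : A → ℂ) a) ^ n := by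
      intro a n
      induction n with
      | zero => simp [hone]
      | succ n ih => rw [pow_succ, hmul, ih, pow_succ]
    have hxp : ((l : A → ℂ) ⟨x, hxA⟩) ^ p = 1 := by
      rw [← hpow]
      have : (⟨x, hxA⟩ : A) ^ p = 1 := Subtype.ext (by simpa using hx)
      rw [this, hone]
    obtain ⟨k, hk, hkeq⟩ := hprim.eq_pow_of_pow_eq_one hxp
    have hyint : IsIntegral ℤ ((l : A → ℂ) ⟨y, hyA⟩) := by
      apply IsIntegral.of_pow (orderOf_pos (⟨y, hyA⟩ : A))
      rw [← hpow, pow_orderOf_eq_one, hone]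
      exact isIntegral_one
    refine ⟨-((l : A → ℂ) ⟨y, hyA⟩ * ∑ j ∈ Finset.range k, ε ^ j), ?_, ?_⟩
    · exact (hyint.mul (IsIntegral.sum _ fun j _ => hεint.pow j)).neg
    · rw [hmul, ← hkeq]
      have hgeom := geom_sum_mul ε k
      linear_combination (-((l : A → ℂ) ⟨y, hyA⟩)) * hgeom
  choose ω hωint hω using hlam
  refine ⟨∑ l : IrrCharacter A, (Cfsg.Agent.Helper80.mult _ hres l : ℂ) * ω l, ?_, ?_⟩
  · exact IsIntegral.sum _ fun l _ => (isIntegral_natCast _).mul (hωint l)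
  · have e1 := congrFun hdec (⟨x, hxA⟩ * ⟨y, hyA⟩)
    have e2 := congrFun hdec ⟨y, hyA⟩
    simp only [Finset.sum_apply, Pi.smul_apply, smul_eq_mul] at e1 e2
    have e1' : χ (x * y) = ∑ l : IrrCharacter A,
        (Cfsg.Agent.Helper80.mult _ hres l : ℂ) * (l : A → ℂ) (⟨x, hxA⟩ * ⟨y, hyA⟩) := e1
    have e2' : χ y = ∑ l : IrrCharacter A,
        (Cfsg.Agent.Helper80.mult _ hres l : ℂ) * (l : A → ℂ) ⟨y, hyA⟩ := e2
    rw [e1', e2', ← Finset.sum_sub_distrib, Finset.mul_sum]
    refine Finset.sum_congr rfl fun l _ => ?_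
    rw [← mul_sub, hω l]
    ring

/-- Let χ be a generalized character of the finite group G, p a prime, x an element of order p and y an element commuting with x. Then χ(x * y) − χ(y) = (1 − ε) * ω for some algebraic integer ω, where ε = exp(2πi/p). -/
theorem result {G : Type*} [Group G] [Finite G] (χ : G → ℂ) (hχ : Cfsg.IsGeneralizedCharacter G χ) (p : ℕ) (hp : p.Prime) (x y : G) (hx : orderOf x = p) (hxy : x * y = y * x) : ∃ ω : ℂ, IsIntegral ℤ ω ∧ χ (x * y) - χ y = (1 - Complex.exp (2 * Real.pi * Complex.I / p)) * ω := by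
  obtain ⟨χ₁, χ₂, h1, h2, rfl⟩ := hχ
  have hxp : x ^ p = 1 := by rw [← hx]; exact pow_orderOf_eq_one x
  obtain ⟨ω₁, hi1, he1⟩ := char_case χ₁ h1 p hp x y hxp hxy
  obtain ⟨ω₂, hi2, he2⟩ := char_case χ₂ h2 p hp x y hxp hxy
  refine ⟨ω₁ - ω₂, hi1.sub hi2, ?_⟩
  simp only [Pi.sub_apply]
  linear_combination he1 - he2

end Cfsg.Agent.S1494
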