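import Cfsg.Statements.S1495
import Mathlib

set_option autoImplicit false
open Cfsg

namespace Cfsg.Agent.S1495

/-- A rational number `a / b` (integers, in `ℂ`) that is an algebraic integer forces divisibility. -/
theorem int_dvd_of_isIntegral_div {a : ℤ} {b : ℕ} (hb : b ≠ 0)
    (h : IsIntegral ℤ ((a : ℂ) / (b : ℂ))) : (b : ℤ) ∣ a := by
  have h1 : ((a : ℂ) / (b : ℂ)) = algebraMap ℚ ℂ ((a : ℚ) / (b : ℚ)) := by simp
  rw [h1, isIntegral_algebraMap_iff (algebraMap ℚ ℂ).injective] at h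
  obtain ⟨m, hm⟩ := IsIntegrallyClosed.algebraMap_eq_of_integral h
  have hbq : (b : ℚ) ≠ 0 := by exact_mod_cast hb
  have h2 : (a : ℚ) = (m : ℚ) * (b : ℚ) := by
    have : (m : ℚ) = (a : ℚ) / (b : ℚ) := by simpa using hm
    rw [this]; field_simp
  have h3 : a = m * (b : ℤ) := by exact_mod_cast h2
  exact ⟨m, by rw [h3, mul_comm]⟩

/-- Let p be a prime, ε = exp(2πi/p), and n an integer such that n = (1 − ε) * ω for some algebraic integer ω. Then p divides n. -/
theorem result (p : ℕ) (hp : p.Prime) (n : ℤ) (ω : ℂ) (hω : IsIntegral ℤ ω) (h : (n : ℂ) = (1 - Complex.exp (2 * Real.pi * Complex.I / p)) * ω) : (p : ℤ) ∣ n := by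
  have hε : IsPrimitiveRoot (Complex.exp (2 * Real.pi * Complex.I / p)) p :=
    Complex.isPrimitiveRoot_exp p hp.ne_zero
  set ε : ℂ := Complex.exp (2 * Real.pi * Complex.I / p) with hεdef
  have hεint : IsIntegral ℤ ε := hε.isIntegral hp.pos
  -- each conjugate factor divides n
  have key : ∀ k : ℕ, k ∈ Finset.range (p - 1) →
      ∃ ωk : ℂ, IsIntegral ℤ ωk ∧ (n : ℂ) = (1 - ε ^ (k + 1)) * ωk := by
    intro k hk
    rw [Finset.mem_range] at hk
    have hcop : Nat.Coprime (k + 1) p := by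
      apply Nat.Coprime.symm
      rw [hp.coprime_iff_not_dvd]
      intro hdvd
      have := Nat.le_of_dvd (Nat.succ_pos k) hdvd
      omega
    -- inverse of k+1 mod p
    obtain ⟨m, hm⟩ := Nat.exists_mul_mod_eq_one_of_coprime hcop hp.one_lt
    have hpow : (ε ^ (k + 1)) ^ m = ε := by
      rw [← pow_mul]
      have h1 : (k + 1) * m = p * ((k + 1) * m / p) + 1 := by
        have := Nat.div_add_mod ((k + 1) * m) p
        omega
      rw [h1, pow_add, pow_mul, hε.pow_eq_one, one_pow, one_mul, pow_one]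
    refine ⟨(∑ i ∈ Finset.range m, (ε ^ (k + 1)) ^ i) * ω, ?_, ?_⟩
    · apply IsIntegral.mul _ hω
      apply IsIntegral.sum
      intro i _
      exact (hεint.pow _).pow _
    · rw [← mul_assoc, mul_comm (1 - ε ^ (k + 1)), geom_sum_mul_neg, hpow, h]
  choose! ωk hωk_int hωk using key
  have hprod : (n : ℂ) ^ (p - 1) = (p : ℂ) * ∏ k ∈ Finset.range (p - 1), ωk k := by
    have h1 : (n : ℂ) ^ (p - 1) = ∏ k ∈ Finset.range (p - 1), ((1 - ε ^ (k + 1)) * ωk k) := by
      rw [← Finset.card_range (p - 1), ← Finset.prod_const]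
      simp only [Finset.card_range]
      exact Finset.prod_congr rfl (fun k hk => hωk k hk)
    rw [h1, Finset.prod_mul_distrib]
    have hp1 : p - 1 + 1 = p := Nat.succ_pred_eq_of_pos hp.pos
    have h2 := IsPrimitiveRoot.prod_one_sub_pow_eq_order (n := p - 1) (μ := ε) (by rw [hp1]; exact hε)
    rw [h2]
    congr 1
    exact_mod_cast hp1
  have hpne : (p : ℂ) ≠ 0 := by exact_mod_cast hp.ne_zero
  have hint : IsIntegral ℤ (((n ^ (p - 1) : ℤ) : ℂ) / (p : ℂ)) := by
    have : ((n ^ (p - 1) : ℤ) : ℂ) / (p : ℂ) = ∏ k ∈ Finset.range (p - 1), ωk k := by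
      push_cast
      rw [hprod]
      field_simp
    rw [this]
    exact IsIntegral.prod _ (fun k hk => hωk_int k hk)
  have hdvd := int_dvd_of_isIntegral_div hp.ne_zero hint
  exact Int.Prime.dvd_pow' hp hdvd

end Cfsg.Agent.S1495
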