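import Cfsg.Statements.S1498
import Cfsg.Agent.Helper25.HallMem
import Cfsg.Agent.Helper25.CoprimePow

set_option autoImplicit false
open Cfsg

namespace Cfsg.Agent.S1498

open Cfsg.Agent.Helper25

/-- One inclusion: the conjugate of `H a` by `x ∈ L` lies in `H (x a x⁻¹)`. -/
theorem conj_le {G : Type*} [Group G] [Finite G] (A : Set G) (L : Subgroup G) (H : G → Subgroup G)
    (hD : Cfsg.DadeHypothesis A L H) (a : G) (ha : a ∈ A) (x : G) (hx : x ∈ L) :
    (H a).map (MulAut.conj x).toMonoidHom ≤ H (x * a * x⁻¹) := by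
  have hb : x * a * x⁻¹ ∈ A := hD.conj_mem x hx a ha
  set b := x * a * x⁻¹ with hbdef
  rintro y ⟨u, hu, rfl⟩
  simp only [MulEquiv.coe_toMonoidHom, MulAut.conj_apply]
  -- x u x⁻¹ centralizes b
  have huc : u * a = a * u := by
    have := hD.le_centralizer a ha hu
    exact Subgroup.mem_centralizer_singleton_iff.mp this
  have hyc : x * u * x⁻¹ ∈ Subgroup.centralizer ({b} : Set G) := by
    rw [Subgroup.mem_centralizer_singleton_iff, hbdef]
    calc x * u * x⁻¹ * (x * a * x⁻¹) = x * (u * a) * x⁻¹ := by group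
      _ = x * (a * u) * x⁻¹ := by rw [huc]
      _ = x * a * x⁻¹ * (x * u * x⁻¹) := by group
  have hsup : x * u * x⁻¹ ∈ H b ⊔ (L ⊓ Subgroup.centralizer ({b} : Set G)) := by
    rw [hD.sup_eq b hb]; exact hyc
  have hnorm : L ⊓ Subgroup.centralizer ({b} : Set G) ≤ Subgroup.normalizer ((H b : Subgroup G) : Set G) := by
    intro c hc
    rw [Subgroup.mem_normalizer_iff]
    intro h
    constructor
    · intro hh
      exact hD.conj_mem_H b hb c hc.2 h hh
    · intro hh
      have := hD.conj_mem_H b hb c⁻¹ (Subgroup.inv_mem _ hc.2) _ hh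
      simpa [mul_assoc] using this
  have hpow : (x * u * x⁻¹) ^ Nat.card ↥(H a) = 1 := by
    rw [conj_pow', orderOf_dvd_iff_pow_eq_one.mp (Subgroup.orderOf_dvd_natCard _ hu)]
    group
  exact mem_of_mem_sup_of_pow_eq_one (H b) _ hnorm (hD.inf_eq_bot b hb) hsup hpow
    (hD.coprime a ha b hb)

/-- Under the Dade hypothesis for (A, L, H): for a ∈ A and x ∈ L, the subgroup attached to x * a * x⁻¹ is the conjugate of H a by x. -/
theorem result {G : Type*} [Group G] [Finite G] (A : Set G) (L : Subgroup G) (H : G → Subgroup G) (hD : Cfsg.DadeHypothesis A L H) (a : G) (ha : a ∈ A) (x : G) (hx : x ∈ L) : H (x * a * x⁻¹) = (H a).map (MulAut.conj x).toMonoidHom := by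
  apply le_antisymm
  · have hb : x * a * x⁻¹ ∈ A := hD.conj_mem x hx a ha
    have h1 := conj_le A L H hD (x * a * x⁻¹) hb x⁻¹ (L.inv_mem hx)
    have e : x⁻¹ * (x * a * x⁻¹) * x⁻¹⁻¹ = a := by group
    rw [e] at h1
    intro y hy
    refine ⟨x⁻¹ * y * x, ?_, ?_⟩
    · apply h1
      refine ⟨y, hy, ?_⟩
      simp
    · simp only [MulEquiv.coe_toMonoidHom, MulAut.conj_apply]
      group
  · exact conj_le A L H hD a ha x hx

end Cfsg.Agent.S1498
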