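import Cfsg.Statements.S1499
import Cfsg.Agent.Helper25.CoprimePow

set_option autoImplicit false
open Cfsg

namespace Cfsg.Agent.S1499

open Cfsg.Agent.Helper25

/-- Under the Dade hypothesis for (A, L, H), let a, b ∈ A. If an element of the coset a·H(a) is conjugate in G to an element of b·H(b), then a and b are conjugate by an element of L. Moreover the set normaliser of the coset a·H(a) is the centraliser of a. -/
theorem result {G : Type*} [Group G] [Finite G] (A : Set G) (L : Subgroup G) (H : G → Subgroup G) (hD : Cfsg.DadeHypothesis A L H) (a b : G) (ha : a ∈ A) (hb : b ∈ A) : ((∃ u ∈ H a, ∃ v ∈ H b, ∃ g : G, g * (a * u) * g⁻¹ = b * v) → ∃ x ∈ L, x * a * x⁻¹ = b) ∧ Subgroup.normalizer ((fun u : G => a * u) '' (H a : Set G)) = Subgroup.centralizer ({a} : Set G) := by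
  -- basic facts
  have hmemC : ∀ c ∈ A, c ∈ L ⊓ Subgroup.centralizer ({c} : Set G) := by
    intro c hc
    refine Subgroup.mem_inf.mpr ⟨hD.subset hc, ?_⟩
    rw [Subgroup.mem_centralizer_singleton_iff]
  have hord : ∀ c ∈ A, c ^ Nat.card ↥(L ⊓ Subgroup.centralizer ({c} : Set G)) = 1 := by
    intro c hc
    exact orderOf_dvd_iff_pow_eq_one.mp (Subgroup.orderOf_dvd_natCard _ (hmemC c hc))
  have hordH : ∀ c : G, ∀ u ∈ H c, u ^ Nat.card ↥(H c) = 1 := by
    intro c u hu
    exact orderOf_dvd_iff_pow_eq_one.mp (Subgroup.orderOf_dvd_natCard _ hu)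
  have hcomm : ∀ c ∈ A, ∀ u ∈ H c, Commute c u := by
    intro c hc u hu
    have := hD.le_centralizer c hc hu
    rw [Subgroup.mem_centralizer_singleton_iff] at this
    exact this.symm
  constructor
  · rintro ⟨u, hu, v, hv, g, hg⟩
    set ma := Nat.card ↥(L ⊓ Subgroup.centralizer ({a} : Set G)) with hma
    set mb := Nat.card ↥(L ⊓ Subgroup.centralizer ({b} : Set G)) with hmb
    set na := Nat.card ↥(H a) with hna
    set nb := Nat.card ↥(H b) with hnb
    have hcop : Nat.Coprime (ma * mb) (na * nb) := by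
      apply Nat.Coprime.mul_left
      · apply Nat.Coprime.mul_right
        · exact (hD.coprime a ha a ha).symm
        · exact (hD.coprime b hb a ha).symm
      · apply Nat.Coprime.mul_right
        · exact (hD.coprime a ha b hb).symm
        · exact (hD.coprime b hb b hb).symm
    obtain ⟨k, hk1, hk0⟩ := exists_modEq_one_zero hcop
    have h1 : (a * u) ^ k = a :=
      mul_pow_eq_left_of_modEq (hcomm a ha u hu) (hord a ha) (hordH a u hu)
        (hk1.of_dvd (dvd_mul_right _ _)) (hk0.of_dvd (dvd_mul_right _ _))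
    have h2 : (b * v) ^ k = b :=
      mul_pow_eq_left_of_modEq (hcomm b hb v hv) (hord b hb) (hordH b v hv)
        (hk1.of_dvd (dvd_mul_left _ _)) (hk0.of_dvd (dvd_mul_left _ _))
    have h3 : g * a * g⁻¹ = b := by
      rw [← h1, ← conj_pow', hg, h2]
    obtain ⟨x, hx, hxa⟩ := hD.fusion a ha g (by rw [h3]; exact hb)
    exact ⟨x, hx, by rw [hxa, h3]⟩
  · ext g
    rw [Subgroup.mem_set_normalizer_iff, Subgroup.mem_centralizer_singleton_iff]
    constructor
    · intro hg
      have hain : a ∈ (fun u : G => a * u) '' (H a : Set G) := ⟨1, (H a).one_mem, mul_one a⟩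
      obtain ⟨u, hu, hua⟩ := (hg a).mp hain
      -- hua : a * u = g * a * g⁻¹
      have hcop : Nat.Coprime (Nat.card ↥(L ⊓ Subgroup.centralizer ({a} : Set G))) (Nat.card ↥(H a)) :=
        (hD.coprime a ha a ha).symm
      obtain ⟨k, hk1, hk0⟩ := exists_modEq_one_zero hcop
      have h1 : (a * u) ^ k = a :=
        mul_pow_eq_left_of_modEq (hcomm a ha u hu) (hord a ha) (hordH a u hu) hk1 hk0
      have h2 : (g * a * g⁻¹) ^ k = g * a * g⁻¹ := by
        rw [conj_pow', pow_eq_pow_of_modEq hk1 (hord a ha), pow_one]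
      have h3 : g * a * g⁻¹ = a := by
        have e : (a * u) ^ k = (g * a * g⁻¹) ^ k := by
          have : a * u = g * a * g⁻¹ := hua
          rw [this]
        rw [← h2, ← e, h1]
      calc g * a = (g * a * g⁻¹) * g := by group
        _ = a * g := by rw [h3]
    · intro hg n
      have hgc : g ∈ Subgroup.centralizer ({a} : Set G) :=
        Subgroup.mem_centralizer_singleton_iff.mpr hg
      have hgc' : g⁻¹ ∈ Subgroup.centralizer ({a} : Set G) := Subgroup.inv_mem _ hgc
      have hg' : g⁻¹ * a = a * g⁻¹ := Subgroup.mem_centralizer_singleton_iff.mp hgc'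
      constructor
      · rintro ⟨u, hu, rfl⟩
        refine ⟨g * u * g⁻¹, hD.conj_mem_H a ha g hgc u hu, ?_⟩
        show a * (g * u * g⁻¹) = g * (a * u) * g⁻¹
        calc a * (g * u * g⁻¹) = (a * g) * u * g⁻¹ := by group
          _ = (g * a) * u * g⁻¹ := by rw [hg]
          _ = g * (a * u) * g⁻¹ := by group
      · rintro ⟨u, hu, hun⟩
        have hun' : a * u = g * n * g⁻¹ := hun
        refine ⟨g⁻¹ * u * g, ?_, ?_⟩
        · have := hD.conj_mem_H a ha g⁻¹ hgc' u hu
          simpa using this
        · show a * (g⁻¹ * u * g) = n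
          calc a * (g⁻¹ * u * g) = (a * g⁻¹) * u * g := by group
            _ = (g⁻¹ * a) * u * g := by rw [hg']
            _ = g⁻¹ * (a * u) * g := by group
            _ = g⁻¹ * (g * n * g⁻¹) * g := by rw [hun']
            _ = n := by group

end Cfsg.Agent.S1499
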