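import Cfsg.Statements.S1504
import Cfsg.Agent.Helper25.LinChar

set_option autoImplicit false
open Cfsg

namespace Cfsg.Agent.S1504

open Cfsg.Agent.Helper25 in
/-- Let W₁, W₂ be subgroups of a finite group with W₁ ⊓ W₂ = ⊥ whose elements commute, and W = W₁ ⊔ W₂. For linear characters φ, ψ of W with φ trivial on W₂ and ψ trivial on W₁, the function (1 − φ)(1 − ψ) vanishes on W₁ ∪ W₂; and the family of these functions, indexed by pairs (φ, ψ) with φ ≠ 1 ≠ ψ, is linearly independent over ℂ. -/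
theorem result {G : Type*} [Group G] [Finite G] (W₁ W₂ : Subgroup G) (hdisj : W₁ ⊓ W₂ = ⊥) (hcomm : ∀ a ∈ W₁, ∀ b ∈ W₂, a * b = b * a) : (∀ φ ψ : ↥(W₁ ⊔ W₂) →* ℂˣ, (∀ w : ↥(W₁ ⊔ W₂), (w : G) ∈ W₂ → φ w = 1) → (∀ w : ↥(W₁ ⊔ W₂), (w : G) ∈ W₁ → ψ w = 1) → ∀ w : ↥(W₁ ⊔ W₂), ((w : G) ∈ W₁ ∨ (w : G) ∈ W₂) → (1 - (φ w : ℂ) - (ψ w : ℂ) + (φ w : ℂ) * (ψ w : ℂ)) = 0) ∧ LinearIndependent ℂ (fun p : {p : (↥(W₁ ⊔ W₂) →* ℂˣ) × (↥(W₁ ⊔ W₂) →* ℂˣ) // p.1 ≠ 1 ∧ p.2 ≠ 1 ∧ (∀ w : ↥(W₁ ⊔ W₂), (w : G) ∈ W₂ → p.1 w = 1) ∧ (∀ w : ↥(W₁ ⊔ W₂), (w : G) ∈ W₁ → p.2 w = 1)} => fun w : ↥(W₁ ⊔ W₂) => 1 - (p.1.1 w : ℂ) - (p.1.2 w : ℂ) + (p.1.1 w : ℂ) * (p.1.2 w : ℂ)) := by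
  classical
  refine ⟨?_, ?_⟩
  · intro φ ψ hφ hψ w hw
    rcases hw with hw | hw
    · rw [hψ w hw]; simp
    · rw [hφ w hw]; simp
  · have : Fintype ↥(W₁ ⊔ W₂) := Fintype.ofFinite _
    rw [linearIndependent_iff']
    intro s g hsum i hi
    obtain ⟨⟨φ₀, ψ₀⟩, hφ₀, hψ₀, hφ₀2, hψ₀1⟩ := i
    -- the family in terms of cc
    have hfam : ∀ p : {p : (↥(W₁ ⊔ W₂) →* ℂˣ) × (↥(W₁ ⊔ W₂) →* ℂˣ) // p.1 ≠ 1 ∧ p.2 ≠ 1 ∧ (∀ w : ↥(W₁ ⊔ W₂), (w : G) ∈ W₂ → p.1 w = 1) ∧ (∀ w : ↥(W₁ ⊔ W₂), (w : G) ∈ W₁ → p.2 w = 1)},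
        (fun w : ↥(W₁ ⊔ W₂) => 1 - (p.1.1 w : ℂ) - (p.1.2 w : ℂ) + (p.1.1 w : ℂ) * (p.1.2 w : ℂ))
          = cc (1 : ↥(W₁ ⊔ W₂) →* ℂˣ) - cc p.1.1 - cc p.1.2 + cc (p.1.1 * p.1.2) := by
      intro p
      funext w
      simp [cc]
    have hinner : ∀ p : {p : (↥(W₁ ⊔ W₂) →* ℂˣ) × (↥(W₁ ⊔ W₂) →* ℂˣ) // p.1 ≠ 1 ∧ p.2 ≠ 1 ∧ (∀ w : ↥(W₁ ⊔ W₂), (w : G) ∈ W₂ → p.1 w = 1) ∧ (∀ w : ↥(W₁ ⊔ W₂), (w : G) ∈ W₁ → p.2 w = 1)},
        classInner (fun w : ↥(W₁ ⊔ W₂) => 1 - (p.1.1 w : ℂ) - (p.1.2 w : ℂ) + (p.1.1 w : ℂ) * (p.1.2 w : ℂ)) (cc (φ₀ * ψ₀))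
          = if p.1 = (φ₀, ψ₀) then 1 else 0 := by
      intro p
      obtain ⟨⟨φ, ψ⟩, hφ, hψ, hφ2, hψ1⟩ := p
      rw [hfam]
      simp only
      rw [Helper74.classInner_add_left, Helper74.classInner_sub_left, Helper74.classInner_sub_left,
        classInner_cc, classInner_cc, classInner_cc, classInner_cc]
      have h1 : (1 : ↥(W₁ ⊔ W₂) →* ℂˣ) ≠ φ₀ * ψ₀ := by
        intro h
        apply hφ₀
        apply eq_one_of_trivial_on W₁ W₂ _ _ hφ₀2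
        intro w hw
        have := DFunLike.congr_fun h w
        simp only [MonoidHom.one_apply, MonoidHom.mul_apply, hψ₀1 w hw, mul_one] at this
        exact this.symm
      have h2 : φ ≠ φ₀ * ψ₀ := by
        intro h
        apply hψ₀
        apply eq_one_of_trivial_on W₁ W₂ _ hψ₀1
        intro w hw
        have := DFunLike.congr_fun h w
        simp only [MonoidHom.mul_apply, hφ₀2 w hw, hφ2 w hw, one_mul] at this
        exact this.symm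
      have h3 : ψ ≠ φ₀ * ψ₀ := by
        intro h
        apply hφ₀
        apply eq_one_of_trivial_on W₁ W₂ _ _ hφ₀2
        intro w hw
        have := DFunLike.congr_fun h w
        simp only [MonoidHom.mul_apply, hψ₀1 w hw, hψ1 w hw, mul_one] at this
        exact this.symm
      have h4 : φ * ψ = φ₀ * ψ₀ ↔ (φ, ψ) = (φ₀, ψ₀) := by
        constructor
        · intro h
          have e1 : φ = φ₀ := by
            apply eq_of_eq_on W₁ W₂
            · intro w hw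
              have := DFunLike.congr_fun h w
              simpa only [MonoidHom.mul_apply, hψ₀1 w hw, hψ1 w hw, mul_one] using this
            · intro w hw
              rw [hφ2 w hw, hφ₀2 w hw]
          have e2 : ψ = ψ₀ := by
            apply eq_of_eq_on W₁ W₂
            · intro w hw
              rw [hψ1 w hw, hψ₀1 w hw]
            · intro w hw
              have := DFunLike.congr_fun h w
              simpa only [MonoidHom.mul_apply, hφ₀2 w hw, hφ2 w hw, one_mul] using this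
          rw [e1, e2]
        · intro h
          rw [Prod.mk.injEq] at h
          rw [h.1, h.2]
      rw [if_neg h1, if_neg h2, if_neg h3]
      by_cases h : φ * ψ = φ₀ * ψ₀
      · rw [if_pos h, if_pos (h4.mp h)]; ring
      · rw [if_neg h, if_neg (fun h' => h (h4.mpr h'))]; ring
    have key := congrArg (fun f => classInner f (cc (φ₀ * ψ₀))) hsum
    beta_reduce at key
    rw [Helper74.classInner_sum_left] at key
    simp only [Helper74.classInner_smul_left, hinner] at key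
    rw [show classInner (0 : ↥(W₁ ⊔ W₂) → ℂ) (cc (φ₀ * ψ₀)) = 0 by
      simp [Helper74.classInner_def]] at key
    rw [Finset.sum_eq_single_of_mem _ hi] at key
    · simpa using key
    · intro b _ hb
      rw [if_neg, mul_zero]
      intro h
      apply hb
      exact Subtype.ext h
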