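import Cfsg.Statements.S1505
import Cfsg.Agent.Helper25.CyclicTIInd

set_option autoImplicit false
open Cfsg

namespace Cfsg.Agent.S1505

open Cfsg.Agent.Helper25 in
open Classical in
/-- Let W₁, W₂ ≤ G form a self-normalising cyclic subgroup W = W₁ ⊔ W₂. For nontrivial linear characters φ, φ' of W trivial on W₂ and ψ, ψ' trivial on W₁, put α = (1 − φ)(1 − ψ) and α' = (1 − φ')(1 − ψ'). Then the function induced from α to G has inner product 1 with the principal character, and the inner product of the functions induced from α and α' is 1 + a + b + ab where a = 1 if φ = φ' (else 0) and b = 1 if ψ = ψ' (else 0). -/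
theorem result {G : Type*} [Group G] [Fintype G] (W₁ W₂ : Subgroup G) (hW : Cfsg.IsSelfNormalizingCyclic W₁ W₂) (φ φ' ψ ψ' : ↥(W₁ ⊔ W₂) →* ℂˣ) (hφ : φ ≠ 1) (hφ' : φ' ≠ 1) (hψ : ψ ≠ 1) (hψ' : ψ' ≠ 1) (hφ₂ : ∀ w : ↥(W₁ ⊔ W₂), (w : G) ∈ W₂ → φ w = 1 ∧ φ' w = 1) (hψ₁ : ∀ w : ↥(W₁ ⊔ W₂), (w : G) ∈ W₁ → ψ w = 1 ∧ ψ' w = 1) : Cfsg.classInner (Cfsg.indFun (W₁ ⊔ W₂) (fun w => 1 - (φ w : ℂ) - (ψ w : ℂ) + (φ w : ℂ) * (ψ w : ℂ))) (fun _ => 1) = 1 ∧ Cfsg.classInner (Cfsg.indFun (W₁ ⊔ W₂) (fun w => 1 - (φ w : ℂ) - (ψ w : ℂ) + (φ w : ℂ) * (ψ w : ℂ))) (Cfsg.indFun (W₁ ⊔ W₂) (fun w => 1 - (φ' w : ℂ) - (ψ' w : ℂ) + (φ' w : ℂ) * (ψ' w : ℂ))) = 1 + (if φ = φ' then 1 else 0) + (if ψ = ψ' then 1 else 0) + (if φ = φ' then 1 else 0) * (if ψ = ψ' then 1 else 0) := by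
  have : Fintype ↥(W₁ ⊔ W₂) := Fintype.ofFinite _
  have tφ : TrivOn W₂ φ := fun w hw => (hφ₂ w hw).1
  have tφ' : TrivOn W₂ φ' := fun w hw => (hφ₂ w hw).2
  have tψ : TrivOn W₁ ψ := fun w hw => (hψ₁ w hw).1
  have tψ' : TrivOn W₁ ψ' := fun w hw => (hψ₁ w hw).2
  change classInner (indFun (W₁ ⊔ W₂) (Afun φ ψ)) (fun _ => 1) = 1 ∧
    classInner (indFun (W₁ ⊔ W₂) (Afun φ ψ)) (indFun (W₁ ⊔ W₂) (Afun φ' ψ')) = _
  refine ⟨?_, ?_⟩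
  · rw [Helper15.frobenius_reciprocity _ _ _ (fun _ _ => rfl)]
    have h1 : (fun _ : ↥(W₁ ⊔ W₂) => (1 : ℂ)) = cc (1 : ↥(W₁ ⊔ W₂) →* ℂˣ) := (cc_one).symm
    rw [h1, classInner_Afun_cc, if_pos rfl, if_neg hφ, if_neg hψ,
      if_neg (fun h => hφ ((mul_eq_one_iff_of_trivOn tφ tψ).mp h).1)]
    ring
  · rw [classInner_indFun_of_TI hW _ _ (Afun_eq_zero φ ψ tφ tψ) (Afun_eq_zero φ' ψ' tφ' tψ')]
    convert classInner_Afun_Afun φ φ' ψ ψ' hφ hφ' hψ hψ' tφ tφ' tψ tψ'
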