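import Cfsg.Statements.S1507
import Cfsg.Agent.Helper25.CyclicTIVanish
import Cfsg.Agent.Helper25.RectCount

set_option autoImplicit false
open Cfsg

namespace Cfsg.Agent.S1507

open Cfsg.Agent.Helper25 in
open Classical in
/-- Let W₁, W₂ ≤ G form a self-normalising cyclic subgroup W = W₁ ⊔ W₂ of odd order with Nat.card W₁ < Nat.card W₂, and χ an orthonormal family of irreducible characters of G up to sign, indexed by the linear characters ω of W, with χ_1 = 1, χ_ω = ω on W outside W₁ ∪ W₂, and the induction identity for (1 − φ)(1 − ψ). Let θ be a class function of G vanishing on W outside W₁ ∪ W₂, and suppose fewer than 2 · Nat.card W₁ linear characters ω of W have ⟨θ, χ ω⟩ ≠ 0. Then one of: all ⟨θ, χ ω⟩ vanish; or there are ψ₀ and a with ⟨θ, χ ω⟩ = a when ω ψ₀⁻¹ is trivial on W₂ and 0 otherwise; or there are φ₀ and a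 with ⟨θ, χ ω⟩ = a when ω φ₀⁻¹ is trivial on W₁ and 0 otherwise. -/
theorem result {G : Type*} [Group G] [Fintype G] (W₁ W₂ : Subgroup G) (hW : Cfsg.IsSelfNormalizingCyclic W₁ W₂) (hodd : Odd (Nat.card ↥(W₁ ⊔ W₂))) (χ : (↥(W₁ ⊔ W₂) →* ℂˣ) → (G → ℂ)) (hχ : Cfsg.IsCyclicTIFamily W₁ W₂ χ) (hlt : Nat.card W₁ < Nat.card W₂) (θ : G → ℂ) (hθ : Cfsg.IsClassFunction G θ) (hθV : ∀ w : ↥(W₁ ⊔ W₂), (w : G) ∉ W₁ → (w : G) ∉ W₂ → θ w = 0) (hfew : Nat.card {ω : ↥(W₁ ⊔ W₂) →* ℂˣ // Cfsg.classInner θ (χ ω) ≠ 0} < 2 * Nat.card W₁) : (∀ ω, Cfsg.classInner θ (χ ω) = 0) ∨ (∃ (ψ₀ : ↥(W₁ ⊔ W₂) →* ℂˣ) (a : ℂ), ∀ ω, Cfsg.classInner θ (χ ω) = if (∀ w : ↥(W₁ ⊔ W₂), (w : G) ∈ W₂ → (ω * ψ₀⁻¹) w = 1) then a else 0) ∨ (∃ (φ₀ : ↥(W₁ ⊔ W₂) →* ℂˣ) (a : ℂ), ∀ ω, Cfsg.classInner θ (χ ω) = if (∀ w : ↥(W₁ ⊔ W₂), (w : G) ∈ W₁ → (ω * φ₀⁻¹) w = 1) then a else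 0) := by
  obtain ⟨hne1, hne2, hdisj, hcomm, hcyc, hN⟩ := id hW
  have hab : ∀ a b : ↥(W₁ ⊔ W₂), a * b = b * a := fun a b =>
    Subtype.ext (snc_commute hW a.2 b.2)
  have : Fintype {φ : ↥(W₁ ⊔ W₂) →* ℂˣ // TrivOn W₂ φ} := Fintype.ofFinite _
  have : Fintype {ψ : ↥(W₁ ⊔ W₂) →* ℂˣ // TrivOn W₁ ψ} := Fintype.ofFinite _
  set a : (↥(W₁ ⊔ W₂) →* ℂˣ) → ℂ := fun ω => classInner θ (χ ω) with ha
  have hrect : ∀ (φ : {φ : ↥(W₁ ⊔ W₂) →* ℂˣ // TrivOn W₂ φ})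
      (ψ : {ψ : ↥(W₁ ⊔ W₂) →* ℂˣ // TrivOn W₁ ψ}), a (φ.1 * ψ.1) = (a φ.1 - a 1) + a ψ.1 := by
    intro φ ψ
    have h := cti_rectangle hχ θ hθ hθV φ.1 1 ψ.1 1 (fun w hw => ⟨φ.2 w hw, rfl⟩)
      (fun w hw => ⟨ψ.2 w hw, rfl⟩)
    have e1 : φ.1 * (1 : ↥(W₁ ⊔ W₂) →* ℂˣ) = φ.1 := mul_one φ.1
    have e2 : (1 : ↥(W₁ ⊔ W₂) →* ℂˣ) * ψ.1 = ψ.1 := one_mul ψ.1
    have e3 : (1 : ↥(W₁ ⊔ W₂) →* ℂˣ) * 1 = 1 := one_mul (1 : ↥(W₁ ⊔ W₂) →* ℂˣ)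
    rw [e1, e2, e3] at h
    simp only [ha]
    linear_combination h
  have hcΦ : Fintype.card {φ : ↥(W₁ ⊔ W₂) →* ℂˣ // TrivOn W₂ φ} = Nat.card W₁ := by
    rw [← Nat.card_eq_fintype_card]; exact card_trivOn_right hab hdisj hcomm
  have hcΨ : Fintype.card {ψ : ↥(W₁ ⊔ W₂) →* ℂˣ // TrivOn W₁ ψ} = Nat.card W₂ := by
    rw [← Nat.card_eq_fintype_card]; exact card_trivOn_left hab hdisj hcomm
  have hJ : Fintype.card {φ : ↥(W₁ ⊔ W₂) →* ℂˣ // TrivOn W₂ φ} + 2 ≤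
      Fintype.card {ψ : ↥(W₁ ⊔ W₂) →* ℂˣ // TrivOn W₁ ψ} := by
    rw [hcΦ, hcΨ]
    rw [card_sup_eq_mul hdisj hcomm] at hodd
    obtain ⟨⟨k, hk⟩, ⟨l, hl⟩⟩ := Nat.odd_mul.mp hodd
    omega
  have hcount : (Finset.univ.filter (fun p : {φ : ↥(W₁ ⊔ W₂) →* ℂˣ // TrivOn W₂ φ} ×
      {ψ : ↥(W₁ ⊔ W₂) →* ℂˣ // TrivOn W₁ ψ} => (a p.1.1 - a 1) + a p.2.1 ≠ 0)).card <
      2 * Fintype.card {φ : ↥(W₁ ⊔ W₂) →* ℂˣ // TrivOn W₂ φ} := by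
    rw [hcΦ]
    refine lt_of_le_of_lt (le_of_eq ?_) hfew
    rw [← Fintype.card_subtype, ← Nat.card_eq_fintype_card]
    apply Nat.card_congr
    refine (rectEquiv hdisj hcomm).subtypeEquiv ?_
    intro p
    rw [rectEquiv_apply]
    change _ ↔ a (p.1.1 * p.2.1) ≠ 0
    rw [hrect]
  rcases rect_few_nonzero (fun φ : {φ : ↥(W₁ ⊔ W₂) →* ℂˣ // TrivOn W₂ φ} => a φ.1 - a 1)
    (fun ψ : {ψ : ↥(W₁ ⊔ W₂) →* ℂˣ // TrivOn W₁ ψ} => a ψ.1) hJ hcount with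
    h | ⟨ψ₀, a₀, h⟩ | ⟨φ₀, a₀, h⟩
  · left
    intro ω
    obtain ⟨p, rfl⟩ := (rectEquiv hdisj hcomm).surjective ω
    rw [rectEquiv_apply]
    change a (p.1.1 * p.2.1) = 0
    rw [hrect]
    exact h p.1 p.2
  · right; left
    refine ⟨ψ₀.1, a₀, fun ω => ?_⟩
    obtain ⟨⟨φ, ψ⟩, rfl⟩ := (rectEquiv hdisj hcomm).surjective ω
    rw [rectEquiv_apply]
    change a (φ.1 * ψ.1) = _
    rw [hrect, h φ ψ]
    have hiff : ψ = ψ₀ ↔ (∀ w : ↥(W₁ ⊔ W₂), (w : G) ∈ W₂ → (φ.1 * ψ.1 * ψ₀.1⁻¹) w = 1) := by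
      constructor
      · rintro rfl w hw
        rw [mul_inv_cancel_right]
        exact φ.2 w hw
      · intro h'
        have h1 : ψ.1 * ψ₀.1⁻¹ = 1 := by
          apply eq_one_of_trivOn (ψ.2.mul ψ₀.2.inv)
          intro w hw
          have := h' w hw
          rw [mul_assoc, MonoidHom.mul_apply, φ.2 w hw, one_mul] at this
          exact this
        exact Subtype.ext (mul_inv_eq_one.mp h1)
    by_cases hψ : ψ = ψ₀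
    · rw [if_pos hψ, if_pos (hiff.mp hψ)]
    · rw [if_neg hψ, if_neg (fun h' => hψ (hiff.mpr h'))]
  · right; right
    refine ⟨φ₀.1, a₀, fun ω => ?_⟩
    obtain ⟨⟨φ, ψ⟩, rfl⟩ := (rectEquiv hdisj hcomm).surjective ω
    rw [rectEquiv_apply]
    change a (φ.1 * ψ.1) = _
    rw [hrect, h φ ψ]
    have hiff : φ = φ₀ ↔ (∀ w : ↥(W₁ ⊔ W₂), (w : G) ∈ W₁ → (φ.1 * ψ.1 * φ₀.1⁻¹) w = 1) := by
      constructor
      · rintro rfl w hw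
        rw [mul_comm φ.1 ψ.1, mul_inv_cancel_right]
        exact ψ.2 w hw
      · intro h'
        have h1 : φ.1 * φ₀.1⁻¹ = 1 := by
          refine eq_one_of_trivOn ?_ (φ.2.mul φ₀.2.inv)
          intro w hw
          have := h' w hw
          rw [mul_comm φ.1 ψ.1, mul_assoc, MonoidHom.mul_apply, ψ.2 w hw, one_mul] at this
          exact this
        exact Subtype.ext (mul_inv_eq_one.mp h1)
    by_cases hφ : φ = φ₀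
    · rw [if_pos hφ, if_pos (hiff.mp hφ)]
    · rw [if_neg hφ, if_neg (fun h' => hφ (hiff.mpr h'))]

end Cfsg.Agent.S1507
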