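import Cfsg.Statements.S1509
import Cfsg.Agent.Helper25.SignedIrr

set_option autoImplicit false
open Cfsg

namespace Cfsg.Agent.S1509

open Cfsg.Agent.Helper25
open scoped ComplexConjugate

/-- Core case: under the hypotheses, `⟨α, γ⟩ = 0`. -/
theorem core {X : Type*} [Group X] [Fintype X] (α β γ δ : X → ℂ) (hα : SignedIrr X α)
    (hβ : SignedIrr X β) (hγ : SignedIrr X γ) (hδ : SignedIrr X δ)
    (u v : ℝ) (hu : u ≠ 0) (hv : v ≠ 0) (hab : Cfsg.classInner α β = 0) (hcd : Cfsg.classInner γ δ = 0)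
    (hmix : Cfsg.classInner (α - β) ((u : ℂ) • γ - (v : ℂ) • δ) = 0) (h1 : α 1 = β 1)
    (h2 : (u : ℂ) * γ 1 = (v : ℂ) * δ 1) : Cfsg.classInner α γ = 0 := by
  by_contra hA
  have huC : (u : ℂ) ≠ 0 := by exact_mod_cast hu
  have hvC : (v : ℂ) ≠ 0 := by exact_mod_cast hv
  rcases SignedIrr.inner_eq_zero_or hα hγ with h | ⟨t, ht, hγt, hAt⟩
  · exact hA h
  have ht0 : t ≠ 0 := by rcases ht with rfl | rfl <;> simp
  have htc : conj t = t := by rcases ht with rfl | rfl <;> simp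
  -- B = 0
  have hB : Cfsg.classInner α δ = 0 := by
    rw [hγt, Helper74.classInner_smul_left] at hcd
    exact (mul_eq_zero.mp hcd).resolve_left ht0
  -- C = 0
  have hC : Cfsg.classInner β γ = 0 := by
    rw [hγt, Helper74.classInner_smul_right, ← Helper74.classInner_conj_symm α β, hab]
    simp
  -- expand hmix
  have hexp : Cfsg.classInner (α - β) ((u : ℂ) • γ - (v : ℂ) • δ) =
      (u : ℂ) * (Cfsg.classInner α γ - Cfsg.classInner β γ) -
        (v : ℂ) * (Cfsg.classInner α δ - Cfsg.classInner β δ) := by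
    rw [Helper74.classInner_sub_right, Helper74.classInner_smul_right, Helper74.classInner_smul_right,
      Helper74.classInner_sub_left, Helper74.classInner_sub_left, Complex.conj_ofReal, Complex.conj_ofReal]
  rw [hexp, hB, hC, hAt] at hmix
  -- hmix : u * (t - 0) - v * (0 - D) = 0
  have hD : Cfsg.classInner β δ ≠ 0 := by
    intro hD0
    rw [hD0] at hmix
    have : (u : ℂ) * t = 0 := by simpa using hmix
    rcases mul_eq_zero.mp this with h | h
    · exact huC h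
    · exact ht0 h
  rcases SignedIrr.inner_eq_zero_or hβ hδ with h | ⟨s, hs, hδs, hDs⟩
  · exact hD h
  rw [hDs] at hmix
  have e1 : (u : ℂ) * t + (v : ℂ) * s = 0 := by
    have : (u : ℂ) * (t - 0) - (v : ℂ) * (0 - s) = (u : ℂ) * t + (v : ℂ) * s := by ring
    rw [← this]; exact hmix
  -- degrees
  have hα1 : α 1 ≠ 0 := hα.apply_one_ne_zero
  have hγ1 : γ 1 = t * α 1 := by rw [hγt]; simp
  have hδ1 : δ 1 = s * α 1 := by rw [hδs, h1]; simp
  rw [hγ1, hδ1] at h2
  have e2 : ((u : ℂ) * t - (v : ℂ) * s) * α 1 = 0 := by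
    have : ((u : ℂ) * t - (v : ℂ) * s) * α 1 = (u : ℂ) * (t * α 1) - (v : ℂ) * (s * α 1) := by ring
    rw [this, h2, sub_self]
  have e3 : (u : ℂ) * t - (v : ℂ) * s = 0 := (mul_eq_zero.mp e2).resolve_right hα1
  have e4 : (u : ℂ) * t = 0 := by
    have : (2 : ℂ) * ((u : ℂ) * t) = 0 := by
      have : (2 : ℂ) * ((u : ℂ) * t) = ((u : ℂ) * t + (v : ℂ) * s) + ((u : ℂ) * t - (v : ℂ) * s) := by ring
      rw [this, e1, e3, add_zero]
    exact (mul_eq_zero.mp this).resolve_left two_ne_zero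
  rcases mul_eq_zero.mp e4 with h | h
  · exact huC h
  · exact ht0 h

/-- Let α, β, γ, δ be functions on a finite group X each of which is an irreducible character or the negative of one, and u, v nonzero real numbers. Suppose ⟨α, β⟩ = ⟨γ, δ⟩ = 0, ⟨α − β, uγ − vδ⟩ = 0, α 1 = β 1 and u γ 1 = v δ 1. Then also ⟨α, γ⟩ = ⟨α, δ⟩ = ⟨β, γ⟩ = ⟨β, δ⟩ = 0. -/
theorem result {X : Type*} [Group X] [Fintype X] (α β γ δ : X → ℂ) (hα : Cfsg.IsIrrCharacter X α ∨ Cfsg.IsIrrCharacter X (-α)) (hβ : Cfsg.IsIrrCharacter X β ∨ Cfsg.IsIrrCharacter X (-β)) (hγ : Cfsg.IsIrrCharacter X γ ∨ Cfsg.IsIrrCharacter X (-γ)) (hδ : Cfsg.IsIrrCharacter X δ ∨ Cfsg.IsIrrCharacter X (-δ)) (u v : ℝ) (hu : u ≠ 0) (hv : v ≠ 0) (hab : Cfsg.classInner α β = 0) (hcd : Cfsg.classInner γ δ = 0) (hmix : Cfsg.classInner (α - β) ((u : ℂ) • γ - (v : ℂ) • δ) = 0) (h1 : α 1 = β 1) (h2 : (u : ℂ) * γ 1 = (v : ℂ) * δ 1) : Cfsg.classInner α γ = 0 ∧ Cfsg.classInner α δ = 0 ∧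 Cfsg.classInner β γ = 0 ∧ Cfsg.classInner β δ = 0 := by
  have hab' : Cfsg.classInner β α = 0 := by
    rw [← Helper74.classInner_conj_symm α β, hab]; simp
  have hcd' : Cfsg.classInner δ γ = 0 := by
    rw [← Helper74.classInner_conj_symm γ δ, hcd]; simp
  -- swapped versions of hmix
  have hmix_ba : Cfsg.classInner (β - α) ((u : ℂ) • γ - (v : ℂ) • δ) = 0 := by
    have : β - α = -(α - β) := by ring
    rw [this, Helper74.classInner_neg_left, hmix, neg_zero]
  have hmix_dc : Cfsg.classInner (α - β) ((v : ℂ) • δ - (u : ℂ) • γ) = 0 := by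
    have : (v : ℂ) • δ - (u : ℂ) • γ = -((u : ℂ) • γ - (v : ℂ) • δ) := by ring
    rw [this, Helper74.classInner_neg_right, hmix, neg_zero]
  have hmix_ba_dc : Cfsg.classInner (β - α) ((v : ℂ) • δ - (u : ℂ) • γ) = 0 := by
    have : β - α = -(α - β) := by ring
    rw [this, Helper74.classInner_neg_left, hmix_dc, neg_zero]
  exact ⟨core α β γ δ hα hβ hγ hδ u v hu hv hab hcd hmix h1 h2,
    core α β δ γ hα hβ hδ hγ v u hv hu hab hcd' hmix_dc h1 h2.symm,
    core β α γ δ hβ hα hγ hδ u v hu hv hab' hcd hmix_ba h1.symm h2,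
    core β α δ γ hβ hα hδ hγ v u hv hu hab' hcd' hmix_ba_dc h1.symm h2.symm⟩

end Cfsg.Agent.S1509
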