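import Cfsg.Statements.S1510
import Cfsg.Agent.Helper25.CoprimePow
import Mathlib.GroupTheory.Complement

set_option autoImplicit false
open Cfsg

namespace Cfsg.Agent.S1510

open Cfsg.Agent.Helper25

theorem zpowers_mul_eq_sup {G : Type*} [Group G] {a b : G} (hab : Commute a b)
    (hco : Nat.Coprime (orderOf a) (orderOf b)) :
    Subgroup.zpowers (a * b) = Subgroup.zpowers a ⊔ Subgroup.zpowers b := by
  apply le_antisymm
  · rw [Subgroup.zpowers_le]
    exact Subgroup.mul_mem _ (Subgroup.mem_sup_left (Subgroup.mem_zpowers a))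
      (Subgroup.mem_sup_right (Subgroup.mem_zpowers b))
  · rw [sup_le_iff, Subgroup.zpowers_le, Subgroup.zpowers_le]
    constructor
    · obtain ⟨m, hm1, hm0⟩ := exists_modEq_one_zero hco
      have : (a * b) ^ m = a :=
        mul_pow_eq_left_of_modEq hab (pow_orderOf_eq_one a) (pow_orderOf_eq_one b) hm1 hm0
      have h := Subgroup.pow_mem _ (Subgroup.mem_zpowers (a * b)) m
      rwa [this] at h
    · obtain ⟨m, hm1, hm0⟩ := exists_modEq_one_zero hco.symm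
      have : (b * a) ^ m = b :=
        mul_pow_eq_left_of_modEq hab.symm (pow_orderOf_eq_one b) (pow_orderOf_eq_one a) hm1 hm0
      have h := Subgroup.pow_mem _ (Subgroup.mem_zpowers (b * a)) m
      rw [this] at h
      rwa [hab.eq]

/-- Let L be a finite group with a normal subgroup K and a nontrivial cyclic subgroup W₁ of order coprime to its index, K ⊓ W₁ = ⊥ and K ⊔ W₁ = ⊤; let W₂ ≠ ⊥ be a cyclic subgroup of K with K ⊓ C_L(x) = W₂ for every non-identity x ∈ W₁, and suppose W₁ ⊔ W₂ has odd order. Then (W₁, W₂) is a self-normalising cyclic pair in L. -/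
theorem result {L : Type*} [Group L] [Fintype L] (K W₁ W₂ : Subgroup L) [hK : K.Normal] (hKW₁ : K ⊓ W₁ = ⊥) (hKW₁' : K ⊔ W₁ = ⊤) (hW₁ : W₁ ≠ ⊥) (hW₁c : IsCyclic W₁) (hHall : Nat.Coprime (Nat.card W₁) W₁.index) (hW₂ : W₂ ≠ ⊥) (hW₂c : IsCyclic W₂) (hW₂K : W₂ ≤ K) (hC : ∀ x ∈ W₁, x ≠ 1 → K ⊓ Subgroup.centralizer ({x} : Set L) = W₂) (hodd : Odd (Nat.card ↥(W₁ ⊔ W₂))) : Cfsg.IsSelfNormalizingCyclic W₁ W₂ := by
  -- complement and coprimality
  have hcompl : Subgroup.IsComplement' K W₁ := by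
    apply Subgroup.isComplement'_of_disjoint_and_mul_eq_univ (disjoint_iff.mpr hKW₁)
    rw [← Subgroup.normal_mul, hKW₁']
    rfl
  have hidx : W₁.index = Nat.card K := hcompl.index_eq_card
  have hcopK : Nat.Coprime (Nat.card W₁) (Nat.card K) := hidx ▸ hHall
  have hcop12 : Nat.Coprime (Nat.card W₁) (Nat.card W₂) :=
    Nat.Coprime.coprime_dvd_right (Subgroup.card_dvd_of_le hW₂K) hcopK
  have hdisj : W₁ ⊓ W₂ = ⊥ := by
    rw [eq_bot_iff, ← hKW₁]
    exact le_inf (inf_le_right.trans hW₂K) inf_le_left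
  have hcomm : ∀ a ∈ W₁, ∀ b ∈ W₂, a * b = b * a := by
    intro a ha b hb
    by_cases ha1 : a = 1
    · subst ha1; simp
    · have : b ∈ K ⊓ Subgroup.centralizer ({a} : Set L) := by rw [hC a ha ha1]; exact hb
      exact (Subgroup.mem_centralizer_singleton_iff.mp this.2).symm
  -- generators
  obtain ⟨w₁, hw₁⟩ := (Subgroup.isCyclic_iff_exists_zpowers_eq_top W₁).mp hW₁c
  obtain ⟨w₂, hw₂⟩ := (Subgroup.isCyclic_iff_exists_zpowers_eq_top W₂).mp hW₂c
  have hw₁mem : w₁ ∈ W₁ := hw₁ ▸ Subgroup.mem_zpowers w₁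
  have hw₂mem : w₂ ∈ W₂ := hw₂ ▸ Subgroup.mem_zpowers w₂
  have ho₁ : orderOf w₁ = Nat.card W₁ := by rw [← hw₁, Nat.card_zpowers]
  have ho₂ : orderOf w₂ = Nat.card W₂ := by rw [← hw₂, Nat.card_zpowers]
  have hWz : Subgroup.zpowers (w₁ * w₂) = W₁ ⊔ W₂ := by
    rw [zpowers_mul_eq_sup (hcomm w₁ hw₁mem w₂ hw₂mem) (by rw [ho₁, ho₂]; exact hcop12), hw₁, hw₂]
  have hWcyc : IsCyclic ↥(W₁ ⊔ W₂) :=
    (Subgroup.isCyclic_iff_exists_zpowers_eq_top _).mpr ⟨w₁ * w₂, hWz⟩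
  have hWcomm : ∀ u ∈ W₁ ⊔ W₂, ∀ v ∈ W₁ ⊔ W₂, u * v = v * u := by
    intro u hu v hv
    rw [← hWz] at hu hv
    obtain ⟨i, rfl⟩ := Subgroup.mem_zpowers_iff.mp hu
    obtain ⟨j, rfl⟩ := Subgroup.mem_zpowers_iff.mp hv
    exact (Commute.refl (w₁ * w₂)).zpow_zpow i j
  refine ⟨hW₁, hW₂, hdisj, hcomm, hWcyc, ?_⟩
  intro X hX hXne
  apply le_antisymm
  · -- normalizer ≤ W
    intro g hg
    obtain ⟨x₀, hx₀⟩ := hXne
    have hx₀W : x₀ ∈ ((W₁ ⊔ W₂ : Subgroup L) : Set L) := (hX hx₀).1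
    have hx₀n : x₀ ∉ (W₁ : Set L) ∪ (W₂ : Set L) := (hX hx₀).2
    have hW₁N : W₁ ≤ Subgroup.normalizer (W₂ : Set L) := by
      intro u hu
      rw [Subgroup.mem_normalizer_iff]
      intro v
      constructor
      · intro hv
        have : u * v * u⁻¹ = v := by rw [hcomm u hu v hv]; group
        rw [this]; exact hv
      · intro hv
        have h1 : u⁻¹ * (u * v * u⁻¹) * u⁻¹⁻¹ = u * v * u⁻¹ := by
          rw [hcomm u⁻¹ (W₁.inv_mem hu) _ hv]; group
        have h2 : u⁻¹ * (u * v * u⁻¹) * u⁻¹⁻¹ = v := by group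
        rw [← h2, h1]; exact hv
    rw [Subgroup.coe_mul_of_left_le_normalizer_right W₁ W₂ hW₁N] at hx₀W
    obtain ⟨a, ha, b, hb, hab⟩ := hx₀W
    have hab' : a * b = x₀ := hab
    have ha1 : a ≠ 1 := by
      rintro rfl
      apply hx₀n
      right
      rw [← hab']; simpa using hb
    -- decompose g
    have hgtop : g ∈ ((K ⊔ W₁ : Subgroup L) : Set L) := by rw [hKW₁']; trivial
    rw [Subgroup.normal_mul] at hgtop
    obtain ⟨k, hk, u, hu, hku⟩ := hgtop
    have hku' : k * u = g := hku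
    -- g x₀ g⁻¹ ∈ X ⊆ W
    have hgx : g * x₀ * g⁻¹ ∈ X := (Subgroup.mem_set_normalizer_iff.mp hg x₀).mp hx₀
    have hux : u * x₀ * u⁻¹ = x₀ := by
      have : u * x₀ = x₀ * u :=
        hWcomm u (Subgroup.mem_sup_left hu) x₀ (hX hx₀).1
      rw [this]; group
    have hkx : k * x₀ * k⁻¹ = g * x₀ * g⁻¹ := by
      rw [← hku']
      calc k * x₀ * k⁻¹ = k * (u * x₀ * u⁻¹) * k⁻¹ := by rw [hux]
        _ = k * u * x₀ * (k * u)⁻¹ := by group
    have hkxW : k * x₀ * k⁻¹ ∈ ((W₁ ⊔ W₂ : Subgroup L) : Set L) := by rw [hkx]; exact (hX hgx).1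
    rw [Subgroup.coe_mul_of_left_le_normalizer_right W₁ W₂ hW₁N] at hkxW
    obtain ⟨a', ha', b', hb', hab''⟩ := hkxW
    have hab''' : a' * b' = k * (a * b) * k⁻¹ := by rw [hab']; exact hab''
    -- a' = a
    have haa : a'⁻¹ * a ∈ K ⊓ W₁ := by
      refine ⟨?_, W₁.mul_mem (W₁.inv_mem ha') ha⟩
      have e : a'⁻¹ * a = (b' * (k * b⁻¹ * k⁻¹)) * (k * a⁻¹ * k⁻¹ * a) := by
        have : b' = a'⁻¹ * (k * (a * b) * k⁻¹) := by rw [← hab''']; group
        rw [this]; group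
      rw [e]
      apply K.mul_mem
      · exact K.mul_mem (hW₂K hb') (hK.conj_mem _ (K.inv_mem (hW₂K hb)) k)
      · have : k * a⁻¹ * k⁻¹ * a = k * (a⁻¹ * k⁻¹ * a⁻¹⁻¹) := by group
        rw [this]
        exact K.mul_mem hk (hK.conj_mem _ (K.inv_mem hk) a⁻¹)
    rw [hKW₁, Subgroup.mem_bot] at haa
    have haa' : a' = a := by
      have := inv_mul_eq_one.mp haa
      exact this
    subst haa'
    -- power argument
    have hco : Nat.Coprime (orderOf a') (Nat.card K) :=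
      Nat.Coprime.coprime_dvd_left (Subgroup.orderOf_dvd_natCard W₁ ha') hcopK
    obtain ⟨m, hm1, hm0⟩ := exists_modEq_one_zero hco
    have hbK : ∀ v ∈ W₂, v ^ Nat.card K = 1 := by
      intro v hv
      exact orderOf_dvd_iff_pow_eq_one.mp (Subgroup.orderOf_dvd_natCard K (hW₂K hv))
    have hp1 : (a' * b) ^ m = a' :=
      mul_pow_eq_left_of_modEq (hcomm a' ha' b hb) (pow_orderOf_eq_one a') (hbK b hb) hm1 hm0
    have hp2 : (a' * b') ^ m = a' :=
      mul_pow_eq_left_of_modEq (hcomm a' ha' b' hb') (pow_orderOf_eq_one a') (hbK b' hb') hm1 hm0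
    have hka : k * a' * k⁻¹ = a' := by
      have e : k * a' * k⁻¹ = k * (a' * b) ^ m * k⁻¹ := by rw [hp1]
      rw [e, ← conj_pow', ← hab''', hp2]
    have hkW₂ : k ∈ W₂ := by
      rw [← hC a' ha' ha1]
      refine Subgroup.mem_inf.mpr ⟨hk, ?_⟩
      rw [Subgroup.mem_centralizer_singleton_iff]
      calc k * a' = (k * a' * k⁻¹) * k := by group
        _ = a' * k := by rw [hka]
    rw [← hku']
    exact Subgroup.mul_mem _ (Subgroup.mem_sup_right hkW₂) (Subgroup.mem_sup_left hu)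
  · -- W ≤ normalizer
    intro w hw
    rw [Subgroup.mem_set_normalizer_iff]
    intro n
    constructor
    · intro hn
      have : w * n * w⁻¹ = n := by rw [hWcomm w hw n (hX hn).1]; group
      rw [this]; exact hn
    · intro hn
      have hnW : n ∈ W₁ ⊔ W₂ := by
        have h1 : w * n * w⁻¹ ∈ W₁ ⊔ W₂ := (hX hn).1
        have h2 : n = w⁻¹ * (w * n * w⁻¹) * w := by group
        rw [h2]
        exact Subgroup.mul_mem _ (Subgroup.mul_mem _ (Subgroup.inv_mem _ hw) h1) hw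
      have : w * n * w⁻¹ = n := by rw [hWcomm w hw n hnW]; group
      rw [this] at hn; exact hn

end Cfsg.Agent.S1510
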