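-- Statement S1511: Peterfalvi (4.3): the characters μ_ij of L = K ⋊ W₁.
import Cfsg.Statements.S1511
import Cfsg.Agent.Helper25.TypePCoh

set_option autoImplicit false
open Cfsg

namespace Cfsg.Agent.S1511

open Cfsg.Agent.Helper25
open scoped ComplexConjugate

/-- Let L be a finite group with K normal with complement W₁ ≠ 1 a cyclic Hall subgroup, and W₂ ≠ 1 a cyclic subgroup of K equal to C_K(x) for every non-identity x ∈ W₁, with W₁W₂ of odd order. Then there are a map μ from the linear characters of W = W₁ ⊔ W₂ to irreducible characters of L, injective, and a sign δ(ω) ∈ {1, −1} depending only on the values of ω on W₂, such that: for ω, ω' agreeing on W₂, the function induced to L from ω − ω' equals δ(ω) • (μ ω − μ ω'); μ ω x = δ(ω) ω x for x ∈ W outside W₂; every irreducible character of L not of the form μ ω vanishes on W outside W₂; and μ ω 1 − δ(ω) is an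 integer multiple of Nat.card W₁. -/
theorem result {L : Type*} [Group L] [Fintype L] (K W₁ W₂ : Subgroup L) [hK : K.Normal] (hKW₁ : K ⊓ W₁ = ⊥) (hKW₁' : K ⊔ W₁ = ⊤) (hW₁ : W₁ ≠ ⊥) (hW₁c : IsCyclic W₁) (hHall : Nat.Coprime (Nat.card W₁) W₁.index) (hW₂ : W₂ ≠ ⊥) (hW₂c : IsCyclic W₂) (hW₂K : W₂ ≤ K) (hC : ∀ x ∈ W₁, x ≠ 1 → K ⊓ Subgroup.centralizer ({x} : Set L) = W₂) (hodd : Odd (Nat.card ↥(W₁ ⊔ W₂))) : ∃ (μ : (↥(W₁ ⊔ W₂) →* ℂˣ) → (L → ℂ)) (δ : (↥(W₁ ⊔ W₂) →* ℂˣ) → ℂ), Function.Injective μ ∧ (∀ ω, Cfsg.IsIrrCharacter L (μ ω)) ∧ (∀ ω, δ ω = 1 ∨ δ ω = -1) ∧ (∀ ω ω' : ↥(W₁ ⊔ W₂) →* ℂˣ, (∀ w : ↥(W₁ ⊔ W₂), (w : L) ∈ W₂ → ω w = ω' w) → δ ω = δ ω' ∧ Cfsg.indFun (W₁ ⊔ W₂) (fun w => (ω w : ℂ) - (ω' w : ℂ)) = δ ω • (μ ω - μ ω')) ∧ (∀ ω, ∀ w : ↥(W₁ ⊔ W₂), (w : L) ∉ W₂ → μ ω w = δ ω * (ω w : ℂ)) ∧ (∀ θ : L → ℂ, Cfsg.IsIrrCharacter L θ → (∀ ω, θ ≠ μ ω) → ∀ w : ↥(W₁ ⊔ W₂), (w : L)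 ∉ W₂ → θ w = 0) ∧ (∀ ω, ∃ n : ℤ, μ ω 1 - δ ω = n * (Nat.card W₁ : ℂ)) := by
  classical
  have hcomm := tp_comm K W₁ W₂ hW₂K hC
  have hdisj := tp_disj K W₁ W₂ hKW₁ hW₂K
  have hab := tp_abelian W₁ W₂ hdisj hcomm hW₁c hW₂c
  have : Fintype ↥(W₁ ⊔ W₂) := Fintype.ofFinite _
  choose δ₀ μ₀ hδ₀ hirr₀ hinj₀ hform₀ using
    tp_class_family K W₁ W₂ hKW₁ hKW₁' hW₁ hW₁c hHall hW₂c hW₂K hC
  obtain ⟨rep, hrep⟩ : ∃ rep : (↥(W₁ ⊔ W₂) →* ℂˣ) → (↥(W₁ ⊔ W₂) →* ℂˣ),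
      ∀ ω, rep ω = ω.comp (proj₂ hdisj hcomm) := ⟨_, fun _ => rfl⟩
  obtain ⟨lft, hlft⟩ : ∃ lft : (↥(W₁ ⊔ W₂) →* ℂˣ) → (↥(W₁ ⊔ W₂) →* ℂˣ),
      ∀ ω, lft ω = ω.comp (proj₁ hdisj hcomm) := ⟨_, fun _ => rfl⟩
  have hlft_triv : ∀ ω, TrivOn W₂ (lft ω) := fun ω => by
    rw [hlft]; exact trivOn_comp_proj₁ hdisj hcomm ω
  have hdecomp : ∀ ω, lft ω * rep ω = ω := fun ω => by
    rw [hlft, hrep]; exact comp_proj_mul hdisj hcomm ω
  have hrep_eq : ∀ ω ω' : ↥(W₁ ⊔ W₂) →* ℂˣ,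
      (∀ w : ↥(W₁ ⊔ W₂), (w : L) ∈ W₂ → ω w = ω' w) → rep ω = rep ω' := by
    intro ω ω' h
    rw [hrep, hrep]
    refine MonoidHom.ext fun w => ?_
    rw [MonoidHom.comp_apply, MonoidHom.comp_apply]
    exact h _ (proj₂_mem hdisj hcomm w)
  obtain ⟨μ, hμ⟩ : ∃ μ : (↥(W₁ ⊔ W₂) →* ℂˣ) → (L → ℂ), ∀ ω, μ ω = μ₀ (rep ω) (cc ω) :=
    ⟨_, fun _ => rfl⟩
  obtain ⟨δ, hδ⟩ : ∃ δ : (↥(W₁ ⊔ W₂) →* ℂˣ) → ℂ, ∀ ω, δ ω = δ₀ (rep ω) := ⟨_, fun _ => rfl⟩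
  have hirr : ∀ ω, IsIrrCharacter L (μ ω) := fun ω => by
    have h := hirr₀ (rep ω) (lft ω) (hlft_triv ω)
    rw [hdecomp] at h
    rw [hμ]; exact h
  have hδpm : ∀ ω, δ ω = 1 ∨ δ ω = -1 := fun ω => by rw [hδ]; exact hδ₀ (rep ω)
  have hδconj : ∀ ω, conj (δ ω) = δ ω := fun ω => by
    rcases hδpm ω with h | h <;> rw [h] <;> simp
  have hδne : ∀ ω, δ ω ≠ 0 := fun ω => by
    rcases hδpm ω with h | h <;> rw [h] <;> simp
  have hδeq : ∀ ω ω' : ↥(W₁ ⊔ W₂) →* ℂˣ,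
      (∀ w : ↥(W₁ ⊔ W₂), (w : L) ∈ W₂ → ω w = ω' w) → δ ω = δ ω' := fun ω ω' h => by
    rw [hδ, hδ, hrep_eq ω ω' h]
  have hform : ∀ ω ω' : ↥(W₁ ⊔ W₂) →* ℂˣ,
      (∀ w : ↥(W₁ ⊔ W₂), (w : L) ∈ W₂ → ω w = ω' w) →
      indFun (W₁ ⊔ W₂) (cc ω - cc ω') = δ ω • (μ ω - μ ω') := by
    intro ω ω' h
    have hr := hrep_eq ω ω' h
    have h1 := hform₀ (rep ω) (lft ω) (lft ω') (hlft_triv ω) (hlft_triv ω')
    have e : lft ω' * rep ω = ω' := by rw [hr]; exact hdecomp ω'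
    rw [hdecomp ω, e] at h1
    rw [hδ, hμ, hμ, ← hr]
    exact h1
  have hinj_class : ∀ ω ω', rep ω = rep ω' → μ ω = μ ω' → ω = ω' := by
    intro ω ω' hr h
    rw [hμ, hμ, ← hr] at h
    have e1 : cc ω = cc (lft ω * rep ω) := by rw [hdecomp]
    have e2 : cc ω' = cc (lft ω' * rep ω) := by rw [hr, hdecomp]
    rw [e1, e2] at h
    have h3 := hinj₀ (rep ω) (lft ω) (lft ω') (hlft_triv ω) (hlft_triv ω') h
    calc ω = lft ω * rep ω := (hdecomp ω).symm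
      _ = lft ω' * rep ω' := by rw [h3, hr]
      _ = ω' := hdecomp ω'
  have hinner : ∀ ω ω', classInner (μ ω) (μ ω') = if μ ω = μ ω' then 1 else 0 := by
    intro ω ω'
    split_ifs with h
    · rw [h]; exact S1531.irr_norm (hirr ω')
    · exact S1531.irr_orth (hirr ω) (hirr ω') h
  -- a nontrivial character trivial on W₂
  obtain ⟨φ₀, hφ₀, hφ₀1⟩ : ∃ φ₀ : ↥(W₁ ⊔ W₂) →* ℂˣ, TrivOn W₂ φ₀ ∧ φ₀ ≠ 1 := by
    obtain ⟨a, ha⟩ := (Subgroup.ne_bot_iff_exists_ne_one).mp hW₁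
    have hw : ((⟨(a : L), Subgroup.mem_sup_left a.2⟩ : ↥(W₁ ⊔ W₂)) : L) ∉ W₂ := by
      intro h
      have : (a : L) ∈ W₁ ⊓ W₂ := ⟨a.2, h⟩
      rw [hdisj, Subgroup.mem_bot] at this
      exact ha (Subtype.ext this)
    obtain ⟨φ₀, h1, h2⟩ := exists_trivOn_apply_ne_one hab W₂ _ hw
    refine ⟨φ₀, h1, ?_⟩
    intro h
    apply h2
    rw [h, MonoidHom.one_apply]
  have hshift : ∀ ω : ↥(W₁ ⊔ W₂) →* ℂˣ,
      ∀ w : ↥(W₁ ⊔ W₂), (w : L) ∈ W₂ → ω w = (φ₀ * ω) w := by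
    intro ω w hw
    rw [MonoidHom.mul_apply, hφ₀ w hw, one_mul]
  have hshift_ne : ∀ ω : ↥(W₁ ⊔ W₂) →* ℂˣ, μ ω ≠ μ (φ₀ * ω) := by
    intro ω h
    have h1 := hinj_class ω (φ₀ * ω) (hrep_eq _ _ (hshift ω)) h
    apply hφ₀1
    have : (1 : ↥(W₁ ⊔ W₂) →* ℂˣ) * ω = φ₀ * ω := (one_mul ω).trans h1
    exact (mul_right_cancel this).symm
  have hvanW₂ : ∀ ω ω' : ↥(W₁ ⊔ W₂) →* ℂˣ,
      (∀ w : ↥(W₁ ⊔ W₂), (w : L) ∈ W₂ → ω w = ω' w) →
      ∀ w : ↥(W₁ ⊔ W₂), (w : L) ∈ W₂ → (cc ω - cc ω') w = 0 := by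
    intro ω ω' h w hw
    rw [Pi.sub_apply, cc_apply, cc_apply, h w hw, sub_self]
  have hne_class : ∀ ω ω', rep ω ≠ rep ω' → μ ω ≠ μ ω' := by
    intro ω ω' hr h
    have hiso := tp_classInner_indFun K W₁ W₂ hKW₁ hKW₁' hW₁c hHall hW₂c hW₂K hC
      (cc ω - cc (φ₀ * ω)) (cc ω' - cc (φ₀ * ω')) (hvanW₂ _ _ (hshift ω))
    rw [hform _ _ (hshift ω), hform _ _ (hshift ω')] at hiso
    have hr1 : rep (φ₀ * ω) = rep ω := (hrep_eq _ _ (hshift ω)).symm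
    have hr1' : rep (φ₀ * ω') = rep ω' := (hrep_eq _ _ (hshift ω')).symm
    have n1 : ω ≠ ω' := fun h' => hr (by rw [h'])
    have n2 : ω ≠ φ₀ * ω' := fun h' => hr (by rw [← hr1', ← h'])
    have n3 : φ₀ * ω ≠ ω' := fun h' => hr (by rw [← hr1, h'])
    have n4 : φ₀ * ω ≠ φ₀ * ω' := fun h' => n1 (mul_left_cancel h')
    rw [Helper74.classInner_sub_left (cc ω), Helper74.classInner_sub_right,
      Helper74.classInner_sub_right, classInner_cc, classInner_cc, classInner_cc, classInner_cc,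
      if_neg n1, if_neg n2, if_neg n3, if_neg n4] at hiso
    rw [Helper74.classInner_smul_left, Helper74.classInner_smul_right,
      Helper74.classInner_sub_left, Helper74.classInner_sub_right, Helper74.classInner_sub_right,
      hinner, hinner, hinner, hinner, if_pos h] at hiso
    have m2 : μ ω ≠ μ (φ₀ * ω') := by rw [h]; exact hshift_ne ω'
    have m3 : μ (φ₀ * ω) ≠ μ ω' := by rw [← h]; exact (hshift_ne ω).symm
    rw [if_neg m2, if_neg m3] at hiso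
    have hne' : δ ω * (conj (δ ω')) ≠ 0 := mul_ne_zero (hδne ω) (by rw [hδconj]; exact hδne ω')
    by_cases m4 : μ (φ₀ * ω) = μ (φ₀ * ω')
    · rw [if_pos m4] at hiso
      have : δ ω * (conj (δ ω')) * 2 = 0 := by linear_combination hiso
      rcases mul_eq_zero.mp this with h' | h'
      · exact hne' h'
      · norm_num at h'
    · rw [if_neg m4] at hiso
      have : δ ω * (conj (δ ω')) = 0 := by linear_combination hiso
      exact hne' this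
  have hμinj : Function.Injective μ := by
    intro ω ω' h
    by_cases hr : rep ω = rep ω'
    · exact hinj_class ω ω' hr h
    · exact absurd h (hne_class ω ω' hr)
  have hon : ∀ ω ω', classInner (μ ω) (μ ω') = if ω = ω' then 1 else 0 := by
    intro ω ω'
    rw [hinner]
    by_cases h : ω = ω'
    · rw [if_pos h, if_pos (by rw [h])]
    · rw [if_neg h, if_neg (fun h' => h (hμinj h'))]
  have hrec : ∀ θ : L → ℂ, IsClassFunction L θ → ∀ ω ω' : ↥(W₁ ⊔ W₂) →* ℂˣ,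
      (∀ w : ↥(W₁ ⊔ W₂), (w : L) ∈ W₂ → ω w = ω' w) →
      classInner (fun w : ↥(W₁ ⊔ W₂) => θ w) (cc ω - cc ω') =
        δ ω * (classInner θ (μ ω) - classInner θ (μ ω')) := by
    intro θ hθ ω ω' h
    rw [← Helper15.frobenius_reciprocity' (W₁ ⊔ W₂) (cc ω - cc ω') θ hθ, hform ω ω' h,
      Helper74.classInner_smul_right, Helper74.classInner_sub_right, hδconj]
  have hval : ∀ κ, ∀ w : ↥(W₁ ⊔ W₂), (w : L) ∉ W₂ → μ κ w = δ κ * ((κ w : ℂˣ) : ℂ) := by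
    intro κ w hw
    have hg := tp_vanish hdisj hab
      ((fun w : ↥(W₁ ⊔ W₂) => μ κ w) - δ κ • cc κ) ?_ w hw
    · rw [Pi.sub_apply, Pi.smul_apply, smul_eq_mul, cc_apply] at hg
      exact sub_eq_zero.mp hg
    · intro ω ω' h
      have hκc : IsClassFunction L (μ κ) :=
        Helper74.isClassFunction_of_isCharacter (Helper74.isCharacter_of_isIrr (hirr κ))
      rw [Helper74.classInner_sub_left, Helper74.classInner_smul_left, hrec (μ κ) hκc ω ω' h,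
        hon, hon, Helper74.classInner_sub_right, classInner_cc, classInner_cc]
      by_cases h1 : κ = ω
      · subst h1
        ring
      · by_cases h2 : κ = ω'
        · subst h2
          rw [hδeq ω κ h]
          ring
        · rw [if_neg h1, if_neg h2]; ring
  refine ⟨μ, δ, hμinj, hirr, hδpm, ?_, hval, ?_, ?_⟩
  · intro ω ω' h
    exact ⟨hδeq ω ω' h, hform ω ω' h⟩
  · intro θ hθ hne w hw
    have hθc : IsClassFunction L θ :=
      Helper74.isClassFunction_of_isCharacter (Helper74.isCharacter_of_isIrr hθ)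
    refine tp_vanish hdisj hab (fun w : ↥(W₁ ⊔ W₂) => θ w) ?_ w hw
    intro ω ω' h
    rw [hrec θ hθc ω ω' h, S1531.irr_orth hθ (hirr ω) (hne ω),
      S1531.irr_orth hθ (hirr ω') (hne ω')]
    ring
  · intro ω
    have : Fintype ↥W₁ := Fintype.ofFinite _
    have hr : IsCharacter ↥W₁ (fun a : ↥W₁ => μ ω (a : L)) :=
      Helper74.isCharacter_restrict W₁ (Helper74.isCharacter_of_isIrr (hirr ω))
    obtain ⟨lam, hlam⟩ : ∃ lam : ↥W₁ →* ℂˣ,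
        lam = ω.comp (Subgroup.inclusion (le_sup_left : W₁ ≤ W₁ ⊔ W₂)) := ⟨_, rfl⟩
    have htriv : IsCharacter ↥W₁ (cc (1 : ↥W₁ →* ℂˣ)) :=
      Helper74.isCharacter_of_isIrr (isIrrCharacter_cc 1)
    obtain ⟨m, hm⟩ := Helper15.isCharacter_inner_nat hr htriv
    have h2 : classInner (cc lam) (cc (1 : ↥W₁ →* ℂˣ)) = if lam = 1 then 1 else 0 :=
      classInner_cc lam 1
    have hdiff : ∀ a : ↥W₁, a ≠ 1 → μ ω (a : L) = δ ω * cc lam a := by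
      intro a ha
      have hnot : ((Subgroup.inclusion (le_sup_left : W₁ ≤ W₁ ⊔ W₂) a : ↥(W₁ ⊔ W₂)) : L) ∉ W₂ := by
        intro h
        have : (a : L) ∈ W₁ ⊓ W₂ := ⟨a.2, h⟩
        rw [hdisj, Subgroup.mem_bot] at this
        exact ha (Subtype.ext this)
      have := hval ω _ hnot
      rw [hlam, cc_apply, MonoidHom.comp_apply]
      exact this
    have hsum : classInner (fun a : ↥W₁ => μ ω (a : L)) (cc (1 : ↥W₁ →* ℂˣ))
        - δ ω * classInner (cc lam) (cc (1 : ↥W₁ →* ℂˣ))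
        = (Nat.card W₁ : ℂ)⁻¹ * (μ ω 1 - δ ω) := by
      rw [← Helper74.classInner_smul_left, ← Helper74.classInner_sub_left,
        Helper74.classInner_def]
      congr 1
      rw [Finset.sum_eq_single (1 : ↥W₁)]
      · simp [cc]
      · intro a _ ha
        rw [Pi.sub_apply, Pi.smul_apply, smul_eq_mul, hdiff a ha, sub_self, zero_mul]
      · intro h; exact absurd (Finset.mem_univ _) h
    rw [hm, h2] at hsum
    have hne : (Nat.card W₁ : ℂ) ≠ 0 := by exact_mod_cast Nat.card_pos.ne'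
    have hmain : μ ω 1 - δ ω =
        ((m : ℂ) - δ ω * (if lam = 1 then 1 else 0)) * (Nat.card W₁ : ℂ) := by
      rw [hsum]
      field_simp
    rcases hδpm ω with hd | hd <;> by_cases hl : lam = 1
    · refine ⟨(m : ℤ) - 1, ?_⟩
      rw [hmain, hd, if_pos hl]; push_cast; ring
    · refine ⟨(m : ℤ), ?_⟩
      rw [hmain, hd, if_neg hl]; push_cast; ring
    · refine ⟨(m : ℤ) + 1, ?_⟩
      rw [hmain, hd, if_pos hl]; push_cast; ring
    · refine ⟨(m : ℤ), ?_⟩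
      rw [hmain, hd, if_neg hl]; push_cast; ring

end Cfsg.Agent.S1511
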