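import Mathlib
import Cfsg.Statements.S1525
import Cfsg.Agent.Helper25.DadeIso
import Cfsg.Agent.Helper25.InnerBasics
import Cfsg.Agent.Helper74.CharBasic

set_option autoImplicit false
open Cfsg

namespace Cfsg.Agent.S1525

open Cfsg.Agent.Helper25
open scoped ComplexConjugate

/-- The averaged function is invariant under `L`-conjugation on `A`. -/
theorem psi_conj {G : Type*} [Group G] [Fintype G] (A : Set G) (L : Subgroup G)
    (H : G → Subgroup G) (hD : Cfsg.DadeHypothesis A L H) (χ : G → ℂ)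
    (hχ : Cfsg.IsClassFunction G χ) (a l : G) (ha : a ∈ A) (hl : l ∈ L) :
    (Nat.card (H (l * a * l⁻¹)) : ℂ)⁻¹ * ∑ᶠ u ∈ (H (l * a * l⁻¹) : Set G), χ (l * a * l⁻¹ * u) =
      (Nat.card (H a) : ℂ)⁻¹ * ∑ᶠ u ∈ (H a : Set G), χ (a * u) := by
  classical
  have hb : l * a * l⁻¹ ∈ A := hD.conj_mem l hl a ha
  rw [dade_card_H hD ha hb, finsum_mem_subgroup_eq_sum, finsum_mem_subgroup_eq_sum]
  congr 1
  symm
  refine Fintype.sum_equiv (MulAut.conj l).toEquiv _ _ (fun u => ?_)
  have hcu : (MulAut.conj l).toEquiv u = l * u * l⁻¹ := rfl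
  rw [hcu]
  have hiff : l * u * l⁻¹ ∈ H (l * a * l⁻¹) ↔ u ∈ H a := by
    constructor
    · intro h
      have e : l⁻¹ * (l * a * l⁻¹) * l⁻¹⁻¹ = a := by group
      have := dade_conj_mem_H hD (a := l * a * l⁻¹) (g := l⁻¹) hb (by rw [e]; exact ha) h
      rw [e] at this
      have e2 : l⁻¹ * (l * u * l⁻¹) * l⁻¹⁻¹ = u := by group
      rwa [e2] at this
    · intro h
      exact dade_conj_mem_H hD ha hb h
  by_cases hu : u ∈ H a
  · rw [if_pos hu, if_pos (hiff.mpr hu)]
    have e : l * a * l⁻¹ * (l * u * l⁻¹) = l * (a * u) * l⁻¹ := by group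
    rw [e, hχ]
  · rw [if_neg hu, if_neg (fun h => hu (hiff.mp h))]

/-- Under the Dade hypothesis for (A, L, H), let χ be a class function of G and let ψ be a function on L whose value at each a ∈ A is the average of χ over the coset a·H(a). Then (1/|G|) Σ |χ g|² over the elements g of G conjugate into some coset a·H(a) with a ∈ A is at least (1/|L|) Σ_{a ∈ A ∩ L} |ψ a|². -/
theorem result {G : Type*} [Group G] [Fintype G] (A : Set G) (L : Subgroup G) [Fintype L] (H : G → Subgroup G) (hD : Cfsg.DadeHypothesis A L H) (χ : G → ℂ) (hχ : Cfsg.IsClassFunction G χ) (ψ : L → ℂ) (hψ : ∀ a : L, (a : G) ∈ A → ψ a = (Nat.card (H a) : ℂ)⁻¹ * ∑ᶠ u ∈ (H a : Set G), χ (a * u)) : (Nat.card L : ℝ)⁻¹ * ∑ᶠ a ∈ {a : L | (a : G) ∈ A}, ‖ψ a‖ ^ 2 ≤ (Nat.card G : ℝ)⁻¹ * ∑ᶠ g ∈ {g : G | ∃ a ∈ A, ∃ u ∈ H a, ∃ x : G, x * g * x⁻¹ = a * u}, ‖χ g‖ ^ 2 := by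
  classical
  set D : Set G := {g : G | ∃ a ∈ A, ∃ u ∈ H a, ∃ x : G, x * g * x⁻¹ = a * u} with hDdef
  -- the truncated functions
  set ψ₀ : L → ℂ := fun a => if (a : G) ∈ A then ψ a else 0 with hψ₀
  set χD : G → ℂ := fun g => if g ∈ D then χ g else 0 with hχD
  have hψ₀A : ∀ x : L, (x : G) ∉ A → ψ₀ x = 0 := by
    intro x hx
    simp only [hψ₀, if_neg hx]
  -- ψ₀ is a class function
  have hψ₀cf : IsClassFunction L ψ₀ := by
    intro a l
    have hiff : ((l * a * l⁻¹ : L) : G) ∈ A ↔ (a : G) ∈ A := by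
      constructor
      · intro h
        have := hD.conj_mem (l⁻¹ : L) (l⁻¹ : L).2 _ h
        have e : ((l⁻¹ : L) : G) * ((l * a * l⁻¹ : L) : G) * ((l⁻¹ : L) : G)⁻¹ = (a : G) := by
          push_cast; group
        rwa [e] at this
      · intro h
        exact hD.conj_mem l l.2 a h
    by_cases ha : (a : G) ∈ A
    · simp only [hψ₀, if_pos ha, if_pos (hiff.mpr ha)]
      rw [hψ a ha, hψ _ (hiff.mpr ha)]
      exact psi_conj A L H hD χ hχ a l ha l.2
    · simp only [hψ₀, if_neg ha, if_neg (fun h => ha (hiff.mp h))]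
  -- D is conjugation invariant
  have hDconj : ∀ g y : G, y * g * y⁻¹ ∈ D ↔ g ∈ D := by
    intro g y
    constructor
    · rintro ⟨a, ha, u, hu, x, hx⟩
      exact ⟨a, ha, u, hu, x * y, by rw [← hx]; group⟩
    · rintro ⟨a, ha, u, hu, x, hx⟩
      exact ⟨a, ha, u, hu, x * y⁻¹, by rw [← hx]; group⟩
  have hχDcf : IsClassFunction G χD := by
    intro g y
    by_cases hg : g ∈ D
    · simp only [hχD, if_pos hg, if_pos ((hDconj g y).mpr hg), hχ g y]
    · simp only [hχD, if_neg hg, if_neg (fun h => hg ((hDconj g y).mp h))]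
  -- averages of χD
  have hψD : ∀ a : L, (a : G) ∈ A →
      ψ a = (Nat.card (H a) : ℂ)⁻¹ * ∑ᶠ u ∈ (H a : Set G), χD (a * u) := by
    intro a ha
    rw [hψ a ha]
    congr 1
    apply finsum_mem_congr rfl
    intro u hu
    have : (a : G) * u ∈ D := ⟨a, ha, u, hu, 1, by simp⟩
    simp only [hχD, if_pos this]
  set f := dadeIsometry A L H ψ₀ with hf
  have h1 : classInner f χD = classInner ψ₀ ψ := dade_inner hD hψ₀cf hψ₀A χD ψ hχDcf hψD
  -- f averages to ψ₀
  have hψ₀avg : ∀ a : L, (a : G) ∈ A →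
      ψ₀ a = (Nat.card (H a) : ℂ)⁻¹ * ∑ᶠ u ∈ (H a : Set G), f (a * u) := by
    intro a ha
    rw [finsum_mem_subgroup_eq_sum]
    have h1 : ∀ u : G, (if u ∈ H a then f ((a : G) * u) else 0) =
        if u ∈ H a then ψ₀ a else 0 := by
      intro u
      split_ifs with hu
      · exact dadeIsometry_apply hD hψ₀cf (x := 1) ha hu (by simp)
      · rfl
    simp only [h1]
    rw [← Finset.sum_filter, Finset.sum_const, nsmul_eq_mul]
    have hcard : (Finset.univ.filter (fun u : G => u ∈ H a)).card = Nat.card (H a) := by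
      rw [Nat.card_eq_fintype_card, Fintype.card_subtype]
    rw [hcard]
    have hH0 : (Nat.card (H a) : ℂ) ≠ 0 := by
      have : 0 < Nat.card (H a) := Nat.card_pos
      exact_mod_cast this.ne'
    field_simp
  have h2 : classInner f f = classInner ψ₀ ψ₀ :=
    dade_inner hD hψ₀cf hψ₀A f ψ₀ (isClassFunction_dadeIsometry hD hψ₀cf) hψ₀avg
  -- the two sides as inner products
  set NL : ℝ := (Nat.card L : ℝ)⁻¹ * ∑ a : L, if (a : G) ∈ A then ‖ψ a‖ ^ 2 else 0 with hNL
  set NG : ℝ := (Nat.card G : ℝ)⁻¹ * ∑ g : G, if g ∈ D then ‖χ g‖ ^ 2 else 0 with hNG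
  have hmc : ∀ z : ℂ, z * conj z = ((‖z‖ ^ 2 : ℝ) : ℂ) := by
    intro z
    rw [Complex.mul_conj, Complex.normSq_eq_norm_sq]
  have e1 : classInner ψ₀ ψ = (NL : ℂ) := by
    unfold classInner
    rw [hNL]
    push_cast
    congr 1
    refine Finset.sum_congr rfl (fun a _ => ?_)
    by_cases ha : (a : G) ∈ A
    · simp only [hψ₀, if_pos ha]
      rw [hmc]
    · simp only [hψ₀, if_neg ha, zero_mul, Complex.ofReal_zero]
  have e2 : classInner ψ₀ ψ₀ = (NL : ℂ) := by
    unfold classInner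
    rw [hNL]
    push_cast
    congr 1
    refine Finset.sum_congr rfl (fun a _ => ?_)
    by_cases ha : (a : G) ∈ A
    · simp only [hψ₀, if_pos ha]
      rw [hmc]
    · simp only [hψ₀, if_neg ha, zero_mul, Complex.ofReal_zero]
  have e3 : classInner χD χD = (NG : ℂ) := by
    unfold classInner
    rw [hNG]
    push_cast
    congr 1
    refine Finset.sum_congr rfl (fun g _ => ?_)
    by_cases hg : g ∈ D
    · simp only [hχD, if_pos hg]
      rw [hmc]
    · simp only [hχD, if_neg hg, zero_mul, Complex.ofReal_zero]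
  -- expansion of the norm of the difference
  have hpos := classInner_self_re_nonneg (χD - f)
  rw [Helper74.classInner_sub_left, Helper74.classInner_sub_right, Helper74.classInner_sub_right,
    e3, h2, e2, h1, e1] at hpos
  have h3 : classInner χD f = (NL : ℂ) := by
    rw [← Helper74.classInner_conj_symm, h1, e1, Complex.conj_ofReal]
  rw [h3] at hpos
  simp only [Complex.sub_re, Complex.ofReal_re] at hpos
  have hfinal : NL ≤ NG := by linarith
  -- convert the finsums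
  have c1 : ∑ᶠ a ∈ {a : L | (a : G) ∈ A}, ‖ψ a‖ ^ 2 =
      ∑ a : L, if (a : G) ∈ A then ‖ψ a‖ ^ 2 else 0 := by
    rw [finsum_mem_def, finsum_eq_sum_of_fintype]
    refine Finset.sum_congr rfl (fun a _ => ?_)
    rw [Set.indicator_apply]
    simp only [Set.mem_ofPred_eq]
  have c2 : ∑ᶠ g ∈ D, ‖χ g‖ ^ 2 = ∑ g : G, if g ∈ D then ‖χ g‖ ^ 2 else 0 := by
    rw [finsum_mem_def, finsum_eq_sum_of_fintype]
    refine Finset.sum_congr rfl (fun g _ => ?_)
    rw [Set.indicator_apply]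
  rw [c1, c2]
  exact hfinal

end Cfsg.Agent.S1525
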