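import Cfsg.Statements.S1527
-- import your own Cfsg.Agent.* helpers here

set_option autoImplicit false
open Cfsg

namespace Cfsg.Agent.S1527

/-- The non-identity elements conjugate into a TI-subgroup `H` number `[G : N_G(H)] (|H| - 1)`. -/
theorem card_conj_class {G : Type*} [Group G] [Finite G] (H : Subgroup G)
    (hTI : Cfsg.IsTISubset (H : Set G)) :
    Nat.card {g : G // g ≠ 1 ∧ ∃ x : G, x * g * x⁻¹ ∈ H} =
      (Subgroup.normalizer (H : Set G)).index * (Nat.card H - 1) := by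
  classical
  set N := Subgroup.normalizer (H : Set G) with hNdef
  -- choice of a conjugating element
  have hch : ∀ c : {g : G // g ≠ 1 ∧ ∃ x : G, x * g * x⁻¹ ∈ H}, ∃ x : G, x * c.1 * x⁻¹ ∈ H :=
    fun c => c.2.2
  choose x₀ hx₀ using hch
  -- the key TI fact: if `x g x⁻¹ ∈ H` then `x * (x₀ g)⁻¹ ∈ N`
  have key : ∀ (c : {g : G // g ≠ 1 ∧ ∃ x : G, x * g * x⁻¹ ∈ H}) (x : G),
      x * c.1 * x⁻¹ ∈ H → x * (x₀ c)⁻¹ ∈ N := by
    intro c x hx
    by_contra hn
    have h1 := hTI (x * (x₀ c)⁻¹) hn (x₀ c * c.1 * (x₀ c)⁻¹) (hx₀ c) (by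
      have : x * (x₀ c)⁻¹ * (x₀ c * c.1 * (x₀ c)⁻¹) * (x * (x₀ c)⁻¹)⁻¹ = x * c.1 * x⁻¹ := by group
      rw [this]; exact hx)
    apply c.2.1
    have : c.1 = (x₀ c)⁻¹ * (x₀ c * c.1 * (x₀ c)⁻¹) * (x₀ c) := by group
    rw [this, h1]; group
  have key2 : ∀ (c : {g : G // g ≠ 1 ∧ ∃ x : G, x * g * x⁻¹ ∈ H}) (y : G),
      y ∈ N → (y * x₀ c) * c.1 * (y * x₀ c)⁻¹ ∈ H := by
    intro c y hy
    have h1 := (hy (x₀ c * c.1 * (x₀ c)⁻¹)).1 (hx₀ c)
    have : y * x₀ c * c.1 * (y * x₀ c)⁻¹ = y * (x₀ c * c.1 * (x₀ c)⁻¹) * y⁻¹ := by group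
    rw [this]; exact h1
  let P := {p : G × G // p.2 ≠ 1 ∧ p.1 * p.2 * p.1⁻¹ ∈ H}
  let H' := {h : G // h ∈ H ∧ h ≠ 1}
  let e1 : P ≃ G × H' :=
    { toFun := fun p => (p.1.1, ⟨p.1.1 * p.1.2 * p.1.1⁻¹, p.2.2, fun h => p.2.1 (by
          have h2 : p.1.2 = p.1.1⁻¹ * (p.1.1 * p.1.2 * p.1.1⁻¹) * p.1.1 := by group
          rw [h2, h]; group)⟩)
      invFun := fun q => ⟨(q.1, q.1⁻¹ * q.2.1 * q.1), by
        refine ⟨fun h => q.2.2.2 ?_, ?_⟩
        · have h2 : q.2.1 = q.1 * (q.1⁻¹ * q.2.1 * q.1) * q.1⁻¹ := by group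
          change q.1⁻¹ * q.2.1 * q.1 = 1 at h
          rw [h2, h]; group
        · have h2 : q.1 * (q.1⁻¹ * q.2.1 * q.1) * q.1⁻¹ = q.2.1 := by group
          show q.1 * (q.1⁻¹ * q.2.1 * q.1) * q.1⁻¹ ∈ H
          rw [h2]; exact q.2.2.1⟩
      left_inv := by
        rintro ⟨⟨x, g⟩, h1, h2⟩
        apply Subtype.ext
        apply Prod.ext
        · rfl
        · show x⁻¹ * (x * g * x⁻¹) * x = g
          group
      right_inv := by
        rintro ⟨x, ⟨h, h1, h2⟩⟩
        apply Prod.ext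
        · rfl
        · apply Subtype.ext
          show x * (x⁻¹ * h * x) * x⁻¹ = h
          group }
  let e2 : P ≃ {g : G // g ≠ 1 ∧ ∃ x : G, x * g * x⁻¹ ∈ H} × N :=
    { toFun := fun p => (⟨p.1.2, p.2.1, p.1.1, p.2.2⟩,
        ⟨p.1.1 * (x₀ ⟨p.1.2, p.2.1, p.1.1, p.2.2⟩)⁻¹, key ⟨p.1.2, p.2.1, p.1.1, p.2.2⟩ p.1.1 p.2.2⟩)
      invFun := fun q => ⟨(q.2.1 * x₀ q.1, q.1.1), q.1.2.1, key2 q.1 q.2.1 q.2.2⟩
      left_inv := by
        rintro ⟨⟨x, g⟩, h1, h2⟩
        apply Subtype.ext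
        apply Prod.ext
        · show x * (x₀ ⟨g, h1, x, h2⟩)⁻¹ * x₀ ⟨g, h1, x, h2⟩ = x
          group
        · rfl
      right_inv := by
        rintro ⟨c, ⟨y, hy⟩⟩
        apply Prod.ext
        · rfl
        · apply Subtype.ext
          show y * x₀ c * (x₀ c)⁻¹ = y
          group }
  have hH' : Nat.card H' = Nat.card H - 1 := by
    have : Nat.card H' = Set.ncard ((H : Set G) \ {1}) := by
      rw [← Nat.card_coe_set_eq]
      apply Nat.card_congr
      exact Equiv.subtypeEquivRight (fun h => by simp)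
    rw [this, Set.ncard_sdiff_singleton_of_mem (by simp : (1 : G) ∈ (H : Set G)),
      ← Nat.card_coe_set_eq]
    rfl
  have h1 : Nat.card {g : G // g ≠ 1 ∧ ∃ x : G, x * g * x⁻¹ ∈ H} * Nat.card N =
      Nat.card G * (Nat.card H - 1) := by
    rw [← hH', ← Nat.card_prod, ← Nat.card_prod]
    exact Nat.card_congr (e2.symm.trans e1)
  have h2 : N.index * Nat.card N = Nat.card G := Subgroup.index_mul_card N
  have hN : 0 < Nat.card N := Nat.card_pos
  apply Nat.eq_of_mul_eq_mul_right hN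
  rw [h1, ← h2]; ring

/-- Let G be a finite group and H i (i in a finite index type) subgroups of pairwise coprime orders, each of whose underlying sets is a TI-subset of G, such that every non-identity element of G is conjugate to an element of some H i. Then Nat.card G − 1 = Σ_i [G : N_G(H i)] · (Nat.card (H i) − 1). -/
theorem result {G : Type*} [Group G] [Finite G] {ι : Type*} [Fintype ι] (H : ι → Subgroup G) (hcop : ∀ i j, i ≠ j → Nat.Coprime (Nat.card (H i)) (Nat.card (H j))) (hTI : ∀ i, Cfsg.IsTISubset (H i : Set G)) (hcover : ∀ g : G, g ≠ 1 → ∃ i, ∃ x : G, x * g * x⁻¹ ∈ H i) : Nat.card G - 1 = ∑ i, (Subgroup.normalizer (H i : Set G)).index * (Nat.card (H i) - 1) := by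
  classical
  have : Fintype G := Fintype.ofFinite G
  let t : ι → Finset G := fun i => Finset.univ.filter (fun g => g ≠ 1 ∧ ∃ x : G, x * g * x⁻¹ ∈ H i)
  have hunion : (Finset.univ.erase (1 : G)) = Finset.univ.biUnion t := by
    ext g
    simp only [Finset.mem_erase, Finset.mem_univ, and_true, Finset.mem_biUnion, true_and, t,
      Finset.mem_filter]
    constructor
    · intro hg
      obtain ⟨i, hi⟩ := hcover g hg
      exact ⟨i, hg, hi⟩
    · rintro ⟨i, hg, _⟩
      exact hg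
  have hdisj : ∀ i ∈ (Finset.univ : Finset ι), ∀ j ∈ (Finset.univ : Finset ι), i ≠ j →
      Disjoint (t i) (t j) := by
    intro i _ j _ hij
    rw [Finset.disjoint_left]
    intro g hgi hgj
    simp only [t, Finset.mem_filter, Finset.mem_univ, true_and] at hgi hgj
    obtain ⟨hg, x, hx⟩ := hgi
    obtain ⟨_, y, hy⟩ := hgj
    apply hg
    have ho : ∀ (K : Subgroup G) (z : G), z * g * z⁻¹ ∈ K → orderOf g ∣ Nat.card K := by
      intro K z hz
      have h1 : orderOf (z * g * z⁻¹) = orderOf g := by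
        have := orderOf_injective (MulAut.conj z).toMonoidHom (MulAut.conj z).injective g
        simpa using this
      rw [← h1]
      have := Subgroup.orderOf_dvd_natCard K hz
      exact this
    have h1 := ho (H i) x hx
    have h2 := ho (H j) y hy
    have h3 : orderOf g ∣ Nat.gcd (Nat.card (H i)) (Nat.card (H j)) := Nat.dvd_gcd h1 h2
    rw [hcop i j hij] at h3
    exact orderOf_eq_one_iff.1 (Nat.dvd_one.1 h3)
  have hcard : Nat.card G - 1 = (Finset.univ.erase (1 : G)).card := by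
    rw [Finset.card_erase_of_mem (Finset.mem_univ _), Finset.card_univ, Nat.card_eq_fintype_card]
  rw [hcard, hunion, Finset.card_biUnion hdisj]
  apply Finset.sum_congr rfl
  intro i _
  rw [← card_conj_class (H i) (hTI i), Nat.card_eq_fintype_card, Fintype.card_subtype]

end Cfsg.Agent.S1527
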