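import Cfsg.Statements.S1529
import Cfsg.Agent.Helper75.VirtualChar

set_option autoImplicit false
open Cfsg

namespace Cfsg.Agent.S1529

/-- Let N be a subgroup of the finite group G, S a set of irreducible characters of N with at least two members, and τ₁ a linear isometry on the integer combinations of S with virtual-character values such that τ₁ α vanishes at 1 whenever α ∈ ℤ[S] does. Then there is ε ∈ {1, −1} such that ε • τ₁ χ is an irreducible character of G for every χ ∈ S, and distinct members of S give distinct characters. -/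
theorem result {G : Type*} [Group G] [Fintype G] (N : Subgroup G) [Fintype N] (S : Set (N → ℂ)) (hirr : ∀ χ ∈ S, Cfsg.IsIrrCharacter N χ) (htwo : ∃ χ ∈ S, ∃ ψ ∈ S, χ ≠ ψ) (τ₁ : (N → ℂ) → (G → ℂ)) (hτ₁ : Cfsg.IsLinearIsometryOn (Cfsg.zspan S) τ₁) (h0 : ∀ α ∈ Cfsg.zspan S, α 1 = 0 → τ₁ α 1 = 0) : ∃ ε : ℂ, (ε = 1 ∨ ε = -1) ∧ (∀ χ ∈ S, Cfsg.IsIrrCharacter G (ε • τ₁ χ)) ∧ (∀ χ ∈ S, ∀ ψ ∈ S, τ₁ χ = τ₁ ψ → χ = ψ) := by
  classical
  obtain ⟨hadd, hsmul, hiso, hgc⟩ := hτ₁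
  have hmemS : ∀ χ ∈ S, χ ∈ zspan S := fun χ hχ => Submodule.subset_span hχ
  have hpm : ∀ χ ∈ S, ∃ θ : IrrCharacter G, τ₁ χ = (θ : G → ℂ) ∨ τ₁ χ = -(θ : G → ℂ) := by
    intro χ hχ
    apply Cfsg.Agent.Helper75.vc_pm_irr (hgc χ (hmemS χ hχ))
    rw [hiso χ (hmemS χ hχ) χ (hmemS χ hχ)]
    exact Cfsg.Agent.Helper74.irr_inner_self ⟨χ, hirr χ hχ⟩
  have hdeg : ∀ χ ∈ S, ∃ d : ℕ, 0 < d ∧ χ 1 = d := fun χ hχ =>
    Cfsg.Agent.Helper75.fk_irr_apply_one ⟨χ, hirr χ hχ⟩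
  obtain ⟨χ₀, hχ₀, _, _, _⟩ := htwo
  obtain ⟨θ₀, hθ₀⟩ := hpm χ₀ hχ₀
  obtain ⟨d₀, hd₀, hd₀'⟩ := hdeg χ₀ hχ₀
  obtain ⟨e₀, he₀, he₀'⟩ := Cfsg.Agent.Helper75.fk_irr_apply_one θ₀
  -- the degree relation
  have key : ∀ ψ ∈ S, ∀ d : ℕ, ψ 1 = d → (d : ℂ) * τ₁ χ₀ 1 = (d₀ : ℂ) * τ₁ ψ 1 := by
    intro ψ hψ d hd
    have h1 : ((d : ℤ) • χ₀) ∈ zspan S :=
      Submodule.smul_mem (Submodule.span ℤ S) (d : ℤ) (hmemS χ₀ hχ₀)
    have h2 : ((-(d₀ : ℤ)) • ψ) ∈ zspan S :=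
      Submodule.smul_mem (Submodule.span ℤ S) (-(d₀ : ℤ)) (hmemS ψ hψ)
    have h3 : ((d : ℤ) • χ₀ + (-(d₀ : ℤ)) • ψ) ∈ zspan S :=
      Submodule.add_mem (Submodule.span ℤ S) h1 h2
    have hval : ((d : ℤ) • χ₀ + (-(d₀ : ℤ)) • ψ) 1 = 0 := by
      simp only [Pi.add_apply, Pi.smul_apply, hd₀', hd]
      simp only [zsmul_eq_mul]
      push_cast
      ring
    have h4 := h0 _ h3 hval
    rw [hadd _ h1 _ h2, hsmul _ (hmemS χ₀ hχ₀), hsmul _ (hmemS ψ hψ)] at h4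
    simp only [Pi.add_apply, Pi.smul_apply] at h4
    simp only [zsmul_eq_mul] at h4
    push_cast at h4
    linear_combination h4
  -- the common sign
  have hsign : ∀ ψ ∈ S, ∀ θ : IrrCharacter G,
      (τ₁ χ₀ = (θ₀ : G → ℂ) → τ₁ ψ = -(θ : G → ℂ) → False) ∧
      (τ₁ χ₀ = -(θ₀ : G → ℂ) → τ₁ ψ = (θ : G → ℂ) → False) := by
    intro ψ hψ θ
    obtain ⟨d, hd, hd'⟩ := hdeg ψ hψ
    obtain ⟨e, he, he'⟩ := Cfsg.Agent.Helper75.fk_irr_apply_one θ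
    have hk := key ψ hψ d hd'
    constructor
    · intro h1 h2
      rw [h1, h2, Pi.neg_apply, he₀', he'] at hk
      have : ((d * e₀ : ℕ) : ℤ) = -((d₀ * e : ℕ) : ℤ) := by
        have h5 : (((d * e₀ : ℕ) : ℤ) : ℂ) = ((-((d₀ * e : ℕ) : ℤ) : ℤ) : ℂ) := by
          push_cast
          linear_combination hk
        exact_mod_cast h5
      have p1 : 0 < d * e₀ := Nat.mul_pos hd he₀
      have p2 : 0 < d₀ * e := Nat.mul_pos hd₀ he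
      omega
    · intro h1 h2
      rw [h1, h2, Pi.neg_apply, he₀', he'] at hk
      have : -((d * e₀ : ℕ) : ℤ) = ((d₀ * e : ℕ) : ℤ) := by
        have h5 : ((-((d * e₀ : ℕ) : ℤ) : ℤ) : ℂ) = (((d₀ * e : ℕ) : ℤ) : ℂ) := by
          push_cast
          linear_combination hk
        exact_mod_cast h5
      have p1 : 0 < d * e₀ := Nat.mul_pos hd he₀
      have p2 : 0 < d₀ * e := Nat.mul_pos hd₀ he
      omega
  -- injectivity
  have hinj : ∀ χ ∈ S, ∀ ψ ∈ S, τ₁ χ = τ₁ ψ → χ = ψ := by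
    intro χ hχ ψ hψ heq
    by_contra hne
    have h1 := hiso χ (hmemS χ hχ) ψ (hmemS ψ hψ)
    rw [← heq, hiso χ (hmemS χ hχ) χ (hmemS χ hχ)] at h1
    have h2 : classInner χ χ = 1 := Cfsg.Agent.Helper74.irr_inner_self ⟨χ, hirr χ hχ⟩
    have h3 : classInner χ ψ = 0 :=
      Cfsg.Agent.Helper74.irr_inner_ne (χ := ⟨χ, hirr χ hχ⟩) (ψ := ⟨ψ, hirr ψ hψ⟩)
        (fun h => hne (congrArg Subtype.val h))
    rw [h2, h3] at h1
    exact one_ne_zero h1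
  rcases hθ₀ with hpos | hneg
  · refine ⟨1, Or.inl rfl, ?_, hinj⟩
    intro ψ hψ
    obtain ⟨θ, hθ⟩ := hpm ψ hψ
    rcases hθ with h | h
    · rw [one_smul, h]; exact θ.2
    · exact ((hsign ψ hψ θ).1 hpos h).elim
  · refine ⟨-1, Or.inr rfl, ?_, hinj⟩
    intro ψ hψ
    obtain ⟨θ, hθ⟩ := hpm ψ hψ
    rcases hθ with h | h
    · exact ((hsign ψ hψ θ).2 hneg h).elim
    · rw [h]
      have : (-1 : ℂ) • (-(θ : G → ℂ)) = (θ : G → ℂ) := by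
        funext g; simp
      rw [this]; exact θ.2

end Cfsg.Agent.S1529
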