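import Cfsg.Statements.S1534
import Cfsg.Agent.S1535
import Cfsg.Agent.S1524
import Cfsg.Agent.Helper75.SylowCohMain

set_option autoImplicit false
open Cfsg

namespace Cfsg.Agent.S1534

open Cfsg.Agent.Helper25
open scoped commutatorElement

/-- A `2`-subgroup containing the centralizers of its nonidentity elements is a Sylow
`2`-subgroup. -/
theorem card_eq_of_cent {G : Type*} [Group G] [Finite G] (K : Subgroup G) (hK1 : K ≠ ⊥)
    (hC : ∀ k ∈ K, k ≠ 1 → Subgroup.centralizer ({k} : Set G) ≤ K) {m : ℕ}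
    (hm : Nat.card K = 2 ^ m) : Nat.card K = 2 ^ (Nat.card G).factorization 2 := by
  haveI : Fact (Nat.Prime 2) := ⟨Nat.prime_two⟩
  have hK2 : IsPGroup 2 K := IsPGroup.of_card hm
  obtain ⟨P, hKP⟩ := hK2.exists_le_sylow
  obtain ⟨k, hk1⟩ := (Subgroup.ne_bot_iff_exists_ne_one).mp hK1
  have hk1' : (k : G) ≠ 1 := fun h => hk1 (Subtype.ext h)
  haveI : Nontrivial (P : Subgroup G) := by
    refine ⟨⟨⟨(k : G), hKP k.2⟩, 1, ?_⟩⟩
    intro hc
    exact hk1' (congrArg Subtype.val hc)
  haveI := IsPGroup.center_nontrivial P.isPGroup'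
  obtain ⟨z, hz1⟩ := exists_ne (1 : Subgroup.center (P : Subgroup G))
  have hzc : ∀ s : (P : Subgroup G), s * (z : (P : Subgroup G)) = (z : (P : Subgroup G)) * s :=
    fun s => (Subgroup.mem_center_iff.mp z.2 s)
  have hzN1 : ((z : (P : Subgroup G)) : G) ≠ 1 := by
    intro hc
    apply hz1
    apply Subtype.ext
    apply Subtype.ext
    exact hc
  have hzK : ((z : (P : Subgroup G)) : G) ∈ K := by
    apply hC (k : G) k.2 hk1'
    rw [Subgroup.mem_centralizer_singleton_iff]
    have h1 := hzc ⟨(k : G), hKP k.2⟩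
    exact (congrArg Subtype.val h1).symm
  have hPK : (P : Subgroup G) ≤ K := by
    intro s hs
    apply hC _ hzK hzN1
    rw [Subgroup.mem_centralizer_singleton_iff]
    have h1 := hzc ⟨s, hs⟩
    exact congrArg Subtype.val h1
  have hKeq : K = (P : Subgroup G) := le_antisymm hKP hPK
  rw [hKeq]
  exact P.card_eq_multiplicity

theorem arith_two_pow (i e j : ℕ) (hi : i = 2 ^ j) (hj : j ≠ 0) (he : Odd e) (he1 : e ≠ 1)
    (hle : i ≤ 4 * e ^ 2 + 1) : i < 4 * e ^ 2 := by
  by_contra hcon
  have hge : 4 * e ^ 2 ≤ i := not_lt.mp hcon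
  have heven : Even i := by
    rw [hi]
    exact (Nat.even_pow' hj).mpr even_two
  have hodd2 : Odd (e ^ 2) := he.pow
  have hne : i ≠ 4 * e ^ 2 + 1 := by
    intro h
    rw [h] at heven
    have : Odd (4 * e ^ 2 + 1) := by
      refine ⟨2 * e ^ 2, by ring⟩
    exact (Nat.not_even_iff_odd.mpr this) heven
  have heq : i = 4 * e ^ 2 := by omega
  have hdvd : e ^ 2 ∣ 2 ^ j := by
    rw [← hi, heq]
    exact dvd_mul_left _ _
  obtain ⟨k, -, hk⟩ := (Nat.dvd_prime_pow Nat.prime_two).mp hdvd
  have hk0 : k = 0 := by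
    by_contra hk0
    have : Even (e ^ 2) := by
      rw [hk]
      exact (Nat.even_pow' hk0).mpr even_two
    exact (Nat.not_even_iff_odd.mpr hodd2) this
  rw [hk0, pow_zero] at hk
  have : e = 1 := by
    have h1 : e ^ 2 = 1 ^ 2 := by rw [hk]; norm_num
    exact Nat.pow_left_injective (by norm_num : 2 ≠ 0) h1
  exact he1 this

/-- Let G be a finite group and K a nontrivial nilpotent subgroup whose underlying set is a TI-subset of G, properly contained in its set normaliser N, with C_G(k) ≤ K for every non-identity k ∈ K; let e be the index of K in N and S the set of irreducible characters χ of N with χ k ≠ χ 1 for some k ∈ K. Then one of: S has exactly one member, Nat.card K = e + 1 and K is an elementary abelian p-group for some prime p; or K is a Sylow 2-subgroup of G (Nat.card K is the largest power of 2 dividing Nat.card G) and [K : [K,K]] < 4e²; or (S, N minus 1, induction to G) is coherent. -/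
theorem result {G : Type*} [Group G] [Fintype G] (K : Subgroup G) (hK1 : K ≠ ⊥) (hnil : Group.IsNilpotent K) (hTI : Cfsg.IsTISubset (K : Set G)) (hlt : K < Subgroup.normalizer (K : Set G)) (hC : ∀ k ∈ K, k ≠ 1 → Subgroup.centralizer ({k} : Set G) ≤ K) [Fintype ↥(Subgroup.normalizer (K : Set G))] : (Nat.card {χ : ↥(Subgroup.normalizer (K : Set G)) → ℂ // Cfsg.IsIrrCharacter ↥(Subgroup.normalizer (K : Set G)) χ ∧ ∃ k : ↥(Subgroup.normalizer (K : Set G)), (k : G) ∈ K ∧ χ k ≠ χ 1} = 1 ∧ Nat.card K = (K.subgroupOf (Subgroup.normalizer (K : Set G))).index + 1 ∧ ∃ p : ℕ, p.Prime ∧ Cfsg.IsElementaryAbelian p K) ∨ (Nat.card K = 2 ^ (Nat.card G).factorization 2 ∧ (⁅K, K⁆.subgroupOf K).index < 4 * (K.subgroupOf (Subgroup.normalizer (K : Set G))).index ^ 2) ∨ Cfsg.IsCoherent {χ : ↥(Subgroup.normalizer (K : Set G)) → ℂ | Cfsg.IsIrrCharacter ↥(Subgroup.normalizer (K : Set G)) χ ∧ ∃ k : ↥(Subgroup.normalizer (K : Set G)), (k : G) ∈ K ∧ χ k ≠ χ 1} {1}ᶜ (fun α => Cfsg.indFun (Subgroup.normalizer (K : Set G)) α)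 := by
  classical
  have hle : K ≤ Subgroup.normalizer (K : Set G) := Subgroup.le_normalizer
  set K' : Subgroup ↥(Subgroup.normalizer (K : Set G)) :=
    K.subgroupOf (Subgroup.normalizer (K : Set G)) with hK'
  have hK'n : K'.Normal := inferInstance
  have hmap : K'.map (Subgroup.normalizer (K : Set G)).subtype = K :=
    Subgroup.map_subgroupOf_eq_of_le hle
  have hcardK' : Nat.card K' = Nat.card K :=
    Nat.card_congr (Subgroup.subgroupOfEquivOfLe hle).toEquiv
  have hK'1 : K' ≠ ⊥ := by
    intro h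
    apply hK1
    rw [← hmap, h, Subgroup.map_bot]
  have hK'top : K' ≠ ⊤ := by
    intro h
    rw [hK', Subgroup.subgroupOf_eq_top] at h
    exact (not_le_of_gt hlt) h
  have hC' := Helper75.tf_hC' hC
  obtain ⟨hnil', W, hWbot, hinf, hsup, hfpf⟩ := Helper9.FP.fp_frob_type K' hK'top hC'
  have hfrob : ∀ A : Subgroup ↥(Subgroup.normalizer (K : Set G)), A.Normal → A ≤ K' →
      ∀ k ∈ K', k ∉ A → ∀ x : ↥(Subgroup.normalizer (K : Set G)),
        x * k * x⁻¹ * k⁻¹ ∈ A → x ∈ K' := by
    intro A hA hAK
    have := hA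
    exact frob_hfrob hsup hfpf A hAK
  have he0 : 0 < K'.index := Nat.pos_of_ne_zero Subgroup.index_ne_zero_of_finite
  have hsolv : Group.IsSolvable K' := inferInstance
  have hK''lt : ⁅K', K'⁆ < K' := commutator_lt_of_solvable K' hsolv hK'1
  have hSeq := Cfsg.Agent.S1535.relevant_eq_induced K' hC'
  by_cases hcase : Nat.card K = K'.index + 1
  · -- the exceptional abelian case
    left
    have hab' : ⁅K', K'⁆ = ⊥ := by
      by_contra hne
      have h1 := succ_index_le_relIndex K' ⊥ ⁅K', K'⁆ (bot_lt_iff_ne_bot.mpr hne) hK''lt.le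
        (hfrob ⊥ inferInstance bot_le)
      have h2 := succ_index_le_relIndex K' ⁅K', K'⁆ K' hK''lt le_rfl
        (hfrob _ inferInstance hK''lt.le)
      have h3 := Subgroup.relIndex_mul_relIndex ⊥ ⁅K', K'⁆ K' bot_le hK''lt.le
      rw [Subgroup.relIndex_bot_left, Subgroup.relIndex_bot_left, hcardK', hcase] at h3
      rw [Subgroup.relIndex_bot_left] at h1
      have h4 : (K'.index + 1) * (K'.index + 1) ≤
          Nat.card ↥⁅K', K'⁆ * (⁅K', K'⁆).relIndex K' := Nat.mul_le_mul h1 h2
      rw [h3] at h4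
      nlinarith
    have hab : ∀ a ∈ K, ∀ b ∈ K, a * b = b * a := by
      intro a ha b hb
      have h1 : ⁅(⟨a, hle ha⟩ : ↥(Subgroup.normalizer (K : Set G))), ⟨b, hle hb⟩⁆ ∈ ⁅K', K'⁆ :=
        Subgroup.commutator_mem_commutator (Subgroup.mem_subgroupOf.mpr ha)
          (Subgroup.mem_subgroupOf.mpr hb)
      rw [hab', Subgroup.mem_bot, commutatorElement_eq_one_iff_mul_comm] at h1
      exact congrArg Subtype.val h1
    have hcount := Helper75.tf_count K' (fun χ hχ => by
      obtain ⟨k, hk, hne⟩ := hχ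
      exact Helper75.tf_rel_degree hC hab ⟨χ.2, k, Subgroup.mem_subgroupOf.mp hk, hne⟩)
    rw [hcardK', hcase] at hcount
    have hr1 : Nat.card {χ : IrrCharacter ↥(Subgroup.normalizer (K : Set G)) //
        ∃ k ∈ K', (χ : ↥(Subgroup.normalizer (K : Set G)) → ℂ) k
          ≠ (χ : ↥(Subgroup.normalizer (K : Set G)) → ℂ) 1} = 1 := by
      have h1 : Nat.card {χ : IrrCharacter ↥(Subgroup.normalizer (K : Set G)) //
        ∃ k ∈ K', (χ : ↥(Subgroup.normalizer (K : Set G)) → ℂ) k
          ≠ (χ : ↥(Subgroup.normalizer (K : Set G)) → ℂ) 1} * K'.index = 1 * K'.index := by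
        omega
      exact Nat.eq_of_mul_eq_mul_right he0 h1
    have hone : Nat.card {χ : IrrCharacter ↥(Subgroup.normalizer (K : Set G)) //
        ∃ k : ↥(Subgroup.normalizer (K : Set G)), (k : G) ∈ K ∧
          (χ : ↥(Subgroup.normalizer (K : Set G)) → ℂ) k
            ≠ (χ : ↥(Subgroup.normalizer (K : Set G)) → ℂ) 1} = 1 := hr1
    obtain ⟨p', hp', hEA, hcard⟩ := Helper75.tf_abelian_one hC hab hone
    refine ⟨?_, hcard, p', hp', hEA⟩
    rw [← hone]
    exact Nat.card_congr (Equiv.subtypeSubtypeEquivSubtypeInter _ _).symm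
  · -- Feit's theorem applies
    have hTI' : ∀ g : G, g ∉ Subgroup.normalizer (K : Set G) →
        ∀ k ∈ K'.map (Subgroup.normalizer (K : Set G)).subtype,
          g * k * g⁻¹ ∈ K'.map (Subgroup.normalizer (K : Set G)).subtype → k = 1 := by
      rw [hmap]
      exact fun g hg k hk hgk => hTI g hg k hk hgk
    have hiso := isLinearIsometryOn_indFun_of_ti (Subgroup.normalizer (K : Set G)) K' hTI'
    have hτ1 : ∀ α ∈ zspanOn (inducedIrrAbove K' ⊥) ({1}ᶜ : Set ↥(Subgroup.normalizer (K : Set G))),
        indFun (Subgroup.normalizer (K : Set G)) α 1 = 0 :=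
      fun α hα => indFun_apply_one_of_mem (Subgroup.normalizer (K : Set G)) K' hα
    have h35 := Cfsg.Agent.S1535.result K' hK'1 hK'top hC' (by rw [hcardK']; exact hcase)
      (fun α => indFun (Subgroup.normalizer (K : Set G)) α) (by rw [hSeq]; exact hiso)
      (by rw [hSeq]; exact hτ1)
    rcases h35 with hcoh | ⟨p, hp, ⟨m, hm⟩, hnab, hidx⟩
    · right; right
      exact hcoh
    · rw [hcardK'] at hm
      have hm0 : m ≠ 0 := by
        rintro rfl
        rw [pow_zero] at hm
        exact hK1 (Subgroup.card_eq_one.mp hm)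
      by_cases hp2 : p = 2
      · -- a Sylow 2-subgroup
        subst hp2
        right; left
        refine ⟨card_eq_of_cent K hK1 hC hm, ?_⟩
        -- transfer of the index
        have hidx' : (⁅K, K⁆.subgroupOf K).index = (⁅K', K'⁆.subgroupOf K').index := by
          show (⁅K, K⁆).relIndex K = (⁅K', K'⁆).relIndex K'
          rw [← Subgroup.relIndex_map_map_of_injective ⁅K', K'⁆ K'
            (Subgroup.normalizer (K : Set G)).subtype_injective, Subgroup.map_commutator, hmap]
        rw [hidx']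
        have hdvd : (⁅K', K'⁆.subgroupOf K').index ∣ 2 ^ m := by
          rw [← hm, ← hcardK']
          exact Subgroup.index_dvd_card _
        obtain ⟨j, -, hj⟩ := (Nat.dvd_prime_pow Nat.prime_two).mp hdvd
        have hj0 : j ≠ 0 := by
          rintro rfl
          rw [pow_zero] at hj
          have : (⁅K', K'⁆).relIndex K' = 1 := hj
          exact (not_le_of_gt hK''lt) (Subgroup.relIndex_eq_one.mp this)
        have hedvd := frobenius_index_dvd_gen K' ⊥ K' bot_le le_rfl (hfrob ⊥ inferInstance bot_le)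
        rw [Subgroup.relIndex_bot_left, hcardK', hm] at hedvd
        have hodd : Odd K'.index := by
          have h1 : Odd (2 ^ m - 1) := by
            have h2 : Even (2 ^ m) := (Nat.even_pow' hm0).mpr even_two
            have h3 : 1 ≤ 2 ^ m := Nat.one_le_two_pow
            obtain ⟨t, ht⟩ := h2
            exact ⟨t - 1, by omega⟩
          exact Odd.of_dvd_nat h1 hedvd
        have he1 : K'.index ≠ 1 := fun h => hK'top (Subgroup.index_eq_one.mp h)
        exact arith_two_pow _ _ j hj hj0 hodd he1 hidx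
      · -- Sibley's theorem
        right; right
        have hpodd : Odd p := hp.odd_of_ne_two hp2
        have hoddK : Odd (Nat.card K) := by rw [hm]; exact hpodd.pow
        have hodde : Odd K'.index := by
          by_contra hne
          have heven : Even K'.index := Nat.not_odd_iff_even.mp hne
          have hab := Helper75.sc_abelian_of_even hC hoddK heven
          apply hnab
          refine ⟨⟨fun a b => ?_⟩⟩
          apply Subtype.ext
          apply Subtype.ext
          exact hab _ (Subgroup.mem_subgroupOf.mp a.2) _ (Subgroup.mem_subgroupOf.mp b.2)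
        have hoddN : Odd (Nat.card ↥(Subgroup.normalizer (K : Set G))) := by
          rw [Helper75.sc_card_normalizer K]
          exact hoddK.mul hodde
        have hHn : ∀ x ∈ Subgroup.normalizer (K : Set G), ∀ h ∈ K, x * h * x⁻¹ ∈ K := by
          intro x hx h hh
          exact (Subgroup.mem_normalizer_iff.mp hx h).mp hh
        obtain ⟨-, W₁, hW₁L, hW1, hinf1, hsup1, hfpf1⟩ :=
          Helper9.FP.fp_frob_struct K (Subgroup.normalizer (K : Set G)) hlt hHn
            (fun h hh h1 => inf_le_right.trans (hC h hh h1))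
        have hS := Cfsg.Agent.S1524.result K (Subgroup.normalizer (K : Set G)) W₁ hoddN hle hW₁L
          hK1 hW1 hnil hHn hinf1 hsup1 hfpf1 hTI rfl
        rw [← hSeq] at hS
        exact hS

end Cfsg.Agent.S1534
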