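import Cfsg.Statements.S1546
-- import your own Cfsg.Agent.* helpers here

set_option autoImplicit false
open Cfsg

namespace Cfsg.Agent.S1546

open Finset in
theorem geom_cast (R : Type*) [CommRing R] (p q : ℕ) (hp : 2 ≤ p) :
    (((p ^ q - 1) / (p - 1) : ℕ) : R) = ∑ k ∈ range q, (p : R) ^ k := by
  rw [← Nat.geomSum_eq hp q]
  push_cast
  rfl

theorem geom_mul (p q : ℕ) (hp : 2 ≤ p) : (p ^ q - 1) / (p - 1) * (p - 1) = p ^ q - 1 := by
  apply Nat.div_mul_cancel
  have := Nat.sub_dvd_pow_sub_pow p 1 q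
  simpa using this

/-- if `p ≡ 1 mod r` then `N ≡ q mod r`. -/
theorem cast_of_one (r p q : ℕ) (hp : 2 ≤ p) (h : (p : ZMod r) = 1) :
    (((p ^ q - 1) / (p - 1) : ℕ) : ZMod r) = (q : ZMod r) := by
  rw [geom_cast (ZMod r) p q hp, h]
  simp

theorem prime_dvd (p q : ℕ) (hp : p.Prime) (hq : q.Prime) (hpq : p % q ≠ 1)
    (r : ℕ) (hr : r.Prime) (hrN : r ∣ (p ^ q - 1) / (p - 1)) : r % q = 1 := by
  have hp2 : 2 ≤ p := hp.two_le
  have : Fact r.Prime := ⟨hr⟩
  have hq1 : 1 < q := hq.one_lt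
  -- p^q = 1 in ZMod r
  have h1 : r ∣ p ^ q - 1 := by
    rw [← geom_mul p q hp2]
    exact Dvd.dvd.mul_right hrN _
  have hpq1 : 1 ≤ p ^ q := Nat.one_le_pow _ _ (by omega)
  have h2 : ((p : ZMod r)) ^ q = 1 := by
    have : ((p ^ q - 1 : ℕ) : ZMod r) = 0 := (ZMod.natCast_eq_zero_iff _ _).2 h1
    rw [Nat.cast_sub hpq1] at this
    push_cast at this
    exact sub_eq_zero.1 this
  have hdvd : orderOf (p : ZMod r) ∣ q := orderOf_dvd_of_pow_eq_one h2
  rcases (Nat.dvd_prime hq).1 hdvd with h | h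
  · -- order 1: p = 1 mod r
    exfalso
    have hp1 : (p : ZMod r) = 1 := orderOf_eq_one_iff.1 h
    have hN : (((p ^ q - 1) / (p - 1) : ℕ) : ZMod r) = (q : ZMod r) := cast_of_one r p q hp2 hp1
    have h0 : (((p ^ q - 1) / (p - 1) : ℕ) : ZMod r) = 0 := (ZMod.natCast_eq_zero_iff _ _).2 hrN
    rw [h0] at hN
    have hrq : r ∣ q := (ZMod.natCast_eq_zero_iff _ _).1 hN.symm
    have hrq' : r = q := (Nat.prime_dvd_prime_iff_eq hr hq).1 hrq
    subst hrq'
    -- p ≡ 1 mod r
    have : (p : ZMod r) = ((1 : ℕ) : ZMod r) := by simpa using hp1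
    rw [ZMod.natCast_eq_natCast_iff'] at this
    rw [this] at hpq
    exact hpq (Nat.mod_eq_of_lt hq1)
  · -- order q : q ∣ r - 1
    have hne : (p : ZMod r) ≠ 0 := by
      intro h0
      rw [h0, zero_pow (by omega)] at h2
      exact zero_ne_one h2
    have h3 : (p : ZMod r) ^ (r - 1) = 1 := ZMod.pow_card_sub_one_eq_one hne
    have h4 : q ∣ r - 1 := by
      rw [← h]
      exact orderOf_dvd_of_pow_eq_one h3
    obtain ⟨c, hc⟩ := h4
    have hr1 : 1 ≤ r := hr.one_lt.le
    have : r = 1 + q * c := by omega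
    rw [this, Nat.add_mul_mod_self_left]
    exact Nat.mod_eq_of_lt hq1

/-- Let p and q be odd primes and N = (p ^ q − 1) / (p − 1) = 1 + p + ⋯ + p^(q−1). Then N is odd; if p ≡ 1 (mod q) then q ∣ N; and if p is not ≡ 1 (mod q) then N is coprime to p − 1 and every divisor of N is ≡ 1 (mod q). -/
theorem result (p q : ℕ) (hp : p.Prime) (hq : q.Prime) (hp2 : p ≠ 2) (hq2 : q ≠ 2) : Odd ((p ^ q - 1) / (p - 1)) ∧ (p % q = 1 → q ∣ (p ^ q - 1) / (p - 1)) ∧ (p % q ≠ 1 → Nat.Coprime ((p ^ q - 1) / (p - 1)) (p - 1) ∧ ∀ x : ℕ, x ∣ (p ^ q - 1) / (p - 1) → x % q = 1) := by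
  have hp2' : 2 ≤ p := hp.two_le
  have hq1 : 1 < q := hq.one_lt
  have hpodd : Odd p := hp.odd_of_ne_two hp2
  have hqodd : Odd q := hq.odd_of_ne_two hq2
  refine ⟨?_, ?_, ?_⟩
  · -- N odd
    rw [← Nat.not_even_iff_odd, ← ZMod.natCast_eq_zero_iff_even]
    have h1 : (p : ZMod 2) = 1 := ZMod.natCast_eq_one_iff_odd.2 hpodd
    rw [cast_of_one 2 p q hp2' h1, ZMod.natCast_eq_zero_iff_even, Nat.not_even_iff_odd]
    exact hqodd
  · intro h
    have h1 : (p : ZMod q) = 1 := by
      have : (p : ZMod q) = ((1 : ℕ) : ZMod q) := by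
        rw [ZMod.natCast_eq_natCast_iff']
        rw [h, Nat.mod_eq_of_lt hq1]
      simpa using this
    have := cast_of_one q p q hp2' h1
    rw [ZMod.natCast_self] at this
    exact (ZMod.natCast_eq_zero_iff _ _).1 this
  · intro hpq
    have hNpos : 0 < (p ^ q - 1) / (p - 1) := by
      rw [← Nat.geomSum_eq hp2' q]
      apply Finset.sum_pos
      · intro i _
        exact Nat.pow_pos (by omega)
      · exact ⟨0, Finset.mem_range.2 (by omega)⟩
    refine ⟨?_, ?_⟩
    · -- coprime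
      rw [Nat.coprime_iff_gcd_eq_one]
      by_contra hg
      obtain ⟨r, hr, hrg⟩ := Nat.exists_prime_and_dvd hg
      have hrN : r ∣ (p ^ q - 1) / (p - 1) := hrg.trans (Nat.gcd_dvd_left _ _)
      have hrp : r ∣ p - 1 := hrg.trans (Nat.gcd_dvd_right _ _)
      have h1 : (p : ZMod r) = 1 := by
        have : ((p - 1 : ℕ) : ZMod r) = 0 := (ZMod.natCast_eq_zero_iff _ _).2 hrp
        rw [Nat.cast_sub (by omega)] at this
        push_cast at this
        exact sub_eq_zero.1 this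
      have hN := cast_of_one r p q hp2' h1
      rw [(ZMod.natCast_eq_zero_iff _ _).2 hrN] at hN
      have hrq : r ∣ q := (ZMod.natCast_eq_zero_iff _ _).1 hN.symm
      have hrq' : r = q := (Nat.prime_dvd_prime_iff_eq hr hq).1 hrq
      subst hrq'
      obtain ⟨c, hc⟩ := hrp
      have : p = 1 + r * c := by omega
      apply hpq
      rw [this, Nat.add_mul_mod_self_left]
      exact Nat.mod_eq_of_lt hq1
    · intro x
      induction x using Nat.recOnMul with
      | zero =>
        intro h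
        rw [zero_dvd_iff] at h
        omega
      | one =>
        intro _
        exact Nat.mod_eq_of_lt hq1
      | prime r hr =>
        intro h
        exact prime_dvd p q hp hq hpq r hr h
      | mul a b ha hb =>
        intro h
        have h1 := ha ((Dvd.intro _ rfl).trans h)
        have h2 := hb ((Dvd.intro_left _ rfl).trans h)
        rw [Nat.mul_mod, h1, h2]
        simpa using Nat.mod_eq_of_lt hq1

end Cfsg.Agent.S1546
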