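import Cfsg.Statements.S1550
import Cfsg.Agent.Helper27.Octads
import Cfsg.Agent.Helper26.Sextet

set_option autoImplicit false
open scoped Pointwise
open Cfsg

namespace Cfsg.Agent.S1550

/-- Every 4-element set of the 24 points is a tetrad of exactly one sextet, and the sextets number 1771. -/
theorem result : (∀ t : Finset Cfsg.GolayPt, t.card = 4 → ∃! S : Finset (Finset Cfsg.GolayPt), S ∈ Cfsg.sextets ∧ t ∈ S) ∧ Cfsg.sextets.ncard = 1771 := by
  have hS := Cfsg.Agent.Helper27.octads_steiner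
  refine ⟨?_, Cfsg.Agent.Helper26.card_sextets hS⟩
  intro t ht
  refine ⟨Cfsg.Agent.Helper26.sextetOf hS t, ⟨Cfsg.Agent.Helper26.sextetOf_mem hS ht,
    Cfsg.Agent.Helper26.self_mem_sextetOf hS ht⟩, ?_⟩
  rintro S ⟨hSx, htS⟩
  exact Cfsg.Agent.Helper26.sextet_unique hS ht hSx htS

end Cfsg.Agent.S1550
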