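import Cfsg.Statements.S1551
import Cfsg.Agent.Helper26.SextetStructData

set_option autoImplicit false
open scoped Pointwise
open Cfsg

namespace Cfsg.Agent.S1551

open Cfsg.Agent.Helper26 MulAction

theorem hasSwaps_std : HasSwaps (sxOf sxE0) := hasSwaps_of_cert sxE0 swG swG_spec

theorem nGens_mem : ∀ g ∈ nGens, g.ok = true ∧ g.perm ∈ sxN (sxOf sxE0) := by
  intro g hg
  have h := nGens_ok
  rw [List.all_eq_true] at h
  have := h g hg
  rw [Bool.and_eq_true] at this
  exact ⟨this.1, mem_sxN_of_cert this.1 this.2⟩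

theorem card_sxN_std_ge : 64 ≤ Nat.card (sxN (sxOf sxE0)) := by
  have := card_ge_of_images (sxN (sxOf sxE0)) nGens nGens_mem 6 273 (by norm_num) nWords
    nWords_nodup
  rwa [nWords_length] at this

theorem hasSwaps {S : Finset (Finset GolayPt)} (hS : S ∈ sextets) : HasSwaps S := by
  obtain ⟨a, ha, rfl⟩ := exists_smul_sextet_eq sxOf_sxE0_mem hS
  exact hasSwaps_std.smul ha

theorem card_sxN {S : Finset (Finset GolayPt)} (hS : S ∈ sextets) : Nat.card (sxN S) = 64 := by
  have h1 := card_sxN_le hS (hasSwaps hS)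
  obtain ⟨a, ha, rfl⟩ := exists_smul_sextet_eq sxOf_sxE0_mem hS
  have h2 := card_sxN_smul_ge (S := sxOf sxE0) ha
  have h3 := card_sxN_std_ge
  exact Nat.le_antisymm (Nat.le_of_dvd (by norm_num) h1) (h3.trans h2)

/-- Structure of a sextet stabiliser: it induces every permutation of the six tetrads, the subgroup fixing each tetrad setwise has order 192, and there is a normal subgroup of order 64 consisting of elements squaring to the identity. -/
theorem result (S : Finset (Finset Cfsg.GolayPt)) (hS : S ∈ Cfsg.sextets) : (∀ e : Equiv.Perm ↥S, ∃ g ∈ MulAction.stabilizer Cfsg.M24 S, ∀ t : ↥S, (g : Equiv.Perm Cfsg.GolayPt) • (t : Finset Cfsg.GolayPt) = ((e t : ↥S) : Finset Cfsg.GolayPt)) ∧ Nat.card {g : ↥(MulAction.stabilizer Cfsg.M24 S) // ∀ t ∈ S, ((g : Cfsg.M24) : Equiv.Perm Cfsg.GolayPt) • t = t} = 192 ∧ ∃ N : Subgroup ↥(MulAction.stabilizer Cfsg.M24 S), N.Normal ∧ Nat.card N = 64 ∧ ∀ x ∈ N, x * x = 1 := by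
  have hsw := hasSwaps hS
  refine ⟨?_, ?_, ?_⟩
  · intro e
    obtain ⟨g, hg⟩ := tetHom_surjective hsw e
    refine ⟨⟨g.1, (Subgroup.mem_inf.1 g.2).1⟩, ?_, ?_⟩
    · rw [mem_stabilizer_iff]
      exact sxStab_smul g
    · intro t
      rw [← hg]
      rfl
  · rw [← card_sxK hS hsw]
    apply Nat.card_congr
    exact
      { toFun := fun g => ⟨g.1.1.1, ⟨g.1.1.2, g.2⟩⟩
        invFun := fun k => ⟨⟨⟨k.1, k.2.1⟩, mem_stabilizer_iff.2
          (mem_stabilizer_iff.1 (Subgroup.mem_inf.1 (sxK_le_sxStab S k.2)).2)⟩, k.2.2⟩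
        left_inv := fun _ => rfl
        right_inv := fun _ => rfl }
  · let ι : ↥(stabilizer M24 S) →* Equiv.Perm GolayPt :=
      M24.subtype.comp (stabilizer M24 S).subtype
    have hι : ∀ x : ↥(stabilizer M24 S), ι x ∈ M24 ∧ ι x • S = S := fun x =>
      ⟨x.1.2, mem_stabilizer_iff.1 x.2⟩
    refine ⟨(sxN S).comap ι, ⟨?_⟩, ?_, ?_⟩
    · intro n hn x
      rw [Subgroup.mem_comap] at hn ⊢
      rw [map_mul, map_mul, map_inv]
      have := conj_mem_sxN (hι x).1 hn
      rwa [(hι x).2] at this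
    · rw [← card_sxN hS]
      apply Nat.card_congr
      exact
        { toFun := fun n => ⟨ι n.1, n.2⟩
          invFun := fun k => ⟨⟨⟨k.1, k.2.1⟩, mem_stabilizer_iff.2
            (mem_stabilizer_iff.1 (Subgroup.mem_inf.1
              (sxK_le_sxStab S (sxN_le_sxK S k.2))).2)⟩, k.2⟩
          left_inv := fun _ => rfl
          right_inv := fun _ => rfl }
    · intro x hx
      rw [Subgroup.mem_comap] at hx
      have := sxN_sq hS hx
      apply Subtype.ext
      apply Subtype.ext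
      exact this

end Cfsg.Agent.S1551
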