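import Cfsg.Statements.S1552
import Cfsg.Agent.Helper26.SextetOrbits
import Cfsg.Agent.Helper26.Coatom

set_option autoImplicit false
open scoped Pointwise
open Cfsg MulAction

namespace Cfsg.Agent.S1552

open Cfsg.Agent.Helper26 Cfsg.Agent.Helper27

theorem mem_orbit_iff {S : Finset (Finset GolayPt)} (hS : S ∈ sextets) (Y : Finset (Finset GolayPt)) :
    Y ∈ orbit M24 S ↔ Y ∈ sextets := by
  constructor
  · rintro ⟨g, rfl⟩
    exact smul_mem_sextets g.2 hS
  · intro hY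
    obtain ⟨g, hg, hgs⟩ := exists_smul_sextet_eq hS hY
    exact ⟨⟨g, hg⟩, hgs⟩

/-- orbits of the stabiliser are the invariant classes -/
theorem orbit_eq {S X : Finset (Finset GolayPt)} (hS : S ∈ sextets) (hX : X ∈ sextets) :
    orbit (stabilizer M24 S) X = {Y | Y ∈ sextets ∧ sxInv S Y = sxInv S X} := by
  ext Y
  constructor
  · rintro ⟨g, rfl⟩
    have hg : ((g : M24) : Equiv.Perm GolayPt) • S = S := mem_stabilizer_iff.1 g.2
    refine ⟨smul_mem_sextets (g : M24).2 hX, ?_⟩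
    exact sxInv_stab hg X
  · rintro ⟨hY, hc⟩
    obtain ⟨g, hg, hgS, hgX⟩ := sx_trans hS hX hY hc.symm
    exact ⟨⟨⟨g, hg⟩, mem_stabilizer_iff.2 hgS⟩, hgX⟩

theorem exists_class {S : Finset (Finset GolayPt)} (hS : S ∈ sextets) (v n : ℕ)
    (hn : countRange (sxCountFn sxT sxE0 1771 v) 11 0 = n) (hpos : 0 < n) :
    ∃ X ∈ sextets, sxInv S X = v ∧ (orbit (stabilizer M24 S) X).ncard = n := by
  have h := sx_ncard hS v
  rw [hn] at h
  have hne : {X | X ∈ sextets ∧ sxInv S X = v}.Nonempty := by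
    rw [← Set.ncard_pos (Set.toFinite _), h]; exact hpos
  obtain ⟨X, hX, hv⟩ := hne
  refine ⟨X, hX, hv, ?_⟩
  rw [orbit_eq hS hX, hv, h]

theorem class_self {S : Finset (Finset GolayPt)} (hS : S ∈ sextets) :
    {X | X ∈ sextets ∧ sxInv S X = 96} = {S} := by
  have h := sx_ncard hS 96
  rw [sxCount96] at h
  obtain ⟨a, ha⟩ := Set.ncard_eq_one.1 h
  have : S ∈ {X | X ∈ sextets ∧ sxInv S X = 96} := ⟨hS, sxInv_self hS⟩
  rw [ha] at this ⊢
  rw [Set.mem_singleton_iff.1 this]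

/-- A sextet stabiliser has four orbits on the 1771 sextets, of sizes 1, 90, 240, 1440; and the stabiliser is a maximal proper subgroup. -/
theorem result (S : Finset (Finset Cfsg.GolayPt)) (hS : S ∈ Cfsg.sextets) : ∃ X₁ ∈ Cfsg.sextets, ∃ X₂ ∈ Cfsg.sextets, ∃ X₃ ∈ Cfsg.sextets, (MulAction.orbit ↥(MulAction.stabilizer Cfsg.M24 S) X₁).ncard = 90 ∧ (MulAction.orbit ↥(MulAction.stabilizer Cfsg.M24 S) X₂).ncard = 240 ∧ (MulAction.orbit ↥(MulAction.stabilizer Cfsg.M24 S) X₃).ncard = 1440 ∧ Cfsg.sextets = {S} ∪ MulAction.orbit ↥(MulAction.stabilizer Cfsg.M24 S) X₁ ∪ MulAction.orbit ↥(MulAction.stabilizer Cfsg.M24 S) X₂ ∪ MulAction.orbit ↥(MulAction.stabilizer Cfsg.M24 S) X₃ ∧ IsCoatom (MulAction.stabilizer Cfsg.M24 S) := by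
  obtain ⟨X₁, hX₁, hv₁, hn₁⟩ := exists_class hS 48 90 sxCount48 (by norm_num)
  obtain ⟨X₂, hX₂, hv₂, hn₂⟩ := exists_class hS 36 240 sxCount36 (by norm_num)
  obtain ⟨X₃, hX₃, hv₃, hn₃⟩ := exists_class hS 32 1440 sxCount32 (by norm_num)
  refine ⟨X₁, hX₁, X₂, hX₂, X₃, hX₃, hn₁, hn₂, hn₃, ?_, ?_⟩
  · rw [orbit_eq hS hX₁, orbit_eq hS hX₂, orbit_eq hS hX₃, hv₁, hv₂, hv₃, ← class_self hS]
    ext Y
    simp only [Set.mem_union, Set.mem_ofPred_eq]
    constructor
    · intro hY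
      rcases sx_cls_mem hS hY with h | h | h | h
      · exact Or.inr ⟨hY, h⟩
      · exact Or.inl (Or.inr ⟨hY, h⟩)
      · exact Or.inl (Or.inl (Or.inr ⟨hY, h⟩))
      · exact Or.inl (Or.inl (Or.inl ⟨hY, h⟩))
    · rintro (((h | h) | h) | h) <;> exact h.1
  · have horb : ∀ Y, Y ∈ orbit M24 S ↔ Y ∈ sextets := mem_orbit_iff hS
    have hcx : sxInv S S = 96 := sxInv_self hS
    refine isCoatom_stabilizer_of_classes S (sxInv S)
      (fun i => if i = 96 then 1 else if i = 48 then 90 else if i = 36 then 240 else 1440)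
      {32, 36, 48, 96} ?_ ?_ ?_ ?_ ?_ ?_
    · refine ⟨X₁, (horb X₁).2 hX₁, ?_⟩
      rintro rfl
      rw [hcx] at hv₁
      norm_num at hv₁
    · intro Y hY hc
      rw [horb] at hY
      rw [hcx] at hc
      have : Y ∈ {X | X ∈ sextets ∧ sxInv S X = 96} := ⟨hY, hc⟩
      rw [class_self hS] at this
      exact this
    · intro Y hY Y' hY' hc
      rw [horb] at hY hY'
      obtain ⟨g, hg, hgS, hgY⟩ := sx_trans hS hY hY' hc
      exact ⟨⟨g, hg⟩, mem_stabilizer_iff.2 hgS, hgY⟩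
    · intro i hi
      have hset : {Y | Y ∈ orbit M24 S ∧ sxInv S Y = i} = {Y | Y ∈ sextets ∧ sxInv S Y = i} := by
        ext Y
        simp only [Set.mem_ofPred_eq, horb]
      rw [hset, sx_ncard hS i]
      simp only [Finset.mem_insert, Finset.mem_singleton] at hi
      rcases hi with rfl | rfl | rfl | rfl
      · rw [sxCount32]; rfl
      · rw [sxCount36]; rfl
      · rw [sxCount48]; rfl
      · rw [sxCount96]; rfl
    · intro Y hY
      rw [horb] at hY
      simp only [Finset.mem_insert, Finset.mem_singleton]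
      exact sx_cls_mem hS hY
    · rw [hcx]
      intro J hJ
      have hJ' := Finset.mem_powerset.2 hJ
      revert J
      decide

end Cfsg.Agent.S1552
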