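import Cfsg.Statements.S1557
import Cfsg.Agent.Helper27.Octads
import Cfsg.Agent.Helper26.Trio
import Cfsg.Agent.Helper26.Steiner2

set_option autoImplicit false
open scoped Pointwise
open Cfsg

namespace Cfsg.Agent.S1557

/-- The complement of the union of two disjoint octads is an octad, and the code has exactly 3795 trios of pairwise disjoint octads. -/
theorem result : (∀ o o' : Finset Cfsg.GolayPt, o ∈ Cfsg.octads → o' ∈ Cfsg.octads → Disjoint o o' → (o ∪ o')ᶜ ∈ Cfsg.octads) ∧ Cfsg.trios.ncard = 3795 := by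
  have hS := Cfsg.Agent.Helper27.octads_steiner
  refine ⟨fun o o' ho ho' hd => Cfsg.Agent.Helper26.compl_union_mem_octads ho ho' hd, ?_⟩
  apply Cfsg.Agent.Helper26.card_trios hS
  intro o ho
  have h := (Cfsg.Agent.Helper26.meetCount_5_8_24 Cfsg.Agent.Helper26.card_golayPt hS ho).1
  unfold Cfsg.Agent.Helper26.meetCount at h
  rw [← h]
  congr 1
  ext c
  simp only [Set.mem_ofPred_eq, Finset.card_eq_zero, Finset.disjoint_iff_inter_eq_empty]
  rw [Finset.inter_comm]

end Cfsg.Agent.S1557
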