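import Cfsg.Statements.S1558
import Cfsg.Agent.Helper30.TrioB

set_option autoImplicit false
open scoped Pointwise
open Cfsg

namespace Cfsg.Agent.S1558

open Cfsg.Agent.Helper93 Cfsg.Agent.Helper7 Cfsg.Agent.Helper30.Trio

/-- the stabiliser in `↥M24` of the base trio is the permutation group `S0` -/
noncomputable def E0 : ↥(MulAction.stabilizer (↥M24) T0) ≃* ↥S0 where
  toFun g := ⟨g.1.1, mem_stabPerm.mpr ⟨g.1.2, MulAction.mem_stabilizer_iff.mp g.2⟩⟩
  invFun k := ⟨⟨k.1, (mem_stabPerm.mp k.2).1⟩, MulAction.mem_stabilizer_iff.mpr (mem_stabPerm.mp k.2).2⟩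
  left_inv _ := rfl
  right_inv _ := rfl
  map_mul' _ _ := rfl

/-- the members of the base trio -/
theorem mem_T0_iff (o : Finset GolayPt) : o ∈ T0 ↔ ∃ j, o = oc j := by
  rw [T0_eq, mem_smL]
  constructor
  · rintro ⟨m, hm, rfl⟩
    simp only [List.mem_cons, List.not_mem_nil, or_false] at hm
    rcases hm with rfl | rfl | rfl
    · exact ⟨0, rfl⟩
    · exact ⟨1, rfl⟩
    · exact ⟨2, rfl⟩
  · rintro ⟨j, rfl⟩
    refine ⟨ocM j, ?_, rfl⟩
    fin_cases j <;> simp [ocM]

/-- permutations of the octads of the base trio are induced -/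
theorem exists_tau (τ : Equiv.Perm (Fin 3)) : ∃ g ∈ S0, ∀ j, g • oc j = oc (τ j) := by
  obtain ⟨g, hg⟩ := Φ_surjective (1, τ)
  have h2 : tauOf g = τ := congrArg Prod.snd hg
  refine ⟨g.1, g.2, fun j => ?_⟩
  rw [(cond_of g).2.1 j, h2]

/-- Structure of a trio stabiliser: every permutation of the three octads is induced, and there is a normal subgroup of order 64 of elements squaring to the identity whose quotient is isomorphic to the product of GL(3, 2) with the symmetric group of degree 3. -/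
theorem result (T : Finset (Finset Cfsg.GolayPt)) (hT : T ∈ Cfsg.trios) : (∀ e : Equiv.Perm ↥T, ∃ g ∈ MulAction.stabilizer Cfsg.M24 T, ∀ o : ↥T, (g : Equiv.Perm Cfsg.GolayPt) • (o : Finset Cfsg.GolayPt) = ((e o : ↥T) : Finset Cfsg.GolayPt)) ∧ ∃ (N : Subgroup ↥(MulAction.stabilizer Cfsg.M24 T)) (_ : N.Normal), Nat.card N = 64 ∧ (∀ x ∈ N, x * x = 1) ∧ Nonempty (↥(MulAction.stabilizer Cfsg.M24 T) ⧸ N ≃* GL (Fin 3) (ZMod 2) × Equiv.Perm (Fin 3)) := by
  classical
  obtain ⟨i, hi, rfl⟩ : ∃ i < 3795, T = (encFam 3).dec (trioArr.a i) := by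
    rw [trios_eq] at hT; exact hT
  obtain ⟨h, hh, hhT⟩ := trio_exists_smul (i := 1) (i' := i) (by decide) hi
  change h • T0 = _ at hhT
  set T := (encFam 3).dec (trioArr.a i) with hTdef
  have hhT' : T = (⟨h, hh⟩ : ↥M24) • T0 := hhT.symm
  refine ⟨?_, ?_⟩
  · -- all permutations of the three octads are induced
    intro e
    have hmemT : ∀ j : Fin 3, h • oc j ∈ T := by
      intro j
      rw [← hhT]
      exact Finset.smul_mem_smul_finset ((mem_T0_iff _).2 ⟨j, rfl⟩)
    let β : Fin 3 → ↥T := fun j => ⟨h • oc j, hmemT j⟩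
    have hβ : Function.Bijective β := by
      constructor
      · intro j j' hjj
        have : h • oc j = h • oc j' := congrArg Subtype.val hjj
        exact oc_injective (smul_left_cancel h this)
      · rintro ⟨o, ho⟩
        rw [← hhT] at ho
        obtain ⟨o0, ho0, rfl⟩ := Finset.mem_smul_finset.1 ho
        obtain ⟨j, rfl⟩ := (mem_T0_iff _).1 ho0
        exact ⟨j, rfl⟩
    let βe : Fin 3 ≃ ↥T := Equiv.ofBijective β hβ
    let τ : Equiv.Perm (Fin 3) := βe.trans (e.trans βe.symm)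
    have hτ : ∀ j, βe (τ j) = e (βe j) := fun j => by
      show βe (βe.symm (e (βe j))) = e (βe j)
      rw [Equiv.apply_symm_apply]
    obtain ⟨g0, hg0, hg0τ⟩ := exists_tau τ
    have hg0M : g0 ∈ M24 := (mem_stabPerm.mp hg0).1
    have hg0T : g0 • T0 = T0 := (mem_stabPerm.mp hg0).2
    refine ⟨⟨h * g0 * h⁻¹, M24.mul_mem (M24.mul_mem hh hg0M) (M24.inv_mem hh)⟩, ?_, ?_⟩
    · rw [MulAction.mem_stabilizer_iff]
      show (h * g0 * h⁻¹) • T = T
      rw [← hhT, mul_smul, inv_smul_smul, mul_smul, hg0T]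
    · intro o
      obtain ⟨j, rfl⟩ := βe.surjective o
      rw [← hτ j]
      show (h * g0 * h⁻¹) • (h • oc j) = h • oc (τ j)
      rw [mul_smul, inv_smul_smul, mul_smul, hg0τ]
  · -- the normal subgroup of order 64
    let E1 : ↥(MulAction.stabilizer (↥M24) T0) ≃* ↥(MulAction.stabilizer (↥M24) T) :=
      MulAction.stabilizerEquivStabilizer hhT'
    let E : ↥(MulAction.stabilizer (↥M24) T) ≃* ↥S0 := E1.symm.trans E0
    let Ψ : ↥(MulAction.stabilizer (↥M24) T) →* GL (Fin 3) (ZMod 2) × Equiv.Perm (Fin 3) :=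
      Φ.comp E.toMonoidHom
    have hΨ : Function.Surjective Ψ := Φ_surjective.comp E.surjective
    have hquot : ↥(MulAction.stabilizer (↥M24) T) ⧸ Ψ.ker ≃* GL (Fin 3) (ZMod 2) × Equiv.Perm (Fin 3) :=
      QuotientGroup.quotientKerEquivOfSurjective Ψ hΨ
    refine ⟨Ψ.ker, MonoidHom.normal_ker Ψ, ?_, ?_, ⟨hquot⟩⟩
    · have h1 := Subgroup.card_eq_card_quotient_mul_card_subgroup (Ψ.ker)
      rw [Nat.card_congr hquot.toEquiv, card_target, Nat.card_congr E.toEquiv, card_S0] at h1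
      omega
    · intro x hx
      have hk : E x ∈ Φ.ker := by
        rw [MonoidHom.mem_ker] at hx ⊢
        exact hx
      have h1 := ker_sq (E x) hk
      rw [← map_mul] at h1
      exact E.injective (h1.trans (map_one E).symm)

end Cfsg.Agent.S1558
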