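import Cfsg.Statements.S1559
import Cfsg.Agent.Helper93.GrpTrio
import Cfsg.Agent.Helper93.Classes
import Cfsg.Agent.Helper93.Assemble
import Cfsg.Agent.Helper26.Coatom2

set_option autoImplicit false
open scoped Pointwise
open Cfsg

namespace Cfsg.Agent.S1559

open Cfsg.Agent.Helper93 MulAction

/-- the orbit decomposition of the statement -/
def Dec (T : Finset (Finset GolayPt)) : Prop :=
  ∃ X₁ ∈ trios, ∃ X₂ ∈ trios, ∃ X₃ ∈ trios, ∃ X₄ ∈ trios,
    (orbit ↥(stabilizer M24 T) X₁).ncard = 42 ∧ (orbit ↥(stabilizer M24 T) X₂).ncard = 56 ∧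
    (orbit ↥(stabilizer M24 T) X₃).ncard = 1008 ∧ (orbit ↥(stabilizer M24 T) X₄).ncard = 2688 ∧
    trios = {T} ∪ orbit ↥(stabilizer M24 T) X₁ ∪ orbit ↥(stabilizer M24 T) X₂ ∪
      orbit ↥(stabilizer M24 T) X₃ ∪ orbit ↥(stabilizer M24 T) X₄

/-- the label classes -/
def cls (l : ℕ) : Set (Finset (Finset GolayPt)) :=
  {y | ∃ i' < 3795, getW 8 ktTrioOID i' = l ∧ y = (encFam 3).dec (trioArr.a i')}

theorem orbit_base {i : ℕ} (hi : i < 3795) :
    orbit ↥(stabilizer M24 ((encFam 3).dec (trioArr.a 1))) ((encFam 3).dec (trioArr.a i)) =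
      cls (getW 8 ktTrioOID i) := by
  rw [orbit_stabilizer_eq, ← kt_closure, ktTrio_orbit hi]
  rfl

theorem lab0 : getW 8 ktTrioOID 0 = 0 := by decide +kernel
theorem lab1 : getW 8 ktTrioOID 1 = 1 := by decide +kernel
theorem lab15 : getW 8 ktTrioOID 15 = 2 := by decide +kernel
theorem lab17 : getW 8 ktTrioOID 17 = 3 := by decide +kernel
theorem lab30 : getW 8 ktTrioOID 30 = 4 := by decide +kernel

theorem cls_one : cls 1 = {(encFam 3).dec (trioArr.a 1)} := by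
  have h : (cls 1).ncard = 1 := ktTrio_ncard1
  obtain ⟨a, ha⟩ := Set.ncard_eq_one.1 h
  have : (encFam 3).dec (trioArr.a 1) ∈ cls 1 := ⟨1, by norm_num, lab1, rfl⟩
  rw [ha] at this ⊢
  rw [Set.mem_singleton_iff.1 this]

theorem dec_base : Dec ((encFam 3).dec (trioArr.a 1)) := by
  have hmem : ∀ i < 3795, (encFam 3).dec (trioArr.a i) ∈ trios := fun i hi => by
    rw [trios_eq]; exact ⟨i, hi, rfl⟩
  refine ⟨_, hmem 0 (by norm_num), _, hmem 15 (by norm_num), _, hmem 17 (by norm_num), _,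
    hmem 30 (by norm_num), ?_, ?_, ?_, ?_, ?_⟩
  · rw [orbit_base (by norm_num), lab0]; exact ktTrio_ncard0
  · rw [orbit_base (by norm_num), lab15]; exact ktTrio_ncard2
  · rw [orbit_base (by norm_num), lab17]; exact ktTrio_ncard3
  · rw [orbit_base (by norm_num), lab30]; exact ktTrio_ncard4
  · rw [orbit_base (by norm_num), orbit_base (by norm_num), orbit_base (by norm_num),
      orbit_base (by norm_num), lab0, lab15, lab17, lab30, ← cls_one, trios_eq]
    ext y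
    simp only [Set.mem_union, Set.mem_ofPred_eq, cls]
    constructor
    · rintro ⟨i, hi, rfl⟩
      have hl := labels_lt ktTrio_labels i hi
      have : getW 8 ktTrioOID i = 0 ∨ getW 8 ktTrioOID i = 1 ∨ getW 8 ktTrioOID i = 2 ∨
          getW 8 ktTrioOID i = 3 ∨ getW 8 ktTrioOID i = 4 := by omega
      rcases this with h | h | h | h | h
      · exact Or.inl (Or.inl (Or.inl (Or.inr ⟨i, hi, h, rfl⟩)))
      · exact Or.inl (Or.inl (Or.inl (Or.inl ⟨i, hi, h, rfl⟩)))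
      · exact Or.inl (Or.inl (Or.inr ⟨i, hi, h, rfl⟩))
      · exact Or.inl (Or.inr ⟨i, hi, h, rfl⟩)
      · exact Or.inr ⟨i, hi, h, rfl⟩
    · rintro ((((⟨i, hi, _, rfl⟩ | ⟨i, hi, _, rfl⟩) | ⟨i, hi, _, rfl⟩) | ⟨i, hi, _, rfl⟩) |
        ⟨i, hi, _, rfl⟩) <;> exact ⟨i, hi, rfl⟩

theorem Dec.smul {T : Finset (Finset GolayPt)} (hd : Dec T) {h : Equiv.Perm GolayPt}
    (hh : h ∈ M24) : Dec (h • T) := by
  have hC : ∀ g ∈ M24, ∀ y ∈ trios, g • y ∈ trios := fun g hg y hy => smul_mem_trios hg hy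
  obtain ⟨X₁, h1, X₂, h2, X₃, h3, X₄, h4, e1, e2, e3, e4, hU⟩ := hd
  refine ⟨h • X₁, hC h hh _ h1, h • X₂, hC h hh _ h2, h • X₃, hC h hh _ h3, h • X₄,
    hC h hh _ h4, ?_, ?_, ?_, ?_, ?_⟩
  · rw [ncard_orbit_stabilizer_smul hh, e1]
  · rw [ncard_orbit_stabilizer_smul hh, e2]
  · rw [ncard_orbit_stabilizer_smul hh, e3]
  · rw [ncard_orbit_stabilizer_smul hh, e4]
  · rw [orbit_stabilizer_smul hh, orbit_stabilizer_smul hh, orbit_stabilizer_smul hh,
      orbit_stabilizer_smul hh, ← Set.image_singleton (f := fun z => h • z), ← Set.image_union,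
      ← Set.image_union, ← Set.image_union, ← Set.image_union, ← hU,
      image_smul_eq_of_invariant hC hh]

theorem dec_all {T : Finset (Finset GolayPt)} (hT : T ∈ trios) : Dec T := by
  obtain ⟨i, hi, rfl⟩ : ∃ i < 3795, T = (encFam 3).dec (trioArr.a i) := by
    rw [trios_eq] at hT; exact hT
  obtain ⟨h, hh, hho⟩ := trio_exists_smul (i := 1) (i' := i) (by decide) hi
  rw [← hho]
  exact dec_base.smul hh

theorem orbit_M24 {T : Finset (Finset GolayPt)} (hT : T ∈ trios) : orbit M24 T = trios := by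
  obtain ⟨i, hi, rfl⟩ : ∃ i < 3795, T = (encFam 3).dec (trioArr.a i) := by
    rw [trios_eq] at hT; exact hT
  rw [trio_orbit hi, trios_eq]

theorem orbit_self (T : Finset (Finset GolayPt)) : orbit ↥(stabilizer M24 T) T = {T} := by
  ext y
  constructor
  · rintro ⟨h, rfl⟩
    exact h.2
  · rintro rfl
    exact mem_orbit_self _

/-- A trio stabiliser has five orbits on the 3795 trios, of sizes 1, 42, 56, 1008, 2688; and the stabiliser is a maximal proper subgroup. -/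
theorem result (T : Finset (Finset Cfsg.GolayPt)) (hT : T ∈ Cfsg.trios) : ∃ X₁ ∈ Cfsg.trios, ∃ X₂ ∈ Cfsg.trios, ∃ X₃ ∈ Cfsg.trios, ∃ X₄ ∈ Cfsg.trios, (MulAction.orbit ↥(MulAction.stabilizer Cfsg.M24 T) X₁).ncard = 42 ∧ (MulAction.orbit ↥(MulAction.stabilizer Cfsg.M24 T) X₂).ncard = 56 ∧ (MulAction.orbit ↥(MulAction.stabilizer Cfsg.M24 T) X₃).ncard = 1008 ∧ (MulAction.orbit ↥(MulAction.stabilizer Cfsg.M24 T) X₄).ncard = 2688 ∧ Cfsg.trios = {T} ∪ MulAction.orbit ↥(MulAction.stabilizer Cfsg.M24 T) X₁ ∪ MulAction.orbit ↥(MulAction.stabilizer Cfsg.M24 T) X₂ ∪ MulAction.orbit ↥(MulAction.stabilizer Cfsg.M24 T) X₃ ∪ MulAction.orbit ↥(MulAction.stabilizer Cfsg.M24 T) X₄ ∧ IsCoatom (MulAction.stabilizer Cfsg.M24 T) := by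
  obtain ⟨X₁, h1, X₂, h2, X₃, h3, X₄, h4, e1, e2, e3, e4, hU⟩ := dec_all hT
  refine ⟨X₁, h1, X₂, h2, X₃, h3, X₄, h4, e1, e2, e3, e4, hU, ?_⟩
  have horb := orbit_M24 hT
  refine Helper26.isCoatom_stabilizer_of_reps T [T, X₁, X₂, X₃, X₄] [1, 42, 56, 1008, 2688]
    ?_ ?_ ?_ (by decide) ⟨42, by simp, by norm_num⟩ ?_
  · intro r hr
    rw [horb]
    simp only [List.mem_cons, List.not_mem_nil, or_false] at hr
    rcases hr with rfl | rfl | rfl | rfl | rfl <;> assumption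
  · intro y hy
    rw [horb, hU] at hy
    simp only [Set.mem_union, Set.mem_singleton_iff] at hy
    rcases hy with (((rfl | hy) | hy) | hy) | hy
    · exact ⟨y, by simp, mem_orbit_self _⟩
    · exact ⟨X₁, by simp, hy⟩
    · exact ⟨X₂, by simp, hy⟩
    · exact ⟨X₃, by simp, hy⟩
    · exact ⟨X₄, by simp, hy⟩
  · simp only [List.map_cons, List.map_nil, e1, e2, e3, e4, orbit_self, Set.ncard_singleton]
  · intro J hJ
    have hJ' := Finset.mem_powerset.2 hJ
    revert J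
    decide

end Cfsg.Agent.S1559
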