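import Cfsg.Statements.S1560
import Cfsg.Agent.Helper26.Dodecads

set_option autoImplicit false
open scoped Pointwise
open Cfsg

namespace Cfsg.Agent.S1560

theorem result (d : Finset Cfsg.GolayPt) (hd : d ∈ Cfsg.dodecads) : (∀ d' ∈ Cfsg.dodecads, d' ≠ d → (d ∩ d').card = 0 ∨ (d ∩ d').card = 4 ∨ (d ∩ d').card = 6 ∨ (d ∩ d').card = 8) ∧ {d' : Finset Cfsg.GolayPt | d' ∈ Cfsg.dodecads ∧ (d ∩ d').card = 4}.ncard = 495 ∧ {d' : Finset Cfsg.GolayPt | d' ∈ Cfsg.dodecads ∧ (d ∩ d').card = 6}.ncard = 1584 ∧ {d' : Finset Cfsg.GolayPt | d' ∈ Cfsg.dodecads ∧ (d ∩ d').card = 8}.ncard = 495 := by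
  refine ⟨?_, Helper26.ncard_dodecads_meet_four hd, Helper26.ncard_dodecads_meet_six hd,
    Helper26.ncard_dodecads_meet_eight hd⟩
  intro d' hd' hne
  rcases Helper26.dodecad_inter_card hd hd' with h | h | h | h | h
  · exact Or.inl h
  · exact Or.inr (Or.inl h)
  · exact Or.inr (Or.inr (Or.inl h))
  · exact Or.inr (Or.inr (Or.inr h))
  · exfalso
    apply hne
    have h1 : d ∩ d' = d := Finset.eq_of_subset_of_card_le Finset.inter_subset_left (by
      rw [h, hd.2])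
    have h2 : d ⊆ d' := by rw [← h1]; exact Finset.inter_subset_right
    exact (Finset.eq_of_subset_of_card_le h2 (by rw [hd'.2, hd.2])).symm

end Cfsg.Agent.S1560
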