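import Cfsg.Statements.S1563
import Cfsg.Agent.Helper26.Coatom
import Cfsg.Agent.Helper26.M24Homog
import Cfsg.Agent.Helper26.SubsetCount

set_option autoImplicit false
open scoped Pointwise
open Cfsg MulAction

namespace Cfsg.Agent.S1563

theorem mem_orbit_iff (s y : Finset GolayPt) (hs : s.card ≤ 5) :
    y ∈ orbit M24 s ↔ y.card = s.card := by
  constructor
  · rintro ⟨g, rfl⟩
    exact Finset.card_smul_finset _ _
  · intro h
    obtain ⟨g, hg, hgs⟩ := Helper26.exists_smul_eq_of_card s y h.symm hs
    exact ⟨⟨g, hg⟩, hgs⟩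

theorem result (s : Finset Cfsg.GolayPt) (hs : s.card = 2) : IsCoatom (MulAction.stabilizer Cfsg.M24 s) := by
  have horb : ∀ y, y ∈ orbit M24 s ↔ y.card = 2 := fun y => by
    rw [mem_orbit_iff s y (by omega), hs]
  have hcard : Fintype.card GolayPt = 24 := by decide
  refine Helper26.isCoatom_stabilizer_of_classes s (fun y => (s ∩ y).card)
    (fun i => if i = 0 then 231 else if i = 1 then 44 else 1) {0, 1, 2} ?_ ?_ ?_ ?_ ?_ ?_
  · -- some other duad
    obtain ⟨y, hy, hyc⟩ := Finset.exists_subset_card_eq (s := sᶜ) (n := 2) (by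
      rw [Finset.card_compl, hcard, hs]; omega)
    refine ⟨y, (horb y).2 hyc, ?_⟩
    intro hys
    have hne : y.Nonempty := Finset.card_pos.1 (by omega)
    obtain ⟨a, ha⟩ := hne
    have := hy ha
    simp only [Finset.mem_compl] at this
    exact this (hys ▸ ha)
  · intro y hy hc
    rw [horb] at hy
    simp only [Finset.inter_self] at hc
    have h1 : s ∩ y = s := Finset.eq_of_subset_of_card_le Finset.inter_subset_left (by omega)
    have h2 : s ⊆ y := by
      rw [← h1]; exact Finset.inter_subset_right
    exact (Finset.eq_of_subset_of_card_le h2 (by omega)).symm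
  · intro y hy y' hy' hc
    rw [horb] at hy hy'
    obtain ⟨g, hg, hgs, hgy⟩ := Helper26.exists_smul_pair s y y' (by omega) hc (by omega)
    exact ⟨⟨g, hg⟩, hgs, hgy⟩
  · intro i hi
    have : {y | y ∈ orbit M24 s ∧ (s ∩ y).card = i} = {y : Finset GolayPt | y.card = 2 ∧ (s ∩ y).card = i} := by
      ext y
      simp only [Set.mem_ofPred_eq, horb]
    rw [this]
    simp only [Finset.mem_insert, Finset.mem_singleton] at hi
    rcases hi with rfl | rfl | rfl
    · rw [Helper26.ncard_subsets_inter_eq s 2 0 (by omega), hs, hcard]; decide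
    · rw [Helper26.ncard_subsets_inter_eq s 2 1 (by omega), hs, hcard]; decide
    · rw [Helper26.ncard_subsets_inter_eq s 2 2 (by omega), hs, hcard]; decide
  · intro y _
    have : (s ∩ y).card ≤ 2 := hs ▸ Finset.card_le_card Finset.inter_subset_left
    simp only [Finset.mem_insert, Finset.mem_singleton]
    omega
  · simp only [Finset.inter_self, hs]
    intro J hJ
    have hJ' := Finset.mem_powerset.2 hJ
    revert J
    decide

end Cfsg.Agent.S1563
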