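import Cfsg.Statements.S1564
import Cfsg.Agent.Helper26.Triads
import Cfsg.Agent.Helper26.Coatom

set_option autoImplicit false
open scoped Pointwise
open Cfsg MulAction

namespace Cfsg.Agent.S1564

theorem mem_orbit_iff (s y : Finset GolayPt) (hs : s.card ≤ 5) :
    y ∈ orbit M24 s ↔ y.card = s.card := by
  constructor
  · rintro ⟨g, rfl⟩
    exact Finset.card_smul_finset _ _
  · intro h
    obtain ⟨g, hg, hgs⟩ := Helper26.exists_smul_eq_of_card s y h.symm hs
    exact ⟨⟨g, hg⟩, hgs⟩

/-- The stabiliser of a set of three points is a maximal proper subgroup of the group of the length-24 code. -/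
theorem result (s : Finset Cfsg.GolayPt) (hs : s.card = 3) : IsCoatom (MulAction.stabilizer Cfsg.M24 s) := by
  classical
  have horb : ∀ y, y ∈ orbit M24 s ↔ y.card = 3 := fun y => by
    rw [mem_orbit_iff s y (by omega), hs]
  have hcard : Fintype.card GolayPt = 24 := by decide
  have hdisj : ∀ y : Finset GolayPt, (s ∩ y).card = 0 ↔ Disjoint s y := fun y => by
    rw [Finset.card_eq_zero, Finset.disjoint_iff_inter_eq_empty]
  have hle : ∀ y : Finset GolayPt, (s ∩ y).card ≤ 3 :=
    fun y => hs ▸ Finset.card_le_card Finset.inter_subset_left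
  refine Helper26.isCoatom_stabilizer_of_classes s
    (fun y => if (s ∩ y).card = 0 then (if ∃ o ∈ octads, s ∪ y ⊆ o then 0 else 4)
      else (s ∩ y).card)
    (fun i => if i = 0 then 210 else if i = 1 then 630 else if i = 2 then 63
      else if i = 3 then 1 else 1120) {0, 1, 2, 3, 4} ?_ ?_ ?_ ?_ ?_ ?_
  · -- some other triad
    obtain ⟨y, hy, hyc⟩ := Finset.exists_subset_card_eq (s := sᶜ) (n := 3) (by
      rw [Finset.card_compl, hcard, hs]; omega)
    refine ⟨y, (horb y).2 hyc, ?_⟩
    intro hys
    have hne : y.Nonempty := Finset.card_pos.1 (by omega)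
    obtain ⟨a, ha⟩ := hne
    have := hy ha
    simp only [Finset.mem_compl] at this
    exact this (hys ▸ ha)
  · intro y hy hc
    rw [horb] at hy
    simp only [Finset.inter_self, hs, OfNat.ofNat_ne_zero, ↓reduceIte] at hc
    have h3 : (s ∩ y).card = 3 := by
      by_cases h0 : (s ∩ y).card = 0
      · rw [if_pos h0] at hc
        by_cases h1 : ∃ o ∈ octads, s ∪ y ⊆ o
        · rw [if_pos h1] at hc; omega
        · rw [if_neg h1] at hc; omega
      · rw [if_neg h0] at hc; exact hc
    have h1 : s ∩ y = s := Finset.eq_of_subset_of_card_le Finset.inter_subset_left (by omega)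
    have h2 : s ⊆ y := by
      rw [← h1]; exact Finset.inter_subset_right
    exact (Finset.eq_of_subset_of_card_le h2 (by omega)).symm
  · intro y hy y' hy' hc
    rw [horb] at hy hy'
    beta_reduce at hc
    by_cases h0 : (s ∩ y).card = 0
    · by_cases h0' : (s ∩ y').card = 0
      · rw [if_pos h0, if_pos h0'] at hc
        have hiff : (∃ o ∈ octads, s ∪ y ⊆ o) ↔ (∃ o ∈ octads, s ∪ y' ⊆ o) := by
          by_cases h1 : ∃ o ∈ octads, s ∪ y ⊆ o
          · by_cases h2 : ∃ o ∈ octads, s ∪ y' ⊆ o
            · exact ⟨fun _ => h2, fun _ => h1⟩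
            · rw [if_pos h1, if_neg h2] at hc; omega
          · by_cases h2 : ∃ o ∈ octads, s ∪ y' ⊆ o
            · rw [if_neg h1, if_pos h2] at hc; omega
            · exact ⟨fun h => absurd h h1, fun h => absurd h h2⟩
        obtain ⟨g, hg, hgs, hgy⟩ := Helper26.triad_trans s y y' hs hy hy'
          ((hdisj y).1 h0) ((hdisj y').1 h0') hiff
        exact ⟨⟨g, hg⟩, hgs, hgy⟩
      · rw [if_pos h0, if_neg h0'] at hc
        have := hle y'
        split_ifs at hc <;> omega
    · by_cases h0' : (s ∩ y').card = 0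
      · rw [if_neg h0, if_pos h0'] at hc
        have := hle y
        split_ifs at hc <;> omega
      · rw [if_neg h0, if_neg h0'] at hc
        obtain ⟨g, hg, hgs, hgy⟩ := Helper26.exists_smul_pair s y y' (by omega) hc (by omega)
        exact ⟨⟨g, hg⟩, hgs, hgy⟩
  · intro i hi
    simp only [Finset.mem_insert, Finset.mem_singleton] at hi
    have hnz : ∀ j, j ≠ 0 → j ≠ 4 →
        {y | y ∈ orbit M24 s ∧ (if (s ∩ y).card = 0 then (if ∃ o ∈ octads, s ∪ y ⊆ o then 0 else 4)
          else (s ∩ y).card) = j} = {y : Finset GolayPt | y.card = 3 ∧ (s ∩ y).card = j} := by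
      intro j hj0 hj4
      ext y
      simp only [Set.mem_ofPred_eq, horb]
      constructor
      · rintro ⟨h3, hc⟩
        refine ⟨h3, ?_⟩
        split_ifs at hc <;> omega
      · rintro ⟨h3, hc⟩
        refine ⟨h3, ?_⟩
        rw [if_neg (by omega), hc]
    rcases hi with rfl | rfl | rfl | rfl | rfl
    · have : {y | y ∈ orbit M24 s ∧ (if (s ∩ y).card = 0 then
          (if ∃ o ∈ octads, s ∪ y ⊆ o then 0 else 4) else (s ∩ y).card) = 0} =
          {U : Finset GolayPt | U.card = 3 ∧ Disjoint s U ∧ (∃ o ∈ octads, s ∪ U ⊆ o)} := by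
        ext y
        simp only [Set.mem_ofPred_eq, horb, ← hdisj]
        constructor
        · rintro ⟨h3, hc⟩
          by_cases h1 : (s ∩ y).card = 0
          · rw [if_pos h1] at hc
            by_cases h2 : ∃ o ∈ octads, s ∪ y ⊆ o
            · exact ⟨h3, h1, h2⟩
            · rw [if_neg h2] at hc; omega
          · rw [if_neg h1] at hc; omega
        · rintro ⟨h3, h1, h2⟩
          exact ⟨h3, by rw [if_pos h1, if_pos h2]⟩
      rw [this, Helper26.ncard_special_triads s hs]; rfl
    · rw [hnz 1 (by omega) (by omega), Helper26.ncard_subsets_inter_eq s 3 1 (by omega), hs, hcard]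
      decide
    · rw [hnz 2 (by omega) (by omega), Helper26.ncard_subsets_inter_eq s 3 2 (by omega), hs, hcard]
      decide
    · rw [hnz 3 (by omega) (by omega), Helper26.ncard_subsets_inter_eq s 3 3 (by omega), hs, hcard]
      decide
    · have : {y | y ∈ orbit M24 s ∧ (if (s ∩ y).card = 0 then
          (if ∃ o ∈ octads, s ∪ y ⊆ o then 0 else 4) else (s ∩ y).card) = 4} =
          {U : Finset GolayPt | U.card = 3 ∧ Disjoint s U ∧ ¬ (∃ o ∈ octads, s ∪ U ⊆ o)} := by
        ext y
        simp only [Set.mem_ofPred_eq, horb, ← hdisj]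
        constructor
        · rintro ⟨h3, hc⟩
          have := hle y
          by_cases h1 : (s ∩ y).card = 0
          · rw [if_pos h1] at hc
            by_cases h2 : ∃ o ∈ octads, s ∪ y ⊆ o
            · rw [if_pos h2] at hc; omega
            · exact ⟨h3, h1, h2⟩
          · rw [if_neg h1] at hc; omega
        · rintro ⟨h3, h1, h2⟩
          exact ⟨h3, by rw [if_pos h1, if_neg h2]⟩
      rw [this, Helper26.ncard_nonspecial_triads s hs]; rfl
  · intro y _
    have := hle y
    simp only [Finset.mem_insert, Finset.mem_singleton]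
    split_ifs <;> omega
  · simp only [Finset.inter_self, hs, OfNat.ofNat_ne_zero, ↓reduceIte]
    intro J hJ
    have hJ' := Finset.mem_powerset.2 hJ
    revert J
    decide

end Cfsg.Agent.S1564
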