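import Cfsg.Statements.S1565
import Cfsg.Agent.Helper26.OctadOrbits
import Cfsg.Agent.Helper26.OctadMeet
import Cfsg.Agent.Helper26.Coatom

set_option autoImplicit false
open scoped Pointwise
open Cfsg MulAction

namespace Cfsg.Agent.S1565

theorem mem_orbit_iff (o y : Finset GolayPt) (ho : o ∈ octads) :
    y ∈ orbit M24 o ↔ y ∈ octads := by
  constructor
  · rintro ⟨g, rfl⟩
    exact Helper7.smul_mem_octads g.2 ho
  · intro hy
    obtain ⟨g, hg, hgs⟩ := Helper7.exists_smul_octad_eq ho hy
    exact ⟨⟨g, hg⟩, hgs⟩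

/-- The stabiliser of a weight-8 support is a maximal proper subgroup of the group of the length-24 code. -/
theorem result (o : Finset Cfsg.GolayPt) (ho : o ∈ Cfsg.octads) : IsCoatom (MulAction.stabilizer Cfsg.M24 o) := by
  have hS := Helper27.octads_steiner
  have horb : ∀ y, y ∈ orbit M24 o ↔ y ∈ octads := fun y => mem_orbit_iff o y ho
  have hmc : ∀ j, {y | y ∈ orbit M24 o ∧ (o ∩ y).card = j}.ncard = Helper26.meetCount octads o j := by
    intro j
    unfold Helper26.meetCount
    congr 1
    ext y
    simp only [Set.mem_ofPred_eq, horb, Finset.inter_comm]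
  obtain ⟨m0, -, m2, -, m4⟩ := Helper26.meetCount_5_8_24 Helper26.card_golayPt hS ho
  have m8 := Helper26.meetCount_self hS ho
  refine Helper26.isCoatom_stabilizer_of_classes o (fun y => (o ∩ y).card)
    (fun i => if i = 0 then 30 else if i = 2 then 448 else if i = 4 then 280 else 1)
    {0, 2, 4, 8} ?_ ?_ ?_ ?_ ?_ ?_
  · obtain ⟨y, hy, hne⟩ := Set.exists_ne_of_one_lt_ncard (s := octads) (by
      rw [Helper27.octads_ncard]; norm_num) o
    exact ⟨y, (horb y).2 hy, hne⟩
  · intro y hy hc
    rw [horb] at hy
    simp only [Finset.inter_self] at hc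
    by_contra hne
    have := Helper27.octad_inter_le ho hy (Ne.symm hne)
    rw [hc, ho.2] at this
    omega
  · intro y hy y' hy' hc
    rw [horb] at hy hy'
    obtain ⟨g, hg, hgs, hgy⟩ := Helper26.octad_stab_trans ho hy hy' hc
    exact ⟨⟨g, hg⟩, hgs, hgy⟩
  · intro i hi
    simp only [Finset.mem_insert, Finset.mem_singleton] at hi
    rw [hmc]
    rcases hi with rfl | rfl | rfl | rfl
    · rw [m0]; rfl
    · rw [m2]; rfl
    · rw [m4]; rfl
    · rw [m8]; rfl
  · intro y hy
    rw [horb] at hy
    simp only [Finset.mem_insert, Finset.mem_singleton]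
    by_cases hne : o = y
    · subst hne
      rw [Finset.inter_self, ho.2]; simp
    · rcases Helper26.octad_inter_card hS ho hy hne with h | h | h <;> simp [h]
  · simp only [Finset.inter_self, ho.2]
    intro J hJ
    have hJ' := Finset.mem_powerset.2 hJ
    revert J
    decide

end Cfsg.Agent.S1565
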