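import Cfsg.Statements.S1566
import Cfsg.Agent.Helper26.DodecadOrbits
import Cfsg.Agent.Helper26.Dodecads
import Cfsg.Agent.Helper26.Coatom

set_option autoImplicit false
open scoped Pointwise
open Cfsg MulAction

namespace Cfsg.Agent.S1566

theorem smul_compl (g : Equiv.Perm GolayPt) (s : Finset GolayPt) : g • sᶜ = (g • s)ᶜ := by
  ext a
  rw [Finset.mem_compl, ← Finset.inv_smul_mem_iff, ← Finset.inv_smul_mem_iff, Finset.mem_compl]

theorem ne_compl {e : Finset GolayPt} (he : e ∈ dodecads) : e ≠ eᶜ := by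
  intro h
  have hne : e.Nonempty := Finset.card_pos.1 (by rw [he.2]; norm_num)
  obtain ⟨a, ha⟩ := hne
  have : a ∈ eᶜ := h ▸ ha
  exact (Finset.mem_compl.1 this) ha

/-- the pair of a dodecad and its complement -/
def pr (e : Finset GolayPt) : Finset (Finset GolayPt) := {e, eᶜ}

theorem smul_pr (g : Equiv.Perm GolayPt) (e : Finset GolayPt) : g • pr e = pr (g • e) := by
  unfold pr
  rw [Finset.smul_finset_insert, Finset.smul_finset_singleton, smul_compl]

theorem pr_compl (e : Finset GolayPt) : pr eᶜ = pr e := by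
  unfold pr
  rw [compl_compl, Finset.pair_comm]

theorem pr_eq_iff {e e' : Finset GolayPt} : pr e = pr e' ↔ e = e' ∨ e = e'ᶜ := by
  unfold pr
  constructor
  · intro h
    have : e ∈ ({e', e'ᶜ} : Finset (Finset GolayPt)) := h ▸ Finset.mem_insert_self _ _
    simpa using this
  · rintro (rfl | rfl)
    · rfl
    · rw [compl_compl, Finset.pair_comm]

/-- the class function -/
def cls (d : Finset GolayPt) (P : Finset (Finset GolayPt)) : ℕ := ∑ e ∈ P, (d ∩ e).card ^ 2

theorem cls_pr {d e : Finset GolayPt} (hd : d ∈ dodecads) (he : e ∈ dodecads) :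
    cls d (pr e) = (d ∩ e).card ^ 2 + (12 - (d ∩ e).card) ^ 2 := by
  unfold cls pr
  rw [Finset.sum_pair (ne_compl he)]
  have := Helper26.card_inter_compl d e
  rw [hd.2] at this
  have h2 : (d ∩ eᶜ).card = 12 - (d ∩ e).card := by omega
  rw [h2]

theorem mem_orbit_iff {d : Finset GolayPt} (hd : d ∈ dodecads) (P : Finset (Finset GolayPt)) :
    P ∈ orbit M24 (pr d) ↔ ∃ e ∈ dodecads, P = pr e := by
  constructor
  · rintro ⟨g, rfl⟩
    exact ⟨(g : Equiv.Perm GolayPt) • d, Helper7.smul_mem_dodecads g.2 hd, smul_pr _ _⟩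
  · rintro ⟨e, he, rfl⟩
    obtain ⟨g, hg, hge⟩ := Helper26.exists_smul_dodecad_eq hd he
    refine ⟨⟨g, hg⟩, ?_⟩
    show g • pr d = pr e
    rw [smul_pr, hge]

theorem inter_eq_self_of_card {d e : Finset GolayPt} (hd : d ∈ dodecads) (he : e ∈ dodecads)
    (h : (d ∩ e).card = 12) : e = d := by
  have h1 : d ∩ e = d := Finset.eq_of_subset_of_card_le Finset.inter_subset_left (by rw [h, hd.2])
  have h2 : d ⊆ e := by rw [← h1]; exact Finset.inter_subset_right
  exact (Finset.eq_of_subset_of_card_le h2 (by rw [he.2, hd.2])).symm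

theorem sq_cases {a b : ℕ} (ha : a ≤ 12) (hb : b ≤ 12)
    (h : a ^ 2 + (12 - a) ^ 2 = b ^ 2 + (12 - b) ^ 2) : a = b ∨ a = 12 - b := by
  interval_cases a <;> interval_cases b <;> simp_all

/-- pairs from the dodecads meeting `d` in 8 points -/
theorem ncard_class_eighty {d : Finset GolayPt} (hd : d ∈ dodecads) :
    {P | P ∈ orbit M24 (pr d) ∧ cls d P = 80}.ncard = 495 := by
  rw [← Helper26.ncard_dodecads_meet_eight hd]
  symm
  refine Set.ncard_congr (fun e _ => pr e) ?_ ?_ ?_
  · rintro e ⟨he, h8⟩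
    refine ⟨(mem_orbit_iff hd _).2 ⟨e, he, rfl⟩, ?_⟩
    rw [cls_pr hd he, h8]; rfl
  · rintro a b ⟨ha, ha8⟩ ⟨hb, hb8⟩ h
    rcases pr_eq_iff.1 h with h | h
    · exact h
    · exfalso
      have := Helper26.card_inter_compl d b
      rw [hd.2, ← h] at this
      omega
  · rintro P ⟨hP, hc⟩
    obtain ⟨e, he, rfl⟩ := (mem_orbit_iff hd _).1 hP
    rw [cls_pr hd he] at hc
    have hle : (d ∩ e).card ≤ 12 := hd.2 ▸ Finset.card_le_card Finset.inter_subset_left
    rcases Helper26.dodecad_inter_card hd he with h | h | h | h | h <;> rw [h] at hc <;>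
      norm_num at hc
    · refine ⟨eᶜ, ⟨Helper26.compl_mem_dodecads he, ?_⟩, pr_compl e⟩
      have := Helper26.card_inter_compl d e
      rw [hd.2] at this
      omega
    · exact ⟨e, ⟨he, h⟩, rfl⟩

/-- pairs from the dodecads meeting `d` in 6 points: a 2-to-1 count -/
theorem ncard_class_seventytwo {d : Finset GolayPt} (hd : d ∈ dodecads) :
    {P | P ∈ orbit M24 (pr d) ∧ cls d P = 72}.ncard = 792 := by
  classical
  have hfin : {e : Finset GolayPt | e ∈ dodecads ∧ (d ∩ e).card = 6}.Finite := Set.toFinite _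
  set S : Finset (Finset GolayPt) := hfin.toFinset with hS
  have hmem : ∀ e, e ∈ S ↔ e ∈ dodecads ∧ (d ∩ e).card = 6 := fun e => by
    rw [hS, Set.Finite.mem_toFinset]; rfl
  have hScard : S.card = 1584 := by
    rw [← Helper26.ncard_dodecads_meet_six hd, Set.ncard_eq_toFinset_card _ hfin]
  have hcompl : ∀ e ∈ S, eᶜ ∈ S := by
    intro e he
    rw [hmem] at he ⊢
    refine ⟨Helper26.compl_mem_dodecads he.1, ?_⟩
    have := Helper26.card_inter_compl d e
    rw [hd.2] at this
    omega
  have himg : {P | P ∈ orbit M24 (pr d) ∧ cls d P = 72} = ↑(S.image pr) := by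
    ext P
    simp only [Set.mem_ofPred_eq, Finset.coe_image, Set.mem_image, Finset.mem_coe]
    constructor
    · rintro ⟨hP, hc⟩
      obtain ⟨e, he, rfl⟩ := (mem_orbit_iff hd _).1 hP
      refine ⟨e, (hmem e).2 ⟨he, ?_⟩, rfl⟩
      rw [cls_pr hd he] at hc
      rcases Helper26.dodecad_inter_card hd he with h | h | h | h | h <;> rw [h] at hc <;>
        norm_num at hc
      exact h
    · rintro ⟨e, he, rfl⟩
      rw [hmem] at he
      refine ⟨(mem_orbit_iff hd _).2 ⟨e, he.1, rfl⟩, ?_⟩
      rw [cls_pr hd he.1, he.2]; rfl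
  rw [himg, Set.ncard_coe_finset]
  have hfib := Finset.card_eq_sum_card_fiberwise (s := S) (t := S.image pr) (f := pr)
    (fun e he => Finset.mem_image_of_mem _ he)
  have h2 : ∀ P ∈ S.image pr, (S.filter fun e => pr e = P).card = 2 := by
    intro P hP
    obtain ⟨e₀, he₀, rfl⟩ := Finset.mem_image.1 hP
    have : S.filter (fun e => pr e = pr e₀) = {e₀, e₀ᶜ} := by
      ext e
      simp only [Finset.mem_filter, Finset.mem_insert, Finset.mem_singleton, pr_eq_iff]
      constructor
      · exact fun h => h.2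
      · rintro (rfl | rfl)
        · exact ⟨he₀, Or.inl rfl⟩
        · exact ⟨hcompl _ he₀, Or.inr rfl⟩
    rw [this, Finset.card_pair (ne_compl ((hmem e₀).1 he₀).1)]
  rw [Finset.sum_congr rfl h2, Finset.sum_const, smul_eq_mul, hScard] at hfib
  omega

theorem result (d : Finset Cfsg.GolayPt) (hd : d ∈ Cfsg.dodecads) : IsCoatom (MulAction.stabilizer Cfsg.M24 ({d, dᶜ} : Finset (Finset Cfsg.GolayPt))) := by
  show IsCoatom (MulAction.stabilizer M24 (pr d))
  have hcx : cls d (pr d) = 144 := by
    rw [cls_pr hd hd, Finset.inter_self, hd.2]; rfl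
  have hle : ∀ e : Finset GolayPt, (d ∩ e).card ≤ 12 :=
    fun e => hd.2 ▸ Finset.card_le_card Finset.inter_subset_left
  refine Helper26.isCoatom_stabilizer_of_classes (pr d) (cls d)
    (fun i => if i = 144 then 1 else if i = 80 then 495 else 792) {72, 80, 144} ?_ ?_ ?_ ?_ ?_ ?_
  · -- another pair
    have h495 := Helper26.ncard_dodecads_meet_eight hd
    have hne : {d' : Finset GolayPt | d' ∈ dodecads ∧ (d ∩ d').card = 8}.Nonempty := by
      rw [← Set.ncard_pos (Set.toFinite _), h495]; norm_num
    obtain ⟨e, he, h8⟩ := hne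
    refine ⟨pr e, (mem_orbit_iff hd _).2 ⟨e, he, rfl⟩, ?_⟩
    intro h
    have := cls_pr hd he
    rw [h, hcx, h8] at this
    norm_num at this
  · intro P hP hc
    obtain ⟨e, he, rfl⟩ := (mem_orbit_iff hd _).1 hP
    rw [hcx, cls_pr hd he] at hc
    rcases Helper26.dodecad_inter_card hd he with h | h | h | h | h <;> rw [h] at hc <;>
      norm_num at hc
    · -- e = dᶜ
      have h1 : (d ∩ eᶜ).card = 12 := by
        have := Helper26.card_inter_compl d e
        rw [hd.2] at this
        omega
      have := inter_eq_self_of_card hd (Helper26.compl_mem_dodecads he) h1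
      rw [← pr_compl e, this]
    · rw [inter_eq_self_of_card hd he h]
  · intro P hP P' hP' hc
    obtain ⟨e, he, rfl⟩ := (mem_orbit_iff hd _).1 hP
    obtain ⟨e', he', rfl⟩ := (mem_orbit_iff hd _).1 hP'
    rw [cls_pr hd he, cls_pr hd he'] at hc
    -- WLOG the meets agree
    have key : ∀ e'' ∈ dodecads, (d ∩ e).card = (d ∩ e'').card →
        ∃ h ∈ stabilizer M24 (pr d), h • pr e = pr e'' := by
      intro e'' he'' heq
      obtain ⟨g, hg, hgd, hge⟩ := Helper26.dodecad_stab_trans hd he he'' heq
      refine ⟨⟨g, hg⟩, ?_, ?_⟩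
      · rw [mem_stabilizer_iff]
        show g • pr d = pr d
        rw [smul_pr, hgd]
      · show g • pr e = pr e''
        rw [smul_pr, hge]
    rcases sq_cases (hle e) (hle e') hc with h | h
    · exact key e' he' h
    · have h1 : (d ∩ e).card = (d ∩ e'ᶜ).card := by
        have := Helper26.card_inter_compl d e'
        rw [hd.2] at this
        omega
      obtain ⟨g, hg, e1⟩ := key e'ᶜ (Helper26.compl_mem_dodecads he') h1
      exact ⟨g, hg, by rw [e1, pr_compl]⟩
  · intro i hi
    simp only [Finset.mem_insert, Finset.mem_singleton] at hi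
    rcases hi with rfl | rfl | rfl
    · rw [ncard_class_seventytwo hd]; rfl
    · rw [ncard_class_eighty hd]; rfl
    · have : {y | y ∈ orbit M24 (pr d) ∧ cls d y = 144} = {pr d} := by
        ext P
        simp only [Set.mem_ofPred_eq, Set.mem_singleton_iff]
        constructor
        · rintro ⟨hP, hc⟩
          obtain ⟨e, he, rfl⟩ := (mem_orbit_iff hd _).1 hP
          rw [cls_pr hd he] at hc
          rcases Helper26.dodecad_inter_card hd he with h | h | h | h | h <;> rw [h] at hc <;>
            norm_num at hc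
          · have h1 : (d ∩ eᶜ).card = 12 := by
              have := Helper26.card_inter_compl d e
              rw [hd.2] at this
              omega
            have := inter_eq_self_of_card hd (Helper26.compl_mem_dodecads he) h1
            rw [← pr_compl e, this]
          · rw [inter_eq_self_of_card hd he h]
        · rintro rfl
          exact ⟨mem_orbit_self _, hcx⟩
      rw [this, Set.ncard_singleton]; rfl
  · intro P hP
    obtain ⟨e, he, rfl⟩ := (mem_orbit_iff hd _).1 hP
    rw [cls_pr hd he]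
    simp only [Finset.mem_insert, Finset.mem_singleton]
    rcases Helper26.dodecad_inter_card hd he with h | h | h | h | h <;> rw [h] <;> norm_num
  · rw [hcx]
    intro J hJ
    have hJ' := Finset.mem_powerset.2 hJ
    revert J
    decide

end Cfsg.Agent.S1566
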