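import Cfsg.Statements.S1568
import Cfsg.Agent.Helper8.LeechCount2

set_option autoImplicit false
open Cfsg

namespace Cfsg.Agent.S1568

open Cfsg.Agent.Helper8 Cfsg.Agent.Helper26

def U1 : List ℤ := [0, 2, -2]
def U2 : List ℤ := [1, -1, 3, -3]
def U3 : List ℤ := [0, 1, -1, 2, -2, 3, -3, 5, -5, 6, -6, 7, -7, 8, -8]
def U4 : List ℤ := [0, 1, -1, 2, -2, 3, -3, 4, -4, 6, -6, 7, -7, 8, -8]

theorem count1 : leechCountU U1 48 = 5275648 := by decide +kernel
theorem count2 : leechCountU U2 48 = 8290304 := by decide +kernel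
theorem count3 : leechCountU U3 48 + 3108864 = 16773120 := by decide +kernel
theorem count4 : leechCountU U4 48 + 98304 = 16773120 := by decide +kernel
theorem countAll : leechCount 48 = 16773120 := by decide +kernel

/-- the set of all vectors of sum of squares 48 -/
def T : Set (GolayPt → ℤ) := {x | x ∈ leechLattice ∧ sqNorm x = 48}

theorem T_finite : T.Finite := by
  have h := coe_leechF (N := 48) (by norm_num)
  unfold T
  rw [← h]
  exact Finset.finite_toSet _

theorem ncard_T : T.ncard = 16773120 := by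
  have h := ncard_leech 48 (by norm_num)
  rw [countAll] at h
  exact_mod_cast h

/-- vectors with an entry of absolute value `a` are those not avoiding `±a` -/
theorem ncard_exists_abs (U : List ℤ) (a : ℤ) (c : ℕ)
    (hU : ∀ v : ℤ, -8 ≤ v → v ≤ 8 → (v ∈ U ↔ ¬ |v| = a))
    (hc : leechCountU U 48 + c = 16773120) :
    {x : GolayPt → ℤ | x ∈ leechLattice ∧ sqNorm x = 48 ∧ ∃ i, |x i| = a}.ncard = c := by
  have h1 : {x : GolayPt → ℤ | x ∈ leechLattice ∧ sqNorm x = 48 ∧ ∃ i, |x i| = a} =
      T \ {x | x ∈ leechLattice ∧ sqNorm x = 48 ∧ ∀ i, x i ∈ U} := by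
    ext x
    simp only [T, Set.mem_ofPred_eq, Set.mem_sdiff]
    constructor
    · rintro ⟨hx, hn, i, hi⟩
      refine ⟨⟨hx, hn⟩, ?_⟩
      rintro ⟨_, _, h⟩
      have hb := entry_bound (N := 48) (by norm_num) hn i
      exact ((hU (x i) hb.1 hb.2).mp (h i)) hi
    · rintro ⟨⟨hx, hn⟩, h⟩
      refine ⟨hx, hn, ?_⟩
      by_contra hcon
      simp only [not_exists] at hcon
      apply h
      refine ⟨hx, hn, fun i => ?_⟩
      have hb := entry_bound (N := 48) (by norm_num) hn i
      exact (hU (x i) hb.1 hb.2).mpr (hcon i)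
  have hsub : {x : GolayPt → ℤ | x ∈ leechLattice ∧ sqNorm x = 48 ∧ ∀ i, x i ∈ U} ⊆ T := by
    intro x hx
    exact ⟨hx.1, hx.2.1⟩
  rw [h1, Set.ncard_sdiff hsub (T_finite.subset hsub), ncard_T]
  have := ncard_leechU U 48 (by norm_num)
  norm_num at this
  rw [this]
  omega

theorem sum_sq_lower (x : GolayPt → ℤ) (S : Finset GolayPt) (h1 : ∀ l, 1 ≤ x l ^ 2)
    (h9 : ∀ l ∈ S, 9 ≤ x l ^ 2) : 24 + 8 * (S.card : ℤ) ≤ ∑ l, x l ^ 2 := by
  have hb : ∀ l ∈ Finset.univ, (1 + if l ∈ S then (8 : ℤ) else 0) ≤ x l ^ 2 := by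
    intro l _
    by_cases hl : l ∈ S
    · rw [if_pos hl]
      have := h9 l hl
      linarith
    · rw [if_neg hl]
      have := h1 l
      linarith
  have := Finset.sum_le_sum hb
  rw [Finset.sum_add_distrib, Finset.sum_const, Finset.card_univ, card_golayPt,
    Finset.sum_ite_mem, Finset.univ_inter, Finset.sum_const] at this
  simp only [nsmul_eq_mul, mul_one, Nat.cast_ofNat] at this
  linarith

theorem three_iff {x : GolayPt → ℤ} (hx : x ∈ leechLattice) (hn : sqNorm x = 48) :
    (∃ i j k, i ≠ j ∧ j ≠ k ∧ i ≠ k ∧ |x i| = 3 ∧ |x j| = 3 ∧ |x k| = 3) ↔ ∀ l, x l ∈ U2 := by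
  have hU2 : ∀ v : ℤ, v ∈ U2 ↔ v = 1 ∨ v = -1 ∨ v = 3 ∨ v = -3 := by
    intro v
    simp [U2]
  constructor
  · rintro ⟨i, j, k, hij, hjk, hik, hi, hj, hk⟩
    rw [mem_leechLattice_iff] at hx
    obtain ⟨m, hm, _, _⟩ := hx
    simp only [Int.ModEq] at hm
    have hodd : ∀ l, x l % 2 = 1 := by
      intro l
      have h1 := hm i
      have h2 := hm l
      have : x i = 3 ∨ x i = -3 := by
        rcases abs_cases (x i) with h | h <;> omega
      omega
    have h1 : ∀ l, 1 ≤ x l ^ 2 := by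
      intro l
      have := hodd l
      have h0 : x l ≠ 0 := by omega
      have : 0 < x l ^ 2 := by positivity
      omega
    have h9 : ∀ {l}, |x l| = 3 → 9 ≤ x l ^ 2 := by
      intro l hl
      rw [← sq_abs, hl]
      norm_num
    intro l
    rw [hU2]
    by_contra hl
    have hodd_l := hodd l
    have hl9 : 9 ≤ x l ^ 2 := by
      have : x l ≤ -3 ∨ 3 ≤ x l := by omega
      rcases this with h | h <;> nlinarith
    have hli : l ≠ i := by
      rintro rfl
      rcases abs_cases (x l) with h | h <;> omega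
    have hlj : l ≠ j := by
      rintro rfl
      rcases abs_cases (x l) with h | h <;> omega
    have hlk : l ≠ k := by
      rintro rfl
      rcases abs_cases (x l) with h | h <;> omega
    have hcard : ({i, j, k, l} : Finset GolayPt).card = 4 := by
      rw [Finset.card_insert_of_notMem, Finset.card_insert_of_notMem,
        Finset.card_insert_of_notMem, Finset.card_singleton]
      · simp only [Finset.mem_singleton]; exact fun h => hlk h.symm
      · simp only [Finset.mem_insert, Finset.mem_singleton]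
        rintro (h | h)
        · exact hjk h
        · exact hlj h.symm
      · simp only [Finset.mem_insert, Finset.mem_singleton]
        rintro (h | h | h)
        · exact hij h
        · exact hik h
        · exact hli h.symm
    have := sum_sq_lower x {i, j, k, l} h1 (by
      intro t ht
      simp only [Finset.mem_insert, Finset.mem_singleton] at ht
      rcases ht with rfl | rfl | rfl | rfl
      · exact h9 hi
      · exact h9 hj
      · exact h9 hk
      · exact hl9)
    rw [hcard] at this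
    unfold sqNorm at hn
    rw [hn] at this
    norm_num at this
  · intro h
    have hsq : ∀ l ∈ Finset.univ, x l ^ 2 = 1 + if |x l| = 3 then (8 : ℤ) else 0 := by
      intro l _
      have := (hU2 _).mp (h l)
      rcases this with h' | h' | h' | h' <;> rw [h'] <;> norm_num
    unfold sqNorm at hn
    rw [Finset.sum_congr rfl hsq, Finset.sum_add_distrib, Finset.sum_const, Finset.card_univ,
      card_golayPt, ← Finset.sum_filter, Finset.sum_const] at hn
    simp only [nsmul_eq_mul, mul_one, Nat.cast_ofNat] at hn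
    have hc : (Finset.univ.filter fun l => |x l| = 3).card = 3 := by
      have : ((Finset.univ.filter fun l => |x l| = 3).card : ℤ) = 3 := by linarith
      exact_mod_cast this
    rw [Finset.card_eq_three] at hc
    obtain ⟨i, j, k, hij, hik, hjk, hS⟩ := hc
    have hmem : ∀ t, t ∈ ({i, j, k} : Finset GolayPt) → |x t| = 3 := by
      intro t ht
      rw [← hS, Finset.mem_filter] at ht
      exact ht.2
    exact ⟨i, j, k, hij, hjk, hik, hmem i (by simp), hmem j (by simp), hmem k (by simp)⟩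


/-- Shape census of the lattice vectors of sum of squares 48 (customary norm 6): the four families (2^12, 0^12), (±3^3, ±1^21), (±4, ±2^8, 0^15) and (±5, ±1^23) have 5275648, 8290304, 3108864 and 98304 members. -/
theorem result : {x : Cfsg.GolayPt → ℤ | x ∈ Cfsg.leechLattice ∧ Cfsg.sqNorm x = 48 ∧ ∀ i, x i = 0 ∨ x i = 2 ∨ x i = -2}.ncard = 5275648 ∧ {x : Cfsg.GolayPt → ℤ | x ∈ Cfsg.leechLattice ∧ Cfsg.sqNorm x = 48 ∧ ∃ i j k, i ≠ j ∧ j ≠ k ∧ i ≠ k ∧ |x i| = 3 ∧ |x j| = 3 ∧ |x k| = 3}.ncard = 8290304 ∧ {x : Cfsg.GolayPt → ℤ | x ∈ Cfsg.leechLattice ∧ Cfsg.sqNorm x = 48 ∧ ∃ i, |x i| = 4}.ncard = 3108864 ∧ {x : Cfsg.GolayPt → ℤ | x ∈ Cfsg.leechLattice ∧ Cfsg.sqNorm x = 48 ∧ ∃ i, |x i| = 5}.ncard = 98304 := by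
  refine ⟨?_, ?_, ?_, ?_⟩
  · have h := ncard_leechU U1 48 (by norm_num)
    rw [count1] at h
    have e : {x : Cfsg.GolayPt → ℤ | x ∈ Cfsg.leechLattice ∧ Cfsg.sqNorm x = 48 ∧ ∀ i, x i = 0 ∨ x i = 2 ∨ x i = -2} =
        {x : GolayPt → ℤ | x ∈ leechLattice ∧ sqNorm x = ((48 : ℕ) : ℤ) ∧ ∀ i, x i ∈ U1} := by
      ext x
      simp [U1]
    rw [e]
    exact h
  · have h := ncard_leechU U2 48 (by norm_num)
    rw [count2] at h
    have e : {x : Cfsg.GolayPt → ℤ | x ∈ Cfsg.leechLattice ∧ Cfsg.sqNorm x = 48 ∧ ∃ i j k, i ≠ j ∧ j ≠ k ∧ i ≠ k ∧ |x i| = 3 ∧ |x j| = 3 ∧ |x k| = 3} =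
        {x : GolayPt → ℤ | x ∈ leechLattice ∧ sqNorm x = ((48 : ℕ) : ℤ) ∧ ∀ i, x i ∈ U2} := by
      ext x
      simp only [Set.mem_ofPred_eq, Nat.cast_ofNat]
      constructor
      · rintro ⟨hx, hn, h3⟩
        exact ⟨hx, hn, (three_iff hx hn).mp h3⟩
      · rintro ⟨hx, hn, h3⟩
        exact ⟨hx, hn, (three_iff hx hn).mpr h3⟩
    rw [e]
    exact h
  · apply ncard_exists_abs U3 4 3108864 _ count3
    intro v h1 h2
    simp only [U3, List.mem_cons, List.not_mem_nil, or_false]
    rcases abs_cases v with h | h <;> omega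
  · apply ncard_exists_abs U4 5 98304 _ count4
    intro v h1 h2
    simp only [U4, List.mem_cons, List.not_mem_nil, or_false]
    rcases abs_cases v with h | h <;> omega

end Cfsg.Agent.S1568
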