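-- Statement S1572: the stabiliser of the standard cross (the monomial group) is a maximal subgroup
-- of the automorphism group of the rank-24 lattice.
import Cfsg.Statements.S1572
import Cfsg.Agent.Helper8.MaxCount

set_option autoImplicit false
open scoped Pointwise
open Cfsg

namespace Cfsg.Agent.S1572

/-- The stabiliser of the standard cross is a maximal proper subgroup of the lattice's automorphism group. -/
theorem result (H : Subgroup ↥Cfsg.Co0) (hH : (H : Set ↥Cfsg.Co0) = {g : ↥Cfsg.Co0 | (∀ v : ↥Cfsg.leechLattice, (v : Cfsg.GolayPt → ℤ) ∈ Cfsg.stdCross → ((g • v : ↥Cfsg.leechLattice) : Cfsg.GolayPt → ℤ) ∈ Cfsg.stdCross)}) : IsCoatom H := by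
  have hHm : H = Cfsg.Agent.Helper92.Co1.monoSub := by
    apply SetLike.coe_injective
    rw [hH]
    rfl
  subst hHm
  refine ⟨?_, ?_⟩
  · intro htop
    have h1 := Cfsg.Agent.Helper92.Co1.card_monoSub
    rw [htop, Subgroup.card_top, Cfsg.Agent.Helper8.card_co0] at h1
    norm_num at h1
  · intro J hlt
    obtain ⟨h, hh, hfix, hnot⟩ := Cfsg.Agent.Helper8.Mx.exists_fix_vA0 hlt.le hlt.ne'
    exact Cfsg.Agent.Helper8.Mx.eq_top_of_xi_mem hlt.le
      (Cfsg.Agent.Helper8.Mx.xi_mem_of_fix_vA0 hlt.le hh hfix hnot)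

end Cfsg.Agent.S1572
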