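import Cfsg.Statements.S1578
import Cfsg.Agent.Helper8.Decomp48b

set_option autoImplicit false
open Cfsg

namespace Cfsg.Agent.S1578

/-- A lattice vector of customary norm 6 is the sum of an unordered pair of minimal vectors in exactly 276 ways (552 ordered summands). -/
theorem result (u : ↥Cfsg.leechLattice) (hu : Cfsg.sqNorm (u : Cfsg.GolayPt → ℤ) = 48) : {v : ↥Cfsg.leechLattice | Cfsg.sqNorm (v : Cfsg.GolayPt → ℤ) = 32 ∧ Cfsg.sqNorm ((u - v) : Cfsg.GolayPt → ℤ) = 32}.ncard = 552 := by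
  classical
  have h := Cfsg.Agent.Helper8.card_summands u.2 hu
  rw [← h, ← Set.ncard_coe_finset]
  apply Set.ncard_congr (fun (v : ↥Cfsg.leechLattice) _ => (v : Cfsg.GolayPt → ℤ))
  · intro v hv
    rw [Finset.mem_coe, Cfsg.Agent.Helper8.mem_summands]
    exact ⟨v.2, hv.1, hv.2⟩
  · intro a b _ _ hab
    exact Subtype.ext hab
  · intro x hx
    rw [Finset.mem_coe, Cfsg.Agent.Helper8.mem_summands] at hx
    exact ⟨⟨x, hx.1⟩, ⟨hx.2.1, hx.2.2⟩, rfl⟩

end Cfsg.Agent.S1578
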