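import Cfsg.Statements.S1579
import Cfsg.Agent.S1575
import Cfsg.Agent.Helper8.PairCensus2

set_option autoImplicit false
open Cfsg

namespace Cfsg.Agent.S1579

/-- The stabiliser of a vector of customary norm 6 is transitive on the 552 minimal vectors that complete it to a sum of two minimal vectors. -/
theorem result (u v v' : ↥Cfsg.leechLattice) (hu : Cfsg.sqNorm (u : Cfsg.GolayPt → ℤ) = 48) (hv : Cfsg.sqNorm (v : Cfsg.GolayPt → ℤ) = 32 ∧ Cfsg.sqNorm ((u - v) : Cfsg.GolayPt → ℤ) = 32) (hv' : Cfsg.sqNorm (v' : Cfsg.GolayPt → ℤ) = 32 ∧ Cfsg.sqNorm ((u - v') : Cfsg.GolayPt → ℤ) = 32) : ∃ g : ↥Cfsg.Co0, g • u = u ∧ g • v = v' := by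
  obtain ⟨hv1, hv2⟩ := hv
  obtain ⟨hv1', hv2'⟩ := hv'
  have key : ∀ x : ↥Cfsg.leechLattice, Cfsg.sqNorm (x : Cfsg.GolayPt → ℤ) = 32 →
      Cfsg.sqNorm ((u : Cfsg.GolayPt → ℤ) - (x : Cfsg.GolayPt → ℤ)) = 32 →
      Cfsg.sqNorm ((u - x : ↥Cfsg.leechLattice) : Cfsg.GolayPt → ℤ) = 32 ∧
      Cfsg.dotInt (x : Cfsg.GolayPt → ℤ) ((u - x : ↥Cfsg.leechLattice) : Cfsg.GolayPt → ℤ) = -8 := by
    intro x h1 h2
    have e : (u : Cfsg.GolayPt → ℤ) =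
        (x : Cfsg.GolayPt → ℤ) + ((u : Cfsg.GolayPt → ℤ) - (x : Cfsg.GolayPt → ℤ)) := by abel
    have h3 := Cfsg.Agent.Helper8.sqNorm_add (x : Cfsg.GolayPt → ℤ)
      ((u : Cfsg.GolayPt → ℤ) - (x : Cfsg.GolayPt → ℤ))
    rw [← e, hu, h1, h2] at h3
    rw [AddSubgroup.coe_sub]
    exact ⟨h2, by omega⟩
  obtain ⟨g1, hg1⟩ := Cfsg.Agent.Helper8.co0_transitive_min32 v v' hv1 hv1'
  obtain ⟨g2, hg2a, hg2b⟩ := Cfsg.Agent.S1575.result v' (g1 • (u - v)) (u - v') hv1'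
    (by rw [Cfsg.Agent.Helper8.co0_sqNorm]; exact (key v hv1 hv2).1) (key v' hv1' hv2').1
    (by rw [← hg1, Cfsg.Agent.Helper8.co0_dotInt]; exact (key v hv1 hv2).2) (key v' hv1' hv2').2
  refine ⟨g2 * g1, ?_, ?_⟩
  · calc (g2 * g1) • u = (g2 * g1) • (v + (u - v)) := by
          congr 1
          abel
      _ = (g2 * g1) • v + (g2 * g1) • (u - v) := (g2 * g1).2.1 _ _
      _ = v' + (u - v') := by rw [mul_smul, mul_smul, hg1, hg2a, hg2b]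
      _ = u := by abel
  · rw [mul_smul, hg1, hg2a]

end Cfsg.Agent.S1579
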