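import Cfsg.Statements.S1585
import Cfsg.Agent.S1640
import Cfsg.Agent.S0401

set_option autoImplicit false
open Cfsg

namespace Cfsg.Agent.S1585

open Cfsg.Agent.Helper8

/-- Two vectors of customary norm 6 with inner product −4 are exchanged by some automorphism of the lattice. -/
theorem result (v w : ↥Cfsg.leechLattice) (hv : Cfsg.sqNorm (v : Cfsg.GolayPt → ℤ) = 48) (hw : Cfsg.sqNorm (w : Cfsg.GolayPt → ℤ) = 48) (hvw : Cfsg.dotInt (v : Cfsg.GolayPt → ℤ) (w : Cfsg.GolayPt → ℤ) = -32) : ∃ g : ↥Cfsg.Co0, g • v = w ∧ g • w = v := by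
  have hm : sqNorm ((-(v + w) : ↥leechLattice) : GolayPt → ℤ) = 32 := by
    rw [AddSubgroup.coe_neg, sqNorm_neg', AddSubgroup.coe_add, sqNorm_add, hv, hw, hvw]
    norm_num
  have hvm : dotInt (v : GolayPt → ℤ) ((-(v + w) : ↥leechLattice) : GolayPt → ℤ) = -16 := by
    rw [AddSubgroup.coe_neg, AddSubgroup.coe_add, dotInt_neg_right, dotInt_add_right, dotInt_self,
      hv, hvw]
    norm_num
  have hwm : dotInt (w : GolayPt → ℤ) ((-(v + w) : ↥leechLattice) : GolayPt → ℤ) = -16 := by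
    rw [AddSubgroup.coe_neg, AddSubgroup.coe_add, dotInt_neg_right, dotInt_add_right, dotInt_self,
      hw, dotInt_comm, hvw]
    norm_num
  obtain ⟨g₀, hg₀⟩ := Cfsg.Agent.S0401.result v w hv hw
  have h1 : sqNorm ((g₀ • (-(v + w)) : ↥leechLattice) : GolayPt → ℤ) = 32 := by
    rw [co0_sqNorm, hm]
  have h2 : dotInt (w : GolayPt → ℤ) ((g₀ • (-(v + w)) : ↥leechLattice) : GolayPt → ℤ) = -16 := by
    have := co0_dotInt g₀ v (-(v + w))
    rw [hg₀] at this
    rw [this, hvm]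
  obtain ⟨h, hh1, hh2⟩ := (Cfsg.Agent.S1640.result w hw).2 (g₀ • (-(v + w))) ⟨h1, h2⟩
    (-(v + w)) ⟨hm, hwm⟩
  have hgv : (h * g₀) • v = w := by rw [mul_smul, hg₀, hh1]
  refine ⟨h * g₀, hgv, ?_⟩
  have key : (h * g₀) • (-(v + w)) = -(v + w) := by rw [mul_smul, hh2]
  rw [co0_smul_neg, neg_inj] at key
  have hadd : (h * g₀) • (v + w) = (h * g₀) • v + (h * g₀) • w := by
    rw [← co0Hom_apply, map_add]
    rfl
  rw [hadd, hgv] at key
  have e : w + (h * g₀) • w = w + v := by rw [key, add_comm]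
  exact add_left_cancel e

end Cfsg.Agent.S1585
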