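import Cfsg.Statements.S1590
import Cfsg.Agent.Helper27.Ternary

set_option autoImplicit false
open Cfsg

namespace Cfsg.Agent.S1590

open Cfsg.Agent.Helper27

theorem card_code : Nat.card ↥Cfsg.ternaryGolayCode = 729 := by
  have h := ncard_ternary_filter (fun _ => True)
  have h1 : {x | x ∈ Cfsg.ternaryGolayCode ∧ True} = (Cfsg.ternaryGolayCode : Set (ArrayPt → ZMod 3)) := by
    ext; simp
  rw [h1] at h
  have h2 : (Finset.univ.filter fun _ : T6 => True).card = 729 := by
    rw [Finset.filter_true_of_mem (fun _ _ => trivial), Finset.card_univ]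
    simp [T6, ZMod.card]
  rw [h2] at h
  rw [← h]
  rfl

theorem c6 : (Finset.univ.filter fun t : T6 => (Cfsg.ternarySupport (tgEnc t)).card = 6).card = 264 := by
  decide +kernel
theorem c9 : (Finset.univ.filter fun t : T6 => (Cfsg.ternarySupport (tgEnc t)).card = 9).card = 440 := by
  decide +kernel
theorem c12 : (Finset.univ.filter fun t : T6 => (Cfsg.ternarySupport (tgEnc t)).card = 12).card = 24 := by
  decide +kernel
theorem wts : ∀ t : T6, tgEnc t ≠ 0 → (Cfsg.ternarySupport (tgEnc t)).card = 6 ∨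
    (Cfsg.ternarySupport (tgEnc t)).card = 9 ∨ (Cfsg.ternarySupport (tgEnc t)).card = 12 := by
  decide +kernel


/-- The length-12 ternary code has 729 words with weight distribution 0^1 6^264 9^440 12^24. -/
theorem result : Nat.card ↥Cfsg.ternaryGolayCode = 729 ∧ (∀ x ∈ Cfsg.ternaryGolayCode, x ≠ 0 → (Cfsg.ternarySupport x).card = 6 ∨ (Cfsg.ternarySupport x).card = 9 ∨ (Cfsg.ternarySupport x).card = 12) ∧ {x : Cfsg.ArrayPt → ZMod 3 | x ∈ Cfsg.ternaryGolayCode ∧ (Cfsg.ternarySupport x).card = 6}.ncard = 264 ∧ {x : Cfsg.ArrayPt → ZMod 3 | x ∈ Cfsg.ternaryGolayCode ∧ (Cfsg.ternarySupport x).card = 9}.ncard = 440 ∧ {x : Cfsg.ArrayPt → ZMod 3 | x ∈ Cfsg.ternaryGolayCode ∧ (Cfsg.ternarySupport x).card = 12}.ncard = 24 := by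
  refine ⟨card_code, ?_, ?_, ?_, ?_⟩
  · exact forall_ternary _ wts
  · rw [ncard_ternary_filter]; exact c6
  · rw [ncard_ternary_filter]; exact c9
  · rw [ncard_ternary_filter]; exact c12

end Cfsg.Agent.S1590
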