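import Cfsg.Statements.S1591
import Cfsg.Agent.Helper27.Ternary

set_option autoImplicit false
open Cfsg

namespace Cfsg.Agent.S1591

open Cfsg.Agent.Helper27

/-- the standard dot product -/
def dot (x y : ArrayPt → ZMod 3) : ZMod 3 := ∑ p, x p * y p

theorem dot_add_left (x x' y : ArrayPt → ZMod 3) : dot (x + x') y = dot x y + dot x' y := by
  simp only [dot, Pi.add_apply, add_mul, Finset.sum_add_distrib]

theorem dot_smul_left (a : ZMod 3) (x y : ArrayPt → ZMod 3) : dot (a • x) y = a * dot x y := by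
  simp only [dot, Pi.smul_apply, smul_eq_mul, mul_assoc, Finset.mul_sum]

theorem dot_comm (x y : ArrayPt → ZMod 3) : dot x y = dot y x := by
  simp only [dot, mul_comm]

theorem dot_enc_left (t : T6) (y : ArrayPt → ZMod 3) (h0 : dot tg0 y = 0) (h1 : dot tg1 y = 0)
    (h2 : dot tg2 y = 0) (h3 : dot tg3 y = 0) (h4 : dot tg4 y = 0) (h5 : dot tg5 y = 0) :
    dot (tgEnc t) y = 0 := by
  simp only [tgEnc, dot_add_left, dot_smul_left, h0, h1, h2, h3, h4, h5, mul_zero, add_zero]

/-- the basis, indexed -/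
def tgB : Fin 6 → ArrayPt → ZMod 3 := ![tg0, tg1, tg2, tg3, tg4, tg5]

theorem dot_basis : ∀ i j : Fin 6, dot (tgB i) (tgB j) = 0 := by
  decide +kernel

theorem dot_basis_enc (i : Fin 6) (t : T6) : dot (tgB i) (tgEnc t) = 0 := by
  rw [dot_comm]
  apply dot_enc_left
  · rw [dot_comm]; exact dot_basis i 0
  · rw [dot_comm]; exact dot_basis i 1
  · rw [dot_comm]; exact dot_basis i 2
  · rw [dot_comm]; exact dot_basis i 3
  · rw [dot_comm]; exact dot_basis i 4
  · rw [dot_comm]; exact dot_basis i 5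


/-- Any two words of the length-12 ternary code have dot product zero. -/
theorem result (x y : Cfsg.ArrayPt → ZMod 3) (hx : x ∈ Cfsg.ternaryGolayCode) (hy : y ∈ Cfsg.ternaryGolayCode) : ∑ p, x p * y p = 0 := by
  change dot x y = 0
  rw [← tgEnc_tgInfo hx, ← tgEnc_tgInfo hy]
  apply dot_enc_left
  · exact dot_basis_enc 0 _
  · exact dot_basis_enc 1 _
  · exact dot_basis_enc 2 _
  · exact dot_basis_enc 3 _
  · exact dot_basis_enc 4 _
  · exact dot_basis_enc 5 _

end Cfsg.Agent.S1591
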