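import Cfsg.Statements.S1593
import Cfsg.Agent.Helper27.TernaryHexads

set_option autoImplicit false
open Cfsg

namespace Cfsg.Agent.S1593

open Cfsg.Agent.Helper27

theorem monomial_one_apply (c : ArrayPt → (ZMod 3)ˣ) (x : ArrayPt → ZMod 3) (p : ArrayPt) :
    Cfsg.monomialMap 1 c x p = (c p : ZMod 3) * x p := rfl

theorem support_monomial (c : ArrayPt → (ZMod 3)ˣ) (x : ArrayPt → ZMod 3) :
    Cfsg.ternarySupport (Cfsg.monomialMap 1 c x) = Cfsg.ternarySupport x := by
  ext p
  have h1 : p ∈ Cfsg.ternarySupport (Cfsg.monomialMap 1 c x) ↔ Cfsg.monomialMap 1 c x p ≠ 0 := by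
    simp [Cfsg.ternarySupport]
  have h2 : p ∈ Cfsg.ternarySupport x ↔ x p ≠ 0 := by
    simp [Cfsg.ternarySupport]
  rw [h1, h2, monomial_one_apply, ne_eq, ne_eq, Units.mul_right_eq_zero]

/-- a sign change preserving the code is constant on every hexad -/
theorem const_on_hexad (c : ArrayPt → (ZMod 3)ˣ)
    (h : ∀ x ∈ Cfsg.ternaryGolayCode, Cfsg.monomialMap 1 c x ∈ Cfsg.ternaryGolayCode)
    (b : Finset ArrayPt) (hb : b ∈ tgHexads) : ∀ p ∈ b, ∀ q ∈ b, c p = c q := by
  obtain ⟨x, hx, rfl, hx6⟩ := hb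
  have hy := h x hx
  have hsupp := support_monomial c x
  have hcases := eq_or_eq_neg_of_inter hx hy hx6 (by rw [hsupp]; exact hx6)
    (by rw [hsupp, Finset.inter_self, hx6]; norm_num)
  have key : ∃ ε : ZMod 3, ∀ p ∈ Cfsg.ternarySupport x, (c p : ZMod 3) = ε := by
    rcases hcases with h1 | h1
    · refine ⟨1, fun p hp => ?_⟩
      have hp' : x p ≠ 0 := by
        simpa [Cfsg.ternarySupport] using hp
      have := congrFun h1 p
      rw [monomial_one_apply] at this
      exact mul_right_cancel₀ hp' (by rw [this, one_mul])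
    · refine ⟨-1, fun p hp => ?_⟩
      have hp' : x p ≠ 0 := by
        simpa [Cfsg.ternarySupport] using hp
      have := congrFun h1 p
      rw [monomial_one_apply, Pi.neg_apply] at this
      exact mul_right_cancel₀ hp' (by rw [this, neg_one_mul])
  obtain ⟨ε, hε⟩ := key
  intro p hp q hq
  exact Units.ext ((hε p hp).trans (hε q hq).symm)

theorem exists_hexad_pair (p q : ArrayPt) : ∃ b ∈ tgHexads, p ∈ b ∧ q ∈ b := by
  classical
  have hcard : ({p, q} : Finset ArrayPt).card ≤ 5 := le_trans Finset.card_le_two (by norm_num)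
  have huniv : 5 ≤ (Finset.univ : Finset ArrayPt).card := by
    rw [Finset.card_univ]
    simp [ArrayPt, ZMod.card]
  obtain ⟨s, hs1, _, hs5⟩ := Finset.exists_subsuperset_card_eq (Finset.subset_univ ({p, q} : Finset ArrayPt)) hcard huniv
  obtain ⟨b, ⟨hb, hsb⟩, _⟩ := tgHexads_steiner.2 s hs5
  exact ⟨b, hb, hsb (hs1 (by simp)), hsb (hs1 (by simp))⟩

theorem units_zmod3 : ∀ u : (ZMod 3)ˣ, u = 1 ∨ u = -1 := by decide


/-- The only sign changes preserving the length-12 ternary code are the identity and negation of all coordinates. -/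
theorem result (c : Cfsg.ArrayPt → (ZMod 3)ˣ) (h : (∀ x ∈ Cfsg.ternaryGolayCode, Cfsg.monomialMap 1 c x ∈ Cfsg.ternaryGolayCode)) : (∀ p, c p = 1) ∨ (∀ p, c p = -1) := by
  have hconst : ∀ p q : ArrayPt, c p = c q := by
    intro p q
    obtain ⟨b, hb, hp, hq⟩ := exists_hexad_pair p q
    exact const_on_hexad c h b hb p hp q hq
  rcases units_zmod3 (c (0, 0)) with h0 | h0
  · left; intro p; rw [hconst p (0, 0), h0]
  · right; intro p; rw [hconst p (0, 0), h0]

end Cfsg.Agent.S1593
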