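import Cfsg.Statements.S1604
import Cfsg.Agent.Helper27.OctCertB3

set_option autoImplicit false
open scoped Pointwise
open Cfsg

namespace Cfsg.Agent.S1604

open Cfsg.Agent.Helper27 Cfsg.Agent.Helper26 Cfsg.Agent.Helper92 Cfsg.Agent.Helper7
open scoped Pointwise

/-- counting on the base configuration -/
theorem base_count (k : ℕ) :
    {o' | o' ∈ octads ∧ gPt 0 ∈ o' ∧ gPt 1 ∈ o' ∧ (Helper27.setOf 5279 ∩ o').card = k}.ncard =
      countRange (fun c => Nat.beq (popc 24 (encode c)) 8 &&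
        (Nat.testBit (encode c) 0 && (Nat.testBit (encode c) 1 &&
          Nat.beq (popc 24 (Nat.land (encode c) 5279)) k))) 12 0 := by
  apply ncard_octads_filter
    (fun o' => gPt 0 ∈ o' ∧ gPt 1 ∈ o' ∧ (Helper27.setOf 5279 ∩ o').card = k)
    (fun m => Nat.testBit m 0 && (Nat.testBit m 1 && Nat.beq (popc 24 (Nat.land m 5279)) k))
  intro c _ _
  rw [gPt_mem_setOf 0 (by norm_num), gPt_mem_setOf 1 (by norm_num), Bool.and_eq_true,
    Bool.and_eq_true, popc_land_5279]
  constructor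
  · rintro ⟨h1, h2, h3⟩
    exact ⟨h1, h2, by rw [h3]; exact Nat.beq_refl k⟩
  · rintro ⟨h1, h2, h3⟩
    exact ⟨h1, h2, Nat.eq_of_beq_eq_true h3⟩

theorem base_count2 : countRange (fun c => Nat.beq (popc 24 (encode c)) 8 &&
    (Nat.testBit (encode c) 0 && (Nat.testBit (encode c) 1 &&
      Nat.beq (popc 24 (Nat.land (encode c) 5279)) 2))) 12 0 = 16 := by
  decide +kernel

theorem base_count4 : countRange (fun c => Nat.beq (popc 24 (encode c)) 8 &&
    (Nat.testBit (encode c) 0 && (Nat.testBit (encode c) 1 &&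
      Nat.beq (popc 24 (Nat.land (encode c) 5279)) 4))) 12 0 = 60 := by
  decide +kernel

/-- transitivity on the base configuration -/
theorem base_trans {p p' : Finset GolayPt} (hp : p ∈ octads) (hp' : p' ∈ octads)
    (h0 : gPt 0 ∈ p) (h0' : gPt 0 ∈ p') (h1 : gPt 1 ∈ p) (h1' : gPt 1 ∈ p')
    (hc : (Helper27.setOf 5279 ∩ p).card = (Helper27.setOf 5279 ∩ p').card) :
    ∃ g ∈ confStab [0, 1] 5279, g • p = p' := by
  obtain ⟨c, hc4, rfl, hw⟩ := exists_encode_of_mem_octads hp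
  obtain ⟨c', hc4', rfl, hw'⟩ := exists_encode_of_mem_octads hp'
  rw [gPt_mem_setOf 0 (by norm_num)] at h0 h0'
  rw [gPt_mem_setOf 1 (by norm_num)] at h1 h1'
  apply exists_smul_of_selCert (confStab [0, 1] 5279) b3Gens
    (gens_mem_confStab (by decide) (by norm_num) b3Gens_ok) b3SV b3Sel b3Cls b3Rep _ b3Cert hc4 hc4'
  · show (Nat.beq (popc 24 (encode c)) 8 &&
      (Nat.testBit (encode c) 0 && Nat.testBit (encode c) 1)) = true
    rw [hw, h0, h1]; rfl
  · show (Nat.beq (popc 24 (encode c')) 8 &&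
      (Nat.testBit (encode c') 0 && Nat.testBit (encode c') 1)) = true
    rw [hw', h0', h1']; rfl
  · show popc 24 (Nat.land (encode c) 5279) = popc 24 (Nat.land (encode c') 5279)
    rw [popc_land_5279, popc_land_5279, hc]


/-- A hexad stabiliser in the two-point stabiliser has orbits of sizes 1, 16, 60 on the 77 hexads: the 16 hexads disjoint from it and the 60 meeting it in two points. -/
theorem result (p q : Cfsg.GolayPt) (hpq : p ≠ q) (o o' o'' : Finset Cfsg.GolayPt) (ho : o ∈ Cfsg.octads) (ho' : o' ∈ Cfsg.octads) (ho'' : o'' ∈ Cfsg.octads) (hp : p ∈ o ∧ p ∈ o' ∧ p ∈ o'') (hq : q ∈ o ∧ q ∈ o' ∧ q ∈ o'') (h : (o ∩ o').card = (o ∩ o'').card) : {x : Finset Cfsg.GolayPt | x ∈ Cfsg.octads ∧ p ∈ x ∧ q ∈ x ∧ (o ∩ x).card = 2}.ncard = 16 ∧ {x : Finset Cfsg.GolayPt | x ∈ Cfsg.octads ∧ p ∈ x ∧ q ∈ x ∧ (o ∩ x).card = 4}.ncard = 60 ∧ ∃ g : Equiv.Perm Cfsg.GolayPt, g ∈ Cfsg.M24 ∧ g p = p ∧ g q = q ∧ g • o = o ∧ g • o' = o'' := by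
  obtain ⟨a, ha, hao, r, hmap⟩ := exists_to_base_in ho [p, q]
    (by simp [hpq]) (by
      intro z hz
      simp only [List.mem_cons, List.not_mem_nil, or_false] at hz
      rcases hz with rfl | rfl
      · exact hp.1
      · exact hq.1) (by simp)
  have hap : a p = gPt 0 := by
    have h1 := congrArg List.head? hmap
    have h2 : a p = pt 0 := by simpa [base5] using h1
    rw [h2, pt_eq_gPt 0 (by norm_num)]
  have haq : a q = gPt 1 := by
    have h1 := congrArg (fun L : List GolayPt => L[1]?) hmap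
    have h2 : a q = pt 1 := by simpa [base5] using h1
    rw [h2, pt_eq_gPt 1 (by norm_num)]
  have hcount : ∀ k : ℕ,
      {x : Finset GolayPt | x ∈ octads ∧ p ∈ x ∧ q ∈ x ∧ (o ∩ x).card = k}.ncard =
      {o' | o' ∈ octads ∧ gPt 0 ∈ o' ∧ gPt 1 ∈ o' ∧ (Helper27.setOf 5279 ∩ o').card = k}.ncard := by
    intro k
    apply ncard_eq_of_smul a
    intro s
    simp only [Set.mem_ofPred_eq]
    rw [smul_mem_octads_iff ha, ← hap, ← haq, mem_smul_iff, mem_smul_iff, ← hao, card_smul_inter]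
  refine ⟨?_, ?_, ?_⟩
  · rw [hcount 2, base_count 2, base_count2]
  · rw [hcount 4, base_count 4, base_count4]
  · obtain ⟨g, hg, hgo⟩ := base_trans (p := a • o') (p' := a • o'')
      ((smul_mem_octads_iff ha _).2 ho') ((smul_mem_octads_iff ha _).2 ho'')
      (by rw [← hap, mem_smul_iff]; exact hp.2.1) (by rw [← hap, mem_smul_iff]; exact hp.2.2)
      (by rw [← haq, mem_smul_iff]; exact hq.2.1) (by rw [← haq, mem_smul_iff]; exact hq.2.2)
      (by rw [← hao, card_smul_inter, card_smul_inter, h])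
    obtain ⟨h1, h2, h3, h4⟩ := conj_back ha hg hao
    exact ⟨a⁻¹ * g * a, h1, h3 0 (by simp) p hap, h3 1 (by simp) q haq, h2, h4 o' o'' hgo⟩

end Cfsg.Agent.S1604
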