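import Cfsg.Statements.S1605
import Cfsg.Agent.Helper27.OctCertB4

set_option autoImplicit false
open scoped Pointwise
open Cfsg

namespace Cfsg.Agent.S1605

open Cfsg.Agent.Helper27 Cfsg.Agent.Helper26 Cfsg.Agent.Helper92 Cfsg.Agent.Helper7
open scoped Pointwise

/-- counting on the base configuration: all octads through `0` avoiding `5` -/
theorem base_count_all :
    {o' | o' ∈ octads ∧ gPt 0 ∈ o' ∧ gPt 5 ∉ o'}.ncard =
      countRange (fun c => Nat.beq (popc 24 (encode c)) 8 &&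
        (Nat.testBit (encode c) 0 && !(Nat.testBit (encode c) 5))) 12 0 := by
  apply ncard_octads_filter (fun o' => gPt 0 ∈ o' ∧ gPt 5 ∉ o')
    (fun m => Nat.testBit m 0 && !(Nat.testBit m 5))
  intro c _ _
  rw [gPt_mem_setOf 0 (by norm_num), gPt_mem_setOf 5 (by norm_num), Bool.and_eq_true,
    Bool.not_eq_true', Bool.not_eq_true]

theorem base_count_all_val : countRange (fun c => Nat.beq (popc 24 (encode c)) 8 &&
    (Nat.testBit (encode c) 0 && !(Nat.testBit (encode c) 5))) 12 0 = 176 := by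
  decide +kernel

/-- counting on the base configuration, by the size of the meet with the standard octad -/
theorem base_count (k : ℕ) :
    {o' | (o' ∈ octads ∧ gPt 0 ∈ o' ∧ gPt 5 ∉ o') ∧ (Helper27.setOf 5279 ∩ o').card = k}.ncard =
      countRange (fun c => Nat.beq (popc 24 (encode c)) 8 &&
        (Nat.testBit (encode c) 0 && (!(Nat.testBit (encode c) 5) &&
          Nat.beq (popc 24 (Nat.land (encode c) 5279)) k))) 12 0 := by
  have : {o' | (o' ∈ octads ∧ gPt 0 ∈ o' ∧ gPt 5 ∉ o') ∧ (Helper27.setOf 5279 ∩ o').card = k} =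
      {o' | o' ∈ octads ∧ (gPt 0 ∈ o' ∧ gPt 5 ∉ o' ∧ (Helper27.setOf 5279 ∩ o').card = k)} := by
    ext o'
    simp only [Set.mem_ofPred_eq]
    tauto
  rw [this]
  apply ncard_octads_filter
    (fun o' => gPt 0 ∈ o' ∧ gPt 5 ∉ o' ∧ (Helper27.setOf 5279 ∩ o').card = k)
    (fun m => Nat.testBit m 0 && (!(Nat.testBit m 5) && Nat.beq (popc 24 (Nat.land m 5279)) k))
  intro c _ _
  rw [gPt_mem_setOf 0 (by norm_num), gPt_mem_setOf 5 (by norm_num), Bool.and_eq_true,
    Bool.and_eq_true, popc_land_5279, Bool.not_eq_true', Bool.not_eq_true]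
  constructor
  · rintro ⟨h1, h2, h3⟩
    exact ⟨h1, h2, by rw [h3]; exact Nat.beq_refl k⟩
  · rintro ⟨h1, h2, h3⟩
    exact ⟨h1, h2, Nat.eq_of_beq_eq_true h3⟩

theorem base_count2 : countRange (fun c => Nat.beq (popc 24 (encode c)) 8 &&
    (Nat.testBit (encode c) 0 && (!(Nat.testBit (encode c) 5) &&
      Nat.beq (popc 24 (Nat.land (encode c) 5279)) 2))) 12 0 = 70 := by
  decide +kernel

theorem base_count4 : countRange (fun c => Nat.beq (popc 24 (encode c)) 8 &&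
    (Nat.testBit (encode c) 0 && (!(Nat.testBit (encode c) 5) &&
      Nat.beq (popc 24 (Nat.land (encode c) 5279)) 4))) 12 0 = 105 := by
  decide +kernel

/-- transitivity on the base configuration -/
theorem base_trans {p p' : Finset GolayPt} (hp : p ∈ octads) (hp' : p' ∈ octads)
    (h0 : gPt 0 ∈ p) (h0' : gPt 0 ∈ p') (h1 : gPt 5 ∉ p) (h1' : gPt 5 ∉ p')
    (hc : (Helper27.setOf 5279 ∩ p).card = (Helper27.setOf 5279 ∩ p').card) :
    ∃ g ∈ confStab [0, 5] 5279, g • p = p' := by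
  obtain ⟨c, hc4, rfl, hw⟩ := exists_encode_of_mem_octads hp
  obtain ⟨c', hc4', rfl, hw'⟩ := exists_encode_of_mem_octads hp'
  rw [gPt_mem_setOf 0 (by norm_num)] at h0 h0'
  rw [gPt_mem_setOf 5 (by norm_num), Bool.not_eq_true] at h1 h1'
  apply exists_smul_of_selCert (confStab [0, 5] 5279) b4Gens
    (gens_mem_confStab (by decide) (by norm_num) b4Gens_ok) b4SV b4Sel b4Cls b4Rep _ b4Cert hc4 hc4'
  · show (Nat.beq (popc 24 (encode c)) 8 &&
      (Nat.testBit (encode c) 0 && !(Nat.testBit (encode c) 5))) = true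
    rw [hw, h0, h1]; rfl
  · show (Nat.beq (popc 24 (encode c')) 8 &&
      (Nat.testBit (encode c') 0 && !(Nat.testBit (encode c') 5))) = true
    rw [hw', h0', h1']; rfl
  · show popc 24 (Nat.land (encode c) 5279) = popc 24 (Nat.land (encode c') 5279)
    rw [popc_land_5279, popc_land_5279, hc]

/-- transport of a flag-antiflag configuration to the base -/
theorem to_base {p q : GolayPt} {o : Finset GolayPt} (ho : o ∈ octads) (hp : p ∈ o) (hq : q ∉ o) :
    ∃ a ∈ M24, a • o = Helper27.setOf 5279 ∧ a p = gPt 0 ∧ a q = gPt 5 := by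
  obtain ⟨a, ha, hao, haq, r, hmap⟩ := exists_to_base_out ho [p] (List.nodup_singleton p)
    (by simpa using hp) (by simp) q hq
  refine ⟨a, ha, hao, ?_, ?_⟩
  · have h1 := congrArg List.head? hmap
    have h2 : a p = pt 0 := by simpa [base5] using h1
    rw [h2, pt_eq_gPt 0 (by norm_num)]
  · rw [haq, pt_eq_gPt 5 (by norm_num)]


/-- The two-point stabiliser acts on the 176 octads through the first point avoiding the second with rank 3 and subdegrees 1, 70, 105 (intersections 8, 2, 4). -/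
theorem result (p q : Cfsg.GolayPt) (hpq : p ≠ q) : {x : Finset Cfsg.GolayPt | (x ∈ Cfsg.octads ∧ p ∈ x ∧ q ∉ x)}.ncard = 176 ∧ (∀ o o' : Finset Cfsg.GolayPt, (o ∈ Cfsg.octads ∧ p ∈ o ∧ q ∉ o) → (o' ∈ Cfsg.octads ∧ p ∈ o' ∧ q ∉ o') → ∃ g : Equiv.Perm Cfsg.GolayPt, g ∈ Cfsg.M24 ∧ g p = p ∧ g q = q ∧ g • o = o') ∧ ∀ o : Finset Cfsg.GolayPt, (o ∈ Cfsg.octads ∧ p ∈ o ∧ q ∉ o) → {x : Finset Cfsg.GolayPt | (x ∈ Cfsg.octads ∧ p ∈ x ∧ q ∉ x) ∧ (o ∩ x).card = 2}.ncard = 70 ∧ {x : Finset Cfsg.GolayPt | (x ∈ Cfsg.octads ∧ p ∈ x ∧ q ∉ x) ∧ (o ∩ x).card = 4}.ncard = 105 ∧ ∀ o' o'' : Finset Cfsg.GolayPt, (o' ∈ Cfsg.octads ∧ p ∈ o' ∧ q ∉ o') → (o'' ∈ Cfsg.octads ∧ p ∈ o'' ∧ q ∉ o'') → (o ∩ o').card = (o ∩ o'').card → ∃ g : Equiv.Perm Cfsg.GolayPt, g ∈ Cfsg.M24 ∧ g p = p ∧ g q = q ∧ g • o = o ∧ g • o' = o'' := by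
  refine ⟨?_, ?_, ?_⟩
  · -- the count 176
    obtain ⟨a, ha, hmap⟩ := exists_map_list [p, q] [pt 0, pt 5] (by simp [hpq]) (by decide) rfl
      (by simp)
    have hap : a p = gPt 0 := by
      have h1 := congrArg List.head? hmap
      have h2 : a p = pt 0 := by simpa using h1
      rw [h2, pt_eq_gPt 0 (by norm_num)]
    have haq : a q = gPt 5 := by
      have h1 := congrArg (fun L : List GolayPt => L[1]?) hmap
      have h2 : a q = pt 5 := by simpa using h1
      rw [h2, pt_eq_gPt 5 (by norm_num)]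
    have : {x : Finset GolayPt | (x ∈ octads ∧ p ∈ x ∧ q ∉ x)}.ncard =
        {o' | o' ∈ octads ∧ gPt 0 ∈ o' ∧ gPt 5 ∉ o'}.ncard := by
      apply ncard_eq_of_smul a
      intro s
      simp only [Set.mem_ofPred_eq]
      rw [smul_mem_octads_iff ha, ← hap, ← haq, mem_smul_iff, mem_smul_iff]
    rw [this, base_count_all, base_count_all_val]
  · -- transitivity of the two-point stabiliser
    rintro o o' ⟨ho, hpo, hqo⟩ ⟨ho', hpo', hqo'⟩
    obtain ⟨a, ha, hao, hap, haq⟩ := to_base ho hpo hqo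
    obtain ⟨b, hb, hbo, hbp, hbq⟩ := to_base ho' hpo' hqo'
    refine ⟨b⁻¹ * a, M24.mul_mem (M24.inv_mem hb) ha, ?_, ?_, ?_⟩
    · rw [Equiv.Perm.mul_apply, hap, ← hbp]; simp
    · rw [Equiv.Perm.mul_apply, haq, ← hbq]; simp
    · rw [mul_smul, hao, ← hbo, inv_smul_smul]
  · rintro o ⟨ho, hpo, hqo⟩
    obtain ⟨a, ha, hao, hap, haq⟩ := to_base ho hpo hqo
    have hcount : ∀ k : ℕ,
        {x : Finset GolayPt | (x ∈ octads ∧ p ∈ x ∧ q ∉ x) ∧ (o ∩ x).card = k}.ncard =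
        {o' | (o' ∈ octads ∧ gPt 0 ∈ o' ∧ gPt 5 ∉ o') ∧
          (Helper27.setOf 5279 ∩ o').card = k}.ncard := by
      intro k
      apply ncard_eq_of_smul a
      intro s
      simp only [Set.mem_ofPred_eq]
      rw [smul_mem_octads_iff ha, ← hap, ← haq, mem_smul_iff, mem_smul_iff, ← hao, card_smul_inter]
    refine ⟨?_, ?_, ?_⟩
    · rw [hcount 2, base_count 2, base_count2]
    · rw [hcount 4, base_count 4, base_count4]
    · rintro o' o'' ⟨ho', hpo', hqo'⟩ ⟨ho'', hpo'', hqo''⟩ hcard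
      obtain ⟨g, hg, hgo⟩ := base_trans (p := a • o') (p' := a • o'')
        ((smul_mem_octads_iff ha _).2 ho') ((smul_mem_octads_iff ha _).2 ho'')
        (by rw [← hap, mem_smul_iff]; exact hpo') (by rw [← hap, mem_smul_iff]; exact hpo'')
        (by rw [← haq, mem_smul_iff]; exact hqo') (by rw [← haq, mem_smul_iff]; exact hqo'')
        (by rw [← hao, card_smul_inter, card_smul_inter, hcard])
      obtain ⟨h1, h2, h3, h4⟩ := conj_back ha hg hao
      exact ⟨a⁻¹ * g * a, h1, h3 0 (by simp) p hap, h3 5 (by simp) q haq, h2, h4 o' o'' hgo⟩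

end Cfsg.Agent.S1605
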