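import Cfsg.Statements.S1607
import Cfsg.Agent.Helper27.OctCertB1

set_option autoImplicit false
open scoped Pointwise
open Cfsg

namespace Cfsg.Agent.S1607

open Cfsg.Agent.Helper27 Cfsg.Agent.Helper26 Cfsg.Agent.Helper92 Cfsg.Agent.Helper7
open scoped Pointwise

/-- counting on the base configuration -/
theorem base_count (k : ℕ) :
    {o' | o' ∈ octads ∧ gPt 0 ∈ o' ∧ (Helper27.setOf 5279 ∩ o').card = k}.ncard =
      countRange (fun c => Nat.beq (popc 24 (encode c)) 8 &&
        (Nat.testBit (encode c) 0 && Nat.beq (popc 24 (Nat.land (encode c) 5279)) k)) 12 0 := by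
  apply ncard_octads_filter (fun o' => gPt 0 ∈ o' ∧ (Helper27.setOf 5279 ∩ o').card = k)
    (fun m => Nat.testBit m 0 && Nat.beq (popc 24 (Nat.land m 5279)) k)
  intro c _ _
  rw [gPt_mem_setOf 0 (by norm_num), Bool.and_eq_true, popc_land_5279]
  constructor
  · rintro ⟨h1, h2⟩
    exact ⟨h1, by rw [h2]; exact Nat.beq_refl k⟩
  · rintro ⟨h1, h2⟩
    exact ⟨h1, Nat.eq_of_beq_eq_true h2⟩

theorem base_count2 : countRange (fun c => Nat.beq (popc 24 (encode c)) 8 &&
    (Nat.testBit (encode c) 0 && Nat.beq (popc 24 (Nat.land (encode c) 5279)) 2)) 12 0 = 112 := by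
  decide +kernel

theorem base_count4 : countRange (fun c => Nat.beq (popc 24 (encode c)) 8 &&
    (Nat.testBit (encode c) 0 && Nat.beq (popc 24 (Nat.land (encode c) 5279)) 4)) 12 0 = 140 := by
  decide +kernel

/-- transitivity on the base configuration -/
theorem base_trans {p p' : Finset GolayPt} (hp : p ∈ octads) (hp' : p' ∈ octads)
    (h0 : gPt 0 ∈ p) (h0' : gPt 0 ∈ p')
    (hc : (Helper27.setOf 5279 ∩ p).card = (Helper27.setOf 5279 ∩ p').card) :
    ∃ g ∈ confStab [0] 5279, g • p = p' := by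
  obtain ⟨c, hc4, rfl, hw⟩ := exists_encode_of_mem_octads hp
  obtain ⟨c', hc4', rfl, hw'⟩ := exists_encode_of_mem_octads hp'
  rw [gPt_mem_setOf 0 (by norm_num)] at h0 h0'
  apply exists_smul_of_selCert (confStab [0] 5279) b1Gens
    (gens_mem_confStab (by decide) (by norm_num) b1Gens_ok) b1SV b1Sel b1Cls b1Rep _ b1Cert hc4 hc4'
  · show (Nat.beq (popc 24 (encode c)) 8 && Nat.testBit (encode c) 0) = true
    rw [hw, h0]; rfl
  · show (Nat.beq (popc 24 (encode c')) 8 && Nat.testBit (encode c') 0) = true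
    rw [hw', h0']; rfl
  · show popc 24 (Nat.land (encode c) 5279) = popc 24 (Nat.land (encode c') 5279)
    rw [popc_land_5279, popc_land_5279, hc]


/-- The point stabiliser acts on the 253 heptads of its S(4, 7, 23) with rank 3 and subdegrees 1, 112, 140 (intersections 8, 2, 4). -/
theorem result (x : Cfsg.GolayPt) (o : Finset Cfsg.GolayPt) (ho : o ∈ Cfsg.octads) (hx : x ∈ o) : {o' : Finset Cfsg.GolayPt | o' ∈ Cfsg.octads ∧ x ∈ o' ∧ (o ∩ o').card = 2}.ncard = 112 ∧ {o' : Finset Cfsg.GolayPt | o' ∈ Cfsg.octads ∧ x ∈ o' ∧ (o ∩ o').card = 4}.ncard = 140 ∧ ∀ o' o'' : Finset Cfsg.GolayPt, o' ∈ Cfsg.octads → o'' ∈ Cfsg.octads → x ∈ o' → x ∈ o'' → (o ∩ o').card = (o ∩ o'').card → ∃ g : Equiv.Perm Cfsg.GolayPt, g ∈ Cfsg.M24 ∧ g x = x ∧ g • o = o ∧ g • o' = o'' := by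
  obtain ⟨a, ha, hao, r, hmap⟩ := exists_to_base_in ho [x] (List.nodup_singleton x)
    (by simpa using hx) (by simp)
  have hax : a x = gPt 0 := by
    have h1 := congrArg List.head? hmap
    have h2 : a x = pt 0 := by simpa [base5] using h1
    rw [h2, pt_eq_gPt 0 (by norm_num)]
  have hcount : ∀ k : ℕ, {o' : Finset GolayPt | o' ∈ octads ∧ x ∈ o' ∧ (o ∩ o').card = k}.ncard =
      {o' | o' ∈ octads ∧ gPt 0 ∈ o' ∧ (Helper27.setOf 5279 ∩ o').card = k}.ncard := by
    intro k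
    apply ncard_eq_of_smul a
    intro s
    simp only [Set.mem_ofPred_eq]
    rw [smul_mem_octads_iff ha, ← hax, mem_smul_iff, ← hao, card_smul_inter]
  refine ⟨?_, ?_, ?_⟩
  · rw [hcount 2, base_count 2, base_count2]
  · rw [hcount 4, base_count 4, base_count4]
  · intro o' o'' ho' ho'' hxo' hxo'' hcard
    obtain ⟨g, hg, hgo⟩ := base_trans (p := a • o') (p' := a • o'')
      ((smul_mem_octads_iff ha _).2 ho') ((smul_mem_octads_iff ha _).2 ho'')
      (by rw [← hax, mem_smul_iff]; exact hxo') (by rw [← hax, mem_smul_iff]; exact hxo'')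
      (by rw [← hao, card_smul_inter, card_smul_inter, hcard])
    obtain ⟨h1, h2, h3, h4⟩ := conj_back ha hg hao
    exact ⟨a⁻¹ * g * a, h1, h3 0 (by simp) x hax, h2, h4 o' o'' hgo⟩

end Cfsg.Agent.S1607
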