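import Cfsg.Statements.S1608
import Cfsg.Agent.Helper27.OctCertB2

set_option autoImplicit false
open scoped Pointwise
open Cfsg

namespace Cfsg.Agent.S1608

open Cfsg.Agent.Helper27 Cfsg.Agent.Helper26 Cfsg.Agent.Helper92 Cfsg.Agent.Helper7
open scoped Pointwise

/-- counting on the base configuration -/
theorem base_count (k : ℕ) :
    {o' | o' ∈ octads ∧ gPt 5 ∉ o' ∧ (Helper27.setOf 5279 ∩ o').card = k}.ncard =
      countRange (fun c => Nat.beq (popc 24 (encode c)) 8 &&
        (!(Nat.testBit (encode c) 5) && Nat.beq (popc 24 (Nat.land (encode c) 5279)) k)) 12 0 := by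
  apply ncard_octads_filter (fun o' => gPt 5 ∉ o' ∧ (Helper27.setOf 5279 ∩ o').card = k)
    (fun m => !(Nat.testBit m 5) && Nat.beq (popc 24 (Nat.land m 5279)) k)
  intro c _ _
  rw [gPt_mem_setOf 5 (by norm_num), Bool.and_eq_true, popc_land_5279, Bool.not_eq_true',
    Bool.not_eq_true]
  constructor
  · rintro ⟨h1, h2⟩
    exact ⟨h1, by rw [h2]; exact Nat.beq_refl k⟩
  · rintro ⟨h1, h2⟩
    exact ⟨h1, Nat.eq_of_beq_eq_true h2⟩

theorem base_count0 : countRange (fun c => Nat.beq (popc 24 (encode c)) 8 &&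
    (!(Nat.testBit (encode c) 5) && Nat.beq (popc 24 (Nat.land (encode c) 5279)) 0)) 12 0 = 15 := by
  decide +kernel

theorem base_count4 : countRange (fun c => Nat.beq (popc 24 (encode c)) 8 &&
    (!(Nat.testBit (encode c) 5) && Nat.beq (popc 24 (Nat.land (encode c) 5279)) 4)) 12 0 = 210 := by
  decide +kernel

theorem base_count2 : countRange (fun c => Nat.beq (popc 24 (encode c)) 8 &&
    (!(Nat.testBit (encode c) 5) && Nat.beq (popc 24 (Nat.land (encode c) 5279)) 2)) 12 0 = 280 := by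
  decide +kernel

/-- transitivity on the base configuration -/
theorem base_trans {p p' : Finset GolayPt} (hp : p ∈ octads) (hp' : p' ∈ octads)
    (h0 : gPt 5 ∉ p) (h0' : gPt 5 ∉ p')
    (hc : (Helper27.setOf 5279 ∩ p).card = (Helper27.setOf 5279 ∩ p').card) :
    ∃ g ∈ confStab [5] 5279, g • p = p' := by
  obtain ⟨c, hc4, rfl, hw⟩ := exists_encode_of_mem_octads hp
  obtain ⟨c', hc4', rfl, hw'⟩ := exists_encode_of_mem_octads hp'
  rw [gPt_mem_setOf 5 (by norm_num), Bool.not_eq_true] at h0 h0'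
  apply exists_smul_of_selCert (confStab [5] 5279) b2Gens
    (gens_mem_confStab (by decide) (by norm_num) b2Gens_ok) b2SV b2Sel b2Cls b2Rep _ b2Cert hc4 hc4'
  · show (Nat.beq (popc 24 (encode c)) 8 && !(Nat.testBit (encode c) 5)) = true
    rw [hw, h0]; rfl
  · show (Nat.beq (popc 24 (encode c')) 8 && !(Nat.testBit (encode c') 5)) = true
    rw [hw', h0']; rfl
  · show popc 24 (Nat.land (encode c) 5279) = popc 24 (Nat.land (encode c') 5279)
    rw [popc_land_5279, popc_land_5279, hc]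


/-- The point stabiliser acts on the 506 octads avoiding the point with rank 4 and subdegrees 1, 15, 210, 280, the suborbits being given by intersection size with the fixed octad. -/
theorem result (x : Cfsg.GolayPt) (o : Finset Cfsg.GolayPt) (ho : o ∈ Cfsg.octads) (hx : x ∉ o) : {o' : Finset Cfsg.GolayPt | o' ∈ Cfsg.octads ∧ x ∉ o' ∧ (o ∩ o').card = 0}.ncard = 15 ∧ {o' : Finset Cfsg.GolayPt | o' ∈ Cfsg.octads ∧ x ∉ o' ∧ (o ∩ o').card = 4}.ncard = 210 ∧ {o' : Finset Cfsg.GolayPt | o' ∈ Cfsg.octads ∧ x ∉ o' ∧ (o ∩ o').card = 2}.ncard = 280 ∧ ∀ o' o'' : Finset Cfsg.GolayPt, o' ∈ Cfsg.octads → o'' ∈ Cfsg.octads → x ∉ o' → x ∉ o'' → (o ∩ o').card = (o ∩ o'').card → ∃ g : Equiv.Perm Cfsg.GolayPt, g ∈ Cfsg.M24 ∧ g x = x ∧ g • o = o ∧ g • o' = o'' := by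
  obtain ⟨a, ha, hao, hax5, -⟩ := exists_to_base_out ho [] List.nodup_nil
    (by simp) (by simp) x hx
  have hax : a x = gPt 5 := by rw [hax5, pt_eq_gPt 5 (by norm_num)]
  have hcount : ∀ k : ℕ, {o' : Finset GolayPt | o' ∈ octads ∧ x ∉ o' ∧ (o ∩ o').card = k}.ncard =
      {o' | o' ∈ octads ∧ gPt 5 ∉ o' ∧ (Helper27.setOf 5279 ∩ o').card = k}.ncard := by
    intro k
    apply ncard_eq_of_smul a
    intro s
    simp only [Set.mem_ofPred_eq]
    rw [smul_mem_octads_iff ha, ← hax, mem_smul_iff, ← hao, card_smul_inter]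
  refine ⟨?_, ?_, ?_, ?_⟩
  · rw [hcount 0, base_count 0, base_count0]
  · rw [hcount 4, base_count 4, base_count4]
  · rw [hcount 2, base_count 2, base_count2]
  · intro o' o'' ho' ho'' hxo' hxo'' hcard
    obtain ⟨g, hg, hgo⟩ := base_trans (p := a • o') (p' := a • o'')
      ((smul_mem_octads_iff ha _).2 ho') ((smul_mem_octads_iff ha _).2 ho'')
      (by rw [← hax, mem_smul_iff]; exact hxo') (by rw [← hax, mem_smul_iff]; exact hxo'')
      (by rw [← hao, card_smul_inter, card_smul_inter, hcard])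
    obtain ⟨h1, h2, h3, h4⟩ := conj_back ha hg hao
    exact ⟨a⁻¹ * g * a, h1, h3 5 (by simp) x hax, h2, h4 o' o'' hgo⟩

end Cfsg.Agent.S1608
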