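import Cfsg.Statements.S1610
import Cfsg.Agent.Helper27.Hexacode

set_option autoImplicit false
open Cfsg

namespace Cfsg.Agent.S1610

open Cfsg.Agent.Helper27

/-- weight of a word -/
abbrev wt {K : Type*} [Field K] [DecidableEq K] (x : Fin 6 → K) : ℕ := (Finset.univ.filter fun i => x i ≠ 0).card

theorem cnt_all (ω : GF4) : (Finset.univ.filter fun _ : G3 => True).card = 64 := by
  rw [Finset.filter_true_of_mem (fun _ _ => trivial)]; rfl

theorem cnt4_w : (Finset.univ.filter fun t : G3 => wt (hexEnc GF4.w t) = 4).card = 45 := by decide +kernel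
theorem cnt4_w2 : (Finset.univ.filter fun t : G3 => wt (hexEnc GF4.w2 t) = 4).card = 45 := by decide +kernel
theorem cnt6_w : (Finset.univ.filter fun t : G3 => wt (hexEnc GF4.w t) = 6).card = 18 := by decide +kernel
theorem cnt6_w2 : (Finset.univ.filter fun t : G3 => wt (hexEnc GF4.w2 t) = 6).card = 18 := by decide +kernel
theorem wts_w : ∀ t : G3, hexEnc GF4.w t ≠ 0 → wt (hexEnc GF4.w t) = 4 ∨ wt (hexEnc GF4.w t) = 6 := by decide +kernel
theorem wts_w2 : ∀ t : G3, hexEnc GF4.w2 t ≠ 0 → wt (hexEnc GF4.w2 t) = 4 ∨ wt (hexEnc GF4.w2 t) = 6 := by decide +kernel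

theorem cnt4 {ω : GF4} (hω : ω ^ 2 + ω + 1 = 0) :
    (Finset.univ.filter fun t : G3 => wt (hexEnc ω t) = 4).card = 45 := by
  rcases GF4.root_cases ω hω with rfl | rfl
  · exact cnt4_w
  · exact cnt4_w2

theorem cnt6 {ω : GF4} (hω : ω ^ 2 + ω + 1 = 0) :
    (Finset.univ.filter fun t : G3 => wt (hexEnc ω t) = 6).card = 18 := by
  rcases GF4.root_cases ω hω with rfl | rfl
  · exact cnt6_w
  · exact cnt6_w2

theorem wts {ω : GF4} (hω : ω ^ 2 + ω + 1 = 0) :
    ∀ t : G3, hexEnc ω t ≠ 0 → wt (hexEnc ω t) = 4 ∨ wt (hexEnc ω t) = 6 := by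
  rcases GF4.root_cases ω hω with rfl | rfl
  · exact wts_w
  · exact wts_w2


/-- The hexacode has 64 words, minimum weight 4, and weight distribution 0^1 4^45 6^18. -/
theorem result (F : Type*) [Field F] [Fintype F] [DecidableEq F] (hF : Fintype.card F = 4) (ω : F) (hω : ω ^ 2 + ω + 1 = 0) : Nat.card ↥(Cfsg.hexacode F ω) = 64 ∧ (∀ x ∈ Cfsg.hexacode F ω, x ≠ 0 → (Finset.univ.filter fun i => x i ≠ 0).card = 4 ∨ (Finset.univ.filter fun i => x i ≠ 0).card = 6) ∧ {x : Fin 6 → F | x ∈ Cfsg.hexacode F ω ∧ (Finset.univ.filter fun i => x i ≠ 0).card = 4}.ncard = 45 ∧ {x : Fin 6 → F | x ∈ Cfsg.hexacode F ω ∧ (Finset.univ.filter fun i => x i ≠ 0).card = 6}.ncard = 18 := by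
  classical
  refine ⟨?_, ?_, ?_, ?_⟩
  · obtain ⟨ω', hω', _, h⟩ := ncard_hexacode_filter' hF ω hω (fun _ => True)
    have h1 : {x | x ∈ Cfsg.hexacode F ω ∧ True} = (Cfsg.hexacode F ω : Set (Fin 6 → F)) := by
      ext; simp
    rw [h1] at h
    have h2 := ncard_hexacode_filter hω' (fun _ => True)
    rw [cnt_all ω'] at h2
    have h3 : Nat.card ↥(Cfsg.hexacode F ω) = (Cfsg.hexacode F ω : Set (Fin 6 → F)).ncard := rfl
    rw [h3, h]
    exact h2
  · intro x hx hx0
    set ψ := gf4Equiv F hF with hψ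
    obtain ⟨ω', rfl⟩ : ∃ ω', ψ ω' = ω := ψ.surjective ω
    have hω' : ω' ^ 2 + ω' + 1 = 0 := by
      apply ψ.injective
      rw [map_add, map_add, map_pow, map_one, map_zero]
      exact hω
    have hx' : x ∈ (Cfsg.hexacode F (ψ ω') : Set (Fin 6 → F)) := hx
    rw [hexacode_eq_image ψ ω'] at hx'
    obtain ⟨y, hy, rfl⟩ := hx'
    obtain ⟨t, rfl⟩ := (mem_hexacode_iff ω' y).mp hy
    have hne : hexEnc ω' t ≠ 0 := by
      intro h0
      apply hx0
      funext i
      simp [h0]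
    have := wts hω' t hne
    rw [weight_map ψ (hexEnc ω' t)]
    exact this
  · obtain ⟨ω', hω', _, h⟩ := ncard_hexacode_filter' hF ω hω
      (fun x => (Finset.univ.filter fun i => x i ≠ 0).card = 4)
    rw [h]
    simp only [weight_map]
    rw [ncard_hexacode_filter hω']
    exact cnt4 hω'
  · obtain ⟨ω', hω', _, h⟩ := ncard_hexacode_filter' hF ω hω
      (fun x => (Finset.univ.filter fun i => x i ≠ 0).card = 6)
    rw [h]
    simp only [weight_map]
    rw [ncard_hexacode_filter hω']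
    exact cnt6 hω'

end Cfsg.Agent.S1610
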