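-- Statement S1612: the normaliser of a maximum commuting set E of 3-transpositions (Fischer hypotheses) contains a
-- Sylow 2-subgroup and is doubly transitive on E.
-- Proof: E = D ∩ P for a Sylow 2-subgroup P ≥ ⟨E⟩; G is transitive on ordered commuting pairs (S1613: D_c is one class
-- of ⟨D_c⟩ ≤ C(c)); two maximum commuting sets through {c, d} are conjugate in C({c, d}) by Sylow's theorem there.
import Cfsg.Statements.S1612
import Cfsg.Agent.Helper89.TranspMaxComm

set_option autoImplicit false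
open Cfsg

namespace Cfsg.Agent.S1612

open Cfsg.Agent.Helper89 Cfsg.Agent.Helper89.LocS3

/-- In a 3-transposition group (no solvable normal subgroup, perfect derived group), the normaliser of a commuting set of transpositions of maximum size contains a Sylow 2-subgroup and is doubly transitive on the set. -/
theorem result {G : Type*} [Group G] [Finite G] (hsol : ∀ N : Subgroup G, N.Normal → Group.IsSolvable ↥N → N = ⊥) (hperf : ⁅commutator G, commutator G⁆ = commutator G) {D : Set G} (hD : Cfsg.IsThreeTranspositionClass D) {E : Set G} (hE : E ⊆ D) (hc : ∀ a ∈ E, ∀ b ∈ E, Commute a b) (hmax : ∀ E' : Set G, E' ⊆ D → (∀ a ∈ E', ∀ b ∈ E', Commute a b) → E'.ncard ≤ E.ncard) : (∃ P : Sylow 2 G, (P : Subgroup G) ≤ Subgroup.normalizer E) ∧ ∀ a ∈ E, ∀ b ∈ E, ∀ c ∈ E, ∀ d ∈ E, a ≠ b → c ≠ d → ∃ g ∈ Subgroup.normalizer E, g * a * g⁻¹ = c ∧ g * b * g⁻¹ = d := by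
  have hT := hD.1
  have hconj := Cfsg.Agent.S5353.class_conj hD
  have htrans := Cfsg.Agent.S5353.class_trans hD
  refine ⟨MaxComm.exists_sylow_le_normalizer hT hconj hE hc hmax, ?_⟩
  intro a ha b hb c hc' d hd hab hcd
  have hD2 : ∃ a ∈ D, ∃ b ∈ D, a ≠ b := ⟨a, hE ha, b, hE hb, hab⟩
  have hw : ∃ a ∈ D, ∃ b ∈ D, a ≠ b ∧ Commute a b := ⟨a, hE ha, b, hE hb, hab, hc a ha b hb⟩
  have hprim := FischerPrim.isPrimitiveUnderConj_of_fischer hsol hperf hD hD2
  have hloc : ∀ d ∈ D, ∀ y ∈ Dd D d, ∀ y' ∈ Dd D d,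
      ∃ g ∈ Subgroup.closure (Dd D d), g * y * g⁻¹ = y' :=
    fun d hd y hy y' hy' =>
      LocalClass.exists_conj_of_mem_Dd hT hconj hD.2.2 hprim hw hd hy hy'
  exact MaxComm.exists_mem_normalizer_conj_pair hT htrans hconj hloc hE hc hmax ha hb hc' hd hab hcd

end Cfsg.Agent.S1612
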