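import Cfsg.Statements.S1615
import Cfsg.Agent.Helper89.FischerS5
import Cfsg.Agent.Helper89.TranspFischerPrim
import Cfsg.Agent.Lib.Cores

set_option autoImplicit false
open Cfsg

namespace Cfsg.Agent.S1615

/-- If O(⟨D_x⟩) is not central in ⟨D_x⟩ for some transposition x, the 3-transposition group is the symmetric group of degree 5. -/
theorem result {G : Type*} [Group G] [Finite G] (hsol : ∀ N : Subgroup G, N.Normal → Group.IsSolvable ↥N → N = ⊥) (hperf : ⁅commutator G, commutator G⁆ = commutator G) {D : Set G} (hD : Cfsg.IsThreeTranspositionClass D) (x : G) (hx : x ∈ D) (h : ¬ Cfsg.oddCore ↥(Subgroup.closure {y : G | y ∈ D ∧ y ≠ x ∧ Commute x y}) ≤ Subgroup.center ↥(Subgroup.closure {y : G | y ∈ D ∧ y ≠ x ∧ Commute x y})) : Nonempty (G ≃* Equiv.Perm (Fin 5)) := by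
  have hT := hD.1
  have hconj := Cfsg.Agent.S5353.class_conj hD
  have hgen := hD.2.2
  have hDd : {y : G | y ∈ D ∧ y ≠ x ∧ Commute x y} = Cfsg.Agent.Helper89.LocS3.Dd D x := rfl
  rw [hDd] at h
  set M := Subgroup.closure (Cfsg.Agent.Helper89.LocS3.Dd D x) with hM
  rw [SetLike.not_le_iff_exists] at h
  obtain ⟨u, huO, huZ⟩ := h
  rw [Subgroup.mem_center_iff] at huZ
  -- a member of `D_x` not commuting with `u`
  have hex : ∃ a ∈ Cfsg.Agent.Helper89.LocS3.Dd D x, ¬ Commute (u : G) a := by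
    by_contra hno
    apply huZ
    intro m
    have hle : M ≤ Subgroup.centralizer {(u : G)} := by
      refine (Subgroup.closure_le _).mpr ?_
      intro a ha
      rw [SetLike.mem_coe, Subgroup.mem_centralizer_iff]
      intro z hz
      rw [Set.mem_singleton_iff] at hz
      subst hz
      by_contra hc
      exact hno ⟨a, ha, hc⟩
    have := Subgroup.mem_centralizer_iff.mp (hle m.2) u rfl
    apply Subtype.ext
    exact this.symm
  obtain ⟨a, ha, hua⟩ := hex
  -- the image of the core in `G`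
  have hOodd : Odd (Nat.card ((Cfsg.oddCore ↥M).map M.subtype)) := by
    have : Nat.card ((Cfsg.oddCore ↥M).map M.subtype) = Nat.card (Cfsg.oddCore ↥M) :=
      Nat.card_congr ((Cfsg.oddCore ↥M).equivMapOfInjective M.subtype
        M.subtype_injective).symm.toEquiv
    rw [this]
    exact Cfsg.Agent.Lib.odd_card_oddCore
  have huO' : (u : G) ∈ (Cfsg.oddCore ↥M).map M.subtype := ⟨u, huO, rfl⟩
  have hcent : M ≤ Subgroup.centralizer {x} := by
    refine (Subgroup.closure_le _).mpr ?_
    intro y hy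
    rw [SetLike.mem_coe, Subgroup.mem_centralizer_iff]
    intro z hz
    rw [Set.mem_singleton_iff] at hz
    subst hz
    exact hy.2.2.eq
  have hux : Commute (u : G) x := by
    have := Subgroup.mem_centralizer_iff.mp (hcent u.2) x rfl
    exact this.symm
  have hnorm : (Cfsg.oddCore ↥M).Normal := by
    have := Cfsg.Agent.Lib.pPrimeCore_characteristic (G := ↥M) 2
    infer_instance
  have hOn : ∀ c ∈ Cfsg.Agent.Helper89.LocS3.Dd D x, ∀ v ∈ (Cfsg.oddCore ↥M).map M.subtype,
      c * v * c⁻¹ ∈ (Cfsg.oddCore ↥M).map M.subtype := by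
    rintro c hc v ⟨v', hv', rfl⟩
    have hcM : c ∈ M := Subgroup.subset_closure hc
    have := hnorm.conj_mem v' hv' ⟨c, hcM⟩
    exact ⟨_, this, rfl⟩
  obtain ⟨hb, hab, htw⟩ := Cfsg.Agent.Helper89.FTwin.local_twin_of_odd hT hconj hOodd ha huO' hux
    hua hOn
  have hD2 : ∃ a ∈ D, ∃ b ∈ D, a ≠ b := ⟨x, hx, a, ha.1, ha.2.1.symm⟩
  have hprim := Cfsg.Agent.Helper89.FischerPrim.isPrimitiveUnderConj_of_fischer hsol hperf hD hD2
  exact Cfsg.Agent.Helper89.FS5.s5_of_local_twin hT hconj hgen hprim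
    Cfsg.Agent.Helper89.FischerPrim.hallHyp hx ha hb hab htw

end Cfsg.Agent.S1615
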