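import Cfsg.Statements.S1619
import Cfsg.Agent.Helper7.J2.CenterChk
import Cfsg.Agent.Helper98.J2Bsgs
import Cfsg.Agent.Helper50.J2D

set_option autoImplicit false
open Quaternion
open Cfsg

namespace Cfsg.Agent.S1619

/-- The icosian reflection group has order 1209600 with centre {±1}; the Hall–Janko group has order 604800 = 2^7·3^3·5^2·7. -/
theorem result : Nat.card ↥Cfsg.Spor.twoJ2 = 1209600 ∧ Nat.card ↥(Subgroup.center ↥Cfsg.Spor.twoJ2) = 2 ∧ (∃ z ∈ Subgroup.center ↥Cfsg.Spor.twoJ2, ∀ x : ↥Cfsg.Spor.icoLeech, (((z : Equiv.Perm ↥Cfsg.Spor.icoLeech) x : ↥Cfsg.Spor.icoLeech) : Fin 3 → ℍ[ℝ]) = -(x : Fin 3 → ℍ[ℝ])) ∧ Nat.card Cfsg.Spor.J2 = 604800 := by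
  obtain ⟨gi, hgi, gw, hgw, h1, hh1, h2, hh2, egi, egw, eh1, eh2⟩ :=
    Cfsg.Agent.Helper7.J2.exists_frame_movers
  have hc : Nat.card ↥(Subgroup.center ↥Cfsg.Spor.twoJ2) = 2 :=
    Cfsg.Agent.Helper50.J2D.card_center_eq_two hgi hgw hh1 hh2 egi egw eh1 eh2
  have hJ : Nat.card Cfsg.Spor.J2 = 604800 := by
    obtain ⟨e, -⟩ := Cfsg.Agent.Helper7.J2.bridge
    rw [Nat.card_congr e.toEquiv]
    exact Cfsg.Agent.Helper98.J2.card_G315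
  refine ⟨?_, hc, ?_, hJ⟩
  · rw [Subgroup.card_eq_card_quotient_mul_card_subgroup (Subgroup.center ↥Cfsg.Spor.twoJ2), hc]
    have : Nat.card (↥Cfsg.Spor.twoJ2 ⧸ Subgroup.center ↥Cfsg.Spor.twoJ2) = 604800 := hJ
    rw [this]
  · obtain ⟨z, hz, hzx⟩ := Cfsg.Agent.Helper68.J2C.exists_neg_one
    exact ⟨⟨z, hz⟩, Cfsg.Agent.Helper68.J2C.neg_one_mem_center hz hzx, hzx⟩

end Cfsg.Agent.S1619
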