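import Cfsg.Statements.S1622
import Cfsg.Agent.Helper7.J2.Bridge

set_option autoImplicit false
open Quaternion
open Cfsg

namespace Cfsg.Agent.S1622

/-- The reflection group is transitive on its 315 reflections by conjugation. -/
theorem result (f f' : Equiv.Perm ↥Cfsg.Spor.icoLeech) (hf : Cfsg.Spor.IsIcoReflection f) (hf' : Cfsg.Spor.IsIcoReflection f') : ∃ g ∈ Cfsg.Spor.twoJ2, g * f * g⁻¹ = f' := by
  open Cfsg.Agent.Helper7.J2 in
  obtain ⟨j, hj⟩ := isIcoReflection_iff_r315.1 hf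
  obtain ⟨k, hk⟩ := isIcoReflection_iff_r315.1 hf'
  have h1 : phi (evalW (transWords.getD j.1 [])) 0 = j := by rw [phi_evalW, transWords_ok]
  have h2 : phi (evalW (transWords.getD k.1 [])) 0 = k := by rw [phi_evalW, transWords_ok]
  rw [phi_apply_eq_iff] at h1 h2
  refine ⟨((evalW (transWords.getD k.1 []) * (evalW (transWords.getD j.1 []))⁻¹ : ↥Cfsg.Spor.twoJ2) :
    Equiv.Perm ↥Cfsg.Spor.icoLeech), Subtype.property _, ?_⟩
  rw [hj, hk, ← h1, ← h2]
  simp only [Subgroup.coe_mul, Subgroup.coe_inv]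
  group

end Cfsg.Agent.S1622
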