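import Cfsg.Statements.S1623
import Cfsg.Agent.Helper7.J2.Bridge
import Cfsg.Agent.Helper98.J2Local

set_option autoImplicit false
open Quaternion
open Cfsg

namespace Cfsg.Agent.S1623

/-- A reflection centraliser in the Hall–Janko group is an extension of an extraspecial group of order 32 by the alternating group of degree 5. -/
theorem result (f : Equiv.Perm ↥Cfsg.Spor.icoLeech) (hf : Cfsg.Spor.IsIcoReflection f) (hfm : f ∈ Cfsg.Spor.twoJ2) : ∃ (Q : Subgroup ↥(Subgroup.centralizer {(QuotientGroup.mk ⟨f, hfm⟩ : Cfsg.Spor.J2)})) (_ : Q.Normal), Nat.card Q = 32 ∧ Cfsg.IsExtraspecial 2 Q ∧ Nonempty (↥(Subgroup.centralizer {(QuotientGroup.mk ⟨f, hfm⟩ : Cfsg.Spor.J2)}) ⧸ Q ≃* alternatingGroup (Fin 5)) := by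
  obtain ⟨e, he⟩ := Cfsg.Agent.Helper7.J2.bridge
  obtain ⟨x, hx⟩ := he f hf hfm
  have h1 : e (QuotientGroup.mk ⟨f, hfm⟩ : Cfsg.Spor.J2) = x * Cfsg.Agent.Helper98.J2.aM * x⁻¹ := by
    apply Subtype.ext
    rw [hx, Subgroup.coe_mul, Subgroup.coe_mul, Subgroup.coe_inv, Cfsg.Agent.Helper98.J2.aM_coe]
  have h2 : Cfsg.Agent.Helper98.J2.CentShape (e (QuotientGroup.mk ⟨f, hfm⟩ : Cfsg.Spor.J2)) := by
    rw [h1]
    exact Cfsg.Agent.Helper98.J2.centShape_conj x _ Cfsg.Agent.Helper98.J2.centShape_aM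
  exact Cfsg.Agent.Helper98.J2.centShape_of_mulEquiv e _ h2

end Cfsg.Agent.S1623
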