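import Cfsg.Statements.S1624
import Cfsg.Agent.Helper98.J2U3Iso
import Cfsg.Agent.Helper7.J2Sub.Orbits
import Cfsg.Agent.Helper7.J2Sub.Transport
import Cfsg.Agent.Helper7.J2.Bridge

set_option autoImplicit false
open Quaternion
open Cfsg

namespace Cfsg.Agent.S1624

open Pointwise Cfsg.Agent.Helper7.J2 Cfsg.Agent.Helper98.J2 Cfsg.Agent.Helper7.J2Sub

/-- The Hall–Janko group contains PSU(3, 3) with index 100 and acts on the 100 cosets with rank 3 and subdegrees 1, 36, 63. -/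
theorem result : ∃ H : Subgroup Cfsg.Spor.J2, H.index = 100 ∧ (∃ (F : Type) (_ : Field F) (_ : Fintype F), Fintype.card F = 9 ∧ Nonempty (↥H ≃* Cfsg.PSU 3 F 3)) ∧ ∃ c₁ c₂ : Cfsg.Spor.J2 ⧸ H, (MulAction.orbit ↥H c₁).ncard = 36 ∧ (MulAction.orbit ↥H c₂).ncard = 63 := by
  obtain ⟨e, -⟩ := Cfsg.Agent.Helper7.J2.bridge
  obtain ⟨g₁, h₁⟩ := exists_orbit_36
  obtain ⟨g₂, h₂⟩ := exists_orbit_63
  have hiso : Nonempty (↥(MulAction.stabilizer M (Dset 0)) ≃* Cfsg.PSU 3 Cfsg.Agent.Helper98.GF9 3) :=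
    nonempty_HM_equiv card_stab
  obtain ⟨H, hidx, hH, c₁, c₂, hc₁, hc₂⟩ :=
    exists_subgroup_of_action e (Dset 0) 100 36 63 (Cfsg.PSU 3 Cfsg.Agent.Helper98.GF9 3)
      orbit_Dset hiso g₁ g₂ h₁ h₂
  exact ⟨H, hidx, ⟨Cfsg.Agent.Helper98.GF9, inferInstance, inferInstance,
    Cfsg.Agent.Helper98.card_GF9, hH⟩, c₁, c₂, hc₁, hc₂⟩

end Cfsg.Agent.S1624
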