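import Cfsg.Statements.S1628
import Cfsg.Agent.Helper27.RuMin

set_option autoImplicit false
open Cfsg

namespace Cfsg.Agent.S1628

open Cfsg.Spor Cfsg.Agent.Helper27

theorem ruCf_eq_zero {x : RuVec} (h : ruCf x = 0) : x = 0 := by
  have h0 : ∀ n k, ruCf x n k = 0 := fun n k => by rw [h]; rfl
  funext p
  obtain ⟨n, t⟩ := p
  fin_cases t
  · exact Zsqrtd.ext (h0 n 0) (h0 n 1)
  · exact Zsqrtd.ext (h0 n 2) (h0 n 3)
  · exact Zsqrtd.ext (h0 n 4) (h0 n 5)
  · exact Zsqrtd.ext (h0 n 6) (h0 n 7)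

theorem ruNorm_eq_zero {x : RuVec} (h : ruNorm x = 0) : x = 0 := by
  apply ruCf_eq_zero
  rw [ruNorm_eq] at h
  funext n k
  have h2 := (Finset.sum_eq_zero_iff_of_nonneg
    (fun n _ => Finset.sum_nonneg fun k _ => sq_nonneg (ruCf x n k))).mp h n (Finset.mem_univ n)
  have h3 := (Finset.sum_eq_zero_iff_of_nonneg fun k _ => sq_nonneg (ruCf x n k)).mp h2 k
    (Finset.mem_univ k)
  exact pow_eq_zero_iff (two_ne_zero) |>.mp h3

theorem ruNorm_nonneg (x : RuVec) : 0 ≤ ruNorm x := by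
  rw [ruNorm_eq]
  exact Finset.sum_nonneg fun n _ => Finset.sum_nonneg fun k _ => sq_nonneg _

theorem ruNorm_ne_eight {x : RuVec} (hx : x ∈ ruLattice) : ruNorm x ≠ 8 := by
  rw [ruNorm_eq_dot]
  exact ruDot_self_ne_eight (ruCf_mem_of_mem hx)

theorem ruFirst_norm : ruLdot (ruFlat (ruCf (ruTable.getD 0 0))) (ruFlat (ruCf (ruTable.getD 0 0))) = 16 := by
  decide +kernel


/-- The Conway–Wales lattice as stored is even with no vectors of true norm 2: stored norms are multiples of 8, never equal to 8, and the minimum over nonzero vectors is 16. -/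
theorem result : (∀ x ∈ Cfsg.Spor.ruLattice, (8 : ℤ) ∣ Cfsg.Spor.ruNorm x) ∧ (∀ x ∈ Cfsg.Spor.ruLattice, Cfsg.Spor.ruNorm x ≠ 8) ∧ (∀ x ∈ Cfsg.Spor.ruLattice, x ≠ 0 → 16 ≤ Cfsg.Spor.ruNorm x) ∧ ∃ x ∈ Cfsg.Spor.ruLattice, Cfsg.Spor.ruNorm x = 16 := by
  refine ⟨fun x hx => ruNorm_dvd hx, fun x hx => ruNorm_ne_eight hx, fun x hx hx0 => ?_, ?_⟩
  · obtain ⟨c, hc⟩ := ruNorm_dvd hx
    have h1 := ruNorm_nonneg x
    have h2 := ruNorm_ne_eight hx
    have h3 : ruNorm x ≠ 0 := fun h => hx0 (ruNorm_eq_zero h)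
    omega
  · have hlen : ruTable.length = 20 := rfl
    have h0 : 0 < ruTable.length := by rw [hlen]; norm_num
    refine ⟨ruTable.getD 0 0, ?_, ?_⟩
    · rw [ruLattice, AddSubgroup.mem_sInf]
      intro L hL
      apply hL.1
      rw [List.getD_eq_getElem _ _ h0]
      exact List.getElem_mem h0
    · rw [ruNorm_eq_dot, ← ruLdot_flat]
      exact ruFirst_norm

end Cfsg.Agent.S1628
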