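import Cfsg.Statements.S1631
import Cfsg.Agent.Helper94.SUTransp
import Cfsg.Agent.S2644
import Cfsg.Agent.S0780

set_option autoImplicit false
open scoped MatrixGroups
open Cfsg

namespace Cfsg.Agent.S1631

/-- The unitary transvections of SU(n, 2), n ≥ 4, form a generating conjugacy class of 3-transpositions. -/
theorem result (F : Type) [Field F] [Fintype F] [DecidableEq F] (hF : Fintype.card F = 4) (n : ℕ) (hn : 4 ≤ n) : Cfsg.IsThreeTranspositionClass {g : ↥(Cfsg.SU n F 2) | (((g : Matrix.SpecialLinearGroup (Fin n) F) : Matrix (Fin n) (Fin n) F) - 1).rank = 1} := by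
  classical
  have hF2 : Fintype.card F = 2 ^ 2 := by rw [hF]; norm_num
  show Cfsg.IsThreeTranspositionClass (Cfsg.Agent.Helper94.suTvSet n F)
  refine ⟨Cfsg.Agent.Helper94.isThreeTranspositionSet_suTvSet hF, ?_, ?_⟩
  · obtain ⟨d, hd⟩ := Cfsg.Agent.Helper94.suTvSet_nonempty (n := n) hF (by omega)
    refine ⟨d, hd, ?_⟩
    ext e
    show _ ↔ IsConj d e
    constructor
    · intro he
      exact Cfsg.Agent.S2644.result hF2 (by omega) d e
        (Cfsg.Agent.Helper94.isTransvection_of_mem_suTvSet d hd)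
        (Cfsg.Agent.Helper94.isTransvection_of_mem_suTvSet e he)
    · intro hde
      rw [isConj_iff] at hde
      obtain ⟨g, rfl⟩ := hde
      exact Cfsg.Agent.Helper94.conj_mem_suTvSet g d hd
  · rw [eq_top_iff, ← Cfsg.Agent.S0780.result hF2 n (by omega) (by omega), Subgroup.closure_le]
    rintro A ⟨v, c, hvv, hA⟩
    rcases Cfsg.Agent.Helper94.gen_mem_suTvSet hF A v c hvv hA with h | h
    · rw [h]; exact Subgroup.one_mem _
    · exact Subgroup.subset_closure h


end Cfsg.Agent.S1631
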