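import Cfsg.Statements.S1635
import Cfsg.Agent.Helper27.GolayCosets
import Cfsg.Agent.Helper27.Octads

set_option autoImplicit false
open Cfsg

namespace Cfsg.Agent.S1635

open Cfsg.Agent.Helper27

theorem norm_add_le (v v' : GolayPt → ZMod 2) : hammingNorm (v + v') ≤ hammingNorm v + hammingNorm v' := by
  have h : v + v' = -v + v' := by rw [CharTwo.neg_eq]
  rw [h, ← hammingDist_eq_hammingNorm]
  calc hammingDist v v' ≤ hammingDist v 0 + hammingDist 0 v' := hammingDist_triangle v 0 v'
    _ = hammingNorm v + hammingNorm v' := by rw [hammingDist_zero_right, hammingDist_zero_left]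

theorem norm_sub_le (v v' : GolayPt → ZMod 2) : hammingNorm (v - v') ≤ hammingNorm v + hammingNorm v' := by
  rw [CharTwo.sub_eq_add]; exact norm_add_le v v'

/-- two words in the same coset of total weight less than 8 are equal -/
theorem close_eq (w v v' : GolayPt → ZMod 2) (hv : w - v ∈ golayCode) (hv' : w - v' ∈ golayCode)
    (h : hammingNorm v + hammingNorm v' < 8) : v = v' := by
  have h1 : v - v' ∈ golayCode := by
    have : v - v' = (w - v') - (w - v) := by abel
    rw [this]; exact golayCode.sub_mem hv' hv
  by_contra hne
  have h2 := eight_le_weight _ h1 (sub_ne_zero.mpr hne)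
  have h3 := norm_sub_le v v'
  omega

theorem norm_add_indWord (v : GolayPt → ZMod 2) (o : Finset GolayPt) :
    hammingNorm (v + indWord o) + 2 * (support₂ v ∩ o).card = hammingNorm v + o.card := by
  rw [hammingNorm_eq_card_support₂, support₂_add, support₂_indWord, card_symmDiff_add,
    hammingNorm_eq_card_support₂]


/-- Coset leaders of the length-24 code: a coset contains a unique word of weight ≤ 3, or else exactly six words of weight 4 and none lighter. -/
theorem result (w : Cfsg.GolayPt → ZMod 2) : ({v : Cfsg.GolayPt → ZMod 2 | hammingNorm v ≤ 4 ∧ w - v ∈ Cfsg.golayCode}.ncard = 1 ∧ ∃ v : Cfsg.GolayPt → ZMod 2, hammingNorm v ≤ 3 ∧ w - v ∈ Cfsg.golayCode) ∨ ({v : Cfsg.GolayPt → ZMod 2 | hammingNorm v ≤ 4 ∧ w - v ∈ Cfsg.golayCode}.ncard = 6 ∧ ∀ v : Cfsg.GolayPt → ZMod 2, w - v ∈ Cfsg.golayCode → hammingNorm v ≤ 4 → hammingNorm v = 4) := by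
  classical
  set A : Set (GolayPt → ZMod 2) := {v | hammingNorm v ≤ 4 ∧ w - v ∈ Cfsg.golayCode} with hA
  by_cases hcase : ∃ v : GolayPt → ZMod 2, hammingNorm v ≤ 3 ∧ w - v ∈ Cfsg.golayCode
  · left
    refine ⟨?_, hcase⟩
    obtain ⟨v, hv3, hv⟩ := hcase
    have : A = {v} := by
      ext v'
      simp only [hA, Set.mem_ofPred_eq, Set.mem_singleton_iff]
      constructor
      · rintro ⟨h4, hv'⟩
        exact (close_eq w v v' hv hv' (by omega)).symm
      · rintro rfl
        exact ⟨by omega, hv⟩
    rw [this, Set.ncard_singleton]
  · right
    have hall : ∀ v : GolayPt → ZMod 2, w - v ∈ Cfsg.golayCode → hammingNorm v ≤ 4 → hammingNorm v = 4 := by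
      intro v hv h4
      by_contra hne
      exact hcase ⟨v, by omega, hv⟩
    refine ⟨?_, hall⟩
    obtain ⟨v0, h04, hv0⟩ := exists_leader w
    have h0 : hammingNorm v0 = 4 := hall v0 hv0 h04
    set T := support₂ v0 with hT
    have hTcard : T.card = 4 := by rw [hT, ← hammingNorm_eq_card_support₂, h0]
    set S : Set (Finset GolayPt) := insert ∅ {o | o ∈ Cfsg.octads ∧ T ⊆ o} with hS
    have hScard : S.ncard = 6 := by
      rw [hS, Set.ncard_insert_of_notMem, ncard_octads_through_four T hTcard]
      · rintro ⟨h, _⟩
        have := ((mem_octads_iff ∅).mp h).2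
        simp at this
    have himage : A = (fun o => v0 + indWord o) '' S := by
      ext v
      simp only [hA, hS, Set.mem_ofPred_eq, Set.mem_image, Set.mem_insert_iff]
      constructor
      · rintro ⟨hv4, hv⟩
        have hv4' : hammingNorm v = 4 := hall v hv hv4
        have hc : v0 + v ∈ Cfsg.golayCode := by
          have : v0 + v = (w - v0) - (w - v) := by
            funext p
            simp only [Pi.add_apply, Pi.sub_apply]
            generalize v0 p = a
            generalize v p = b
            generalize w p = c
            revert a b c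
            decide
          rw [this]; exact Cfsg.golayCode.sub_mem hv0 hv
        refine ⟨support₂ (v0 + v), ?_, ?_⟩
        · by_cases hz : v0 + v = 0
          · left; rw [hz, support₂_zero]
          · right
            have h8 := eight_le_weight _ hc hz
            have h8' := norm_add_le v0 v
            have hw8 : hammingNorm (v0 + v) = 8 := by omega
            have hoct : support₂ (v0 + v) ∈ Cfsg.octads := by
              rw [mem_octads_iff, indWord_support₂]
              exact ⟨hc, hw8⟩
            refine ⟨hoct, ?_⟩
            have hform := norm_add_indWord v0 (support₂ (v0 + v))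
            rw [indWord_support₂, ← add_assoc, CharTwo.add_self_eq_zero, zero_add, hv4', h0,
              ← hammingNorm_eq_card_support₂, hw8, ← hT] at hform
            have hcard : (T ∩ support₂ (v0 + v)).card = 4 := by omega
            have hsub : T ∩ support₂ (v0 + v) = T :=
              Finset.eq_of_subset_of_card_le Finset.inter_subset_left (by rw [hcard, hTcard])
            exact Finset.inter_eq_left.mp hsub
        · rw [indWord_support₂, ← add_assoc, CharTwo.add_self_eq_zero, zero_add]
      · rintro ⟨o, ho, rfl⟩
        rcases ho with rfl | ⟨hoct, hTo⟩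
        · rw [indWord_empty, add_zero]
          exact ⟨h04, hv0⟩
        · have hoc := (mem_octads_iff o).mp hoct
          have hform := norm_add_indWord v0 o
          rw [Finset.inter_eq_left.mpr hTo, hTcard, h0, hoc.2] at hform
          refine ⟨by omega, ?_⟩
          have : w - (v0 + indWord o) = (w - v0) - indWord o := by abel
          rw [this]
          exact Cfsg.golayCode.sub_mem hv0 hoc.1
    rw [himage, Set.InjOn.ncard_image, hScard]
    intro o _ o' _ h
    have h' : indWord o = indWord o' := add_left_cancel h
    have := congrArg support₂ h'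
    rwa [support₂_indWord, support₂_indWord] at this

end Cfsg.Agent.S1635
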