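import Cfsg.Statements.S1636
import Cfsg.Agent.Helper27.GolayPunctured

set_option autoImplicit false
open Cfsg

namespace Cfsg.Agent.S1636

open Cfsg.Agent.Helper27

theorem count_weight (n : ℕ) :
    {u : ZMod 23 → ZMod 2 | u ∈ puncturedCode ∧ hammingNorm u = n}.ncard =
      countRange (fun c => (fun m => popc 23 m == n) (encode c)) 12 0 :=
  ncard_punct_filter (fun u => hammingNorm u = n) (fun m => popc 23 m == n)
    (by intro c _; rw [hammingNorm_punct_wordOf]; simp)

theorem count_all : puncturedCode.ncard = 4096 := by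
  have h := ncard_punct_filter (fun _ => True) (fun _ => true) (by simp)
  have h2 : countRange (fun c => (fun _ => true) (encode c)) 12 0 = 4096 := by decide +kernel
  rw [h2] at h
  rw [← h]
  congr 1
  ext u
  simp

theorem c7 : countRange (fun c => (fun m => popc 23 m == 7) (encode c)) 12 0 = 253 := by decide +kernel
theorem c8 : countRange (fun c => (fun m => popc 23 m == 8) (encode c)) 12 0 = 506 := by decide +kernel
theorem c11 : countRange (fun c => (fun m => popc 23 m == 11) (encode c)) 12 0 = 1288 := by decide +kernel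
theorem c12 : countRange (fun c => (fun m => popc 23 m == 12) (encode c)) 12 0 = 1288 := by decide +kernel
theorem c15 : countRange (fun c => (fun m => popc 23 m == 15) (encode c)) 12 0 = 506 := by decide +kernel
theorem c16 : countRange (fun c => (fun m => popc 23 m == 16) (encode c)) 12 0 = 253 := by decide +kernel


/-- The punctured length-23 code has weight distribution 0^1 7^253 8^506 11^1288 12^1288 15^506 16^253 23^1. -/
theorem result : {u : ZMod 23 → ZMod 2 | ∃ w ∈ Cfsg.golayCode, ∀ x : ZMod 23, u x = w (some x)}.ncard = 4096 ∧ {u : ZMod 23 → ZMod 2 | u ∈ {u : ZMod 23 → ZMod 2 | ∃ w ∈ Cfsg.golayCode, ∀ x : ZMod 23, u x = w (some x)} ∧ hammingNorm u = 7}.ncard = 253 ∧ {u : ZMod 23 → ZMod 2 | u ∈ {u : ZMod 23 → ZMod 2 | ∃ w ∈ Cfsg.golayCode, ∀ x : ZMod 23, u x = w (some x)} ∧ hammingNorm u = 8}.ncard = 506 ∧ {u : ZMod 23 → ZMod 2 | u ∈ {u : ZMod 23 → ZMod 2 | ∃ w ∈ Cfsg.golayCode, ∀ x : ZMod 23, u x = w (some x)} ∧ hammingNorm u = 11}.ncard = 1288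 ∧ {u : ZMod 23 → ZMod 2 | u ∈ {u : ZMod 23 → ZMod 2 | ∃ w ∈ Cfsg.golayCode, ∀ x : ZMod 23, u x = w (some x)} ∧ hammingNorm u = 12}.ncard = 1288 ∧ {u : ZMod 23 → ZMod 2 | u ∈ {u : ZMod 23 → ZMod 2 | ∃ w ∈ Cfsg.golayCode, ∀ x : ZMod 23, u x = w (some x)} ∧ hammingNorm u = 15}.ncard = 506 ∧ {u : ZMod 23 → ZMod 2 | u ∈ {u : ZMod 23 → ZMod 2 | ∃ w ∈ Cfsg.golayCode, ∀ x : ZMod 23, u x = w (some x)} ∧ hammingNorm u = 16}.ncard = 253 ∧ ∀ u ∈ {u : ZMod 23 → ZMod 2 | ∃ w ∈ Cfsg.golayCode, ∀ x : ZMod 23, u x = w (some x)}, u ≠ 0 → 7 ≤ hammingNorm u := by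
  refine ⟨count_all, ?_, ?_, ?_, ?_, ?_, ?_, ?_⟩
  · exact (count_weight 7).trans c7
  · exact (count_weight 8).trans c8
  · exact (count_weight 11).trans c11
  · exact (count_weight 12).trans c12
  · exact (count_weight 15).trans c15
  · exact (count_weight 16).trans c16
  · intro u hu h0
    exact seven_le_weight_punct u hu h0

end Cfsg.Agent.S1636
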