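import Cfsg.Statements.S1637
import Cfsg.Agent.Helper27.GolayPunctured

set_option autoImplicit false
open Cfsg

namespace Cfsg.Agent.S1637

open Cfsg.Agent.Helper27

theorem dist_eq_norm_add (u c : ZMod 23 → ZMod 2) : hammingDist u c = hammingNorm (u + c) := by
  rw [hammingDist_eq_hammingNorm, CharTwo.neg_eq]

theorem dist_eq_norm_sub (u c : ZMod 23 → ZMod 2) : hammingDist u c = hammingNorm (u - c) := by
  have h : u - c = -u + c := by rw [CharTwo.neg_eq, CharTwo.sub_eq_add]
  rw [h, hammingDist_eq_hammingNorm]

/-- a leader of weight at most 4 whose punctured word has weight at most 3 -/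
theorem exists_good_leader (w : GolayPt → ZMod 2) :
    ∃ v : GolayPt → ZMod 2, w - v ∈ golayCode ∧ hammingNorm (punct v) ≤ 3 := by
  classical
  obtain ⟨v, hv4, hv⟩ := exists_leader w
  by_cases h3 : hammingNorm v ≤ 3
  · exact ⟨v, hv, le_trans (hammingNorm_punct_le v) h3⟩
  have h4 : hammingNorm v = 4 := by omega
  by_cases hnone : v none ≠ 0
  · refine ⟨v, hv, ?_⟩
    have := hammingNorm_eq_punct_add v
    rw [if_pos hnone] at this
    omega
  -- `none` is not in the support: use the octad through the support and `none`
  rw [not_not] at hnone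
  set T := support₂ v with hT
  have hTcard : T.card = 4 := by rw [hT, ← hammingNorm_eq_card_support₂, h4]
  have hnT : (none : GolayPt) ∉ T := by
    rw [hT]
    simp [support₂, hnone]
  obtain ⟨o, ⟨hoct, hsub⟩, _⟩ := octads_steiner.2 (insert none T) (by rw [Finset.card_insert_of_notMem hnT, hTcard])
  have hoc := (mem_octads_iff o).mp hoct
  have hTo : T ⊆ o := (Finset.subset_insert _ _).trans hsub
  have hno : (none : GolayPt) ∈ o := hsub (Finset.mem_insert_self _ _)
  refine ⟨v + indWord o, ?_, ?_⟩
  · have : w - (v + indWord o) = (w - v) - indWord o := by abel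
    rw [this]
    exact golayCode.sub_mem hv hoc.1
  · have hform : hammingNorm (v + indWord o) + 2 * (support₂ v ∩ o).card = hammingNorm v + o.card := by
      rw [hammingNorm_eq_card_support₂, support₂_add, support₂_indWord, card_symmDiff_add,
        hammingNorm_eq_card_support₂]
    rw [← hT, Finset.inter_eq_left.mpr hTo, hTcard, h4, hoc.2] at hform
    have hval : (v + indWord o) none ≠ 0 := by
      simp [indWord, hno, hnone]
    have := hammingNorm_eq_punct_add (v + indWord o)
    rw [if_pos hval] at this
    omega


/-- The punctured length-23 code is a perfect 3-error-correcting code: each word of length 23 is within distance 3 of exactly one codeword. -/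
theorem result (u : ZMod 23 → ZMod 2) : ∃! c : ZMod 23 → ZMod 2, c ∈ {u : ZMod 23 → ZMod 2 | ∃ w ∈ Cfsg.golayCode, ∀ x : ZMod 23, u x = w (some x)} ∧ hammingDist u c ≤ 3 := by
  obtain ⟨v, hv, hv3⟩ := exists_good_leader (extZero u)
  refine ⟨punct (extZero u - v), ⟨?_, ?_⟩, ?_⟩
  · exact (mem_puncturedCode_iff _).mpr ⟨_, hv, rfl⟩
  · rw [dist_eq_norm_add, punct_sub, punct_extZero]
    have : u + (u - punct v) = punct v := by
      rw [CharTwo.sub_eq_add, ← add_assoc, CharTwo.add_self_eq_zero, zero_add]
    rw [this]
    exact hv3
  · rintro c ⟨hc, hdc⟩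
    by_contra hne
    have hmem : c - punct (extZero u - v) ∈ puncturedCode :=
      puncturedCode_sub_mem hc ((mem_puncturedCode_iff _).mpr ⟨_, hv, rfl⟩)
    have h7 := seven_le_weight_punct _ hmem (sub_ne_zero.mpr hne)
    have hd : hammingDist u (punct (extZero u - v)) ≤ 3 := by
      rw [dist_eq_norm_add, punct_sub, punct_extZero]
      have : u + (u - punct v) = punct v := by
        rw [CharTwo.sub_eq_add, ← add_assoc, CharTwo.add_self_eq_zero, zero_add]
      rw [this]
      exact hv3
    have htri := hammingDist_triangle c u (punct (extZero u - v))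
    rw [hammingDist_comm c u] at htri
    have : hammingDist c (punct (extZero u - v)) = hammingNorm (c - punct (extZero u - v)) :=
      dist_eq_norm_sub _ _
    omega

end Cfsg.Agent.S1637
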