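import Cfsg.Statements.S1680
import Cfsg.Agent.Helper28.Suz1.Main

set_option autoImplicit false
open Cfsg

namespace Cfsg.Agent.S1680


open Cfsg.Agent.Helper28 in
theorem aux (Y' : Set (FreeGroup Cfsg.Spor.Suz.Gen)) (hY : Y' = {y | y ∈ Helper28.Suz1.Ylist}) :
    (HH Helper28.Suz1.R Y').index = 1782 ∧ ∃ q₁ q₂ : PresentedGroup Helper28.Suz1.R ⧸ HH Helper28.Suz1.R Y',
      (MulAction.orbit (HH Helper28.Suz1.R Y') q₁).ncard = 416 ∧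
      (MulAction.orbit (HH Helper28.Suz1.R Y') q₂).ncard = 1365 := by
  subst hY
  obtain ⟨hidx, qOf, h1, -⟩ := Helper28.Suz1.main_orbits
  refine ⟨hidx, qOf 47, qOf 1, ?_, ?_⟩
  · rw [h1 47 (by decide)]; exact Helper28.Suz1.orb_cnt_47
  · rw [h1 1 (by decide)]; exact Helper28.Suz1.orb_cnt_1

/-- In the presented sporadic Suzuki group, let H be the subgroup generated by the images of a, …, f. Then H has index 1782, H has orbits of sizes 416 and 1365 on the cosets of H other than H itself (with the index 1782 this makes the action rank 3). -/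
theorem result : (((Subgroup.closure ({Cfsg.Spor.Suz.a, Cfsg.Spor.Suz.b, Cfsg.Spor.Suz.c, Cfsg.Spor.Suz.d, Cfsg.Spor.Suz.e, Cfsg.Spor.Suz.f} : Set (FreeGroup Cfsg.Spor.Suz.Gen))).map (PresentedGroup.mk (Cfsg.Spor.coxRelators Cfsg.Spor.Suz.edges ∪ {r | r ∈ Cfsg.Spor.Suz.extra})))).index = 1782 ∧ ∃ q₁ q₂ : Cfsg.Spor.Suz ⧸ (((Subgroup.closure ({Cfsg.Spor.Suz.a, Cfsg.Spor.Suz.b, Cfsg.Spor.Suz.c, Cfsg.Spor.Suz.d, Cfsg.Spor.Suz.e, Cfsg.Spor.Suz.f} : Set (FreeGroup Cfsg.Spor.Suz.Gen))).map (PresentedGroup.mk (Cfsg.Spor.coxRelators Cfsg.Spor.Suz.edges ∪ {r | r ∈ Cfsg.Spor.Suz.extra})))), (MulAction.orbit (((Subgroup.closure ({Cfsg.Spor.Suz.a, Cfsg.Spor.Suz.b, Cfsg.Spor.Suz.c, Cfsg.Spor.Suz.d, Cfsg.Spor.Suz.e, Cfsg.Spor.Suz.f} : Set (FreeGroup Cfsg.Spor.Suz.Gen))).map (PresentedGroup.mk (Cfsg.Spor.coxRelators Cfsg.Spor.Suz.edges ∪ {r | r ∈ Cfsg.Spor.Suz.extra}))))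 q₁).ncard = 416 ∧ (MulAction.orbit (((Subgroup.closure ({Cfsg.Spor.Suz.a, Cfsg.Spor.Suz.b, Cfsg.Spor.Suz.c, Cfsg.Spor.Suz.d, Cfsg.Spor.Suz.e, Cfsg.Spor.Suz.f} : Set (FreeGroup Cfsg.Spor.Suz.Gen))).map (PresentedGroup.mk (Cfsg.Spor.coxRelators Cfsg.Spor.Suz.edges ∪ {r | r ∈ Cfsg.Spor.Suz.extra})))) q₂).ncard = 1365 := by
  exact aux _ (by ext y; simp [Helper28.Suz1.Ylist])

end Cfsg.Agent.S1680
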