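import Cfsg.Statements.S1681
import Cfsg.Agent.Helper28.Suz2.Main

set_option autoImplicit false
open Cfsg

namespace Cfsg.Agent.S1681

theorem aux (Y' : Set (FreeGroup Cfsg.Spor.Suz.Gen)) (hY : Y' = {y | y ∈ Helper28.Suz2.Ylist}) :
    (((Subgroup.closure Y').map (PresentedGroup.mk (Cfsg.Spor.coxRelators Cfsg.Spor.Suz.edges ∪ {r | r ∈ Cfsg.Spor.Suz.extra})))).index = 22880 := by
  subst hY
  exact Helper28.Suz2.main_index

/-- In the presented sporadic Suzuki group (generators a, …, g), the subgroup generated by the images of a, b, c, d, f, g has index 22880. -/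
theorem result : (((Subgroup.closure ({Cfsg.Spor.Suz.a, Cfsg.Spor.Suz.b, Cfsg.Spor.Suz.c, Cfsg.Spor.Suz.d, Cfsg.Spor.Suz.f, Cfsg.Spor.Suz.g} : Set (FreeGroup Cfsg.Spor.Suz.Gen))).map (PresentedGroup.mk (Cfsg.Spor.coxRelators Cfsg.Spor.Suz.edges ∪ {r | r ∈ Cfsg.Spor.Suz.extra})))).index = 22880 :=
  aux _ (by ext y; simp [Helper28.Suz2.Ylist])

end Cfsg.Agent.S1681
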