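import Cfsg.Statements.S1682
import Cfsg.Agent.Helper28.He462.SpPres

set_option autoImplicit false
open Cfsg

namespace Cfsg.Agent.S1682

theorem aux (Y' : Set (FreeGroup Cfsg.Spor.He.Gen)) (hY : Y' = {y | y ∈ Helper28.He1.Ylist}) :
    ∃ (N : Subgroup (((Subgroup.closure Y').map (PresentedGroup.mk (Cfsg.Spor.coxRelators Cfsg.Spor.He.edges ∪ {r | r ∈ Cfsg.Spor.He.extra}))))) (K : Type) (_ : Field K) (_ : Fintype K), N.Normal ∧ N.index = 2 ∧ Fintype.card K = 4 ∧ Nonempty (N ≃* Matrix.symplecticGroup (Fin 2) K) := by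
  subst hY
  obtain ⟨N, hn, hi, he⟩ := Helper28.He462.exists_Sp_pres
  exact ⟨N, Helper27.GF4, Helper27.GF4.instFieldGF4, Helper27.GF4.instFintypeGF4, hn, hi,
    Helper27.GF4.card_eq, he⟩

/-- In the presented Held group, the subgroup H generated by the images of a, c, d, e, f, (ab)^2 and (bcde)^7 has a normal subgroup of index 2 isomorphic to the 4-dimensional symplectic group over a field with four elements. -/
theorem result : ∃ (N : Subgroup (((Subgroup.closure ({Cfsg.Spor.He.a, Cfsg.Spor.He.c, Cfsg.Spor.He.d, Cfsg.Spor.He.e, Cfsg.Spor.He.f, (Cfsg.Spor.He.a * Cfsg.Spor.He.b) ^ 2, (Cfsg.Spor.He.b * Cfsg.Spor.He.c * Cfsg.Spor.He.d * Cfsg.Spor.He.e) ^ 7} : Set (FreeGroup Cfsg.Spor.He.Gen))).map (PresentedGroup.mk (Cfsg.Spor.coxRelators Cfsg.Spor.He.edges ∪ {r | r ∈ Cfsg.Spor.He.extra}))))) (K : Type) (_ : Field K) (_ : Fintype K), N.Normal ∧ N.index = 2 ∧ Fintype.card K = 4 ∧ Nonempty (N ≃* Matrix.symplecticGroup (Fin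 2) K) :=
  aux _ (by ext y; simp [Helper28.He1.Ylist])

end Cfsg.Agent.S1682
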