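import Cfsg.Statements.S1691

set_option autoImplicit false
open Cfsg

namespace Cfsg.Agent.S1691

open Cfsg.Spor Cfsg.Spor.Fi24

/-- the relator set of the presentation -/
abbrev rels : Set (FreeGroup Gen) := coxRelators Fi24.edges ∪ {r | r ∈ Fi24.extra}

/-- image of a generator in the presented group -/
noncomputable abbrev gen (x : Gen) : Fi24 := PresentedGroup.of x

theorem sq_eq_one (z : Multiplicative (ZMod 2)) : z * z = 1 := by
  revert z; decide

theorem pow_even (z : Multiplicative (ZMod 2)) (n : ℕ) : (z * z) ^ n = 1 := by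
  rw [sq_eq_one, one_pow]

/-- the sign homomorphism to Z/2 -/
noncomputable def sgn : Fi24 →* Multiplicative (ZMod 2) :=
  PresentedGroup.toGroup (f := fun _ => Multiplicative.ofAdd (1 : ZMod 2)) (by
    intro r hr
    rcases hr with hr | hr
    · obtain ⟨x, _, y, _, rfl⟩ := hr
      simp only [map_pow, map_mul, FreeGroup.lift_apply_of]
      exact pow_even _ _
    · simp only [Fi24.extra, Set.mem_ofPred_eq, List.mem_cons, List.mem_nil_iff, or_false] at hr
      rcases hr with rfl | rfl
      · simp only [map_pow, map_mul, map_inv, FreeGroup.lift_apply_of]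
        decide
      · simp only [map_pow, map_mul, FreeGroup.lift_apply_of]
        decide)

theorem sgn_gen (x : Gen) : sgn (gen x) = Multiplicative.ofAdd (1 : ZMod 2) := by
  simp [sgn, gen]

/-- Coxeter relation in the presented group. -/
theorem cox_rel (x y : Gen) (hx : x ∈ coxNodes Fi24.edges) (hy : y ∈ coxNodes Fi24.edges) :
    (gen x * gen y) ^ coxLabel Fi24.edges x y = 1 := by
  have : (PresentedGroup.mk rels ((FreeGroup.of x * FreeGroup.of y) ^ coxLabel Fi24.edges x y)) = 1 := by
    rw [PresentedGroup.mk_eq_one_iff]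
    apply Subgroup.subset_normalClosure
    left
    exact ⟨x, hx, y, hy, rfl⟩
  simpa [gen, PresentedGroup.of] using this

theorem all_nodes (x : Gen) : x ∈ coxNodes Fi24.edges := by
  cases x <;> decide

theorem gen_sq (x : Gen) : gen x * gen x = 1 := by
  have h := cox_rel x x (all_nodes x) (all_nodes x)
  have h1 : coxLabel Fi24.edges x x = 1 := by simp [coxLabel]
  rw [h1, pow_one] at h
  exact h

/-- the abelianization map -/
noncomputable abbrev ab : Fi24 →* Abelianization Fi24 := Abelianization.of

theorem ab_sq (x : Gen) : ab (gen x) * ab (gen x) = 1 := by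
  rw [← map_mul, gen_sq, map_one]

theorem ab_edge (x y : Gen) (h3 : coxLabel Fi24.edges x y = 3) : ab (gen x) = ab (gen y) := by
  have h := cox_rel x y (all_nodes x) (all_nodes y)
  rw [h3] at h
  have h' : (ab (gen x) * ab (gen y)) ^ 3 = 1 := by
    rw [← map_mul, ← map_pow, h, map_one]
  have hx := ab_sq x
  have hy := ab_sq y
  rw [mul_pow] at h'
  have e1 : ab (gen x) ^ 3 = ab (gen x) := by
    rw [pow_succ, pow_two, hx, one_mul]
  have e2 : ab (gen y) ^ 3 = ab (gen y) := by
    rw [pow_succ, pow_two, hy, one_mul]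
  rw [e1, e2] at h'
  calc ab (gen x) = ab (gen x) * (ab (gen y) * ab (gen y)) := by rw [hy, mul_one]
    _ = (ab (gen x) * ab (gen y)) * ab (gen y) := by rw [mul_assoc]
    _ = ab (gen y) := by rw [h', one_mul]

theorem ab_all (x : Gen) : ab (gen x) = ab (gen Gen.d) := by
  have hc : ab (gen Gen.c) = ab (gen Gen.d) := ab_edge _ _ (by decide)
  have hb : ab (gen Gen.b) = ab (gen Gen.c) := ab_edge _ _ (by decide)
  have ha : ab (gen Gen.a) = ab (gen Gen.b) := ab_edge _ _ (by decide)
  have hk : ab (gen Gen.k) = ab (gen Gen.a) := ab_edge _ _ (by decide)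
  have hl : ab (gen Gen.l) = ab (gen Gen.k) := ab_edge _ _ (by decide)
  have he : ab (gen Gen.d) = ab (gen Gen.e) := ab_edge _ _ (by decide)
  have hf : ab (gen Gen.e) = ab (gen Gen.f) := ab_edge _ _ (by decide)
  have hg : ab (gen Gen.f) = ab (gen Gen.g) := ab_edge _ _ (by decide)
  have hj : ab (gen Gen.g) = ab (gen Gen.j) := ab_edge _ _ (by decide)
  have hh : ab (gen Gen.d) = ab (gen Gen.h) := ab_edge _ _ (by decide)
  have hi : ab (gen Gen.h) = ab (gen Gen.i) := ab_edge _ _ (by decide)
  cases x
  · rw [hl, hk, ha, hb, hc]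
  · rw [hk, ha, hb, hc]
  · rw [ha, hb, hc]
  · rw [hb, hc]
  · rw [hc]
  · rfl
  · rw [← he]
  · rw [← hf, ← he]
  · rw [← hg, ← hf, ← he]
  · rw [← hj, ← hg, ← hf, ← he]
  · rw [← hh]
  · rw [← hi, ← hh]

theorem ab_mem (g : Fi24) : ab g ∈ Subgroup.zpowers (ab (gen Gen.d)) := by
  have hg : g ∈ Subgroup.closure (Set.range (PresentedGroup.of (rels := rels))) := by
    rw [PresentedGroup.closure_range_of]; trivial
  induction hg using Subgroup.closure_induction with
  | mem x hx =>
    obtain ⟨y, rfl⟩ := hx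
    have := ab_all y
    show ab (gen y) ∈ _
    rw [this]
    exact Subgroup.mem_zpowers _
  | one => rw [map_one]; exact Subgroup.one_mem _
  | mul x y _ _ hx hy =>
    rw [map_mul]
    exact Subgroup.mul_mem _ hx hy
  | inv x _ hx =>
    rw [map_inv]
    exact Subgroup.inv_mem _ hx

theorem zpowers_top : Subgroup.zpowers (ab (gen Gen.d)) = ⊤ := by
  rw [eq_top_iff]
  intro q _
  obtain ⟨g, rfl⟩ := QuotientGroup.mk_surjective (s := commutator Fi24) q
  exact ab_mem g

theorem orderOf_d : orderOf (ab (gen Gen.d)) = 2 := by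
  have h2 : ab (gen Gen.d) ^ 2 = 1 := by rw [pow_two]; exact ab_sq _
  have hne : ab (gen Gen.d) ≠ 1 := by
    intro h
    have h1 : Abelianization.lift sgn (ab (gen Gen.d)) = 1 := by rw [h, map_one]
    rw [Abelianization.lift_apply_of, sgn_gen] at h1
    revert h1
    decide
  exact orderOf_eq_prime h2 hne

theorem result : (commutator Cfsg.Spor.Fi24).index = 2 := by
  have h1 : (commutator Fi24).index = Nat.card (Abelianization Fi24) := rfl
  rw [h1, ← orderOf_d, ← Nat.card_zpowers, zpowers_top]
  exact (Nat.card_congr Subgroup.topEquiv.toEquiv).symm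

end Cfsg.Agent.S1691
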