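import Cfsg.Statements.S1717
import Cfsg.Agent.Helper29.SylowCent

set_option autoImplicit false
open Cfsg

namespace Cfsg.Agent.S1717

open Matrix Cfsg.Agent.Helper29

local notation "M5" => Matrix (Fin 5) (Fin 5) (ZMod 2)
local notation "SL5" => Matrix.SpecialLinearGroup (Fin 5) (ZMod 2)

/-- What commuting with an elementary transvection says about the entries. -/
theorem comm_transvection {a b : Fin 5} (M : M5)
    (h : M * transvection a b 1 = transvection a b 1 * M) :
    (∀ i, i ≠ a → M i a = 0) ∧ (∀ j, j ≠ b → M b j = 0) ∧ M a a = M b b := by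
  refine ⟨fun i hi => ?_, fun j hj => ?_, ?_⟩
  · have h1 := congrFun (congrFun h i) b
    rw [mul_transvection_apply_same, transvection_mul_apply_of_ne _ _ _ _ hi] at h1
    simpa using h1
  · have h1 := congrFun (congrFun h a) j
    rw [mul_transvection_apply_of_ne _ _ _ _ hj, transvection_mul_apply_same] at h1
    simpa using h1.symm
  · have h1 := congrFun (congrFun h a) b
    rw [mul_transvection_apply_same, transvection_mul_apply_same] at h1
    simpa using h1

theorem transvection_comm (a b : Fin 5) (hb0 : b ≠ 0) (ha1 : a ≠ 1) :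
    (transvection (0 : Fin 5) 1 (1 : ZMod 2)) * transvection a b 1 =
      transvection a b 1 * transvection 0 1 1 := by
  have h1 : single (0 : Fin 5) (1 : Fin 5) (1 : ZMod 2) * single a b (1 : ZMod 2) = 0 :=
    single_mul_single_of_ne _ _ _ _ (Ne.symm ha1) _
  have h2 : single a b (1 : ZMod 2) * single (0 : Fin 5) (1 : Fin 5) (1 : ZMod 2) = 0 :=
    single_mul_single_of_ne _ _ _ _ hb0 _
  simp only [transvection, add_mul, mul_add, one_mul, mul_one, h1, h2]
  abel

/-- The embedding of the lower-right block. -/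
def f : Fin 3 → Fin 5 := ![2, 3, 4]

theorem transvection_block (a b : Fin 5) (h : a = 0 ∨ b = 1) :
    (transvection a b (1 : ZMod 2)).submatrix f f = 1 := by
  ext i j
  rcases h with rfl | rfl
  · fin_cases i <;> fin_cases j <;> simp [transvection, f, single_apply, Matrix.one_apply]
  · fin_cases i <;> fin_cases j <;> simp [transvection, f, single_apply, Matrix.one_apply]

theorem zmod2_eq_one_of_ne_zero (x : ZMod 2) (h : x ≠ 0) : x = 1 := by revert x; decide

theorem zmod2_eq_zero_or_one (x : ZMod 2) : x = 0 ∨ x = 1 := by revert x; decide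

def F (a b2 b3 b4 c2 c3 c4 : ZMod 2) : M5 :=
  !![1, a, b2, b3, b4; 0, 1, 0, 0, 0; 0, c2, 1, 0, 0; 0, c3, 0, 1, 0; 0, c4, 0, 0, 1]

theorem F_sq (a b2 b3 b4 c2 c3 c4 : ZMod 2) :
    F a b2 b3 b4 c2 c3 c4 * F a b2 b3 b4 c2 c3 c4 = F (b2*c2+b3*c3+b4*c4) 0 0 0 0 0 0 := by
  ext i j
  fin_cases i <;> fin_cases j <;>
    simp [F, Matrix.mul_apply, Fin.sum_univ_five, CharTwo.add_self_eq_zero]

theorem F_pow_four (a b2 b3 b4 c2 c3 c4 : ZMod 2) : F a b2 b3 b4 c2 c3 c4 ^ 4 = 1 := by
  have h : F a b2 b3 b4 c2 c3 c4 ^ 4 =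
      (F a b2 b3 b4 c2 c3 c4 * F a b2 b3 b4 c2 c3 c4) *
        (F a b2 b3 b4 c2 c3 c4 * F a b2 b3 b4 c2 c3 c4) := by
    rw [show (4:ℕ) = 2 + 2 from rfl, pow_add, pow_two]
  rw [h, F_sq, F_sq]
  ext i j
  fin_cases i <;> fin_cases j <;> simp [F]

section
variable (s : SL5) (hs : (s : M5) = transvection 0 1 1)
include hs

theorem mem_cent_comm (g : SL5) (hg : g ∈ Subgroup.centralizer ({s} : Set SL5)) :
    (g : M5) * transvection 0 1 1 = transvection 0 1 1 * (g : M5) := by
  rw [Subgroup.mem_centralizer_iff] at hg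
  have h1 := hg s (Set.mem_singleton s)
  have h2 : ((s * g : SL5) : M5) = ((g * s : SL5) : M5) := by rw [h1]
  rw [Matrix.SpecialLinearGroup.coe_mul, Matrix.SpecialLinearGroup.coe_mul, hs] at h2
  exact h2.symm

theorem entry00 (g : SL5) (hg : g ∈ Subgroup.centralizer ({s} : Set SL5)) : (g : M5) 0 0 = 1 := by
  have hc := comm_transvection _ (mem_cent_comm s hs g hg)
  apply zmod2_eq_one_of_ne_zero
  intro h0
  have hdet : (g : M5).det = 0 := by
    apply det_eq_zero_of_column_eq_zero 0
    intro i
    by_cases hi : i = 0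
    · rw [hi]; exact h0
    · exact hc.1 i hi
  rw [g.2] at hdet
  exact one_ne_zero hdet

/-- The action on the three-dimensional section, as a monoid homomorphism. -/
def blockHom : Subgroup.centralizer ({s} : Set SL5) →* Matrix (Fin 3) (Fin 3) (ZMod 2) where
  toFun g := ((g : SL5) : M5).submatrix f f
  map_one' := by
    ext i j
    fin_cases i <;> fin_cases j <;> simp [f, Matrix.one_apply]
  map_mul' g h := by
    have hg := comm_transvection _ (mem_cent_comm s hs g g.2)
    have hh := comm_transvection _ (mem_cent_comm s hs h h.2)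
    ext i j
    simp only [Subgroup.coe_mul, Matrix.SpecialLinearGroup.coe_mul, submatrix_apply, mul_apply,
      Fin.sum_univ_five, Fin.sum_univ_three]
    have h1 : ((g : SL5) : M5) (f i) 0 = 0 := hg.1 (f i) (by fin_cases i <;> simp [f])
    have h2 : ((h : SL5) : M5) 1 (f j) = 0 := hh.2.1 (f j) (by fin_cases j <;> simp [f])
    rw [h1, h2]
    simp [f]

theorem ker_pow_four (g : Subgroup.centralizer ({s} : Set SL5)) (hg : g ∈ (blockHom s hs).ker) :
    g ^ 4 = 1 := by
  have hc := comm_transvection _ (mem_cent_comm s hs g g.2)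
  have h00 := entry00 s hs g g.2
  have h11 : ((g : SL5) : M5) 1 1 = 1 := by rw [← hc.2.2]; exact h00
  rw [MonoidHom.mem_ker] at hg
  have hb : ∀ i j : Fin 3, ((g : SL5) : M5) (f i) (f j) = (1 : Matrix (Fin 3) (Fin 3) (ZMod 2)) i j :=
    fun i j => congrFun (congrFun hg i) j
  have hF : ((g : SL5) : M5) = F (((g : SL5) : M5) 0 1) (((g : SL5) : M5) 0 2) (((g : SL5) : M5) 0 3)
      (((g : SL5) : M5) 0 4) (((g : SL5) : M5) 2 1) (((g : SL5) : M5) 3 1) (((g : SL5) : M5) 4 1) := by
    have e10 := hc.1 1 (by decide)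
    have e20 := hc.1 2 (by decide)
    have e30 := hc.1 3 (by decide)
    have e40 := hc.1 4 (by decide)
    have e12 := hc.2.1 2 (by decide)
    have e13 := hc.2.1 3 (by decide)
    have e14 := hc.2.1 4 (by decide)
    have b00 := hb 0 0
    have b01 := hb 0 1
    have b02 := hb 0 2
    have b10 := hb 1 0
    have b11 := hb 1 1
    have b12 := hb 1 2
    have b20 := hb 2 0
    have b21 := hb 2 1
    have b22 := hb 2 2
    simp [f] at b00 b01 b02 b10 b11 b12 b20 b21 b22
    ext i j
    fin_cases i <;> fin_cases j <;> simp [F, *]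
  apply Subtype.ext
  apply Subtype.ext
  show (((g ^ 4 : Subgroup.centralizer ({s} : Set SL5)) : SL5) : M5) = 1
  rw [Subgroup.coe_pow, Matrix.SpecialLinearGroup.coe_pow, hF]
  exact F_pow_four _ _ _ _ _ _ _

/-- Elementary transvections as elements of `SL(5, 2)`. -/
def tvSL (a b : Fin 5) (hab : a ≠ b) : SL5 :=
  ⟨transvection a b 1, det_transvection_of_ne a b hab 1⟩

omit hs in
theorem tvSL_coe (a b : Fin 5) (hab : a ≠ b) : ((tvSL a b hab : SL5) : M5) = transvection a b 1 := rfl

theorem tvSL_mem (a b : Fin 5) (hab : a ≠ b) (hb0 : b ≠ 0) (ha1 : a ≠ 1) :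
    tvSL a b hab ∈ Subgroup.centralizer ({s} : Set SL5) := by
  rw [Subgroup.mem_centralizer_iff]
  intro h hh
  rw [Set.mem_singleton_iff] at hh
  subst hh
  apply Subtype.ext
  show ((h * tvSL a b hab : SL5) : M5) = ((tvSL a b hab * h : SL5) : M5)
  rw [Matrix.SpecialLinearGroup.coe_mul, Matrix.SpecialLinearGroup.coe_mul, hs, tvSL_coe]
  exact transvection_comm a b hb0 ha1

/-- Elementary transvections in the centralizer. -/
def tv (a b : Fin 5) (hab : a ≠ b) (hb0 : b ≠ 0) (ha1 : a ≠ 1) :
    Subgroup.centralizer ({s} : Set SL5) :=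
  ⟨tvSL a b hab, tvSL_mem s hs a b hab hb0 ha1⟩

theorem tv_mem_ker (a b : Fin 5) (hab : a ≠ b) (hb0 : b ≠ 0) (ha1 : a ≠ 1) (h : a = 0 ∨ b = 1) :
    tv s hs a b hab hb0 ha1 ∈ (blockHom s hs).ker := by
  rw [MonoidHom.mem_ker]
  exact transvection_block a b h

theorem comm_tv (c : Subgroup.centralizer ({s} : Set SL5))
    (a b : Fin 5) (hab : a ≠ b) (hb0 : b ≠ 0) (ha1 : a ≠ 1)
    (h : c * tv s hs a b hab hb0 ha1 = tv s hs a b hab hb0 ha1 * c) :
    ((c : SL5) : M5) * transvection a b 1 = transvection a b 1 * ((c : SL5) : M5) := by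
  have h1 := congrArg (fun x : Subgroup.centralizer ({s} : Set SL5) => ((x : SL5) : M5)) h
  simpa [tv, tvSL_coe] using h1

/-- The centralizer of the kernel is `{1, s}`. -/
theorem cent_ker (c : Subgroup.centralizer ({s} : Set SL5))
    (hc : ∀ r ∈ (blockHom s hs).ker, c * r = r * c) :
    ((c : SL5) : M5) = 1 ∨ ((c : SL5) : M5) = transvection 0 1 1 := by
  have h00 := entry00 s hs c c.2
  have k01 := comm_transvection _ (comm_tv s hs c 0 1 (by decide) (by decide) (by decide)
    (hc _ (tv_mem_ker s hs 0 1 _ _ _ (Or.inl rfl))))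
  have k02 := comm_transvection _ (comm_tv s hs c 0 2 (by decide) (by decide) (by decide)
    (hc _ (tv_mem_ker s hs 0 2 _ _ _ (Or.inl rfl))))
  have k03 := comm_transvection _ (comm_tv s hs c 0 3 (by decide) (by decide) (by decide)
    (hc _ (tv_mem_ker s hs 0 3 _ _ _ (Or.inl rfl))))
  have k04 := comm_transvection _ (comm_tv s hs c 0 4 (by decide) (by decide) (by decide)
    (hc _ (tv_mem_ker s hs 0 4 _ _ _ (Or.inl rfl))))
  have k21 := comm_transvection _ (comm_tv s hs c 2 1 (by decide) (by decide) (by decide)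
    (hc _ (tv_mem_ker s hs 2 1 _ _ _ (Or.inr rfl))))
  have k31 := comm_transvection _ (comm_tv s hs c 3 1 (by decide) (by decide) (by decide)
    (hc _ (tv_mem_ker s hs 3 1 _ _ _ (Or.inr rfl))))
  have k41 := comm_transvection _ (comm_tv s hs c 4 1 (by decide) (by decide) (by decide)
    (hc _ (tv_mem_ker s hs 4 1 _ _ _ (Or.inr rfl))))
  have e10 := k01.1 1 (by decide)
  have e20 := k01.1 2 (by decide)
  have e30 := k01.1 3 (by decide)
  have e40 := k01.1 4 (by decide)
  have e12 := k01.2.1 2 (by decide)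
  have e13 := k01.2.1 3 (by decide)
  have e14 := k01.2.1 4 (by decide)
  have e21 := k02.2.1 1 (by decide)
  have e23 := k02.2.1 3 (by decide)
  have e24 := k02.2.1 4 (by decide)
  have e31 := k03.2.1 1 (by decide)
  have e32 := k03.2.1 2 (by decide)
  have e34 := k03.2.1 4 (by decide)
  have e41 := k04.2.1 1 (by decide)
  have e42 := k04.2.1 2 (by decide)
  have e43 := k04.2.1 3 (by decide)
  have e02 := k21.1 0 (by decide)
  have e03 := k31.1 0 (by decide)
  have e04 := k41.1 0 (by decide)
  have e11 : ((c : SL5) : M5) 1 1 = 1 := by rw [← k01.2.2]; exact h00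
  have e22 : ((c : SL5) : M5) 2 2 = 1 := by rw [← k02.2.2]; exact h00
  have e33 : ((c : SL5) : M5) 3 3 = 1 := by rw [← k03.2.2]; exact h00
  have e44 : ((c : SL5) : M5) 4 4 = 1 := by rw [← k04.2.2]; exact h00
  rcases zmod2_eq_zero_or_one (((c : SL5) : M5) 0 1) with e01 | e01
  · left
    ext i j
    fin_cases i <;> fin_cases j <;> simp [Matrix.one_apply, *]
  · right
    ext i j
    fin_cases i <;> fin_cases j <;> simp [transvection, single_apply, Matrix.one_apply, *]

/-- `s` as an element of its centralizer. -/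
def sC : Subgroup.centralizer ({s} : Set SL5) :=
  ⟨s, by
    rw [Subgroup.mem_centralizer_iff]
    intro h hh
    rw [Set.mem_singleton_iff.mp hh]⟩

theorem sC_mem_ker : sC s ∈ (blockHom s hs).ker := by
  rw [MonoidHom.mem_ker]
  show ((s : SL5) : M5).submatrix f f = 1
  rw [hs]
  exact transvection_block 0 1 (Or.inl rfl)

theorem cent_ker' (c : Subgroup.centralizer ({s} : Set SL5))
    (hc : ∀ r ∈ (blockHom s hs).ker, c * r = r * c) : c = 1 ∨ c = sC s := by
  rcases cent_ker s hs c hc with h | h
  · left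
    apply Subtype.ext
    apply Subtype.ext
    exact h
  · right
    apply Subtype.ext
    apply Subtype.ext
    show ((c : SL5) : M5) = ((s : SL5) : M5)
    rw [h, hs]

end

/-- Let G be a finite group with an involution z whose centraliser C is isomorphic to the centraliser of a transvection of SL(5, 2). Then a Sylow 2-subgroup of C, viewed in G, is a Sylow 2-subgroup of G (its index in G is odd). -/
theorem result {G : Type*} [Group G] [Finite G] (s : Matrix.SpecialLinearGroup (Fin 5) (ZMod 2)) (hs : (s : Matrix (Fin 5) (Fin 5) (ZMod 2)) = Matrix.transvection 0 1 1) (z : G) (hz : orderOf z = 2) (e : (Subgroup.centralizer ({z} : Set G)) ≃* Subgroup.centralizer ({s} : Set (Matrix.SpecialLinearGroup (Fin 5) (ZMod 2)))) (T : Sylow 2 (Subgroup.centralizer ({z} : Set G))) : ¬ 2 ∣ ((T : Subgroup (Subgroup.centralizer ({z} : Set G))).map (Subgroup.subtype (Subgroup.centralizer ({z} : Set G)))).index := by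
  have hz1 : z ≠ 1 := by
    intro h
    rw [h, orderOf_one] at hz
    omega
  have hzC : z ∈ Subgroup.centralizer ({z} : Set G) := by
    rw [Subgroup.mem_centralizer_iff]
    intro h hh
    rw [Set.mem_singleton_iff.mp hh]
  -- `z` is central in its centralizer
  have hzcen : ∀ c : Subgroup.centralizer ({z} : Set G), c * ⟨z, hzC⟩ = ⟨z, hzC⟩ * c := by
    rintro ⟨c, hc⟩
    apply Subtype.ext
    rw [Subgroup.mem_centralizer_iff] at hc
    exact (hc z (Set.mem_singleton z)).symm
  -- transport commutation along `e`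
  have htrans : ∀ c : Subgroup.centralizer ({z} : Set G),
      (∀ r ∈ ((blockHom s hs).ker).comap e.toMonoidHom, c * r = r * c) →
      ∀ r ∈ (blockHom s hs).ker, e c * r = r * e c := by
    intro c hc r hr
    have hr' : e.symm r ∈ ((blockHom s hs).ker).comap e.toMonoidHom := by
      rw [Subgroup.mem_comap]
      simpa using hr
    have := congrArg e (hc _ hr')
    simpa using this
  -- the image of `z` is `s`
  have hez : e ⟨z, hzC⟩ = sC s := by
    have hc : ∀ r ∈ (blockHom s hs).ker, e ⟨z, hzC⟩ * r = r * e ⟨z, hzC⟩ :=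
      htrans _ (fun r _ => (hzcen r).symm ▸ rfl)
    rcases cent_ker' s hs _ hc with h | h
    · exfalso
      have : (⟨z, hzC⟩ : Subgroup.centralizer ({z} : Set G)) = 1 := by
        apply e.injective
        rw [h, map_one]
      exact hz1 (congrArg Subtype.val this)
    · exact h
  have hnormal : (((blockHom s hs).ker).comap e.toMonoidHom).Normal :=
    Subgroup.Normal.comap (MonoidHom.normal_ker _) _
  refine sylow_of_centralizer_odd_index z hz (((blockHom s hs).ker).comap e.toMonoidHom) ?_ ?_ ?_ T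
  · -- 2-group
    intro r
    refine ⟨2, ?_⟩
    have hr : e (r : Subgroup.centralizer ({z} : Set G)) ∈ (blockHom s hs).ker := r.2
    have h4 := ker_pow_four s hs _ hr
    apply Subtype.ext
    apply e.injective
    rw [Subgroup.coe_pow, map_pow, Subgroup.coe_one, map_one]
    exact h4
  · intro hz'
    rw [Subgroup.mem_comap]
    show e ⟨z, hz'⟩ ∈ (blockHom s hs).ker
    rw [hez]
    exact sC_mem_ker s hs
  · intro c hc
    rcases cent_ker' s hs _ (htrans c hc) with h | h
    · left
      apply e.injective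
      rw [h, map_one]
    · right
      have : c = ⟨z, hzC⟩ := by
        apply e.injective
        rw [h, hez]
      rw [this]

end Cfsg.Agent.S1717
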