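import Cfsg.Statements.S1755
import Cfsg.Agent.Helper29.Fitting

set_option autoImplicit false
open Cfsg

namespace Cfsg.Agent.S1755

open Cfsg.Agent.Helper29

theorem aux {G : Type*} [Group G] [Finite G] (z : G) (hz : orderOf z = 2)
    (C : Subgroup G) (hC : C = Subgroup.centralizer ({z} : Set G))
    (Q : Subgroup ↥C) [Q.Normal] (hcen : Subgroup.center ↥C ≤ Q)
    (hQ : Cfsg.IsOfSymplecticType ↥Q)
    (B : Subgroup ↥Q) (hBc : B.Characteristic) (hBa : IsMulCommutative ↥B) (g : G) :
    ((B.map Q.subtype).map C.subtype).map (MulAut.conj g).toMonoidHom =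
        (B.map Q.subtype).map C.subtype ∨
      ((B.map Q.subtype).map C.subtype).map (MulAut.conj g).toMonoidHom ⊓
        (B.map Q.subtype).map C.subtype = ⊥ := by
  classical
  -- z as an element of C and Q
  have hzC : z ∈ C := by
    rw [hC, Subgroup.mem_centralizer_iff]
    intro h hh
    rw [Set.mem_singleton_iff] at hh
    rw [hh]
  have hzCcen : (⟨z, hzC⟩ : ↥C) ∈ Subgroup.center ↥C := by
    rw [Subgroup.mem_center_iff]
    rintro ⟨c, hc⟩
    apply Subtype.ext
    rw [hC, Subgroup.mem_centralizer_iff] at hc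
    have := hc z (Set.mem_singleton z)
    simpa using this.symm
  have hzQ : (⟨z, hzC⟩ : ↥C) ∈ Q := hcen hzCcen
  have hzQcen : (⟨⟨z, hzC⟩, hzQ⟩ : ↥Q) ∈ Subgroup.center ↥Q := by
    rw [Subgroup.mem_center_iff]
    rintro ⟨q, hq⟩
    apply Subtype.ext
    exact (Subgroup.mem_center_iff.mp hzCcen q)
  have hzQord : orderOf (⟨⟨z, hzC⟩, hzQ⟩ : ↥Q) = 2 := by
    rw [Subgroup.orderOf_mk, Subgroup.orderOf_mk, hz]
  -- B and the centre of Q are cyclic
  have hBcyc : IsCyclic ↥B := hQ.2 B hBc hBa
  have hZcyc : IsCyclic ↥(Subgroup.center ↥Q) := hQ.2 _ inferInstance inferInstance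
  -- every involution of B is the image of z
  have hK : ∀ b : ↥Q, b ∈ B → orderOf b = 2 → b = ⟨⟨z, hzC⟩, hzQ⟩ := by
    intro b hb hb2
    have hbcen : b ∈ Subgroup.center ↥Q := by
      rw [Subgroup.mem_center_iff]
      intro q
      have hmap : B.map (MulAut.conj q).toMonoidHom = B :=
        Subgroup.characteristic_iff_map_eq.mp hBc _
      have hmem : (MulAut.conj q) b ∈ B := by
        rw [← hmap]; exact ⟨b, hb, rfl⟩
      have hord : orderOf ((MulAut.conj q) b) = 2 := by
        rw [MulEquiv.orderOf_eq, hb2]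
      have h1 : orderOf (⟨(MulAut.conj q) b, hmem⟩ : ↥B) = 2 := by
        rw [Subgroup.orderOf_mk, hord]
      have h2 : orderOf (⟨b, hb⟩ : ↥B) = 2 := by
        rw [Subgroup.orderOf_mk, hb2]
      have := eq_of_orderOf_eq_two_of_isCyclic h1 h2
      have h3 : (MulAut.conj q) b = b := congrArg Subtype.val this
      rw [MulAut.conj_apply] at h3
      calc q * b = (q * b * q⁻¹) * q := by group
        _ = b * q := by rw [h3]
    have h1 : orderOf (⟨b, hbcen⟩ : ↥(Subgroup.center ↥Q)) = 2 := by
      rw [Subgroup.orderOf_mk, hb2]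
    have h2 : orderOf (⟨_, hzQcen⟩ : ↥(Subgroup.center ↥Q)) = 2 := by
      rw [Subgroup.orderOf_mk, hzQord]
    have := eq_of_orderOf_eq_two_of_isCyclic h1 h2
    exact congrArg Subtype.val this
  have hK' : ∀ x : G, x ∈ (B.map Q.subtype).map C.subtype → orderOf x = 2 → x = z := by
    rintro x ⟨c, ⟨b, hb, rfl⟩, rfl⟩ hx2
    have : orderOf b = 2 := by
      rw [← hx2]
      simp only [Subgroup.coe_subtype, Subgroup.orderOf_coe]
    rw [hK b hb this]
    rfl
  have h2el : ∀ x : G, x ∈ (B.map Q.subtype).map C.subtype → ∃ k : ℕ, orderOf x = 2 ^ k := by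
    rintro x ⟨c, ⟨b, hb, rfl⟩, rfl⟩
    obtain ⟨k, hk⟩ := (IsPGroup.iff_orderOf.mp hQ.1) b
    exact ⟨k, by simpa only [Subgroup.coe_subtype, Subgroup.orderOf_coe] using hk⟩
  by_cases hbot : ((B.map Q.subtype).map C.subtype).map (MulAut.conj g).toMonoidHom ⊓
        (B.map Q.subtype).map C.subtype = ⊥
  · exact Or.inr hbot
  · left
    rw [Subgroup.eq_bot_iff_forall] at hbot
    push Not at hbot
    obtain ⟨x, hx, hx1⟩ := hbot
    obtain ⟨k, hk⟩ := h2el x hx.2
    have hk0 : k ≠ 0 := by
      rintro rfl
      rw [pow_zero, orderOf_eq_one_iff] at hk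
      exact hx1 hk
    have h2dvd : 2 ∣ orderOf x := by
      rw [hk]; exact dvd_pow_self 2 hk0
    have hu2 : orderOf (x ^ (orderOf x / 2)) = 2 :=
      orderOf_pow_orderOf_div (orderOf_pos x).ne' h2dvd
    have hu : x ^ (orderOf x / 2) ∈
        ((B.map Q.subtype).map C.subtype).map (MulAut.conj g).toMonoidHom ⊓
        (B.map Q.subtype).map C.subtype := pow_mem hx _
    have huz : x ^ (orderOf x / 2) = z := hK' _ hu.2 hu2
    obtain ⟨w, hw, hwu⟩ := hu.1
    have hw2 : orderOf w = 2 := by
      rw [← hu2, ← hwu]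
      exact (MulEquiv.orderOf_eq (MulAut.conj g) w).symm
    have hwz : w = z := hK' w hw hw2
    rw [hwz, huz] at hwu
    have hgz : g * z * g⁻¹ = z := by simpa using hwu
    have hgC : g ∈ C := by
      rw [hC, Subgroup.mem_centralizer_iff]
      intro h hh
      rw [Set.mem_singleton_iff] at hh
      subst hh
      calc h * g = (g * h * g⁻¹) * g := by rw [hgz]
        _ = g * h := by group
    have := hBc
    have hnorm : (B.map Q.subtype).Normal := ConjAct.normal_of_characteristic_of_normal
    have hB'C : (B.map Q.subtype).map C.subtype ≤ C := by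
      rintro _ ⟨c, _, rfl⟩
      exact c.2
    have hsub : ((B.map Q.subtype).map C.subtype).subgroupOf C = B.map Q.subtype :=
      Subgroup.comap_map_eq_self_of_injective (Subgroup.subtype_injective _) _
    have hCN : C ≤ Subgroup.normalizer (((B.map Q.subtype).map C.subtype : Subgroup G) : Set G) := by
      rw [← Subgroup.normal_subgroupOf_iff_le_normalizer hB'C, hsub]
      exact hnorm
    exact Subgroup.mem_normalizer_iff_map_conj_eq.mp (hCN hgC)

/-- Let G be a finite group and let z be an involution of G such that Q, the generalized Fitting subgroup of the centralizer C of z, is a 2-group of symplectic type (every characteristic abelian subgroup of Q is cyclic). Let B be a characteristic abelian subgroup of Q, viewed as a subgroup of G. Then for every g in G, the conjugate of B by g either equals B or meets B trivially. -/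
theorem result {G : Type*} [Group G] [Finite G] (z : G) (hz : orderOf z = 2) (hQ : Cfsg.IsOfSymplecticType ↥(Cfsg.generalizedFittingSubgroup ↥(Subgroup.centralizer ({z} : Set G))))
    (B : Subgroup ↥(Cfsg.generalizedFittingSubgroup ↥(Subgroup.centralizer ({z} : Set G)))) (hBc : B.Characteristic) (hBa : IsMulCommutative ↥B) (g : G) :
    ((B.map (Cfsg.generalizedFittingSubgroup ↥(Subgroup.centralizer ({z} : Set G))).subtype).map (Subgroup.centralizer ({z} : Set G)).subtype).map (MulAut.conj g).toMonoidHom =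
        (B.map (Cfsg.generalizedFittingSubgroup ↥(Subgroup.centralizer ({z} : Set G))).subtype).map (Subgroup.centralizer ({z} : Set G)).subtype ∨
      ((B.map (Cfsg.generalizedFittingSubgroup ↥(Subgroup.centralizer ({z} : Set G))).subtype).map (Subgroup.centralizer ({z} : Set G)).subtype).map (MulAut.conj g).toMonoidHom ⊓
        (B.map (Cfsg.generalizedFittingSubgroup ↥(Subgroup.centralizer ({z} : Set G))).subtype).map (Subgroup.centralizer ({z} : Set G)).subtype = ⊥ :=
  aux z hz _ rfl _ (center_le_generalizedFittingSubgroup _) hQ B hBc hBa g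

end Cfsg.Agent.S1755
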