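import Cfsg.Statements.S1756
import Cfsg.Agent.Helper29.Extraspecial

set_option autoImplicit false
open Cfsg

namespace Cfsg.Agent.S1756

open Cfsg.Agent.Helper29

/-- Conjugation by an element of the normalizer, as an automorphism of the subgroup. -/
def conjAut {G : Type*} [Group G] (Q : Subgroup G) (t : G)
    (ht : t ∈ Subgroup.normalizer (Q : Set G)) : ↥Q ≃* ↥Q where
  toFun y := ⟨t * y * t⁻¹, (Subgroup.mem_normalizer_iff.mp ht y).mp y.2⟩
  invFun y := ⟨t⁻¹ * y * t, by
    have := (Subgroup.mem_normalizer_iff.mp (Subgroup.inv_mem _ ht) y).mp y.2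
    simpa using this⟩
  left_inv y := by ext; simp [mul_assoc]
  right_inv y := by ext; simp [mul_assoc]
  map_mul' a b := by ext; simp [mul_assoc]

/-- Let Q be an extraspecial 2-subgroup of the finite group G (special with centre of order 2) and t an involution of G normalizing Q such that the centralizer of t in Q has index at most 2 in Q. Then t lies in the product of Q with the centralizer of Q. -/
theorem result {G : Type*} [Group G] [Finite G] (Q : Subgroup G)
    (hQ : Cfsg.IsExtraspecial 2 ↥Q) (t : G) (ht : orderOf t = 2) (htN : t ∈ Subgroup.normalizer (Q : Set G))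
    (hi : (Subgroup.centralizer ({t} : Set G) ⊓ Q).relIndex Q ≤ 2) :
    t ∈ Q ⊔ Subgroup.centralizer (Q : Set G) := by
  obtain ⟨⟨_, _, hcomm⟩, hcard⟩ := hQ
  have htt : t * t = 1 := by
    have := pow_orderOf_eq_one t
    rwa [ht, pow_two] at this
  have htinv : t⁻¹ = t := inv_eq_of_mul_eq_one_right htt
  have hσσ : ∀ y, conjAut Q t htN (conjAut Q t htN y) = y := by
    intro y
    ext
    show t * (t * y * t⁻¹) * t⁻¹ = y
    rw [htinv]
    calc t * (t * ↑y * t) * t = (t * t) * ↑y * (t * t) := by group
      _ = y := by rw [htt]; simp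
  have hM : ∀ y : ↥Q, y ∈ (Subgroup.centralizer ({t} : Set G) ⊓ Q).subgroupOf Q ↔
      conjAut Q t htN y = y := by
    intro y
    rw [Subgroup.mem_subgroupOf, Subgroup.mem_inf, Subgroup.mem_centralizer_iff]
    constructor
    · rintro ⟨h, _⟩
      ext
      show t * y * t⁻¹ = y
      rw [h t (Set.mem_singleton t)]; group
    · intro h
      refine ⟨fun s hs => ?_, y.2⟩
      rw [Set.mem_singleton_iff] at hs
      subst hs
      have h' : s * y * s⁻¹ = y := congrArg Subtype.val h
      calc s * ↑y = (s * ↑y * s⁻¹) * s := by group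
        _ = ↑y * s := by rw [h']
  obtain ⟨q, hq⟩ := involution_inner_of_fixed_index_le_two hcomm hcard (conjAut Q t htN) hσσ
    ((Subgroup.centralizer ({t} : Set G) ⊓ Q).subgroupOf Q) hM hi
  have hcent : (q : G)⁻¹ * t ∈ Subgroup.centralizer (Q : Set G) := by
    rw [Subgroup.mem_centralizer_iff]
    intro y hy
    have h := congrArg Subtype.val (hq ⟨y, hy⟩)
    have h' : t * y * t⁻¹ = q * y * (q : G)⁻¹ := h
    calc y * ((q : G)⁻¹ * t) = (q : G)⁻¹ * (q * y * (q : G)⁻¹) * t := by group
      _ = (q : G)⁻¹ * (t * y * t⁻¹) * t := by rw [h']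
      _ = (q : G)⁻¹ * t * y := by group
  have : t = (q : G) * ((q : G)⁻¹ * t) := by group
  rw [this]
  exact Subgroup.mul_mem_sup q.2 hcent

end Cfsg.Agent.S1756
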