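import Cfsg.Statements.S1757
import Cfsg.Agent.Helper29.PGroup

set_option autoImplicit false
open Cfsg
open scoped Pointwise commutatorElement

namespace Cfsg.Agent.S1757

/-- Let p be a prime and A, B p-subgroups of the finite group G, each of which meets every conjugate of itself other than itself trivially. Suppose the order of A is at most that of B, A and B intersect trivially, and B normalizes A. Then A and B commute elementwise. -/
theorem result {G : Type*} [Group G] [Finite G] (p : ℕ) [Fact p.Prime] (A B : Subgroup G)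
    (hA : IsPGroup p ↥A) (hB : IsPGroup p ↥B)
    (hAti : ∀ g : G, A.map (MulAut.conj g).toMonoidHom = A ∨ A.map (MulAut.conj g).toMonoidHom ⊓ A = ⊥)
    (hBti : ∀ g : G, B.map (MulAut.conj g).toMonoidHom = B ∨ B.map (MulAut.conj g).toMonoidHom ⊓ B = ⊥)
    (hle : Nat.card ↥A ≤ Nat.card ↥B) (hAB : A ⊓ B = ⊥) (hN : B ≤ Subgroup.normalizer (A : Set G)) : ⁅A, B⁆ = ⊥ := by
  have hPp : IsPGroup p ↥(A ⊔ B) := IsPGroup.to_sup_of_normal_left' hA hB hN
  have hcardP : Nat.card ↥(A ⊔ B) ≤ Nat.card A * Nat.card B := by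
    have h1 : ((A ⊔ B : Subgroup G) : Set G) = (A : Set G) * (B : Set G) :=
      Subgroup.coe_mul_of_right_le_normalizer_left A B hN
    have h2 : Nat.card ↥(A ⊔ B) = Nat.card ((A : Set G) * (B : Set G) : Set G) := by
      rw [← h1]; rfl
    rw [h2]
    exact Set.natCard_mul_le
  have hAN : A ≤ Subgroup.normalizer (B : Set G) := by
    by_contra hnot
    have hN1lt : Subgroup.normalizer (B : Set G) ⊓ (A ⊔ B) < A ⊔ B := by
      refine lt_of_le_of_ne inf_le_right (fun h => hnot ?_)
      exact le_sup_left.trans (h ▸ inf_le_left)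
    obtain ⟨g, hgP, hgN, hgnot⟩ :=
      Cfsg.Agent.Helper29.exists_normalizing p (A ⊔ B) _ hPp hN1lt
    have hgB : g ∉ Subgroup.normalizer (B : Set G) := fun h => hgnot ⟨h, hgP⟩
    have hBg : B.map (MulAut.conj g).toMonoidHom ≠ B :=
      fun h => hgB (Subgroup.mem_normalizer_iff_map_conj_eq.mpr h)
    have hdisj : B.map (MulAut.conj g).toMonoidHom ⊓ B = ⊥ := (hBti g).resolve_left hBg
    have hBN1 : B ≤ Subgroup.normalizer (B : Set G) ⊓ (A ⊔ B) :=
      le_inf Subgroup.le_normalizer le_sup_right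
    have hBgN1 : B.map (MulAut.conj g).toMonoidHom ≤ Subgroup.normalizer (B : Set G) ⊓ (A ⊔ B) := by
      have := Subgroup.mem_normalizer_iff_map_conj_eq.mp hgN
      rw [← this]
      exact Subgroup.map_mono hBN1
    have hinj := Cfsg.Agent.Helper29.card_mul_card_le_of_disjoint _ _ _ hdisj hBgN1 hBN1
    have hlt : Nat.card ↥(Subgroup.normalizer (B : Set G) ⊓ (A ⊔ B)) < Nat.card ↥(A ⊔ B) := by
      by_contra hge
      push Not at hge
      exact hN1lt.ne (Subgroup.eq_of_le_of_card_ge hN1lt.le hge)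
    have hBgcard : Nat.card ↥(B.map (MulAut.conj g).toMonoidHom) = Nat.card B :=
      Nat.card_congr (MulEquiv.subgroupMap (MulAut.conj g) B).toEquiv.symm
    rw [hBgcard] at hinj
    have : Nat.card A * Nat.card B ≤ Nat.card B * Nat.card B := Nat.mul_le_mul_right _ hle
    omega
  rw [eq_bot_iff, ← hAB]
  apply le_inf
  · rw [Subgroup.commutator_le]
    intro a ha b hb
    have hb' := (Subgroup.mem_normalizer_iff.mp (hN hb) a⁻¹).mp (A.inv_mem ha)
    have : ⁅a, b⁆ = a * (b * a⁻¹ * b⁻¹) := by simp [commutatorElement_def, mul_assoc]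
    rw [this]
    exact A.mul_mem ha hb'
  · rw [Subgroup.commutator_le]
    intro a ha b hb
    have ha' := (Subgroup.mem_normalizer_iff.mp (hAN ha) b).mp hb
    have : ⁅a, b⁆ = (a * b * a⁻¹) * b⁻¹ := by simp [commutatorElement_def]
    rw [this]
    exact B.mul_mem ha' (B.inv_mem hb)

end Cfsg.Agent.S1757
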