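import Cfsg.Statements.S1774
import Cfsg.Agent.Helper90.SympFstar

set_option autoImplicit false
open Cfsg

namespace Cfsg.Agent.S1774

/-- Let G be a finite group and let z be an involution of G such that Q, the generalized Fitting subgroup of the centralizer C of z, is a 2-group of symplectic type (every characteristic abelian subgroup of Q is cyclic); suppose every element of Q has order dividing 4. Let g ∈ G with z' = g z g⁻¹ ≠ z and z' ∈ Q. Then z lies in the conjugate g Q g⁻¹, and the subgroup X generated by Q and g Q g⁻¹ induces every automorphism of the four-group generated by z and z': for any two distinct non-identity elements u, v of that four-group there is x ∈ X with x z x⁻¹ = u and x z' x⁻¹ = v. -/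
theorem result {G : Type*} [Group G] [Finite G] (z : G) (hz : orderOf z = 2) (hQ : Cfsg.IsOfSymplecticType ↥(Cfsg.generalizedFittingSubgroup ↥(Subgroup.centralizer ({z} : Set G))))
    (h4 : ∀ q ∈ (Cfsg.generalizedFittingSubgroup ↥(Subgroup.centralizer ({z} : Set G))).map (Subgroup.centralizer ({z} : Set G)).subtype, q ^ 4 = 1) (g : G) (hne : g * z * g⁻¹ ≠ z) (hin : g * z * g⁻¹ ∈ (Cfsg.generalizedFittingSubgroup ↥(Subgroup.centralizer ({z} : Set G))).map (Subgroup.centralizer ({z} : Set G)).subtype) :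
    z ∈ ((Cfsg.generalizedFittingSubgroup ↥(Subgroup.centralizer ({z} : Set G))).map (Subgroup.centralizer ({z} : Set G)).subtype).map (MulAut.conj g).toMonoidHom ∧
      ∀ u ∈ Subgroup.closure ({z, g * z * g⁻¹} : Set G), ∀ v ∈ Subgroup.closure ({z, g * z * g⁻¹} : Set G),
        u ≠ 1 → v ≠ 1 → u ≠ v →
          ∃ x ∈ (Cfsg.generalizedFittingSubgroup ↥(Subgroup.centralizer ({z} : Set G))).map (Subgroup.centralizer ({z} : Set G)).subtype ⊔ ((Cfsg.generalizedFittingSubgroup ↥(Subgroup.centralizer ({z} : Set G))).map (Subgroup.centralizer ({z} : Set G)).subtype).map (MulAut.conj g).toMonoidHom, x * z * x⁻¹ = u ∧ x * (g * z * g⁻¹) * x⁻¹ = v := by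
  classical
  have hS := Cfsg.Agent.Helper90.sdata_of_fstar z hz hQ h4
  obtain ⟨Q, hQdef⟩ : ∃ Q : Subgroup G, Q = (Cfsg.generalizedFittingSubgroup ↥(Subgroup.centralizer ({z} : Set G))).map (Subgroup.centralizer ({z} : Set G)).subtype := ⟨_, rfl⟩
  rw [← hQdef] at hS hin ⊢
  have hzmem := hS.z_mem_conj_of_conj_mem g hin
  refine ⟨hzmem, ?_⟩
  obtain ⟨b, hb⟩ : ∃ b : G, b = g * z * g⁻¹ := ⟨_, rfl⟩
  rw [← hb] at hin hne ⊢
  have hbb : b * b = 1 := by
    rw [hb]
    calc g * z * g⁻¹ * (g * z * g⁻¹) = g * (z * z) * g⁻¹ := by group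
      _ = 1 := by rw [hS.zz]; group
  have hb1 : b ≠ 1 := by
    intro h
    apply hS.z1
    calc z = g⁻¹ * (g * z * g⁻¹) * g := by group
      _ = 1 := by rw [← hb, h]; group
  have hzb : z * b = b * z := (hS.zc b hin).symm
  -- `y ∈ Q` swapping `b` and `z b`
  obtain ⟨y, hyQ, hyb⟩ := hS.exists_conj hin hbb hb1 hne
  have hyz : y * z * y⁻¹ = z := by rw [hS.zc y hyQ]; group
  have hyzb : y * (z * b) * y⁻¹ = b := by
    calc y * (z * b) * y⁻¹ = (y * z * y⁻¹) * (y * b * y⁻¹) := by group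
      _ = z * (z * b) := by rw [hyz, hyb]
      _ = b := by rw [← mul_assoc, hS.zz, one_mul]
  -- `y' ∈ Q^g` swapping `z` and `z b`
  have hz0Q : g⁻¹ * z * g ∈ Q := (Cfsg.Agent.Helper90.mem_map_conj_iff Q g z).mp hzmem
  have hz0sq : (g⁻¹ * z * g) * (g⁻¹ * z * g) = 1 := by
    calc (g⁻¹ * z * g) * (g⁻¹ * z * g) = g⁻¹ * (z * z) * g := by group
      _ = 1 := by rw [hS.zz]; group
  have hz01 : g⁻¹ * z * g ≠ 1 := by
    intro h
    apply hS.z1
    calc z = g * (g⁻¹ * z * g) * g⁻¹ := by group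
      _ = 1 := by rw [h]; group
  have hz0z : g⁻¹ * z * g ≠ z := by
    intro h
    apply hne
    rw [hb]
    calc g * z * g⁻¹ = g * (g⁻¹ * z * g) * g⁻¹ := by rw [h]
      _ = z := by group
  obtain ⟨y0, hy0Q, hy0⟩ := hS.exists_conj hz0Q hz0sq hz01 hz0z
  have hy'Q : g * y0 * g⁻¹ ∈ Q.map (MulAut.conj g).toMonoidHom :=
    Cfsg.Agent.Helper90.conj_mem_map_conj Q g hy0Q
  have hy'z : (g * y0 * g⁻¹) * z * (g * y0 * g⁻¹)⁻¹ = z * b := by
    calc (g * y0 * g⁻¹) * z * (g * y0 * g⁻¹)⁻¹ = g * (y0 * (g⁻¹ * z * g) * y0⁻¹) * g⁻¹ := by group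
      _ = g * (z * (g⁻¹ * z * g)) * g⁻¹ := by rw [hy0]
      _ = (g * z * g⁻¹) * z := by group
      _ = b * z := by rw [← hb]
      _ = z * b := hzb.symm
  have hy'b : (g * y0 * g⁻¹) * b * (g * y0 * g⁻¹)⁻¹ = b := by
    have h1 : y0 * z * y0⁻¹ = z := by rw [hS.zc y0 hy0Q]; group
    rw [hb]
    calc (g * y0 * g⁻¹) * (g * z * g⁻¹) * (g * y0 * g⁻¹)⁻¹ = g * (y0 * z * y0⁻¹) * g⁻¹ := by group
      _ = g * z * g⁻¹ := by rw [h1]
  obtain ⟨y', hy'def⟩ : ∃ y' : G, y' = g * y0 * g⁻¹ := ⟨_, rfl⟩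
  rw [← hy'def] at hy'Q hy'z hy'b
  have hy'zb : y' * (z * b) * y'⁻¹ = z := by
    calc y' * (z * b) * y'⁻¹ = (y' * z * y'⁻¹) * (y' * b * y'⁻¹) := by group
      _ = (z * b) * b := by rw [hy'z, hy'b]
      _ = z := by rw [mul_assoc, hbb, mul_one]
  have hyS : y ∈ Q ⊔ Q.map (MulAut.conj g).toMonoidHom := Subgroup.mem_sup_left hyQ
  have hy'S : y' ∈ Q ⊔ Q.map (MulAut.conj g).toMonoidHom := Subgroup.mem_sup_right hy'Q
  intro u hu v hv hu1 hv1 huv
  have hucases := Cfsg.Agent.Helper90.closure_pair_cases hS.zz hbb hzb u hu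
  have hvcases := Cfsg.Agent.Helper90.closure_pair_cases hS.zz hbb hzb v hv
  rcases hucases with h | h | h | h
  · exact absurd h hu1
  · rcases hvcases with h' | h' | h' | h'
    · exact absurd h' hv1
    · exact absurd (h.trans h'.symm) huv
    · -- (z, b)
      refine ⟨1, Subgroup.one_mem _, ?_, ?_⟩
      · rw [h]; group
      · rw [h']; group
    · -- (z, z b)
      refine ⟨y, hyS, ?_, ?_⟩
      · rw [h]; exact hyz
      · rw [h']; exact hyb
  · rcases hvcases with h' | h' | h' | h'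
    · exact absurd h' hv1
    · -- (b, z) : x = y y' y
      refine ⟨y * y' * y, Subgroup.mul_mem _ (Subgroup.mul_mem _ hyS hy'S) hyS, ?_, ?_⟩
      · rw [h]
        calc y * y' * y * z * (y * y' * y)⁻¹ = y * (y' * (y * z * y⁻¹) * y'⁻¹) * y⁻¹ := by group
          _ = y * (y' * z * y'⁻¹) * y⁻¹ := by rw [hyz]
          _ = y * (z * b) * y⁻¹ := by rw [hy'z]
          _ = b := hyzb
      · rw [h']
        calc y * y' * y * b * (y * y' * y)⁻¹ = y * (y' * (y * b * y⁻¹) * y'⁻¹) * y⁻¹ := by group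
          _ = y * (y' * (z * b) * y'⁻¹) * y⁻¹ := by rw [hyb]
          _ = y * z * y⁻¹ := by rw [hy'zb]
          _ = z := hyz
    · exact absurd (h.trans h'.symm) huv
    · -- (b, z b) : x = y y'
      refine ⟨y * y', Subgroup.mul_mem _ hyS hy'S, ?_, ?_⟩
      · rw [h]
        calc y * y' * z * (y * y')⁻¹ = y * (y' * z * y'⁻¹) * y⁻¹ := by group
          _ = y * (z * b) * y⁻¹ := by rw [hy'z]
          _ = b := hyzb
      · rw [h']
        calc y * y' * b * (y * y')⁻¹ = y * (y' * b * y'⁻¹) * y⁻¹ := by group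
          _ = y * b * y⁻¹ := by rw [hy'b]
          _ = z * b := hyb
  · rcases hvcases with h' | h' | h' | h'
    · exact absurd h' hv1
    · -- (z b, z) : x = y' y
      refine ⟨y' * y, Subgroup.mul_mem _ hy'S hyS, ?_, ?_⟩
      · rw [h]
        calc y' * y * z * (y' * y)⁻¹ = y' * (y * z * y⁻¹) * y'⁻¹ := by group
          _ = y' * z * y'⁻¹ := by rw [hyz]
          _ = z * b := hy'z
      · rw [h']
        calc y' * y * b * (y' * y)⁻¹ = y' * (y * b * y⁻¹) * y'⁻¹ := by group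
          _ = y' * (z * b) * y'⁻¹ := by rw [hyb]
          _ = z := hy'zb
    · -- (z b, b) : x = y'
      refine ⟨y', hy'S, ?_, ?_⟩
      · rw [h]; exact hy'z
      · rw [h']; exact hy'b
    · exact absurd (h.trans h'.symm) huv

end Cfsg.Agent.S1774
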