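import Cfsg.Statements.S1780
import Mathlib
-- import your own Cfsg.Agent.* helpers here

set_option autoImplicit false
open Cfsg

namespace Cfsg.Agent.S1780

/-- In a ring, if `τ ^ 2 ^ k = 1` and `2 ^ e = 0` then `τ + 1` is nilpotent. -/
theorem nilp {R : Type*} [Ring R] (τ : R) (k e : ℕ) (hτ : τ ^ 2 ^ k = 1) (h2 : ((2 : ℕ) : R) ^ e = 0) :
    (τ + 1) ^ (2 ^ k * e) = 0 := by
  obtain ⟨r, hr⟩ := (Commute.one_right τ).exists_add_pow_prime_pow_eq Nat.prime_two k
  have h1 : (τ + 1) ^ 2 ^ k = ((2 : ℕ) : R) * (1 + τ * r) := by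
    rw [hr, hτ, one_pow]
    push_cast
    noncomm_ring
  rw [pow_mul, h1, (Nat.cast_commute 2 (1 + τ * r)).mul_pow, h2, zero_mul]

/-- General module-free form: an endomorphism `τ` of an additive commutative group `M` with `τ ^ 2 ^ k = 1`,
`2 ^ e • x = 0` for all `x`, and every `τ²`-fixed point `τ`-fixed, is the identity. -/
theorem key {M : Type*} [AddCommGroup M] (τ : AddMonoid.End M) (k e : ℕ) (hτ : τ ^ 2 ^ k = 1)
    (h2 : ∀ x : M, (2 ^ e) • x = 0) (hC : ∀ x : M, τ (τ x) = x → τ x = x) (x : M) : τ x = x := by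
  by_contra hx
  have h2' : ((2 : ℕ) : AddMonoid.End M) ^ e = 0 := by
    ext y
    rw [← Nat.cast_pow, AddMonoid.End.natCast_apply]
    exact h2 y
  have hnil := nilp τ k e hτ h2'
  -- the sequence `(τ+1)^i ((τ - 1) x)`
  have hP : ∃ n, ((τ + 1) ^ n : AddMonoid.End M) ((τ - 1 : AddMonoid.End M) x) = 0 := ⟨2 ^ k * e, by rw [hnil]; rfl⟩
  classical
  have h0 : Nat.find hP ≠ 0 := by
    intro h0
    have := Nat.find_spec hP
    rw [h0, pow_zero] at this
    apply hx
    have h3 : (τ - 1 : AddMonoid.End M) x = τ x - x := rfl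
    rw [AddMonoid.End.one_apply, h3, sub_eq_zero] at this
    exact this
  obtain ⟨i, hi⟩ := Nat.exists_eq_succ_of_ne_zero h0
  have hi1 : ((τ + 1) ^ (i + 1) : AddMonoid.End M) ((τ - 1 : AddMonoid.End M) x) = 0 := by
    have := Nat.find_spec hP
    rwa [hi] at this
  have hi0 : ((τ + 1) ^ i : AddMonoid.End M) ((τ - 1 : AddMonoid.End M) x) ≠ 0 := Nat.find_min hP (by omega)
  have hcomm : Commute (τ - 1) ((τ + 1) ^ i) := by
    apply Commute.pow_right
    show (τ - 1) * (τ + 1) = (τ + 1) * (τ - 1)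
    noncomm_ring
  set c : M := ((τ + 1) ^ i : AddMonoid.End M) x with hc
  have e1 : τ c - c = ((τ + 1) ^ i : AddMonoid.End M) ((τ - 1 : AddMonoid.End M) x) := by
    have : ((τ - 1) * (τ + 1) ^ i) x = ((τ + 1) ^ i * (τ - 1)) x := by rw [hcomm.eq]
    exact this
  have e2 : τ (τ c) - c = ((τ + 1) ^ (i + 1) : AddMonoid.End M) ((τ - 1 : AddMonoid.End M) x) := by
    have : (τ * τ - 1) * (τ + 1) ^ i = (τ + 1) ^ (i + 1) * (τ - 1) := by
      rw [pow_succ', mul_assoc, ← hcomm.eq]
      noncomm_ring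
    have := congrArg (fun f : AddMonoid.End M => f x) this
    exact this
  have h3 : τ (τ c) = c := by
    rw [hi1, sub_eq_zero] at e2
    exact e2
  have h4 := hC c h3
  rw [h4, sub_self] at e1
  exact hi0 e1.symm

/-- Let A be a finite abelian 2-group and t an automorphism of A whose order is a power of 2. If every element of A fixed by t² is fixed by t, then t fixes every element of A. -/
theorem result {A : Type*} [CommGroup A] [Finite A]
    (hA : IsPGroup 2 A) (t : MulAut A) (ht : ∃ k : ℕ, orderOf t = 2 ^ k) (hC : ∀ a : A, t (t a) = a → t a = a) :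
    ∀ a : A, t a = a := by
  obtain ⟨k, hk⟩ := ht
  have : Fact (Nat.Prime 2) := ⟨Nat.prime_two⟩
  obtain ⟨e, he⟩ := hA.exists_card_eq
  let F : MulAut A →* AddMonoid.End (Additive A) :=
    { toFun := fun s => MonoidHom.toAdditive s.toMonoidHom
      map_one' := rfl
      map_mul' := fun _ _ => rfl }
  have hτ : (F t) ^ 2 ^ k = 1 := by
    rw [← map_pow, ← hk, pow_orderOf_eq_one, map_one]
  intro a
  have := key (F t) k e hτ (fun x => by
      have h := pow_card_eq_one' (G := A) (x := Additive.toMul x)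
      rw [he] at h
      exact congrArg Additive.ofMul h)
    (fun x hx => hC (Additive.toMul x) hx) (Additive.ofMul a)
  exact this

end Cfsg.Agent.S1780
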