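import Cfsg.Statements.S1781
import Cfsg.Agent.S1780
import Cfsg.Agent.Helper30.Conj
-- import your own Cfsg.Agent.* helpers here

set_option autoImplicit false
open Cfsg

namespace Cfsg.Agent.S1781

open Cfsg.Agent.Helper30

/-- If `a` normalizes the finite commutative 2-subgroup `B`, has 2-power order, and every element of `B`
centralized by `a²` is centralized by `a`, then `a` centralizes `B`. -/
theorem centralizes_of_sq {G : Type*} [Group G] (B : Subgroup G) [Finite ↥B] (hB2 : IsPGroup 2 ↥B)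
    (hBa : IsMulCommutative ↥B) (a : G) (haN : a ∈ Subgroup.normalizer (B : Set G))
    (ha : ∃ m : ℕ, a ^ 2 ^ m = 1)
    (hC : ∀ b ∈ B, a ^ 2 * b = b * a ^ 2 → a * b = b * a) : ∀ b ∈ B, a * b = b * a := by
  let _ : CommGroup ↥B := { (inferInstance : Group ↥B) with mul_comm := fun x y => mul_comm' x y }
  obtain ⟨m, hm⟩ := ha
  let t : MulAut ↥B := B.normalizerMonoidHom ⟨a, haN⟩
  have htm : t ^ 2 ^ m = 1 := by
    show (B.normalizerMonoidHom ⟨a, haN⟩) ^ 2 ^ m = 1
    rw [← map_pow]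
    have : (⟨a, haN⟩ : ↥(Subgroup.normalizer (B : Set G))) ^ 2 ^ m = 1 := Subtype.ext (by simpa using hm)
    rw [this, map_one]
  have hk : ∃ k : ℕ, orderOf t = 2 ^ k := by
    obtain ⟨k, _, hk⟩ := (Nat.dvd_prime_pow Nat.prime_two).1 (orderOf_dvd_of_pow_eq_one htm)
    exact ⟨k, hk⟩
  have htapp : ∀ b : ↥B, ((t b : ↥B) : G) = a * b * a⁻¹ := fun b => rfl
  have key := Cfsg.Agent.S1780.result (A := ↥B) hB2 t hk (by
    intro b hb
    apply Subtype.ext
    rw [htapp]
    have h1 : ((t (t b) : ↥B) : G) = (b : G) := congrArg Subtype.val hb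
    rw [htapp, htapp] at h1
    have h2 : a ^ 2 * (b : G) = (b : G) * a ^ 2 := by
      calc a ^ 2 * (b : G) = (a * (a * b * a⁻¹) * a⁻¹) * a ^ 2 := by
            rw [pow_two]; simp only [mul_assoc, inv_mul_cancel_left, inv_mul_cancel, mul_one]
        _ = (b : G) * a ^ 2 := by rw [h1]
    have h3 := hC b b.2 h2
    rw [h3, mul_inv_cancel_right])
  intro b hb
  have h1 : ((t ⟨b, hb⟩ : ↥B) : G) = b := congrArg Subtype.val (key ⟨b, hb⟩)
  rw [htapp] at h1
  calc a * b = (a * b * a⁻¹) * a := by group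
    _ = b * a := by rw [h1]

theorem half {G : Type*} [Group G] [Finite G] (A B : Subgroup G)
    (hB2 : IsPGroup 2 ↥B) (hBa : IsMulCommutative ↥B)
    (hti : ∀ h : G, A.map (MulAut.conj h).toMonoidHom = A ∨ A.map (MulAut.conj h).toMonoidHom ⊓ A = ⊥)
    (hAB : A ⊓ B = ⊥) (a : G) (haA : a ∈ A) (haN : a ∈ Subgroup.normalizer (B : Set G))
    (ha2 : a ^ 2 ≠ 1) (hapow : ∃ m : ℕ, a ^ 2 ^ m = 1) :
    B ≤ Subgroup.normalizer (A : Set G) := by
  have hcent : ∀ b ∈ B, a * b = b * a := by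
    apply centralizes_of_sq B hB2 hBa a haN hapow
    intro b hb hcomm
    have hbN : b ∈ Subgroup.normalizer (A : Set G) :=
      ti_normalizes hti (A.pow_mem haA 2) ha2 hcomm.symm
    have h1 : a * b * a⁻¹ * b⁻¹ ∈ A := by
      have h : b * a⁻¹ * b⁻¹ ∈ A := (Subgroup.mem_normalizer_iff.1 hbN a⁻¹).1 (A.inv_mem haA)
      have := A.mul_mem haA h
      simpa [mul_assoc] using this
    have h2 : a * b * a⁻¹ * b⁻¹ ∈ B :=
      B.mul_mem ((Subgroup.mem_normalizer_iff.1 haN b).1 hb) (B.inv_mem hb)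
    have h3 : a * b * a⁻¹ * b⁻¹ ∈ A ⊓ B := Subgroup.mem_inf.2 ⟨h1, h2⟩
    rw [hAB, Subgroup.mem_bot] at h3
    calc a * b = (a * b * a⁻¹ * b⁻¹) * (b * a) := by group
      _ = b * a := by rw [h3, one_mul]
  intro b hb
  have ha1 : a ≠ 1 := fun h => ha2 (by rw [h, one_pow])
  exact ti_normalizes hti haA ha1 (hcent b hb).symm

/-- Let A be an abelian 2-subgroup of the finite group G such that every conjugate of A equals A or meets A trivially, and let g ∈ G with g A g⁻¹ ≠ A. Then either the subgroup of those elements of A that normalize g A g⁻¹ is an elementary abelian 2-group, or A and g A g⁻¹ commute elementwise. -/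
theorem result {G : Type*} [Group G] [Finite G] (A : Subgroup G)
    (hA2 : IsPGroup 2 ↥A) (hAa : IsMulCommutative ↥A)
    (hti : ∀ h : G, A.map (MulAut.conj h).toMonoidHom = A ∨ A.map (MulAut.conj h).toMonoidHom ⊓ A = ⊥)
    (g : G) (hg : A.map (MulAut.conj g).toMonoidHom ≠ A) :
    Cfsg.IsElementaryAbelian 2 (A ⊓ Subgroup.normalizer ((A.map (MulAut.conj g).toMonoidHom : Subgroup G) : Set G)) ∨
      ⁅A, A.map (MulAut.conj g).toMonoidHom⁆ = ⊥ := by
  by_cases hel : ∀ a ∈ A ⊓ Subgroup.normalizer ((A.map (MulAut.conj g).toMonoidHom : Subgroup G) : Set G), a ^ 2 = 1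
  · left
    refine ⟨IsMulCommutative.of_setLike_mul_comm fun x hx y hy => ?_, hel⟩
    exact setLike_mul_comm (Subgroup.mem_inf.1 hx).1 (Subgroup.mem_inf.1 hy).1
  · right
    push Not at hel
    obtain ⟨a, haD, ha2⟩ := hel
    obtain ⟨haA, haN⟩ := Subgroup.mem_inf.1 haD
    have hAB : A ⊓ A.map (MulAut.conj g).toMonoidHom = ⊥ := by
      rcases hti g with h | h
      · exact absurd h hg
      · rw [inf_comm]; exact h
    have hB2 : IsPGroup 2 ↥(A.map (MulAut.conj g).toMonoidHom) := hA2.map _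
    have hapow : ∃ m : ℕ, a ^ 2 ^ m = 1 := by
      obtain ⟨m, hm⟩ := hA2 ⟨a, haA⟩
      exact ⟨m, by simpa using congrArg Subtype.val hm⟩
    have hBN : A.map (MulAut.conj g).toMonoidHom ≤ Subgroup.normalizer (A : Set G) :=
      half A _ hB2 inferInstance hti hAB a haA haN ha2 hapow
    have hb0 : g * a * g⁻¹ ∈ A.map (MulAut.conj g).toMonoidHom := conj_mem_cj haA
    have hpw : ∀ n : ℕ, (g * a * g⁻¹) ^ n = g * a ^ n * g⁻¹ := fun n => conj_pow
    have hAN : A ≤ Subgroup.normalizer ((A.map (MulAut.conj g).toMonoidHom : Subgroup G) : Set G) := by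
      refine half _ A hA2 hAa (ti_cj hti g) (by rw [inf_comm]; exact hAB) (g * a * g⁻¹) hb0 (hBN hb0) ?_ ?_
      · rw [hpw]
        intro h
        apply ha2
        have : a ^ 2 = g⁻¹ * (g * a ^ 2 * g⁻¹) * g := by group
        rw [this, h]; group
      · obtain ⟨m, hm⟩ := hapow
        exact ⟨m, by rw [hpw, hm]; group⟩
    rw [eq_bot_iff, ← hAB]
    apply le_inf
    · rw [Subgroup.commutator_le]
      intro x hx y hy
      have h : y * x⁻¹ * y⁻¹ ∈ A := (Subgroup.mem_normalizer_iff.1 (hBN hy) x⁻¹).1 (A.inv_mem hx)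
      have := A.mul_mem hx h
      rw [commutatorElement_def]
      simpa [mul_assoc] using this
    · rw [Subgroup.commutator_le]
      intro x hx y hy
      rw [commutatorElement_def]
      exact Subgroup.mul_mem _ ((Subgroup.mem_normalizer_iff.1 (hAN hx) y).1 hy) (Subgroup.inv_mem _ hy)

end Cfsg.Agent.S1781
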