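import Cfsg.Statements.S1782
import Cfsg.Agent.Helper30.Conj
-- import your own Cfsg.Agent.* helpers here

set_option autoImplicit false
open Cfsg

namespace Cfsg.Agent.S1782

open Cfsg.Agent.Helper30

/-- A finite group of exponent 2 has trivial Frattini subgroup. -/
theorem frattini_eq_bot_of_sq {R : Type*} [Group R] [Finite R] (h : ∀ x : R, x ^ 2 = 1) :
    frattini R = ⊥ := by
  classical
  have hinv : ∀ x : R, x⁻¹ = x := fun x => by
    have := h x
    rw [pow_two] at this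
    exact inv_eq_of_mul_eq_one_left this
  have hcomm : ∀ x y : R, x * y = y * x := fun x y => by
    have h1 := hinv (x * y)
    rw [mul_inv_rev, hinv x, hinv y] at h1
    exact h1.symm
  rw [eq_bot_iff]
  intro x hx
  rw [Subgroup.mem_bot]
  by_contra hx1
  -- a subgroup maximal among those not containing x
  obtain ⟨H, hH, hmax⟩ : ∃ H : Subgroup R, x ∉ H ∧ ∀ K : Subgroup R, x ∉ K → H ≤ K → K = H := by
    have hfin : Set.Finite {H : Subgroup R | x ∉ H} := Set.toFinite _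
    obtain ⟨H, hH, hmax⟩ := hfin.exists_maximal ⟨⊥, by simpa [Subgroup.mem_bot] using hx1⟩
    exact ⟨H, hH, fun K hK hle => le_antisymm (hmax hK hle) hle⟩
  have hco : IsCoatom H := by
    refine ⟨fun htop => hH (htop ▸ Subgroup.mem_top x), fun K hK => ?_⟩
    have hxK : x ∈ K := by
      by_contra hxK
      exact (ne_of_gt hK) (hmax K hxK hK.le)
    rw [eq_top_iff]
    intro y _
    by_cases hy : y ∈ H
    · exact hK.le hy
    · -- H ∪ yH is a subgroup strictly containing H, so contains x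
      let H' : Subgroup R :=
        { carrier := {g | g ∈ H ∨ y * g ∈ H}
          one_mem' := Or.inl H.one_mem
          mul_mem' := by
            rintro a b (ha | ha) (hb | hb)
            · exact Or.inl (H.mul_mem ha hb)
            · right
              have : y * (a * b) = a * (y * b) := by rw [← mul_assoc, hcomm y a, mul_assoc]
              rw [this]; exact H.mul_mem ha hb
            · right
              rw [← mul_assoc]; exact H.mul_mem ha hb
            · left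
              have : a * b = (y * a) * (y * b) := by
                rw [mul_assoc, ← mul_assoc a y b, hcomm a y, mul_assoc, ← mul_assoc y y, ← pow_two, h y, one_mul]
              rw [this]; exact H.mul_mem ha hb
          inv_mem' := by
            intro a ha
            rw [hinv a]; exact ha }
      have hle : H ≤ H' := fun g hg => Or.inl hg
      have hyH' : y ∈ H' := Or.inr (by rw [← pow_two, h y]; exact H.one_mem)
      have hxH' : x ∈ H' := by
        by_contra hxH'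
        have := hmax H' hxH' hle
        exact hy (this ▸ hyH')
      rcases hxH' with hx' | hx'
      · exact absurd hx' hH
      · -- y * x ∈ H ≤ K and x ∈ K so y ∈ K
        have h1 : y * x ∈ K := hK.le hx'
        have : y = (y * x) * x⁻¹ := by group
        rw [this]; exact K.mul_mem h1 (K.inv_mem hxK)
  exact hH (frattini_le_coatom hco hx)

variable {G : Type*} [Group G]

/-- The hypotheses on the family `Δ` of subgroups of the subgroup `S` of the ambient group `G`. -/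
def Fam (S : Subgroup G) (Δ : Set (Subgroup G)) : Prop :=
  (∀ R ∈ Δ, R ≤ S) ∧
  (∀ s ∈ S, ∀ R ∈ Δ, R.map (MulAut.conj s).toMonoidHom ∈ Δ) ∧
  (∀ R ∈ Δ, ∃ x ∈ R, x ^ 2 ≠ 1) ∧
  (∀ R ∈ Δ, ∀ T ∈ Δ, Nat.card ↥R = Nat.card ↥T) ∧
  (∀ R ∈ Δ, ∀ T ∈ Δ, R = T ∨ R ⊓ T = ⊥)

/-- Restricting the family to a subgroup `M ≤ S`. -/
theorem Fam.restrict {S M : Subgroup G} {Δ : Set (Subgroup G)} (h : Fam S Δ) (hM : M ≤ S) :
    Fam M {K | K ∈ Δ ∧ K ≤ M} := by
  obtain ⟨h1, h2, h3, h4, h5⟩ := h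
  refine ⟨fun R hR => hR.2, ?_, fun R hR => h3 R hR.1, fun R hR T hT => h4 R hR.1 T hT.1,
    fun R hR T hT => h5 R hR.1 T hT.1⟩
  intro s hs R hR
  refine ⟨h2 s (hM hs) R hR.1, ?_⟩
  intro y hy
  rw [mem_cj] at hy
  have := M.mul_mem (M.mul_mem hs (hR.2 hy)) (M.inv_mem hs)
  simpa [mul_assoc] using this

/-- An element of `S` commuting with a nontrivial element of a member `R` normalizes `R`. -/
theorem Fam.normalizes {S : Subgroup G} {Δ : Set (Subgroup G)} (h : Fam S Δ) {R : Subgroup G}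
    (hR : R ∈ Δ) {s : G} (hs : s ∈ S) {x : G} (hx : x ∈ R) (hx1 : x ≠ 1) (hsx : s * x = x * s) :
    s ∈ Subgroup.normalizer (R : Set G) := by
  obtain ⟨h1, h2, h3, h4, h5⟩ := h
  rcases h5 _ (h2 s hs R hR) R hR with e | e
  · exact cj_eq_self_iff.1 e
  · exfalso
    have hm : x ∈ R.map (MulAut.conj s).toMonoidHom ⊓ R := by
      refine Subgroup.mem_inf.2 ⟨?_, hx⟩
      rw [mem_cj]
      have : s⁻¹ * x * s = x := by rw [mul_assoc, ← hsx, inv_mul_cancel_left]
      rw [this]; exact hx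
    rw [e] at hm
    exact hx1 (Subgroup.mem_bot.1 hm)

/-- If `s ∈ S` does not normalize the member `R`, then `R` and its conjugate meet trivially. -/
theorem Fam.disjoint_cj {S : Subgroup G} {Δ : Set (Subgroup G)} (h : Fam S Δ) {R : Subgroup G}
    (hR : R ∈ Δ) {s : G} (hs : s ∈ S) (hn : s ∉ Subgroup.normalizer (R : Set G)) :
    R.map (MulAut.conj s).toMonoidHom ⊓ R = ⊥ := by
  obtain ⟨h1, h2, h3, h4, h5⟩ := h
  rcases h5 _ (h2 s hs R hR) R hR with e | e
  · exact absurd (cj_eq_self_iff.1 e) hn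
  · exact e

/-- Step (**): if `T` normalizes `R` then `R` normalizes `T`. -/
theorem Fam.normalizer_symm {S : Subgroup G} [Finite ↥S] {Δ : Set (Subgroup G)} (h : Fam S Δ)
    {R T : Subgroup G} (hR : R ∈ Δ) (hT : T ∈ Δ)
    (hTR : T ≤ Subgroup.normalizer (R : Set G)) : R ≤ Subgroup.normalizer (T : Set G) := by
  intro x₀ hx₀
  by_contra hn
  have hRS : R ≤ S := h.1 R hR
  have hTS : T ≤ S := h.1 T hT
  have : Finite ↥R := Finite.of_injective (Subgroup.inclusion hRS) (Subgroup.inclusion_injective hRS)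
  have : Finite ↥T := Finite.of_injective (Subgroup.inclusion hTS) (Subgroup.inclusion_injective hTS)
  let f : ↥T → ↥R := fun t => ⟨t * x₀ * (t : G)⁻¹, (Subgroup.mem_normalizer_iff.1 (hTR t.2) x₀).1 hx₀⟩
  have hf : Function.Injective f := by
    intro t s hts
    have h1 : (t : G) * x₀ * (t : G)⁻¹ = s * x₀ * (s : G)⁻¹ := congrArg Subtype.val hts
    by_contra hne
    have h2 : ((s : G)⁻¹ * t) * x₀ = x₀ * ((s : G)⁻¹ * t) := by
      have : x₀ = (s : G)⁻¹ * ((t : G) * x₀ * (t : G)⁻¹) * s := by rw [h1]; group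
      calc ((s : G)⁻¹ * t) * x₀ = ((s : G)⁻¹ * ((t : G) * x₀ * (t : G)⁻¹) * s) * ((s : G)⁻¹ * t) := by group
        _ = x₀ * ((s : G)⁻¹ * t) := by rw [← this]
    have h3 : (s : G)⁻¹ * t ≠ 1 := by
      intro h3
      apply hne
      apply Subtype.ext
      have : (t : G) = s * ((s : G)⁻¹ * t) := by group
      rw [this, h3, mul_one]
    exact hn (h.normalizes hT (hRS hx₀) (T.mul_mem (T.inv_mem s.2) t.2) h3 h2.symm)
  have hbij := hf.bijective_of_nat_card_le (le_of_eq (h.2.2.2.1 R hR T hT))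
  obtain ⟨t, ht⟩ := hbij.2 1
  have h1 : (t : G) * x₀ * (t : G)⁻¹ = 1 := congrArg Subtype.val ht
  have h2 : x₀ = 1 := by
    have : x₀ = (t : G)⁻¹ * ((t : G) * x₀ * (t : G)⁻¹) * t := by group
    rw [this, h1]; group
  exact hn (h2 ▸ Subgroup.one_mem _)


/-- The algebraic heart of Claim A. -/
theorem sq_step {R T : Subgroup G} {x s : G} (hx : x ∈ R)
    (hRc : ∀ a ∈ R, ∀ b ∈ R.map (MulAut.conj s).toMonoidHom, a * b = b * a)
    (hTc : ∀ a ∈ T, ∀ b ∈ T.map (MulAut.conj x).toMonoidHom, a * b = b * a)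
    (hs : s ∈ T)
    (hdis : R.map (MulAut.conj s).toMonoidHom ⊓ R = ⊥)
    (hs2 : s ^ 2 ∈ Subgroup.normalizer (R : Set G)) : x ^ 2 = 1 := by
  set y : G := s * x * s⁻¹ with hy
  have hyR : y ∈ R.map (MulAut.conj s).toMonoidHom := conj_mem_cj hx
  have hxy : x * y = y * x := hRc x hx y hyR
  have hws : s * (x * s * x⁻¹) = (x * s * x⁻¹) * s := hTc s hs _ (conj_mem_cj hs)
  -- `x * y⁻¹` commutes with `s`
  have h1 : s * (x * y⁻¹) * s⁻¹ = x * y⁻¹ := by
    have e1 : x * y⁻¹ = (x * s * x⁻¹) * s⁻¹ := by rw [hy]; group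
    rw [e1]
    calc s * ((x * s * x⁻¹) * s⁻¹) * s⁻¹ = (s * (x * s * x⁻¹)) * s⁻¹ * s⁻¹ := by group
      _ = ((x * s * x⁻¹) * s) * s⁻¹ * s⁻¹ := by rw [hws]
      _ = (x * s * x⁻¹) * s⁻¹ := by group
  have h2 : s * (x * y⁻¹) * s⁻¹ = y * (s * y * s⁻¹)⁻¹ := by rw [hy]; group
  have h3 : s * y * s⁻¹ = x⁻¹ * y * y := by
    have e : y * (s * y * s⁻¹)⁻¹ = x * y⁻¹ := by rw [← h2, h1]
    have e2 : s * y * s⁻¹ = y * x⁻¹ * y := by
      have : (s * y * s⁻¹)⁻¹ = y⁻¹ * (x * y⁻¹) := by rw [← e]; group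
      calc s * y * s⁻¹ = ((s * y * s⁻¹)⁻¹)⁻¹ := by group
        _ = (y⁻¹ * (x * y⁻¹))⁻¹ := by rw [this]
        _ = y * x⁻¹ * y := by group
    have hxy' : y * x⁻¹ = x⁻¹ * y := by
      calc y * x⁻¹ = x⁻¹ * (x * y) * x⁻¹ := by group
        _ = x⁻¹ * (y * x) * x⁻¹ := by rw [hxy]
        _ = x⁻¹ * y := by group
    rw [e2, hxy']
  -- `s² x s⁻² ∈ R`
  have h4 : s * y * s⁻¹ ∈ R := by
    have := (Subgroup.mem_normalizer_iff.1 hs2 x).1 hx
    have e : s ^ 2 * x * (s ^ 2)⁻¹ = s * y * s⁻¹ := by rw [hy, pow_two]; group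
    rwa [e] at this
  have h5 : y * y ∈ R := by
    have : y * y = x * (s * y * s⁻¹) := by rw [h3]; group
    rw [this]; exact R.mul_mem hx h4
  have h6 : y * y ∈ R.map (MulAut.conj s).toMonoidHom := Subgroup.mul_mem _ hyR hyR
  have h7 : y * y = 1 := by
    have : y * y ∈ R.map (MulAut.conj s).toMonoidHom ⊓ R := Subgroup.mem_inf.2 ⟨h6, h5⟩
    rw [hdis] at this
    exact Subgroup.mem_bot.1 this
  have h8 : y * y = s * (x ^ 2) * s⁻¹ := by rw [hy, pow_two]; group
  rw [h8] at h7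
  have : x ^ 2 = s⁻¹ * (s * (x ^ 2) * s⁻¹) * s := by group
  rw [this, h7]; group

/-- Claim A: under pairwise commuting of the conjugates of `R` and of those of `T`, an element `x` of `R`
with `x² ≠ 1` normalizes `T`, or else all of `T` normalizes `R`. -/
theorem claimA {S : Subgroup G} {Δ : Set (Subgroup G)} (hS : IsPGroup 2 ↥S) (h : Fam S Δ)
    {R T : Subgroup G} (hR : R ∈ Δ) (hT : T ∈ Δ)
    (hRc : ∀ s ∈ S, s ∉ Subgroup.normalizer (R : Set G) →
      ∀ a ∈ R, ∀ b ∈ R.map (MulAut.conj s).toMonoidHom, a * b = b * a)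
    (hTc : ∀ s ∈ S, s ∉ Subgroup.normalizer (T : Set G) →
      ∀ a ∈ T, ∀ b ∈ T.map (MulAut.conj s).toMonoidHom, a * b = b * a)
    {x : G} (hx : x ∈ R) (hx2 : x ^ 2 ≠ 1) (hxT : x ∉ Subgroup.normalizer (T : Set G))
    {t : G} (ht : t ∈ T) : t ∈ Subgroup.normalizer (R : Set G) := by
  by_contra htR
  have hRS : R ≤ S := h.1 R hR
  have hTS : T ≤ S := h.1 T hT
  have key : ∀ j : ℕ, t ^ 2 ^ j ∉ Subgroup.normalizer (R : Set G) := by
    intro j
    induction j with
    | zero => simpa using htR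
    | succ j ih =>
      intro hcon
      have hsT : t ^ 2 ^ j ∈ T := T.pow_mem ht _
      apply hx2
      refine sq_step (s := t ^ 2 ^ j) hx (hRc _ (hTS hsT) ih) (hTc x (hRS hx) hxT) hsT
        (h.disjoint_cj hR (hTS hsT) ih) ?_
      rw [← pow_mul, ← pow_succ]
      exact hcon
  obtain ⟨m, hm⟩ := hS ⟨t, hTS ht⟩
  have hm' : t ^ 2 ^ m = 1 := by simpa using congrArg Subtype.val hm
  exact key m (hm' ▸ Subgroup.one_mem _)

/-- A proper subgroup `K` of the finite `p`-subgroup `S` lies in a proper subgroup `M` of `S` normalized by `S`. -/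
theorem exists_normal_proper {S K : Subgroup G} [Finite ↥S] {p : ℕ} [Fact p.Prime] (hS : IsPGroup p ↥S)
    (hKS : K ≤ S) (hne : K ≠ S) :
    ∃ M : Subgroup G, K ≤ M ∧ M ≤ S ∧ M ≠ S ∧ ∀ s ∈ S, ∀ m ∈ M, s * m * s⁻¹ ∈ M := by
  have hnil : Group.IsNilpotent ↥S := hS.isNilpotent
  have hK' : K.subgroupOf S ≠ ⊤ := by
    intro htop
    apply hne
    apply le_antisymm hKS
    intro s hs
    have : (⟨s, hs⟩ : ↥S) ∈ K.subgroupOf S := htop ▸ Subgroup.mem_top _
    exact Subgroup.mem_subgroupOf.1 this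
  obtain ⟨M', hM', hKM'⟩ := (eq_top_or_exists_le_coatom (K.subgroupOf S)).resolve_left hK'
  have hnorm : M'.Normal :=
    Subgroup.NormalizerCondition.normal_of_coatom M' Group.normalizerCondition_of_isNilpotent hM'
  refine ⟨M'.map S.subtype, ?_, ?_, ?_, ?_⟩
  · intro k hk
    exact ⟨⟨k, hKS hk⟩, hKM' (Subgroup.mem_subgroupOf.2 hk), rfl⟩
  · rintro _ ⟨m, _, rfl⟩
    exact m.2
  · intro heq
    apply hM'.1
    rw [eq_top_iff]
    intro s _
    have : (s : G) ∈ M'.map S.subtype := by rw [heq]; exact s.2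
    obtain ⟨m, hm, hms⟩ := this
    have : m = s := Subtype.ext hms
    exact this ▸ hm
  · rintro s hs _ ⟨m, hm, rfl⟩
    exact ⟨⟨s, hs⟩ * m * ⟨s, hs⟩⁻¹, hnorm.conj_mem m hm ⟨s, hs⟩, rfl⟩


theorem commute_of_normalize {R T : Subgroup G} (hdis : R ⊓ T = ⊥)
    (hTR : T ≤ Subgroup.normalizer (R : Set G)) (hRT : R ≤ Subgroup.normalizer (T : Set G))
    {x t : G} (hx : x ∈ R) (ht : t ∈ T) : x * t = t * x := by
  have h1 : x * t * x⁻¹ * t⁻¹ ∈ R := by
    have h : t * x⁻¹ * t⁻¹ ∈ R := (Subgroup.mem_normalizer_iff.1 (hTR ht) x⁻¹).1 (R.inv_mem hx)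
    have := R.mul_mem hx h
    simpa [mul_assoc] using this
  have h2 : x * t * x⁻¹ * t⁻¹ ∈ T :=
    T.mul_mem ((Subgroup.mem_normalizer_iff.1 (hRT hx) t).1 ht) (T.inv_mem ht)
  have h3 : x * t * x⁻¹ * t⁻¹ ∈ R ⊓ T := Subgroup.mem_inf.2 ⟨h1, h2⟩
  rw [hdis, Subgroup.mem_bot] at h3
  calc x * t = (x * t * x⁻¹ * t⁻¹) * (t * x) := by group
    _ = t * x := by rw [h3, one_mul]

/-- A nontrivial 2-element whose square is nontrivial has a power which is an involution. -/
theorem exists_involution_pow {x : G} (hx : ∃ m : ℕ, x ^ 2 ^ m = 1) (hx1 : x ≠ 1) :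
    ∃ k : ℕ, x ^ k ≠ 1 ∧ (x ^ k) ^ 2 = 1 := by
  classical
  have hm0 : Nat.find hx ≠ 0 := by
    intro h0
    have := Nat.find_spec hx
    rw [h0] at this
    simp at this
    exact hx1 this
  obtain ⟨j, hj⟩ := Nat.exists_eq_succ_of_ne_zero hm0
  refine ⟨2 ^ j, Nat.find_min hx (by omega), ?_⟩
  have := Nat.find_spec hx
  rw [hj, pow_succ, pow_mul] at this
  exact this

theorem main (n : ℕ) : ∀ (S : Subgroup G) (Δ : Set (Subgroup G)), Finite ↥S → IsPGroup 2 ↥S →
    Nat.card ↥S = n → Fam S Δ →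
    ∀ R ∈ Δ, ∀ T ∈ Δ, R ≠ T → ∀ x ∈ R, ∀ t ∈ T, x * t = t * x := by
  induction n using Nat.strong_induction_on with
  | _ n ih =>
  intro S Δ hfin hS hn h R hR T hT hne
  have : Fact (Nat.Prime 2) := ⟨Nat.prime_two⟩
  have hRS := h.1 R hR
  have hTS := h.1 T hT
  have ihM : ∀ M : Subgroup G, M ≤ S → M ≠ S → ∀ K ∈ Δ, ∀ L ∈ Δ, K ≤ M → L ≤ M → K ≠ L →
      ∀ a ∈ K, ∀ b ∈ L, a * b = b * a := by
    intro M hMS hMne K hK L hL hKM hLM hKL
    have hfM : Finite ↥M :=
      Finite.of_injective (Subgroup.inclusion hMS) (Subgroup.inclusion_injective hMS)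
    have hlt : Nat.card ↥M < n := by
      rw [← hn]
      refine lt_of_le_of_ne (Subgroup.card_le_of_le hMS) (fun heq => hMne ?_)
      exact Subgroup.eq_of_le_of_card_ge hMS (le_of_eq heq.symm)
    exact ih (Nat.card ↥M) hlt M _ hfM (hS.to_le hMS) rfl (h.restrict hMS) K ⟨hK, hKM⟩ L ⟨hL, hLM⟩ hKL
  have step2 : ∀ K ∈ Δ, ∀ s ∈ S, s ∉ Subgroup.normalizer (K : Set G) →
      ∀ a ∈ K, ∀ b ∈ K.map (MulAut.conj s).toMonoidHom, a * b = b * a := by
    intro K hK s hs hsK
    have hKS := h.1 K hK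
    have hKne : K ≠ S := by
      rintro rfl
      exact hsK (Subgroup.le_normalizer hs)
    obtain ⟨M, hKM, hMS, hMne, hMnorm⟩ := exists_normal_proper hS hKS hKne
    have hKsM : K.map (MulAut.conj s).toMonoidHom ≤ M := by
      rintro _ ⟨k, hk, rfl⟩
      exact hMnorm s hs k (hKM hk)
    have hKs : K ≠ K.map (MulAut.conj s).toMonoidHom := fun e => hsK (cj_eq_self_iff.1 e.symm)
    exact ihM M hMS hMne K hK _ (h.2.1 s hs K hK) hKM hKsM hKs
  by_cases hRT : R ⊔ T = S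
  swap
  · exact ihM (R ⊔ T) (sup_le hRS hTS) hRT R hR T hT le_sup_left le_sup_right hne
  have hdis : R ⊓ T = ⊥ := (h.2.2.2.2 R hR T hT).resolve_left hne
  by_cases hTR : T ≤ Subgroup.normalizer (R : Set G)
  · intro x hx t ht
    exact commute_of_normalize hdis hTR (h.normalizer_symm hR hT hTR) hx ht
  by_cases hRT2 : R ≤ Subgroup.normalizer (T : Set G)
  · intro x hx t ht
    exact commute_of_normalize hdis (h.normalizer_symm hT hR hRT2) hRT2 hx ht
  exfalso
  obtain ⟨u, huR, huT⟩ := SetLike.not_le_iff_exists.1 hRT2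
  obtain ⟨v, hvT, hvR⟩ := SetLike.not_le_iff_exists.1 hTR
  obtain ⟨x, hxR, hx2⟩ := h.2.2.1 R hR
  have cA : ∀ y ∈ R, y ^ 2 ≠ 1 → y ∈ Subgroup.normalizer (T : Set G) := by
    intro y hy hy2
    by_contra hyT
    exact hvR (claimA hS h hR hT (step2 R hR) (step2 T hT) hy hy2 hyT hvT)
  have hxT : x ∈ Subgroup.normalizer (T : Set G) := cA x hxR hx2
  have hu2 : u ^ 2 = 1 := by
    by_contra hu2
    exact huT (cA u huR hu2)
  have huxT : u * x ∉ Subgroup.normalizer (T : Set G) := by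
    intro hc
    apply huT
    have := (Subgroup.normalizer (T : Set G)).mul_mem hc ((Subgroup.normalizer (T : Set G)).inv_mem hxT)
    simpa using this
  have hux2 : (u * x) ^ 2 = 1 := by
    by_contra hc
    exact huxT (cA (u * x) (R.mul_mem huR hxR) hc)
  have huinv : u⁻¹ = u := by
    rw [pow_two] at hu2
    exact inv_eq_of_mul_eq_one_left hu2
  have hconj : u * x * u⁻¹ = x⁻¹ := by
    rw [pow_two] at hux2
    rw [huinv]
    have : (u * x * u) * x = 1 := by simpa [mul_assoc] using hux2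
    exact eq_inv_of_mul_eq_one_left this
  have hx1 : x ≠ 1 := fun e => hx2 (by rw [e, one_pow])
  have hxpow : ∃ m : ℕ, x ^ 2 ^ m = 1 := by
    obtain ⟨m, hm⟩ := hS ⟨x, hRS hxR⟩
    exact ⟨m, by simpa using congrArg Subtype.val hm⟩
  obtain ⟨k, hz1, hz2⟩ := exists_involution_pow hxpow hx1
  set z : G := x ^ k with hz
  have hzR : z ∈ R := R.pow_mem hxR k
  have hzT : z ∈ Subgroup.normalizer (T : Set G) := Subgroup.pow_mem _ hxT k
  have hzinv : z⁻¹ = z := by
    rw [pow_two] at hz2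
    exact inv_eq_of_mul_eq_one_left hz2
  have huz : u * z = z * u := by
    have h1 : u * z * u⁻¹ = z⁻¹ := by
      rw [hz, ← conj_pow, hconj, inv_pow]
    rw [hzinv] at h1
    calc u * z = (u * z * u⁻¹) * u := by group
      _ = z * u := by rw [h1]
  -- Claim B
  have hkT : z⁻¹ * v * z * v⁻¹ ∈ T := by
    have h1 : z⁻¹ * v * z⁻¹⁻¹ ∈ T :=
      (Subgroup.mem_normalizer_iff.1 (Subgroup.inv_mem _ hzT) v).1 hvT
    rw [inv_inv] at h1
    exact T.mul_mem h1 (T.inv_mem hvT)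
  have huv : u * (v * z * v⁻¹) = (v * z * v⁻¹) * u :=
    step2 R hR v (hTS hvT) hvR u huR _ (conj_mem_cj hzR)
  have huk : u * (z⁻¹ * v * z * v⁻¹) = (z⁻¹ * v * z * v⁻¹) * u := by
    have e : z⁻¹ * v * z * v⁻¹ = z⁻¹ * (v * z * v⁻¹) := by group
    rw [e, hzinv, ← mul_assoc, huz, mul_assoc, huv]
    simp only [mul_assoc]
  have hk1 : z⁻¹ * v * z * v⁻¹ = 1 := by
    by_contra hk1
    exact huT (h.normalizes hT (hRS huR) hkT hk1 huk)
  have hvz : v * z * v⁻¹ = z := by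
    have : v * z * v⁻¹ = z * (z⁻¹ * v * z * v⁻¹) := by group
    rw [this, hk1, mul_one]
  have hzmem : z ∈ R.map (MulAut.conj v).toMonoidHom ⊓ R := by
    refine Subgroup.mem_inf.2 ⟨?_, hzR⟩
    have := conj_mem_cj (g := v) hzR
    rwa [hvz] at this
  rw [h.disjoint_cj hR (hTS hvT) hvR] at hzmem
  exact hz1 (Subgroup.mem_bot.1 hzmem)

/-- Let S be a finite 2-group and Δ a set of subgroups of S closed under conjugation by S, all of the same order, each with nontrivial Frattini subgroup, and such that two distinct members of Δ meet trivially. Then any two distinct members of Δ commute elementwise. -/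
theorem result {S : Type*} [Group S] [Finite S] (hS : IsPGroup 2 S)
    (Δ : Set (Subgroup S)) (hinv : ∀ s : S, ∀ R ∈ Δ, R.map (MulAut.conj s).toMonoidHom ∈ Δ)
    (hΦ : ∀ R ∈ Δ, frattini ↥R ≠ ⊥) (hord : ∀ R ∈ Δ, ∀ T ∈ Δ, Nat.card ↥R = Nat.card ↥T)
    (hti : ∀ R ∈ Δ, ∀ T ∈ Δ, R = T ∨ R ⊓ T = ⊥) :
    ∀ R ∈ Δ, ∀ T ∈ Δ, R ≠ T → ⁅R, T⁆ = ⊥ := by
  intro R hR T hT hne
  have hfam : Fam (⊤ : Subgroup S) Δ := by
    refine ⟨fun _ _ => le_top, fun s _ R hR => hinv s R hR, ?_, hord, hti⟩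
    intro R hR
    by_contra hcon
    push Not at hcon
    apply hΦ R hR
    apply frattini_eq_bot_of_sq
    intro x
    apply Subtype.ext
    simpa using hcon x x.2
  have key := main (Nat.card ↥(⊤ : Subgroup S)) ⊤ Δ inferInstance (hS.to_subgroup _) rfl hfam R hR T hT hne
  rw [Subgroup.commutator_eq_bot_iff_le_centralizer]
  intro x hx
  rw [Subgroup.mem_centralizer_iff]
  intro t ht
  exact (key x hx t ht).symm

end Cfsg.Agent.S1782
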