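import Cfsg.Statements.S1783
import Cfsg.Agent.S1782
import Cfsg.Agent.Helper22.Bender
import Cfsg.Agent.Helper47.Basic
import Cfsg.Agent.Helper63.Frattini
import Cfsg.Agent.Lib.Cores
-- import your own Cfsg.Agent.* helpers here

set_option autoImplicit false
open Cfsg

namespace Cfsg.Agent.S1783

open Cfsg.Agent.Helper30 Cfsg.Agent.S1782

variable {X : Type*} [Group X]

/-- The subgroup generated by the squares of the elements of `H`. -/
def sqSub (H : Subgroup X) : Subgroup X := Subgroup.closure ((fun h : X => h ^ 2) '' (H : Set X))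

theorem sqSub_le (H : Subgroup X) : sqSub H ≤ H := by
  unfold sqSub
  rw [Subgroup.closure_le]
  rintro _ ⟨h, hh, rfl⟩
  exact H.pow_mem hh 2

theorem sq_mem_sqSub {H : Subgroup X} {h : X} (hh : h ∈ H) : h ^ 2 ∈ sqSub H :=
  Subgroup.subset_closure ⟨h, hh, rfl⟩

theorem map_sqSub (H : Subgroup X) (g : X) :
    (sqSub H).map (MulAut.conj g).toMonoidHom = sqSub (H.map (MulAut.conj g).toMonoidHom) := by
  unfold sqSub
  rw [MonoidHom.map_closure]
  congr 1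
  ext y
  constructor
  · rintro ⟨_, ⟨h, hh, rfl⟩, rfl⟩
    exact ⟨(MulAut.conj g).toMonoidHom h, ⟨h, hh, rfl⟩, by simp⟩
  · rintro ⟨_, ⟨h, hh, rfl⟩, rfl⟩
    exact ⟨h ^ 2, ⟨h, hh, rfl⟩, by simp⟩

theorem sqSub_conj_mem {H : Subgroup X} [hH : H.Normal] {c : X} (hc : c ∈ sqSub H) (g : X) :
    g * c * g⁻¹ ∈ sqSub H := by
  have h1 : H.map (MulAut.conj g).toMonoidHom = H := by
    apply le_antisymm
    · rintro _ ⟨h, hh, rfl⟩
      exact hH.conj_mem h hh g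
    · intro h hh
      rw [mem_cj]
      have := hH.conj_mem h hh g⁻¹
      simpa using this
  have h2 : g * c * g⁻¹ ∈ (sqSub H).map (MulAut.conj g).toMonoidHom := conj_mem_cj hc
  rwa [map_sqSub, h1] at h2

/-- A nontrivial finite 2-group is not generated by its squares. -/
theorem sqSub_ne {H : Subgroup X} [Finite ↥H] (hH2 : IsPGroup 2 ↥H) (hne : H ≠ ⊥) : sqSub H ≠ H := by
  have : Fact (Nat.Prime 2) := ⟨Nat.prime_two⟩
  intro heq
  have hnt : Nontrivial ↥H := (Subgroup.nontrivial_iff_ne_bot H).2 hne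
  -- a maximal subgroup of `H`
  obtain ⟨M, hM⟩ : ∃ M : Subgroup ↥H, IsCoatom M := by
    rcases eq_top_or_exists_le_coatom (⊥ : Subgroup ↥H) with h | ⟨M, hM, -⟩
    · exact absurd h bot_ne_top
    · exact ⟨M, hM⟩
  have hfr : frattini ↥H ≤ M := frattini_le_coatom hM
  -- every element of `H` lies in `M`
  have hall : ∀ h : ↥H, h ∈ M := by
    have hsub : sqSub H ≤ M.map H.subtype := by
      unfold sqSub
      rw [Subgroup.closure_le]
      rintro _ ⟨h, hh, rfl⟩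
      refine ⟨⟨h, hh⟩ ^ 2, hfr (Cfsg.Agent.Helper63.pow_prime_mem_frattini hH2 ⟨h, hh⟩), rfl⟩
    intro h
    have : (h : X) ∈ M.map H.subtype := hsub (by rw [heq]; exact h.2)
    obtain ⟨m, hm, hmh⟩ := this
    have : m = h := Subtype.ext hmh
    exact this ▸ hm
  exact hM.1 (eq_top_iff.2 fun h _ => hall h)

/-- The elements of `X` acting trivially on `H / sqSub H` for every normal 2-subgroup `H` of `X`. -/
def stab (X : Type*) [Group X] : Subgroup X where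
  carrier := {x | ∀ H : Subgroup X, H.Normal → IsPGroup 2 ↥H → ∀ h ∈ H, h * x * h⁻¹ * x⁻¹ ∈ sqSub H}
  one_mem' := by
    intro H _ _ h _
    simp
  mul_mem' := by
    intro x y hx hy H hH hH2 h hh
    have h1 := hx H hH hH2 h hh
    have h2 := sqSub_conj_mem (hH := hH) (hy H hH hH2 h hh) x
    have : h * (x * y) * h⁻¹ * (x * y)⁻¹ = (h * x * h⁻¹ * x⁻¹) * (x * (h * y * h⁻¹ * y⁻¹) * x⁻¹) := by group
    rw [this]
    exact Subgroup.mul_mem _ h1 h2
  inv_mem' := by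
    intro x hx H hH hH2 h hh
    have h1 := Subgroup.inv_mem _ (hx H hH hH2 h hh)
    have h2 := sqSub_conj_mem (hH := hH) h1 x⁻¹
    have : h * x⁻¹ * h⁻¹ * x⁻¹⁻¹ = x⁻¹ * (h * x * h⁻¹ * x⁻¹)⁻¹ * x⁻¹⁻¹ := by group
    rw [this]
    exact h2

theorem stab_normal : (stab X).Normal := by
  refine ⟨fun x hx g H hH hH2 h hh => ?_⟩
  have hh' : g⁻¹ * h * g⁻¹⁻¹ ∈ H := hH.conj_mem h hh g⁻¹
  have h1 := hx H hH hH2 _ hh'
  have h2 := sqSub_conj_mem (hH := hH) h1 g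
  have : h * (g * x * g⁻¹) * h⁻¹ * (g * x * g⁻¹)⁻¹ =
      g * ((g⁻¹ * h * g⁻¹⁻¹) * x * (g⁻¹ * h * g⁻¹⁻¹)⁻¹ * x⁻¹) * g⁻¹ := by group
  rw [this]
  exact h2

/-- An odd-order element of `stab X` centralizes every normal 2-subgroup. -/
theorem stab_centralizes [Finite X] {y : X} (hy : y ∈ stab X) (hcop : (orderOf y).Coprime 2) :
    ∀ n : ℕ, ∀ H : Subgroup X, H.Normal → IsPGroup 2 ↥H → Nat.card ↥H = n → ∀ h ∈ H, Commute h y := by
  intro n
  induction n using Nat.strong_induction_on with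
  | _ n ih =>
  intro H hH hH2 hn
  by_cases hbot : H = ⊥
  · intro h hh
    rw [hbot, Subgroup.mem_bot] at hh
    rw [hh]
    exact Commute.one_left y
  · have hlt : sqSub H < H := lt_of_le_of_ne (sqSub_le H) (sqSub_ne hH2 hbot)
    have hnorm : (sqSub H).Normal := ⟨fun c hc g => sqSub_conj_mem (hH := hH) hc g⟩
    have h2 : IsPGroup 2 ↥(sqSub H) := hH2.to_le (sqSub_le H)
    have hcard : Nat.card ↥(sqSub H) < n := by
      rw [← hn]
      refine lt_of_le_of_ne (Subgroup.card_le_of_le hlt.le) (fun heq => hlt.ne ?_)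
      exact Subgroup.eq_of_le_of_card_ge hlt.le (le_of_eq heq.symm)
    have hcen := ih _ hcard (sqSub H) hnorm h2 rfl
    exact Cfsg.Agent.Helper47.commute_of_commutator_mem h2 hcop
      (fun s hs => by rw [commutatorElement_def]; exact hy H hH hH2 s hs) hcen

/-- If `C_X(O_2(X)) ≤ O_2(X)` then `stab X ≤ O_2(X)`. -/
theorem stab_le_pCore [Finite X]
    (hC : Subgroup.centralizer (Cfsg.pCore 2 X : Set X) ≤ Cfsg.pCore 2 X) : stab X ≤ Cfsg.pCore 2 X := by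
  have : Fact (Nat.Prime 2) := ⟨Nat.prime_two⟩
  have hQ2 : IsPGroup 2 ↥(Cfsg.pCore 2 X) := Cfsg.Agent.Lib.isPGroup_pCore 2
  apply Cfsg.Agent.Lib.le_pCore stab_normal
  apply Cfsg.Agent.Helper47.isPGroup_of_forall_coprime_eq_one (fun y => isOfFinOrder_of_finite y)
  intro y hcop
  have hcop' : (orderOf (y : X)).Coprime 2 := by rwa [Subgroup.orderOf_coe]
  have hcen := stab_centralizes y.2 hcop' _ (Cfsg.pCore 2 X) inferInstance hQ2 rfl
  have hyQ : (y : X) ∈ Cfsg.pCore 2 X := by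
    apply hC
    rw [Subgroup.mem_centralizer_iff]
    intro h hh
    exact (hcen h hh).eq
  have := Cfsg.Agent.Helper47.eq_one_of_mem_isPGroup_of_coprime hQ2 hyQ hcop'
  exact Subtype.ext this

/-- A two-sided version of the TI property for conjugates. -/
theorem ti_two {A : Subgroup X}
    (hti : ∀ h : X, A.map (MulAut.conj h).toMonoidHom = A ∨ A.map (MulAut.conj h).toMonoidHom ⊓ A = ⊥)
    (s t : X) : A.map (MulAut.conj s).toMonoidHom = A.map (MulAut.conj t).toMonoidHom ∨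
      A.map (MulAut.conj s).toMonoidHom ⊓ A.map (MulAut.conj t).toMonoidHom = ⊥ := by
  have e : (A.map (MulAut.conj s).toMonoidHom).map (MulAut.conj (t * s⁻¹)).toMonoidHom =
      A.map (MulAut.conj t).toMonoidHom := by
    rw [cj_cj]
    congr 3
    group
  rcases ti_cj hti s (t * s⁻¹) with h | h
  · left
    rw [← e, h]
  · right
    rw [← e, inf_comm]
    exact h

/-- Conjugating by an element of a subgroup `S` containing `A` keeps `A` inside `S`. -/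
theorem cj_le_of_mem {A S : Subgroup X} (hAS : A ≤ S) {s : X} (hs : s ∈ S) :
    A.map (MulAut.conj s).toMonoidHom ≤ S := by
  intro x hx
  rw [mem_cj] at hx
  have h1 := hAS hx
  have h2 : s * (s⁻¹ * x * s) * s⁻¹ ∈ S := S.mul_mem (S.mul_mem hs h1) (S.inv_mem hs)
  have e : s * (s⁻¹ * x * s) * s⁻¹ = x := by group
  rwa [e] at h2

theorem conj_sq_ne_one {a s : X} (ha : a ^ 2 ≠ 1) : (s * a * s⁻¹) ^ 2 ≠ 1 := by
  intro h
  apply ha
  have e : (s * a * s⁻¹) ^ 2 = s * a ^ 2 * s⁻¹ := by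
    rw [pow_two, pow_two]; group
  rw [e] at h
  have : a ^ 2 = s⁻¹ * (s * a ^ 2 * s⁻¹) * s := by group
  rw [this, h]; group

/-- The family of `S`-conjugates of `A` satisfies the hypotheses of `S1782.main`. -/
theorem fam_conj {A S : Subgroup X} (hAS : A ≤ S)
    (hti : ∀ h : X, A.map (MulAut.conj h).toMonoidHom = A ∨ A.map (MulAut.conj h).toMonoidHom ⊓ A = ⊥)
    {a₀ : X} (ha₀ : a₀ ∈ A) (hsq : a₀ ^ 2 ≠ 1) :
    Fam S {R | ∃ s ∈ S, R = A.map (MulAut.conj s).toMonoidHom} := by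
  refine ⟨?_, ?_, ?_, ?_, ?_⟩
  · rintro R ⟨s, hs, rfl⟩
    exact cj_le_of_mem hAS hs
  · rintro s hs R ⟨t, ht, rfl⟩
    exact ⟨s * t, S.mul_mem hs ht, cj_cj t s A⟩
  · rintro R ⟨s, hs, rfl⟩
    exact ⟨s * a₀ * s⁻¹, conj_mem_cj ha₀, conj_sq_ne_one hsq⟩
  · rintro R ⟨s, hs, rfl⟩ T ⟨t, ht, rfl⟩
    rw [card_cj, card_cj]
  · rintro R ⟨s, hs, rfl⟩ T ⟨t, ht, rfl⟩
    exact ti_two hti s t

/-- `a` commutes with its conjugate by any element of `O_2(X)`. -/
theorem commute_conj [Finite X] {A : Subgroup X} (hA2 : IsPGroup 2 ↥A) (hAa : IsMulCommutative ↥A)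
    (hti : ∀ h : X, A.map (MulAut.conj h).toMonoidHom = A ∨ A.map (MulAut.conj h).toMonoidHom ⊓ A = ⊥)
    {a₀ : X} (ha₀ : a₀ ∈ A) (hsq : a₀ ^ 2 ≠ 1) {a h : X} (ha : a ∈ A) (hh : h ∈ Cfsg.pCore 2 X) :
    a * (h * a * h⁻¹) = (h * a * h⁻¹) * a := by
  have : Fact (Nat.Prime 2) := ⟨Nat.prime_two⟩
  have hQ2 : IsPGroup 2 ↥(Cfsg.pCore 2 X) := Cfsg.Agent.Lib.isPGroup_pCore 2
  have hS2 : IsPGroup 2 ↥(A ⊔ Cfsg.pCore 2 X) := IsPGroup.to_sup_of_normal_right hA2 hQ2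
  have hAS : A ≤ A ⊔ Cfsg.pCore 2 X := le_sup_left
  have hhS : h ∈ A ⊔ Cfsg.pCore 2 X := (le_sup_right : Cfsg.pCore 2 X ≤ _) hh
  have hfam := fam_conj hAS hti ha₀ hsq
  by_cases heq : A.map (MulAut.conj h).toMonoidHom = A
  · have h1 : h * a * h⁻¹ ∈ A := by
      have := conj_mem_cj (g := h) ha
      rwa [heq] at this
    exact setLike_mul_comm ha h1
  · have hm := main (G := X) _ (A ⊔ Cfsg.pCore 2 X) _ inferInstance hS2 rfl hfam
      A ⟨1, Subgroup.one_mem _, (cj_one A).symm⟩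
      (A.map (MulAut.conj h).toMonoidHom) ⟨h, hhS, rfl⟩ (fun e => heq e.symm)
      a ha (h * a * h⁻¹) (conj_mem_cj ha)
    exact hm

theorem sqSub_le_pCore [Finite X]
    (hC : Subgroup.centralizer (Cfsg.pCore 2 X : Set X) ≤ Cfsg.pCore 2 X)
    {A : Subgroup X} (hA2 : IsPGroup 2 ↥A) (hAa : IsMulCommutative ↥A)
    (hti : ∀ h : X, A.map (MulAut.conj h).toMonoidHom = A ∨ A.map (MulAut.conj h).toMonoidHom ⊓ A = ⊥) :
    sqSub A ≤ Cfsg.pCore 2 X := by
  by_cases hall : ∀ a ∈ A, a ^ 2 = 1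
  · unfold sqSub
    rw [Subgroup.closure_le]
    rintro _ ⟨a, ha, rfl⟩
    simp only [hall a ha]
    exact Subgroup.one_mem _
  · push Not at hall
    obtain ⟨a₀, ha₀, hsq⟩ := hall
    refine le_trans ?_ (stab_le_pCore hC)
    unfold sqSub
    rw [Subgroup.closure_le]
    rintro _ ⟨a, ha, rfl⟩
    intro H hH hH2 h hh
    have hhQ : h ∈ Cfsg.pCore 2 X := Cfsg.Agent.Lib.le_pCore hH hH2 hh
    have hc := commute_conj hA2 hAa hti ha₀ hsq ha hhQ
    -- `h a h⁻¹ a⁻¹ ∈ H`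
    have hmem : h * a * h⁻¹ * a⁻¹ ∈ H := by
      have h1 : a * h⁻¹ * a⁻¹ ∈ H := hH.conj_mem _ (H.inv_mem hh) a
      have h2 := H.mul_mem hh h1
      have e : h * (a * h⁻¹ * a⁻¹) = h * a * h⁻¹ * a⁻¹ := by group
      rwa [e] at h2
    have hsqm := sq_mem_sqSub hmem
    have e : h * a ^ 2 * h⁻¹ * (a ^ 2)⁻¹ = (h * a * h⁻¹ * a⁻¹) ^ 2 := by
      have hc' : Commute a (h * a * h⁻¹) := hc
      have hc2 : Commute (h * a * h⁻¹) a⁻¹ := hc'.symm.inv_right
      have e1 : h * a ^ 2 * h⁻¹ = (h * a * h⁻¹) ^ 2 := by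
        rw [pow_two, pow_two]; group
      have e2 : (h * a * h⁻¹ * a⁻¹) ^ 2 = (h * a * h⁻¹) ^ 2 * (a⁻¹) ^ 2 := hc2.mul_pow 2
      rw [e2, e1, inv_pow]
    show h * a ^ 2 * h⁻¹ * (a ^ 2)⁻¹ ∈ sqSub H
    rw [e]
    exact hsqm

theorem result {X : Type*} [Group X] [Finite X]
    (hX : Cfsg.generalizedFittingSubgroup X = Cfsg.pCore 2 X) (A : Subgroup X) (hA2 : IsPGroup 2 ↥A) (hAa : IsMulCommutative ↥A)
    (hti : ∀ h : X, A.map (MulAut.conj h).toMonoidHom = A ∨ A.map (MulAut.conj h).toMonoidHom ⊓ A = ⊥) :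
    Subgroup.closure ((fun a : X => a ^ 2) '' (A : Set X)) ≤ Cfsg.pCore 2 X ∧
      (¬ Cfsg.IsElementaryAbelian 2 (Subgroup.closure ((fun a : X => a ^ 2) '' (A : Set X))) →
        IsMulCommutative ↥(Subgroup.normalClosure ((fun a : X => a ^ 2) '' (A : Set X)))) := by
  have : Fact (Nat.Prime 2) := ⟨Nat.prime_two⟩
  have hC : Subgroup.centralizer (Cfsg.pCore 2 X : Set X) ≤ Cfsg.pCore 2 X := by
    have := Cfsg.Agent.Helper22.centralizer_generalizedFittingSubgroup_le (G := X)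
    rwa [hX] at this
  have hBQ : sqSub A ≤ Cfsg.pCore 2 X := sqSub_le_pCore hC hA2 hAa hti
  refine ⟨hBQ, fun hne => ?_⟩
  change ¬ Cfsg.IsElementaryAbelian 2 (sqSub A) at hne
  have hBA : sqSub A ≤ A := sqSub_le A
  have hBc : IsMulCommutative ↥(sqSub A) :=
    IsMulCommutative.of_setLike_mul_comm fun x hx y hy => setLike_mul_comm (hBA hx) (hBA hy)
  have hex : ∃ b ∈ sqSub A, b ^ 2 ≠ 1 := by
    by_contra hcon
    push Not at hcon
    exact hne ⟨hBc, hcon⟩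
  obtain ⟨b, hb, hbsq⟩ := hex
  have hQn : (Cfsg.pCore 2 X).Normal := inferInstance
  have hQ2 : IsPGroup 2 ↥(Cfsg.pCore 2 X) := Cfsg.Agent.Lib.isPGroup_pCore 2
  -- the family of all conjugates of `B`
  have hfam : Fam (Cfsg.pCore 2 X) {R | ∃ x : X, R = (sqSub A).map (MulAut.conj x).toMonoidHom} := by
    refine ⟨?_, ?_, ?_, ?_, ?_⟩
    · rintro R ⟨x, rfl⟩
      intro y hy
      rw [mem_cj] at hy
      have h1 := hBQ hy
      have h2 := hQn.conj_mem _ h1 x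
      have e : x * (x⁻¹ * y * x) * x⁻¹ = y := by group
      rwa [e] at h2
    · rintro s hs R ⟨t, rfl⟩
      exact ⟨s * t, cj_cj t s _⟩
    · rintro R ⟨s, rfl⟩
      exact ⟨s * b * s⁻¹, conj_mem_cj hb, conj_sq_ne_one hbsq⟩
    · rintro R ⟨s, rfl⟩ T ⟨t, rfl⟩
      rw [card_cj, card_cj]
    · rintro R ⟨s, rfl⟩ T ⟨t, rfl⟩
      rcases ti_two hti s t with h | h
      · left
        rw [map_sqSub, map_sqSub, h]
      · right
        rw [eq_bot_iff, ← h]
        exact inf_le_inf (cj_mono hBA) (cj_mono hBA)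
  have hmain := main (G := X) _ (Cfsg.pCore 2 X) _ inferInstance hQ2 rfl hfam
  -- any two elements of conjugates of `B` commute
  have hcomm : ∀ s t : X, ∀ u ∈ (sqSub A).map (MulAut.conj s).toMonoidHom,
      ∀ v ∈ (sqSub A).map (MulAut.conj t).toMonoidHom, u * v = v * u := by
    intro s t u hu v hv
    by_cases heq : (sqSub A).map (MulAut.conj s).toMonoidHom = (sqSub A).map (MulAut.conj t).toMonoidHom
    · rw [← heq] at hv
      have hAs : IsMulCommutative ↥(A.map (MulAut.conj s).toMonoidHom) := by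
        refine IsMulCommutative.of_setLike_mul_comm ?_
        rintro _ ⟨x, hx, rfl⟩ _ ⟨y, hy, rfl⟩
        rw [← map_mul, ← map_mul, setLike_mul_comm hx hy]
      exact setLike_mul_comm (cj_mono hBA hu) (cj_mono hBA hv)
    · exact hmain _ ⟨s, rfl⟩ _ ⟨t, rfl⟩ heq u hu v hv
  rw [Subgroup.normalClosure]
  apply Subgroup.isMulCommutative_closure
  intro x hx y hy
  rw [Group.mem_conjugatesOfSet_iff] at hx hy
  obtain ⟨_, ⟨a, ha, rfl⟩, hax⟩ := hx
  obtain ⟨_, ⟨a', ha', rfl⟩, hay⟩ := hy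
  rw [isConj_iff] at hax hay
  obtain ⟨c, rfl⟩ := hax
  obtain ⟨d, rfl⟩ := hay
  exact hcomm c d _ (conj_mem_cj (sq_mem_sqSub ha)) _ (conj_mem_cj (sq_mem_sqSub ha'))

end Cfsg.Agent.S1783
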