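import Cfsg.Statements.S1784
import Cfsg.Agent.Helper29.Extraspecial
import Cfsg.Agent.Helper22.Bender
import Cfsg.Agent.Helper21.Radical
import Cfsg.Agent.Helper63.Frattini
-- import your own Cfsg.Agent.* helpers here

set_option autoImplicit false
open Cfsg

namespace Cfsg.Agent.S1784

open Cfsg.Agent.Helper29
open scoped IsMulCommutative

section Abstract

variable {Q : Type*} [Group Q]

/-- The commutator `a b a⁻¹ b⁻¹`. -/
def k (a b : Q) : Q := a * b * a⁻¹ * b⁻¹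

theorem k_mem (hc : commutator Q ≤ Subgroup.center Q) (a b : Q) : k a b ∈ Subgroup.center Q :=
  comm_mem_center hc a b

theorem k_mul_left (hc : commutator Q ≤ Subgroup.center Q) (a b y : Q) : k (a * b) y = k a y * k b y := by
  have h := map_mul (commHom₂ hc) a b
  have h2 := congrArg (fun f : Q →* Subgroup.center Q => ((f y : Subgroup.center Q) : Q)) h
  exact h2

theorem k_mul_right (hc : commutator Q ≤ Subgroup.center Q) (a x y : Q) : k a (x * y) = k a x * k a y := by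
  have h := congrArg Subtype.val (map_mul (commHom hc a) x y)
  exact h

theorem k_eq_one_iff (a b : Q) : k a b = 1 ↔ a * b = b * a := by
  unfold k
  constructor
  · intro h1
    calc a * b = (a * b * a⁻¹ * b⁻¹) * (b * a) := by group
      _ = b * a := by rw [h1, one_mul]
  · intro h1
    rw [h1]; group

theorem k_inv_right (hc : commutator Q ≤ Subgroup.center Q) (a y : Q) : k a y⁻¹ = (k a y)⁻¹ := by
  have h := k_mul_right hc a y y⁻¹
  rw [mul_inv_cancel] at h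
  have h1 : k a 1 = 1 := by unfold k; group
  rw [h1] at h
  exact (inv_eq_of_mul_eq_one_right h.symm).symm

theorem k_inv_left (hc : commutator Q ≤ Subgroup.center Q) (a y : Q) : k a⁻¹ y = (k a y)⁻¹ := by
  have h := k_mul_left hc a a⁻¹ y
  rw [mul_inv_cancel] at h
  have h1 : k 1 y = 1 := by unfold k; group
  rw [h1] at h
  exact (inv_eq_of_mul_eq_one_right h.symm).symm

theorem k_of_mem_center {a : Q} (ha : a ∈ Subgroup.center Q) (y : Q) : k a y = 1 := by
  rw [k_eq_one_iff]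
  exact (Subgroup.mem_center_iff.1 ha y).symm

theorem map_k (σ : Q ≃* Q) (a b : Q) : σ (k a b) = k (σ a) (σ b) := by
  simp [k]

theorem sigma_center (h2 : Nat.card (Subgroup.center Q) = 2) (σ : Q ≃* Q) {z : Q}
    (hz : z ∈ Subgroup.center Q) : σ z = z := by
  by_cases h1 : z = 1
  · rw [h1, map_one]
  · have hσz : σ z ∈ Subgroup.center Q := by
      rw [Subgroup.mem_center_iff]
      intro y
      have h3 := Subgroup.mem_center_iff.1 hz (σ.symm y)
      have h4 := congrArg σ h3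
      simpa using h4
    have hne : σ z ≠ 1 := fun h => h1 ((map_eq_one_iff σ σ.injective).1 h)
    have h5 := eq_of_ne_one_of_card_two (1 : Subgroup.center Q) h2 (a := ⟨σ z, hσz⟩) (b := ⟨z, hz⟩)
      (fun h => hne (congrArg Subtype.val h)) (fun h => h1 (congrArg Subtype.val h))
    exact congrArg Subtype.val h5

/-- `[Q, σ]`. -/
def W (σ : Q ≃* Q) : Subgroup Q := Subgroup.closure (Set.range fun q : Q => σ q * q⁻¹)

theorem gen_mem_W (σ : Q ≃* Q) (q : Q) : σ q * q⁻¹ ∈ W σ := Subgroup.subset_closure ⟨q, rfl⟩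

/-- The preimage of the fixed points of `σ` on `Q / Z(Q)`. -/
def Q0 (σ : Q ≃* Q) : Subgroup Q where
  carrier := {q | σ q * q⁻¹ ∈ Subgroup.center Q}
  one_mem' := by simp
  mul_mem' := by
    intro a b ha hb
    have e : σ (a * b) * (a * b)⁻¹ = (σ b * b⁻¹) * (σ a * a⁻¹) := by
      rw [map_mul, mul_inv_rev]
      have h3 := Subgroup.mem_center_iff.1 hb (σ a)
      calc σ a * σ b * (b⁻¹ * a⁻¹) = (σ a * (σ b * b⁻¹)) * a⁻¹ := by group
        _ = ((σ b * b⁻¹) * σ a) * a⁻¹ := by rw [h3]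
        _ = (σ b * b⁻¹) * (σ a * a⁻¹) := by group
    show σ (a * b) * (a * b)⁻¹ ∈ Subgroup.center Q
    rw [e]
    exact mul_mem hb ha
  inv_mem' := by
    intro a ha
    have hinv : (σ a * a⁻¹)⁻¹ ∈ Subgroup.center Q := inv_mem ha
    have h3 := Subgroup.mem_center_iff.1 hinv a⁻¹
    have e : σ a⁻¹ * a⁻¹⁻¹ = (σ a * a⁻¹)⁻¹ := by
      calc σ a⁻¹ * a⁻¹⁻¹ = (a⁻¹ * (σ a * a⁻¹)⁻¹) * a := by rw [map_inv]; group
        _ = ((σ a * a⁻¹)⁻¹ * a⁻¹) * a := by rw [h3]
        _ = (σ a * a⁻¹)⁻¹ := by group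
    show σ a⁻¹ * a⁻¹⁻¹ ∈ Subgroup.center Q
    rw [e]
    exact hinv

theorem mem_Q0 {σ : Q ≃* Q} {q : Q} : q ∈ Q0 σ ↔ σ q * q⁻¹ ∈ Subgroup.center Q := Iff.rfl

/-- (A1) `[Q, σ] ≤ Q₀`. -/
theorem W_le_Q0 (hsq : ∀ x : Q, x ^ 2 ∈ Subgroup.center Q) (σ : Q ≃* Q) (hσ : ∀ y, σ (σ y) = y) :
    W σ ≤ Q0 σ := by
  unfold W
  rw [Subgroup.closure_le]
  rintro _ ⟨q, rfl⟩
  show σ (σ q * q⁻¹) * (σ q * q⁻¹)⁻¹ ∈ Subgroup.center Q
  have e : σ (σ q * q⁻¹) * (σ q * q⁻¹)⁻¹ = (q * (σ q)⁻¹) ^ 2 := by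
    rw [map_mul, hσ, map_inv, mul_inv_rev, inv_inv, pow_two]
  rw [e]
  exact hsq _

/-- (A2) `[Q, σ]` centralizes `Q₀`. -/
theorem W_le_centralizer (hc : commutator Q ≤ Subgroup.center Q) (h2 : Nat.card (Subgroup.center Q) = 2)
    (σ : Q ≃* Q) (hσ : ∀ y, σ (σ y) = y) :
    W σ ≤ Subgroup.centralizer (Q0 σ : Set Q) := by
  unfold W
  rw [Subgroup.closure_le]
  rintro _ ⟨q, rfl⟩
  rw [SetLike.mem_coe, Subgroup.mem_centralizer_iff]
  intro x hx
  rw [← k_eq_one_iff, k_mul_right hc, k_inv_right hc]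
  have h1 : k x (σ q) = k x q := by
    have e1 : k x (σ q) = σ (k (σ x) q) := by rw [map_k, hσ]
    rw [e1, sigma_center h2 σ (k_mem hc _ _)]
    have e2 : σ x = (σ x * x⁻¹) * x := by group
    rw [e2, k_mul_left hc, k_of_mem_center (mem_Q0.1 hx), one_mul]
  rw [h1, mul_inv_cancel]

/-- (A4) `C_Q([Q, σ]) ≤ Q₀`. -/
theorem centralizer_W_le (hc : commutator Q ≤ Subgroup.center Q) (h2 : Nat.card (Subgroup.center Q) = 2)
    (σ : Q ≃* Q) (hσ : ∀ y, σ (σ y) = y) :
    Subgroup.centralizer (W σ : Set Q) ≤ Q0 σ := by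
  intro y hy
  rw [Subgroup.mem_centralizer_iff] at hy
  rw [mem_Q0, Subgroup.mem_center_iff]
  intro g
  symm
  rw [← k_eq_one_iff, k_mul_left hc, k_inv_left hc]
  have h1 : k (σ y) g = k y (σ g) := by
    have e1 : k (σ y) g = σ (k y (σ g)) := by rw [map_k, hσ]
    rw [e1, sigma_center h2 σ (k_mem hc _ _)]
  rw [h1, ← k_inv_right hc, ← k_mul_right hc, k_eq_one_iff]
  exact (hy _ (gen_mem_W σ g)).symm

/-- (A5) `Z(Q) ≤ [Q, σ]` when `σ ≠ 1`. -/
theorem center_le_W (hc : commutator Q ≤ Subgroup.center Q) (h2 : Nat.card (Subgroup.center Q) = 2)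
    (σ : Q ≃* Q) (hne : ∃ y, σ y ≠ y) : Subgroup.center Q ≤ W σ := by
  intro z hz
  by_cases hz1 : z = 1
  · rw [hz1]; exact Subgroup.one_mem _
  obtain ⟨y, hy⟩ := hne
  have hw1 : σ y * y⁻¹ ≠ 1 := fun h => hy (mul_inv_eq_one.1 h)
  have hwW := gen_mem_W σ y
  have huniq : ∀ c : Q, c ∈ Subgroup.center Q → c ≠ 1 → c = z := by
    intro c hcc hc1
    have := eq_of_ne_one_of_card_two (1 : Subgroup.center Q) h2 (a := ⟨c, hcc⟩) (b := ⟨z, hz⟩)
      (fun h => hc1 (congrArg Subtype.val h)) (fun h => hz1 (congrArg Subtype.val h))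
    exact congrArg Subtype.val this
  by_cases hwc : σ y * y⁻¹ ∈ Subgroup.center Q
  · rw [← huniq _ hwc hw1]; exact hwW
  · rw [Subgroup.mem_center_iff] at hwc
    push Not at hwc
    obtain ⟨t, ht⟩ := hwc
    have hk1 : k t (σ y * y⁻¹) ≠ 1 := by
      rw [Ne, k_eq_one_iff]; exact ht
    rw [← huniq _ (k_mem hc _ _) hk1]
    have e : k t (σ y * y⁻¹) = (σ t * t⁻¹)⁻¹ * (σ (t * y) * (t * y)⁻¹) * (σ y * y⁻¹)⁻¹ := by
      unfold k
      rw [map_mul]; group
    rw [e]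
    exact mul_mem (mul_mem (inv_mem (gen_mem_W σ t)) (gen_mem_W σ (t * y))) (inv_mem hwW)

theorem W_normal (hc : commutator Q ≤ Subgroup.center Q) (h2 : Nat.card (Subgroup.center Q) = 2)
    (σ : Q ≃* Q) (hne : ∃ y, σ y ≠ y) : (W σ).Normal := by
  refine ⟨fun w hw t => ?_⟩
  have e : t * w * t⁻¹ = k t w * w := by unfold k; group
  rw [e]
  exact mul_mem (center_le_W hc h2 σ hne (k_mem hc t w)) hw

/-- (A3) the double centralizer step. -/
theorem center_Q0_le_W [Finite Q] (hc : commutator Q = Subgroup.center Q)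
    (h2 : Nat.card (Subgroup.center Q) = 2)
    (σ : Q ≃* Q) (hσ : ∀ y, σ (σ y) = y) (hne : ∃ y, σ y ≠ y) :
    Q0 σ ⊓ Subgroup.centralizer (Q0 σ : Set Q) ≤ W σ := by
  intro x hx
  obtain ⟨hx0, hxc⟩ := Subgroup.mem_inf.1 hx
  by_contra hxW
  have hWn : (W σ).Normal := W_normal hc.le h2 σ hne
  let _ : CommGroup (Q ⧸ W σ) :=
    { (inferInstance : Group (Q ⧸ W σ)) with
      mul_comm := by
        intro a b
        induction a using QuotientGroup.induction_on with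
        | H a =>
        induction b using QuotientGroup.induction_on with
        | H b =>
        rw [← QuotientGroup.mk_mul, ← QuotientGroup.mk_mul, QuotientGroup.eq]
        have e : (a * b)⁻¹ * (b * a) = k b⁻¹ a⁻¹ := by unfold k; group
        rw [e]
        exact center_le_W hc.le h2 σ hne (k_mem hc.le _ _) }
  have hx1 : (QuotientGroup.mk' (W σ) x) ≠ 1 := by
    intro h
    exact hxW ((QuotientGroup.eq_one_iff x).1 h)
  obtain ⟨φ, hφ⟩ := CommGroup.exists_apply_ne_one_of_hasEnoughRootsOfUnity (Q ⧸ W σ) ℂ hx1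
  obtain ⟨ε, hεinj, hε⟩ := exists_commHom_eq hc h2
  obtain ⟨q₁, hq₁⟩ := hε (φ.comp (QuotientGroup.mk' (W σ)))
  have hq₁W : q₁ ∈ Subgroup.centralizer (W σ : Set Q) := by
    rw [Subgroup.mem_centralizer_iff]
    intro w hw
    have h3 := hq₁ w
    have h4 : (φ.comp (QuotientGroup.mk' (W σ))) w = 1 := by
      rw [MonoidHom.comp_apply]
      have : (QuotientGroup.mk' (W σ)) w = 1 := (QuotientGroup.eq_one_iff w).2 hw
      rw [this, map_one]
    rw [h4] at h3
    have h5 : commHom hc.le q₁ w = 1 := hεinj (by rw [← h3, map_one])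
    have h6 : k q₁ w = 1 := congrArg Subtype.val h5
    exact ((k_eq_one_iff _ _).1 h6).symm
  have hq₁0 : q₁ ∈ Q0 σ := centralizer_W_le hc.le h2 σ hσ hq₁W
  have hcomm : q₁ * x = x * q₁ := by
    rw [Subgroup.mem_centralizer_iff] at hxc
    exact hxc q₁ hq₁0
  have h7 : commHom hc.le q₁ x = 1 := by
    apply Subtype.ext
    show k q₁ x = 1
    rw [k_eq_one_iff]; exact hcomm
  have h8 := hq₁ x
  rw [h7, map_one, MonoidHom.comp_apply] at h8
  exact hφ h8

theorem abstract_main [Finite Q] (hc : commutator Q = Subgroup.center Q)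
    (h2 : Nat.card (Subgroup.center Q) = 2) (hsq : ∀ x : Q, x ^ 2 ∈ Subgroup.center Q)
    (σ : Q ≃* Q) (hσ : ∀ y, σ (σ y) = y) (hne : ∃ y, σ y ≠ y) :
    W σ = Q0 σ ⊓ Subgroup.centralizer (Q0 σ : Set Q) :=
  le_antisymm (le_inf (W_le_Q0 hsq σ hσ) (W_le_centralizer hc.le h2 σ hσ))
    (center_Q0_le_W hc h2 σ hσ hne)

end Abstract



section Transfer

variable {G : Type*} [Group G]

theorem map_center_subtype (H : Subgroup G) :
    (Subgroup.center ↥H).map H.subtype = H ⊓ Subgroup.centralizer (H : Set G) := by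
  ext g
  constructor
  · rintro ⟨x, hx, rfl⟩
    refine Subgroup.mem_inf.2 ⟨x.2, ?_⟩
    rw [Subgroup.mem_centralizer_iff]
    intro h hh
    have := Subgroup.mem_center_iff.1 hx ⟨h, hh⟩
    exact congrArg Subtype.val this
  · intro hg
    obtain ⟨hgH, hgc⟩ := Subgroup.mem_inf.1 hg
    rw [Subgroup.mem_centralizer_iff] at hgc
    refine ⟨⟨g, hgH⟩, ?_, rfl⟩
    rw [SetLike.mem_coe, Subgroup.mem_center_iff]
    intro y
    exact Subtype.ext (hgc y y.2)

theorem map_inf_centralizer {Q : Type*} [Group Q] (ι : Q →* G) (hι : Function.Injective ι)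
    (H : Subgroup Q) :
    (H ⊓ Subgroup.centralizer (H : Set Q)).map ι =
      H.map ι ⊓ Subgroup.centralizer ((H.map ι : Subgroup G) : Set G) := by
  ext g
  constructor
  · rintro ⟨x, hx, rfl⟩
    obtain ⟨hxH, hxc⟩ := Subgroup.mem_inf.1 hx
    rw [Subgroup.mem_centralizer_iff] at hxc
    refine Subgroup.mem_inf.2 ⟨⟨x, hxH, rfl⟩, ?_⟩
    rw [Subgroup.mem_centralizer_iff]
    rintro _ ⟨y, hy, rfl⟩
    rw [← map_mul, ← map_mul, hxc y hy]
  · intro hg
    obtain ⟨⟨x, hxH, rfl⟩, hgc⟩ := Subgroup.mem_inf.1 hg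
    rw [Subgroup.mem_centralizer_iff] at hgc
    refine ⟨x, Subgroup.mem_inf.2 ⟨hxH, ?_⟩, rfl⟩
    rw [Subgroup.mem_centralizer_iff]
    intro y hy
    apply hι
    rw [map_mul, map_mul]
    exact hgc (ι y) ⟨y, hy, rfl⟩

theorem mem_zpowers_of_sq {z c : G} (hz : z ^ 2 = 1) (hc : c ∈ Subgroup.zpowers z) : c = 1 ∨ c = z := by
  obtain ⟨n, rfl⟩ := Subgroup.mem_zpowers_iff.1 hc
  rcases Int.even_or_odd n with ⟨m, hm⟩ | ⟨m, hm⟩
  · left
    rw [hm, ← two_mul, zpow_mul, zpow_ofNat, hz, one_zpow]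
  · right
    rw [hm, zpow_add, zpow_mul, zpow_ofNat, hz, one_zpow, one_mul, zpow_one]

theorem main_general [Finite G] (z : G) (hz : orderOf z = 2) (C : Subgroup G)
    (hCz : ∀ c ∈ C, z * c = c * z) (hzC : z ∈ C)
    (Fs : Subgroup ↥C) [Fs.Normal] (hB : Subgroup.centralizer (Fs : Set ↥C) ≤ Fs)
    (hE : Cfsg.IsExtraspecial 2 ↥Fs)
    (α : G) (hα : orderOf α = 2) (hαC : α ∈ C) (hαQ : α ∉ Fs.map C.subtype)
    (Q₀ : Subgroup G)
    (hQ₀ : ∀ q : G, q ∈ Q₀ ↔ (q ∈ Fs.map C.subtype ∧ α * q * α⁻¹ * q⁻¹ ∈ Subgroup.zpowers z)) :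
    Subgroup.closure ((fun q : G => α * q * α⁻¹ * q⁻¹) '' (Fs.map C.subtype : Set G)) =
        (Subgroup.center ↥Q₀).map Q₀.subtype ∧
      (¬ Q₀ ≤ (Fs.map C.subtype ⊓ Subgroup.centralizer ({α} : Set G)) ⊔ Subgroup.zpowers z →
        ∃ q ∈ Fs.map C.subtype, q * α * q⁻¹ = α * z) := by
  have : Fact (Nat.Prime 2) := ⟨Nat.prime_two⟩
  have hz2 : z ^ 2 = 1 := by rw [← hz]; exact pow_orderOf_eq_one z
  have hz1 : z ≠ 1 := by
    intro h
    rw [h, orderOf_one] at hz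
    norm_num at hz
  have hα2 : α ^ 2 = 1 := by rw [← hα]; exact pow_orderOf_eq_one α
  obtain ⟨⟨hP, hfr, hcomm⟩, hcard⟩ := hE
  let ι : ↥Fs →* G := C.subtype.comp Fs.subtype
  have hι : Function.Injective ι :=
    (Subgroup.subtype_injective C).comp (Subgroup.subtype_injective Fs)
  have hrange : ∀ g, g ∈ Fs.map C.subtype ↔ ∃ q : ↥Fs, ι q = g := by
    intro g
    constructor
    · rintro ⟨c, hc, rfl⟩
      exact ⟨⟨c, hc⟩, rfl⟩
    · rintro ⟨q, rfl⟩
      exact ⟨q.1, q.2, rfl⟩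
  have hισ : ∀ q : ↥Fs, ι (MulAut.conjNormal (⟨α, hαC⟩ : ↥C) q) = α * ι q * α⁻¹ := by
    intro q
    show (((MulAut.conjNormal (⟨α, hαC⟩ : ↥C) q : ↥Fs) : ↥C) : G) = _
    rw [MulAut.conjNormal_apply]
    rfl
  have hαinv : α⁻¹ = α := by rw [inv_eq_iff_mul_eq_one, ← pow_two]; exact hα2
  have hσ : ∀ y : ↥Fs, MulAut.conjNormal (⟨α, hαC⟩ : ↥C) (MulAut.conjNormal (⟨α, hαC⟩ : ↥C) y) = y := by
    intro y
    apply hι
    rw [hισ, hισ, hαinv]
    calc α * (α * ι y * α) * α = (α * α) * ι y * (α * α) := by group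
      _ = ι y := by rw [← pow_two, hα2, one_mul, mul_one]
  have hne : ∃ y : ↥Fs, MulAut.conjNormal (⟨α, hαC⟩ : ↥C) y ≠ y := by
    by_contra hcon
    push Not at hcon
    apply hαQ
    have hmem : (⟨α, hαC⟩ : ↥C) ∈ Subgroup.centralizer (Fs : Set ↥C) := by
      rw [Subgroup.mem_centralizer_iff]
      intro c hc
      have h1 := congrArg (fun q : ↥Fs => (q : ↥C)) (hcon ⟨c, hc⟩)
      simp only [] at h1
      rw [MulAut.conjNormal_apply] at h1
      have h1' : (⟨α, hαC⟩ : ↥C) * c * (⟨α, hαC⟩ : ↥C)⁻¹ = c := h1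
      calc c * (⟨α, hαC⟩ : ↥C) = ((⟨α, hαC⟩ : ↥C) * c * (⟨α, hαC⟩ : ↥C)⁻¹) * (⟨α, hαC⟩ : ↥C) := by rw [h1']
        _ = (⟨α, hαC⟩ : ↥C) * c := by group
    exact ⟨⟨α, hαC⟩, hB hmem, rfl⟩
  have hsq : ∀ x : ↥Fs, x ^ 2 ∈ Subgroup.center ↥Fs := by
    intro x
    rw [← hfr]
    exact Cfsg.Agent.Helper63.pow_prime_mem_frattini hP x
  have hmain := abstract_main hcomm hcard hsq (MulAut.conjNormal (⟨α, hαC⟩ : ↥C)) hσ hne
  -- the central involution inside `Q`
  have hz'C : (⟨z, hzC⟩ : ↥C) ∈ Subgroup.centralizer (Fs : Set ↥C) := by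
    rw [Subgroup.mem_centralizer_iff]
    intro c _
    exact Subtype.ext (hCz c c.2).symm
  have hzFs : (⟨z, hzC⟩ : ↥C) ∈ Fs := hB hz'C
  have hιz : ι ⟨⟨z, hzC⟩, hzFs⟩ = z := rfl
  have hz''c : (⟨⟨z, hzC⟩, hzFs⟩ : ↥Fs) ∈ Subgroup.center ↥Fs := by
    rw [Subgroup.mem_center_iff]
    intro y
    apply hι
    rw [map_mul, map_mul, hιz]
    exact (hCz (ι y) y.1.2).symm
  have hz''1 : (⟨⟨z, hzC⟩, hzFs⟩ : ↥Fs) ≠ 1 := by
    intro h
    apply hz1
    rw [← hιz, h, map_one]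
  have hcenter : ∀ c : ↥Fs, c ∈ Subgroup.center ↥Fs ↔ ι c ∈ Subgroup.zpowers z := by
    intro c
    constructor
    · intro hc
      by_cases h1 : c = 1
      · rw [h1, map_one]; exact one_mem _
      · have hcz : c = ⟨⟨z, hzC⟩, hzFs⟩ := by
          have := eq_of_ne_one_of_card_two (1 : Subgroup.center ↥Fs) hcard (a := ⟨c, hc⟩)
            (b := ⟨⟨⟨z, hzC⟩, hzFs⟩, hz''c⟩)
            (fun h => h1 (congrArg Subtype.val h)) (fun h => hz''1 (congrArg Subtype.val h))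
          exact congrArg Subtype.val this
        rw [hcz, hιz]
        exact Subgroup.mem_zpowers z
    · intro hc
      rcases mem_zpowers_of_sq hz2 hc with h | h
      · have : c = 1 := hι (by rw [h, map_one])
        rw [this]; exact one_mem _
      · have : c = ⟨⟨z, hzC⟩, hzFs⟩ := hι (by rw [h, hιz])
        rw [this]; exact hz''c
  have hT1 : Subgroup.closure ((fun q : G => α * q * α⁻¹ * q⁻¹) '' (Fs.map C.subtype : Set G)) =
      (W (MulAut.conjNormal (⟨α, hαC⟩ : ↥C) : ↥Fs ≃* ↥Fs)).map ι := by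
    unfold W
    rw [MonoidHom.map_closure]
    congr 1
    ext g
    constructor
    · rintro ⟨q', hq', rfl⟩
      obtain ⟨q, rfl⟩ := (hrange q').1 hq'
      refine ⟨MulAut.conjNormal (⟨α, hαC⟩ : ↥C) q * q⁻¹, ⟨q, rfl⟩, ?_⟩
      rw [map_mul, map_inv, hισ]
    · rintro ⟨_, ⟨q, rfl⟩, rfl⟩
      refine ⟨ι q, (hrange _).2 ⟨q, rfl⟩, ?_⟩
      rw [map_mul, map_inv, hισ]
  have hT2 : Q₀ = (Q0 (MulAut.conjNormal (⟨α, hαC⟩ : ↥C) : ↥Fs ≃* ↥Fs)).map ι := by
    ext g
    rw [hQ₀]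
    constructor
    · rintro ⟨hg, hgz⟩
      obtain ⟨q, rfl⟩ := (hrange g).1 hg
      refine ⟨q, ?_, rfl⟩
      rw [SetLike.mem_coe, mem_Q0, hcenter, map_mul, map_inv, hισ]
      exact hgz
    · rintro ⟨q, hq, rfl⟩
      refine ⟨(hrange _).2 ⟨q, rfl⟩, ?_⟩
      rw [SetLike.mem_coe, mem_Q0, hcenter, map_mul, map_inv, hισ] at hq
      exact hq
  refine ⟨?_, ?_⟩
  · rw [hT1, hmain, map_inf_centralizer ι hι, ← hT2, map_center_subtype]
  · intro hnot
    obtain ⟨x, hxQ₀, hxn⟩ := SetLike.not_le_iff_exists.1 hnot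
    obtain ⟨hxQ, hxz⟩ := (hQ₀ x).1 hxQ₀
    refine ⟨x, hxQ, ?_⟩
    rcases mem_zpowers_of_sq hz2 hxz with h | h
    · exfalso
      apply hxn
      apply (le_sup_left : _ ≤ _ ⊔ Subgroup.zpowers z)
      refine Subgroup.mem_inf.2 ⟨hxQ, ?_⟩
      rw [Subgroup.mem_centralizer_iff]
      intro y hy
      rw [Set.mem_singleton_iff] at hy
      subst hy
      calc y * x = (y * x * y⁻¹ * x⁻¹) * (x * y) := by group
        _ = x * y := by rw [h, one_mul]
    · have hzα : z * α = α * z := hCz α hαC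
      have hzinv : z⁻¹ = z := by rw [inv_eq_iff_mul_eq_one, ← pow_two]; exact hz2
      have h1 : x * α⁻¹ * x⁻¹ = α⁻¹ * z := by rw [← h]; group
      have h2 : x * α * x⁻¹ = (x * α⁻¹ * x⁻¹)⁻¹ := by group
      rw [h2, h1, mul_inv_rev, inv_inv, hzinv, hzα]

end Transfer

/-- Let G be a finite group and let z be an involution of G such that Q, the generalized Fitting subgroup of the centralizer C of z, is a 2-group of symplectic type (every characteristic abelian subgroup of Q is cyclic); suppose Q is extraspecial, and view Q inside G. Let α be an involution of C that is not in Q, and let Q₀ be the subgroup of those q ∈ Q whose commutator with α lies in the subgroup generated by z. Then (a) the subgroup generated by the commutators α q α⁻¹ q⁻¹, q ∈ Q, equals the centre of Q₀; and (b) if Q₀ is not contained in the product of the centralizer of α in Q with the subgroup generated by z, then some element of Q conjugates α to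 α z. -/
theorem result {G : Type*} [Group G] [Finite G] (z : G) (hz : orderOf z = 2) (hQ : Cfsg.IsOfSymplecticType ↥(Cfsg.generalizedFittingSubgroup ↥(Subgroup.centralizer ({z} : Set G)))) (hE : Cfsg.IsExtraspecial 2 ↥(Cfsg.generalizedFittingSubgroup ↥(Subgroup.centralizer ({z} : Set G))))
    (α : G) (hα : orderOf α = 2) (hαC : α ∈ Subgroup.centralizer ({z} : Set G)) (hαQ : α ∉ (Cfsg.generalizedFittingSubgroup ↥(Subgroup.centralizer ({z} : Set G))).map (Subgroup.centralizer ({z} : Set G)).subtype)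
    (Q₀ : Subgroup G) (hQ₀ : ∀ q : G, q ∈ Q₀ ↔ (q ∈ (Cfsg.generalizedFittingSubgroup ↥(Subgroup.centralizer ({z} : Set G))).map (Subgroup.centralizer ({z} : Set G)).subtype ∧ α * q * α⁻¹ * q⁻¹ ∈ Subgroup.zpowers z)) :
    Subgroup.closure ((fun q : G => α * q * α⁻¹ * q⁻¹) '' ((Cfsg.generalizedFittingSubgroup ↥(Subgroup.centralizer ({z} : Set G))).map (Subgroup.centralizer ({z} : Set G)).subtype : Set G)) = (Subgroup.center ↥Q₀).map Q₀.subtype ∧
      (¬ Q₀ ≤ ((Cfsg.generalizedFittingSubgroup ↥(Subgroup.centralizer ({z} : Set G))).map (Subgroup.centralizer ({z} : Set G)).subtype ⊓ Subgroup.centralizer ({α} : Set G)) ⊔ Subgroup.zpowers z →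
        ∃ q ∈ (Cfsg.generalizedFittingSubgroup ↥(Subgroup.centralizer ({z} : Set G))).map (Subgroup.centralizer ({z} : Set G)).subtype, q * α * q⁻¹ = α * z) := by
  have hB := Cfsg.Agent.Helper22.centralizer_generalizedFittingSubgroup_le
    (G := ↥(Subgroup.centralizer ({z} : Set G)))
  exact main_general z hz (Subgroup.centralizer ({z} : Set G))
    (fun c hc => (Subgroup.mem_centralizer_iff.1 hc) z rfl)
    (by rw [Subgroup.mem_centralizer_iff]; intro h hh; rw [Set.mem_singleton_iff] at hh; rw [hh])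
    (Cfsg.generalizedFittingSubgroup ↥(Subgroup.centralizer ({z} : Set G))) hB hE α hα hαC hαQ Q₀ hQ₀

end Cfsg.Agent.S1784
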