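-- Statement S1850: normalizers of 2-subgroups meeting Z(T) lie in H^e (even characteristic).
import Cfsg.Statements.S1850
import Cfsg.Agent.Helper31.CharPChain
import Cfsg.Agent.Helper49.FStar

set_option autoImplicit false
open Cfsg
open Cfsg.Agent.Helper31 Cfsg.Agent.Helper49

namespace Cfsg.Agent.S1850

/-- Let G be a non-abelian finite simple QTKE-group and T a Sylow 2-subgroup of G. If U is a nontrivial 2-subgroup of G with U ∩ Z(T) ≠ 1, then F*(N_G(U)) = O₂(N_G(U)). -/
theorem result {G : Type*} [Group G] [Finite G] [IsSimpleGroup G]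
    (hG : ¬ IsMulCommutative G) (hQ : Cfsg.IsQTKE G) (T : Sylow 2 G) (U : Subgroup G)
    (hU : IsPGroup 2 ↥U) (hZ : U ⊓ ((T : Subgroup G) ⊓ Subgroup.centralizer ((T : Subgroup G) : Set G)) ≠ ⊥) :
    Subgroup.normalizer (U : Set G) ∈ Cfsg.calHe G := by
  haveI : Fact (Nat.Prime 2) := ⟨Nat.prime_two⟩
  obtain ⟨z, hz1⟩ := (Subgroup.ne_bot_iff_exists_ne_one).mp hZ
  have hzU : (z : G) ∈ U := z.2.1
  have hzT : (z : G) ∈ (T : Subgroup G) := z.2.2.1
  have hzC : (z : G) ∈ Subgroup.centralizer ((T : Subgroup G) : Set G) := z.2.2.2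
  have hz1' : (z : G) ≠ 1 := fun h => hz1 (Subtype.ext h)
  -- the 2-local `N_G(⟨z⟩)` contains `T`, hence has characteristic 2
  set M : Subgroup G := Subgroup.normalizer ((Subgroup.zpowers (z : G) : Subgroup G) : Set G) with hM
  have hzp : IsPGroup 2 ↥(Subgroup.zpowers (z : G)) :=
    T.isPGroup'.to_le (by rw [Subgroup.zpowers_le]; exact hzT)
  have hzne : Subgroup.zpowers (z : G) ≠ ⊥ := by
    intro h
    apply hz1'
    have : (z : G) ∈ Subgroup.zpowers (z : G) := Subgroup.mem_zpowers _
    rw [h, Subgroup.mem_bot] at this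
    exact this
  have hlocal : Cfsg.IsTwoLocal M := ⟨Subgroup.zpowers (z : G), hzp, hzne, rfl⟩
  have hCM : Subgroup.centralizer ({(z : G)} : Set G) ≤ M := by
    rw [← centralizer_zpowers_eq]
    exact Subgroup.centralizer_le_normalizer _
  have hTC : (T : Subgroup G) ≤ Subgroup.centralizer ({(z : G)} : Set G) := by
    intro t ht
    rw [Subgroup.mem_centralizer_singleton_iff]
    rw [Subgroup.mem_centralizer_iff] at hzC
    exact hzC t ht
  have hMchar : CharPIn 2 M := by
    rw [charPIn_iff]
    exact hQ.2.2 M hlocal ⟨T, hTC.trans hCM⟩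
  -- `C_G(z)` is normal in `M`
  have hMnorm : M ≤ Subgroup.normalizer ((Subgroup.centralizer ({(z : G)} : Set G) : Subgroup G) : Set G) := by
    intro b hb
    rw [← centralizer_zpowers_eq]
    apply mem_normalizer_of_conj_mem'
    · intro r hr
      exact conj_mem_centralizer_of_mem_normalizer hb hr
    · intro r hr
      have := conj_mem_centralizer_of_mem_normalizer (Subgroup.inv_mem _ hb) hr
      simpa using this
  have hCchar : CharPIn 2 (Subgroup.centralizer ({(z : G)} : Set G)) :=
    charPIn_of_normalized hMchar hCM ((coreIn_le M).trans hMnorm)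
  have hCU : CharPIn 2 (Subgroup.centralizer (U : Set G)) := charPIn_centralizer_of_mem hCchar U hU hzU
  have hNU : CharPIn 2 (Subgroup.normalizer (U : Set G)) := charPIn_normalizer_of_centralizer hU hCU
  rw [charPIn_iff] at hNU
  exact gfs_eq_pCore_iff.mpr hNU

end Cfsg.Agent.S1850
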