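import Cfsg.Statements.S1892
import Cfsg.Agent.Lib.Cores
import Cfsg.Agent.Helper11.PSolvable
import Cfsg.Agent.Helper24.Coprime

set_option autoImplicit false
open Cfsg
open scoped commutatorElement

namespace Cfsg.Agent.S1892

/-- conjugation by an element normalizing both factors normalizes the commutator -/
lemma mem_normalizer_commutator {G : Type*} [Group G] (H₁ H₂ : Subgroup G) (g : G)
    (h1 : g ∈ Subgroup.normalizer (H₁ : Set G)) (h2 : g ∈ Subgroup.normalizer (H₂ : Set G)) :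
    g ∈ Subgroup.normalizer ((⁅H₁, H₂⁆ : Subgroup G) : Set G) := by
  have key : ∀ g : G, g ∈ Subgroup.normalizer (H₁ : Set G) → g ∈ Subgroup.normalizer (H₂ : Set G) →
      ∀ z ∈ ⁅H₁, H₂⁆, g * z * g⁻¹ ∈ ⁅H₁, H₂⁆ := by
    intro g h1 h2 z hz
    have hle : ⁅H₁, H₂⁆ ≤ (⁅H₁, H₂⁆ : Subgroup G).comap (MulAut.conj g).toMonoidHom := by
      rw [Subgroup.commutator_le]
      intro x hx y hy
      show g * ⁅x, y⁆ * g⁻¹ ∈ ⁅H₁, H₂⁆
      have e : g * ⁅x, y⁆ * g⁻¹ = ⁅g * x * g⁻¹, g * y * g⁻¹⁆ := by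
        simp only [commutatorElement_def]; group
      rw [e]
      exact Subgroup.commutator_mem_commutator
        ((Subgroup.mem_normalizer_iff.mp h1 x).mp hx) ((Subgroup.mem_normalizer_iff.mp h2 y).mp hy)
    exact hle hz
  rw [Subgroup.mem_normalizer_iff]
  intro z
  constructor
  · exact key g h1 h2 z
  · intro hz
    have := key g⁻¹ (Subgroup.inv_mem _ h1) (Subgroup.inv_mem _ h2) _ hz
    have e : g⁻¹ * (g * z * g⁻¹) * g⁻¹⁻¹ = z := by group
    rwa [e] at this

/-- Let S be a finite p-solvable group with no nontrivial normal subgroup of order prime to p, A a p-subgroup of S, and Q a nontrivial A-invariant subgroup of order prime to p with [A, Q] = Q. Then the commutator [O_p(S), A, Q] is nontrivial. -/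
theorem result {S : Type*} [Group S] [Finite S] {p : ℕ} [Fact p.Prime]
    (hS : Cfsg.IsPSolvable p S) (hred : Cfsg.pPrimeCore p S = ⊥)
    (A Q : Subgroup S) (hA : IsPGroup p A) (hQ : ¬ p ∣ Nat.card Q) (hQ1 : Q ≠ ⊥)
    (hinv : ∀ a ∈ A, ∀ x ∈ Q, a * x * a⁻¹ ∈ Q) (hAQ : ⁅A, Q⁆ = Q) :
    ⁅⁅Cfsg.pCore p S, A⁆, Q⁆ ≠ ⊥ := by
  intro h
  set P := Cfsg.pCore p S with hP
  set P₁ : Subgroup S := ⁅P, A⁆ with hP₁
  have hPn : P.Normal := inferInstance
  have hPp : IsPGroup p P := Lib.isPGroup_pCore p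
  have hP₁P : P₁ ≤ P := Subgroup.commutator_le_left P A
  -- Q centralizes P₁
  have hcent : ∀ z ∈ P₁, ∀ q ∈ Q, q * z = z * q := by
    intro z hz q hq
    have := Subgroup.commutator_eq_bot_iff_le_centralizer.mp h hz
    exact (Subgroup.mem_centralizer_iff.mp this) q hq
  -- A normalizes P₁
  have hAnorm : ∀ a ∈ A, a ∈ Subgroup.normalizer ((P₁ : Subgroup S) : Set S) := by
    intro a ha
    apply mem_normalizer_commutator
    · rw [Subgroup.normalizer_eq_top_iff.mpr hPn]; exact Subgroup.mem_top a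
    · exact Subgroup.le_normalizer ha
  have hQnorm : ∀ q ∈ Q, q ∈ Subgroup.normalizer ((P₁ : Subgroup S) : Set S) := by
    intro q hq
    apply Subgroup.centralizer_le_normalizer
    rw [Subgroup.mem_centralizer_iff]
    intro z hz
    exact (hcent z hz q hq).symm
  -- the kernel of the action on P / P₁
  let K : Subgroup S :=
    { carrier := {g | g ∈ Subgroup.normalizer ((P₁ : Subgroup S) : Set S) ∧
        ∀ x ∈ P, g * x * g⁻¹ * x⁻¹ ∈ P₁}
      one_mem' := by
        refine ⟨Subgroup.one_mem _, ?_⟩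
        intro x _
        simp
      mul_mem' := by
        rintro g k ⟨hg1, hg2⟩ ⟨hk1, hk2⟩
        refine ⟨Subgroup.mul_mem _ hg1 hk1, ?_⟩
        intro x hx
        have e : g * k * x * (g * k)⁻¹ * x⁻¹ = (g * (k * x * k⁻¹ * x⁻¹) * g⁻¹) * (g * x * g⁻¹ * x⁻¹) := by
          group
        rw [e]
        exact P₁.mul_mem ((Subgroup.mem_normalizer_iff.mp hg1 _).mp (hk2 x hx)) (hg2 x hx)
      inv_mem' := by
        rintro g ⟨hg1, hg2⟩
        refine ⟨Subgroup.inv_mem _ hg1, ?_⟩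
        intro x hx
        have e : g⁻¹ * x * g⁻¹⁻¹ * x⁻¹ = g⁻¹ * (g * x * g⁻¹ * x⁻¹)⁻¹ * g⁻¹⁻¹ := by group
        rw [e]
        exact (Subgroup.mem_normalizer_iff.mp (Subgroup.inv_mem _ hg1) _).mp (P₁.inv_mem (hg2 x hx)) }
  have hAK : A ≤ K := by
    intro a ha
    refine ⟨hAnorm a ha, ?_⟩
    intro x hx
    have : a * x * a⁻¹ * x⁻¹ = ⁅a, x⁆ := rfl
    rw [this, hP₁, Subgroup.commutator_comm]
    exact Subgroup.commutator_mem_commutator ha hx
  have hconjK : ∀ q ∈ Q, ∀ a ∈ A, q * a * q⁻¹ ∈ K := by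
    intro q hq a ha
    refine ⟨?_, ?_⟩
    · exact Subgroup.mul_mem _ (Subgroup.mul_mem _ (hQnorm q hq) (hAnorm a ha))
        (Subgroup.inv_mem _ (hQnorm q hq))
    · intro x hx
      set y := q⁻¹ * x * q with hy
      have hyP : y ∈ P := by
        have := hPn.conj_mem x hx q⁻¹
        rwa [inv_inv] at this
      have hc : a * y * a⁻¹ * y⁻¹ ∈ P₁ := (hAK ha).2 y hyP
      have e : q * a * q⁻¹ * x * (q * a * q⁻¹)⁻¹ * x⁻¹ = q * (a * y * a⁻¹ * y⁻¹) * q⁻¹ := by
        rw [hy]; group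
      rw [e]
      have := hcent _ hc q hq
      rw [this]
      have e2 : a * y * a⁻¹ * y⁻¹ * q * q⁻¹ = a * y * a⁻¹ * y⁻¹ := by group
      rw [e2]
      exact hc
  have hQK : Q ≤ K := by
    rw [← hAQ, Subgroup.commutator_le]
    intro a ha q hq
    have e : ⁅a, q⁆ = a * (q * a⁻¹ * q⁻¹) := by
      rw [commutatorElement_def]; group
    rw [e]
    exact K.mul_mem (hAK ha) (hconjK q hq a⁻¹ (A.inv_mem ha))
  -- Q centralizes P
  have hQP : Q ≤ Subgroup.centralizer ((P : Subgroup S) : Set S) := by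
    intro q hq
    rw [Subgroup.mem_centralizer_iff]
    intro x hx
    have hz : q * x * q⁻¹ * x⁻¹ ∈ P₁ := (hQK hq).2 x hx
    have hcop : (orderOf q).Coprime (orderOf (q * x * q⁻¹ * x⁻¹)) := by
      have h1 : orderOf q ∣ Nat.card Q := Helper24.orderOf_dvd_card_of_mem hq
      have h2 : (Nat.card Q).Coprime p := ((Nat.Prime.coprime_iff_not_dvd Fact.out).mpr hQ).symm
      have h3 : (orderOf q).Coprime p := Nat.Coprime.coprime_dvd_left h1 h2
      exact Helper24.coprime_orderOf_of_mem hPp (hP₁P hz) h3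
    have := Helper24.commute_of_conj_eq_mul q x (q * x * q⁻¹ * x⁻¹) (by group)
      (hcent _ hz q hq) hcop
    exact this.symm
  have hQleP : Q ≤ P := hQP.trans (Helper11.centralizer_pCore_le_of_isPSolvable hS hred)
  -- so Q is a p-group of order prime to p
  have hQp : IsPGroup p Q := hPp.to_le hQleP
  obtain ⟨k, hk⟩ := IsPGroup.iff_card.mp hQp
  apply hQ1
  apply Subgroup.eq_bot_of_card_eq
  rw [hk]
  cases k with
  | zero => rfl
  | succ k =>
    exfalso
    apply hQ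
    rw [hk]
    exact dvd_pow_self p (Nat.succ_ne_zero k)

end Cfsg.Agent.S1892
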