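import Cfsg.Statements.S1893
import Cfsg.Agent.Helper32.SCNCore
import Cfsg.Agent.Helper62.Radical

set_option autoImplicit false
open Cfsg

namespace Cfsg.Agent.S1893

/-- A maximal normal subgroup whose order has no prime divisor in `π`. -/
theorem exists_max_normal_piPrime {S : Type*} [Group S] [Finite S] (π : Set ℕ) :
    ∃ K : Subgroup S, K.Normal ∧ (∀ q : ℕ, q.Prime → q ∣ Nat.card K → q ∉ π) ∧
      ∀ N : Subgroup S, N.Normal → (∀ q : ℕ, q.Prime → q ∣ Nat.card N → q ∉ π) → K ≤ N → N = K := by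
  obtain ⟨K, hK⟩ := exists_maximal_of_wellFoundedGT
    (fun N : Subgroup S => N.Normal ∧ ∀ q : ℕ, q.Prime → q ∣ Nat.card N → q ∉ π)
    ⟨⊥, inferInstance, fun q hq hdvd => by
      rw [Subgroup.card_bot] at hdvd
      exact absurd (Nat.dvd_one.mp hdvd) hq.one_lt.ne'⟩
  refine ⟨K, hK.prop.1, hK.prop.2, fun N hNn hNπ hKN => ?_⟩
  exact le_antisymm (hK.le_of_ge ⟨hNn, hNπ⟩ hKN) hKN

/-- A normal `π`-subgroup lies in every Hall `π`-subgroup. -/
theorem normal_le_hall {T : Type*} [Group T] [Finite T] (π : Set ℕ) (Hh N : Subgroup T)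
    (hHh : Cfsg.IsPiHall π Hh) [hN : N.Normal] (hNπ : ∀ q : ℕ, q.Prime → q ∣ Nat.card N → q ∈ π) :
    N ≤ Hh := by
  have hnorm : Hh ≤ Subgroup.normalizer (N : Set T) := by
    rw [Subgroup.normalizer_eq_top]; exact le_top
  have h1 := Cfsg.Agent.Helper62.card_sup_dvd_of_le_normalizer hnorm
  have h2 : Hh.relIndex (Hh ⊔ N) ∣ Nat.card (Hh ⊔ N : Subgroup T) := Subgroup.relIndex_dvd_card _ _
  have h3 : Hh.relIndex (Hh ⊔ N) ∣ Hh.index :=
    Dvd.intro _ (Subgroup.relIndex_mul_index (le_sup_left : Hh ≤ Hh ⊔ N))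
  have h4 : Hh.relIndex (Hh ⊔ N) = 1 := by
    by_contra hne
    obtain ⟨q, hq, hqd⟩ := Nat.exists_prime_and_dvd hne
    have hqπ : q ∈ π := by
      rcases (Nat.Prime.dvd_mul hq).mp ((hqd.trans h2).trans h1) with h | h
      · exact hHh.1 q hq h
      · exact hNπ q hq h
    exact hHh.2 q hq hqπ (hqd.trans h3)
  exact le_trans le_sup_right (Subgroup.relIndex_eq_one.mp h4)

/-- Let S be a finite solvable group, π a set of primes containing neither 2 nor 3, H a Hall π-subgroup of S, and A a self-centralizing normal subgroup of the Fitting subgroup F(H). Then C_S(A) = A × D for a normal subgroup D of C_S(A) whose order has no prime divisor in π. -/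
theorem result {S : Type*} [Group S] [Finite S] [Group.IsSolvable S]
    (π : Set ℕ) (h2 : 2 ∉ π) (h3 : 3 ∉ π) (H : Subgroup S) (hH : Cfsg.IsPiHall π H)
    (A : Subgroup S) (hA : Cfsg.IsSCN ((Cfsg.fittingSubgroup H).map H.subtype) A) :
    ∃ D : Subgroup S, D ≤ Subgroup.centralizer (A : Set S) ∧
      (∀ c ∈ Subgroup.centralizer (A : Set S), ∀ d ∈ D, c * d * c⁻¹ ∈ D) ∧
      A ⊓ D = ⊥ ∧ A ⊔ D = Subgroup.centralizer (A : Set S) ∧
      ∀ q : ℕ, q.Prime → q ∣ Nat.card D → q ∉ π := by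
  classical
  obtain ⟨hAF, hFA, hCA⟩ := hA
  set F : Subgroup S := (Cfsg.fittingSubgroup H).map H.subtype with hF
  have hFH : F ≤ H := Subgroup.map_subtype_le _
  have hAH : A ≤ H := hAF.trans hFH
  have hAC : A ≤ Subgroup.centralizer (A : Set S) := fun a ha => (hCA.ge ha).2
  obtain ⟨K, hKn, hKπ, hKmax⟩ := exists_max_normal_piPrime (S := S) π
  haveI := hKn
  -- `H ∩ K = 1`
  have hHK : H ⊓ K = ⊥ := by
    apply Subgroup.inf_eq_bot_of_coprime
    by_contra hnc
    obtain ⟨q, hq, hq1, hq2⟩ := Nat.Prime.not_coprime_iff_dvd.mp hnc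
    exact hKπ q hq hq2 (hH.1 q hq hq1)
  have hHK' : ∀ x : S, x ∈ H → x ∈ K → x = 1 := fun x hx hxK => by
    have : x ∈ H ⊓ K := ⟨hx, hxK⟩
    rwa [hHK, Subgroup.mem_bot] at this
  -- the quotient
  set φ : S →* S ⧸ K := QuotientGroup.mk' K with hφ
  have hφs : Function.Surjective φ := QuotientGroup.mk'_surjective K
  have hker : ∀ x : S, φ x = 1 ↔ x ∈ K := fun x => by
    rw [hφ, QuotientGroup.mk'_apply, QuotientGroup.eq_one_iff]
  -- normal `π'`-subgroups of the quotient are trivial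
  have hF1 : ∀ N : Subgroup (S ⧸ K), N.Normal →
      (∀ q : ℕ, q.Prime → q ∣ Nat.card N → q ∉ π) → N = ⊥ := by
    intro N hNn hNπ
    have hcn : (N.comap φ).Normal := hNn.comap φ
    have hKle : K ≤ N.comap φ := by
      intro x hx
      rw [Subgroup.mem_comap, (hker x).mpr hx]; exact N.one_mem
    have hcπ : ∀ q : ℕ, q.Prime → q ∣ Nat.card (N.comap φ) → q ∉ π := by
      intro q hq hdvd
      haveI : Fact q.Prime := ⟨hq⟩
      obtain ⟨x, hx⟩ := exists_prime_orderOf_dvd_card' (G := N.comap φ) q hdvd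
      have hxo : orderOf (x : S) = q := by rw [← hx, Subgroup.orderOf_coe]
      by_cases hxK : (x : S) ∈ K
      · apply hKπ q hq
        rw [← hxo]
        have := orderOf_dvd_natCard (⟨(x : S), hxK⟩ : K)
        rwa [Subgroup.orderOf_mk] at this
      · apply hNπ q hq
        have hne : φ (x : S) ≠ 1 := fun h => hxK ((hker _).mp h)
        have hdv : orderOf (φ (x : S)) ∣ q := by
          rw [← hxo]; exact orderOf_map_dvd φ (x : S)
        have hoq : orderOf (φ (x : S)) = q := by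
          rcases (Nat.dvd_prime hq).mp hdv with h | h
          · exact absurd (orderOf_eq_one_iff.mp h) hne
          · exact h
        rw [← hoq]
        have h1 := orderOf_dvd_natCard (⟨φ (x : S), x.2⟩ : N)
        have h2 : orderOf (⟨φ (x : S), x.2⟩ : N) = orderOf (φ (x : S)) := Subgroup.orderOf_mk _ _
        rwa [h2] at h1
    have heq : N.comap φ = K := hKmax _ hcn hcπ hKle
    rw [eq_bot_iff]
    intro t ht
    obtain ⟨s, rfl⟩ := hφs t
    have : s ∈ N.comap φ := ht
    rw [heq] at this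
    rw [Subgroup.mem_bot]; exact (hker s).mpr this
  -- `O_p(S/K) ≠ 1` forces `p ∈ π`
  have hF2 : ∀ p : ℕ, p.Prime → Cfsg.pCore p (S ⧸ K) ≠ ⊥ → p ∈ π := by
    intro p hp hne
    haveI : Fact p.Prime := ⟨hp⟩
    by_contra hpπ
    apply hne
    apply hF1 _ inferInstance
    intro q hq hdvd
    obtain ⟨n, hn⟩ := (Cfsg.Agent.Lib.isPGroup_pCore (G := S ⧸ K) p).exists_card_eq
    rw [hn] at hdvd
    have : q = p := (Nat.prime_dvd_prime_iff_eq hq hp).mp (hq.dvd_of_dvd_pow hdvd)
    rw [this]; exact hpπ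
  have h5 : ∀ p : ℕ, p.Prime → Cfsg.pCore p (S ⧸ K) ≠ ⊥ → 5 ≤ p := by
    intro p hp hne
    have hpπ := hF2 p hp hne
    by_contra hlt
    have hlt' : p < 5 := not_le.mp hlt
    interval_cases p
    · exact absurd hp (by norm_num)
    · exact absurd hp (by norm_num)
    · exact h2 hpπ
    · exact h3 hpπ
    · exact absurd hp (by norm_num)
  -- the Hall subgroup of the quotient
  have hHT : Cfsg.IsPiHall π (H.map φ) := by
    refine ⟨fun q hq hdvd => hH.1 q hq (hdvd.trans (Subgroup.card_map_dvd _ φ)), ?_⟩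
    intro q hq hqπ hdvd
    exact hH.2 q hq hqπ (hdvd.trans (Subgroup.index_map_dvd H hφs))
  -- `F(S/K) ≤ H K / K`
  have hFTπ : ∀ q : ℕ, q.Prime → q ∣ Nat.card (Cfsg.fittingSubgroup (S ⧸ K)) → q ∈ π := by
    intro q hq hdvd
    haveI : Fact q.Prime := ⟨hq⟩
    obtain ⟨x, hx⟩ := exists_prime_orderOf_dvd_card' (G := Cfsg.fittingSubgroup (S ⧸ K)) q hdvd
    have hxo : orderOf (x : S ⧸ K) = q := by rw [← hx, Subgroup.orderOf_coe]
    apply hF2 q hq
    intro hbot
    have hmem : (x : S ⧸ K) ∈ Cfsg.pCore q (S ⧸ K) :=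
      Cfsg.Agent.Helper63.mem_pCore_of_mem_fittingSubgroup (k := 1) x.2
        (by rw [pow_one, ← hxo]; exact pow_orderOf_eq_one _)
    rw [hbot, Subgroup.mem_bot] at hmem
    rw [hmem, orderOf_one] at hxo
    exact hq.one_lt.ne' hxo.symm
  haveI hFTn : (Cfsg.fittingSubgroup (S ⧸ K)).Normal := Cfsg.Agent.Lib.fittingSubgroup_normal
  have hFTH : Cfsg.fittingSubgroup (S ⧸ K) ≤ H.map φ :=
    normal_le_hall π (H.map φ) (Cfsg.fittingSubgroup (S ⧸ K)) hHT hFTπ
  -- the images of `F` and `A`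
  set FT : Subgroup (S ⧸ K) := F.map φ with hFT
  set AT : Subgroup (S ⧸ K) := A.map φ with hAT
  have hFTnil : Group.IsNilpotent FT := by
    haveI : Group.IsNilpotent (Cfsg.fittingSubgroup H) := Cfsg.Agent.Lib.isNilpotent_fittingSubgroup
    have hFTeq : FT = (Cfsg.fittingSubgroup H).map (φ.comp H.subtype) := by
      rw [hFT, hF, Subgroup.map_map]
    rw [hFTeq]
    exact Group.nilpotent_of_surjective
      ((φ.comp H.subtype).subgroupMap (Cfsg.fittingSubgroup H))
      ((φ.comp H.subtype).subgroupMap_surjective _)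
  have hFFT : Cfsg.fittingSubgroup (S ⧸ K) ≤ FT := by
    -- the preimage in `H` of `F(S/K)` is a normal nilpotent subgroup of `H`
    set ψ : H →* S ⧸ K := φ.comp H.subtype with hψ
    have hψinj : Function.Injective ψ := by
      rw [injective_iff_map_eq_one]
      intro x hx
      have : (x : S) ∈ K := (hker _).mp hx
      exact Subtype.ext (hHK' _ x.2 this)
    set X : Subgroup H := (Cfsg.fittingSubgroup (S ⧸ K)).comap ψ with hX
    have hXn : X.Normal := hFTn.comap ψ
    have hXnil : Group.IsNilpotent X := by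
      let θ : X →* Cfsg.fittingSubgroup (S ⧸ K) :=
        (ψ.comp X.subtype).codRestrict (Cfsg.fittingSubgroup (S ⧸ K)) (fun x => x.2)
      have hθinj : Function.Injective θ := by
        intro x y hxy
        have h1 : ψ (x : H) = ψ (y : H) := congrArg Subtype.val hxy
        exact Subtype.ext (hψinj h1)
      haveI : Group.IsNilpotent (Cfsg.fittingSubgroup (S ⧸ K)) :=
        Cfsg.Agent.Lib.isNilpotent_fittingSubgroup
      exact Group.nilpotent_of_mulEquiv (MonoidHom.ofInjective hθinj).symm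
    have hXF : X ≤ Cfsg.fittingSubgroup H := Cfsg.Agent.Lib.le_fittingSubgroup hXn hXnil
    intro t ht
    obtain ⟨h, hh, rfl⟩ := hFTH ht
    have hhX : (⟨h, hh⟩ : H) ∈ X := ht
    exact ⟨h, ⟨⟨h, hh⟩, hXF hhX, rfl⟩, rfl⟩
  have hFTA : FT ≤ Subgroup.normalizer (AT : Set (S ⧸ K)) :=
    (Subgroup.map_mono hFA).trans (Subgroup.le_normalizer_map φ)
  have hCAT : FT ⊓ Subgroup.centralizer (AT : Set (S ⧸ K)) = AT := by
    apply le_antisymm
    · rintro t ⟨htF, htC⟩
      obtain ⟨f, hf, rfl⟩ := htF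
      have hfC : f ∈ Subgroup.centralizer (A : Set S) := by
        rw [Subgroup.mem_centralizer_iff]
        intro a ha
        have h1 := (Subgroup.mem_centralizer_iff.mp htC) (φ a) ⟨a, ha, rfl⟩
        have h2 : φ (a * f * a⁻¹ * f⁻¹) = 1 := by
          rw [map_mul, map_mul, map_inv, map_mul, map_inv, h1]; group
        have h3 : a * f * a⁻¹ * f⁻¹ ∈ H :=
          H.mul_mem (H.mul_mem (H.mul_mem (hAH ha) (hFH hf)) (H.inv_mem (hAH ha)))
            (H.inv_mem (hFH hf))
        have h4 := hHK' _ h3 ((hker _).mp h2)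
        calc a * f = (a * f * a⁻¹ * f⁻¹) * (f * a) := by group
          _ = f * a := by rw [h4, one_mul]
      exact ⟨f, hCA.le ⟨hf, hfC⟩, rfl⟩
    · refine le_inf (Subgroup.map_mono hAF) ?_
      rintro _ ⟨a, ha, rfl⟩
      rw [Subgroup.mem_centralizer_iff]
      rintro _ ⟨b, hb, rfl⟩
      rw [← map_mul, ← map_mul, (Subgroup.mem_centralizer_iff.mp (hAC ha)) b hb]
  have hcore := Cfsg.Agent.Helper32.centralizer_le_of_scn h5 FT AT hFTnil hFFT hFTA hCAT
  -- assemble
  refine ⟨K ⊓ Subgroup.centralizer (A : Set S), inf_le_right, ?_, ?_, ?_, ?_⟩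
  · rintro c hc d ⟨hdK, hdC⟩
    exact ⟨hKn.conj_mem d hdK c,
      Subgroup.mul_mem _ (Subgroup.mul_mem _ hc hdC) (Subgroup.inv_mem _ hc)⟩
  · rw [eq_bot_iff]
    rintro x ⟨hxA, hxK, -⟩
    rw [Subgroup.mem_bot]
    exact hHK' x (hAH hxA) hxK
  · apply le_antisymm (sup_le hAC inf_le_right)
    intro c hc
    have hcT : φ c ∈ Subgroup.centralizer (AT : Set (S ⧸ K)) := by
      rw [Subgroup.mem_centralizer_iff]
      rintro _ ⟨a, ha, rfl⟩
      rw [← map_mul, ← map_mul, (Subgroup.mem_centralizer_iff.mp hc) a ha]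
    obtain ⟨a, ha, hac⟩ := hcore hcT
    have hk : a⁻¹ * c ∈ K := by
      rw [← hker, map_mul, map_inv, hac, inv_mul_cancel]
    have hd : a⁻¹ * c ∈ K ⊓ Subgroup.centralizer (A : Set S) :=
      ⟨hk, Subgroup.mul_mem _ (Subgroup.inv_mem _ (hAC ha)) hc⟩
    have : c = a * (a⁻¹ * c) := by group
    rw [this]
    exact Subgroup.mul_mem_sup ha hd
  · intro q hq hdvd
    exact hKπ q hq (hdvd.trans (Subgroup.card_dvd_of_le inf_le_left))

end Cfsg.Agent.S1893
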