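import Cfsg.Statements.S1894
import Cfsg.Agent.Helper32.PGroup

set_option autoImplicit false
open Cfsg

namespace Cfsg.Agent.S1894

/-- Let P be a finite p-group, A a normal subgroup of P and B an abelian subgroup of A that is normal in P. Then some subgroup C of A containing B is normal in P and is self-centralizing and normal in A (C ∈ SCN(A)). -/
theorem result {P : Type*} [Group P] [Finite P] {p : ℕ} [Fact p.Prime] (hP : IsPGroup p P)
    (A : Subgroup P) [A.Normal] (B : Subgroup P) [B.Normal] (hBA : B ≤ A) (hB : IsMulCommutative B) :
    ∃ C : Subgroup P, C.Normal ∧ B ≤ C ∧ Cfsg.IsSCN A C := by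
  let 𝒮 : Set (Subgroup P) := {C | C.Normal ∧ B ≤ C ∧ C ≤ A ∧ IsMulCommutative C}
  have hfin : 𝒮.Finite := Set.toFinite _
  have hne : 𝒮.Nonempty := ⟨B, inferInstance, le_rfl, hBA, hB⟩
  obtain ⟨C, hCmax⟩ := hfin.exists_maximal hne
  obtain ⟨⟨hCn, hBC, hCA, hCc⟩, hmax⟩ := hCmax
  haveI := hCn
  refine ⟨C, hCn, hBC, hCA, ?_, ?_⟩
  · -- A ≤ normalizer C
    intro a _
    exact (Subgroup.normalizer_eq_top_iff.mpr hCn) ▸ Subgroup.mem_top a
  · -- A ⊓ centralizer C = C
    apply le_antisymm
    · by_contra hnot
      set D : Subgroup P := A ⊓ Subgroup.centralizer (C : Set P) with hD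
      haveI : D.Normal := by
        rw [hD]
        exact Subgroup.normal_inf_normal _ _   -- both normal
      have hCD : C ≤ D := by
        rw [hD]
        refine le_inf hCA ?_
        intro c hc
        rw [Subgroup.mem_centralizer_iff]
        intro y hy
        have := hCc.is_comm.comm ⟨y, hy⟩ ⟨c, hc⟩
        exact congrArg Subtype.val this
      have hlt : C < D := lt_of_le_of_ne hCD (fun h => hnot (h ▸ le_rfl))
      obtain ⟨x, hxD, hxC, hxg⟩ := Helper32.exists_central_mod hP C D hlt
      -- the bigger subgroup
      let C' : Subgroup P := Subgroup.closure ((C : Set P) ∪ {x})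
      have hCC' : C ≤ C' := by
        intro c hc
        exact Subgroup.subset_closure (Or.inl hc)
      have hxC' : x ∈ C' := Subgroup.subset_closure (Or.inr rfl)
      have hxA : x ∈ A := (inf_le_left : D ≤ A) hxD
      have hxcent : x ∈ Subgroup.centralizer (C : Set P) := (inf_le_right : D ≤ _) hxD
      have hC'mem : C' ∈ 𝒮 := by
        refine ⟨?_, hBC.trans hCC', ?_, ?_⟩
        · -- normal
          constructor
          intro n hn g
          -- conjugation by g maps C' into C'
          have hle : C' ≤ C'.comap (MulAut.conj g).toMonoidHom := by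
            rw [Subgroup.closure_le]
            rintro y (hy | hy)
            · show g * y * g⁻¹ ∈ C'
              exact hCC' (hCn.conj_mem y hy g)
            · rw [Set.mem_singleton_iff] at hy
              subst hy
              show g * y * g⁻¹ ∈ C'
              have h1 := hCC' (hxg g)
              have : g * y * g⁻¹ = (g * y * g⁻¹ * y⁻¹) * y := by group
              rw [this]
              exact C'.mul_mem h1 hxC'
          exact hle hn
        · rw [Subgroup.closure_le]
          rintro y (hy | hy)
          · exact hCA hy
          · rw [Set.mem_singleton_iff] at hy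
            subst hy
            exact hxA
        · apply Subgroup.isMulCommutative_closure
          rintro a (ha | ha) b (hb | hb)
          · exact congrArg Subtype.val (hCc.is_comm.comm ⟨a, ha⟩ ⟨b, hb⟩)
          · rw [Set.mem_singleton_iff] at hb
            subst hb
            rw [Subgroup.mem_centralizer_iff] at hxcent
            exact hxcent a ha
          · rw [Set.mem_singleton_iff] at ha
            subst ha
            rw [Subgroup.mem_centralizer_iff] at hxcent
            exact (hxcent b hb).symm
          · rw [Set.mem_singleton_iff] at ha hb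
            subst ha; subst hb; rfl
      have := hmax hC'mem hCC'
      exact hxC (this hxC')
    · refine le_inf hCA ?_
      intro c hc
      rw [Subgroup.mem_centralizer_iff]
      intro y hy
      exact congrArg Subtype.val (hCc.is_comm.comm ⟨y, hy⟩ ⟨c, hc⟩)

end Cfsg.Agent.S1894
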