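import Cfsg.Statements.S1896
import Cfsg.Agent.S0841
import Cfsg.Agent.Helper73.PGroupCyclic
import Cfsg.Agent.Helper97.Metacyclic

set_option autoImplicit false
open Cfsg

namespace Cfsg.Agent.S1896

open Subgroup
open scoped commutatorElement

variable {X : Type*} [Group X] [Finite X]

/-- An automorphism of odd prime order permuting a set of `2`-power size has a fixed point. -/
theorem exists_fixed (α : MulAut X) {q : ℕ} (hq : q.Prime) (hq2 : q ≠ 2) (hα : α ^ q = 1)
    (S : Set X) (hS : ∀ x, x ∈ S → α x ∈ S) {k : ℕ} (hcard : Nat.card S = 2 ^ k) :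
    ∃ y ∈ S, α y = y := by
  classical
  have : Fact q.Prime := ⟨hq⟩
  have : Fintype S := Fintype.ofFinite S
  let f : Function.End S := fun y => ⟨α y.1, hS y.1 y.2⟩
  have hpow : ∀ (n : ℕ) (y : S), ((f ^ n) y : X) = (α ^ n) y.1 := by
    intro n
    induction n with
    | zero => intro y; rfl
    | succ n ih =>
      intro y
      rw [pow_succ', pow_succ']
      show ((f ((f ^ n) y) : S) : X) = (α * α ^ n) y.1
      rw [MulAut.mul_apply, ← ih y]
  have hf : f ^ q ^ 1 = 1 := by
    rw [pow_one]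
    funext y
    apply Subtype.ext
    rw [hpow, hα]; rfl
  have hmod := Equiv.Perm.card_fixedPoints_modEq (p := q) (n := 1) hf
  by_contra hcon
  push Not at hcon
  have hempty : Fintype.card (Function.fixedPoints f) = 0 := by
    rw [Fintype.card_eq_zero_iff]
    constructor
    rintro ⟨y, hy⟩
    apply hcon y.1 y.2
    have := congrArg Subtype.val hy
    exact this
  rw [hempty, ← Nat.card_eq_fintype_card, hcard] at hmod
  have hdvd : q ∣ 2 ^ k := (Nat.modEq_zero_iff_dvd).1 hmod
  have := (Nat.prime_dvd_prime_iff_eq hq Nat.prime_two).1 (hq.dvd_of_dvd_pow hdvd)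
  exact hq2 this

omit [Finite X] in
theorem pow_apply_mem (α : MulAut X) (M : Subgroup X) (hMα : ∀ x, x ∈ M → α x ∈ M) (n : ℕ) :
    ∀ x, x ∈ M → (α ^ n) x ∈ M := by
  induction n with
  | zero => intro x hx; simpa using hx
  | succ n ih =>
    intro x hx
    rw [pow_succ', MulAut.mul_apply]
    exact hMα _ (ih x hx)

omit [Finite X] in
theorem mem_of_apply_mem (α : MulAut X) {q : ℕ} (hq : q.Prime) (hα : α ^ q = 1) (M : Subgroup X)
    (hMα : ∀ x, x ∈ M → α x ∈ M) {x : X} (hx : α x ∈ M) : x ∈ M := by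
  have h := pow_apply_mem α M hMα (q - 1) _ hx
  rw [← MulAut.mul_apply, ← pow_succ, Nat.sub_add_cancel hq.one_lt.le, hα] at h
  simpa using h

/-- The subgroup of fixed points of an automorphism. -/
def fixedSubgroup (α : MulAut X) : Subgroup X where
  carrier := {x | α x = x}
  mul_mem' := by
    intro a b ha hb
    simp only [Set.mem_ofPred_eq] at *
    rw [map_mul, ha, hb]
  one_mem' := map_one α
  inv_mem' := by
    intro a ha
    simp only [Set.mem_ofPred_eq] at *
    rw [map_inv, ha]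

theorem card_compl_of_index_two (M : Subgroup X) (hM : M.index = 2) :
    Nat.card ((M : Set X)ᶜ : Set X) = Nat.card M := by
  have h1 := Set.ncard_add_ncard_compl (M : Set X)
  have h2 := M.card_mul_index
  rw [hM] at h2
  have h3 : (M : Set X).ncard = Nat.card M := (Nat.card_coe_set_eq (M : Set X)).symm
  have h4 : Nat.card ((M : Set X)ᶜ : Set X) = ((M : Set X)ᶜ).ncard := Nat.card_coe_set_eq _
  omega

omit [Finite X] in
theorem isCoatom_of_index_eq_two (M : Subgroup X) (hM : M.index = 2) : IsCoatom M := by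
  constructor
  · intro h
    rw [h, index_top] at hM
    omega
  · intro K hK
    have h1 := relIndex_mul_index hK.le
    rw [hM] at h1
    have h2 : M.relIndex K ≠ 1 := by
      intro h
      rw [relIndex_eq_one] at h
      exact hK.not_ge h
    have h3 : M.relIndex K ∣ 2 := Dvd.intro _ h1
    have h4 : M.relIndex K = 2 := by
      rcases (Nat.dvd_prime Nat.prime_two).1 h3 with h | h
      · exact absurd h h2
      · exact h
    rw [h4] at h1
    have h5 : K.index = 1 := by omega
    exact index_eq_one.1 h5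

/-- **Burnside-type lemma.** An automorphism of odd prime order of a `2`-group with Frattini
quotient of order at most `4` fixes no subgroup of index `2` (unless it is trivial). -/
theorem eq_one_of_invariant_index_two (hX : IsPGroup 2 X) (α : MulAut X) {q : ℕ} (hq : q.Prime)
    (hq2 : q ≠ 2) (hα : α ^ q = 1) (hΦ : (frattini X).index ≤ 4) (M : Subgroup X)
    (hM : M.index = 2) (hMα : ∀ x, x ∈ M → α x ∈ M) : α = 1 := by
  have hΦM : frattini X ≤ M := frattini_le_coatom (isCoatom_of_index_eq_two M hM)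
  have hΦα : ∀ x, x ∈ frattini X → α x ∈ frattini X := by
    intro x hx
    have h := (characteristic_iff_map_le.mp (frattini_characteristic (G := X))) α
    exact h (mem_map_of_mem _ hx)
  -- a fixed point outside `M`
  obtain ⟨k, hk⟩ := IsPGroup.iff_card.mp (hX.to_subgroup M)
  obtain ⟨y₂, hy₂M, hy₂⟩ := exists_fixed α hq hq2 hα ((M : Set X)ᶜ)
    (fun x hx hx' => hx (mem_of_apply_mem α hq hα M hMα hx'))
    ((card_compl_of_index_two M hM).trans hk)
  have hy₂M' : y₂ ∉ M := hy₂M
  -- the fixed subgroup together with the Frattini subgroup is everything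
  have hMle : M ≤ fixedSubgroup α ⊔ frattini X := by
    have h1 := relIndex_mul_index hΦM
    rw [hM] at h1
    have h2 : (frattini X).relIndex M ≤ 2 := by omega
    have h3 : (frattini X).relIndex M ≠ 0 := by
      intro h
      rw [h] at h1
      have : (frattini X).index ≠ 0 := index_ne_zero_of_finite
      omega
    have h4 : (frattini X).relIndex M = 1 ∨ (frattini X).relIndex M = 2 := by omega
    rcases h4 with h4 | h4
    · rw [relIndex_eq_one] at h4
      exact h4.trans le_sup_right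
    · -- a fixed point in `M \ Φ`
      obtain ⟨j, hj⟩ := IsPGroup.iff_card.mp (hX.to_subgroup (frattini X))
      have hcard : Nat.card ({x | x ∈ M ∧ x ∉ frattini X} : Set X) = 2 ^ j := by
        have e1 : ({x | x ∈ M ∧ x ∉ frattini X} : Set X) ≃
            (((frattini X).subgroupOf M : Set M)ᶜ : Set M) :=
          { toFun := fun x => ⟨⟨x.1, x.2.1⟩, fun h => x.2.2 (mem_subgroupOf.1 h)⟩
            invFun := fun y => ⟨y.1.1, y.1.2, fun h => y.2 (mem_subgroupOf.2 h)⟩
            left_inv := fun x => rfl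
            right_inv := fun y => rfl }
        rw [Nat.card_congr e1, card_compl_of_index_two _ h4]
        rw [← hj]
        exact Nat.card_congr (subgroupOfEquivOfLe hΦM).toEquiv
      obtain ⟨y₁, ⟨hy₁M, hy₁Φ⟩, hy₁⟩ := exists_fixed α hq hq2 hα
        ({x | x ∈ M ∧ x ∉ frattini X} : Set X)
        (fun x hx => ⟨hMα x hx.1, fun h => hx.2
          (mem_of_apply_mem α hq hα (frattini X) hΦα h)⟩) hcard
      intro m hm
      by_cases hmΦ : m ∈ frattini X
      · exact le_sup_right (a := fixedSubgroup α) hmΦ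
      · have h5 := mul_mem_iff_of_index_two (H := (frattini X).subgroupOf M) h4
          (a := (⟨y₁, hy₁M⟩ : M)⁻¹) (b := ⟨m, hm⟩)
        have h6 : (⟨y₁, hy₁M⟩ : M)⁻¹ * ⟨m, hm⟩ ∈ (frattini X).subgroupOf M := by
          rw [h5]
          constructor
          · intro h
            exact absurd (mem_subgroupOf.1 (inv_mem_iff.1 h)) hy₁Φ
          · intro h
            exact absurd (mem_subgroupOf.1 h) hmΦ
        have h7 : y₁⁻¹ * m ∈ frattini X := mem_subgroupOf.1 h6
        have h8 : m = y₁ * (y₁⁻¹ * m) := by group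
        rw [h8]
        exact mul_mem (le_sup_left (b := frattini X) (show y₁ ∈ fixedSubgroup α from hy₁))
          (le_sup_right (a := fixedSubgroup α) h7)
  have htop : fixedSubgroup α ⊔ frattini X = ⊤ := by
    rw [eq_top_iff]
    intro x _
    by_cases hx : x ∈ M
    · exact hMle hx
    · have h5 := mul_mem_iff_of_index_two hM (a := y₂⁻¹) (b := x)
      have h6 : y₂⁻¹ * x ∈ M := by
        rw [h5]
        constructor
        · intro h; exact absurd (inv_mem_iff.1 h) hy₂M'
        · intro h; exact absurd h hx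
      have h8 : x = y₂ * (y₂⁻¹ * x) := by group
      rw [h8]
      exact mul_mem (le_sup_left (b := frattini X) (show y₂ ∈ fixedSubgroup α from hy₂))
        (hMle h6)
  have hC : fixedSubgroup α = ⊤ := frattini_nongenerating htop
  ext x
  have : x ∈ fixedSubgroup α := hC ▸ mem_top x
  exact this

theorem exists_odd_prime_order_aut (hA : ¬ IsPGroup 2 (MulAut X)) :
    ∃ (α : MulAut X) (q : ℕ), q.Prime ∧ q ≠ 2 ∧ orderOf α = q := by
  have hfin : Finite (MulAut X) := inferInstance
  by_contra hcon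
  push Not at hcon
  apply hA
  have hne : Nat.card (MulAut X) ≠ 0 := Nat.card_pos.ne'
  have h := Nat.eq_prime_pow_of_unique_prime_dvd (p := 2) hne (by
    intro d hd hdvd
    by_contra hd2
    have : Fact d.Prime := ⟨hd⟩
    obtain ⟨α, hα⟩ := exists_prime_orderOf_dvd_card' d hdvd
    exact hcon α d hd hd2 hα)
  exact IsPGroup.of_card h

omit [Finite X] in
/-- Generators of a metacyclic group. -/
theorem exists_generators (N : Subgroup X) [N.Normal] (hNc : IsCyclic N) (hQc : IsCyclic (X ⧸ N)) :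
    ∃ a b : X, N = zpowers a ∧ ∀ x : X, ∃ k : ℤ, ∃ n ∈ N, x = b ^ k * n := by
  obtain ⟨⟨a, haN⟩, ha⟩ := hNc.exists_generator
  obtain ⟨bq, hb⟩ := hQc.exists_generator
  obtain ⟨b, rfl⟩ := QuotientGroup.mk_surjective bq
  refine ⟨a, b, ?_, ?_⟩
  · apply le_antisymm
    · intro y hy
      obtain ⟨k, hk⟩ := mem_zpowers_iff.1 (ha ⟨y, hy⟩)
      have := congrArg Subtype.val hk
      rw [mem_zpowers_iff]
      exact ⟨k, by simpa using this⟩
    · rw [zpowers_le]; exact haN
  · intro x
    obtain ⟨k, hk⟩ := mem_zpowers_iff.1 (hb (QuotientGroup.mk x))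
    refine ⟨k, (b ^ k)⁻¹ * x, ?_, by group⟩
    rw [← QuotientGroup.eq, QuotientGroup.mk_zpow]
    exact hk

theorem not_isCyclic_of_aut (hX : IsPGroup 2 X) (hA : ¬ IsPGroup 2 (MulAut X)) : ¬ IsCyclic X := by
  intro hc
  apply hA
  obtain ⟨n, hn⟩ := IsPGroup.iff_card.mp hX
  have h := IsCyclic.card_mulAut X
  rw [hn] at h
  rcases Nat.eq_zero_or_pos n with rfl | hpos
  · rw [pow_zero, Nat.totient_one] at h
    exact IsPGroup.of_card (n := 0) (by rw [h, pow_zero])
  · rw [Nat.totient_prime_pow Nat.prime_two hpos] at h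
    exact IsPGroup.of_card (n := n - 1) (by rw [h]; simp)

omit [Finite X] in
theorem zpow_mem_iff_even (M : Subgroup X) (hM : M.index = 2) (b : X) (hb : b ∉ M) (k : ℤ) :
    b ^ k ∈ M ↔ Even k := by
  constructor
  · intro h
    by_contra hk
    rw [Int.not_even_iff_odd] at hk
    obtain ⟨j, rfl⟩ := hk
    rw [zpow_add, zpow_one, mul_mem_iff_of_index_two hM] at h
    have h2 : b ^ (2 * j) ∈ M := by
      rw [two_mul, zpow_add, mul_mem_iff_of_index_two hM]
    exact hb (h.1 h2)
  · rintro ⟨j, rfl⟩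
    rw [zpow_add, mul_mem_iff_of_index_two hM]

omit [Finite X] in
theorem index_two_unique (N : Subgroup X) (b : X)
    (hb : ∀ x : X, ∃ k : ℤ, ∃ n ∈ N, x = b ^ k * n)
    (M M' : Subgroup X) (hM : M.index = 2) (hM' : M'.index = 2) (hNM : N ≤ M) (hNM' : N ≤ M') :
    M = M' := by
  have key : ∀ (L : Subgroup X), L.index = 2 → N ≤ L → b ∉ L := by
    intro L hL hNL hbL
    have : L = ⊤ := by
      rw [eq_top_iff]
      intro x _
      obtain ⟨k, n, hn, rfl⟩ := hb x
      exact mul_mem (zpow_mem hbL k) (hNL hn)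
    rw [this, index_top] at hL
    omega
  ext x
  obtain ⟨k, n, hn, rfl⟩ := hb x
  rw [mul_mem_cancel_right (hNM hn), mul_mem_cancel_right (hNM' hn),
    zpow_mem_iff_even M hM b (key M hM hNM), zpow_mem_iff_even M' hM' b (key M' hM' hNM')]

theorem exists_index_two_of_ne_top (hX : IsPGroup 2 X) (H : Subgroup X) (hH : H ≠ ⊤) :
    ∃ M : Subgroup X, H ≤ M ∧ M.index = 2 := by
  have : Fact (Nat.Prime 2) := ⟨Nat.prime_two⟩
  rcases eq_top_or_exists_le_coatom H with h | ⟨M, hM, hHM⟩
  · exact absurd h hH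
  · exact ⟨M, hHM, Cfsg.Agent.Helper63.index_of_isCoatom_of_isPGroup hX M hM⟩

theorem sup_map_eq_top (hX : IsPGroup 2 X) (α : MulAut X) {q : ℕ} (hq : q.Prime) (hq2 : q ≠ 2)
    (hα : α ^ q = 1) (hα1 : α ≠ 1) (hΦ : (frattini X).index ≤ 4)
    (N : Subgroup X) (b : X) (hb : ∀ x : X, ∃ k : ℤ, ∃ n ∈ N, x = b ^ k * n) :
    N ⊔ N.map α.toMonoidHom = ⊤ := by
  by_contra hne
  obtain ⟨M, hle, hM⟩ := exists_index_two_of_ne_top hX _ hne
  have hNM : N ≤ M := le_sup_left.trans hle
  have hN2M : N.map α.toMonoidHom ≤ M := le_sup_right.trans hle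
  have hM' : (M.comap α.toMonoidHom).index = 2 := by
    rw [index_comap_of_surjective _ α.surjective, hM]
  have hNM' : N ≤ M.comap α.toMonoidHom := fun x hx => hN2M (mem_map_of_mem _ hx)
  have heq := index_two_unique N b hb M _ hM hM' hNM hNM'
  apply hα1
  apply eq_one_of_invariant_index_two hX α hq hq2 hα hΦ M hM
  intro x hx
  rw [heq] at hx
  exact hx

omit [Finite X] in
/-- In a class-two group whose squares are central, commutators square to one. -/
theorem commutatorElement_sq_eq_one (hsq : ∀ g : X, g ^ 2 ∈ center X)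
    (hcc : commutator X ≤ center X) (g h : X) : ⁅g, h⁆ ^ 2 = 1 := by
  have hc : ⁅g, h⁆ ∈ center X := hcc (commutator_mem_commutator (mem_top g) (mem_top h))
  have h1 : g * h * g⁻¹ = ⁅g, h⁆ * h := by
    rw [commutatorElement_def]; group
  have h2 : g ^ 2 * h * (g ^ 2)⁻¹ = ⁅g, h⁆ ^ 2 * h := by
    have : g ^ 2 * h * (g ^ 2)⁻¹ = g * (g * h * g⁻¹) * g⁻¹ := by
      rw [sq, mul_inv_rev]; simp only [mul_assoc]
    rw [this, h1]
    have h3 : g * (⁅g, h⁆ * h) * g⁻¹ = ⁅g, h⁆ * (g * h * g⁻¹) := by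
      rw [← mul_assoc, mem_center_iff.1 hc g]
      simp only [mul_assoc]
    rw [h3, h1, ← mul_assoc, sq]
  have h4 : g ^ 2 * h * (g ^ 2)⁻¹ = h := by
    rw [← (mem_center_iff.1 (hsq g) h)]; simp
  rw [h4] at h2
  have := mul_right_cancel (b := h) (a := (1 : X)) (c := ⁅g, h⁆ ^ 2) (by rw [one_mul]; exact h2)
  exact this.symm

/-- Basic facts in the configuration `X = ⟨a⟩⟨α a⟩`. -/
theorem structure_basic (hX : IsPGroup 2 X) (a a₂ : X) (ho : orderOf a₂ = orderOf a)
    (hN : (zpowers a).Normal) (hN2 : (zpowers a₂).Normal)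
    (hsup : zpowers a ⊔ zpowers a₂ = ⊤)
    (hcomm : commutator X ≤ zpowers a ⊓ zpowers a₂) :
    zpowers a ⊓ zpowers a₂ ≤ center X ∧
    ∃ m k e : ℕ, orderOf a = 2 ^ m ∧ Nat.card (zpowers a ⊓ zpowers a₂ : Subgroup X) = 2 ^ k ∧
      e = 2 ^ (m - k) ∧ k ≤ m ∧
      (∀ x : X, x ^ e ∈ zpowers a ⊓ zpowers a₂) ∧
      zpowers a ⊓ zpowers a₂ = zpowers (a ^ e) ∧ orderOf (a ^ e) = 2 ^ k := by
  classical
  have : Fact (Nat.Prime 2) := ⟨Nat.prime_two⟩
  set D := zpowers a ⊓ zpowers a₂ with hD
  have hDc : D ≤ center X := by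
    intro z hz
    obtain ⟨hz1, hz2⟩ := mem_inf.1 hz
    rw [mem_center_iff]
    have h1 : zpowers a ≤ centralizer {z} := by
      rw [zpowers_le, mem_centralizer_singleton_iff]
      obtain ⟨i, rfl⟩ := mem_zpowers_iff.1 hz1
      exact ((Commute.refl a).zpow_right i).eq
    have h2 : zpowers a₂ ≤ centralizer {z} := by
      rw [zpowers_le, mem_centralizer_singleton_iff]
      obtain ⟨i, rfl⟩ := mem_zpowers_iff.1 hz2
      exact ((Commute.refl a₂).zpow_right i).eq
    have h3 : (⊤ : Subgroup X) ≤ centralizer {z} := hsup ▸ sup_le h1 h2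
    intro g
    have := h3 (mem_top g)
    rw [mem_centralizer_singleton_iff] at this
    exact this
  have hcc : commutator X ≤ center X := hcomm.trans hDc
  refine ⟨hDc, ?_⟩
  obtain ⟨m, hm⟩ := (IsPGroup.iff_orderOf.1 hX) a
  have hm2 : orderOf a₂ = 2 ^ m := by rw [ho, hm]
  have hcN : Nat.card (zpowers a) = 2 ^ m := by rw [Nat.card_zpowers, hm]
  have hcN2 : Nat.card (zpowers a₂) = 2 ^ m := by rw [Nat.card_zpowers, hm2]
  have hDe : Nat.card D * D.relIndex (zpowers a) = 2 ^ m := by
    have h1 := (D.subgroupOf (zpowers a)).card_mul_index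
    rw [hcN, Nat.card_congr (subgroupOfEquivOfLe (inf_le_left : D ≤ zpowers a)).toEquiv] at h1
    exact h1
  have hDe2 : Nat.card D * D.relIndex (zpowers a₂) = 2 ^ m := by
    have h1 := (D.subgroupOf (zpowers a₂)).card_mul_index
    rw [hcN2, Nat.card_congr (subgroupOfEquivOfLe (inf_le_right : D ≤ zpowers a₂)).toEquiv] at h1
    exact h1
  have hcDpos : 0 < Nat.card D := Nat.card_pos
  have he2 : D.relIndex (zpowers a₂) = D.relIndex (zpowers a) :=
    Nat.eq_of_mul_eq_mul_left hcDpos (hDe2.trans hDe.symm)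
  obtain ⟨k, hkm, hk⟩ := (Nat.dvd_prime_pow Nat.prime_two).1 (Dvd.intro _ hDe)
  have he : D.relIndex (zpowers a) = 2 ^ (m - k) := by
    have h1 : 2 ^ k * D.relIndex (zpowers a) = 2 ^ k * 2 ^ (m - k) := by
      rw [← hk, hDe, hk, ← pow_add, Nat.add_sub_cancel' hkm]
    exact Nat.eq_of_mul_eq_mul_left (by positivity) h1
  have hDn : D.Normal := by rw [hD]; infer_instance
  have hpowN : ∀ x ∈ zpowers a, x ^ D.relIndex (zpowers a) ∈ D := by
    intro x hx
    have h1 : (D.subgroupOf (zpowers a)).Normal := hDn.subgroupOf _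
    have h2 := pow_index_mem (D.subgroupOf (zpowers a)) (⟨x, hx⟩ : zpowers a)
    rw [mem_subgroupOf] at h2
    simpa [relIndex] using h2
  have hpowN2 : ∀ x ∈ zpowers a₂, x ^ D.relIndex (zpowers a) ∈ D := by
    intro x hx
    rw [← he2]
    have h1 : (D.subgroupOf (zpowers a₂)).Normal := hDn.subgroupOf _
    have h2 := pow_index_mem (D.subgroupOf (zpowers a₂)) (⟨x, hx⟩ : zpowers a₂)
    rw [mem_subgroupOf] at h2
    simpa [relIndex] using h2
  have hpow : ∀ x : X, x ^ D.relIndex (zpowers a) ∈ D := by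
    intro x
    have hx : x ∈ zpowers a ⊔ zpowers a₂ := hsup ▸ mem_top x
    rw [← SetLike.mem_coe, normal_mul] at hx
    obtain ⟨n, hn, n₂, hn₂, rfl⟩ := Set.mem_mul.1 hx
    rw [Cfsg.Agent.S0841.result hcc n n₂]
    refine mul_mem (mul_mem (hpowN n hn) (hpowN2 n₂ hn₂)) (pow_mem (hcomm ?_) _)
    have : n₂⁻¹ * n⁻¹ * n₂ * n = ⁅n₂⁻¹, n⁻¹⁆ := by rw [commutatorElement_def]; group
    rw [this]
    exact commutator_mem_commutator (mem_top _) (mem_top _)
  refine ⟨m, k, D.relIndex (zpowers a), hm, hk, he, hkm, hpow, ?_, ?_⟩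
  · have hord : orderOf (a ^ D.relIndex (zpowers a)) = 2 ^ k := by
      rw [orderOf_pow_of_dvd (by rw [he]; positivity) (by rw [hm, he]; exact pow_dvd_pow 2 (Nat.sub_le m k)),
        hm, he, Nat.pow_div (Nat.sub_le m k) (by norm_num), Nat.sub_sub_self hkm]
    symm
    apply eq_of_le_of_card_ge
    · rw [zpowers_le]; exact hpow a
    · rw [Nat.card_zpowers, hord, hk]
  · rw [orderOf_pow_of_dvd (by rw [he]; positivity) (by rw [hm, he]; exact pow_dvd_pow 2 (Nat.sub_le m k)),
      hm, he, Nat.pow_div (Nat.sub_le m k) (by norm_num), Nat.sub_sub_self hkm]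

omit [Finite X] in
theorem sq_mem_iff_even (d : X) (k : ℕ) (hk : 1 ≤ k) (hord : orderOf d = 2 ^ k) (i : ℤ) :
    (∃ w ∈ zpowers d, d ^ i = w ^ 2) ↔ Even i := by
  constructor
  · rintro ⟨w, hw, h⟩
    obtain ⟨l, rfl⟩ := mem_zpowers_iff.1 hw
    have h1 : d ^ (i - l * 2) = 1 := by
      rw [zpow_sub, h, ← zpow_natCast, ← zpow_mul]
      simp
    have h2 : (orderOf d : ℤ) ∣ i - l * 2 := orderOf_dvd_iff_zpow_eq_one.2 h1
    have h3 : (2 : ℤ) ∣ (orderOf d : ℤ) := by
      rw [hord]
      exact ⟨2 ^ (k - 1), by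
        have : k = (k - 1) + 1 := by omega
        conv_lhs => rw [this]
        push_cast
        ring⟩
    have h4 : (2 : ℤ) ∣ i - l * 2 := h3.trans h2
    have h5 : (2 : ℤ) ∣ i := by
      have : i = (i - l * 2) + l * 2 := by ring
      rw [this]
      exact dvd_add h4 (Dvd.intro_left l rfl)
    exact even_iff_two_dvd.2 h5
  · rintro ⟨j, rfl⟩
    exact ⟨d ^ j, zpow_mem (mem_zpowers d) j, by rw [zpow_add, sq]⟩

omit [Finite X] in
/-- If all the correction terms are squares in `D`, the `e`-th power map modulo squares gives an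
`α`-invariant subgroup of index two. -/
theorem false_of_squares (α : MulAut X)
    (hno : ∀ K : Subgroup X, K.index = 2 → (∀ x, x ∈ K → α x ∈ K) → False)
    (D : Subgroup X) (hDc : D ≤ center X) (e : ℕ) (a : X) (hd : D = zpowers (a ^ e))
    (k : ℕ) (hk : 1 ≤ k) (hord : orderOf (a ^ e) = 2 ^ k)
    (hpow : ∀ x : X, x ^ e ∈ D) (hcomm : commutator X ≤ D)
    (hαD : ∀ y, y ∈ D → α y ∈ D)
    (hsq : ∀ z ∈ commutator X, ∃ w ∈ D, z ^ (e * (e - 1) / 2) = w ^ 2) : False := by
  have hcc : commutator X ≤ center X := hcomm.trans hDc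
  have hcm : ∀ u ∈ D, ∀ v : X, Commute u v := fun u hu v => (mem_center_iff.1 (hDc hu) v).symm
  have hzmem : ∀ x y : X, y⁻¹ * x⁻¹ * y * x ∈ commutator X := by
    intro x y
    have : y⁻¹ * x⁻¹ * y * x = ⁅y⁻¹, x⁻¹⁆ := by rw [commutatorElement_def]; group
    rw [this]
    exact commutator_mem_commutator (mem_top _) (mem_top _)
  let K : Subgroup X :=
    { carrier := {x | ∃ w ∈ D, x ^ e = w ^ 2}
      one_mem' := ⟨1, one_mem D, by simp⟩
      inv_mem' := by
        rintro x ⟨w, hw, h⟩
        exact ⟨w⁻¹, inv_mem hw, by rw [inv_pow, h, inv_pow]⟩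
      mul_mem' := by
        rintro x y ⟨w₁, hw₁, h₁⟩ ⟨w₂, hw₂, h₂⟩
        obtain ⟨w₃, hw₃, h₃⟩ := hsq _ (hzmem x y)
        refine ⟨w₁ * w₂ * w₃, mul_mem (mul_mem hw₁ hw₂) hw₃, ?_⟩
        rw [Cfsg.Agent.S0841.result hcc x y e, h₁, h₂, h₃,
          (hcm _ (mul_mem hw₁ hw₂) w₃).mul_pow, (hcm _ hw₁ w₂).mul_pow] }
  have hKmem : ∀ x, x ∈ K ↔ ∃ w ∈ D, x ^ e = w ^ 2 := fun x => Iff.rfl
  apply hno K
  · rw [index_eq_two_iff]
    refine ⟨a, fun b => ?_⟩
    have hb : b ^ e ∈ zpowers (a ^ e) := hd ▸ hpow b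
    obtain ⟨i, hi⟩ := mem_zpowers_iff.1 hb
    obtain ⟨w, hw, hw2⟩ := hsq _ (hzmem b a)
    have hw' : w ∈ zpowers (a ^ e) := hd ▸ hw
    obtain ⟨l, hl⟩ := mem_zpowers_iff.1 hw'
    have hba : (b * a) ^ e = (a ^ e) ^ (i + 1 + (l + l)) := by
      rw [Cfsg.Agent.S0841.result hcc b a e, hw2, ← hi, ← hl, zpow_add, zpow_add, zpow_one,
        zpow_add, sq]
    have h1 : b ∈ K ↔ Even i := by
      rw [hKmem, ← hi, hd]
      exact sq_mem_iff_even _ k hk hord i
    have h2 : b * a ∈ K ↔ Even (i + 1 + (l + l)) := by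
      rw [hKmem, hba, hd]
      exact sq_mem_iff_even _ k hk hord _
    rw [h1, h2]
    have h3 : Even (i + 1 + (l + l)) ↔ ¬ Even i := by
      rw [Int.even_add, Int.even_add_one]
      simp
    rw [h3]
    by_cases h : Even i
    · exact Or.inr ⟨h, fun h' => h' h⟩
    · exact Or.inl ⟨h, h⟩
  · rintro x ⟨w, hw, h⟩
    refine ⟨α w, hαD w hw, ?_⟩
    rw [← map_pow, h, map_pow]

omit [Finite X] in
theorem sq_eq_one_of_mem_commutator (hsq : ∀ g : X, g ^ 2 ∈ center X)
    (hcc : commutator X ≤ center X) {z : X} (hz : z ∈ commutator X) : z ^ 2 = 1 := by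
  have key : ∀ y ∈ commutator X, y ∈ center X ∧ y ^ 2 = 1 := by
    intro y hy
    rw [_root_.commutator_def, Subgroup.commutator_def] at hy
    induction hy using closure_induction with
    | mem x hx =>
      obtain ⟨g₁, -, g₂, -, rfl⟩ := hx
      exact ⟨hcc (commutator_mem_commutator (mem_top _) (mem_top _)),
        commutatorElement_sq_eq_one hsq hcc g₁ g₂⟩
    | one => exact ⟨one_mem _, one_pow 2⟩
    | mul x y _ _ hx hy =>
      refine ⟨mul_mem hx.1 hy.1, ?_⟩
      have hc : Commute x y := (mem_center_iff.1 hx.1 y).symm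
      rw [hc.mul_pow, hx.2, hy.2, one_mul]
    | inv x _ hx => exact ⟨inv_mem hx.1, by rw [inv_pow, hx.2, inv_one]⟩
  exact (key z hz).2

theorem structure_aux (hX : IsPGroup 2 X) (α : MulAut X)
    (hno : ∀ K : Subgroup X, K.index = 2 → (∀ x, x ∈ K → α x ∈ K) → False)
    (a : X) (hN : (zpowers a).Normal) (hN2 : (zpowers (α a)).Normal)
    (hsup : zpowers a ⊔ zpowers (α a) = ⊤)
    (hcomm : commutator X ≤ zpowers a ⊓ zpowers (α a)) :
    zpowers a ⊓ zpowers (α a) = ⊥ ∨ Nonempty (X ≃* QuaternionGroup 2) := by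
  obtain ⟨hDc, m, k, e, hm, hk, he, hkm, hpow, hd, hord⟩ :=
    structure_basic hX a (α a) (MulEquiv.orderOf_eq α a) hN hN2 hsup hcomm
  have hcc : commutator X ≤ center X := hcomm.trans hDc
  by_cases hk0 : k = 0
  · left
    rw [hk0, pow_zero] at hk
    exact card_eq_one.1 hk
  right
  have hk1 : 1 ≤ k := by omega
  have hαD : ∀ y, y ∈ zpowers a ⊓ zpowers (α a) → α y ∈ zpowers a ⊓ zpowers (α a) := by
    intro y hy
    rw [hd] at hy
    obtain ⟨i, rfl⟩ := mem_zpowers_iff.1 hy
    rw [map_zpow, map_pow]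
    exact zpow_mem (hpow (α a)) i
  have hnsq : ¬ ∀ z ∈ commutator X, ∃ w ∈ zpowers a ⊓ zpowers (α a),
      z ^ (e * (e - 1) / 2) = w ^ 2 := fun hsq =>
    false_of_squares α hno _ hDc e a hd k hk1 hord hpow hcomm hαD hsq
  push Not at hnsq
  obtain ⟨z, hz, hzw⟩ := hnsq
  -- `e = 2`
  have hmk : m - k = 1 := by
    by_contra hne
    rcases Nat.lt_or_ge (m - k) 1 with h | h
    · have h0 : m - k = 0 := by omega
      rw [h0, pow_zero] at he
      apply hzw 1 (one_mem _)
      rw [he]; simp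
    · have h2 : 2 ≤ m - k := by omega
      obtain ⟨t, ht⟩ : ∃ t, e = 4 * t := ⟨2 ^ (m - k - 2), by
        rw [he]
        have : m - k = (m - k - 2) + 2 := by omega
        conv_lhs => rw [this, pow_add]
        ring⟩
      have hT : e * (e - 1) / 2 = t * (e - 1) * 2 := by
        have : e * (e - 1) = 2 * (t * (e - 1) * 2) := by
          calc e * (e - 1) = (4 * t) * (e - 1) := by rw [← ht]
            _ = 2 * (t * (e - 1) * 2) := by ring
        rw [this, Nat.mul_div_cancel_left _ (by norm_num : 0 < 2)]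
      apply hzw (z ^ (t * (e - 1))) (pow_mem (hcomm hz) _)
      rw [hT, pow_mul]
  have he2 : e = 2 := by rw [he, hmk, pow_one]
  subst he2
  have hzw' : ∀ w ∈ zpowers a ⊓ zpowers (α a), z ≠ w ^ 2 := by
    intro w hw h
    apply hzw w hw
    simpa using h
  have hsqc : ∀ g : X, g ^ 2 ∈ center X := fun g => hDc (hpow g)
  have hz2 : z ^ 2 = 1 := sq_eq_one_of_mem_commutator hsqc hcc hz
  -- `z` is an odd power of `d = a ^ 2`
  have hzD : z ∈ zpowers (a ^ 2) := hd ▸ hcomm hz
  obtain ⟨i, hi⟩ := mem_zpowers_iff.1 hzD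
  have hiodd : ¬ Even i := by
    intro hev
    obtain ⟨w, hw, hw2⟩ := (sq_mem_iff_even (a ^ 2) k hk1 hord i).2 hev
    exact hzw' w (hd ▸ hw) (hi ▸ hw2)
  have hk_eq : k = 1 := by
    by_contra hne
    have hk2 : 2 ≤ k := by omega
    have h1 : (a ^ 2) ^ (i * 2) = 1 := by
      rw [zpow_mul, hi, zpow_ofNat, hz2]
    have h2 : (orderOf (a ^ 2) : ℤ) ∣ i * 2 := orderOf_dvd_iff_zpow_eq_one.2 h1
    rw [hord] at h2
    have h3 : (4 : ℤ) ∣ i * 2 := by
      refine Dvd.dvd.trans ?_ h2
      refine ⟨2 ^ (k - 2), ?_⟩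
      have : k = (k - 2) + 2 := by omega
      conv_lhs => rw [this]
      push_cast
      ring
    apply hiodd
    obtain ⟨c, hc⟩ := h3
    exact ⟨c, by omega⟩
  subst hk_eq
  have hm2 : m = 2 := by omega
  subst hm2
  rw [pow_one] at hord hk
  -- elements of `D`
  have hDel : ∀ y ∈ zpowers a ⊓ zpowers (α a), y = 1 ∨ y = a ^ 2 := by
    intro y hy
    rw [hd] at hy
    obtain ⟨j, rfl⟩ := mem_zpowers_iff.1 hy
    have hd2 : (a ^ 2) ^ 2 = 1 := by
      have h := pow_orderOf_eq_one (a ^ 2)
      rw [hord] at h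
      exact h
    rcases Int.even_or_odd j with ⟨l, rfl⟩ | ⟨l, rfl⟩
    · left
      rw [← two_mul, zpow_mul, zpow_ofNat, hd2, one_zpow]
    · right
      rw [zpow_add, zpow_one, zpow_mul, zpow_ofNat, hd2, one_zpow, one_mul]
  have ha2ne : a ^ 2 ≠ 1 := by
    intro h
    rw [h, orderOf_one] at hord
    omega
  have hz1 : z ≠ 1 := by
    intro h
    exact hzw' 1 (one_mem _) (by rw [h]; simp)
  -- `X` is not commutative
  have hnc : ¬ Commute (α a) a := by
    intro hcom
    apply hz1
    have hab : commutator X = ⊥ := by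
      rw [_root_.commutator_def, eq_bot_iff, Subgroup.commutator_le]
      intro g₁ _ g₂ _
      rw [mem_bot, commutatorElement_eq_one_iff_mul_comm]
      -- everything commutes
      have hcen : ∀ g : X, g ∈ center X := by
        intro g
        rw [mem_center_iff]
        intro y
        have hy : y ∈ zpowers a ⊔ zpowers (α a) := hsup ▸ mem_top y
        have hg : g ∈ zpowers a ⊔ zpowers (α a) := hsup ▸ mem_top g
        have h1 : zpowers a ⊔ zpowers (α a) ≤ centralizer {a} := by
          rw [sup_le_iff, zpowers_le, zpowers_le, mem_centralizer_singleton_iff,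
            mem_centralizer_singleton_iff]
          exact ⟨rfl, hcom.eq⟩
        have h2 : zpowers a ⊔ zpowers (α a) ≤ centralizer {α a} := by
          rw [sup_le_iff, zpowers_le, zpowers_le, mem_centralizer_singleton_iff,
            mem_centralizer_singleton_iff]
          exact ⟨hcom.eq.symm, rfl⟩
        have h3 : zpowers a ⊔ zpowers (α a) ≤ centralizer {g} := by
          rw [sup_le_iff, zpowers_le, zpowers_le, mem_centralizer_singleton_iff,
            mem_centralizer_singleton_iff]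
          have ha := mem_centralizer_singleton_iff.1 (h1 hg)
          have hb := mem_centralizer_singleton_iff.1 (h2 hg)
          exact ⟨ha.symm, hb.symm⟩
        exact mem_centralizer_singleton_iff.1 (h3 hy)
      exact (mem_center_iff.1 (hcen g₂) g₁)
    rw [hab, mem_bot] at hz
    exact hz
  -- recognition of the quaternion group
  have hx : α a ∉ zpowers a := by
    intro h
    obtain ⟨j, hj⟩ := mem_zpowers_iff.1 h
    apply hnc
    rw [← hj]
    exact (Commute.refl a).zpow_left j
  have hcomm_el : α a * a * (α a)⁻¹ * a⁻¹ = a ^ 2 := by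
    have hmem : α a * a * (α a)⁻¹ * a⁻¹ ∈ zpowers a ⊓ zpowers (α a) := by
      apply hcomm
      rw [← commutatorElement_def]
      exact commutator_mem_commutator (mem_top _) (mem_top _)
    rcases hDel _ hmem with h | h
    · exfalso
      apply hnc
      have : α a * a = a * α a := by
        have h' := congrArg (fun t => t * a * α a) h
        simpa [mul_assoc] using h'
      exact this
    · exact h
  have hconj : α a * a * (α a)⁻¹ = a⁻¹ := by
    have h4 : a ^ 4 = 1 := by
      have := pow_orderOf_eq_one a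
      rw [hm] at this
      simpa using this
    have h1 : α a * a * (α a)⁻¹ = a ^ 2 * a := by
      rw [← hcomm_el]; group
    rw [h1, eq_inv_iff_mul_eq_one, ← pow_succ, ← pow_succ]
    exact h4
  have hx2 : (α a) ^ 2 = a ^ 2 := by
    rcases hDel _ (hpow (α a)) with h | h
    · exfalso
      have h1 : orderOf (α a) ∣ 2 := orderOf_dvd_of_pow_eq_one h
      rw [MulEquiv.orderOf_eq, hm] at h1
      have := Nat.le_of_dvd (by norm_num) h1
      omega
    · exact h
  have hidx : (zpowers a).index = 2 := by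
    rw [index_eq_two_iff]
    refine ⟨α a, fun b => ?_⟩
    have hb : b ∈ zpowers a ⊔ zpowers (α a) := hsup ▸ mem_top b
    rw [← SetLike.mem_coe, normal_mul] at hb
    obtain ⟨n, hn, n₂, hn₂, rfl⟩ := Set.mem_mul.1 hb
    obtain ⟨j, rfl⟩ := mem_zpowers_iff.1 hn₂
    have hsqN : (α a) ^ 2 ∈ zpowers a := by rw [hx2]; exact pow_mem (mem_zpowers a) 2
    have key : ∀ l : ℤ, (α a) ^ l ∈ zpowers a ↔ Even l := by
      intro l
      constructor
      · intro h
        by_contra hl
        rw [Int.not_even_iff_odd] at hl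
        obtain ⟨c, rfl⟩ := hl
        rw [zpow_add, zpow_one, zpow_mul, zpow_ofNat] at h
        exact hx ((mul_mem_cancel_left (zpow_mem hsqN c)).1 h)
      · rintro ⟨c, rfl⟩
        rw [← two_mul, zpow_mul, zpow_ofNat]
        exact zpow_mem hsqN c
    have h1 : n * α a ^ j ∈ zpowers a ↔ Even j := by
      rw [mul_mem_cancel_left hn]; exact key j
    have h2 : n * α a ^ j * α a ∈ zpowers a ↔ Even (j + 1) := by
      rw [mul_assoc, mul_mem_cancel_left hn, ← zpow_add_one]; exact key (j + 1)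
    rw [h1, h2, Int.even_add_one]
    by_cases h : Even j
    · exact Or.inr ⟨h, fun h' => h' h⟩
    · exact Or.inl ⟨h, h⟩
  have ha4 : orderOf a = 2 * 2 := by rw [hm]; norm_num
  exact Cfsg.Agent.Helper73.nonempty_mulEquiv_quaternionGroup (n := 2) ha4 hx hconj hx2 hidx

/-- A finite metacyclic 2-group whose automorphism group is not a 2-group is isomorphic to the quaternion group of order 8 or to a homocyclic abelian group Z_{2^n} × Z_{2^n}. -/
theorem result {X : Type*} [Group X] [Finite X] (hX : IsPGroup 2 X)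
    (hm : Cfsg.IsMetacyclic X) (hA : ¬ IsPGroup 2 (MulAut X)) :
    Nonempty (X ≃* QuaternionGroup 2) ∨
      ∃ n : ℕ, Nonempty (X ≃* Multiplicative (ZMod (2 ^ n)) × Multiplicative (ZMod (2 ^ n))) := by
  have : Fact (Nat.Prime 2) := ⟨Nat.prime_two⟩
  obtain ⟨N, hNn, hNc, hQc⟩ := hm
  obtain ⟨α, q, hq, hq2, hαq⟩ := exists_odd_prime_order_aut hA
  have hα : α ^ q = 1 := by rw [← hαq]; exact pow_orderOf_eq_one α
  have hα1 : α ≠ 1 := by
    intro h
    rw [h, orderOf_one] at hαq
    exact hq.one_lt.ne hαq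
  obtain ⟨a, b, hNa, hb⟩ := exists_generators N hNc hQc
  have hab : closure ({a, b} : Set X) = ⊤ := by
    rw [eq_top_iff]
    intro x _
    obtain ⟨k, n, hn, rfl⟩ := hb x
    rw [hNa] at hn
    obtain ⟨i, rfl⟩ := mem_zpowers_iff.1 hn
    exact mul_mem (zpow_mem (subset_closure (by simp)) k) (zpow_mem (subset_closure (by simp)) i)
  have hΦ : (frattini X).index ≤ 4 := by
    rw [index_eq_card]
    exact Cfsg.Agent.Helper97.card_quotient_frattini_le_sq hX a b hab
  have hno : ∀ K : Subgroup X, K.index = 2 → (∀ x, x ∈ K → α x ∈ K) → False :=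
    fun K hK hKα => hα1 (eq_one_of_invariant_index_two hX α hq hq2 hα hΦ K hK hKα)
  have hsup := sup_map_eq_top hX α hq hq2 hα hα1 hΦ N b hb
  have hmap : N.map α.toMonoidHom = zpowers (α a) := by
    rw [hNa, MonoidHom.map_zpowers]; rfl
  have hN : (zpowers a).Normal := hNa ▸ hNn
  have hN2 : (zpowers (α a)).Normal := by
    rw [← hmap]; exact hNn.map _ α.surjective
  have hcomm : commutator X ≤ zpowers a ⊓ zpowers (α a) := by
    have h1 : commutator X ≤ N := by
      have hc : IsMulCommutative (X ⧸ N) := inferInstance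
      exact (Subgroup.Normal.quotient_commutative_iff_commutator_le (N := N)).1 hc
    have h2 : commutator X ≤ N.map α.toMonoidHom := by
      have h3 : commutator X = (commutator X).map α.toMonoidHom := by
        rw [_root_.commutator_def, map_commutator, ← MonoidHom.range_eq_map,
          MonoidHom.range_eq_top.2 α.surjective]
      rw [h3]
      exact map_mono h1
    rw [hmap] at h2
    rw [hNa] at h1
    exact le_inf h1 h2
  rw [hmap, hNa] at hsup
  rcases structure_aux hX α hno a hN hN2 hsup hcomm with hD | hQ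
  · right
    obtain ⟨m, hm⟩ := (IsPGroup.iff_orderOf.1 hX) a
    refine ⟨m, ?_⟩
    have hcom : ∀ (x : zpowers a) (y : zpowers (α a)),
        Commute ((zpowers a).subtype x) ((zpowers (α a)).subtype y) := by
      intro x y
      rw [← commutatorElement_eq_one_iff_commute, ← mem_bot, ← hD]
      exact hcomm (commutator_mem_commutator (mem_top _) (mem_top _))
    have hinj : Function.Injective
        ((zpowers a).subtype.noncommCoprod (zpowers (α a)).subtype hcom) := by
      rw [MonoidHom.noncommCoprod_injective]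
      refine ⟨subtype_injective _, subtype_injective _, ?_⟩
      rw [range_subtype, range_subtype, disjoint_iff]
      exact hD
    have hsurj : Function.Surjective
        ((zpowers a).subtype.noncommCoprod (zpowers (α a)).subtype hcom) := by
      rw [← MonoidHom.range_eq_top, MonoidHom.noncommCoprod_range, range_subtype, range_subtype]
      exact hsup
    have e₁ : (zpowers a) × (zpowers (α a)) ≃* X := MulEquiv.ofBijective _ ⟨hinj, hsurj⟩
    have hc0 : Nat.card (Multiplicative (ZMod (2 ^ m))) = 2 ^ m := by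
      rw [Nat.card_eq_fintype_card]
      simp
    have hc1 : Nat.card (zpowers a) = Nat.card (Multiplicative (ZMod (2 ^ m))) := by
      rw [Nat.card_zpowers, hm, hc0]
    have hc2 : Nat.card (zpowers (α a)) = Nat.card (Multiplicative (ZMod (2 ^ m))) := by
      rw [Nat.card_zpowers, MulEquiv.orderOf_eq, hm, hc0]
    have e₂ : (zpowers a) ≃* Multiplicative (ZMod (2 ^ m)) := mulEquivOfCyclicCardEq hc1
    have e₃ : (zpowers (α a)) ≃* Multiplicative (ZMod (2 ^ m)) := mulEquivOfCyclicCardEq hc2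
    exact ⟨e₁.symm.trans (MulEquiv.prodCongr e₂ e₃)⟩
  · left
    exact hQ

end Cfsg.Agent.S1896
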