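import Cfsg.Statements.S1897
import Cfsg.Agent.Helper98.U33Hom
import Cfsg.Agent.Helper96.PSLTwoElt

set_option autoImplicit false
open Cfsg

namespace Cfsg.Agent.S1897

/-- The projective special unitary group PSU₃(3) (realised over the field with 9 elements) has a subgroup isomorphic to PSL₂(7). -/
theorem result {F : Type*} [Field F] [Fintype F] (hF : Fintype.card F = 9)
    {K : Type*} [Field K] [Fintype K] (hK : Fintype.card K = 7) :
    ∃ H : Subgroup (Cfsg.PSU 3 F 3), Nonempty (H ≃* Matrix.ProjectiveSpecialLinearGroup (Fin 2) K) := by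
  classical
  have : Fact (Nat.Prime 7) := ⟨by norm_num⟩
  obtain ⟨ψ, hψ1, hψ2⟩ := Cfsg.Agent.Helper98.U33.exists_hom
  let e1 : K ≃+* ZMod 7 := (ZMod.ringEquivOfPrime K (by norm_num) hK).symm
  let τ1 : Matrix.SpecialLinearGroup (Fin 2) K ≃* Matrix.SpecialLinearGroup (Fin 2) (ZMod 7) :=
    Cfsg.Agent.Helper96.slMapEquiv e1
  let e2 : Cfsg.Agent.Helper98.GF9 ≃+* F := Cfsg.Agent.Helper98.gf9Equiv F hF
  let Θ : Matrix.SpecialLinearGroup (Fin 2) K →* Cfsg.PSU 3 F 3 :=
    (Cfsg.Agent.Helper98.SUKit.psuMap e2 3 3).comp (ψ.comp τ1.toMonoidHom)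
  have hcen : ∀ x : Matrix.SpecialLinearGroup (Fin 2) K,
      x ∈ Subgroup.center (Matrix.SpecialLinearGroup (Fin 2) K) ↔
        ((τ1 x).1 = 1 ∨ (τ1 x).1 = -1) := by
    intro x
    rw [Matrix.SpecialLinearGroup.mem_center_iff]
    have hτ : (τ1 x).1 = (e1 : K →+* ZMod 7).mapMatrix x.1 := rfl
    have hinj : Function.Injective ((e1 : K →+* ZMod 7).mapMatrix (m := Fin 2)) := by
      intro A B hAB
      ext i j
      have := congrFun (congrFun hAB i) j
      simpa using this
    have hdiag : (Matrix.diagonal fun _ : Fin 2 => (-1 : K)) = -1 := by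
      ext i j
      by_cases h : i = j <;> simp [h, Matrix.neg_apply]
    have hmap : (-1 : Matrix (Fin 2) (Fin 2) K).map e1 = -1 := by
      ext i j
      by_cases h : i = j <;> simp [h, Matrix.map_apply, Matrix.neg_apply]
    constructor
    · rintro ⟨r, hr, hrx⟩
      have hr' : r = 1 ∨ r = -1 := by
        simp only [Fintype.card_fin] at hr
        exact sq_eq_one_iff.1 hr
      rw [hτ, ← hrx]
      rcases hr' with rfl | rfl
      · left; simp
      · right; simp [hdiag, hmap]
    · rintro (h | h)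
      · refine ⟨1, one_pow _, ?_⟩
        apply hinj
        rw [← hτ, h]
        simp
      · refine ⟨-1, by simp, ?_⟩
        apply hinj
        rw [← hτ, h]
        simp [hdiag, hmap]
  have hΘ : ∀ x, Θ x = 1 ↔ x ∈ Subgroup.center (Matrix.SpecialLinearGroup (Fin 2) K) := by
    intro x
    rw [hcen, ← hψ1]
    constructor
    · intro h
      apply hψ2
      intro y
      exact Cfsg.Agent.Helper98.SUKit.commute_of_psuMap_eq_one e2 3 3 _ _ h
    · intro h
      change Cfsg.Agent.Helper98.SUKit.psuMap e2 3 3 (ψ (τ1 x)) = 1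
      rw [h, map_one]
  have hker : Θ.ker = Subgroup.center (Matrix.SpecialLinearGroup (Fin 2) K) := by
    ext x
    rw [MonoidHom.mem_ker]
    exact hΘ x
  refine ⟨Θ.range, ⟨?_⟩⟩
  exact ((QuotientGroup.quotientMulEquivOfEq hker.symm).trans
    (QuotientGroup.quotientKerEquivRange Θ)).symm

end Cfsg.Agent.S1897
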