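import Cfsg.Statements.S1899

set_option autoImplicit false
open Cfsg

namespace Cfsg.Agent.S1899

/-- Let a dihedral group of order 2n, n odd and n > 1, act on a finite abelian 2-group A through automorphisms d and t with d^n = 1, t² = 1 and t d t⁻¹ = d⁻¹, and suppose that d fixes only the identity. Then A is the internal direct product of C_A(t) and its image under d. -/
theorem result {A : Type*} [CommGroup A] [Finite A] (hA : IsPGroup 2 A)
    {n : ℕ} (hn : Odd n) (hn1 : 1 < n) (d t : MulAut A) (hd : d ^ n = 1) (ht : t ^ 2 = 1) (hdt : t * d * t⁻¹ = d⁻¹)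
    (hfix : ∀ a : A, d a = a → a = 1) :
    (MulEquiv.toMonoidHom t).eqLocus (MonoidHom.id A) ⊓ ((MulEquiv.toMonoidHom t).eqLocus (MonoidHom.id A)).map d.toMonoidHom = ⊥ ∧
      (MulEquiv.toMonoidHom t).eqLocus (MonoidHom.id A) ⊔ ((MulEquiv.toMonoidHom t).eqLocus (MonoidHom.id A)).map d.toMonoidHom = ⊤ := by
  -- basic facts
  have htt : ∀ a : A, t (t a) = a := by
    intro a
    have : (t ^ 2) a = a := by rw [ht]; rfl
    simpa [pow_two] using this
  have htinv : t⁻¹ = t := by
    have h1 : t * t = 1 := by rw [← pow_two]; exact ht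
    exact inv_eq_of_mul_eq_one_left h1
  -- t d t = d⁻¹
  have hdt' : t * d * t = d⁻¹ := by rw [htinv] at hdt; exact hdt
  -- fixed points of d² are trivial
  have hfix2 : ∀ a : A, d (d a) = a → a = 1 := by
    intro a ha
    apply hfix
    obtain ⟨k, hk⟩ := hn
    -- d = (d^2)^(k+1)
    have h2 : ∀ j : ℕ, ((d ^ 2) ^ j) a = a := by
      intro j
      induction j with
      | zero => simp
      | succ j ih =>
        rw [pow_succ, MulAut.mul_apply]
        have : (d ^ 2) a = a := by simpa [pow_two] using ha
        rw [this, ih]
    have h3 : (d ^ 2) ^ (k + 1) = d := by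
      rw [← pow_mul]
      have : 2 * (k + 1) = n + 1 := by omega
      rw [this, pow_succ, hd, one_mul]
    have := h2 (k + 1)
    rwa [h3] at this
  -- membership lemmas
  have memT : ∀ a : A, a ∈ (MulEquiv.toMonoidHom t).eqLocus (MonoidHom.id A) ↔ t a = a := by
    intro a; rfl
  -- s = d t d⁻¹ ; image of C_A(t) under d
  have memS : ∀ a : A, a ∈ ((MulEquiv.toMonoidHom t).eqLocus (MonoidHom.id A)).map d.toMonoidHom ↔
      d (t (d⁻¹ a)) = a := by
    intro a
    rw [Subgroup.mem_map]
    constructor
    · rintro ⟨b, hb, rfl⟩
      rw [memT] at hb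
      have : d⁻¹ (d.toMonoidHom b) = b := by
        show d⁻¹ (d b) = b
        exact MulAut.inv_apply_self _ d b
      rw [this, hb]; rfl
    · intro h
      refine ⟨d⁻¹ a, ?_, ?_⟩
      · rw [memT]
        have : d⁻¹ (d (t (d⁻¹ a))) = d⁻¹ a := by rw [h]
        rw [MulAut.inv_apply_self] at this
        exact this
      · show d (d⁻¹ a) = a
        exact MulAut.apply_inv_self _ d a
  -- d t d⁻¹ = d d t  (as automorphisms)
  have hs : d * t * d⁻¹ = d * d * t := by
    -- t d⁻¹ = d t  from t d t = d⁻¹
    have h1 : t * d⁻¹ = d * t := by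
      have : t * d⁻¹ = t * (t * d * t) := by rw [hdt']
      rw [this]
      have h2 : t * t = 1 := by rw [← pow_two]; exact ht
      calc t * (t * d * t) = (t * t) * d * t := by group
        _ = d * t := by rw [h2, one_mul]
    calc d * t * d⁻¹ = d * (t * d⁻¹) := by group
      _ = d * (d * t) := by rw [h1]
      _ = d * d * t := by group
  have memS' : ∀ a : A, a ∈ ((MulEquiv.toMonoidHom t).eqLocus (MonoidHom.id A)).map d.toMonoidHom ↔
      d (d (t a)) = a := by
    intro a
    rw [memS]
    have : (d * t * d⁻¹) a = (d * d * t) a := by rw [hs]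
    simp only [MulAut.mul_apply] at this
    rw [this]
  constructor
  · -- trivial intersection
    rw [eq_bot_iff]
    intro a ha
    rw [Subgroup.mem_inf, memT, memS'] at ha
    obtain ⟨h1, h2⟩ := ha
    rw [h1] at h2
    rw [Subgroup.mem_bot]
    exact hfix2 a h2
  · -- generation
    rw [eq_top_iff]
    -- the homomorphism a ↦ s(a) * (t a)⁻¹ with s = d d t
    let f : A →* A :=
      { toFun := fun a => d (d (t a)) * (t a)⁻¹
        map_one' := by simp
        map_mul' := by
          intro a b
          simp only [map_mul, mul_inv]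
          rw [mul_mul_mul_comm] }
    have hf_inj : Function.Injective f := by
      rw [injective_iff_map_eq_one]
      intro a ha
      have h1 : d (d (t a)) = t a := by
        have : d (d (t a)) * (t a)⁻¹ = 1 := ha
        rwa [mul_inv_eq_one] at this
      have h2 := hfix2 (t a) h1
      have : t (t a) = t 1 := by rw [h2]
      rw [htt, map_one] at this
      exact this
    have hf_surj : Function.Surjective f := Finite.surjective_of_injective hf_inj
    intro x _
    obtain ⟨a, rfl⟩ := hf_surj x
    -- f a = (a * s a) * (a * t a)⁻¹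
    have hfa : f a = (a * t a)⁻¹ * (a * d (d (t a))) := by
      show d (d (t a)) * (t a)⁻¹ = (a * t a)⁻¹ * (a * d (d (t a)))
      rw [mul_inv, mul_comm a⁻¹, mul_assoc, ← mul_assoc a⁻¹, inv_mul_cancel, one_mul, mul_comm]
    rw [hfa]
    apply Subgroup.mul_mem_sup
    · apply Subgroup.inv_mem
      rw [memT, map_mul, htt, mul_comm]
    · rw [memS']
      -- s (a * s a) = s a * a, with s s = 1
      have hss : ∀ b : A, d (d (t (d (d (t b))))) = b := by
        intro b
        -- (d d t)(d d t) = 1
        have h1 : d * d * t * (d * d * t) = 1 := by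
          have h2 : t * t = 1 := by rw [← pow_two]; exact ht
          have h3 : t * d = d⁻¹ * t := by
            have : t * d = t * d * (t * t) := by rw [h2, mul_one]
            rw [this]
            calc t * d * (t * t) = (t * d * t) * t := by group
              _ = d⁻¹ * t := by rw [hdt']
          calc d * d * t * (d * d * t) = d * d * (t * d) * d * t := by group
            _ = d * d * (d⁻¹ * t) * d * t := by rw [h3]
            _ = d * (t * d) * t := by group
            _ = d * (d⁻¹ * t) * t := by rw [h3]
            _ = t * t := by group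
            _ = 1 := h2
        have : (d * d * t * (d * d * t)) b = b := by rw [h1]; rfl
        simpa [MulAut.mul_apply] using this
      rw [map_mul, map_mul, map_mul, hss, mul_comm]

end Cfsg.Agent.S1899
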