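import Cfsg.Statements.S1900
import Cfsg.Agent.Helper32.CoprimeTwo

set_option autoImplicit false
open Cfsg

namespace Cfsg.Agent.S1900

open Subgroup Cfsg.Agent.Helper32 Cfsg.Agent.Helper48

/-- Let S = PQ be a finite group with P a normal Sylow p-subgroup and Q elementary abelian of order q², q a prime different from p. If exactly two subgroups X₁, X₂ of order q in Q have a nontrivial centralizer in P, then P is the internal direct product of C_P(X₁) and C_P(X₂): they commute elementwise, meet trivially and generate P. -/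
theorem result {S : Type*} [Group S] [Finite S] {p q : ℕ} [Fact p.Prime] [Fact q.Prime] (hpq : p ≠ q)
    (P : Sylow p S) [(P : Subgroup S).Normal] (Q : Subgroup S) (hQ : Cfsg.IsElementaryAbelian q Q) (hQc : Nat.card Q = q ^ 2)
    (hS : (P : Subgroup S) ⊔ Q = ⊤)
    (X₁ X₂ : Subgroup S) (h₁ : X₁ ≤ Q) (h₂ : X₂ ≤ Q) (h₁₂ : X₁ ≠ X₂) (hc₁ : Nat.card X₁ = q) (hc₂ : Nat.card X₂ = q)
    (hf₁ : (P : Subgroup S) ⊓ Subgroup.centralizer (X₁ : Set S) ≠ ⊥)
    (hf₂ : (P : Subgroup S) ⊓ Subgroup.centralizer (X₂ : Set S) ≠ ⊥)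
    (honly : ∀ X : Subgroup S, X ≤ Q → Nat.card X = q →
      (P : Subgroup S) ⊓ Subgroup.centralizer (X : Set S) ≠ ⊥ → X = X₁ ∨ X = X₂) :
    ⁅(P : Subgroup S) ⊓ Subgroup.centralizer (X₁ : Set S), (P : Subgroup S) ⊓ Subgroup.centralizer (X₂ : Set S)⁆ = ⊥ ∧
      ((P : Subgroup S) ⊓ Subgroup.centralizer (X₁ : Set S)) ⊓ ((P : Subgroup S) ⊓ Subgroup.centralizer (X₂ : Set S)) = ⊥ ∧
      ((P : Subgroup S) ⊓ Subgroup.centralizer (X₁ : Set S)) ⊔ ((P : Subgroup S) ⊓ Subgroup.centralizer (X₂ : Set S)) = P := by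
  have hqp : q.Prime := Fact.out
  have hQ2 : IsEA2 q Q := by
    refine ⟨?_, hQ.2, hQc⟩
    intro x hx y hy
    have := hQ.1.is_comm.comm (⟨x, hx⟩ : Q) ⟨y, hy⟩
    exact congrArg Subtype.val this
  -- generators of `X₁`, `X₂`
  have hex : ∀ X : Subgroup S, Nat.card X = q → ∃ a ∈ X, a ≠ 1 := by
    intro X hX
    have h1 : 1 < Nat.card X := by rw [hX]; exact hqp.one_lt
    have hnt : Nontrivial X := Finite.one_lt_card_iff_nontrivial.mp h1
    obtain ⟨a, ha⟩ := exists_ne (1 : X)
    exact ⟨a, a.2, fun h => ha (Subtype.ext h)⟩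
  obtain ⟨a, haX, ha1⟩ := hex X₁ hc₁
  obtain ⟨b, hbX, hb1⟩ := hex X₂ hc₂
  have hX₁ : X₁ = zpowers a := eq_zpowers_of_card_prime hqp hc₁ haX ha1
  have hX₂ : X₂ = zpowers b := eq_zpowers_of_card_prime hqp hc₂ hbX hb1
  have hC₁ : centralizer (X₁ : Set S) = centralizer {a} := by rw [hX₁, centralizer_zpowers_eq]
  have hC₂ : centralizer (X₂ : Set S) = centralizer {b} := by rw [hX₂, centralizer_zpowers_eq]
  have ha : a ∈ Q := h₁ haX
  have hb : b ∈ Q := h₂ hbX
  have H1 : ∀ c ∈ Q, c ∉ zpowers a → c ∉ zpowers b → (P : Subgroup S) ⊓ centralizer {c} = ⊥ := by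
    intro c hcQ hca hcb
    by_contra hne
    have hc1 : c ≠ 1 := by
      rintro rfl
      exact hca (one_mem _)
    have hoc : orderOf c = q := by
      rcases (Nat.dvd_prime hqp).mp (orderOf_dvd_of_pow_eq_one (hQ.2 c hcQ)) with h | h
      · exact absurd (orderOf_eq_one_iff.mp h) hc1
      · exact h
    have := honly (zpowers c) (zpowers_le.mpr hcQ) (by rw [Nat.card_zpowers, hoc])
      (by rw [centralizer_zpowers_eq]; exact hne)
    rcases this with h | h
    · apply hca; rw [← hX₁, ← h]; exact mem_zpowers c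
    · apply hcb; rw [← hX₂, ← h]; exact mem_zpowers c
  have H2 : (P : Subgroup S) ⊓ centralizer {a} ⊓ centralizer {b} = ⊥ := by
    have hab : a * b ∉ zpowers a := by
      intro h
      have hb' : b ∈ zpowers a := by
        have := (zpowers a).mul_mem ((zpowers a).inv_mem (mem_zpowers a)) h
        rwa [inv_mul_cancel_left] at this
      apply h₁₂
      rw [hX₁, hX₂]
      exact (zpowers_eq_of_mem_of_prime hqp (hQ.2 a ha) hb' hb1).symm
    have hba : a * b ∉ zpowers b := by
      intro h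
      have ha' : a ∈ zpowers b := by
        have := (zpowers b).mul_mem h ((zpowers b).inv_mem (mem_zpowers b))
        rwa [mul_inv_cancel_right] at this
      apply h₁₂
      rw [hX₁, hX₂]
      exact zpowers_eq_of_mem_of_prime hqp (hQ.2 b hb) ha' ha1
    rw [eq_bot_iff, ← H1 (a * b) (Q.mul_mem ha hb) hab hba]
    intro x hx
    refine mem_inf.mpr ⟨hx.1.1, ?_⟩
    rw [mem_centralizer_singleton_iff]
    have h1 : Commute x a := mem_centralizer_singleton_iff.mp hx.1.2
    have h2 : Commute x b := mem_centralizer_singleton_iff.mp hx.2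
    exact (h1.mul_right h2).eq
  rw [hC₁, hC₂]
  exact two_fixed hpq (P : Subgroup S) Q a b inferInstance P.isPGroup' hQ2 hS ha hb ha1 hb1 H1 H2

end Cfsg.Agent.S1900
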