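import Cfsg.Statements.S1901
import Cfsg.Agent.S3744
import Cfsg.Agent.Helper11.PSolvable
import Cfsg.Agent.Helper24.Coprime
import Cfsg.Agent.Helper4.SylowTwo

set_option autoImplicit false
open Cfsg

namespace Cfsg.Agent.S1901

open Subgroup

/-- an element whose order divides two coprime numbers is trivial -/
theorem eq_one_of_orderOf_dvd_coprime {G : Type*} [Group G] {z : G} {a b : ℕ} (ha : orderOf z ∣ a)
    (hb : orderOf z ∣ b) (hab : a.Coprime b) : z = 1 := by
  rw [← orderOf_eq_one_iff]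
  exact Nat.eq_one_of_dvd_coprimes hab ha hb

theorem orderOf_dvd_card_of_mem {G : Type*} [Group G] {M : Subgroup G} [Finite M] {z : G} (hz : z ∈ M) :
    orderOf z ∣ Nat.card M := by
  have : orderOf (⟨z, hz⟩ : M) ∣ Nat.card M := orderOf_dvd_natCard _
  rwa [Subgroup.orderOf_mk] at this

theorem exists_orderOf_eq_pow_of_mem {G : Type*} [Group G] {p : ℕ} [Fact p.Prime] {R : Subgroup G}
    (hR : IsPGroup p R) {r : G} (hr : r ∈ R) : ∃ k : ℕ, orderOf r = p ^ k := by
  obtain ⟨k, hk⟩ := (IsPGroup.iff_orderOf.mp hR) ⟨r, hr⟩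
  rw [Subgroup.orderOf_mk] at hk
  exact ⟨k, hk⟩

/-- Core induction: in a `p`-solvable group, if the `p'`-subgroup `Q` normalizes a Sylow `p`-subgroup, then every
`p`-subgroup of `N_G(Q)` centralizes `Q`. -/
theorem core.{u} {p : ℕ} [Fact p.Prime] : ∀ n : ℕ, ∀ (G : Type u) [Group G] [Finite G], Nat.card G = n →
    IsPSolvable p G → ∀ (P : Sylow p G) (Q R : Subgroup G), ¬ p ∣ Nat.card Q →
    Q ≤ normalizer ((P : Subgroup G) : Set G) → IsPGroup p R → R ≤ normalizer (Q : Set G) →
    ∀ r ∈ R, ∀ q ∈ Q, r * q = q * r := by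
  intro n
  induction n using Nat.strong_induction_on with
  | _ n ih =>
  intro G _ _ hn hsol P Q R hQ hQP hR hRQ r hr q hq
  have hp : p.Prime := Fact.out
  by_cases hnt : Nontrivial G
  swap
  · rw [not_nontrivial_iff_subsingleton] at hnt
    exact Subsingleton.elim _ _
  obtain ⟨M, hMn, hMne, hM⟩ := Cfsg.Agent.S3744.exists_normal_of_isPSolvable hsol
  set π := QuotientGroup.mk' M with hπ
  have hπs : Function.Surjective π := QuotientGroup.mk'_surjective M
  have hcardlt : Nat.card (G ⧸ M) < n := by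
    have h1 := Subgroup.card_eq_card_quotient_mul_card_subgroup M
    have h2 : 1 < Nat.card M := by
      rw [Subgroup.one_lt_card_iff_ne_bot]; exact hMne
    have h3 : 0 < Nat.card (G ⧸ M) := Nat.card_pos
    rw [← hn, h1]
    nlinarith
  have hQcop : (Nat.card Q).Coprime p := ((Nat.Prime.coprime_iff_not_dvd hp).mpr hQ).symm
  -- the induction hypothesis in the quotient
  have hIH : ∀ r ∈ R, ∀ q ∈ Q, r * q * r⁻¹ * q⁻¹ ∈ M := by
    intro r hr q hq
    have hQ' : ¬ p ∣ Nat.card (Q.map π) := fun h => hQ (h.trans (Subgroup.card_map_dvd Q π))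
    have hQP' : Q.map π ≤ normalizer (((P.mapSurjective hπs : Sylow p (G ⧸ M)) : Subgroup (G ⧸ M)) : Set (G ⧸ M)) := by
      rw [Sylow.coe_mapSurjective]
      exact (Subgroup.map_mono hQP).trans (Subgroup.le_normalizer_map π)
    have hRQ' : R.map π ≤ normalizer ((Q.map π : Subgroup (G ⧸ M)) : Set (G ⧸ M)) :=
      (Subgroup.map_mono hRQ).trans (Subgroup.le_normalizer_map π)
    have := ih _ hcardlt (G ⧸ M) rfl (Cfsg.Agent.Helper11.isPSolvable_quotient M hsol) (P.mapSurjective hπs)
      (Q.map π) (R.map π) hQ' hQP' (hR.map π) hRQ' (π r) (mem_map_of_mem π hr) (π q) (mem_map_of_mem π hq)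
    have hker : π (r * q * r⁻¹ * q⁻¹) = 1 := by
      rw [map_mul, map_mul, map_mul, map_inv, map_inv, this]; group
    have hmem : r * q * r⁻¹ * q⁻¹ ∈ π.ker := hker
    rwa [hπ, QuotientGroup.ker_mk'] at hmem
  have hzQ : ∀ r ∈ R, ∀ q ∈ Q, r * q * r⁻¹ * q⁻¹ ∈ Q := by
    intro r hr q hq
    have := (Subgroup.mem_normalizer_iff.mp (hRQ hr) q).mp hq
    exact Q.mul_mem this (Q.inv_mem hq)
  rcases hM with ⟨m, hMp⟩ | hMp'
  · -- `M` is a `p`-group
    have hz : r * q * r⁻¹ * q⁻¹ = 1 := by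
      apply eq_one_of_orderOf_dvd_coprime (orderOf_dvd_card_of_mem (hzQ r hr q hq))
        (orderOf_dvd_card_of_mem (hIH r hr q hq))
      rw [hMp]
      exact Nat.Coprime.pow_right m hQcop
    calc r * q = (r * q * r⁻¹ * q⁻¹) * q * r := by group
      _ = q * r := by rw [hz, one_mul]
  · -- `M` is a `p'`-group
    set Q₀ := Q ⊓ M with hQ₀
    have hPQ₀ : ∀ x ∈ (P : Subgroup G), ∀ y ∈ Q₀, x * y = y * x := by
      intro x hx y hy
      have h1 : x * y * x⁻¹ * y⁻¹ ∈ (P : Subgroup G) := by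
        have := (Subgroup.mem_normalizer_iff.mp (hQP hy.1) x⁻¹).mp (Subgroup.inv_mem _ hx)
        have e : x * y * x⁻¹ * y⁻¹ = x * (y * x⁻¹ * y⁻¹) := by group
        rw [e]
        exact Subgroup.mul_mem _ hx this
      have h2 : x * y * x⁻¹ * y⁻¹ ∈ M := M.mul_mem (hMn.conj_mem y hy.2 x) (M.inv_mem hy.2)
      obtain ⟨k, hk⟩ := exists_orderOf_eq_pow_of_mem P.2 h1
      have hz : x * y * x⁻¹ * y⁻¹ = 1 := by
        apply eq_one_of_orderOf_dvd_coprime (a := p ^ k) (hk ▸ dvd_rfl) (orderOf_dvd_card_of_mem h2)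
        exact Nat.Coprime.pow_left k hMp'.symm
      calc x * y = (x * y * x⁻¹ * y⁻¹) * y * x := by group
        _ = y * x := by rw [hz, one_mul]
    have hRQ₀ : R ≤ normalizer (Q₀ : Set G) := by
      intro s hs
      rw [Subgroup.mem_normalizer_iff]
      intro y
      have h1 := Subgroup.mem_normalizer_iff.mp (hRQ hs) y
      constructor
      · intro hy
        exact mem_inf.mpr ⟨h1.mp hy.1, hMn.conj_mem y hy.2 s⟩
      · intro hy
        refine mem_inf.mpr ⟨h1.mpr hy.1, ?_⟩
        have := hMn.conj_mem _ hy.2 s⁻¹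
        have e : s⁻¹ * (s * y * s⁻¹) * s⁻¹⁻¹ = y := by group
        rwa [e] at this
    -- `R` centralizes `Q₀`
    have hRcent : ∀ s ∈ R, ∀ y ∈ Q₀, s * y = y * s := by
      set L := normalizer (Q₀ : Set G) with hL
      have hPL : (P : Subgroup G) ≤ L := by
        intro x hx
        rw [hL, Subgroup.mem_normalizer_iff]
        intro y
        constructor
        · intro hy
          have : x * y * x⁻¹ = y := by rw [hPQ₀ x hx y hy]; group
          rw [this]; exact hy
        · intro hy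
          have h1 := hPQ₀ x hx _ hy
          have : y = x * y * x⁻¹ := by
            have h3 : x * y = x * (x * y * x⁻¹) := by
              calc x * y = x * y * x⁻¹ * x := by group
                _ = x * (x * y * x⁻¹) := h1.symm
            exact mul_left_cancel h3
          rw [this]; exact hy
      obtain ⟨l, hl⟩ := Cfsg.Agent.Helper4.exists_conj_mem_sylow (P.subtype hPL) (R.subgroupOf L)
        hR.comap_subtype
      intro s hs y hy
      have hsL : s ∈ L := hRQ₀ hs
      have h1 : l * ⟨s, hsL⟩ * l⁻¹ ∈ P.subtype hPL := hl ⟨s, hsL⟩ (by rw [Subgroup.mem_subgroupOf]; exact hs)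
      have h1' : (l : G) * s * (l : G)⁻¹ ∈ (P : Subgroup G) := by
        have h1'' : l * ⟨s, hsL⟩ * l⁻¹ ∈ ((P.subtype hPL : Sylow p L) : Subgroup L) := h1
        rw [Sylow.coe_subtype, Subgroup.mem_subgroupOf] at h1''
        simpa using h1''
      have h2 : (l : G) * y * (l : G)⁻¹ ∈ Q₀ := (Subgroup.mem_normalizer_iff.mp l.2 y).mp hy
      have h3 := hPQ₀ _ h1' _ h2
      have e1 : s * y = (l : G)⁻¹ * (((l : G) * s * (l : G)⁻¹) * ((l : G) * y * (l : G)⁻¹)) * (l : G) := by group
      have e2 : y * s = (l : G)⁻¹ * (((l : G) * y * (l : G)⁻¹) * ((l : G) * s * (l : G)⁻¹)) * (l : G) := by group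
      rw [e1, e2, h3]
    -- conclusion by coprime action
    set z := r * q * r⁻¹ * q⁻¹ with hz
    have hzQ₀ : z ∈ Q₀ := mem_inf.mpr ⟨hzQ r hr q hq, hIH r hr q hq⟩
    apply Cfsg.Agent.Helper24.commute_of_conj_eq_mul r q z
    · rw [hz]; group
    · exact hRcent r hr z hzQ₀
    · obtain ⟨k, hk⟩ := exists_orderOf_eq_pow_of_mem hR hr
      rw [hk]
      apply Nat.Coprime.pow_left
      exact (Nat.Coprime.coprime_dvd_left (orderOf_dvd_card_of_mem hzQ₀.2) hMp').symm

/-- Let G be a finite p-solvable group and Q a subgroup of order prime to p such that p divides the index of C_G(Q) in N_G(Q). Then Q normalizes no Sylow p-subgroup of G. -/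
theorem result {G : Type*} [Group G] [Finite G] {p : ℕ} [Fact p.Prime]
    (hG : Cfsg.IsPSolvable p G) (Q : Subgroup G) (hQ : ¬ p ∣ Nat.card Q)
    (hA : p ∣ (Subgroup.centralizer (Q : Set G)).relIndex (Subgroup.normalizer (Q : Set G)))
    (P : Sylow p G) : ¬ Q ≤ Subgroup.normalizer ((P : Subgroup G) : Set G) := by
  intro hQP
  set N := normalizer (Q : Set G) with hN
  obtain ⟨R₀⟩ : Nonempty (Sylow p N) := inferInstance
  have hle : (R₀ : Subgroup N) ≤ (centralizer (Q : Set G)).subgroupOf N := by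
    intro x hx
    rw [Subgroup.mem_subgroupOf, Subgroup.mem_centralizer_iff]
    intro q hq
    have := core _ G rfl hG P Q ((R₀ : Subgroup N).map N.subtype) hQ hQP (R₀.2.map _)
      (by rintro _ ⟨y, -, rfl⟩; exact y.2) (x : G) ⟨x, hx, rfl⟩ q hq
    exact this.symm
  have h1 : ((centralizer (Q : Set G)).subgroupOf N).index ∣ (R₀ : Subgroup N).index :=
    Subgroup.index_dvd_of_le hle
  exact R₀.not_dvd_index (hA.trans h1)

end Cfsg.Agent.S1901
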