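import Cfsg.Statements.S1905
import Cfsg.Agent.S0214
import Cfsg.Agent.S0209
import Cfsg.Agent.Helper21.SE2
import Cfsg.Agent.Helper48.StronglyEmbedded2

set_option autoImplicit false
open Cfsg

namespace Cfsg.Agent.S1905

open Cfsg.Agent.Helper4 Cfsg.Agent.Helper21 Cfsg.Agent.Helper48

/-- Let M be a subgroup of even order of a finite group S such that M contains the centralizer in S of each of its involutions and the normal core of M in S has odd order. Then all involutions of S are conjugate. If moreover N_S(X) ≤ M for a Sylow 2-subgroup X of M and I is an involution in the centre of X, then all involutions of M are conjugate in M and M = M₀ C_M(I) for some subgroup M₀ of M of odd order. -/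
theorem result {S : Type*} [Group S] [Finite S] (M : Subgroup S) (hM : Even (Nat.card M))
    (hC : ∀ i ∈ M, orderOf i = 2 → Subgroup.centralizer ({i} : Set S) ≤ M) (hcore : Odd (Nat.card M.normalCore)) :
    (∀ x y : S, orderOf x = 2 → orderOf y = 2 → IsConj x y) ∧
      ∀ (X : Sylow 2 M) (I : M), I ∈ (Subgroup.center ↥(X : Subgroup ↥M)).map (X : Subgroup ↥M).subtype → orderOf I = 2 →
        Subgroup.normalizer (((X : Subgroup M).map M.subtype : Subgroup S) : Set S) ≤ M →
        (∀ x y : M, orderOf x = 2 → orderOf y = 2 → IsConj x y) ∧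
          ∃ M₀ : Subgroup M, Odd (Nat.card M₀) ∧
            ∀ m : M, ∃ a ∈ M₀, ∃ c ∈ Subgroup.centralizer ({I} : Set M), m = a * c := by
  classical
  haveI hf2 : Fact (Nat.Prime 2) := ⟨Nat.prime_two⟩
  obtain ⟨i₀, hi₀M, hi₀⟩ := (even_card_iff_exists_invol M).mp hM
  have hcore_no : ∀ x ∈ M.normalCore, orderOf x ≠ 2 := by
    intro x hx h2
    have : orderOf (⟨x, hx⟩ : M.normalCore) ∣ Nat.card M.normalCore := orderOf_dvd_natCard _
    rw [Subgroup.orderOf_mk, h2] at this
    exact (Nat.not_even_iff_odd.mpr hcore) (even_iff_two_dvd.mpr this)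
  have hconj₀ : ∀ x : S, orderOf x = 2 → IsConj i₀ x := by
    intro x hx
    by_contra hnc
    apply hcore_no x _ hx
    intro g
    set x' := g * x * g⁻¹ with hx'
    have hx'2 : orderOf x' = 2 := by rw [hx', orderOf_conj_eq]; exact hx
    have hnc' : ¬ IsConj i₀ x' := by
      intro h
      apply hnc
      exact h.trans (isConj_iff.mpr ⟨g⁻¹, by rw [hx']; group⟩)
    have heven : Even (orderOf (i₀ * x')) := by
      by_contra hodd
      rw [Nat.not_even_iff_odd] at hodd
      apply hnc'
      have h1 := sq_one_of_orderOf_two hi₀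
      have h2 := sq_one_of_orderOf_two hx'2
      have hm := mid_conj h1 h2 hodd
      have hmm := mid_mul_self h1 h2
      have hmi : (mid i₀ x')⁻¹ = mid i₀ x' := inv_eq_self_of_sq_one hmm
      exact isConj_iff.mpr ⟨mid i₀ x', by rw [hmi]; exact hm⟩
    obtain ⟨hc2, hci, hcx⟩ := Cfsg.Agent.S0209.result i₀ x' hi₀ hx'2 heven
    set c := (i₀ * x') ^ (orderOf (i₀ * x') / 2) with hc
    have hcM : c ∈ M := by
      apply hC i₀ hi₀M hi₀
      rw [Subgroup.mem_centralizer_singleton_iff]
      exact hci.eq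
    apply hC c hcM hc2
    rw [Subgroup.mem_centralizer_singleton_iff]
    exact hcx.eq.symm
  refine ⟨fun x y hx hy => (hconj₀ x hx).symm.trans (hconj₀ y hy), ?_⟩
  intro X I _ hI2 hnorm
  have hMtop : M ≠ ⊤ := by
    intro h
    apply hcore_no i₀ _ hi₀
    intro b
    rw [h]; exact Subgroup.mem_top _
  have hXne : (X : Subgroup M) ≠ ⊥ := X.ne_bot_of_dvd_card (even_iff_two_dvd.mp hM)
  have hSE : IsStronglyEmbedded M := by
    refine (Cfsg.Agent.S0214.result M hMtop X hXne).mpr ?_
    intro Y hYX hYne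
    refine normalizer_le_of_crit (p := 2) X hC hnorm _ (Y.map M.subtype) ?_ ((X.2.to_le hYX).map _) ?_ rfl
    · rintro _ ⟨y, -, rfl⟩; exact y.2
    · intro h
      apply hYne
      exact (Subgroup.map_eq_bot_iff_of_injective _ M.subtype_injective).mp h
  obtain ⟨u, hu2, huM⟩ : ∃ u : S, orderOf u = 2 ∧ u ∉ M := by
    by_contra hcon
    push_neg at hcon
    apply hcore_no i₀ _ hi₀
    intro b
    exact hcon _ (by rw [orderOf_conj_eq]; exact hi₀)
  have horder : ∀ x : M, orderOf x = 2 → orderOf (x : S) = 2 := by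
    intro x hx
    rw [Subgroup.orderOf_coe]; exact hx
  refine ⟨?_, ?_⟩
  · intro x y hx hy
    obtain ⟨d, hd, hdxy⟩ := IsStronglyEmbedded.exists_conj_inf hSE hu2 huM (horder x hx) x.2 (horder y hy) y.2
    exact isConj_iff.mpr ⟨⟨d, hd.1⟩, Subtype.ext hdxy⟩
  · refine ⟨(M ⊓ M.map (MulAut.conj u).toMonoidHom).subgroupOf M, ?_, ?_⟩
    · have := hSE.2.2 u huM
      rwa [← Nat.card_congr (Subgroup.subgroupOfEquivOfLe (inf_le_left :
        M ⊓ M.map (MulAut.conj u).toMonoidHom ≤ M)).toEquiv] at this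
    · intro m
      have hmI : orderOf ((m * I * m⁻¹ : M) : S) = 2 := by
        apply horder
        have : (m * I * m⁻¹ : M) = (MulAut.conj m) I := by rw [MulAut.conj_apply]
        rw [this, MulEquiv.orderOf_eq]; exact hI2
      obtain ⟨d, hd, hdI⟩ := IsStronglyEmbedded.exists_conj_inf hSE hu2 huM (horder I hI2) I.2 hmI
        (m * I * m⁻¹ : M).2
      set a : M := ⟨d, hd.1⟩ with ha
      have haI : a * I * a⁻¹ = m * I * m⁻¹ := Subtype.ext hdI
      refine ⟨a, ?_, a⁻¹ * m, ?_, ?_⟩
      · rw [Subgroup.mem_subgroupOf]; exact hd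
      · rw [Subgroup.mem_centralizer_singleton_iff]
        calc a⁻¹ * m * I = a⁻¹ * (m * I * m⁻¹) * m := by group
          _ = a⁻¹ * (a * I * a⁻¹) * m := by rw [haI]
          _ = I * (a⁻¹ * m) := by group
      · rw [mul_inv_cancel_left]

end Cfsg.Agent.S1905
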