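import Cfsg.Statements.S1906
import Cfsg.Agent.Helper42.GL3Core

set_option autoImplicit false
open Cfsg

namespace Cfsg.Agent.S1906

/-- Let G be a finite group with no subgroup of index 2 whose Sylow 2-subgroup X embeds in GL₃(F) for a finite field F of odd order. If X contains an elementary abelian subgroup of order 8, then X is abelian. -/
theorem result {G : Type*} [Group G] [Finite G] (hG : ∀ H : Subgroup G, H.index ≠ 2) (X : Sylow 2 G)
    {F : Type*} [Field F] [Fintype F] (hF : Odd (Fintype.card F))
    (f : ↥(X : Subgroup G) →* GL (Fin 3) F) (hf : Function.Injective f)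
    (E : Subgroup G) (hE : E ≤ (X : Subgroup G)) (hEa : Cfsg.IsElementaryAbelian 2 E) (hE8 : Nat.card E = 8) :
    IsMulCommutative (X : Subgroup G) := by
  have h2F : (2 : F) ≠ 0 := by
    intro h
    have h4 : ringChar F = 2 :=
      CharP.ringChar_of_prime_eq_zero Nat.prime_two (by exact_mod_cast h)
    have h5 := FiniteField.even_card_iff_char_two.1 h4
    have h6 := Nat.odd_iff.1 hF
    omega
  obtain ⟨α, γ, hinj⟩ := Cfsg.Agent.Helper42.exists_gl_two_times_units hF X.isPGroup' f hf
  exact ⟨⟨Cfsg.Agent.Helper42.sylow_two_abelian_of_gl_two_times_units hG X h2F α γ hinj E hE hEa hE8⟩⟩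

end Cfsg.Agent.S1906
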