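import Cfsg.Statements.S1907
import Cfsg.Agent.Lib.Cores
import Cfsg.Agent.Helper22.Coprime
import Cfsg.Agent.Helper25.CoprimeConj

set_option autoImplicit false
open Cfsg

namespace Cfsg.Agent.S1907

section
variable {G : Type*} [Group G] [Finite G] {p : ℕ} [Fact p.Prime] (P : Sylow p G)

/-- `H = P ∩ O_{p',p}(G)` -/
abbrev Hsub : Subgroup G := (P : Subgroup G) ⊓ Cfsg.pPrimePCore p G

lemma D_le_K : Cfsg.pPrimeCore p G ≤ Cfsg.pPrimePCore p G := by
  intro d hd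
  show QuotientGroup.mk' (Cfsg.pPrimeCore p G) d ∈ Cfsg.pCore p (G ⧸ Cfsg.pPrimeCore p G)
  have : QuotientGroup.mk' (Cfsg.pPrimeCore p G) d = 1 := (QuotientGroup.eq_one_iff d).mpr hd
  rw [this]
  exact Subgroup.one_mem _

instance K_normal : (Cfsg.pPrimePCore p G).Normal := by
  unfold Cfsg.pPrimePCore
  exact Subgroup.Normal.comap inferInstance _

lemma D_inf_H : Cfsg.pPrimeCore p G ⊓ Hsub P = ⊥ := by
  apply Subgroup.inf_eq_bot_of_coprime
  have h1 : (Nat.card (Cfsg.pPrimeCore p G)).Coprime p := Lib.card_pPrimeCore_coprime p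
  have h2 : IsPGroup p (Hsub P) := P.isPGroup'.to_le inf_le_left
  obtain ⟨k, hk⟩ := IsPGroup.iff_card.mp h2
  rw [hk]
  exact Nat.Coprime.pow_right k h1

/-- `N_D(H) ≤ C_D(H)` -/
lemma normalizer_D_le_centralizer {e : G} (heD : e ∈ Cfsg.pPrimeCore p G)
    (heN : e ∈ Subgroup.normalizer ((Hsub P : Subgroup G) : Set G)) :
    e ∈ Subgroup.centralizer ((Hsub P : Subgroup G) : Set G) := by
  rw [Subgroup.mem_centralizer_iff]
  intro h hh
  have h1 : e * h * e⁻¹ * h⁻¹ ∈ Cfsg.pPrimeCore p G := by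
    have : e * h * e⁻¹ * h⁻¹ = e * (h * e⁻¹ * h⁻¹) := by group
    rw [this]
    exact Subgroup.mul_mem _ heD
      ((inferInstance : (Cfsg.pPrimeCore p G).Normal).conj_mem _ (Subgroup.inv_mem _ heD) h)
  have h2 : e * h * e⁻¹ * h⁻¹ ∈ Hsub P := by
    apply Subgroup.mul_mem _ _ (Subgroup.inv_mem _ hh)
    exact (Subgroup.mem_normalizer_iff.mp heN h).mp hh
  have h3 : e * h * e⁻¹ * h⁻¹ ∈ Cfsg.pPrimeCore p G ⊓ Hsub P := ⟨h1, h2⟩
  rw [D_inf_H, Subgroup.mem_bot] at h3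
  calc h * e = (e * h * e⁻¹ * h⁻¹)⁻¹ * (e * h) := by group
    _ = e * h := by rw [h3, inv_one, one_mul]

/-- part (a) -/
lemma partA (y : G) (hyN : y ∈ Subgroup.normalizer ((Hsub P : Subgroup G) : Set G))
    (hy : ∃ k : ℕ, orderOf y = p ^ k) (d : G) (hd : d ∈ Cfsg.pPrimeCore p G)
    (hdy : d⁻¹ * y * d ∈ Subgroup.normalizer ((Hsub P : Subgroup G) : Set G)) :
    ∃ d₁ ∈ Cfsg.pPrimeCore p G ⊓ Subgroup.centralizer ({y} : Set G),
      ∃ d₂ ∈ Cfsg.pPrimeCore p G ⊓ Subgroup.centralizer ((Hsub P : Subgroup G) : Set G), d = d₁ * d₂ := by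
  set D := Cfsg.pPrimeCore p G with hD
  set N := Subgroup.normalizer ((Hsub P : Subgroup G) : Set G) with hN
  set C := D ⊓ Subgroup.centralizer ((Hsub P : Subgroup G) : Set G) with hC
  have hDn : D.Normal := inferInstance
  obtain ⟨k, hk⟩ := hy
  have hY : IsPGroup p (Subgroup.zpowers y) := by
    apply IsPGroup.of_card (n := k)
    rw [Nat.card_zpowers, hk]
  have hpC : ¬ p ∣ Nat.card C := by
    have h1 : (Nat.card D).Coprime p := Lib.card_pPrimeCore_coprime p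
    intro hdvd
    have h2 : p ∣ Nat.card D := hdvd.trans (Subgroup.card_dvd_of_le inf_le_left)
    have := Nat.Coprime.eq_one_of_dvd h1.symm h2
    exact (Fact.out : p.Prime).one_lt.ne' this
  have hinv : ∀ z ∈ Subgroup.zpowers y, ∀ h ∈ C, d⁻¹ * (z * (d * h) * z⁻¹) ∈ C := by
    intro z hz h hh
    have hzN : z ∈ N := by
      obtain ⟨j, rfl⟩ := Subgroup.mem_zpowers_iff.mp hz
      exact Subgroup.zpow_mem _ hyN j
    have hzN' : d⁻¹ * z * d ∈ N := by
      obtain ⟨j, rfl⟩ := Subgroup.mem_zpowers_iff.mp hz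
      have : d⁻¹ * y ^ j * d = (d⁻¹ * y * d) ^ j := by
        have h0 := conj_zpow (a := d⁻¹) (b := y) (i := j)
        simp only [inv_inv] at h0
        exact h0.symm
      rw [this]
      exact Subgroup.zpow_mem _ hdy j
    have he : d⁻¹ * z * d * z⁻¹ ∈ C := by
      refine Subgroup.mem_inf.mpr ⟨?_, ?_⟩
      · have : d⁻¹ * z * d * z⁻¹ = d⁻¹ * (z * d * z⁻¹) := by group
        rw [this]
        exact D.mul_mem (D.inv_mem hd) (hDn.conj_mem d hd z)
      · apply normalizer_D_le_centralizer P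
        · have : d⁻¹ * z * d * z⁻¹ = d⁻¹ * (z * d * z⁻¹) := by group
          rw [this]
          exact D.mul_mem (D.inv_mem hd) (hDn.conj_mem d hd z)
        · exact N.mul_mem hzN' (N.inv_mem hzN)
    have hzh : z * h * z⁻¹ ∈ C := by
      refine Subgroup.mem_inf.mpr ⟨hDn.conj_mem h (Subgroup.mem_inf.mp hh).1 z, ?_⟩
      rw [Subgroup.mem_centralizer_iff]
      intro h' hh'
      have h1 : z⁻¹ * h' * z ∈ Hsub P := by
        have := (Subgroup.mem_normalizer_iff.mp (N.inv_mem hzN) h').mp hh'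
        rwa [inv_inv] at this
      have h2 := (Subgroup.mem_centralizer_iff.mp (Subgroup.mem_inf.mp hh).2) _ h1
      -- h2 : z⁻¹ * h' * z * h = h * (z⁻¹ * h' * z)
      calc h' * (z * h * z⁻¹) = z * ((z⁻¹ * h' * z) * h) * z⁻¹ := by group
        _ = z * (h * (z⁻¹ * h' * z)) * z⁻¹ := by rw [h2]
        _ = z * h * z⁻¹ * h' := by group
    have : d⁻¹ * (z * (d * h) * z⁻¹) = (d⁻¹ * z * d * z⁻¹) * (z * h * z⁻¹) := by group
    rw [this]
    exact C.mul_mem he hzh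
  obtain ⟨h, hh, hfix⟩ := Helper22.exists_fixed_in_coset p (Subgroup.zpowers y) C hY hpC d hinv
  refine ⟨d * h, Subgroup.mem_inf.mpr ⟨D.mul_mem hd (Subgroup.mem_inf.mp hh).1, ?_⟩, h⁻¹, C.inv_mem hh, by group⟩
  rw [Subgroup.mem_centralizer_iff]
  intro y' hy'
  rw [Set.mem_singleton_iff] at hy'
  subst hy'
  have := hfix y' (Subgroup.mem_zpowers y')
  calc y' * (d * h) = y' * (d * h) * y'⁻¹ * y' := by group
    _ = d * h * y' := by rw [this]

/-- `O_{p',p}(G) ≤ D H` elementwise -/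
lemma K_le (k : G) (hk : k ∈ Cfsg.pPrimePCore p G) :
    ∃ h ∈ Hsub P, ∃ d ∈ Cfsg.pPrimeCore p G, k = h * d := by
  set D := Cfsg.pPrimeCore p G with hD
  have hsurj : Function.Surjective (QuotientGroup.mk' D) := QuotientGroup.mk'_surjective D
  have h1 : QuotientGroup.mk' D k ∈ Cfsg.pCore p (G ⧸ D) := hk
  have h2 := Lib.pCore_le_sylow (P.mapSurjective hsurj) h1
  rw [Sylow.coe_mapSurjective] at h2
  obtain ⟨x, hxP, hx⟩ := Subgroup.mem_map.mp h2
  have hxk : x⁻¹ * k ∈ D := by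
    rw [← QuotientGroup.eq]
    exact hx
  have hxK : x ∈ Cfsg.pPrimePCore p G := by
    have : x = k * (x⁻¹ * k)⁻¹ := by group
    rw [this]
    exact Subgroup.mul_mem _ hk (Subgroup.inv_mem _ (D_le_K hxk))
  exact ⟨x, ⟨hxP, hxK⟩, x⁻¹ * k, hxk, by group⟩

/-- Frattini: `G = D N` -/
lemma frattini (g : G) : ∃ d ∈ Cfsg.pPrimeCore p G,
    ∃ n ∈ Subgroup.normalizer ((Hsub P : Subgroup G) : Set G), g = d * n := by
  set D := Cfsg.pPrimeCore p G with hD
  have hDn : D.Normal := inferInstance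
  have hKn : (Cfsg.pPrimePCore p G).Normal := inferInstance
  let Pg : Subgroup G := (Hsub P).map (MulAut.conj g).toMonoidHom
  have hPg : IsPGroup p Pg := (P.isPGroup'.to_le inf_le_left).map _
  have hPgle : Pg ≤ D ⊔ Hsub P := by
    rintro _ ⟨h, hh, rfl⟩
    have hK : g * h * g⁻¹ ∈ Cfsg.pPrimePCore p G := hKn.conj_mem h hh.2 g
    obtain ⟨h', hh', d, hd, hkd⟩ := K_le P _ hK
    show g * h * g⁻¹ ∈ D ⊔ Hsub P
    rw [hkd, sup_comm]
    exact Subgroup.mul_mem_sup hh' hd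
  have hnorm : Hsub P ≤ Subgroup.normalizer (D : Set G) := by
    rw [Subgroup.normalizer_eq_top_iff.mpr hDn]
    exact le_top
  have hpD : ¬ p ∣ Nat.card D := by
    have h1 : (Nat.card D).Coprime p := Lib.card_pPrimeCore_coprime p
    intro h2
    have := Nat.Coprime.eq_one_of_dvd h1.symm h2
    exact (Fact.out : p.Prime).one_lt.ne' this
  obtain ⟨x, hxD, hx⟩ := Helper25.exists_conj_mem_of_isPGroup D (Hsub P) Pg hnorm (D_inf_H P) hPg hPgle hpD
  refine ⟨x, hxD, x⁻¹ * g, ?_, by group⟩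
  apply Subgroup.mem_normalizer_fintype
  intro h hh
  have := hx (g * h * g⁻¹) ⟨h, hh, rfl⟩
  have e : x⁻¹ * g * h * (x⁻¹ * g)⁻¹ = x⁻¹ * (g * h * g⁻¹) * x := by group
  rw [e]
  exact this

lemma P_le_N : (P : Subgroup G) ≤ Subgroup.normalizer ((Hsub P : Subgroup G) : Set G) := by
  intro x hx
  have hKn : (Cfsg.pPrimePCore p G).Normal := inferInstance
  rw [Subgroup.mem_normalizer_iff]
  intro h
  constructor
  · rintro ⟨h1, h2⟩
    exact ⟨Subgroup.mul_mem _ (Subgroup.mul_mem _ hx h1) (Subgroup.inv_mem _ hx), hKn.conj_mem h h2 x⟩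
  · rintro ⟨h1, h2⟩
    have e : h = x⁻¹ * (x * h * x⁻¹) * x⁻¹⁻¹ := by group
    rw [e]
    exact ⟨Subgroup.mul_mem _ (Subgroup.mul_mem _ (Subgroup.inv_mem _ hx) h1)
      (Subgroup.inv_mem _ (Subgroup.inv_mem _ hx)), hKn.conj_mem _ h2 x⁻¹⟩

end

/-- Let P be a Sylow p-subgroup of a finite group G, H = P ∩ O_{p',p}(G), N = N_G(H) and D = O_{p'}(G). (a) If y is an element of p-power order of N and d ∈ D with d⁻¹ y d ∈ N, then d = d₁ d₂ with d₁ ∈ C_D(y) and d₂ ∈ C_D(H). (b) Two elements of P that are conjugate in G are conjugate in N. -/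
theorem result {G : Type*} [Group G] [Finite G] {p : ℕ} [Fact p.Prime] (P : Sylow p G) :
    (∀ y ∈ Subgroup.normalizer (((P : Subgroup G) ⊓ Cfsg.pPrimePCore p G : Subgroup G) : Set G), (∃ k : ℕ, orderOf y = p ^ k) →
      ∀ d ∈ Cfsg.pPrimeCore p G, d⁻¹ * y * d ∈ Subgroup.normalizer (((P : Subgroup G) ⊓ Cfsg.pPrimePCore p G : Subgroup G) : Set G) →
        ∃ d₁ ∈ Cfsg.pPrimeCore p G ⊓ Subgroup.centralizer ({y} : Set G),
          ∃ d₂ ∈ Cfsg.pPrimeCore p G ⊓ Subgroup.centralizer (((P : Subgroup G) ⊓ Cfsg.pPrimePCore p G : Subgroup G) : Set G), d = d₁ * d₂) ∧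
    ∀ x y : G, x ∈ (P : Subgroup G) → y ∈ (P : Subgroup G) → IsConj x y →
      ∃ n ∈ Subgroup.normalizer (((P : Subgroup G) ⊓ Cfsg.pPrimePCore p G : Subgroup G) : Set G), n * x * n⁻¹ = y := by
  constructor
  · intro y hyN hy d hd hdy
    exact partA P y hyN hy d hd hdy
  · intro x y hx hy hxy
    obtain ⟨c, hc⟩ := isConj_iff.mp hxy
    obtain ⟨d, hd, n, hn, rfl⟩ := frattini P c
    set N := Subgroup.normalizer (((P : Subgroup G) ⊓ Cfsg.pPrimePCore p G : Subgroup G) : Set G) with hN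
    have hxN : x ∈ N := P_le_N P hx
    have hyN : y ∈ N := P_le_N P hy
    have hx' : d⁻¹ * y * d = n * x * n⁻¹ := by
      rw [← hc]; group
    have hx'N : d⁻¹ * y * d ∈ N := by
      rw [hx']
      exact N.mul_mem (N.mul_mem hn hxN) (N.inv_mem hn)
    have hyp : ∃ k : ℕ, orderOf y = p ^ k := by
      have := (IsPGroup.iff_orderOf.mp P.isPGroup') ⟨y, hy⟩
      obtain ⟨k, hk⟩ := this
      exact ⟨k, by rw [← hk, Subgroup.orderOf_mk]⟩
    obtain ⟨d₁, hd₁, d₂, hd₂, hdd⟩ := partA P y hyN hyp d hd hx'N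
    have hd₂N : d₂ ∈ N := Subgroup.centralizer_le_normalizer _ (Subgroup.mem_inf.mp hd₂).2
    refine ⟨d₂ * n, N.mul_mem hd₂N hn, ?_⟩
    have hcomm : y * d₁ = d₁ * y := by
      have := (Subgroup.mem_centralizer_iff.mp (Subgroup.mem_inf.mp hd₁).2) y rfl
      exact this
    -- y = d₂ (n x n⁻¹) d₂⁻¹
    have h1 : n * x * n⁻¹ = d₂⁻¹ * y * d₂ := by
      rw [← hx', hdd]
      calc (d₁ * d₂)⁻¹ * y * (d₁ * d₂) = d₂⁻¹ * (d₁⁻¹ * (y * d₁)) * d₂ := by group
        _ = d₂⁻¹ * (d₁⁻¹ * (d₁ * y)) * d₂ := by rw [hcomm]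
        _ = d₂⁻¹ * y * d₂ := by group
    calc d₂ * n * x * (d₂ * n)⁻¹ = d₂ * (n * x * n⁻¹) * d₂⁻¹ := by group
      _ = d₂ * (d₂⁻¹ * y * d₂) * d₂⁻¹ := by rw [h1]
      _ = y := by group

end Cfsg.Agent.S1907
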