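import Cfsg.Statements.S1910
import Mathlib
import Cfsg.Agent.Helper4.TightEmb

set_option autoImplicit false
open Cfsg

namespace Cfsg.Agent.S1910

/-- Let Q be a tightly embedded subgroup of a finite group G, g an element outside N_G(Q), T a nontrivial Sylow 2-subgroup of Q^g ∩ N_G(Q), and S a Sylow 2-subgroup of QT containing T. Then T ∩ Q = 1, and N_S(T) is the direct product of T and N_S(T) ∩ Q, with N_S(T) ∩ Q isomorphic to T. -/
theorem result {G : Type*} [Group G] [Finite G] (Q : Subgroup G) (hQ : Cfsg.IsTightlyEmbedded Q)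
    (g : G) (hg : g ∉ Subgroup.normalizer (Q : Set G))
    (T : Subgroup G) (hT1 : T ≠ ⊥) (hT : T ≤ Q.map (MulAut.conj g).toMonoidHom ⊓ Subgroup.normalizer (Q : Set G))
    (hTsyl : IsPGroup 2 T ∧ ¬ 2 ∣ T.relIndex (Q.map (MulAut.conj g).toMonoidHom ⊓ Subgroup.normalizer (Q : Set G)))
    (S : Subgroup G) (hTS : T ≤ S) (hS : S ≤ Q ⊔ T) (hSsyl : IsPGroup 2 S ∧ ¬ 2 ∣ S.relIndex (Q ⊔ T)) :
    T ⊓ Q = ⊥ ∧
      T ⊓ (S ⊓ Subgroup.normalizer (T : Set G) ⊓ Q) = ⊥ ∧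
      ⁅T, S ⊓ Subgroup.normalizer (T : Set G) ⊓ Q⁆ = ⊥ ∧
      T ⊔ (S ⊓ Subgroup.normalizer (T : Set G) ⊓ Q) = S ⊓ Subgroup.normalizer (T : Set G) ∧
      Nonempty (↥(S ⊓ Subgroup.normalizer (T : Set G) ⊓ Q) ≃* T) := by
  have : Fact (Nat.Prime 2) := ⟨Nat.prime_two⟩
  obtain ⟨hT2, hTsyl'⟩ := hTsyl
  obtain ⟨hS2, hSsyl'⟩ := hSsyl
  set K := Q with hKdef
  set K' := Q.map (MulAut.conj g).toMonoidHom with hK'def
  have hTK' : T ≤ K' := fun t ht => (hT ht).1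
  have hTN : T ≤ Subgroup.normalizer (K : Set G) := fun t ht => (hT ht).2
  -- tight embedding in element form
  have hK : Cfsg.Agent.Helper4.TightE K := by
    intro x u hu hxu hu2
    by_contra hx
    have h1 := hQ.2 x hx
    have h2 : Even (Nat.card ↥(K ⊓ K.map (MulAut.conj x).toMonoidHom)) := by
      rw [Cfsg.Agent.Helper4.even_card_iff_exists_invol]
      exact ⟨u, (Cfsg.Agent.Helper4.mem_inf_conj K x u).mpr ⟨hu, hxu⟩, hu2⟩
    exact (Nat.not_even_iff_odd.mpr h1) h2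
  have hK' : Cfsg.Agent.Helper4.TightE K' := hK.conj g
  have hodd : ∀ u, u ∈ K → u ∈ K' → orderOf u ≠ 2 := by
    intro u hu hu' hu2
    have h1 := hQ.2 g hg
    have h2 : Even (Nat.card ↥(K ⊓ K.map (MulAut.conj g).toMonoidHom)) := by
      rw [Cfsg.Agent.Helper4.even_card_iff_exists_invol]
      exact ⟨u, ⟨hu, hu'⟩, hu2⟩
    exact (Nat.not_even_iff_odd.mpr h1) h2
  have hodd' : ∀ u, u ∈ K' → u ∈ K → orderOf u ≠ 2 := fun u h1 h2 => hodd u h2 h1
  have hcard : Nat.card K' = Nat.card K :=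
    Subgroup.card_map_of_injective (MulAut.conj g).injective
  obtain ⟨ha, hb, hc, hd⟩ := Cfsg.Agent.Helper4.tight_config_basic K K' hodd T hT2 hTK' hTN S hTS hS
  obtain ⟨he, hf⟩ := Cfsg.Agent.Helper4.tight_config_card K K' hK' hodd hcard T hT2 hTK' hTN S hS2
    hTS hS hSsyl'
  refine ⟨ha, hb, hc, hd, ?_⟩
  set R := S ⊓ Subgroup.normalizer (T : Set G) ⊓ K with hR
  have hRK : R ≤ K := inf_le_right
  have hR2 : IsPGroup 2 R := hS2.to_le (fun r hr => hr.1.1)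
  have hTcard : 1 < Nat.card T := by
    rw [Subgroup.one_lt_card_iff_ne_bot]
    exact hT1
  have hR1 : R ≠ ⊥ := by
    rw [← Subgroup.one_lt_card_iff_ne_bot]
    omega
  -- R normalizes K'
  have hRN' : R ≤ Subgroup.normalizer (K' : Set G) := by
    intro r hr
    exact hK'.normalizer_le T hT2 hT1 hTK' hr.1.2
  set A := K ⊓ Subgroup.normalizer (K' : Set G) with hA
  have hRA : R ≤ A := le_inf hRK hRN'
  obtain ⟨R₁, hRR₁, hR₁A, hR₁2, -⟩ := Cfsg.Agent.Helper4.exists_sylow_subgroup_ge A R hR2 hRA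
  have hR₁1 : R₁ ≠ ⊥ := by
    intro h
    apply hR1
    rw [eq_bot_iff, ← h]
    exact hRR₁
  have hR₁K : R₁ ≤ K := fun r hr => (hR₁A hr).1
  have hR₁N : R₁ ≤ Subgroup.normalizer (K' : Set G) := fun r hr => (hR₁A hr).2
  obtain ⟨S₁, hR₁S₁, hS₁le, hS₁2, hS₁syl⟩ :=
    Cfsg.Agent.Helper4.exists_sylow_subgroup_ge (K' ⊔ R₁) R₁ hR₁2 le_sup_right
  obtain ⟨he₁, -⟩ := Cfsg.Agent.Helper4.tight_config_card K' K hK hodd' hcard.symm R₁ hR₁2 hR₁K hR₁N
    S₁ hS₁2 hR₁S₁ hS₁le hS₁syl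
  set T₁ := S₁ ⊓ Subgroup.normalizer (R₁ : Set G) ⊓ K' with hT₁
  set B := K' ⊓ Subgroup.normalizer (K : Set G) with hB
  have hT₁B : T₁ ≤ B := by
    intro t ht
    exact ⟨ht.2, hK.normalizer_le R₁ hR₁2 hR₁1 hR₁K ht.1.2⟩
  have hT₁2 : IsPGroup 2 T₁ := hS₁2.to_le (fun t ht => ht.1.1)
  have hT₁T : Nat.card T₁ ≤ Nat.card T := by
    obtain ⟨k, hk⟩ := hT₁2.exists_card_eq
    have h1 : Nat.card T₁ ∣ Nat.card B := Subgroup.card_dvd_of_le hT₁B
    rw [← Cfsg.Agent.Helper4.card_mul_relIndex_of_le hT, hk] at h1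
    rw [hk]
    exact Nat.le_of_dvd Nat.card_pos (Cfsg.Agent.Helper4.two_pow_dvd_of_dvd_mul_odd h1 hTsyl')
  have hRR₁card : Nat.card R ≤ Nat.card R₁ := Subgroup.card_le_of_le hRR₁
  have hcardeq : Nat.card R = Nat.card T := by omega
  rcases hf with ⟨f, hfinj⟩ | hsyl
  · have hbij : Function.Bijective f :=
      hfinj.bijective_of_nat_card_le (by omega)
    exact ⟨(MulEquiv.ofBijective f hbij).symm⟩
  · -- R is a Sylow 2-subgroup of K; T has the same order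
    have h1 : (R.map (MulAut.conj g).toMonoidHom) ≤ K' := Subgroup.map_mono hRK
    have h2 : IsPGroup 2 (R.map (MulAut.conj g).toMonoidHom) := hR2.map _
    have h3 : ¬ 2 ∣ (R.map (MulAut.conj g).toMonoidHom).relIndex K' := by
      rw [hK'def, Subgroup.relIndex_map_map_of_injective R K (MulAut.conj g).injective]
      exact hsyl
    have h4 : Nat.card T = Nat.card (R.map (MulAut.conj g).toMonoidHom) := by
      rw [Subgroup.card_map_of_injective (MulAut.conj g).injective]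
      exact hcardeq.symm
    obtain ⟨e⟩ := Cfsg.Agent.Helper4.nonempty_mulEquiv_of_sylow_card K'
      (R.map (MulAut.conj g).toMonoidHom) T h1 hTK' h2 hT2 h3 h4
    exact ⟨(R.equivMapOfInjective _ (MulAut.conj g).injective).trans e⟩

end Cfsg.Agent.S1910
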