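import Cfsg.Statements.S1912

set_option autoImplicit false
open Cfsg

namespace Cfsg.Agent.S1912

/-- Let L be a perfect subgroup and X any subgroup of a group, with [[X, L], L] = 1. Then [X, L] = 1. -/
theorem result {G : Type*} [Group G] (L X : Subgroup G) (hL : ⁅L, L⁆ = L) (h : ⁅⁅X, L⁆, L⁆ = ⊥) : ⁅X, L⁆ = ⊥ := by
  -- three subgroups lemma: [[X,L],L] = 1 and [[L,X],L] = 1 imply [[L,L],X] = 1
  have h1 : ⁅⁅L, X⁆, L⁆ = ⊥ := by rw [Subgroup.commutator_comm L X]; exact h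
  have h2 : ⁅⁅L, L⁆, X⁆ = ⊥ := by
    -- commutator_commutator_eq_bot_of_rotate : ⁅⁅H₂, H₃⁆, H₁⁆ = ⊥ → ⁅⁅H₃, H₁⁆, H₂⁆ = ⊥ → ⁅⁅H₁, H₂⁆, H₃⁆ = ⊥
    apply Subgroup.commutator_commutator_eq_bot_of_rotate
    · exact h1
    · exact h
  rw [hL] at h2
  rw [Subgroup.commutator_comm]
  exact h2

end Cfsg.Agent.S1912
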