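import Cfsg.Statements.S1921
import Cfsg.Agent.Helper22.Layer
import Cfsg.Agent.Helper21.Quasisimple

set_option autoImplicit false
open Cfsg

namespace Cfsg.Agent.S1921

open scoped Pointwise

/-- Let a be an involution of a finite group H and L a component of H with a L a⁻¹ ≠ L; put M = ⟨L, aLa⁻¹⟩ and let J be the subgroup generated by the elements x · a x a⁻¹ with x ∈ L (the diagonal). Then every element of M outside J·Z(M) generates M together with J. -/
theorem result {H : Type*} [Group H] [Finite H] (a : H) (ha : orderOf a = 2) (L : Subgroup H) (hL : Cfsg.IsComponent L)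
    (hLa : L.map (MulAut.conj a).toMonoidHom ≠ L) (x : H) (hxM : x ∈ L ⊔ L.map (MulAut.conj a).toMonoidHom)
    (hxJ : x ∉ Subgroup.closure {y : H | ∃ l ∈ L, y = l * (a * l * a⁻¹)} ⊔
      ((L ⊔ L.map (MulAut.conj a).toMonoidHom) ⊓ Subgroup.centralizer ((L ⊔ L.map (MulAut.conj a).toMonoidHom : Subgroup H) : Set H))) :
    Subgroup.closure {y : H | ∃ l ∈ L, y = l * (a * l * a⁻¹)} ⊔ Subgroup.zpowers x = L ⊔ L.map (MulAut.conj a).toMonoidHom := by
  set L' : Subgroup H := L.map (MulAut.conj a).toMonoidHom with hL'def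
  set J : Subgroup H := Subgroup.closure {y : H | ∃ l ∈ L, y = l * (a * l * a⁻¹)} with hJdef
  set M : Subgroup H := L ⊔ L' with hMdef
  -- L' is a component
  have hL' : Cfsg.IsComponent L' := by
    refine ⟨hL.1.map (MulAut.conj a).surjective, ?_⟩
    exact Helper21.IsQuasisimple.of_mulEquiv
      (L.equivMapOfInjective (MulAut.conj a).toMonoidHom (MulAut.conj a).injective) hL.2
  have hmemL' : ∀ l ∈ L, a * l * a⁻¹ ∈ L' := fun l hl => ⟨l, hl, rfl⟩
  -- L and L' commute
  have hcomm0 : ⁅L, L'⁆ = ⊥ := Helper22.IsComponent.commutator_eq_bot_of_ne hL hL' (Ne.symm hLa)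
  have hcomm : ∀ l ∈ L, ∀ l' ∈ L', l' * l = l * l' := by
    intro l hl l' hl'
    have := Subgroup.commutator_eq_bot_iff_le_centralizer.mp hcomm0 hl
    exact (Subgroup.mem_centralizer_iff.mp this) l' hl'
  have hLM : L ≤ M := le_sup_left
  have hL'M : L' ≤ M := le_sup_right
  have hgenJ : ∀ l ∈ L, l * (a * l * a⁻¹) ∈ J := fun l hl => Subgroup.subset_closure ⟨l, hl, rfl⟩
  have hJM : J ≤ M := by
    rw [hJdef, Subgroup.closure_le]
    rintro y ⟨l, hl, rfl⟩
    exact M.mul_mem (hLM hl) (hL'M (hmemL' l hl))
  apply le_antisymm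
  · exact sup_le hJM (by rw [Subgroup.zpowers_le]; exact hxM)
  · set Y : Subgroup H := J ⊔ Subgroup.zpowers x with hYdef
    have hJY : J ≤ Y := le_sup_left
    have hxY : x ∈ Y := (le_sup_right : Subgroup.zpowers x ≤ Y) (Subgroup.mem_zpowers x)
    -- decompose x
    have hnorm : L' ≤ Subgroup.normalizer (L : Set H) := by
      intro l' hl'
      apply Subgroup.centralizer_le_normalizer
      rw [Subgroup.mem_centralizer_iff]
      intro l hl
      exact (hcomm l hl l' hl').symm
    have hx' : x ∈ ((L ⊔ L' : Subgroup H) : Set H) := hxM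
    rw [Subgroup.coe_mul_of_right_le_normalizer_left L L' hnorm] at hx'
    obtain ⟨u, hu, v', hv', hx''⟩ := hx'
    obtain ⟨v, hv, hvv'⟩ := hv'
    have hvv'' : a * v * a⁻¹ = v' := hvv'
    have hxeq : x = u * v' := hx''.symm
    set w := u * v⁻¹ with hw
    have hwL : w ∈ L := L.mul_mem hu (L.inv_mem hv)
    have hwx : w = x * (v * (a * v * a⁻¹))⁻¹ := by
      rw [hw, hxeq, hvv'']
      group
    have hwY : w ∈ Y := by
      rw [hwx]
      exact Y.mul_mem hxY (Y.inv_mem (hJY (hgenJ v hv)))
    -- the normal subgroup (Y ⊓ L) of L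
    let N : Subgroup L := (Y ⊓ L).subgroupOf L
    haveI hNn : N.Normal := by
      constructor
      intro n hn g
      rw [Subgroup.mem_subgroupOf] at hn ⊢
      obtain ⟨hnY, hnL⟩ := hn
      refine ⟨?_, L.mul_mem (L.mul_mem g.2 hnL) (L.inv_mem g.2)⟩
      -- conjugation by g equals conjugation by g * (a g a⁻¹)
      have hg' := hmemL' g g.2
      have h1 : (a * (g : H) * a⁻¹) * (n : H) = (n : H) * (a * (g : H) * a⁻¹) := hcomm n hnL _ hg'
      have h2 : ((g * n * g⁻¹ : L) : H) =
          ((g : H) * (a * (g : H) * a⁻¹)) * (n : H) * ((g : H) * (a * (g : H) * a⁻¹))⁻¹ := by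
        show (g : H) * (n : H) * (g : H)⁻¹ = _
        calc (g : H) * (n : H) * (g : H)⁻¹
            = (g : H) * ((n : H) * (a * (g : H) * a⁻¹)) * (a * (g : H) * a⁻¹)⁻¹ * (g : H)⁻¹ := by group
          _ = (g : H) * ((a * (g : H) * a⁻¹) * (n : H)) * (a * (g : H) * a⁻¹)⁻¹ * (g : H)⁻¹ := by rw [h1]
          _ = _ := by group
      rw [h2]
      exact Y.mul_mem (Y.mul_mem (hJY (hgenJ g g.2)) hnY) (Y.inv_mem (hJY (hgenJ g g.2)))
    rcases Helper21.IsQuasisimple.normal_eq_top_or_le_center hL.2 N with hN | hN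
    · -- L ≤ Y
      have hLY : L ≤ Y := by
        intro l hl
        have : (⟨l, hl⟩ : L) ∈ N := by rw [hN]; exact Subgroup.mem_top _
        rw [Subgroup.mem_subgroupOf] at this
        exact this.1
      have hL'Y : L' ≤ Y := by
        rintro _ ⟨l, hl, rfl⟩
        show a * l * a⁻¹ ∈ Y
        have : a * l * a⁻¹ = l⁻¹ * (l * (a * l * a⁻¹)) := by group
        rw [this]
        exact Y.mul_mem (Y.inv_mem (hLY hl)) (hJY (hgenJ l hl))
      exact sup_le hLY hL'Y
    · -- w is central in M, contradiction
      exfalso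
      apply hxJ
      have hwN : (⟨w, hwL⟩ : L) ∈ N := by
        rw [Subgroup.mem_subgroupOf]
        exact ⟨hwY, hwL⟩
      have hwc := hN hwN
      rw [Subgroup.mem_center_iff] at hwc
      have hwZ : w ∈ M ⊓ Subgroup.centralizer ((M : Subgroup H) : Set H) := by
        refine Subgroup.mem_inf.mpr ⟨hLM hwL, ?_⟩
        -- the centralizer of w contains L and L'
        have hle : M ≤ Subgroup.centralizer ({w} : Set H) := by
          apply sup_le
          · intro l hl
            rw [Subgroup.mem_centralizer_iff]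
            intro y hy
            rw [Set.mem_singleton_iff] at hy
            rw [hy]
            have := hwc ⟨l, hl⟩
            have h3 := congrArg Subtype.val this
            exact h3.symm
          · intro l' hl'
            rw [Subgroup.mem_centralizer_iff]
            intro y hy
            rw [Set.mem_singleton_iff] at hy
            rw [hy]
            exact (hcomm w hwL l' hl').symm
        rw [Subgroup.mem_centralizer_iff]
        intro m hm
        have := hle hm
        rw [Subgroup.mem_centralizer_iff] at this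
        exact (this w rfl).symm
      have hxw : x = (v * (a * v * a⁻¹)) * w := by
        rw [hw, hxeq, hvv'']
        -- u v' = v v' u v⁻¹ : uses commutation
        have h1 : v' * u = u * v' := hcomm u hu v' (hvv'' ▸ hmemL' v hv)
        have h2 : v' * v⁻¹ = v⁻¹ * v' := hcomm v⁻¹ (L.inv_mem hv) v' (hvv'' ▸ hmemL' v hv)
        have hwc' := hwc ⟨v, hv⟩
        have h3 : v * (u * v⁻¹) = (u * v⁻¹) * v := by
          have := congrArg Subtype.val hwc'
          exact this
        calc u * v' = (u * v⁻¹) * v * v' := by group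
          _ = v * (u * v⁻¹) * v' := by rw [h3]
          _ = v * u * (v⁻¹ * v') := by group
          _ = v * u * (v' * v⁻¹) := by rw [h2]
          _ = v * (u * v') * v⁻¹ := by group
          _ = v * (v' * u) * v⁻¹ := by rw [h1]
          _ = v * v' * (u * v⁻¹) := by group
      rw [hxw]
      exact Subgroup.mul_mem_sup (hgenJ v hv) hwZ

end Cfsg.Agent.S1921
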