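import Cfsg.Statements.S1922
import Cfsg.Agent.Helper32.UniqueFixed
import Cfsg.Agent.Helper4.SylowTwo

set_option autoImplicit false
open Cfsg

namespace Cfsg.Agent.S1922

open Cfsg.Agent.Helper32

/-- Let z be an involution of a finite group G and H a proper subgroup such that z lies in gHg⁻¹ exactly when g ∈ H. Then the following are equivalent: (1) for every conjugate t ≠ z of z commuting with z, the product zt lies in gHg⁻¹ exactly when g ∈ H; (2) z lies in the centre of some Sylow 2-subgroup of G, and for every conjugate t ≠ z of z commuting with z, the centralizer of zt is contained in H. -/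
theorem result {G : Type*} [Group G] [Finite G] (z : G) (hz : orderOf z = 2) (H : Subgroup G) (hH : H ≠ ⊤)
    (h0 : ∀ g : G, z ∈ H.map (MulAut.conj g).toMonoidHom ↔ g ∈ H) :
    (∀ t : G, IsConj z t → t ≠ z → t * z = z * t → ∀ g : G, z * t ∈ H.map (MulAut.conj g).toMonoidHom ↔ g ∈ H) ↔
      ((∃ P : Sylow 2 G, z ∈ (Subgroup.center ↥(P : Subgroup G)).map (P : Subgroup G).subtype) ∧
        ∀ t : G, IsConj z t → t ≠ z → t * z = z * t → Subgroup.centralizer ({z * t} : Set G) ≤ H) := by
  classical
  have hzz : z * z = 1 := by rw [← pow_two, ← hz, pow_orderOf_eq_one]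
  have hz1 : z ≠ 1 := by
    intro h
    rw [h, orderOf_one] at hz
    omega
  have h0' : ∀ g : G, g⁻¹ * z * g ∈ H ↔ g ∈ H := by
    intro g
    rw [← mem_map_conj_iff]; exact h0 g
  have hzH : z ∈ H := by
    have := (h0' 1).mpr H.one_mem
    simpa using this
  have hcent : ∀ d : G, d * z = z * d → d ∈ H := by
    intro d hd
    apply (h0' d).mp
    have : d⁻¹ * z * d = z := by rw [mul_assoc, ← hd, ← mul_assoc, inv_mul_cancel, one_mul]
    rw [this]; exact hzH
  constructor
  · intro h1
    have hU : UFix z H :=
      { sq := hzz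
        ne_one := hz1
        fix := h0'
        prod := by
          intro t ht hne hc g
          rw [← mem_map_conj_iff]; exact h1 t ht hne hc g }
    refine ⟨?_, ?_⟩
    · haveI : Fintype G := Fintype.ofFinite G
      have hodd := hU.odd_card_isConj hH
      apply exists_sylow_center_of_odd_card_isConj z hzz
      rw [Nat.card_eq_fintype_card, Fintype.card_subtype]
      intro hdvd
      have : (Finset.univ.filter (fun b : G => IsConj z b)).card % 2 = 0 := Nat.mod_eq_zero_of_dvd hdvd
      have h2 : (Finset.univ.filter (fun b : G => IsConj z b)).card % 2 = 1 := by convert hodd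
      omega
    · intro t ht hne hc d hd
      rw [Subgroup.mem_centralizer_singleton_iff] at hd
      apply (hU.prod t ht hne hc d).mp
      have : d⁻¹ * (z * t) * d = z * t := by
        rw [mul_assoc, ← hd, ← mul_assoc, inv_mul_cancel, one_mul]
      rw [this]
      exact H.mul_mem hzH (hcent t hc)
  · rintro ⟨⟨P, hzP⟩, h2⟩ t ht hne hc g
    rw [mem_map_conj_iff]
    have htH : t ∈ H := hcent t hc
    constructor
    · intro hy
      -- `z` is central in `P`
      obtain ⟨z', hz'c, hz'z⟩ := hzP
      have hzPm : z ∈ (P : Subgroup G) := by rw [← hz'z]; exact z'.2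
      have hPcomm : ∀ w ∈ (P : Subgroup G), w * z = z * w := by
        intro w hw
        have := (Subgroup.mem_center_iff.mp hz'c) ⟨w, hw⟩
        have h3 : w * (z' : G) = (z' : G) * w := congrArg Subtype.val this
        have h4 : (z' : G) = z := hz'z
        rw [h4] at h3
        exact h3
      have hPH : (P : Subgroup G) ≤ H := fun w hw => hcent w (hPcomm w hw)
      set y : G := g⁻¹ * (z * t) * g with hy_def
      have hzt2 : (z * t) * (z * t) = 1 := by
        have htt : t * t = 1 := by
          obtain ⟨c, rfl⟩ := isConj_iff.mp ht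
          have : (c * z * c⁻¹) * (c * z * c⁻¹) = c * (z * z) * c⁻¹ := by group
          rw [this, hzz]; group
        calc (z * t) * (z * t) = z * (t * z) * t := by group
          _ = z * (z * t) * t := by rw [hc]
          _ = (z * z) * (t * t) := by group
          _ = 1 := by rw [hzz, htt, one_mul]
      have hyy : y * y = 1 := by
        have : y * y = g⁻¹ * ((z * t) * (z * t)) * g := by rw [hy_def]; group
        rw [this, hzt2]; group
      -- conjugate `y` into `P` inside `H`
      have hpg : IsPGroup 2 (Subgroup.zpowers (⟨y, hy⟩ : H)) := by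
        rintro ⟨w, hw⟩
        obtain ⟨n, rfl⟩ := Subgroup.mem_zpowers_iff.mp hw
        refine ⟨1, Subtype.ext ?_⟩
        have hy2 : (⟨y, hy⟩ : H) ^ 2 = 1 := by
          apply Subtype.ext
          simp only [Subgroup.coe_pow, Subgroup.coe_one]
          rw [pow_two]; exact hyy
        have : ((⟨y, hy⟩ : H) ^ n) ^ 2 = 1 := by
          rw [← zpow_natCast, ← zpow_mul, mul_comm, zpow_mul, zpow_natCast, hy2, one_zpow]
        simpa using this
      obtain ⟨h, hh⟩ := Cfsg.Agent.Helper4.exists_conj_mem_sylow (P.subtype hPH) _ hpg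
      have hmem := hh ⟨y, hy⟩ (Subgroup.mem_zpowers _)
      have hmem' : (h : G) * y * (h : G)⁻¹ ∈ (P : Subgroup G) := by
        have : (h * ⟨y, hy⟩ * h⁻¹ : H) ∈ ((P : Subgroup G).subgroupOf H) := hmem
        rw [Subgroup.mem_subgroupOf] at this
        simpa using this
      -- `k = g h⁻¹`
      set k : G := g * (h : G)⁻¹ with hk_def
      have hw : k⁻¹ * (z * t) * k ∈ (P : Subgroup G) := by
        have : k⁻¹ * (z * t) * k = (h : G) * y * (h : G)⁻¹ := by rw [hk_def, hy_def]; group
        rw [this]; exact hmem'
      have hcomm := hPcomm _ hw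
      have hkz : k * z * k⁻¹ ∈ Subgroup.centralizer ({z * t} : Set G) := by
        rw [Subgroup.mem_centralizer_singleton_iff]
        calc k * z * k⁻¹ * (z * t) = k * (z * (k⁻¹ * (z * t) * k)) * k⁻¹ := by group
          _ = k * ((k⁻¹ * (z * t) * k) * z) * k⁻¹ := by rw [hcomm]
          _ = z * t * (k * z * k⁻¹) := by group
      have hkH : k * z * k⁻¹ ∈ H := h2 t ht hne hc hkz
      have hk' : k⁻¹ ∈ H := by
        apply (h0' k⁻¹).mp
        rw [inv_inv]; exact hkH
      have : g = k⁻¹⁻¹ * (h : G) := by rw [hk_def]; group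
      rw [this]
      exact H.mul_mem (H.inv_mem hk') h.2
    · intro hg
      exact H.mul_mem (H.mul_mem (H.inv_mem hg) (H.mul_mem hzH htH)) hg

end Cfsg.Agent.S1922
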