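import Mathlib
import Cfsg.Prelude.Def_Transfer
import Cfsg.Agent.Lib.Cores
import Cfsg.Agent.Helper55.ParityTransfer

set_option autoImplicit false

namespace Cfsg.Agent.S1924

open Cfsg.Agent.Helper55.ParityTransfer

/-- `|H| * |K : H| = |K|` for `H ≤ K`. -/
theorem card_mul_relIndex' {G : Type*} [Group G] {H K : Subgroup G} (h : H ≤ K) :
    Nat.card H * H.relIndex K = Nat.card K := by
  have := Subgroup.relIndex_mul_relIndex (⊥ : Subgroup G) H K bot_le h
  rwa [Subgroup.relIndex_bot_left, Subgroup.relIndex_bot_left] at this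

/-- In a dihedral group of order `2n ≥ 4`, every element outside a cyclic subgroup of index `2`
is an involution. -/
theorem orderOf_eq_two_of_not_mem {D : Type*} [Group D] (n : ℕ) (hn : 2 ≤ n)
    (e : D ≃* DihedralGroup n) (C : Subgroup D) (hC : IsCyclic C) (hCi : C.index = 2) (x : D)
    (hx : x ∉ C) : orderOf x = 2 := by
  have : NeZero n := ⟨by omega⟩
  have : Finite D := Finite.of_equiv _ e.symm.toEquiv
  have hD : Nat.card D = 2 * n := by rw [Nat.card_congr e.toEquiv, DihedralGroup.nat_card]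
  have hCn : Nat.card C = n := by
    have := C.card_mul_index
    rw [hCi, hD] at this
    omega
  obtain ⟨g, hg⟩ := hC.exists_generator
  have hgo : orderOf g = n := by
    rw [orderOf_eq_card_of_forall_mem_zpowers hg, hCn]
  have hgo' : orderOf (e (g : D)) = n := by
    rw [MulEquiv.orderOf_eq, Subgroup.orderOf_coe, hgo]
  have hxo : orderOf x = orderOf (e x) := (MulEquiv.orderOf_eq e x).symm
  rcases hex : e x with i | i
  · -- rotation: contradiction or n = 2
    rcases heg : e (g : D) with j | j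
    · exfalso
      apply hx
      rw [heg] at hgo'
      -- zpowers (r j) = zpowers (r 1)
      have hle : Subgroup.zpowers (DihedralGroup.r j) ≤ Subgroup.zpowers (DihedralGroup.r (1 : ZMod n)) := by
        rw [Subgroup.zpowers_le]
        refine ⟨(j.val : ℤ), ?_⟩
        show DihedralGroup.r (1 : ZMod n) ^ (j.val : ℤ) = DihedralGroup.r j
        rw [zpow_natCast, DihedralGroup.r_one_pow, ZMod.natCast_zmod_val]
      have hcard : Nat.card (Subgroup.zpowers (DihedralGroup.r (1 : ZMod n))) ≤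
          Nat.card (Subgroup.zpowers (DihedralGroup.r j)) := by
        rw [Nat.card_zpowers, Nat.card_zpowers, hgo', DihedralGroup.orderOf_r_one]
      have heq := Subgroup.eq_of_le_of_card_ge hle hcard
      have hmem : DihedralGroup.r i ∈ Subgroup.zpowers (DihedralGroup.r j) := by
        rw [heq]
        refine ⟨(i.val : ℤ), ?_⟩
        show DihedralGroup.r (1 : ZMod n) ^ (i.val : ℤ) = DihedralGroup.r i
        rw [zpow_natCast, DihedralGroup.r_one_pow, ZMod.natCast_zmod_val]
      obtain ⟨z, hz⟩ := hmem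
      have hz' : e ((g : D) ^ z) = e x := by
        rw [map_zpow, heg, hex]; exact hz
      have := e.injective hz'
      rw [← this]
      exact C.zpow_mem g.2 z
    · -- generator is a reflection: n = 2
      rw [heg, DihedralGroup.orderOf_sr] at hgo'
      subst hgo'
      rw [hxo, hex]
      have hi : i ≠ 0 := by
        rintro rfl
        apply hx
        have : e x = e 1 := by rw [hex, map_one]; rfl
        rw [e.injective this]
        exact C.one_mem
      have hi1 : i = 1 := by
        have hdec : ∀ i : ZMod 2, i ≠ 0 → i = 1 := by decide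
        exact hdec i hi
      rw [hi1, DihedralGroup.orderOf_r_one]
  · rw [hxo, hex, DihedralGroup.orderOf_sr]

/-- Two `2`-subgroups of odd relative index in `L` have the same order. -/
theorem card_eq_of_odd_relIndex {G : Type*} [Group G] [Finite G] (L T T' : Subgroup G)
    (hTL : T ≤ L) (hT'L : T' ≤ L) (hT : IsPGroup 2 T) (hT' : IsPGroup 2 T')
    (h : ¬ 2 ∣ T.relIndex L) (h' : ¬ 2 ∣ T'.relIndex L) : Nat.card T' = Nat.card T := by
  obtain ⟨a, ha⟩ := IsPGroup.iff_card.mp hT
  obtain ⟨b, hb⟩ := IsPGroup.iff_card.mp hT'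
  have e1 := card_mul_relIndex' hTL
  have e2 := card_mul_relIndex' hT'L
  rw [ha] at e1
  rw [hb] at e2
  have hc1 : Nat.Coprime (2 ^ a) (T'.relIndex L) :=
    Nat.Coprime.pow_left a ((Nat.Prime.coprime_iff_not_dvd Nat.prime_two).mpr h')
  have hc2 : Nat.Coprime (2 ^ b) (T.relIndex L) :=
    Nat.Coprime.pow_left b ((Nat.Prime.coprime_iff_not_dvd Nat.prime_two).mpr h)
  have d1 : 2 ^ a ∣ 2 ^ b := by
    apply hc1.dvd_of_dvd_mul_right
    rw [e2, ← e1]; exact dvd_mul_right _ _
  have d2 : 2 ^ b ∣ 2 ^ a := by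
    apply hc2.dvd_of_dvd_mul_right
    rw [e1, ← e2]; exact dvd_mul_right _ _
  rw [ha, hb]
  exact Nat.dvd_antisymm d2 d1

theorem result {G : Type*} [Group G] [Finite G] (L T S D C : Subgroup G) (hL : Cfsg.pResidual 2 ↥L = ⊤)
    (hTL : T ≤ L) (hT2 : IsPGroup 2 T) (hTsyl : ¬ 2 ∣ T.relIndex L)
    (hS2 : IsPGroup 2 S) (hSsyl : ¬ 2 ∣ S.index) (hTS : T ≤ S)
    (hDS : D ≤ S) (hDih : ∃ n : ℕ, 2 ≤ n ∧ Nonempty (↥D ≃* DihedralGroup n)) (hDT : D ⊓ T = ⊥) (hTD : T ⊔ D = S) (hTDc : Nat.card T * Nat.card D = Nat.card S)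
    (hCD : C ≤ D) (hC : IsCyclic ↥C) (hCi : C.relIndex D = 2)
    (h1 : ∀ x ∈ D, x ∉ C → orderOf x = 2 → ∀ g : G, g * x * g⁻¹ ∈ T ⊔ C → False)
    (h2 : ∀ c ∈ C, orderOf c = 2 → ∀ g : G, g * c * g⁻¹ ∈ T → False) :
    ∃ K : Subgroup G, K.Normal ∧ K ⊔ D = ⊤ ∧
      ∀ T' : Subgroup G, T' ≤ L → IsPGroup 2 T' → ¬ 2 ∣ T'.relIndex L → T' ≤ K ∧ ¬ 2 ∣ T'.relIndex K := by
  classical
  have : Fact (Nat.Prime 2) := ⟨Nat.prime_two⟩
  set K : Subgroup G := Cfsg.pResidual 2 G with hK
  have hKn : K.Normal := Cfsg.Agent.Lib.pResidual_normal 2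
  have hLK : L ≤ K := le_pResidual_of_pResidual_eq_top 2 L hL
  have hTK : T ≤ K := hTL.trans hLK
  have hSodd : Odd S.index := Nat.not_even_iff_odd.mp (fun h => hSsyl h.two_dvd)
  -- K ⊔ S = ⊤
  have hKS : K ⊔ S = ⊤ := by
    obtain ⟨a, ha⟩ := Cfsg.Agent.Lib.index_pResidual (G := G) 2
    rw [← Subgroup.index_eq_one]
    have d1 : (K ⊔ S).index ∣ 2 ^ a := by rw [← ha]; exact Subgroup.index_dvd_of_le le_sup_left
    have d2 : (K ⊔ S).index ∣ S.index := Subgroup.index_dvd_of_le le_sup_right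
    obtain ⟨b, _, hb⟩ := (Nat.dvd_prime_pow Nat.prime_two).mp d1
    rcases Nat.eq_zero_or_pos b with rfl | hbpos
    · rw [hb, pow_zero]
    · exfalso
      apply hSsyl
      refine dvd_trans ?_ d2
      rw [hb]; exact dvd_pow_self 2 hbpos.ne'
  have hKD : K ⊔ D = ⊤ := by
    rw [eq_top_iff, ← hKS, ← hTD]
    refine sup_le le_sup_left (sup_le (hTK.trans le_sup_left) le_sup_right)
  -- elements of D outside C are involutions
  have hinv : ∀ x ∈ D, x ∉ C → orderOf x = 2 := by
    intro x hxD hxC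
    obtain ⟨n, hn, ⟨e⟩⟩ := hDih
    have hcyc : IsCyclic (C.subgroupOf D) :=
      (Subgroup.subgroupOfEquivOfLe hCD).symm.isCyclic.mp hC |> fun h => h
    have := orderOf_eq_two_of_not_mem n hn e (C.subgroupOf D) hcyc hCi ⟨x, hxD⟩
      (by rw [Subgroup.mem_subgroupOf]; exact hxC)
    rwa [Subgroup.orderOf_mk] at this
  -- cardinalities
  have hCcard : Nat.card C * 2 = Nat.card D := by
    have := card_mul_relIndex' hCD
    rwa [hCi] at this
  have hTrelS : T.relIndex S = Nat.card D := by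
    have h3 := card_mul_relIndex' hTS
    rw [← hTDc] at h3
    have hpos : 0 < Nat.card T := Nat.card_pos
    exact Nat.eq_of_mul_eq_mul_left hpos h3
  have hKidx0 : K.index ≠ 0 := Subgroup.index_ne_zero_of_finite
  -- key index formula
  have hkey : T.relIndex K = Nat.card ↥(K ⊓ D) * S.index := by
    have e1 : Nat.card ↥(K ⊓ D) * K.index = Nat.card D := by
      have h3 : K.relIndex D = K.index := by
        rw [← Subgroup.relIndex_sup_left D K, hKD, Subgroup.relIndex_top_right]
      rw [← h3, ← Subgroup.inf_relIndex_right]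
      exact card_mul_relIndex' inf_le_right
    have e2 : T.relIndex K * K.index = T.index := Subgroup.relIndex_mul_index hTK
    have e3 : T.relIndex S * S.index = T.index := Subgroup.relIndex_mul_index hTS
    rw [hTrelS, ← e1] at e3
    have e4 : T.relIndex K * K.index = (Nat.card ↥(K ⊓ D) * S.index) * K.index := by
      rw [e2, ← e3]; ring
    exact Nat.eq_of_mul_eq_mul_right (Nat.pos_of_ne_zero hKidx0) e4
  -- Sub-claim A: K ⊓ D ≤ C
  have hA : K ⊓ D ≤ C := by
    intro x hx
    rw [Subgroup.mem_inf] at hx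
    obtain ⟨hxK, hxD⟩ := hx
    by_contra hxC
    have hxo := hinv x hxD hxC
    have hxQ : x ∉ T ⊔ C := by
      intro hxQ
      apply h1 x hxD hxC hxo 1
      simpa using hxQ
    have hQS : T ⊔ C ≤ S := sup_le hTS (hCD.trans hDS)
    -- |T||C| ≤ |T ⊔ C|
    have hinj : Nat.card T * Nat.card C ≤ Nat.card ↥(T ⊔ C) := by
      rw [← Nat.card_prod]
      refine Nat.card_le_card_of_injective
        (fun p : T × C => (⟨(p.1 : G) * (p.2 : G),
          Subgroup.mul_mem _ (Subgroup.mem_sup_left p.1.2) (Subgroup.mem_sup_right p.2.2)⟩ : ↥(T ⊔ C))) ?_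
      rintro ⟨t, c⟩ ⟨t', c'⟩ hp
      simp only [Subtype.mk.injEq] at hp
      have h4 : (t' : G)⁻¹ * t = c' * (c : G)⁻¹ := by
        calc (t' : G)⁻¹ * t = (t' : G)⁻¹ * (t * c) * (c : G)⁻¹ := by group
          _ = (t' : G)⁻¹ * (t' * c') * (c : G)⁻¹ := by rw [hp]
          _ = c' * (c : G)⁻¹ := by group
      have h5 : (t' : G)⁻¹ * t ∈ D ⊓ T := by
        rw [Subgroup.mem_inf]
        refine ⟨?_, T.mul_mem (T.inv_mem t'.2) t.2⟩
        rw [h4]; exact D.mul_mem (hCD c'.2) (D.inv_mem (hCD c.2))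
      rw [hDT, Subgroup.mem_bot] at h5
      have h6 : (t : G) = t' := by
        have : (t : G) = t' * ((t' : G)⁻¹ * t) := by group
        rw [this, h5, mul_one]
      have h7 : (c : G) = c' := by
        rw [h6] at hp
        exact mul_left_cancel hp
      exact Prod.ext (Subtype.ext h6) (Subtype.ext h7)
    have hQrel : (T ⊔ C).relIndex S = 2 := by
      have e5 := card_mul_relIndex' hQS
      have hne1 : (T ⊔ C).relIndex S ≠ 1 := by
        rw [Ne, Subgroup.relIndex_eq_one]
        intro hle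
        exact hxQ (hle (hDS hxD))
      have hne0 : (T ⊔ C).relIndex S ≠ 0 := by
        intro h0
        rw [h0, mul_zero] at e5
        exact (Nat.card_pos (α := S)).ne e5
      have hle2 : (T ⊔ C).relIndex S ≤ 2 := by
        by_contra hgt
        push Not at hgt
        have h8 : Nat.card ↥(T ⊔ C) * 3 ≤ Nat.card S := by
          rw [← e5]; exact Nat.mul_le_mul_left _ hgt
        have h9 : Nat.card S = Nat.card T * Nat.card C * 2 := by
          rw [← hTDc, ← hCcard]; ring
        have hpos : 0 < Nat.card ↥(T ⊔ C) := Nat.card_pos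
        nlinarith
      omega
    have hQidx : (T ⊔ C).index = 2 ^ (0 + 1) * S.index := by
      rw [← Subgroup.relIndex_mul_index hQS, hQrel]; norm_num
    have := not_mem_pResidual (T ⊔ C) x 0 S.index (by simpa using hxo) hQidx hSodd
      (by
        intro g hg
        apply h1 x hxD hxC hxo g
        simpa using hg)
    exact this hxK
  -- Sub-claim B: K ⊓ D = ⊥
  have hB : K ⊓ D = ⊥ := by
    by_contra hne
    have hEcyc : IsCyclic ↥(K ⊓ D) := by
      have := hC
      exact Subgroup.isCyclic_of_le hA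
    have hE2 : IsPGroup 2 ↥(K ⊓ D) := hS2.to_le (inf_le_right.trans hDS)
    obtain ⟨j, hj⟩ := IsPGroup.iff_card.mp hE2
    have hjpos : 0 < j := by
      rcases Nat.eq_zero_or_pos j with rfl | h
      · exfalso; apply hne
        rw [pow_zero] at hj
        exact Subgroup.eq_bot_of_card_eq _ hj
      · exact h
    obtain ⟨k, rfl⟩ : ∃ k, j = k + 1 := ⟨j - 1, by omega⟩
    obtain ⟨g, hg⟩ := hEcyc.exists_generator
    have hgo : orderOf g = 2 ^ (k + 1) := by
      rw [orderOf_eq_card_of_forall_mem_zpowers hg, hj]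
    have hgK : (g : G) ∈ K := (Subgroup.mem_inf.mp g.2).1
    have hgC : (g : G) ∈ C := hA g.2
    have hgo' : orderOf (g : G) = 2 ^ (k + 1) := by rw [Subgroup.orderOf_coe, hgo]
    set c' : ↥K := ⟨(g : G), hgK⟩ with hc'
    have hc'o : orderOf c' = 2 ^ (k + 1) := by rw [hc', Subgroup.orderOf_mk, hgo']
    have hidx : (T.subgroupOf K).index = 2 ^ (k + 1) * S.index := by
      show T.relIndex K = _
      rw [hkey, hj]
    have hzo : orderOf ((g : G) ^ (2 ^ k)) = 2 := by
      rw [orderOf_pow_of_dvd (by positivity) (by rw [hgo']; exact pow_dvd_pow 2 (Nat.le_succ k)),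
        hgo', pow_succ, Nat.mul_div_cancel_left _ (by positivity)]
    have hnot := not_mem_pResidual (T.subgroupOf K) c' k S.index hc'o hidx hSodd
      (by
        intro x hx
        rw [Subgroup.mem_subgroupOf] at hx
        apply h2 ((g : G) ^ (2 ^ k)) (C.pow_mem hgC _) hzo (x : G)
        simpa [hc'] using hx)
    apply hnot
    have htop : Cfsg.pResidual 2 ↥K = ⊤ := pResidual_pResidual_eq_top 2
    rw [htop]
    exact Subgroup.mem_top _
  -- conclusion
  refine ⟨K, hKn, hKD, ?_⟩
  intro T' hT'L hT'2 hT'syl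
  have hT'K : T' ≤ K := hT'L.trans hLK
  refine ⟨hT'K, ?_⟩
  have hcard := card_eq_of_odd_relIndex L T T' hTL hT'L hT2 hT'2 hTsyl hT'syl
  have e1 := card_mul_relIndex' hTK
  have e2 := card_mul_relIndex' hT'K
  rw [hcard, ← e1] at e2
  have hpos : 0 < Nat.card T := Nat.card_pos
  have e3 : T'.relIndex K = T.relIndex K := Nat.eq_of_mul_eq_mul_left hpos e2
  rw [e3, hkey, hB]
  simp only [Subgroup.card_bot, one_mul]
  exact hSsyl

end Cfsg.Agent.S1924
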