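import Cfsg.Statements.S1939

set_option autoImplicit false
open Cfsg

namespace Cfsg.Agent.S1939

open scoped Pointwise

/-- Let S be a Sylow p-subgroup of the finite group G and a an element of S that is the only G-conjugate of a lying in S. Then every power of a has the same property: for every n, the only G-conjugate of a^n lying in S is a^n. -/
theorem result {G : Type*} [Group G] [Finite G] {p : ℕ} [Fact p.Prime] (S : Sylow p G) (a : G)
    (haS : a ∈ (S : Subgroup G)) (hwc : ∀ g : G, g * a * g⁻¹ ∈ (S : Subgroup G) → g * a * g⁻¹ = a) (n : ℕ) :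
    ∀ g : G, g * a ^ n * g⁻¹ ∈ (S : Subgroup G) → g * a ^ n * g⁻¹ = a ^ n := by
  intro g hg
  set b := a ^ n with hb
  set d := g * b * g⁻¹ with hd
  -- every element of S commutes with a
  have hSa : ∀ s ∈ (S : Subgroup G), s * a = a * s := by
    intro s hs
    have h1 : s * a * s⁻¹ ∈ (S : Subgroup G) :=
      (S : Subgroup G).mul_mem ((S : Subgroup G).mul_mem hs haS) ((S : Subgroup G).inv_mem hs)
    have h2 := hwc s h1
    calc s * a = s * a * s⁻¹ * s := by group
      _ = a * s := by rw [h2]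
  -- every element commuting with a commutes with b
  have hcomm_pow : ∀ s : G, s * a = a * s → s * b = b * s := by
    intro s hs
    have : Commute s a := hs
    exact (this.pow_right n)
  let C : Subgroup G := Subgroup.centralizer ({d} : Set G)
  have memC : ∀ x : G, x ∈ C ↔ d * x = x * d := by
    intro x
    simp only [C, Subgroup.mem_centralizer_iff, Set.mem_singleton_iff, forall_eq]
  -- a ∈ C
  have haC : a ∈ C := by
    rw [memC]
    exact hSa d hg
  -- g • S ≤ C
  have hgS : ((g • S : Sylow p G) : Subgroup G) ≤ C := by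
    intro x hx
    rw [Sylow.coe_subgroup_smul] at hx
    rw [Subgroup.mem_pointwise_smul_iff_inv_smul_mem] at hx
    -- hx : g⁻¹ • x ∈ S
    have hx' : g⁻¹ * x * g ∈ (S : Subgroup G) := by
      rw [MulAut.smul_def, MulAut.conj_inv_apply] at hx
      exact hx
    have h1 := hcomm_pow _ (hSa _ hx')
    rw [memC]
    -- d * x = x * d where d = g b g⁻¹
    have : g * (g⁻¹ * x * g * b) * g⁻¹ = g * (b * (g⁻¹ * x * g)) * g⁻¹ := by rw [h1]
    calc d * x = g * (b * (g⁻¹ * x * g)) * g⁻¹ := by rw [hd]; group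
      _ = g * (g⁻¹ * x * g * b) * g⁻¹ := this.symm
      _ = x * d := by rw [hd]; group
  let Q : Sylow p C := (g • S).subtype hgS
  -- zpowers of a in C is a p-group
  let a' : C := ⟨a, haC⟩
  have hpa : IsPGroup p (Subgroup.zpowers a') := by
    have hS : IsPGroup p (S : Subgroup G) := S.isPGroup'
    have hle : (Subgroup.zpowers a').map C.subtype ≤ (S : Subgroup G) := by
      rw [MonoidHom.map_zpowers]
      rw [Subgroup.zpowers_le]
      exact haS
    have h2 : IsPGroup p ((Subgroup.zpowers a').map C.subtype) := hS.to_le hle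
    exact IsPGroup.of_injective h2 ((C.subtype).subgroupMap (Subgroup.zpowers a'))
      (by
        intro x y hxy
        have := congrArg Subtype.val hxy
        simp only [MonoidHom.subgroupMap] at this
        exact Subtype.ext (C.subtype_injective this))
  obtain ⟨P, hP⟩ := hpa.exists_le_sylow
  obtain ⟨c, hc⟩ := MulAction.exists_smul_eq C Q P
  have haP : a' ∈ (P : Subgroup C) := hP (Subgroup.mem_zpowers a')
  rw [← hc, Sylow.coe_subgroup_smul, Subgroup.mem_pointwise_smul_iff_inv_smul_mem] at haP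
  -- haP : c⁻¹ • a' ∈ Q
  have h3 : ((c⁻¹ * a' * c : C) : G) ∈ ((g • S : Sylow p G) : Subgroup G) := by
    have : (c⁻¹ * a' * c : C) ∈ (Q : Subgroup C) := by
      rw [MulAut.smul_def, MulAut.conj_inv_apply] at haP
      exact haP
    exact this
  rw [Sylow.coe_subgroup_smul, Subgroup.mem_pointwise_smul_iff_inv_smul_mem] at h3
  have h4 : g⁻¹ * ((c : G)⁻¹ * a * c) * g ∈ (S : Subgroup G) := by
    rw [MulAut.smul_def, MulAut.conj_inv_apply] at h3
    exact h3
  have h5 : (g⁻¹ * (c : G)⁻¹) * a * (g⁻¹ * (c : G)⁻¹)⁻¹ ∈ (S : Subgroup G) := by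
    have : (g⁻¹ * (c : G)⁻¹) * a * (g⁻¹ * (c : G)⁻¹)⁻¹ = g⁻¹ * ((c : G)⁻¹ * a * c) * g := by group
    rw [this]; exact h4
  have h6 := hwc _ h5
  -- so g⁻¹ c⁻¹ commutes with a, hence with b
  have h7 : (g⁻¹ * (c : G)⁻¹) * a = a * (g⁻¹ * (c : G)⁻¹) := by
    calc (g⁻¹ * (c : G)⁻¹) * a = (g⁻¹ * (c : G)⁻¹) * a * (g⁻¹ * (c : G)⁻¹)⁻¹ * (g⁻¹ * (c : G)⁻¹) := by group
      _ = a * (g⁻¹ * (c : G)⁻¹) := by rw [h6]
  have h8 := hcomm_pow _ h7
  -- c commutes with d
  have h9 : d * (c : G) = (c : G) * d := (memC c).1 c.2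
  -- conclude
  have h10 : (c : G) * d * (c : G)⁻¹ = b := by
    calc (c : G) * d * (c : G)⁻¹ = (g⁻¹ * (c : G)⁻¹)⁻¹ * b * (g⁻¹ * (c : G)⁻¹) := by rw [hd]; group
      _ = (g⁻¹ * (c : G)⁻¹)⁻¹ * (b * (g⁻¹ * (c : G)⁻¹)) := by group
      _ = (g⁻¹ * (c : G)⁻¹)⁻¹ * ((g⁻¹ * (c : G)⁻¹) * b) := by rw [h8]
      _ = b := by group
  calc d = d * (c : G) * (c : G)⁻¹ := by group
    _ = (c : G) * d * (c : G)⁻¹ := by rw [h9]
    _ = b := h10

end Cfsg.Agent.S1939
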