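import Cfsg.Statements.S1940

set_option autoImplicit false
open Cfsg

namespace Cfsg.Agent.S1940

/-- Let the finite group L act by automorphisms on the finite abelian group M, and let N be an L-invariant subgroup of M such that M/N is a p-group on which L acts trivially (every l • m lies in the coset mN). If every element of M is a product of an element of N and an element fixed by a Sylow p-subgroup T of L, then every element of M is a product of an element of N and an element fixed by all of L. -/
theorem result {L : Type*} [Group L] [Finite L] {M : Type*} [CommGroup M] [Finite M] [MulDistribMulAction L M]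
    {p : ℕ} [Fact p.Prime] (N : Subgroup M) (hN : ∀ (l : L) (m : M), m ∈ N → l • m ∈ N)
    (hquot : IsPGroup p (M ⧸ N)) (htriv : ∀ (l : L) (m : M), (l • m) * m⁻¹ ∈ N) (T : Sylow p L)
    (hT : ∀ m : M, ∃ n ∈ N, ∃ c : M, (∀ t ∈ (T : Subgroup L), t • c = c) ∧ m = n * c) :
    ∀ m : M, ∃ n ∈ N, ∃ c : M, (∀ l : L, l • c = c) ∧ m = n * c := by
  intro m
  obtain ⟨n, hn, c, hc, rfl⟩ := hT m
  classical
  haveI : Fintype (L ⧸ (T : Subgroup L)) := Fintype.ofFinite _
  let c' : M := ∏ q : L ⧸ (T : Subgroup L), (q.out • c)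
  have hout : ∀ (l : L) (q : L ⧸ (T : Subgroup L)), (l * q.out) • c = (l • q).out • c := by
    intro l q
    have h1 : ((l • q).out)⁻¹ * (l * q.out) ∈ (T : Subgroup L) := by
      rw [← QuotientGroup.eq]
      rw [QuotientGroup.out_eq']
      conv_lhs => rw [← QuotientGroup.out_eq' q]
      rfl
    have h2 := hc _ h1
    calc (l * q.out) • c = ((l • q).out * (((l • q).out)⁻¹ * (l * q.out))) • c := by
          congr 1; group
      _ = (l • q).out • ((((l • q).out)⁻¹ * (l * q.out)) • c) := mul_smul _ _ _
      _ = (l • q).out • c := by rw [h2]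
  have hfix : ∀ l : L, l • c' = c' := by
    intro l
    simp only [c']
    rw [Finset.smul_prod']
    simp_rw [← mul_smul, hout]
    exact Equiv.prod_comp (MulAction.toPerm l) (fun q : L ⧸ (T : Subgroup L) => q.out • c)
  -- the image of c' in M ⧸ N
  set k := Fintype.card (L ⧸ (T : Subgroup L)) with hk
  have hmk : ∀ (l : L) (x : M), (QuotientGroup.mk (l • x) : M ⧸ N) = QuotientGroup.mk x := by
    intro l x
    rw [QuotientGroup.eq]
    have := htriv l x
    have h3 : (l • x)⁻¹ * x = ((l • x) * x⁻¹)⁻¹ := by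
      rw [mul_inv_rev, inv_inv, mul_comm]
    rw [h3]
    exact N.inv_mem this
  have himg : (QuotientGroup.mk c' : M ⧸ N) = (QuotientGroup.mk c) ^ k := by
    simp only [c']
    rw [← QuotientGroup.mk'_apply, map_prod]
    simp only [QuotientGroup.mk'_apply, hmk]
    rw [Finset.prod_const, Finset.card_univ]
  -- k is coprime to p
  have hkp : (Nat.card (M ⧸ N)).Coprime k := by
    obtain ⟨j, hj⟩ := IsPGroup.iff_card.mp hquot
    rw [hj]
    apply Nat.Coprime.pow_left
    have h4 : ¬ p ∣ (T : Subgroup L).index := T.not_dvd_index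
    have h5 : (T : Subgroup L).index = k := by
      rw [hk, Subgroup.index, Nat.card_eq_fintype_card]
    rw [h5] at h4
    exact (Nat.Prime.coprime_iff_not_dvd (Fact.out)).mpr h4
  let z : ℤ := (Nat.card (M ⧸ N)).gcdB k
  refine ⟨n * c * (c' ^ z)⁻¹, ?_, c' ^ z, ?_, ?_⟩
  · have h6 : c * (c' ^ z)⁻¹ ∈ N := by
      rw [← QuotientGroup.eq_one_iff]
      rw [QuotientGroup.mk_mul, QuotientGroup.mk_inv, QuotientGroup.mk_zpow, himg]
      have h7 : ((QuotientGroup.mk c : M ⧸ N) ^ k) ^ z = QuotientGroup.mk c := by
        have := (powCoprime hkp).symm_apply_apply (QuotientGroup.mk c : M ⧸ N)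
        simpa [powCoprime] using this
      rw [h7, mul_inv_cancel]
    have : n * c * (c' ^ z)⁻¹ = n * (c * (c' ^ z)⁻¹) := by rw [mul_assoc]
    rw [this]
    exact N.mul_mem hn h6
  · intro l
    rw [smul_zpow', hfix]
  · rw [inv_mul_cancel_right]

end Cfsg.Agent.S1940
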