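-- Statement S1946: p-nilpotence iff a Sylow p-subgroup controls fusion of its elements of order p (4).
import Cfsg.Statements.S1946
import Cfsg.Agent.Helper78.PNilpotent
import Cfsg.Agent.Helper24.Omega

set_option autoImplicit false
open Cfsg
open scoped commutatorElement

namespace Cfsg.Agent.S1946

open Subgroup

/-- conjugation by `t` maps `closure S` into `X` if it maps `S` into `X` -/
theorem conj_closure_mem {G : Type*} [Group G] {S : Set G} {X : Subgroup G} {t : G}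
    (h : ∀ s ∈ S, t * s * t⁻¹ ∈ X) : ∀ y ∈ closure S, t * y * t⁻¹ ∈ X := by
  intro y hy
  induction hy using Subgroup.closure_induction with
  | mem s hs => exact h s hs
  | one => simp
  | mul a b _ _ ha hb =>
    have : t * (a * b) * t⁻¹ = (t * a * t⁻¹) * (t * b * t⁻¹) := by group
    rw [this]; exact X.mul_mem ha hb
  | inv a _ ha =>
    have : t * a⁻¹ * t⁻¹ = (t * a * t⁻¹)⁻¹ := by group
    rw [this]; exact X.inv_mem ha

theorem key {G : Type*} [Group G] [Finite G] {p : ℕ} [Fact p.Prime] (P : Sylow p G)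
    (hctrl : ∀ a ∈ (P : Subgroup G), (a ^ p = 1 ∨ (p = 2 ∧ a ^ 4 = 1)) → ∀ g : G,
      g * a * g⁻¹ ∈ (P : Subgroup G) → ∃ x ∈ (P : Subgroup G), g * a * g⁻¹ = x * a * x⁻¹)
    (Q : Subgroup G) (hQ : Q ≤ (P : Subgroup G)) (g : G) (hg : g ∈ normalizer (Q : Set G))
    (hcop : (orderOf g).Coprime p) :
    ∀ n : ℕ, ∀ x ∈ Q, (x ^ p = 1 ∨ (p = 2 ∧ x ^ 4 = 1)) →
      x ∈ (Subgroup.upperCentralSeries (P : Subgroup G) n).map (P : Subgroup G).subtype → g * x = x * g := by
  have hQp : IsPGroup p Q := P.2.to_le hQ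
  intro n
  induction n with
  | zero =>
    intro x _ _ hx
    rw [Subgroup.upperCentralSeries_zero, Subgroup.map_bot, Subgroup.mem_bot] at hx
    rw [hx, mul_one, one_mul]
  | succ n ih =>
    intro x hxQ hxΩ hx
    obtain ⟨x', hx', hxx'⟩ := hx
    have hxP : x ∈ (P : Subgroup G) := hQ hxQ
    -- the generating set
    set S : Set G := {d | ∃ i : ℤ, d = g ^ i * x * g ^ (-i) * x⁻¹} with hS
    set X₀ : Subgroup G := closure S with hX₀
    have hconjQ : ∀ i : ℤ, g ^ i * x * g ^ (-i) ∈ Q := by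
      intro i
      have hgi : g ^ i ∈ normalizer (Q : Set G) := Subgroup.zpow_mem _ hg i
      have := (mem_normalizer_iff.mp hgi x).mp hxQ
      rwa [zpow_neg]
    have hSQ : X₀ ≤ Q := by
      rw [hX₀, closure_le]
      rintro d ⟨i, rfl⟩
      exact Q.mul_mem (hconjQ i) (Q.inv_mem hxQ)
    have hSZ : X₀ ≤ (Subgroup.upperCentralSeries (P : Subgroup G) n).map (P : Subgroup G).subtype := by
      rw [hX₀, closure_le]
      rintro d ⟨i, rfl⟩
      obtain ⟨y, hyP, hy⟩ := hctrl x hxP hxΩ (g ^ i) (by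
        have := hQ (hconjQ i)
        rwa [zpow_neg] at this)
      rw [zpow_neg, hy]
      have hmem := Subgroup.mem_upperCentralSeries_succ_iff.mp hx' ⟨y, hyP⟩
      refine ⟨⁅x', ⟨y, hyP⟩⁆⁻¹, Subgroup.inv_mem _ hmem, ?_⟩
      have hx'' : (x' : G) = x := hxx'
      simp only [Subgroup.coe_subtype, Subgroup.coe_inv, commutatorElement_def, Subgroup.coe_mul,
        hx'']
      group
    -- `g` normalizes `X₀`
    have hg1 : ∀ y ∈ X₀, g * y * g⁻¹ ∈ X₀ := by
      apply conj_closure_mem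
      rintro d ⟨i, rfl⟩
      have h1 : g ^ (i + 1) * x * g ^ (-(i + 1)) * x⁻¹ ∈ X₀ := Subgroup.subset_closure ⟨i + 1, rfl⟩
      have h2 : g ^ (1 : ℤ) * x * g ^ (-(1 : ℤ)) * x⁻¹ ∈ X₀ := Subgroup.subset_closure ⟨1, rfl⟩
      have : g * (g ^ i * x * g ^ (-i) * x⁻¹) * g⁻¹ =
          (g ^ (i + 1) * x * g ^ (-(i + 1)) * x⁻¹) * (g ^ (1 : ℤ) * x * g ^ (-(1 : ℤ)) * x⁻¹)⁻¹ := by
        rw [zpow_add, zpow_one, neg_add, zpow_add, zpow_neg, zpow_neg, zpow_one]
        group
      rw [this]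
      exact X₀.mul_mem h1 (X₀.inv_mem h2)
    have hg2 : ∀ y ∈ X₀, g⁻¹ * y * g⁻¹⁻¹ ∈ X₀ := by
      apply conj_closure_mem
      rintro d ⟨i, rfl⟩
      have h1 : g ^ (i - 1) * x * g ^ (-(i - 1)) * x⁻¹ ∈ X₀ := Subgroup.subset_closure ⟨i - 1, rfl⟩
      have h2 : g ^ (-1 : ℤ) * x * g ^ (-(-1 : ℤ)) * x⁻¹ ∈ X₀ := Subgroup.subset_closure ⟨-1, rfl⟩
      have : g⁻¹ * (g ^ i * x * g ^ (-i) * x⁻¹) * g⁻¹⁻¹ =
          (g ^ (i - 1) * x * g ^ (-(i - 1)) * x⁻¹) * (g ^ (-1 : ℤ) * x * g ^ (-(-1 : ℤ)) * x⁻¹)⁻¹ := by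
        rw [zpow_sub, zpow_one, neg_sub, zpow_sub, zpow_neg, zpow_neg, zpow_one, neg_neg, zpow_one]
        group
      rw [this]
      exact X₀.mul_mem h1 (X₀.inv_mem h2)
    have hgN : g ∈ normalizer (X₀ : Set G) := by
      rw [mem_normalizer_iff]
      intro y
      constructor
      · exact hg1 y
      · intro hy
        have := hg2 _ hy
        simpa [mul_assoc] using this
    -- `g` centralizes `X₀`
    have hcent : ∀ y ∈ X₀, g * y = y * g := by
      apply Cfsg.Agent.Helper24.commute_of_commute_omega hcop X₀ (hQp.to_le hSQ) hgN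
      intro y hy hyΩ
      exact ih y (hSQ hy) hyΩ (hSZ hy)
    have hc : g * x * g⁻¹ * x⁻¹ ∈ X₀ := by
      apply Subgroup.subset_closure
      exact ⟨1, by rw [zpow_one, zpow_neg, zpow_one]⟩
    exact Cfsg.Agent.Helper24.commute_of_commute_commutator g x (hcent _ hc)
      (Cfsg.Agent.Helper24.coprime_orderOf_of_mem hQp (hSQ hc) hcop)

/-- Let P be a Sylow p-subgroup of the finite group G. Then G has a normal p-complement if and only if P controls the fusion of its elements of order dividing p (dividing 4 when p = 2): whenever such an element a of P has a G-conjugate g a g⁻¹ in P, that conjugate is already x a x⁻¹ for some x in P. -/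
theorem result {G : Type*} [Group G] [Finite G] {p : ℕ} [Fact p.Prime] (P : Sylow p G) :
    Cfsg.HasNormalPComplement p G ↔
      ∀ a ∈ (P : Subgroup G), (a ^ p = 1 ∨ (p = 2 ∧ a ^ 4 = 1)) → ∀ g : G, g * a * g⁻¹ ∈ (P : Subgroup G) →
        ∃ x ∈ (P : Subgroup G), g * a * g⁻¹ = x * a * x⁻¹ := by
  constructor
  · intro h a ha _ g hg
    exact (Cfsg.Agent.Helper78.hasNormalPComplement_iff_frobHyp.mp h).control P ha g hg
  · intro hctrl
    apply Cfsg.Agent.Helper78.hasNormalPComplement_iff_frobHyp.mpr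
    apply Cfsg.Agent.Helper78.FrobHyp.of_sylow P
    intro Q hQ g hg hcop
    have hQp : IsPGroup p Q := P.2.to_le hQ
    have hPnil : Group.IsNilpotent (P : Subgroup G) := P.2.isNilpotent
    obtain ⟨N, hN⟩ := hPnil.nilpotent
    rw [mem_centralizer_iff]
    intro x hx
    have := Cfsg.Agent.Helper24.commute_of_commute_omega hcop Q hQp hg ?_ x hx
    · exact this.symm
    · intro y hy hyΩ
      refine key P hctrl Q hQ g hg hcop N y hy hyΩ ?_
      rw [hN]
      exact ⟨⟨y, hQ hy⟩, Subgroup.mem_top _, rfl⟩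

end Cfsg.Agent.S1946
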