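import Cfsg.Statements.S1947
import Cfsg.Agent.Helper78.Frobenius
import Cfsg.Agent.Helper24.Omega

set_option autoImplicit false
open Cfsg
open scoped commutatorElement

namespace Cfsg.Agent.S1947

/-- An element of order prime to `p` normalizing a `p`-subgroup `Q` commutes with the hypercentral
elements of `Q`. -/
theorem commute_of_mem_upperCentralSeries {G : Type*} [Group G] {p : ℕ} [Fact p.Prime]
    (Q : Subgroup G) (hQ : IsPGroup p Q) (g : G) (hg : g ∈ Subgroup.normalizer (Q : Set G))
    (hcop : (orderOf g).Coprime p) :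
    ∀ n : ℕ, ∀ x ∈ Q, x ∈ Subgroup.upperCentralSeries G n → g * x = x * g := by
  intro n
  induction n with
  | zero =>
    intro x _ hx
    rw [Subgroup.upperCentralSeries_zero, Subgroup.mem_bot] at hx
    rw [hx, mul_one, one_mul]
  | succ n ih =>
    intro x hxQ hx
    have hxn : (Subgroup.upperCentralSeries G (n + 1)).Normal := inferInstance
    have hc1 : g * x * g⁻¹ * x⁻¹ ∈ Q :=
      Q.mul_mem (Cfsg.Agent.Helper24.conj_mem_of_mem_normalizer hg hxQ) (Q.inv_mem hxQ)
    have hc2 : g * x * g⁻¹ * x⁻¹ ∈ Subgroup.upperCentralSeries G n := by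
      have h1 := Subgroup.mem_upperCentralSeries_succ_iff.mp hx g
      have h2 : g * x * g⁻¹ * x⁻¹ = ⁅x, g⁆⁻¹ := by rw [commutatorElement_def]; group
      rw [h2]
      exact Subgroup.inv_mem _ h1
    have h3 := ih _ hc1 hc2
    exact Cfsg.Agent.Helper24.commute_of_commute_commutator g x h3
      (Cfsg.Agent.Helper24.coprime_orderOf_of_mem hQ hc1 hcop)

/-- Let G be a finite group and p a prime. If every element of G of order dividing p (dividing 4 when p = 2) lies in some fixed term Z_n(G) of the upper central series, then G has a normal p-complement. -/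
theorem result {G : Type*} [Group G] [Finite G] {p : ℕ} [Fact p.Prime] (n : ℕ)
    (h : ∀ a : G, (a ^ p = 1 ∨ (p = 2 ∧ a ^ 4 = 1)) → a ∈ Subgroup.upperCentralSeries G n) : Cfsg.HasNormalPComplement p G := by
  obtain ⟨P⟩ : Nonempty (Sylow p G) := inferInstance
  have hfrob : ∃ N : Subgroup G, N.Normal ∧ N.IsComplement' (P : Subgroup G) := by
    rw [Cfsg.Agent.Helper78.frobenius_normal_pComplement_iff P]
    intro Q hQ g hg hcop
    have hQp : IsPGroup p Q := P.2.to_le hQ
    rw [Subgroup.mem_centralizer_iff]
    intro x hx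
    have := Cfsg.Agent.Helper24.commute_of_commute_omega hcop Q hQp hg ?_ x hx
    · exact this.symm
    · intro y hy hyp
      exact commute_of_mem_upperCentralSeries Q hQp g hg hcop n y hy (h y hyp)
  obtain ⟨N, hNn, hN⟩ := hfrob
  exact ⟨P, N, hNn, hN⟩

end Cfsg.Agent.S1947
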