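import Cfsg.Statements.S1948
import Cfsg.Agent.Helper54.PConstrained3
import Cfsg.Agent.Helper11.PSolvable
import Cfsg.Agent.Helper65.Cover

set_option autoImplicit false
set_option linter.style.haveILetI false
open Cfsg

namespace Cfsg.Agent.S1948

open Cfsg.Agent.Helper54

/-- Some Sylow `p`-subgroup of a normal subgroup `N` lies in a given Sylow `p`-subgroup of `G`. -/
theorem exists_sylow_map_le {G : Type*} [Group G] [Finite G] {p : ℕ} [Fact p.Prime] (S : Sylow p G)
    (N : Subgroup G) [hN : N.Normal] :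
    ∃ P : Sylow p ↥N, (P : Subgroup ↥N).map N.subtype ≤ (S : Subgroup G) := by
  obtain ⟨P₀⟩ : Nonempty (Sylow p ↥N) := Sylow.nonempty
  have hP₀ : IsPGroup p ((P₀ : Subgroup ↥N).map N.subtype) := P₀.2.map _
  obtain ⟨S', hS'⟩ := hP₀.exists_le_sylow
  obtain ⟨g, hg⟩ := MulAction.exists_smul_eq G S S'
  refine ⟨(MulAut.conjNormal g⁻¹ : MulAut N) • P₀, ?_⟩
  rintro _ ⟨y, hy, rfl⟩
  have hy' : y ∈ (((MulAut.conjNormal g⁻¹ : MulAut N) • P₀ : Sylow p ↥N) : Subgroup ↥N) := hy
  rw [Sylow.pointwise_smul_def, Subgroup.mem_pointwise_smul_iff_inv_smul_mem] at hy'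
  replace hy := hy'
  have h1 : N.subtype ((MulAut.conjNormal g⁻¹ : MulAut N)⁻¹ • y) ∈ (S' : Subgroup G) :=
    hS' ⟨_, hy, rfl⟩
  rw [← hg, Cfsg.Agent.Helper65.mem_smul_sylow_iff] at h1
  have h2 : N.subtype ((MulAut.conjNormal g⁻¹ : MulAut N)⁻¹ • y) = g * (y : G) * g⁻¹ := by
    rw [MulAut.smul_def, ← map_inv, inv_inv]
    simp [MulAut.conjNormal_apply]
  rw [h2] at h1
  have h3 : g⁻¹ * (g * (y : G) * g⁻¹) * g = (y : G) := by group
  rw [h3] at h1
  exact h1

/-- Let S be a Sylow p-subgroup of the finite group G. Then G = N_G(S)·O_{p'}(G) if and only if G is p-constrained and N_G(S) controls fusion in S, in the sense that whenever a subgroup Q of S has a conjugate g Q g⁻¹ inside S, the element g is a product n c with n normalizing S and c centralizing Q. -/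
theorem result {G : Type*} [Group G] [Finite G] {p : ℕ} [Fact p.Prime] (S : Sylow p G) :
    Subgroup.normalizer ((S : Subgroup G) : Set G) ⊔ Cfsg.pPrimeCore p G = ⊤ ↔
      (Cfsg.IsPConstrained p G ∧
        ∀ Q : Subgroup G, Q ≤ (S : Subgroup G) → ∀ g : G, Q.map (MulAut.conj g).toMonoidHom ≤ (S : Subgroup G) →
          ∃ n ∈ Subgroup.normalizer ((S : Subgroup G) : Set G), ∃ c ∈ Subgroup.centralizer (Q : Set G), g = n * c) := by
  have hpp : p.Prime := Fact.out
  set K := pPrimeCore p G with hK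
  have hKn : K.Normal := inferInstance
  have hKc : (Nat.card K).Coprime p := Cfsg.Agent.Lib.card_pPrimeCore_coprime p
  have hker : (QuotientGroup.mk' K).ker = K := QuotientGroup.ker_mk' K
  have hSK : ∀ x : G, x ∈ (S : Subgroup G) → x ∈ K → x = 1 := fun x hxS hxK =>
    Cfsg.Agent.Helper49.eq_one_of_mem_pGroup_of_coprime S.2 hxS (orderOf_coprime_of_mem hKc hxK)
  constructor
  · intro h
    have hdecomp : ∀ g : G, ∃ n ∈ Subgroup.normalizer ((S : Subgroup G) : Set G), ∃ k ∈ K,
        n * k = g := fun g =>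
      Subgroup.mem_sup_of_normal_right.mp (by rw [h]; exact Subgroup.mem_top g)
    refine ⟨?_, ?_⟩
    · -- `p`-constraint
      rw [isPConstrained_iff_charP]
      set π := QuotientGroup.mk' K with hπ
      have hO : pPrimeCore p (G ⧸ K) = ⊥ := pPrimeCore_quotient_eq_bot
      refine ⟨hO, ?_⟩
      -- the image of `S` is normal
      have hSn : ((S : Subgroup G).map π).Normal := by
        constructor
        rintro _ ⟨s, hs, rfl⟩ y
        obtain ⟨g, rfl⟩ := QuotientGroup.mk'_surjective K y
        obtain ⟨n, hn, k, hk, rfl⟩ := hdecomp g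
        have hk1 : π k = 1 := by
          rw [hπ, QuotientGroup.mk'_apply, QuotientGroup.eq_one_iff]; exact hk
        refine ⟨n * s * n⁻¹, (Subgroup.mem_normalizer_iff.mp hn s).mp hs, ?_⟩
        show π (n * s * n⁻¹) = π (n * k) * π s * (π (n * k))⁻¹
        simp only [map_mul, map_inv, hk1, mul_one]
      have hSle : (S : Subgroup G).map π ≤ pCore p (G ⧸ K) :=
        Cfsg.Agent.Lib.le_pCore hSn (S.2.map π)
      set D : Subgroup (G ⧸ K) := Subgroup.centralizer (pCore p (G ⧸ K) : Set (G ⧸ K)) with hD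
      have hDn : D.Normal := Subgroup.normal_centralizer
      have hEn : (pCore p (G ⧸ K) ⊓ D).Normal := inferInstance
      have hco : ((pCore p (G ⧸ K) ⊓ D).relIndex D).Coprime p := by
        rw [Subgroup.inf_relIndex_right]
        have h1 : (pCore p (G ⧸ K)).relIndex D ∣ (pCore p (G ⧸ K)).index :=
          Subgroup.relIndex_dvd_index_of_normal _ _
        have h2 : (pCore p (G ⧸ K)).index ∣ ((S : Subgroup G).map π).index :=
          Subgroup.index_dvd_of_le hSle
        have h3 : ((S : Subgroup G).map π).index ∣ (S : Subgroup G).index :=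
          Subgroup.index_map_dvd _ (QuotientGroup.mk'_surjective K)
        have h4 : ((S : Subgroup G).index).Coprime p :=
          ((Nat.Prime.coprime_iff_not_dvd hpp).mpr S.not_dvd_index).symm
        exact Nat.Coprime.coprime_dvd_left (h1.trans (h2.trans h3)) h4
      have hDp : IsPGroup p D :=
        Cfsg.Agent.Helper11.isPGroup_of_central_of_coprime_relIndex hO
          (pCore p (G ⧸ K) ⊓ D) D inf_le_right
          ((Cfsg.Agent.Lib.isPGroup_pCore p).to_inf_left)
          (fun e he d hd => by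
            have := (Subgroup.mem_centralizer_iff.mp hd) e (Subgroup.mem_inf.mp he).1
            exact this) hco
      exact Cfsg.Agent.Lib.le_pCore hDn hDp
    · -- control of fusion
      intro Q hQS g hg
      obtain ⟨n, hn, k, hk, rfl⟩ := hdecomp g
      refine ⟨n, hn, k, ?_, rfl⟩
      rw [Subgroup.mem_centralizer_iff]
      intro x hx
      have h1 : (n * k) * x * (n * k)⁻¹ ∈ (S : Subgroup G) := hg ⟨x, hx, rfl⟩
      have h2 : k * x * k⁻¹ ∈ (S : Subgroup G) := by
        have hn' : n⁻¹ ∈ Subgroup.normalizer ((S : Subgroup G) : Set G) := Subgroup.inv_mem _ hn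
        have := (Subgroup.mem_normalizer_iff.mp hn' _).mp h1
        have h3 : n⁻¹ * ((n * k) * x * (n * k)⁻¹) * n⁻¹⁻¹ = k * x * k⁻¹ := by group
        rwa [h3] at this
      have h4 : k * x * k⁻¹ * x⁻¹ ∈ (S : Subgroup G) :=
        Subgroup.mul_mem _ h2 (Subgroup.inv_mem _ (hQS hx))
      have h5 : k * x * k⁻¹ * x⁻¹ ∈ K := by
        have h6 : x * k⁻¹ * x⁻¹ ∈ K := hKn.conj_mem _ (K.inv_mem hk) x
        have h7 := K.mul_mem hk h6
        have h8 : k * x * k⁻¹ * x⁻¹ = k * (x * k⁻¹ * x⁻¹) := by group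
        rw [h8]; exact h7
      have h9 := hSK _ h4 h5
      have h10 := mul_inv_eq_one.mp h9
      have h11 := mul_inv_eq_iff_eq_mul.mp h10
      exact h11.symm
  · rintro ⟨hX, hfus⟩
    haveI hNn : (pPrimePCore p G).Normal := by unfold pPrimePCore; infer_instance
    obtain ⟨P, hPS⟩ := exists_sylow_map_le S (pPrimePCore p G)
    set T : Subgroup G := (P : Subgroup ↥(pPrimePCore p G)).map (pPrimePCore p G).subtype with hT
    have hfrat : Subgroup.normalizer (T : Set G) ⊔ pPrimePCore p G = ⊤ :=
      Sylow.normalizer_sup_eq_top P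
    have hNeq : pPrimePCore p G = T ⊔ K := by
      have h1 := map_sylow_pPrimePCore P
      unfold pPrimePCore
      rw [← h1, Subgroup.comap_map_eq, QuotientGroup.ker_mk']
    have hcen : Subgroup.centralizer (T : Set G) ≤ T ⊔ K := by
      rw [← hNeq]; exact hX P
    have hTN : Subgroup.normalizer (T : Set G) ≤
        Subgroup.normalizer ((S : Subgroup G) : Set G) ⊔ K := by
      intro g hg
      have hgT : T.map (MulAut.conj g).toMonoidHom ≤ (S : Subgroup G) := by
        rintro _ ⟨t, ht, rfl⟩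
        exact hPS ((Subgroup.mem_normalizer_iff.mp hg t).mp ht)
      obtain ⟨n, hn, c, hc, rfl⟩ := hfus T hPS g hgT
      obtain ⟨t, ht, k, hk, rfl⟩ := Subgroup.mem_sup_of_normal_right.mp (hcen hc)
      have h1 : n * t ∈ Subgroup.normalizer ((S : Subgroup G) : Set G) :=
        Subgroup.mul_mem _ hn (Subgroup.le_normalizer (hPS ht))
      have h2 : n * (t * k) = (n * t) * k := by group
      rw [h2]
      exact Subgroup.mul_mem_sup h1 hk
    rw [eq_top_iff, ← hfrat, hNeq, ← sup_assoc]
    have hTT : Subgroup.normalizer (T : Set G) ⊔ T = Subgroup.normalizer (T : Set G) :=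
      sup_of_le_left Subgroup.le_normalizer
    rw [hTT]
    exact sup_le hTN le_sup_right

end Cfsg.Agent.S1948
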