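import Cfsg.Statements.S1957
import Cfsg.Agent.Helper48.CoprimeGen
import Cfsg.Agent.Helper48.PCore
import Cfsg.Agent.Helper25.PGroupBasic

set_option autoImplicit false

namespace Cfsg.Agent.S1957

open Subgroup

/-- a finite cyclic group has at most one involution -/
theorem eq_one_or_eq_of_sq_eq_one {C : Type*} [Group C] [Finite C] [IsCyclic C] {x z : C}
    (hx : x ^ 2 = 1) (hz : z ^ 2 = 1) (hz1 : z ≠ 1) : x = 1 ∨ x = z := by
  classical
  have : Fintype C := Fintype.ofFinite C
  by_contra h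
  push Not at h
  have hle := IsCyclic.card_pow_eq_one_le (α := C) (n := 2) (by norm_num)
  have hsub : ({1, z, x} : Finset C) ⊆ Finset.univ.filter (fun a => a ^ 2 = 1) := by
    intro a ha
    simp only [Finset.mem_insert, Finset.mem_singleton] at ha
    rcases ha with rfl | rfl | rfl <;> simp [hx, hz]
  have hcard : ({1, z, x} : Finset C).card = 3 := by
    rw [Finset.card_insert_of_notMem, Finset.card_insert_of_notMem, Finset.card_singleton]
    · simp only [Finset.mem_singleton]
      exact fun h' => h.2 h'.symm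
    · simp only [Finset.mem_insert, Finset.mem_singleton, not_or]
      exact ⟨fun h' => hz1 h'.symm, fun h' => h.1 h'.symm⟩
  have := Finset.card_le_card hsub
  omega

/-- Key lemma: in a group of characteristic 2, a four-group `U = {1,w,b,wb}` normal in a Sylow
2-subgroup and containing a central element `w` lies in `O_2`. -/
theorem four_le_pCore {C : Type*} [Group C] [Finite C] (hC : Cfsg.IsOfCharacteristicTwo C)
    (S : Sylow 2 C) (U : Subgroup C) (hUS : U ≤ S) (hSU : (S : Subgroup C) ≤ normalizer (U : Set C))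
    (w b : C) (hU : ∀ x ∈ U, x = 1 ∨ x = w ∨ x = b ∨ x = w * b) (hw : w ∈ U)
    (hwZ : ∀ c : C, c * w = w * c) : U ≤ Cfsg.pCore 2 C := by
  have : Fact (Nat.Prime 2) := ⟨Nat.prime_two⟩
  set Q := Cfsg.pCore 2 C with hQ
  have hQn : Q.Normal := Helper48.pCore_normal 2 C
  have hQp : IsPGroup 2 Q := Helper48.pCore_isPGroup
  have hQS : Q ≤ S := Helper48.pCore_le_sylow S
  have hconj : ∀ (g : C) (k : ℤ), g * w ^ k * g⁻¹ = w ^ k := by
    intro g k
    have hc : Commute g w := hwZ g
    have := (hc.zpow_right k).eq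
    rw [this]; group
  -- w ∈ Q
  have hwQ : w ∈ Q := by
    have hn : (zpowers w).Normal := by
      constructor
      intro n hn g
      obtain ⟨k, rfl⟩ := mem_zpowers_iff.1 hn
      rw [hconj g k]; exact hn
    have hp : IsPGroup 2 (zpowers w) := S.isPGroup'.to_le (zpowers_le.2 (hUS hw))
    exact (Helper48.le_pCore hn hp) (mem_zpowers w)
  by_contra hUQ
  obtain ⟨a, haU, haQ⟩ := SetLike.not_le_iff_exists.1 hUQ
  have hbQ : b ∉ Q := by
    intro hb
    rcases hU a haU with h | h | h | h
    · exact haQ (h ▸ Q.one_mem)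
    · exact haQ (h ▸ hwQ)
    · exact haQ (h ▸ hb)
    · exact haQ (h ▸ Q.mul_mem hwQ hb)
  have hwbQ : w * b ∉ Q := by
    intro h
    apply hbQ
    have := Q.mul_mem (Q.inv_mem hwQ) h
    simpa using this
  have hUQ2 : ∀ y ∈ U, y ∈ Q → y = 1 ∨ y = w := by
    intro y hyU hyQ
    rcases hU y hyU with h | h | h | h
    · exact Or.inl h
    · exact Or.inr h
    · exact absurd (h ▸ hyQ) hbQ
    · exact absurd (h ▸ hyQ) hwbQ
  -- commutators [q, x] for q ∈ Q, x ∈ U lie in {1, w}
  have hcomm : ∀ x ∈ U, ∀ q ∈ Q, x * q * x⁻¹ * q⁻¹ = 1 ∨ x * q * x⁻¹ * q⁻¹ = w := by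
    intro x hx q hq
    apply hUQ2
    · -- x * (q x⁻¹ q⁻¹) ∈ U
      have h1 : q * x⁻¹ * q⁻¹ ∈ U := by
        have hqN : q ∈ normalizer (U : Set C) := hSU (hQS hq)
        exact (mem_normalizer_iff.1 hqN x⁻¹).1 (U.inv_mem hx)
      have := U.mul_mem hx h1
      convert this using 1; group
    · have h1 : x * q * x⁻¹ ∈ Q := hQn.conj_mem q hq x
      exact Q.mul_mem h1 (Q.inv_mem hq)
  -- the subgroup D of elements acting trivially on Q modulo ⟨w⟩
  have hw2 : w * w = 1 := by
    -- w is an involution or trivial: w ∈ U, and U has exponent 2? use enumeration: w*w ∈ U ∩ Q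
    rcases hUQ2 (w * w) (U.mul_mem hw hw) (Q.mul_mem hwQ hwQ) with h | h
    · exact h
    · -- w * w = w → w = 1
      have : w = 1 := by simpa using h
      rw [this]; simp
  -- every x ∈ U has x^2 ∈ C_C(Q) ≤ Q ... we show directly a ∈ Q via normal 2-subgroup D
  let D : Subgroup C :=
    { carrier := {c | ∀ q ∈ Q, c * q * c⁻¹ * q⁻¹ = 1 ∨ c * q * c⁻¹ * q⁻¹ = w}
      one_mem' := by intro q _; left; group
      mul_mem' := by
        intro c d hc hd q hq
        have h1 := hd q hq
        have h2 := hc q hq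
        have e : c * d * q * (c * d)⁻¹ * q⁻¹ = c * (d * q * d⁻¹ * q⁻¹) * c⁻¹ * (c * q * c⁻¹ * q⁻¹) := by group
        rw [e]
        rcases h1 with h1 | h1 <;> rcases h2 with h2 | h2 <;> rw [h1, h2]
        · left; group
        · right; group
        · right
          have := hconj c 1
          rw [zpow_one] at this
          rw [this]; group
        · left
          have := hconj c 1
          rw [zpow_one] at this
          rw [this, hw2]
      inv_mem' := by
        intro c hc q hq
        have hq' : c⁻¹ * q * c ∈ Q := by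
          have := hQn.conj_mem q hq c⁻¹
          simpa using this
        have h1 := hc _ hq'
        have e : c * (c⁻¹ * q * c) * c⁻¹ * (c⁻¹ * q * c)⁻¹ = (c⁻¹ * q * c⁻¹⁻¹ * q⁻¹)⁻¹ := by group
        rw [e] at h1
        rcases h1 with h1 | h1
        · left; exact inv_eq_one.1 h1
        · right
          have : c⁻¹ * q * c⁻¹⁻¹ * q⁻¹ = w⁻¹ := inv_eq_iff_eq_inv.1 h1
          rw [this]
          exact inv_eq_of_mul_eq_one_left hw2 }
  have hDmem : ∀ c, c ∈ D ↔ ∀ q ∈ Q, c * q * c⁻¹ * q⁻¹ = 1 ∨ c * q * c⁻¹ * q⁻¹ = w := fun c => Iff.rfl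
  have hDn : D.Normal := by
    constructor
    intro c hc g q hq
    have hq' : g⁻¹ * q * g ∈ Q := by
      have := hQn.conj_mem q hq g⁻¹
      simpa using this
    have h1 := hc _ hq'
    have e : g * c * g⁻¹ * q * (g * c * g⁻¹)⁻¹ * q⁻¹ = g * (c * (g⁻¹ * q * g) * c⁻¹ * (g⁻¹ * q * g)⁻¹) * g⁻¹ := by
      group
    rw [e]
    rcases h1 with h1 | h1 <;> rw [h1]
    · left; group
    · right
      have := hconj g 1
      rwa [zpow_one] at this
  have hDp : IsPGroup 2 D := by
    intro c
    -- c^2 centralizes Q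
    have hc2 : ((c : C) * c) ∈ centralizer (Q : Set C) := by
      rw [mem_centralizer_iff]
      intro q hq
      have h1 := c.2 q hq
      -- c q c⁻¹ = z q with z ∈ {1,w}
      rcases h1 with h1 | h1
      · have e : (c : C) * q = q * c := by
          have : (c : C) * q * (c : C)⁻¹ * q⁻¹ * q * c = q * c := by rw [h1]; group
          rw [← this]; group
        calc q * ((c : C) * c) = (q * c) * c := by group
          _ = (c * q) * c := by rw [e]
          _ = c * (q * c) := by group
          _ = c * (c * q) := by rw [e]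
          _ = (c : C) * c * q := by group
      · have e : (c : C) * q = w * q * c := by
          have : (c : C) * q * (c : C)⁻¹ * q⁻¹ * q * c = w * q * c := by rw [h1]
          rw [← this]; group
        have hwc : (c : C) * w = w * c := hwZ c
        have hwq : q * w = w * q := hwZ q
        calc q * ((c : C) * c) = w * (w * q * c) * c := by
                rw [← mul_assoc w, ← mul_assoc w, hw2]; group
          _ = w * (c * q) * c := by rw [e]
          _ = (w * c) * (q * c) := by group
          _ = (c * w) * (q * c) := by rw [hwc]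
          _ = c * (w * q * c) := by group
          _ = c * (c * q) := by rw [e]
          _ = (c : C) * c * q := by group
    have hc2Q : ((c : C) * c) ∈ Q := hC hc2
    obtain ⟨k, hk⟩ := hQp ⟨(c : C) * c, hc2Q⟩
    refine ⟨k + 1, ?_⟩
    apply Subtype.ext
    have hk' : ((c : C) * c) ^ 2 ^ k = 1 := by
      have := congrArg Subtype.val hk
      simpa using this
    rw [Subgroup.coe_pow, Subgroup.coe_one, pow_succ, pow_mul', ← hk', pow_two]
  have hDQ : D ≤ Q := Helper48.le_pCore hDn hDp
  apply haQ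
  apply hDQ
  rw [hDmem]
  exact hcomm a haU


/-- Global step: a 2-subgroup `R` of `C_G(w)` containing `C_P(w)` normalizes `U`. -/
theorem normalizes_four {G : Type*} [Group G] [Finite G] (P : Sylow 2 G) (U : Subgroup G)
    (hUP : U ≤ (P : Subgroup G)) (hUn : (P : Subgroup G) ≤ normalizer (U : Set G))
    (hU1 : U ≠ ⊥)
    (hUcomm : ∀ x ∈ U, ∀ y ∈ U, x * y = y * x) (hUsq : ∀ x ∈ U, x * x = 1)
    (hUenum : ∀ a ∈ U, ∀ b ∈ U, a ≠ 1 → b ≠ 1 → a ≠ b → ∀ x ∈ U, x = 1 ∨ x = a ∨ x = b ∨ x = a * b)
    (hUZ : ¬ IsCyclic ↥((P : Subgroup G) ⊓ centralizer ((P : Subgroup G) : Set G)) →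
      U ≤ centralizer ((P : Subgroup G) : Set G))
    (w : G) (hw : w ∈ U) (hw1 : w ≠ 1)
    (R : Subgroup G) (hR : IsPGroup 2 R)
    (hTR : ∀ x ∈ (P : Subgroup G), x * w = w * x → x ∈ R) :
    R ≤ normalizer (U : Set G) := by
  have : Fact (Nat.Prime 2) := ⟨Nat.prime_two⟩
  by_cases hPR : (P : Subgroup G) ≤ R
  · have : R = P := P.is_maximal' hR hPR
    rw [this]; exact hUn
  by_cases hRP : R ≤ (P : Subgroup G)
  · exact hRP.trans hUn
  obtain ⟨s, hsP, hsR⟩ := SetLike.not_le_iff_exists.1 hPR
  have hsw : s * w ≠ w * s := fun h => hsR (hTR s hsP h)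
  -- Z(P) is cyclic
  have hcyc : IsCyclic ↥((P : Subgroup G) ⊓ centralizer ((P : Subgroup G) : Set G)) := by
    by_contra hn
    have := hUZ hn hw
    rw [mem_centralizer_iff] at this
    exact hsw (this s hsP)
  -- central element z of P in U
  have hPp : IsPGroup 2 (P : Subgroup G) := P.isPGroup'
  have hnorm : (U.subgroupOf (P : Subgroup G)).Normal :=
    (Subgroup.normal_subgroupOf_iff_le_normalizer hUP).2 hUn
  have hne : U.subgroupOf (P : Subgroup G) ≠ ⊥ := by
    intro h
    apply hU1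
    rw [Subgroup.subgroupOf_eq_bot] at h
    rw [disjoint_iff, inf_eq_left.2 hUP] at h
    exact h
  obtain ⟨z', hz'U, hz'1, hz'c⟩ := Helper25.exists_mem_center_of_normal_ne_bot hPp
    (U.subgroupOf (P : Subgroup G)) hne
  set z : G := (z' : G) with hz
  have hzU : z ∈ U := hz'U
  have hzP : z ∈ (P : Subgroup G) := z'.2
  have hz1 : z ≠ 1 := fun h => hz'1 (Subtype.ext h)
  have hzc : ∀ x ∈ (P : Subgroup G), x * z = z * x := by
    intro x hx
    have := (Subgroup.mem_center_iff.1 hz'c) ⟨x, hx⟩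
    exact congrArg Subtype.val this
  have hwz : w ≠ z := by
    intro h
    exact hsw (by rw [h]; exact hzc s hsP)
  have hen := hUenum w hw z hzU hw1 hz1 hwz
  have hww : w * w = 1 := hUsq w hw
  have hzz : z * z = 1 := hUsq z hzU
  have hwzc : w * z = z * w := hUcomm w hw z hzU
  -- conjugation of w by elements of P
  have hconjw : ∀ x ∈ (P : Subgroup G), x * w = w * x ∨ x * w * x⁻¹ = w * z := by
    intro x hx
    have h1 : x * w * x⁻¹ ∈ U := (mem_normalizer_iff.1 (hUn hx) w).1 hw
    rcases hen _ h1 with h | h | h | h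
    · exfalso; apply hw1
      have : w = x⁻¹ * (x * w * x⁻¹) * x := by group
      rw [this, h]; group
    · left
      calc x * w = x * w * x⁻¹ * x := by group
        _ = w * x := by rw [h]
    · exfalso; apply hwz
      have e : w = x⁻¹ * (x * w * x⁻¹) * x := by group
      rw [e, h]
      have := hzc x⁻¹ ((P : Subgroup G).inv_mem hx)
      rw [this]; group
    · right; exact h
  have hs : s * w * s⁻¹ = w * z := (hconjw s hsP).resolve_left hsw
  have hs' : s⁻¹ * w * s = w * z := by
    have h1 : s * (w * z) * s⁻¹ = w := by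
      have : s * (w * z) * s⁻¹ = (s * w * s⁻¹) * (s * z * s⁻¹) := by group
      rw [this, hs, hzc s hsP]
      calc w * z * (z * s * s⁻¹) = w * (z * z) := by group
        _ = w := by rw [hzz, mul_one]
    calc s⁻¹ * w * s = s⁻¹ * (s * (w * z) * s⁻¹) * s := by rw [h1]
      _ = w * z := by group
  -- T = C_P(w)
  set T : Subgroup G := (P : Subgroup G) ⊓ centralizer {w} with hT
  have hTmem : ∀ x, x ∈ T ↔ x ∈ (P : Subgroup G) ∧ x * w = w * x := by
    intro x
    rw [hT, Subgroup.mem_inf, Subgroup.mem_centralizer_singleton_iff]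
  have hTP : T ≤ (P : Subgroup G) := inf_le_left
  have hTleR : T ≤ R := fun x hx => hTR x ((hTmem x).1 hx).1 ((hTmem x).1 hx).2
  have hUT : U ≤ T := fun x hx => (hTmem x).2 ⟨hUP hx, hUcomm x hx w hw⟩
  -- T centralizes U
  have hTU : ∀ t ∈ T, ∀ u ∈ U, t * u = u * t := by
    intro t ht u hu
    have ht1 := ((hTmem t).1 ht).2
    have ht2 := hzc t ((hTmem t).1 ht).1
    rcases hen u hu with h | h | h | h
    · rw [h]; simp
    · rw [h]; exact ht1
    · rw [h]; exact ht2
    · rw [h]
      calc t * (w * z) = (t * w) * z := by group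
        _ = w * (t * z) := by rw [ht1]; group
        _ = w * z * t := by rw [ht2]; group
  -- elements of P outside T
  have hPT : ∀ x ∈ (P : Subgroup G), x ∈ T ∨ s⁻¹ * x ∈ T := by
    intro x hx
    rcases hconjw x hx with h | h
    · left; exact (hTmem x).2 ⟨hx, h⟩
    · right
      rw [hTmem]
      refine ⟨(P : Subgroup G).mul_mem ((P : Subgroup G).inv_mem hsP) hx, ?_⟩
      have h1 : s⁻¹ * (w * z) * s = w := by
        have : s⁻¹ * (w * z) * s = (s⁻¹ * w * s) * (s⁻¹ * z * s) := by group
        rw [this, hs']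
        have := hzc s⁻¹ ((P : Subgroup G).inv_mem hsP)
        rw [this]
        calc w * z * (z * s⁻¹ * s) = w * (z * z) := by group
          _ = w := by rw [hzz, mul_one]
      calc s⁻¹ * x * w = s⁻¹ * (x * w * x⁻¹) * x := by group
        _ = (s⁻¹ * (w * z) * s) * (s⁻¹ * x) := by rw [h]; group
        _ = w * (s⁻¹ * x) := by rw [h1]
  -- index computations
  have hsT : s ∉ T := fun h => hsw ((hTmem s).1 h).2
  have hidx : T.relIndex (P : Subgroup G) = 2 := by
    rw [Subgroup.relIndex_eq_two_iff_exists_notMem_and']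
    refine ⟨s⁻¹, (P : Subgroup G).inv_mem hsP, fun h => hsT (by simpa using T.inv_mem h), ?_⟩
    intro b hb
    rcases hPT b hb with h | h
    · right; exact h
    · left; exact h
  have hcardP : Nat.card T * 2 = Nat.card (P : Subgroup G) := by
    have := Subgroup.relIndex_mul_relIndex ⊥ T (P : Subgroup G) bot_le hTP
    rw [Subgroup.relIndex_bot_left, Subgroup.relIndex_bot_left, hidx] at this
    exact this
  have hcardR : Nat.card T * T.relIndex R = Nat.card R := by
    have := Subgroup.relIndex_mul_relIndex ⊥ T R bot_le hTleR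
    rw [Subgroup.relIndex_bot_left, Subgroup.relIndex_bot_left] at this
    exact this
  have hRleP : Nat.card R ≤ Nat.card (P : Subgroup G) := by
    obtain ⟨P', hP'⟩ := hR.exists_le_sylow
    have h1 : Nat.card R ≤ Nat.card (P' : Subgroup G) := Subgroup.card_le_of_le hP'
    have h2 : Nat.card (P' : Subgroup G) = Nat.card (P : Subgroup G) := by
      rw [Sylow.card_eq_multiplicity, Sylow.card_eq_multiplicity]
    omega
  have hidxR : T.relIndex R = 2 := by
    have h1 : T.relIndex R ≠ 1 := by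
      intro h
      rw [Subgroup.relIndex_eq_one] at h
      exact hRP (h.trans hTP)
    have h0 : T.relIndex R ≠ 0 := by
      intro h
      rw [h, mul_zero] at hcardR
      exact (Nat.card_pos (α := R)).ne' hcardR.symm
    have hTpos : 0 < Nat.card T := Nat.card_pos
    have : Nat.card T * T.relIndex R ≤ Nat.card T * 2 := by rw [hcardR, hcardP]; exact hRleP
    have := Nat.le_of_mul_le_mul_left this hTpos
    omega
  have hTnR : (T.subgroupOf R).Normal := Subgroup.normal_of_index_eq_two hidxR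
  have hRT : ∀ r ∈ R, ∀ t ∈ T, r * t * r⁻¹ ∈ T :=
    fun r hr t ht => (Subgroup.normal_subgroupOf_iff hTleR).1 hTnR t r ht hr
  -- the predicate E
  let E : G → Prop := fun x => x ∈ T ∧ (∀ t ∈ T, t * x = x * t) ∧ x * x = 1
  have hEU : ∀ u ∈ U, E u := fun u hu => ⟨hUT hu, fun t ht => hTU t ht u hu, hUsq u hu⟩
  -- elements of E commuting with s lie in {1, z}
  have hEs : ∀ x, E x → s * x = x * s → x = 1 ∨ x = z := by
    intro x hx hxs
    have hxP : x ∈ (P : Subgroup G) := hTP hx.1
    have hxc : x ∈ centralizer ((P : Subgroup G) : Set G) := by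
      rw [mem_centralizer_iff]
      intro y hy
      rcases hPT y hy with h | h
      · exact hx.2.1 y h
      · have h2 := hx.2.1 _ h
        have e : y = s * (s⁻¹ * y) := by group
        rw [e]
        calc s * (s⁻¹ * y) * x = s * ((s⁻¹ * y) * x) := by group
          _ = (s * x) * (s⁻¹ * y) := by rw [h2]; group
          _ = x * (s * (s⁻¹ * y)) := by rw [hxs]; group
    have hzc' : z ∈ centralizer ((P : Subgroup G) : Set G) := by
      rw [mem_centralizer_iff]
      intro y hy
      exact hzc y hy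
    let x' : ↥((P : Subgroup G) ⊓ centralizer ((P : Subgroup G) : Set G)) := ⟨x, hxP, hxc⟩
    let z'' : ↥((P : Subgroup G) ⊓ centralizer ((P : Subgroup G) : Set G)) := ⟨z, hzP, hzc'⟩
    have h1 : x' ^ 2 = 1 := Subtype.ext (by simpa [pow_two] using hx.2.2)
    have h2 : z'' ^ 2 = 1 := Subtype.ext (by simpa [pow_two] using hzz)
    have h3 : z'' ≠ 1 := fun h => hz1 (congrArg Subtype.val h)
    rcases eq_one_or_eq_of_sq_eq_one h1 h2 h3 with h | h
    · left; exact congrArg Subtype.val h
    · right; exact congrArg Subtype.val h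
  -- s normalizes T
  have hsT' : ∀ t ∈ T, s⁻¹ * t * s ∈ T := by
    intro t ht
    rw [hTmem]
    have htP := hTP ht
    refine ⟨(P : Subgroup G).mul_mem ((P : Subgroup G).mul_mem ((P : Subgroup G).inv_mem hsP) htP) hsP, ?_⟩
    have h1 : t * (w * z) = (w * z) * t := hTU t ht (w * z) (U.mul_mem hw hzU)
    calc s⁻¹ * t * s * w = s⁻¹ * (t * (s * w * s⁻¹)) * s := by group
      _ = s⁻¹ * ((w * z) * t) * s := by rw [hs, h1]
      _ = (s⁻¹ * (s * w * s⁻¹) * s) * (s⁻¹ * t * s) := by rw [hs]; group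
      _ = w * (s⁻¹ * t * s) := by group
  have hsT'' : ∀ t ∈ T, s * t * s⁻¹ ∈ T := by
    intro t ht
    rw [hTmem]
    have htP := hTP ht
    refine ⟨(P : Subgroup G).mul_mem ((P : Subgroup G).mul_mem hsP htP) ((P : Subgroup G).inv_mem hsP), ?_⟩
    have h1 : t * (w * z) = (w * z) * t := hTU t ht (w * z) (U.mul_mem hw hzU)
    calc s * t * s⁻¹ * w = s * (t * (s⁻¹ * w * s)) * s⁻¹ := by group
      _ = s * ((w * z) * t) * s⁻¹ := by rw [hs', h1]
      _ = (s * (s⁻¹ * w * s) * s⁻¹) * (s * t * s⁻¹) := by rw [hs']; group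
      _ = w * (s * t * s⁻¹) := by group
  have hEconj : ∀ x, E x → E (s * x * s⁻¹) := by
    intro x hx
    refine ⟨hsT'' x hx.1, ?_, ?_⟩
    · intro t ht
      have h1 := hx.2.1 _ (hsT' t ht)
      calc t * (s * x * s⁻¹) = s * ((s⁻¹ * t * s) * x) * s⁻¹ := by group
        _ = s * (x * (s⁻¹ * t * s)) * s⁻¹ := by rw [h1]
        _ = s * x * s⁻¹ * t := by group
    · calc s * x * s⁻¹ * (s * x * s⁻¹) = s * (x * x) * s⁻¹ := by group
        _ = 1 := by rw [hx.2.2]; group
  have hEmul : ∀ x y, E x → E y → E (x * y) := by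
    intro x y hx hy
    have hxy : x * y = y * x := (hy.2.1 x hx.1)
    refine ⟨T.mul_mem hx.1 hy.1, ?_, ?_⟩
    · intro t ht
      calc t * (x * y) = (t * x) * y := by group
        _ = x * (t * y) := by rw [hx.2.1 t ht]; group
        _ = x * y * t := by rw [hy.2.1 t ht]; group
    · calc x * y * (x * y) = x * (y * x) * y := by group
        _ = (x * x) * (y * y) := by rw [← hxy]; group
        _ = 1 := by rw [hx.2.2, hy.2.2, mul_one]
  have hs2T : s * s ∈ T := by
    rcases hPT s hsP with h | h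
    · exact absurd h hsT
    · -- s⁻¹ * s = 1, not helpful; use direct computation
      rw [hTmem]
      refine ⟨(P : Subgroup G).mul_mem hsP hsP, ?_⟩
      have h1 : s * (w * z) * s⁻¹ = w := by
        have : s * (w * z) * s⁻¹ = (s * w * s⁻¹) * (s * z * s⁻¹) := by group
        rw [this, hs, hzc s hsP]
        calc w * z * (z * s * s⁻¹) = w * (z * z) := by group
          _ = w := by rw [hzz, mul_one]
      calc s * s * w = s * (s * w * s⁻¹) * s := by group
        _ = (s * (w * z) * s⁻¹) * (s * s) := by rw [hs]; group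
        _ = w * (s * s) := by rw [h1]
  -- key: E ⊆ U
  have hEsub1 : ∀ x, E x → x * (s * x * s⁻¹) = 1 → x ∈ U := by
    intro x hx h
    have hxs : s * x = x * s := by
      have h1 : s * x * s⁻¹ = x⁻¹ := (inv_eq_of_mul_eq_one_right h).symm
      have h2 : x⁻¹ = x := inv_eq_of_mul_eq_one_left hx.2.2
      calc s * x = (s * x * s⁻¹) * s := by group
        _ = x * s := by rw [h1, h2]
    rcases hEs x hx hxs with h | h
    · rw [h]; exact U.one_mem
    · rw [h]; exact hzU
  have hEy : ∀ x, E x → x * (s * x * s⁻¹) = 1 ∨ x * (s * x * s⁻¹) = z := by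
    intro x hx
    have hx' := hEconj x hx
    have hy := hEmul _ _ hx hx'
    apply hEs _ hy
    -- s commutes with y
    have h1 : s * (s * x * s⁻¹) * s⁻¹ = x := by
      have := hx.2.1 _ hs2T
      calc s * (s * x * s⁻¹) * s⁻¹ = (s * s * x) * (s * s)⁻¹ := by group
        _ = (x * (s * s)) * (s * s)⁻¹ := by rw [this]
        _ = x := by group
    have hcomm : x * (s * x * s⁻¹) = (s * x * s⁻¹) * x := hx'.2.1 x hx.1
    calc s * (x * (s * x * s⁻¹)) = (s * x * s⁻¹) * (s * (s * x * s⁻¹) * s⁻¹) * s := by group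
      _ = (s * x * s⁻¹) * x * s := by rw [h1]
      _ = x * (s * x * s⁻¹) * s := by rw [hcomm]
  have hEsub : ∀ x, E x → x ∈ U := by
    intro x hx
    rcases hEy x hx with h | h
    · exact hEsub1 x hx h
    · -- consider x * w
      have hxw : E (x * w) := hEmul _ _ hx (hEU w hw)
      have hx' := hEconj x hx
      have h1 : (x * w) * (s * (x * w) * s⁻¹) = 1 := by
        have hc : Commute w (s * x * s⁻¹) := (hx'.2.1 w (hUT hw))
        have e : s * (x * w) * s⁻¹ = (s * x * s⁻¹) * (s * w * s⁻¹) := by group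
        rw [e, hs, Commute.mul_mul_mul_comm hc, h]
        calc z * (w * (w * z)) = z * ((w * w) * z) := by group
          _ = 1 := by rw [hww, one_mul, hzz]
      have := hEsub1 _ hxw h1
      have e : x = (x * w) * w := by
        calc x = x * (w * w) := by rw [hww, mul_one]
          _ = x * w * w := by group
      rw [e]; exact U.mul_mem this hw
  -- conclusion
  apply Helper48.mem_normalizer_of_forall_conj_mem
  intro r hr u hu
  apply hEsub
  have hu' := hEU u hu
  refine ⟨hRT r hr u hu'.1, ?_, ?_⟩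
  · intro t ht
    have ht' : r⁻¹ * t * r ∈ T := by
      have := hRT r⁻¹ (R.inv_mem hr) t ht
      simpa using this
    have h1 := hu'.2.1 _ ht'
    calc t * (r * u * r⁻¹) = r * ((r⁻¹ * t * r) * u) * r⁻¹ := by group
      _ = r * (u * (r⁻¹ * t * r)) * r⁻¹ := by rw [h1]
      _ = r * u * r⁻¹ * t := by group
  · calc r * u * r⁻¹ * (r * u * r⁻¹) = r * (u * u) * r⁻¹ := by group
      _ = 1 := by rw [hu'.2.2]; group


theorem result {G : Type*} [Group G] [Finite G]
    [IsSimpleGroup G] (hna : ¬ IsMulCommutative G) (hN : Cfsg.IsNGroup G) (h2 : Cfsg.IsCharacteristicTwoType G)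
    (P : Sylow 2 G) (U : Subgroup G) (hUP : U ≤ (P : Subgroup G)) (hUn : (P : Subgroup G) ≤ Subgroup.normalizer (U : Set G))
    (hU4 : IsKleinFour ↥U)
    (hUZ : ¬ IsCyclic ↥((P : Subgroup G) ⊓ Subgroup.centralizer ((P : Subgroup G) : Set G)) →
      U ≤ Subgroup.centralizer ((P : Subgroup G) : Set G))
    (K : Subgroup G) (hK : Odd (Nat.card K)) (hUK : U ≤ Subgroup.normalizer (K : Set G)) :
    U ≤ Subgroup.centralizer (K : Set G) := by
  have : Fact (Nat.Prime 2) := ⟨Nat.prime_two⟩
  -- facts about U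
  have hUsq : ∀ x ∈ U, x * x = 1 := by
    intro x hx
    have := IsKleinFour.mul_self (⟨x, hx⟩ : U)
    exact congrArg Subtype.val this
  have hUcomm : ∀ x ∈ U, ∀ y ∈ U, x * y = y * x := by
    intro x hx y hy
    have h := IsKleinFour.isMulCommutative (G := U)
    have := h.is_comm.comm (⟨x, hx⟩ : U) ⟨y, hy⟩
    exact congrArg Subtype.val this
  have hUcard : Nat.card U = 4 := IsKleinFour.card_four
  have hU1 : U ≠ ⊥ := by
    intro h
    rw [h] at hUcard
    simp at hUcard
  have hUenum : ∀ a ∈ U, ∀ b ∈ U, a ≠ 1 → b ≠ 1 → a ≠ b → ∀ x ∈ U, x = 1 ∨ x = a ∨ x = b ∨ x = a * b := by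
    intro a ha b hb ha1 hb1 hab x hx
    by_cases hx1 : x = 1
    · exact Or.inl hx1
    by_cases hxa : x = a
    · exact Or.inr (Or.inl hxa)
    by_cases hxb : x = b
    · exact Or.inr (Or.inr (Or.inl hxb))
    right; right; right
    have := IsKleinFour.eq_mul_of_ne_all (G := U) (x := ⟨a, ha⟩) (y := ⟨b, hb⟩) (z := ⟨x, hx⟩)
      (fun h => ha1 (congrArg Subtype.val h)) (fun h => hb1 (congrArg Subtype.val h))
      (fun h => hab (congrArg Subtype.val h)) (fun h => hx1 (congrArg Subtype.val h))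
      (fun h => hxa (congrArg Subtype.val h)) (fun h => hxb (congrArg Subtype.val h))
    exact congrArg Subtype.val this
  have hpK : ¬ 2 ∣ Nat.card K := by
    intro h
    exact (Nat.not_even_iff_odd.2 hK) (even_iff_two_dvd.2 h)
  have hgen : K ≤ Helper48.cgen K U :=
    Helper48.le_cgen_of_le_card (p := 2) K U hpK hUK hUcomm
      (fun a ha => by rw [pow_two]; exact hUsq a ha) (by rw [hUcard]; norm_num)
  suffices h : ∀ w ∈ U, w ≠ 1 → K ⊓ centralizer {w} ≤ centralizer (U : Set G) by
    intro a ha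
    rw [mem_centralizer_iff]
    intro x hx
    have hle : Helper48.cgen K U ≤ centralizer (U : Set G) :=
      iSup_le (fun w => h w.1 w.2.1 w.2.2)
    have := hle (hgen hx)
    rw [mem_centralizer_iff] at this
    exact (this a ha).symm
  intro w hwU hw1
  have hww : w * w = 1 := hUsq w hwU
  -- the 2-local N = N_G(<w>)
  set N : Subgroup G := normalizer ((zpowers w : Subgroup G) : Set G) with hNdef
  have hzp : ∀ y ∈ zpowers w, y = 1 ∨ y = w := by
    intro y hy
    obtain ⟨k, rfl⟩ := mem_zpowers_iff.1 hy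
    rcases Int.even_or_odd k with ⟨m, rfl⟩ | ⟨m, rfl⟩
    · left
      rw [zpow_add, ← (Commute.refl w).mul_zpow, hww, one_zpow]
    · right
      rw [zpow_add, two_mul, zpow_add, ← (Commute.refl w).mul_zpow, hww, one_zpow, zpow_one, one_mul]
  have hF1 : ∀ g ∈ N, g * w = w * g := by
    intro g hg
    have h1 : g * w * g⁻¹ ∈ zpowers w := (mem_normalizer_iff.1 hg w).1 (mem_zpowers w)
    rcases hzp _ h1 with h | h
    · exfalso; apply hw1
      have : w = g⁻¹ * (g * w * g⁻¹) * g := by group
      rw [this, h]; group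
    · calc g * w = g * w * g⁻¹ * g := by group
        _ = w * g := by rw [h]
  have hF2 : ∀ g, g * w = w * g → g ∈ N := by
    intro g hg
    apply Subgroup.centralizer_le_normalizer
    rw [mem_centralizer_iff]
    intro y hy
    rcases hzp y hy with h | h
    · rw [h]; simp
    · rw [h]; exact hg.symm
  have hUN : U ≤ N := fun x hx => hF2 x (hUcomm x hx w hwU)
  have hzp2 : IsPGroup 2 (zpowers w) := P.isPGroup'.to_le (zpowers_le.2 (hUP hwU))
  have hzne : (zpowers w : Subgroup G) ≠ ⊥ := by
    intro h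
    apply hw1
    have := mem_zpowers w
    rw [h, mem_bot] at this
    exact this
  have hNchar : Cfsg.IsOfCharacteristicTwo ↥N := h2.2 (zpowers w) hzp2 hzne
  -- Sylow 2-subgroup of N containing C_P(w)
  have hTp : IsPGroup 2 (((P : Subgroup G) ⊓ N).subgroupOf N) :=
    (P.isPGroup'.to_le inf_le_left).comap_subtype
  obtain ⟨S, hS⟩ := hTp.exists_le_sylow
  set R : Subgroup G := (S : Subgroup N).map N.subtype with hRdef
  have hRp : IsPGroup 2 R := S.isPGroup'.map N.subtype
  have hTR : ∀ x ∈ (P : Subgroup G), x * w = w * x → x ∈ R := by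
    intro x hx hxw
    have hxN : x ∈ N := hF2 x hxw
    have : (⟨x, hxN⟩ : N) ∈ (S : Subgroup N) := hS (by
      rw [mem_subgroupOf]
      exact ⟨hx, hxN⟩)
    exact ⟨⟨x, hxN⟩, this, rfl⟩
  have hRn : R ≤ normalizer (U : Set G) :=
    normalizes_four P U hUP hUn hU1 hUcomm hUsq hUenum hUZ w hwU hw1 R hRp hTR
  -- apply the key lemma in N
  obtain ⟨b, hbU, hb1, hbw⟩ : ∃ b ∈ U, b ≠ 1 ∧ b ≠ w := by
    by_contra hcon
    push Not at hcon
    have hsub : ∀ x : U, x = 1 ∨ x = ⟨w, hwU⟩ := by
      intro x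
      by_cases hx1 : (x : G) = 1
      · left; exact Subtype.ext hx1
      · right; exact Subtype.ext (hcon x x.2 hx1)
    have : Fintype U := Fintype.ofFinite U
    have hle : Fintype.card U ≤ 2 := by
      classical
      have : (Finset.univ : Finset U) ⊆ {1, ⟨w, hwU⟩} := by
        intro x _
        rcases hsub x with h | h <;> simp [h]
      calc Fintype.card U = (Finset.univ : Finset U).card := rfl
        _ ≤ ({1, ⟨w, hwU⟩} : Finset U).card := Finset.card_le_card this
        _ ≤ 2 := Finset.card_le_two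
    rw [Nat.card_eq_fintype_card] at hUcard
    omega
  have hen := hUenum w hwU b hbU hw1 hb1 (Ne.symm hbw)
  have hUS : U.subgroupOf N ≤ S := by
    intro x hx
    rw [mem_subgroupOf] at hx
    exact hS (by
      rw [mem_subgroupOf]
      exact ⟨hUP hx, x.2⟩)
  have hSU : (S : Subgroup N) ≤ normalizer ((U.subgroupOf N : Subgroup N) : Set N) := by
    intro x hx
    have hxR : (x : G) ∈ R := ⟨x, hx, rfl⟩
    have hxn := hRn hxR
    rw [mem_normalizer_iff] at hxn ⊢
    intro y
    rw [mem_subgroupOf, mem_subgroupOf]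
    exact hxn y
  have hkey := four_le_pCore hNchar S (U.subgroupOf N) hUS hSU ⟨w, hUN hwU⟩ ⟨b, hUN hbU⟩
    (by
      intro x hx
      rw [mem_subgroupOf] at hx
      rcases hen _ hx with h | h | h | h
      · left; exact Subtype.ext h
      · right; left; exact Subtype.ext h
      · right; right; left; exact Subtype.ext h
      · right; right; right; exact Subtype.ext h)
    (by rw [mem_subgroupOf]; exact hwU)
    (by
      intro c
      exact Subtype.ext (hF1 c c.2))
  -- final step
  intro x hx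
  rw [mem_centralizer_iff]
  intro a ha
  have hxK : x ∈ K := (Subgroup.mem_inf.1 hx).1
  have hxw : x * w = w * x :=
    Subgroup.mem_centralizer_singleton_iff.1 (Subgroup.mem_inf.1 hx).2
  have hxN : x ∈ N := hF2 x hxw
  have haN : a ∈ N := hUN ha
  have hQn : (Cfsg.pCore 2 ↥N).Normal := Helper48.pCore_normal 2 ↥N
  have hQp : IsPGroup 2 (Cfsg.pCore 2 ↥N) := Helper48.pCore_isPGroup
  have haQ : (⟨a, haN⟩ : N) ∈ Cfsg.pCore 2 ↥N := hkey (by rw [mem_subgroupOf]; exact ha)
  have hcQ : (⟨a, haN⟩ : N) * (⟨x, hxN⟩ * (⟨a, haN⟩ : N)⁻¹ * (⟨x, hxN⟩ : N)⁻¹) ∈ Cfsg.pCore 2 ↥N :=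
    (Cfsg.pCore 2 ↥N).mul_mem haQ (hQn.conj_mem _ ((Cfsg.pCore 2 ↥N).inv_mem haQ) _)
  obtain ⟨k, hk⟩ := hQp ⟨_, hcQ⟩
  have hk' : (a * (x * a⁻¹ * x⁻¹)) ^ 2 ^ k = 1 := by
    have := congrArg (fun t : Cfsg.pCore 2 ↥N => ((t : N) : G)) hk
    simpa using this
  have hcK : a * (x * a⁻¹ * x⁻¹) ∈ K := by
    have h1 : a * x * a⁻¹ ∈ K := (mem_normalizer_iff.1 (hUK ha) x).1 hxK
    have := K.mul_mem h1 (K.inv_mem hxK)
    convert this using 1; group
  have hc1 : a * (x * a⁻¹ * x⁻¹) = 1 := by
    have hd1 : orderOf (a * (x * a⁻¹ * x⁻¹)) ∣ 2 ^ k := orderOf_dvd_of_pow_eq_one hk'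
    have hd2 : orderOf (a * (x * a⁻¹ * x⁻¹)) ∣ Nat.card K := by
      have := orderOf_dvd_natCard (⟨_, hcK⟩ : K)
      rwa [Subgroup.orderOf_mk] at this
    have hcop : Nat.Coprime (2 ^ k) (Nat.card K) :=
      Nat.Coprime.pow_left k ((Nat.Prime.coprime_iff_not_dvd Nat.prime_two).2 hpK)
    have := Nat.eq_one_of_dvd_coprimes hcop hd1 hd2
    exact orderOf_eq_one_iff.1 this
  calc a * x = (a * (x * a⁻¹ * x⁻¹)) * x * a := by group
    _ = x * a := by rw [hc1, one_mul]

end Cfsg.Agent.S1957
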