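import Cfsg.Statements.S1967
import Cfsg.Agent.Helper33.SylowBasic

set_option autoImplicit false
open Cfsg

namespace Cfsg.Agent.S1967

/-- Let p be a prime, G a finite group with Sylow p-subgroup S and W a conjugacy functor for p on G. Then W controls strong fusion in G if and only if, whenever T ≤ S and g ∈ G satisfy gTg⁻¹ ≤ S, one can write g = n c with n ∈ N_G(W(S)) and c ∈ C_G(T). -/
theorem result {G : Type*} [Group G] [Finite G] {p : ℕ} [Fact p.Prime] (S : Sylow p G) (W : Subgroup G → Subgroup G) (hW : Cfsg.IsConjugacyFunctor p W) : Cfsg.ControlsStrongFusionIn p W ⊤ ↔ ∀ (T : Subgroup G) (g : G), T ≤ (S : Subgroup G) → T.map (MulAut.conj g).toMonoidHom ≤ (S : Subgroup G) → ∃ n ∈ Subgroup.normalizer ((W (S : Subgroup G) : Subgroup G) : Set G), ∃ c ∈ Subgroup.centralizer (T : Set G), g = n * c := by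
  constructor
  · rintro ⟨T, -, hTp, hTidx, hT⟩ Q g hQS hQg
    rw [Subgroup.relIndex_top_right] at hTidx
    obtain ⟨k, hk⟩ := Cfsg.Agent.Helper33.exists_conj_eq_of_isPGroup_of_not_dvd_index S T hTp hTidx
    have hWT : W T = (W (S : Subgroup G)).map (MulAut.conj k).toMonoidHom := by
      rw [← hk]; exact (hW (S : Subgroup G) S.2).2.2 k
    -- the set A = k Q k⁻¹ and the element h = k g k⁻¹
    have hA : (fun q => k * q * k⁻¹) '' (Q : Set G) ⊆ T := by
      rintro _ ⟨q, hq, rfl⟩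
      rw [← hk]
      exact Cfsg.Agent.Helper33.conj_mem_map_conj _ k (hQS hq)
    have hhA : (fun a => (k * g * k⁻¹) * a * (k * g * k⁻¹)⁻¹) '' ((fun q => k * q * k⁻¹) '' (Q : Set G)) ⊆ T := by
      rintro _ ⟨_, ⟨q, hq, rfl⟩, rfl⟩
      show (k * g * k⁻¹) * (k * q * k⁻¹) * (k * g * k⁻¹)⁻¹ ∈ T
      rw [← hk]
      have h1 : g * q * g⁻¹ ∈ (S : Subgroup G) := (Cfsg.Agent.Helper33.map_conj_le_iff Q _ g).mp hQg q hq
      have := Cfsg.Agent.Helper33.conj_mem_map_conj _ k h1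
      have e : (k * g * k⁻¹) * (k * q * k⁻¹) * (k * g * k⁻¹)⁻¹ = k * (g * q * g⁻¹) * k⁻¹ := by group
      rw [e]; exact this
    obtain ⟨x, hxN', hx⟩ := hT _ (k * g * k⁻¹) (Subgroup.mem_top _) hA hhA
    have hxN := (Subgroup.mem_inf.mp hxN').2
    refine ⟨k⁻¹ * x * k, ?_, (k⁻¹ * x * k)⁻¹ * g, ?_, by group⟩
    · -- k⁻¹ x k normalizes W S
      rw [hWT] at hxN
      rw [Subgroup.mem_normalizer_iff] at hxN ⊢
      intro y
      have := hxN (k * y * k⁻¹)
      rw [Cfsg.Agent.Helper33.mem_map_conj_iff, Cfsg.Agent.Helper33.mem_map_conj_iff] at this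
      have e1 : k⁻¹ * (k * y * k⁻¹) * k = y := by group
      have e2 : k⁻¹ * (x * (k * y * k⁻¹) * x⁻¹) * k = k⁻¹ * x * k * y * (k⁻¹ * x * k)⁻¹ := by group
      rw [e1, e2] at this
      exact this
    · rw [Subgroup.mem_centralizer_iff]
      intro q hq
      have := hx (k * q * k⁻¹) ⟨q, hq, rfl⟩
      have e : g * q * g⁻¹ = (k⁻¹ * x * k) * q * (k⁻¹ * x * k)⁻¹ := by
        calc g * q * g⁻¹ = k⁻¹ * ((k * g * k⁻¹) * (k * q * k⁻¹) * (k * g * k⁻¹)⁻¹) * k := by group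
          _ = k⁻¹ * (x * (k * q * k⁻¹) * x⁻¹) * k := by rw [this]
          _ = _ := by group
      calc q * ((k⁻¹ * x * k)⁻¹ * g) = (k⁻¹ * x * k)⁻¹ * ((k⁻¹ * x * k) * q * (k⁻¹ * x * k)⁻¹) * g := by group
        _ = (k⁻¹ * x * k)⁻¹ * (g * q * g⁻¹) * g := by rw [e]
        _ = _ := by group
  · intro h
    refine ⟨(S : Subgroup G), le_top, S.2, ?_, ?_⟩
    · rw [Subgroup.relIndex_top_right]; exact S.not_dvd_index
    · intro A g _ hAS hgA
      have h1 : Subgroup.closure A ≤ (S : Subgroup G) := (Subgroup.closure_le _).mpr hAS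
      have h2 : (Subgroup.closure A).map (MulAut.conj g).toMonoidHom ≤ (S : Subgroup G) := by
        rw [MonoidHom.map_closure, Subgroup.closure_le]
        rintro _ ⟨a, ha, rfl⟩
        exact hgA ⟨a, ha, rfl⟩
      obtain ⟨n, hn, c, hc, rfl⟩ := h (Subgroup.closure A) g h1 h2
      refine ⟨n, ⟨Subgroup.mem_top _, hn⟩, ?_⟩
      intro a ha
      have := Subgroup.mem_centralizer_iff.mp hc a (Subgroup.subset_closure ha)
      calc n * a * n⁻¹ = n * (a * c) * c⁻¹ * n⁻¹ := by group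
        _ = n * (c * a) * c⁻¹ * n⁻¹ := by rw [this]
        _ = _ := by group

end Cfsg.Agent.S1967
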