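import Cfsg.Statements.S1972
import Cfsg.Agent.Helper34.EngelSections

set_option autoImplicit false
universe u
open Cfsg

namespace Cfsg.Agent.S1972

/-- Let p be a prime, G a finite group and W an isomorphism-invariant p-group functor (W assigns to every group Q a subgroup W(Q), nontrivial whenever Q is a nontrivial finite p-group, and every isomorphism from a finite p-group Q onto a group R carries W(Q) onto W(R)). Suppose that whenever G* = K/R is a section of G with C_{G*}(O_p(G*)) ≤ O_p(G*) and S* is a Sylow p-subgroup of G* with W(S*) not normal in G*, there is an element g of S* outside O_p(G*) such that [X, g, …, g] ≤ Y with p − 1 entries g, for every chief factor X/Y of G* with X ≤ O_p(G*). Then W controls transfer in every section of G. -/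
theorem result {G : Type u} [Group G] [Finite G] {p : ℕ} [Fact p.Prime] (W : ∀ (Q : Type u) [Group Q], Subgroup Q) (hW : Cfsg.IsCharPFunctor.{u} p W) (hloc : ∀ (K R : Subgroup G) [hR : (R.subgroupOf K).Normal], Subgroup.centralizer ((Cfsg.pCore p (↥K ⧸ R.subgroupOf K) : Subgroup (↥K ⧸ R.subgroupOf K)) : Set (↥K ⧸ R.subgroupOf K)) ≤ Cfsg.pCore p (↥K ⧸ R.subgroupOf K) → ∀ T : Sylow p (↥K ⧸ R.subgroupOf K), ¬ (Cfsg.inducedFunctor (G := (↥K ⧸ R.subgroupOf K)) W ((T : Subgroup (↥K ⧸ R.subgroupOf K)))).Normal → ∃ g : (↥K ⧸ R.subgroupOf K), g ∈ (T : Subgroup (↥K ⧸ R.subgroupOf K)) ∧ g ∉ Cfsg.pCore p (↥K ⧸ R.subgroupOf K) ∧ ∀ U V : Subgroup (↥K ⧸ R.subgroupOf K), Cfsg.IsChiefFactor U V → U ≤ Cfsg.pCore p (↥K ⧸ R.subgroupOf K) → Cfsg.iterCommutator U (Subgroup.zpowers g) (p - 1) ≤ V) : ∀ (K R : Subgroup G) [hR : (R.subgroupOf K).Normal], Cfsg.ControlsTransferIn p (Cfsg.inducedFunctor (G := (↥K ⧸ R.subgroupOf K)) W) ⊤ := by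
  have hΦ := Cfsg.Agent.Helper33.isoInvariant_OpTransferProp hW
  have hΦE := Cfsg.Agent.Helper34.isoInvariant_EngelProp hW
  have hsecG : Cfsg.Agent.Helper33.SectionProp (Cfsg.Agent.Helper34.EngelProp p W) G :=
    fun K R _ _ hcon T hn => hloc K R hcon T hn
  intro K R hR
  have hsecX : Cfsg.Agent.Helper33.SectionProp (Cfsg.Agent.Helper34.EngelProp p W)
      (↥K ⧸ R.subgroupOf K) := (hsecG.subgroup hΦE K).quotient hΦE (R.subgroupOf K)
  have hOp : Cfsg.Agent.Helper33.SectionProp (Cfsg.Agent.Helper33.OpTransferProp p W)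
      (↥K ⧸ R.subgroupOf K) := by
    intro K' R' hR'
    exact Cfsg.Agent.Helper34.opTransferProp_of_engel hW _ _ le_rfl
      ((hsecX.subgroup hΦE K').quotient hΦE (R'.subgroupOf K'))
  obtain ⟨T, hT1, hT2, hT3, hT4⟩ := Cfsg.Agent.Helper33.controlsTransfer_of_pCore_condition hW _
    (↥K ⧸ R.subgroupOf K) rfl hOp
  refine ⟨T, hT1, hT2, hT3, ?_⟩
  rw [hT4]
  unfold Cfsg.Agent.Helper33.FamW
  rw [Set.image_singleton, iSup_singleton]

end Cfsg.Agent.S1972
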