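import Cfsg.Statements.S1985
import Cfsg.Agent.S1973
import Cfsg.Agent.Helper47.KInfFunctor

set_option autoImplicit false
universe u
open Cfsg

namespace Cfsg.Agent.S1985

/-- Let p be an odd prime and G a finite group. Then the lower K-infinity subgroup controls weak closure of elements in G: the lower K-infinity subgroup of every p-subgroup P of G contains Z(P), and for some (equivalently, every) Sylow p-subgroup S of G, with K the lower K-infinity subgroup of S, every element of S commuting with all of N_G(K) is weakly closed in S with respect to G (every G-conjugate of it lying in S equals it). -/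
theorem result {G : Type u} [Group G] [Finite G] {p : ℕ} [Fact p.Prime] (hp : p ≠ 2) : Cfsg.ControlsWeakClosureOfElementsIn p (Cfsg.inducedFunctor (G := G) Cfsg.kInfLower) ⊤ := by
  have hp2 : 2 ≤ p - 1 := by
    have h2 := (Fact.out : p.Prime).two_le
    omega
  have hiter : ∀ (U Zp : Subgroup G) (n : ℕ), 2 ≤ n →
      Cfsg.iterCommutator U Zp 2 = ⊥ → Cfsg.iterCommutator U Zp n = ⊥ := by
    intro U Zp n hn h2
    induction n, hn using Nat.le_induction with
    | base => exact h2
    | succ n _ ih =>
      show ⁅Cfsg.iterCommutator U Zp n, Zp⁆ = ⊥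
      rw [ih]
      exact Subgroup.commutator_bot_left Zp
  refine Cfsg.Agent.S1973.result (Cfsg.inducedFunctor Cfsg.kInfLower)
    (Cfsg.Agent.Helper47.isConjugacyFunctor_kInfLower G p)
    (fun P hP => Cfsg.Agent.Helper47.center_le_inducedFunctor_kInfLower P hP) ?_ ⊤
  intro H T hTH hT hidx hn
  obtain ⟨g, hgT, hgP, hquad⟩ :=
    Cfsg.Agent.Helper47.exists_quadratic_kInfLower H T hTH hT hidx hn
  refine ⟨g, hgT, hgP, ?_⟩
  intro U V _ hU
  have h2 : Cfsg.iterCommutator (U.map H.subtype) (Subgroup.zpowers g) 2 = ⊥ := by
    rw [eq_bot_iff, ← hquad]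
    exact Subgroup.commutator_mono (Subgroup.commutator_mono hU le_rfl) le_rfl
  rw [hiter _ _ (p - 1) hp2 h2]
  exact bot_le

end Cfsg.Agent.S1985
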