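import Cfsg.Statements.S1990
import Cfsg.Agent.Helper34.ThompsonFunctor
import Cfsg.Agent.Helper34.PStableSeries

set_option autoImplicit false
universe u
open Cfsg

namespace Cfsg.Agent.S1990

/-- Let p be an odd prime, G a finite group with Sylow p-subgroup S, and W an isomorphism-invariant p-group functor (W assigns to every group Q a subgroup W(Q), nontrivial whenever Q is a nontrivial finite p-group, and every isomorphism from a finite p-group Q onto a group R carries W(Q) onto W(R)). Suppose N_G(W(S)) has a normal p-complement, and W(T) controls strong fusion in every section G* = K/R of G all of whose sections are p-stable in the normalizer form, for every Sylow p-subgroup T of G*. Then G has a normal p-complement. -/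
theorem result {G : Type u} [Group G] [Finite G] {p : ℕ} [Fact p.Prime] (hp : p ≠ 2) (W : ∀ (Q : Type u) [Group Q], Subgroup Q) (hW : Cfsg.IsCharPFunctor.{u} p W) (S : Sylow p G) (hN : Cfsg.HasNormalPComplement p ↥(Subgroup.normalizer ((Cfsg.inducedFunctor (G := G) W (S : Subgroup G) : Subgroup G) : Set G))) (hctl : ∀ (K R : Subgroup G) [hR : (R.subgroupOf K).Normal], (∀ (K' R' : Subgroup (↥K ⧸ R.subgroupOf K)) [hR' : (R'.subgroupOf K').Normal], Cfsg.IsNormalizerPStable p (↥K' ⧸ R'.subgroupOf K')) → ∀ T : Sylow p (↥K ⧸ R.subgroupOf K), Cfsg.ControlsStrongFusion p (Cfsg.inducedFunctor (G := (↥K ⧸ R.subgroupOf K)) W (T : Subgroup (↥K ⧸ R.subgroupOf K)))) : Cfsg.HasNormalPComplement p G := by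
  have hpF : Fact p.Prime := inferInstance
  -- every section of `G` satisfies the local hypothesis
  have hsec : ∀ (Y : Type u) [Group Y], Cfsg.Agent.Helper34.IsSec G Y →
      Cfsg.Agent.Helper34.Loc p W Y := by
    intro Y _ hY
    obtain ⟨K, f, hf⟩ := hY
    have hR : (f.ker.map K.subtype).subgroupOf K = f.ker :=
      Subgroup.comap_map_eq_self_of_injective K.subtype_injective f.ker
    have hRn : ((f.ker.map K.subtype).subgroupOf K).Normal := by
      rw [hR]; infer_instance
    have h1 : Cfsg.Agent.Helper34.Loc p W (↥K ⧸ (f.ker.map K.subtype).subgroupOf K) := by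
      intro hC hN T hT
      have hser : Cfsg.Agent.Helper34.HasPQSeries p (↥K ⧸ (f.ker.map K.subtype).subgroupOf K) :=
        Cfsg.Agent.Helper34.hasPQSeries_of_maxSylow (Cfsg.Agent.Helper34.pnil_iff.mpr hN) T hT
      have hstab : ∀ (K' R' : Subgroup (↥K ⧸ (f.ker.map K.subtype).subgroupOf K))
          [hR' : (R'.subgroupOf K').Normal],
          Cfsg.IsNormalizerPStable p (↥K' ⧸ R'.subgroupOf K') := by
        intro K' R' hR'
        exact Cfsg.Agent.Helper34.isNormalizerPStable_of_hasPQSeries hp
          ((hser.subgroup K').of_surjective (QuotientGroup.mk' _)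
            (QuotientGroup.mk'_surjective _))
      exact Cfsg.Agent.Helper34.inducedFunctor_normal_of_controlsStrongFusion hW hC T
        (hctl K (f.ker.map K.subtype) hstab T)
    have e : (↥K ⧸ (f.ker.map K.subtype).subgroupOf K) ≃* Y :=
      (QuotientGroup.quotientMulEquivOfEq hR).trans
        (QuotientGroup.quotientKerEquivOfSurjective f hf)
    exact h1.of_mulEquiv hW e
  have hnorm := Cfsg.Agent.Helper34.pnil_normalizer_inducedFunctor_all hW S
    (Cfsg.Agent.Helper34.pnil_iff.mpr hN)
  exact Cfsg.Agent.Helper34.pnil_iff.mp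
    (Cfsg.Agent.Helper34.thompson_functor hW G hsec hnorm)

end Cfsg.Agent.S1990
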