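import Cfsg.Statements.S1992
import Cfsg.Agent.S1984
import Cfsg.Agent.S0144
import Cfsg.Agent.Helper33.KInfChar
import Cfsg.Agent.Helper33.InducedFunctor

set_option autoImplicit false
universe u
open Cfsg

namespace Cfsg.Agent.S1992

/-- All Sylow `p`-subgroups are self-normalizing. -/
def SN (p : ℕ) (G : Type*) [Group G] : Prop :=
  ∀ Q : Sylow p G, Subgroup.normalizer ((Q : Subgroup G) : Set G) = Q

variable {p : ℕ} [Fact p.Prime]

/-- A normal subgroup containing one Sylow `p`-subgroup contains them all. -/
theorem sylow_le_normal {G : Type*} [Group G] [Finite G] (N : Subgroup G) [N.Normal]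
    (P Q : Sylow p G) (h : (P : Subgroup G) ≤ N) : (Q : Subgroup G) ≤ N := by
  obtain ⟨g, rfl⟩ := MulAction.exists_smul_eq G P Q
  intro x hx
  rw [Sylow.coe_subgroup_smul, Subgroup.mem_pointwise_smul_iff_inv_smul_mem] at hx
  have h1 : (MulAut.conj g)⁻¹ • x ∈ N := h hx
  have h2 : (MulAut.conj g)⁻¹ • x = g⁻¹ * x * g := by
    simp [MulAut.smul_def]
  rw [h2] at h1
  have h3 := ‹N.Normal›.conj_mem _ h1 g
  simpa [mul_assoc] using h3

/-- If one Sylow `p`-subgroup is self-normalizing, all are. -/
theorem sn_of_one {G : Type*} [Group G] [Finite G] (P : Sylow p G)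
    (hP : Subgroup.normalizer ((P : Subgroup G) : Set G) = P) : SN p G := by
  intro Q
  obtain ⟨g, rfl⟩ := MulAction.exists_smul_eq G P Q
  have h1 : ((g • P : Sylow p G) : Subgroup G) = (P : Subgroup G).map (MulAut.conj g).toMonoidHom := by
    rw [Sylow.coe_subgroup_smul, Subgroup.pointwise_smul_def]
    rfl
  rw [h1, ← Subgroup.map_equiv_normalizer_eq, hP]

/-- Self-normalization passes to subgroups containing a Sylow `p`-subgroup. -/
theorem sn_subgroup {G : Type*} [Group G] [Finite G] (hG : SN p G) (M : Subgroup G)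
    (T : Sylow p G) (hTM : (T : Subgroup G) ≤ M) : SN p ↥M := by
  apply sn_of_one (T.subtype hTM)
  apply le_antisymm
  · intro x hx
    have hxN : (x : G) ∈ Subgroup.normalizer ((T : Subgroup G) : Set G) := by
      rw [Subgroup.mem_normalizer_iff] at hx ⊢
      intro t
      constructor
      · intro ht
        have := (hx ⟨t, hTM ht⟩).mp (by simpa [Sylow.coe_subtype, Subgroup.mem_subgroupOf] using ht)
        simpa [Sylow.coe_subtype, Subgroup.mem_subgroupOf] using this
      · intro ht
        have hxt : (x : G)⁻¹ * ((x : G) * t * (x : G)⁻¹) * (x : G) = t := by group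
        have htM : t ∈ M := by
          have h1 : (x : G) * t * (x : G)⁻¹ ∈ M := hTM ht
          have h2 := M.mul_mem (M.mul_mem (M.inv_mem x.2) h1) x.2
          rwa [hxt] at h2
        have := (hx ⟨t, htM⟩).mpr (by simpa [Sylow.coe_subtype, Subgroup.mem_subgroupOf] using ht)
        simpa [Sylow.coe_subtype, Subgroup.mem_subgroupOf] using this
    rw [hG T] at hxN
    simpa [Sylow.coe_subtype, Subgroup.mem_subgroupOf] using hxN
  · exact Subgroup.le_normalizer

/-- Self-normalization passes to quotients by normal `p`-subgroups. -/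
theorem sn_quotient {G : Type*} [Group G] [Finite G] (hG : SN p G) (K : Subgroup G) [K.Normal]
    (hK : IsPGroup p K) : SN p (G ⧸ K) := by
  intro Q
  have hsurj : Function.Surjective (QuotientGroup.mk' K) := QuotientGroup.mk'_surjective K
  have h1 : IsPGroup p ((Q : Subgroup (G ⧸ K)).comap (QuotientGroup.mk' K)) := by
    apply Q.2.comap_of_ker_isPGroup
    rw [QuotientGroup.ker_mk']
    exact hK
  have h2 : ¬ p ∣ ((Q : Subgroup (G ⧸ K)).comap (QuotientGroup.mk' K)).index := by
    rw [Subgroup.index_comap_of_surjective _ hsurj]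
    exact Q.not_dvd_index
  have h3 := hG (h1.toSylow h2)
  have h4 : ((h1.toSylow h2 : Sylow p G) : Subgroup G) =
      (Q : Subgroup (G ⧸ K)).comap (QuotientGroup.mk' K) := rfl
  rw [h4, ← Subgroup.comap_normalizer_eq_of_surjective _ hsurj] at h3
  exact Subgroup.comap_injective hsurj h3

/-- **Glauberman**: for `p ≥ 5`, if the Sylow `p`-subgroups are nontrivial and self-normalizing then
no Sylow `p`-subgroup lies in the derived subgroup (so `G` has a normal subgroup of index `p`). -/
theorem not_le_commutator (hp5 : 5 ≤ p) : ∀ (n : ℕ) (G : Type u) [Group G] [Finite G],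
    Nat.card G = n → p ∣ Nat.card G → SN p G →
      ∀ P : Sylow p G, ¬ (P : Subgroup G) ≤ commutator G := by
  intro n
  induction n using Nat.strong_induction_on with
  | _ n ih =>
  intro G _ _ hcard hdvd hsn P hPle
  have hpp : p.Prime := Fact.out
  obtain ⟨T, -, hTp, hTidx, hT⟩ := Cfsg.Agent.S1984.result (G := G) (p := p) hp5
  rw [Subgroup.relIndex_top_right] at hTidx
  obtain ⟨TS, hTScoe⟩ : ∃ TS : Sylow p G, (TS : Subgroup G) = T := ⟨hTp.toSylow hTidx, rfl⟩
  have hTle : T ≤ commutator G := by
    rw [← hTScoe]; exact sylow_le_normal (commutator G) P TS hPle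
  obtain ⟨K, hKdef⟩ : ∃ K : Subgroup G, K = Cfsg.inducedFunctor Cfsg.kInfLower T := ⟨_, rfl⟩
  have hfun := Helper33.isConjugacyFunctor_inducedFunctor
    (Helper33.isCharPFunctor_kInfLower.{u} p) G T hTp
  rw [← hKdef] at hfun hT
  have hKT : K ≤ T := hfun.1
  have hTne : T ≠ ⊥ := by rw [← hTScoe]; exact TS.ne_bot_of_dvd_card hdvd
  have hKne : K ≠ ⊥ := hfun.2.1 hTne
  have hcardT : p ∣ Nat.card T := by
    rw [← hTScoe, TS.card_eq_multiplicity]
    exact dvd_pow_self p (hpp.factorization_pos_of_dvd Nat.card_pos.ne' hdvd).ne'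
  have hTN : T ≤ Subgroup.normalizer (K : Set G) := by
    intro t ht
    have h1 : T.map (MulAut.conj t).toMonoidHom = T := by
      have := Subgroup.conj_smul_eq_self_of_mem ht
      rw [Subgroup.pointwise_smul_def] at this
      exact this
    have h2 := hfun.2.2 t
    rw [h1, ← hKdef] at h2
    rw [Subgroup.mem_normalizer_iff]
    intro x
    constructor
    · intro hx
      rw [h2]
      exact ⟨x, hx, rfl⟩
    · intro hx
      rw [h2] at hx
      obtain ⟨y, hy, hyx⟩ := hx
      have : y = x := by
        have h3 : t * y * t⁻¹ = t * x * t⁻¹ := hyx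
        exact mul_left_cancel (mul_right_cancel h3)
      rwa [← this]
  by_cases hM : Subgroup.normalizer (K : Set G) = ⊤
  · -- K is normal in G
    have hKn : K.Normal := Subgroup.normalizer_eq_top_iff.mp hM
    by_cases hKT' : K = T
    · -- T is normal, hence G = T is a p-group
      have hTn : Subgroup.normalizer (T : Set G) = ⊤ := by
        rw [← hKT']; exact hM
      have hTtop : T = ⊤ := by
        have := hsn TS
        rw [hTScoe, hTn] at this
        exact this.symm
      have hGp : IsPGroup p G := (hTtop ▸ hTp).of_equiv Subgroup.topEquiv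
      have : Group.IsNilpotent G := hGp.isNilpotent
      have : Nontrivial G := by
        rw [← Finite.one_lt_card_iff_nontrivial]
        have h1 : p ≤ Nat.card G := Nat.le_of_dvd Nat.card_pos hdvd
        have h2 := hpp.two_le
        omega
      have hlt := Group.IsSolvable.commutator_lt_top_of_nontrivial G
      rw [hTtop] at hTle
      exact absurd (top_le_iff.mp hTle) hlt.ne
    · -- pass to G ⧸ K
      have hsurj : Function.Surjective (QuotientGroup.mk' K) := QuotientGroup.mk'_surjective K
      have hcardQ : Nat.card (G ⧸ K) < n := by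
        have h1 := Subgroup.card_eq_card_quotient_mul_card_subgroup K
        have h2 : 1 < Nat.card K := (Subgroup.one_lt_card_iff_ne_bot K).mpr hKne
        have h3 : 0 < Nat.card (G ⧸ K) := Nat.card_pos
        rw [← hcard]
        nlinarith
      have hsnQ : SN p (G ⧸ K) := sn_quotient hsn K (hTp.to_le hKT)
      have hPQ : ((TS.mapSurjective hsurj : Sylow p (G ⧸ K)) : Subgroup (G ⧸ K)) =
          T.map (QuotientGroup.mk' K) := by
        rw [Sylow.coe_mapSurjective, hTScoe]
      have hdvdQ : p ∣ Nat.card (G ⧸ K) := by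
        by_contra hnd
        have h1 := (TS.mapSurjective hsurj).card_eq_multiplicity
        rw [Nat.factorization_eq_zero_of_not_dvd hnd, pow_zero, hPQ] at h1
        have h2 : T.map (QuotientGroup.mk' K) = ⊥ := Subgroup.card_eq_one.mp h1
        rw [Subgroup.map_eq_bot_iff, QuotientGroup.ker_mk'] at h2
        exact hKT' (le_antisymm hKT h2)
      refine ih _ hcardQ (G ⧸ K) rfl hdvdQ hsnQ (TS.mapSurjective hsurj) ?_
      rw [hPQ]
      have h1 : (commutator G).map (QuotientGroup.mk' K) = commutator (G ⧸ K) := by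
        rw [_root_.commutator_def, _root_.commutator_def, Subgroup.map_commutator,
          Subgroup.map_top_of_surjective _ hsurj]
      rw [← h1]
      exact Subgroup.map_mono hTle
  · -- the normalizer M of K is proper: use control of transfer
    obtain ⟨M, hMdef⟩ : ∃ M : Subgroup G, M = Subgroup.normalizer (K : Set G) := ⟨_, rfl⟩
    rw [← hMdef] at hM hTN hT
    rw [top_inf_eq, ← _root_.commutator_def] at hT
    have hTMM : T ≤ ⁅M, M⁆ := by
      have h1 : T ⊓ commutator G = T := inf_eq_left.mpr hTle
      rw [h1] at hT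
      exact inf_eq_left.mp hT.symm
    have hcardM : Nat.card M < n := by
      by_contra hge
      rw [← hcard] at hge
      exact hM (Subgroup.eq_top_of_le_card M (not_lt.mp hge))
    have hdvdM : p ∣ Nat.card M := hcardT.trans (Subgroup.card_dvd_of_le hTN)
    have hsnM : SN p ↥M := sn_subgroup hsn M TS (hTScoe ▸ hTN)
    refine ih _ hcardM ↥M rfl hdvdM hsnM (TS.subtype (hTScoe ▸ hTN)) ?_
    intro x hx
    have hxT : (x : G) ∈ T := by
      rw [← hTScoe]
      simpa [Sylow.coe_subtype, Subgroup.mem_subgroupOf] using hx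
    have h1 : (x : G) ∈ (commutator ↥M).map M.subtype := by
      rw [Subgroup.map_subtype_commutator]
      exact hTMM hxT
    obtain ⟨y, hy, hyx⟩ := h1
    have : y = x := Subtype.ext hyx
    rwa [← this]

/-- A natural number all of whose prime divisors are `2` or `3` has the form `2 ^ a * 3 ^ b`. -/
theorem eq_two_pow_mul_three_pow {n : ℕ} (hn : n ≠ 0)
    (h : ∀ r : ℕ, r.Prime → r ∣ n → r < 5) : ∃ a b : ℕ, n = 2 ^ a * 3 ^ b := by
  obtain ⟨k, m, hm, rfl⟩ := Nat.exists_eq_two_pow_mul_odd hn
  have hm0 : m ≠ 0 := by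
    rintro rfl
    simp at hn
  have h3 : ∀ {d : ℕ}, d.Prime → d ∣ m → d = 3 := by
    intro d hd hdm
    have h5 := h d hd (hdm.mul_left _)
    have h2 : d ≠ 2 := by
      rintro rfl
      exact (Nat.not_even_iff_odd.mpr hm) (even_iff_two_dvd.mpr hdm)
    have h4 : d ≠ 4 := by
      rintro rfl
      exact absurd hd (by decide)
    have := hd.two_le
    omega
  exact ⟨k, _, by rw [← Nat.eq_prime_pow_of_unique_prime_dvd hm0 h3]⟩

/-- Let G be a finite group in which, for every prime q dividing the order of G, every Sylow q-subgroup is its own normalizer. Then the order of G is a power of a single prime (G is a q-group for some prime q; for G trivial any prime works). -/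
theorem result {G : Type*} [Group G] [Finite G] (h : ∀ q : ℕ, q.Prime → q ∣ Nat.card G → ∀ Q : Sylow q G, Subgroup.normalizer ((Q : Subgroup G) : Set G) = Q) : ∃ q : ℕ, q.Prime ∧ IsPGroup q G := by
  classical
  by_cases htriv : Nat.card G = 1
  · exact ⟨2, Nat.prime_two, IsPGroup.of_card (n := 0) (by simpa using htriv)⟩
  -- a prime `p` and a Sylow `p`-subgroup not inside the derived subgroup
  have key : ∃ (p : ℕ) (_ : Fact p.Prime), p ∣ Nat.card G ∧
      ∃ P : Sylow p G, ¬ (P : Subgroup G) ≤ commutator G := by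
    by_cases h5 : ∃ p : ℕ, p.Prime ∧ p ∣ Nat.card G ∧ 5 ≤ p
    · obtain ⟨p, hp, hpd, hp5⟩ := h5
      have : Fact p.Prime := ⟨hp⟩
      obtain ⟨P⟩ : Nonempty (Sylow p G) := inferInstance
      exact ⟨p, ⟨hp⟩, hpd, P, not_le_commutator hp5 _ G rfl hpd (h p hp hpd) P⟩
    · simp only [not_exists, not_and, not_le] at h5
      obtain ⟨a, b, hab⟩ := eq_two_pow_mul_three_pow (n := Nat.card G) Nat.card_pos.ne'
        (fun r hr hrd => h5 r hr hrd)
      have hsolv : Group.IsSolvable G :=
        Cfsg.Agent.S0144.result 2 3 a b Nat.prime_two Nat.prime_three hab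
      have hnt : Nontrivial G := by
        rw [← Finite.one_lt_card_iff_nontrivial]
        have := Nat.card_pos (α := G)
        omega
      have hlt := Group.IsSolvable.commutator_lt_top_of_nontrivial G
      have hidx : (commutator G).index ≠ 1 := fun h1 => hlt.ne (Subgroup.index_eq_one.mp h1)
      obtain ⟨p, hp, hpd⟩ := Nat.exists_prime_and_dvd hidx
      have : Fact p.Prime := ⟨hp⟩
      obtain ⟨P⟩ : Nonempty (Sylow p G) := inferInstance
      refine ⟨p, ⟨hp⟩, hpd.trans (Subgroup.index_dvd_card _), P, fun hle => ?_⟩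
      exact P.not_dvd_index (hpd.trans (Subgroup.index_dvd_of_le hle))
  obtain ⟨p, hpF, hpd, P, hP⟩ := key
  have hp : p.Prime := hpF.out
  refine ⟨p, hp, ?_⟩
  have huniq : ∀ {d : ℕ}, d.Prime → d ∣ Nat.card G → d = p := by
    intro r hr hrd
    by_contra hne
    have : Fact r.Prime := ⟨hr⟩
    obtain ⟨R⟩ : Nonempty (Sylow r G) := inferInstance
    apply hP
    -- N = G' ⊔ R is normal, and the Frattini argument gives N = ⊤
    obtain ⟨N, hNdef⟩ : ∃ N : Subgroup G, N = commutator G ⊔ (R : Subgroup G) := ⟨_, rfl⟩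
    have hNn : N.Normal := Subgroup.Normal.of_commutator_le G (hNdef ▸ le_sup_left)
    have hRN : (R : Subgroup G) ≤ N := hNdef ▸ le_sup_right
    have hfr := Sylow.normalizer_sup_eq_top (R.subtype hRN)
    rw [Sylow.coe_subtype, Subgroup.map_subgroupOf_eq_of_le hRN, h r hr hrd R,
      sup_eq_right.mpr hRN] at hfr
    -- pass to the abelianization
    have hsurj : Function.Surjective (QuotientGroup.mk' (commutator G)) :=
      QuotientGroup.mk'_surjective _
    have h1 : (R : Subgroup G).map (QuotientGroup.mk' (commutator G)) = ⊤ := by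
      have h2 : N.map (QuotientGroup.mk' (commutator G)) = ⊤ := by
        rw [hfr, Subgroup.map_top_of_surjective _ hsurj]
      rw [hNdef, Subgroup.map_sup] at h2
      have h3 : (commutator G).map (QuotientGroup.mk' (commutator G)) = ⊥ := by
        rw [Subgroup.map_eq_bot_iff, QuotientGroup.ker_mk']
      rw [h3, bot_sup_eq] at h2
      exact h2
    have h4 : Disjoint ((P : Subgroup G).map (QuotientGroup.mk' (commutator G)))
        ((R : Subgroup G).map (QuotientGroup.mk' (commutator G))) :=
      IsPGroup.disjoint_of_ne p r (Ne.symm hne) _ _ (P.2.map _) (R.2.map _)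
    rw [h1, disjoint_top, Subgroup.map_eq_bot_iff, QuotientGroup.ker_mk'] at h4
    exact h4
  exact IsPGroup.of_card (Nat.eq_prime_pow_of_unique_prime_dvd Nat.card_pos.ne' huniq)

end Cfsg.Agent.S1992
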