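import Cfsg.Statements.S1997
import Cfsg.Agent.Helper33.TripleFinal
import Cfsg.Agent.S1996

set_option autoImplicit false
universe u
open Cfsg

namespace Cfsg.Agent.S1997

/-- Let p be a prime, G a finite group with Sylow p-subgroup S, and W₁, W₂ two isomorphism-invariant p-group functors (W assigns to every group Q a subgroup W(Q), nontrivial whenever Q is a nontrivial finite p-group, and every isomorphism from a finite p-group Q onto a group R carries W(Q) onto W(R)). Suppose that G* = C_{G*}(Ω₁Z(S*)) N_{G*}(W₁(S*)) = C_{G*}(Ω₁Z(S*)) N_{G*}(W₂(S*)) = N_{G*}(W₁(S*)) N_{G*}(W₂(S*)) whenever G* = K/R is a section of G with C_{G*}(O_p(G*)) ≤ O_p(G*) and S* is a Sylow p-subgroup of G*, where Ω₁Z denotes the subgroup generated by the elements of order dividing p in the centre. Suppose also Ω₁Z(S) ≤ W₁(S) ∩ W₂(S), and let A be the normal closure of Ω₁Z(S) in N_G(W₁(S)). Then A is an elementary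 abelian subgroup of S, strongly closed in S with respect to G, and A controls strong fusion in G. -/
theorem result {G : Type u} [Group G] [Finite G] {p : ℕ} [Fact p.Prime] (S : Sylow p G) (W₁ W₂ : ∀ (Q : Type u) [Group Q], Subgroup Q) (hW₁ : Cfsg.IsCharPFunctor.{u} p W₁) (hW₂ : Cfsg.IsCharPFunctor.{u} p W₂) (hfac : ∀ (K R : Subgroup G) [hR : (R.subgroupOf K).Normal], Subgroup.centralizer ((Cfsg.pCore p (↥K ⧸ R.subgroupOf K) : Subgroup (↥K ⧸ R.subgroupOf K)) : Set (↥K ⧸ R.subgroupOf K)) ≤ Cfsg.pCore p (↥K ⧸ R.subgroupOf K) → ∀ T : Sylow p (↥K ⧸ R.subgroupOf K), (∀ x : (↥K ⧸ R.subgroupOf K), ∃ a ∈ Subgroup.centralizer ((Cfsg.omegaOne p ((T : Subgroup (↥K ⧸ R.subgroupOf K)) ⊓ Subgroup.centralizer (((T : Subgroup (↥K ⧸ R.subgroupOf K)) : Subgroup (↥K ⧸ R.subgroupOf K)) : Set (↥K ⧸ R.subgroupOf K))) : Subgroup (↥K ⧸ R.subgroupOf K)) : Set (↥K ⧸ R.subgroupOf K)), ∃ b ∈ Subgroup.normalizer ((Cfsg.inducedFunctor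 (G := (↥K ⧸ R.subgroupOf K)) W₁ (T : Subgroup (↥K ⧸ R.subgroupOf K)) : Subgroup (↥K ⧸ R.subgroupOf K)) : Set (↥K ⧸ R.subgroupOf K)), x = a * b) ∧ (∀ x : (↥K ⧸ R.subgroupOf K), ∃ a ∈ Subgroup.centralizer ((Cfsg.omegaOne p ((T : Subgroup (↥K ⧸ R.subgroupOf K)) ⊓ Subgroup.centralizer (((T : Subgroup (↥K ⧸ R.subgroupOf K)) : Subgroup (↥K ⧸ R.subgroupOf K)) : Set (↥K ⧸ R.subgroupOf K))) : Subgroup (↥K ⧸ R.subgroupOf K)) : Set (↥K ⧸ R.subgroupOf K)), ∃ b ∈ Subgroup.normalizer ((Cfsg.inducedFunctor (G := (↥K ⧸ R.subgroupOf K)) W₂ (T : Subgroup (↥K ⧸ R.subgroupOf K)) : Subgroup (↥K ⧸ R.subgroupOf K)) : Set (↥K ⧸ R.subgroupOf K)), x = a * b) ∧ (∀ x : (↥K ⧸ R.subgroupOf K), ∃ a ∈ Subgroup.normalizer ((Cfsg.inducedFunctor (G := (↥K ⧸ R.subgroupOf K)) W₁ (T : Subgroup (↥K ⧸ R.subgroupOf K)) : Subgroup (↥K ⧸ R.subgroupOf K)) : Set (↥K ⧸ R.subgroupOf K)), ∃ b ∈ Subgroup.normalizer ((Cfsg.inducedFunctor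 (G := (↥K ⧸ R.subgroupOf K)) W₂ (T : Subgroup (↥K ⧸ R.subgroupOf K)) : Subgroup (↥K ⧸ R.subgroupOf K)) : Set (↥K ⧸ R.subgroupOf K)), x = a * b)) (hZ : Cfsg.omegaOne p ((S : Subgroup G) ⊓ Subgroup.centralizer (((S : Subgroup G) : Subgroup G) : Set G)) ≤ Cfsg.inducedFunctor (G := G) W₁ (S : Subgroup G) ⊓ Cfsg.inducedFunctor (G := G) W₂ (S : Subgroup G)) (N₁ : Subgroup G) (hN₁ : N₁ = Subgroup.normalizer ((Cfsg.inducedFunctor (G := G) W₁ (S : Subgroup G) : Subgroup G) : Set G)) (A : Subgroup G) (hA : A = (Subgroup.normalClosure (((Cfsg.omegaOne p ((S : Subgroup G) ⊓ Subgroup.centralizer (((S : Subgroup G) : Subgroup G) : Set G))).subgroupOf N₁ : Subgroup ↥N₁) : Set ↥N₁)).map N₁.subtype) : A ≤ (S : Subgroup G) ∧ Cfsg.IsElementaryAbelian p A ∧ Cfsg.IsStronglyClosed A (S : Subgroup G) ∧ Cfsg.ControlsStrongFusion p A := by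
  have hΦsec : Cfsg.Agent.Helper33.SectionProp (Cfsg.Agent.Helper33.TFProp p W₁ W₂) G := by
    intro K R hR hfin hcon T
    obtain ⟨h1, h2, _⟩ := hfac K R hcon T
    exact ⟨h1, h2⟩
  have key := Cfsg.Agent.Helper33.ncl_NW_eq hW₁ hW₂ _ G rfl hΦsec S hZ
  have hcf₁ := Cfsg.Agent.Helper33.isConjugacyFunctor_inducedFunctor hW₁ G
  have hcf₂ := Cfsg.Agent.Helper33.isConjugacyFunctor_inducedFunctor hW₂ G
  have hV₁ : Cfsg.inducedFunctor W₁ (S : Subgroup G) ≤ (S : Subgroup G) := (hcf₁ _ S.2).1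
  have hSN₁ : (S : Subgroup G) ≤ N₁ := by
    rw [hN₁]
    exact Subgroup.le_normalizer.trans
      (Cfsg.Agent.Helper33.normalizer_le_normalizer_functor hcf₁ S.2)
  have hZ' := le_inf_iff.mp hZ
  have hZN : Cfsg.Agent.Helper33.OZ p (S : Subgroup G) ≤ N₁ :=
    (Cfsg.Agent.Helper33.OZ_le p _).trans hSN₁
  have hAeq : A = Cfsg.Agent.Helper33.ncl (Cfsg.Agent.Helper33.NW W₁ (S : Subgroup G))
      (Cfsg.Agent.Helper33.OZ p (S : Subgroup G)) := by
    rw [hA]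
    have := Cfsg.Agent.Helper33.map_normalClosure_subgroupOf hZN
    rw [hN₁] at this ⊢
    exact this
  have hZC₁ : Cfsg.Agent.Helper33.OZ p (S : Subgroup G) ≤
      Subgroup.centralizer ((Cfsg.inducedFunctor W₁ (S : Subgroup G) : Subgroup G) : Set G) :=
    (Cfsg.Agent.Helper33.OZ_le_centralizer p _).trans (Subgroup.centralizer_le hV₁)
  have hZ1 : Cfsg.Agent.Helper33.OZ p (S : Subgroup G) ≤ Cfsg.inducedFunctor W₁ (S : Subgroup G) :=
    hZ'.1
  obtain ⟨hAV, hAel⟩ := Cfsg.Agent.Helper33.ncl_isElementaryAbelian (p := p)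
    (M := Cfsg.Agent.Helper33.NW W₁ (S : Subgroup G)) hZ1 le_rfl hZC₁
    (fun z hz => Cfsg.Agent.Helper33.pow_eq_one_of_mem_OZ z hz)
  rw [← hAeq] at hAV hAel
  have hAS : A ≤ (S : Subgroup G) := hAV.trans hV₁
  have hctl := Cfsg.Agent.S1996.result W₁ W₂ hW₁ hW₂
    (fun K R _ hcon T => (hfac K R hcon T).2.2)
  have h𝓦 : ∀ W ∈ ({Cfsg.inducedFunctor (G := G) W₁, Cfsg.inducedFunctor (G := G) W₂} :
      Set (Subgroup G → Subgroup G)), Cfsg.IsConjugacyFunctor p W := by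
    rintro W (rfl | hW)
    · exact hcf₁
    · rw [Set.mem_singleton_iff] at hW
      rw [hW]; exact hcf₂
  have hNA : ∀ W ∈ ({Cfsg.inducedFunctor (G := G) W₁, Cfsg.inducedFunctor (G := G) W₂} :
      Set (Subgroup G → Subgroup G)),
      Subgroup.normalizer ((W (S : Subgroup G) : Subgroup G) : Set G) ≤
        Subgroup.normalizer ((A : Subgroup G) : Set G) := by
    rintro W (rfl | hW)
    · rw [hAeq]
      exact Cfsg.Agent.Helper33.le_normalizer_ncl _ _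
    · rw [Set.mem_singleton_iff] at hW
      rw [hW, hAeq, key]
      exact Cfsg.Agent.Helper33.le_normalizer_ncl _ _
  have hfus := Cfsg.Agent.Helper33.exists_mem_of_familyControls S h𝓦 hctl
    (Subgroup.normalizer ((A : Subgroup G) : Set G)) hNA
  refine ⟨hAS, hAel, ⟨hAS, ?_⟩, ⟨S, hAS, ?_⟩⟩
  · intro x hx g hg
    obtain ⟨y, hy, hyx⟩ := hfus {x} g (Set.singleton_subset_iff.mpr (hAS hx))
      (fun b hb => by rw [Set.mem_singleton_iff.mp hb]; exact hg)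
    rw [← hyx x rfl]
    exact (Subgroup.mem_normalizer_iff.mp hy x).mp hx
  · intro B hB
    refine ⟨hB, ?_⟩
    intro g hg
    obtain ⟨y, hy, hyx⟩ := hfus B g hB (fun b hb => hg ⟨b, hb, rfl⟩)
    exact ⟨y, hy, fun a ha => (hyx a ha).symm⟩

end Cfsg.Agent.S1997
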