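import Cfsg.Statements.S2001
import Cfsg.Agent.Helper33.TwoFunctorTransferTop

set_option autoImplicit false
open Cfsg

namespace Cfsg.Agent.S2001

/-- Let p be a prime dividing the order of the finite group G, P a Sylow p-subgroup, W a conjugacy functor for p on G with Z(H) ≤ W(H) for every nontrivial p-subgroup H, and V a central functor: a conjugacy functor with V(H) ≤ Z(H), and V(H) ≤ V(K) whenever Z(H) ≤ Z(K), for nontrivial p-subgroups H, K. Say that W with V controls transfer in a subgroup L when some Sylow p-subgroup Q of L satisfies Q ∩ L' = (Q ∩ (N_L(W(Q)))')·(Q ∩ (C_L(V(Q)))') as a product of two subgroups. If W with V controls transfer in N_G(H) for every subgroup H with Z(P) ≤ H ≤ P, then W with V controls transfer in G. -/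
theorem result {G : Type*} [Group G] [Finite G] {p : ℕ} [Fact p.Prime] (hdiv : p ∣ Nat.card G) (P : Sylow p G) (W V : Subgroup G → Subgroup G) (hW : Cfsg.IsConjugacyFunctor p W) (hV : Cfsg.IsConjugacyFunctor p V) (hWZ : ∀ H : Subgroup G, IsPGroup p ↥H → H ⊓ Subgroup.centralizer ((H : Subgroup G) : Set G) ≤ W H) (hVZ : ∀ H : Subgroup G, IsPGroup p ↥H → V H ≤ H ⊓ Subgroup.centralizer ((H : Subgroup G) : Set G)) (hVmono : ∀ H K : Subgroup G, IsPGroup p ↥H → IsPGroup p ↥K → H ≠ ⊥ → K ≠ ⊥ → H ⊓ Subgroup.centralizer ((H : Subgroup G) : Set G) ≤ K ⊓ Subgroup.centralizer ((K : Subgroup G) : Set G) → V H ≤ V K) (hloc : ∀ H : Subgroup G, (P : Subgroup G) ⊓ Subgroup.centralizer (((P : Subgroup G) : Subgroup G) : Set G) ≤ H → H ≤ (P : Subgroup G) → ∃ Q : Subgroup G, Q ≤ Subgroup.normalizer ((H : Subgroup G) : Set G) ∧ IsPGroup p ↥Q ∧ ¬ p ∣ (Q).relIndex (Subgroup.normalizer ((H : Subgroup G) : Set G)) ∧ ∀ x : G, x ∈ Q ⊓ ⁅Subgroup.normalizer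 ((H : Subgroup G) : Set G), Subgroup.normalizer ((H : Subgroup G) : Set G)⁆ ↔ ∃ a ∈ Q ⊓ ⁅Subgroup.normalizer ((H : Subgroup G) : Set G) ⊓ Subgroup.normalizer ((W Q : Subgroup G) : Set G), Subgroup.normalizer ((H : Subgroup G) : Set G) ⊓ Subgroup.normalizer ((W Q : Subgroup G) : Set G)⁆, ∃ b ∈ Q ⊓ ⁅Subgroup.normalizer ((H : Subgroup G) : Set G) ⊓ Subgroup.centralizer ((V Q : Subgroup G) : Set G), Subgroup.normalizer ((H : Subgroup G) : Set G) ⊓ Subgroup.centralizer ((V Q : Subgroup G) : Set G)⁆, x = a * b) : ∃ Q : Subgroup G, IsPGroup p ↥Q ∧ ¬ p ∣ Q.index ∧ ∀ x : G, x ∈ Q ⊓ commutator G ↔ ∃ a ∈ Q ⊓ ⁅Subgroup.normalizer ((W Q : Subgroup G) : Set G), Subgroup.normalizer ((W Q : Subgroup G) : Set G)⁆, ∃ b ∈ Q ⊓ ⁅Subgroup.centralizer ((V Q : Subgroup G) : Set G), Subgroup.centralizer ((V Q : Subgroup G) : Set G)⁆, x = a * b := by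
  have hP0 : (P : Subgroup G) ≠ ⊥ := Sylow.ne_bot_of_dvd_card P hdiv
  have hZ0 : (P : Subgroup G) ⊓ Subgroup.centralizer (((P : Subgroup G) : Subgroup G) : Set G) ≠ ⊥ := by
    have : Nontrivial (P : Subgroup G) := (Subgroup.nontrivial_iff_ne_bot _).mpr hP0
    have hlt := IsPGroup.bot_lt_center (p := p) (G := (P : Subgroup G)) P.2
    obtain ⟨z, hz, hz1⟩ := SetLike.exists_of_lt hlt
    intro hbot
    apply hz1
    rw [Subgroup.mem_bot]
    have hzmem : (z : G) ∈ (P : Subgroup G) ⊓ Subgroup.centralizer (((P : Subgroup G) : Subgroup G) : Set G) := by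
      refine Subgroup.mem_inf.mpr ⟨z.2, ?_⟩
      rw [Subgroup.mem_centralizer_iff]
      intro y hy
      have := Subgroup.mem_center_iff.mp hz ⟨y, hy⟩
      exact congrArg Subtype.val this
    rw [hbot, Subgroup.mem_bot] at hzmem
    exact Subtype.ext hzmem
  have hVS : ∀ N₁ : Subgroup G, N₁ ≤ (P : Subgroup G) →
      (P : Subgroup G) ⊓ Subgroup.centralizer (((P : Subgroup G) : Subgroup G) : Set G) ≤ N₁ →
      V (P : Subgroup G) ≤ V N₁ := by
    intro N₁ hN₁ hZ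
    have hN₁0 : N₁ ≠ ⊥ := by
      intro hh
      apply hZ0
      rw [hh] at hZ
      exact le_bot_iff.mp hZ
    apply hVmono (P : Subgroup G) N₁ P.2 (P.2.to_le hN₁) hP0 hN₁0
    exact le_inf hZ (inf_le_right.trans (Subgroup.centralizer_le (by exact_mod_cast hN₁)))
  have hmain : (P : Subgroup G) ⊓ commutator G ≤ Cfsg.Agent.Helper33.T2 W V ⊤ (P : Subgroup G) := by
    apply Cfsg.Agent.Helper33.t2_top_of_local hW P hWZ hVS
    intro T hTS hZT htame
    obtain ⟨Q, hQN, hQp, hQidx, hQ⟩ := hloc T hZT hTS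
    have h1 : Q ⊓ ⁅Subgroup.normalizer ((T : Subgroup G) : Set G), Subgroup.normalizer ((T : Subgroup G) : Set G)⁆ ≤
        Cfsg.Agent.Helper33.T2 W V (Subgroup.normalizer ((T : Subgroup G) : Set G)) Q := by
      intro x hx
      obtain ⟨a, ha, b, hb, rfl⟩ := (hQ x).mp hx
      exact Subgroup.mul_mem _ (Subgroup.mem_sup_left ha) (Subgroup.mem_sup_right hb)
    exact Cfsg.Agent.Helper33.t2_at hW hV h1 hQN hQp hQidx inf_le_right (P.2.to_le inf_le_left) htame
  refine ⟨P, P.2, P.not_dvd_index, ?_⟩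
  obtain ⟨N, hN⟩ : ∃ N : Subgroup G, N = Subgroup.normalizer ((W (P : Subgroup G) : Subgroup G) : Set G) := ⟨_, rfl⟩
  obtain ⟨A, hA⟩ : ∃ A : Subgroup G, A = (P : Subgroup G) ⊓ ⁅N, N⁆ := ⟨_, rfl⟩
  obtain ⟨B, hB⟩ : ∃ B : Subgroup G, B = (P : Subgroup G) ⊓
      ⁅Subgroup.centralizer ((V (P : Subgroup G) : Subgroup G) : Set G),
        Subgroup.centralizer ((V (P : Subgroup G) : Subgroup G) : Set G)⁆ := ⟨_, rfl⟩
  have hT2 : Cfsg.Agent.Helper33.T2 W V ⊤ (P : Subgroup G) = A ⊔ B := by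
    unfold Cfsg.Agent.Helper33.T2
    simp only [top_inf_eq]
    rw [hA, hB, hN]
  have hPN : (P : Subgroup G) ≤ N := by
    rw [hN]
    exact Subgroup.le_normalizer.trans (Cfsg.Agent.Helper33.normalizer_le_normalizer_functor hW P.2)
  have hBA : B ≤ Subgroup.normalizer (A : Set G) := by
    intro g hg
    have hgP : g ∈ (P : Subgroup G) := by rw [hB] at hg; exact (Subgroup.mem_inf.mp hg).1
    apply Cfsg.Agent.Helper33.mem_normalizer_of_conjR_subset
    rintro _ ⟨y, hy, rfl⟩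
    have hy' : y ∈ (P : Subgroup G) ⊓ ⁅N, N⁆ := by rw [← hA]; exact hy
    show g⁻¹ * y * g ∈ A
    rw [hA]
    refine Subgroup.mem_inf.mpr ⟨Subgroup.mul_mem _ (Subgroup.mul_mem _ (Subgroup.inv_mem _ hgP) hy'.1) hgP, ?_⟩
    have h1 := Cfsg.Agent.Helper33.conj_mem_map_conj ⁅N, N⁆ g⁻¹ hy'.2
    rw [Subgroup.map_commutator,
      Cfsg.Agent.Helper33.map_conj_eq_self_of_mem (Subgroup.inv_mem _ (hPN hgP)), inv_inv] at h1
    exact h1
  intro x
  rw [← hN, ← hA, ← hB]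
  constructor
  · intro hx
    have hx' : x ∈ ((A ⊔ B : Subgroup G) : Set G) := by rw [← hT2]; exact hmain hx
    rw [Subgroup.coe_mul_of_right_le_normalizer_left A B hBA] at hx'
    obtain ⟨a, ha, b, hb, rfl⟩ := hx'
    exact ⟨a, ha, b, hb, rfl⟩
  · rintro ⟨a, ha, b, hb, rfl⟩
    rw [hA] at ha
    rw [hB] at hb
    refine Subgroup.mem_inf.mpr ⟨Subgroup.mul_mem _ ha.1 hb.1, ?_⟩
    rw [commutator_def]
    exact Subgroup.mul_mem _ (Subgroup.commutator_mono le_top le_top ha.2)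
      (Subgroup.commutator_mono le_top le_top hb.2)

end Cfsg.Agent.S2001
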