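import Cfsg.Statements.S2004
import Cfsg.Agent.Helper52.QuadNormalizer
import Cfsg.Agent.Helper52.SectionLift

set_option autoImplicit false
open Cfsg

namespace Cfsg.Agent.S2004

open Cfsg.Agent.Helper52.SectionLift

/-- p odd: if SL₂(p) is involved in no p-local subgroup N_G(P), then every section of G is p-stable. -/
theorem result {G : Type*} [Group G] [Finite G] {p : ℕ} [Fact p.Prime] (hp : p ≠ 2) (h : ∀ P : Subgroup G, IsPGroup p ↥P → P ≠ ⊥ → ¬ Cfsg.Involves (Matrix.SpecialLinearGroup (Fin 2) (ZMod p)) ↥(Subgroup.normalizer ((P : Subgroup G) : Set G))) : ∀ (K R : Subgroup G) [hR : (R.subgroupOf K).Normal], Cfsg.IsNormalizerPStable p (↥K ⧸ R.subgroupOf K) := by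
  classical
  intro K R hR Pb hPb g hg hq
  by_contra hnot
  -- the case `Pb = ⊥`
  have hPbne : Pb ≠ ⊥ := by
    rintro rfl
    apply hnot
    have : (QuotientGroup.mk (s := (Subgroup.centralizer (((⊥ : Subgroup (↥K ⧸ R.subgroupOf K))) :
        Set (↥K ⧸ R.subgroupOf K))).subgroupOf (Subgroup.normalizer
          (((⊥ : Subgroup (↥K ⧸ R.subgroupOf K))) : Set (↥K ⧸ R.subgroupOf K))))
        (⟨g, hg⟩ : ↥(Subgroup.normalizer
          (((⊥ : Subgroup (↥K ⧸ R.subgroupOf K))) : Set (↥K ⧸ R.subgroupOf K))))) = 1 := by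
      rw [QuotientGroup.eq_one_iff, Subgroup.mem_subgroupOf, Subgroup.mem_centralizer_iff]
      intro x hx
      have hx1 : x = 1 := by simpa using hx
      rw [hx1, one_mul, mul_one]
    rw [this]
    exact Subgroup.one_mem _
  -- `N(Pb)` involves `SL₂(p)`
  have hinv : Cfsg.Involves (Matrix.SpecialLinearGroup (Fin 2) (ZMod p))
      ↥(Subgroup.normalizer (Pb : Set (↥K ⧸ R.subgroupOf K))) := by
    apply Cfsg.Agent.Helper52.QuadNormalizer.involves_sl2p_normalizer_of_quadratic hp
      (Subgroup.zpowers g) Pb hPb hq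
    intro hle
    apply hnot
    apply hle
    refine ⟨⟨g, hg⟩, ?_, rfl⟩
    rw [SetLike.mem_coe, Subgroup.mem_subgroupOf]
    exact Subgroup.mem_zpowers g
  -- lift to `K`
  obtain ⟨P₀, hP₀p, hP₀map, hlift⟩ := exists_lift_normalizer (QuotientGroup.mk' (R.subgroupOf K))
    (QuotientGroup.mk'_surjective _) Pb hPb
  set π := QuotientGroup.mk' (R.subgroupOf K) with hπ
  set W : Subgroup K := Subgroup.normalizer (P₀ : Set K) ⊓
    (Subgroup.normalizer (Pb : Set (↥K ⧸ R.subgroupOf K))).comap π with hW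
  let f : ↥W →* ↥(Subgroup.normalizer (Pb : Set (↥K ⧸ R.subgroupOf K))) :=
    (π.comp W.subtype).codRestrict _ (fun w => (Subgroup.mem_inf.1 w.2).2)
  have hf : Function.Surjective f := by
    rintro ⟨n, hn⟩
    obtain ⟨m, hm, hmn⟩ := hlift n hn
    refine ⟨⟨m, Subgroup.mem_inf.2 ⟨hm, ?_⟩⟩, Subtype.ext hmn⟩
    rw [Subgroup.mem_comap, hmn]; exact hn
  have hinvW : Cfsg.Involves (Matrix.SpecialLinearGroup (Fin 2) (ZMod p)) ↥W :=
    Cfsg.Agent.S3788.involves_of_surjective f hf hinv
  -- push to `G`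
  let j : ↥W →* ↥(Subgroup.normalizer ((P₀.map K.subtype : Subgroup G) : Set G)) :=
    (K.subtype.comp W.subtype).codRestrict _ (fun w =>
      coe_mem_normalizer_map_subtype K P₀ (Subgroup.mem_inf.1 w.2).1)
  have hj : Function.Injective j := by
    intro w w' hww
    have := congrArg Subtype.val hww
    exact Subtype.ext (Subtype.ext this)
  have hinvG := involves_of_injective j hj hinvW
  refine h (P₀.map K.subtype) (hP₀p.map _) ?_ hinvG
  intro hbot
  apply hPbne
  rw [← hP₀map, (Subgroup.map_eq_bot_iff_of_injective P₀ K.subtype_injective).1 hbot,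
    Subgroup.map_bot]

end Cfsg.Agent.S2004
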