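import Cfsg.Statements.S2007
import Cfsg.Agent.Helper34.Burnside

set_option autoImplicit false
open Cfsg

namespace Cfsg.Agent.S2007

/-- Let p be a prime, G a finite group with Sylow p-subgroup S, and T a normal subgroup of S containing C_S(T). If N_G(T)/C_G(T) is a p-group (every element of N_G(T) of order prime to p centralizes T), then N_G(T) has a normal p-complement. -/
theorem result {G : Type*} [Group G] [Finite G] {p : ℕ} [Fact p.Prime] (S : Sylow p G) (T : Subgroup G) (hTS : T ≤ (S : Subgroup G)) (hTn : (S : Subgroup G) ≤ Subgroup.normalizer ((T : Subgroup G) : Set G)) (hC : (S : Subgroup G) ⊓ Subgroup.centralizer ((T : Subgroup G) : Set G) ≤ T) (hN : ∀ g ∈ Subgroup.normalizer ((T : Subgroup G) : Set G), (orderOf g).Coprime p → g ∈ Subgroup.centralizer ((T : Subgroup G) : Set G)) : Cfsg.HasNormalPComplement p ↥(Subgroup.normalizer ((T : Subgroup G) : Set G)) := by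
  classical
  -- work inside the group `N = N_G(T)`
  have hTN : T ≤ Subgroup.normalizer ((T : Subgroup G) : Set G) := Subgroup.le_normalizer
  let S' : Sylow p ↥(Subgroup.normalizer ((T : Subgroup G) : Set G)) := S.subtype hTn
  have hT'n : (T.subgroupOf (Subgroup.normalizer ((T : Subgroup G) : Set G))).Normal :=
    Subgroup.normal_in_normalizer
  apply Cfsg.Agent.Helper34.hasNormalPComplement_of_selfCentralizing S'
    (T.subgroupOf (Subgroup.normalizer ((T : Subgroup G) : Set G)))
  · -- C_{S'}(T') ≤ T'
    intro x hx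
    rw [Subgroup.mem_inf] at hx
    obtain ⟨hxS, hxC⟩ := hx
    rw [Subgroup.mem_subgroupOf]
    apply hC
    refine ⟨?_, ?_⟩
    · have : x ∈ (S : Subgroup G).subgroupOf (Subgroup.normalizer ((T : Subgroup G) : Set G)) := hxS
      rwa [Subgroup.mem_subgroupOf] at this
    · rw [Subgroup.mem_centralizer_iff] at hxC
      show (x : G) ∈ Subgroup.centralizer ((T : Subgroup G) : Set G)
      rw [Subgroup.mem_centralizer_iff]
      intro t ht
      have := hxC ⟨t, hTN ht⟩ (by rw [SetLike.mem_coe, Subgroup.mem_subgroupOf]; exact ht)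
      exact congrArg Subtype.val this
  · -- p'-elements centralize T'
    intro g hg
    have h1 : orderOf (g : G) = orderOf g := Subgroup.orderOf_coe g
    have h2 := hN (g : G) g.2 (by rwa [h1])
    rw [Subgroup.mem_centralizer_iff] at h2 ⊢
    intro t ht
    rw [SetLike.mem_coe, Subgroup.mem_subgroupOf] at ht
    exact Subtype.ext (h2 (t : G) ht)

end Cfsg.Agent.S2007
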