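import Cfsg.Statements.S2011
import Cfsg.Agent.Helper34.CentralSylow

set_option autoImplicit false
open Cfsg

namespace Cfsg.Agent.S2011

/-- Let G be a finite group with Sylow p-subgroup P and Q ≤ P. Then Q is centric in the fusion system of G on P (C_P(R) ≤ R for every G-conjugate R of Q lying in P) if and only if C_G(Q) is the internal direct product of Z(Q) = Q ∩ C_G(Q) and the largest normal subgroup of C_G(Q) of order prime to p. -/
theorem result {G : Type*} [Group G] [Finite G] (p : ℕ) [Fact p.Prime] (P : Sylow p G) (Q : Subgroup G) (hQ : Q ≤ P) : (Cfsg.groupFusionSystem (P : Subgroup G)).IsCentric Q ↔ Cfsg.IsInternalDirectProduct (Q ⊓ Subgroup.centralizer (Q : Set G)) ((Cfsg.pPrimeCore p ↥(Subgroup.centralizer (Q : Set G))).map (Subgroup.centralizer (Q : Set G)).subtype) (Subgroup.centralizer (Q : Set G)) := by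
  classical
  -- notation
  have hOn : (Cfsg.pPrimeCore p ↥(Subgroup.centralizer (Q : Set G))).Normal := Cfsg.pPrimeCore_normal p _
  have hOcop : (Nat.card (Cfsg.pPrimeCore p ↥(Subgroup.centralizer (Q : Set G)))).Coprime p :=
    Cfsg.Agent.Lib.card_pPrimeCore_coprime p
  have hZp : IsPGroup p ((Q ⊓ Subgroup.centralizer (Q : Set G)).subgroupOf (Subgroup.centralizer (Q : Set G))) :=
    ((P.2.to_le hQ).to_le inf_le_left).comap_subtype
  have hZc : (Q ⊓ Subgroup.centralizer (Q : Set G)).subgroupOf (Subgroup.centralizer (Q : Set G)) ≤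
      Subgroup.center ↥(Subgroup.centralizer (Q : Set G)) := by
    intro x hx
    rw [Subgroup.mem_subgroupOf] at hx
    rw [Subgroup.mem_center_iff]
    intro y
    have hy := y.2
    rw [Subgroup.mem_centralizer_iff] at hy
    exact Subtype.ext (hy (x : G) hx.1).symm
  have hZO : (Q ⊓ Subgroup.centralizer (Q : Set G)).subgroupOf (Subgroup.centralizer (Q : Set G)) ⊓
      Cfsg.pPrimeCore p ↥(Subgroup.centralizer (Q : Set G)) = ⊥ := by
    rw [← Subgroup.card_eq_one]
    rcases (hZp.to_le inf_le_left).card_eq_or_dvd with h | h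
    · exact h
    · exfalso
      have h1 : p ∣ Nat.card (Cfsg.pPrimeCore p ↥(Subgroup.centralizer (Q : Set G))) :=
        h.trans (Subgroup.card_dvd_of_le inf_le_right)
      have h2 := Nat.Coprime.eq_one_of_dvd hOcop.symm h1
      exact (Fact.out : p.Prime).one_lt.ne' h2
  -- the internal direct product condition reduces to `Z' ⊔ O = ⊤`
  have key : Cfsg.IsInternalDirectProduct (Q ⊓ Subgroup.centralizer (Q : Set G))
      ((Cfsg.pPrimeCore p ↥(Subgroup.centralizer (Q : Set G))).map (Subgroup.centralizer (Q : Set G)).subtype)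
      (Subgroup.centralizer (Q : Set G)) ↔
      (Q ⊓ Subgroup.centralizer (Q : Set G)).subgroupOf (Subgroup.centralizer (Q : Set G)) ⊔
        Cfsg.pPrimeCore p ↥(Subgroup.centralizer (Q : Set G)) = ⊤ := by
    have hmap : ((Q ⊓ Subgroup.centralizer (Q : Set G)).subgroupOf (Subgroup.centralizer (Q : Set G)) ⊔
        Cfsg.pPrimeCore p ↥(Subgroup.centralizer (Q : Set G))).map (Subgroup.centralizer (Q : Set G)).subtype =
        (Q ⊓ Subgroup.centralizer (Q : Set G)) ⊔
        (Cfsg.pPrimeCore p ↥(Subgroup.centralizer (Q : Set G))).map (Subgroup.centralizer (Q : Set G)).subtype := by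
      rw [Subgroup.map_sup, Subgroup.map_subgroupOf_eq_of_le inf_le_right]
    have htopmap : (⊤ : Subgroup ↥(Subgroup.centralizer (Q : Set G))).map
        (Subgroup.centralizer (Q : Set G)).subtype = Subgroup.centralizer (Q : Set G) := by
      rw [← MonoidHom.range_eq_map, Subgroup.range_subtype]
    constructor
    · rintro ⟨-, -, -, -, h⟩
      rw [← Subgroup.map_subtype_inj, hmap, htopmap]
      exact h
    · intro h
      refine ⟨inf_le_right, Subgroup.map_subtype_le _, ?_, ?_, ?_⟩
      · intro a ha b hb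
        have hbC : b ∈ Subgroup.centralizer (Q : Set G) := Subgroup.map_subtype_le _ hb
        rw [Subgroup.mem_centralizer_iff] at hbC
        exact hbC a ha.1
      · rw [eq_bot_iff]
        intro x hx
        obtain ⟨hxZ, hxK⟩ := Subgroup.mem_inf.mp hx
        obtain ⟨y, hy, rfl⟩ := Subgroup.mem_map.mp hxK
        have h1 : y ∈ (Q ⊓ Subgroup.centralizer (Q : Set G)).subgroupOf (Subgroup.centralizer (Q : Set G)) ⊓
            Cfsg.pPrimeCore p ↥(Subgroup.centralizer (Q : Set G)) := by
          rw [Subgroup.mem_inf]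
          refine ⟨?_, hy⟩
          rw [Subgroup.mem_subgroupOf]
          exact hxZ
        rw [hZO, Subgroup.mem_bot] at h1
        rw [h1]
        simp
      · rw [← hmap, h, htopmap]
  rw [key]
  constructor
  · -- centric ⇒ product
    rintro ⟨-, hcen⟩
    -- every p-subgroup of C lies in Q
    have step1 : ∀ D : Subgroup G, D ≤ Subgroup.centralizer (Q : Set G) → IsPGroup p D → D ≤ Q := by
      intro D hDC hDp
      have hDQ : IsPGroup p (D ⊔ Q : Subgroup G) :=
        IsPGroup.to_sup_of_normal_right' hDp (P.2.to_le hQ)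
          (le_trans hDC (Subgroup.centralizer_le_normalizer _))
      obtain ⟨g, hg⟩ := Cfsg.Agent.Helper34.exists_conj_mem_sylow P _ hDQ
      -- the conjugate R of Q
      have hφ : Cfsg.conjHom Q g ∈ (Cfsg.groupFusionSystem (P : Subgroup G)).Hom Q := by
        refine ⟨hQ, fun x => ?_, g, fun x => rfl⟩
        exact hg x (le_sup_right (a := D) x.2)
      have hR := hcen _ ⟨Cfsg.conjHom Q g, hφ, rfl⟩
      intro d hd
      have h1 : g * d * g⁻¹ ∈ Cfsg.FusionSystem.centralizerIn (P : Subgroup G) (Cfsg.conjHom Q g).range := by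
        show g * d * g⁻¹ ∈ (P : Subgroup G) ⊓ Subgroup.centralizer ((Cfsg.conjHom Q g).range : Set G)
        rw [Subgroup.mem_inf]
        refine ⟨hg d (le_sup_left (b := Q) hd), ?_⟩
        rw [Subgroup.mem_centralizer_iff]
        rintro _ ⟨x, rfl⟩
        have hdC := hDC hd
        rw [Subgroup.mem_centralizer_iff] at hdC
        have h2 := hdC x x.2
        show (g * (x : G) * g⁻¹) * (g * d * g⁻¹) = (g * d * g⁻¹) * (g * (x : G) * g⁻¹)
        have e1 : (g * (x : G) * g⁻¹) * (g * d * g⁻¹) = g * ((x : G) * d) * g⁻¹ := by group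
        have e2 : (g * d * g⁻¹) * (g * (x : G) * g⁻¹) = g * (d * (x : G)) * g⁻¹ := by group
        rw [e1, e2, h2]
      obtain ⟨x, hx⟩ := hR h1
      have hx' : g * (x : G) * g⁻¹ = g * d * g⁻¹ := hx
      have : (x : G) = d := by
        exact mul_left_cancel (mul_right_cancel hx')
      rw [← this]
      exact x.2
    -- so Z' is the Sylow p-subgroup of C
    let S : Sylow p ↥(Subgroup.centralizer (Q : Set G)) := default
    have hSZ : (S : Subgroup ↥(Subgroup.centralizer (Q : Set G))) ≤
        (Q ⊓ Subgroup.centralizer (Q : Set G)).subgroupOf (Subgroup.centralizer (Q : Set G)) := by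
      intro x hx
      rw [Subgroup.mem_subgroupOf]
      refine ⟨?_, x.2⟩
      have h1 : IsPGroup p ((S : Subgroup ↥(Subgroup.centralizer (Q : Set G))).map
          (Subgroup.centralizer (Q : Set G)).subtype) := S.2.map _
      exact step1 _ (Subgroup.map_subtype_le _) h1 (Subgroup.mem_map.mpr ⟨x, hx, rfl⟩)
    have hZS := S.is_maximal' hZp hSZ
    have := Cfsg.Agent.Helper34.central_sylow_sup_pPrimeCore S (by rw [← hZS]; exact hZc)
    rw [hZS]
    exact this
  · -- product ⇒ centric
    intro htop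
    refine ⟨hQ, ?_⟩
    rintro R ⟨φ, ⟨-, hφP, g, hg⟩, rfl⟩
    intro y hy
    have hy' : y ∈ (P : Subgroup G) ⊓ Subgroup.centralizer (φ.range : Set G) := hy
    obtain ⟨hyP, hyC⟩ := Subgroup.mem_inf.mp hy'
    rw [Subgroup.mem_centralizer_iff] at hyC
    have hdC : g⁻¹ * y * g ∈ Subgroup.centralizer (Q : Set G) := by
      rw [Subgroup.mem_centralizer_iff]
      intro x hx
      have h1 := hyC (φ ⟨x, hx⟩) ⟨⟨x, hx⟩, rfl⟩
      rw [hg] at h1
      have h2 : (g * x * g⁻¹) * y = y * (g * x * g⁻¹) := h1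
      have e1 : x * (g⁻¹ * y * g) = g⁻¹ * ((g * x * g⁻¹) * y) * g := by group
      have e2 : (g⁻¹ * y * g) * x = g⁻¹ * (y * (g * x * g⁻¹)) * g := by group
      rw [e1, e2, h2]
    obtain ⟨n, hn⟩ := P.2 ⟨y, hyP⟩
    have hn' : y ^ (p ^ n) = 1 := by
      have := congrArg Subtype.val hn
      simpa using this
    have hdpow : (⟨g⁻¹ * y * g, hdC⟩ : ↥(Subgroup.centralizer (Q : Set G))) ^ (p ^ n) = 1 := by
      apply Subtype.ext
      show (g⁻¹ * y * g) ^ (p ^ n) = 1
      have : (g⁻¹ * y * g) ^ (p ^ n) = g⁻¹ * y ^ (p ^ n) * g := by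
        have := conj_pow (a := g⁻¹) (i := p ^ n) (b := y)
        simpa using this
      rw [this, hn']
      group
    have hmem := Cfsg.Agent.Helper34.mem_of_pow_eq_one_of_central_sup _ _ hZc hOcop hZO htop _ n hdpow
    rw [Subgroup.mem_subgroupOf] at hmem
    have hdQ : g⁻¹ * y * g ∈ Q := hmem.1
    refine ⟨⟨g⁻¹ * y * g, hdQ⟩, ?_⟩
    rw [hg]
    show g * (g⁻¹ * y * g) * g⁻¹ = y
    group

end Cfsg.Agent.S2011
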