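import Cfsg.Statements.S2014
import Cfsg.Agent.Helper34.Basic

set_option autoImplicit false
open Cfsg

namespace Cfsg.Agent.S2014

/-- Let P be a Sylow p-subgroup of a finite group G and A, C ≤ P subgroups conjugate in G, with C extremal: N_P(C) is a Sylow p-subgroup of N_G(C). Then there is g with gAg⁻¹ = C and g N_P(A) g⁻¹ ≤ N_P(C); moreover, given any h with hAh⁻¹ = C, g can be chosen so that h g⁻¹ lies in O^p(N_G(C)), the subgroup of N_G(C) generated by its elements of order prime to p. -/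
theorem result {G : Type*} [Group G] [Finite G] (p : ℕ) [Fact p.Prime] (P : Sylow p G) (A C : Subgroup G) (hA : A ≤ P) (hC : C ≤ P) (hext : ¬ p ∣ ((P : Subgroup G) ⊓ Subgroup.normalizer ((C : Subgroup G) : Set G)).relIndex (Subgroup.normalizer ((C : Subgroup G) : Set G))) (h : G) (hh : A.map (MulAut.conj h).toMonoidHom = C) : ∃ g : G, A.map (MulAut.conj g).toMonoidHom = C ∧ ((P : Subgroup G) ⊓ Subgroup.normalizer ((A : Subgroup G) : Set G)).map (MulAut.conj g).toMonoidHom ≤ (P : Subgroup G) ⊓ Subgroup.normalizer ((C : Subgroup G) : Set G) ∧ h * g⁻¹ ∈ (Cfsg.pResidual p ↥(Subgroup.normalizer ((C : Subgroup G) : Set G))).map (Subgroup.normalizer ((C : Subgroup G) : Set G)).subtype := by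
  classical
  set N : Subgroup G := Subgroup.normalizer ((C : Subgroup G) : Set G) with hNdef
  -- the Sylow subgroup R of N
  have hR0 : IsPGroup p (((P : Subgroup G) ⊓ N).subgroupOf N) :=
    (P.2.to_le inf_le_left).comap_subtype
  let R : Sylow p N := hR0.toSylow hext
  -- the p-subgroup X of N
  let X0 : Subgroup G := ((P : Subgroup G) ⊓ Subgroup.normalizer ((A : Subgroup G) : Set G)).map
    (MulAut.conj h).toMonoidHom
  have hX0 : IsPGroup p X0 := (P.2.to_le inf_le_left).map _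
  have hX0N : X0 ≤ N := by
    have h1 : X0 ≤ (Subgroup.normalizer ((A : Subgroup G) : Set G)).map (MulAut.conj h).toMonoidHom :=
      Subgroup.map_mono inf_le_right
    refine le_trans h1 (le_trans (Subgroup.le_normalizer_map _) ?_)
    rw [hh]
  have hX : IsPGroup p (X0.subgroupOf N) := hX0.comap_subtype
  obtain ⟨k, hk, hkX⟩ := Cfsg.Agent.Helper34.exists_conj_mem_sylow_pResidual R (X0.subgroupOf N) hX
  have hkN : (k : G) ∈ N := k.2
  have hkN' : (k : G) ∈ Subgroup.normalizer ((C : Subgroup G) : Set G) := k.2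
  have hkC : ∀ c : G, c ∈ C ↔ (k : G) * c * (k : G)⁻¹ ∈ C := fun c =>
    Subgroup.mem_normalizer_iff.mp hkN' c
  have hkC' : ∀ c : G, c ∈ C ↔ (k : G)⁻¹ * c * (k : G) ∈ C := by
    intro c
    have h1 : (k : G)⁻¹ ∈ Subgroup.normalizer ((C : Subgroup G) : Set G) := Subgroup.inv_mem _ hkN'
    simpa using Subgroup.mem_normalizer_iff.mp h1 c
  refine ⟨(k : G) * h, ?_, ?_, ?_⟩
  · -- A^(k h) = C
    ext x
    rw [Subgroup.mem_map]
    constructor
    · rintro ⟨a, ha, rfl⟩
      have h1 : h * a * h⁻¹ ∈ C := by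
        rw [← hh, Subgroup.mem_map]
        exact ⟨a, ha, by simp⟩
      have h2 := (hkC _).mp h1
      have h3 : (MulAut.conj ((k : G) * h)).toMonoidHom a = (k : G) * (h * a * h⁻¹) * (k : G)⁻¹ := by
        simp [mul_assoc]
      rw [h3]
      exact h2
    · intro hx
      have h1 := (hkC' x).mp hx
      rw [← hh, Subgroup.mem_map] at h1
      obtain ⟨a, ha, hax⟩ := h1
      refine ⟨a, ha, ?_⟩
      have h3 : (MulAut.conj ((k : G) * h)).toMonoidHom a = (k : G) * ((MulAut.conj h).toMonoidHom a) * (k : G)⁻¹ := by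
        simp [mul_assoc]
      rw [h3, hax]
      group
  · -- N_P(A)^(k h) ≤ N_P(C)
    intro y hy
    rw [Subgroup.mem_map] at hy
    obtain ⟨a, ha, rfl⟩ := hy
    have h1 : h * a * h⁻¹ ∈ X0 := by
      rw [Subgroup.mem_map]
      exact ⟨a, ha, by simp⟩
    have h2 : (⟨h * a * h⁻¹, hX0N h1⟩ : N) ∈ X0.subgroupOf N := by
      rw [Subgroup.mem_subgroupOf]
      exact h1
    have h3 := hkX _ h2
    have h4 : k * (⟨h * a * h⁻¹, hX0N h1⟩ : N) * k⁻¹ ∈ ((P : Subgroup G) ⊓ N).subgroupOf N := h3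
    rw [Subgroup.mem_subgroupOf] at h4
    have h5 : (MulAut.conj ((k : G) * h)).toMonoidHom a = (k : G) * (h * a * h⁻¹) * (k : G)⁻¹ := by
      simp [mul_assoc]
    rw [h5]
    simpa using h4
  · -- h * g⁻¹ = k⁻¹ ∈ O^p(N)
    rw [Subgroup.mem_map]
    refine ⟨k⁻¹, (Cfsg.pResidual p N).inv_mem hk, ?_⟩
    simp

end Cfsg.Agent.S2014
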