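import Cfsg.Statements.S2015
import Cfsg.Agent.Helper33.KInfTransfer
import Cfsg.Agent.Helper33.TransferLG

set_option autoImplicit false
universe u
open Cfsg

namespace Cfsg.Agent.S2015

/-- For p ≥ 5, every finite p-group P has a characteristic subgroup K containing Z(P), depending only on P, whose normalizer controls transfer wherever P is a Sylow subgroup: for every finite group G and every embedding ι of P onto a Sylow p-subgroup of G, the intersection of ι(P) with the derived subgroup of G equals its intersection with the derived subgroup of N_G(ι(K)). -/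
theorem result (p : ℕ) [Fact p.Prime] (hp : 5 ≤ p) (P : Type u) [Group P] [Finite P] (hP : IsPGroup p P) : ∃ K : Subgroup P, K.Characteristic ∧ Subgroup.center P ≤ K ∧ ∀ (G : Type u) [Group G] [Finite G] (ι : P →* G), Function.Injective ι → (∃ T : Sylow p G, (T : Subgroup G) = ι.range) → ι.range ⊓ commutator G = ι.range ⊓ (commutator ↥(Subgroup.normalizer ((K.map ι : Subgroup G) : Set G))).map (Subgroup.normalizer ((K.map ι : Subgroup G) : Set G)).subtype := by
  refine ⟨Cfsg.kInfLower P, ?_, ?_, ?_⟩
  · rw [Subgroup.characteristic_iff_map_eq]
    intro φ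
    exact Helper33.kInfLower_map_equiv φ
  · exact Helper33.normal_abelian_le_kInfLower (Subgroup.center P) inferInstance
  · rintro G _ _ ι hι ⟨T, hT⟩
    have hW := Helper33.isCharPFunctor_kInfLower.{u} p
    have hWf := Helper33.isConjugacyFunctor_inducedFunctor hW G
    have hctl := Helper33.kInfLower_controlsTransfer hp _ G rfl
    have h1 := Helper33.controlsTransferIn_at hWf hctl (le_top : (T : Subgroup G) ≤ ⊤) T.2
      (by rw [Subgroup.relIndex_top_right]; exact T.not_dvd_index)
    have h2 : Cfsg.inducedFunctor (fun (Q : Type u) [Group Q] => Cfsg.kInfLower Q) (T : Subgroup G) =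
        (Cfsg.kInfLower P).map ι := by
      rw [hT]
      exact (Helper33.map_eq_inducedFunctor_range hW hP ι hι).symm
    rw [h2, top_inf_eq, hT] at h1
    rw [Subgroup.map_subtype_commutator, commutator_def]
    exact h1

end Cfsg.Agent.S2015
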