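import Cfsg.Statements.S2034
import Cfsg.Agent.Helper96.StemMEleven

set_option autoImplicit false
open Cfsg

namespace Cfsg.Agent.S2034

open Cfsg.Agent.Helper96 Cfsg.Agent.Helper7

/-- a finite group all of whose finite stem extensions are isomorphisms has trivial Schur multiplier -/
theorem multiplier_one_of_ker_eq_bot (G : Type) [Group G] [Finite G]
    (h : ∀ (Γ : Type) [Group Γ] [Finite Γ] (σ : Γ →* G), Cfsg.IsStemExtension σ → σ.ker = ⊥) :
    Cfsg.HasCyclicSchurMultiplier G 1 := by
  refine ⟨⟨G, inferInstance, inferInstance, MonoidHom.id G, ?_, ?_⟩, ?_⟩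
  · refine ⟨Function.surjective_id, ?_, ?_⟩
    · rw [MonoidHom.ker_id]; exact bot_le
    · rw [MonoidHom.ker_id]; exact bot_le
  · rw [MonoidHom.ker_id]
    exact ⟨MulEquiv.ofUnique⟩
  · intro Γ _ _ σ hσ
    refine ⟨1, ?_⟩
    rintro ⟨z, hz⟩
    refine ⟨1, ?_⟩
    apply Subtype.ext
    have hz' := hz
    rw [h Γ σ hσ, Subgroup.mem_bot] at hz'
    exact hz'.symm

/-- The Schur multiplier of the Mathieu group M₁₁ (the stabiliser of a dodecad and one of its points in the automorphism group of the length-24 binary code) is trivial; here the Schur multiplier is described through stem extensions, as in the definitions: surjective homomorphisms onto the group from a finite group, whose kernel is central in that finite group and contained in that finite group's commutator subgroup. -/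
theorem result : Cfsg.HasCyclicSchurMultiplier ↥Cfsg.Spor.M11 1 := by
  rw [sporM11_eq]
  exact multiplier_one_of_ker_eq_bot _ (fun Γ _ _ σ hσ => StemMEleven.ker_eq_bot σ hσ)

end Cfsg.Agent.S2034
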