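import Cfsg.Statements.S2035
import Cfsg.Agent.Helper66.M12Glue
import Cfsg.Agent.Helper66.M12Spin
import Cfsg.Agent.Helper66.SchurMult
import Cfsg.Agent.Helper7.M12Out

set_option autoImplicit false
open Cfsg

namespace Cfsg.Agent.S2035

open Cfsg.Agent.Helper66 Cfsg.Agent.Helper7

/-- the multiplier of helper7's `M₁₂` has order 2 -/
theorem card_schurT_M12 : Nat.card (schurT ↥M12) = 2 := by
  obtain ⟨⟨Γ, _, _, σ, hσ, ⟨k⟩⟩, _⟩ := hasSchurMultiplier_schurT ↥M12
  have h1 : Nat.card σ.ker ≤ 2 := M12Glue.card_ker_le_two σ hσ
  rw [Nat.card_congr k.toEquiv] at h1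
  have h2 := M12Spin.card_schurT_ne_one
  have h3 : 0 < Nat.card (schurT ↥M12) := Nat.card_pos
  omega

/-- The Schur multiplier of the Mathieu group M₁₂ (the stabiliser of a dodecad in the automorphism group of the length-24 binary code) is cyclic of order 2; here the Schur multiplier is described through stem extensions, as in the definitions: surjective homomorphisms onto the group from a finite group, whose kernel is central in that finite group and contained in that finite group's commutator subgroup. -/
theorem result : Cfsg.HasCyclicSchurMultiplier ↥Cfsg.Spor.M12 2 := by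
  rw [sporM12_eq]
  have h2 := card_schurT_M12
  haveI : Fact (Nat.Prime 2) := ⟨Nat.prime_two⟩
  have hcyc : IsCyclic (schurT ↥M12) := isCyclic_of_prime_card h2
  have e := zmodCyclicMulEquiv hcyc
  rw [h2] at e
  exact (hasSchurMultiplier_iff ↥M12 (Multiplicative (ZMod 2))).mpr ⟨e⟩

end Cfsg.Agent.S2035
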