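import Cfsg.Statements.S2037
import Cfsg.Agent.S2034
import Cfsg.Agent.Helper72.M23MultMain

set_option autoImplicit false
open Cfsg

namespace Cfsg.Agent.S2037

open Cfsg.Agent.Helper7

theorem pt_23 : pt 23 = (none : GolayPt) := rfl

theorem sporM23_eq_fixG : Cfsg.Spor.M23 = fixG M24 [23] := by
  ext g
  constructor
  · intro h
    obtain ⟨h1, h2⟩ := Subgroup.mem_inf.mp h
    refine ⟨h1, fun i hi => ?_⟩
    rw [List.mem_singleton] at hi
    subst hi
    rw [pt_23]
    exact MulAction.mem_stabilizer_iff.mp h2
  · rintro ⟨h1, h2⟩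
    refine Subgroup.mem_inf.mpr ⟨h1, MulAction.mem_stabilizer_iff.mpr ?_⟩
    have := h2 23 (List.mem_singleton.mpr rfl)
    rw [pt_23] at this
    exact this

theorem nonempty_equiv : Nonempty (↥Cfsg.Spor.M23 ≃* ↥(fixG M24 [0])) := by
  obtain ⟨g, hg, h0⟩ := m24_exists_map₁ (none : GolayPt)
  have e := fixGConj hg [0] [23] (by simp [h0]; rfl)
  exact ⟨(MulEquiv.subgroupCongr sporM23_eq_fixG).trans e.symm⟩

/-- The Schur multiplier of the Mathieu group M₂₃ (the stabiliser of a point in the automorphism group of the length-24 binary code) is trivial; here the Schur multiplier is described through stem extensions, as in the definitions: surjective homomorphisms onto the group from a finite group, whose kernel is central in that finite group and contained in that finite group's commutator subgroup. -/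
theorem result : Cfsg.HasCyclicSchurMultiplier ↥Cfsg.Spor.M23 1 := by
  obtain ⟨e⟩ := nonempty_equiv
  apply Cfsg.Agent.S2034.multiplier_one_of_ker_eq_bot
  intro Γ _ _ σ hσ
  have h1 := Cfsg.Agent.Helper96.StemBound.isStemExtension_equiv_comp σ hσ e
  have h2 := Cfsg.Agent.Helper72.M23Mult.ker_eq_bot _ h1
  rw [Cfsg.Agent.Helper96.StemBound.ker_equiv_comp] at h2
  exact h2

end Cfsg.Agent.S2037
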