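import Cfsg.Statements.S2039
-- import your own Cfsg.Agent.* helpers here
import Cfsg.Agent.Helper72.J1Mult

set_option autoImplicit false
open Cfsg

namespace Cfsg.Agent.S2039

/-- The Schur multiplier of the Janko group J₁ (the group generated by two explicit 7 × 7 matrices over the integers modulo 11) is trivial; here the Schur multiplier is described through stem extensions, as in the definitions: surjective homomorphisms onto the group from a finite group, whose kernel is central in that finite group and contained in that finite group's commutator subgroup. -/
theorem result : Cfsg.HasCyclicSchurMultiplier ↥Cfsg.Spor.J1 1 := by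
  refine ⟨?_, ?_⟩
  · -- the identity is a stem extension with trivial kernel
    have hker : (MonoidHom.id ↥Cfsg.Spor.J1).ker = ⊥ := by
      ext x
      simp
    refine ⟨↥Cfsg.Spor.J1, inferInstance, inferInstance, MonoidHom.id _,
      ⟨Function.surjective_id, ?_, ?_⟩, ?_⟩
    · rw [hker]; exact bot_le
    · rw [hker]; exact bot_le
    · have hsub : ∀ a : (MonoidHom.id ↥Cfsg.Spor.J1).ker, a = 1 := by
        rintro ⟨a, ha⟩
        apply Subtype.ext
        rw [hker, Subgroup.mem_bot] at ha
        exact ha
      exact ⟨{ toFun := fun _ => 1
               invFun := fun _ => 1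
               left_inv := fun a => (hsub a).symm
               right_inv := fun b => Subsingleton.elim _ _
               map_mul' := fun _ _ => (mul_one _).symm }⟩
  · intro Γ _ _ σ hσ
    refine ⟨1, ?_⟩
    rintro ⟨z, hz⟩
    refine ⟨1, ?_⟩
    apply Subtype.ext
    rw [MonoidHom.one_apply]
    exact (Cfsg.Agent.Helper72.J1Mult.ker_eq_one σ hσ hz).symm

end Cfsg.Agent.S2039
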