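import Cfsg.Statements.S2040
import Cfsg.Agent.Helper7.J2Mult.Upper
import Cfsg.Agent.Helper7.J2Mult.LowerMain
import Cfsg.Agent.Helper66.SchurMult

set_option autoImplicit false
open Cfsg

namespace Cfsg.Agent.S2040

open Cfsg.Agent.Helper66 Cfsg.Agent.Helper7.J2Mult Cfsg.Agent.Helper7.J2
open Cfsg.Agent.Helper96.StemBound

theorem finite_J2 : Finite Cfsg.Spor.J2 := by
  obtain ⟨e, -⟩ := bridge
  have : Nat.card Cfsg.Spor.J2 = 604800 := by
    rw [Nat.card_congr e.toEquiv]
    exact Cfsg.Agent.Helper98.J2.card_G315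
  exact Nat.finite_of_card_ne_zero (by rw [this]; norm_num)

/-- the kernel of every finite stem extension of `J₂` has at most two elements -/
theorem card_ker_le_two_J2 {Γ : Type} [Group Γ] [Finite Γ] (σ : Γ →* Cfsg.Spor.J2)
    (hσ : Cfsg.IsStemExtension σ) : Nat.card σ.ker ≤ 2 := by
  obtain ⟨e, -⟩ := bridge
  have h := card_ker_le_two (e.toMonoidHom.comp σ) (isStemExtension_equiv_comp σ hσ e)
  rwa [ker_equiv_comp] at h

/-- the multiplier of `J₂` has order 2 -/
theorem card_schurT_J2 : Nat.card (schurT Cfsg.Spor.J2) = 2 := by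
  have := finite_J2
  obtain ⟨⟨Γ, _, _, σ, hσ, ⟨k⟩⟩, _⟩ := hasSchurMultiplier_schurT Cfsg.Spor.J2
  have h1 : Nat.card σ.ker ≤ 2 := card_ker_le_two_J2 σ hσ
  rw [Nat.card_congr k.toEquiv] at h1
  obtain ⟨θ, hθ⟩ := exists_surjective_schurT_ker _ isStemExtension_mk
  have h2 : Nat.card (QuotientGroup.mk' (Subgroup.center ↥Cfsg.Spor.twoJ2)).ker ≤
      Nat.card (schurT Cfsg.Spor.J2) := Nat.card_le_card_of_surjective θ hθ
  rw [card_ker_mk] at h2
  omega

/-- The Schur multiplier of the Hall–Janko group J₂ (the icosian reflection group modulo its centre) is cyclic of order 2; here the Schur multiplier is described through stem extensions, as in the definitions: surjective homomorphisms onto the group from a finite group, whose kernel is central in that finite group and contained in that finite group's commutator subgroup. -/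
theorem result : Cfsg.HasCyclicSchurMultiplier Cfsg.Spor.J2 2 := by
  have := finite_J2
  have h2 := card_schurT_J2
  have : Fact (Nat.Prime 2) := ⟨Nat.prime_two⟩
  have hcyc : IsCyclic (schurT Cfsg.Spor.J2) := isCyclic_of_prime_card h2
  have e := zmodCyclicMulEquiv hcyc
  rw [h2] at e
  exact (hasSchurMultiplier_iff Cfsg.Spor.J2 (Multiplicative (ZMod 2))).mpr ⟨e⟩

end Cfsg.Agent.S2040
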