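import Cfsg.Statements.S2065
import Cfsg.Agent.Helper98.J1Out

set_option autoImplicit false
open Cfsg

namespace Cfsg.Agent.S2065

/-- The outer automorphism group of the Janko group J₁ (the group generated by two explicit 7 × 7 matrices over the integers modulo 11) is trivial: every automorphism is inner. -/
theorem result : Nat.card (Cfsg.Out ↥Cfsg.Spor.J1) = 1 := by
  have h : Cfsg.Inn ↥Cfsg.Spor.J1 = ⊤ := Cfsg.Agent.Helper98.J1.conj_range_eq_top
  show Nat.card (MulAut ↥Cfsg.Spor.J1 ⧸ Cfsg.Inn ↥Cfsg.Spor.J1) = 1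
  rw [← Subgroup.index_eq_card, h, Subgroup.index_top]

end Cfsg.Agent.S2065
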