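import Cfsg.Statements.S2086
import Cfsg.Agent.Helper96.StLift.SLLift
import Cfsg.Agent.S2401
import Cfsg.Agent.Helper67.StLiftG1
import Cfsg.Agent.Helper67.StLiftG2
import Cfsg.Agent.Helper31.StLG34

set_option autoImplicit false
open Cfsg

namespace Cfsg.Agent.S2086

/-- Schur multipliers of the linear groups: for n ≥ 2 and a field F with q elements (q ≥ 4 when n = 2), apart from the five exceptional pairs (n, q) = (2, 4), (2, 9), (3, 2), (3, 4), (4, 2), the Schur multiplier of PSL_n(F) is cyclic of order gcd(n, q − 1); here the Schur multiplier is described through stem extensions, as in the definitions. -/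
theorem result {F : Type*} [Field F] [Fintype F] {q : ℕ} (hF : Fintype.card F = q) (n : ℕ) (hn : 2 ≤ n) (h2 : n = 2 → 4 ≤ q) (hexc : (n, q) ∉ ({(2, 4), (2, 9), (3, 2), (3, 4), (4, 2)} : Set (ℕ × ℕ))) : Cfsg.HasCyclicSchurMultiplier (Matrix.ProjectiveSpecialLinearGroup (Fin n) F) (Nat.gcd n (q - 1)) := by
  subst hF
  rcases eq_or_lt_of_le hn with h2' | h3
  · subst h2'
    refine Cfsg.Agent.Helper31.StLG34.psl_two_multiplier (h2 rfl) (fun h => hexc ?_)
      (fun h => hexc ?_)
    · rw [h]; simp
    · rw [h]; simp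
  · have hn3 : 3 ≤ n := h3
    have hq2 : 2 ≤ Fintype.card F := Fintype.one_lt_card
    have hcase : 5 ≤ n ∨ (n = 4 ∧ 3 ≤ Fintype.card F) ∨
        (n = 3 ∧ Fintype.card F ≠ 2 ∧ Fintype.card F ≠ 4) := by
      by_cases h5 : 5 ≤ n
      · exact Or.inl h5
      · by_cases h4 : n = 4
        · refine Or.inr (Or.inl ⟨h4, ?_⟩)
          by_contra hcon
          have hq : Fintype.card F = 2 := by omega
          apply hexc
          rw [h4, hq]; simp
        · have h3' : n = 3 := by omega
          refine Or.inr (Or.inr ⟨h3', fun hq => hexc ?_, fun hq => hexc ?_⟩)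
          · rw [h3', hq]; simp
          · rw [h3', hq]; simp
    apply Cfsg.Agent.Helper67.StLiftG2.psl_multiplier_of_section n hn3
    intro E _ p hp hc
    exact Cfsg.Agent.Helper67.StLiftG1.exists_section_of_lift n
      (fun E' _ Z hZ => Cfsg.Agent.Helper67.StLiftG1.hom_of_stRel n
        (Cfsg.Agent.S2401.result n hn3) E' Z hZ)
      (fun E' _ p' hp' hc' => Cfsg.Agent.Helper96.StLift.sl_lift n hcase E' p' hp' hc')
      E p hp hc

end Cfsg.Agent.S2086
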