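import Cfsg.Statements.S2087
import Cfsg.Agent.Helper96.StemPSLThree
import Cfsg.Agent.S0255
import Cfsg.Agent.Helper5.PSL2Simple

set_option autoImplicit false
open Cfsg

namespace Cfsg.Agent.S2087

open Cfsg.Agent.Helper96

abbrev SL27 := Matrix.SpecialLinearGroup (Fin 2) (ZMod 7)

set_option maxRecDepth 100000 in
theorem card_SL27 : Fintype.card SL27 = 336 := by decide +kernel

instance fact7 : Fact (Nat.Prime 7) := ⟨by norm_num⟩

theorem perfect_SL27 : commutator SL27 = ⊤ :=
  Cfsg.Agent.Helper5.commutator_SL_eq_top_of_exists (ι := Fin 2) (F := ZMod 7)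
    ⟨2, by decide, by decide⟩

/-- Exceptional Schur multiplier: over the field with 2 elements, PSL₃ has Schur multiplier cyclic of order 2 (here the Schur multiplier is described through stem extensions, as in the definitions). -/
theorem result {F : Type*} [Field F] [Fintype F] (hF : Fintype.card F = 2) : Cfsg.HasCyclicSchurMultiplier (Matrix.ProjectiveSpecialLinearGroup (Fin 3) F) 2 := by
  -- the isomorphism with `SL₃(ZMod 2)`
  let e : Matrix.ProjectiveSpecialLinearGroup (Fin 3) F ≃* StemPSLThree.S :=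
    (pslEquivSL hF).trans (slMapEquiv (ZMod.ringEquivOfPrime F Nat.prime_two hF).symm)
  have hcardG : Nat.card (Matrix.ProjectiveSpecialLinearGroup (Fin 3) F) = 168 := by
    rw [Nat.card_congr e.toEquiv, Nat.card_eq_fintype_card, StemPSLThree.card_S]
  refine ⟨?_, ?_⟩
  · -- existence: `SL₂(7) → PSL₂(7) ≅ PSL₃(2)`
    obtain ⟨e7⟩ := Cfsg.Agent.S0255.result (F := ZMod 7) (K := F) (by simp) hF
    let σ₀ : SL27 →* Matrix.ProjectiveSpecialLinearGroup (Fin 2) (ZMod 7) :=
      QuotientGroup.mk' (Subgroup.center SL27)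
    have hσ₀ : IsStemExtension σ₀ := StemBound.isStemExtension_mk'_center perfect_SL27
    let σ₁ : SL27 →* Matrix.ProjectiveSpecialLinearGroup (Fin 3) F := e7.toMonoidHom.comp σ₀
    have hσ₁ : IsStemExtension σ₁ := StemBound.isStemExtension_equiv_comp σ₀ hσ₀ e7
    let σ : ULift SL27 →* Matrix.ProjectiveSpecialLinearGroup (Fin 3) F :=
      σ₁.comp (MulEquiv.ulift : ULift SL27 ≃* SL27).toMonoidHom
    have hσ : IsStemExtension σ := StemBound.isStemExtension_comp_equiv σ₁ hσ₁ MulEquiv.ulift
    refine ⟨ULift SL27, inferInstance, inferInstance, σ, hσ, ?_⟩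
    have hcard := StemBound.card_eq_card_mul_card_ker σ hσ.1
    rw [hcardG, Nat.card_congr (MulEquiv.ulift : ULift SL27 ≃* SL27).toEquiv,
      Nat.card_eq_fintype_card, card_SL27] at hcard
    have hk : Nat.card σ.ker = 2 := by omega
    have : Fact (Nat.Prime 2) := ⟨Nat.prime_two⟩
    exact ⟨mulEquivOfPrimeCardEq hk (by simp)⟩
  · -- the bound
    intro Γ _ _ σ hσ
    have hσ' := StemBound.isStemExtension_equiv_comp σ hσ e
    obtain ⟨z₀, hz₀, h2, hall⟩ := StemPSLThree.ker_bound (e.toMonoidHom.comp σ) hσ'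
    rw [StemBound.ker_equiv_comp] at hz₀ hall
    exact StemBound.exists_surjective_of_two σ.ker z₀ hz₀ h2 hall

end Cfsg.Agent.S2087
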