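import Cfsg.Statements.S2088
import Cfsg.Agent.Helper96.L34.Main2
import Cfsg.Agent.Helper50.L34T1
import Cfsg.Agent.Helper56.PSLCongr
import Cfsg.Agent.Helper98.M21b

set_option autoImplicit false
open Cfsg

namespace Cfsg.Agent.S2088

open Cfsg.Agent.Helper96.L34 in
/-- Exceptional Schur multiplier: over the field with 4 elements, PSL₃ has Schur multiplier isomorphic to the product of cyclic groups of orders 3, 4 and 4 (order 48, not cyclic; here the Schur multiplier is described through stem extensions, as in the definitions). -/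
theorem result {F : Type*} [Field F] [Fintype F] (hF : Fintype.card F = 4) : Cfsg.HasSchurMultiplier (Matrix.ProjectiveSpecialLinearGroup (Fin 3) F) (Multiplicative (ZMod 3 × ZMod 4 × ZMod 4)) := by
  let e : Matrix.ProjectiveSpecialLinearGroup (Fin 3) Cfsg.Agent.Helper27.GF4 ≃*
      Matrix.ProjectiveSpecialLinearGroup (Fin 3) F :=
    Cfsg.Agent.Helper56.PSLCongr.pslCongr (Cfsg.Agent.Helper27.gf4Equiv F hF)
  obtain ⟨τ₀, hτ₀, ha₀, hb₀⟩ := Cfsg.Agent.Helper50.L34.exists_tau
  let τ : E →* Matrix.ProjectiveSpecialLinearGroup (Fin 3) F := e.toMonoidHom.comp τ₀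
  have hτ : Function.Surjective τ := e.surjective.comp hτ₀
  have hG : Nat.card (Matrix.ProjectiveSpecialLinearGroup (Fin 3) F) = 20160 := by
    rw [← Nat.card_congr e.toEquiv, Cfsg.Agent.Helper98.M21.card_psl]
  have ha : τ (eg .a) = 1 := by
    show e (τ₀ (PresentedGroup.of PE.Gen.a)) = 1
    rw [ha₀, map_one]
  have hb : τ (eg .b) = 1 := by
    show e (τ₀ (PresentedGroup.of PE.Gen.b)) = 1
    rw [hb₀, map_one]
  exact hasSchurMultiplier_of_tau τ hτ hG ha hb

end Cfsg.Agent.S2088
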