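import Cfsg.Statements.S2092
import Cfsg.Agent.Helper40.StCLiftFinal
import Cfsg.Agent.Helper96.StC.Section
import Cfsg.Agent.Helper96.UceCover
import Cfsg.Agent.S0246
import Cfsg.Agent.S0269

set_option autoImplicit false
open Cfsg

namespace Cfsg.Agent.S2092

/-- Schur multipliers of the symplectic groups: for m ≥ 2 and a field F with q elements (q ≥ 3 when m = 2), with (m, q) ≠ (3, 2), the Schur multiplier of PSp_2m(F) is cyclic of order gcd(2, q − 1); here the Schur multiplier is described through stem extensions, as in the definitions. -/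
theorem result {F : Type*} [Field F] [Fintype F] {q : ℕ} (hF : Fintype.card F = q) (m : ℕ) (hm : 2 ≤ m) (h2 : m = 2 → 3 ≤ q) (hexc : ¬ (m = 3 ∧ q = 2)) : Cfsg.HasCyclicSchurMultiplier (Cfsg.PSp m F) (Nat.gcd 2 (q - 1)) := by
  classical
  subst hF
  have hq2 : 2 ≤ Fintype.card F := Fintype.one_lt_card
  have hcase : 4 ≤ m ∨ (m = 3 ∧ 3 ≤ Fintype.card F) ∨ (m = 2 ∧ 3 ≤ Fintype.card F) := by
    by_cases h4 : 4 ≤ m
    · exact Or.inl h4
    · by_cases h3 : m = 3
      · refine Or.inr (Or.inl ⟨h3, ?_⟩)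
        by_contra hcon
        exact hexc ⟨h3, by omega⟩
      · have h2' : m = 2 := by omega
        exact Or.inr (Or.inr ⟨h2', h2 h2'⟩)
  have hperf : commutator (Matrix.symplecticGroup (Fin m) F) = ⊤ := by
    apply Cfsg.Agent.S0269.result m
    by_cases h3 : 3 ≤ m
    · exact Or.inl h3
    · have h2' : m = 2 := by omega
      exact Or.inr (Or.inl ⟨h2', h2 h2'⟩)
  have hcard : Nat.card (Subgroup.center (Matrix.symplecticGroup (Fin m) F)) =
      Nat.gcd 2 (Fintype.card F - 1) := Cfsg.Agent.S0246.result rfl m (by omega)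
  have hgpos : 0 < Nat.gcd 2 (Fintype.card F - 1) := Nat.gcd_pos_of_pos_left _ (by norm_num)
  have hgle : Nat.gcd 2 (Fintype.card F - 1) ≤ 2 := Nat.gcd_le_left _ (by norm_num)
  have : NeZero (Nat.gcd 2 (Fintype.card F - 1)) := ⟨hgpos.ne'⟩
  have hcyc : IsCyclic (Subgroup.center (Matrix.symplecticGroup (Fin m) F)) := by
    rcases Nat.lt_or_ge (Nat.gcd 2 (Fintype.card F - 1)) 2 with h | h
    · have h1 : Nat.card (Subgroup.center (Matrix.symplecticGroup (Fin m) F)) = 1 := by omega
      have : Subsingleton (Subgroup.center (Matrix.symplecticGroup (Fin m) F)) :=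
        (Nat.card_eq_one_iff_unique.mp h1).1
      exact isCyclic_of_subsingleton
    · have h2c : Nat.card (Subgroup.center (Matrix.symplecticGroup (Fin m) F)) = 2 := by omega
      have : Fact (Nat.Prime 2) := ⟨Nat.prime_two⟩
      exact isCyclic_of_prime_card h2c
  have hker : (QuotientGroup.mk' (Subgroup.center (Matrix.symplecticGroup (Fin m) F))).ker =
      Subgroup.center (Matrix.symplecticGroup (Fin m) F) := QuotientGroup.ker_mk' _
  refine Cfsg.Agent.Helper96.UceCover.hasCyclicSchurMultiplier_of_universal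
    (QuotientGroup.mk' (Subgroup.center (Matrix.symplecticGroup (Fin m) F)))
    (QuotientGroup.mk'_surjective _) (by rw [hker]) hperf _ ?_ ?_ ?_
  · rw [hker]; exact hcyc
  · rw [hker]; exact hcard
  · intro E _ p hp hc
    obtain ⟨Z, hZ, hpZ⟩ := Cfsg.Agent.Helper40.StCLiftFinal.sp_lift hcase p hp hc
    exact Cfsg.Agent.Helper96.StC.exists_section hm p Z hZ hpZ

end Cfsg.Agent.S2092
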