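import Cfsg.Statements.S2093
-- import your own Cfsg.Agent.* helpers here
import Cfsg.Agent.Helper96.E7.Concrete
import Cfsg.Agent.Helper29.E7GamF
import Cfsg.Agent.Helper49.E7Ufin
import Cfsg.Agent.Helper33.E7C
import Cfsg.Agent.Helper96.SpFour
import Cfsg.Agent.Helper96.StemBound

set_option autoImplicit false
open Cfsg

namespace Cfsg.Agent.S2093

open Cfsg.Agent.Helper96 Cfsg.Agent.Helper96.E7

/-- a stem extension of a perfect group is perfect -/
theorem perfect_of_stem {Γ G : Type*} [Group Γ] [Group G] (σ : Γ →* G)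
    (hσ : Cfsg.IsStemExtension σ) (hG : commutator G = ⊤) : commutator Γ = ⊤ := by
  rw [eq_top_iff]
  intro x _
  have h1 : σ x ∈ (commutator Γ).map σ := by
    rw [commutator_def, Subgroup.map_commutator, ← MonoidHom.range_eq_map,
      MonoidHom.range_eq_top.2 hσ.1, ← commutator_def, hG]
    exact Subgroup.mem_top _
  obtain ⟨y, hy, hyx⟩ := h1
  have hk : y⁻¹ * x ∈ σ.ker := by
    rw [MonoidHom.mem_ker, map_mul, map_inv, hyx, inv_mul_cancel]
  have hx : x = y * (y⁻¹ * x) := by group
  rw [hx]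
  exact mul_mem hy (hσ.2.2 hk)

/-- Exceptional Schur multiplier: over the field with 2 elements, PSp₆ has Schur multiplier cyclic of order 2 (here the Schur multiplier is described through stem extensions, as in the definitions). -/
theorem result {F : Type*} [Field F] [Fintype F] (hF : Fintype.card F = 2) : Cfsg.HasCyclicSchurMultiplier (Cfsg.PSp 3 F) 2 := by
  classical
  -- `PSp 3 F ≃* Sp_6(ZMod 2)`
  have hcenter : Subgroup.center (Matrix.symplecticGroup (Fin 3) F) = ⊥ := by
    have h := Cfsg.Agent.Helper97.StCMult.card_center_sp (F := F) 3 (by norm_num)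
    rw [hF] at h
    exact Subgroup.eq_bot_of_card_eq _ (by simpa using h)
  let e0 : Matrix.symplecticGroup (Fin 3) F ≃* Cfsg.PSp 3 F :=
    (QuotientGroup.quotientMulEquivOfEq hcenter).trans QuotientGroup.quotientBot |>.symm
  let e1 : Matrix.symplecticGroup (Fin 3) F ≃* G6 :=
    SpFour.symplecticMapEquiv (ZMod.ringEquivOfPrime F Nat.prime_two hF).symm
  let e : Cfsg.PSp 3 F ≃* G6 := e0.symm.trans e1
  have hW : Nat.card CoxeterMatrix.E₇.Group = 2 * Nat.card G6 := card_W
  have hfin : Finite CoxeterMatrix.E₇.Group := Cfsg.Agent.Helper29.E7GamF.finite_W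
  refine ⟨?_, ?_⟩
  · -- existence of a stem extension with kernel of order 2
    obtain ⟨E, _, _, p, hp, hc, hcomm, hcard⟩ :=
      Cfsg.Agent.Helper33.E7C.exists_double_cover perfect_G6 T T_cox T_closure hW Lu (-1) neg_one_ne_one Lu_sq (by simp)
        Lu_braid Lu_comm
    have hp' : Cfsg.IsStemExtension p := ⟨hp, hc, hcomm⟩
    let σ₁ : E →* Cfsg.PSp 3 F := e.symm.toMonoidHom.comp p
    have hσ₁ : Cfsg.IsStemExtension σ₁ := StemBound.isStemExtension_equiv_comp p hp' e.symm
    let σ : ULift E →* Cfsg.PSp 3 F := σ₁.comp (MulEquiv.ulift : ULift E ≃* E).toMonoidHom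
    have hσ : Cfsg.IsStemExtension σ := StemBound.isStemExtension_comp_equiv σ₁ hσ₁ MulEquiv.ulift
    refine ⟨ULift E, inferInstance, inferInstance, σ, hσ, ?_⟩
    have hcardE := StemBound.card_eq_card_mul_card_ker σ hσ.1
    have hcardE' := StemBound.card_eq_card_mul_card_ker p hp
    rw [Nat.card_congr (MulEquiv.ulift : ULift E ≃* E).toEquiv, hcardE', hcard,
      Nat.card_congr e.toEquiv] at hcardE
    have hpos : 0 < Nat.card G6 := Nat.card_pos
    have hk : Nat.card σ.ker = 2 := by
      have := Nat.eq_of_mul_eq_mul_left hpos hcardE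
      omega
    have : Fact (Nat.Prime 2) := ⟨Nat.prime_two⟩
    exact ⟨mulEquivOfPrimeCardEq hk (by simp)⟩
  · -- the bound
    intro Γ _ _ σ hσ
    have hσ' := StemBound.isStemExtension_equiv_comp σ hσ e
    have hperf : commutator Γ = ⊤ := perfect_of_stem _ hσ' perfect_G6
    have hle : Nat.card (e.toMonoidHom.comp σ).ker ≤ 2 :=
      Cfsg.Agent.Helper49.E7U.card_ker_le_two (e.toMonoidHom.comp σ) hσ'.1 hσ'.2.1 hperf T T_cox T_closure T_conj
        (le_of_eq hW)
    rw [StemBound.ker_equiv_comp] at hle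
    -- a group of order at most 2 is a quotient of `Z_2`
    have hpos : 0 < Nat.card σ.ker := Nat.card_pos
    have h12 : Nat.card σ.ker = 1 ∨ Nat.card σ.ker = 2 := by omega
    rcases h12 with h1 | h2
    · have hbot : σ.ker = ⊥ := Subgroup.eq_bot_of_card_eq _ h1
      refine ⟨1, ?_⟩
      rintro ⟨x, hx⟩
      refine ⟨1, ?_⟩
      apply Subtype.ext
      rw [hbot, Subgroup.mem_bot] at hx
      simp [hx]
    · have : Fact (Nat.Prime 2) := ⟨Nat.prime_two⟩
      have e2 : Multiplicative (ZMod 2) ≃* σ.ker := (mulEquivOfPrimeCardEq h2 (by simp)).symm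
      exact ⟨e2.toMonoidHom, e2.surjective⟩

end Cfsg.Agent.S2093
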