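import Cfsg.Statements.S2103
import Cfsg.Agent.Helper40.HyFinal
import Cfsg.Agent.Helper40.UcFinal
import Cfsg.Agent.Helper40.MultAux
import Cfsg.Agent.S1078
import Cfsg.Agent.S2395

set_option autoImplicit false
open Cfsg

namespace Cfsg.Agent.S2103

/-- Schur multipliers of the Chevalley groups of type F₄: over a finite field with more than 2 elements the Schur multiplier of F₄(q) is trivial (here the Schur multiplier is described through stem extensions, as in the definitions); q = 2 is exceptional. -/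
theorem result {F : Type*} [Field F] [Fintype F] (hF : 3 ≤ Fintype.card F) : Cfsg.HasCyclicSchurMultiplier ↥(Cfsg.Lie.chevF4.group F) 1 := by
  have hD : Cfsg.Lie.chevF4 ∈ [Cfsg.Lie.chevG2, Cfsg.Lie.chevB2, Cfsg.Lie.chevD4, Cfsg.Lie.chevF4, Cfsg.Lie.chevE6,
      Cfsg.Lie.chevE7, Cfsg.Lie.chevE8] := by simp
  have hperf : commutator (Cfsg.Lie.chevF4.SteinbergCover F) = ⊤ :=
    Cfsg.Agent.S2395.result Cfsg.Lie.chevF4 hD (fun h => by
      exfalso
      simp only [List.mem_cons, List.not_mem_nil, or_false] at h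
      rcases h with h | h
      · exact absurd (congrArg Cfsg.Lie.ChevalleyDatum.rank h) (by decide)
      · exact absurd (congrArg Cfsg.Lie.ChevalleyDatum.rank h) (by decide))
  refine Cfsg.Agent.Helper40.Sl.hasCyclicSchurMultiplier_of_lift Cfsg.Lie.chevF4 hD hperf ?_ 1 2 Nat.prime_two
    (one_dvd 2) ?_
  · intro E _ π₁ hπ hc σ
    by_cases h5 : 5 ≤ Fintype.card F
    · obtain ⟨τ, hτ, -⟩ := Cfsg.Agent.Helper40.Uc.steinberg_cover_lift_unique (K := F) Cfsg.Lie.chevF4
        ⟨Finset.univ, by rw [Finset.card_univ]; omega⟩ hD π₁ hπ hc σ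
      exact ⟨τ, hτ⟩
    · exact Cfsg.Agent.Helper40.Hy.f4_cover_lift_small (by omega) π₁ hπ hc σ
  · rw [Cfsg.Agent.S1078.result (K := F) Cfsg.Lie.chevF4 (by simp)]
    exact Subgroup.card_bot

end Cfsg.Agent.S2103
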