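import Cfsg.Statements.S2112
import Cfsg.Agent.Helper96.Sz8.Main
import Cfsg.Agent.Helper12.Sz8T1
import Cfsg.Agent.Helper59.Sz8T2
import Cfsg.Agent.Helper66.SchurMult

set_option autoImplicit false
open Cfsg

namespace Cfsg.Agent.S2112

open Cfsg.Agent.Helper96.Sz8 in
/-- Exceptional Schur multiplier: the Suzuki group Sz(8), built over the field with 8 elements using the map x ↦ x⁴, has Schur multiplier a four-group, the product of two cyclic groups of order 2 (here the Schur multiplier is described through stem extensions, as in the definitions). -/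
theorem result {F : Type*} [Field F] [Fintype F] (hF : Fintype.card F = 8) : Cfsg.HasSchurMultiplier ↥(Cfsg.Lie.Sz F 4) (Multiplicative (ZMod 2 × ZMod 2)) := by
  obtain ⟨e⟩ := Cfsg.Agent.Helper59.Sz8.nonempty_mulEquiv_lieSz hF
  obtain ⟨τ₀, hτ₀, ha₀, hb₀, hc₀, hd₀⟩ := Cfsg.Agent.Helper12.Sz8.exists_tau
  let τ : E →* ↥(Cfsg.Lie.Sz F 4) := e.toMonoidHom.comp τ₀
  have hτ : Function.Surjective τ := e.surjective.comp hτ₀
  have hG : Nat.card ↥(Cfsg.Lie.Sz F 4) = 29120 := by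
    rw [← Nat.card_congr e.toEquiv,
      Cfsg.Agent.Helper6.card_Sz le_rfl Cfsg.Agent.Helper86.PG63.F8.card_eq',
      Cfsg.Agent.Helper86.PG63.F8.card_eq']
    norm_num
  have ha : τ (eg .a) = 1 := by
    show e (τ₀ (PresentedGroup.of PE.Gen.a)) = 1
    rw [ha₀, map_one]
  have hb : τ (eg .b) = 1 := by
    show e (τ₀ (PresentedGroup.of PE.Gen.b)) = 1
    rw [hb₀, map_one]
  have hc : τ (eg .c) = 1 := by
    show e (τ₀ (PresentedGroup.of PE.Gen.c)) = 1
    rw [hc₀, map_one]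
  have hd : τ (eg .d) = 1 := by
    show e (τ₀ (PresentedGroup.of PE.Gen.d)) = 1
    rw [hd₀, map_one]
  haveI : Finite ↥(Cfsg.Lie.Sz F 4) := Nat.finite_of_card_ne_zero (by rw [hG]; norm_num)
  rw [Cfsg.Agent.Helper66.hasSchurMultiplier_iff]
  obtain ⟨⟨Γ, _, _, σ, hσ, ⟨eσ⟩⟩, -⟩ := Cfsg.Agent.Helper66.hasSchurMultiplier_schurT ↥(Cfsg.Lie.Sz F 4)
  obtain ⟨π, hπ⟩ := exists_surj_ker τ hτ hG ha hb hc hd σ hσ
  obtain ⟨θ, hθ⟩ := Cfsg.Agent.Helper66.exists_surjective_schurT_ker τ (stem_tau τ hτ hG ha hb)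
  haveI hK := isKleinFour_ker τ hτ hG ha hb
  haveI : Finite τ.ker := Nat.finite_of_card_ne_zero (by rw [hK.card_four]; norm_num)
  let ψ : τ.ker →* Cfsg.Agent.Helper66.schurT ↥(Cfsg.Lie.Sz F 4) := eσ.toMonoidHom.comp π
  have hψ : Function.Surjective ψ := eσ.surjective.comp hπ
  haveI : Finite (Cfsg.Agent.Helper66.schurT ↥(Cfsg.Lie.Sz F 4)) := Finite.of_surjective ψ hψ
  have hle : Nat.card τ.ker ≤ Nat.card (Cfsg.Agent.Helper66.schurT ↥(Cfsg.Lie.Sz F 4)) :=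
    Nat.card_le_card_of_surjective θ hθ
  have hbij : Function.Bijective ψ := hψ.bijective_of_nat_card_le hle
  obtain ⟨κ⟩ := IsKleinFour.nonempty_mulEquiv (G₁ := Multiplicative (ZMod 2 × ZMod 2)) (G₂ := τ.ker)
  exact ⟨κ.trans (MulEquiv.ofBijective ψ hbij)⟩

end Cfsg.Agent.S2112
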