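import Cfsg.Statements.S2117
import Cfsg.Agent.Helper96.StemSLTwoC

set_option autoImplicit false
open Cfsg

namespace Cfsg.Agent.S2117

universe u

/-- a finite group all of whose finite stem extensions are isomorphisms has trivial Schur
multiplier (universe-polymorphic version) -/
theorem multiplier_one_of_forall_ker_eq_bot (G : Type u) [Group G] [Finite G]
    (h : ∀ (Γ : Type u) [Group Γ] [Finite Γ] (σ : Γ →* G), Cfsg.IsStemExtension σ → σ.ker = ⊥) :
    Cfsg.HasCyclicSchurMultiplier G 1 := by
  refine ⟨⟨G, inferInstance, inferInstance, MonoidHom.id G, ?_, ?_⟩, ?_⟩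
  · refine ⟨Function.surjective_id, ?_, ?_⟩
    · rw [MonoidHom.ker_id]; exact bot_le
    · rw [MonoidHom.ker_id]; exact bot_le
  · rw [MonoidHom.ker_id]
    exact ⟨MulEquiv.ofUnique⟩
  · intro Γ _ _ σ hσ
    refine ⟨1, ?_⟩
    rintro ⟨z, hz⟩
    refine ⟨1, ?_⟩
    apply Subtype.ext
    have hz' := hz
    rw [h Γ σ hσ, Subgroup.mem_bot] at hz'
    exact hz'.symm

/-- For a finite field with q elements, q ≠ 4 and q ≠ 9, the special linear group SL₂ has trivial Schur multiplier (here the Schur multiplier is described through stem extensions, as in the definitions). -/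
theorem result {F : Type*} [Field F] [Fintype F] (h4 : Fintype.card F ≠ 4) (h9 : Fintype.card F ≠ 9) : Cfsg.HasCyclicSchurMultiplier (Matrix.SpecialLinearGroup (Fin 2) F) 1 := by
  classical
  exact multiplier_one_of_forall_ker_eq_bot _
    (fun Γ _ _ σ hσ => Cfsg.Agent.Helper96.StemSLTwo.ker_eq_bot h4 h9 σ hσ)

end Cfsg.Agent.S2117
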