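import Cfsg.Statements.S2118
import Cfsg.Agent.Helper96.StemSLTwoNine
import Cfsg.Agent.Helper96.StemPullback
import Cfsg.Agent.Helper96.HexGroup
import Cfsg.Agent.Helper96.PSLTwoElt
import Cfsg.Agent.S0254

set_option autoImplicit false
open Cfsg

namespace Cfsg.Agent.S2118

open Cfsg.Agent.Helper96

/-- central elements of `SL₂` square to the identity -/
theorem sq_eq_one_of_mem_center {F : Type*} [Field F] (s : Matrix.SpecialLinearGroup (Fin 2) F)
    (hs : s ∈ Subgroup.center (Matrix.SpecialLinearGroup (Fin 2) F)) : s ^ 2 = 1 := by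
  rw [Matrix.SpecialLinearGroup.mem_center_iff] at hs
  obtain ⟨r, hr, hrs⟩ := hs
  rw [Fintype.card_fin] at hr
  apply Subtype.ext
  rw [Matrix.SpecialLinearGroup.coe_pow, ← hrs, ← map_pow, hr, map_one]
  rfl

/-- For the field with 9 elements, the special linear group SL₂ has Schur multiplier cyclic of order 3 (here the Schur multiplier is described through stem extensions, as in the definitions). -/
theorem result {F : Type*} [Field F] [Fintype F] (hF : Fintype.card F = 9) : Cfsg.HasCyclicSchurMultiplier (Matrix.SpecialLinearGroup (Fin 2) F) 3 := by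
  refine ⟨?_, ?_⟩
  · -- existence: pull `3.A₆` (hexacode) back along `SL₂(9) → PSL₂(9) ≅ A₆`
    obtain ⟨e6⟩ := Cfsg.Agent.S0254.result hF
    let q : Matrix.SpecialLinearGroup (Fin 2) F →* Matrix.ProjectiveSpecialLinearGroup (Fin 2) F :=
      QuotientGroup.mk' (Subgroup.center (Matrix.SpecialLinearGroup (Fin 2) F))
    let ρ : Matrix.SpecialLinearGroup (Fin 2) F →* Equiv.Perm (Fin 6) :=
      (alternatingGroup (Fin 6)).subtype.comp (e6.toMonoidHom.comp q)
    have hrange : ρ.range = HexGroup.τ.range := by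
      rw [HexGroup.range_τ]
      ext g
      constructor
      · rintro ⟨s, rfl⟩
        exact (e6 (q s)).2
      · intro hg
        obtain ⟨s, hs⟩ := QuotientGroup.mk'_surjective _ (e6.symm ⟨g, hg⟩)
        refine ⟨s, ?_⟩
        show ((e6 (q s) : alternatingGroup (Fin 6)) : Equiv.Perm (Fin 6)) = g
        have : q s = e6.symm ⟨g, hg⟩ := hs
        rw [this, MulEquiv.apply_symm_apply]
    have hker2 : ∀ s ∈ ρ.ker, s ^ 2 = 1 := by
      intro s hs
      apply sq_eq_one_of_mem_center
      have h1 : ((e6 (q s) : alternatingGroup (Fin 6)) : Equiv.Perm (Fin 6)) = 1 := hs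
      have h2 : e6 (q s) = 1 := Subtype.ext h1
      have h3 : q s = 1 := e6.map_eq_one_iff.mp h2
      exact (QuotientGroup.eq_one_iff s).mp h3
    obtain ⟨hstem, hcard⟩ := StemPullback.isStem_proj HexGroup.τ ρ hrange HexGroup.ker_τ_le_center
      HexGroup.X HexGroup.Y HexGroup.comm_mem_ker HexGroup.comm_pow HexGroup.comm_ne
      HexGroup.ker_τ_le_zpowers hker2
    refine ⟨StemPullback.pull HexGroup.τ ρ, inferInstance, inferInstance,
      StemPullback.proj HexGroup.τ ρ, hstem, ?_⟩
    have : Fact (Nat.Prime 3) := ⟨Nat.prime_three⟩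
    exact ⟨mulEquivOfPrimeCardEq hcard (by simp)⟩
  · -- the bound
    intro Γ _ _ σ hσ
    let e : Matrix.SpecialLinearGroup (Fin 2) F ≃* StemSLTwoNine.S :=
      slMapEquiv (Cfsg.Agent.Helper98.gf9Equiv F hF).symm
    have hσ' := StemBound.isStemExtension_equiv_comp σ hσ e
    obtain ⟨z₀, hz₀, h3, hle⟩ := StemSLTwoNine.ker_bound (e.toMonoidHom.comp σ) hσ'
    rw [StemBound.ker_equiv_comp] at hz₀ hle
    exact StemBound.exists_surjective_of_le_zpowers 3 σ.ker z₀ hz₀ h3 hle

end Cfsg.Agent.S2118
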