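import Cfsg.Statements.S2121
import Cfsg.Agent.Helper96.OutChevH
import Cfsg.Agent.S1055

set_option autoImplicit false
open Cfsg

namespace Cfsg.Agent.S2121

/-- Outer automorphisms of the Chevalley groups of type G₂: over a field with q = p^f (p prime) ≥ 3 elements, the outer automorphism group of G₂(q) has order f when p ≠ 3 and 2f when p = 3 (field automorphisms, and in characteristic 3 also the exceptional graph automorphism). -/
theorem result {F : Type*} [Field F] [Fintype F] (p f : ℕ) [Fact p.Prime] [CharP F p] (hF : Fintype.card F = p ^ f) (hq : 3 ≤ p ^ f) : Nat.card (Cfsg.Out ↥(Cfsg.Lie.chevG2.group F)) = (if p = 3 then 2 * f else f) := by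
  classical
  have hD := Cfsg.Agent.Helper18.Aut.hG2
  have hdiag : Cfsg.Agent.Helper96.OutChev.DiagInner F Cfsg.Lie.chevG2 :=
    Cfsg.Agent.Helper96.OutChev.diagInner Cfsg.Lie.chevG2 (by simp)
  -- the field has at least three elements
  have hne : ¬ ∀ t : F, t = 0 ∨ t = 1 := by
    intro h
    have hsub : (Finset.univ : Finset F) ⊆ {0, 1} := by
      intro t _
      rcases h t with rfl | rfl <;> simp
    have h2 : Fintype.card F ≤ 2 :=
      le_trans (Finset.card_le_card hsub) Finset.card_le_two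
    omega
  by_cases hp3 : p = 3
  · rw [if_pos hp3]
    subst hp3
    have hperf : ∀ x : F, ∃ y : F, y ^ 3 = x := by
      intro x
      haveI : ExpChar F 3 := ExpChar.prime Nat.prime_three
      obtain ⟨y, hy⟩ := surjective_frobenius F 3 x
      exact ⟨y, hy⟩
    have hF' : ∃ a : F, a ≠ 0 ∧ a ≠ 1 := by
      by_contra hcon
      apply hne
      intro t
      by_cases h0 : t = 0
      · exact Or.inl h0
      · by_cases h1 : t = 1
        · exact Or.inr h1
        · exact absurd ⟨t, h0, h1⟩ hcon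
    obtain ⟨hsimple, -⟩ := Cfsg.Agent.S1055.result (F := F) hF'
    obtain ⟨α, hα⟩ := Cfsg.Agent.Helper18.GraphAut.graphAut_G2 hperf
      (Cfsg.Agent.Helper18.GraphAut.normalHyp_of_isSimpleGroup _)
    exact Cfsg.Agent.Helper96.OutChev.card_out_of_table 3 Cfsg.Lie.chevG2 hD hF hdiag
      (fun r => Cfsg.Agent.Helper18.GraphAut.gdG2.rho.getD r 0) Cfsg.Agent.Helper18.GraphAut.gdG2.lam
      (Equiv.swap Cfsg.Agent.Helper18.Aut.g20 Cfsg.Agent.Helper18.Aut.g21) α hα
      Cfsg.Agent.Helper96.OutChev.tab_pn_G2 Cfsg.Agent.Helper96.OutChev.tab_inv_G2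
      Cfsg.Agent.Helper96.OutChev.tab_pi_G2 (fun π _ => Cfsg.Agent.Helper18.Aut.permG2 π)
      (by decide) Cfsg.Agent.Helper96.OutChev.tab_mv_G2
  · rw [if_neg hp3]
    apply Cfsg.Agent.Helper96.OutChev.card_out_of_noGraph p Cfsg.Lie.chevG2 hD hF hdiag
    rintro g ⟨π, hπ, hg⟩
    rcases Cfsg.Agent.Helper18.Aut.permG2 π with rfl | rfl
    · exact Cfsg.Agent.Helper96.OutChev.graphAutFor_one Cfsg.Lie.chevG2 hD g hg
    · exfalso
      rcases Cfsg.Agent.Helper96.OutChev.char_of_graph_G2 g hg with h | h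
      · rw [ringChar.eq F p] at h
        exact hp3 h
      · exact hne h

end Cfsg.Agent.S2121
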