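import Cfsg.Statements.S2122
import Cfsg.Agent.Helper96.OutChevH
import Cfsg.Agent.S1054

set_option autoImplicit false
open Cfsg

namespace Cfsg.Agent.S2122

/-- Outer automorphisms of the Chevalley groups of type F₄: over a field with q = p^f (p prime) elements, the outer automorphism group of F₄(q) has order gcd(2, p) · f (field automorphisms, and in characteristic 2 also the exceptional graph automorphism). -/
theorem result {F : Type*} [Field F] [Fintype F] (p f : ℕ) [Fact p.Prime] [CharP F p] (hF : Fintype.card F = p ^ f) : Nat.card (Cfsg.Out ↥(Cfsg.Lie.chevF4.group F)) = Nat.gcd 2 p * f := by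
  classical
  have hD := Cfsg.Agent.Helper18.Aut.hF4
  have hdiag : Cfsg.Agent.Helper96.OutChev.DiagInner F Cfsg.Lie.chevF4 :=
    Cfsg.Agent.Helper96.OutChev.diagInner Cfsg.Lie.chevF4 (by simp)
  have hsymm : ∀ π : Equiv.Perm (Fin Cfsg.Lie.chevF4.rank), Cfsg.Lie.chevF4.IsDiagramSymmetry π →
      π = 1 ∨ π = Equiv.swap Cfsg.Agent.Helper18.Aut.f40 Cfsg.Agent.Helper18.Aut.f43 *
        Equiv.swap Cfsg.Agent.Helper18.Aut.f41 Cfsg.Agent.Helper18.Aut.f42 := by
    intro π hπ
    apply Cfsg.Agent.Helper18.Aut.permF4 π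
    intro i k hik
    rw [hπ i k hik]
  by_cases hp2 : p = 2
  · subst hp2
    rw [Nat.gcd_self]
    have hperf : ∀ x : F, ∃ y : F, y ^ 2 = x := by
      intro x
      haveI : ExpChar F 2 := ExpChar.prime Nat.prime_two
      obtain ⟨y, hy⟩ := surjective_frobenius F 2 x
      exact ⟨y, hy⟩
    obtain ⟨hsimple, -⟩ := Cfsg.Agent.S1054.result (F := F) Cfsg.Lie.chevF4 (by simp)
    obtain ⟨α, hα⟩ := Cfsg.Agent.Helper18.GraphAut.graphAut_F4 hperf
      (Cfsg.Agent.Helper18.GraphAut.normalHyp_of_isSimpleGroup _)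
    exact Cfsg.Agent.Helper96.OutChev.card_out_of_table 2 Cfsg.Lie.chevF4 hD hF hdiag
      (fun r => Cfsg.Agent.Helper18.GraphAut.gdF4.rho.getD r 0) Cfsg.Agent.Helper18.GraphAut.gdF4.lam
      (Equiv.swap Cfsg.Agent.Helper18.Aut.f40 Cfsg.Agent.Helper18.Aut.f43 *
        Equiv.swap Cfsg.Agent.Helper18.Aut.f41 Cfsg.Agent.Helper18.Aut.f42) α hα
      Cfsg.Agent.Helper96.OutChev.tab_pn_F4 Cfsg.Agent.Helper96.OutChev.tab_inv_F4
      Cfsg.Agent.Helper96.OutChev.tab_pi_F4 hsymm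
      (by decide) Cfsg.Agent.Helper96.OutChev.tab_mv_F4
  · have hcop : Nat.gcd 2 p = 1 :=
      (Nat.coprime_primes Nat.prime_two (Fact.out : p.Prime)).mpr (Ne.symm hp2)
    rw [hcop, one_mul]
    apply Cfsg.Agent.Helper96.OutChev.card_out_of_noGraph p Cfsg.Lie.chevF4 hD hF hdiag
    rintro g ⟨π, hπ, hg⟩
    rcases hsymm π hπ with rfl | rfl
    · exact Cfsg.Agent.Helper96.OutChev.graphAutFor_one Cfsg.Lie.chevF4 hD g hg
    · exfalso
      have h := Cfsg.Agent.Helper96.OutChev.char_of_graph_F4 g hg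
      rw [ringChar.eq F p] at h
      exact hp2 h

end Cfsg.Agent.S2122
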