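import Cfsg.Statements.S2123
import Cfsg.Agent.Helper36.OutE6

set_option autoImplicit false
open Cfsg

namespace Cfsg.Agent.S2123

open Cfsg.Lie Cfsg.Agent.Helper36.OutDiag Cfsg.Agent.Helper96.OutChev Cfsg.Agent.Helper18.Aut

/-- the certificate for the cokernel (of order 3) of the Cartan matrix of `E₆` -/
def mE6 : ℕ → ℤ := fun i => ([1, 0, 2, 0, 1, 2] : List ℤ).getD i 0
def eE6 : ℕ → ℤ := fun i => ([0, 0, 1, -1, 0, 1] : List ℤ).getD i 0
def bE6 : ℕ → ℕ → ℤ := fun i k => (([[1, 1, 1, 2, 1, 0], [1, 2, 2, 3, 2, 1], [1, 2, 2, 4, 2, 0],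
  [2, 3, 4, 6, 4, 2], [1, 2, 2, 4, 3, 1], [0, 1, 0, 2, 1, 0]] :
    List (List ℤ)).getD i []).getD k 0

theorem latCertE6 : LatCert chevE6 3 mE6 mE6 eE6 eE6 bE6 where
  h1 := by decide +kernel
  h2 := by decide +kernel
  h3 := by decide +kernel
  hm := ⟨0, by decide, rfl⟩

/-- Outer automorphisms of the (adjoint, simple) Chevalley groups of type E₆: over a field with q = p^f (p prime) elements, the outer automorphism group of E₆(q) has order 2 · gcd(3, q − 1) · f (diagonal, field and graph automorphisms). -/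
theorem result {F : Type*} [Field F] [Fintype F] (p f : ℕ) [Fact p.Prime] [CharP F p] (hF : Fintype.card F = p ^ f) : Nat.card (Cfsg.Out ↥(Cfsg.Lie.chevE6.group F)) = 2 * Nat.gcd 3 (p ^ f - 1) * f := by
  have hf : 1 ≤ f := by
    rcases Nat.eq_zero_or_pos f with h0 | h0
    · rw [h0, pow_zero] at hF
      have := Fintype.one_lt_card (α := F)
      omega
    · exact h0
  obtain ⟨γ, hγ⟩ := exists_graphE6 (F := F)
  obtain ⟨m1, m2, m3, m4⟩ := flipE6_move
  have hmove : ∀ t : F, γ (xg chevE6 hE6 (chevE6.simple 0) t) = xg chevE6 hE6 (chevE6.simple 5) t := by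
    intro t
    have := (hγ ⟨0, by decide⟩ t).1
    rw [m4] at this
    exact this
  have hU : PresU chevE6 γ := presU_of_roots chevE6 hE6 γ (fun r t hr => by
    obtain ⟨t', ht'⟩ := graphE6_roots γ hγ r hr.1 t
    exact ⟨_, t', (flipE6_pos r hr.1).1 hr, ht'⟩)
  have hV : PresV chevE6 γ := presV_of_roots chevE6 hE6 γ (fun r t hr => by
    obtain ⟨t', ht'⟩ := graphE6_roots γ hγ r hr.1 t
    exact ⟨_, t', (flipE6_pos r hr.1).2 hr, ht'⟩)
  rw [card_out_graphTwo chevE6 hE6 flipE6 γ (actsAs_graphAutFor chevE6 hE6 notLong_E6 flipE6 γ hγ)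
    Cfsg.Agent.Helper36.symE6 (actsAs_sq chevE6 hE6 flipE6 γ hγ flipE6_sq) hU hV
    (actsAs_comm_field chevE6 hE6 flipE6 γ hγ) _ _ m1 m2 m3 hmove 3 mE6 mE6 eE6 eE6 bE6 latCertE6,
    (Cfsg.Agent.Helper37.OutPsl.card_ringAut hF hf).1, Nat.card_units, Nat.card_eq_fintype_card, hF,
    Nat.gcd_comm]
  ring

end Cfsg.Agent.S2123
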