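import Cfsg.Statements.S2124
import Cfsg.Agent.Helper36.OutE7

set_option autoImplicit false
open Cfsg

namespace Cfsg.Agent.S2124

open Cfsg.Lie Cfsg.Agent.Helper36.OutDiag

/-- the certificate for the cokernel (of order 2) of the Cartan matrix of `E₇` -/
def mE7 : ℕ → ℤ := fun i => ([0, 1, 0, 0, 1, 0, 1] : List ℤ).getD i 0
def eE7 : ℕ → ℤ := fun i => ([0, 1, 0, -1, 1, -1, 1] : List ℤ).getD i 0
def bE7 : ℕ → ℕ → ℤ := fun i k => (([[2, 2, 3, 4, 3, 2, 1], [2, 3, 4, 6, 4, 3, 1], [3, 4, 6, 8, 6, 4, 2],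
  [4, 6, 8, 12, 9, 6, 3], [3, 4, 6, 9, 7, 5, 2], [2, 3, 4, 6, 5, 4, 2], [1, 1, 2, 3, 2, 2, 1]] :
    List (List ℤ)).getD i []).getD k 0

theorem latCertE7 : LatCert chevE7 2 mE7 mE7 eE7 eE7 bE7 where
  h1 := by decide +kernel
  h2 := by decide +kernel
  h3 := by decide +kernel
  hm := ⟨1, by decide, rfl⟩

theorem hE7 : chevE7 ∈ [chevG2, chevB2, chevD4, chevF4, chevE6, chevE7, chevE8] := by simp

/-- Outer automorphisms of the (adjoint, simple) Chevalley groups of type E₇: over a field with q = p^f (p prime) elements, the outer automorphism group of E₇(q) has order gcd(2, q − 1) · f (diagonal and field automorphisms). -/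
theorem result {F : Type*} [Field F] [Fintype F] (p f : ℕ) [Fact p.Prime] [CharP F p] (hF : Fintype.card F = p ^ f) : Nat.card (Cfsg.Out ↥(Cfsg.Lie.chevE7.group F)) = Nat.gcd 2 (p ^ f - 1) * f := by
  have hf : 1 ≤ f := by
    rcases Nat.eq_zero_or_pos f with h0 | h0
    · rw [h0, pow_zero] at hF
      have := Fintype.one_lt_card (α := F)
      omega
    · exact h0
  rw [card_out_nograph chevE7 hE7 Cfsg.Agent.Helper18.Aut.permE7 2 mE7 mE7 eE7 eE7 bE7 latCertE7,
    (Cfsg.Agent.Helper37.OutPsl.card_ringAut hF hf).1, Nat.card_units, Nat.card_eq_fintype_card, hF,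
    Nat.gcd_comm]

end Cfsg.Agent.S2124
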