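import Cfsg.Statements.S2125
import Cfsg.Agent.S2156
import Cfsg.Agent.Helper96.OutChevD
import Cfsg.Agent.Helper96.OutChevE
import Cfsg.Agent.Helper96.OutChevF

set_option autoImplicit false
open Cfsg

namespace Cfsg.Agent.S2125

/-- Outer automorphisms of the Chevalley groups of type E₈: over a field with p^f elements, p prime, the outer automorphism group of E₈(p^f) has order f (field automorphisms only). -/
theorem result {F : Type*} [Field F] [Fintype F] (p f : ℕ) [Fact p.Prime] [CharP F p] (hF : Fintype.card F = p ^ f) : Nat.card (Cfsg.Out ↥(Cfsg.Lie.chevE8.group F)) = f := by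
  classical
  have hD : Cfsg.Lie.chevE8 ∈ [Cfsg.Lie.chevG2, Cfsg.Lie.chevB2, Cfsg.Lie.chevD4, Cfsg.Lie.chevF4,
      Cfsg.Lie.chevE6, Cfsg.Lie.chevE7, Cfsg.Lie.chevE8] := by simp
  refine Cfsg.Agent.Helper96.OutChev.card_out_field Cfsg.Lie.chevE8 hD
    (fun θ => Cfsg.Agent.S2156.result Cfsg.Lie.chevE8 hD θ)
    (Cfsg.Agent.Helper96.OutChev.diagInner Cfsg.Lie.chevE8 (by simp))
    (Cfsg.Agent.Helper96.OutChev.normHyp Cfsg.Lie.chevE8 hD) ?_
    (frobeniusEquiv F p) (Cfsg.Agent.Helper96.OutChev.frob_generates p hF) f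
    (Cfsg.Agent.Helper96.OutChev.frob_orderOf p hF)
  rintro g ⟨π, hπ, hg⟩
  have h1 : π = 1 := Cfsg.Agent.Helper18.Aut.permE8 π hπ
  subst h1
  exact Cfsg.Agent.Helper96.OutChev.graphAutFor_one Cfsg.Lie.chevE8 hD g hg

end Cfsg.Agent.S2125
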