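import Cfsg.Statements.S2128
import Cfsg.Agent.Helper18.TwF4.Aut
import Cfsg.Agent.Helper14.AutCount

set_option autoImplicit false
open Cfsg

namespace Cfsg.Agent.S2128

open Cfsg.Lie Cfsg.Agent.Helper18.TwF4

/-- Outer automorphisms of the large Ree groups: for q = 2^(2m+1) with m ≥ 1 the outer automorphism group of ²F₄(q) has order 2m + 1 (field automorphisms only). -/
theorem result {K : Type*} [Field K] [Fintype K] {m : ℕ} (hm : 1 ≤ m) (hK : Fintype.card K = 2 ^ (2 * m + 1)) : Nat.card (Cfsg.Out ↥(Cfsg.Lie.twistedF4 K (2 ^ m))) = 2 * m + 1 := by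
  haveI : Fact (Nat.Prime 2) := ⟨Nat.prime_two⟩
  haveI : CharP K 2 := Cfsg.Agent.Helper36.SigmaF4.charP_two hK
  let Φ : (K ≃+* K) →* Cfsg.Out ↥(twistedF4 K (2 ^ m)) :=
    (QuotientGroup.mk' (Cfsg.Inn ↥(twistedF4 K (2 ^ m)))).comp (fieldTwHom K (2 ^ m))
  have hinj : Function.Injective Φ := by
    rw [injective_iff_map_eq_one]
    intro τ hτ
    have h1 : fieldTwHom K (2 ^ m) τ ∈ Cfsg.Inn ↥(twistedF4 K (2 ^ m)) :=
      (QuotientGroup.eq_one_iff _).mp hτ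
    obtain ⟨g, hg⟩ := h1
    apply fieldTw_not_inner hK τ g
    intro x
    have := congrArg (fun φ : MulAut ↥(twistedF4 K (2 ^ m)) => φ x) hg
    simp only [MulAut.conj_apply] at this
    exact this.symm
  have hsurj : Function.Surjective Φ := by
    intro a
    obtain ⟨θ, rfl⟩ := QuotientGroup.mk'_surjective _ a
    obtain ⟨g, τ, h⟩ := aut_twF4 hm hK θ
    refine ⟨τ, ?_⟩
    show QuotientGroup.mk' _ (fieldTwHom K (2 ^ m) τ) = QuotientGroup.mk' _ θ
    rw [QuotientGroup.mk'_eq_mk']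
    refine ⟨(fieldTwHom K (2 ^ m) τ)⁻¹ * θ, ?_, by group⟩
    -- `(fieldTw τ)⁻¹ θ` is inner
    have hn : (Cfsg.Inn ↥(twistedF4 K (2 ^ m))).Normal := inferInstance
    have e : θ = MulAut.conj g * fieldTwHom K (2 ^ m) τ := by
      ext x
      rw [h x]
      rfl
    rw [e]
    have : (fieldTwHom K (2 ^ m) τ)⁻¹ * (MulAut.conj g * fieldTwHom K (2 ^ m) τ) =
        (fieldTwHom K (2 ^ m) τ)⁻¹ * MulAut.conj g * ((fieldTwHom K (2 ^ m) τ)⁻¹)⁻¹ := by group
    rw [this]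
    exact hn.conj_mem _ ⟨g, rfl⟩ _
  rw [← Nat.card_congr (Equiv.ofBijective Φ ⟨hinj, hsurj⟩)]
  exact Cfsg.Agent.Helper14.AutPSL.card_ringAut 2 (2 * m + 1) (by omega) hK

end Cfsg.Agent.S2128
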