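import Cfsg.Statements.S2129
import Cfsg.Agent.Helper18.Tw.D4Aut
import Cfsg.Agent.Helper14.AutCount
import Cfsg.Agent.Helper19.Twist.Frob

set_option autoImplicit false
open Cfsg

namespace Cfsg.Agent.S2129

open Cfsg.Lie Cfsg.Agent.Helper18.Tw Cfsg.Agent.Helper19.Twist

/-- Outer automorphisms of the triality-twisted groups: for q = p^f (p prime), with the group realised over the field with q³ elements, the outer automorphism group of ³D₄(q) has order 3f (the field automorphisms of the cubic extension). -/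
theorem result {K : Type*} [Field K] [Fintype K] (p f : ℕ) [Fact p.Prime] [CharP K p] (hK : Fintype.card K = p ^ (3 * f)) (hf : 1 ≤ f) : Nat.card (Cfsg.Out ↥(Cfsg.Lie.twistedD4 K (p ^ f))) = 3 * f := by
  have hp : p.Prime := Fact.out
  have hq : IsPrimePow (p ^ f) := ⟨p, f, Nat.prime_iff.mp hp, by omega, rfl⟩
  have hK' : Fintype.card K = (p ^ f) ^ 3 := by rw [hK, ← pow_mul, mul_comm]
  obtain ⟨fr, hfr⟩ := exists_frob hq hK'
  let Φ : (K ≃+* K) →* Cfsg.Out ↥(twistedD4 K (p ^ f)) :=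
    (QuotientGroup.mk' (Cfsg.Inn ↥(twistedD4 K (p ^ f)))).comp (fieldTwHom K (p ^ f))
  have hinj : Function.Injective Φ := by
    rw [injective_iff_map_eq_one]
    intro τ hτ
    have h1 : fieldTwHom K (p ^ f) τ ∈ Cfsg.Inn ↥(twistedD4 K (p ^ f)) :=
      (QuotientGroup.eq_one_iff _).mp hτ
    obtain ⟨g, hg⟩ := h1
    apply fieldTw_not_inner p hq hK' τ g
    intro x
    have := congrArg (fun φ : MulAut ↥(twistedD4 K (p ^ f)) => φ x) hg
    simp only [MulAut.conj_apply] at this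
    exact this.symm
  have hsurj : Function.Surjective Φ := by
    intro a
    obtain ⟨θ, rfl⟩ := QuotientGroup.mk'_surjective _ a
    obtain ⟨g, τ, h⟩ := aut_twD4 fr hfr p hq hK' θ
    refine ⟨τ, ?_⟩
    show QuotientGroup.mk' _ (fieldTwHom K (p ^ f) τ) = QuotientGroup.mk' _ θ
    rw [QuotientGroup.mk'_eq_mk']
    refine ⟨(fieldTwHom K (p ^ f) τ)⁻¹ * θ, ?_, by group⟩
    -- `(fieldTw τ)⁻¹ θ` is inner
    have hn : (Cfsg.Inn ↥(twistedD4 K (p ^ f))).Normal := inferInstance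
    have e : θ = MulAut.conj g * fieldTwHom K (p ^ f) τ := by
      ext x
      rw [h x]
      rfl
    rw [e]
    have : (fieldTwHom K (p ^ f) τ)⁻¹ * (MulAut.conj g * fieldTwHom K (p ^ f) τ) =
        (fieldTwHom K (p ^ f) τ)⁻¹ * MulAut.conj g * ((fieldTwHom K (p ^ f) τ)⁻¹)⁻¹ := by group
    rw [this]
    exact hn.conj_mem _ ⟨g, rfl⟩ _
  rw [← Nat.card_congr (Equiv.ofBijective Φ ⟨hinj, hsurj⟩)]
  exact Cfsg.Agent.Helper14.AutPSL.card_ringAut p (3 * f) (by omega) hK

end Cfsg.Agent.S2129
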