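import Cfsg.Statements.S2131
import Cfsg.Agent.Helper98.J1Cent

set_option autoImplicit false
open Cfsg

namespace Cfsg.Agent.S2131

/-- The Janko group J₁ (the group generated by two explicit 7 × 7 matrices over the integers modulo 11) has an involution whose centraliser is isomorphic to the direct product of a group of order 2 with the alternating group of degree 5. -/
theorem result : ∃ t : ↥Cfsg.Spor.J1, orderOf t = 2 ∧ Nonempty (↥(Subgroup.centralizer ({t} : Set ↥Cfsg.Spor.J1)) ≃* Multiplicative (ZMod 2) × ↥(alternatingGroup (Fin 5))) := by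
  obtain ⟨t, htJ, hord, H, hHJ, hcent, hHt, ⟨e⟩⟩ := Cfsg.Agent.Helper98.J1.centralizer_structure
  obtain ⟨e5⟩ := Cfsg.Agent.S3377.result
  refine ⟨⟨t, htJ⟩, ?_, ?_⟩
  · rw [← hord]
    exact Subgroup.orderOf_mk t htJ
  -- the centralizer is isomorphic to `H`
  let f : ↥(Subgroup.centralizer ({(⟨t, htJ⟩ : ↥Cfsg.Spor.J1)} : Set ↥Cfsg.Spor.J1)) →* ↥H :=
    { toFun := fun g => ⟨g.1.1, hcent g.1.1 g.1.2 (by
        have h := Subgroup.mem_centralizer_iff.1 g.2 ⟨t, htJ⟩ rfl
        have h2 := congrArg Subtype.val h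
        exact h2.symm)⟩
      map_one' := rfl
      map_mul' := fun _ _ => rfl }
  have hf : Function.Bijective f := by
    constructor
    · intro a b hab
      have h1 : a.1.1 = b.1.1 := congrArg (fun z : ↥H => z.1) hab
      exact Subtype.ext (Subtype.ext h1)
    · intro h
      have hmem : (⟨h.1, hHJ h.2⟩ : ↥Cfsg.Spor.J1) ∈
          Subgroup.centralizer ({(⟨t, htJ⟩ : ↥Cfsg.Spor.J1)} : Set ↥Cfsg.Spor.J1) := by
        rw [Subgroup.mem_centralizer_iff]
        intro k hk
        rw [Set.mem_singleton_iff] at hk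
        subst hk
        apply Subtype.ext
        exact (hHt h.1 h.2).symm
      exact ⟨⟨⟨h.1, hHJ h.2⟩, hmem⟩, Subtype.ext rfl⟩
  exact ⟨(MulEquiv.ofBijective f hf).trans (e.symm.trans (MulEquiv.prodCongr (MulEquiv.refl _) e5))⟩

end Cfsg.Agent.S2131
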