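import Cfsg.Statements.S2155
import Cfsg.Agent.Helper36.ParaCent
import Cfsg.Agent.Helper49.FStar
import Cfsg.Agent.S1027

set_option autoImplicit false
open Cfsg

namespace Cfsg.Agent.S2155

/-- In a Chevalley group of type G₂, B₂, D₄, F₄, E₆, E₇ or E₈ over a finite field of characteristic p (for types G₂ and B₂ the field is assumed to have at least 3 elements, so that the group is simple), the generalized Fitting subgroup of every proper standard parabolic subgroup P_J is a p-group (P_J is p-constrained with trivial largest normal subgroup of order prime to p). -/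
theorem result {F : Type*} [Field F] [Fintype F] (p : ℕ) [Fact p.Prime] [CharP F p] (D : Cfsg.Lie.ChevalleyDatum) (hD : D ∈ [Cfsg.Lie.chevG2, Cfsg.Lie.chevB2, Cfsg.Lie.chevD4, Cfsg.Lie.chevF4, Cfsg.Lie.chevE6, Cfsg.Lie.chevE7, Cfsg.Lie.chevE8]) (hq : (D = Cfsg.Lie.chevG2 ∨ D = Cfsg.Lie.chevB2) → 3 ≤ Fintype.card F) (J : Set ℕ) (hJ : ∃ i, i < D.rank ∧ i ∉ J) : IsPGroup p ↥(Cfsg.generalizedFittingSubgroup ↥(D.parabolicSubgroup F J)) := by
  classical
  have hiff := Cfsg.Agent.Helper49.gfs_eq_pCore_iff (H := ↥(D.parabolicSubgroup F J)) (p := p)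
  suffices hc : Subgroup.centralizer (pCore p ↥(D.parabolicSubgroup F J) : Set ↥(D.parabolicSubgroup F J))
      ≤ pCore p ↥(D.parabolicSubgroup F J) by
    rw [hiff.mpr hc]
    exact Cfsg.Agent.Helper49.pCore_isPGroup p _
  -- `U` is a `p`-group
  have hUp : IsPGroup p ↥(D.posUnipotent F) := by
    obtain ⟨n, -, hn⟩ := FiniteField.card F p
    apply IsPGroup.of_card (n := (n : ℕ) * (D.nroots / 2))
    rw [Cfsg.Agent.S1027.result D hD, hn, pow_mul]
  have h25 : Cfsg.Agent.Helper18.CommHyp D F :=
    fun r s hr hs h1 h2 t u => Cfsg.Agent.S1025.result D hD r s hr hs h1 h2 t u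
  obtain ⟨hnorm, hsup, -⟩ := Cfsg.Agent.Helper18.levi_decomp (F := F) D hD h25 J
  have hUJP : D.unipotentRadical F J ≤ D.parabolicSubgroup F J := by
    rw [← hsup]; exact le_sup_left
  have hUJU : D.unipotentRadical F J ≤ D.posUnipotent F := by
    unfold Cfsg.Lie.ChevalleyDatum.unipotentRadical Cfsg.Lie.ChevalleyDatum.posUnipotent
    apply Subgroup.closure_mono
    rintro g ⟨r, t, hr, -, hg⟩
    exact ⟨r, t, hr, hg⟩
  -- the unipotent radical lies in the `p`-core
  have hRn : ((D.unipotentRadical F J).subgroupOf (D.parabolicSubgroup F J)).Normal :=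
    (Subgroup.normal_subgroupOf_iff_le_normalizer hUJP).mpr hnorm
  have hRp : IsPGroup p ↥((D.unipotentRadical F J).subgroupOf (D.parabolicSubgroup F J)) :=
    (hUp.to_le hUJU).comap_subtype
  have hR := Cfsg.Agent.Helper49.le_pCore hRn hRp
  -- so does the centraliser of the unipotent radical
  have hCle : D.parabolicSubgroup F J ⊓ Subgroup.centralizer (D.unipotentRadical F J : Set (GL D.Idx F))
      ≤ D.parabolicSubgroup F J := inf_le_left
  have hCn : ((D.parabolicSubgroup F J ⊓ Subgroup.centralizer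
      (D.unipotentRadical F J : Set (GL D.Idx F))).subgroupOf (D.parabolicSubgroup F J)).Normal :=
    (Subgroup.normal_subgroupOf_iff_le_normalizer hCle).mpr
      (Cfsg.Agent.Helper36.ParaCent.para_le_normalizer_cent D hD J)
  have hCp : IsPGroup p ↥((D.parabolicSubgroup F J ⊓ Subgroup.centralizer
      (D.unipotentRadical F J : Set (GL D.Idx F))).subgroupOf (D.parabolicSubgroup F J)) :=
    (hUp.to_le (Cfsg.Agent.Helper36.ParaCent.cent_le_pos D hD J hJ)).comap_subtype
  have hC := Cfsg.Agent.Helper49.le_pCore hCn hCp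
  intro x hx
  apply hC
  rw [Subgroup.mem_subgroupOf, Subgroup.mem_inf]
  refine ⟨x.2, ?_⟩
  rw [Subgroup.mem_centralizer_iff]
  intro y hy
  have hyR : (⟨y, hUJP hy⟩ : ↥(D.parabolicSubgroup F J)) ∈
      (D.unipotentRadical F J).subgroupOf (D.parabolicSubgroup F J) := by
    rw [Subgroup.mem_subgroupOf]; exact hy
  have := (Subgroup.mem_centralizer_iff.mp hx) _ (hR hyR)
  exact congrArg Subtype.val this

end Cfsg.Agent.S2155
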