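import Cfsg.Statements.S2158
import Cfsg.Agent.Helper36.DiagInt
import Cfsg.Agent.S0312
import Cfsg.Agent.S1036
import Cfsg.Agent.Helper36.BNPair
import Cfsg.Agent.S2157

set_option autoImplicit false
open Cfsg

namespace Cfsg.Agent.S2158

/-- In a Chevalley group of type G₂, B₂, D₄, F₄, E₆, E₇ or E₈ over any field, an element of the group whose matrix is the diagonal matrix `ĥ(χ)` of a character `χ` of the root lattice already lies in the diagonal subgroup H (the non-trivial inclusion of the statement that the group meets the group of all such diagonal matrices in H). -/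
theorem result {F : Type*} [Field F] (D : Cfsg.Lie.ChevalleyDatum) (hD : D ∈ [Cfsg.Lie.chevG2, Cfsg.Lie.chevB2, Cfsg.Lie.chevD4, Cfsg.Lie.chevF4, Cfsg.Lie.chevE6, Cfsg.Lie.chevE7, Cfsg.Lie.chevE8]) (χ : ℕ → Fˣ) (hχ : D.IsRootCharacter χ) (g : GL D.Idx F) (hg : g ∈ D.group F)
    (hgχ : (g : Matrix D.Idx D.Idx F) = D.charDiag F χ) : g ∈ D.diagonalSubgroup F := by
  obtain ⟨P, hB, _, _⟩ := Cfsg.Agent.Helper36.chev_bnPair (F := F) D hD
  have h312 := Cfsg.Agent.S0312.result P (J := ∅) (Set.empty_subset _)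
  have hpar : P.parabolic ∅ = P.B := by
    unfold Cfsg.BNPair.parabolic
    rw [Subgroup.closure_empty, sup_bot_eq]
  rw [hpar] at h312
  refine Cfsg.Agent.Helper36.DiagInt.mem_diagonal_of_charDiag D hD
    (fun χ hχ r hr t => Cfsg.Agent.S2157.result D hD χ hχ r hr t)
    (Cfsg.Agent.S1036.result D hD).1 ?_ χ hχ g hg hgχ
  intro g hg hgn
  have hmem : (⟨g, hg⟩ : ↥(D.group F)) ∈ Subgroup.normalizer (P.B : Set ↥(D.group F)) := by
    rw [Subgroup.mem_normalizer_iff]
    intro h
    rw [hB, Subgroup.mem_subgroupOf, Subgroup.mem_subgroupOf]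
    have := (Subgroup.mem_normalizer_iff.mp hgn) (h : GL D.Idx F)
    simpa using this
  rw [h312, hB, Subgroup.mem_subgroupOf] at hmem
  exact hmem

end Cfsg.Agent.S2158
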