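import Cfsg.Statements.S2159
import Cfsg.Agent.Helper18.Aut.OutMain

set_option autoImplicit false
open Cfsg

namespace Cfsg.Agent.S2159

open Cfsg.Lie Cfsg.Agent.Helper18.Aut

/-- Structure of the outer automorphism group of the Chevalley group `G` of type G₂, B₂, D₄, F₄, E₆, E₇ or E₈ over a finite field. Let `D̄` be the image in `Out(G)` of the subgroup generated by the diagonal automorphisms and `F̄` the image of the subgroup generated by the field automorphisms. Then `D̄` is a normal abelian subgroup of `Out(G)`, `F̄` is cyclic, `D̄F̄` is a normal subgroup, and the quotient of `Out(G)` by `D̄F̄` is trivial, of order 2, or non-abelian of order 6 (so isomorphic to the symmetric group on three letters): its index is 1 or 2, or it is 6 with the commutator subgroup of `Out(G)` not inside `D̄F̄`. -/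
theorem result {F : Type*} [Field F] [Finite F] (D : Cfsg.Lie.ChevalleyDatum) (hD : D ∈ [Cfsg.Lie.chevG2, Cfsg.Lie.chevB2, Cfsg.Lie.chevD4, Cfsg.Lie.chevF4, Cfsg.Lie.chevE6, Cfsg.Lie.chevE7, Cfsg.Lie.chevE8])
    (Dbar Fbar : Subgroup (Cfsg.Out ↥(D.group F)))
    (hDbar : Dbar = (Subgroup.closure {φ : MulAut ↥(D.group F) | D.IsDiagonalAut φ}).map (QuotientGroup.mk' (Cfsg.Inn ↥(D.group F))))
    (hFbar : Fbar = (Subgroup.closure {φ : MulAut ↥(D.group F) | D.IsFieldAut φ}).map (QuotientGroup.mk' (Cfsg.Inn ↥(D.group F)))) :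
    Dbar.Normal ∧ IsMulCommutative ↥Dbar ∧ IsCyclic ↥Fbar ∧ (Dbar ⊔ Fbar).Normal ∧
      ((Dbar ⊔ Fbar).index = 1 ∨ (Dbar ⊔ Fbar).index = 2 ∨
        ((Dbar ⊔ Fbar).index = 6 ∧ ¬ commutator (Cfsg.Out ↥(D.group F)) ≤ Dbar ⊔ Fbar)) := by
  have e1 : Subgroup.closure {φ : MulAut ↥(D.group F) | D.IsDiagonalAut φ} = diagSub D hD := by
    have : {φ : MulAut ↥(D.group F) | D.IsDiagonalAut φ} = ((diagSub D hD : Subgroup (MulAut ↥(D.group F))) : Set (MulAut ↥(D.group F))) := by
      ext φ
      exact (mem_diagSub D hD φ).symm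
    rw [this, Subgroup.closure_eq]
  have e2 : Subgroup.closure {φ : MulAut ↥(D.group F) | D.IsFieldAut φ} = fieldSub D hD := by
    have : {φ : MulAut ↥(D.group F) | D.IsFieldAut φ} = ((fieldSub D hD : Subgroup (MulAut ↥(D.group F))) : Set (MulAut ↥(D.group F))) := by
      ext φ
      exact (mem_fieldSub D hD φ).symm
    rw [this, Subgroup.closure_eq]
  rw [e1] at hDbar
  rw [e2] at hFbar
  subst hDbar hFbar
  refine ⟨dBar_normal (F := F) D hD, dBar_comm (F := F) D hD, fBar_cyclic (F := F) D hD,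
    dfBar_normal (F := F) D hD, ?_⟩
  have key : ∀ τ : Equiv.Perm (Fin D.rank),
      (∀ π : Equiv.Perm (Fin D.rank), D.IsDiagramSymmetry π → π = 1 ∨ π = τ) →
      ((dBar F D hD ⊔ fBar F D hD).index = 1 ∨ (dBar F D hD ⊔ fBar F D hD).index = 2 ∨
        ((dBar F D hD ⊔ fBar F D hD).index = 6 ∧
          ¬ commutator (Cfsg.Out ↥(D.group F)) ≤ dBar F D hD ⊔ fBar F D hD)) := by
    intro τ hτ
    rcases index_le_two_of (F := F) D hD τ hτ with h | h
    · exact Or.inl h
    · exact Or.inr (Or.inl h)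
  have hD' := hD
  simp only [List.mem_cons, List.not_mem_nil, or_false] at hD'
  rcases hD' with rfl | rfl | rfl | rfl | rfl | rfl | rfl
  · exact key (Equiv.swap g20 g21) (fun π _ => permG2 π)
  · exact key (Equiv.swap b20 b21) (fun π _ => permB2 π)
  · exact Or.inr (Or.inr (index_D4 (F := F)))
  · refine key (Equiv.swap f40 f43 * Equiv.swap f41 f42) (fun π hπ => permF4 π (fun i k hik => ?_))
    rw [hπ i k hik]
  · exact key (Equiv.swap Cfsg.Agent.Helper36.e60 Cfsg.Agent.Helper36.e65 *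
      Equiv.swap Cfsg.Agent.Helper36.e62 Cfsg.Agent.Helper36.e64) (fun π hπ => Cfsg.Agent.Helper36.symE6 π hπ)
  · exact key 1 (fun π hπ => Or.inl (permE7 π hπ))
  · exact key 1 (fun π hπ => Or.inl (permE8 π hπ))

end Cfsg.Agent.S2159
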