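import Cfsg.Statements.S2162
import Cfsg.Agent.Helper36.SqZero

set_option autoImplicit false
open Cfsg

namespace Cfsg.Agent.S2162

open Module

/-- an involution in characteristic two is one plus a square-zero matrix -/
theorem sub_one_sq {F : Type*} [Field F] [CharP F 2] {n : ℕ} (A : Matrix (Fin n) (Fin n) F)
    (hA : A * A = 1) : (A - 1) * (A - 1) = 0 := by
  have h2 : A + A = 0 := by
    ext i j
    simp only [Matrix.add_apply, Matrix.zero_apply]
    exact CharTwo.add_self_eq_zero _
  have h3 : (1 : Matrix (Fin n) (Fin n) F) + 1 = 0 := by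
    ext i j
    simp only [Matrix.add_apply, Matrix.zero_apply]
    exact CharTwo.add_self_eq_zero _
  have : (A - 1) * (A - 1) = A * A - (A + A) + 1 := by
    rw [sub_mul, mul_sub, mul_sub, Matrix.one_mul, Matrix.mul_one, Matrix.mul_one]
    abel
  rw [this, hA, h2, sub_zero, h3]

theorem coe_sq_of_orderOf {F : Type*} [Field F] {n : ℕ} (a : Matrix.SpecialLinearGroup (Fin n) F)
    (ha : orderOf a = 2) : (a : Matrix (Fin n) (Fin n) F) * (a : Matrix (Fin n) (Fin n) F) = 1 := by
  have h := pow_orderOf_eq_one a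
  rw [ha, pow_two] at h
  have h' := congrArg (fun x : Matrix.SpecialLinearGroup (Fin n) F => (x : Matrix (Fin n) (Fin n) F)) h
  simpa using h'

theorem result {F : Type*} [Field F] [Fintype F] [CharP F 2] {n : ℕ} (hn : 3 ≤ n) (a b : Matrix.SpecialLinearGroup (Fin n) F) (ha : orderOf a = 2) (hb : orderOf b = 2) :
    IsConj a b ↔ ((a : Matrix (Fin n) (Fin n) F) - 1).rank = ((b : Matrix (Fin n) (Fin n) F) - 1).rank := by
  constructor
  · intro h
    obtain ⟨c, hc⟩ := isConj_iff.mp h
    have hc' : c * a = b * c := by rw [← hc]; group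
    have hm : (c : Matrix (Fin n) (Fin n) F) * (a : Matrix (Fin n) (Fin n) F) = (b : Matrix (Fin n) (Fin n) F) * (c : Matrix (Fin n) (Fin n) F) := by
      have := congrArg (fun x : Matrix.SpecialLinearGroup (Fin n) F => (x : Matrix (Fin n) (Fin n) F)) hc'
      simpa using this
    have hm2 : (c : Matrix (Fin n) (Fin n) F) * ((a : Matrix (Fin n) (Fin n) F) - 1) = ((b : Matrix (Fin n) (Fin n) F) - 1) * (c : Matrix (Fin n) (Fin n) F) := by
      rw [mul_sub, sub_mul, hm, Matrix.mul_one, Matrix.one_mul]
    have hdet : IsUnit (c : Matrix (Fin n) (Fin n) F).det := by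
      rw [c.det_coe]
      exact isUnit_one
    rw [← Matrix.rank_mul_eq_right_of_isUnit_det (c : Matrix (Fin n) (Fin n) F) _ hdet, hm2,
      Matrix.rank_mul_eq_left_of_isUnit_det (c : Matrix (Fin n) (Fin n) F) _ hdet]
  · intro hrank
    set A : Matrix (Fin n) (Fin n) F := (a : Matrix (Fin n) (Fin n) F) with hA
    set B : Matrix (Fin n) (Fin n) F := (b : Matrix (Fin n) (Fin n) F) with hB
    have hA2 : A * A = 1 := coe_sq_of_orderOf a ha
    have hB2 : B * B = 1 := coe_sq_of_orderOf b hb
    have hN : (A - 1) * (A - 1) = 0 := sub_one_sq A hA2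
    have hM : (B - 1) * (B - 1) = 0 := sub_one_sq B hB2
    -- positivity of the rank
    have hpos : 0 < (A - 1).rank := by
      rw [Nat.pos_iff_ne_zero]
      intro h0
      have hrange : LinearMap.range (A - 1).mulVecLin = ⊥ := by
        apply Submodule.finrank_eq_zero.mp
        exact h0
      have hzero : (A - 1).mulVecLin = 0 := LinearMap.range_eq_bot.mp hrange
      have hA1 : A - 1 = 0 := by
        have := congrArg LinearMap.toMatrix' hzero
        rw [← Matrix.toLin'_apply', LinearMap.toMatrix'_toLin'] at this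
        simpa using this
      have ha1 : a = 1 := by
        apply Subtype.ext
        show A = 1
        exact sub_eq_zero.mp hA1
      rw [ha1, orderOf_one] at ha
      omega
    have hsq : ∀ d : F, ∃ μ : F, μ * μ = d := by
      intro d
      obtain ⟨r, hr⟩ := FiniteField.isSquare_of_char_two (ringChar.eq F 2) d
      exact ⟨r, hr.symm⟩
    have hf : ∀ x, (A - 1).mulVecLin ((A - 1).mulVecLin x) = 0 := by
      intro x
      rw [Matrix.mulVecLin_apply, Matrix.mulVecLin_apply, Matrix.mulVec_mulVec, hN, Matrix.zero_mulVec]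
    have hg : ∀ x, (B - 1).mulVecLin ((B - 1).mulVecLin x) = 0 := by
      intro x
      rw [Matrix.mulVecLin_apply, Matrix.mulVecLin_apply, Matrix.mulVec_mulVec, hM, Matrix.zero_mulVec]
    obtain ⟨e, hdet, hconj⟩ := Cfsg.Agent.Helper36.exists_conj_of_sq_zero (A - 1).mulVecLin (B - 1).mulVecLin
      hf hg (A - 1).rank hpos rfl hrank.symm hsq
    let C : Matrix (Fin n) (Fin n) F := LinearMap.toMatrix' (e : (Fin n → F) →ₗ[F] (Fin n → F))
    have hCdet : C.det = 1 := by
      show (LinearMap.toMatrix' (e : (Fin n → F) →ₗ[F] (Fin n → F))).det = 1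
      rw [LinearMap.det_toMatrix', hdet]
    have hlin : (e : (Fin n → F) →ₗ[F] (Fin n → F)) ∘ₗ (A - 1).mulVecLin = (B - 1).mulVecLin ∘ₗ (e : (Fin n → F) →ₗ[F] (Fin n → F)) := by
      refine LinearMap.ext fun x => ?_
      exact hconj x
    have hCN : C * (A - 1) = (B - 1) * C := by
      have := congrArg LinearMap.toMatrix' hlin
      rw [LinearMap.toMatrix'_comp, LinearMap.toMatrix'_comp, ← Matrix.toLin'_apply', ← Matrix.toLin'_apply',
        LinearMap.toMatrix'_toLin', LinearMap.toMatrix'_toLin'] at this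
      exact this
    have hCA : C * A = B * C := by
      rw [mul_sub, sub_mul, Matrix.mul_one, Matrix.one_mul] at hCN
      exact sub_left_injective hCN
    rw [isConj_iff]
    let c : Matrix.SpecialLinearGroup (Fin n) F := ⟨C, hCdet⟩
    refine ⟨c, ?_⟩
    rw [mul_inv_eq_iff_eq_mul]
    apply Subtype.ext
    show C * A = B * C
    exact hCA

end Cfsg.Agent.S2162
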