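import Cfsg.Statements.S2163

set_option autoImplicit false
open Cfsg

namespace Cfsg.Agent.S2163

/-- the nilpotent part -/
def nil (F : Type*) [Field F] (n ℓ : ℕ) : Matrix (Fin n) (Fin n) F :=
  Matrix.of (fun i j : Fin n => if j.val < ℓ ∧ i.val = j.val + (n - ℓ) then (1 : F) else 0)

theorem nil_sq {F : Type*} [Field F] {n ℓ : ℕ} (h2 : 2 * ℓ ≤ n) : nil F n ℓ * nil F n ℓ = 0 := by
  ext i k
  rw [Matrix.mul_apply]
  apply Finset.sum_eq_zero
  intro j _
  simp only [nil, Matrix.of_apply, Matrix.zero_apply]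
  by_cases h : (j.val < ℓ ∧ i.val = j.val + (n - ℓ))
  · have : ¬ (k.val < ℓ ∧ j.val = k.val + (n - ℓ)) := by
      rintro ⟨_, h'⟩
      omega
    rw [if_neg this, mul_zero]
  · rw [if_neg h, zero_mul]

theorem rank_nil {F : Type*} [Field F] {n ℓ : ℕ} (h2 : 2 * ℓ ≤ n) : (nil F n ℓ).rank = ℓ := by
  apply le_antisymm
  · -- factor through Fin ℓ
    let A : Matrix (Fin n) (Fin ℓ) F := Matrix.of fun i k => if i.val = k.val + (n - ℓ) then 1 else 0
    let B : Matrix (Fin ℓ) (Fin n) F := Matrix.of fun k j => if j.val = k.val then 1 else 0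
    have hAB : nil F n ℓ = A * B := by
      ext i j
      rw [Matrix.mul_apply]
      simp only [nil, A, B, Matrix.of_apply]
      by_cases hj : j.val < ℓ
      · rw [Finset.sum_eq_single (⟨j.val, hj⟩ : Fin ℓ)]
        · simp [hj]
        · intro k _ hk
          have : ¬ (j.val = k.val) := by
            intro h
            apply hk
            ext
            exact h.symm
          rw [if_neg this, mul_zero]
        · intro h
          exact absurd (Finset.mem_univ _) h
      · rw [if_neg (fun h => hj h.1)]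
        symm
        apply Finset.sum_eq_zero
        intro k _
        have : ¬ (j.val = k.val) := by
          intro h
          apply hj
          rw [h]
          exact k.isLt
        rw [if_neg this, mul_zero]
    rw [hAB]
    calc (A * B).rank ≤ A.rank := Matrix.rank_mul_le_left A B
      _ ≤ Fintype.card (Fin ℓ) := Matrix.rank_le_card_width A
      _ = ℓ := Fintype.card_fin ℓ
  · -- an identity submatrix
    have hle : ∀ k : Fin ℓ, k.val + (n - ℓ) < n := fun k => by have := k.isLt; omega
    have hle' : ∀ k : Fin ℓ, k.val < n := fun k => by have := k.isLt; omega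
    have hsub : (nil F n ℓ).submatrix (fun k : Fin ℓ => (⟨k.val + (n - ℓ), hle k⟩ : Fin n))
        (fun k : Fin ℓ => (⟨k.val, hle' k⟩ : Fin n)) = 1 := by
      ext a b
      simp only [nil, Matrix.submatrix_apply, Matrix.of_apply, Matrix.one_apply]
      by_cases hab : a = b
      · subst hab
        simp
      · have : ¬ (b.val < ℓ ∧ a.val + (n - ℓ) = b.val + (n - ℓ)) := by
          rintro ⟨_, h⟩
          apply hab
          ext
          omega
        rw [if_neg this, if_neg hab]
    have := Matrix.rank_submatrix_le (nil F n ℓ) (fun k : Fin ℓ => (⟨k.val + (n - ℓ), hle k⟩ : Fin n))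
        (fun k : Fin ℓ => (⟨k.val, hle' k⟩ : Fin n))
    rw [hsub, Matrix.rank_one, Fintype.card_fin] at this
    exact this

theorem det_one_add_nil {F : Type*} [Field F] {n ℓ : ℕ} (h1 : 1 ≤ ℓ) (h2 : 2 * ℓ ≤ n) :
    (1 + nil F n ℓ).det = 1 := by
  rw [Matrix.det_of_isLowerTriangular]
  · apply Finset.prod_eq_one
    intro i _
    simp only [Matrix.add_apply, Matrix.one_apply_eq, nil, Matrix.of_apply]
    have : ¬ (i.val < ℓ ∧ i.val = i.val + (n - ℓ)) := by
      rintro ⟨_, h⟩
      omega
    rw [if_neg this, add_zero]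
  · intro i j hij
    have hij' : i.val < j.val := hij
    simp only [Matrix.add_apply, nil, Matrix.of_apply]
    have : ¬ (j.val < ℓ ∧ i.val = j.val + (n - ℓ)) := by
      rintro ⟨_, h⟩
      omega
    rw [if_neg this, add_zero]
    apply Matrix.one_apply_ne
    intro h
    rw [h] at hij'
    exact lt_irrefl _ hij'

theorem result {F : Type*} [Field F] [Fintype F] [CharP F 2] {n : ℕ} (hn : 3 ≤ n) (ℓ : ℕ) (h1 : 1 ≤ ℓ) (h2 : 2 * ℓ ≤ n) :
    ∃ a : Matrix.SpecialLinearGroup (Fin n) F, (a : Matrix (Fin n) (Fin n) F) = 1 + Matrix.of (fun i j : Fin n => if j.val < ℓ ∧ i.val = j.val + (n - ℓ) then (1 : F) else 0) ∧ orderOf a = 2 ∧ ((a : Matrix (Fin n) (Fin n) F) - 1).rank = ℓ := by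
  refine ⟨⟨1 + nil F n ℓ, det_one_add_nil h1 h2⟩, rfl, ?_, ?_⟩
  · have : Fact (Nat.Prime 2) := ⟨Nat.prime_two⟩
    apply orderOf_eq_prime
    · apply Subtype.ext
      show ((1 + nil F n ℓ) ^ 2 : Matrix (Fin n) (Fin n) F) = 1
      rw [pow_two, add_mul, mul_add, mul_add, nil_sq h2, Matrix.one_mul, Matrix.one_mul, Matrix.mul_one, add_zero]
      have h5 : nil F n ℓ + nil F n ℓ = 0 := by
        ext i j
        simp only [Matrix.add_apply, Matrix.zero_apply]
        exact CharTwo.add_self_eq_zero _
      rw [add_assoc, h5, add_zero]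
    · intro h
      have h0 : (1 + nil F n ℓ : Matrix (Fin n) (Fin n) F) = 1 := congrArg Subtype.val h
      have h3 : nil F n ℓ = 0 := by
        have := congrArg (fun M => M - 1) h0
        simpa using this
      have h4 := rank_nil (F := F) h2
      rw [h3, Matrix.rank_zero] at h4
      omega
  · show ((1 + nil F n ℓ : Matrix (Fin n) (Fin n) F) - 1).rank = ℓ
    rw [add_sub_cancel_left]
    exact rank_nil h2

end Cfsg.Agent.S2163
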