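import Cfsg.Statements.S2164
import Cfsg.Agent.Helper45.SUInvol

set_option autoImplicit false
open Cfsg

namespace Cfsg.Agent.S2164
open Cfsg.Agent.Helper45.GU Matrix

/-- Conjugacy of involutions in the special unitary group SU_n(q), q even, n ≥ 3, realised over the field F with q² elements as the matrices of determinant 1 preserving the form Σ u_i v_i^q: for two elements of order 2 of SU_n(q) the following are equivalent — they are conjugate in SU_n(q); they are conjugate in SL_n(F); the matrices a − 1 and b − 1 have the same rank. -/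
theorem result {F : Type*} [Field F] [Fintype F] [CharP F 2] {n q : ℕ} (hF : Fintype.card F = q ^ 2) (hn : 3 ≤ n) (a b : ↥(Cfsg.SU n F q)) (ha : orderOf a = 2) (hb : orderOf b = 2) :
    (IsConj a b ↔ IsConj (a : Matrix.SpecialLinearGroup (Fin n) F) (b : Matrix.SpecialLinearGroup (Fin n) F)) ∧
    (IsConj a b ↔ (((a : Matrix.SpecialLinearGroup (Fin n) F) : Matrix (Fin n) (Fin n) F) - 1).rank = (((b : Matrix.SpecialLinearGroup (Fin n) F) : Matrix (Fin n) (Fin n) F) - 1).rank) := by
  obtain ⟨bar, hbar⟩ := exists_bar hF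
  have hne := bar_ne_id hF bar hbar
  have hinv : ∀ x, bar (bar x) = x := by
    intro x
    rw [hbar, hbar, ← pow_mul, ← sq, ← hF, FiniteField.pow_card]
  have h2 : (2 : F) = 0 := by
    have := CharP.cast_eq_zero F 2
    exact_mod_cast this
  have hq : Even q := by
    have h := Nat.cast_card_eq_zero F
    rw [hF] at h
    have h' : (q : F) ^ 2 = 0 := by exact_mod_cast h
    have h3 : (q : F) = 0 := pow_eq_zero_iff (by norm_num) |>.mp h'
    have h4 := (CharP.cast_eq_zero_iff F 2 q).mp h3
    exact even_iff_two_dvd.mpr h4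
  have hn2 : 2 ≤ n := by omega
  -- squares
  have hsq : ∀ c : ↥(Cfsg.SU n F q), orderOf c = 2 →
      ((c : Matrix.SpecialLinearGroup (Fin n) F) : Matrix (Fin n) (Fin n) F)
        * ((c : Matrix.SpecialLinearGroup (Fin n) F) : Matrix (Fin n) (Fin n) F) = 1 := by
    intro c hc
    have h1 : c ^ 2 = 1 := by rw [← hc]; exact pow_orderOf_eq_one c
    rw [sq] at h1
    have h3 := congrArg (fun z : ↥(Cfsg.SU n F q) =>
      ((z : Matrix.SpecialLinearGroup (Fin n) F) : Matrix (Fin n) (Fin n) F)) h1
    exact h3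
  -- the three implications
  have hPQ : IsConj a b → IsConj (a : Matrix.SpecialLinearGroup (Fin n) F)
      (b : Matrix.SpecialLinearGroup (Fin n) F) := by
    intro h
    rw [isConj_iff] at h ⊢
    obtain ⟨c, hc⟩ := h
    exact ⟨c, by rw [← hc]; rfl⟩
  have hQR : IsConj (a : Matrix.SpecialLinearGroup (Fin n) F)
      (b : Matrix.SpecialLinearGroup (Fin n) F) →
      (((a : Matrix.SpecialLinearGroup (Fin n) F) : Matrix (Fin n) (Fin n) F) - 1).rank
        = (((b : Matrix.SpecialLinearGroup (Fin n) F) : Matrix (Fin n) (Fin n) F) - 1).rank := by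
    intro h
    rw [isConj_iff] at h
    obtain ⟨c, hc⟩ := h
    have hc' : c * (a : Matrix.SpecialLinearGroup (Fin n) F) = b * c := by
      rw [← hc]; group
    have hm : (c : Matrix (Fin n) (Fin n) F)
        * ((a : Matrix.SpecialLinearGroup (Fin n) F) : Matrix (Fin n) (Fin n) F)
        = ((b : Matrix.SpecialLinearGroup (Fin n) F) : Matrix (Fin n) (Fin n) F)
          * (c : Matrix (Fin n) (Fin n) F) := by
      have := congrArg (fun z : Matrix.SpecialLinearGroup (Fin n) F =>
        (z : Matrix (Fin n) (Fin n) F)) hc'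
      exact this
    have hm2 : (c : Matrix (Fin n) (Fin n) F)
        * (((a : Matrix.SpecialLinearGroup (Fin n) F) : Matrix (Fin n) (Fin n) F) - 1)
        = (((b : Matrix.SpecialLinearGroup (Fin n) F) : Matrix (Fin n) (Fin n) F) - 1)
          * (c : Matrix (Fin n) (Fin n) F) := by
      rw [Matrix.mul_sub, Matrix.sub_mul, hm, Matrix.mul_one, Matrix.one_mul]
    have hcu : IsUnit (c : Matrix (Fin n) (Fin n) F).det := by
      rw [c.2]; exact isUnit_one
    rw [← Matrix.rank_mul_eq_right_of_isUnit_det (c : Matrix (Fin n) (Fin n) F) _ hcu, hm2,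
      Matrix.rank_mul_eq_left_of_isUnit_det (c : Matrix (Fin n) (Fin n) F) _ hcu]
  have hRP : (((a : Matrix.SpecialLinearGroup (Fin n) F) : Matrix (Fin n) (Fin n) F) - 1).rank
        = (((b : Matrix.SpecialLinearGroup (Fin n) F) : Matrix (Fin n) (Fin n) F) - 1).rank →
      IsConj a b := by
    intro hr
    obtain ⟨g, hg⟩ := exists_conj_invol bar hbar h2 hq hne hinv hn2 a (hsq a ha)
    obtain ⟨g', hg'⟩ := exists_conj_invol bar hbar h2 hq hne hinv hn2 b (hsq b hb)
    have heq : g * a * g⁻¹ = g' * b * g'⁻¹ := by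
      apply SU_ext
      rw [hg, hg', hr]
    rw [isConj_iff]
    refine ⟨g'⁻¹ * g, ?_⟩
    have : b = g'⁻¹ * (g' * b * g'⁻¹) * g' := by group
    rw [this, ← heq]
    group
  exact ⟨⟨hPQ, fun h => hRP (hQR h)⟩, ⟨fun h => hQR (hPQ h), hRP⟩⟩

end Cfsg.Agent.S2164
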