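import Cfsg.Statements.S2165

set_option autoImplicit false
open Cfsg

namespace Cfsg.Agent.S2165

/-- the swap on indices -/
def sw (n ℓ : ℕ) (i : ℕ) : ℕ := if i < ℓ then i + (n - ℓ) else if n - ℓ ≤ i then i - (n - ℓ) else i

theorem sw_lt {n ℓ : ℕ} (h2 : 2 * ℓ ≤ n) {i : ℕ} (hi : i < n) : sw n ℓ i < n := by
  unfold sw
  split_ifs <;> omega

theorem sw_sw {n ℓ : ℕ} (h2 : 2 * ℓ ≤ n) (h1 : 1 ≤ ℓ) {i : ℕ} (hi : i < n) : sw n ℓ (sw n ℓ i) = i := by
  unfold sw
  split_ifs <;> omega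

/-- the swap as a function on `Fin n` -/
def swF {n ℓ : ℕ} (h2 : 2 * ℓ ≤ n) (i : Fin n) : Fin n := ⟨sw n ℓ i.val, sw_lt h2 i.isLt⟩

theorem swF_swF {n ℓ : ℕ} (h2 : 2 * ℓ ≤ n) (h1 : 1 ≤ ℓ) (i : Fin n) : swF h2 (swF h2 i) = i := by
  apply Fin.ext
  exact sw_sw h2 h1 i.isLt

/-- the swap as a permutation -/
def swP {n ℓ : ℕ} (h2 : 2 * ℓ ≤ n) (h1 : 1 ≤ ℓ) : Equiv.Perm (Fin n) :=
  Function.Involutive.toPerm (swF h2) (swF_swF h2 h1)

/-- the matrix of the statement -/
def pm (F : Type*) [Field F] (n ℓ : ℕ) : Matrix (Fin n) (Fin n) F :=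
  Matrix.of (fun i j : Fin n => if (j.val < ℓ ∧ i.val = j.val + (n - ℓ)) ∨ (i.val < ℓ ∧ j.val = i.val + (n - ℓ)) ∨ (i = j ∧ ℓ ≤ i.val ∧ i.val < n - ℓ) then (1 : F) else 0)

theorem pm_apply {F : Type*} [Field F] {n ℓ : ℕ} (h2 : 2 * ℓ ≤ n) (i j : Fin n) :
    pm F n ℓ i j = if j = swF h2 i then 1 else 0 := by
  simp only [pm, Matrix.of_apply]
  congr 1
  apply propext
  rw [Fin.ext_iff (a := j), Fin.ext_iff (a := i)]
  simp only [swF, sw]
  have := i.isLt
  have := j.isLt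
  split_ifs <;> omega

theorem pm_mulVec {F : Type*} [Field F] {n ℓ : ℕ} (h2 : 2 * ℓ ≤ n) (u : Fin n → F) (i : Fin n) :
    (Matrix.mulVec (pm F n ℓ) u) i = u (swF h2 i) := by
  simp only [Matrix.mulVec, dotProduct, pm_apply h2]
  simp

theorem pm_mul_pm {F : Type*} [Field F] {n ℓ : ℕ} (h2 : 2 * ℓ ≤ n) (h1 : 1 ≤ ℓ) :
    pm F n ℓ * pm F n ℓ = 1 := by
  ext i k
  rw [Matrix.mul_apply]
  simp only [pm_apply h2]
  rw [Finset.sum_eq_single (swF h2 i)]
  · rw [if_pos rfl, one_mul, swF_swF h2 h1, Matrix.one_apply]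
    by_cases h : i = k
    · rw [if_pos h, if_pos h.symm]
    · rw [if_neg h, if_neg (fun h' => h h'.symm)]
  · intro j _ hj
    rw [if_neg hj, zero_mul]
  · intro h
    exact absurd (Finset.mem_univ _) h

theorem det_pm {F : Type*} [Field F] [CharP F 2] {n ℓ : ℕ} (h2 : 2 * ℓ ≤ n) (h1 : 1 ≤ ℓ) :
    (pm F n ℓ).det = 1 := by
  have h := congrArg Matrix.det (pm_mul_pm (F := F) h2 h1)
  rw [Matrix.det_mul, Matrix.det_one] at h
  have h3 : ((pm F n ℓ).det - 1) * ((pm F n ℓ).det - 1) = 0 := by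
    have : ((pm F n ℓ).det - 1) * ((pm F n ℓ).det - 1) = (pm F n ℓ).det * (pm F n ℓ).det - ((pm F n ℓ).det + (pm F n ℓ).det) + 1 := by ring
    rw [this, h, CharTwo.add_self_eq_zero, sub_zero, CharTwo.add_self_eq_zero]
  have h4 := mul_self_eq_zero.mp h3
  exact sub_eq_zero.mp h4

theorem rank_pm_sub_one {F : Type*} [Field F] [CharP F 2] {n ℓ : ℕ} (h2 : 2 * ℓ ≤ n) (h1 : 1 ≤ ℓ) :
    (pm F n ℓ - 1).rank = ℓ := by
  apply le_antisymm
  · let A : Matrix (Fin n) (Fin ℓ) F := Matrix.of fun i k =>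
      (if i.val = k.val + (n - ℓ) then 1 else 0) + (if i.val = k.val then 1 else 0)
    let B : Matrix (Fin ℓ) (Fin n) F := Matrix.of fun k j =>
      (if j.val = k.val then 1 else 0) + (if j.val = k.val + (n - ℓ) then 1 else 0)
    have hAB : pm F n ℓ - 1 = A * B := by
      ext i j
      rw [Matrix.mul_apply]
      simp only [A, B, Matrix.of_apply, Matrix.sub_apply, pm, Matrix.one_apply, Fin.ext_iff]
      have hi := i.isLt
      have hj := j.isLt
      by_cases hi1 : i.val < ℓ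
      · rw [Finset.sum_eq_single (⟨i.val, hi1⟩ : Fin ℓ)]
        · have e1 : ¬ (i.val = i.val + (n - ℓ)) := by omega
          simp only [e1, if_false, if_true, zero_add, one_mul]
          by_cases hij : i.val = j.val
          · have e2 : ¬ (j.val = i.val + (n - ℓ)) := by omega
            have e3 : ¬ ((j.val < ℓ ∧ i.val = j.val + (n - ℓ)) ∨ (i.val < ℓ ∧ j.val = i.val + (n - ℓ)) ∨ (i.val = j.val ∧ ℓ ≤ i.val ∧ i.val < n - ℓ)) := by omega
            rw [if_neg e3, if_pos hij, if_pos hij.symm, if_neg e2, add_zero, zero_sub, CharTwo.neg_eq]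
          · by_cases hij2 : j.val = i.val + (n - ℓ)
            · have e3 : ((j.val < ℓ ∧ i.val = j.val + (n - ℓ)) ∨ (i.val < ℓ ∧ j.val = i.val + (n - ℓ)) ∨ (i.val = j.val ∧ ℓ ≤ i.val ∧ i.val < n - ℓ)) := by omega
              rw [if_pos e3, if_neg hij, if_neg (fun h => hij h.symm), if_pos hij2, sub_zero, zero_add]
            · have e3 : ¬ ((j.val < ℓ ∧ i.val = j.val + (n - ℓ)) ∨ (i.val < ℓ ∧ j.val = i.val + (n - ℓ)) ∨ (i.val = j.val ∧ ℓ ≤ i.val ∧ i.val < n - ℓ)) := by omega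
              rw [if_neg e3, if_neg hij, if_neg (fun h => hij h.symm), if_neg hij2, sub_zero, zero_add]
        · intro k _ hk
          have hk' : ¬ (i.val = k.val) := by
            intro h
            apply hk
            ext
            exact h.symm
          have hk2 : ¬ (i.val = k.val + (n - ℓ)) := by omega
          rw [if_neg hk', if_neg hk2, add_zero, zero_mul]
        · intro h
          exact absurd (Finset.mem_univ _) h
      · by_cases hi2 : n - ℓ ≤ i.val
        · have hk0 : i.val - (n - ℓ) < ℓ := by omega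
          rw [Finset.sum_eq_single (⟨i.val - (n - ℓ), hk0⟩ : Fin ℓ)]
          · have e0 : i.val = i.val - (n - ℓ) + (n - ℓ) := by omega
            have e1 : ¬ (i.val = i.val - (n - ℓ)) := by omega
            rw [if_pos e0, if_neg e1, add_zero, one_mul]
            by_cases hij : i.val = j.val
            · have e2 : ¬ (j.val = i.val - (n - ℓ)) := by omega
              have e4 : j.val = i.val - (n - ℓ) + (n - ℓ) := by omega
              have e3 : ¬ ((j.val < ℓ ∧ i.val = j.val + (n - ℓ)) ∨ (i.val < ℓ ∧ j.val = i.val + (n - ℓ)) ∨ (i.val = j.val ∧ ℓ ≤ i.val ∧ i.val < n - ℓ)) := by omega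
              rw [if_neg e3, if_pos hij, if_pos e4, if_neg e2, zero_add, zero_sub, CharTwo.neg_eq]
            · by_cases hij2 : j.val = i.val - (n - ℓ)
              · have e3 : ((j.val < ℓ ∧ i.val = j.val + (n - ℓ)) ∨ (i.val < ℓ ∧ j.val = i.val + (n - ℓ)) ∨ (i.val = j.val ∧ ℓ ≤ i.val ∧ i.val < n - ℓ)) := by omega
                have e4 : ¬ (j.val = i.val - (n - ℓ) + (n - ℓ)) := by omega
                rw [if_pos e3, if_neg hij, if_neg e4, if_pos hij2, sub_zero, add_zero]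
              · have e3 : ¬ ((j.val < ℓ ∧ i.val = j.val + (n - ℓ)) ∨ (i.val < ℓ ∧ j.val = i.val + (n - ℓ)) ∨ (i.val = j.val ∧ ℓ ≤ i.val ∧ i.val < n - ℓ)) := by omega
                have e4 : ¬ (j.val = i.val - (n - ℓ) + (n - ℓ)) := by omega
                rw [if_neg e3, if_neg hij, if_neg e4, if_neg hij2, sub_zero, zero_add]
          · intro k _ hk
            have hk' : ¬ (i.val = k.val + (n - ℓ)) := by
              intro h
              apply hk
              ext
              show k.val = i.val - (n - ℓ)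
              omega
            have hk2 : ¬ (i.val = k.val) := by
              have := k.isLt
              omega
            rw [if_neg hk', if_neg hk2, add_zero, zero_mul]
          · intro h
            exact absurd (Finset.mem_univ _) h
        · -- middle rows vanish
          rw [Finset.sum_eq_zero]
          · by_cases hij : i.val = j.val
            · have e3 : ((j.val < ℓ ∧ i.val = j.val + (n - ℓ)) ∨ (i.val < ℓ ∧ j.val = i.val + (n - ℓ)) ∨ (i.val = j.val ∧ ℓ ≤ i.val ∧ i.val < n - ℓ)) := by omega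
              rw [if_pos e3, if_pos hij, sub_self]
            · have e3 : ¬ ((j.val < ℓ ∧ i.val = j.val + (n - ℓ)) ∨ (i.val < ℓ ∧ j.val = i.val + (n - ℓ)) ∨ (i.val = j.val ∧ ℓ ≤ i.val ∧ i.val < n - ℓ)) := by omega
              rw [if_neg e3, if_neg hij, sub_self]
          · intro k _
            have := k.isLt
            have hk' : ¬ (i.val = k.val + (n - ℓ)) := by omega
            have hk2 : ¬ (i.val = k.val) := by omega
            rw [if_neg hk', if_neg hk2, add_zero, zero_mul]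
    rw [hAB]
    calc (A * B).rank ≤ A.rank := Matrix.rank_mul_le_left A B
      _ ≤ Fintype.card (Fin ℓ) := Matrix.rank_le_card_width A
      _ = ℓ := Fintype.card_fin ℓ
  · have hle : ∀ k : Fin ℓ, k.val + (n - ℓ) < n := fun k => by have := k.isLt; omega
    have hle' : ∀ k : Fin ℓ, k.val < n := fun k => by have := k.isLt; omega
    have hsub : (pm F n ℓ - 1).submatrix (fun k : Fin ℓ => (⟨k.val + (n - ℓ), hle k⟩ : Fin n))
        (fun k : Fin ℓ => (⟨k.val, hle' k⟩ : Fin n)) = 1 := by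
      ext a b
      simp only [pm, Matrix.submatrix_apply, Matrix.of_apply, Matrix.one_apply, Matrix.sub_apply, Fin.ext_iff]
      have := a.isLt
      have := b.isLt
      have e1 : ¬ (a.val + (n - ℓ) = b.val) := by omega
      rw [if_neg e1, sub_zero]
      by_cases hab : a.val = b.val
      · have e3 : ((b.val < ℓ ∧ a.val + (n - ℓ) = b.val + (n - ℓ)) ∨ (a.val + (n - ℓ) < ℓ ∧ b.val = a.val + (n - ℓ) + (n - ℓ)) ∨ (a.val + (n - ℓ) = b.val ∧ ℓ ≤ a.val + (n - ℓ) ∧ a.val + (n - ℓ) < n - ℓ)) := by omega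
        rw [if_pos e3, if_pos hab]
      · have e3 : ¬ ((b.val < ℓ ∧ a.val + (n - ℓ) = b.val + (n - ℓ)) ∨ (a.val + (n - ℓ) < ℓ ∧ b.val = a.val + (n - ℓ) + (n - ℓ)) ∨ (a.val + (n - ℓ) = b.val ∧ ℓ ≤ a.val + (n - ℓ) ∧ a.val + (n - ℓ) < n - ℓ)) := by omega
        rw [if_neg e3, if_neg hab]
    have := Matrix.rank_submatrix_le (pm F n ℓ - 1) (fun k : Fin ℓ => (⟨k.val + (n - ℓ), hle k⟩ : Fin n))
        (fun k : Fin ℓ => (⟨k.val, hle' k⟩ : Fin n))
    rw [hsub, Matrix.rank_one, Fintype.card_fin] at this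
    exact this

theorem result {F : Type*} [Field F] [Fintype F] [CharP F 2] {n q : ℕ} (hF : Fintype.card F = q ^ 2) (hn : 3 ≤ n) (ℓ : ℕ) (h1 : 1 ≤ ℓ) (h2 : 2 * ℓ ≤ n) :
    ∃ a : ↥(Cfsg.SU n F q), (((a : Matrix.SpecialLinearGroup (Fin n) F) : Matrix (Fin n) (Fin n) F) = Matrix.of (fun i j : Fin n => if (j.val < ℓ ∧ i.val = j.val + (n - ℓ)) ∨ (i.val < ℓ ∧ j.val = i.val + (n - ℓ)) ∨ (i = j ∧ ℓ ≤ i.val ∧ i.val < n - ℓ) then (1 : F) else 0)) ∧ orderOf a = 2 ∧ ((((a : Matrix.SpecialLinearGroup (Fin n) F) : Matrix (Fin n) (Fin n) F)) - 1).rank = ℓ := by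
  have hmem : (⟨pm F n ℓ, det_pm h2 h1⟩ : Matrix.SpecialLinearGroup (Fin n) F) ∈ Cfsg.SU n F q := by
    intro u v
    show hermForm n F q (Matrix.mulVec (pm F n ℓ) u) (Matrix.mulVec (pm F n ℓ) v) = hermForm n F q u v
    unfold hermForm
    simp only [pm_mulVec h2]
    exact Equiv.sum_comp (swP h2 h1) (fun i => u i * v i ^ q)
  refine ⟨⟨⟨pm F n ℓ, det_pm h2 h1⟩, hmem⟩, rfl, ?_, ?_⟩
  · have : Fact (Nat.Prime 2) := ⟨Nat.prime_two⟩
    apply orderOf_eq_prime
    · apply Subtype.ext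
      apply Subtype.ext
      show ((pm F n ℓ) ^ 2 : Matrix (Fin n) (Fin n) F) = 1
      rw [pow_two, pm_mul_pm h2 h1]
    · intro h
      have h0 : (pm F n ℓ : Matrix (Fin n) (Fin n) F) = 1 :=
        congrArg (fun x : ↥(Cfsg.SU n F q) => ((x : Matrix.SpecialLinearGroup (Fin n) F) : Matrix (Fin n) (Fin n) F)) h
      have h4 := rank_pm_sub_one (F := F) h2 h1
      rw [h0, sub_self, Matrix.rank_zero] at h4
      omega
  · exact rank_pm_sub_one h2 h1

end Cfsg.Agent.S2165
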