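import Cfsg.Statements.S2173
import Cfsg.Agent.Helper45.OmegaInvol
import Cfsg.Agent.Helper44.StdNondeg

set_option autoImplicit false
open Cfsg

namespace Cfsg.Agent.S2173

/-- For the quadratic form Σ x_i y_i + (z₁² + c z₁ z₂ + d z₂²) in dimension 2m with anisotropic binary part over a finite field F of characteristic two, m ≥ 4 (minus type): two involutions of the commutator subgroup Ω that are conjugate in the full isometry group O are conjugate by an element of Ω (no class of involutions of O inside Ω splits). -/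
theorem result {F : Type*} [Field F] [Fintype F] [CharP F 2] {m : ℕ} (hm : 4 ≤ m) (c d : F) (hcd : ∀ z₁ z₂ : F, z₁ ^ 2 + c * z₁ * z₂ + d * z₂ ^ 2 = 0 → z₁ = 0 ∧ z₂ = 0) (t s : ↥(Cfsg.isometryGroup F (Cfsg.quadFormMinus (m - 1) F c d))) (ht : orderOf t = 2) (hs : orderOf s = 2) (htO : t ∈ Cfsg.Omega F (Cfsg.quadFormMinus (m - 1) F c d)) (hsO : s ∈ Cfsg.Omega F (Cfsg.quadFormMinus (m - 1) F c d)) (hconj : IsConj t s) :
    ∃ g ∈ Cfsg.Omega F (Cfsg.quadFormMinus (m - 1) F c d), g * t * g⁻¹ = s := by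
  have hcard : Fintype.card ((Fin (m - 1) ⊕ Fin (m - 1)) ⊕ Fin 2) = 2 * (m - 1) + 2 := by
    rw [Fintype.card_sum, Fintype.card_sum, Fintype.card_fin, Fintype.card_fin]
    ring
  have hcard4 : Fintype.card ((Fin (m - 1) ⊕ Fin (m - 1)) ⊕ Fin 2) ≠ 4 := by
    rw [hcard]
    omega
  have ht2 : t * t = 1 := by
    have h1 := pow_orderOf_eq_one t
    rw [ht, sq] at h1
    exact h1
  obtain ⟨u, hu, htu⟩ := Cfsg.Agent.Helper45.OmegaParity.exists_nonsingular_fixed
    (Cfsg.Agent.Helper44.minusForm (m - 1) F c d) t ht2 (by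
      intro W hW
      have h1 := Cfsg.Agent.Helper45.OmegaParity.minus_ts_finrank_le (m - 1) c d hcd W hW
      rw [hcard]
      omega)
  exact Cfsg.Agent.Helper45.OmegaParity.exists_conj_mem_Omega
    (Cfsg.Agent.Helper44.minusForm (m - 1) F c d)
    (Cfsg.Agent.Helper44.nondegenerate_minusForm (m - 1) c d
      (Cfsg.Agent.Helper45.OmegaParity.disc_ne_zero_of_aniso c d hcd)) (Or.inr hcard4) t s hconj u hu htu

end Cfsg.Agent.S2173
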