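import Cfsg.Agent.Helper4.F4Inv.UConcC
import Cfsg.Agent.Helper36.F4Ev.Sylow
import Cfsg.Agent.Helper36.F4Ev.NonConj

/-!
# S2174: the four classes of involutions of `F₄(q)`, `q` even

`x₄₇(1)`, `x₄₄(1)`, `x₄₇(1) x₄₄(1)`, `x₃₉(1) x₄₅(1)` are involutions of `F₄(F)`; every involution is
conjugate to one of them (Sylow: helper36 `F4Ev.exists_conj_mem_U`; reduction inside `U`:
`Helper4.F4Inv.invol_U`, the pivot induction `umain` over the abstract relations `RelF4`), and they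
are pairwise non-conjugate (helper36 `F4Ev.nonconj`).
-/

set_option autoImplicit false
set_option maxRecDepth 100000
set_option maxHeartbeats 1000000

namespace Cfsg.Agent.S2174

open Cfsg Cfsg.Lie Cfsg.Agent.Helper18 Cfsg.Agent.Helper4.F4Inv

variable {F : Type*} [Field F] [CharP F 2]

local notation "L4" F =>
  [Cfsg.Lie.chevF4.x F 47 1, Cfsg.Lie.chevF4.x F 44 1, Cfsg.Lie.chevF4.x F 47 1 * Cfsg.Lie.chevF4.x F 44 1,
    Cfsg.Lie.chevF4.x F 39 1 * Cfsg.Lie.chevF4.x F 45 1]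

omit [CharP F 2] in
theorem xval (r : ℕ) (t : F) :
    ((xGL chevF4 F r t : GL chevF4.Idx F) : Matrix chevF4.Idx chevF4.Idx F) = chevF4.x F r t :=
  xGL_val chevF4 _ (triOK_of_mem chevF4 hF4) r t

omit [CharP F 2] in
theorem cases_of_mem (y : GL chevF4.Idx F)
    (h : ((y : GL chevF4.Idx F) : Matrix chevF4.Idx chevF4.Idx F) ∈ L4 F) :
    y = xGL chevF4 F 47 1 ∨ y = xGL chevF4 F 44 1 ∨ y = xGL chevF4 F 47 1 * xGL chevF4 F 44 1 ∨
      y = xGL chevF4 F 39 1 * xGL chevF4 F 45 1 := by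
  simp only [List.mem_cons, List.not_mem_nil, or_false] at h
  rcases h with h | h | h | h
  · left; apply Units.ext; rw [h, xval]
  · right; left; apply Units.ext; rw [h, xval]
  · right; right; left; apply Units.ext; rw [h, Units.val_mul, xval, xval]
  · right; right; right; apply Units.ext; rw [h, Units.val_mul, xval, xval]

omit [CharP F 2] in
theorem mem_list_of_cases (y : GL chevF4.Idx F)
    (h : y = xGL chevF4 F 47 1 ∨ y = xGL chevF4 F 44 1 ∨ y = xGL chevF4 F 47 1 * xGL chevF4 F 44 1 ∨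
      y = xGL chevF4 F 39 1 * xGL chevF4 F 45 1) :
    ((y : GL chevF4.Idx F) : Matrix chevF4.Idx chevF4.Idx F) ∈ L4 F := by
  simp only [List.mem_cons, List.not_mem_nil, or_false]
  rcases h with rfl | rfl | rfl | rfl
  · left; rw [xval]
  · right; left; rw [xval]
  · right; right; left; rw [Units.val_mul, xval, xval]
  · right; right; right; rw [Units.val_mul, xval, xval]

theorem xsq (r : ℕ) : xGL chevF4 F r 1 * xGL chevF4 F r 1 = 1 := by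
  rw [← xg_add, CharTwo.add_self_eq_zero, xg_zero]

theorem prod_sq {Γ : Type*} [Group Γ] (a b : Γ) (ha : a * a = 1) (hb : b * b = 1) (hab : a * b = b * a) :
    (a * b) * (a * b) = 1 := by
  calc a * b * (a * b) = a * (b * a) * b := by group
    _ = a * (a * b) * b := by rw [hab]
    _ = (a * a) * (b * b) := by group
    _ = 1 := by rw [ha, hb, one_mul]

variable [Fintype F]

theorem ne_one_44_47 (a b : F) (h : xGL chevF4 F 44 a * xGL chevF4 F 47 b = 1) : a = 0 ∧ b = 0 := by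
  have e := RNF_44_47 (f4Rel (K := F)) a b
  have h' := RNF_inj_one (K := F) 0 0 0 0 0 0 0 0 0 0 a b 0 0 0 0 0 0 0 0 0 0 0 0 (e.trans h)
  exact ⟨h'.2.2.2.2.2.2.2.2.2.2.1, h'.2.2.2.2.2.2.2.2.2.2.2.1⟩

theorem ne_one_39_45 (a b : F) (h : xGL chevF4 F 39 a * xGL chevF4 F 45 b = 1) : a = 0 ∧ b = 0 := by
  have e := RNF_39_45 (f4Rel (K := F)) a b
  have h' := RNF_inj_one (K := F) 0 0 0 0 0 0 0 0 0 0 0 0 a b 0 0 0 0 0 0 0 0 0 0 (e.trans h)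
  exact ⟨h'.2.2.2.2.2.2.2.2.2.2.2.2.1, h'.2.2.2.2.2.2.2.2.2.2.2.2.2.1⟩

theorem order_two (y : GL chevF4.Idx F)
    (h : y = xGL chevF4 F 47 1 ∨ y = xGL chevF4 F 44 1 ∨ y = xGL chevF4 F 47 1 * xGL chevF4 F 44 1 ∨
      y = xGL chevF4 F 39 1 * xGL chevF4 F 45 1) :
    y ∈ chevF4.group F ∧ orderOf y = 2 := by
  have : Fact (Nat.Prime 2) := ⟨Nat.prime_two⟩
  have hm : ∀ r, xGL chevF4 F r 1 ∈ chevF4.group F := fun r => xGL_mem_group' chevF4 hF4 r 1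
  rcases h with rfl | rfl | rfl | rfl
  · refine ⟨hm 47, orderOf_eq_prime (by rw [pow_two, xsq]) ?_⟩
    intro h1
    have := (ne_one_44_47 (F := F) 0 1 (by rw [xg_zero, one_mul, h1])).2
    exact one_ne_zero this
  · refine ⟨hm 44, orderOf_eq_prime (by rw [pow_two, xsq]) ?_⟩
    intro h1
    have := (ne_one_44_47 (F := F) 1 0 (by rw [xg_zero, mul_one, h1])).1
    exact one_ne_zero this
  · refine ⟨mul_mem (hm 47) (hm 44), orderOf_eq_prime ?_ ?_⟩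
    · rw [pow_two]
      exact prod_sq _ _ (xsq 47) (xsq 44) ((f4Rel (K := F)).c44_47 1 1)
    · intro h1
      have h2 : xGL chevF4 F 44 1 * xGL chevF4 F 47 (1 : F) = 1 := by
        rw [← h1]; exact ((f4Rel (K := F)).c44_47 1 1).symm
      exact one_ne_zero (ne_one_44_47 (F := F) 1 1 h2).1
  · refine ⟨mul_mem (hm 39) (hm 45), orderOf_eq_prime ?_ ?_⟩
    · rw [pow_two]
      exact prod_sq _ _ (xsq 39) (xsq 45) ((f4Rel (K := F)).c39_45 1 1).symm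
    · intro h1
      exact one_ne_zero (ne_one_39_45 (F := F) 1 1 h1).1

theorem result {F : Type*} [Field F] [Fintype F] [CharP F 2] :
    (∀ y : GL Cfsg.Lie.chevF4.Idx F, ((y : GL Cfsg.Lie.chevF4.Idx F) : Matrix Cfsg.Lie.chevF4.Idx Cfsg.Lie.chevF4.Idx F) ∈ [Cfsg.Lie.chevF4.x F 47 1, Cfsg.Lie.chevF4.x F 44 1, Cfsg.Lie.chevF4.x F 47 1 * Cfsg.Lie.chevF4.x F 44 1, Cfsg.Lie.chevF4.x F 39 1 * Cfsg.Lie.chevF4.x F 45 1] → y ∈ Cfsg.Lie.chevF4.group F ∧ orderOf y = 2) ∧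
    (∀ g ∈ Cfsg.Lie.chevF4.group F, orderOf g = 2 → ∃ y ∈ Cfsg.Lie.chevF4.group F, ((y : GL Cfsg.Lie.chevF4.Idx F) : Matrix Cfsg.Lie.chevF4.Idx Cfsg.Lie.chevF4.Idx F) ∈ [Cfsg.Lie.chevF4.x F 47 1, Cfsg.Lie.chevF4.x F 44 1, Cfsg.Lie.chevF4.x F 47 1 * Cfsg.Lie.chevF4.x F 44 1, Cfsg.Lie.chevF4.x F 39 1 * Cfsg.Lie.chevF4.x F 45 1] ∧ ∃ h ∈ Cfsg.Lie.chevF4.group F, h * g * h⁻¹ = y) ∧
    (∀ y₁ ∈ Cfsg.Lie.chevF4.group F, ∀ y₂ ∈ Cfsg.Lie.chevF4.group F, ((y₁ : GL Cfsg.Lie.chevF4.Idx F) : Matrix Cfsg.Lie.chevF4.Idx Cfsg.Lie.chevF4.Idx F) ∈ [Cfsg.Lie.chevF4.x F 47 1, Cfsg.Lie.chevF4.x F 44 1, Cfsg.Lie.chevF4.x F 47 1 * Cfsg.Lie.chevF4.x F 44 1, Cfsg.Lie.chevF4.x F 39 1 * Cfsg.Lie.chevF4.x F 45 1] → ((y₂ : GL Cfsg.Lie.chevF4.Idx F) : Matrix Cfsg.Lie.chevF4.Idx Cfsg.Lie.chevF4.Idx F) ∈ [Cfsg.Lie.chevF4.x F 47 1, Cfsg.Lie.chevF4.x F 44 1, Cfsg.Lie.chevF4.x F 47 1 * Cfsg.Lie.chevF4.x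 F 44 1, Cfsg.Lie.chevF4.x F 39 1 * Cfsg.Lie.chevF4.x F 45 1] →
      (∃ h ∈ Cfsg.Lie.chevF4.group F, h * y₁ * h⁻¹ = y₂) → ((y₁ : GL Cfsg.Lie.chevF4.Idx F) : Matrix Cfsg.Lie.chevF4.Idx Cfsg.Lie.chevF4.Idx F) = ((y₂ : GL Cfsg.Lie.chevF4.Idx F) : Matrix Cfsg.Lie.chevF4.Idx Cfsg.Lie.chevF4.Idx F)) := by
  refine ⟨fun y hy => order_two y (cases_of_mem y hy), ?_, Cfsg.Agent.Helper36.F4Ev.nonconj⟩
  intro g hg h2
  have : Fact (Nat.Prime 2) := ⟨Nat.prime_two⟩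
  obtain ⟨k, hk, hU⟩ := Cfsg.Agent.Helper36.F4Ev.exists_conj_mem_U g hg h2
  have h2' : orderOf (k * g * k⁻¹) = 2 := by
    refine orderOf_eq_prime ?_ ?_
    · rw [conj_pow, ← h2, pow_orderOf_eq_one]; group
    · intro h1
      have hg1 : g = 1 := by
        calc g = k⁻¹ * (k * g * k⁻¹) * k := by group
          _ = 1 := by rw [h1]; group
      rw [hg1, orderOf_one] at h2
      norm_num at h2
  have key : ∀ y : GL chevF4.Idx F, ConjIn (chevF4.group F) (k * g * k⁻¹) y →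
      (y = xGL chevF4 F 47 1 ∨ y = xGL chevF4 F 44 1 ∨ y = xGL chevF4 F 47 1 * xGL chevF4 F 44 1 ∨
        y = xGL chevF4 F 39 1 * xGL chevF4 F 45 1) →
      ∃ y ∈ Cfsg.Lie.chevF4.group F, ((y : GL Cfsg.Lie.chevF4.Idx F) : Matrix Cfsg.Lie.chevF4.Idx Cfsg.Lie.chevF4.Idx F) ∈ [Cfsg.Lie.chevF4.x F 47 1, Cfsg.Lie.chevF4.x F 44 1, Cfsg.Lie.chevF4.x F 47 1 * Cfsg.Lie.chevF4.x F 44 1, Cfsg.Lie.chevF4.x F 39 1 * Cfsg.Lie.chevF4.x F 45 1] ∧ ∃ h ∈ Cfsg.Lie.chevF4.group F, h * g * h⁻¹ = y := by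
    rintro y ⟨h, hh, hy⟩ hc
    refine ⟨y, (order_two y hc).1, mem_list_of_cases y hc, h * k, mul_mem hh hk, ?_⟩
    rw [← hy]; group
  rcases invol_U (K := F) (k * g * k⁻¹) hU h2' with h | h | h | h
  · exact key _ h (Or.inl rfl)
  · exact key _ h (Or.inr (Or.inl rfl))
  · exact key _ h (Or.inr (Or.inr (Or.inl rfl)))
  · exact key _ h (Or.inr (Or.inr (Or.inr rfl)))

end Cfsg.Agent.S2174
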