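import Cfsg.Statements.S2175
import Cfsg.Agent.Helper4.E6Inv.UConcC
import Cfsg.Agent.Helper4.E6Inv.Sylow
import Cfsg.Agent.Helper4.E6Inv.NonConj

/-!
# S2175: the three classes of involutions of `E₆(q)`, `q` even

`x₇₁(1)`, `x₆₈(1) x₆₆(1)`, `x₅₅(1) x₆₅(1) x₆₇(1)` are involutions of `E₆(F)`; every involution is
conjugate to one of them (Sylow: `Helper4.E6Inv.exists_conj_mem_U6`; reduction inside `U`:
`Helper4.E6Inv.invol_U`, the pivot induction `umain` over the abstract relations `RelE6`), and they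
are pairwise non-conjugate (`Helper4.E6Inv.nonconj6`: the ranks of `y - 1` are `≤ 22`, `= 32`, `≥ 38`).
-/

set_option autoImplicit false
set_option maxRecDepth 100000
set_option maxHeartbeats 1000000
open Cfsg

namespace Cfsg.Agent.S2175

open Cfsg.Lie Cfsg.Agent.Helper18 Cfsg.Agent.Helper4.E6Inv

variable {F : Type*} [Field F] [CharP F 2]

local notation "L6" F =>
  [Cfsg.Lie.chevE6.x F 71 1, Cfsg.Lie.chevE6.x F 68 1 * Cfsg.Lie.chevE6.x F 66 1, Cfsg.Lie.chevE6.x F 55 1 * Cfsg.Lie.chevE6.x F 65 1 * Cfsg.Lie.chevE6.x F 67 1]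

omit [CharP F 2] in
theorem xval (r : ℕ) (t : F) :
    ((xGL chevE6 F r t : GL chevE6.Idx F) : Matrix chevE6.Idx chevE6.Idx F) = chevE6.x F r t :=
  xGL_val chevE6 _ (triOK_of_mem chevE6 hE6) r t

omit [CharP F 2] in
theorem cases_of_mem (y : GL chevE6.Idx F)
    (h : ((y : GL chevE6.Idx F) : Matrix chevE6.Idx chevE6.Idx F) ∈ L6 F) :
    y = xGL chevE6 F 71 1 ∨ y = xGL chevE6 F 68 1 * xGL chevE6 F 66 1 ∨
      y = xGL chevE6 F 55 1 * xGL chevE6 F 65 1 * xGL chevE6 F 67 1 := by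
  simp only [List.mem_cons, List.not_mem_nil, or_false] at h
  rcases h with h | h | h
  · left; apply Units.ext; rw [h, xval]
  · right; left; apply Units.ext; rw [h, Units.val_mul, xval, xval]
  · right; right; apply Units.ext; rw [h, Units.val_mul, Units.val_mul, xval, xval, xval]

omit [CharP F 2] in
theorem mem_list_of_cases (y : GL chevE6.Idx F)
    (h : y = xGL chevE6 F 71 1 ∨ y = xGL chevE6 F 68 1 * xGL chevE6 F 66 1 ∨
      y = xGL chevE6 F 55 1 * xGL chevE6 F 65 1 * xGL chevE6 F 67 1) :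
    ((y : GL chevE6.Idx F) : Matrix chevE6.Idx chevE6.Idx F) ∈ L6 F := by
  simp only [List.mem_cons, List.not_mem_nil, or_false]
  rcases h with rfl | rfl | rfl
  · left; rw [xval]
  · right; left; rw [Units.val_mul, xval, xval]
  · right; right; rw [Units.val_mul, Units.val_mul, xval, xval, xval]

theorem xsq (r : ℕ) : xGL chevE6 F r 1 * xGL chevE6 F r 1 = 1 := by
  rw [← xg_add, CharTwo.add_self_eq_zero, xg_zero]

theorem prod_sq {Γ : Type*} [Group Γ] (a b : Γ) (ha : a * a = 1) (hb : b * b = 1) (hab : a * b = b * a) :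
    (a * b) * (a * b) = 1 := by
  calc a * b * (a * b) = a * (b * a) * b := by group
    _ = a * (a * b) * b := by rw [hab]
    _ = (a * a) * (b * b) := by group
    _ = 1 := by rw [ha, hb, one_mul]

theorem prod_sq3 {Γ : Type*} [Group Γ] (a b c : Γ) (ha : a * a = 1) (hb : b * b = 1) (hc : c * c = 1)
    (hab : a * b = b * a) (hac : a * c = c * a) (hbc : b * c = c * b) :
    (a * b * c) * (a * b * c) = 1 := by
  have h1 : (a * b) * (a * b) = 1 := prod_sq a b ha hb hab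
  have h2 : (a * b) * c = c * (a * b) := by
    calc a * b * c = a * (b * c) := by group
      _ = a * (c * b) := by rw [hbc]
      _ = (a * c) * b := by group
      _ = (c * a) * b := by rw [hac]
      _ = c * (a * b) := by group
  exact prod_sq (a * b) c h1 hc h2

variable [Fintype F]

theorem ne_one6 (a b c d e f : F)
    (h : xGL chevE6 F 55 a * (xGL chevE6 F 65 b * (xGL chevE6 F 67 c * (xGL chevE6 F 66 d *
      (xGL chevE6 F 68 e * xGL chevE6 F 71 f)))) = 1) :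
    a = 0 ∧ b = 0 ∧ c = 0 ∧ d = 0 ∧ e = 0 ∧ f = 0 := by
  have e' := RNF_55_65_67_66_68_71 (e6Rel (K := F)) a b c d e f
  have h' := RNF_inj_one (K := F) 0 0 0 0 0 0 0 0 0 0 0 0 0 0 0 0 0 0 0 0 0 0 0 0 0 0 0 0 a b c d e 0 0 f
    (e'.trans h)
  obtain ⟨-, -, -, -, -, -, -, -, -, -, -, -, -, -, -, -, -, -, -, -, -, -, -, -, -, -, -, -, ha, hb, hc, hd,
    he, -, -, hf⟩ := h'
  exact ⟨ha, hb, hc, hd, he, hf⟩

theorem order_two (y : GL chevE6.Idx F)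
    (h : y = xGL chevE6 F 71 1 ∨ y = xGL chevE6 F 68 1 * xGL chevE6 F 66 1 ∨
      y = xGL chevE6 F 55 1 * xGL chevE6 F 65 1 * xGL chevE6 F 67 1) :
    y ∈ chevE6.group F ∧ orderOf y = 2 := by
  have : Fact (Nat.Prime 2) := ⟨Nat.prime_two⟩
  have hm : ∀ r, xGL chevE6 F r 1 ∈ chevE6.group F := fun r => xGL_mem_group' chevE6 hE6 r 1
  rcases h with rfl | rfl | rfl
  · refine ⟨hm 71, orderOf_eq_prime (by rw [pow_two, xsq]) ?_⟩
    intro h1
    have := (ne_one6 (F := F) 0 0 0 0 0 1 (by simp only [xg_zero, one_mul, h1])).2.2.2.2.2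
    exact one_ne_zero this
  · have hc : xGL chevE6 F 68 (1 : F) * xGL chevE6 F 66 1 = xGL chevE6 F 66 1 * xGL chevE6 F 68 1 :=
      (e6Rel (K := F)).c66_68 1 1
    refine ⟨mul_mem (hm 68) (hm 66), orderOf_eq_prime ?_ ?_⟩
    · rw [pow_two]
      exact prod_sq _ _ (xsq 68) (xsq 66) hc
    · intro h1
      have h2 : xGL chevE6 F 55 (0 : F) * (xGL chevE6 F 65 0 * (xGL chevE6 F 67 0 * (xGL chevE6 F 66 1 *
          (xGL chevE6 F 68 1 * xGL chevE6 F 71 0)))) = 1 := by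
        simp only [xg_zero, one_mul, mul_one]
        rw [← hc, h1]
      exact one_ne_zero (ne_one6 (F := F) 0 0 0 1 1 0 h2).2.2.2.1
  · have h1' : xGL chevE6 F 55 (1 : F) * xGL chevE6 F 65 1 = xGL chevE6 F 65 1 * xGL chevE6 F 55 1 :=
      ((e6Rel (K := F)).c55_65 1 1).symm
    have h2' : xGL chevE6 F 55 (1 : F) * xGL chevE6 F 67 1 = xGL chevE6 F 67 1 * xGL chevE6 F 55 1 :=
      ((e6Rel (K := F)).c55_67 1 1).symm
    have h3' : xGL chevE6 F 65 (1 : F) * xGL chevE6 F 67 1 = xGL chevE6 F 67 1 * xGL chevE6 F 65 1 :=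
      ((e6Rel (K := F)).c65_67 1 1).symm
    refine ⟨mul_mem (mul_mem (hm 55) (hm 65)) (hm 67), orderOf_eq_prime ?_ ?_⟩
    · rw [pow_two]
      exact prod_sq3 _ _ _ (xsq 55) (xsq 65) (xsq 67) h1' h2' h3'
    · intro h1
      have h2 : xGL chevE6 F 55 (1 : F) * (xGL chevE6 F 65 1 * (xGL chevE6 F 67 1 * (xGL chevE6 F 66 0 *
          (xGL chevE6 F 68 0 * xGL chevE6 F 71 0)))) = 1 := by
        simp only [xg_zero, mul_one]
        rw [← mul_assoc, h1]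
      exact one_ne_zero (ne_one6 (F := F) 1 1 1 0 0 0 h2).1

theorem result {F : Type*} [Field F] [Fintype F] [CharP F 2] :
    (∀ y : GL Cfsg.Lie.chevE6.Idx F, ((y : GL Cfsg.Lie.chevE6.Idx F) : Matrix Cfsg.Lie.chevE6.Idx Cfsg.Lie.chevE6.Idx F) ∈ [Cfsg.Lie.chevE6.x F 71 1, Cfsg.Lie.chevE6.x F 68 1 * Cfsg.Lie.chevE6.x F 66 1, Cfsg.Lie.chevE6.x F 55 1 * Cfsg.Lie.chevE6.x F 65 1 * Cfsg.Lie.chevE6.x F 67 1] → y ∈ Cfsg.Lie.chevE6.group F ∧ orderOf y = 2) ∧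
    (∀ g ∈ Cfsg.Lie.chevE6.group F, orderOf g = 2 → ∃ y ∈ Cfsg.Lie.chevE6.group F, ((y : GL Cfsg.Lie.chevE6.Idx F) : Matrix Cfsg.Lie.chevE6.Idx Cfsg.Lie.chevE6.Idx F) ∈ [Cfsg.Lie.chevE6.x F 71 1, Cfsg.Lie.chevE6.x F 68 1 * Cfsg.Lie.chevE6.x F 66 1, Cfsg.Lie.chevE6.x F 55 1 * Cfsg.Lie.chevE6.x F 65 1 * Cfsg.Lie.chevE6.x F 67 1] ∧ ∃ h ∈ Cfsg.Lie.chevE6.group F, h * g * h⁻¹ = y) ∧
    (∀ y₁ ∈ Cfsg.Lie.chevE6.group F, ∀ y₂ ∈ Cfsg.Lie.chevE6.group F, ((y₁ : GL Cfsg.Lie.chevE6.Idx F) : Matrix Cfsg.Lie.chevE6.Idx Cfsg.Lie.chevE6.Idx F) ∈ [Cfsg.Lie.chevE6.x F 71 1, Cfsg.Lie.chevE6.x F 68 1 * Cfsg.Lie.chevE6.x F 66 1, Cfsg.Lie.chevE6.x F 55 1 * Cfsg.Lie.chevE6.x F 65 1 * Cfsg.Lie.chevE6.x F 67 1] → ((y₂ : GL Cfsg.Lie.chevE6.Idx F) : Matrix Cfsg.Lie.chevE6.Idx Cfsg.Lie.chevE6.Idx F) ∈ [Cfsg.Lie.chevE6.x F 71 1, Cfsg.Lie.chevE6.x F 68 1 * Cfsg.Lie.chevE6.x F 66 1, Cfsg.Lie.chevE6.x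 F 55 1 * Cfsg.Lie.chevE6.x F 65 1 * Cfsg.Lie.chevE6.x F 67 1] →
      (∃ h ∈ Cfsg.Lie.chevE6.group F, h * y₁ * h⁻¹ = y₂) → ((y₁ : GL Cfsg.Lie.chevE6.Idx F) : Matrix Cfsg.Lie.chevE6.Idx Cfsg.Lie.chevE6.Idx F) = ((y₂ : GL Cfsg.Lie.chevE6.Idx F) : Matrix Cfsg.Lie.chevE6.Idx Cfsg.Lie.chevE6.Idx F)) := by
  refine ⟨fun y hy => order_two y (cases_of_mem y hy), ?_, nonconj6⟩
  intro g hg h2
  have : Fact (Nat.Prime 2) := ⟨Nat.prime_two⟩
  obtain ⟨k, hk, hU⟩ := exists_conj_mem_U6 g hg h2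
  have h2' : orderOf (k * g * k⁻¹) = 2 := by
    refine orderOf_eq_prime ?_ ?_
    · rw [conj_pow, ← h2, pow_orderOf_eq_one]; group
    · intro h1
      have hg1 : g = 1 := by
        calc g = k⁻¹ * (k * g * k⁻¹) * k := by group
          _ = 1 := by rw [h1]; group
      rw [hg1, orderOf_one] at h2
      norm_num at h2
  have key : ∀ y : GL chevE6.Idx F, ConjIn (chevE6.group F) (k * g * k⁻¹) y →
      (y = xGL chevE6 F 71 1 ∨ y = xGL chevE6 F 68 1 * xGL chevE6 F 66 1 ∨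
        y = xGL chevE6 F 55 1 * xGL chevE6 F 65 1 * xGL chevE6 F 67 1) →
      ∃ y ∈ Cfsg.Lie.chevE6.group F, ((y : GL Cfsg.Lie.chevE6.Idx F) : Matrix Cfsg.Lie.chevE6.Idx Cfsg.Lie.chevE6.Idx F) ∈ [Cfsg.Lie.chevE6.x F 71 1, Cfsg.Lie.chevE6.x F 68 1 * Cfsg.Lie.chevE6.x F 66 1, Cfsg.Lie.chevE6.x F 55 1 * Cfsg.Lie.chevE6.x F 65 1 * Cfsg.Lie.chevE6.x F 67 1] ∧ ∃ h ∈ Cfsg.Lie.chevE6.group F, h * g * h⁻¹ = y := by
    rintro y ⟨h, hh, hy⟩ hc
    refine ⟨y, (order_two y hc).1, mem_list_of_cases y hc, h * k, mul_mem hh hk, ?_⟩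
    rw [← hy]; group
  rcases invol_U (K := F) (k * g * k⁻¹) hU h2' with h | h | h
  · exact key _ h (Or.inl rfl)
  · exact key _ h (Or.inr (Or.inl rfl))
  · exact key _ h (Or.inr (Or.inr rfl))

end Cfsg.Agent.S2175
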