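import Cfsg.Statements.S2177
import Cfsg.Agent.Helper4.G2Inv.Conc4

set_option autoImplicit false
open Cfsg

namespace Cfsg.Agent.S2177

/-- Conjugacy classes of involutions in the Chevalley group of type G₂ over a finite field F of characteristic two with at least four elements (the matrix group generated by the root elements x_r(t)). In this problem's root numbering for type G₂ (the Chevalley data module; p₁ = a short, p₂ = b long; roots indexed by coefficient vectors in increasing order) let 11 be the highest root 3a + 2b (long) and 9 the short root 2a + b; consider x_{3a+2b}(1) and x_{2a+b}(1). Then: each invertible matrix equal to one of these two products lies in the group and has order 2; every element of order 2 of the group is conjugate in the group to one of them; and no two of them are conjugate in the group (so, the two matrices being distinct, the group has exactly two conjugacy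 classes of involutions). -/
theorem result {F : Type*} [Field F] [Fintype F] [CharP F 2] (hF : 4 ≤ Fintype.card F) :
    (∀ y : GL Cfsg.Lie.chevG2.Idx F, ((y : GL Cfsg.Lie.chevG2.Idx F) : Matrix Cfsg.Lie.chevG2.Idx Cfsg.Lie.chevG2.Idx F) ∈ [Cfsg.Lie.chevG2.x F 11 1, Cfsg.Lie.chevG2.x F 9 1] → y ∈ Cfsg.Lie.chevG2.group F ∧ orderOf y = 2) ∧
    (∀ g ∈ Cfsg.Lie.chevG2.group F, orderOf g = 2 → ∃ y ∈ Cfsg.Lie.chevG2.group F, ((y : GL Cfsg.Lie.chevG2.Idx F) : Matrix Cfsg.Lie.chevG2.Idx Cfsg.Lie.chevG2.Idx F) ∈ [Cfsg.Lie.chevG2.x F 11 1, Cfsg.Lie.chevG2.x F 9 1] ∧ ∃ h ∈ Cfsg.Lie.chevG2.group F, h * g * h⁻¹ = y) ∧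
    (∀ y₁ ∈ Cfsg.Lie.chevG2.group F, ∀ y₂ ∈ Cfsg.Lie.chevG2.group F, ((y₁ : GL Cfsg.Lie.chevG2.Idx F) : Matrix Cfsg.Lie.chevG2.Idx Cfsg.Lie.chevG2.Idx F) ∈ [Cfsg.Lie.chevG2.x F 11 1, Cfsg.Lie.chevG2.x F 9 1] → ((y₂ : GL Cfsg.Lie.chevG2.Idx F) : Matrix Cfsg.Lie.chevG2.Idx Cfsg.Lie.chevG2.Idx F) ∈ [Cfsg.Lie.chevG2.x F 11 1, Cfsg.Lie.chevG2.x F 9 1] →
      (∃ h ∈ Cfsg.Lie.chevG2.group F, h * y₁ * h⁻¹ = y₂) → ((y₁ : GL Cfsg.Lie.chevG2.Idx F) : Matrix Cfsg.Lie.chevG2.Idx Cfsg.Lie.chevG2.Idx F) = ((y₂ : GL Cfsg.Lie.chevG2.Idx F) : Matrix Cfsg.Lie.chevG2.Idx Cfsg.Lie.chevG2.Idx F)) := by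
  classical
  have htri := Cfsg.Agent.Helper4.G2Inv.htri
  have hG2 := Cfsg.Agent.Helper4.G2Inv.hG2
  -- the two matrices as elements of `GL`
  have hyeq : ∀ y : GL Cfsg.Lie.chevG2.Idx F, ∀ r : ℕ,
      ((y : GL Cfsg.Lie.chevG2.Idx F) : Matrix Cfsg.Lie.chevG2.Idx Cfsg.Lie.chevG2.Idx F) = Cfsg.Lie.chevG2.x F r 1 →
      y = Cfsg.Agent.Helper18.xGL Cfsg.Lie.chevG2 F r 1 := by
    intro y r hy
    exact Units.ext (by rw [hy, Cfsg.Agent.Helper18.xGL_val Cfsg.Lie.chevG2 _ htri])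
  have hmem : ∀ r : ℕ, Cfsg.Agent.Helper18.xGL Cfsg.Lie.chevG2 F r 1 ∈ Cfsg.Lie.chevG2.group F :=
    fun r => Cfsg.Agent.Helper18.xGL_mem_group' Cfsg.Lie.chevG2 hG2 r 1
  have hord : ∀ r : ℕ, r < 12 → orderOf (Cfsg.Agent.Helper18.xGL Cfsg.Lie.chevG2 F r 1) = 2 := by
    intro r hr
    apply orderOf_eq_prime
    · rw [pow_two]; exact Cfsg.Agent.Helper4.G2Inv.xGL_sq r 1
    · intro h1
      have h2 := congrArg (fun g : GL Cfsg.Lie.chevG2.Idx F =>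
        (g : Matrix Cfsg.Lie.chevG2.Idx Cfsg.Lie.chevG2.Idx F)) h1
      simp only [Cfsg.Agent.Helper18.xGL_val Cfsg.Lie.chevG2 _ htri, Units.val_one] at h2
      exact one_ne_zero ((Cfsg.Agent.S1024.result Cfsg.Lie.chevG2 hG2 r hr (1 : F)).mp h2)
  refine ⟨?_, ?_, ?_⟩
  · intro y hy
    simp only [List.mem_cons, List.not_mem_nil, or_false] at hy
    rcases hy with hy | hy
    · rw [hyeq y 11 hy]; exact ⟨hmem 11, hord 11 (by norm_num)⟩
    · rw [hyeq y 9 hy]; exact ⟨hmem 9, hord 9 (by norm_num)⟩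
  · intro g hg hog
    have hog' : orderOf (⟨g, hg⟩ : ↥(Cfsg.Lie.chevG2.group F)) = 2 := by
      rw [← hog]
      exact (Subgroup.orderOf_mk g hg)
    rcases Cfsg.Agent.Helper4.G2Inv.invol_conj ⟨g, hg⟩ hog' with h | h
    · rw [isConj_iff] at h
      obtain ⟨c, hc⟩ := h
      refine ⟨Cfsg.Agent.Helper18.xGL Cfsg.Lie.chevG2 F 11 1, hmem 11, ?_, (c : GL Cfsg.Lie.chevG2.Idx F), c.2, ?_⟩
      · rw [Cfsg.Agent.Helper18.xGL_val Cfsg.Lie.chevG2 _ htri]; simp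
      · exact congrArg (fun y : ↥(Cfsg.Lie.chevG2.group F) => (y : GL Cfsg.Lie.chevG2.Idx F)) hc
    · rw [isConj_iff] at h
      obtain ⟨c, hc⟩ := h
      refine ⟨Cfsg.Agent.Helper18.xGL Cfsg.Lie.chevG2 F 9 1, hmem 9, ?_, (c : GL Cfsg.Lie.chevG2.Idx F), c.2, ?_⟩
      · rw [Cfsg.Agent.Helper18.xGL_val Cfsg.Lie.chevG2 _ htri]; simp
      · exact congrArg (fun y : ↥(Cfsg.Lie.chevG2.group F) => (y : GL Cfsg.Lie.chevG2.Idx F)) hc
  · intro y₁ _ y₂ _ hy₁ hy₂ hconj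
    obtain ⟨h, hh, hc⟩ := hconj
    simp only [List.mem_cons, List.not_mem_nil, or_false] at hy₁ hy₂
    rcases hy₁ with hy₁ | hy₁ <;> rcases hy₂ with hy₂ | hy₂
    · rw [hy₁, hy₂]
    · exfalso
      rw [hyeq y₁ 11 hy₁, hyeq y₂ 9 hy₂] at hc
      exact Cfsg.Agent.Helper4.G2Inv.not_conj h hh hc
    · exfalso
      rw [hyeq y₁ 9 hy₁, hyeq y₂ 11 hy₂] at hc
      apply Cfsg.Agent.Helper4.G2Inv.not_conj h⁻¹ (inv_mem hh)
      rw [← hc]
      group
    · rw [hy₁, hy₂]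

end Cfsg.Agent.S2177
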