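import Cfsg.Statements.S2178
import Cfsg.Agent.Helper36.RootCent

set_option autoImplicit false
open Cfsg

namespace Cfsg.Agent.S2178

open Cfsg.Lie Cfsg.Agent.Helper36.LongRootCent Cfsg.Agent.Helper36.RootCent

theorem centOK_F4 : centOK chevF4 3 [14, 20, 22] = true := by decide +kernel
theorem centOK2_F4 : centOK2 chevF4 44 0 [20, 22, 23] = true := by decide +kernel

theorem closure_three {F : Type*} [Field F] (D : ChevalleyDatum) (a b c : ℕ) :
    Subgroup.closure {g : GL D.Idx F | ∃ s ∈ [a, b, c], ∃ t : F,
      (g : Matrix D.Idx D.Idx F) = D.x F s t} =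
    D.rootSubgroup F a ⊔ D.rootSubgroup F b ⊔ D.rootSubgroup F c := by
  apply le_antisymm
  · rw [Subgroup.closure_le]
    rintro g ⟨s, hs, t, hg⟩
    simp only [List.mem_cons, List.not_mem_nil, or_false] at hs
    rw [SetLike.mem_coe]
    rcases hs with rfl | rfl | rfl
    · exact Subgroup.mem_sup_left (Subgroup.mem_sup_left (Subgroup.subset_closure ⟨t, hg⟩))
    · exact Subgroup.mem_sup_left (Subgroup.mem_sup_right (Subgroup.subset_closure ⟨t, hg⟩))
    · exact Subgroup.mem_sup_right (Subgroup.subset_closure ⟨t, hg⟩)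
  · refine sup_le (sup_le ?_ ?_) ?_ <;>
    · unfold ChevalleyDatum.rootSubgroup
      apply Subgroup.closure_mono
      rintro g ⟨t, hg⟩
      exact ⟨_, by simp, t, hg⟩

/-- Centralizers of the long and the short root involutions in the Chevalley group G of type F₄ over a finite field F of characteristic two (this problem's root numbering for type F₄, from the Chevalley data module: fundamental roots p₁, p₂ short, p₃, p₄ long, with indices 33, 27, 25, 24, their negatives 14, 20, 22, 23; highest root 47, highest short root 44; U the subgroup generated by the positive root subgroups). For an element t of G with matrix x_47(1): the centralizer of t in G is the subgroup generated by U and the root subgroups X_{−p₁}, X_{−p₂}, X_{−p₃} (the unipotent radical of the maximal parabolic subgroup whose Levi factor has fundamental roots p₁, p₂, p₃, together with that Levi factor's root subgroups; the Levi factor is of type C₃). For an element u of G with matrix x_44(1): the centralizer of u in G is generated by U and X_{−p₂}, X_{−p₃}, X_{−p₄}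 (the same construction for the Levi factor with fundamental roots p₂, p₃, p₄, of type B₃). -/
theorem result {F : Type*} [Field F] [Fintype F] [CharP F 2] (t u : GL Cfsg.Lie.chevF4.Idx F) (ht : (t : Matrix Cfsg.Lie.chevF4.Idx Cfsg.Lie.chevF4.Idx F) = Cfsg.Lie.chevF4.x F 47 1) (hu : (u : Matrix Cfsg.Lie.chevF4.Idx Cfsg.Lie.chevF4.Idx F) = Cfsg.Lie.chevF4.x F 44 1) :
    Cfsg.Lie.chevF4.group F ⊓ Subgroup.centralizer {t} = Cfsg.Lie.chevF4.posUnipotent F ⊔ Cfsg.Lie.chevF4.rootSubgroup F 14 ⊔ Cfsg.Lie.chevF4.rootSubgroup F 20 ⊔ Cfsg.Lie.chevF4.rootSubgroup F 22 ∧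
    Cfsg.Lie.chevF4.group F ⊓ Subgroup.centralizer {u} = Cfsg.Lie.chevF4.posUnipotent F ⊔ Cfsg.Lie.chevF4.rootSubgroup F 20 ⊔ Cfsg.Lie.chevF4.rootSubgroup F 22 ⊔ Cfsg.Lie.chevF4.rootSubgroup F 23 := by
  have hD : chevF4 ∈ [chevG2, chevB2, chevD4, chevF4, chevE6, chevE7, chevE8] := by simp
  constructor
  · have H := hyp_of_centOK (F := F) chevF4 hD 3 [14, 20, 22] centOK_F4 (by decide)
    have h := Cfsg.Agent.Helper36.RootCent.cent_eq chevF4 hD H t ht
    rw [h, closure_three, ← sup_assoc, ← sup_assoc]
  · have H := hyp_of_centOK2 (F := F) chevF4 hD 44 0 [20, 22, 23] centOK2_F4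
    have h := Cfsg.Agent.Helper36.RootCent.cent_eq chevF4 hD H u hu
    rw [h, closure_three, ← sup_assoc, ← sup_assoc]

end Cfsg.Agent.S2178
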