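import Cfsg.Statements.S2183
import Cfsg.Agent.Helper36.D4Inv.Red

set_option autoImplicit false
open Cfsg

namespace Cfsg.Agent.S2183

open Cfsg.Lie Cfsg.Agent.Helper36.D4Inv Cfsg.Agent.Helper19.Twist

/-- The twisted group ³D₄(q), q even, realised inside the Chevalley group of type D₄ over the field K with q³ elements, has exactly two conjugacy classes of elements of order 2. -/
theorem result {K : Type*} [Field K] [Fintype K] [CharP K 2] (q : ℕ) (hK : Fintype.card K = q ^ 3) :
    (ConjClasses.mk '' {g : ↥(Cfsg.Lie.twistedD4 K q) | orderOf g = 2}).ncard = 2 := by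
  have hq := isPrimePow_q hK
  obtain ⟨f, hf⟩ := exists_frob hq hK
  have hf3 := f_cube f hf hK
  -- the two representatives
  have hL : (zL : GL chevD4.Idx K) ∈ twistedD4 K q := by
    have := NF_mem f hf hq hK 0 0 0 0 1 (map_zero f) (map_zero f) (map_one f)
    rwa [Qt_23] at this
  have hS : (zS : GL chevD4.Idx K) ∈ twistedD4 K q := by
    have := NF_mem f hf hq hK 0 1 0 0 0 (map_zero f) (map_zero f) (map_zero f)
    rwa [Qt_19, map_one, map_one] at this
  have hL2 : (zL : GL chevD4.Idx K) * zL = 1 := Cfsg.Agent.Helper36.D4Rel.sq_23 1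
  have hS2 : (zS : GL chevD4.Idx K) * zS = 1 := by
    have := Qt_mul_self f hf3 0 1 0 0 0
    rw [Qt_19, map_one, map_one, map_zero, mul_zero, mul_zero, tr_zero, add_zero,
      Cfsg.Agent.Helper36.D4Rel.zero_23] at this
    exact this
  have hL1 : (zL : GL chevD4.Idx K) ≠ 1 := fun h => one_ne_zero (x23_eq_one 1 h)
  have hS1 : (zS : GL chevD4.Idx K) ≠ 1 := by
    intro h
    have h' : Qt f 0 1 0 0 0 = 1 := by
      rw [Qt_19, map_one, map_one]
      exact h
    unfold Qt at h'
    exact one_ne_zero (NF_one _ _ _ _ _ _ _ _ _ h').2.1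
  have hord : ∀ g : ↥(twistedD4 K q), g * g = 1 → g ≠ 1 → orderOf g = 2 := by
    intro g h2 h1
    exact orderOf_eq_prime (by rw [pow_two]; exact h2) h1
  set gL : ↥(twistedD4 K q) := ⟨zL, hL⟩ with hgL
  set gS : ↥(twistedD4 K q) := ⟨zS, hS⟩ with hgS
  have hset : ConjClasses.mk '' {g : ↥(twistedD4 K q) | orderOf g = 2} =
      {ConjClasses.mk gL, ConjClasses.mk gS} := by
    ext C
    constructor
    · rintro ⟨g, hg, rfl⟩
      have hg2 : orderOf g = 2 := hg
      have h2 : g * g = 1 := by
        rw [← pow_two, ← hg2]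
        exact pow_orderOf_eq_one g
      have h1 : g ≠ 1 := by
        intro h
        rw [h, orderOf_one] at hg2
        omega
      have h2' : (g : GL chevD4.Idx K) * g = 1 := by
        have := congrArg Subtype.val h2
        simpa using this
      have h1' : (g : GL chevD4.Idx K) ≠ 1 := by
        intro h
        apply h1
        exact Subtype.ext h
      rcases good_G f hf hq hK g g.2 h1' h2' with ⟨k, hk, e⟩ | ⟨k, hk, e⟩
      · left
        rw [ConjClasses.mk_eq_mk_iff_isConj, isConj_iff]
        exact ⟨⟨k, hk⟩, Subtype.ext e⟩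
      · right
        rw [Set.mem_singleton_iff, ConjClasses.mk_eq_mk_iff_isConj, isConj_iff]
        exact ⟨⟨k, hk⟩, Subtype.ext e⟩
    · intro hC
      rcases hC with rfl | hC
      · exact ⟨gL, hord gL (Subtype.ext hL2) (fun h => hL1 (congrArg Subtype.val h)), rfl⟩
      · rw [Set.mem_singleton_iff] at hC
        subst hC
        exact ⟨gS, hord gS (Subtype.ext hS2) (fun h => hS1 (congrArg Subtype.val h)), rfl⟩
  rw [hset]
  apply Set.ncard_pair
  intro h
  rw [ConjClasses.mk_eq_mk_iff_isConj, isConj_iff] at h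
  obtain ⟨c, hc⟩ := h
  apply not_conj (K := K)
  refine ⟨c, ?_⟩
  have := congrArg Subtype.val hc
  simp only [Subgroup.coe_mul, Subgroup.coe_inv] at this
  exact this

end Cfsg.Agent.S2183
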