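import Cfsg.Statements.S2185
import Cfsg.Agent.Helper27.F4Inv

set_option autoImplicit false
open Cfsg

namespace Cfsg.Agent.S2185

/-- In the group ²F₄(2) (realised inside the Chevalley group of type F₄ over the field with two elements, θ the identity) every element of order 2 lies in the commutator subgroup (the Tits group, of index 2): there are no involutions outside it. -/
theorem result (g : ↥(Cfsg.Lie.twistedF4 (ZMod 2) 1)) (hg : orderOf g = 2) :
    g ∈ commutator ↥(Cfsg.Lie.twistedF4 (ZMod 2) 1) := by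
  have h2 : g * g = 1 := by
    have h := pow_orderOf_eq_one g
    rw [hg, pow_two] at h
    exact h
  have h1 : g ≠ 1 := by
    intro e
    rw [e, orderOf_one] at hg
    norm_num at hg
  obtain ⟨w, hw, x, hx, y, hy, e⟩ := Cfsg.Agent.Helper27.BitMat.invol_G g.1 g.2
    (by have := congrArg Subtype.val h2; simpa using this)
    (fun e => h1 (Subtype.ext e))
  let W : ↥(Cfsg.Lie.twistedF4 (ZMod 2) 1) := ⟨w, hw⟩
  let X : ↥(Cfsg.Lie.twistedF4 (ZMod 2) 1) := ⟨x, hx⟩
  let Y : ↥(Cfsg.Lie.twistedF4 (ZMod 2) 1) := ⟨y, hy⟩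
  have e' : g = W * (X * Y * X⁻¹ * Y⁻¹) * W⁻¹ := by
    apply Subtype.ext
    rw [e]
    rfl
  rw [e']
  have hc : X * Y * X⁻¹ * Y⁻¹ ∈ commutator ↥(Cfsg.Lie.twistedF4 (ZMod 2) 1) := by
    rw [commutator_def]
    exact Subgroup.commutator_mem_commutator (Subgroup.mem_top X) (Subgroup.mem_top Y)
  exact Subgroup.Normal.conj_mem inferInstance _ hc _

end Cfsg.Agent.S2185
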