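import Cfsg.Statements.S2214
import Cfsg.Agent.Helper18.Sub.Fix

set_option autoImplicit false
open Cfsg

namespace Cfsg.Agent.S2214

/-- Let k be an algebraically closed field of prime characteristic p, G the adjoint Chevalley group of type G₂, B₂, D₄, F₄, E₆, E₇ or E₈ over k (the matrix group generated by the root elements x_s(t), t ∈ k, acting on the Lie algebra), q = p^a with a ≥ 1, and K a subgroup of G containing every root element x_s(t) with t^q = t and consisting of matrices all of whose entries c satisfy c^q = c. Then the centralizer of K in G is trivial, and the normalizer of K in G is exactly the set of elements of G all of whose entries c satisfy c^q = c. -/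
theorem result {k : Type*} [Field k] [IsAlgClosed k] (p : ℕ) [Fact p.Prime] [CharP k p] (D : Cfsg.Lie.ChevalleyDatum) (hD : D ∈ [Cfsg.Lie.chevG2, Cfsg.Lie.chevB2, Cfsg.Lie.chevD4, Cfsg.Lie.chevF4, Cfsg.Lie.chevE6, Cfsg.Lie.chevE7, Cfsg.Lie.chevE8]) (a : ℕ) (ha : 1 ≤ a) (K : Subgroup (GL D.Idx k)) (hKG : K ≤ D.group k)
    (hLK : Subgroup.closure {g : GL D.Idx k | ∃ (s : ℕ) (t : k), t ^ (p ^ a) = t ∧ (g : Matrix D.Idx D.Idx k) = D.x k s t} ≤ K)
    (hKfix : ∀ g ∈ K, ∀ i j : D.Idx, ((g : Matrix D.Idx D.Idx k) i j) ^ (p ^ a) = (g : Matrix D.Idx D.Idx k) i j) :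
    D.group k ⊓ Subgroup.centralizer (K : Set (GL D.Idx k)) = ⊥ ∧
    ∀ g : GL D.Idx k, g ∈ D.group k → (g ∈ Subgroup.normalizer (K : Set (GL D.Idx k)) ↔ ∀ i j : D.Idx, ((g : Matrix D.Idx D.Idx k) i j) ^ (p ^ a) = (g : Matrix D.Idx D.Idx k) i j) := by
  classical
  have htri := Cfsg.Agent.Helper18.triOK_of_mem D hD
  -- the Frobenius automorphism `x ↦ x ^ (p ^ a)`
  set f : k ≃+* k := iterateFrobeniusEquiv k p a with hf
  have hfx : ∀ x : k, f x = x ^ (p ^ a) := fun x => by
    rw [hf, coe_iterateFrobeniusEquiv, iterateFrobenius_def]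
  have hfixiff : ∀ g : GL D.Idx k, Cfsg.Agent.S1080.glEquiv D f g = g ↔
      ∀ i j : D.Idx, ((g : Matrix D.Idx D.Idx k) i j) ^ (p ^ a) = (g : Matrix D.Idx D.Idx k) i j := by
    intro g
    rw [Cfsg.Agent.Helper18.Sub.glEquiv_eq_self_iff]
    simp only [hfx]
  have hLf : Cfsg.Agent.Helper18.Sub.Lf D f ≤ K := by
    refine le_trans (Subgroup.closure_mono ?_) hLK
    rintro g ⟨r, t, ht, hg⟩
    exact ⟨r, t, by rw [← hfx]; exact ht, hg⟩
  have hKfix' : ∀ y ∈ K, Cfsg.Agent.S1080.glEquiv D f y = y := fun y hy => (hfixiff y).mpr (hKfix y hy)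
  have hL1 : Cfsg.Agent.Helper18.Sub.L1 D k ≤ K :=
    le_trans (Cfsg.Agent.Helper18.Sub.L1_le_Lf D hD f) hLf
  -- the centraliser is trivial
  have hcent : ∀ z : GL D.Idx k, z ∈ D.group k → (∀ y ∈ K, z * y = y * z) → z = 1 := by
    intro z hz hc
    apply Cfsg.Agent.Helper18.Sub.eq_one_of_centralizes D hD z hz
    intro r hr
    exact hc _ (hL1 (Subgroup.subset_closure ⟨r, hr, rfl⟩))
  refine ⟨?_, ?_⟩
  · rw [eq_bot_iff]
    intro z hz
    rw [Subgroup.mem_inf] at hz
    rw [Subgroup.mem_bot]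
    apply hcent z hz.1
    intro y hy
    exact (Subgroup.mem_centralizer_iff.mp hz.2 y hy).symm
  · intro g hg
    rw [← hfixiff g]
    constructor
    · intro hgN
      -- `g⁻¹ σ(g)` centralises `K`
      set σ := Cfsg.Agent.S1080.glEquiv D f with hσ
      have hσG : σ g ∈ D.group k := by
        have := Cfsg.Agent.S1080.map_group D f
        rw [← this]
        exact ⟨g, hg, rfl⟩
      have hz : g⁻¹ * σ g = 1 := by
        apply hcent _ (mul_mem (inv_mem hg) hσG)
        intro y hy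
        have h1 : g * y * g⁻¹ ∈ K := (Subgroup.mem_normalizer_iff.mp hgN y).mp hy
        have h2 := hKfix' _ h1
        rw [map_mul, map_mul, map_inv, hKfix' y hy] at h2
        -- σ g * y * (σ g)⁻¹ = g * y * g⁻¹
        calc g⁻¹ * σ g * y = g⁻¹ * (σ g * y * (σ g)⁻¹) * σ g := by group
          _ = g⁻¹ * (g * y * g⁻¹) * σ g := by rw [h2]
          _ = y * (g⁻¹ * σ g) := by group
      exact (inv_mul_eq_one.mp hz).symm
    · intro hfix
      rw [Subgroup.mem_normalizer_iff]
      intro y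
      constructor
      · intro hy
        exact Cfsg.Agent.Helper18.Sub.fix_normalizes D hD f K hLf hKG hKfix' g hg hfix y hy
      · intro hy
        have hg' : g⁻¹ ∈ D.group k := inv_mem hg
        have hfix' : Cfsg.Agent.S1080.glEquiv D f g⁻¹ = g⁻¹ := by rw [map_inv, hfix]
        have := Cfsg.Agent.Helper18.Sub.fix_normalizes D hD f K hLf hKG hKfix' g⁻¹ hg' hfix' _ hy
        have e : g⁻¹ * (g * y * g⁻¹) * g⁻¹⁻¹ = y := by group
        rwa [e] at this

end Cfsg.Agent.S2214
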