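import Cfsg.Statements.S2232
import Cfsg.Agent.Helper37.QdStruct
import Cfsg.Agent.Helper37.InvolvesQuotient

set_option autoImplicit false
open Cfsg

namespace Cfsg.Agent.S2232

open Cfsg.Agent.Helper37

/-- the Hermitian form of the Prelude is `hf` for the iterated Frobenius. -/
theorem hermForm_eq_hf {p : ℕ} [Fact p.Prime] {K : Type*} [Field K] [CharP K p] (n : ℕ)
    (u v : Fin 3 → K) : Cfsg.hermForm 3 K (p ^ n) u v = hf (iterateFrobenius K p n) u v := by
  unfold Cfsg.hermForm hf dotProduct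
  apply Finset.sum_congr rfl
  intro i _
  simp [iterateFrobenius_def]

/-- Sylow `p`-subgroups of `SU₃(pⁿ)` are TI, `p` odd. -/
theorem PJoin_SU3 {p : ℕ} [Fact p.Prime] (hp : p ≠ 2) {K : Type*} [Field K] [Fintype K] [CharP K p]
    (n : ℕ) (hK : Fintype.card K = (p ^ n) ^ 2) : PJoin p ↥(Cfsg.SU 3 K (p ^ n)) := by
  have hφ : ∀ x : K, iterateFrobenius K p n (iterateFrobenius K p n x) = x := by
    intro x
    rw [iterateFrobenius_def, iterateFrobenius_def, ← pow_mul, ← pow_two, ← hK, FiniteField.pow_card]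
  let ρ : ↥(Cfsg.SU 3 K (p ^ n)) →* Matrix (Fin 3) (Fin 3) K :=
    (Cfsg.slToMat 3 K).comp (Cfsg.SU 3 K (p ^ n)).subtype
  have hρ : ∀ g : ↥(Cfsg.SU 3 K (p ^ n)), ρ g = g.1.1 := fun g => rfl
  apply PJoin_of_unitary_rep (iterateFrobenius K p n) hφ ρ hp
  · intro a b h
    rw [hρ, hρ] at h
    exact Subtype.ext (Subtype.ext h)
  · intro g u v
    rw [← hermForm_eq_hf, ← hermForm_eq_hf]
    exact g.2 u v
  · intro g
    rw [hρ]
    exact g.1.2

/-- Let p be an odd prime, q a power of p and K a finite field with q² elements. Then Qd(p) (the natural semidirect product of an elementary abelian group of order p² by SL₂(p)) is not involved in the projective special unitary group PSU₃(q) realised over K. -/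
theorem result {p : ℕ} [Fact p.Prime] (hp : p ≠ 2) {K : Type*} [Field K] [Fintype K] [CharP K p] (n : ℕ) (hn : 1 ≤ n) (hK : Fintype.card K = (p ^ n) ^ 2) : ¬ Cfsg.Involves ↥(Cfsg.qd p) (Cfsg.PSU 3 K (p ^ n)) := by
  classical
  intro hinv
  have h1 : Cfsg.Involves ↥(Cfsg.qd p) ↥(Cfsg.SU 3 K (p ^ n)) :=
    involves_of_involves_quotient _ hinv
  have h2 : PClosed p ↥(Cfsg.qd p) :=
    PClosed.of_involves_of_PJoin (PJoin_SU3 hp n hK) h1 (qdV p) (qdV_normal p) (qdV_isPGroup p hp)
      (qdV_ne_bot p)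
  exact not_PClosed_qd p hp h2

end Cfsg.Agent.S2232
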