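import Cfsg.Statements.S2238
import Cfsg.Agent.Helper6.Tor13

set_option autoImplicit false
open Cfsg

namespace Cfsg.Agent.S2238

/-- The partition of the Suzuki group: with q = 2^(2m+1), m ≥ 1, r = 2^m and the Suzuki group realised as the stabiliser in SL₄ of the Suzuki–Tits ovoid, every non-identity element lies in exactly one subgroup that is either a Sylow 2-subgroup or a cyclic subgroup of order q − 1, q + 2r + 1 or q − 2r + 1. -/
theorem result {F : Type*} [Field F] [Fintype F] {m : ℕ} (hm : 1 ≤ m) (hF : Fintype.card F = 2 ^ (2 * m + 1)) (g : ↥(Cfsg.Sz F m)) (hg : g ≠ 1) :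
    ∃! U : Subgroup ↥(Cfsg.Sz F m), ((∃ P : Sylow 2 ↥(Cfsg.Sz F m), U = (P : Subgroup ↥(Cfsg.Sz F m))) ∨
      (IsCyclic ↥U ∧ Nat.card ↥U ∈ ({2 ^ (2 * m + 1) - 1, 2 ^ (2 * m + 1) + 2 ^ (m + 1) + 1, 2 ^ (2 * m + 1) - 2 ^ (m + 1) + 1} : Set ℕ))) ∧ g ∈ U := by
  have hfin : Finite (Cfsg.Sz F m) := inferInstance
  have hFq : Fintype.card F - 1 = 2 ^ (2 * m + 1) - 1 := by rw [hF]
  obtain ⟨hd1, hd2, hcop, h5, h5'⟩ := Cfsg.Agent.Helper6.sz_tori_numbers hm hF
  have hodd : ∀ n, n ∣ (Fintype.card F) ^ 2 + 1 → ¬ 2 ∣ n := by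
    intro n hn h2
    exact (Cfsg.Agent.Helper6.prime_dvd_sq_add_one hF Nat.prime_two (dvd_trans h2 hn)).1 rfl
  by_cases hQ : Cfsg.Agent.Helper6.ConjInto (Cfsg.Agent.Helper6.szQ hm hF) g
  · -- a 2-element
    obtain ⟨-, P, hP⟩ := (Cfsg.Agent.Helper6.conjInto_szQ_iff hm hF g).1 hQ
    refine ⟨P, ⟨Or.inl ⟨P, rfl⟩, hP⟩, ?_⟩
    rintro U' ⟨hU' | ⟨hcyc, hcard⟩, hgU'⟩
    · obtain ⟨P', rfl⟩ := hU'
      rw [Cfsg.Agent.Helper6.sylow_two_eq_of_mem hm hF P P' hg hP hgU']
    · exfalso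
      have hoddU : ¬ 2 ∣ Nat.card U' := by
        simp only [Set.mem_insert_iff, Set.mem_singleton_iff] at hcard
        rcases hcard with h | h | h
        · rw [h, ← hFq]; exact Cfsg.Agent.Helper6.card_F_sub_one_odd hF
        · rw [h]; exact hodd _ hd1
        · rw [h]; exact hodd _ hd2
      exact Cfsg.Agent.Helper6.not_conjInto_szQ_of_odd hm hF U' hoddU hgU' hQ
  · by_cases hK : Cfsg.Agent.Helper6.ConjInto (Cfsg.Agent.Helper6.szK hF) g
    · -- an element of a torus of order q - 1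
      obtain ⟨-, k, hk⟩ := hK
      refine ⟨Cfsg.Agent.Helper6.conjSub k⁻¹ (Cfsg.Agent.Helper6.szK hF),
        ⟨Or.inr ⟨?_, ?_⟩, ?_⟩, ?_⟩
      · haveI := Cfsg.Agent.Helper6.isCyclic_szK hF
        exact Cfsg.Agent.Helper6.isCyclic_conjSub _ _
      · rw [Cfsg.Agent.Helper6.card_conjSub, Cfsg.Agent.Helper6.card_szK, hFq]
        simp
      · rw [Cfsg.Agent.Helper6.mem_conjSub_iff, inv_inv]
        exact hk
      · rintro U' ⟨hU' | ⟨hcyc, hcard⟩, hgU'⟩
        · exfalso
          obtain ⟨P', rfl⟩ := hU'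
          exact hQ ((Cfsg.Agent.Helper6.conjInto_szQ_iff hm hF g).2 ⟨hg, P', hgU'⟩)
        · simp only [Set.mem_insert_iff, Set.mem_singleton_iff] at hcard
          rcases hcard with h | h | h
          · exact Cfsg.Agent.Helper6.torus_unique hm hF U' (by rw [h, hFq]) hg hgU' hk
          · exfalso
            exact Cfsg.Agent.Helper6.not_conjInto_szK_of_card hF U' (by rw [h]; exact hd1) hgU'
              ⟨hg, k, hk⟩
          · exfalso
            exact Cfsg.Agent.Helper6.not_conjInto_szK_of_card hF U' (by rw [h]; exact hd2) hgU'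
              ⟨hg, k, hk⟩
    · -- an element without fixed points
      have hfpf : Cfsg.Agent.Helper6.IsFpf hm hF g := ⟨hg, hQ, hK⟩
      obtain ⟨hcyc, hcard⟩ := Cfsg.Agent.Helper6.isFpf_cent hm hF hfpf
      refine ⟨Subgroup.centralizer {g},
        ⟨Or.inr ⟨hcyc, ?_⟩, Subgroup.mem_centralizer_singleton_iff.2 rfl⟩, ?_⟩
      · simp only [Set.mem_insert_iff, Set.mem_singleton_iff]
        rcases hcard with h | h
        · right; left; exact h
        · right; right; exact h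
      · rintro U' ⟨hU' | ⟨hcyc', hcard'⟩, hgU'⟩
        · exfalso
          obtain ⟨P', rfl⟩ := hU'
          exact hQ ((Cfsg.Agent.Helper6.conjInto_szQ_iff hm hF g).2 ⟨hg, P', hgU'⟩)
        · simp only [Set.mem_insert_iff, Set.mem_singleton_iff] at hcard'
          rcases hcard' with h | h | h
          · exfalso
            exact Cfsg.Agent.Helper6.not_isFpf_of_card hm hF U' (by rw [h, hFq]) hgU' hfpf
          · exact Cfsg.Agent.Helper6.fpf_unique hm hF U' (Or.inl h) hfpf hgU'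
          · exact Cfsg.Agent.Helper6.fpf_unique hm hF U' (Or.inr h) hfpf hgU'

end Cfsg.Agent.S2238
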