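-- S2255: nilpotent subgroups of Alt(n), n % 4 ≠ 3, n ∉ {5,6,9}, have order at most that of a Sylow 2-subgroup (helper42).
import Cfsg.Statements.S2255
import Cfsg.Agent.Helper42.NilpotentAlt

set_option autoImplicit false
open Cfsg

namespace Cfsg.Agent.S2255

open Cfsg.Agent.Helper42 in
/-- Let n be a natural number not congruent to 3 modulo 4, with n ∉ {5, 6, 9}. Then every nilpotent subgroup of the alternating group on n letters has order at most the order of a Sylow 2-subgroup of the alternating group (so the nilpotent subgroups of largest order are exactly the Sylow 2-subgroups). -/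
theorem result  (n : ℕ) (hn : n % 4 ≠ 3)
    (h5 : n ≠ 5) (h6 : n ≠ 6) (h9 : n ≠ 9)
    (N : Subgroup (alternatingGroup (Fin n))) (hN : Group.IsNilpotent N)
    (P : Sylow 2 (alternatingGroup (Fin n))) :
    Nat.card N ≤ Nat.card P := by
  by_cases h2 : 2 ≤ n
  · rw [card_sylow_two_alternating n h2 P, ← nilA_eq_of_mod_ne n h2 hn h5 h6 h9]
    exact card_le_nilA_alternating n N hN
  · have h1 := card_le_nilA_alternating n N hN
    have h3 : nilA n = 1 := by
      have : n < 2 := by omega
      interval_cases n <;> rfl
    rw [h3] at h1
    exact h1.trans Nat.card_pos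

end Cfsg.Agent.S2255
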