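-- S2256: largest nilpotent subgroups of Alt(n), n ≡ 3 (mod 4), n ≥ 7: bound, existence, conjugacy (helper42).
import Cfsg.Statements.S2256
import Cfsg.Agent.Helper42.NilpotentAlt3

set_option autoImplicit false
open Cfsg

namespace Cfsg.Agent.S2256

open Cfsg.Agent.Helper42 in
/-- Let n ≡ 3 (mod 4) with n ≥ 7. Then every nilpotent subgroup of the alternating group on n letters has order at most 3 times the order of a Sylow 2-subgroup of the alternating group on n − 3 letters; the bound is attained by a nilpotent subgroup isomorphic to the direct product of such a Sylow 2-subgroup with a cyclic group of order 3; and any two nilpotent subgroups of the alternating group attaining the bound are conjugate in it. -/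
theorem result  (n : ℕ) (hn : n % 4 = 3) (h7 : 7 ≤ n)
    (P : Sylow 2 (alternatingGroup (Fin (n - 3)))) :
    (∀ N : Subgroup (alternatingGroup (Fin n)), Group.IsNilpotent N → Nat.card N ≤ 3 * Nat.card P) ∧
    (∃ M : Subgroup (alternatingGroup (Fin n)), Group.IsNilpotent M ∧ Nat.card M = 3 * Nat.card P ∧
      Nonempty (M ≃* (↥(P : Subgroup (alternatingGroup (Fin (n - 3)))) × Multiplicative (ZMod 3)))) ∧
    (∀ N₁ N₂ : Subgroup (alternatingGroup (Fin n)), Group.IsNilpotent N₁ → Group.IsNilpotent N₂ →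
      Nat.card N₁ = 3 * Nat.card P → Nat.card N₂ = 3 * Nat.card P →
      ∃ g : alternatingGroup (Fin n), N₂ = N₁.map (MulAut.conj g).toMonoidHom) := by
  have hP : Nat.card P = 2 ^ (v2f (n - 3) - 1) :=
    card_sylow_two_alternating (n - 3) (by omega) P
  obtain ⟨e, he⟩ : ∃ e, e + 1 = v2f (n - 3) :=
    ⟨v2f (n - 3) - 1, by have := one_le_v2f (n - 3) (by omega); omega⟩
  have hP' : Nat.card P = 2 ^ e := by
    rw [hP, ← he, Nat.add_sub_cancel]
  refine ⟨?_, exists_max_alt (by omega) P, ?_⟩
  · intro N hN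
    have h1 := card_le_nilA_alternating n N hN
    rw [nilA_eq_of_mod_eq n hn h7] at h1
    rw [hP]; exact h1
  · intro N₁ N₂ hN₁ hN₂ h1 h2
    rw [hP'] at h1 h2
    have hinj : Function.Injective (alternatingGroup (Fin n)).subtype :=
      (alternatingGroup (Fin n)).subtype_injective
    have hN₁' : Group.IsNilpotent (N₁.map (alternatingGroup (Fin n)).subtype) :=
      Group.nilpotent_of_mulEquiv (N₁.equivMapOfInjective _ hinj)
    have hN₂' : Group.IsNilpotent (N₂.map (alternatingGroup (Fin n)).subtype) :=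
      Group.nilpotent_of_mulEquiv (N₂.equivMapOfInjective _ hinj)
    have hc₁' : Nat.card (N₁.map (alternatingGroup (Fin n)).subtype) = 3 * 2 ^ e := by
      rw [Subgroup.card_map_of_injective hinj, h1]
    have hc₂' : Nat.card (N₂.map (alternatingGroup (Fin n)).subtype) = 3 * 2 ^ e := by
      rw [Subgroup.card_map_of_injective hinj, h2]
    obtain ⟨c₁, T₁, hc₁, hT₁, hd₁, hTN₁, hN₁eq⟩ :=
      structure_of_max' hn (by omega) _ hN₁' hc₁'
    obtain ⟨c₂, T₂, hc₂, hT₂, hd₂, hTN₂, hN₂eq⟩ :=
      structure_of_max' hn (by omega) _ hN₂' hc₂'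
    have hA₁ : T₁ ≤ alternatingGroup (Fin n) := hTN₁.trans (Subgroup.map_subtype_le _)
    have hA₂ : T₂ ≤ alternatingGroup (Fin n) := hTN₂.trans (Subgroup.map_subtype_le _)
    obtain ⟨g, hgA, hg⟩ := conj_of_structure_alt h7 he c₁ c₂ T₁ T₂ hc₁ hc₂ hT₁ hT₂ hd₁ hd₂ hA₁ hA₂
    refine ⟨⟨g, hgA⟩, ?_⟩
    apply Subgroup.map_injective hinj
    rw [Subgroup.map_map]
    have hcomp : (alternatingGroup (Fin n)).subtype.comp
        (MulAut.conj (⟨g, hgA⟩ : alternatingGroup (Fin n))).toMonoidHom =
        ((MulAut.conj g).toMonoidHom).comp (alternatingGroup (Fin n)).subtype := by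
      ext1 x
      simp [MulAut.conj_apply]
    rw [hcomp, ← Subgroup.map_map, hN₁eq, hN₂eq]
    exact hg

end Cfsg.Agent.S2256
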