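import Cfsg.Statements.S2257
import Cfsg.Agent.Helper41.SolMain

set_option autoImplicit false
open Cfsg

namespace Cfsg.Agent.S2257

/-- Let G = PSL_2(F) with F a field of order q = 2^p, p prime, and for x ∈ G call the solubilizer of x the set of y ∈ G such that x and y generate a solvable subgroup. Then the solubilizer of an involution has 3q(q − 1) elements; that of a non-identity element of order dividing q − 1 has 2q(q − 1) elements; and that of a non-identity element of order dividing q + 1 has 2(q + 1) elements. -/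
theorem result (p : ℕ) (hp : p.Prime) {F : Type*} [Field F] [Fintype F]
    (hF : Fintype.card F = 2 ^ p) (x : Matrix.ProjectiveSpecialLinearGroup (Fin 2) F) :
    (orderOf x = 2 → Nat.card {y : Matrix.ProjectiveSpecialLinearGroup (Fin 2) F // Group.IsSolvable ↥(Subgroup.closure ({x, y} : Set (Matrix.ProjectiveSpecialLinearGroup (Fin 2) F)))} = 3 * 2 ^ p * (2 ^ p - 1)) ∧
    (x ≠ 1 → orderOf x ∣ 2 ^ p - 1 → Nat.card {y : Matrix.ProjectiveSpecialLinearGroup (Fin 2) F // Group.IsSolvable ↥(Subgroup.closure ({x, y} : Set (Matrix.ProjectiveSpecialLinearGroup (Fin 2) F)))} = 2 * 2 ^ p * (2 ^ p - 1)) ∧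
    (x ≠ 1 → orderOf x ∣ 2 ^ p + 1 → Nat.card {y : Matrix.ProjectiveSpecialLinearGroup (Fin 2) F // Group.IsSolvable ↥(Subgroup.closure ({x, y} : Set (Matrix.ProjectiveSpecialLinearGroup (Fin 2) F)))} = 2 * (2 ^ p + 1)) := by
  classical
  have heven : Even (Fintype.card F) := by
    rw [hF]; exact (Nat.even_pow.2 ⟨even_two, hp.ne_zero⟩)
  haveI := Cfsg.Agent.Helper41.Sol.charP_two_of_even heven
  have h2 : (2 : F) = 0 := Cfsg.Agent.Helper41.DkR.two_eq_zero_F
  set e := Cfsg.Agent.Helper41.Sol.slEquiv h2 with he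
  obtain ⟨X, rfl⟩ := e.surjective x
  have hcard := Cfsg.Agent.Helper41.Sol.card_sol_congr e X
  rw [← hcard, ← hF]
  have hord : orderOf (e X) = orderOf X := MulEquiv.orderOf_eq e X
  have hne : e X ≠ 1 → X ≠ 1 := by
    intro h h1
    apply h
    rw [h1, map_one]
  refine ⟨?_, ?_, ?_⟩
  · intro h
    rw [hord] at h
    have hX1 : X ≠ 1 := by
      intro h1
      rw [h1, orderOf_one] at h
      omega
    have hX2 : X * X = 1 := by
      have h3 := pow_orderOf_eq_one X
      rw [h, pow_two] at h3
      exact h3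
    exact Cfsg.Agent.Helper41.Sol.card_sol_involution p hp hF X hX1 hX2
  · intro h1 h
    rw [hord] at h
    exact Cfsg.Agent.Helper41.Sol.card_sol_split p hp hF X (hne h1)
      (orderOf_dvd_iff_pow_eq_one.1 h)
  · intro h1 h
    rw [hord] at h
    exact Cfsg.Agent.Helper41.Sol.card_sol_nonsplit p hp hF X (hne h1)
      (orderOf_dvd_iff_pow_eq_one.1 h)

end Cfsg.Agent.S2257
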