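import Cfsg.Statements.S2258
import Cfsg.Agent.Helper41.Sol3G

set_option autoImplicit false
open Cfsg

namespace Cfsg.Agent.S2258

/-- Let G = PSL_2(F) with F a field of order q = 3^p, p an odd prime, and for x ∈ G call the solubilizer of x the set of y ∈ G such that x and y generate a solvable subgroup. Then the solubilizer of an involution has q(q + 1) elements; that of an element of order 3 has q(q + 5)/2 elements; that of an element of order neither 1 nor 2 dividing q − 1 has q(q − 1) elements; and that of an element of order neither 1 nor 2 dividing q + 1 has q + 1 elements. -/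
theorem result (p : ℕ) (hp : p.Prime) (hodd : Odd p) {F : Type*} [Field F] [Fintype F]
    (hF : Fintype.card F = 3 ^ p) (x : Matrix.ProjectiveSpecialLinearGroup (Fin 2) F) :
    (orderOf x = 2 → Nat.card {y : Matrix.ProjectiveSpecialLinearGroup (Fin 2) F // Group.IsSolvable ↥(Subgroup.closure ({x, y} : Set (Matrix.ProjectiveSpecialLinearGroup (Fin 2) F)))} = 3 ^ p * (3 ^ p + 1)) ∧
    (orderOf x = 3 → 2 * Nat.card {y : Matrix.ProjectiveSpecialLinearGroup (Fin 2) F // Group.IsSolvable ↥(Subgroup.closure ({x, y} : Set (Matrix.ProjectiveSpecialLinearGroup (Fin 2) F)))} = 3 ^ p * (3 ^ p + 5)) ∧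
    (x ≠ 1 → orderOf x ≠ 2 → orderOf x ∣ 3 ^ p - 1 → Nat.card {y : Matrix.ProjectiveSpecialLinearGroup (Fin 2) F // Group.IsSolvable ↥(Subgroup.closure ({x, y} : Set (Matrix.ProjectiveSpecialLinearGroup (Fin 2) F)))} = 3 ^ p * (3 ^ p - 1)) ∧
    (x ≠ 1 → orderOf x ≠ 2 → orderOf x ∣ 3 ^ p + 1 → Nat.card {y : Matrix.ProjectiveSpecialLinearGroup (Fin 2) F // Group.IsSolvable ↥(Subgroup.closure ({x, y} : Set (Matrix.ProjectiveSpecialLinearGroup (Fin 2) F)))} = 3 ^ p + 1) := by
  classical
  -- the characteristic is three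
  haveI : CharP F 3 := by
    obtain ⟨r, hr, hc⟩ := Cfsg.Agent.Helper46.Dk.exists_char_prime F
    haveI := hr
    haveI := hc
    obtain ⟨n, -, hn⟩ := FiniteField.card F r
    have h1 : r ∣ 3 ^ p := by
      rw [← hF, hn]
      exact dvd_pow_self r n.ne_zero
    have h3 : r = 3 :=
      (Nat.prime_dvd_prime_iff_eq hr.out Nat.prime_three).1 (hr.out.dvd_of_dvd_pow h1)
    rw [h3] at hc
    exact hc
  rw [← hF]
  refine ⟨?_, ?_, ?_, ?_⟩
  · intro h
    exact Cfsg.Agent.Helper41.Sol3.card_sol_invol p hp hodd hF x h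
  · intro h
    exact Cfsg.Agent.Helper41.Sol3.card_sol_three p hp hodd hF x h
  · intro h1 h2 h3
    rw [hF] at h3
    exact Cfsg.Agent.Helper41.Sol3.card_sol_split3 p hp hodd hF x h1 h2 h3
  · intro h1 h2 h3
    rw [hF] at h3
    exact Cfsg.Agent.Helper41.Sol3.card_sol_nonsplit3 p hp hodd hF x h1 h2 h3

end Cfsg.Agent.S2258
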