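import Cfsg.Statements.S2260
-- import your own Cfsg.Agent.* helpers here

set_option autoImplicit false
open Cfsg

namespace Cfsg.Agent.S2260

theorem nil_pow_card {F : Type*} [Field F] {d : ℕ} (N : Matrix (Fin d) (Fin d) F)
    (hN : IsNilpotent N) : N ^ d = 0 := by
  have h1 := Matrix.isNilpotent_charpoly_sub_pow_of_isNilpotent hN
  have h2 : N.charpoly - Polynomial.X ^ (Fintype.card (Fin d)) = 0 := h1.eq_zero
  have h3 : N.charpoly = Polynomial.X ^ d := by
    simpa [sub_eq_zero] using h2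
  have h4 := Matrix.aeval_self_charpoly N
  rw [h3] at h4
  simpa using h4

theorem pow_p_pow {F : Type*} [Field F] (p : ℕ) [Fact p.Prime] [CharP F p] {d : ℕ} (hd : 0 < d)
    (u : GL (Fin d) F) (k : ℕ) :
    ((u ^ (p ^ k) : GL (Fin d) F) : Matrix (Fin d) (Fin d) F) - 1
      = ((u : Matrix (Fin d) (Fin d) F) - 1) ^ (p ^ k) := by
  have : Nonempty (Fin d) := ⟨⟨0, hd⟩⟩
  have : CharP (Matrix (Fin d) (Fin d) F) p := Matrix.charP p
  have hc : Commute (u : Matrix (Fin d) (Fin d) F) 1 := Commute.one_right _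
  rw [sub_pow_char_pow_of_commute _ _ hc]
  simp

/-- Let F be a finite field of prime characteristic p and u an invertible d × d matrix over F with u − 1 nilpotent (a unipotent element). Then the order of u is at most p^⌈log_p d⌉; and if moreover (u − 1)^(d−1) ≠ 0 (u is a single Jordan block) then the order of u is exactly p^⌈log_p d⌉. -/
theorem result {F : Type*} [Field F] [Finite F] (p : ℕ) [Fact p.Prime] [CharP F p] (d : ℕ)
    (u : GL (Fin d) F) (hu : IsNilpotent ((u : Matrix (Fin d) (Fin d) F) - 1)) :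
    orderOf u ≤ p ^ Nat.clog p d ∧
    (((u : Matrix (Fin d) (Fin d) F) - 1) ^ (d - 1) ≠ 0 → orderOf u = p ^ Nat.clog p d) := by
  have hp : p.Prime := Fact.out
  rcases Nat.eq_zero_or_pos d with hd | hd
  · subst hd
    have hu1 : u = 1 := Subsingleton.elim _ _
    subst hu1
    simp
  · have hNd := nil_pow_card _ hu
    have hle : d ≤ p ^ Nat.clog p d := Nat.le_pow_clog hp.one_lt d
    have hNk : ((u : Matrix (Fin d) (Fin d) F) - 1) ^ (p ^ Nat.clog p d) = 0 :=
      pow_eq_zero_of_le hle hNd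
    have hupow : u ^ (p ^ Nat.clog p d) = 1 := by
      have := pow_p_pow p hd u (Nat.clog p d)
      rw [hNk, sub_eq_zero] at this
      apply Units.ext
      simpa using this
    have hdvd : orderOf u ∣ p ^ Nat.clog p d := orderOf_dvd_of_pow_eq_one hupow
    refine ⟨Nat.le_of_dvd (pow_pos hp.pos _) hdvd, ?_⟩
    intro hne
    obtain ⟨j, hj, hoj⟩ := (Nat.dvd_prime_pow hp).1 hdvd
    have h1 : u ^ (p ^ j) = 1 := by rw [← hoj]; exact pow_orderOf_eq_one u
    have h2 : ((u : Matrix (Fin d) (Fin d) F) - 1) ^ (p ^ j) = 0 := by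
      rw [← pow_p_pow p hd u j, h1]; simp
    have h3 : d ≤ p ^ j := by
      by_contra hlt
      rw [not_le] at hlt
      exact hne (pow_eq_zero_of_le (by omega) h2)
    have h4 : Nat.clog p d ≤ j := Nat.clog_le_of_le_pow h3
    rw [hoj, le_antisymm hj h4]

end Cfsg.Agent.S2260
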