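import Cfsg.Statements.S2264
import Cfsg.Agent.Helper94.Eo.Fin
import Cfsg.Agent.Helper94.Eo.P_QUOT
import Cfsg.Agent.Helper43.SpCountA

set_option autoImplicit false
open Cfsg

namespace Cfsg.Agent.S2264

open Polynomial Cfsg.Agent.Helper94.Eo

/-- Let F be a finite field with q elements and m ≥ 2. Then every element g of PSp_2m(F) satisfies (q − 1)·|g| ≤ q^(m+1), i.e. has order at most q^(m+1)/(q − 1). -/
theorem result {F : Type*} [Field F] [Fintype F] (m : ℕ) (hm : 2 ≤ m) (g : Cfsg.PSp m F) :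
    (Fintype.card F - 1) * orderOf g ≤ Fintype.card F ^ (m + 1) := by
  obtain ⟨g, rfl⟩ := QuotientGroup.mk_surjective g
  set A : Matrix (Fin m ⊕ Fin m) (Fin m ⊕ Fin m) F := (g : Matrix (Fin m ⊕ Fin m) (Fin m ⊕ Fin m) F)
    with hA
  have hdeg : A.charpoly.natDegree = 2 * m := by
    rw [Matrix.charpoly_natDegree_eq_dim, Fintype.card_sum, Fintype.card_fin, two_mul]
  obtain ⟨K, hK, hbound, hdvd⟩ := exists_exponent A.charpoly (Matrix.charpoly_monic A) m hdeg
    (Cfsg.Agent.Helper43.SpCount.charpoly_reverse_of_mem_symplectic g)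
  have hCH : aeval A A.charpoly = 0 := Matrix.aeval_self_charpoly A
  have hpow : A ^ K = 1 ∨ A ^ K = -1 := by
    rcases hdvd with ⟨c, hc⟩ | ⟨c, hc⟩
    · left
      have := congrArg (aeval A) hc
      rw [map_mul, hCH, zero_mul, map_sub, map_pow, aeval_X, map_one] at this
      exact sub_eq_zero.mp this
    · right
      have := congrArg (aeval A) hc
      rw [map_mul, hCH, zero_mul, map_add, map_pow, aeval_X, map_one] at this
      exact eq_neg_of_add_eq_zero_left this
  have hle := psp_orderOf_le g hK hpow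
  calc (Fintype.card F - 1) * orderOf (QuotientGroup.mk g : Cfsg.PSp m F)
      ≤ (Fintype.card F - 1) * K := Nat.mul_le_mul_left _ hle
    _ ≤ Fintype.card F ^ (m + 1) := hbound

end Cfsg.Agent.S2264
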