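import Cfsg.Statements.S2265
import Cfsg.Agent.Helper94.Eo.Om
import Cfsg.Agent.Helper94.Eo.P_GRAM

set_option autoImplicit false
open Cfsg

namespace Cfsg.Agent.S2265

open Cfsg.Agent.Helper94.Eo

/-- Let F be a finite field with q elements. Every element g of PΩ_(2m+1)(F) (m ≥ 3, q odd), of PΩ⁺_2m(F) (m ≥ 4), or of PΩ⁻_2m(F) (m ≥ 4, the form having an anisotropic binary part) satisfies (q − 1)·|g| ≤ q^(m+1), i.e. has order at most q^(m+1)/(q − 1). -/
theorem result {F : Type*} [Field F] [Fintype F] (m : ℕ) :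
    (3 ≤ m → Odd (Fintype.card F) → ∀ g : Cfsg.POmega F (Cfsg.quadFormOdd m F),
      (Fintype.card F - 1) * orderOf g ≤ Fintype.card F ^ (m + 1)) ∧
    (4 ≤ m → ∀ g : Cfsg.POmega F (Cfsg.quadFormPlus m F),
      (Fintype.card F - 1) * orderOf g ≤ Fintype.card F ^ (m + 1)) ∧
    (4 ≤ m → ∀ a b : F, (∀ z₁ z₂ : F, z₁ ^ 2 + a * z₁ * z₂ + b * z₂ ^ 2 = 0 → z₁ = 0 ∧ z₂ = 0) →
      ∀ g : Cfsg.POmega F (Cfsg.quadFormMinus (m - 1) F a b),
      (Fintype.card F - 1) * orderOf g ≤ Fintype.card F ^ (m + 1)) := by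
  refine ⟨?_, ?_, ?_⟩
  · intro hm hodd g
    have h2 : (2 : F) ≠ 0 := by
      intro h
      have h' : ((2 : ℕ) : F) = 0 := by exact_mod_cast h
      have hdvd : ringChar F ∣ 2 := (ringChar.spec F 2).mp h'
      have hp : (ringChar F).Prime := CharP.char_is_prime F _
      have hp2 : ringChar F = 2 := (Nat.prime_dvd_prime_iff_eq hp Nat.prime_two).mp hdvd
      have : Fact (ringChar F).Prime := ⟨hp⟩
      obtain ⟨n, -, hn⟩ := FiniteField.card F (ringChar F)
      rw [hn, hp2] at hodd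
      have : Even (2 ^ (n : ℕ)) := (Nat.even_pow' n.ne_zero).mpr even_two
      exact (Nat.not_odd_iff_even.mpr this) hodd
    obtain ⟨B, hB, hpolar⟩ := gram_odd (F := F) m h2
    exact pomega_bound_odd h2 _ B hB hpolar m hm
      (by simp [Fintype.card_sum, Fintype.card_fin]; ring) g
  · intro hm g
    obtain ⟨B, hB, hpolar⟩ := gram_plus (F := F) m
    exact pomega_bound_even _ B hB hpolar m
      (by simp [Fintype.card_sum, Fintype.card_fin]; ring) g
  · intro hm a b hab g
    obtain ⟨B, hB, hpolar⟩ := gram_minus (F := F) (m - 1) a b hab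
    exact pomega_bound_even _ B hB hpolar m
      (by simp [Fintype.card_sum, Fintype.card_fin]; omega) g

end Cfsg.Agent.S2265
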