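import Cfsg.Statements.S2268
-- import your own Cfsg.Agent.* helpers here

set_option autoImplicit false
open Cfsg

namespace Cfsg.Agent.S2268

/-- Let G be a finite group with an abelian Sylow p-subgroup P and let Q ≤ P. Then N_G(Q) = (N_G(Q) ∩ N_G(P))·C_G(Q), so that N_G(Q)/C_G(Q) is a homomorphic image of the subgroup (N_G(Q) ∩ N_G(P))/C_G(P) of N_G(P)/C_G(P); in particular the order of N_G(Q)/C_G(Q) divides the order of N_G(P)/C_G(P). -/
theorem result {G : Type*} [Group G] [Finite G] {p : ℕ} [Fact p.Prime]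
    (P : Sylow p G) (hP : IsMulCommutative (P : Subgroup G)) (Q : Subgroup G) (hQ : Q ≤ (P : Subgroup G)) :
    Subgroup.normalizer (Q : Set G) =
      (Subgroup.normalizer (Q : Set G) ⊓ Subgroup.normalizer ((P : Subgroup G) : Set G)) ⊔ Subgroup.centralizer (Q : Set G) ∧
    ((Subgroup.centralizer (Q : Set G)).subgroupOf (Subgroup.normalizer (Q : Set G))).index ∣ ((Subgroup.centralizer ((P : Subgroup G) : Set G)).subgroupOf (Subgroup.normalizer ((P : Subgroup G) : Set G))).index := by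
  set NQ := Subgroup.normalizer (Q : Set G) with hNQ
  set CQ := Subgroup.centralizer (Q : Set G) with hCQ
  set A := Subgroup.normalizer ((P : Subgroup G) : Set G) with hA
  set CP := Subgroup.centralizer ((P : Subgroup G) : Set G) with hCP
  have hCQNQ : CQ ≤ NQ := Subgroup.centralizer_le_normalizer _
  have hCPA : CP ≤ A := Subgroup.centralizer_le_normalizer _
  have hCPCQ : CP ≤ CQ := Subgroup.centralizer_le hQ
  have hPCP : (P : Subgroup G) ≤ CP := Subgroup.le_centralizer (P : Subgroup G)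
  have hPCQ : (P : Subgroup G) ≤ CQ := hPCP.trans hCPCQ
  have hPNQ : (P : Subgroup G) ≤ NQ := hPCQ.trans hCQNQ
  -- Frattini inside NQ
  have hnorm : (CQ.subgroupOf NQ).Normal := Subgroup.normal_subgroupOf_centralizer_normalizer _
  have hfr : Subgroup.normalizer ((((P : Subgroup G).subgroupOf NQ : Subgroup NQ)) : Set NQ)
      ⊔ CQ.subgroupOf NQ = ⊤ :=
    Sylow.normalizer_sup_eq_top' (N := CQ.subgroupOf NQ) (P.subtype hPNQ)
      (Subgroup.subgroupOf_mono NQ hPCQ)
  rw [← Subgroup.subgroupOf_normalizer_eq hPNQ] at hfr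
  have hfr2 : ((NQ ⊓ A) ⊔ CQ).subgroupOf NQ = ⊤ := by
    rw [Subgroup.subgroupOf_sup inf_le_left hCQNQ, Subgroup.inf_subgroupOf_left]
    exact hfr
  have hle : NQ ≤ (NQ ⊓ A) ⊔ CQ := Subgroup.subgroupOf_eq_top.1 hfr2
  have heq : NQ = (NQ ⊓ A) ⊔ CQ := le_antisymm hle (sup_le inf_le_left hCQNQ)
  refine ⟨heq, ?_⟩
  -- index computation
  change CQ.relIndex NQ ∣ CP.relIndex A
  have h1 : CQ.relIndex NQ = CQ.relIndex (NQ ⊓ A) := by
    have h := Subgroup.relIndex_sup_right (H := (NQ ⊓ A).subgroupOf NQ) (K := CQ.subgroupOf NQ)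
    rw [← Subgroup.subgroupOf_sup inf_le_left hCQNQ, hfr2,
      Subgroup.relIndex_subgroupOf inf_le_left, Subgroup.relIndex_top_right] at h
    exact h
  have hCPH : CP ≤ NQ ⊓ A := le_inf (hCPCQ.trans hCQNQ) hCPA
  have h2 : CQ.relIndex (NQ ⊓ A) ∣ CP.relIndex (NQ ⊓ A) := Subgroup.relIndex_dvd_of_le_left _ hCPCQ
  have h3 : CP.relIndex (NQ ⊓ A) ∣ CP.relIndex A :=
    ⟨_, (Subgroup.relIndex_mul_relIndex _ _ _ hCPH inf_le_right).symm⟩
  rw [h1]
  exact h2.trans h3

end Cfsg.Agent.S2268
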