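import Cfsg.Statements.S2269
-- import your own Cfsg.Agent.* helpers here

set_option autoImplicit false
open Cfsg

namespace Cfsg.Agent.S2269

/-- If `a` inverts `x` then odd powers of `a` invert `x`. -/
theorem semiconj_odd_pow {G : Type*} [Group G] {a x : G} (h : SemiconjBy a x x⁻¹) (j : ℕ) :
    SemiconjBy (a ^ (2 * j + 1)) x x⁻¹ := by
  have h' : SemiconjBy a x⁻¹ x := by simpa using h.inv_right
  have h2 : SemiconjBy (a * a) x⁻¹ x⁻¹ := h.mul_left h'
  have h3 : SemiconjBy ((a * a) ^ j) x⁻¹ x⁻¹ := (show Commute (a * a) x⁻¹ from h2).pow_left j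
  have h4 : SemiconjBy ((a * a) ^ j * a) x x⁻¹ := h3.mul_left h
  have e : a ^ (2 * j + 1) = (a * a) ^ j * a := by
    rw [pow_succ, pow_mul, pow_two]
  rw [e]; exact h4

/-- In a finite group with an abelian Sylow `p`-subgroup `P` containing
an element `x` with `x^2 ≠ 1` conjugate to its inverse, `N(P)/C(P)` has even order. -/
theorem even_automizer_of_mem {G : Type*} [Group G] [Finite G] {p : ℕ} [Fact p.Prime]
    (P : Sylow p G) (hP : IsMulCommutative (P : Subgroup G))
    (x : G) (hxP : x ∈ (P : Subgroup G)) (hx2 : x ^ 2 ≠ 1) (hconj : IsConj x x⁻¹) :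
    2 ∣ ((Subgroup.centralizer ((P : Subgroup G) : Set G)).subgroupOf
      (Subgroup.normalizer ((P : Subgroup G) : Set G))).index := by
  obtain ⟨c, hc⟩ := isConj_iff.1 hconj
  have hy : (c⁻¹)⁻¹ * x * c⁻¹ ∈ (P : Subgroup G) := by
    rw [inv_inv, hc]; exact inv_mem hxP
  have : IsMulCommutative P := hP
  obtain ⟨m, hmN, hm⟩ := Sylow.conj_eq_normalizer_conj_of_mem P x c⁻¹ hxP hy
  rw [inv_inv, hc] at hm
  have hsemi : SemiconjBy m⁻¹ x x⁻¹ := by
    unfold SemiconjBy
    rw [hm]; group
  set N := Subgroup.normalizer ((P : Subgroup G) : Set G) with hN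
  set C := Subgroup.centralizer ((P : Subgroup G) : Set G) with hC
  set k := (C.subgroupOf N).index with hk
  by_contra hodd
  have hodd' : Odd k := Nat.odd_iff.2 (by omega)
  obtain ⟨j, hj⟩ := hodd'
  have hmem : (⟨m⁻¹, inv_mem hmN⟩ : N) ^ k ∈ C.subgroupOf N := Subgroup.pow_index_mem _ _
  rw [Subgroup.mem_subgroupOf] at hmem
  have hmem' : (m⁻¹) ^ k ∈ C := by simpa using hmem
  have hcomm : (m⁻¹) ^ k * x = x * (m⁻¹) ^ k :=
    (Subgroup.mem_centralizer_iff.1 hmem' x hxP).symm
  have hs := semiconj_odd_pow hsemi j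
  rw [← hj] at hs
  have hs' : (m⁻¹) ^ k * x = x⁻¹ * (m⁻¹) ^ k := hs
  rw [hcomm] at hs'
  have hxx : x = x⁻¹ := mul_right_cancel hs'
  apply hx2
  rw [pow_two]; nth_rewrite 1 [hxx]; exact inv_mul_cancel x

/-- Same, for a `p`-element `x` anywhere in `G`. -/
theorem even_automizer {G : Type*} [Group G] [Finite G] {p : ℕ} [Fact p.Prime]
    (P : Sylow p G) (hP : IsMulCommutative (P : Subgroup G))
    (x : G) (hxp : ∃ k : ℕ, x ^ (p ^ k) = 1) (hx2 : x ^ 2 ≠ 1) (hconj : IsConj x x⁻¹) :
    2 ∣ ((Subgroup.centralizer ((P : Subgroup G) : Set G)).subgroupOf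
      (Subgroup.normalizer ((P : Subgroup G) : Set G))).index := by
  have hpg : IsPGroup p (Subgroup.zpowers x) := by
    obtain ⟨k, hk⟩ := hxp
    apply IsPGroup.of_card (n := (Nat.factorization (orderOf x)) p)
    rw [Nat.card_zpowers]
    have hdvd : orderOf x ∣ p ^ k := orderOf_dvd_of_pow_eq_one hk
    obtain ⟨j, hj, hoj⟩ := (Nat.dvd_prime_pow Fact.out).1 hdvd
    rw [hoj]
    simp [Nat.Prime.factorization_pow (Fact.out : p.Prime)]
  obtain ⟨Q, hQ⟩ := hpg.exists_le_sylow
  obtain ⟨g, hg⟩ := MulAction.exists_smul_eq G Q P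
  have hxQ : x ∈ (Q : Subgroup G) := hQ (Subgroup.mem_zpowers x)
  have hgx : g * x * g⁻¹ ∈ (P : Subgroup G) := by
    rw [← hg, Sylow.coe_subgroup_smul]
    have h := (Subgroup.smul_mem_pointwise_smul_iff (a := MulAut.conj g)).2 hxQ
    simpa [MulAut.smul_def] using h
  refine even_automizer_of_mem P hP (g * x * g⁻¹) hgx ?_ ?_
  · intro h
    apply hx2
    have : (g * x * g⁻¹) ^ 2 = g * x ^ 2 * g⁻¹ := by
      rw [conj_pow]
    rw [this] at h
    have h' : x ^ 2 = g⁻¹ * 1 * g := by rw [← h]; group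
    simpa using h'
  · have : (g * x * g⁻¹)⁻¹ = g * x⁻¹ * g⁻¹ := by group
    rw [this]
    exact (isConj_iff.2 ⟨g, rfl⟩ : IsConj x (g * x * g⁻¹)).symm.trans
      (hconj.trans (isConj_iff.2 ⟨g, rfl⟩))

open Equiv Equiv.Perm in
/-- If an odd permutation commutes with `σ ∈ A(α)` then `σ` is conjugate to its inverse in `A(α)`. -/
theorem real_in_alt {α : Type*} [Fintype α] [DecidableEq α] (σ : alternatingGroup α)
    (τ : Perm α) (hτ : Perm.sign τ = -1) (hcomm : Commute τ (σ : Perm α)) : IsConj σ σ⁻¹ := by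
  have hc : IsConj (σ : Perm α) ((σ : Perm α)⁻¹) := by
    rw [Equiv.Perm.isConj_iff_cycleType_eq, Equiv.Perm.cycleType_inv]
  obtain ⟨π, hπ⟩ := isConj_iff.1 hc
  rcases Int.units_eq_one_or (Perm.sign π) with h | h
  · rw [isConj_iff]
    refine ⟨⟨π, Equiv.Perm.mem_alternatingGroup.2 h⟩, Subtype.val_injective ?_⟩
    simpa using hπ
  · rw [isConj_iff]
    have hs : Perm.sign (π * τ) = 1 := by rw [Perm.sign_mul, h, hτ]; rfl
    refine ⟨⟨π * τ, Equiv.Perm.mem_alternatingGroup.2 hs⟩, Subtype.val_injective ?_⟩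
    have : π * τ * (σ : Perm α) * (π * τ)⁻¹ = π * (σ : Perm α) * π⁻¹ := by
      rw [mul_inv_rev, mul_assoc π τ, hcomm.eq]
      group
    change π * τ * (σ : Perm α) * (π * τ)⁻¹ = ((σ⁻¹ : alternatingGroup α) : Perm α)
    rw [this, hπ]; rfl

open Equiv Equiv.Perm in
/-- Part A: for an odd prime `p` with `p + 2 ≤ n`, `A_n` has a real element of order `p`. -/
theorem exists_real_odd (n p : ℕ) (hp : p.Prime) (hp2 : p ≠ 2) (hpn : p + 2 ≤ n) :
    ∃ x : alternatingGroup (Fin n), x ^ (p ^ 1) = 1 ∧ x ^ 2 ≠ 1 ∧ IsConj x x⁻¹ := by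
  obtain ⟨σ, hσ⟩ := (Equiv.Perm.exists_with_cycleType_iff (Fin n) (m := {p})).2 (by
    simp only [Multiset.sum_singleton, Fintype.card_fin, Multiset.mem_singleton, forall_eq]
    exact ⟨by omega, hp.two_le⟩)
  have hodd : Odd p := hp.odd_of_ne_two hp2
  have hsign : Perm.sign σ = 1 := by
    rw [Equiv.Perm.sign_of_cycleType, hσ]
    simp only [Multiset.sum_singleton, Multiset.card_singleton]
    exact Even.neg_one_pow hodd.add_one
  have hord : orderOf σ = p := by
    rw [← Equiv.Perm.lcm_cycleType, hσ]; simp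
  have hsupp : σ.support.card = p := by
    rw [← Equiv.Perm.sum_cycleType, hσ]; simp
  refine ⟨⟨σ, Equiv.Perm.mem_alternatingGroup.2 hsign⟩, ?_, ?_, ?_⟩
  · apply Subtype.val_injective
    simp only [pow_one, Subgroup.coe_pow, Subgroup.coe_one]
    rw [← hord]; exact pow_orderOf_eq_one σ
  · intro h
    have h' : σ ^ 2 = 1 := by
      have := congrArg Subtype.val h
      simpa using this
    have hd : p ∣ 2 := hord ▸ orderOf_dvd_of_pow_eq_one h'
    have := (Nat.prime_dvd_prime_iff_eq hp Nat.prime_two).1 hd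
    exact hp2 this
  · apply alternatingGroup.isConj_of
    · simp only [InvMemClass.coe_inv]
      rw [Equiv.Perm.isConj_iff_cycleType_eq, Equiv.Perm.cycleType_inv]
    · simp only [Fintype.card_fin]
      rw [hsupp]; exact hpn

open Equiv Equiv.Perm in
/-- Part C: for `6 ≤ n`, `A_n` has a real element of order `4`. -/
theorem exists_real_four (n : ℕ) (hn : 6 ≤ n) :
    ∃ x : alternatingGroup (Fin n), x ^ (2 ^ 2) = 1 ∧ x ^ 2 ≠ 1 ∧ IsConj x x⁻¹ := by
  obtain ⟨σ, hσ⟩ := (Equiv.Perm.exists_with_cycleType_iff (Fin n) (m := {4, 2})).2 (by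
    simp only [Multiset.insert_eq_cons, Multiset.sum_cons, Multiset.sum_singleton,
      Fintype.card_fin, Multiset.mem_cons, Multiset.mem_singleton]
    refine ⟨by omega, ?_⟩
    rintro a (rfl | rfl) <;> norm_num)
  have hsign : Perm.sign σ = 1 := by
    rw [Equiv.Perm.sign_of_cycleType, hσ]
    rfl
  have hord : orderOf σ = 4 := by
    rw [← Equiv.Perm.lcm_cycleType, hσ]; rfl
  have h2 : 2 ∈ σ.cycleType := by rw [hσ]; simp
  obtain ⟨c, τ, hcτ, hdisj, hcyc, hcard⟩ := Equiv.Perm.mem_cycleType_iff.1 h2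
  have hcsign : Perm.sign c = -1 := by
    rw [hcyc.sign, hcard]; rfl
  have hcomm : Commute c σ := by
    rw [hcτ]
    exact (Commute.refl c).mul_right hdisj.commute
  refine ⟨⟨σ, Equiv.Perm.mem_alternatingGroup.2 hsign⟩, ?_, ?_, ?_⟩
  · apply Subtype.val_injective
    simp only [Subgroup.coe_pow, Subgroup.coe_one]
    have : (2:ℕ) ^ 2 = orderOf σ := by rw [hord]; norm_num
    rw [this]; exact pow_orderOf_eq_one σ
  · intro h
    have h' : σ ^ 2 = 1 := by
      have := congrArg Subtype.val h
      simpa using this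
    have hd : 4 ∣ 2 := hord ▸ orderOf_dvd_of_pow_eq_one h'
    omega
  · exact real_in_alt _ c hcsign hcomm

/-- Part B: for `n < 2p` a Sylow `p`-subgroup of `A_n` is cyclic. -/
theorem cyclic_of_small (n p : ℕ) [Fact p.Prime] (hn : n < 2 * p)
    (P : Sylow p (alternatingGroup (Fin n))) : IsCyclic (P : Subgroup (alternatingGroup (Fin n))) := by
  have hp : p.Prime := Fact.out
  obtain ⟨k, hk⟩ := IsPGroup.exists_card_eq P.isPGroup'
  have hdvd1 : Nat.card (P : Subgroup (alternatingGroup (Fin n))) ∣ Nat.card (alternatingGroup (Fin n)) :=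
    Subgroup.card_subgroup_dvd_card _
  have hdvd2 : Nat.card (alternatingGroup (Fin n)) ∣ n.factorial := by
    have h := Subgroup.card_subgroup_dvd_card (alternatingGroup (Fin n))
    rwa [Nat.card_perm, Nat.card_eq_fintype_card (α := Fin n), Fintype.card_fin] at h
  have hdvd : p ^ k ∣ n.factorial := hk ▸ hdvd1.trans hdvd2
  have hlog : Nat.log p n < 2 := by
    rcases Nat.eq_zero_or_pos n with h0 | h0
    · subst h0; simp
    · apply Nat.log_lt_of_lt_pow h0.ne'
      have : 2 * p ≤ p ^ 2 := by
        rw [pow_two]; exact Nat.mul_le_mul_right p hp.two_le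
      omega
  have hk1 : k ≤ 1 := by
    have := (Nat.Prime.pow_dvd_factorial_iff hp hlog).1 hdvd
    have h2 : Finset.Ico 1 2 = {1} := by decide
    rw [h2, Finset.sum_singleton, pow_one] at this
    have h3 : n / p < 2 := (Nat.div_lt_iff_lt_mul hp.pos).2 hn
    omega
  interval_cases k
  · have : Subsingleton (P : Subgroup (alternatingGroup (Fin n))) := by
      rw [← Finite.card_le_one_iff_subsingleton, hk]; simp
    exact isCyclic_of_subsingleton
  · rw [pow_one] at hk
    exact isCyclic_of_prime_card hk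

set_option maxRecDepth 100000 in
theorem perm5 : ∀ σ : Equiv.Perm (Fin 5), Equiv.Perm.sign σ = 1 → σ ^ 4 = 1 → σ ^ 2 = 1 := by
  decide

/-- Part D: Sylow 2-subgroups of `A_5`. -/
theorem sylow_two_alt_five (P : Sylow 2 (alternatingGroup (Fin 5))) :
    ((Subgroup.centralizer ((P : Subgroup (alternatingGroup (Fin 5))) : Set (alternatingGroup (Fin 5)))).subgroupOf
      (Subgroup.normalizer ((P : Subgroup (alternatingGroup (Fin 5))) : Set (alternatingGroup (Fin 5))))).index = 3 ∧
    IsKleinFour (P : Subgroup (alternatingGroup (Fin 5))) := by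
  have hG : Nat.card (alternatingGroup (Fin 5)) = 60 := by
    rw [nat_card_alternatingGroup]; simp [Nat.factorial]
  -- card P = 4
  have hcardP : Nat.card (P : Subgroup (alternatingGroup (Fin 5))) = 4 := by
    obtain ⟨k, hk⟩ := IsPGroup.exists_card_eq P.isPGroup'
    have h1 := Subgroup.card_mul_index (P : Subgroup (alternatingGroup (Fin 5)))
    have h2 : ¬ 2 ∣ (P : Subgroup (alternatingGroup (Fin 5))).index := P.not_dvd_index
    rw [hG, hk] at h1
    have hk3 : k < 6 := by
      by_contra hk6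
      rw [not_lt] at hk6
      have : 2 ^ 6 ≤ 2 ^ k := Nat.pow_le_pow_right (by norm_num) hk6
      have h3 : 2 ^ k ∣ 60 := ⟨_, h1.symm⟩
      have := Nat.le_of_dvd (by norm_num) h3
      omega
    rw [hk]
    interval_cases k <;> omega
  have hIdx : (P : Subgroup (alternatingGroup (Fin 5))).index = 15 := by
    have h1 := Subgroup.card_mul_index (P : Subgroup (alternatingGroup (Fin 5)))
    rw [hG, hcardP] at h1; omega
  -- exponent 2
  have hexp : ∀ x : (P : Subgroup (alternatingGroup (Fin 5))), x ^ 2 = 1 := by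
    intro x
    have h4 : x ^ 4 = 1 := by rw [← hcardP]; exact pow_card_eq_one'
    have h4' : ((x : alternatingGroup (Fin 5)) : Equiv.Perm (Fin 5)) ^ 4 = 1 := by
      have := congrArg (fun y : (P : Subgroup (alternatingGroup (Fin 5))) =>
        ((y : alternatingGroup (Fin 5)) : Equiv.Perm (Fin 5))) h4
      simpa using this
    have hs : Equiv.Perm.sign ((x : alternatingGroup (Fin 5)) : Equiv.Perm (Fin 5)) = 1 :=
      Equiv.Perm.mem_alternatingGroup.1 (x : alternatingGroup (Fin 5)).2
    have h2 := perm5 _ hs h4'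
    apply Subtype.val_injective
    apply Subtype.val_injective
    simpa using h2
  have hK4 : IsKleinFour (P : Subgroup (alternatingGroup (Fin 5))) := by
    refine ⟨hcardP, ?_⟩
    have hd : Monoid.exponent (P : Subgroup (alternatingGroup (Fin 5))) ∣ 2 :=
      Monoid.exponent_dvd_of_forall_pow_eq_one hexp
    have hne : Monoid.exponent (P : Subgroup (alternatingGroup (Fin 5))) ≠ 1 := by
      intro h
      have := Monoid.exp_eq_one_iff.1 h
      have := Finite.card_le_one_iff_subsingleton.2 this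
      omega
    rcases (Nat.dvd_prime Nat.prime_two).1 hd with h | h
    · exact absurd h hne
    · exact h
  refine ⟨?_, hK4⟩
  -- the index
  set N := Subgroup.normalizer ((P : Subgroup (alternatingGroup (Fin 5))) : Set (alternatingGroup (Fin 5))) with hN
  set C := Subgroup.centralizer ((P : Subgroup (alternatingGroup (Fin 5))) : Set (alternatingGroup (Fin 5))) with hC
  have hcomm : IsMulCommutative (P : Subgroup (alternatingGroup (Fin 5))) := by
    refine ⟨⟨fun a b => ?_⟩⟩
    -- groups of exponent 2 are abelian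
    have ha := hexp a
    have hb := hexp b
    have hab := hexp (a * b)
    have e1 : a⁻¹ = a := by rw [inv_eq_iff_mul_eq_one, ← pow_two]; exact ha
    have e2 : b⁻¹ = b := by rw [inv_eq_iff_mul_eq_one, ← pow_two]; exact hb
    have e3 : (a * b)⁻¹ = a * b := by rw [inv_eq_iff_mul_eq_one, ← pow_two]; exact hab
    rw [mul_inv_rev, e1, e2] at e3
    exact e3.symm
  have hPC : (P : Subgroup (alternatingGroup (Fin 5))) ≤ C := Subgroup.le_centralizer _
  have hk15 : (C.subgroupOf N).index ∣ 15 := by
    change C.relIndex N ∣ 15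
    rw [← hIdx]
    exact (Subgroup.relIndex_dvd_of_le_left N hPC).trans
      (Subgroup.relIndex_dvd_index_of_le Subgroup.le_normalizer)
  have hk24 : (C.subgroupOf N).index ∣ 24 := by
    let φ : N →* Equiv.Perm (P : Subgroup (alternatingGroup (Fin 5))) :=
      (MulAut.toPerm _).comp (Subgroup.normalizerMonoidHom (P : Subgroup (alternatingGroup (Fin 5))))
    have hker : φ.ker = C.subgroupOf N := by
      rw [← Subgroup.normalizerMonoidHom_ker]
      ext x
      simp only [MonoidHom.mem_ker, φ, MonoidHom.comp_apply]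
      constructor
      · intro h
        apply MulEquiv.ext
        intro y
        have := congrArg (fun e => e y) h
        exact this
      · intro h; rw [h]; rfl
    rw [← hker, Subgroup.index_ker]
    have h := Subgroup.card_subgroup_dvd_card φ.range
    rwa [Nat.card_perm, hcardP] at h
  have hk3 : (C.subgroupOf N).index ∣ 3 := by
    have := Nat.dvd_gcd hk15 hk24
    simpa using this
  rcases (Nat.dvd_prime Nat.prime_three).1 hk3 with h | h
  · -- index 1: Burnside gives a normal 2-complement, contradicting simplicity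
    exfalso
    have hNC : N ≤ C := Subgroup.relIndex_eq_one.1 h
    have hcompl := MonoidHom.ker_transferSylow_isComplement' P hNC
    have hsimple : IsSimpleGroup (alternatingGroup (Fin 5)) :=
      alternatingGroup.isSimpleGroup (by simp)
    have hcard := hcompl.card_mul_card
    rw [hG, hcardP] at hcard
    rcases (MonoidHom.transferSylow P hNC).normal_ker.eq_bot_or_eq_top with hb | ht
    · rw [hb, Subgroup.card_bot] at hcard; omega
    · rw [ht, Subgroup.card_top, hG] at hcard; omega
  · exact h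

/-- Let n ≥ 5 and let P be an abelian Sylow p-subgroup of the alternating group A_n. Then N(P)/C(P) (taken in A_n) has even order, or P is cyclic, except when n = 5 and p = 2, where P is a four-group and N(P)/C(P) has order 3. -/
theorem result (n : ℕ) (hn : 5 ≤ n) {p : ℕ} [Fact p.Prime]
    (P : Sylow p (alternatingGroup (Fin n))) (hP : IsMulCommutative (P : Subgroup (alternatingGroup (Fin n)))) :
    (¬ (n = 5 ∧ p = 2) → 2 ∣ ((Subgroup.centralizer ((P : Subgroup (alternatingGroup (Fin n))) : Set (alternatingGroup (Fin n)))).subgroupOf (Subgroup.normalizer ((P : Subgroup (alternatingGroup (Fin n))) : Set (alternatingGroup (Fin n))))).index ∨ IsCyclic (P : Subgroup (alternatingGroup (Fin n)))) ∧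
    ((n = 5 ∧ p = 2) → ((Subgroup.centralizer ((P : Subgroup (alternatingGroup (Fin n))) : Set (alternatingGroup (Fin n)))).subgroupOf (Subgroup.normalizer ((P : Subgroup (alternatingGroup (Fin n))) : Set (alternatingGroup (Fin n))))).index = 3 ∧ IsKleinFour (P : Subgroup (alternatingGroup (Fin n)))) := by
  have hp : p.Prime := Fact.out
  refine ⟨?_, ?_⟩
  · intro hne
    by_cases hp2 : p = 2
    · subst hp2
      have hn6 : 6 ≤ n := by
        rcases Nat.lt_or_ge 5 n with h | h
        · exact h
        · exact absurd ⟨le_antisymm h hn, rfl⟩ hne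
      left
      obtain ⟨x, hx1, hx2, hx3⟩ := exists_real_four n hn6
      exact even_automizer P hP x ⟨2, hx1⟩ hx2 hx3
    · by_cases hpn : p + 2 ≤ n
      · left
        obtain ⟨x, hx1, hx2, hx3⟩ := exists_real_odd n p hp hp2 hpn
        exact even_automizer P hP x ⟨1, hx1⟩ hx2 hx3
      · right
        apply cyclic_of_small
        have h3 : 3 ≤ p := by
          have := hp.two_le
          omega
        omega
  · rintro ⟨rfl, rfl⟩
    exact sylow_two_alt_five P

end Cfsg.Agent.S2269
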