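import Cfsg.Statements.S2270
-- import your own Cfsg.Agent.* helpers here

set_option autoImplicit false
open Cfsg

namespace Cfsg.Agent.S2270

/-- If `a` inverts `x` then odd powers of `a` invert `x`. -/
theorem semiconj_odd_pow {G : Type*} [Group G] {a x : G} (h : SemiconjBy a x x⁻¹) (j : ℕ) :
    SemiconjBy (a ^ (2 * j + 1)) x x⁻¹ := by
  have h' : SemiconjBy a x⁻¹ x := by simpa using h.inv_right
  have h2 : SemiconjBy (a * a) x⁻¹ x⁻¹ := h.mul_left h'
  have h3 : SemiconjBy ((a * a) ^ j) x⁻¹ x⁻¹ := (show Commute (a * a) x⁻¹ from h2).pow_left j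
  have h4 : SemiconjBy ((a * a) ^ j * a) x x⁻¹ := h3.mul_left h
  have e : a ^ (2 * j + 1) = (a * a) ^ j * a := by
    rw [pow_succ, pow_mul, pow_two]
  rw [e]; exact h4

/-- General statement: in a finite group with an abelian Sylow `p`-subgroup `P` (p odd) containing
an element `x ≠ 1` conjugate to its inverse, `N(P)/C(P)` has even order. -/
theorem even_automizer {G : Type*} [Group G] [Finite G] {p : ℕ} [Fact p.Prime] (hp : p ≠ 2)
    (P : Sylow p G) (hP : IsMulCommutative (P : Subgroup G))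
    (x : G) (hxP : x ∈ (P : Subgroup G)) (hx1 : x ≠ 1) (hconj : IsConj x x⁻¹) :
    2 ∣ ((Subgroup.centralizer ((P : Subgroup G) : Set G)).subgroupOf
      (Subgroup.normalizer ((P : Subgroup G) : Set G))).index := by
  have hpp : p.Prime := Fact.out
  obtain ⟨c, hc⟩ := isConj_iff.1 hconj
  -- hc : c * x * c⁻¹ = x⁻¹
  have hy : (c⁻¹)⁻¹ * x * c⁻¹ ∈ (P : Subgroup G) := by
    rw [inv_inv, hc]; exact inv_mem hxP
  have : IsMulCommutative P := hP
  obtain ⟨m, hmN, hm⟩ := Sylow.conj_eq_normalizer_conj_of_mem P x c⁻¹ hxP hy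
  rw [inv_inv, hc] at hm
  -- hm : x⁻¹ = m⁻¹ * x * m
  have hsemi : SemiconjBy m⁻¹ x x⁻¹ := by
    unfold SemiconjBy
    rw [hm]; group
  set N := Subgroup.normalizer ((P : Subgroup G) : Set G) with hN
  set C := Subgroup.centralizer ((P : Subgroup G) : Set G) with hC
  set k := (C.subgroupOf N).index with hk
  by_contra hodd
  have hodd' : Odd k := Nat.odd_iff.2 (by omega)
  obtain ⟨j, hj⟩ := hodd'
  have hmem : (⟨m⁻¹, inv_mem hmN⟩ : N) ^ k ∈ C.subgroupOf N := Subgroup.pow_index_mem _ _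
  rw [Subgroup.mem_subgroupOf] at hmem
  have hmem' : (m⁻¹) ^ k ∈ C := by simpa using hmem
  have hcomm : (m⁻¹) ^ k * x = x * (m⁻¹) ^ k :=
    (Subgroup.mem_centralizer_iff.1 hmem' x hxP).symm
  have hs := semiconj_odd_pow hsemi j
  rw [← hj] at hs
  have hs' : (m⁻¹) ^ k * x = x⁻¹ * (m⁻¹) ^ k := hs
  rw [hcomm] at hs'
  have hxx : x = x⁻¹ := mul_right_cancel hs'
  have hx2 : x ^ 2 = 1 := by
    rw [pow_two]; nth_rewrite 1 [hxx]; exact inv_mul_cancel x
  -- x is a p-element, p odd, x^2 = 1, so x = 1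
  have hpg : IsPGroup p (P : Subgroup G) := P.isPGroup'
  obtain ⟨r, hr⟩ := hpg ⟨x, hxP⟩
  have hr' : x ^ (p ^ r) = 1 := by
    have := congrArg Subtype.val hr
    simpa using this
  have hcop : Nat.Coprime (p ^ r) 2 := by
    apply Nat.Coprime.pow_left
    exact (Nat.coprime_primes hpp Nat.prime_two).2 hp
  have h1 : orderOf x ∣ p ^ r := orderOf_dvd_of_pow_eq_one hr'
  have h2 : orderOf x ∣ 2 := orderOf_dvd_of_pow_eq_one hx2
  have h3 : orderOf x ∣ 1 := by
    have := Nat.dvd_gcd h1 h2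
    rwa [hcop] at this
  exact hx1 (orderOf_eq_one_iff.1 (Nat.dvd_one.1 h3))

/-- Let n ≥ 3, p an odd prime, and P an abelian Sylow p-subgroup of the symmetric group S_n (with p dividing n!, so that P ≠ 1). Then N(P)/C(P) has even order. -/
theorem result (n : ℕ) (hn : 3 ≤ n) {p : ℕ} [Fact p.Prime] (hp : p ≠ 2) (hpn : p ≤ n)
    (P : Sylow p (Equiv.Perm (Fin n))) (hP : IsMulCommutative (P : Subgroup (Equiv.Perm (Fin n)))) :
    2 ∣ ((Subgroup.centralizer ((P : Subgroup (Equiv.Perm (Fin n))) : Set (Equiv.Perm (Fin n)))).subgroupOf (Subgroup.normalizer ((P : Subgroup (Equiv.Perm (Fin n))) : Set (Equiv.Perm (Fin n))))).index := by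
  have hpp : p.Prime := Fact.out
  have hcard : p ∣ Nat.card (Equiv.Perm (Fin n)) := by
    rw [Nat.card_eq_fintype_card, Fintype.card_perm, Fintype.card_fin]
    exact Nat.dvd_factorial hpp.pos hpn
  have hPcard : p ∣ Nat.card (P : Subgroup (Equiv.Perm (Fin n))) := P.dvd_card_of_dvd_card hcard
  obtain ⟨y, hy⟩ := exists_prime_orderOf_dvd_card' p hPcard
  have hy1 : (y : Equiv.Perm (Fin n)) ≠ 1 := by
    intro h
    have : y = 1 := Subtype.ext h
    rw [this, orderOf_one] at hy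
    exact hpp.one_lt.ne hy
  refine even_automizer hp P hP (y : Equiv.Perm (Fin n)) y.2 hy1 ?_
  rw [Equiv.Perm.isConj_iff_cycleType_eq, Equiv.Perm.cycleType_inv]

end Cfsg.Agent.S2270
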