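import Cfsg.Statements.S2280
import Cfsg.Agent.Helper83.RegUnip6

set_option autoImplicit false
open Cfsg

namespace Cfsg.Agent.S2280

open Cfsg.Agent.Helper83.RegUnip in
/-- Let F be a finite field and n ≥ 3. Then SL_n(F) is generated by three conjugate regular unipotent elements: there are u with u − 1 nilpotent and (u − 1)^(n−1) ≠ 0, and g, h, such that u, g u g⁻¹ and h u h⁻¹ generate SL_n(F). -/
theorem result {F : Type*} [Field F] [Fintype F] (n : ℕ) (hn : 3 ≤ n) :
    ∃ u g h : Matrix.SpecialLinearGroup (Fin n) F, (IsNilpotent ((u : Matrix (Fin n) (Fin n) F) - 1) ∧ ((u : Matrix (Fin n) (Fin n) F) - 1) ^ (n - 1) ≠ 0) ∧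
      Subgroup.closure ({u, g * u * g⁻¹, h * u * h⁻¹} : Set (Matrix.SpecialLinearGroup (Fin n) F)) = ⊤ := by
  obtain ⟨m, rfl⟩ : ∃ m, n = m + 3 := ⟨n - 3, by omega⟩
  -- a generator of the multiplicative group
  obtain ⟨ζ, hζ⟩ := IsCyclic.exists_monoid_generator (α := Fˣ)
  set a : F := (ζ : F) with ha_def
  have ha : a ≠ 0 := ζ.ne_zero
  have hgen : ∀ t : F, t = 0 ∨ ∃ k : ℕ, a ^ k = t := by
    intro t
    by_cases ht : t = 0
    · exact Or.inl ht
    · right
      obtain ⟨k, hk⟩ := (Submonoid.mem_powers_iff _ _).1 (hζ (Units.mk0 t ht))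
      refine ⟨k, ?_⟩
      have := congrArg (fun x : Fˣ => (x : F)) hk
      simpa using this
  set r : F := (-1) ^ m * a with hr
  have hr0 : r ≠ 0 := mul_ne_zero (pow_ne_zero _ (by norm_num)) ha
  have h0 : 0 < m + 3 := by omega
  have h1 : 1 < m + 3 := by omega
  have hK : m + 1 < m + 3 := by omega
  have hL : m + 2 < m + 3 := by omega
  have ne01 : (⟨0, h0⟩ : Fin (m + 3)) ≠ ⟨1, h1⟩ := fin_ne _ _ (by omega)
  have neKL : (⟨m + 1, hK⟩ : Fin (m + 3)) ≠ ⟨m + 2, hL⟩ := fin_ne _ _ (by omega)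
  have ne0K : (⟨0, h0⟩ : Fin (m + 3)) ≠ ⟨m + 1, hK⟩ := fin_ne _ _ (by omega)
  let UW : Matrix.SpecialLinearGroup (Fin (m + 3)) F := ⟨UWm m, UWm_det m⟩
  let u : Matrix.SpecialLinearGroup (Fin (m + 3)) F :=
    Matrix.SpecialLinearGroup.transvection neKL (r - 1) * UW *
      Matrix.SpecialLinearGroup.transvection ne01 a
  have hu : (u : Matrix (Fin (m + 3)) (Fin (m + 3)) F) = Um m a (r - 1) := by
    show ((Matrix.SpecialLinearGroup.transvection neKL (r - 1) * UW *
      Matrix.SpecialLinearGroup.transvection ne01 a : Matrix.SpecialLinearGroup (Fin (m + 3)) F) :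
        Matrix (Fin (m + 3)) (Fin (m + 3)) F) = _
    simp only [Matrix.SpecialLinearGroup.coe_mul, Matrix.SpecialLinearGroup.transvection_coe]
    exact (Um_eq m a (r - 1)).symm
  let g : Matrix.SpecialLinearGroup (Fin (m + 3)) F :=
    Matrix.SpecialLinearGroup.transvection ne0K r⁻¹
  let h : Matrix.SpecialLinearGroup (Fin (m + 3)) F := ⟨hm m a r, hm_det m a ha⟩
  refine ⟨u, g, h, ?_, ?_⟩
  · rw [hu]
    exact Um_regular m a (r - 1) ha (by rw [sub_add_cancel]; exact hr0)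
  · exact closure_eq_top m a ha hgen u g h hu rfl rfl

end Cfsg.Agent.S2280
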