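import Cfsg.Statements.S2289
-- import your own Cfsg.Agent.* helpers here
import Cfsg.Agent.Helper9.SU3P.FinalA
import Cfsg.Agent.Helper84.SU3P.Core
import Cfsg.Agent.Helper84.SU3P.Model
import Cfsg.Agent.Helper86.RU3TR
import Cfsg.Agent.Helper45.GUBasic

set_option autoImplicit false
set_option linter.style.haveILetI false
open Cfsg

namespace Cfsg.Agent.S2289

/-- Let F be a field with q² elements, q ∉ {2, 3, 5}, and SU_3(q), PSU_3(q) the special unitary group of the standard Hermitian form and its central quotient. Then SU_3(q) has a presentation with 3 generators and at most 23 relations, and PSU_3(q) one with 3 generators and at most 24 relations. -/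
theorem result {F : Type*} [Field F] [Fintype F] (q : ℕ) (hF : Fintype.card F = q ^ 2) (h2 : q ≠ 2) (h3 : q ≠ 3) (h5 : q ≠ 5) :
    (∃ rels : Finset (FreeGroup (Fin 3)), rels.card ≤ 23 ∧ Nonempty (PresentedGroup (↑rels : Set (FreeGroup (Fin 3))) ≃* ↥(Cfsg.SU 3 F q))) ∧ (∃ rels : Finset (FreeGroup (Fin 3)), rels.card ≤ 24 ∧ Nonempty (PresentedGroup (↑rels : Set (FreeGroup (Fin 3))) ≃* Cfsg.PSU 3 F q)) := by
  classical
  obtain ⟨bar, hbar⟩ := Cfsg.Agent.Helper45.GU.exists_bar hF
  have hb : ∀ x, bar (bar x) = x := by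
    intro x
    rw [hbar, hbar]
    exact Cfsg.Agent.Helper13.frob_frob hF x
  obtain ⟨φ, -⟩ := Cfsg.Agent.Helper86.RU3.exists_transfer hF bar hbar
  -- the characteristic
  haveI : Fact (ringChar F).Prime := ⟨CharP.char_is_prime F (ringChar F)⟩
  letI : Algebra (ZMod (ringChar F)) F := ZMod.algebra F (ringChar F)
  -- the fixed field
  let K₀ : Subfield F := RingHom.eqLocusField bar (RingHom.id F)
  haveI : Fintype K₀ := Fintype.ofFinite _
  letI : Algebra (ZMod (ringChar F)) K₀ := ZMod.algebra K₀ (ringChar F)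
  let ι : K₀ →+* F := K₀.subtype
  have hι : ∀ y : K₀, bar (ι y) = ι y := fun y => y.2
  have hιfix : ∀ x : F, bar x = x → ∃ y : K₀, ι y = x := fun x hx => ⟨⟨x, hx⟩, rfl⟩
  obtain ⟨d, P, Y2, ⟨M⟩, hPq, hcard⟩ :=
    Cfsg.Agent.Helper84.SU3P.exists_model (p := ringChar F) bar hb ι hF hbar h2 h5 hι hιfix
  exact Cfsg.Agent.Helper9.SU3P.presentations_of_model bar ι φ d P Y2 M hcard
    (Cfsg.Agent.Helper84.SU3P.core_inj bar hb ι hF hbar h2 d P Y2 M hPq)
    (Cfsg.Agent.Helper84.SU3P.model_gen bar hb ι hF hbar h2 d P Y2 M) _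
    (Cfsg.Agent.Helper84.SU3P.model_center bar hb ι hF hbar d P Y2 M)

end Cfsg.Agent.S2289
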