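import Cfsg.Statements.S2290
import Cfsg.Agent.Helper9.PresPSLTwo
import Cfsg.Agent.Helper1.SL3P.MainAll
import Cfsg.Agent.Helper1.SLNP.Main
import Cfsg.Agent.Helper64.AltPres.Main

/-!
# S2290: `PSL_n(q)` on 2 generators and at most 80 relators

* `n = 2`: S2286 (helper9's `psl2_presentation_two`).
* `n = 3`: helper1's `sl3_presentation_all` (`SL_3(q)` on 4 generators, ≤ 18 relators).
* `n ≥ 4`: helper64's `exists_alt_presentation` (`A_n` on ≤ 6 generators and ≤ 28 relators: Carmichael's
  presentation for `n ≤ 7`; for `n ≥ 8` a Bertrand prime `p`, two copies of the affine 3-generator 7-relator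
  presentation of `A_{p+2}` glued with 14 relators) fed into helper1's `sln_presentation_of_alt`
  (`SL_n(q)` from `SL_2(q)`, the cross relations of `SL_3(q)` and `A_n`: + 39 relators).
* centre and reduction to two generators: helper9's `s2290_of_sl` (Tietze transformations, + 3 relators).
-/

set_option autoImplicit false
open Cfsg

namespace Cfsg.Agent.S2290

/-- For every finite field F with q elements and n ≥ 2, with q ≥ 4 when n = 2, the simple group PSL_n(F) has a presentation with 2 generators and at most 80 relations. -/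
theorem result {F : Type*} [Field F] [Fintype F] (n : ℕ) (hn : 2 ≤ n) (h2 : n = 2 → 4 ≤ Fintype.card F) :
    ∃ rels : Finset (FreeGroup (Fin 2)), rels.card ≤ 80 ∧ Nonempty (PresentedGroup (↑rels : Set (FreeGroup (Fin 2))) ≃* Matrix.ProjectiveSpecialLinearGroup (Fin n) F) := by
  apply Cfsg.Agent.Helper9.PresTietze.s2290_of_sl n hn h2
  intro h3
  rcases Nat.eq_or_lt_of_le h3 with h | h
  · subst h
    obtain ⟨rels, hc, hne⟩ := Cfsg.Agent.Helper1.SL3P.sl3_presentation_all (F := F)
    exact ⟨Fin 4, rels, by omega, hne⟩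
  · obtain ⟨m, rfl⟩ : ∃ m, n = m + 4 := ⟨n - 4, by omega⟩
    obtain ⟨k, relsA, hcA, hA⟩ :=
      Cfsg.Agent.Helper64.AltPres.exists_alt_presentation (m + 4) (by omega)
    obtain ⟨rels, hc, hne⟩ :=
      Cfsg.Agent.Helper1.SLNP.sln_presentation_of_alt (F := F) m k relsA hA
    exact ⟨Fin (3 + k), rels, by omega, hne⟩

end Cfsg.Agent.S2290
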