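import Cfsg.Statements.S2292
import Cfsg.Agent.Helper9.PresPSp
import Cfsg.Agent.Helper9.PSpA.Asm
import Cfsg.Agent.Helper9.PSp3.Asm3

/-!
# S2292: `PSp_2m(q)` has a presentation with 2 generators and at most 80 relators

Team proof (row owner / architect helper15).  `Sp_2m(K)` is presented as `Sp₄(K) ∗ A_m` (`m ≥ 4`) resp. `Sp₄(K) ∗ S₃`
(`m = 3`) modulo at most 18 cross relators; `m = 2` is S2293.
* CORE (helper15 + farm): the Steinberg relations of type `C_m` for the family `XC`; recognition by helper96's
  Steinberg presentation of `Sp_2m` (`StC.phi_injective`), generation by helper62's `StCG`.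
* W-part (helper1 + farm), model block (helper64 + farm), presentation of `A_n` with `≤ 25` relators (helper64).
* assembly, the case `m = 3`, the passage `Sp → PSp` and to two generators (helper9 + farm #14045: helper22, helper41,
  helper65, helper89, helper93).
-/

set_option autoImplicit false
open Cfsg

namespace Cfsg.Agent.S2292

/-- Let F be a finite field with q elements and m ≥ 2 with (m, q) ≠ (2, 2). Then the simple group PSp_2m(F) has a presentation with 2 generators and at most 80 relations. -/
theorem result {F : Type*} [Field F] [Fintype F] (m : ℕ) (hm : 2 ≤ m) (h22 : ¬ (m = 2 ∧ Fintype.card F = 2)) :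
    ∃ rels : Finset (FreeGroup (Fin 2)), rels.card ≤ 80 ∧ Nonempty (PresentedGroup (↑rels : Set (FreeGroup (Fin 2))) ≃* Cfsg.PSp m F) := by
  refine Cfsg.Agent.Helper9.PresPSp.s2292_of_sp3 m hm h22 (fun h3 => ?_)
  rcases Nat.lt_or_ge m 4 with h4 | h4
  · have h : m = 3 := by omega
    subst h
    exact Cfsg.Agent.Helper9.PSp3.sp6_presentation F
  · obtain ⟨k, rfl⟩ := Nat.exists_eq_add_of_le' h4
    exact Cfsg.Agent.Helper9.PSpA.sp_presentation_n4 F k

end Cfsg.Agent.S2292
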