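import Cfsg.Statements.S2301
import Cfsg.Agent.Helper38.SL2
-- import your own Cfsg.Agent.* helpers here

set_option autoImplicit false
open Cfsg

namespace Cfsg.Agent.S2301

open Cfsg.Agent.Helper38

theorem isSquare_mul_of_not {F : Type*} [Field F] [Fintype F] (a b : F)
    (ha : ¬ IsSquare a) (hb : ¬ IsSquare b) : IsSquare (a * b) := by
  classical
  have ha0 : a ≠ 0 := by rintro rfl; exact ha (IsSquare.zero)
  have hb0 : b ≠ 0 := by rintro rfl; exact hb (IsSquare.zero)
  rw [← quadraticChar_one_iff_isSquare (mul_ne_zero ha0 hb0), map_mul,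
    (quadraticChar_neg_one_iff_not_isSquare).2 ha, (quadraticChar_neg_one_iff_not_isSquare).2 hb]
  norm_num

theorem card_pair {α : Type*} (A B : α) (hAB : A ≠ B) (P : α → Prop)
    (hP : ∀ C, P C ↔ C = A ∨ C = B) : Nat.card {C : α // P C} = 2 := by
  classical
  have e : {C : α // P C} ≃ Bool :=
    { toFun := fun C => decide (C.1 = A)
      invFun := fun b => if b then ⟨A, (hP A).2 (Or.inl rfl)⟩ else ⟨B, (hP B).2 (Or.inr rfl)⟩
      left_inv := by
        rintro ⟨C, hC⟩
        rcases (hP C).1 hC with h | h
        · subst h; simp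
        · subst h
          have : ¬ (C = A) := fun h => hAB h.symm
          simp [this]
      right_inv := by
        intro b
        cases b
        · have : ¬ (B = A) := fun h => hAB h.symm
          simp [this]
        · simp }
  rw [Nat.card_congr e]; simp

/-- Over a finite field with q elements of odd characteristic p, the elements of order p of SL₂ (the non-identity unipotent elements) fall into exactly two conjugacy classes, each of size (q² − 1)/2; two upper unitriangular matrices with non-zero off-diagonal entries b and b′ are conjugate exactly when bb′ is a square. -/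
theorem result {F : Type*} [Field F] [Fintype F] (p : ℕ) [Fact p.Prime] [CharP F p] (hp : p ≠ 2) :
    Nat.card {C : ConjClasses (Matrix.SpecialLinearGroup (Fin 2) F) // ∃ g : Matrix.SpecialLinearGroup (Fin 2) F, orderOf g = p ∧ ConjClasses.mk g = C} = 2 ∧
    (∀ g : Matrix.SpecialLinearGroup (Fin 2) F, orderOf g = p → Nat.card (ConjClasses.mk g).carrier = (Fintype.card F ^ 2 - 1) / 2) ∧
    ∀ g h : Matrix.SpecialLinearGroup (Fin 2) F, (g : Matrix (Fin 2) (Fin 2) F) 0 0 = 1 → (g : Matrix (Fin 2) (Fin 2) F) 1 1 = 1 → (g : Matrix (Fin 2) (Fin 2) F) 1 0 = 0 → (g : Matrix (Fin 2) (Fin 2) F) 0 1 ≠ 0 →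
      (h : Matrix (Fin 2) (Fin 2) F) 0 0 = 1 → (h : Matrix (Fin 2) (Fin 2) F) 1 1 = 1 → (h : Matrix (Fin 2) (Fin 2) F) 1 0 = 0 → (h : Matrix (Fin 2) (Fin 2) F) 0 1 ≠ 0 →
      (IsConj g h ↔ IsSquare ((g : Matrix (Fin 2) (Fin 2) F) 0 1 * (h : Matrix (Fin 2) (Fin 2) F) 0 1)) := by
  have hpp : p.Prime := Fact.out
  have h2 : (2 : F) ≠ 0 := by
    intro h
    have h' : ((2 : ℕ) : F) = 0 := by exact_mod_cast h
    rw [CharP.cast_eq_zero_iff F p 2] at h'
    exact hp ((Nat.prime_dvd_prime_iff_eq hpp Nat.prime_two).1 h')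
  have hchar : ringChar F ≠ 2 := by rw [ringChar.eq F p]; exact hp
  -- every element of order p is conjugate to a nontrivial upper unitriangular element
  have key : ∀ x : Matrix.SpecialLinearGroup (Fin 2) F, orderOf x = p →
      ∃ b : F, b ≠ 0 ∧ IsConj (upper b) x := by
    intro x hx
    have hxp : x ^ p = 1 := by
      have := pow_orderOf_eq_one x
      rwa [hx] at this
    have hx1 : x ≠ 1 := by
      intro h1; rw [h1, orderOf_one] at hx; exact hpp.one_lt.ne hx
    exact exists_conj_upper x (trace_eq_two_of_pow_char p x hxp) hx1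
  obtain ⟨ε, hε⟩ := FiniteField.exists_nonsquare hchar
  have hε0 : ε ≠ 0 := by rintro rfl; exact hε IsSquare.zero
  refine ⟨?_, ?_, ?_⟩
  · -- exactly two classes
    apply card_pair (ConjClasses.mk (upper (1 : F))) (ConjClasses.mk (upper ε))
    · intro h
      rw [ConjClasses.mk_eq_mk_iff_isConj, isConj_upper_iff one_ne_zero hε0, one_mul] at h
      exact hε h
    · intro C
      constructor
      · rintro ⟨g, hg, rfl⟩
        obtain ⟨b, hb, hgb⟩ := key g hg
        by_cases hsq : IsSquare b
        · left
          rw [ConjClasses.mk_eq_mk_iff_isConj]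
          refine hgb.symm.trans ((isConj_upper_iff hb one_ne_zero).2 ?_)
          rwa [mul_one]
        · right
          rw [ConjClasses.mk_eq_mk_iff_isConj]
          exact hgb.symm.trans ((isConj_upper_iff hb hε0).2 (isSquare_mul_of_not b ε hsq hε))
      · rintro (rfl | rfl)
        · exact ⟨upper 1, orderOf_upper p one_ne_zero, rfl⟩
        · exact ⟨upper ε, orderOf_upper p hε0, rfl⟩
  · -- class sizes
    intro g hg
    obtain ⟨b, hb, hgb⟩ := key g hg
    have hmk : ConjClasses.mk g = ConjClasses.mk (upper b) :=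
      (ConjClasses.mk_eq_mk_iff_isConj.2 hgb).symm
    rw [hmk]
    have h1 := class_mul_cent (upper b)
    rw [card_centralizer_upper hb, card_sq_eq_one_of_two_ne_zero h2,
      Cfsg.Agent.Helper5.card_SL2] at h1
    -- h1 : card * (2 * q) = q * (q^2 - 1)
    have hq : 0 < Fintype.card F := Fintype.card_pos
    have h3 : Nat.card (ConjClasses.mk (upper b)).carrier * 2 = Fintype.card F ^ 2 - 1 := by
      have : (Nat.card (ConjClasses.mk (upper b)).carrier * 2) * Fintype.card F
          = (Fintype.card F ^ 2 - 1) * Fintype.card F := by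
        rw [mul_assoc, h1, mul_comm]
      exact Nat.eq_of_mul_eq_mul_right hq this
    rw [← h3, Nat.mul_div_cancel _ (by norm_num)]
  · intro g h g00 g11 g10 g01 h00 h11 h10 h01
    have hg : g = upper ((g : Matrix (Fin 2) (Fin 2) F) 0 1) := by
      apply sl_ext <;> simp [g00, g11, g10]
    have hh : h = upper ((h : Matrix (Fin 2) (Fin 2) F) 0 1) := by
      apply sl_ext <;> simp [h00, h11, h10]
    rw [← isConj_upper_iff g01 h01, ← hg, ← hh]

end Cfsg.Agent.S2301
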