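import Cfsg.Statements.S2302
import Cfsg.Agent.Helper38.SL2
-- import your own Cfsg.Agent.* helpers here

set_option autoImplicit false
open Cfsg

namespace Cfsg.Agent.S2302

open Cfsg.Agent.Helper38

/-- Over a finite field with q elements of characteristic 2, the involutions of SL₂ (the non-identity unipotent elements) form a single conjugacy class, of size q² − 1. -/
theorem result {F : Type*} [Field F] [Fintype F] [CharP F 2] (g h : Matrix.SpecialLinearGroup (Fin 2) F) (hg : orderOf g = 2) (hh : orderOf h = 2) :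
    IsConj g h ∧ Nat.card (ConjClasses.mk g).carrier = Fintype.card F ^ 2 - 1 := by
  have : Fact (Nat.Prime 2) := ⟨Nat.prime_two⟩
  have h2 : (2 : F) = 0 := by
    have := CharP.cast_eq_zero F 2
    exact_mod_cast this
  have key : ∀ x : Matrix.SpecialLinearGroup (Fin 2) F, orderOf x = 2 →
      ∃ b : F, b ≠ 0 ∧ IsConj (upper b) x := by
    intro x hx
    have hx2 : x ^ 2 = 1 := by
      have := pow_orderOf_eq_one x
      rwa [hx] at this
    have hx1 : x ≠ 1 := by
      intro h1; rw [h1, orderOf_one] at hx; omega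
    exact exists_conj_upper x (trace_eq_two_of_pow_char 2 x hx2) hx1
  obtain ⟨b, hb, hgb⟩ := key g hg
  obtain ⟨b', hb', hhb⟩ := key h hh
  have hbb : IsConj (upper b) (upper b') :=
    (isConj_upper_iff hb hb').2 (FiniteField.isSquare_of_char_two (ringChar.eq F 2) _)
  refine ⟨hgb.symm.trans (hbb.trans hhb), ?_⟩
  have hmk : ConjClasses.mk g = ConjClasses.mk (upper b) :=
    (ConjClasses.mk_eq_mk_iff_isConj.2 hgb).symm
  rw [hmk]
  have h1 := class_mul_cent (upper b)
  rw [card_centralizer_upper hb, card_sq_eq_one_of_two_eq_zero h2, one_mul,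
    Cfsg.Agent.Helper5.card_SL2, mul_comm (Fintype.card F)] at h1
  exact Nat.eq_of_mul_eq_mul_right Fintype.card_pos h1

end Cfsg.Agent.S2302
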