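import Cfsg.Statements.S2303
-- import your own Cfsg.Agent.* helpers here

set_option autoImplicit false
open Cfsg

namespace Cfsg.Agent.S2303

open Matrix

/-- commuting in `GL` iff commuting as matrices -/
theorem mem_cent_iff {F : Type*} [Field F] (g h : GL (Fin 2) F) :
    h ∈ Subgroup.centralizer ({g} : Set (GL (Fin 2) F)) ↔
      (h : Matrix (Fin 2) (Fin 2) F) * (g : Matrix (Fin 2) (Fin 2) F)
        = (g : Matrix (Fin 2) (Fin 2) F) * (h : Matrix (Fin 2) (Fin 2) F) := by
  rw [Subgroup.mem_centralizer_singleton_iff]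
  constructor
  · intro e
    have := congrArg (fun u : GL (Fin 2) F => (u : Matrix (Fin 2) (Fin 2) F)) e
    simpa using this
  · intro e
    apply Units.ext
    simpa using e

/-- the diagonal matrix with unit entries -/
noncomputable def diagGL {F : Type*} [Field F] (p : Fˣ × Fˣ) : GL (Fin 2) F :=
  Matrix.GeneralLinearGroup.mkOfDetNeZero !![(p.1 : F), 0; 0, (p.2 : F)] (by
    simp [Matrix.det_fin_two])

theorem part1 {F : Type*} [Field F] [Fintype F] (g : GL (Fin 2) F)
    (h01 : (g : Matrix (Fin 2) (Fin 2) F) 0 1 = 0) (h10 : (g : Matrix (Fin 2) (Fin 2) F) 1 0 = 0)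
    (hne : (g : Matrix (Fin 2) (Fin 2) F) 0 0 ≠ (g : Matrix (Fin 2) (Fin 2) F) 1 1) :
    Nat.card (Subgroup.centralizer ({g} : Set (GL (Fin 2) F))) = (Fintype.card F - 1) ^ 2 := by
  classical
  have hg : (g : Matrix (Fin 2) (Fin 2) F) =
      !![(g : Matrix (Fin 2) (Fin 2) F) 0 0, 0; 0, (g : Matrix (Fin 2) (Fin 2) F) 1 1] := by
    ext i j; fin_cases i <;> fin_cases j <;> simp [h01, h10]
  set a := (g : Matrix (Fin 2) (Fin 2) F) 0 0 with ha
  set d := (g : Matrix (Fin 2) (Fin 2) F) 1 1 with hd
  have hinj : Function.Injective (diagGL (F := F)) := by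
    intro p q hpq
    have h := congrArg (fun u : GL (Fin 2) F => (u : Matrix (Fin 2) (Fin 2) F)) hpq
    simp only [diagGL, Matrix.GeneralLinearGroup.mkOfDetNeZero] at h
    have h0 := congrFun (congrFun h 0) 0
    have h1 := congrFun (congrFun h 1) 1
    simp at h0 h1
    exact Prod.ext (Units.ext h0) (Units.ext h1)
  have hmem : ∀ h : GL (Fin 2) F,
      h ∈ Subgroup.centralizer ({g} : Set (GL (Fin 2) F)) ↔ h ∈ Set.range (diagGL (F := F)) := by
    intro h
    rw [mem_cent_iff, hg]
    constructor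
    · intro e
      have e01 := congrFun (congrFun e 0) 1
      have e10 := congrFun (congrFun e 1) 0
      simp [Matrix.mul_apply, Fin.sum_univ_two] at e01 e10
      have hh01 : (h : Matrix (Fin 2) (Fin 2) F) 0 1 = 0 := by
        have : (h : Matrix (Fin 2) (Fin 2) F) 0 1 * (d - a) = 0 := by rw [mul_sub, e01]; ring
        rcases mul_eq_zero.1 this with h | h
        · exact h
        · exact absurd (sub_eq_zero.1 h).symm hne
      have hh10 : (h : Matrix (Fin 2) (Fin 2) F) 1 0 = 0 := by
        have : (h : Matrix (Fin 2) (Fin 2) F) 1 0 * (a - d) = 0 := by rw [mul_sub, e10]; ring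
        rcases mul_eq_zero.1 this with h | h
        · exact h
        · exact absurd (sub_eq_zero.1 h) hne
      have hdet : (h : Matrix (Fin 2) (Fin 2) F).det ≠ 0 := by
        have := (Matrix.GeneralLinearGroup.det h).ne_zero
        simpa using this
      rw [Matrix.det_fin_two, hh01, hh10] at hdet
      simp only [mul_zero, sub_zero] at hdet
      have h00 : (h : Matrix (Fin 2) (Fin 2) F) 0 0 ≠ 0 := left_ne_zero_of_mul hdet
      have h11 : (h : Matrix (Fin 2) (Fin 2) F) 1 1 ≠ 0 := right_ne_zero_of_mul hdet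
      refine ⟨(Units.mk0 _ h00, Units.mk0 _ h11), ?_⟩
      apply Matrix.GeneralLinearGroup.ext
      intro i j
      fin_cases i <;> fin_cases j <;>
        simp [diagGL, Matrix.GeneralLinearGroup.mkOfDetNeZero, hh01, hh10]
    · rintro ⟨p, rfl⟩
      ext i j
      fin_cases i <;> fin_cases j <;>
        simp [diagGL, Matrix.GeneralLinearGroup.mkOfDetNeZero, Matrix.mul_apply, Fin.sum_univ_two, mul_comm]
  rw [Nat.card_congr (Equiv.subtypeEquivRight hmem),
    Nat.card_congr (Equiv.ofInjective _ hinj).symm, Nat.card_eq_fintype_card,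
    Fintype.card_prod, Fintype.card_units, pow_two]

/-- the matrix `x + y g` -/
noncomputable def linGL {F : Type*} [Field F] (g : GL (Fin 2) F)
    (hg : ∀ (c : F) (v : Fin 2 → F), v ≠ 0 → (g : Matrix (Fin 2) (Fin 2) F).mulVec v ≠ c • v)
    (p : {p : F × F // p ≠ 0}) : GL (Fin 2) F :=
  Matrix.GeneralLinearGroup.mkOfDetNeZero
    (p.1.1 • (1 : Matrix (Fin 2) (Fin 2) F) + p.1.2 • (g : Matrix (Fin 2) (Fin 2) F)) (by
    intro hdet
    obtain ⟨v, hv, hmv⟩ := Matrix.exists_mulVec_eq_zero_iff.2 hdet
    rw [Matrix.add_mulVec, Matrix.smul_mulVec, Matrix.smul_mulVec, Matrix.one_mulVec] at hmv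
    by_cases hy : p.1.2 = 0
    · rw [hy, zero_smul, add_zero] at hmv
      have hx : p.1.1 = 0 := by
        rcases smul_eq_zero.1 hmv with h | h
        · exact h
        · exact absurd h hv
      exact p.2 (Prod.ext hx hy)
    · apply hg (-(p.1.1 / p.1.2)) v hv
      have : (g : Matrix (Fin 2) (Fin 2) F).mulVec v = (p.1.2)⁻¹ • (p.1.2 • (g : Matrix (Fin 2) (Fin 2) F).mulVec v) := by
        rw [smul_smul, inv_mul_cancel₀ hy, one_smul]
      rw [this, eq_neg_of_add_eq_zero_right hmv, smul_neg, smul_smul, neg_smul]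
      congr 2
      field_simp)

theorem part2 {F : Type*} [Field F] [Fintype F] (g : GL (Fin 2) F)
    (hg : ∀ (c : F) (v : Fin 2 → F), v ≠ 0 → (g : Matrix (Fin 2) (Fin 2) F).mulVec v ≠ c • v) :
    Nat.card (Subgroup.centralizer ({g} : Set (GL (Fin 2) F))) = Fintype.card F ^ 2 - 1 := by
  classical
  -- g 1 0 ≠ 0
  have hc : (g : Matrix (Fin 2) (Fin 2) F) 1 0 ≠ 0 := by
    intro h0
    apply hg ((g : Matrix (Fin 2) (Fin 2) F) 0 0) ![1, 0] (by
      intro h; have := congrFun h 0; simp at this)
    ext i; fin_cases i <;> simp [Matrix.mulVec, dotProduct, Fin.sum_univ_two, h0]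
  have hinj : Function.Injective (linGL g hg) := by
    intro p q hpq
    have h := congrArg (fun u : GL (Fin 2) F => (u : Matrix (Fin 2) (Fin 2) F)) hpq
    simp only [linGL, Matrix.GeneralLinearGroup.mkOfDetNeZero] at h
    have h10 := congrFun (congrFun h 1) 0
    have h00 := congrFun (congrFun h 0) 0
    simp at h10 h00
    have hy : p.1.2 = q.1.2 := by
      rcases h10 with h | h
      · exact h
      · exact absurd h hc
    rw [hy] at h00
    have hx : p.1.1 = q.1.1 := by simpa using h00
    exact Subtype.ext (Prod.ext hx hy)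
  have hmem : ∀ h : GL (Fin 2) F,
      h ∈ Subgroup.centralizer ({g} : Set (GL (Fin 2) F)) ↔ h ∈ Set.range (linGL g hg) := by
    intro h
    rw [mem_cent_iff]
    constructor
    · intro e
      have e00 := congrFun (congrFun e 0) 0
      have e10 := congrFun (congrFun e 1) 0
      simp [Matrix.mul_apply, Fin.sum_univ_two] at e00 e10
      set y := (h : Matrix (Fin 2) (Fin 2) F) 1 0 / (g : Matrix (Fin 2) (Fin 2) F) 1 0 with hy
      set x := (h : Matrix (Fin 2) (Fin 2) F) 0 0 - y * (g : Matrix (Fin 2) (Fin 2) F) 0 0 with hx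
      have hxy : (x, y) ≠ (0 : F × F) := by
        intro hz
        have hx0 : x = 0 := congrArg Prod.fst hz
        have hy0 : y = 0 := congrArg Prod.snd hz
        have h10 : (h : Matrix (Fin 2) (Fin 2) F) 1 0 = 0 := by
          rw [hy, div_eq_zero_iff] at hy0
          rcases hy0 with h | h
          · exact h
          · exact absurd h hc
        have h00 : (h : Matrix (Fin 2) (Fin 2) F) 0 0 = 0 := by
          rw [hx, hy0, zero_mul, sub_zero] at hx0; exact hx0
        have hdet : (h : Matrix (Fin 2) (Fin 2) F).det ≠ 0 := by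
          have := (Matrix.GeneralLinearGroup.det h).ne_zero
          simpa using this
        rw [Matrix.det_fin_two, h00, h10] at hdet
        simp at hdet
      refine ⟨⟨(x, y), hxy⟩, ?_⟩
      apply Matrix.GeneralLinearGroup.ext
      intro i j
      fin_cases i <;> fin_cases j <;>
        simp [linGL, Matrix.GeneralLinearGroup.mkOfDetNeZero, hx, hy]
      · field_simp
        linear_combination (-1 : F) * e00
      · field_simp
      · field_simp
        linear_combination (-1 : F) * e10
    · rintro ⟨p, rfl⟩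
      simp only [linGL, Matrix.GeneralLinearGroup.mkOfDetNeZero]
      change (p.1.1 • (1 : Matrix (Fin 2) (Fin 2) F) + p.1.2 • (g : Matrix (Fin 2) (Fin 2) F)) * (g : Matrix (Fin 2) (Fin 2) F) = (g : Matrix (Fin 2) (Fin 2) F) * (p.1.1 • (1 : Matrix (Fin 2) (Fin 2) F) + p.1.2 • (g : Matrix (Fin 2) (Fin 2) F))
      rw [add_mul, mul_add]
      simp
  rw [Nat.card_congr (Equiv.subtypeEquivRight hmem),
    Nat.card_congr (Equiv.ofInjective _ hinj).symm, Nat.card_eq_fintype_card,
    Fintype.card_subtype_compl, Fintype.card_prod]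
  simp [pow_two]

/-- Over a finite field with q elements: a diagonal element of GL₂ with two distinct diagonal entries has centralizer of order (q − 1)² (so q(q + 1) conjugates), and an element of GL₂ with no eigenvector in F² has centralizer of order q² − 1 (so q(q − 1) conjugates). -/
theorem result {F : Type*} [Field F] [Fintype F] (g : Matrix.GeneralLinearGroup (Fin 2) F) :
    ((g : Matrix (Fin 2) (Fin 2) F) 0 1 = 0 → (g : Matrix (Fin 2) (Fin 2) F) 1 0 = 0 → (g : Matrix (Fin 2) (Fin 2) F) 0 0 ≠ (g : Matrix (Fin 2) (Fin 2) F) 1 1 →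
      Nat.card (Subgroup.centralizer ({g} : Set (Matrix.GeneralLinearGroup (Fin 2) F))) = (Fintype.card F - 1) ^ 2) ∧
    ((∀ (c : F) (v : Fin 2 → F), v ≠ 0 → (g : Matrix (Fin 2) (Fin 2) F).mulVec v ≠ c • v) →
      Nat.card (Subgroup.centralizer ({g} : Set (Matrix.GeneralLinearGroup (Fin 2) F))) = Fintype.card F ^ 2 - 1) :=
  ⟨part1 g, part2 g⟩

end Cfsg.Agent.S2303
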