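import Cfsg.Statements.S2304
import Cfsg.Agent.Helper38.MackeyIrr

set_option autoImplicit false
open Cfsg

namespace Cfsg.Agent.S2304

open Matrix

section
variable {F : Type*} [Field F]

theorem mem_B_iff (g : GL (Fin 2) F) :
    g ∈ upperTriangularGL 2 F ↔ (g : Matrix (Fin 2) (Fin 2) F) 1 0 = 0 := by
  change (g : Matrix (Fin 2) (Fin 2) F).BlockTriangular id ↔ _
  constructor
  · intro h
    exact h (by decide : (id (0 : Fin 2)) < id 1)
  · intro h i j hij
    fin_cases i <;> fin_cases j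
    · exact absurd hij (by decide)
    · exact absurd hij (by decide)
    · exact h
    · exact absurd hij (by decide)

/-- the linear character of the Borel subgroup -/
noncomputable def θhom (α β : MulChar F ℂ) : upperTriangularGL 2 F →* ℂ where
  toFun b := α (((b : GL (Fin 2) F) : Matrix (Fin 2) (Fin 2) F) 0 0) *
    β (((b : GL (Fin 2) F) : Matrix (Fin 2) (Fin 2) F) 1 1)
  map_one' := by simp
  map_mul' := by
    intro a b
    have ha := (mem_B_iff a.1).1 a.2
    have hb := (mem_B_iff b.1).1 b.2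
    simp only [Subgroup.coe_mul, Units.val_mul, Matrix.mul_apply, Fin.sum_univ_two, ha, hb,
      mul_zero, zero_mul, add_zero, zero_add, map_mul]
    ring

end

/-- Over a finite field F with q elements, for multiplicative characters α ≠ β of F, the function induced to GL₂ from the linear character b ↦ α(b₁₁) β(b₂₂) of the upper triangular subgroup B is an irreducible character (of degree q + 1). -/
theorem result {F : Type*} [Field F] [Fintype F] [DecidableEq F] (α β : MulChar F ℂ) (hαβ : α ≠ β) :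
    Cfsg.IsIrrCharacter (Matrix.GeneralLinearGroup (Fin 2) F) (Cfsg.indFun (Cfsg.upperTriangularGL 2 F) (fun b => α (((b : Matrix.GeneralLinearGroup (Fin 2) F) : Matrix (Fin 2) (Fin 2) F) 0 0) * β (((b : Matrix.GeneralLinearGroup (Fin 2) F) : Matrix (Fin 2) (Fin 2) F) 1 1))) := by
  have main := Cfsg.Agent.Helper38.isIrr_indFun_of_mackey (upperTriangularGL 2 F) (θhom α β) ?_
  · exact main
  intro x hx
  rw [mem_B_iff] at hx
  -- a unit separating α and β
  obtain ⟨t, ht⟩ : ∃ t : Fˣ, α t ≠ β t := by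
    by_contra hcon
    push Not at hcon
    exact hαβ (MulChar.ext hcon)
  set X : Matrix (Fin 2) (Fin 2) F := (x : Matrix (Fin 2) (Fin 2) F) with hX
  set c := X 1 0 with hc
  have ht0 : (t : F) ≠ 0 := t.ne_zero
  have hd0 : (!![(t : F), X 0 0 * (1 - t) / c; 0, 1] : Matrix (Fin 2) (Fin 2) F).det ≠ 0 := by
    rw [Matrix.det_fin_two_of]; simp [ht0]
  have hd1 : (!![1, X 1 1 * (1 - t) / c; 0, (t : F)] : Matrix (Fin 2) (Fin 2) F).det ≠ 0 := by
    rw [Matrix.det_fin_two_of]; simp [ht0]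
  set b₀ : GL (Fin 2) F := Matrix.GeneralLinearGroup.mkOfDetNeZero _ hd0 with hb₀
  set b₁ : GL (Fin 2) F := Matrix.GeneralLinearGroup.mkOfDetNeZero _ hd1 with hb₁
  have hb₀c : (b₀ : Matrix (Fin 2) (Fin 2) F) = !![(t : F), X 0 0 * (1 - t) / c; 0, 1] := rfl
  have hb₁c : (b₁ : Matrix (Fin 2) (Fin 2) F) = !![1, X 1 1 * (1 - t) / c; 0, (t : F)] := rfl
  have hb₀mem : b₀ ∈ upperTriangularGL 2 F := by
    rw [mem_B_iff, hb₀c]; rfl
  have hb₁mem : b₁ ∈ upperTriangularGL 2 F := by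
    rw [mem_B_iff, hb₁c]; rfl
  have key : x⁻¹ * b₀ * x = b₁ := by
    rw [mul_assoc, inv_mul_eq_iff_eq_mul]
    apply Units.ext
    rw [Units.val_mul, Units.val_mul]
    change (b₀ : Matrix (Fin 2) (Fin 2) F) * X = X * (b₁ : Matrix (Fin 2) (Fin 2) F)
    rw [hb₀c, hb₁c, Matrix.eta_fin_two X]
    ext i j
    fin_cases i <;> fin_cases j <;>
      simp [Matrix.mul_apply, Fin.sum_univ_two] <;> field_simp <;> ring
  refine ⟨⟨b₀, hb₀mem⟩, key ▸ hb₁mem, ?_⟩
  have e : (⟨x⁻¹ * b₀ * x, key ▸ hb₁mem⟩ : upperTriangularGL 2 F) = ⟨b₁, hb₁mem⟩ :=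
    Subtype.ext key
  rw [e]
  change α ((b₀ : Matrix (Fin 2) (Fin 2) F) 0 0) * β ((b₀ : Matrix (Fin 2) (Fin 2) F) 1 1) ≠
    α ((b₁ : Matrix (Fin 2) (Fin 2) F) 0 0) * β ((b₁ : Matrix (Fin 2) (Fin 2) F) 1 1)
  rw [hb₀c, hb₁c]
  simpa using ht

end Cfsg.Agent.S2304
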