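import Cfsg.Statements.S2305
import Cfsg.Agent.Helper39.GL2Cosets

set_option autoImplicit false
open Cfsg

namespace Cfsg.Agent.S2305

open Matrix Cfsg.Agent.Helper39

variable {F : Type*} [Field F] [Fintype F] [DecidableEq F]

/-- The linear character `b ↦ α(b₀₀) β(b₁₁)` of the upper triangular subgroup. -/
noncomputable def theta (α β : MulChar F ℂ) : Cfsg.upperTriangularGL 2 F → ℂ :=
  fun b => α (((b : Matrix.GeneralLinearGroup (Fin 2) F) : Matrix (Fin 2) (Fin 2) F) 0 0) *
    β (((b : Matrix.GeneralLinearGroup (Fin 2) F) : Matrix (Fin 2) (Fin 2) F) 1 1)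

omit [Fintype F] [DecidableEq F] in
theorem theta_mul (α β : MulChar F ℂ) (b b' : Cfsg.upperTriangularGL 2 F) :
    theta α β (b * b') = theta α β b * theta α β b' := by
  have hb : ((b : GL (Fin 2) F) : Matrix (Fin 2) (Fin 2) F) 1 0 = 0 :=
    (mem_upperTriangularGL_two _).mp b.2
  have hb' : ((b' : GL (Fin 2) F) : Matrix (Fin 2) (Fin 2) F) 1 0 = 0 :=
    (mem_upperTriangularGL_two _).mp b'.2
  unfold theta
  have e00 : (((b * b' : Cfsg.upperTriangularGL 2 F) : GL (Fin 2) F) :
      Matrix (Fin 2) (Fin 2) F) 0 0 =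
      ((b : GL (Fin 2) F) : Matrix (Fin 2) (Fin 2) F) 0 0 *
        ((b' : GL (Fin 2) F) : Matrix (Fin 2) (Fin 2) F) 0 0 := by
    rw [Subgroup.coe_mul, Units.val_mul, Matrix.mul_apply, Fin.sum_univ_two, hb', mul_zero,
      add_zero]
  have e11 : (((b * b' : Cfsg.upperTriangularGL 2 F) : GL (Fin 2) F) :
      Matrix (Fin 2) (Fin 2) F) 1 1 =
      ((b : GL (Fin 2) F) : Matrix (Fin 2) (Fin 2) F) 1 1 *
        ((b' : GL (Fin 2) F) : Matrix (Fin 2) (Fin 2) F) 1 1 := by
    rw [Subgroup.coe_mul, Units.val_mul, Matrix.mul_apply, Fin.sum_univ_two, hb, zero_mul,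
      zero_add]
  rw [e00, e11, map_mul, map_mul]
  ring

omit [Fintype F] [DecidableEq F] in
theorem theta_ne_zero (α β : MulChar F ℂ) (b : Cfsg.upperTriangularGL 2 F) :
    theta α β b ≠ 0 := by
  have hb : ((b : GL (Fin 2) F) : Matrix (Fin 2) (Fin 2) F) 1 0 = 0 :=
    (mem_upperTriangularGL_two _).mp b.2
  have hdet : ((b : GL (Fin 2) F) : Matrix (Fin 2) (Fin 2) F).det ≠ 0 :=
    Matrix.GeneralLinearGroup.det_ne_zero _
  rw [Matrix.det_fin_two, hb, mul_zero, sub_zero] at hdet
  have h0 : ((b : GL (Fin 2) F) : Matrix (Fin 2) (Fin 2) F) 0 0 ≠ 0 := left_ne_zero_of_mul hdet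
  have h1 : ((b : GL (Fin 2) F) : Matrix (Fin 2) (Fin 2) F) 1 1 ≠ 0 := right_ne_zero_of_mul hdet
  unfold theta
  apply mul_ne_zero
  · exact (IsUnit.map α (isUnit_iff_ne_zero.mpr h0)).ne_zero
  · exact (IsUnit.map β (isUnit_iff_ne_zero.mpr h1)).ne_zero

omit [Fintype F] [DecidableEq F] in
theorem theta_conj (α β : MulChar F ℂ) (b y : Cfsg.upperTriangularGL 2 F) :
    theta α β (b⁻¹ * y * b) = theta α β y := by
  have e : b * (b⁻¹ * y * b) = y * b := by group
  have h : theta α β b * theta α β (b⁻¹ * y * b) = theta α β b * theta α β y := by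
    rw [← theta_mul, e, theta_mul, mul_comm]
  exact mul_left_cancel₀ (theta_ne_zero α β b) h

/-- The explicit value of the induced function. -/
noncomputable def indVal (α β : MulChar F ℂ) (g : GL (Fin 2) F) : ℂ :=
  (if (g : Matrix (Fin 2) (Fin 2) F) 1 0 = 0 then
      α ((g : Matrix (Fin 2) (Fin 2) F) 0 0) * β ((g : Matrix (Fin 2) (Fin 2) F) 1 1) else 0) +
    ∑ c : F, if (g : Matrix (Fin 2) (Fin 2) F) 0 0 * c + (g : Matrix (Fin 2) (Fin 2) F) 0 1 -
        c * ((g : Matrix (Fin 2) (Fin 2) F) 1 0 * c + (g : Matrix (Fin 2) (Fin 2) F) 1 1) = 0 then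
      α ((g : Matrix (Fin 2) (Fin 2) F) 1 0 * c + (g : Matrix (Fin 2) (Fin 2) F) 1 1) *
        β ((g : Matrix (Fin 2) (Fin 2) F) 0 0 - c * (g : Matrix (Fin 2) (Fin 2) F) 1 0) else 0

theorem extendByZero_theta (α β : MulChar F ℂ) (y : GL (Fin 2) F) :
    Cfsg.extendByZero (Cfsg.upperTriangularGL 2 F) (theta α β) y =
      if (y : Matrix (Fin 2) (Fin 2) F) 1 0 = 0 then
        α ((y : Matrix (Fin 2) (Fin 2) F) 0 0) * β ((y : Matrix (Fin 2) (Fin 2) F) 1 1) else 0 := by
  split_ifs with h
  · rw [extendByZero_of_mem _ _ _ ((mem_upperTriangularGL_two y).mpr h)]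
    rfl
  · rw [extendByZero_of_not_mem _ _ _ (fun hy => h ((mem_upperTriangularGL_two y).mp hy))]

theorem indFun_theta (α β : MulChar F ℂ) (g : GL (Fin 2) F) :
    Cfsg.indFun (Cfsg.upperTriangularGL 2 F) (theta α β) g = indVal α β g := by
  rw [indFun_upperTriangular (theta α β) (theta_conj α β) g, Fintype.sum_option, conj_xrep_none,
    extendByZero_theta]
  unfold indVal
  congr 1
  apply Finset.sum_congr rfl
  intro c _
  rw [extendByZero_theta, conj_xrep_some_10, conj_xrep_some_00, conj_xrep_some_11]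

theorem indVal_symm_aux (α β : MulChar F ℂ) (a b c' d : F) :
    ((if c' = 0 then α a * β d else 0) +
      ∑ c : F, if a * c + b - c * (c' * c + d) = 0 then α (c' * c + d) * β (a - c * c') else 0) =
    ((if c' = 0 then β a * α d else 0) +
      ∑ c : F, if a * c + b - c * (c' * c + d) = 0 then β (c' * c + d) * α (a - c * c') else 0) := by
  by_cases h10 : c' = 0
  · subst h10
    simp only [if_true, zero_mul, zero_add, mul_zero, sub_zero]
    by_cases had : a = d
    · subst had
      congr 1
      · ring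
      · apply Finset.sum_congr rfl
        intro c _
        split_ifs
        · ring
        · rfl
    · have hsub : a - d ≠ 0 := sub_ne_zero.mpr had
      have key : ∀ K : ℂ, (∑ c : F, if a * c + b - c * d = 0 then K else 0) = K := by
        intro K
        have : ∀ c : F, (a * c + b - c * d = 0) ↔ c = -b / (a - d) := by
          intro c
          rw [eq_div_iff hsub]
          constructor
          · intro h; linear_combination h
          · intro h; linear_combination h
        simp only [this]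
        rw [Finset.sum_ite_eq' Finset.univ]
        simp
      rw [key, key]
      ring
  · simp only [h10, if_false, zero_add]
    rw [← Equiv.sum_comp (Equiv.subLeft ((a - d) / c'))]
    apply Finset.sum_congr rfl
    intro c _
    simp only [Equiv.subLeft_apply]
    have e1 : c' * ((a - d) / c' - c) + d = a - c * c' := by
      field_simp
      ring
    have e2 : a - ((a - d) / c' - c) * c' = c' * c + d := by
      field_simp
      ring
    have e3 : a * ((a - d) / c' - c) + b -
        ((a - d) / c' - c) * (c' * ((a - d) / c' - c) + d) =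
        a * c + b - c * (c' * c + d) := by
      field_simp
      ring
    rw [e3, e1, e2]
    split_ifs
    · ring
    · rfl

/-- Symmetry of the induced value. -/
theorem indVal_symm (α β : MulChar F ℂ) (g : GL (Fin 2) F) : indVal α β g = indVal β α g := by
  unfold indVal
  exact indVal_symm_aux α β _ _ _ _

/-- The diagonal matrix `diag(a, 1)`. -/
noncomputable def diagGL (a : Fˣ) : GL (Fin 2) F :=
  Matrix.GeneralLinearGroup.mkOfDetNeZero !![(a : F), 0; 0, 1] (by simp [Matrix.det_fin_two])

theorem indVal_diagGL (α β : MulChar F ℂ) (a : Fˣ) (ha : (a : F) ≠ 1) :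
    indVal α β (diagGL a) = α a + β a := by
  unfold indVal
  have h00 : ((diagGL a : GL (Fin 2) F) : Matrix (Fin 2) (Fin 2) F) 0 0 = a := rfl
  have h01 : ((diagGL a : GL (Fin 2) F) : Matrix (Fin 2) (Fin 2) F) 0 1 = 0 := rfl
  have h10 : ((diagGL a : GL (Fin 2) F) : Matrix (Fin 2) (Fin 2) F) 1 0 = 0 := rfl
  have h11 : ((diagGL a : GL (Fin 2) F) : Matrix (Fin 2) (Fin 2) F) 1 1 = 1 := rfl
  rw [h00, h01, h10, h11]
  simp only [if_true, zero_mul, zero_add, mul_zero, sub_zero, add_zero, map_one, mul_one, one_mul]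
  congr 1
  have : ∀ c : F, ((a : F) * c - c = 0) ↔ c = 0 := by
    intro c
    constructor
    · intro h
      have h' : ((a : F) - 1) * c = 0 := by linear_combination h
      rcases mul_eq_zero.mp h' with h'' | h''
      · exact absurd (sub_eq_zero.mp h'') ha
      · exact h''
    · rintro rfl
      ring
  simp only [this]
  rw [Finset.sum_ite_eq' Finset.univ]
  simp

/-- Orthogonality: the sum of a multiplicative character. -/
theorem sum_mulChar (χ : MulChar F ℂ) :
    ∑ a : F, χ a = if χ = 1 then (Fintype.card Fˣ : ℂ) else 0 := by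
  split_ifs with h
  · rw [h, MulChar.sum_one_eq_card_units]
  · exact MulChar.sum_eq_zero_of_ne_one h

theorem eq_or_eq_of_add_eq (α β α' β' : MulChar F ℂ)
    (h : ∀ a : F, α a + β a = α' a + β' a) : α = α' ∨ α = β' := by
  by_contra hcon
  rw [not_or] at hcon
  obtain ⟨h1, h2⟩ := hcon
  have hsum : ∑ a : F, (α a + β a) * α⁻¹ a = ∑ a : F, (α' a + β' a) * α⁻¹ a := by
    apply Finset.sum_congr rfl
    intro a _
    rw [h a]
  simp only [add_mul, Finset.sum_add_distrib, ← MulChar.mul_apply, sum_mulChar] at hsum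
  rw [mul_inv_cancel, if_pos rfl] at hsum
  have h1' : ¬ (α' * α⁻¹ = 1) := fun h => h1 (mul_inv_eq_one.mp h).symm
  have h2' : ¬ (β' * α⁻¹ = 1) := fun h => h2 (mul_inv_eq_one.mp h).symm
  rw [if_neg h1', if_neg h2', add_zero] at hsum
  have hpos : (0 : ℝ) < (Fintype.card Fˣ : ℝ) := by exact_mod_cast Fintype.card_pos
  split_ifs at hsum with h3
  · have : ((Fintype.card Fˣ : ℝ) : ℂ) + ((Fintype.card Fˣ : ℝ) : ℂ) = 0 := by
      push_cast
      exact hsum
    have : (Fintype.card Fˣ : ℝ) + (Fintype.card Fˣ : ℝ) = 0 := by exact_mod_cast this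
    linarith
  · have : ((Fintype.card Fˣ : ℝ) : ℂ) = 0 := by
      push_cast
      simpa using hsum
    have : (Fintype.card Fˣ : ℝ) = 0 := by exact_mod_cast this
    linarith

/-- Over a finite field F, for multiplicative characters α, β, α′, β′ of F, the characters of GL₂ induced from the linear characters b ↦ α(b₁₁) β(b₂₂) and b ↦ α′(b₁₁) β′(b₂₂) of the upper triangular subgroup coincide exactly when {α, β} = {α′, β′} as unordered pairs. -/
theorem result {F : Type*} [Field F] [Fintype F] [DecidableEq F] (α β α' β' : MulChar F ℂ) :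
    Cfsg.indFun (Cfsg.upperTriangularGL 2 F) (fun b => α (((b : Matrix.GeneralLinearGroup (Fin 2) F) : Matrix (Fin 2) (Fin 2) F) 0 0) * β (((b : Matrix.GeneralLinearGroup (Fin 2) F) : Matrix (Fin 2) (Fin 2) F) 1 1)) = Cfsg.indFun (Cfsg.upperTriangularGL 2 F) (fun b => α' (((b : Matrix.GeneralLinearGroup (Fin 2) F) : Matrix (Fin 2) (Fin 2) F) 0 0) * β' (((b : Matrix.GeneralLinearGroup (Fin 2) F) : Matrix (Fin 2) (Fin 2) F) 1 1)) ↔
      (α = α' ∧ β = β') ∨ (α = β' ∧ β = α') := by
  change Cfsg.indFun (Cfsg.upperTriangularGL 2 F) (theta α β) =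
    Cfsg.indFun (Cfsg.upperTriangularGL 2 F) (theta α' β') ↔ _
  constructor
  · intro h
    have hval : ∀ g, indVal α β g = indVal α' β' g := by
      intro g
      rw [← indFun_theta, ← indFun_theta, h]
    have hadd : ∀ a : F, α a + β a = α' a + β' a := by
      intro a
      by_cases ha0 : a = 0
      · subst ha0
        simp [MulChar.map_zero]
      · by_cases ha1 : a = 1
        · subst ha1
          simp
        · have := hval (diagGL (Units.mk0 a ha0))
          rwa [indVal_diagGL _ _ _ (by simpa using ha1), indVal_diagGL _ _ _ (by simpa using ha1)]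
            at this
    rcases eq_or_eq_of_add_eq α β α' β' hadd with h1 | h1
    · left
      refine ⟨h1, ?_⟩
      apply MulChar.ext'
      intro a
      have := hadd a
      rw [h1] at this
      exact add_left_cancel this
    · right
      refine ⟨h1, ?_⟩
      apply MulChar.ext'
      intro a
      have := hadd a
      rw [h1, add_comm (α' a)] at this
      exact add_left_cancel this
  · rintro (⟨rfl, rfl⟩ | ⟨rfl, rfl⟩)
    · rfl
    · funext g
      rw [indFun_theta, indFun_theta, indVal_symm]

end Cfsg.Agent.S2305
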