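import Cfsg.Statements.S2308
import Cfsg.Agent.Helper39.GL2Cosets

set_option autoImplicit false
open Cfsg

namespace Cfsg.Agent.S2308

open Matrix Cfsg.Agent.Helper39

/-- Values of the permutation character of GL₂ over a finite field F with q elements on the cosets of its upper triangular subgroup (equivalently, the number of lines of F² that an element maps to themselves): q + 1 at a scalar matrix, 2 at a diagonal matrix with two different diagonal entries, 0 at an element with no eigenvector in F², and 1 at an upper triangular matrix with equal diagonal entries and non-zero upper right entry. -/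
theorem result {F : Type*} [Field F] [Fintype F] (g : Matrix.GeneralLinearGroup (Fin 2) F) :
    ((∃ a : F, (g : Matrix (Fin 2) (Fin 2) F) = a • (1 : Matrix (Fin 2) (Fin 2) F)) → Cfsg.fixedPointCharacter (Cfsg.upperTriangularGL 2 F) g = Fintype.card F + 1) ∧
    ((g : Matrix (Fin 2) (Fin 2) F) 0 1 = 0 → (g : Matrix (Fin 2) (Fin 2) F) 1 0 = 0 → (g : Matrix (Fin 2) (Fin 2) F) 0 0 ≠ (g : Matrix (Fin 2) (Fin 2) F) 1 1 →
      Cfsg.fixedPointCharacter (Cfsg.upperTriangularGL 2 F) g = 2) ∧
    ((∀ (c : F) (v : Fin 2 → F), v ≠ 0 → (g : Matrix (Fin 2) (Fin 2) F).mulVec v ≠ c • v) → Cfsg.fixedPointCharacter (Cfsg.upperTriangularGL 2 F) g = 0) ∧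
    ((g : Matrix (Fin 2) (Fin 2) F) 1 0 = 0 → (g : Matrix (Fin 2) (Fin 2) F) 0 0 = (g : Matrix (Fin 2) (Fin 2) F) 1 1 → (g : Matrix (Fin 2) (Fin 2) F) 0 1 ≠ 0 →
      Cfsg.fixedPointCharacter (Cfsg.upperTriangularGL 2 F) g = 1) := by
  classical
  unfold Cfsg.fixedPointCharacter
  rw [card_fixedBy g]
  set G : Matrix (Fin 2) (Fin 2) F := (g : Matrix (Fin 2) (Fin 2) F) with hG
  refine ⟨?_, ?_, ?_, ?_⟩
  · rintro ⟨a, ha⟩
    have h00 : G 0 0 = a := by rw [ha]; simp
    have h01 : G 0 1 = 0 := by rw [ha]; simp
    have h10 : G 1 0 = 0 := by rw [ha]; simp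
    have h11 : G 1 1 = a := by rw [ha]; simp
    rw [h00, h01, h10, h11]
    have : (Finset.univ.filter (fun c : F => a * c + 0 - c * (0 * c + a) = 0)) = Finset.univ := by
      apply Finset.filter_true_of_mem
      intro c _
      ring
    rw [this, if_pos rfl, Finset.card_univ]
    push_cast
    ring
  · intro h01 h10 hne
    rw [h01, h10]
    have : (Finset.univ.filter (fun c : F => G 0 0 * c + 0 - c * (0 * c + G 1 1) = 0)) = {0} := by
      ext c
      simp only [Finset.mem_filter, Finset.mem_univ, true_and, Finset.mem_singleton]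
      constructor
      · intro h
        have h' : (G 0 0 - G 1 1) * c = 0 := by linear_combination h
        rcases mul_eq_zero.mp h' with h'' | h''
        · exact absurd (sub_eq_zero.mp h'') hne
        · exact h''
      · rintro rfl
        ring
    rw [this, if_pos rfl]
    norm_num
  · intro hno
    have h10 : G 1 0 ≠ 0 := by
      intro h
      apply hno (G 0 0) ![1, 0]
      · intro hv
        have := congrFun hv 0
        simp at this
      · ext i
        fin_cases i <;> simp [Matrix.mulVec, dotProduct, Fin.sum_univ_two, ← hG, h]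
    have : (Finset.univ.filter (fun c : F => G 0 0 * c + G 0 1 - c * (G 1 0 * c + G 1 1) = 0)) = ∅ := by
      apply Finset.filter_false_of_mem
      intro c _ hc
      apply hno (G 1 0 * c + G 1 1) ![c, 1]
      · intro hv
        have := congrFun hv 1
        simp at this
      · ext i
        fin_cases i
        · simp [Matrix.mulVec, dotProduct, Fin.sum_univ_two, ← hG]
          linear_combination hc
        · simp [Matrix.mulVec, dotProduct, Fin.sum_univ_two, ← hG]
    rw [this, if_neg h10]
    simp
  · intro h10 heq hne
    rw [h10, heq]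
    have : (Finset.univ.filter (fun c : F => G 1 1 * c + G 0 1 - c * (0 * c + G 1 1) = 0)) = ∅ := by
      apply Finset.filter_false_of_mem
      intro c _ hc
      apply hne
      linear_combination hc
    rw [this, if_pos rfl]
    simp

end Cfsg.Agent.S2308
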