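import Cfsg.Statements.S2309
import Cfsg.Agent.Helper39.GL2Count

set_option autoImplicit false
open Cfsg

namespace Cfsg.Agent.S2309

open Cfsg.Agent.Helper39 in
/-- Over a finite field F with q elements: every irreducible complex character of GL₂ of degree q − 1 vanishes at every diagonal matrix with two distinct entries, and every irreducible complex character of degree q + 1 vanishes at every element with no eigenvector in F². -/
theorem result {F : Type*} [Field F] [Fintype F] (χ : Matrix.GeneralLinearGroup (Fin 2) F → ℂ) (hχ : Cfsg.IsIrrCharacter (Matrix.GeneralLinearGroup (Fin 2) F) χ) (g : Matrix.GeneralLinearGroup (Fin 2) F) :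
    (χ 1 = (Fintype.card F : ℂ) - 1 → (g : Matrix (Fin 2) (Fin 2) F) 0 1 = 0 → (g : Matrix (Fin 2) (Fin 2) F) 1 0 = 0 → (g : Matrix (Fin 2) (Fin 2) F) 0 0 ≠ (g : Matrix (Fin 2) (Fin 2) F) 1 1 → χ g = 0) ∧
    (χ 1 = (Fintype.card F : ℂ) + 1 → (∀ (c : F) (v : Fin 2 → F), v ≠ 0 → (g : Matrix (Fin 2) (Fin 2) F).mulVec v ≠ c • v) → χ g = 0) := by
  classical
  have hq : (2 : ℝ) ≤ (Fintype.card F : ℝ) := by exact_mod_cast Fintype.one_lt_card (α := F)
  have hcast : ∀ x y : ℝ, ((x : ℂ) = (y : ℂ)) → x = y := fun x y h => by exact_mod_cast h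
  rcases classification χ hχ with ⟨μ, rfl⟩ | ⟨μ, rfl⟩ | ⟨α, β, hαβ, rfl⟩ | ⟨hdeg, -, hzero⟩
  · constructor
    · intro h1 h01 h10 hne
      -- degree 1 = q - 1 forces q = 2, and then the two diagonal entries are both 1
      rw [detFun_one] at h1
      have h2 : (Fintype.card F : ℝ) = 2 := by
        have := hcast 1 ((Fintype.card F : ℝ) - 1) (by push_cast; exact h1)
        linarith
      have hcard : Fintype.card F = 2 := by exact_mod_cast h2
      exfalso
      obtain ⟨a, d, ha, hd, -⟩ := eq_bEltGL_of_diag g h01 h10
      have hu : Fintype.card Fˣ = 1 := by rw [Fintype.card_units, hcard]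
      have hsub : Subsingleton Fˣ := Fintype.card_le_one_iff_subsingleton.mp hu.le
      apply hne
      rw [← ha, ← hd, Subsingleton.elim a d]
    · intro h1
      rw [detFun_one] at h1
      exfalso
      have := hcast 1 ((Fintype.card F : ℝ) + 1) (by push_cast; exact h1)
      linarith
  · constructor
    · intro h1
      rw [stFun_one] at h1
      exfalso
      have := hcast (Fintype.card F : ℝ) ((Fintype.card F : ℝ) - 1) (by push_cast; exact h1)
      linarith
    · intro h1
      rw [stFun_one] at h1
      exfalso
      have := hcast (Fintype.card F : ℝ) ((Fintype.card F : ℝ) + 1) (by push_cast; exact h1)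
      linarith
  · constructor
    · intro h1
      rw [piFun_one] at h1
      exfalso
      have := hcast ((Fintype.card F : ℝ) + 1) ((Fintype.card F : ℝ) - 1) (by push_cast; exact h1)
      linarith
    · intro _ hell
      exact piFun_of_elliptic α β g hell
  · constructor
    · intro _ h01 h10 hne
      exact hzero g h01 h10 hne
    · intro h1
      rw [hdeg] at h1
      exfalso
      have := hcast ((Fintype.card F : ℝ) - 1) ((Fintype.card F : ℝ) + 1) (by push_cast; exact h1)
      linarith

end Cfsg.Agent.S2309
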