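import Cfsg.Statements.S2310
import Cfsg.Agent.Helper39.GL2Count

set_option autoImplicit false
open Cfsg

namespace Cfsg.Agent.S2310

open Cfsg.Agent.Helper39 in
/-- Over a finite field F with q ≥ 3 elements, let u be the upper unitriangular matrix of GL₂ with off-diagonal entry 1. An irreducible complex character χ of GL₂ takes at u the value 1 if χ has degree 1 or q + 1, the value −1 if χ has degree q − 1, and the value 0 if χ has degree q. -/
theorem result {F : Type*} [Field F] [Fintype F] (hq : 3 ≤ Fintype.card F) (χ : Matrix.GeneralLinearGroup (Fin 2) F → ℂ) (hχ : Cfsg.IsIrrCharacter (Matrix.GeneralLinearGroup (Fin 2) F) χ)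
    (u : Matrix.GeneralLinearGroup (Fin 2) F) (hu : (u : Matrix (Fin 2) (Fin 2) F) = !![1, 1; 0, 1]) :
    (χ 1 = 1 → χ u = 1) ∧ (χ 1 = (Fintype.card F : ℂ) + 1 → χ u = 1) ∧
    (χ 1 = (Fintype.card F : ℂ) - 1 → χ u = -1) ∧ (χ 1 = (Fintype.card F : ℂ) → χ u = 0) := by
  classical
  have hq' : (3 : ℝ) ≤ (Fintype.card F : ℝ) := by exact_mod_cast hq
  have hcast : ∀ x y : ℝ, ((x : ℂ) = (y : ℂ)) → x = y := fun x y h => by exact_mod_cast h
  have h00 : (u : Matrix (Fin 2) (Fin 2) F) 0 0 = 1 := by rw [hu]; rfl
  have h01 : (u : Matrix (Fin 2) (Fin 2) F) 0 1 = 1 := by rw [hu]; rfl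
  have h10 : (u : Matrix (Fin 2) (Fin 2) F) 1 0 = 0 := by rw [hu]; rfl
  have h11 : (u : Matrix (Fin 2) (Fin 2) F) 1 1 = 1 := by rw [hu]; rfl
  rcases classification χ hχ with ⟨μ, rfl⟩ | ⟨μ, rfl⟩ | ⟨α, β, hαβ, rfl⟩ | ⟨hdeg, hval, -⟩
  · have hv : detFun μ u = 1 := by
      unfold detFun
      rw [Matrix.det_fin_two, h00, h01, h10, h11]
      simp
    refine ⟨fun _ => hv, fun _ => hv, ?_, ?_⟩
    · intro h1
      rw [detFun_one] at h1
      exfalso
      have := hcast 1 ((Fintype.card F : ℝ) - 1) (by push_cast; exact h1)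
      linarith
    · intro h1
      rw [detFun_one] at h1
      exfalso
      have := hcast 1 (Fintype.card F : ℝ) (by push_cast; exact h1)
      linarith
  · have hv : stFun μ u = 0 := stFun_of_unipotent μ u h00 h01 h10 h11
    refine ⟨?_, ?_, ?_, fun _ => hv⟩
    · intro h1
      rw [stFun_one] at h1
      exfalso
      have := hcast (Fintype.card F : ℝ) 1 (by push_cast; exact h1)
      linarith
    · intro h1
      rw [stFun_one] at h1
      exfalso
      have := hcast (Fintype.card F : ℝ) ((Fintype.card F : ℝ) + 1) (by push_cast; exact h1)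
      linarith
    · intro h1
      rw [stFun_one] at h1
      exfalso
      have := hcast (Fintype.card F : ℝ) ((Fintype.card F : ℝ) - 1) (by push_cast; exact h1)
      linarith
  · have hv : piFun α β u = 1 := piFun_of_unipotent α β u h00 h01 h10 h11
    refine ⟨fun _ => hv, fun _ => hv, ?_, ?_⟩
    · intro h1
      rw [piFun_one] at h1
      exfalso
      have := hcast ((Fintype.card F : ℝ) + 1) ((Fintype.card F : ℝ) - 1) (by push_cast; exact h1)
      linarith
    · intro h1
      rw [piFun_one] at h1
      exfalso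
      have := hcast ((Fintype.card F : ℝ) + 1) (Fintype.card F : ℝ) (by push_cast; exact h1)
      linarith
  · have hv : χ u = -1 := by rw [eq_uElt u hu]; exact hval
    refine ⟨?_, ?_, fun _ => hv, ?_⟩
    · intro h1
      rw [hdeg] at h1
      exfalso
      have := hcast ((Fintype.card F : ℝ) - 1) 1 (by push_cast; exact h1)
      linarith
    · intro h1
      rw [hdeg] at h1
      exfalso
      have := hcast ((Fintype.card F : ℝ) - 1) ((Fintype.card F : ℝ) + 1) (by push_cast; exact h1)
      linarith
    · intro h1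
      rw [hdeg] at h1
      exfalso
      have := hcast ((Fintype.card F : ℝ) - 1) (Fintype.card F : ℝ) (by push_cast; exact h1)
      linarith

end Cfsg.Agent.S2310
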