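import Cfsg.Statements.S2314
import Cfsg.Agent.Helper19.Unip.Final
import Cfsg.Agent.Helper18.UpStruct
import Cfsg.Agent.S1025

set_option autoImplicit false
open Cfsg

namespace Cfsg.Agent.S2314

/-- Steinberg's count of unipotent elements: in a Chevalley group of type G₂, B₂, D₄, F₄, E₆, E₇ or E₈ over a finite field of characteristic p with q elements, the number of elements of p-power order is q^(2N), N the number of positive roots — the square of the order of a Sylow p-subgroup. -/
theorem result {F : Type*} [Field F] [Fintype F] (p : ℕ) [Fact p.Prime] [CharP F p] (D : Cfsg.Lie.ChevalleyDatum) (hD : D ∈ [Cfsg.Lie.chevG2, Cfsg.Lie.chevB2, Cfsg.Lie.chevD4, Cfsg.Lie.chevF4, Cfsg.Lie.chevE6, Cfsg.Lie.chevE7, Cfsg.Lie.chevE8]) :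
    Nat.card {g : ↥(D.group F) // ∃ k : ℕ, orderOf g = p ^ k} = Fintype.card F ^ (2 * (D.nroots / 2)) := by
  have h25 : Cfsg.Agent.Helper18.CommHyp D F :=
    fun r s hr hs h1 h2 t u => Cfsg.Agent.S1025.result D hD r s hr hs h1 h2 t u
  obtain ⟨P, hB, hN, hS⟩ := Cfsg.Agent.Helper18.exists_bnPair (F := F) D hD h25
  have h45 : Cfsg.Agent.Helper19.Poinc.H45 D F := fun i hi =>
    ⟨Cfsg.Agent.Helper18.rootSubgroup_le_normalizer_Up D hD h25 i hi, Cfsg.Agent.Helper18.Up_sup_rootSubgroup D hD i hi⟩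
  exact Cfsg.Agent.Helper19.Unip.card_pElts p D hD P hB hN hS h45

end Cfsg.Agent.S2314
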