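import Cfsg.Statements.S2315
import Cfsg.Agent.Helper39.NilCount

set_option autoImplicit false
open Cfsg

namespace Cfsg.Agent.S2315

/-- In characteristic `p`, an invertible matrix has `p`-power order iff `g - 1` is nilpotent. -/
theorem pPower_iff_nilpotent {F : Type*} [Field F] (p : ℕ) [Fact p.Prime] [CharP F p] (n : ℕ)
    [NeZero n] (g : Matrix.GeneralLinearGroup (Fin n) F) :
    (∃ k : ℕ, orderOf g = p ^ k) ↔ IsNilpotent ((g : Matrix (Fin n) (Fin n) F) - 1) := by
  have hp : p.Prime := Fact.out
  constructor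
  · rintro ⟨k, hk⟩
    refine ⟨p ^ k, ?_⟩
    have h1 : g ^ (p ^ k) = 1 := by rw [← hk]; exact pow_orderOf_eq_one g
    have h2 : (g : Matrix (Fin n) (Fin n) F) ^ (p ^ k) = 1 := by
      rw [← Units.val_pow_eq_pow_val, h1]; rfl
    rw [sub_pow_char_pow_of_commute p k (Commute.one_right _), h2, one_pow, sub_self]
  · rintro ⟨k, hk⟩
    have hle : k ≤ p ^ k := (Nat.lt_pow_self hp.one_lt).le
    have h0 : ((g : Matrix (Fin n) (Fin n) F) - 1) ^ (p ^ k) = 0 := pow_eq_zero_of_le hle hk
    rw [sub_pow_char_pow_of_commute p k (Commute.one_right _), one_pow, sub_eq_zero] at h0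
    have h1 : g ^ (p ^ k) = 1 := by
      apply Units.ext
      rw [Units.val_pow_eq_pow_val, h0]; rfl
    obtain ⟨j, -, hj⟩ := (Nat.dvd_prime_pow hp).mp (orderOf_dvd_of_pow_eq_one h1)
    exact ⟨j, hj⟩

/-- Elements of `p`-power order of `GL_n(F)` correspond to nilpotent matrices. -/
noncomputable def unipotentEquiv {F : Type*} [Field F] (p : ℕ) [Fact p.Prime] [CharP F p] (n : ℕ)
    [NeZero n] :
    {g : Matrix.GeneralLinearGroup (Fin n) F // ∃ k : ℕ, orderOf g = p ^ k} ≃
      {M : Matrix (Fin n) (Fin n) F // IsNilpotent M} where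
  toFun g := ⟨(g.1 : Matrix (Fin n) (Fin n) F) - 1, (pPower_iff_nilpotent p n g.1).mp g.2⟩
  invFun M := ⟨(M.2.isUnit_one_add).unit, (pPower_iff_nilpotent p n _).mpr (by
    rw [IsUnit.unit_spec, add_sub_cancel_left]; exact M.2)⟩
  left_inv g := by
    apply Subtype.ext
    apply Units.ext
    show (1 : Matrix (Fin n) (Fin n) F) + ((g.1 : Matrix (Fin n) (Fin n) F) - 1) = _
    rw [add_sub_cancel]
  right_inv M := by
    apply Subtype.ext
    show ((M.2.isUnit_one_add).unit : Matrix (Fin n) (Fin n) F) - 1 = M.1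
    rw [IsUnit.unit_spec, add_sub_cancel_left]

/-- Steinberg's count of unipotent elements for the general linear group: over a finite field with q elements of characteristic p, the number of elements of GL_n of p-power order (the unipotent matrices) is q^(n(n−1)). -/
theorem result {F : Type*} [Field F] [Fintype F] (p : ℕ) [Fact p.Prime] [CharP F p] (n : ℕ) :
    Nat.card {g : Matrix.GeneralLinearGroup (Fin n) F // ∃ k : ℕ, orderOf g = p ^ k} = Fintype.card F ^ (n * (n - 1)) := by
  classical
  rcases Nat.eq_zero_or_pos n with h0 | hpos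
  · subst h0
    have : Unique {g : Matrix.GeneralLinearGroup (Fin 0) F // ∃ k : ℕ, orderOf g = p ^ k} :=
      { default := ⟨1, 0, by simp⟩
        uniq := fun x => Subtype.ext (Subsingleton.elim _ _) }
    rw [Nat.card_unique]
    simp
  · have : NeZero n := ⟨by omega⟩
    rw [Nat.card_congr (unipotentEquiv p n), Cfsg.Agent.Helper39.card_isNilpotent_matrix]

end Cfsg.Agent.S2315
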