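import Cfsg.Statements.S2316
import Cfsg.Agent.Helper19.SpBN.ParaId
import Cfsg.Agent.Helper29.SpBNP0

set_option autoImplicit false
open Cfsg

namespace Cfsg.Agent.S2316

/-- Steinberg's count of unipotent elements for the symplectic group: over a finite field with q elements of characteristic p, the number of elements of Sp_{2m} of p-power order is q^(2m²). -/
theorem result {F : Type*} [Field F] [Fintype F] (p : ℕ) [Fact p.Prime] [CharP F p] (m : ℕ) :
    Nat.card {g : ↥(Matrix.symplecticGroup (Fin m) F) // ∃ k : ℕ, orderOf g = p ^ k} = Fintype.card F ^ (2 * m ^ 2) := by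
  by_cases h2 : 2 ≤ m
  · exact Cfsg.Agent.Helper19.SpBN.card_pElts_Sp (Cfsg.Agent.Helper19.SpBN.XS_monoData h2) p
  · by_cases h1 : m = 1
    · subst h1
      exact Cfsg.Agent.Helper19.SpBN.card_pElts_Sp Cfsg.Agent.Helper29.SpBNP0.monoData_one p
    · obtain rfl : m = 0 := by omega
      have hs : Subsingleton ↥(Matrix.symplecticGroup (Fin 0) F) :=
        ⟨fun a b => Subtype.ext (Subsingleton.elim _ _)⟩
      have : Subsingleton {g : ↥(Matrix.symplecticGroup (Fin 0) F) // ∃ k : ℕ, orderOf g = p ^ k} :=
        inferInstance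
      rw [Nat.card_of_subsingleton (⟨1, 0, by simp⟩ :
        {g : ↥(Matrix.symplecticGroup (Fin 0) F) // ∃ k : ℕ, orderOf g = p ^ k})]
      simp

end Cfsg.Agent.S2316
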