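import Cfsg.Statements.S2320
import Cfsg.Agent.Helper39.GL2Count

set_option autoImplicit false
open Cfsg

namespace Cfsg.Agent.S2320

open Cfsg.Agent.Helper39 in
/-- Over a finite field F with q elements, every irreducible complex character of GL₂ of degree q takes a value of absolute value 1 at every diagonal matrix with two different diagonal entries and at every element with no eigenvector in F². -/
theorem result {F : Type*} [Field F] [Fintype F] (χ : Matrix.GeneralLinearGroup (Fin 2) F → ℂ) (hχ : Cfsg.IsIrrCharacter (Matrix.GeneralLinearGroup (Fin 2) F) χ) (hdeg : χ 1 = (Fintype.card F : ℂ)) (g : Matrix.GeneralLinearGroup (Fin 2) F) :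
    ((g : Matrix (Fin 2) (Fin 2) F) 0 1 = 0 → (g : Matrix (Fin 2) (Fin 2) F) 1 0 = 0 → (g : Matrix (Fin 2) (Fin 2) F) 0 0 ≠ (g : Matrix (Fin 2) (Fin 2) F) 1 1 → ‖χ g‖ = 1) ∧
    ((∀ (c : F) (v : Fin 2 → F), v ≠ 0 → (g : Matrix (Fin 2) (Fin 2) F).mulVec v ≠ c • v) → ‖χ g‖ = 1) := by
  classical
  have hq : (2 : ℝ) ≤ (Fintype.card F : ℝ) := by exact_mod_cast Fintype.one_lt_card (α := F)
  have hcast : ∀ x y : ℝ, ((x : ℂ) = (y : ℂ)) → x = y := fun x y h => by exact_mod_cast h
  rcases classification χ hχ with ⟨μ, rfl⟩ | ⟨μ, rfl⟩ | ⟨α, β, hαβ, rfl⟩ | ⟨hdeg', -, -⟩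
  · rw [detFun_one] at hdeg
    exfalso
    have := hcast 1 (Fintype.card F : ℝ) (by push_cast; exact hdeg)
    linarith
  · constructor
    · intro h01 h10 hne
      rw [stFun_of_split μ g h01 h10 hne]
      exact norm_detFun μ g
    · intro hell
      rw [stFun_of_elliptic μ g hell, norm_neg]
      exact norm_detFun μ g
  · rw [piFun_one] at hdeg
    exfalso
    have := hcast ((Fintype.card F : ℝ) + 1) (Fintype.card F : ℝ) (by push_cast; exact hdeg)
    linarith
  · rw [hdeg'] at hdeg
    exfalso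
    have := hcast ((Fintype.card F : ℝ) - 1) (Fintype.card F : ℝ) (by push_cast; exact hdeg)
    linarith

end Cfsg.Agent.S2320
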