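import Cfsg.Statements.S2321
import Cfsg.Agent.Helper39.SL2Table

set_option autoImplicit false
open Cfsg

namespace Cfsg.Agent.S2321

open Cfsg.Agent.Helper39 in
/-- Over a finite field F with q elements, an irreducible complex character of SL₂ of degree q (the Steinberg character) takes the value 1 at every diagonal matrix whose diagonal entry a has a² ≠ 1, the value −1 at every element with no eigenvector in F², and the value 0 at every upper triangular matrix with equal diagonal entries and non-zero upper right entry. -/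
theorem result {F : Type*} [Field F] [Fintype F] (χ : Matrix.SpecialLinearGroup (Fin 2) F → ℂ) (hχ : Cfsg.IsIrrCharacter (Matrix.SpecialLinearGroup (Fin 2) F) χ) (hdeg : χ 1 = (Fintype.card F : ℂ)) (g : Matrix.SpecialLinearGroup (Fin 2) F) :
    ((g : Matrix (Fin 2) (Fin 2) F) 0 1 = 0 → (g : Matrix (Fin 2) (Fin 2) F) 1 0 = 0 → (g : Matrix (Fin 2) (Fin 2) F) 0 0 ^ 2 ≠ 1 → χ g = 1) ∧
    ((∀ (c : F) (v : Fin 2 → F), v ≠ 0 → (g : Matrix (Fin 2) (Fin 2) F).mulVec v ≠ c • v) → χ g = -1) ∧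
    ((g : Matrix (Fin 2) (Fin 2) F) 1 0 = 0 → (g : Matrix (Fin 2) (Fin 2) F) 0 0 = (g : Matrix (Fin 2) (Fin 2) F) 1 1 → (g : Matrix (Fin 2) (Fin 2) F) 0 1 ≠ 0 → χ g = 0) := by
  classical
  obtain ⟨ψ, k, hψ, hk, hdegψ, hk1, -⟩ := sl2_lying_under χ hχ
  obtain ⟨m, hm⟩ : ∃ m : ℕ, Fintype.card F = m + 1 :=
    ⟨Fintype.card F - 1, by have := Fintype.card_pos (α := F); omega⟩
  have hm1 : 1 ≤ m := by have := Fintype.one_lt_card (α := F); omega
  have hqC : (Fintype.card F : ℂ) = (m : ℂ) + 1 := by rw [hm]; push_cast; ring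
  have key : ∀ B : ℕ, ψ 1 = (B : ℂ) → k * (m + 1) = B := by
    intro B hB
    rw [hdeg, hB, hqC] at hdegψ
    have : ((k * (m + 1) : ℕ) : ℂ) = (B : ℂ) := by push_cast; exact hdegψ.symm
    exact_mod_cast this
  have hdetg : (g : Matrix (Fin 2) (Fin 2) F).det = 1 := g.2
  rcases classification ψ hψ with ⟨μ, rfl⟩ | ⟨μ, rfl⟩ | ⟨α, β, hαβ, rfl⟩ | ⟨hd, hval, -⟩
  · exfalso
    have hB : detFun μ 1 = ((1 : ℕ) : ℂ) := by rw [detFun_one]; simp
    have := mul_eq_cases _ _ _ hk (key _ hB)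
    omega
  · have hB : stFun μ 1 = ((m + 1 : ℕ) : ℂ) := by rw [stFun_one, hqC]; push_cast; ring
    have := mul_eq_cases _ _ _ hk (key _ hB)
    have hk' : k = 1 := by omega
    have hdet1 : detFun μ (Matrix.SpecialLinearGroup.toGL g) = 1 := by
      unfold detFun
      have : ((Matrix.SpecialLinearGroup.toGL g : Matrix.GeneralLinearGroup (Fin 2) F) :
          Matrix (Fin 2) (Fin 2) F).det = 1 := hdetg
      rw [this]
      simp
    refine ⟨?_, ?_, ?_⟩
    · intro h01 h10 hsq
      rw [hk1 hk' g, stFun_of_split μ _ h01 h10, hdet1]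
      intro heq
      apply hsq
      rw [Matrix.det_fin_two, h01, zero_mul, sub_zero] at hdetg
      have heq' : (g : Matrix (Fin 2) (Fin 2) F) 0 0 = (g : Matrix (Fin 2) (Fin 2) F) 1 1 := heq
      rw [sq]
      nth_rewrite 2 [heq']
      exact hdetg
    · intro hell
      rw [hk1 hk' g, stFun_of_elliptic μ _ hell, hdet1]
    · intro h10 heq h01
      rw [hk1 hk' g]
      exact stFun_of_parabolic μ _ h10 heq h01
  · exfalso
    have hB : piFun α β 1 = ((m + 2 : ℕ) : ℂ) := by rw [piFun_one, hqC]; push_cast; ring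
    have := mul_eq_cases _ _ _ hk (key _ hB)
    omega
  · exfalso
    have hB : ψ 1 = ((m : ℕ) : ℂ) := by rw [hd, hqC]; ring
    have := mul_eq_cases _ _ _ hk (key _ hB)
    omega

end Cfsg.Agent.S2321
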