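import Cfsg.Statements.S2322
import Cfsg.Agent.Helper39.SL2Three

set_option autoImplicit false
open Cfsg

namespace Cfsg.Agent.S2322

open Cfsg.Agent.Helper39 in
/-- Over a finite field F with q elements, q odd: every irreducible complex character of SL₂ of degree q − 1 or (q − 1)/2 vanishes at every diagonal matrix whose diagonal entry a has a² ≠ 1, and every irreducible complex character of degree q + 1 or (q + 1)/2 vanishes at every element with no eigenvector in F². -/
theorem result {F : Type*} [Field F] [Fintype F] (hodd : Odd (Fintype.card F)) (χ : Matrix.SpecialLinearGroup (Fin 2) F → ℂ) (hχ : Cfsg.IsIrrCharacter (Matrix.SpecialLinearGroup (Fin 2) F) χ) (g : Matrix.SpecialLinearGroup (Fin 2) F) :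
    ((χ 1 = (Fintype.card F : ℂ) - 1 ∨ χ 1 = (((Fintype.card F - 1) / 2 : ℕ) : ℂ)) →
      (g : Matrix (Fin 2) (Fin 2) F) 0 1 = 0 → (g : Matrix (Fin 2) (Fin 2) F) 1 0 = 0 → (g : Matrix (Fin 2) (Fin 2) F) 0 0 ^ 2 ≠ 1 → χ g = 0) ∧
    ((χ 1 = (Fintype.card F : ℂ) + 1 ∨ χ 1 = (((Fintype.card F + 1) / 2 : ℕ) : ℂ)) →
      (∀ (c : F) (v : Fin 2 → F), v ≠ 0 → (g : Matrix (Fin 2) (Fin 2) F).mulVec v ≠ c • v) → χ g = 0) := by
  classical
  obtain ⟨ψ, k, hψ, hk, hdeg, hk1, hstab, hk2⟩ := sl2_lying_under' χ hχ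
  obtain ⟨j, hj⟩ := hodd
  have hj1 : 1 ≤ j := by have := Fintype.one_lt_card (α := F); omega
  have hqC : (Fintype.card F : ℂ) = 2 * (j : ℂ) + 1 := by rw [hj]; push_cast; ring
  have e1 : (Fintype.card F - 1) / 2 = j := by omega
  have e2 : (Fintype.card F + 1) / 2 = j + 1 := by omega
  have key : ∀ A B : ℕ, χ 1 = (A : ℂ) → ψ 1 = (B : ℂ) → k * A = B := by
    intro A B hA hB
    rw [hA, hB] at hdeg
    have : ((k * A : ℕ) : ℂ) = (B : ℂ) := by push_cast; exact hdeg.symm
    exact_mod_cast this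
  have hkne : (k : ℂ) ≠ 0 := by exact_mod_cast hk.ne'
  constructor
  · -- diagonal elements
    intro hA h01 h10 hsq
    have hdetg : (g : Matrix (Fin 2) (Fin 2) F) 0 0 * (g : Matrix (Fin 2) (Fin 2) F) 1 1 = 1 := by
      have := g.2
      rwa [Matrix.det_fin_two, h01, zero_mul, sub_zero] at this
    have hg0 : (g : Matrix (Fin 2) (Fin 2) F) 0 0 ≠ 0 := left_ne_zero_of_mul_eq_one hdetg
    have hj2 : 2 ≤ j := by
      by_contra hlt
      have hj' : j = 1 := by omega
      apply hsq
      have := FiniteField.pow_card_sub_one_eq_one _ hg0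
      rwa [hj, hj'] at this
    have hne : (g : Matrix (Fin 2) (Fin 2) F) 0 0 ≠ (g : Matrix (Fin 2) (Fin 2) F) 1 1 := by
      intro heq
      apply hsq
      rw [sq]
      nth_rewrite 2 [heq]
      exact hdetg
    have hval := hstab g (isStableClass_of_diag g h01 h10)
    have hA' : ∃ A : ℕ, (A = 2 * j ∨ A = j) ∧ χ 1 = (A : ℂ) := by
      rcases hA with h | h
      · exact ⟨2 * j, Or.inl rfl, by rw [h, hqC]; push_cast; ring⟩
      · exact ⟨j, Or.inr rfl, by rw [h, e1]⟩
    obtain ⟨A, hAcases, hAeq⟩ := hA'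
    suffices h0 : ψ (Matrix.SpecialLinearGroup.toGL g) = 0 by
      rw [h0] at hval
      exact (mul_eq_zero.mp hval.symm).resolve_left hkne
    rcases classification ψ hψ with ⟨μ, rfl⟩ | ⟨μ, rfl⟩ | ⟨α, β, hαβ, rfl⟩ | ⟨hd, -, hzero⟩
    · exfalso
      have hB : detFun μ 1 = ((1 : ℕ) : ℂ) := by rw [detFun_one]; simp
      have := mul_eq_cases _ _ _ hk (key _ _ hAeq hB)
      omega
    · exfalso
      have hB : stFun μ 1 = ((2 * j + 1 : ℕ) : ℂ) := by rw [stFun_one, hqC]; push_cast; ring
      have hkey := key _ _ hAeq hB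
      rcases hAcases with rfl | rfl
      · have := mul_eq_cases _ _ _ hk hkey
        omega
      · have h1 : A ∣ k * A := Dvd.intro_left k rfl
        rw [hkey] at h1
        have h2 : A ∣ 1 := (Nat.dvd_add_right (Dvd.intro_left 2 rfl)).mp h1
        have := Nat.le_of_dvd Nat.one_pos h2
        omega
    · exfalso
      have hB : piFun α β 1 = ((2 * j + 2 : ℕ) : ℂ) := by rw [piFun_one, hqC]; push_cast; ring
      have hkey := key _ _ hAeq hB
      have hk2' := hk2 α β rfl
      have hkk : k = 1 ∨ k = 2 := by omega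
      rcases hkk with rfl | rfl <;> rcases hAcases with rfl | rfl <;> omega
    · exact hzero _ h01 h10 hne
  · -- elements without eigenvectors
    intro hA hell
    have htr := trace_sq_ne_four_of_elliptic g hell
    have hval := hstab g (isStableClass_of_trace ⟨j, hj⟩ g htr)
    have hA' : ∃ A : ℕ, (A = 2 * j + 2 ∨ A = j + 1) ∧ χ 1 = (A : ℂ) := by
      rcases hA with h | h
      · exact ⟨2 * j + 2, Or.inl rfl, by rw [h, hqC]; push_cast; ring⟩
      · exact ⟨j + 1, Or.inr rfl, by rw [h, e2]⟩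
    obtain ⟨A, hAcases, hAeq⟩ := hA'
    rcases classification ψ hψ with ⟨μ, rfl⟩ | ⟨μ, rfl⟩ | ⟨α, β, hαβ, rfl⟩ | ⟨hd, hu, -⟩
    · exfalso
      have hB : detFun μ 1 = ((1 : ℕ) : ℂ) := by rw [detFun_one]; simp
      have := mul_eq_cases _ _ _ hk (key _ _ hAeq hB)
      omega
    · exfalso
      have hB : stFun μ 1 = ((2 * j + 1 : ℕ) : ℂ) := by rw [stFun_one, hqC]; push_cast; ring
      have hkey := key _ _ hAeq hB
      have := mul_eq_cases _ _ _ hk hkey
      rcases hAcases with rfl | rfl <;> omega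
    · have h0 : piFun α β (Matrix.SpecialLinearGroup.toGL g) = 0 := piFun_of_elliptic α β _ hell
      rw [h0] at hval
      exact (mul_eq_zero.mp hval.symm).resolve_left hkne
    · have hB : ψ 1 = ((2 * j : ℕ) : ℂ) := by rw [hd, hqC]; push_cast; ring
      have hkey := key _ _ hAeq hB
      have hcases := mul_eq_cases _ _ _ hk hkey
      have hk' : k = 1 ∧ j = 1 := by
        rcases hAcases with rfl | rfl <;> omega
      obtain ⟨hk', hj'⟩ := hk'
      have hχeq : χ = fun s => ψ (Matrix.SpecialLinearGroup.toGL s) := by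
        funext s
        exact hk1 hk' s
      rw [hk1 hk' g]
      have h3 : Fintype.card F = 3 := by omega
      apply cuspidal_vanish_three h3 ψ hψ _ hu _ g htr
      · rw [hd, hqC, hj']; norm_num
      · rw [← hχeq]; exact hχ

end Cfsg.Agent.S2322
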