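import Cfsg.Statements.S2323
import Cfsg.Agent.Helper39.SL2Table

set_option autoImplicit false
open Cfsg

namespace Cfsg.Agent.S2323

open Cfsg.Agent.Helper39 in
/-- Over a finite field F with q ≥ 4 elements, let u be the upper unitriangular matrix of SL₂ with off-diagonal entry 1. An irreducible complex character of SL₂ takes at u the value 1 if its degree is q + 1 and the value −1 if its degree is q − 1. -/
theorem result {F : Type*} [Field F] [Fintype F] (hq : 4 ≤ Fintype.card F) (χ : Matrix.SpecialLinearGroup (Fin 2) F → ℂ) (hχ : Cfsg.IsIrrCharacter (Matrix.SpecialLinearGroup (Fin 2) F) χ)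
    (u : Matrix.SpecialLinearGroup (Fin 2) F) (hu : (u : Matrix (Fin 2) (Fin 2) F) = !![1, 1; 0, 1]) :
    (χ 1 = (Fintype.card F : ℂ) + 1 → χ u = 1) ∧ (χ 1 = (Fintype.card F : ℂ) - 1 → χ u = -1) := by
  classical
  obtain ⟨ψ, k, hψ, hk, hdeg, hk1, -⟩ := sl2_lying_under χ hχ
  obtain ⟨m, hm⟩ : ∃ m : ℕ, Fintype.card F = m + 1 := ⟨Fintype.card F - 1, by omega⟩
  have hm3 : 3 ≤ m := by omega
  have hqC : (Fintype.card F : ℂ) = (m : ℂ) + 1 := by rw [hm]; push_cast; ring
  have h00 : ((Matrix.SpecialLinearGroup.toGL u : Matrix.GeneralLinearGroup (Fin 2) F) :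
      Matrix (Fin 2) (Fin 2) F) 0 0 = 1 := by rw [toGL_apply, hu]; rfl
  have h01 : ((Matrix.SpecialLinearGroup.toGL u : Matrix.GeneralLinearGroup (Fin 2) F) :
      Matrix (Fin 2) (Fin 2) F) 0 1 = 1 := by rw [toGL_apply, hu]; rfl
  have h10 : ((Matrix.SpecialLinearGroup.toGL u : Matrix.GeneralLinearGroup (Fin 2) F) :
      Matrix (Fin 2) (Fin 2) F) 1 0 = 0 := by rw [toGL_apply, hu]; rfl
  have h11 : ((Matrix.SpecialLinearGroup.toGL u : Matrix.GeneralLinearGroup (Fin 2) F) :
      Matrix (Fin 2) (Fin 2) F) 1 1 = 1 := by rw [toGL_apply, hu]; rfl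
  have huE : Matrix.SpecialLinearGroup.toGL u = uElt F := by
    apply eq_uElt
    ext i j
    fin_cases i <;> fin_cases j
    · exact h00
    · exact h01
    · exact h10
    · exact h11
  -- the degree of ψ as a natural number
  have key : ∀ A B : ℕ, χ 1 = (A : ℂ) → ψ 1 = (B : ℂ) → k * A = B := by
    intro A B hA hB
    rw [hA, hB] at hdeg
    have : ((k * A : ℕ) : ℂ) = (B : ℂ) := by push_cast; exact hdeg.symm
    exact_mod_cast this
  have hχ1 : χ 1 = (Fintype.card F : ℂ) + 1 → χ 1 = ((m + 2 : ℕ) : ℂ) := by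
    intro h; rw [h, hqC]; push_cast; ring
  have hχ2 : χ 1 = (Fintype.card F : ℂ) - 1 → χ 1 = ((m : ℕ) : ℂ) := by
    intro h; rw [h, hqC]; ring
  rcases classification ψ hψ with ⟨μ, rfl⟩ | ⟨μ, rfl⟩ | ⟨α, β, hαβ, rfl⟩ | ⟨hd, hval, -⟩
  · have hB : detFun μ 1 = ((1 : ℕ) : ℂ) := by rw [detFun_one]; simp
    constructor
    · intro h
      exfalso
      have := mul_eq_cases _ _ _ hk (key _ _ (hχ1 h) hB)
      omega
    · intro h
      exfalso
      have := mul_eq_cases _ _ _ hk (key _ _ (hχ2 h) hB)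
      omega
  · have hB : stFun μ 1 = ((m + 1 : ℕ) : ℂ) := by rw [stFun_one, hqC]; push_cast; ring
    constructor
    · intro h
      exfalso
      have := mul_eq_cases _ _ _ hk (key _ _ (hχ1 h) hB)
      omega
    · intro h
      exfalso
      have := mul_eq_cases _ _ _ hk (key _ _ (hχ2 h) hB)
      omega
  · have hB : piFun α β 1 = ((m + 2 : ℕ) : ℂ) := by rw [piFun_one, hqC]; push_cast; ring
    constructor
    · intro h
      have := mul_eq_cases _ _ _ hk (key _ _ (hχ1 h) hB)
      have hk' : k = 1 := by omega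
      rw [hk1 hk' u]
      exact piFun_of_unipotent α β _ h00 h01 h10 h11
    · intro h
      exfalso
      have := mul_eq_cases _ _ _ hk (key _ _ (hχ2 h) hB)
      omega
  · have hB : ψ 1 = ((m : ℕ) : ℂ) := by rw [hd, hqC]; ring
    constructor
    · intro h
      exfalso
      have := mul_eq_cases _ _ _ hk (key _ _ (hχ1 h) hB)
      omega
    · intro h
      have := mul_eq_cases _ _ _ hk (key _ _ (hχ2 h) hB)
      have hk' : k = 1 := by omega
      rw [hk1 hk' u, huE]
      exact hval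

end Cfsg.Agent.S2323
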