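import Cfsg.Statements.S2329

set_option autoImplicit false
open Cfsg

namespace Cfsg.Agent.S2329

open Matrix

/-- The standard transvection as an element of `GL₂`. -/
noncomputable def stdU (F : Type*) [Field F] : Matrix.GeneralLinearGroup (Fin 2) F :=
  Matrix.GeneralLinearGroup.mkOfDetNeZero !![1, 1; 0, 1] (by simp [Matrix.det_fin_two])

theorem conj_stdU {F : Type*} [Field F] [Fintype F] (p : ℕ) [Fact p.Prime] [CharP F p]
    (g : Matrix.GeneralLinearGroup (Fin 2) F) (hg : orderOf g = p) : IsConj (stdU F) g := by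
  classical
  rw [orderOf_eq_prime_iff] at hg
  obtain ⟨hgp, hg1⟩ := hg
  -- the matrix N = g - 1
  set G : Matrix (Fin 2) (Fin 2) F := (g : Matrix (Fin 2) (Fin 2) F) with hG
  have hGp : G ^ p = 1 := by
    have := congrArg (fun x : Matrix.GeneralLinearGroup (Fin 2) F => (x : Matrix (Fin 2) (Fin 2) F)) hgp
    simpa using this
  have hG1 : G ≠ 1 := by
    intro h
    apply hg1
    apply Units.ext
    rw [Units.val_one]
    exact h
  set N : Matrix (Fin 2) (Fin 2) F := G - 1 with hN
  have hNp : N ^ p = 0 := by
    have hc : Commute G (1 : Matrix (Fin 2) (Fin 2) F) := Commute.one_right _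
    rw [hN, sub_pow_char_of_commute p hc, hGp, one_pow, sub_self]
  have hN0 : N ≠ 0 := by
    intro h
    apply hG1
    rw [hN, sub_eq_zero] at h
    exact h
  have hnil : IsNilpotent N := ⟨p, hNp⟩
  have htr : N.trace = 0 := by
    have := Matrix.isNilpotent_trace_of_isNilpotent hnil
    exact isNilpotent_iff_eq_zero.mp this
  have hdet : N.det = 0 := by
    have : IsNilpotent N.det := by
      obtain ⟨k, hk⟩ := hnil
      refine ⟨k, ?_⟩
      rw [← Matrix.det_pow, hk]
      have : k ≠ 0 := by
        rintro rfl
        simp at hk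
      simp [Matrix.det_zero]
    exact isNilpotent_iff_eq_zero.mp this
  rw [Matrix.trace_fin_two] at htr
  rw [Matrix.det_fin_two] at hdet
  -- entries
  have e00 : N 0 0 = G 0 0 - 1 := by simp [hN]
  have e01 : N 0 1 = G 0 1 := by simp [hN]
  have e10 : N 1 0 = G 1 0 := by simp [hN]
  have e11 : N 1 1 = G 1 1 - 1 := by simp [hN]
  rw [e00, e11] at htr
  rw [e00, e01, e10, e11] at hdet
  rw [isConj_iff]
  by_cases hc : G 1 0 = 0
  · -- then G 0 0 = 1, G 1 1 = 1, G 0 1 ≠ 0
    rw [hc, mul_zero, sub_zero] at hdet
    have h00 : G 0 0 = 1 := by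
      have h2 : (G 0 0 - 1) * (G 0 0 - 1) = 0 := by
        have : G 1 1 - 1 = -(G 0 0 - 1) := by linear_combination htr
        rw [this] at hdet
        linear_combination -hdet
      have := mul_self_eq_zero.mp h2
      linear_combination this
    have h11 : G 1 1 = 1 := by
      rw [h00] at htr
      linear_combination htr
    have hb : G 0 1 ≠ 0 := by
      intro hb
      apply hG1
      ext i j
      fin_cases i <;> fin_cases j <;> simp [h00, h11, hb, hc]
    refine ⟨Matrix.GeneralLinearGroup.mkOfDetNeZero !![G 0 1, 0; 0, 1]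
      (by simp [Matrix.det_fin_two, hb]), ?_⟩
    rw [mul_inv_eq_iff_eq_mul]
    apply Units.ext
    ext i j
    fin_cases i <;> fin_cases j <;>
      simp [stdU, Matrix.GeneralLinearGroup.mkOfDetNeZero, Matrix.mul_apply, Fin.sum_univ_two,
        ← hG, h00, h11, hc]
  · refine ⟨Matrix.GeneralLinearGroup.mkOfDetNeZero !![G 0 0 - 1, 1; G 1 0, 0]
      (by simp [Matrix.det_fin_two, hc]), ?_⟩
    rw [mul_inv_eq_iff_eq_mul]
    apply Units.ext
    ext i j
    fin_cases i <;> fin_cases j <;>
      simp [stdU, Matrix.GeneralLinearGroup.mkOfDetNeZero, Matrix.mul_apply, Fin.sum_univ_two,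
        ← hG]
    · linear_combination hdet - (G 0 0 - 1) * htr
    · linear_combination - (G 1 0) * htr

/-- Over a finite field of characteristic p, any two elements of order p of GL₂ are conjugate: there is a single conjugacy class of non-identity unipotent elements. -/
theorem result {F : Type*} [Field F] [Fintype F] (p : ℕ) [Fact p.Prime] [CharP F p] (g h : Matrix.GeneralLinearGroup (Fin 2) F)
    (hg : orderOf g = p) (hh : orderOf h = p) : IsConj g h := by
  exact (conj_stdU p g hg).symm.trans (conj_stdU p h hh)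

end Cfsg.Agent.S2329
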