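import Cfsg.Statements.S2332
import Cfsg.Agent.Helper80.LS.Levels
import Cfsg.Agent.Helper38.SLnIrr

set_option autoImplicit false
open Cfsg

namespace Cfsg.Agent.S2332

open Cfsg.Agent.Helper80 Cfsg.Agent.Helper80.LS

/-- the number of points of projective space -/
theorem card_proj {F : Type*} [Field F] [Fintype F] [DecidableEq F] (n : ℕ) :
    Nat.card (Projectivization F (Fin n → F)) = Mq (Fintype.card F) n := by
  rw [Projectivization.card'' (k := F) (V := Fin n → F)]
  unfold Mq
  simp [Nat.card_eq_fintype_card]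

/-- Smallest degree of a non-linear irreducible complex representation of SL_n over a finite field with q elements, for n ≥ 3 and (n, q) not one of (3, 2), (3, 4), (4, 2), (4, 3): every irreducible complex representation of SL_n(F) of degree at least 2 has degree at least (q^n − q)/(q − 1), and there is an irreducible complex representation of exactly that degree. -/
theorem result {F : Type*} [Field F] [Fintype F] [DecidableEq F] (n : ℕ) (hn : 3 ≤ n)
    (hex : (n, Fintype.card F) ≠ (3, 2) ∧ (n, Fintype.card F) ≠ (3, 4) ∧ (n, Fintype.card F) ≠ (4, 2) ∧ (n, Fintype.card F) ≠ (4, 3)) :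
    (∀ (k : ℕ) (ρ : Representation ℂ (Matrix.SpecialLinearGroup (Fin n) F) (Fin k → ℂ)), ρ.IsIrreducible → 2 ≤ k → (Fintype.card F ^ n - Fintype.card F) / (Fintype.card F - 1) ≤ k) ∧
    (∃ ρ : Representation ℂ (Matrix.SpecialLinearGroup (Fin n) F) (Fin ((Fintype.card F ^ n - Fintype.card F) / (Fintype.card F - 1)) → ℂ), ρ.IsIrreducible) := by
  have hq2 : 2 ≤ Fintype.card F := card_F_ge_two
  constructor
  · intro k ρ hirr hk
    obtain ⟨m, rfl⟩ : ∃ m, n = m + 2 := ⟨n - 2, by omega⟩
    have hχ : IsIrrCharacter (Matrix.SpecialLinearGroup (Fin (m + 2)) F) ρ.character :=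
      ⟨k, ρ, hirr, rfl⟩
    have hdeg : charDegree ρ.character = k := by
      have h1 := IsCharacter.charDegree_cast (IsIrrCharacter.isCharacter hχ)
      rw [Representation.char_one] at h1
      have h2 : Module.finrank ℂ (Fin k → ℂ) = k := by simp
      rw [h2] at h1
      exact_mod_cast h1
    have := sl_top m (by omega) hex hχ (by rw [hdeg]; omega)
    rw [hdeg] at this
    exact this
  · obtain ⟨m, rfl⟩ : ∃ m, n = m + 3 := ⟨n - 3, by omega⟩
    obtain ⟨k, ρ, hirr, hρ⟩ := Helper38.isIrr_chi0N (F := F) (m := m)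
    have h1 : (k : ℂ) = Helper38.chi0N F m 1 := by
      rw [← hρ, Representation.char_one]
      simp
    have h2 : Helper38.chi0N F m 1 =
        ((Mq (Fintype.card F) (m + 3) : ℕ) : ℂ) - 1 := by
      unfold Helper38.chi0N
      rw [MulAction.fixedBy_one_eq_univ, Nat.card_congr (Equiv.Set.univ _), card_proj]
    have h3 := Nq_add_one (Fintype.card F) (m + 2) hq2
    have hk : k = (Fintype.card F ^ (m + 3) - Fintype.card F) / (Fintype.card F - 1) := by
      have h4 : (k : ℂ) = ((Nq (Fintype.card F) (m + 3) : ℕ) : ℂ) := by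
        rw [h1, h2, ← h3]
        push_cast
        ring
      have h5 : k = Nq (Fintype.card F) (m + 3) := by exact_mod_cast h4
      rw [h5]
      rfl
    subst hk
    exact ⟨ρ, hirr⟩

end Cfsg.Agent.S2332
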