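import Cfsg.Statements.S2336
import Cfsg.Agent.Helper38.SLnIrr
import Cfsg.Agent.Helper38.GL2Count

set_option autoImplicit false
open Cfsg

namespace Cfsg.Agent.S2336

open Cfsg.Agent.Helper38

/-- Let F be a finite field with q elements and n ≥ 3. The permutation character of SL_n(F) on the non-zero vectors of F^n (the function sending a matrix to the number of non-zero vectors it fixes) is the sum of the principal character and q − 1 pairwise distinct irreducible complex characters. -/
theorem result {F : Type*} [Field F] [Fintype F] [DecidableEq F] (n : ℕ) (hn : 3 ≤ n) :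
    ∃ χ : Fin (Fintype.card F - 1) → (Matrix.SpecialLinearGroup (Fin n) F → ℂ),
      (∀ i, Cfsg.IsIrrCharacter (Matrix.SpecialLinearGroup (Fin n) F) (χ i)) ∧ Function.Injective χ ∧
      ∀ g : Matrix.SpecialLinearGroup (Fin n) F,
        (Nat.card {v : Fin n → F // v ≠ 0 ∧ (g : Matrix (Fin n) (Fin n) F).mulVec v = v} : ℂ) = 1 + ∑ i, χ i g := by
  classical
  obtain ⟨m, rfl⟩ : ∃ m, n = m + 3 := ⟨n - 3, by omega⟩
  let _ : Fintype (MulChar F ℂ) := Fintype.ofFinite _
  have hcard : Fintype.card (MulChar F ℂ) = Fintype.card F - 1 := card_mulChar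
  let e : Fin (Fintype.card F - 1) ≃ MulChar F ℂ := (Fintype.equivFinOfCardEq hcard).symm
  let X : MulChar F ℂ → (Matrix.SpecialLinearGroup (Fin (m + 3)) F → ℂ) :=
    fun α => if α = 1 then chi0N F m else PsiN m α
  have hdeg : ∀ β : MulChar F ℂ, chi0N F m 1 ≠ PsiN m β 1 := by
    intro β h
    have h1 := PsiN_one_eq (F := F) (m := m) 1
    rw [PsiN_apply_one] at h1
    rw [PsiN_apply_one, h1] at h
    have : (0 : ℂ) = 1 := by linear_combination h
    exact zero_ne_one this
  refine ⟨fun i => X (e i), ?_, ?_, ?_⟩
  · intro i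
    simp only [X]
    split_ifs with h
    · exact isIrr_chi0N
    · exact isIrr_PsiN _ h
  · have hX : Function.Injective X := by
      intro α β hαβ
      simp only [X] at hαβ
      by_cases hα : α = 1 <;> by_cases hβ : β = 1
      · rw [hα, hβ]
      · rw [if_pos hα, if_neg hβ] at hαβ
        exact absurd (congrFun hαβ 1) (hdeg β)
      · rw [if_neg hα, if_pos hβ] at hαβ
        exact absurd (congrFun hαβ 1).symm (hdeg α)
      · rw [if_neg hα, if_neg hβ] at hαβ
        by_contra hne
        have h1 := classInner_PsiN (m := m) α β (fun h => hα h.1)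
        rw [← hαβ, classInner_PsiN α α (fun h => hα h.1), if_pos rfl, if_neg hne] at h1
        exact one_ne_zero h1
    exact hX.comp e.injective
  · intro g
    rw [← sum_indFun_thetaP g, Equiv.sum_comp e (fun α => X α g)]
    have hX : ∀ α : MulChar F ℂ, X α g = PsiN m α g - (if α = 1 then 1 else 0) := by
      intro α
      simp only [X]
      split_ifs with h
      · rw [h, PsiN_one_eq]; ring
      · ring
    simp only [hX, Finset.sum_sub_distrib, Finset.sum_ite_eq', Finset.mem_univ, if_true]
    unfold PsiN
    ring

end Cfsg.Agent.S2336
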