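import Cfsg.Statements.S2337
import Cfsg.Agent.Helper6.Sz52

set_option autoImplicit false
open Cfsg

namespace Cfsg.Agent.S2337

/-- For the Suzuki group Sz(q), q = 2^(2m+1) with m ≥ 1 (realised inside Sp₄ over the field with q elements), every irreducible complex representation of degree at least 2 has degree at least 2^m·(q − 1). -/
theorem result {F : Type*} [Field F] [Fintype F] (m : ℕ) (hm : 1 ≤ m) (hF : Fintype.card F = 2 ^ (2 * m + 1)) :
    (∀ (k : ℕ) (ρ : Representation ℂ (Cfsg.Lie.Sz F (2 ^ (m + 1))) (Fin k → ℂ)), ρ.IsIrreducible → 2 ≤ k → 2 ^ m * (2 ^ (2 * m + 1) - 1) ≤ k)  := by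
  classical
  intro k ρ hirr hk
  haveI := Cfsg.Agent.Helper6.lieSz_simple hm hF
  -- `ρ` is not trivial
  have hnt : ∃ g, ρ g ≠ 1 := by
    by_contra hcon
    push Not at hcon
    -- the line spanned by the first basis vector is a proper non-zero subrepresentation
    let e0 : Fin k → ℂ := Pi.single ⟨0, by omega⟩ 1
    let e1 : Fin k → ℂ := Pi.single ⟨1, by omega⟩ 1
    let L : Subrepresentation ρ :=
      { toSubmodule := Submodule.span ℂ {e0}
        apply_mem_toSubmodule := by
          intro g v hv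
          rw [hcon g]
          exact hv }
    rcases hirr.eq_bot_or_eq_top L with h | h
    · have h1 : e0 ∈ L.toSubmodule := Submodule.mem_span_singleton_self e0
      rw [h] at h1
      have h3 : e0 = 0 := (Submodule.mem_bot ℂ).1 h1
      have h4 := congrFun h3 ⟨0, by omega⟩
      simp [e0] at h4
    · have h1 : e1 ∈ L.toSubmodule := by
        rw [h]
        exact Submodule.mem_top
      obtain ⟨c, hc⟩ := Submodule.mem_span_singleton.1 h1
      have h4 := congrFun hc ⟨1, by omega⟩
      simp [e0, e1, Pi.single_apply, Fin.ext_iff] at h4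
  obtain ⟨g, hg⟩ := hnt
  -- `ρ` is injective
  have hker : (ρ : _ →* _).ker = ⊥ := by
    rcases (ρ : _ →* _).normal_ker.eq_bot_or_eq_top with h | h
    · exact h
    · exfalso
      apply hg
      have : g ∈ (ρ : _ →* _).ker := by rw [h]; exact Subgroup.mem_top g
      exact this
  have hinj : Function.Injective ρ := (MonoidHom.ker_eq_bot_iff _).1 hker
  -- transport to the matrix model
  let ρ0 : Cfsg.Sz F m →* Module.End ℂ (Fin k → ℂ) :=
    (ρ : _ →* _).comp (Cfsg.Agent.Helper6.lieSzEquiv hm hF).toMonoidHom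
  have hρ0 : ρ0 (Cfsg.Agent.Helper6.sU hF 0 1) ≠ 1 := by
    intro h
    have h1 : ρ ((Cfsg.Agent.Helper6.lieSzEquiv hm hF) (Cfsg.Agent.Helper6.sU hF 0 1)) = ρ 1 := by
      rw [map_one]
      exact h
    have h3 := (Cfsg.Agent.Helper6.lieSzEquiv hm hF).injective ((hinj h1).trans (map_one _).symm)
    have h4 := (Cfsg.Agent.Helper6.sU_eq_one_iff hm hF 0 1).1 h3
    exact one_ne_zero h4.2
  have := Cfsg.Agent.Helper6.sz_rep_finrank_ge hm hF ρ0 hρ0
  rw [Module.finrank_pi, Fintype.card_fin] at this
  exact this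

end Cfsg.Agent.S2337
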