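import Cfsg.Statements.S2355
import Cfsg.Agent.Helper59.LawSp
import Cfsg.Agent.Helper59.LawSU
import Cfsg.Agent.Helper59.LawOmega

set_option autoImplicit false
open Cfsg

namespace Cfsg.Agent.S2355

/-- A non-trivial law is satisfied by only finitely many finite simple groups that are alternating or classical, up to isomorphism: for every non-trivial element w of the free group on countably many generators there is a bound N such that every alternating group of degree ≥ 5 and every simple classical group (linear, symplectic, unitary or orthogonal, in this problem's sense) in which w is a law has order at most N. -/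
theorem result (w : FreeGroup ℕ) (hw : w ≠ 1) :
    ∃ N : ℕ, ∀ (G : Type*) [Group G] [Finite G],
      (Cfsg.IsAlternating G ∨ Cfsg.IsPSL G ∨ Cfsg.IsPSp G ∨ Cfsg.IsPSU G ∨ Cfsg.IsPOmegaOdd G ∨
          Cfsg.IsPOmegaPlus G ∨ Cfsg.IsPOmegaMinus G) →
      (∀ f : ℕ → G, FreeGroup.lift f w = 1) → Nat.card G ≤ N := by
  classical
  obtain ⟨K, hK5, hK⟩ := Cfsg.Agent.Helper59.Law.exists_alt_bound w hw
  obtain ⟨Q, hQ4, hQ⟩ := Cfsg.Agent.Helper59.Law.exists_field_bound w hw
  refine ⟨K.factorial + (Q ^ 2) ^ ((2 * K + 2) ^ 2), ?_⟩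
  intro G _ _ hG hlaw
  have hB : ∀ x, x ≤ (Q ^ 2) ^ ((2 * K + 2) ^ 2) →
      x ≤ K.factorial + (Q ^ 2) ^ ((2 * K + 2) ^ 2) :=
    fun x hx => le_trans hx (Nat.le_add_left _ _)
  rcases hG with hA | hL | hSp | hU | hO | hP | hM
  · obtain ⟨n, hn, ⟨e⟩⟩ := hA
    have hnK : n < K := by
      by_contra hcon
      push Not at hcon
      refine hK n hcon ?_
      intro f
      rw [Cfsg.Agent.Helper59.Law.law_of_mulEquiv e hlaw f]
      exact Subgroup.one_mem _
    rw [Nat.card_congr e.toEquiv]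
    have h1 : Nat.card (alternatingGroup (Fin n)) ≤ Nat.card (Equiv.Perm (Fin n)) :=
      Nat.card_le_card_of_injective _ Subtype.val_injective
    have h2 : Nat.card (Equiv.Perm (Fin n)) = n.factorial := by
      rw [Nat.card_eq_fintype_card, Fintype.card_perm, Fintype.card_fin]
    have h3 : n.factorial ≤ K.factorial := Nat.factorial_le hnK.le
    omega
  · obtain ⟨F, _, _, n, hn, -, ⟨e⟩⟩ := hL
    exact hB _ (Cfsg.Agent.Helper59.Law.psl_case hQ4 hK hQ hlaw F n hn e)
  · obtain ⟨F, _, _, m, hm, -, ⟨e⟩⟩ := hSp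
    exact hB _ (Cfsg.Agent.Helper59.Law.psp_case hQ4 hK hQ hlaw F m hm e)
  · obtain ⟨F, _, _, n, q, hF, hn, -, ⟨e⟩⟩ := hU
    exact hB _ (Cfsg.Agent.Helper59.Law.psu_case hQ4 hK hQ hlaw F n q hF hn e)
  · obtain ⟨F, _, _, m, hm, -, ⟨e⟩⟩ := hO
    exact hB _ (Cfsg.Agent.Helper59.Law.omega_odd_case hQ4 hK5 hK hQ hlaw F m (by omega) e)
  · obtain ⟨F, _, _, m, hm, ⟨e⟩⟩ := hP
    exact hB _ (Cfsg.Agent.Helper59.Law.omega_plus_case hQ4 hK5 hK hQ hlaw F m (by omega) e)
  · obtain ⟨F, _, _, m, a, b, hm, -, ⟨e⟩⟩ := hM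
    exact hB _ (Cfsg.Agent.Helper59.Law.omega_minus_case hQ4 hK5 hK hQ hlaw F (m - 1)
      (by omega) a b e)

end Cfsg.Agent.S2355
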