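import Cfsg.Statements.S2363
import Cfsg.Agent.S0243
import Cfsg.Agent.S0245
import Cfsg.Agent.S0246
import Cfsg.Agent.S0280
import Cfsg.Agent.S0292
import Cfsg.Agent.S0293
import Cfsg.Agent.S0294
import Cfsg.Agent.S1163
import Cfsg.Agent.S1059
import Cfsg.Agent.S1062
import Cfsg.Agent.S1063
import Cfsg.Agent.S1064
import Cfsg.Agent.S1065
import Cfsg.Agent.S1066
import Cfsg.Agent.S1067
import Cfsg.Agent.S1068
import Cfsg.Agent.S1069
import Cfsg.Agent.Helper39.LieOrd.Main

set_option autoImplicit false
open Cfsg

namespace Cfsg.Agent.S2363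

/-- Let G be a finite simple group of Lie type in characteristic p and let p^k be the exact power of p dividing the order of G. Then the order of G is less than p^(3k); and unless G is isomorphic to PSL(2, F) for the field F with p^k elements, the cube of the order of G is less than p^(8k) (that is, the order is below p^(8k/3)). -/
theorem result {G : Type*} [Group G] [Finite G] (p : ℕ) (hp : p.Prime) (hG : Cfsg.IsLieTypeChar p G) :
    Nat.card G < p ^ (3 * (Nat.card G).factorization p) ∧
      ((¬ ∃ (F : Type) (_ : Field F) (_ : Fintype F), Fintype.card F = p ^ (Nat.card G).factorization p ∧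
          Nonempty (G ≃* Matrix.ProjectiveSpecialLinearGroup (Fin 2) F)) →
        Nat.card G ^ 3 < p ^ (8 * (Nat.card G).factorization p)) := by
  refine Cfsg.Agent.Helper39.LieOrd.main ?_ p hp hG
  exact
    { psl := fun F _ _ q hF n hn => Cfsg.Agent.S0243.result hF n hn
      sp := fun F _ _ q hF m => Cfsg.Agent.S0245.result hF m
      spZ := fun F _ _ q hF m hm => Cfsg.Agent.S0246.result hF m hm
      psu := fun F _ _ q hF n hn => Cfsg.Agent.S0280.result hF n hn
      oOdd := fun F _ _ q hF hodd m hm => Cfsg.Agent.S0292.result hF hodd m hm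
      oPlus := fun F _ _ q hF m hm => Cfsg.Agent.S0293.result hF m hm
      oMinus := fun F _ _ q hF m hm a b hab => Cfsg.Agent.S0294.result hF m hm a b hab
      sz := fun F _ _ m hm hF => (Cfsg.Agent.S1163.result hm hF).1
      g2 := fun F _ _ q hF => Cfsg.Agent.S1059.result hF
      f4 := fun F _ _ q hF => Cfsg.Agent.S1062.result hF
      e6 := fun F _ _ q hF => Cfsg.Agent.S1063.result hF
      e7 := fun F _ _ q hF => Cfsg.Agent.S1064.result hF
      e8 := fun F _ _ q hF => Cfsg.Agent.S1065.result hF
      twE6 := fun K _ _ q hq hK => Cfsg.Agent.S1066.result hq hK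
      twD4 := fun K _ _ q hq hK => Cfsg.Agent.S1067.result hq hK
      twF4 := fun K _ _ m hK => Cfsg.Agent.S1068.result hK
      twG2 := fun K _ _ m hK => Cfsg.Agent.S1069.result hK }

end Cfsg.Agent.S2363
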