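import Cfsg.Statements.S2365
import Cfsg.Agent.Helper13.UComm4

set_option autoImplicit false
open Cfsg

namespace Cfsg.Agent.S2365

open Matrix Cfsg.Agent.Helper13

section arith
variable {F : Type*} [Field F] [Fintype F] {q : ℕ}

/-- the factors of the order formula -/
def fac (q i : ℕ) : ℕ := if Even i then q ^ (i + 1) + 1 else q ^ (i + 1) - 1

/-- `|SU_{k+1}(q)| = q^(k(k+1)/2) ∏_{i<k} fac (i+1)` -/
theorem card_SU_succ (hF : Fintype.card F = q ^ 2) (k : ℕ) :
    Nat.card (Cfsg.SU (k + 1) F q) =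
      q ^ ((k + 1) * (k + 1 - 1) / 2) * ∏ i ∈ Finset.range k, fac q (i + 1) := by
  have h := Cfsg.Agent.Helper45.GU.card_SU hF (k + 1) (by omega)
  rw [Finset.prod_range_succ'] at h
  have h0 : (if Even 0 then q ^ (0 + 1) + 1 else q ^ (0 + 1) - 1) = q + 1 := by simp
  rw [h0] at h
  have h1 : (q + 1) * Nat.card (Cfsg.SU (k + 1) F q) =
      (q + 1) * (q ^ ((k + 1) * (k + 1 - 1) / 2) * ∏ i ∈ Finset.range k, fac q (i + 1)) := by
    rw [h]
    unfold fac
    ring
  exact Nat.eq_of_mul_eq_mul_left (by omega) h1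

theorem dvd_card_SU_of_dvd_fac (hF : Fintype.card F = q ^ 2) (n : ℕ) (hn : 2 ≤ n) (r : ℕ)
    (i : ℕ) (hi1 : 1 ≤ i) (hi : i < n) (h : r ∣ fac q i) : r ∣ Nat.card (Cfsg.SU n F q) := by
  obtain ⟨k, rfl⟩ : ∃ k, n = k + 1 := ⟨n - 1, by omega⟩
  rw [card_SU_succ hF k]
  apply Dvd.dvd.mul_left
  obtain ⟨i', rfl⟩ : ∃ i', i = i' + 1 := ⟨i - 1, by omega⟩
  exact h.trans (Finset.dvd_prod_of_mem _ (Finset.mem_range.mpr (by omega)))

theorem dvd_card_SU_of_dvd_succ (hF : Fintype.card F = q ^ 2) (n : ℕ) (hn : 2 ≤ n) (r : ℕ)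
    (h : r ∣ q + 1) : r ∣ Nat.card (Cfsg.SU n F q) := by
  apply dvd_card_SU_of_dvd_fac hF n hn r 1 le_rfl (by omega)
  have hq := two_le_of_card_eq_sq hF
  have : fac q 1 = (q + 1) * (q - 1) := by
    unfold fac
    rw [if_neg (by decide)]
    obtain ⟨t, rfl⟩ : ∃ t, q = t + 1 := ⟨q - 1, by omega⟩
    simp only [Nat.add_sub_cancel]
    have : (t + 1) ^ (1 + 1) = (t + 1 + 1) * t + 1 := by ring
    omega
  rw [this]
  exact h.mul_right _

theorem char_dvd_card_SU (hF : Fintype.card F = q ^ 2) (p : ℕ) [Fact p.Prime] [CharP F p]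
    (n : ℕ) (hn : 2 ≤ n) : p ∣ Nat.card (Cfsg.SU n F q) := by
  obtain ⟨k, rfl⟩ : ∃ k, n = k + 1 := ⟨n - 1, by omega⟩
  rw [card_SU_succ hF k]
  apply Dvd.dvd.mul_right
  have hpq : p ∣ q := by
    obtain ⟨p', j, hp', hchar, rfl⟩ := exists_char_pow_of_card_eq_sq hF
    have : p = p' := CharP.eq F ‹CharP F p› hchar
    subst this
    apply dvd_pow_self
    rintro rfl
    have := two_le_of_card_eq_sq hF
    simp at this
  apply dvd_pow hpq
  have : 1 ≤ (k + 1) * (k + 1 - 1) / 2 := by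
    rw [Nat.le_div_iff_mul_le (by norm_num)]
    have : 1 ≤ k := by omega
    simp only [Nat.add_sub_cancel]
    nlinarith
  omega

end arith

section group
variable {F : Type*} [Field F] [Fintype F] {q m : ℕ}

/-- from commuting `a`, `b` in `PSU_m` of orders `p`, `r` to matrices -/
theorem exists_unitary_matrices (hF : Fintype.card F = q ^ 2) (p : ℕ) [Fact p.Prime] [CharP F p]
    (hm : 1 ≤ m) (a b : Cfsg.PSU m F q) (ha : orderOf a = p) (hab : Commute a b)
    (r : ℕ) (hr : r.Prime) (hb : orderOf b = r) (hrq : ¬ r ∣ q + 1) :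
    ∃ U B : Matrix (Fin m) (Fin m) F,
      (∀ u v, Cfsg.hermForm m F q (U *ᵥ u) (U *ᵥ v) = Cfsg.hermForm m F q u v) ∧
      (∀ u v, Cfsg.hermForm m F q (B *ᵥ u) (B *ᵥ v) = Cfsg.hermForm m F q u v) ∧
      U ^ p = 1 ∧ U ≠ 1 ∧ B * U = U * B ∧ B ^ r = 1 ∧ B ≠ 1 := by
  have hp : p.Prime := Fact.out
  have hq2 := two_le_of_card_eq_sq hF
  have hpq : p ∣ q := by
    obtain ⟨p', j, hp', hchar, rfl⟩ := exists_char_pow_of_card_eq_sq hF
    have : p = p' := CharP.eq F ‹CharP F p› hchar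
    subst this
    apply dvd_pow_self
    rintro rfl
    simp at hq2
  obtain ⟨A, rfl⟩ := QuotientGroup.mk_surjective a
  obtain ⟨B0, rfl⟩ := QuotientGroup.mk_surjective b
  set Z := Subgroup.center (Cfsg.SU m F q) with hZ
  -- the unipotent lift
  have hEmod : q + 1 ≡ 1 [MOD p] := by
    obtain ⟨t, ht⟩ := hpq
    rw [ht]
    exact Nat.mul_add_mod _ _ _
  have hAp : A ^ p ∈ Z := by
    rw [← QuotientGroup.eq_one_iff, QuotientGroup.mk_pow, ← ha]
    exact pow_orderOf_eq_one _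
  set U : Cfsg.SU m F q := A ^ (q + 1) with hU
  have hUp : U ^ p = 1 := by
    rw [hU, ← pow_mul, mul_comm, pow_mul, center_SU_pow hF hm _ hAp]
  have hUa : (QuotientGroup.mk U : Cfsg.PSU m F q) = QuotientGroup.mk A := by
    rw [hU, QuotientGroup.mk_pow]
    have := (pow_eq_pow_iff_modEq (x := (QuotientGroup.mk A : Cfsg.PSU m F q)) (n := q + 1)
      (m := 1)).mpr (by rw [ha]; exact hEmod)
    rw [this, pow_one]
  have hU1 : U ≠ 1 := by
    intro h
    rw [h, QuotientGroup.mk_one] at hUa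
    rw [← hUa, orderOf_one] at ha
    exact hp.one_lt.ne ha
  -- the lift of `b`
  have hr1 : 1 ≤ r - 1 := by have := hr.two_le; omega
  have hE'mod : (q + 1) ^ (r - 1) ≡ 1 [MOD r] := by
    have hcop : Nat.Coprime (q + 1) r := by
      rw [Nat.coprime_comm]
      exact (Nat.Prime.coprime_iff_not_dvd hr).mpr hrq
    have := Nat.ModEq.pow_totient hcop
    rwa [Nat.totient_prime hr] at this
  have hB0r : B0 ^ r ∈ Z := by
    rw [← QuotientGroup.eq_one_iff, QuotientGroup.mk_pow, ← hb]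
    exact pow_orderOf_eq_one _
  set B : Cfsg.SU m F q := B0 ^ ((q + 1) ^ (r - 1)) with hB
  have hBr : B ^ r = 1 := by
    rw [hB, ← pow_mul, mul_comm, pow_mul]
    obtain ⟨t, ht⟩ : ∃ t, (q + 1) ^ (r - 1) = (q + 1) * t :=
      ⟨(q + 1) ^ (r - 1 - 1), by rw [← pow_succ']; congr 1; omega⟩
    rw [ht, pow_mul, center_SU_pow hF hm _ hB0r, one_pow]
  have hBb : (QuotientGroup.mk B : Cfsg.PSU m F q) = QuotientGroup.mk B0 := by
    rw [hB, QuotientGroup.mk_pow]
    have := (pow_eq_pow_iff_modEq (x := (QuotientGroup.mk B0 : Cfsg.PSU m F q))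
      (n := (q + 1) ^ (r - 1)) (m := 1)).mpr (by rw [hb]; exact hE'mod)
    rw [this, pow_one]
  have hB1 : B ≠ 1 := by
    intro h
    rw [h, QuotientGroup.mk_one] at hBb
    rw [← hBb, orderOf_one] at hb
    exact hr.one_lt.ne hb
  -- `B` commutes with `U`
  have hcZ : B * U * B⁻¹ * U⁻¹ ∈ Z := by
    rw [← QuotientGroup.eq_one_iff, QuotientGroup.mk_mul, QuotientGroup.mk_mul,
      QuotientGroup.mk_mul, QuotientGroup.mk_inv, QuotientGroup.mk_inv, hUa, hBb]
    have := hab.eq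
    rw [← this, mul_inv_cancel_right, mul_inv_cancel]
  set c := B * U * B⁻¹ * U⁻¹ with hc
  have hcU : c * U = B * U * B⁻¹ := by
    rw [hc, inv_mul_cancel_right]
  have hcp : c ^ p = 1 := by
    have hcomm : Commute c U := by
      have := Subgroup.mem_center_iff.mp hcZ U
      exact this.symm
    have h1 : (c * U) ^ p = c ^ p * U ^ p := hcomm.mul_pow p
    rw [hcU, conj_pow, hUp, mul_one, mul_inv_cancel, mul_one] at h1
    exact h1.symm
  have hc1 : c = 1 := by
    have h1 : orderOf c ∣ p := orderOf_dvd_of_pow_eq_one hcp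
    have h2 : orderOf c ∣ q + 1 := orderOf_dvd_of_pow_eq_one (center_SU_pow hF hm c hcZ)
    have h3 : orderOf c ∣ q := h1.trans hpq
    have h4 : orderOf c ∣ 1 := by
      have := (Nat.dvd_sub h2 h3)
      rwa [Nat.add_sub_cancel_left] at this
    exact orderOf_eq_one_iff.mp (Nat.dvd_one.mp h4)
  have hBU : B * U = U * B := by
    have h1 := hcU
    rw [hc1, one_mul] at h1
    calc B * U = (B * U * B⁻¹) * B := by group
      _ = U * B := by rw [← h1]
  -- matrices
  have hcoe : ∀ X Y : Cfsg.SU m F q, ((X * Y : Cfsg.SU m F q).1.1 : Matrix (Fin m) (Fin m) F) =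
      X.1.1 * Y.1.1 := fun X Y => rfl
  have hcoe1 : ((1 : Cfsg.SU m F q).1.1 : Matrix (Fin m) (Fin m) F) = 1 := rfl
  have hcoepow : ∀ (X : Cfsg.SU m F q) (k : ℕ),
      ((X ^ k : Cfsg.SU m F q).1.1 : Matrix (Fin m) (Fin m) F) = X.1.1 ^ k := by
    intro X k
    rw [Subgroup.coe_pow, Matrix.SpecialLinearGroup.coe_pow]
  have hinj : ∀ X Y : Cfsg.SU m F q, X.1.1 = Y.1.1 → X = Y :=
    fun X Y h => Subtype.ext (Subtype.ext h)
  refine ⟨U.1.1, B.1.1, U.2, B.2, ?_, ?_, ?_, ?_, ?_⟩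
  · rw [← hcoepow, hUp, hcoe1]
  · intro h
    exact hU1 (hinj _ _ (h.trans hcoe1.symm))
  · rw [← hcoe, hBU, hcoe]
  · rw [← hcoepow, hBr, hcoe1]
  · intro h
    exact hB1 (hinj _ _ (h.trans hcoe1.symm))

end group

/-- Let q be a power of the prime p, F the field with q² elements, m ≥ 4, and let a, b be commuting elements of PSU(m, q) with a of order p. Then every prime divisor of the order of b divides the order of SU(m − 2, q). -/
theorem result {F : Type*} [Field F] [Fintype F] (p : ℕ) [Fact p.Prime] [CharP F p] (m q : ℕ) (hm : 4 ≤ m) (hF : Fintype.card F = q ^ 2)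
    (a b : Cfsg.PSU m F q) (ha : orderOf a = p) (hab : Commute a b) :
    (orderOf b).primeFactors ⊆ (Nat.card ↥(Cfsg.SU (m - 2) F q)).primeFactors := by
  intro r hr
  rw [Nat.mem_primeFactors] at hr ⊢
  obtain ⟨hrp, hrdvd, hb0⟩ := hr
  have hm2 : 2 ≤ m - 2 := by omega
  have hpp : p.Prime := Fact.out
  have hq2 := two_le_of_card_eq_sq hF
  refine ⟨hrp, ?_, Nat.card_pos.ne'⟩
  by_cases hrp' : r = p
  · rw [hrp']
    exact char_dvd_card_SU hF p (m - 2) hm2
  by_cases hrq1 : r ∣ q + 1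
  · exact dvd_card_SU_of_dvd_succ hF (m - 2) hm2 r hrq1
  have hb1 : orderOf (b ^ (orderOf b / r)) = r := orderOf_pow_orderOf_div hb0 hrdvd
  have hab1 : Commute a (b ^ (orderOf b / r)) := hab.pow_right _
  obtain ⟨U, B, hU, hB, hUp, hU1, hBU, hBr, hB1⟩ :=
    exists_unitary_matrices hF p (by omega) a (b ^ (orderOf b / r)) ha hab1 r hrp hb1 hrq1
  have hrq : ¬ r ∣ q := by
    obtain ⟨p', j, hp', hchar, rfl⟩ := exists_char_pow_of_card_eq_sq hF
    have : p = p' := CharP.eq F ‹CharP F p› hchar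
    subst this
    intro h
    exact hrp' ((Nat.prime_dvd_prime_iff_eq hrp hpp).mp (hrp.dvd_of_dvd_pow h))
  -- the nilpotent element
  have : Nonempty (Fin m) := ⟨⟨0, by omega⟩⟩
  set N0 : Matrix (Fin m) (Fin m) F := U - 1 with hN0
  have hN0p : N0 ^ p = 0 := by
    rw [hN0, sub_pow_char_of_commute p (Commute.one_right _), hUp, one_pow, sub_self]
  have hN00 : N0 ≠ 0 := fun h => hU1 (sub_eq_zero.mp h)
  have hex : ∃ s, N0 ^ s = 0 := ⟨p, hN0p⟩
  classical
  set s := Nat.find hex with hs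
  have hs0 : N0 ^ s = 0 := Nat.find_spec hex
  have hs2 : 2 ≤ s := by
    by_contra hlt
    push Not at hlt
    interval_cases s
    · rw [pow_zero] at hs0
      exact one_ne_zero hs0
    · rw [pow_one] at hs0
      exact hN00 hs0
  have hsmin : N0 ^ (s - 1) ≠ 0 := Nat.find_min hex (by omega)
  have hBN0 : B * N0 = N0 * B := by
    rw [hN0, mul_sub, sub_mul, hBU, mul_one, one_mul]
  have hUW : U * U ^ (p - 1) = 1 := by
    rw [← pow_succ', Nat.sub_add_cancel hpp.one_lt.le, hUp]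
  obtain ⟨i, hi, hir⟩ := dvd_of_commute_sq_zero_unitary hF hm B (N0 ^ (s - 1)) hB
    ((-1) ^ (s - 1)) (neg_one_pow_eq_or F (s - 1))
    (hermForm_unipotent_pow_adjoint hF U (U ^ (p - 1)) hU hUW s (by omega) hs0)
    (by
      rw [← pow_add]
      obtain ⟨t, ht⟩ : ∃ t, s - 1 + (s - 1) = s + t := ⟨s - 2, by omega⟩
      rw [ht, pow_add, hs0, zero_mul])
    hsmin
    (by
      have : Commute B N0 := hBN0
      exact (this.pow_right (s - 1)).eq)
    r hrp hBr hB1 hrq
  rcases Nat.eq_zero_or_pos i with rfl | hipos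
  · exfalso
    apply hrq1
    simpa using hir
  · exact dvd_card_SU_of_dvd_fac hF (m - 2) hm2 r i hipos hi hir

end Cfsg.Agent.S2365
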