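import Cfsg.Statements.S2366
import Cfsg.Agent.Helper38.SU3Elts

set_option autoImplicit false
open Cfsg

namespace Cfsg.Agent.S2366

open Matrix Cfsg.Agent.Helper38 Cfsg.Agent.Helper45.GU

/-- The set of element orders of PSU(3, q) for an odd prime power q = p^n: writing d = gcd(3, q + 1), a positive integer is the order of some element exactly when it divides one of q + 1, p(q + 1)/d, (q² − 1)/d, (q² − q + 1)/d. -/
theorem result {F : Type*} [Field F] [Fintype F] (p : ℕ) [Fact p.Prime] [CharP F p] (hp : p ≠ 2) (q : ℕ) (hF : Fintype.card F = q ^ 2) :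
    Set.range (orderOf : Cfsg.PSU 3 F q → ℕ) =
      {s : ℕ | s ∣ q + 1} ∪ {s : ℕ | s ∣ p * (q + 1) / Nat.gcd 3 (q + 1)} ∪
        {s : ℕ | s ∣ (q ^ 2 - 1) / Nat.gcd 3 (q + 1)} ∪ {s : ℕ | s ∣ (q ^ 2 - q + 1) / Nat.gcd 3 (q + 1)} := by
  classical
  obtain ⟨bar, hbar⟩ := exists_bar hF
  obtain ⟨k, hk, hq⟩ := su3_exists_pow p hF
  have hpp : p.Prime := Fact.out
  have hp3 : 3 ≤ p := by
    have := hpp.two_le
    omega
  have hq3 : 3 ≤ q := by
    rw [hq]
    calc 3 ≤ p := hp3
      _ = p ^ 1 := (pow_one p).symm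
      _ ≤ p ^ k := Nat.pow_le_pow_right (by omega) hk
  have hd0 : 0 < Nat.gcd 3 (q + 1) := Nat.gcd_pos_of_pos_left _ (by norm_num)
  have hd3 : Nat.gcd 3 (q + 1) ≤ 3 := Nat.le_of_dvd (by norm_num) (Nat.gcd_dvd_left _ _)
  have hdq : Nat.gcd 3 (q + 1) ∣ q + 1 := Nat.gcd_dvd_right _ _
  have hqq : q * 3 ≤ q * q := Nat.mul_le_mul_left q hq3
  have hsq : q ^ 2 = q * q := sq q
  ext s
  simp only [Set.mem_range, Set.mem_union, Set.mem_ofPred_eq]
  constructor
  · rintro ⟨x, rfl⟩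
    obtain ⟨X, rfl⟩ := QuotientGroup.mk_surjective x
    have hU : ((X : SpecialLinearGroup (Fin 3) F) : Matrix (Fin 3) (Fin 3) F).transpose *
        ((X : SpecialLinearGroup (Fin 3) F) : Matrix (Fin 3) (Fin 3) F).map bar = 1 :=
      unitary_of_herm bar _ ((mem_SU_iff 3 bar hbar (X : SpecialLinearGroup (Fin 3) F)).1 X.2)
    obtain ⟨N, μ, hN, hpow⟩ := su3_pow_scalar p hp hF bar hbar
      ((X : SpecialLinearGroup (Fin 3) F) : Matrix (Fin 3) (Fin 3) F)
      (X : SpecialLinearGroup (Fin 3) F).2 hU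
    have hdvd := orderOf_mk_su_dvd hF le_rfl X N μ hpow
    rcases hN with rfl | rfl | rfl | rfl
    · left; left; left; exact hdvd
    · left; left; right; exact hdvd
    · left; right; exact hdvd
    · right; exact hdvd
  · rintro (((h | h) | h) | h)
    · obtain ⟨x, hx⟩ := exists_psu3_order_one hF (by omega)
      exact Cfsg.Agent.S2476.exists_orderOf_of_dvd x _ s (by omega) hx h
    · obtain ⟨x, hx⟩ := exists_psu3_order_two hF p hq hk (by omega)
      refine Cfsg.Agent.S2476.exists_orderOf_of_dvd x _ s ?_ hx h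
      rw [Nat.mul_div_assoc p hdq]
      apply Nat.mul_pos hpp.pos
      exact Nat.div_pos (Nat.le_of_dvd (by omega) hdq) hd0
    · obtain ⟨x, hx⟩ := exists_psu3_order_three hF hq3
      refine Cfsg.Agent.S2476.exists_orderOf_of_dvd x _ s ?_ hx h
      apply Nat.div_pos _ hd0
      omega
    · obtain ⟨x, hx⟩ := exists_psu3_order_four hF p hq3
      refine Cfsg.Agent.S2476.exists_orderOf_of_dvd x _ s ?_ hx h
      apply Nat.div_pos _ hd0
      omega

end Cfsg.Agent.S2366
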