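import Cfsg.Statements.S2367
import Mathlib
-- import your own Cfsg.Agent.* helpers here

set_option autoImplicit false
open Cfsg

namespace Cfsg.Agent.S2367

open Nat

/-- product of prime powers over a list -/
def prodPow (L : List (ℕ × ℕ)) : ℕ := (L.map fun x => x.1 ^ x.2).prod

theorem prodPow_cons (x : ℕ × ℕ) (L : List (ℕ × ℕ)) : prodPow (x :: L) = x.1 ^ x.2 * prodPow L := by
  simp [prodPow]

theorem prodPow_ne_zero (L : List (ℕ × ℕ)) (hL : ∀ x ∈ L, x.1.Prime) : prodPow L ≠ 0 := by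
  induction L with
  | nil => simp [prodPow]
  | cons x L ih =>
    rw [prodPow_cons]
    have h1 : x.1.Prime := hL x (by simp)
    have h2 := ih (fun y hy => hL y (by simp [hy]))
    exact mul_ne_zero (pow_ne_zero _ h1.ne_zero) h2

theorem factorization_prodPow_of_notMem (L : List (ℕ × ℕ)) (hL : ∀ x ∈ L, x.1.Prime) (p : ℕ) (hp : p.Prime)
    (hnot : p ∉ L.map Prod.fst) : (prodPow L).factorization p = 0 := by
  induction L with
  | nil => simp [prodPow]
  | cons x L ih =>
    rw [prodPow_cons]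
    have h1 : x.1.Prime := hL x (by simp)
    have h2 := prodPow_ne_zero L (fun y hy => hL y (by simp [hy]))
    rw [Nat.factorization_mul (pow_ne_zero _ h1.ne_zero) h2]
    simp only [List.map_cons, List.mem_cons, not_or] at hnot
    have := ih (fun y hy => hL y (by simp [hy])) hnot.2
    simp only [Finsupp.coe_add, Pi.add_apply, this, add_zero, Nat.factorization_pow, Finsupp.coe_smul,
      Pi.smul_apply, smul_eq_mul]
    rw [Nat.factorization_eq_zero_of_not_dvd, mul_zero]
    intro hdvd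
    exact hnot.1 ((Nat.prime_dvd_prime_iff_eq hp h1).1 hdvd)

theorem factorization_prodPow (L : List (ℕ × ℕ)) (hL : ∀ x ∈ L, x.1.Prime) (hnd : (L.map Prod.fst).Nodup)
    (x : ℕ × ℕ) (hx : x ∈ L) : (prodPow L).factorization x.1 = x.2 := by
  induction L with
  | nil => simp at hx
  | cons y L ih =>
    rw [prodPow_cons]
    have h1 : y.1.Prime := hL y (by simp)
    have hL' : ∀ z ∈ L, z.1.Prime := fun z hz => hL z (by simp [hz])
    have h2 := prodPow_ne_zero L hL'
    rw [Nat.factorization_mul (pow_ne_zero _ h1.ne_zero) h2]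
    simp only [List.map_cons, List.nodup_cons] at hnd
    simp only [Finsupp.coe_add, Pi.add_apply, Nat.factorization_pow, Finsupp.coe_smul,
      Pi.smul_apply, smul_eq_mul]
    rcases List.mem_cons.1 hx with rfl | hx'
    · rw [factorization_prodPow_of_notMem L hL' _ h1 hnd.1, h1.factorization_self]; simp
    · rw [ih hL' hnd.2 hx']
      have hxp : x.1.Prime := hL' x hx'
      have hne : x.1 ≠ y.1 := by
        intro h
        apply hnd.1
        rw [← h]
        exact List.mem_map_of_mem (f := Prod.fst) hx'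
      rw [Nat.factorization_eq_zero_of_not_dvd, mul_zero, zero_add]
      intro hdvd
      exact hne ((Nat.prime_dvd_prime_iff_eq hxp h1).1 hdvd)

theorem spor_key (L : List (ℕ × ℕ)) (a : ℕ) (hL : ∀ x ∈ L, x.1.Prime) (hnd : (L.map Prod.fst).Nodup)
    (h2 : (2, a) ∈ L) (hcheck : ∀ x ∈ L, x.1 ≠ 2 → x.2 = 3 → x.1 ^ 3 < 2 ^ a)
    (N : ℕ) (hN : N = prodPow L) (p : ℕ) (hp : p.Prime) (hodd : p ≠ 2) (h3 : N.factorization p = 3) :
    p ^ 3 < 2 ^ N.factorization 2 := by
  subst hN
  have ha : (prodPow L).factorization 2 = a := factorization_prodPow L hL hnd (2, a) h2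
  rw [ha]
  by_cases hmem : p ∈ L.map Prod.fst
  · obtain ⟨x, hx, rfl⟩ := List.mem_map.1 hmem
    have := factorization_prodPow L hL hnd x hx
    rw [h3] at this
    exact hcheck x hx hodd this.symm
  · rw [factorization_prodPow_of_notMem L hL p hp hmem] at h3
    omega

/-- `v_2((n+2)!) ≥ v_2(n!) + 1` -/
theorem f2_step (n : ℕ) : (n)!.factorization 2 + 1 ≤ (n + 2)!.factorization 2 := by
  rw [← Nat.Prime.pow_dvd_iff_le_factorization Nat.prime_two (Nat.factorial_ne_zero _)]
  have h1 : (n + 2)! = ((n + 2) * (n + 1)) * n ! := by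
    rw [Nat.factorial_succ, Nat.factorial_succ]; ring
  rw [h1, pow_succ, mul_comm]
  apply Nat.mul_dvd_mul
  · have : Even ((n + 1) * (n + 1 + 1)) := Nat.even_mul_succ_self (n + 1)
    have h2 : (n + 2) * (n + 1) = (n + 1) * (n + 1 + 1) := by ring
    rw [h2]
    exact this.two_dvd
  · exact Nat.ordProj_dvd _ _

theorem f2_bound_aux (n : ℕ) (hn : 15 ≤ n) :
    2 * n ^ 3 < 27 * 2 ^ (n)!.factorization 2 ∧ 2 * (n + 1) ^ 3 < 27 * 2 ^ (n + 1)!.factorization 2 := by
  induction n, hn using Nat.le_induction with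
  | base =>
    have h15 : 11 ≤ (15)!.factorization 2 := by
      rw [← Nat.Prime.pow_dvd_iff_le_factorization Nat.prime_two (Nat.factorial_ne_zero _)]
      decide
    have h16 : 15 ≤ (16)!.factorization 2 := by
      rw [← Nat.Prime.pow_dvd_iff_le_factorization Nat.prime_two (Nat.factorial_ne_zero _)]
      decide
    constructor
    · calc 2 * 15 ^ 3 < 27 * 2 ^ 11 := by norm_num
        _ ≤ _ := Nat.mul_le_mul_left _ (Nat.pow_le_pow_right (by norm_num) h15)
    · calc 2 * (15 + 1) ^ 3 < 27 * 2 ^ 15 := by norm_num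
        _ ≤ _ := Nat.mul_le_mul_left _ (Nat.pow_le_pow_right (by norm_num) h16)
  | succ n hn ih =>
    refine ⟨ih.2, ?_⟩
    have h1 := f2_step n
    have h2 : 2 * (n + 1 + 1) ^ 3 ≤ 2 * (2 * n ^ 3) := by
      have : (n + 1 + 1) ^ 3 ≤ 2 * n ^ 3 := by nlinarith [hn, sq_nonneg n, mul_le_mul hn hn (by norm_num) (by positivity : 0 ≤ n)]
      omega
    calc 2 * (n + 1 + 1) ^ 3 ≤ 2 * (2 * n ^ 3) := h2
      _ < 2 * (27 * 2 ^ (n)!.factorization 2) := by have := ih.1; omega
      _ = 27 * 2 ^ ((n)!.factorization 2 + 1) := by rw [pow_succ]; ring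
      _ ≤ _ := Nat.mul_le_mul_left _ (Nat.pow_le_pow_right (by norm_num) h1)

theorem alt_lower (n p : ℕ) (hp : p.Prime) (hodd : p ≠ 2) (h3 : (n)!.factorization p = 3) :
    3 * p ≤ n ∧ 5 ≤ p := by
  have hp2 := hp.two_le
  have hp3 : 3 ≤ p := by omega
  have h3p : 3 * p ≤ n := by
    by_contra hlt
    rw [not_le] at hlt
    have hpp : 3 * p ≤ p ^ 2 := by nlinarith
    have hlog : Nat.log p n < 3 := by
      apply Nat.log_lt_of_lt_pow'  (by norm_num)
      calc n < 3 * p := hlt
        _ ≤ p ^ 2 := hpp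
        _ ≤ p ^ 3 := Nat.pow_le_pow_right (by omega) (by norm_num)
    rw [Nat.factorization_factorial hp hlog] at h3
    have e : Finset.Ico 1 3 = {1, 2} := by decide
    rw [e, Finset.sum_pair (by norm_num)] at h3
    have h4 : n / p ^ 2 = 0 := Nat.div_eq_of_lt (by omega)
    have h5 : n / p ^ 1 ≤ 2 := by
      rw [pow_one]
      have : n / p < 3 := (Nat.div_lt_iff_lt_mul hp.pos).2 hlt
      omega
    omega
  refine ⟨h3p, ?_⟩
  by_contra hlt
  have hp3' : p = 3 := by
    rw [not_le] at hlt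
    interval_cases p
    · rfl
    · exact absurd hp (by norm_num)
  subst hp3'
  have h9 : 9 ≤ n := by omega
  have hdvd : 3 ^ 4 ∣ n ! := dvd_trans (by decide : 3 ^ 4 ∣ 9 !) (Nat.factorial_dvd_factorial h9)
  rw [Nat.Prime.pow_dvd_iff_le_factorization Nat.prime_three (Nat.factorial_ne_zero _)] at hdvd
  omega

theorem alt_key (n N p : ℕ) (hn : 5 ≤ n) (hN : 2 * N = n !) (hp : p.Prime) (hodd : p ≠ 2)
    (h3 : N.factorization p = 3) : p ^ 3 < 2 ^ N.factorization 2 := by
  have hN0 : N ≠ 0 := by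
    rintro rfl
    have := Nat.factorial_pos n
    omega
  have hfp : (n)!.factorization p = 3 := by
    rw [← hN, Nat.factorization_mul (by norm_num) hN0]
    simp only [Finsupp.coe_add, Pi.add_apply, h3]
    rw [Nat.factorization_eq_zero_of_not_dvd]
    intro h
    exact hodd ((Nat.prime_dvd_prime_iff_eq hp Nat.prime_two).1 h)
  have hf2 : (n)!.factorization 2 = N.factorization 2 + 1 := by
    rw [← hN, Nat.factorization_mul (by norm_num) hN0]
    simp only [Finsupp.coe_add, Pi.add_apply, Nat.prime_two.factorization_self]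
    ring
  obtain ⟨h3p, h5⟩ := alt_lower n p hp hodd hfp
  have hn15 : 15 ≤ n := by omega
  have hb := (f2_bound_aux n hn15).1
  rw [hf2, pow_succ 2 (N.factorization 2)] at hb
  have h27 : 27 * p ^ 3 ≤ n ^ 3 := by
    calc 27 * p ^ 3 = (3 * p) ^ 3 := by ring
      _ ≤ n ^ 3 := Nat.pow_le_pow_left h3p 3
  generalize n ^ 3 = A at hb h27
  generalize p ^ 3 = B at h27 ⊢
  generalize 2 ^ N.factorization 2 = C at hb ⊢
  omega


/-- Let G be an alternating group of degree at least 5 or a simple group with the order of one of the 26 sporadic groups, and let p be an odd prime such that p³ is the exact power of p dividing the order of G. Then p³ is less than the 2-part of the order of G. -/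
theorem result {G : Type*} [Group G] [Finite G] (hG : Cfsg.IsAlternating G ∨ Cfsg.IsSporadic G)
    (p : ℕ) (hp : p.Prime) (hodd : p ≠ 2) (h3 : (Nat.card G).factorization p = 3) :
    p ^ 3 < 2 ^ (Nat.card G).factorization 2 := by
  rcases hG with hA | hS
  · obtain ⟨n, hn, ⟨e⟩⟩ := hA
    have hcard : Nat.card G = Nat.card (alternatingGroup (Fin n)) := Nat.card_congr e.toEquiv
    have : Nontrivial (Fin n) := Fin.nontrivial_iff_two_le.2 (by omega)
    have h2 : 2 * Nat.card G = n ! := by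
      rw [hcard, two_mul_nat_card_alternatingGroup, Nat.card_perm, Nat.card_fin]
    exact alt_key n _ p hn h2 hp hodd h3
  · unfold Cfsg.IsSporadic Cfsg.IsM11 Cfsg.IsM12 Cfsg.IsM22 Cfsg.IsM23 Cfsg.IsM24 Cfsg.IsJ1 Cfsg.IsJ2 Cfsg.IsJ3 Cfsg.IsJ4
      Cfsg.IsCo1 Cfsg.IsCo2 Cfsg.IsCo3 Cfsg.IsFi22 Cfsg.IsFi23 Cfsg.IsFi24' Cfsg.IsHS Cfsg.IsMcL Cfsg.IsHe
      Cfsg.IsRu Cfsg.IsSuz Cfsg.IsON Cfsg.IsHN Cfsg.IsLy Cfsg.IsTh Cfsg.IsB Cfsg.IsM at hS
    rcases hS with ⟨_, hN⟩ | ⟨_, hN⟩ | ⟨_, hN⟩ | ⟨_, hN⟩ | ⟨_, hN⟩ | ⟨_, hN⟩ | ⟨_, hN⟩ | ⟨_, hN⟩ | ⟨_, hN⟩ | ⟨_, hN⟩ | ⟨_, hN⟩ | ⟨_, hN⟩ | ⟨_, hN⟩ | ⟨_, hN⟩ | ⟨_, hN⟩ | ⟨_, hN⟩ | ⟨_, hN⟩ | ⟨_, hN⟩ | ⟨_, hN⟩ | ⟨_, hN⟩ | ⟨_, hN⟩ | ⟨_, hN⟩ | ⟨_, hN⟩ | ⟨_, hN⟩ | ⟨_, hN⟩ | ⟨_, hN⟩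
    · exact spor_key [(2,4),(3,2),(5,1),(11,1)] 4 (by decide) (by decide) (by decide) (by decide) _ (hN.trans (by norm_num [prodPow])) p hp hodd h3
    · exact spor_key [(2,6),(3,3),(5,1),(11,1)] 6 (by decide) (by decide) (by decide) (by decide) _ (hN.trans (by norm_num [prodPow])) p hp hodd h3
    · exact spor_key [(2,7),(3,2),(5,1),(7,1),(11,1)] 7 (by decide) (by decide) (by decide) (by decide) _ (hN.trans (by norm_num [prodPow])) p hp hodd h3
    · exact spor_key [(2,7),(3,2),(5,1),(7,1),(11,1),(23,1)] 7 (by decide) (by decide) (by decide) (by decide) _ (hN.trans (by norm_num [prodPow])) p hp hodd h3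
    · exact spor_key [(2,10),(3,3),(5,1),(7,1),(11,1),(23,1)] 10 (by decide) (by decide) (by decide) (by decide) _ (hN.trans (by norm_num [prodPow])) p hp hodd h3
    · exact spor_key [(2,3),(3,1),(5,1),(7,1),(11,1),(19,1)] 3 (by decide) (by decide) (by decide) (by decide) _ (hN.trans (by norm_num [prodPow])) p hp hodd h3
    · exact spor_key [(2,7),(3,3),(5,2),(7,1)] 7 (by decide) (by decide) (by decide) (by decide) _ (hN.trans (by norm_num [prodPow])) p hp hodd h3
    · exact spor_key [(2,7),(3,5),(5,1),(17,1),(19,1)] 7 (by decide) (by decide) (by decide) (by decide) _ (hN.trans (by norm_num [prodPow])) p hp hodd h3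
    · exact spor_key [(2,21),(3,3),(5,1),(7,1),(11,3),(23,1),(29,1),(31,1),(37,1),(43,1)] 21 (by decide) (by decide) (by decide) (by decide) _ (hN.trans (by norm_num [prodPow])) p hp hodd h3
    · exact spor_key [(2,21),(3,9),(5,4),(7,2),(11,1),(13,1),(23,1)] 21 (by decide) (by decide) (by decide) (by decide) _ (hN.trans (by norm_num [prodPow])) p hp hodd h3
    · exact spor_key [(2,18),(3,6),(5,3),(7,1),(11,1),(23,1)] 18 (by decide) (by decide) (by decide) (by decide) _ (hN.trans (by norm_num [prodPow])) p hp hodd h3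
    · exact spor_key [(2,10),(3,7),(5,3),(7,1),(11,1),(23,1)] 10 (by decide) (by decide) (by decide) (by decide) _ (hN.trans (by norm_num [prodPow])) p hp hodd h3
    · exact spor_key [(2,17),(3,9),(5,2),(7,1),(11,1),(13,1)] 17 (by decide) (by decide) (by decide) (by decide) _ (hN.trans (by norm_num [prodPow])) p hp hodd h3
    · exact spor_key [(2,18),(3,13),(5,2),(7,1),(11,1),(13,1),(17,1),(23,1)] 18 (by decide) (by decide) (by decide) (by decide) _ (hN.trans (by norm_num [prodPow])) p hp hodd h3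
    · exact spor_key [(2,21),(3,16),(5,2),(7,3),(11,1),(13,1),(17,1),(23,1),(29,1)] 21 (by decide) (by decide) (by decide) (by decide) _ (hN.trans (by norm_num [prodPow])) p hp hodd h3
    · exact spor_key [(2,9),(3,2),(5,3),(7,1),(11,1)] 9 (by decide) (by decide) (by decide) (by decide) _ (hN.trans (by norm_num [prodPow])) p hp hodd h3
    · exact spor_key [(2,7),(3,6),(5,3),(7,1),(11,1)] 7 (by decide) (by decide) (by decide) (by decide) _ (hN.trans (by norm_num [prodPow])) p hp hodd h3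
    · exact spor_key [(2,10),(3,3),(5,2),(7,3),(17,1)] 10 (by decide) (by decide) (by decide) (by decide) _ (hN.trans (by norm_num [prodPow])) p hp hodd h3
    · exact spor_key [(2,14),(3,3),(5,3),(7,1),(13,1),(29,1)] 14 (by decide) (by decide) (by decide) (by decide) _ (hN.trans (by norm_num [prodPow])) p hp hodd h3
    · exact spor_key [(2,13),(3,7),(5,2),(7,1),(11,1),(13,1)] 13 (by decide) (by decide) (by decide) (by decide) _ (hN.trans (by norm_num [prodPow])) p hp hodd h3
    · exact spor_key [(2,9),(3,4),(5,1),(7,3),(11,1),(19,1),(31,1)] 9 (by decide) (by decide) (by decide) (by decide) _ (hN.trans (by norm_num [prodPow])) p hp hodd h3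
    · exact spor_key [(2,14),(3,6),(5,6),(7,1),(11,1),(19,1)] 14 (by decide) (by decide) (by decide) (by decide) _ (hN.trans (by norm_num [prodPow])) p hp hodd h3
    · exact spor_key [(2,8),(3,7),(5,6),(7,1),(11,1),(31,1),(37,1),(67,1)] 8 (by decide) (by decide) (by decide) (by decide) _ (hN.trans (by norm_num [prodPow])) p hp hodd h3
    · exact spor_key [(2,15),(3,10),(5,3),(7,2),(13,1),(19,1),(31,1)] 15 (by decide) (by decide) (by decide) (by decide) _ (hN.trans (by norm_num [prodPow])) p hp hodd h3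
    · exact spor_key [(2,41),(3,13),(5,6),(7,2),(11,1),(13,1),(17,1),(19,1),(23,1),(31,1),(47,1)] 41 (by decide) (by decide) (by decide) (by decide) _ (hN.trans (by norm_num [prodPow])) p hp hodd h3
    · exact spor_key [(2,46),(3,20),(5,9),(7,6),(11,2),(13,3),(17,1),(19,1),(23,1),(29,1),(31,1),(41,1),(47,1),(59,1),(71,1)] 46 (by decide) (by decide) (by decide) (by decide) _ (hN.trans (by norm_num [prodPow])) p hp hodd h3

end Cfsg.Agent.S2367
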