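import Cfsg.Statements.S2368
import Mathlib
-- import your own Cfsg.Agent.* helpers here

set_option autoImplicit false
open Cfsg

namespace Cfsg.Agent.S2368

section helpers
open Matrix Polynomial


/-- a nilpotent `m × m` matrix over a field has `N^m = 0`. -/
theorem nilp_pow_card {F : Type*} [Field F] {m : ℕ} (N : Matrix (Fin m) (Fin m) F) (hN : IsNilpotent N) :
    N ^ m = 0 := by
  have h1 : N.charpoly = X ^ m := by
    have := Matrix.isNilpotent_charpoly_sub_pow_of_isNilpotent hN
    have h2 := this.eq_zero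
    rw [sub_eq_zero] at h2
    simpa using h2
  have h3 := Matrix.aeval_self_charpoly N
  rw [h1] at h3
  simpa using h3

theorem part1 {F : Type*} [Field F] [Fintype F] (p : ℕ) [Fact p.Prime] [CharP F p] (m : ℕ) (hm : 1 ≤ m)
    (g : Matrix.GeneralLinearGroup (Fin m) F) (hg : ∃ j : ℕ, orderOf g = p ^ j) : orderOf g < p * m := by
  obtain ⟨j, hj⟩ := hg
  have hp : p.Prime := Fact.out
  have : CharP (Matrix (Fin m) (Fin m) F) p := by
    have : Nonempty (Fin m) := ⟨⟨0, hm⟩⟩
    infer_instance
  set A : Matrix (Fin m) (Fin m) F := (g : Matrix (Fin m) (Fin m) F) with hA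
  have hApow : ∀ k : ℕ, ((g ^ k : Matrix.GeneralLinearGroup (Fin m) F) : Matrix (Fin m) (Fin m) F) = A ^ k := by
    intro k; simp [hA]
  have h1 : A ^ (p ^ j) = 1 := by
    rw [← hApow, ← hj, pow_orderOf_eq_one]; rfl
  have h2 : (A - 1) ^ (p ^ j) = 0 := by
    rw [sub_pow_char_pow_of_commute p _ (Commute.one_right A), h1]; simp
  have h3 : (A - 1) ^ m = 0 := nilp_pow_card _ ⟨_, h2⟩
  -- k = clog p m
  set k := Nat.clog p m with hk
  have hmk : m ≤ p ^ k := Nat.le_pow_clog hp.one_lt m
  have h4 : (A - 1) ^ (p ^ k) = 0 := by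
    rw [← Nat.sub_add_cancel hmk, pow_add, h3, mul_zero]
  have h5 : A ^ (p ^ k) = 1 := by
    rw [sub_pow_char_pow_of_commute p _ (Commute.one_right A)] at h4
    simpa [sub_eq_zero] using h4
  have h6 : g ^ (p ^ k) = 1 := by
    apply Units.ext
    rw [hApow, h5]; rfl
  have h7 : orderOf g ∣ p ^ k := orderOf_dvd_of_pow_eq_one h6
  have h8 : orderOf g ≤ p ^ k := Nat.le_of_dvd (pow_pos hp.pos _) h7
  have h9 : p ^ k < p * m := by
    rcases Nat.lt_or_ge 1 m with h | h
    · have := Nat.pow_pred_clog_lt_self hp.one_lt h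
      have hk1 : 1 ≤ k := Nat.clog_pos hp.one_lt h
      calc p ^ k = p * p ^ (k - 1) := by rw [← pow_succ']; congr 1; omega
        _ < p * m := by
          apply Nat.mul_lt_mul_of_pos_left _ hp.pos
          simpa [hk] using this
    · have : m = 1 := le_antisymm h hm
      subst this
      simp [hk, hp.one_lt]
  omega



/-- the nilpotent shift matrix -/
def shiftMat (F : Type*) [Field F] (m : ℕ) : Matrix (Fin m) (Fin m) F :=
  Matrix.of fun i j => if j.val = i.val + 1 then 1 else 0

theorem shiftMat_apply (F : Type*) [Field F] (m : ℕ) (i j : Fin m) :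
    shiftMat F m i j = if j.val = i.val + 1 then 1 else 0 := rfl

theorem shiftMat_pow (F : Type*) [Field F] (m : ℕ) (k : ℕ) (i j : Fin m) :
    (shiftMat F m ^ k) i j = if j.val = i.val + k then 1 else 0 := by
  induction k generalizing i j with
  | zero =>
    simp only [pow_zero, add_zero, Matrix.one_apply]
    by_cases h : i = j
    · simp [h]
    · have : ¬ (j.val = i.val) := fun h' => h (Fin.ext h'.symm)
      simp [h, this]
  | succ k ih =>
    rw [pow_succ, Matrix.mul_apply]
    have hsum : ∀ b : Fin m, (shiftMat F m ^ k) i b * shiftMat F m b j =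
        if b.val = i.val + k ∧ j.val = b.val + 1 then 1 else 0 := by
      intro b
      rw [ih, shiftMat_apply]
      by_cases h1 : b.val = i.val + k <;> by_cases h2 : j.val = b.val + 1 <;> simp [h1, h2]
    rw [Finset.sum_congr rfl (fun b _ => hsum b)]
    by_cases h : j.val = i.val + (k + 1)
    · rw [if_pos h]
      have hlt : i.val + k < m := by have := j.isLt; omega
      rw [Finset.sum_eq_single (⟨i.val + k, hlt⟩ : Fin m)]
      · have : j.val = i.val + k + 1 := by omega
        simp [this]
      · intro b _ hb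
        have h1 : ¬ (b.val = i.val + k) := fun h1 => hb (Fin.ext h1)
        simp [h1]
      · intro h'; exact absurd (Finset.mem_univ _) h'
    · rw [if_neg h]
      apply Finset.sum_eq_zero
      intro b _
      have : ¬ (b.val = i.val + k ∧ j.val = b.val + 1) := by omega
      simp [this]

theorem part2 {F : Type*} [Field F] [Fintype F] (p : ℕ) [Fact p.Prime] [CharP F p] (m : ℕ) (hm : 1 ≤ m) :
    ∃ g : Matrix.GeneralLinearGroup (Fin m) F, (∃ j : ℕ, orderOf g = p ^ j) ∧ m ≤ orderOf g := by
  have hp : p.Prime := Fact.out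
  have : CharP (Matrix (Fin m) (Fin m) F) p := by
    have : Nonempty (Fin m) := ⟨⟨0, hm⟩⟩
    infer_instance
  set N := shiftMat F m with hN
  have hNm : N ^ m = 0 := by
    ext i j
    rw [shiftMat_pow]
    have := j.isLt
    have : ¬ (j.val = i.val + m) := by omega
    simp [this]
  have hnil : IsNilpotent N := ⟨m, hNm⟩
  set g : Matrix.GeneralLinearGroup (Fin m) F := (IsNilpotent.isUnit_one_add hnil).unit with hg
  have hgc : (g : Matrix (Fin m) (Fin m) F) = 1 + N := rfl
  have hgpow : ∀ k : ℕ, ((g ^ k : Matrix.GeneralLinearGroup (Fin m) F) : Matrix (Fin m) (Fin m) F) = (1 + N) ^ k := by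
    intro k; simp [hgc]
  have hpk : ∀ k : ℕ, (1 + N) ^ (p ^ k) = 1 + N ^ (p ^ k) := by
    intro k
    rw [add_pow_char_pow_of_commute p _ (Commute.one_left N), one_pow]
  set k := Nat.clog p m with hk
  have hmk : m ≤ p ^ k := Nat.le_pow_clog hp.one_lt m
  have h6 : g ^ (p ^ k) = 1 := by
    apply Units.ext
    rw [hgpow, hpk, ← Nat.sub_add_cancel hmk, pow_add, hNm, mul_zero, add_zero]; rfl
  have h7 : orderOf g ∣ p ^ k := orderOf_dvd_of_pow_eq_one h6
  obtain ⟨j, hjk, hj⟩ := (Nat.dvd_prime_pow hp).1 h7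
  refine ⟨g, ⟨j, hj⟩, ?_⟩
  rw [hj]
  by_contra hlt
  rw [not_le] at hlt
  have h8 : g ^ (p ^ j) = 1 := by rw [← hj]; exact pow_orderOf_eq_one g
  have h9 : (1 + N) ^ (p ^ j) = 1 := by
    rw [← hgpow, h8]; rfl
  rw [hpk] at h9
  have h10 : N ^ (p ^ j) = 0 := by simpa using h9
  have h11 := congrFun (congrFun h10 ⟨0, hm⟩) ⟨p ^ j, hlt⟩
  rw [shiftMat_pow] at h11
  simp at h11


end helpers

/-- Let F be a finite field of characteristic p and m ≥ 1. Every element of GL(m, F) of p-power order has order less than p·m, and GL(m, F) has an element of p-power order at least m; so the largest order of a p-element of GL(m, F) is the least power of p that is at least m. -/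
theorem result {F : Type*} [Field F] [Fintype F] (p : ℕ) [Fact p.Prime] [CharP F p] (m : ℕ) (hm : 1 ≤ m) :
    (∀ g : Matrix.GeneralLinearGroup (Fin m) F, (∃ j : ℕ, orderOf g = p ^ j) → orderOf g < p * m) ∧
      ∃ g : Matrix.GeneralLinearGroup (Fin m) F, (∃ j : ℕ, orderOf g = p ^ j) ∧ m ≤ orderOf g := by
  exact ⟨fun g hg => part1 p m hm g hg, part2 p m hm⟩

end Cfsg.Agent.S2368
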