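import Mathlib
import Cfsg.Statements.S2380
import Cfsg.Agent.Helper40.SylowGL

set_option autoImplicit false
open scoped MatrixGroups
open Cfsg

namespace Cfsg.Agent.S2380

open Cfsg.Agent.Helper40

/-- Sylow subgroups of `GL_n(q)` for large primes. Let `F` be a field with `q` elements and `r` a prime with `r > n` and `r ∤ q`. Let `d` be the multiplicative order of `q` modulo `r` and `m` the `r`-part of the value at `q` of the `d`-th cyclotomic polynomial. Then every Sylow `r`-subgroup of `GL_n(q)` is a direct product of `⌊n/d⌋` cyclic groups of order `m` (the degrees of the Weyl group being `1, …, n`). -/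
theorem result {F : Type*} [Field F] [Fintype F] {q : ℕ} (hq : Fintype.card F = q) (n : ℕ)
    (r : ℕ) [Fact r.Prime] (hrn : n < r) (hrq : ¬ r ∣ q) (P : Sylow r (GL (Fin n) F)) :
    Nonempty (↥(P : Subgroup (GL (Fin n) F)) ≃*
      (Fin (n / orderOf (q : ZMod r)) →
        Multiplicative (ZMod (r ^ padicValNat r ((Polynomial.cyclotomic (orderOf (q : ZMod r)) ℤ).eval (q : ℤ)).natAbs)))) := by
  have hq2 : 2 ≤ q := by rw [← hq]; exact Fintype.one_lt_card
  rw [padicValNat_cyclotomic hq2 hrq]
  set d := orderOf (q : ZMod r) with hd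
  set a := padicValNat r (q ^ d - 1) with ha
  set k := n / d with hk
  have hd0 : 0 < d := ordq_pos hrq
  have hra : r ^ a ∣ Fintype.card F ^ d - 1 := by
    rw [hq, ha]; exact pow_padicValNat_dvd
  obtain ⟨ψ, hψ⟩ := exists_injective_hom_matrix (F := F) d hd0 (r ^ a) hra
  have hkd : d * k ≤ n := Nat.mul_div_le n d
  have e : (Fin d × Fin k) ⊕ Fin (n - d * k) ≃ Fin n :=
    Fintype.equivOfCardEq (by simp; omega)
  let Θ : (Fin k → Multiplicative (ZMod (r ^ a))) →* Matrix (Fin n) (Fin n) F :=
    (blockHom (F := F) e).comp (ψ.compLeft (Fin k))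
  have hΘ : Function.Injective Θ := (blockHom_injective e).comp (hψ.comp_left)
  let Ψ : (Fin k → Multiplicative (ZMod (r ^ a))) →* GL (Fin n) F := Θ.toHomUnits
  have hΨ : Function.Injective Ψ := by
    intro x y hxy
    apply hΘ
    have := congrArg (fun u : GL (Fin n) F => (u : Matrix (Fin n) (Fin n) F)) hxy
    simpa [Ψ, MonoidHom.coe_toHomUnits] using this
  have : NeZero (r ^ a) := ⟨pow_ne_zero _ (Fact.out : r.Prime).ne_zero⟩
  apply sylow_mulEquiv_of_card P Ψ hΨ
  rw [Matrix.card_GL_field, hq, padicValNat_card_GL hq2 hrq n hrn, Nat.card_eq_fintype_card]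
  simp only [Fintype.card_pi, Finset.prod_const, Finset.card_univ, Fintype.card_fin]
  rw [Fintype.card_multiplicative, ZMod.card, ← pow_mul]

end Cfsg.Agent.S2380
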