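import Cfsg.Statements.S2381
import Mathlib
import Cfsg.Agent.Helper40.SylowSp

set_option autoImplicit false
open Cfsg

namespace Cfsg.Agent.S2381

/-- Sylow subgroups of `Sp_{2n}(q)` for large primes. Let `F` be a field with `q` elements and `r` an odd prime with `r > n` and `r ∤ q` (so `r` does not divide the order `2^n n!` of the Weyl group). Let `d` be the multiplicative order of `q` modulo `r`, `a` the number of `i` with `1 ≤ i ≤ n` and `d ∣ 2i` (the degrees being `2, 4, …, 2n`), and `m` the `r`-part of the value at `q` of the `d`-th cyclotomic polynomial. Then every Sylow `r`-subgroup of the symplectic group `Sp_{2n}(q)` is a direct product of `a` cyclic groups of order `m`. -/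
theorem result {F : Type*} [Field F] [Fintype F] {q : ℕ} (hq : Fintype.card F = q) (n : ℕ)
    (r : ℕ) [Fact r.Prime] (hr2 : r ≠ 2) (hrn : n < r) (hrq : ¬ r ∣ q) (P : Sylow r ↥(Matrix.symplecticGroup (Fin n) F)) :
    Nonempty (↥(P : Subgroup ↥(Matrix.symplecticGroup (Fin n) F)) ≃*
      (Fin ((Finset.Icc 1 n).filter (fun i => orderOf (q : ZMod r) ∣ 2 * i)).card →
        Multiplicative (ZMod (r ^ padicValNat r ((Polynomial.cyclotomic (orderOf (q : ZMod r)) ℤ).eval (q : ℤ)).natAbs)))) := by
  classical
  have hq2 : 2 ≤ q := by rw [← hq]; exact Fintype.one_lt_card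
  rw [Cfsg.Agent.Helper40.padicValNat_cyclotomic hq2 hrq]
  set d := orderOf (q : ZMod r) with hd
  set v := padicValNat r (q ^ d - 1) with hv
  set a := ((Finset.Icc 1 n).filter (fun i => d ∣ 2 * i)).card with ha
  have hd0 : 0 < d := Cfsg.Agent.Helper40.ordq_pos hrq
  have hrv : r ^ v ∣ Fintype.card F ^ d - 1 := by
    rw [hq, hv]; exact pow_padicValNat_dvd
  have hNZ : NeZero (r ^ v) := ⟨pow_ne_zero _ (Fact.out : r.Prime).ne_zero⟩
  have han : a ≤ n := by
    rw [ha]
    calc ((Finset.Icc 1 n).filter (fun i => d ∣ 2 * i)).card ≤ (Finset.Icc 1 n).card := Finset.card_filter_le _ _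
      _ = n := by simp
  -- order of the symplectic group
  have hcard : padicValNat r (Nat.card ↥(Matrix.symplecticGroup (Fin n) F)) = v * a := by
    rw [Cfsg.Agent.Helper5.card_sp, hq]
    exact Cfsg.Agent.Helper40.padicValNat_card_Sp hq2 hrq hr2 n hrn
  have hcardH : ∀ k : ℕ, Nat.card (Fin k → Multiplicative (ZMod (r ^ v))) = r ^ (v * k) := by
    intro k
    rw [Nat.card_eq_fintype_card]
    simp only [Fintype.card_pi, Finset.prod_const, Finset.card_univ, Fintype.card_fin]
    rw [Fintype.card_multiplicative, ZMod.card, ← pow_mul]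
  rcases Nat.even_or_odd d with hde | hdo
  · -- `d` even: `P` is a Sylow subgroup of `GL_{2n}`
    have haN : a = (n + n) / d := by
      rw [ha, Cfsg.Agent.Helper40.card_filter_even n d hde, two_mul]
    let e : Fin n ⊕ Fin n ≃ Fin (n + n) := finSumFinEquiv
    let f0 : ↥(Matrix.symplecticGroup (Fin n) F) →* Matrix (Fin (n + n)) (Fin (n + n)) F :=
      ((Matrix.reindexAlgEquiv F F e : Matrix (Fin n ⊕ Fin n) (Fin n ⊕ Fin n) F ≃ₐ[F] _) : _ →* _).comp
        (Matrix.symplecticGroup (Fin n) F).subtype
    have hf0 : Function.Injective f0 := by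
      intro x y hxy
      apply Subtype.ext
      exact (Matrix.reindexAlgEquiv F F e).injective hxy
    let f : ↥(Matrix.symplecticGroup (Fin n) F) →* GL (Fin (n + n)) F := f0.toHomUnits
    have hf : Function.Injective f := by
      intro x y hxy
      apply hf0
      have := congrArg (fun u : GL (Fin (n + n)) F => (u : Matrix (Fin (n + n)) (Fin (n + n)) F)) hxy
      simpa [f, MonoidHom.coe_toHomUnits] using this
    have hP' : IsPGroup r ↥((P : Subgroup _).map f) := P.isPGroup'.map f
    obtain ⟨R, hR⟩ := hP'.exists_le_sylow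
    have hNr : (n + n) / d < r := by rw [← haN]; omega
    have hcR : Nat.card ↥(R : Subgroup (GL (Fin (n + n)) F)) = r ^ (v * a) := by
      rw [Sylow.card_eq_multiplicity, Nat.factorization_def _ (Fact.out : r.Prime), Matrix.card_GL_field, hq,
        Cfsg.Agent.Helper40.padicValNat_card_GL' hq2 hrq (n + n) hNr, ← hd, ← hv, ← haN]
    have hcP : Nat.card ↥((P : Subgroup _).map f) = r ^ (v * a) := by
      rw [Nat.card_congr ((P : Subgroup _).equivMapOfInjective f hf).symm.toEquiv, Sylow.card_eq_multiplicity,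
        Nat.factorization_def _ (Fact.out : r.Prime), hcard]
    have hEq : (P : Subgroup _).map f = (R : Subgroup (GL (Fin (n + n)) F)) :=
      Subgroup.eq_of_le_of_card_ge hR (by rw [hcR, hcP])
    obtain ⟨φ⟩ := Cfsg.Agent.Helper40.sylow_GL_general hq (n + n) r hNr hrq R
    rw [← hd, ← hv, ← haN] at φ
    exact ⟨((P : Subgroup _).equivMapOfInjective f hf).trans ((MulEquiv.subgroupCongr hEq).trans φ)⟩
  · -- `d` odd: torus of `GL_n` embedded diagonally
    have haN : a = n / d := by
      rw [ha, Cfsg.Agent.Helper40.card_filter_odd n d hdo]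
    rw [haN]
    obtain ⟨Ψ, hΨ⟩ := Cfsg.Agent.Helper40.exists_injective_hom_GL (F := F) n d (n / d) hd0
      (Nat.mul_div_le n d) (r ^ v) hrv
    apply Cfsg.Agent.Helper40.sylow_mulEquiv_of_card P ((Cfsg.Agent.Helper40.glToSp n).comp Ψ)
      ((Cfsg.Agent.Helper40.glToSp_injective n).comp hΨ)
    rw [hcardH, hcard, haN]

end Cfsg.Agent.S2381
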