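import Cfsg.Statements.S2388
import Cfsg.Agent.Helper43.SSConj
import Cfsg.Agent.S2569

set_option autoImplicit false
open Cfsg

namespace Cfsg.Agent.S2388

open Cfsg.Agent.Helper43

/-- In `SL_n(q)`, `q` a power of the prime `p`, two elements of order prime to `p` with the same characteristic polynomial are conjugate in `SL_n(q)` (not merely in `GL_n`). -/
theorem result {F : Type*} [Field F] [Fintype F] (p : ℕ) [Fact p.Prime] [CharP F p] (n : ℕ)
    (g h : Matrix.SpecialLinearGroup (Fin n) F) (hg : (orderOf g).Coprime p) (hh : (orderOf h).Coprime p)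
    (hc : (g : Matrix (Fin n) (Fin n) F).charpoly = (h : Matrix (Fin n) (Fin n) F).charpoly) : IsConj g h := by
  have hp : p.Prime := Fact.out
  have hne : ∀ k : ℕ, k.Coprime p → (k : F) ≠ 0 := by
    intro k hk h0
    rw [CharP.cast_eq_zero_iff F p k] at h0
    have : p ∣ Nat.gcd k p := Nat.dvd_gcd h0 dvd_rfl
    rw [hk] at this
    exact hp.one_lt.ne' (Nat.dvd_one.mp this)
  let ι : Matrix.SpecialLinearGroup (Fin n) F →* GL (Fin n) F := Matrix.SpecialLinearGroup.toGL
  have hιv : ∀ z : Matrix.SpecialLinearGroup (Fin n) F,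
      ((ι z : GL (Fin n) F) : Matrix (Fin n) (Fin n) F) = (z : Matrix (Fin n) (Fin n) F) := fun _ => rfl
  have hιinj : Function.Injective ι := by
    intro a b hab
    apply Subtype.ext
    have := congrArg (fun w : GL (Fin n) F => (w : Matrix (Fin n) (Fin n) F)) hab
    simpa [hιv] using this
  have hog : orderOf (ι g) = orderOf g := orderOf_injective ι hιinj g
  have hxg : (ι g) ^ orderOf g = 1 := by rw [← map_pow, pow_orderOf_eq_one, map_one]
  have hxh : (ι h) ^ orderOf h = 1 := by rw [← map_pow, pow_orderOf_eq_one, map_one]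
  have hconj : IsConj (ι g) (ι h) :=
    SS.isConj_GL_of_charpoly_eq (ι g) (ι h) (orderOf g) (orderOf h) (hne _ hg) (hne _ hh) hxg hxh
      (by rw [hιv, hιv]; exact hc)
  obtain ⟨c, hcc⟩ := isConj_iff.mp hconj
  obtain ⟨y, hydet, hy⟩ := Cfsg.Agent.S2569.result (p := p) (ι g) c (by rw [hog]; exact hg)
  rw [hcc] at hy
  -- y is in SL
  let ys : Matrix.SpecialLinearGroup (Fin n) F := ⟨(y : Matrix (Fin n) (Fin n) F), hydet⟩
  rw [isConj_iff]
  refine ⟨ys, ?_⟩
  rw [mul_inv_eq_iff_eq_mul]
  apply Subtype.ext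
  show (y : Matrix (Fin n) (Fin n) F) * (g : Matrix (Fin n) (Fin n) F)
    = (h : Matrix (Fin n) (Fin n) F) * (y : Matrix (Fin n) (Fin n) F)
  have h2 : y * ι g = ι h * y := by rw [← hy]; group
  have := congrArg (fun w : GL (Fin n) F => (w : Matrix (Fin n) (Fin n) F)) h2
  simpa [hιv] using this

end Cfsg.Agent.S2388
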