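import Cfsg.Statements.S2384
import Cfsg.Agent.Helper43.SSExist
import Cfsg.Agent.Helper43.SSCount
import Cfsg.Agent.S2388

set_option autoImplicit false
open Cfsg

namespace Cfsg.Agent.S2384

open Cfsg.Agent.Helper43 Polynomial

/-- In `SL_n(q)`, `q` a power of the prime `p`, the number of conjugacy classes of elements of order prime to `p` (the semisimple classes) is `q^(n-1)`. -/
theorem result {F : Type*} [Field F] [Fintype F] {q : ℕ} (hq : Fintype.card F = q) (p : ℕ) [Fact p.Prime] [CharP F p] (n : ℕ) (hn : 1 ≤ n) :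
    Nat.card {c : ConjClasses (Matrix.SpecialLinearGroup (Fin n) F) //
      ∃ g : Matrix.SpecialLinearGroup (Fin n) F, ConjClasses.mk g = c ∧ (orderOf g).Coprime p} = q ^ (n - 1) := by
  obtain ⟨m, rfl⟩ : ∃ m, n = m + 1 := ⟨n - 1, by omega⟩
  have hsq : ((-1 : F) ^ (m + 1)) * ((-1 : F) ^ (m + 1)) = 1 := by
    rw [← mul_pow]; simp
  have h1 : ∀ g c : Matrix.SpecialLinearGroup (Fin (m + 1)) F,
      ((c * g * c⁻¹ : Matrix.SpecialLinearGroup (Fin (m + 1)) F) :
        Matrix (Fin (m + 1)) (Fin (m + 1)) F).charpoly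
        = (g : Matrix (Fin (m + 1)) (Fin (m + 1)) F).charpoly := by
    intro g c
    have hc : (c : Matrix (Fin (m + 1)) (Fin (m + 1)) F)
        * ((c⁻¹ : Matrix.SpecialLinearGroup (Fin (m + 1)) F) : Matrix (Fin (m + 1)) (Fin (m + 1)) F) = 1 := by
      rw [← Matrix.SpecialLinearGroup.coe_mul, mul_inv_cancel, Matrix.SpecialLinearGroup.coe_one]
    rw [Matrix.SpecialLinearGroup.coe_mul, Matrix.SpecialLinearGroup.coe_mul, Matrix.charpoly_mul_comm,
      ← mul_assoc]
    rw [show ((c⁻¹ : Matrix.SpecialLinearGroup (Fin (m + 1)) F) : Matrix (Fin (m + 1)) (Fin (m + 1)) F)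
        * (c : Matrix (Fin (m + 1)) (Fin (m + 1)) F) = 1 from by
      rw [← Matrix.SpecialLinearGroup.coe_mul, inv_mul_cancel, Matrix.SpecialLinearGroup.coe_one],
      one_mul]
  have h2 : ∀ g h : Matrix.SpecialLinearGroup (Fin (m + 1)) F,
      (orderOf g).Coprime p → (orderOf h).Coprime p →
      (g : Matrix (Fin (m + 1)) (Fin (m + 1)) F).charpoly
        = (h : Matrix (Fin (m + 1)) (Fin (m + 1)) F).charpoly → IsConj g h := by
    intro g h hg hh hc
    exact Cfsg.Agent.S2388.result p (m + 1) g h hg hh hc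
  have h3 : ∀ g : Matrix.SpecialLinearGroup (Fin (m + 1)) F, (orderOf g).Coprime p →
      (g : Matrix (Fin (m + 1)) (Fin (m + 1)) F).charpoly.Monic ∧
      (g : Matrix (Fin (m + 1)) (Fin (m + 1)) F).charpoly.natDegree = m + 1 ∧
      (g : Matrix (Fin (m + 1)) (Fin (m + 1)) F).charpoly.coeff 0 = (-1) ^ (m + 1) := by
    intro g _
    refine ⟨Matrix.charpoly_monic _, ?_, ?_⟩
    · rw [Matrix.charpoly_natDegree_eq_dim, Fintype.card_fin]
    · have hdet := Matrix.det_eq_sign_charpoly_coeff (g : Matrix (Fin (m + 1)) (Fin (m + 1)) F)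
      rw [g.2, Fintype.card_fin] at hdet
      calc (g : Matrix (Fin (m + 1)) (Fin (m + 1)) F).charpoly.coeff 0
          = ((-1 : F) ^ (m + 1) * (-1 : F) ^ (m + 1))
              * (g : Matrix (Fin (m + 1)) (Fin (m + 1)) F).charpoly.coeff 0 := by rw [hsq, one_mul]
        _ = (-1 : F) ^ (m + 1) * ((-1 : F) ^ (m + 1)
              * (g : Matrix (Fin (m + 1)) (Fin (m + 1)) F).charpoly.coeff 0) := by rw [mul_assoc]
        _ = (-1) ^ (m + 1) := by rw [← hdet, mul_one]
  have h4 : ∀ f : F[X], (f.Monic ∧ f.natDegree = m + 1 ∧ f.coeff 0 = (-1) ^ (m + 1)) →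
      ∃ g : Matrix.SpecialLinearGroup (Fin (m + 1)) F, (orderOf g).Coprime p ∧
        (g : Matrix (Fin (m + 1)) (Fin (m + 1)) F).charpoly = f := by
    rintro f ⟨hfm, hfd, hf0⟩
    have hf0' : f.coeff 0 ≠ 0 := by
      rw [hf0]
      exact pow_ne_zero _ (neg_ne_zero.mpr one_ne_zero)
    obtain ⟨A, hA, k, hk0, hkp, hAk⟩ := SS.exists_matrix_charpoly p (m + 1) f hfm hfd hf0'
    have hdet : A.det = 1 := by
      rw [Matrix.det_eq_sign_charpoly_coeff, hA, hf0, Fintype.card_fin, hsq]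
    let g : Matrix.SpecialLinearGroup (Fin (m + 1)) F := ⟨A, hdet⟩
    have hgk : g ^ k = 1 := by
      apply Subtype.ext
      rw [Matrix.SpecialLinearGroup.coe_pow]
      exact hAk
    refine ⟨g, ?_, hA⟩
    exact Nat.Coprime.coprime_dvd_left (orderOf_dvd_of_pow_eq_one hgk) hkp
  have key := SS.card_classes_eq (G := Matrix.SpecialLinearGroup (Fin (m + 1)) F) (T := F[X])
    (fun g => (orderOf g).Coprime p) (fun g => (g : Matrix (Fin (m + 1)) (Fin (m + 1)) F).charpoly)
    (fun f => f.Monic ∧ f.natDegree = m + 1 ∧ f.coeff 0 = (-1) ^ (m + 1)) h1 h2 h3 h4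
  rw [Nat.add_sub_cancel]
  refine key.trans ?_
  rw [SS.card_monic m (fun x : F => x = (-1) ^ (m + 1)), Nat.card_eq_fintype_card (α := F), hq]
  have : Nat.card {x : F // x = (-1) ^ (m + 1)} = 1 := by
    rw [Nat.card_eq_one_iff_unique]
    exact ⟨⟨fun a b => Subtype.ext (a.2.trans b.2.symm)⟩, ⟨⟨_, rfl⟩⟩⟩
  rw [this, one_mul]

end Cfsg.Agent.S2384
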