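import Cfsg.Statements.S2390
import Cfsg.Agent.Helper38.GUCentDet
import Cfsg.Agent.Helper45.SUBasic
import Cfsg.Agent.Helper43.SSConj
import Cfsg.Agent.S2587

set_option autoImplicit false
open Cfsg

namespace Cfsg.Agent.S2390

open Cfsg.Agent.Helper43 Cfsg.Agent.Helper45.GU Matrix

/-- In the special unitary group `SU_n(q)` (inside `SL_n` over the field with `q²` elements), `q` a power of the prime `p`, two elements of order prime to `p` with the same characteristic polynomial are conjugate in `SU_n(q)`. -/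
theorem result {F : Type*} [Field F] [Fintype F] {q : ℕ} (hF : Fintype.card F = q ^ 2) (p : ℕ) [Fact p.Prime] [CharP F p] (n : ℕ)
    (g h : ↥(Cfsg.SU n F q)) (hg : (orderOf g).Coprime p) (hh : (orderOf h).Coprime p)
    (hc : ((g : Matrix.SpecialLinearGroup (Fin n) F) : Matrix (Fin n) (Fin n) F).charpoly =
      ((h : Matrix.SpecialLinearGroup (Fin n) F) : Matrix (Fin n) (Fin n) F).charpoly) : IsConj g h := by
  classical
  rcases Nat.eq_zero_or_pos n with hn | hn
  · subst hn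
    have : g = h := by
      apply Subtype.ext
      apply Subtype.ext
      exact Subsingleton.elim _ _
    rw [this]
  have hp : p.Prime := Fact.out
  have hne : ∀ k : ℕ, k.Coprime p → (k : F) ≠ 0 := by
    intro k hk h0
    rw [CharP.cast_eq_zero_iff F p k] at h0
    have : p ∣ Nat.gcd k p := Nat.dvd_gcd h0 dvd_rfl
    rw [hk] at this
    exact hp.one_lt.ne' (Nat.dvd_one.mp this)
  obtain ⟨bar, hbar⟩ := exists_bar hF
  have hinv : ∀ x, bar (bar x) = x := by
    intro x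
    rw [hbar, hbar, ← pow_mul, ← sq, ← hF, FiniteField.pow_card]
  have hbne : bar ≠ RingHom.id F := bar_ne_id hF bar hbar
  let ι : Matrix.SpecialLinearGroup (Fin n) F →* GL (Fin n) F := Matrix.SpecialLinearGroup.toGL
  have hιv : ∀ z : Matrix.SpecialLinearGroup (Fin n) F,
      ((ι z : GL (Fin n) F) : Matrix (Fin n) (Fin n) F) = (z : Matrix (Fin n) (Fin n) F) := fun _ => rfl
  have hιinj : Function.Injective ι := by
    intro a b hab
    apply Subtype.ext
    have := congrArg (fun w : GL (Fin n) F => (w : Matrix (Fin n) (Fin n) F)) hab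
    simpa [hιv] using this
  set G : Matrix (Fin n) (Fin n) F := ((g : Matrix.SpecialLinearGroup (Fin n) F) :
    Matrix (Fin n) (Fin n) F) with hG
  set H : Matrix (Fin n) (Fin n) F := ((h : Matrix.SpecialLinearGroup (Fin n) F) :
    Matrix (Fin n) (Fin n) F) with hH
  have hGu : ∀ u v, herm bar (G *ᵥ u) (G *ᵥ v) = herm bar u v := (mem_SU_iff n bar hbar g.1).1 g.2
  have hHu : ∀ u v, herm bar (H *ᵥ u) (H *ᵥ v) = herm bar u v := (mem_SU_iff n bar hbar h.1).1 h.2
  have hgGU : ι g.1 ∈ Cfsg.GU n F q := (mem_GU_iff n bar hbar (ι g.1)).2 hGu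
  have hhGU : ι h.1 ∈ Cfsg.GU n F q := (mem_GU_iff n bar hbar (ι h.1)).2 hHu
  have hogpow : ∀ (x : ↥(Cfsg.SU n F q)) (k : ℕ), x ^ k = 1 → (ι x.1) ^ k = 1 := by
    intro x k hx
    have : (x.1) ^ k = 1 := by
      have := congrArg Subtype.val hx
      simpa using this
    rw [← map_pow, this, map_one]
  have hxg : (ι g.1) ^ orderOf g = 1 := hogpow g _ (pow_orderOf_eq_one g)
  have hxh : (ι h.1) ^ orderOf h = 1 := hogpow h _ (pow_orderOf_eq_one h)
  have hconjGL : IsConj (ι g.1) (ι h.1) :=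
    SS.isConj_GL_of_charpoly_eq (ι g.1) (ι h.1) (orderOf g) (orderOf h) (hne _ hg) (hne _ hh) hxg hxh
      (by rw [hιv, hιv]; exact hc)
  have hconjGU : IsConj (⟨ι g.1, hgGU⟩ : ↥(Cfsg.GU n F q)) ⟨ι h.1, hhGU⟩ :=
    (Cfsg.Agent.S2587.result hF _ _).2 hconjGL
  obtain ⟨c, hcc⟩ := isConj_iff.mp hconjGU
  set C : Matrix (Fin n) (Fin n) F := ((c : GL (Fin n) F) : Matrix (Fin n) (Fin n) F) with hC
  have hCu : ∀ u v, herm bar (C *ᵥ u) (C *ᵥ v) = herm bar u v := (mem_GU_iff n bar hbar c.1).1 c.2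
  have hCG : C * G = H * C := by
    have h1 : c * ⟨ι g.1, hgGU⟩ = ⟨ι h.1, hhGU⟩ * c := by rw [← hcc]; group
    have h2 := congrArg (fun w : ↥(Cfsg.GU n F q) => ((w : GL (Fin n) F) : Matrix (Fin n) (Fin n) F)) h1
    simpa [hιv] using h2
  have hδ : C.det * bar C.det = 1 := det_mul_bar_det bar C hCu
  have hδ0 : C.det ≠ 0 := by
    intro h0
    rw [h0, zero_mul] at hδ
    exact zero_ne_one hδ
  have hδ' : C.det⁻¹ * bar C.det⁻¹ = 1 := by
    rw [map_inv₀, ← mul_inv, hδ, inv_one]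
  have hGk : G ^ orderOf g = 1 := by
    have := congrArg (fun w : GL (Fin n) F => (w : Matrix (Fin n) (Fin n) F)) hxg
    simpa [hιv] using this
  obtain ⟨Y, hYu, hYG, hYdet⟩ := Cfsg.Agent.Helper38.exists_unitary_commute_det p hn bar hbne hinv G
    hGu (orderOf g) hg hGk C.det⁻¹ hδ'
  have hZdet : (C * Y).det = 1 := by rw [det_mul, hYdet, mul_inv_cancel₀ hδ0]
  have hZu : ∀ u v, herm bar ((C * Y) *ᵥ u) ((C * Y) *ᵥ v) = herm bar u v := by
    intro u v
    rw [← mulVec_mulVec, ← mulVec_mulVec, hCu, hYu]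
  let zs : Matrix.SpecialLinearGroup (Fin n) F := ⟨C * Y, hZdet⟩
  have hzs : zs ∈ Cfsg.SU n F q := (mem_SU_iff n bar hbar zs).2 hZu
  rw [isConj_iff]
  refine ⟨⟨zs, hzs⟩, ?_⟩
  rw [mul_inv_eq_iff_eq_mul]
  apply Subtype.ext
  apply Subtype.ext
  show (C * Y) * G = H * (C * Y)
  rw [mul_assoc, hYG, ← mul_assoc, hCG, mul_assoc]

end Cfsg.Agent.S2390
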