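import Cfsg.Statements.S2387
import Cfsg.Agent.Helper43.SSConj
import Cfsg.Agent.Helper43.SSExist
import Cfsg.Agent.Helper43.SSCount
import Cfsg.Agent.Helper43.TransvCount

set_option autoImplicit false
open Cfsg

namespace Cfsg.Agent.S2387

open Cfsg.Agent.Helper43 Polynomial

/-- In `GL_n(q)` with `n ≥ 1`, `q` a power of the prime `p`, the number of conjugacy classes of elements of order prime to `p` (diagonalisable over the algebraic closure; determined by the characteristic polynomial) is `(q - 1) q^(n-1)`. -/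
theorem result {F : Type*} [Field F] [Fintype F] {q : ℕ} (hq : Fintype.card F = q) (p : ℕ) [Fact p.Prime] [CharP F p] (n : ℕ) (hn : 1 ≤ n) :
    Nat.card {c : ConjClasses (GL (Fin n) F) // ∃ g : GL (Fin n) F, ConjClasses.mk g = c ∧ (orderOf g).Coprime p} = (q - 1) * q ^ (n - 1) := by
  obtain ⟨m, rfl⟩ : ∃ m, n = m + 1 := ⟨n - 1, by omega⟩
  have hp : p.Prime := Fact.out
  have hne : ∀ k : ℕ, k.Coprime p → (k : F) ≠ 0 := by
    intro k hk h0
    rw [CharP.cast_eq_zero_iff F p k] at h0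
    have : p ∣ Nat.gcd k p := Nat.dvd_gcd h0 dvd_rfl
    rw [hk] at this
    exact hp.one_lt.ne' (Nat.dvd_one.mp this)
  have h1 : ∀ g c : GL (Fin (m + 1)) F,
      ((c * g * c⁻¹ : GL (Fin (m + 1)) F) : Matrix (Fin (m + 1)) (Fin (m + 1)) F).charpoly
        = (g : Matrix (Fin (m + 1)) (Fin (m + 1)) F).charpoly := by
    intro g c
    rw [Units.val_mul, Units.val_mul, Matrix.coe_units_inv]
    exact Matrix.charpoly_units_conj c _
  have h2 : ∀ g h : GL (Fin (m + 1)) F, (orderOf g).Coprime p → (orderOf h).Coprime p →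
      (g : Matrix (Fin (m + 1)) (Fin (m + 1)) F).charpoly
        = (h : Matrix (Fin (m + 1)) (Fin (m + 1)) F).charpoly → IsConj g h := by
    intro g h hg hh hc
    exact SS.isConj_GL_of_charpoly_eq g h (orderOf g) (orderOf h) (hne _ hg) (hne _ hh)
      (pow_orderOf_eq_one g) (pow_orderOf_eq_one h) hc
  have h3 : ∀ g : GL (Fin (m + 1)) F, (orderOf g).Coprime p →
      (g : Matrix (Fin (m + 1)) (Fin (m + 1)) F).charpoly.Monic ∧
      (g : Matrix (Fin (m + 1)) (Fin (m + 1)) F).charpoly.natDegree = m + 1 ∧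
      (g : Matrix (Fin (m + 1)) (Fin (m + 1)) F).charpoly.coeff 0 ≠ 0 := by
    intro g _
    refine ⟨Matrix.charpoly_monic _, ?_, ?_⟩
    · rw [Matrix.charpoly_natDegree_eq_dim, Fintype.card_fin]
    · intro h0
      have hdet := Matrix.det_eq_sign_charpoly_coeff (g : Matrix (Fin (m + 1)) (Fin (m + 1)) F)
      rw [h0, mul_zero] at hdet
      have hu : IsUnit (g : Matrix (Fin (m + 1)) (Fin (m + 1)) F).det :=
        (Matrix.isUnit_iff_isUnit_det _).mp ⟨g, rfl⟩
      exact hu.ne_zero hdet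
  have h4 : ∀ f : F[X], (f.Monic ∧ f.natDegree = m + 1 ∧ f.coeff 0 ≠ 0) →
      ∃ g : GL (Fin (m + 1)) F, (orderOf g).Coprime p ∧
        (g : Matrix (Fin (m + 1)) (Fin (m + 1)) F).charpoly = f := by
    rintro f ⟨hfm, hfd, hf0⟩
    obtain ⟨A, hA, k, hk0, hkp, hAk⟩ := SS.exists_matrix_charpoly p (m + 1) f hfm hfd hf0
    have h1 : A * A ^ (k - 1) = 1 := by
      rw [← pow_succ', Nat.sub_add_cancel hk0, hAk]
    have h2 : A ^ (k - 1) * A = 1 := by
      rw [← pow_succ, Nat.sub_add_cancel hk0, hAk]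
    let g : GL (Fin (m + 1)) F := ⟨A, A ^ (k - 1), h1, h2⟩
    have hgk : g ^ k = 1 := by
      apply Units.ext
      rw [Units.val_pow_eq_pow_val]
      exact hAk
    refine ⟨g, ?_, hA⟩
    exact Nat.Coprime.coprime_dvd_left (orderOf_dvd_of_pow_eq_one hgk) hkp
  have key := SS.card_classes_eq (G := GL (Fin (m + 1)) F) (T := F[X])
    (fun g => (orderOf g).Coprime p) (fun g => (g : Matrix (Fin (m + 1)) (Fin (m + 1)) F).charpoly)
    (fun f => f.Monic ∧ f.natDegree = m + 1 ∧ f.coeff 0 ≠ 0) h1 h2 h3 h4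
  rw [Nat.add_sub_cancel]
  refine key.trans ?_
  rw [SS.card_monic m (fun x : F => x ≠ 0), natCard_subtype_ne, Nat.card_eq_fintype_card, hq]

end Cfsg.Agent.S2387
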