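import Cfsg.Statements.S2391
import Mathlib
-- import your own Cfsg.Agent.* helpers here

set_option autoImplicit false
open Cfsg

namespace Cfsg.Agent.S2391

section helpers

open Matrix

variable {F : Type*} [Field F] {n : ℕ}

abbrev SLn (n : ℕ) (F : Type*) [Field F] := Matrix.SpecialLinearGroup (Fin n) F

/-- the natural representation of a subgroup of `SL_n` -/
def natRep (U : Subgroup (SLn n F)) : Representation F U (Fin n → F) where
  toFun u := Matrix.mulVecLin ((u : Matrix.SpecialLinearGroup (Fin n) F) : Matrix (Fin n) (Fin n) F)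
  map_one' := by ext; simp
  map_mul' a b := by
    ext v
    simp [Matrix.mulVecLin_mul]

theorem natRep_apply (U : Subgroup (SLn n F)) (u : U) (v : Fin n → F) :
    natRep U u v = ((u : Matrix.SpecialLinearGroup (Fin n) F) : Matrix (Fin n) (Fin n) F).mulVec v := rfl

/-- if `W ≠ ⊤` is `U`-invariant, `U` a `p`-group, then some `v ∉ W` is fixed by `U` modulo `W`. -/
theorem exists_fixed_mod [Fintype F] (p : ℕ) [Fact p.Prime] [CharP F p]
    (U : Subgroup (SLn n F)) (hU : IsPGroup p ↥U)
    (W : Submodule F (Fin n → F)) (hW : W ≠ ⊤)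
    (hinv : ∀ u : U, W ≤ W.comap (natRep U u)) :
    ∃ v : Fin n → F, v ∉ W ∧ ∀ u : U, natRep U u v - v ∈ W := by
  classical
  set ρq : Representation F U ((Fin n → F) ⧸ W) := (natRep U).quotient W hinv with hρq
  let act : MulAction U ((Fin n → F) ⧸ W) := MulAction.compHom _ ρq
  have hsmul : ∀ (u : U) (x : (Fin n → F) ⧸ W), u • x = ρq u x := fun u x => rfl
  have hfin : Finite ((Fin n → F) ⧸ W) := Finite.of_surjective _ (Submodule.Quotient.mk_surjective W)
  have hnt : Nontrivial ((Fin n → F) ⧸ W) := Submodule.Quotient.nontrivial_iff.2 hW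
  -- cardinality divisible by p
  have hcard : p ∣ Nat.card ((Fin n → F) ⧸ W) := by
    have hp : p.Prime := Fact.out
    rw [Module.natCard_eq_pow_finrank (K := F)]
    obtain ⟨k, _, hk⟩ := FiniteField.card F p
    have hpos : 0 < Module.finrank F ((Fin n → F) ⧸ W) := Module.finrank_pos
    rw [Nat.card_eq_fintype_card, hk]
    apply dvd_pow _ hpos.ne'
    exact dvd_pow_self p k.ne_zero
  have h0 : (0 : (Fin n → F) ⧸ W) ∈ MulAction.fixedPoints U ((Fin n → F) ⧸ W) := by
    intro u
    rw [hsmul, map_zero]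
  obtain ⟨b, hb, hb0⟩ := hU.exists_fixed_point_of_prime_dvd_card_of_fixed_point _ hcard h0
  obtain ⟨v, rfl⟩ := Submodule.Quotient.mk_surjective W b
  refine ⟨v, ?_, ?_⟩
  · intro hv
    apply hb0
    rw [eq_comm, Submodule.Quotient.mk_eq_zero]
    exact hv
  · intro u
    have := hb u
    rw [hsmul, hρq, Representation.quotient_apply, Submodule.mapQ_apply, Submodule.Quotient.eq] at this
    exact this


/-- vectors moved into `W` by all `u - 1` -/
def step (U : Subgroup (SLn n F)) (W : Submodule F (Fin n → F)) : Submodule F (Fin n → F) where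
  carrier := {v | ∀ u ∈ U, (u : Matrix (Fin n) (Fin n) F).mulVec v - v ∈ W}
  add_mem' := by
    intro a b ha hb u hu
    have : (u : Matrix (Fin n) (Fin n) F).mulVec (a + b) - (a + b) =
        ((u : Matrix (Fin n) (Fin n) F).mulVec a - a) + ((u : Matrix (Fin n) (Fin n) F).mulVec b - b) := by
      rw [Matrix.mulVec_add]; abel
    rw [this]
    exact W.add_mem (ha u hu) (hb u hu)
  zero_mem' := by
    intro u _
    simp
  smul_mem' := by
    intro c a ha u hu
    have : (u : Matrix (Fin n) (Fin n) F).mulVec (c • a) - (c • a) =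
        c • ((u : Matrix (Fin n) (Fin n) F).mulVec a - a) := by
      rw [Matrix.mulVec_smul, smul_sub]
    rw [this]
    exact W.smul_mem c (ha u hu)

theorem mem_step (U : Subgroup (SLn n F)) (W : Submodule F (Fin n → F)) (v : Fin n → F) :
    v ∈ step U W ↔ ∀ u ∈ U, (u : Matrix (Fin n) (Fin n) F).mulVec v - v ∈ W := Iff.rfl

/-- the ascending chain -/
def chain (U : Subgroup (SLn n F)) : ℕ → Submodule F (Fin n → F)
  | 0 => ⊥
  | i + 1 => step U (chain U i)

theorem chain_zero (U : Subgroup (SLn n F)) : chain U 0 = ⊥ := rfl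
theorem chain_succ (U : Subgroup (SLn n F)) (i : ℕ) : chain U (i + 1) = step U (chain U i) := rfl

theorem step_mono (U : Subgroup (SLn n F)) {W W' : Submodule F (Fin n → F)} (h : W ≤ W') :
    step U W ≤ step U W' := fun _ hv u hu => h (hv u hu)

theorem chain_le_succ (U : Subgroup (SLn n F)) (i : ℕ) : chain U i ≤ chain U (i + 1) := by
  induction i with
  | zero => rw [chain_zero]; exact bot_le
  | succ i ih => rw [chain_succ, chain_succ U (i + 1)]; exact step_mono U ih

theorem chain_mono (U : Subgroup (SLn n F)) : Monotone (chain U) :=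
  monotone_nat_of_le_succ (chain_le_succ U)

theorem chain_map_le (U : Subgroup (SLn n F)) (g : SLn n F)
    (hg : g ∈ Subgroup.normalizer (U : Set (SLn n F))) (i : ℕ) :
    (chain U i).map (Matrix.mulVecLin (g : Matrix (Fin n) (Fin n) F)) ≤ chain U i := by
  induction i with
  | zero => rw [chain_zero, Submodule.map_bot]
  | succ i ih =>
    rintro _ ⟨v, hv, rfl⟩
    rw [chain_succ, mem_step]
    intro u hu
    have hu' : g⁻¹ * u * g ∈ U := by
      have hg' : g⁻¹ ∈ Subgroup.normalizer (U : Set (SLn n F)) := inv_mem hg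
      have := (Subgroup.mem_normalizer_iff.1 hg' u).1 hu
      simpa using this
    have hv' := (mem_step U _ v).1 hv _ hu'
    have key : (u : Matrix (Fin n) (Fin n) F).mulVec (Matrix.mulVecLin (g : Matrix (Fin n) (Fin n) F) v) -
        Matrix.mulVecLin (g : Matrix (Fin n) (Fin n) F) v =
        Matrix.mulVecLin (g : Matrix (Fin n) (Fin n) F)
          (((g⁻¹ * u * g : SLn n F) : Matrix (Fin n) (Fin n) F).mulVec v - v) := by
      have hmul : g * (g⁻¹ * u * g) = u * g := by group
      rw [map_sub]
      simp only [Matrix.mulVecLin_apply, Matrix.mulVec_mulVec]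
      rw [← Matrix.SpecialLinearGroup.coe_mul, ← Matrix.SpecialLinearGroup.coe_mul, hmul]
    rw [key]
    exact ih (Submodule.mem_map_of_mem hv')

theorem chain_map_eq (U : Subgroup (SLn n F)) (g : SLn n F)
    (hg : g ∈ Subgroup.normalizer (U : Set (SLn n F))) (i : ℕ) :
    (chain U i).map (Matrix.mulVecLin (g : Matrix (Fin n) (Fin n) F)) = chain U i := by
  apply le_antisymm (chain_map_le U g hg i)
  intro v hv
  have hg' : g⁻¹ ∈ Subgroup.normalizer (U : Set (SLn n F)) := inv_mem hg
  have h1 := chain_map_le U g⁻¹ hg' i (Submodule.mem_map_of_mem hv)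
  refine ⟨_, h1, ?_⟩
  simp only [Matrix.mulVecLin_apply, Matrix.mulVec_mulVec]
  rw [← Matrix.SpecialLinearGroup.coe_mul]
  simp


theorem chain_lt_succ [Fintype F] (p : ℕ) [Fact p.Prime] [CharP F p]
    (U : Subgroup (SLn n F)) (hU : IsPGroup p ↥U) (i : ℕ) (hi : chain U i ≠ ⊤) :
    chain U i < chain U (i + 1) := by
  have hinv : ∀ u : U, chain U i ≤ (chain U i).comap (natRep U u) := by
    intro u
    rw [← Submodule.map_le_iff_le_comap]
    exact chain_map_le U u (Subgroup.le_normalizer u.2) i
  obtain ⟨v, hv, hfix⟩ := exists_fixed_mod p U hU (chain U i) hi hinv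
  refine lt_of_le_of_ne (chain_le_succ U i) ?_
  intro heq
  apply hv
  rw [heq, chain_succ, mem_step]
  intro u hu
  exact hfix ⟨u, hu⟩

theorem chain_one_ne_top (U : Subgroup (SLn n F)) (hne : U ≠ ⊥) : chain U 1 ≠ ⊤ := by
  intro htop
  apply hne
  rw [Subgroup.eq_bot_iff_forall]
  intro u hu
  have h1 : ∀ v : Fin n → F, (u : Matrix (Fin n) (Fin n) F).mulVec v = v := by
    intro v
    have hv : v ∈ chain U 1 := by rw [htop]; trivial
    have := (mem_step U _ v).1 hv u hu
    rw [chain_zero, Submodule.mem_bot, sub_eq_zero] at this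
    exact this
  apply Subtype.ext
  rw [Matrix.SpecialLinearGroup.coe_one]
  apply Matrix.toLin'.injective
  apply LinearMap.ext
  intro v
  rw [Matrix.toLin'_apply, h1, Matrix.toLin'_one, LinearMap.id_apply]

theorem exists_chain_eq_top [Fintype F] (p : ℕ) [Fact p.Prime] [CharP F p]
    (U : Subgroup (SLn n F)) (hU : IsPGroup p ↥U) : ∃ i, chain U i = ⊤ := by
  by_contra hcon
  push Not at hcon
  have hlt : ∀ i, chain U i < chain U (i + 1) := fun i => chain_lt_succ p U hU i (hcon i)
  have hrank : ∀ i, i ≤ Module.finrank F (chain U i) := by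
    intro i
    induction i with
    | zero => exact Nat.zero_le _
    | succ i ih =>
      have := Submodule.finrank_lt_finrank_of_lt (hlt i)
      omega
  have h1 := hrank (n + 1)
  have h2 : Module.finrank F (chain U (n + 1)) ≤ Module.finrank F (Fin n → F) := Submodule.finrank_le _
  rw [Module.finrank_fin_fun] at h2
  omega

theorem main [Fintype F] (p : ℕ) [Fact p.Prime] [CharP F p] (n : ℕ)
    (U : Subgroup (Matrix.SpecialLinearGroup (Fin n) F)) (hU : IsPGroup p ↥U) (hne : U ≠ ⊥) :
    ∃ (k : ℕ) (V : Fin (k + 2) → Submodule F (Fin n → F)), 1 ≤ k ∧ StrictMono V ∧ V 0 = ⊥ ∧ V (Fin.last (k + 1)) = ⊤ ∧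
      (∀ g ∈ Subgroup.normalizer (U : Set (Matrix.SpecialLinearGroup (Fin n) F)), ∀ i, (V i).map (Matrix.mulVecLin (g : Matrix (Fin n) (Fin n) F)) = V i) ∧
      (∀ u ∈ U, ∀ i : Fin (k + 1), ∀ v ∈ V i.succ, (u : Matrix (Fin n) (Fin n) F).mulVec v - v ∈ V (Fin.castSucc i)) := by
  classical
  have hex := exists_chain_eq_top p U hU
  set K := Nat.find hex with hK
  have hKtop : chain U K = ⊤ := Nat.find_spec hex
  have hKmin : ∀ i, i < K → chain U i ≠ ⊤ := fun i hi => Nat.find_min hex hi
  have h1 : chain U 1 ≠ ⊤ := chain_one_ne_top U hne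
  have h0 : chain U 0 ≠ ⊤ := by
    intro h
    apply h1
    exact top_le_iff.1 (h ▸ chain_le_succ U 0)
  have hK2 : 2 ≤ K := by
    by_contra hlt
    have : K = 0 ∨ K = 1 := by omega
    rcases this with h | h
    · rw [h] at hKtop; exact h0 hKtop
    · rw [h] at hKtop; exact h1 hKtop
  refine ⟨K - 1, fun i => chain U i.val, by omega, ?_, ?_, ?_, ?_, ?_⟩
  · intro i j hij
    have hij' : i.val < j.val := hij
    have hiK : i.val < K := by have := j.isLt; omega
    calc chain U i.val < chain U (i.val + 1) := chain_lt_succ p U hU _ (hKmin _ hiK)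
      _ ≤ chain U j.val := chain_mono U hij'
  · rfl
  · show chain U (Fin.last (K - 1 + 1)).val = ⊤
    rw [Fin.val_last]
    have : K - 1 + 1 = K := by omega
    rw [this]; exact hKtop
  · intro g hg i
    exact chain_map_eq U g hg i.val
  · intro u hu i v hv
    have hv' : v ∈ chain U (i.val + 1) := by simpa using hv
    simpa using (mem_step U _ v).1 hv' u hu


end helpers

/-- The Borel–Tits property of `SL_n(q)` in flag form: for a field `F` of characteristic `p` with finitely many elements and a non-trivial `p`-subgroup `U` of `SL_n(F)`, there is a flag `0 = V₀ < V₁ < ⋯ < V_{k+1} = F^n` with at least one proper non-zero member such that every element of the normaliser of `U` maps each `V_i` onto itself and every element of `U` acts trivially on each quotient `V_{i+1}/V_i` (so the normaliser lies in the parabolic subgroup of the flag and `U` in its unipotent radical). -/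
theorem result {F : Type*} [Field F] [Fintype F] (p : ℕ) [Fact p.Prime] [CharP F p] (n : ℕ)
    (U : Subgroup (Matrix.SpecialLinearGroup (Fin n) F)) (hU : IsPGroup p ↥U) (hne : U ≠ ⊥) :
    ∃ (k : ℕ) (V : Fin (k + 2) → Submodule F (Fin n → F)), 1 ≤ k ∧ StrictMono V ∧ V 0 = ⊥ ∧ V (Fin.last (k + 1)) = ⊤ ∧
      (∀ g ∈ Subgroup.normalizer (U : Set (Matrix.SpecialLinearGroup (Fin n) F)), ∀ i, (V i).map (Matrix.mulVecLin (g : Matrix (Fin n) (Fin n) F)) = V i) ∧
      (∀ u ∈ U, ∀ i : Fin (k + 1), ∀ v ∈ V i.succ, (u : Matrix (Fin n) (Fin n) F).mulVec v - v ∈ V (Fin.castSucc i)) := by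
  exact main p n U hU hne

end Cfsg.Agent.S2391
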