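import Cfsg.Statements.S2392
import Cfsg.Agent.Helper38.CrossBound

set_option autoImplicit false
open scoped MatrixGroups

namespace Cfsg.Agent.S2392

open Cfsg.Agent.Helper38 Matrix

/-- the row vectors with vanishing first coordinate are the vectors of length `n - 1` -/
def rowSubEquiv (F : Type*) [Field F] (m : ℕ) : rowSub F m ≃ (Fin (m + 2) → F) where
  toFun r := Fin.tail r.1
  invFun a := ⟨Fin.cons 0 a, by rw [mem_rowSub, Fin.cons_zero]⟩
  left_inv r := by
    apply Subtype.ext
    simp only
    have h0 : (0 : F) = r.1 0 := r.2.symm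
    rw [h0]
    exact Fin.cons_self_tail r.1
  right_inv a := by simp

theorem Tsl_single_eq {F : Type*} [Field F] {m : ℕ}
    (h : (Pi.single 1 1 : Fin (m + 3) → F) ∈ rowSub F m) :
    Tsl ⟨Pi.single 1 1, h⟩ = SpecialLinearGroup.transvection (fin01 (m := m)) (1 : F) := by
  apply Subtype.ext
  rw [Tsl_coe, SpecialLinearGroup.transvection_coe]
  congr 1
  ext i j
  simp only [e0, vecMulVec_apply, Matrix.single_apply, Pi.single_apply]
  by_cases hi : i = 0 <;> by_cases hj : j = 1 <;> simp [hi, hj, eq_comm]

/-- A lower bound for representations in cross characteristic: for `n ≥ 3` and a field `F` with `q` elements, every homomorphism from `SL_n(F)` to `GL_d(K)`, `K` a field of characteristic different from that of `F`, whose kernel is central has `d ≥ q^(n-1) - 1`. -/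
theorem result {F : Type*} [Field F] [Fintype F] {q : ℕ} (hq : Fintype.card F = q) (n : ℕ) (hn : 3 ≤ n)
    {K : Type*} [Field K] (hK : ringChar K ≠ ringChar F) {d : ℕ}
    (ρ : Matrix.SpecialLinearGroup (Fin n) F →* GL (Fin d) K) (hker : ρ.ker ≤ Subgroup.center (Matrix.SpecialLinearGroup (Fin n) F)) :
    q ^ (n - 1) - 1 ≤ d := by
  classical
  obtain ⟨m, rfl⟩ : ∃ m, n = m + 3 := ⟨n - 3, by omega⟩
  let P := AddChar.FiniteField.primitiveChar F K hK
  have hψ : P.char ≠ 1 := by
    have := P.prim (one_ne_zero (α := F))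
    rwa [AddChar.mulShift_one] at this
  let _ : Fintype (rowSub F m) := Fintype.ofFinite _
  have hcardR : Fintype.card (rowSub F m) = q ^ (m + 2) := by
    rw [Fintype.card_congr (rowSubEquiv F m), Fintype.card_fun, Fintype.card_fin, hq]
  -- `q` is invertible in the cyclotomic field
  have hqK : ((q : ℕ) : CyclotomicField P.n K) ≠ 0 := by
    have hp : (ringChar F).Prime := CharP.char_is_prime F (ringChar F)
    obtain ⟨f, -, hf⟩ := FiniteField.card F (ringChar F)
    rw [hq] at hf
    have hpK : ((ringChar F : ℕ) : K) ≠ 0 := by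
      intro h0
      rw [CharP.cast_eq_zero_iff K (ringChar K)] at h0
      rcases (Nat.dvd_prime hp).1 h0 with h1 | h1
      · exact CharP.ringChar_ne_one h1
      · exact hK h1
    have hpK' : ((ringChar F : ℕ) : CyclotomicField P.n K) ≠ 0 := by
      rw [← map_natCast (algebraMap K (CyclotomicField P.n K))]
      intro h0
      apply hpK
      exact (algebraMap K (CyclotomicField P.n K)).injective (by rw [h0, map_zero])
    rw [hf, Nat.cast_pow]
    exact pow_ne_zero _ hpK'
  have hR : (Fintype.card (rowSub F m) : CyclotomicField P.n K) ≠ 0 := by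
    rw [hcardR, Nat.cast_pow]
    exact pow_ne_zero _ hqK
  -- the representation over the cyclotomic field
  let τ : SpecialLinearGroup (Fin (m + 3)) F →* Matrix (Fin d) (Fin d) (CyclotomicField P.n K) :=
    (((algebraMap K (CyclotomicField P.n K)).mapMatrix (m := Fin d)) : Matrix (Fin d) (Fin d) K →*
      Matrix (Fin d) (Fin d) (CyclotomicField P.n K)).comp
      ((Units.coeHom (Matrix (Fin d) (Fin d) K)).comp ρ)
  have hmem : (Pi.single 1 1 : Fin (m + 3) → F) ∈ rowSub F m := by
    rw [mem_rowSub, Pi.single_eq_of_ne (fin01 (m := m))]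
  have hτ : ∃ r : rowSub F m, τ (Tsl r) ≠ 1 := by
    refine ⟨⟨Pi.single 1 1, hmem⟩, ?_⟩
    intro h1
    have h2 : ((ρ (Tsl ⟨Pi.single 1 1, hmem⟩) : GL (Fin d) K) : Matrix (Fin d) (Fin d) K) = 1 := by
      have hinj : Function.Injective
          ((algebraMap K (CyclotomicField P.n K)).mapMatrix (m := Fin d)) :=
        Matrix.map_injective (algebraMap K (CyclotomicField P.n K)).injective
      apply hinj
      rw [map_one]
      exact h1
    have h3 : ρ (Tsl ⟨Pi.single 1 1, hmem⟩) = 1 := Units.ext h2
    have h4 : Tsl ⟨Pi.single 1 1, hmem⟩ ∈ Subgroup.center (SpecialLinearGroup (Fin (m + 3)) F) :=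
      hker (MonoidHom.mem_ker.2 h3)
    rw [Tsl_single_eq, SpecialLinearGroup.transvection_mem_center_iff] at h4
    exact one_ne_zero h4
  have key := crosschar_bound P.char hψ hR τ hτ
  rw [hcardR] at key
  exact key

end Cfsg.Agent.S2392
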