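import Cfsg.Statements.S2393
import Cfsg.Agent.Helper38.SpBound

set_option autoImplicit false
open scoped MatrixGroups

namespace Cfsg.Agent.S2393

open Cfsg.Agent.Helper38 Matrix

theorem uSp_f0_not_central {F : Type*} [Field F] {m : ℕ} (h2 : (2 : F) ≠ 0) :
    uSp (f0 F m) ∉ Subgroup.center ↥(Matrix.symplecticGroup (Fin (m + 2)) F) := by
  intro hc
  rw [Subgroup.mem_center_iff] at hc
  have h := hc (SymplecticGroup.symJ (Fin (m + 2)) F)
  have h' := congrArg (fun M : ↥(Matrix.symplecticGroup (Fin (m + 2)) F) =>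
    (M : Matrix (Fin (m + 2) ⊕ Fin (m + 2)) (Fin (m + 2) ⊕ Fin (m + 2)) F) (Sum.inr 0) (Sum.inr 0)) h
  simp only [Submonoid.coe_mul, SymplecticGroup.coe_J, uSp_coe, Matrix.J, fromBlocks_multiply,
    fromBlocks_apply₂₂] at h'
  simp [Ssym, vecMulVec_apply, f0] at h'
  apply h2
  linear_combination h'

/-- A lower bound for representations in cross characteristic: for `n ≥ 2` and a field `F` with `q` elements, `q` odd, every homomorphism from the symplectic group `Sp_{2n}(F)` to `GL_d(K)`, `K` a field of characteristic different from that of `F`, whose kernel is central has `d ≥ q^(n-1)(q-1)/2`. -/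
theorem result {F : Type*} [Field F] [Fintype F] {q : ℕ} (hq : Fintype.card F = q) (hodd : Odd q) (n : ℕ) (hn : 2 ≤ n)
    {K : Type*} [Field K] (hK : ringChar K ≠ ringChar F) {d : ℕ}
    (ρ : ↥(Matrix.symplecticGroup (Fin n) F) →* GL (Fin d) K) (hker : ρ.ker ≤ Subgroup.center ↥(Matrix.symplecticGroup (Fin n) F)) :
    q ^ (n - 1) * (q - 1) / 2 ≤ d := by
  classical
  obtain ⟨m, rfl⟩ : ∃ m, n = m + 2 := ⟨n - 2, by omega⟩
  have hF : ringChar F ≠ 2 := by
    intro h
    have := FiniteField.even_card_of_char_two h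
    rw [hq] at this
    rw [Nat.odd_iff] at hodd
    omega
  have h2 : (2 : F) ≠ 0 := Ring.two_ne_zero hF
  let P := AddChar.FiniteField.primitiveChar F K hK
  have hψ : P.char ≠ 1 := by
    have := P.prim (one_ne_zero (α := F))
    rwa [AddChar.mulShift_one] at this
  have hcardV : Fintype.card (Fin (m + 2) → F) = q ^ (m + 2) := by
    rw [Fintype.card_fun, Fintype.card_fin, hq]
  have hqK : ((q : ℕ) : CyclotomicField P.n K) ≠ 0 := by
    have hp : (ringChar F).Prime := CharP.char_is_prime F (ringChar F)
    obtain ⟨f, -, hf⟩ := FiniteField.card F (ringChar F)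
    rw [hq] at hf
    have hpK : ((ringChar F : ℕ) : K) ≠ 0 := by
      intro h0
      rw [CharP.cast_eq_zero_iff K (ringChar K)] at h0
      rcases (Nat.dvd_prime hp).1 h0 with h1 | h1
      · exact CharP.ringChar_ne_one h1
      · exact hK h1
    have hpK' : ((ringChar F : ℕ) : CyclotomicField P.n K) ≠ 0 := by
      rw [← map_natCast (algebraMap K (CyclotomicField P.n K))]
      intro h0
      apply hpK
      exact (algebraMap K (CyclotomicField P.n K)).injective (by rw [h0, map_zero])
    rw [hf, Nat.cast_pow]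
    exact pow_ne_zero _ hpK'
  have hR : (Fintype.card (Fin (m + 2) → F) : CyclotomicField P.n K) ≠ 0 := by
    rw [hcardV, Nat.cast_pow]
    exact pow_ne_zero _ hqK
  let τ : ↥(Matrix.symplecticGroup (Fin (m + 2)) F) →*
      Matrix (Fin d) (Fin d) (CyclotomicField P.n K) :=
    (((algebraMap K (CyclotomicField P.n K)).mapMatrix (m := Fin d)) : Matrix (Fin d) (Fin d) K →*
      Matrix (Fin d) (Fin d) (CyclotomicField P.n K)).comp
      ((Units.coeHom (Matrix (Fin d) (Fin d) K)).comp ρ)
  have hτ : τ (uSp (f0 F m)) ≠ 1 := by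
    intro h1
    have h2' : ((ρ (uSp (f0 F m)) : GL (Fin d) K) : Matrix (Fin d) (Fin d) K) = 1 := by
      have hinj : Function.Injective
          ((algebraMap K (CyclotomicField P.n K)).mapMatrix (m := Fin d)) :=
        Matrix.map_injective (algebraMap K (CyclotomicField P.n K)).injective
      apply hinj
      rw [map_one]
      exact h1
    have h3 : ρ (uSp (f0 F m)) = 1 := Units.ext h2'
    exact uSp_f0_not_central h2 (hker (MonoidHom.mem_ker.2 h3))
  have key := sp_crosschar_bound hF P.char hψ hR τ hτ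
  rw [hq] at key
  exact key

end Cfsg.Agent.S2393
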