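import Cfsg.Statements.S2394
import Cfsg.Agent.S0245
import Cfsg.Agent.S2904

set_option autoImplicit false
open scoped MatrixGroups
open Cfsg

namespace Cfsg.Agent.S2394

/-- `Sp₂ₙ(F)` is not commutative for `n ≥ 1`. -/
theorem exists_not_commute {F : Type*} [Field F] (n : ℕ) (hn : 1 ≤ n) :
    ∃ a b : Matrix.symplecticGroup (Fin n) F, a * b ≠ b * a := by
  have : Nonempty (Fin n) := ⟨⟨0, hn⟩⟩
  refine ⟨⟨Matrix.fromBlocks 1 1 0 1, ?_⟩, ⟨Matrix.fromBlocks 1 0 1 1, ?_⟩, ?_⟩
  · rw [_root_.SymplecticGroup.fromBlocks_mem_iff]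
    simp
  · rw [_root_.SymplecticGroup.fromBlocks_mem_iff]
    simp
  · intro h
    have h2 := congrArg (fun x : Matrix.symplecticGroup (Fin n) F =>
      (x : Matrix (Fin n ⊕ Fin n) (Fin n ⊕ Fin n) F)) h
    simp only [Submonoid.coe_mul, Matrix.fromBlocks_multiply] at h2
    have h3 := congrArg Matrix.toBlocks₁₁ h2
    simp only [Matrix.toBlocks_fromBlocks₁₁] at h3
    have h4 : (1 : Matrix (Fin n) (Fin n) F) = 0 := by
      simp at h3
    exact one_ne_zero h4

/-- `GL_d(F)` is commutative for `d ≤ 1`. -/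
theorem gl_comm {F : Type*} [Field F] {d : ℕ} (hd : d ≤ 1) (a b : GL (Fin d) F) :
    a * b = b * a := by
  apply Units.ext
  rw [Units.val_mul, Units.val_mul]
  interval_cases d
  · exact Subsingleton.elim _ _
  · ext i j
    fin_cases i
    fin_cases j
    simp [Matrix.mul_apply, mul_comm]

/-- the arithmetic obstruction for `Sp₆(2)` -/
theorem sp62 (d : ℕ) (hd : d < 6)
    (h : 2 ^ (3 ^ 2) * ∏ i ∈ Finset.range 3, (2 ^ (2 * (i + 1)) - 1) ∣
      ∏ i : Fin d, (2 ^ d - 2 ^ (i : ℕ))) : False := by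
  interval_cases d <;> simp [Finset.prod_range_succ, Fin.prod_univ_succ] at h

/-- The smallest degree of a faithful representation of the symplectic group `Sp_{2n}(q)` over its own field `F_q` is `2n`: every injective homomorphism from `Sp_{2n}(F)` to `GL_d(F)`, `F` the field with `q` elements, has `d ≥ 2n`. -/
theorem result {F : Type*} [Field F] [Fintype F] (n : ℕ) {d : ℕ}
    (ρ : ↥(Matrix.symplecticGroup (Fin n) F) →* GL (Fin d) F) (hρ : Function.Injective ρ) : 2 * n ≤ d := by
  by_contra hlt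
  push Not at hlt
  have hq : 1 < Fintype.card F := Fintype.one_lt_card
  have hdvd : Nat.card (Matrix.symplecticGroup (Fin n) F) ∣ Nat.card (GL (Fin d) F) :=
    Subgroup.card_dvd_of_injective ρ hρ
  rw [Cfsg.Agent.S0245.result rfl n, Matrix.card_GL_field] at hdvd
  generalize Fintype.card F = q at hq hdvd
  rcases Nat.lt_or_ge n 2 with hn | hn
  · -- `n = 1`
    have hn1 : n = 1 := by omega
    subst hn1
    obtain ⟨a, b, hab⟩ := exists_not_commute (F := F) 1 le_rfl
    apply hab
    apply hρ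
    rw [map_mul, map_mul]
    exact gl_comm (by omega) _ _
  · by_cases h6 : q = 2 ∧ 2 * n = 6
    · obtain ⟨rfl, h6⟩ := h6
      have hn3 : n = 3 := by omega
      subst hn3
      exact sp62 d hlt hdvd
    · obtain ⟨r, hr, hrd, hrk⟩ := Cfsg.Agent.S2904.result q (2 * n) hq (by omega) h6
        (fun h => by omega)
      have h1 : r ∣ ∏ i ∈ Finset.range n, (q ^ (2 * (i + 1)) - 1) := by
        refine hrd.trans ?_
        have : n - 1 ∈ Finset.range n := Finset.mem_range.mpr (by omega)
        have h2 := Finset.dvd_prod_of_mem (fun i => q ^ (2 * (i + 1)) - 1) this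
        have h3 : 2 * (n - 1 + 1) = 2 * n := by omega
        rwa [h3] at h2
      have h2 : r ∣ ∏ i : Fin d, (q ^ d - q ^ (i : ℕ)) :=
        (h1.trans (Dvd.intro_left _ rfl)).trans hdvd
      rw [Prime.dvd_finsetProd_iff hr.prime] at h2
      obtain ⟨i, -, hi⟩ := h2
      have hid : (i : ℕ) < d := i.2
      have h3 : q ^ d - q ^ (i : ℕ) = q ^ (i : ℕ) * (q ^ (d - (i : ℕ)) - 1) := by
        rw [Nat.mul_sub, mul_one, ← pow_add]
        congr 2
        omega
      rw [h3, hr.dvd_mul] at hi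
      rcases hi with hi | hi
      · have hrq : r ∣ q := hr.dvd_of_dvd_pow hi
        have h4 : r ∣ q ^ (2 * n) := dvd_pow hrq (by omega)
        have h5 : 1 ≤ q ^ (2 * n) := Nat.one_le_pow _ _ (by omega)
        have h6 : r ∣ 1 := by
          have := Nat.dvd_sub h4 hrd
          rwa [Nat.sub_sub_self h5] at this
        exact hr.one_lt.ne' (Nat.dvd_one.mp h6)
      · exact hrk (d - (i : ℕ)) (by omega) (by omega) hi

end Cfsg.Agent.S2394
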