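import Cfsg.Statements.S2399
import Cfsg.Agent.Helper40.NcSmall

set_option autoImplicit false
open scoped MatrixGroups
open Cfsg

namespace Cfsg.Agent.S2399

/-- Projective representations in the natural characteristic lift: for each of the types G₂, B₂, D₄, F₄, E₆, E₇, E₈ over any field `K` (for types B₂ and G₂ the field must have more than two elements — the cases where the Chevalley group is not simple are set aside), every homomorphism from the Chevalley group to `PGL_n(L) = GL_n(L)/Z`, `L` a field of the same characteristic as `K`, lifts uniquely to a homomorphism from the group Δ presented by (R1), (R2) to `GL_n(L)`, compatibly with the projection Δ → Chevalley group sending x̄_r(t) to x_r(t). -/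
theorem result {K : Type*} [Field K] (D : Cfsg.Lie.ChevalleyDatum) (hD : D ∈ [Cfsg.Lie.chevG2, Cfsg.Lie.chevB2, Cfsg.Lie.chevD4, Cfsg.Lie.chevF4, Cfsg.Lie.chevE6, Cfsg.Lie.chevE7, Cfsg.Lie.chevE8]) (hK : D ∈ [Cfsg.Lie.chevB2, Cfsg.Lie.chevG2] → ∃ x : K, x ≠ 0 ∧ x ≠ 1)
    (θ : D.SteinbergCover K →* ↥(D.group K))
    (hθ : ∀ (r : ℕ) (t : K), r < D.nroots → ((θ (D.scGen K r t) : GL D.Idx K) : Matrix D.Idx D.Idx K) = D.x K r t)
    {L : Type*} [Field L] (hL : ringChar L = ringChar K) {n : ℕ}
    (φ : ↥(D.group K) →* GL (Fin n) L ⧸ Subgroup.center (GL (Fin n) L)) :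
    ∃! ψ : D.SteinbergCover K →* GL (Fin n) L, (QuotientGroup.mk' (Subgroup.center (GL (Fin n) L))).comp ψ = φ.comp θ := by
  have hπ : Function.Surjective (QuotientGroup.mk' (Subgroup.center (GL (Fin n) L))) :=
    QuotientGroup.mk'_surjective _
  have hc : (QuotientGroup.mk' (Subgroup.center (GL (Fin n) L))).ker ≤ Subgroup.center (GL (Fin n) L) := by
    rw [QuotientGroup.ker_mk']
  apply Cfsg.Agent.Helper40.Nc.cover_lift_unique_natchar (K := K) D hD hK _ hπ hc _ (φ.comp θ)
  -- the centre of `GL_n(L)` has no `p`-torsion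
  intro p hp hpK z hz hzp
  rw [QuotientGroup.ker_mk'] at hz
  have hrK : ringChar K = p := CharP.ringChar_of_prime_eq_zero hp hpK
  have hcharL : CharP L p := ringChar.of_eq (hL.trans hrK)
  have : Fact p.Prime := ⟨hp⟩
  obtain ⟨a, ha⟩ := Matrix.GeneralLinearGroup.mem_center_iff_val_mem_range_scalar.mp hz
  rcases isEmpty_or_nonempty (Fin n) with hn | hn
  · apply Units.ext
    exact Subsingleton.elim _ _
  · have h1 : (z ^ p).val = 1 := by rw [hzp]; rfl
    rw [Units.val_pow_eq_pow_val, ← ha, ← map_pow] at h1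
    have h2 : a ^ p = 1 := by
      have h3 : Matrix.scalar (Fin n) (a ^ p) = Matrix.scalar (Fin n) (1 : L) := by rw [h1, map_one]
      exact Matrix.scalar_inj.mp h3
    have h4 : (a - 1) ^ p = 0 := by rw [sub_pow_char, h2, one_pow, sub_self]
    have h5 : a = 1 := sub_eq_zero.mp (pow_eq_zero_iff hp.ne_zero |>.mp h4)
    apply Units.ext
    rw [← ha, h5, map_one]
    rfl

end Cfsg.Agent.S2399
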