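import Cfsg.Statements.S2400
import Cfsg.Agent.Helper40.HzFinal

set_option autoImplicit false
open Cfsg

namespace Cfsg.Agent.S2400

/-- Over a finite field `K`, the group presented by Steinberg's relators (R1)–(R3) (the universal Chevalley group) of type E₆ or E₇, or of type B₂ or D₄ with `K` of more than two elements, has trivial Schur multiplier: every finite stem extension of it is an isomorphism (Schur multiplier described through stem extensions as in the definitions). Types G₂, F₄ and E₈ are not covered here. -/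
theorem result {K : Type*} [Field K] [Fintype K] (e : Cfsg.Lie.ChevalleyDatum × ℕ)
    (he : e ∈ [(Cfsg.Lie.chevE6, 0), (Cfsg.Lie.chevE7, 0), (Cfsg.Lie.chevB2, 2), (Cfsg.Lie.chevD4, 2)]) (hK : Fintype.card K ≠ e.2) :
    Cfsg.HasCyclicSchurMultiplier (e.1.SteinbergGroup K) 1 := by
  -- a field with more than two elements has an element other than `0`, `1`
  have hx : Fintype.card K ≠ 2 → ∃ x : K, x ≠ 0 ∧ x ≠ 1 := by
    intro h2
    have hone : 1 < Fintype.card K := Fintype.one_lt_card
    classical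
    by_contra hne
    have hall : ∀ w : K, w ∈ ({0, 1} : Finset K) := by
      intro w
      by_cases hw : w = 0
      · simp [hw]
      · by_cases hw1 : w = 1
        · simp [hw1]
        · exact absurd ⟨w, hw, hw1⟩ hne
    have hle : Fintype.card K ≤ ({0, 1} : Finset K).card :=
      Finset.card_le_card_of_surjOn id (fun w _ => ⟨w, hall w, rfl⟩)
    have : ({0, 1} : Finset K).card ≤ 2 := Finset.card_le_two
    omega
  simp only [List.mem_cons, List.not_mem_nil, or_false] at he
  rcases he with rfl | rfl | rfl | rfl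
  · apply Cfsg.Agent.Helper40.Hz.steinbergGroup_multiplier_trivial Cfsg.Lie.chevE6 (by simp)
      (Cfsg.Agent.Helper40.Sl.cover_perfect (K := K) Cfsg.Lie.chevE6 (by simp))
    intro E _ π₁ hπ hc
    exact (Cfsg.Agent.Helper40.Sl.sl_cover_lift_unique (K := K) Cfsg.Lie.chevE6 (by simp) π₁ hπ hc _).exists
  · apply Cfsg.Agent.Helper40.Hz.steinbergGroup_multiplier_trivial Cfsg.Lie.chevE7 (by simp)
      (Cfsg.Agent.Helper40.Sl.cover_perfect (K := K) Cfsg.Lie.chevE7 (by simp))
    intro E _ π₁ hπ hc
    exact (Cfsg.Agent.Helper40.Sl.sl_cover_lift_unique (K := K) Cfsg.Lie.chevE7 (by simp) π₁ hπ hc _).exists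
  · apply Cfsg.Agent.Helper40.Hz.steinbergGroup_multiplier_trivial Cfsg.Lie.chevB2 (by simp)
      (Cfsg.Agent.S2395.result (K := K) Cfsg.Lie.chevB2 (by simp) (fun _ => hx hK))
    intro E _ π₁ hπ hc
    exact Cfsg.Agent.Helper40.Hz.cover_lift_b2_d4 Cfsg.Lie.chevB2 (Or.inl rfl) hK π₁ hπ hc _
  · apply Cfsg.Agent.Helper40.Hz.steinbergGroup_multiplier_trivial Cfsg.Lie.chevD4 (by simp)
      (Cfsg.Agent.S2395.result (K := K) Cfsg.Lie.chevD4 (by simp) (fun _ => hx hK))
    intro E _ π₁ hπ hc
    exact Cfsg.Agent.Helper40.Hz.cover_lift_b2_d4 Cfsg.Lie.chevD4 (Or.inr rfl) hK π₁ hπ hc _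

end Cfsg.Agent.S2400
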