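import Cfsg.Statements.S2405
import Cfsg.Agent.Helper14.Gen2.Final

set_option autoImplicit false
open Cfsg

namespace Cfsg.Agent.S2405

open Cfsg.Agent.Helper14.Gen2 in
/-- Each Chevalley group of type G₂, B₂, D₄, F₄, E₆, E₇ or E₈ over a finite field is generated by two of its elements (types B₂ and G₂ over the field with two elements, where the group is not simple, excepted). -/
theorem result {F : Type*} [Field F] [Finite F] (D : Cfsg.Lie.ChevalleyDatum) (hD : D ∈ [Cfsg.Lie.chevG2, Cfsg.Lie.chevB2, Cfsg.Lie.chevD4, Cfsg.Lie.chevF4, Cfsg.Lie.chevE6, Cfsg.Lie.chevE7, Cfsg.Lie.chevE8])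
    (hF : D ∈ [Cfsg.Lie.chevB2, Cfsg.Lie.chevG2] → ∃ x : F, x ≠ 0 ∧ x ≠ 1) :
    ∃ a b : ↥(D.group F), Subgroup.closure ({a, b} : Set ↥(D.group F)) = ⊤ := by
  have : Fintype F := Fintype.ofFinite F
  simp only [List.mem_cons, List.not_mem_nil, or_false] at hD
  rcases hD with rfl | rfl | rfl | rfl | rfl | rfl | rfl
  · exact gen_G2 (hF (by simp))
  · exact gen_B2 (hF (by simp))
  · exact gen_D4
  · exact gen_F4
  · exact gen_E6
  · exact gen_E7
  · exact gen_E8

end Cfsg.Agent.S2405
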