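import Cfsg.Statements.S2406
import Cfsg.Agent.Helper18.TwE6Gen.Gen2E6
import Cfsg.Agent.Helper19.Twist.Frob

set_option autoImplicit false
open Cfsg

namespace Cfsg.Agent.S2406

open Cfsg.Lie Cfsg.Agent.Helper18.TwE6Gen Cfsg.Agent.Helper19.Twist

/-- The twisted group ²E₆(q) (realised inside E₆ over the field with `q²` elements) is generated by two of its elements. -/
theorem result {K : Type*} [Field K] [Fintype K] {q : ℕ} (hq : IsPrimePow q) (hK : Fintype.card K = q ^ 2) :
    ∃ a b : ↥(Cfsg.Lie.twistedE6 K q), Subgroup.closure ({a, b} : Set ↥(Cfsg.Lie.twistedE6 K q)) = ⊤ := by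
  obtain ⟨fr, hfr⟩ := exists_frob hq hK
  obtain ⟨p, hp⟩ := CharP.exists K
  haveI : CharP K p := hp
  haveI : Fact p.Prime := ⟨CharP.char_is_prime K p⟩
  exact gen2_E6 fr hfr p hq hK

end Cfsg.Agent.S2406
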