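import Cfsg.Statements.S2416
import Cfsg.Agent.Helper40.GenNX

set_option autoImplicit false
open scoped MatrixGroups
open Cfsg

namespace Cfsg.Agent.S2416

open Cfsg.Lie Cfsg.Agent.Helper18 Cfsg.Agent.Helper40.Comm Cfsg.Agent.Helper40.GenNX

section Cases
variable {K : Type*} [Field K]

/-- certificate for G2, fundamental root 0 -/
def tab_G2_0 : List ((ℕ × List ℕ) × (ℕ × List ℕ)) := [((7, []), (7, [0])), ((5, [1]), (5, []))]
theorem cert_G2_0 : certOK chevG2 [7, 5] tab_G2_0 = true := by decide +kernel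
theorem comm_G2_0 : chevG2.commTerms 3 7 = [(5, -3, 1, 1)] := by decide +kernel
theorem cf_G2_0 : cfOK chevG2 3 7 = true := by decide +kernel
theorem rhoa_G2_0 : rho chevG2 [1, 0] 7 = 3 := by decide +kernel
theorem rhob_G2_0 : rho chevG2 [] 7 = 7 := by decide +kernel
theorem case_G2_0 (hD : chevG2 ∈ [chevG2, chevB2, chevD4, chevF4, chevE6, chevE7, chevE8]) (M : Subgroup (GL chevG2.Idx K))
    (hN : chevG2.monomialSubgroup K ≤ M) (hX : RootIn chevG2 M 7) (hC : (((-3 : ℤ)) : K) ≠ 0) : chevG2.group K ≤ M := by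
  apply group_le_of_cert chevG2 hD M hN [7, 5] tab_G2_0 cert_G2_0
  intro s hs
  simp only [List.mem_cons, List.not_mem_nil, or_false] at hs
  rcases hs with rfl | rfl
  · exact ⟨by decide, hX⟩
  · refine ⟨by decide, ?_⟩
    have ha : RootIn chevG2 M 3 := by
      have := rootIn_rho chevG2 hD M hN 7 (by decide) hX [1, 0] (by decide)
      rwa [rhoa_G2_0] at this
    have hb : RootIn chevG2 M 7 := by
      have := rootIn_rho chevG2 hD M hN 7 (by decide) hX [] (by decide)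
      rwa [rhob_G2_0] at this
    exact rootIn_comm chevG2 hD M 3 7 5 (-3) (cf_of_cfOK _ _ _ cf_G2_0) comm_G2_0 hC ha hb

theorem long_G2_1 : chevG2.isLong (chevG2.simple 1) = true := by decide +kernel

/-- certificate for B2, fundamental root 0 -/
def tab_B2_0 : List ((ℕ × List ℕ) × (ℕ × List ℕ)) := [((5, []), (5, [0])), ((7, [0]), (7, [1, 0]))]
theorem cert_B2_0 : certOK chevB2 [5, 7] tab_B2_0 = true := by decide +kernel
theorem comm_B2_0 : chevB2.commTerms 5 6 = [(7, 2, 1, 1)] := by decide +kernel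
theorem cf_B2_0 : cfOK chevB2 5 6 = true := by decide +kernel
theorem rhoa_B2_0 : rho chevB2 [] 5 = 5 := by decide +kernel
theorem rhob_B2_0 : rho chevB2 [1] 5 = 6 := by decide +kernel
theorem case_B2_0 (hD : chevB2 ∈ [chevG2, chevB2, chevD4, chevF4, chevE6, chevE7, chevE8]) (M : Subgroup (GL chevB2.Idx K))
    (hN : chevB2.monomialSubgroup K ≤ M) (hX : RootIn chevB2 M 5) (hC : (((2 : ℤ)) : K) ≠ 0) : chevB2.group K ≤ M := by
  apply group_le_of_cert chevB2 hD M hN [5, 7] tab_B2_0 cert_B2_0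
  intro s hs
  simp only [List.mem_cons, List.not_mem_nil, or_false] at hs
  rcases hs with rfl | rfl
  · exact ⟨by decide, hX⟩
  · refine ⟨by decide, ?_⟩
    have ha : RootIn chevB2 M 5 := by
      have := rootIn_rho chevB2 hD M hN 5 (by decide) hX [] (by decide)
      rwa [rhoa_B2_0] at this
    have hb : RootIn chevB2 M 6 := by
      have := rootIn_rho chevB2 hD M hN 5 (by decide) hX [1] (by decide)
      rwa [rhob_B2_0] at this
    exact rootIn_comm chevB2 hD M 5 6 7 (2) (cf_of_cfOK _ _ _ cf_B2_0) comm_B2_0 hC ha hb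

theorem long_B2_1 : chevB2.isLong (chevB2.simple 1) = true := by decide +kernel

/-- certificate for D4, fundamental root 0 -/
def tab_D4_0 : List ((ℕ × List ℕ) × (ℕ × List ℕ)) := [((18, []), (18, [0])), ((18, [0, 1]), (18, [0, 1, 0])), ((18, [1, 2, 0, 1]), (18, [1, 2, 0, 1, 0])), ((18, [1, 3, 0, 1]), (18, [1, 3, 0, 1, 0]))]
theorem cert_D4_0 : certOK chevD4 [18] tab_D4_0 = true := by decide +kernel
theorem case_D4_0 (hD : chevD4 ∈ [chevG2, chevB2, chevD4, chevF4, chevE6, chevE7, chevE8]) (M : Subgroup (GL chevD4.Idx K))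
    (hN : chevD4.monomialSubgroup K ≤ M) (hX : RootIn chevD4 M 18) : chevD4.group K ≤ M := by
  apply group_le_of_cert chevD4 hD M hN [18] tab_D4_0 cert_D4_0
  intro s hs
  simp only [List.mem_cons, List.not_mem_nil, or_false] at hs
  subst hs
  exact ⟨by decide, hX⟩

/-- certificate for D4, fundamental root 1 -/
def tab_D4_1 : List ((ℕ × List ℕ) × (ℕ × List ℕ)) := [((14, [1, 0]), (14, [0, 1, 0])), ((14, []), (14, [1])), ((14, [1, 2]), (14, [1, 2, 1])), ((14, [1, 3]), (14, [1, 3, 1]))]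
theorem cert_D4_1 : certOK chevD4 [14] tab_D4_1 = true := by decide +kernel
theorem case_D4_1 (hD : chevD4 ∈ [chevG2, chevB2, chevD4, chevF4, chevE6, chevE7, chevE8]) (M : Subgroup (GL chevD4.Idx K))
    (hN : chevD4.monomialSubgroup K ≤ M) (hX : RootIn chevD4 M 14) : chevD4.group K ≤ M := by
  apply group_le_of_cert chevD4 hD M hN [14] tab_D4_1 cert_D4_1
  intro s hs
  simp only [List.mem_cons, List.not_mem_nil, or_false] at hs
  subst hs
  exact ⟨by decide, hX⟩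

/-- certificate for D4, fundamental root 2 -/
def tab_D4_2 : List ((ℕ × List ℕ) × (ℕ × List ℕ)) := [((13, [1, 2, 0, 1]), (13, [0, 1, 2, 0, 1])), ((13, [2, 1]), (13, [1, 2, 1])), ((13, []), (13, [2])), ((13, [1, 3, 2, 1]), (13, [1, 3, 1, 2, 1]))]
theorem cert_D4_2 : certOK chevD4 [13] tab_D4_2 = true := by decide +kernel
theorem case_D4_2 (hD : chevD4 ∈ [chevG2, chevB2, chevD4, chevF4, chevE6, chevE7, chevE8]) (M : Subgroup (GL chevD4.Idx K))
    (hN : chevD4.monomialSubgroup K ≤ M) (hX : RootIn chevD4 M 13) : chevD4.group K ≤ M := by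
  apply group_le_of_cert chevD4 hD M hN [13] tab_D4_2 cert_D4_2
  intro s hs
  simp only [List.mem_cons, List.not_mem_nil, or_false] at hs
  subst hs
  exact ⟨by decide, hX⟩

/-- certificate for D4, fundamental root 3 -/
def tab_D4_3 : List ((ℕ × List ℕ) × (ℕ × List ℕ)) := [((12, [1, 3, 0, 1]), (12, [0, 1, 3, 0, 1])), ((12, [3, 1]), (12, [1, 3, 1])), ((12, [1, 3, 2, 1]), (12, [2, 1, 3, 2, 1])), ((12, []), (12, [3]))]
theorem cert_D4_3 : certOK chevD4 [12] tab_D4_3 = true := by decide +kernel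
theorem case_D4_3 (hD : chevD4 ∈ [chevG2, chevB2, chevD4, chevF4, chevE6, chevE7, chevE8]) (M : Subgroup (GL chevD4.Idx K))
    (hN : chevD4.monomialSubgroup K ≤ M) (hX : RootIn chevD4 M 12) : chevD4.group K ≤ M := by
  apply group_le_of_cert chevD4 hD M hN [12] tab_D4_3 cert_D4_3
  intro s hs
  simp only [List.mem_cons, List.not_mem_nil, or_false] at hs
  subst hs
  exact ⟨by decide, hX⟩

/-- certificate for F4, fundamental root 0 -/
def tab_F4_0 : List ((ℕ × List ℕ) × (ℕ × List ℕ)) := [((33, []), (33, [0])), ((33, [0, 1]), (33, [0, 1, 0])), ((41, [1, 0]), (41, [2, 1, 0])), ((41, [2, 3, 1, 0]), (41, [2, 3, 2, 1, 0]))]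
theorem cert_F4_0 : certOK chevF4 [33, 41] tab_F4_0 = true := by decide +kernel
theorem comm_F4_0 : chevF4.commTerms 33 37 = [(41, 2, 1, 1)] := by decide +kernel
theorem cf_F4_0 : cfOK chevF4 33 37 = true := by decide +kernel
theorem rhoa_F4_0 : rho chevF4 [] 33 = 33 := by decide +kernel
theorem rhob_F4_0 : rho chevF4 [1, 2, 1] 33 = 37 := by decide +kernel
theorem case_F4_0 (hD : chevF4 ∈ [chevG2, chevB2, chevD4, chevF4, chevE6, chevE7, chevE8]) (M : Subgroup (GL chevF4.Idx K))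
    (hN : chevF4.monomialSubgroup K ≤ M) (hX : RootIn chevF4 M 33) (hC : (((2 : ℤ)) : K) ≠ 0) : chevF4.group K ≤ M := by
  apply group_le_of_cert chevF4 hD M hN [33, 41] tab_F4_0 cert_F4_0
  intro s hs
  simp only [List.mem_cons, List.not_mem_nil, or_false] at hs
  rcases hs with rfl | rfl
  · exact ⟨by decide, hX⟩
  · refine ⟨by decide, ?_⟩
    have ha : RootIn chevF4 M 33 := by
      have := rootIn_rho chevF4 hD M hN 33 (by decide) hX [] (by decide)
      rwa [rhoa_F4_0] at this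
    have hb : RootIn chevF4 M 37 := by
      have := rootIn_rho chevF4 hD M hN 33 (by decide) hX [1, 2, 1] (by decide)
      rwa [rhob_F4_0] at this
    exact rootIn_comm chevF4 hD M 33 37 41 (2) (cf_of_cfOK _ _ _ cf_F4_0) comm_F4_0 hC ha hb

/-- certificate for F4, fundamental root 1 -/
def tab_F4_1 : List ((ℕ × List ℕ) × (ℕ × List ℕ)) := [((27, [1, 0]), (27, [0, 1, 0])), ((27, []), (27, [1])), ((30, [1]), (30, [2, 1])), ((30, [2, 3, 1]), (30, [2, 3, 2, 1]))]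
theorem cert_F4_1 : certOK chevF4 [27, 30] tab_F4_1 = true := by decide +kernel
theorem comm_F4_1 : chevF4.commTerms 27 28 = [(30, 2, 1, 1)] := by decide +kernel
theorem cf_F4_1 : cfOK chevF4 27 28 = true := by decide +kernel
theorem rhoa_F4_1 : rho chevF4 [] 27 = 27 := by decide +kernel
theorem rhob_F4_1 : rho chevF4 [2] 27 = 28 := by decide +kernel
theorem case_F4_1 (hD : chevF4 ∈ [chevG2, chevB2, chevD4, chevF4, chevE6, chevE7, chevE8]) (M : Subgroup (GL chevF4.Idx K))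
    (hN : chevF4.monomialSubgroup K ≤ M) (hX : RootIn chevF4 M 27) (hC : (((2 : ℤ)) : K) ≠ 0) : chevF4.group K ≤ M := by
  apply group_le_of_cert chevF4 hD M hN [27, 30] tab_F4_1 cert_F4_1
  intro s hs
  simp only [List.mem_cons, List.not_mem_nil, or_false] at hs
  rcases hs with rfl | rfl
  · exact ⟨by decide, hX⟩
  · refine ⟨by decide, ?_⟩
    have ha : RootIn chevF4 M 27 := by
      have := rootIn_rho chevF4 hD M hN 27 (by decide) hX [] (by decide)
      rwa [rhoa_F4_1] at this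
    have hb : RootIn chevF4 M 28 := by
      have := rootIn_rho chevF4 hD M hN 27 (by decide) hX [2] (by decide)
      rwa [rhob_F4_1] at this
    exact rootIn_comm chevF4 hD M 27 28 30 (2) (cf_of_cfOK _ _ _ cf_F4_1) comm_F4_1 hC ha hb

theorem long_F4_2 : chevF4.isLong (chevF4.simple 2) = true := by decide +kernel

theorem long_F4_3 : chevF4.isLong (chevF4.simple 3) = true := by decide +kernel

/-- certificate for E6, fundamental root 0 -/
def tab_E6_0 : List ((ℕ × List ℕ) × (ℕ × List ℕ)) := [((56, []), (56, [0])), ((56, [3, 2, 1, 3, 0, 2]), (56, [3, 2, 1, 3, 0, 2, 0])), ((56, [0, 2]), (56, [0, 2, 0])), ((56, [2, 3, 0, 2]), (56, [2, 3, 0, 2, 0])), ((56, [3, 4, 2, 3, 0, 2]), (56, [3, 4, 2, 3, 0, 2, 0])), ((56, [4, 5, 3, 4, 2, 3, 0, 2]), (56, [4, 5, 3, 4, 2, 3, 0, 2, 0]))]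
theorem cert_E6_0 : certOK chevE6 [56] tab_E6_0 = true := by decide +kernel
theorem case_E6_0 (hD : chevE6 ∈ [chevG2, chevB2, chevD4, chevF4, chevE6, chevE7, chevE8]) (M : Subgroup (GL chevE6.Idx K))
    (hN : chevE6.monomialSubgroup K ≤ M) (hX : RootIn chevE6 M 56) : chevE6.group K ≤ M := by
  apply group_le_of_cert chevE6 hD M hN [56] tab_E6_0 cert_E6_0
  intro s hs
  simp only [List.mem_cons, List.not_mem_nil, or_false] at hs
  subst hs
  exact ⟨by decide, hX⟩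

/-- certificate for E6, fundamental root 1 -/
def tab_E6_1 : List ((ℕ × List ℕ) × (ℕ × List ℕ)) := [((46, [2, 3, 0, 2, 1, 3]), (46, [2, 3, 0, 2, 1, 3, 1])), ((46, []), (46, [1])), ((46, [3, 2, 1, 3]), (46, [3, 2, 1, 3, 1])), ((46, [1, 3]), (46, [1, 3, 1])), ((46, [3, 4, 1, 3]), (46, [3, 4, 1, 3, 1])), ((46, [4, 5, 3, 4, 1, 3]), (46, [4, 5, 3, 4, 1, 3, 1]))]
theorem cert_E6_1 : certOK chevE6 [46] tab_E6_1 = true := by decide +kernel
theorem case_E6_1 (hD : chevE6 ∈ [chevG2, chevB2, chevD4, chevF4, chevE6, chevE7, chevE8]) (M : Subgroup (GL chevE6.Idx K))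
    (hN : chevE6.monomialSubgroup K ≤ M) (hX : RootIn chevE6 M 46) : chevE6.group K ≤ M := by
  apply group_le_of_cert chevE6 hD M hN [46] tab_E6_1 cert_E6_1
  intro s hs
  simp only [List.mem_cons, List.not_mem_nil, or_false] at hs
  subst hs
  exact ⟨by decide, hX⟩

/-- certificate for E6, fundamental root 2 -/
def tab_E6_2 : List ((ℕ × List ℕ) × (ℕ × List ℕ)) := [((42, [2, 0]), (42, [0, 2, 0])), ((42, [3, 2, 1, 3]), (42, [3, 2, 1, 3, 2])), ((42, []), (42, [2])), ((42, [2, 3]), (42, [2, 3, 2])), ((42, [3, 4, 2, 3]), (42, [3, 4, 2, 3, 2])), ((42, [4, 5, 3, 4, 2, 3]), (42, [4, 5, 3, 4, 2, 3, 2]))]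
theorem cert_E6_2 : certOK chevE6 [42] tab_E6_2 = true := by decide +kernel
theorem case_E6_2 (hD : chevE6 ∈ [chevG2, chevB2, chevD4, chevF4, chevE6, chevE7, chevE8]) (M : Subgroup (GL chevE6.Idx K))
    (hN : chevE6.monomialSubgroup K ≤ M) (hX : RootIn chevE6 M 42) : chevE6.group K ≤ M := by
  apply group_le_of_cert chevE6 hD M hN [42] tab_E6_2 cert_E6_2
  intro s hs
  simp only [List.mem_cons, List.not_mem_nil, or_false] at hs
  subst hs
  exact ⟨by decide, hX⟩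

/-- certificate for E6, fundamental root 3 -/
def tab_E6_3 : List ((ℕ × List ℕ) × (ℕ × List ℕ)) := [((39, [2, 3, 0, 2]), (39, [0, 2, 3, 0, 2])), ((39, [3, 1]), (39, [1, 3, 1])), ((39, [3, 2]), (39, [2, 3, 2])), ((39, []), (39, [3])), ((39, [3, 4]), (39, [3, 4, 3])), ((39, [4, 5, 3, 4]), (39, [4, 5, 3, 4, 3]))]
theorem cert_E6_3 : certOK chevE6 [39] tab_E6_3 = true := by decide +kernel
theorem case_E6_3 (hD : chevE6 ∈ [chevG2, chevB2, chevD4, chevF4, chevE6, chevE7, chevE8]) (M : Subgroup (GL chevE6.Idx K))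
    (hN : chevE6.monomialSubgroup K ≤ M) (hX : RootIn chevE6 M 39) : chevE6.group K ≤ M := by
  apply group_le_of_cert chevE6 hD M hN [39] tab_E6_3 cert_E6_3
  intro s hs
  simp only [List.mem_cons, List.not_mem_nil, or_false] at hs
  subst hs
  exact ⟨by decide, hX⟩

/-- certificate for E6, fundamental root 4 -/
def tab_E6_4 : List ((ℕ × List ℕ) × (ℕ × List ℕ)) := [((37, [2, 3, 4, 0, 2, 3]), (37, [0, 2, 3, 4, 0, 2, 3])), ((37, [3, 4, 1, 3]), (37, [1, 3, 4, 1, 3])), ((37, [3, 4, 2, 3]), (37, [2, 3, 4, 2, 3])), ((37, [4, 3]), (37, [3, 4, 3])), ((37, []), (37, [4])), ((37, [4, 5]), (37, [4, 5, 4]))]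
theorem cert_E6_4 : certOK chevE6 [37] tab_E6_4 = true := by decide +kernel
theorem case_E6_4 (hD : chevE6 ∈ [chevG2, chevB2, chevD4, chevF4, chevE6, chevE7, chevE8]) (M : Subgroup (GL chevE6.Idx K))
    (hN : chevE6.monomialSubgroup K ≤ M) (hX : RootIn chevE6 M 37) : chevE6.group K ≤ M := by
  apply group_le_of_cert chevE6 hD M hN [37] tab_E6_4 cert_E6_4
  intro s hs
  simp only [List.mem_cons, List.not_mem_nil, or_false] at hs
  subst hs
  exact ⟨by decide, hX⟩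

/-- certificate for E6, fundamental root 5 -/
def tab_E6_5 : List ((ℕ × List ℕ) × (ℕ × List ℕ)) := [((36, [2, 3, 4, 5, 0, 2, 3, 4]), (36, [0, 2, 3, 4, 5, 0, 2, 3, 4])), ((36, [3, 4, 5, 1, 3, 4]), (36, [1, 3, 4, 5, 1, 3, 4])), ((36, [3, 4, 5, 2, 3, 4]), (36, [2, 3, 4, 5, 2, 3, 4])), ((36, [4, 5, 3, 4]), (36, [3, 4, 5, 3, 4])), ((36, [5, 4]), (36, [4, 5, 4])), ((36, []), (36, [5]))]
theorem cert_E6_5 : certOK chevE6 [36] tab_E6_5 = true := by decide +kernel
theorem case_E6_5 (hD : chevE6 ∈ [chevG2, chevB2, chevD4, chevF4, chevE6, chevE7, chevE8]) (M : Subgroup (GL chevE6.Idx K))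
    (hN : chevE6.monomialSubgroup K ≤ M) (hX : RootIn chevE6 M 36) : chevE6.group K ≤ M := by
  apply group_le_of_cert chevE6 hD M hN [36] tab_E6_5 cert_E6_5
  intro s hs
  simp only [List.mem_cons, List.not_mem_nil, or_false] at hs
  subst hs
  exact ⟨by decide, hX⟩

/-- certificate for E7, fundamental root 0 -/
def tab_E7_0 : List ((ℕ × List ℕ) × (ℕ × List ℕ)) := [((93, []), (93, [0])), ((93, [3, 2, 1, 3, 0, 2]), (93, [3, 2, 1, 3, 0, 2, 0])), ((93, [0, 2]), (93, [0, 2, 0])), ((93, [2, 3, 0, 2]), (93, [2, 3, 0, 2, 0])), ((93, [3, 4, 2, 3, 0, 2]), (93, [3, 4, 2, 3, 0, 2, 0])), ((93, [4, 5, 3, 4, 2, 3, 0, 2]), (93, [4, 5, 3, 4, 2, 3, 0, 2, 0])), ((93, [5, 6, 4, 5, 3, 4, 2, 3, 0, 2]), (93, [5, 6, 4, 5, 3, 4, 2, 3, 0, 2, 0]))]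
theorem cert_E7_0 : certOK chevE7 [93] tab_E7_0 = true := by decide +kernel
theorem case_E7_0 (hD : chevE7 ∈ [chevG2, chevB2, chevD4, chevF4, chevE6, chevE7, chevE8]) (M : Subgroup (GL chevE7.Idx K))
    (hN : chevE7.monomialSubgroup K ≤ M) (hX : RootIn chevE7 M 93) : chevE7.group K ≤ M := by
  apply group_le_of_cert chevE7 hD M hN [93] tab_E7_0 cert_E7_0
  intro s hs
  simp only [List.mem_cons, List.not_mem_nil, or_false] at hs
  subst hs
  exact ⟨by decide, hX⟩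

/-- certificate for E7, fundamental root 1 -/
def tab_E7_1 : List ((ℕ × List ℕ) × (ℕ × List ℕ)) := [((78, [2, 3, 0, 2, 1, 3]), (78, [2, 3, 0, 2, 1, 3, 1])), ((78, []), (78, [1])), ((78, [3, 2, 1, 3]), (78, [3, 2, 1, 3, 1])), ((78, [1, 3]), (78, [1, 3, 1])), ((78, [3, 4, 1, 3]), (78, [3, 4, 1, 3, 1])), ((78, [4, 5, 3, 4, 1, 3]), (78, [4, 5, 3, 4, 1, 3, 1])), ((78, [5, 6, 4, 5, 3, 4, 1, 3]), (78, [5, 6, 4, 5, 3, 4, 1, 3, 1]))]
theorem cert_E7_1 : certOK chevE7 [78] tab_E7_1 = true := by decide +kernel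
theorem case_E7_1 (hD : chevE7 ∈ [chevG2, chevB2, chevD4, chevF4, chevE6, chevE7, chevE8]) (M : Subgroup (GL chevE7.Idx K))
    (hN : chevE7.monomialSubgroup K ≤ M) (hX : RootIn chevE7 M 78) : chevE7.group K ≤ M := by
  apply group_le_of_cert chevE7 hD M hN [78] tab_E7_1 cert_E7_1
  intro s hs
  simp only [List.mem_cons, List.not_mem_nil, or_false] at hs
  subst hs
  exact ⟨by decide, hX⟩

/-- certificate for E7, fundamental root 2 -/
def tab_E7_2 : List ((ℕ × List ℕ) × (ℕ × List ℕ)) := [((73, [2, 0]), (73, [0, 2, 0])), ((73, [3, 2, 1, 3]), (73, [3, 2, 1, 3, 2])), ((73, []), (73, [2])), ((73, [2, 3]), (73, [2, 3, 2])), ((73, [3, 4, 2, 3]), (73, [3, 4, 2, 3, 2])), ((73, [4, 5, 3, 4, 2, 3]), (73, [4, 5, 3, 4, 2, 3, 2])), ((73, [5, 6, 4, 5, 3, 4, 2, 3]), (73, [5, 6, 4, 5, 3, 4, 2, 3, 2]))]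
theorem cert_E7_2 : certOK chevE7 [73] tab_E7_2 = true := by decide +kernel
theorem case_E7_2 (hD : chevE7 ∈ [chevG2, chevB2, chevD4, chevF4, chevE6, chevE7, chevE8]) (M : Subgroup (GL chevE7.Idx K))
    (hN : chevE7.monomialSubgroup K ≤ M) (hX : RootIn chevE7 M 73) : chevE7.group K ≤ M := by
  apply group_le_of_cert chevE7 hD M hN [73] tab_E7_2 cert_E7_2
  intro s hs
  simp only [List.mem_cons, List.not_mem_nil, or_false] at hs
  subst hs
  exact ⟨by decide, hX⟩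

/-- certificate for E7, fundamental root 3 -/
def tab_E7_3 : List ((ℕ × List ℕ) × (ℕ × List ℕ)) := [((69, [2, 3, 0, 2]), (69, [0, 2, 3, 0, 2])), ((69, [3, 1]), (69, [1, 3, 1])), ((69, [3, 2]), (69, [2, 3, 2])), ((69, []), (69, [3])), ((69, [3, 4]), (69, [3, 4, 3])), ((69, [4, 5, 3, 4]), (69, [4, 5, 3, 4, 3])), ((69, [5, 6, 4, 5, 3, 4]), (69, [5, 6, 4, 5, 3, 4, 3]))]
theorem cert_E7_3 : certOK chevE7 [69] tab_E7_3 = true := by decide +kernel
theorem case_E7_3 (hD : chevE7 ∈ [chevG2, chevB2, chevD4, chevF4, chevE6, chevE7, chevE8]) (M : Subgroup (GL chevE7.Idx K))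
    (hN : chevE7.monomialSubgroup K ≤ M) (hX : RootIn chevE7 M 69) : chevE7.group K ≤ M := by
  apply group_le_of_cert chevE7 hD M hN [69] tab_E7_3 cert_E7_3
  intro s hs
  simp only [List.mem_cons, List.not_mem_nil, or_false] at hs
  subst hs
  exact ⟨by decide, hX⟩

/-- certificate for E7, fundamental root 4 -/
def tab_E7_4 : List ((ℕ × List ℕ) × (ℕ × List ℕ)) := [((66, [2, 3, 4, 0, 2, 3]), (66, [0, 2, 3, 4, 0, 2, 3])), ((66, [3, 4, 1, 3]), (66, [1, 3, 4, 1, 3])), ((66, [3, 4, 2, 3]), (66, [2, 3, 4, 2, 3])), ((66, [4, 3]), (66, [3, 4, 3])), ((66, []), (66, [4])), ((66, [4, 5]), (66, [4, 5, 4])), ((66, [5, 6, 4, 5]), (66, [5, 6, 4, 5, 4]))]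
theorem cert_E7_4 : certOK chevE7 [66] tab_E7_4 = true := by decide +kernel
theorem case_E7_4 (hD : chevE7 ∈ [chevG2, chevB2, chevD4, chevF4, chevE6, chevE7, chevE8]) (M : Subgroup (GL chevE7.Idx K))
    (hN : chevE7.monomialSubgroup K ≤ M) (hX : RootIn chevE7 M 66) : chevE7.group K ≤ M := by
  apply group_le_of_cert chevE7 hD M hN [66] tab_E7_4 cert_E7_4
  intro s hs
  simp only [List.mem_cons, List.not_mem_nil, or_false] at hs
  subst hs
  exact ⟨by decide, hX⟩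

/-- certificate for E7, fundamental root 5 -/
def tab_E7_5 : List ((ℕ × List ℕ) × (ℕ × List ℕ)) := [((64, [2, 3, 4, 5, 0, 2, 3, 4]), (64, [0, 2, 3, 4, 5, 0, 2, 3, 4])), ((64, [3, 4, 5, 1, 3, 4]), (64, [1, 3, 4, 5, 1, 3, 4])), ((64, [3, 4, 5, 2, 3, 4]), (64, [2, 3, 4, 5, 2, 3, 4])), ((64, [4, 5, 3, 4]), (64, [3, 4, 5, 3, 4])), ((64, [5, 4]), (64, [4, 5, 4])), ((64, []), (64, [5])), ((64, [5, 6]), (64, [5, 6, 5]))]
theorem cert_E7_5 : certOK chevE7 [64] tab_E7_5 = true := by decide +kernel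
theorem case_E7_5 (hD : chevE7 ∈ [chevG2, chevB2, chevD4, chevF4, chevE6, chevE7, chevE8]) (M : Subgroup (GL chevE7.Idx K))
    (hN : chevE7.monomialSubgroup K ≤ M) (hX : RootIn chevE7 M 64) : chevE7.group K ≤ M := by
  apply group_le_of_cert chevE7 hD M hN [64] tab_E7_5 cert_E7_5
  intro s hs
  simp only [List.mem_cons, List.not_mem_nil, or_false] at hs
  subst hs
  exact ⟨by decide, hX⟩

/-- certificate for E7, fundamental root 6 -/
def tab_E7_6 : List ((ℕ × List ℕ) × (ℕ × List ℕ)) := [((63, [2, 3, 4, 5, 6, 0, 2, 3, 4, 5]), (63, [0, 2, 3, 4, 5, 6, 0, 2, 3, 4, 5])), ((63, [3, 4, 5, 6, 1, 3, 4, 5]), (63, [1, 3, 4, 5, 6, 1, 3, 4, 5])), ((63, [3, 4, 5, 6, 2, 3, 4, 5]), (63, [2, 3, 4, 5, 6, 2, 3, 4, 5])), ((63, [4, 5, 6, 3, 4, 5]), (63, [3, 4, 5, 6, 3, 4, 5])), ((63, [5, 6, 4, 5]), (63, [4, 5, 6, 4, 5])), ((63, [6, 5]), (63, [5, 6, 5])), ((63, []), (63, [6]))]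
theorem cert_E7_6 : certOK chevE7 [63] tab_E7_6 = true := by decide +kernel
theorem case_E7_6 (hD : chevE7 ∈ [chevG2, chevB2, chevD4, chevF4, chevE6, chevE7, chevE8]) (M : Subgroup (GL chevE7.Idx K))
    (hN : chevE7.monomialSubgroup K ≤ M) (hX : RootIn chevE7 M 63) : chevE7.group K ≤ M := by
  apply group_le_of_cert chevE7 hD M hN [63] tab_E7_6 cert_E7_6
  intro s hs
  simp only [List.mem_cons, List.not_mem_nil, or_false] at hs
  subst hs
  exact ⟨by decide, hX⟩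

/-- certificate for E8, fundamental root 0 -/
def tab_E8_0 : List ((ℕ × List ℕ) × (ℕ × List ℕ)) := [((162, []), (162, [0])), ((162, [3, 2, 1, 3, 0, 2]), (162, [3, 2, 1, 3, 0, 2, 0])), ((162, [0, 2]), (162, [0, 2, 0])), ((162, [2, 3, 0, 2]), (162, [2, 3, 0, 2, 0])), ((162, [3, 4, 2, 3, 0, 2]), (162, [3, 4, 2, 3, 0, 2, 0])), ((162, [4, 5, 3, 4, 2, 3, 0, 2]), (162, [4, 5, 3, 4, 2, 3, 0, 2, 0])), ((162, [5, 6, 4, 5, 3, 4, 2, 3, 0, 2]), (162, [5, 6, 4, 5, 3, 4, 2, 3, 0, 2, 0])), ((162, [6, 7, 5, 6, 4, 5, 3, 4, 2, 3, 0, 2]), (162, [6, 7, 5, 6, 4, 5, 3, 4, 2, 3, 0, 2, 0]))]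
theorem cert_E8_0 : certOK chevE8 [162] tab_E8_0 = true := by decide +kernel
theorem case_E8_0 (hD : chevE8 ∈ [chevG2, chevB2, chevD4, chevF4, chevE6, chevE7, chevE8]) (M : Subgroup (GL chevE8.Idx K))
    (hN : chevE8.monomialSubgroup K ≤ M) (hX : RootIn chevE8 M 162) : chevE8.group K ≤ M := by
  apply group_le_of_cert chevE8 hD M hN [162] tab_E8_0 cert_E8_0
  intro s hs
  simp only [List.mem_cons, List.not_mem_nil, or_false] at hs
  subst hs
  exact ⟨by decide, hX⟩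

/-- certificate for E8, fundamental root 1 -/
def tab_E8_1 : List ((ℕ × List ℕ) × (ℕ × List ℕ)) := [((141, [2, 3, 0, 2, 1, 3]), (141, [2, 3, 0, 2, 1, 3, 1])), ((141, []), (141, [1])), ((141, [3, 2, 1, 3]), (141, [3, 2, 1, 3, 1])), ((141, [1, 3]), (141, [1, 3, 1])), ((141, [3, 4, 1, 3]), (141, [3, 4, 1, 3, 1])), ((141, [4, 5, 3, 4, 1, 3]), (141, [4, 5, 3, 4, 1, 3, 1])), ((141, [5, 6, 4, 5, 3, 4, 1, 3]), (141, [5, 6, 4, 5, 3, 4, 1, 3, 1])), ((141, [6, 7, 5, 6, 4, 5, 3, 4, 1, 3]), (141, [6, 7, 5, 6, 4, 5, 3, 4, 1, 3, 1]))]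
theorem cert_E8_1 : certOK chevE8 [141] tab_E8_1 = true := by decide +kernel
theorem case_E8_1 (hD : chevE8 ∈ [chevG2, chevB2, chevD4, chevF4, chevE6, chevE7, chevE8]) (M : Subgroup (GL chevE8.Idx K))
    (hN : chevE8.monomialSubgroup K ≤ M) (hX : RootIn chevE8 M 141) : chevE8.group K ≤ M := by
  apply group_le_of_cert chevE8 hD M hN [141] tab_E8_1 cert_E8_1
  intro s hs
  simp only [List.mem_cons, List.not_mem_nil, or_false] at hs
  subst hs
  exact ⟨by decide, hX⟩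

/-- certificate for E8, fundamental root 2 -/
def tab_E8_2 : List ((ℕ × List ℕ) × (ℕ × List ℕ)) := [((135, [2, 0]), (135, [0, 2, 0])), ((135, [3, 2, 1, 3]), (135, [3, 2, 1, 3, 2])), ((135, []), (135, [2])), ((135, [2, 3]), (135, [2, 3, 2])), ((135, [3, 4, 2, 3]), (135, [3, 4, 2, 3, 2])), ((135, [4, 5, 3, 4, 2, 3]), (135, [4, 5, 3, 4, 2, 3, 2])), ((135, [5, 6, 4, 5, 3, 4, 2, 3]), (135, [5, 6, 4, 5, 3, 4, 2, 3, 2])), ((135, [6, 7, 5, 6, 4, 5, 3, 4, 2, 3]), (135, [6, 7, 5, 6, 4, 5, 3, 4, 2, 3, 2]))]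
theorem cert_E8_2 : certOK chevE8 [135] tab_E8_2 = true := by decide +kernel
theorem case_E8_2 (hD : chevE8 ∈ [chevG2, chevB2, chevD4, chevF4, chevE6, chevE7, chevE8]) (M : Subgroup (GL chevE8.Idx K))
    (hN : chevE8.monomialSubgroup K ≤ M) (hX : RootIn chevE8 M 135) : chevE8.group K ≤ M := by
  apply group_le_of_cert chevE8 hD M hN [135] tab_E8_2 cert_E8_2
  intro s hs
  simp only [List.mem_cons, List.not_mem_nil, or_false] at hs
  subst hs
  exact ⟨by decide, hX⟩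

/-- certificate for E8, fundamental root 3 -/
def tab_E8_3 : List ((ℕ × List ℕ) × (ℕ × List ℕ)) := [((130, [2, 3, 0, 2]), (130, [0, 2, 3, 0, 2])), ((130, [3, 1]), (130, [1, 3, 1])), ((130, [3, 2]), (130, [2, 3, 2])), ((130, []), (130, [3])), ((130, [3, 4]), (130, [3, 4, 3])), ((130, [4, 5, 3, 4]), (130, [4, 5, 3, 4, 3])), ((130, [5, 6, 4, 5, 3, 4]), (130, [5, 6, 4, 5, 3, 4, 3])), ((130, [6, 7, 5, 6, 4, 5, 3, 4]), (130, [6, 7, 5, 6, 4, 5, 3, 4, 3]))]
theorem cert_E8_3 : certOK chevE8 [130] tab_E8_3 = true := by decide +kernel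
theorem case_E8_3 (hD : chevE8 ∈ [chevG2, chevB2, chevD4, chevF4, chevE6, chevE7, chevE8]) (M : Subgroup (GL chevE8.Idx K))
    (hN : chevE8.monomialSubgroup K ≤ M) (hX : RootIn chevE8 M 130) : chevE8.group K ≤ M := by
  apply group_le_of_cert chevE8 hD M hN [130] tab_E8_3 cert_E8_3
  intro s hs
  simp only [List.mem_cons, List.not_mem_nil, or_false] at hs
  subst hs
  exact ⟨by decide, hX⟩

/-- certificate for E8, fundamental root 4 -/
def tab_E8_4 : List ((ℕ × List ℕ) × (ℕ × List ℕ)) := [((126, [2, 3, 4, 0, 2, 3]), (126, [0, 2, 3, 4, 0, 2, 3])), ((126, [3, 4, 1, 3]), (126, [1, 3, 4, 1, 3])), ((126, [3, 4, 2, 3]), (126, [2, 3, 4, 2, 3])), ((126, [4, 3]), (126, [3, 4, 3])), ((126, []), (126, [4])), ((126, [4, 5]), (126, [4, 5, 4])), ((126, [5, 6, 4, 5]), (126, [5, 6, 4, 5, 4])), ((126, [6, 7, 5, 6, 4, 5]), (126, [6, 7, 5, 6, 4, 5, 4]))]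
theorem cert_E8_4 : certOK chevE8 [126] tab_E8_4 = true := by decide +kernel
theorem case_E8_4 (hD : chevE8 ∈ [chevG2, chevB2, chevD4, chevF4, chevE6, chevE7, chevE8]) (M : Subgroup (GL chevE8.Idx K))
    (hN : chevE8.monomialSubgroup K ≤ M) (hX : RootIn chevE8 M 126) : chevE8.group K ≤ M := by
  apply group_le_of_cert chevE8 hD M hN [126] tab_E8_4 cert_E8_4
  intro s hs
  simp only [List.mem_cons, List.not_mem_nil, or_false] at hs
  subst hs
  exact ⟨by decide, hX⟩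

/-- certificate for E8, fundamental root 5 -/
def tab_E8_5 : List ((ℕ × List ℕ) × (ℕ × List ℕ)) := [((123, [2, 3, 4, 5, 0, 2, 3, 4]), (123, [0, 2, 3, 4, 5, 0, 2, 3, 4])), ((123, [3, 4, 5, 1, 3, 4]), (123, [1, 3, 4, 5, 1, 3, 4])), ((123, [3, 4, 5, 2, 3, 4]), (123, [2, 3, 4, 5, 2, 3, 4])), ((123, [4, 5, 3, 4]), (123, [3, 4, 5, 3, 4])), ((123, [5, 4]), (123, [4, 5, 4])), ((123, []), (123, [5])), ((123, [5, 6]), (123, [5, 6, 5])), ((123, [6, 7, 5, 6]), (123, [6, 7, 5, 6, 5]))]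
theorem cert_E8_5 : certOK chevE8 [123] tab_E8_5 = true := by decide +kernel
theorem case_E8_5 (hD : chevE8 ∈ [chevG2, chevB2, chevD4, chevF4, chevE6, chevE7, chevE8]) (M : Subgroup (GL chevE8.Idx K))
    (hN : chevE8.monomialSubgroup K ≤ M) (hX : RootIn chevE8 M 123) : chevE8.group K ≤ M := by
  apply group_le_of_cert chevE8 hD M hN [123] tab_E8_5 cert_E8_5
  intro s hs
  simp only [List.mem_cons, List.not_mem_nil, or_false] at hs
  subst hs
  exact ⟨by decide, hX⟩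

/-- certificate for E8, fundamental root 6 -/
def tab_E8_6 : List ((ℕ × List ℕ) × (ℕ × List ℕ)) := [((121, [2, 3, 4, 5, 6, 0, 2, 3, 4, 5]), (121, [0, 2, 3, 4, 5, 6, 0, 2, 3, 4, 5])), ((121, [3, 4, 5, 6, 1, 3, 4, 5]), (121, [1, 3, 4, 5, 6, 1, 3, 4, 5])), ((121, [3, 4, 5, 6, 2, 3, 4, 5]), (121, [2, 3, 4, 5, 6, 2, 3, 4, 5])), ((121, [4, 5, 6, 3, 4, 5]), (121, [3, 4, 5, 6, 3, 4, 5])), ((121, [5, 6, 4, 5]), (121, [4, 5, 6, 4, 5])), ((121, [6, 5]), (121, [5, 6, 5])), ((121, []), (121, [6])), ((121, [6, 7]), (121, [6, 7, 6]))]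
theorem cert_E8_6 : certOK chevE8 [121] tab_E8_6 = true := by decide +kernel
theorem case_E8_6 (hD : chevE8 ∈ [chevG2, chevB2, chevD4, chevF4, chevE6, chevE7, chevE8]) (M : Subgroup (GL chevE8.Idx K))
    (hN : chevE8.monomialSubgroup K ≤ M) (hX : RootIn chevE8 M 121) : chevE8.group K ≤ M := by
  apply group_le_of_cert chevE8 hD M hN [121] tab_E8_6 cert_E8_6
  intro s hs
  simp only [List.mem_cons, List.not_mem_nil, or_false] at hs
  subst hs
  exact ⟨by decide, hX⟩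

/-- certificate for E8, fundamental root 7 -/
def tab_E8_7 : List ((ℕ × List ℕ) × (ℕ × List ℕ)) := [((120, [2, 3, 4, 5, 6, 7, 0, 2, 3, 4, 5, 6]), (120, [0, 2, 3, 4, 5, 6, 7, 0, 2, 3, 4, 5, 6])), ((120, [3, 4, 5, 6, 7, 1, 3, 4, 5, 6]), (120, [1, 3, 4, 5, 6, 7, 1, 3, 4, 5, 6])), ((120, [3, 4, 5, 6, 7, 2, 3, 4, 5, 6]), (120, [2, 3, 4, 5, 6, 7, 2, 3, 4, 5, 6])), ((120, [4, 5, 6, 7, 3, 4, 5, 6]), (120, [3, 4, 5, 6, 7, 3, 4, 5, 6])), ((120, [5, 6, 7, 4, 5, 6]), (120, [4, 5, 6, 7, 4, 5, 6])), ((120, [6, 7, 5, 6]), (120, [5, 6, 7, 5, 6])), ((120, [7, 6]), (120, [6, 7, 6])), ((120, []), (120, [7]))]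
theorem cert_E8_7 : certOK chevE8 [120] tab_E8_7 = true := by decide +kernel
theorem case_E8_7 (hD : chevE8 ∈ [chevG2, chevB2, chevD4, chevF4, chevE6, chevE7, chevE8]) (M : Subgroup (GL chevE8.Idx K))
    (hN : chevE8.monomialSubgroup K ≤ M) (hX : RootIn chevE8 M 120) : chevE8.group K ≤ M := by
  apply group_le_of_cert chevE8 hD M hN [120] tab_E8_7 cert_E8_7
  intro s hs
  simp only [List.mem_cons, List.not_mem_nil, or_false] at hs
  subst hs
  exact ⟨by decide, hX⟩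

end Cases

/-- A Chevalley group of type G₂, B₂, D₄, F₄, E₆, E₇ or E₈ over a finite field lies in (indeed equals) the subgroup generated by its monomial subgroup `N` and a single fundamental root subgroup `X_p`, where `p` is a short fundamental root if there are two root lengths (any fundamental root otherwise), provided the characteristic is not 2 for types B₂, F₄ and not 3 for type G₂ (and the field has more than two elements for B₂, G₂). -/
theorem result {K : Type*} [Field K] [Finite K] (D : Cfsg.Lie.ChevalleyDatum) (hD : D ∈ [Cfsg.Lie.chevG2, Cfsg.Lie.chevB2, Cfsg.Lie.chevD4, Cfsg.Lie.chevF4, Cfsg.Lie.chevE6, Cfsg.Lie.chevE7, Cfsg.Lie.chevE8])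
    (hK : D ∈ [Cfsg.Lie.chevB2, Cfsg.Lie.chevG2] → ∃ x : K, x ≠ 0 ∧ x ≠ 1)
    (h2 : D ∈ [Cfsg.Lie.chevB2, Cfsg.Lie.chevF4] → ringChar K ≠ 2) (h3 : D = Cfsg.Lie.chevG2 → ringChar K ≠ 3)
    (i : ℕ) (hi : i < D.rank) (hshort : D.isLong (D.simple i) = false) :
    D.group K ≤ D.monomialSubgroup K ⊔ D.rootSubgroup K (D.simple i) := by
  have hN : D.monomialSubgroup K ≤ D.monomialSubgroup K ⊔ D.rootSubgroup K (D.simple i) := le_sup_left
  have hX : RootIn D (D.monomialSubgroup K ⊔ D.rootSubgroup K (D.simple i)) (D.simple i) :=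
    rootIn_of_rootSubgroup_le D hD _ _ le_sup_right
  have hD' := hD
  simp only [List.mem_cons, List.not_mem_nil, or_false] at hD'
  rcases hD' with rfl | rfl | rfl | rfl | rfl | rfl | rfl
  · have hi' : i < 2 := hi
    interval_cases i
    · exact case_G2_0 hD _ hN hX (intCast_ne_zero_of_ringChar_ne 3 (-3) (by norm_num) (by decide) (h3 rfl))
    · rw [long_G2_1] at hshort
      exact absurd hshort (by decide)
  · have hi' : i < 2 := hi
    interval_cases i
    · exact case_B2_0 hD _ hN hX (intCast_ne_zero_of_ringChar_ne 2 (2) (by norm_num) (by decide) (h2 (by simp)))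
    · rw [long_B2_1] at hshort
      exact absurd hshort (by decide)
  · have hi' : i < 4 := hi
    interval_cases i
    · exact case_D4_0 hD _ hN hX
    · exact case_D4_1 hD _ hN hX
    · exact case_D4_2 hD _ hN hX
    · exact case_D4_3 hD _ hN hX
  · have hi' : i < 4 := hi
    interval_cases i
    · exact case_F4_0 hD _ hN hX (intCast_ne_zero_of_ringChar_ne 2 (2) (by norm_num) (by decide) (h2 (by simp)))
    · exact case_F4_1 hD _ hN hX (intCast_ne_zero_of_ringChar_ne 2 (2) (by norm_num) (by decide) (h2 (by simp)))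
    · rw [long_F4_2] at hshort
      exact absurd hshort (by decide)
    · rw [long_F4_3] at hshort
      exact absurd hshort (by decide)
  · have hi' : i < 6 := hi
    interval_cases i
    · exact case_E6_0 hD _ hN hX
    · exact case_E6_1 hD _ hN hX
    · exact case_E6_2 hD _ hN hX
    · exact case_E6_3 hD _ hN hX
    · exact case_E6_4 hD _ hN hX
    · exact case_E6_5 hD _ hN hX
  · have hi' : i < 7 := hi
    interval_cases i
    · exact case_E7_0 hD _ hN hX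
    · exact case_E7_1 hD _ hN hX
    · exact case_E7_2 hD _ hN hX
    · exact case_E7_3 hD _ hN hX
    · exact case_E7_4 hD _ hN hX
    · exact case_E7_5 hD _ hN hX
    · exact case_E7_6 hD _ hN hX
  · have hi' : i < 8 := hi
    interval_cases i
    · exact case_E8_0 hD _ hN hX
    · exact case_E8_1 hD _ hN hX
    · exact case_E8_2 hD _ hN hX
    · exact case_E8_3 hD _ hN hX
    · exact case_E8_4 hD _ hN hX
    · exact case_E8_5 hD _ hN hX
    · exact case_E8_6 hD _ hN hX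
    · exact case_E8_7 hD _ hN hX

end Cfsg.Agent.S2416
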