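import Cfsg.Statements.S2417
import Cfsg.Agent.Helper40.GenNX

set_option autoImplicit false
open scoped MatrixGroups
open Cfsg

namespace Cfsg.Agent.S2417

open Cfsg.Lie Cfsg.Agent.Helper18 Cfsg.Agent.Helper40.Comm Cfsg.Agent.Helper40.GenNX

section Cases
variable {K : Type*} [Field K]

theorem isLong_B2_0 : chevB2.isLong (chevB2.simple 0) = false := by decide +kernel
theorem isLong_B2_1 : chevB2.isLong (chevB2.simple 1) = true := by decide +kernel
/-- certificate for B2, short fundamental root 0, long fundamental root 1 -/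
def tab_B2_0_1 : List ((ℕ × List ℕ) × (ℕ × List ℕ)) := [((5, []), (5, [0])), ((4, []), (4, [1]))]
theorem cert_B2_0_1 : certOK chevB2 [5, 4] tab_B2_0_1 = true := by decide +kernel
theorem case_B2_0_1 (hD : chevB2 ∈ [chevG2, chevB2, chevD4, chevF4, chevE6, chevE7, chevE8]) (M : Subgroup (GL chevB2.Idx K))
    (hN : chevB2.monomialSubgroup K ≤ M) (hX : RootIn chevB2 M 5) (hY : RootIn chevB2 M 4) : chevB2.group K ≤ M := by
  apply group_le_of_cert chevB2 hD M hN [5, 4] tab_B2_0_1 cert_B2_0_1
  intro s hs
  simp only [List.mem_cons, List.not_mem_nil, or_false] at hs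
  rcases hs with rfl | rfl
  · exact ⟨by decide, hX⟩
  · exact ⟨by decide, hY⟩

theorem isLong_F4_0 : chevF4.isLong (chevF4.simple 0) = false := by decide +kernel
theorem isLong_F4_1 : chevF4.isLong (chevF4.simple 1) = false := by decide +kernel
theorem isLong_F4_2 : chevF4.isLong (chevF4.simple 2) = true := by decide +kernel
theorem isLong_F4_3 : chevF4.isLong (chevF4.simple 3) = true := by decide +kernel
theorem bonds_F4_0_2 : chevF4.bonds 0 2 = 0 := by decide +kernel
theorem bonds_F4_0_3 : chevF4.bonds 0 3 = 0 := by decide +kernel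
theorem bonds_F4_1_3 : chevF4.bonds 1 3 = 0 := by decide +kernel
/-- certificate for F4, short fundamental root 1, long fundamental root 2 -/
def tab_F4_1_2 : List ((ℕ × List ℕ) × (ℕ × List ℕ)) := [((27, [1, 0]), (27, [0, 1, 0])), ((27, []), (27, [1])), ((25, []), (25, [2])), ((25, [2, 3]), (25, [2, 3, 2]))]
theorem cert_F4_1_2 : certOK chevF4 [27, 25] tab_F4_1_2 = true := by decide +kernel
theorem case_F4_1_2 (hD : chevF4 ∈ [chevG2, chevB2, chevD4, chevF4, chevE6, chevE7, chevE8]) (M : Subgroup (GL chevF4.Idx K))
    (hN : chevF4.monomialSubgroup K ≤ M) (hX : RootIn chevF4 M 27) (hY : RootIn chevF4 M 25) : chevF4.group K ≤ M := by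
  apply group_le_of_cert chevF4 hD M hN [27, 25] tab_F4_1_2 cert_F4_1_2
  intro s hs
  simp only [List.mem_cons, List.not_mem_nil, or_false] at hs
  rcases hs with rfl | rfl
  · exact ⟨by decide, hX⟩
  · exact ⟨by decide, hY⟩

theorem isLong_G2_0 : chevG2.isLong (chevG2.simple 0) = false := by decide +kernel
theorem isLong_G2_1 : chevG2.isLong (chevG2.simple 1) = true := by decide +kernel
/-- certificate for G2, short fundamental root 0, long fundamental root 1 -/
def tab_G2_0_1 : List ((ℕ × List ℕ) × (ℕ × List ℕ)) := [((7, []), (7, [0])), ((6, []), (6, [1]))]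
theorem cert_G2_0_1 : certOK chevG2 [7, 6] tab_G2_0_1 = true := by decide +kernel
theorem case_G2_0_1 (hD : chevG2 ∈ [chevG2, chevB2, chevD4, chevF4, chevE6, chevE7, chevE8]) (M : Subgroup (GL chevG2.Idx K))
    (hN : chevG2.monomialSubgroup K ≤ M) (hX : RootIn chevG2 M 7) (hY : RootIn chevG2 M 6) : chevG2.group K ≤ M := by
  apply group_le_of_cert chevG2 hD M hN [7, 6] tab_G2_0_1 cert_G2_0_1
  intro s hs
  simp only [List.mem_cons, List.not_mem_nil, or_false] at hs
  rcases hs with rfl | rfl
  · exact ⟨by decide, hX⟩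
  · exact ⟨by decide, hY⟩

end Cases

/-- In the characteristics with an exceptional graph symmetry — type B₂ or F₄ in characteristic 2 (field of more than two elements for B₂) and type G₂ in characteristic 3 — the Chevalley group lies in the subgroup generated by its monomial subgroup `N` and the two fundamental root subgroups `X_a`, `X_b` of a short root `a` and a long root `b` joined in the Dynkin diagram. -/
theorem result {K : Type*} [Field K] [Finite K] (e : Cfsg.Lie.ChevalleyDatum × ℕ)
    (he : e ∈ [(Cfsg.Lie.chevB2, 2), (Cfsg.Lie.chevF4, 2), (Cfsg.Lie.chevG2, 3)]) [CharP K e.2]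
    (hK : e.1 = Cfsg.Lie.chevB2 → ∃ x : K, x ≠ 0 ∧ x ≠ 1)
    (i j : ℕ) (hi : i < e.1.rank) (hj : j < e.1.rank) (hshort : e.1.isLong (e.1.simple i) = false)
    (hlong : e.1.isLong (e.1.simple j) = true) (hbond : e.1.bonds i j ≠ 0) :
    e.1.group K ≤ e.1.monomialSubgroup K ⊔ e.1.rootSubgroup K (e.1.simple i) ⊔ e.1.rootSubgroup K (e.1.simple j) := by
  simp only [List.mem_cons, List.not_mem_nil, or_false] at he
  rcases he with rfl | rfl | rfl
  · have hD : chevB2 ∈ [chevG2, chevB2, chevD4, chevF4, chevE6, chevE7, chevE8] := by simp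
    have hi' : i < 2 := hi
    have hj' : j < 2 := hj
    interval_cases i <;> interval_cases j
    · exact absurd hlong (by rw [isLong_B2_0]; decide)
    · exact case_B2_0_1 hD _ (le_sup_of_le_left le_sup_left)
        (rootIn_of_rootSubgroup_le chevB2 hD _ _ (le_sup_of_le_left le_sup_right))
        (rootIn_of_rootSubgroup_le chevB2 hD _ _ le_sup_right)
    · exact absurd hshort (by rw [isLong_B2_1]; decide)
    · exact absurd hshort (by rw [isLong_B2_1]; decide)
  · have hD : chevF4 ∈ [chevG2, chevB2, chevD4, chevF4, chevE6, chevE7, chevE8] := by simp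
    have hi' : i < 4 := hi
    have hj' : j < 4 := hj
    interval_cases i <;> interval_cases j
    · exact absurd hlong (by rw [isLong_F4_0]; decide)
    · exact absurd hlong (by rw [isLong_F4_1]; decide)
    · exact absurd bonds_F4_0_2 hbond
    · exact absurd bonds_F4_0_3 hbond
    · exact absurd hlong (by rw [isLong_F4_0]; decide)
    · exact absurd hlong (by rw [isLong_F4_1]; decide)
    · exact case_F4_1_2 hD _ (le_sup_of_le_left le_sup_left)
        (rootIn_of_rootSubgroup_le chevF4 hD _ _ (le_sup_of_le_left le_sup_right))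
        (rootIn_of_rootSubgroup_le chevF4 hD _ _ le_sup_right)
    · exact absurd bonds_F4_1_3 hbond
    · exact absurd hshort (by rw [isLong_F4_2]; decide)
    · exact absurd hshort (by rw [isLong_F4_2]; decide)
    · exact absurd hshort (by rw [isLong_F4_2]; decide)
    · exact absurd hshort (by rw [isLong_F4_2]; decide)
    · exact absurd hshort (by rw [isLong_F4_3]; decide)
    · exact absurd hshort (by rw [isLong_F4_3]; decide)
    · exact absurd hshort (by rw [isLong_F4_3]; decide)
    · exact absurd hshort (by rw [isLong_F4_3]; decide)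
  · have hD : chevG2 ∈ [chevG2, chevB2, chevD4, chevF4, chevE6, chevE7, chevE8] := by simp
    have hi' : i < 2 := hi
    have hj' : j < 2 := hj
    interval_cases i <;> interval_cases j
    · exact absurd hlong (by rw [isLong_G2_0]; decide)
    · exact case_G2_0_1 hD _ (le_sup_of_le_left le_sup_left)
        (rootIn_of_rootSubgroup_le chevG2 hD _ _ (le_sup_of_le_left le_sup_right))
        (rootIn_of_rootSubgroup_le chevG2 hD _ _ le_sup_right)
    · exact absurd hshort (by rw [isLong_G2_1]; decide)
    · exact absurd hshort (by rw [isLong_G2_1]; decide)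

end Cfsg.Agent.S2417
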