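import Mathlib
import Cfsg.Statements.S2418
import Cfsg.Agent.Helper40.CoxCenter
import Cfsg.Agent.Helper40.CoxData.CoxB2
import Cfsg.Agent.Helper40.CoxData.CoxG2
import Cfsg.Agent.Helper40.CoxData.CoxD4
import Cfsg.Agent.Helper40.CoxData.CoxF4
import Cfsg.Agent.Helper40.CoxData.CoxE6
import Cfsg.Agent.Helper40.CoxData.CoxE7
import Cfsg.Agent.Helper40.CoxData.CoxE8

set_option autoImplicit false
open Cfsg

namespace Cfsg.Agent.S2418

open Cfsg.Agent.Helper40.TC Cfsg.Agent.Helper40.TCData

theorem conn_B2 : Conn 2 cartanB2 := by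
  intro lam h
  have e0 : lam 0 = lam 0 := rfl
  have e1 : lam 1 = lam 0 := (h 0 1 (by decide)).trans e0
  have hall : ∀ i : Fin 2, lam i = lam 0 := by
    intro i
    fin_cases i
    · exact e0
    · exact e1
  intro i k
  rw [hall i, hall k]

theorem center_B2 : Nat.card (Subgroup.center (CoxeterMatrix.B 2).Group) = 2 ∧
    Subgroup.center (CoxeterMatrix.B 2).Group ≤ Subgroup.zpowers (((List.finRange 2).map (CoxeterMatrix.B 2).simple).prod) :=
  center_result_two (CoxeterMatrix.B 2) cartanB2 cartanOK_B2 levB2 levOK_B2 conn_B2 2 (by norm_num)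
    (by decide +kernel) (by decide +kernel)

theorem conn_G2 : Conn 2 cartanG2 := by
  intro lam h
  have e0 : lam 0 = lam 0 := rfl
  have e1 : lam 1 = lam 0 := (h 0 1 (by decide)).trans e0
  have hall : ∀ i : Fin 2, lam i = lam 0 := by
    intro i
    fin_cases i
    · exact e0
    · exact e1
  intro i k
  rw [hall i, hall k]

theorem center_G2 : Nat.card (Subgroup.center CoxeterMatrix.G₂.Group) = 2 ∧
    Subgroup.center CoxeterMatrix.G₂.Group ≤ Subgroup.zpowers (((List.finRange 2).map CoxeterMatrix.G₂.simple).prod) :=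
  center_result_two CoxeterMatrix.G₂ cartanG2 cartanOK_G2 levG2 levOK_G2 conn_G2 3 (by norm_num)
    (by decide +kernel) (by decide +kernel)

theorem conn_D4 : Conn 4 cartanD4 := by
  intro lam h
  have e0 : lam 0 = lam 0 := rfl
  have e1 : lam 1 = lam 0 := (h 0 1 (by decide)).trans e0
  have e2 : lam 2 = lam 0 := (h 1 2 (by decide)).trans e1
  have e3 : lam 3 = lam 0 := (h 1 3 (by decide)).trans e1
  have hall : ∀ i : Fin 4, lam i = lam 0 := by
    intro i
    fin_cases i
    · exact e0
    · exact e1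
    · exact e2
    · exact e3
  intro i k
  rw [hall i, hall k]

theorem center_D4 : Nat.card (Subgroup.center Cfsg.Lie.coxeterD4.Group) = 2 ∧
    Subgroup.center Cfsg.Lie.coxeterD4.Group ≤ Subgroup.zpowers (((List.finRange 4).map Cfsg.Lie.coxeterD4.simple).prod) :=
  center_result_two Cfsg.Lie.coxeterD4 cartanD4 cartanOK_D4 levD4 levOK_D4 conn_D4 3 (by norm_num)
    (by decide +kernel) (by decide +kernel)

theorem conn_F4 : Conn 4 cartanF4 := by
  intro lam h
  have e0 : lam 0 = lam 0 := rfl
  have e1 : lam 1 = lam 0 := (h 0 1 (by decide)).trans e0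
  have e2 : lam 2 = lam 0 := (h 1 2 (by decide)).trans e1
  have e3 : lam 3 = lam 0 := (h 2 3 (by decide)).trans e2
  have hall : ∀ i : Fin 4, lam i = lam 0 := by
    intro i
    fin_cases i
    · exact e0
    · exact e1
    · exact e2
    · exact e3
  intro i k
  rw [hall i, hall k]

theorem center_F4 : Nat.card (Subgroup.center CoxeterMatrix.F₄.Group) = 2 ∧
    Subgroup.center CoxeterMatrix.F₄.Group ≤ Subgroup.zpowers (((List.finRange 4).map CoxeterMatrix.F₄.simple).prod) :=
  center_result_two CoxeterMatrix.F₄ cartanF4 cartanOK_F4 levF4 levOK_F4 conn_F4 6 (by norm_num)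
    (by decide +kernel) (by decide +kernel)

theorem conn_E6 : Conn 6 cartanE6 := by
  intro lam h
  have e0 : lam 0 = lam 0 := rfl
  have e2 : lam 2 = lam 0 := (h 0 2 (by decide)).trans e0
  have e3 : lam 3 = lam 0 := (h 2 3 (by decide)).trans e2
  have e1 : lam 1 = lam 0 := (h 3 1 (by decide)).trans e3
  have e4 : lam 4 = lam 0 := (h 3 4 (by decide)).trans e3
  have e5 : lam 5 = lam 0 := (h 4 5 (by decide)).trans e4
  have hall : ∀ i : Fin 6, lam i = lam 0 := by
    intro i
    fin_cases i
    · exact e0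
    · exact e1
    · exact e2
    · exact e3
    · exact e4
    · exact e5
  intro i k
  rw [hall i, hall k]

theorem noneg_E6 (g : CoxeterMatrix.E₆.Group) :
    ¬ (∀ v : Fin 6 → ℤ, ract CoxeterMatrix.E₆ cartanE6 cartanOK_E6 g v = -v) := by
  refine no_neg_of_inv CoxeterMatrix.E₆ cartanE6 cartanOK_E6 ![1, 0, 2, 0, 1, 2] 3 ?_ 0 (by decide) g
  intro i
  fin_cases i <;> decide

theorem center_E6 : Nat.card (Subgroup.center CoxeterMatrix.E₆.Group) = 1 ∧
    Subgroup.center CoxeterMatrix.E₆.Group ≤ Subgroup.zpowers (((List.finRange 6).map CoxeterMatrix.E₆.simple).prod) :=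
  center_result_one CoxeterMatrix.E₆ cartanE6 cartanOK_E6 levE6 levOK_E6 conn_E6 noneg_E6

theorem conn_E7 : Conn 7 cartanE7 := by
  intro lam h
  have e0 : lam 0 = lam 0 := rfl
  have e2 : lam 2 = lam 0 := (h 0 2 (by decide)).trans e0
  have e3 : lam 3 = lam 0 := (h 2 3 (by decide)).trans e2
  have e1 : lam 1 = lam 0 := (h 3 1 (by decide)).trans e3
  have e4 : lam 4 = lam 0 := (h 3 4 (by decide)).trans e3
  have e5 : lam 5 = lam 0 := (h 4 5 (by decide)).trans e4
  have e6 : lam 6 = lam 0 := (h 5 6 (by decide)).trans e5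
  have hall : ∀ i : Fin 7, lam i = lam 0 := by
    intro i
    fin_cases i
    · exact e0
    · exact e1
    · exact e2
    · exact e3
    · exact e4
    · exact e5
    · exact e6
  intro i k
  rw [hall i, hall k]

theorem center_E7 : Nat.card (Subgroup.center CoxeterMatrix.E₇.Group) = 2 ∧
    Subgroup.center CoxeterMatrix.E₇.Group ≤ Subgroup.zpowers (((List.finRange 7).map CoxeterMatrix.E₇.simple).prod) :=
  center_result_two CoxeterMatrix.E₇ cartanE7 cartanOK_E7 levE7 levOK_E7 conn_E7 9 (by norm_num)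
    (by decide +kernel) (by decide +kernel)

theorem conn_E8 : Conn 8 cartanE8 := by
  intro lam h
  have e0 : lam 0 = lam 0 := rfl
  have e2 : lam 2 = lam 0 := (h 0 2 (by decide)).trans e0
  have e3 : lam 3 = lam 0 := (h 2 3 (by decide)).trans e2
  have e1 : lam 1 = lam 0 := (h 3 1 (by decide)).trans e3
  have e4 : lam 4 = lam 0 := (h 3 4 (by decide)).trans e3
  have e5 : lam 5 = lam 0 := (h 4 5 (by decide)).trans e4
  have e6 : lam 6 = lam 0 := (h 5 6 (by decide)).trans e5
  have e7 : lam 7 = lam 0 := (h 6 7 (by decide)).trans e6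
  have hall : ∀ i : Fin 8, lam i = lam 0 := by
    intro i
    fin_cases i
    · exact e0
    · exact e1
    · exact e2
    · exact e3
    · exact e4
    · exact e5
    · exact e6
    · exact e7
  intro i k
  rw [hall i, hall k]

theorem center_E8 : Nat.card (Subgroup.center CoxeterMatrix.E₈.Group) = 2 ∧
    Subgroup.center CoxeterMatrix.E₈.Group ≤ Subgroup.zpowers (((List.finRange 8).map CoxeterMatrix.E₈.simple).prod) :=
  center_result_two CoxeterMatrix.E₈ cartanE8 cartanOK_E8 levE8 levOK_E8 conn_E8 15 (by norm_num)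
    (by decide +kernel) (by decide +kernel)

/-- For the Coxeter groups of types B₂, G₂, D₄, F₄, E₇, E₈ the centre has order 2 (the element acting as −1 on the root system) and is generated by a power of the Coxeter element `s₁ s₂ ⋯ s_l`; the Coxeter group of type E₆ has trivial centre. -/
theorem result (c : (Σ n : ℕ, CoxeterMatrix (Fin n)) × ℕ)
    (hc : c ∈ [(⟨2, CoxeterMatrix.B 2⟩, 2), (⟨2, CoxeterMatrix.G₂⟩, 2), (⟨4, Cfsg.Lie.coxeterD4⟩, 2), (⟨4, CoxeterMatrix.F₄⟩, 2),
      (⟨6, CoxeterMatrix.E₆⟩, 1), (⟨7, CoxeterMatrix.E₇⟩, 2), (⟨8, CoxeterMatrix.E₈⟩, 2)]) :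
    Nat.card (Subgroup.center c.1.2.Group) = c.2 ∧
      Subgroup.center c.1.2.Group ≤ Subgroup.zpowers ((List.finRange c.1.1).map c.1.2.simple).prod := by
  simp only [List.mem_cons, List.not_mem_nil, or_false] at hc
  rcases hc with rfl | rfl | rfl | rfl | rfl | rfl | rfl
  · exact center_B2
  · exact center_G2
  · exact center_D4
  · exact center_F4
  · exact center_E6
  · exact center_E7
  · exact center_E8

end Cfsg.Agent.S2418
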