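import Cfsg.Statements.S2419
import Mathlib
import Cfsg.Agent.Helper40.CoxWords
-- import your own Cfsg.Agent.* helpers here

set_option autoImplicit false
open Cfsg

namespace Cfsg.Agent.S2419

open Cfsg.Agent.Helper40 CoxeterSystem

section helpers

variable {n : ℕ} (M : CoxeterMatrix (Fin n))

theorem cox_eq (cw : List (Fin n)) (hcw : cw = List.finRange n) :
    wp M cw = ((List.finRange n).map M.simple).prod := by
  subst hcw
  simp only [wp, CoxeterSystem.wordProd, CoxeterMatrix.toCoxeterSystem_simple]

theorem wp_single (i : Fin n) : wp M [i] = M.simple i := by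
  simp [wp, CoxeterMatrix.toCoxeterSystem_simple]

theorem gen_one (cw : List (Fin n)) (hcw : cw = List.finRange n) (i : Fin n) (steps : List (Step n))
    (h : genCheck M [cw, [i]] steps = true) :
    ∃ T : Finset M.Group, T.card = 1 ∧ (∀ t ∈ T, ∃ (g : M.Group) (j : Fin n), t = g * M.simple j * g⁻¹) ∧
      Subgroup.closure (({((List.finRange n).map M.simple).prod} : Set M.Group) ∪ ↑T) = ⊤ := by
  classical
  refine ⟨{M.simple i}, Finset.card_singleton _, ?_, ?_⟩
  · intro t ht
    rw [Finset.mem_singleton] at ht
    exact ⟨1, i, by simp [ht]⟩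
  · apply genCheck_sound M _ [cw, [i]] _ steps h
    intro x hx
    simp only [List.mem_cons, List.mem_nil_iff, or_false] at hx
    rcases hx with rfl | rfl
    · rw [cox_eq M _ hcw]
      exact Subgroup.subset_closure (Or.inl rfl)
    · rw [wp_single]
      exact Subgroup.subset_closure (Or.inr (by simp))

theorem gen_two (cw : List (Fin n)) (hcw : cw = List.finRange n) (i j : Fin n) (hij : M.simple i ≠ M.simple j)
    (steps : List (Step n)) (h : genCheck M [cw, [i], [j]] steps = true) :
    ∃ T : Finset M.Group, T.card = 2 ∧ (∀ t ∈ T, ∃ (g : M.Group) (j : Fin n), t = g * M.simple j * g⁻¹) ∧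
      Subgroup.closure (({((List.finRange n).map M.simple).prod} : Set M.Group) ∪ ↑T) = ⊤ := by
  classical
  refine ⟨{M.simple i, M.simple j}, Finset.card_pair hij, ?_, ?_⟩
  · intro t ht
    rw [Finset.mem_insert, Finset.mem_singleton] at ht
    rcases ht with ht | ht
    · exact ⟨1, i, by simp [ht]⟩
    · exact ⟨1, j, by simp [ht]⟩
  · apply genCheck_sound M _ [cw, [i], [j]] _ steps h
    intro x hx
    simp only [List.mem_cons, List.mem_nil_iff, or_false] at hx
    rcases hx with rfl | rfl | rfl
    · rw [cox_eq M _ hcw]
      exact Subgroup.subset_closure (Or.inl rfl)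
    · rw [wp_single]
      exact Subgroup.subset_closure (Or.inr (by simp))
    · rw [wp_single]
      exact Subgroup.subset_closure (Or.inr (by simp))

/-- rank two: the Coxeter element and the first simple reflection generate -/
theorem gen_rank_two (M : CoxeterMatrix (Fin 2)) :
    ∃ T : Finset M.Group, T.card = 1 ∧ (∀ t ∈ T, ∃ (g : M.Group) (j : Fin 2), t = g * M.simple j * g⁻¹) ∧
      Subgroup.closure (({((List.finRange 2).map M.simple).prod} : Set M.Group) ∪ ↑T) = ⊤ := by
  classical
  refine ⟨{M.simple 0}, Finset.card_singleton _, ?_, ?_⟩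
  · intro t ht
    rw [Finset.mem_singleton] at ht
    exact ⟨1, 0, by simp [ht]⟩
  · have hprod : ((List.finRange 2).map M.simple).prod = M.simple 0 * M.simple 1 := by
      simp [List.finRange_succ]
    rw [hprod, eq_top_iff, ← M.toCoxeterSystem.subgroup_closure_range_simple, Subgroup.closure_le]
    have h0 : M.simple 0 ∈ Subgroup.closure (({M.simple 0 * M.simple 1} : Set M.Group) ∪
        ↑({M.simple 0} : Finset M.Group)) := Subgroup.subset_closure (Or.inr (by simp))
    have h01 : M.simple 0 * M.simple 1 ∈ Subgroup.closure (({M.simple 0 * M.simple 1} : Set M.Group) ∪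
        ↑({M.simple 0} : Finset M.Group)) := Subgroup.subset_closure (Or.inl rfl)
    rintro _ ⟨i, rfl⟩
    rw [CoxeterMatrix.toCoxeterSystem_simple]
    fin_cases i
    · exact h0
    · have : M.simple 1 = M.simple 0 * (M.simple 0 * M.simple 1) := by
        rw [← mul_assoc]
        have := M.toCoxeterSystem.simple_mul_simple_self 0
        rw [CoxeterMatrix.toCoxeterSystem_simple] at this
        rw [this, one_mul]
      have h1 := Subgroup.mul_mem _ h0 h01
      rw [← this] at h1
      exact h1

end helpers


/-- `s₀ ≠ s₂` in the Coxeter group of type D₄ (central node 1), seen in the symmetric group -/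
theorem d4_simple_ne : Cfsg.Lie.coxeterD4.simple 0 ≠ Cfsg.Lie.coxeterD4.simple 2 := by
  let f : Fin 4 → Equiv.Perm (Fin 4) := ![Equiv.swap 0 1, Equiv.swap 1 2, Equiv.swap 2 3, Equiv.swap 2 3]
  have hf : Cfsg.Lie.coxeterD4.IsLiftable f := by
    intro i j
    fin_cases i <;> fin_cases j <;> decide
  intro h
  have h1 := congrArg (Cfsg.Lie.coxeterD4.toCoxeterSystem.lift ⟨f, hf⟩) h
  rw [← CoxeterMatrix.toCoxeterSystem_simple] at h1
  rw [CoxeterSystem.lift_apply_simple, CoxeterSystem.lift_apply_simple] at h1
  revert h1
  decide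

/-- `s₀ ≠ s₃` in the Coxeter group of type F₄, seen by a sign character -/
theorem f4_simple_ne : CoxeterMatrix.F₄.simple 0 ≠ CoxeterMatrix.F₄.simple 3 := by
  let f : Fin 4 → ℤˣ := ![-1, -1, 1, 1]
  have hf : CoxeterMatrix.F₄.IsLiftable f := by
    intro i j
    fin_cases i <;> fin_cases j <;> decide
  intro h
  have h1 := congrArg (CoxeterMatrix.F₄.toCoxeterSystem.lift ⟨f, hf⟩) h
  rw [← CoxeterMatrix.toCoxeterSystem_simple] at h1
  rw [CoxeterSystem.lift_apply_simple, CoxeterSystem.lift_apply_simple] at h1
  revert h1
  decide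

/-- generation certificate for D4 -/
def stepsD4 : List (Step 4) := [
  ([(false, 0), (false, 1), (true, 0)], [1], [(false, 3), (true, 4), (false, 2), (true, 3), (false, 0), (true, 2), (true, 1), (true, 0)]),
  ([(true, 0), (false, 2), (false, 0)], [3, 1, 3], [(false, 3), (true, 4), (false, 1), (true, 3), (true, 2), (true, 2), (true, 1), (true, 0)]),
  ([(false, 3), (false, 4), (false, 3)], [3], [(false, 0), (true, 2), (true, 1), (true, 0)])]
/-- generation certificate for F4 -/
def stepsF4 : List (Step 4) := [
  ([(false, 0), (false, 1), (true, 0)], [1], [(false, 3), (true, 4), (false, 2), (true, 3), (false, 0), (true, 2), (true, 1), (true, 0)]),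
  ([(true, 0), (false, 2), (false, 0)], [2], [(false, 3), (true, 4), (false, 2), (true, 3), (false, 0), (true, 2), (true, 1), (true, 0)])]
/-- generation certificate for E6 -/
def stepsE6 : List (Step 6) := [
  ([(true, 0), (false, 1), (false, 0)], [4], [(false, 5), (true, 6), (false, 4), (true, 5), (false, 3), (true, 4), (false, 2), (true, 3), (false, 0), (true, 2), (true, 1), (true, 0)]),
  ([(true, 0), (false, 2), (false, 0)], [3], [(false, 5), (true, 6), (false, 4), (true, 5), (false, 3), (true, 4), (false, 1), (true, 3), (true, 2), (false, 0), (true, 1), (true, 0)]),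
  ([(false, 0), (false, 1), (true, 0)], [5, 4, 1, 3, 2, 0, 2, 3, 1, 4, 5], [(true, 5), (false, 4), (false, 6), (false, 7), (false, 8), (false, 9), (true, 10), (false, 3), (false, 4), (false, 6), (false, 7), (false, 8), (true, 9), (false, 7), (true, 8), (false, 2), (false, 3), (false, 4), (false, 6), (true, 7), (false, 0), (false, 1), (false, 2), (false, 3), (false, 4), (true, 6), (true, 5), (true, 4), (true, 3), (false, 0), (false, 1), (true, 2), (true, 1), (true, 0)]),
  ([(false, 0), (false, 4), (true, 0)], [3, 2, 3], [(true, 5), (true, 4), (false, 1), (false, 2), (true, 4), (false, 3), (false, 1), (false, 0), (false, 4), (false, 3), (false, 1), (false, 5), (false, 3), (false, 5), (true, 7), (true, 8), (true, 7), (true, 6), (false, 4), (true, 5), (true, 4), (false, 2), (true, 3), (true, 2), (true, 1), (true, 0)]),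
  ([(false, 3), (false, 5), (false, 3)], [2], [(true, 0), (true, 1), (true, 0)]),
  ([(true, 0), (false, 6), (false, 0)], [0], [(false, 3), (false, 4), (true, 6), (false, 3), (false, 4), (true, 5), (true, 4), (false, 2), (true, 3), (false, 1), (true, 2), (false, 0), (true, 1), (true, 0)]),
  ([(false, 0), (false, 5), (true, 0)], [4, 3, 1, 3, 4], [(false, 5), (false, 6), (false, 7), (true, 8), (false, 3), (false, 2), (false, 5), (false, 3), (false, 5), (true, 7), (true, 6), (false, 4), (true, 5), (false, 0), (false, 1), (false, 2), (false, 3), (false, 4), (true, 5), (false, 3), (true, 4), (false, 0), (false, 1), (true, 3), (true, 2), (true, 1), (true, 0)]),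
  ([(false, 1), (false, 8), (false, 1)], [5, 4, 3, 1, 3, 4, 5], [(true, 6), (true, 5), (true, 4), (true, 3), (true, 2), (true, 1), (true, 0)]),
  ([(false, 0), (false, 9), (true, 0)], [1], [(true, 5), (true, 4), (true, 3), (false, 1), (true, 2), (true, 4), (true, 3), (true, 2), (true, 1), (false, 0), (true, 1), (true, 0)])]
/-- generation certificate for E7 -/
def stepsE7 : List (Step 7) := [
  ([(true, 0), (false, 1), (false, 0)], [5], [(false, 6), (true, 7), (false, 5), (true, 6), (false, 4), (true, 5), (false, 3), (true, 4), (false, 2), (true, 3), (false, 0), (true, 2), (true, 1), (true, 0)]),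
  ([(true, 0), (false, 2), (false, 0)], [4], [(false, 6), (true, 7), (false, 5), (true, 6), (false, 4), (true, 5), (false, 3), (true, 4), (false, 1), (true, 3), (true, 2), (false, 0), (true, 1), (true, 0)]),
  ([(true, 0), (false, 3), (false, 0)], [3], [(false, 6), (true, 7), (false, 5), (true, 6), (false, 4), (true, 5), (false, 2), (true, 4), (true, 3), (false, 1), (true, 2), (false, 0), (true, 1), (true, 0)]),
  ([(false, 0), (false, 1), (true, 0)], [6, 5, 4, 1, 3, 2, 0, 2, 3, 1, 4, 5, 6], [(true, 6), (false, 5), (false, 7), (false, 8), (false, 9), (false, 10), (false, 11), (true, 12), (false, 4), (false, 5), (false, 7), (false, 8), (false, 9), (false, 10), (true, 11), (false, 3), (false, 4), (false, 5), (false, 7), (false, 8), (false, 9), (true, 10), (false, 8), (true, 9), (false, 2), (false, 3), (false, 4), (false, 5), (false, 7), (true, 8), (false, 0), (false, 1), (false, 2), (false, 3), (false, 4), (false, 5), (true, 7), (true, 6), (true, 5), (true, 4), (false, 0), (false, 1), (false, 2), (true, 3), (true, 2), (true, 1), (true, 0)]),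
  ([(false, 0), (false, 5), (true, 0)], [3, 2, 3], [(true, 6), (true, 5), (true, 4), (false, 1), (false, 2), (true, 4), (false, 3), (false, 1), (false, 0), (false, 4), (false, 3), (false, 1), (false, 5), (false, 3), (false, 5), (true, 7), (true, 9), (true, 8), (true, 7), (true, 6), (false, 4), (true, 5), (true, 4), (false, 2), (true, 3), (true, 2), (true, 1), (true, 0)]),
  ([(false, 4), (false, 6), (false, 4)], [2], [(true, 0), (true, 1), (true, 0)]),
  ([(true, 0), (false, 7), (false, 0)], [0], [(false, 4), (false, 5), (true, 7), (false, 4), (false, 5), (true, 6), (true, 5), (false, 3), (true, 4), (false, 2), (true, 3), (false, 1), (true, 2), (false, 0), (true, 1), (true, 0)]),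
  ([(false, 1), (false, 2), (false, 1)], [6, 5, 6], [(true, 2), (true, 1), (true, 0)]),
  ([(false, 0), (false, 6), (true, 0)], [4, 3, 1, 3, 4], [(false, 6), (false, 7), (false, 8), (true, 9), (false, 5), (false, 6), (false, 7), (true, 8), (false, 3), (false, 2), (false, 5), (false, 3), (false, 5), (true, 7), (true, 6), (false, 4), (true, 5), (false, 0), (false, 1), (false, 2), (false, 3), (false, 4), (true, 5), (false, 3), (true, 4), (false, 0), (false, 1), (true, 3), (true, 2), (true, 1), (true, 0)]),
  ([(false, 9), (false, 10), (false, 9)], [6, 5, 4, 3, 1, 3, 4, 5, 6], [(false, 2), (false, 3), (false, 4), (false, 5), (false, 6), (true, 7), (true, 8), (true, 7), (true, 6), (true, 5), (true, 4), (true, 3), (true, 2), (true, 1), (true, 0)]),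
  ([(false, 0), (false, 11), (true, 0)], [1], [(true, 6), (true, 5), (true, 4), (true, 3), (false, 1), (true, 2), (true, 5), (true, 4), (true, 3), (true, 2), (true, 1), (false, 0), (true, 1), (true, 0)])]
/-- generation certificate for E8 -/
def stepsE8 : List (Step 8) := [
  ([(false, 0), (false, 1), (true, 0)], [4], [(false, 7), (true, 8), (false, 6), (true, 7), (false, 5), (true, 6), (false, 3), (true, 5), (true, 4), (false, 2), (true, 3), (false, 1), (true, 2), (false, 0), (true, 1), (true, 0)]),
  ([(false, 0), (false, 2), (true, 0)], [5], [(false, 7), (true, 8), (false, 6), (true, 7), (false, 4), (true, 6), (true, 5), (false, 3), (true, 4), (false, 2), (true, 3), (false, 1), (true, 2), (false, 0), (true, 1), (true, 0)]),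
  ([(false, 0), (false, 3), (true, 0)], [6], [(false, 7), (true, 8), (false, 5), (true, 7), (true, 6), (false, 4), (true, 5), (false, 3), (true, 4), (false, 2), (true, 3), (false, 1), (true, 2), (false, 0), (true, 1), (true, 0)]),
  ([(false, 0), (false, 4), (true, 0)], [7], [(false, 6), (true, 8), (true, 7), (false, 5), (true, 6), (false, 4), (true, 5), (false, 3), (true, 4), (false, 2), (true, 3), (false, 1), (true, 2), (false, 0), (true, 1), (true, 0)]),
  ([(false, 0), (false, 5), (true, 0)], [7, 6, 5, 4, 1, 3, 2, 0, 2, 3, 1, 4, 5, 6, 7], [(true, 7), (false, 6), (false, 8), (false, 9), (false, 10), (false, 11), (false, 12), (false, 13), (true, 14), (false, 5), (false, 6), (false, 8), (false, 9), (false, 10), (false, 11), (false, 12), (true, 13), (false, 4), (false, 5), (false, 6), (false, 8), (false, 9), (false, 10), (false, 11), (true, 12), (false, 3), (false, 4), (false, 5), (false, 6), (false, 8), (false, 9), (false, 10), (true, 11), (false, 9), (true, 10), (false, 2), (false, 3), (false, 4), (false, 5), (false, 6), (false, 8), (true, 9), (false,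 0), (false, 1), (false, 2), (false, 3), (false, 4), (false, 5), (false, 6), (true, 8), (true, 7), (true, 6), (true, 5), (false, 0), (false, 1), (false, 2), (false, 3), (true, 4), (true, 3), (true, 2), (true, 1), (true, 0)]),
  ([(false, 0), (false, 6), (true, 0)], [3, 2, 3], [(true, 7), (true, 6), (true, 5), (true, 4), (false, 1), (false, 2), (true, 4), (false, 3), (false, 1), (false, 0), (false, 4), (false, 3), (false, 1), (false, 5), (false, 3), (false, 5), (true, 7), (true, 10), (true, 9), (true, 8), (true, 7), (true, 6), (false, 4), (true, 5), (true, 4), (false, 2), (true, 3), (true, 2), (true, 1), (true, 0)]),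
  ([(false, 1), (false, 7), (false, 1)], [2], [(true, 0), (true, 1), (true, 0)]),
  ([(true, 0), (false, 8), (false, 0)], [0], [(false, 5), (false, 6), (true, 8), (false, 5), (false, 6), (true, 7), (true, 6), (false, 4), (true, 5), (false, 3), (true, 4), (false, 2), (true, 3), (false, 1), (true, 2), (false, 0), (true, 1), (true, 0)]),
  ([(false, 0), (false, 8), (true, 0)], [3, 1, 3], [(false, 7), (true, 8), (false, 6), (true, 7), (false, 5), (true, 6), (false, 4), (true, 5), (false, 2), (true, 4), (true, 3), (false, 0), (false, 1), (false, 2), (true, 3), (false, 0), (true, 2), (true, 1), (true, 0)]),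
  ([(false, 1), (false, 10), (false, 1)], [1], [(true, 0), (true, 1), (true, 0)])]


/-- The Coxeter groups of types B₂, G₂, E₆, E₇, E₈ are generated by the Coxeter element `s₁ s₂ ⋯ s_l` together with one suitable reflection (a conjugate of a simple reflection); for types D₄ and F₄ the Coxeter element together with two suitable reflections suffices. -/
theorem result (c : (Σ n : ℕ, CoxeterMatrix (Fin n)) × ℕ)
    (hc : c ∈ [(⟨2, CoxeterMatrix.B 2⟩, 1), (⟨2, CoxeterMatrix.G₂⟩, 1), (⟨4, Cfsg.Lie.coxeterD4⟩, 2), (⟨4, CoxeterMatrix.F₄⟩, 2),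
      (⟨6, CoxeterMatrix.E₆⟩, 1), (⟨7, CoxeterMatrix.E₇⟩, 1), (⟨8, CoxeterMatrix.E₈⟩, 1)]) :
    ∃ T : Finset c.1.2.Group, T.card = c.2 ∧ (∀ t ∈ T, ∃ (g : c.1.2.Group) (i : Fin c.1.1), t = g * c.1.2.simple i * g⁻¹) ∧
      Subgroup.closure (({((List.finRange c.1.1).map c.1.2.simple).prod} : Set c.1.2.Group) ∪ ↑T) = ⊤ := by
  simp only [List.mem_cons, List.mem_nil_iff, or_false] at hc
  rcases hc with rfl | rfl | rfl | rfl | rfl | rfl | rfl
  · exact gen_rank_two _
  · exact gen_rank_two _
  · exact gen_two Cfsg.Lie.coxeterD4 [0, 1, 2, 3] (by decide) 0 2 d4_simple_ne stepsD4 (by decide +kernel)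
  · exact gen_two CoxeterMatrix.F₄ [0, 1, 2, 3] (by decide) 0 3 f4_simple_ne stepsF4 (by decide +kernel)
  · exact gen_one CoxeterMatrix.E₆ [0, 1, 2, 3, 4, 5] (by decide) 5 stepsE6 (by decide +kernel)
  · exact gen_one CoxeterMatrix.E₇ [0, 1, 2, 3, 4, 5, 6] (by decide) 6 stepsE7 (by decide +kernel)
  · exact gen_one CoxeterMatrix.E₈ [0, 1, 2, 3, 4, 5, 6, 7] (by decide) 3 stepsE8 (by decide +kernel)

end Cfsg.Agent.S2419
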