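import Cfsg.Statements.S2425
import Cfsg.Agent.Helper42.StMainC

set_option autoImplicit false
open scoped MatrixGroups
open Cfsg

namespace Cfsg.Agent.S2425

/-- the degenerate case `n = 0` -/
theorem zero_case {F : Type*} [Field F] [DecidableEq F] (q : ℕ) (x : GL (Fin 0) F) :
    Cfsg.unipotentCharacterGL 0 F (fun _ => 1) x =
      ∏ f ∈ (UniqueFactorizationMonoid.normalizedFactors (x : Matrix (Fin 0) (Fin 0) F).charpoly).toFinset,
        (-1 : ℂ) ^ ((f.natDegree - 1) * (UniqueFactorizationMonoid.normalizedFactors (x : Matrix (Fin 0) (Fin 0) F).charpoly).count f) *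
          (q : ℂ) ^ (f.natDegree * (UniqueFactorizationMonoid.normalizedFactors (x : Matrix (Fin 0) (Fin 0) F).charpoly).count f *
            ((UniqueFactorizationMonoid.normalizedFactors (x : Matrix (Fin 0) (Fin 0) F).charpoly).count f - 1) / 2) := by
  have h1 : (x : Matrix (Fin 0) (Fin 0) F).charpoly = 1 := by
    refine Polynomial.eq_one_of_monic_natDegree_zero (Matrix.charpoly_monic _) ?_
    rw [Matrix.charpoly_natDegree_eq_dim, Fintype.card_fin]
  rw [h1, UniqueFactorizationMonoid.normalizedFactors_one, Multiset.toFinset_zero, Finset.prod_empty]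
  unfold Cfsg.unipotentCharacterGL
  rw [Fintype.sum_unique, if_pos (fun i => Fin.elim0 i)]
  have h2 : Equiv.Perm.sign (default : Equiv.Perm (Fin 0)) = 1 := by
    rw [Subsingleton.elim (default : Equiv.Perm (Fin 0)) 1, Equiv.Perm.sign_one]
  rw [h2]
  unfold Cfsg.fixedPointCharacter
  have h3 : Nat.card (MulAction.fixedBy
      (GL (Fin 0) F ⧸ Cfsg.parabolicGL 0 F fun i => (fun _ => 1) i + i.val - ((default : Equiv.Perm (Fin 0)) i).val) x) = 1 := by
    rw [Nat.card_eq_one_iff_unique]
    refine ⟨⟨fun a b => ?_⟩, ⟨⟨((1 : GL (Fin 0) F) : GL (Fin 0) F ⧸ _), ?_⟩⟩⟩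
    · apply Subtype.ext
      obtain ⟨a, _⟩ := a
      obtain ⟨b, _⟩ := b
      induction a using QuotientGroup.induction_on with | _ g => ?_
      induction b using QuotientGroup.induction_on with | _ h => ?_
      have hgh : g = h := Subsingleton.elim g h
      subst hgh
      rfl
    · rw [MulAction.mem_fixedBy]
      exact congrArg _ (Subsingleton.elim (x • (1 : GL (Fin 0) F)) 1)
  rw [h3]
  simp

/-- Values of the Steinberg character of `GL_n(q)` (the partition-indexed character for `ν = (1,…,1)`, of degree `q^(n(n−1)/2)`) at elements of order prime to the characteristic: if the characteristic polynomial of such an element is `∏ f^(m_f)` over distinct monic irreducible `f`, the value is `∏_f (−1)^((deg f − 1) m_f) q^(deg f · m_f (m_f − 1)/2)`. (At elements of order divisible by the characteristic the value is 0; that is not part of this statement.) -/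
theorem result {F : Type*} [Field F] [Fintype F] [DecidableEq F] {q : ℕ} (hq : Fintype.card F = q) (p : ℕ) [Fact p.Prime] [CharP F p]
    {n : ℕ} (x : GL (Fin n) F) (hx : (orderOf x).Coprime p) :
    Cfsg.unipotentCharacterGL n F (fun _ => 1) x =
      ∏ f ∈ (UniqueFactorizationMonoid.normalizedFactors (x : Matrix (Fin n) (Fin n) F).charpoly).toFinset,
        (-1 : ℂ) ^ ((f.natDegree - 1) * (UniqueFactorizationMonoid.normalizedFactors (x : Matrix (Fin n) (Fin n) F).charpoly).count f) *
          (q : ℂ) ^ (f.natDegree * (UniqueFactorizationMonoid.normalizedFactors (x : Matrix (Fin n) (Fin n) F).charpoly).count f *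
            ((UniqueFactorizationMonoid.normalizedFactors (x : Matrix (Fin n) (Fin n) F).charpoly).count f - 1) / 2) := by
  rcases Nat.eq_zero_or_pos n with hn | hn
  · subst hn
    exact zero_case q x
  · subst hq
    exact Cfsg.Agent.Helper42.StVal.steinberg_value_pos p hn x hx

end Cfsg.Agent.S2425
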