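-- Statement S2428: the split torus of SL₂(q), q odd, and its normalizer.
import Cfsg.Statements.S2428
import Cfsg.Agent.Helper41.SL2Torus

set_option autoImplicit false
open Cfsg

namespace Cfsg.Agent.S2428

open Matrix Cfsg.Agent.Helper41

variable {F : Type*} [Field F]

local notation "SL2F" => Matrix.SpecialLinearGroup (Fin 2) F
local notation "M2F" => Matrix (Fin 2) (Fin 2) F

/-- The centralizer of a regular diagonal element is the diagonal subgroup. -/
theorem mem_centralizer_diag_iff (d : SL2F) (hd01 : (d : M2F) 0 1 = 0) (hd10 : (d : M2F) 1 0 = 0)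
    (hda : (d : M2F) 0 0 ^ 2 ≠ 1) (g : SL2F) :
    g ∈ Subgroup.centralizer ({d} : Set SL2F) ↔ ((g : M2F) 0 1 = 0 ∧ (g : M2F) 1 0 = 0) := by
  have hdet := sl2_det d
  rw [hd01, zero_mul, sub_zero] at hdet
  have hne : (d : M2F) 0 0 - (d : M2F) 1 1 ≠ 0 := by
    intro h
    apply hda
    have : (d : M2F) 1 1 = (d : M2F) 0 0 := by linear_combination -h
    rw [this] at hdet
    linear_combination hdet
  rw [sl2_mem_centralizer_singleton_iff]
  constructor
  · intro h
    have e01 := congr_fun (congr_fun h 0) 1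
    have e10 := congr_fun (congr_fun h 1) 0
    simp only [Matrix.mul_apply, Fin.sum_univ_two, hd01, hd10, mul_zero, zero_mul, zero_add,
      add_zero] at e01 e10
    constructor
    · have : (g : M2F) 0 1 * ((d : M2F) 0 0 - (d : M2F) 1 1) = 0 := by linear_combination -e01
      rcases mul_eq_zero.mp this with h | h
      · exact h
      · exact absurd h hne
    · have : (g : M2F) 1 0 * ((d : M2F) 0 0 - (d : M2F) 1 1) = 0 := by linear_combination e10
      rcases mul_eq_zero.mp this with h | h
      · exact h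
      · exact absurd h hne
  · rintro ⟨h01, h10⟩
    ext i j
    fin_cases i <;> fin_cases j <;>
      simp [Matrix.mul_apply, Fin.sum_univ_two, hd01, hd10, h01, h10, mul_comm]

theorem card_centralizer_diag [Fintype F] (d : SL2F) (hd01 : (d : M2F) 0 1 = 0)
    (hd10 : (d : M2F) 1 0 = 0) (hda : (d : M2F) 0 0 ^ 2 ≠ 1) :
    Nat.card (Subgroup.centralizer ({d} : Set SL2F)) = Fintype.card F - 1 := by
  classical
  rw [← Fintype.card_units, ← Nat.card_eq_fintype_card]
  symm
  apply Nat.card_congr
  refine Equiv.ofBijective (fun a : Fˣ => ⟨sl2Diag a, ?_⟩) ⟨?_, ?_⟩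
  · rw [mem_centralizer_diag_iff d hd01 hd10 hda]
    simp [sl2Diag]
  · intro a b h
    have h1 := congrArg (fun x : Subgroup.centralizer ({d} : Set SL2F) => ((x : SL2F) : M2F) 0 0) h
    simp [sl2Diag] at h1
    exact Units.ext h1
  · rintro ⟨g, hg⟩
    rw [mem_centralizer_diag_iff d hd01 hd10 hda] at hg
    have hdet := sl2_det g
    rw [hg.1, zero_mul, sub_zero] at hdet
    refine ⟨⟨(g : M2F) 0 0, (g : M2F) 1 1, hdet, by rw [mul_comm]; exact hdet⟩, ?_⟩
    apply Subtype.ext
    apply Subtype.ext
    ext i j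
    fin_cases i <;> fin_cases j
    · simp [sl2Diag]
    · simp [sl2Diag, hg.1]
    · simp [sl2Diag, hg.2]
    · simp [sl2Diag]

/-- Let F be a finite field with q elements, q odd, and let d be a diagonal element of SL₂ over F whose diagonal entry a has a² ≠ 1 (such d exist exactly when q > 3). Then the centraliser of d is precisely the diagonal subgroup T; the normaliser of T has order 2(q − 1) and exactly (q + 5)/2 conjugacy classes; and every element of that normaliser outside T has square equal to −1. -/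
theorem result {F : Type*} [Field F] [Fintype F] (hodd : Odd (Fintype.card F))
    (d : Matrix.SpecialLinearGroup (Fin 2) F) (hd01 : (d : Matrix (Fin 2) (Fin 2) F) 0 1 = 0) (hd10 : (d : Matrix (Fin 2) (Fin 2) F) 1 0 = 0) (hda : (d : Matrix (Fin 2) (Fin 2) F) 0 0 ^ 2 ≠ 1) :
    (∀ g : Matrix.SpecialLinearGroup (Fin 2) F, g ∈ Subgroup.centralizer ({d} : Set (Matrix.SpecialLinearGroup (Fin 2) F)) ↔ ((g : Matrix (Fin 2) (Fin 2) F) 0 1 = 0 ∧ (g : Matrix (Fin 2) (Fin 2) F) 1 0 = 0)) ∧
    Nat.card (Subgroup.normalizer ((Subgroup.centralizer ({d} : Set (Matrix.SpecialLinearGroup (Fin 2) F))) : Set (Matrix.SpecialLinearGroup (Fin 2) F))) = 2 * (Fintype.card F - 1) ∧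
    Nat.card (ConjClasses (Subgroup.normalizer ((Subgroup.centralizer ({d} : Set (Matrix.SpecialLinearGroup (Fin 2) F))) : Set (Matrix.SpecialLinearGroup (Fin 2) F)))) = (Fintype.card F + 5) / 2 ∧
    ∀ g : Matrix.SpecialLinearGroup (Fin 2) F, g ∈ Subgroup.normalizer ((Subgroup.centralizer ({d} : Set (Matrix.SpecialLinearGroup (Fin 2) F))) : Set (Matrix.SpecialLinearGroup (Fin 2) F)) →
      g ∉ Subgroup.centralizer ({d} : Set (Matrix.SpecialLinearGroup (Fin 2) F)) → ((g * g) : Matrix (Fin 2) (Fin 2) F) = -1 := by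
  have hodd' : Fintype.card F % 2 = 1 := Nat.odd_iff.mp hodd
  have h2 : (2 : F) ≠ 0 := by
    intro h
    have hchar : ringChar F = 2 := by
      have : ((2 : ℕ) : F) = 0 := by exact_mod_cast h
      have hdvd := (ringChar.spec F 2).mp this
      have hp := CharP.char_is_prime F (ringChar F)
      exact (Nat.prime_dvd_prime_iff_eq hp Nat.prime_two).mp hdvd
    have := FiniteField.even_card_of_char_two hchar
    omega
  have hdet := sl2_det d
  rw [hd01, zero_mul, sub_zero] at hdet
  have ht : (Matrix.trace (d : Matrix (Fin 2) (Fin 2) F)) ^ 2 ≠ 4 := by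
    rw [Matrix.trace_fin_two]
    intro h
    apply hda
    have h3 : ((d : Matrix (Fin 2) (Fin 2) F) 0 0 - (d : Matrix (Fin 2) (Fin 2) F) 1 1) ^ 2 = 0 := by
      linear_combination h - 4 * hdet
    have h4 : (d : Matrix (Fin 2) (Fin 2) F) 1 1 = (d : Matrix (Fin 2) (Fin 2) F) 0 0 := by
      have := pow_eq_zero_iff (two_ne_zero) |>.mp h3
      linear_combination -this
    rw [h4] at hdet
    linear_combination hdet
  have hA := not_scalar_of_trace_sq_ne_four (d : Matrix (Fin 2) (Fin 2) F) d.det_coe ht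
  obtain ⟨w, hw⟩ := sl2_exists_conj_eq_inv hodd' h2 d ht
  have hcardT := card_centralizer_diag d hd01 hd10 hda
  have hq : 1 < Fintype.card F := Fintype.one_lt_card
  refine ⟨mem_centralizer_diag_iff d hd01 hd10 hda, ?_, ?_, ?_⟩
  · rw [sl2_card_normalizer_centralizer h2 d w ht hw, hcardT]
  · have := sl2_card_conjClasses_normalizer_centralizer h2 d w ht hw
    rw [hcardT] at this
    omega
  · intro g hgN hgT
    rcases (sl2_mem_normalizer_centralizer_iff h2 d g ht).mp hgN with h | h
    · exact absurd h hgT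
    · exact sl2_mul_self_eq_neg_one_of_conj_eq_inv h2 d g hA h

end Cfsg.Agent.S2428
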