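-- Statement S2430: centralizers and normalizers of Sylow ℓ-subgroups (ℓ odd) of SL₂(q), q odd.
import Cfsg.Statements.S2430
import Cfsg.Agent.Helper41.SL2Torus
import Cfsg.Agent.Helper42.SL2Torus
import Cfsg.Agent.Helper42.SL2OddCount
import Cfsg.Agent.Helper5.ProjLine
import Cfsg.Agent.S2428
import Cfsg.Agent.S2429

set_option autoImplicit false
open Cfsg

namespace Cfsg.Agent.S2430

open Matrix Cfsg.Agent.Helper41 Cfsg.Agent.Helper42

section General

variable {G : Type*} [Group G]

/-- The `ℓ`-primary part of an abelian subgroup. -/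
def lPart (ℓ : ℕ) (T : Subgroup G) (hT : ∀ a ∈ T, ∀ b ∈ T, a * b = b * a) : Subgroup G where
  carrier := {x | x ∈ T ∧ ∃ n : ℕ, x ^ (ℓ ^ n) = 1}
  mul_mem' := by
    rintro a b ⟨haT, n, hn⟩ ⟨hbT, m, hm⟩
    refine ⟨T.mul_mem haT hbT, n + m, ?_⟩
    have hc : Commute a b := hT a haT b hbT
    rw [hc.mul_pow, pow_add, pow_mul, hn, one_pow, mul_comm (ℓ ^ n), pow_mul, hm, one_pow, one_mul]
  one_mem' := ⟨T.one_mem, 0, by simp⟩
  inv_mem' := by
    rintro a ⟨haT, n, hn⟩
    exact ⟨T.inv_mem haT, n, by rw [inv_pow, hn, inv_one]⟩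

theorem mem_lPart (ℓ : ℕ) (T : Subgroup G) (hT : ∀ a ∈ T, ∀ b ∈ T, a * b = b * a) (x : G) :
    x ∈ lPart ℓ T hT ↔ x ∈ T ∧ ∃ n : ℕ, x ^ (ℓ ^ n) = 1 := Iff.rfl

theorem isPGroup_lPart (ℓ : ℕ) (T : Subgroup G) (hT : ∀ a ∈ T, ∀ b ∈ T, a * b = b * a) :
    IsPGroup ℓ (lPart ℓ T hT) := by
  rintro ⟨x, hxT, n, hn⟩
  refine ⟨n, ?_⟩
  apply Subtype.ext
  simpa using hn

theorem le_lPart (ℓ : ℕ) (T : Subgroup G) (hT : ∀ a ∈ T, ∀ b ∈ T, a * b = b * a)
    (Q : Subgroup G) (hQ : IsPGroup ℓ Q) (hQT : Q ≤ T) : Q ≤ lPart ℓ T hT := by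
  intro x hx
  obtain ⟨n, hn⟩ := hQ ⟨x, hx⟩
  refine ⟨hQT hx, n, ?_⟩
  have := congrArg Subtype.val hn
  simpa using this

/-- The normalizer of an abelian subgroup normalizes any Sylow subgroup of the ambient group
contained in it. -/
theorem normalizer_le_normalizer_of_sylow_le (ℓ : ℕ) [Fact ℓ.Prime] (P : Sylow ℓ G)
    (T : Subgroup G) (hT : ∀ a ∈ T, ∀ b ∈ T, a * b = b * a) (hPT : (P : Subgroup G) ≤ T) :
    Subgroup.normalizer (T : Set G) ≤ Subgroup.normalizer ((P : Subgroup G) : Set G) := by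
  have hPeq : lPart ℓ T hT = (P : Subgroup G) :=
    P.is_maximal' (isPGroup_lPart ℓ T hT) (le_lPart ℓ T hT _ P.isPGroup' hPT)
  intro g hg
  rw [Subgroup.mem_normalizer_iff] at hg ⊢
  intro x
  rw [← hPeq, mem_lPart, mem_lPart, ← hg x]
  apply and_congr_right
  intro _
  apply exists_congr
  intro n
  rw [conj_pow]
  constructor
  · intro h; rw [h]; group
  · intro h
    have : x ^ ℓ ^ n = g⁻¹ * (g * x ^ ℓ ^ n * g⁻¹) * g := by group
    rw [this, h]; group

/-- The normalizer of a subgroup normalizes its centralizer. -/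
theorem normalizer_le_normalizer_centralizer (P : Subgroup G) :
    Subgroup.normalizer (P : Set G) ≤
      Subgroup.normalizer ((Subgroup.centralizer (P : Set G) : Subgroup G) : Set G) := by
  have key : ∀ g : G, g ∈ Subgroup.normalizer (P : Set G) → ∀ y : G,
      y ∈ Subgroup.centralizer (P : Set G) → g * y * g⁻¹ ∈ Subgroup.centralizer (P : Set G) := by
    intro g hg y hy
    rw [Subgroup.mem_normalizer_iff] at hg
    rw [Subgroup.mem_centralizer_iff] at hy ⊢
    intro x hx
    have hx' : g⁻¹ * x * g ∈ P := by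
      rw [hg]
      have : g * (g⁻¹ * x * g) * g⁻¹ = x := by group
      rw [this]; exact hx
    have := hy _ hx'
    calc x * (g * y * g⁻¹) = g * ((g⁻¹ * x * g) * y) * g⁻¹ := by group
      _ = g * (y * (g⁻¹ * x * g)) * g⁻¹ := by rw [this]
      _ = g * y * g⁻¹ * x := by group
  intro g hg
  rw [Subgroup.mem_normalizer_iff]
  intro y
  constructor
  · exact key g hg y
  · intro h
    have := key g⁻¹ (Subgroup.inv_mem _ hg) _ h
    have e : g⁻¹ * (g * y * g⁻¹) * g⁻¹⁻¹ = y := by group
    rwa [e] at this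


end General

variable {F : Type*} [Field F]

local notation "SL2F" => Matrix.SpecialLinearGroup (Fin 2) F
local notation "M2F" => Matrix (Fin 2) (Fin 2) F

/-- A non-trivial element of odd prime power order prime to the characteristic is regular
semisimple. -/
theorem trace_sq_ne_four_of_pow_eq_one [Fintype F] (ℓ : ℕ) [Fact ℓ.Prime] (hℓ : ℓ ≠ 2)
    (hℓq : ¬ ℓ ∣ Fintype.card F) (h : SL2F) (h1 : h ≠ 1) (k : ℕ) (hk : h ^ (ℓ ^ k) = 1) :
    (Matrix.trace (h : M2F)) ^ 2 ≠ 4 := by
  intro ht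
  obtain ⟨p, hp⟩ := CharP.exists F
  have hpp : p.Prime := by
    rcases CharP.char_is_prime_or_zero F p with h | h
    · exact h
    · exfalso
      subst h
      have : CharZero F := CharP.charP_to_charZero F
      exact not_finite F
  have : Fact p.Prime := ⟨hpp⟩
  have hc := sl2_pow_char_mem_center p h ht
  rw [sl2_mem_center_iff] at hc
  obtain ⟨r, hr, hhr⟩ := hc
  have h2p : h ^ (p * 2) = 1 := by
    rw [pow_mul]
    apply Subtype.ext
    rw [pow_two, Matrix.SpecialLinearGroup.coe_mul, hhr, ← map_mul, ← pow_two, hr]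
    simp
  have hd1 := orderOf_dvd_of_pow_eq_one h2p
  have hd2 := orderOf_dvd_of_pow_eq_one hk
  have hℓp : ℓ ≠ p := by
    rintro rfl
    apply hℓq
    obtain ⟨n, -, hn⟩ := FiniteField.card F ℓ
    rw [hn]
    exact dvd_pow_self ℓ n.ne_zero
  have hcop : Nat.Coprime (p * 2) (ℓ ^ k) := by
    apply Nat.Coprime.pow_right
    apply Nat.Coprime.mul_left
    · exact (Nat.coprime_primes hpp Fact.out).mpr hℓp.symm
    · exact (Nat.coprime_primes Nat.prime_two Fact.out).mpr hℓ.symm
  have := Nat.eq_one_of_dvd_coprimes hcop hd1 hd2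
  exact h1 (orderOf_eq_one_iff.mp this)

theorem key [Fintype F] (_h2 : (2 : F) ≠ 0) (ℓ : ℕ) [Fact ℓ.Prime] (hℓ : ℓ ≠ 2)
    (hℓq : ¬ ℓ ∣ Fintype.card F) (P : Sylow ℓ SL2F) (hP : (P : Subgroup SL2F) ≠ ⊥) :
    ∃ h : SL2F, (Matrix.trace (h : M2F)) ^ 2 ≠ 4 ∧
      Subgroup.centralizer ((P : Subgroup SL2F) : Set SL2F) = Subgroup.centralizer ({h} : Set SL2F) ∧
      Subgroup.normalizer ((P : Subgroup SL2F) : Set SL2F) =
        Subgroup.normalizer ((Subgroup.centralizer ({h} : Set SL2F) : Subgroup SL2F) : Set SL2F) ∧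
      ℓ ∣ Nat.card (Subgroup.centralizer ({h} : Set SL2F)) := by
  classical
  have hfin : Finite SL2F := inferInstance
  have hnt : Nontrivial (P : Subgroup SL2F) := (Subgroup.nontrivial_iff_ne_bot _).mpr hP
  have hcen := IsPGroup.center_nontrivial P.isPGroup'
  obtain ⟨⟨⟨h, hhP⟩, hz⟩, hz1⟩ := exists_ne (1 : Subgroup.center (P : Subgroup SL2F))
  have hh1 : h ≠ 1 := by
    rintro rfl
    exact hz1 rfl
  have hcomm : ∀ x ∈ (P : Subgroup SL2F), x * h = h * x := by
    intro x hx
    rw [Subgroup.mem_center_iff] at hz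
    have := hz ⟨x, hx⟩
    exact congrArg Subtype.val this
  obtain ⟨k, hk⟩ := P.isPGroup' ⟨h, hhP⟩
  have hk' : h ^ (ℓ ^ k) = 1 := by
    have := congrArg Subtype.val hk
    simpa using this
  have ht := trace_sq_ne_four_of_pow_eq_one ℓ hℓ hℓq h hh1 k hk'
  have hA := not_scalar_of_trace_sq_ne_four (h : M2F) h.det_coe ht
  have hPT : (P : Subgroup SL2F) ≤ Subgroup.centralizer ({h} : Set SL2F) := by
    intro x hx
    rw [Subgroup.mem_centralizer_singleton_iff]
    exact hcomm x hx
  have hTcomm : ∀ a ∈ Subgroup.centralizer ({h} : Set SL2F),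
      ∀ b ∈ Subgroup.centralizer ({h} : Set SL2F), a * b = b * a :=
    fun a ha b hb => sl2_centralizer_comm h a b hA ha hb
  have hC : Subgroup.centralizer ((P : Subgroup SL2F) : Set SL2F) =
      Subgroup.centralizer ({h} : Set SL2F) := by
    ext g
    constructor
    · intro hg
      rw [Subgroup.mem_centralizer_iff] at hg
      rw [Subgroup.mem_centralizer_singleton_iff]
      exact (hg h hhP).symm
    · intro hg
      rw [Subgroup.mem_centralizer_iff]
      intro x hx
      exact hTcomm x (hPT hx) g hg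
  refine ⟨h, ht, hC, ?_, ?_⟩
  · apply le_antisymm
    · rw [← hC]
      exact normalizer_le_normalizer_centralizer _
    · exact normalizer_le_normalizer_of_sylow_le ℓ P _ hTcomm hPT
  · have h1 : ℓ ∣ Nat.card (P : Subgroup SL2F) := by
      rcases P.isPGroup'.card_eq_or_dvd with h | h
      · exfalso
        have := Finite.one_lt_card_iff_nontrivial.mpr hnt
        omega
      · exact h
    exact h1.trans (Subgroup.card_dvd_of_le hPT)

theorem sl2Diag_trace (a : Fˣ) : Matrix.trace ((sl2Diag a : SL2F) : M2F) = (a : F) + ((a⁻¹ : Fˣ) : F) := by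
  rw [Matrix.trace_fin_two]
  simp [sl2Diag]

/-- The centralizer of a split regular semisimple element of `SL₂(q)` is cyclic. -/
theorem isCyclic_centralizer_of_root [Fintype F] (hodd : Fintype.card F % 2 = 1) (h2 : (2 : F) ≠ 0)
    (h : SL2F) (ht : (Matrix.trace (h : M2F)) ^ 2 ≠ 4) (l : F)
    (hl : l ^ 2 - Matrix.trace (h : M2F) * l + 1 = 0) :
    IsCyclic (Subgroup.centralizer ({h} : Set SL2F)) := by
  classical
  set t := Matrix.trace (h : M2F) with htdef
  have hl0 : l ≠ 0 := by
    rintro rfl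
    simp at hl
  obtain ⟨a, ha⟩ : ∃ a : Fˣ, (a : F) = l := ⟨Units.mk0 l hl0, rfl⟩
  have hainv : ((a⁻¹ : Fˣ) : F) = t - l := by
    rw [Units.val_inv_eq_inv_val, ha]
    have : l * (t - l) = 1 := by linear_combination -hl
    exact inv_eq_of_mul_eq_one_right this
  have hdtr : Matrix.trace ((sl2Diag a : SL2F) : M2F) = t := by
    rw [sl2Diag_trace, hainv, ha]; ring
  have hda : ((sl2Diag a : SL2F) : M2F) 0 0 ^ 2 ≠ 1 := by
    have : ((sl2Diag a : SL2F) : M2F) 0 0 = l := by simp [sl2Diag, ha]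
    rw [this]
    intro h1
    apply ht
    have : t * l = 2 := by linear_combination -hl + h1
    have h3 : t = 2 * l := by
      have : t * (l ^ 2) = 2 * l := by linear_combination l * this
      rw [h1, mul_one] at this
      exact this
    rw [h3]
    linear_combination 4 * h1
  have hd01 : ((sl2Diag a : SL2F) : M2F) 0 1 = 0 := by simp [sl2Diag]
  have hd10 : ((sl2Diag a : SL2F) : M2F) 1 0 = 0 := by simp [sl2Diag]
  have hhns := not_scalar_of_trace_sq_ne_four (h : M2F) h.det_coe ht
  have hdns := not_scalar_of_trace_sq_ne_four ((sl2Diag a : SL2F) : M2F) (sl2Diag a).det_coe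
    (by rw [hdtr]; exact ht)
  obtain ⟨S, hS, hSh⟩ := exists_sl2_conj_of_trace_eq (h : M2F) ((sl2Diag a : SL2F) : M2F) h.det_coe
    (sl2Diag a).det_coe hdtr hhns hdns (fun e _ => normForm_surjective_of_odd hodd h2 _ ht e)
  obtain ⟨w, hw⟩ : ∃ w : SL2F, (w : M2F) = S := ⟨⟨S, hS⟩, rfl⟩
  have hwh : w * h * w⁻¹ = sl2Diag a := by
    rw [mul_inv_eq_iff_eq_mul]
    apply Subtype.ext
    rw [Matrix.SpecialLinearGroup.coe_mul, Matrix.SpecialLinearGroup.coe_mul, hw]
    exact hSh
  have hh : h = w⁻¹ * sl2Diag a * w := by rw [← hwh]; group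
  -- the surjection Fˣ → C(h)
  have hmem : ∀ b : Fˣ, w⁻¹ * sl2Diag b * w ∈ Subgroup.centralizer ({h} : Set SL2F) := by
    intro b
    rw [Subgroup.mem_centralizer_singleton_iff, hh]
    have hc : sl2Diag a * sl2Diag b = sl2Diag b * sl2Diag a := by
      rw [sl2Diag_mul, sl2Diag_mul, mul_comm]
    symm
    calc w⁻¹ * sl2Diag a * w * (w⁻¹ * sl2Diag b * w) = w⁻¹ * (sl2Diag a * sl2Diag b) * w := by group
      _ = w⁻¹ * (sl2Diag b * sl2Diag a) * w := by rw [hc]
      _ = w⁻¹ * sl2Diag b * w * (w⁻¹ * sl2Diag a * w) := by group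
  let φ : Fˣ →* Subgroup.centralizer ({h} : Set SL2F) :=
    { toFun := fun b => ⟨w⁻¹ * sl2Diag b * w, hmem b⟩
      map_one' := by
        apply Subtype.ext
        simp [sl2Diag_one]
      map_mul' := by
        intro b c
        apply Subtype.ext
        simp only [Subgroup.coe_mul]
        rw [← sl2Diag_mul]
        group }
  apply isCyclic_of_surjective φ
  rintro ⟨x, hx⟩
  have hy : w * x * w⁻¹ ∈ Subgroup.centralizer ({sl2Diag a} : Set SL2F) := by
    rw [Subgroup.mem_centralizer_singleton_iff] at hx ⊢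
    rw [← hwh]
    symm
    calc w * h * w⁻¹ * (w * x * w⁻¹) = w * (h * x) * w⁻¹ := by group
      _ = w * (x * h) * w⁻¹ := by rw [hx]
      _ = w * x * w⁻¹ * (w * h * w⁻¹) := by group
  rw [Cfsg.Agent.S2428.mem_centralizer_diag_iff (sl2Diag a) hd01 hd10 hda] at hy
  have hdet := sl2_det (w * x * w⁻¹)
  rw [hy.1, zero_mul, sub_zero] at hdet
  refine ⟨⟨((w * x * w⁻¹ : SL2F) : M2F) 0 0, ((w * x * w⁻¹ : SL2F) : M2F) 1 1, hdet,
    by rw [mul_comm]; exact hdet⟩, ?_⟩
  apply Subtype.ext
  show w⁻¹ * sl2Diag _ * w = x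
  have : sl2Diag ⟨((w * x * w⁻¹ : SL2F) : M2F) 0 0, ((w * x * w⁻¹ : SL2F) : M2F) 1 1, hdet,
      by rw [mul_comm]; exact hdet⟩ = w * x * w⁻¹ := by
    apply Subtype.ext
    ext i j
    fin_cases i <;> fin_cases j
    · simp [sl2Diag]
    · simp [sl2Diag, hy.1]
    · simp [sl2Diag, hy.2]
    · simp [sl2Diag]
  rw [this]
  group

/-- The torus dichotomy: the centralizer of a regular semisimple element has order `q - 1` (and is
cyclic, split case) or `q + 1` (cyclic, non-split case). -/
theorem torus_cases [Fintype F] (hodd : Fintype.card F % 2 = 1) (h2 : (2 : F) ≠ 0)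
    (h : SL2F) (ht : (Matrix.trace (h : M2F)) ^ 2 ≠ 4) :
    IsCyclic (Subgroup.centralizer ({h} : Set SL2F)) ∧
    (Nat.card (Subgroup.centralizer ({h} : Set SL2F)) = Fintype.card F - 1 ∨
      Nat.card (Subgroup.centralizer ({h} : Set SL2F)) = Fintype.card F + 1) := by
  classical
  have hA := not_scalar_of_trace_sq_ne_four (h : M2F) h.det_coe ht
  have hA' := Cfsg.Agent.S2429.isNonScalarMat_of_not_scalar _ hA
  have hcard : Nat.card (Subgroup.centralizer ({h} : Set SL2F)) +
      rootCount (Matrix.trace (h : M2F)) = Fintype.card F + 1 := by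
    rw [card_centralizer h hA', ← card_normOne_add_rootCount_odd h2 hodd (Matrix.trace (h : M2F)) ht]
    congr 1
    show Nat.card {p : F × F // qform ((h : M2F).trace) p = 1} = _
    rw [Nat.card_eq_fintype_card, Fintype.card_subtype]
  have hle := rootCount_le_two (Matrix.trace (h : M2F))
  have hne := rootCount_ne_one (Matrix.trace (h : M2F)) ht
  by_cases h0 : rootCount (Matrix.trace (h : M2F)) = 0
  · refine ⟨isCyclic_centralizer h hA' h0, Or.inr ?_⟩
    omega
  · have hr2 : rootCount (Matrix.trace (h : M2F)) = 2 := by omega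
    have hq : 1 < Fintype.card F := Fintype.one_lt_card
    refine ⟨?_, Or.inl (by omega)⟩
    have hpos : 0 < rootCount (Matrix.trace (h : M2F)) := by omega
    unfold rootCount at hpos
    rw [Finset.card_pos] at hpos
    obtain ⟨x, hx⟩ := hpos
    rw [Finset.mem_filter] at hx
    exact isCyclic_centralizer_of_root hodd h2 h ht (-x) (by linear_combination hx.2)

/-- Let F be a finite field with q elements, q odd, ℓ an odd prime, and P a Sylow ℓ-subgroup of SL₂ over F. If ℓ divides q − 1, the centraliser of P is cyclic of order q − 1 (a split torus) and the normaliser of P has order 2(q − 1); if ℓ divides q + 1, the centraliser of P is cyclic of order q + 1 (a non-split torus) and the normaliser of P has order 2(q + 1). -/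
theorem result {F : Type*} [Field F] [Fintype F] (hodd : Odd (Fintype.card F)) (ℓ : ℕ) [Fact ℓ.Prime] (hℓ : ℓ ≠ 2)
    (P : Sylow ℓ (Matrix.SpecialLinearGroup (Fin 2) F)) :
    (ℓ ∣ Fintype.card F - 1 →
      Nat.card (Subgroup.centralizer ((P : Subgroup (Matrix.SpecialLinearGroup (Fin 2) F)) : Set (Matrix.SpecialLinearGroup (Fin 2) F))) = Fintype.card F - 1 ∧
      IsCyclic (Subgroup.centralizer ((P : Subgroup (Matrix.SpecialLinearGroup (Fin 2) F)) : Set (Matrix.SpecialLinearGroup (Fin 2) F))) ∧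
      Nat.card (Subgroup.normalizer ((P : Subgroup (Matrix.SpecialLinearGroup (Fin 2) F)) : Set (Matrix.SpecialLinearGroup (Fin 2) F))) = 2 * (Fintype.card F - 1)) ∧
    (ℓ ∣ Fintype.card F + 1 →
      Nat.card (Subgroup.centralizer ((P : Subgroup (Matrix.SpecialLinearGroup (Fin 2) F)) : Set (Matrix.SpecialLinearGroup (Fin 2) F))) = Fintype.card F + 1 ∧
      IsCyclic (Subgroup.centralizer ((P : Subgroup (Matrix.SpecialLinearGroup (Fin 2) F)) : Set (Matrix.SpecialLinearGroup (Fin 2) F))) ∧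
      Nat.card (Subgroup.normalizer ((P : Subgroup (Matrix.SpecialLinearGroup (Fin 2) F)) : Set (Matrix.SpecialLinearGroup (Fin 2) F))) = 2 * (Fintype.card F + 1)) := by
  classical
  have hodd' : Fintype.card F % 2 = 1 := Nat.odd_iff.mp hodd
  have h2 : (2 : F) ≠ 0 := by
    intro h
    have hchar : ringChar F = 2 := by
      have : ((2 : ℕ) : F) = 0 := by exact_mod_cast h
      have hdvd := (ringChar.spec F 2).mp this
      have hp := CharP.char_is_prime F (ringChar F)
      exact (Nat.prime_dvd_prime_iff_eq hp Nat.prime_two).mp hdvd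
    have := FiniteField.even_card_of_char_two hchar
    omega
  have hq : 1 < Fintype.card F := Fintype.one_lt_card
  have hℓp : ℓ.Prime := Fact.out
  have hℓ3 : 3 ≤ ℓ := by
    have := hℓp.two_le
    omega
  have hcardG := Cfsg.Agent.Helper5.card_SL2 (F := F)
  have hfac : Fintype.card F ^ 2 - 1 = (Fintype.card F - 1) * (Fintype.card F + 1) := by
    obtain ⟨k, hk⟩ : ∃ k, Fintype.card F = k + 1 := ⟨Fintype.card F - 1, by omega⟩
    rw [hk]
    have : (k + 1) ^ 2 = k * (k + 2) + 1 := by ring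
    rw [this]; simp
  -- common part
  have common : ∀ m : ℕ, (m = Fintype.card F - 1 ∨ m = Fintype.card F + 1) → ℓ ∣ m →
      Nat.card (Subgroup.centralizer ((P : Subgroup (Matrix.SpecialLinearGroup (Fin 2) F)) : Set (Matrix.SpecialLinearGroup (Fin 2) F))) = m ∧
      IsCyclic (Subgroup.centralizer ((P : Subgroup (Matrix.SpecialLinearGroup (Fin 2) F)) : Set (Matrix.SpecialLinearGroup (Fin 2) F))) ∧
      Nat.card (Subgroup.normalizer ((P : Subgroup (Matrix.SpecialLinearGroup (Fin 2) F)) : Set (Matrix.SpecialLinearGroup (Fin 2) F))) = 2 * m := by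
    intro m hm hdvd
    have hℓq : ¬ ℓ ∣ Fintype.card F := by
      intro hd
      rcases hm with rfl | rfl
      · have : ℓ ∣ Fintype.card F - (Fintype.card F - 1) := Nat.dvd_sub hd hdvd
        have h1 : Fintype.card F - (Fintype.card F - 1) = 1 := by omega
        rw [h1] at this
        have := Nat.le_of_dvd (by norm_num) this
        omega
      · have : ℓ ∣ Fintype.card F + 1 - Fintype.card F := Nat.dvd_sub hdvd hd
        have h1 : Fintype.card F + 1 - Fintype.card F = 1 := by omega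
        rw [h1] at this
        have := Nat.le_of_dvd (by norm_num) this
        omega
    have hℓG : ℓ ∣ Nat.card (Matrix.SpecialLinearGroup (Fin 2) F) := by
      rw [hcardG, hfac]
      rcases hm with rfl | rfl
      · exact Dvd.dvd.mul_left (Dvd.dvd.mul_right hdvd _) _
      · exact Dvd.dvd.mul_left (Dvd.dvd.mul_left hdvd _) _
    have hP := P.ne_bot_of_dvd_card hℓG
    obtain ⟨h, ht, hC, hN, hℓT⟩ := key h2 ℓ hℓ hℓq P hP
    obtain ⟨hcyc, hcases⟩ := torus_cases hodd' h2 h ht
    obtain ⟨w, hw⟩ := sl2_exists_conj_eq_inv hodd' h2 h ht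
    have hcard : Nat.card (Subgroup.centralizer ({h} : Set (Matrix.SpecialLinearGroup (Fin 2) F))) = m := by
      rcases hcases with hc | hc <;> rcases hm with rfl | rfl
      · exact hc
      · exfalso
        rw [hc] at hℓT
        have : ℓ ∣ Fintype.card F + 1 - (Fintype.card F - 1) := Nat.dvd_sub hdvd hℓT
        have h1 : Fintype.card F + 1 - (Fintype.card F - 1) = 2 := by omega
        rw [h1] at this
        have := Nat.le_of_dvd (by norm_num) this
        omega
      · exfalso
        rw [hc] at hℓT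
        have : ℓ ∣ Fintype.card F + 1 - (Fintype.card F - 1) := Nat.dvd_sub hℓT hdvd
        have h1 : Fintype.card F + 1 - (Fintype.card F - 1) = 2 := by omega
        rw [h1] at this
        have := Nat.le_of_dvd (by norm_num) this
        omega
      · exact hc
    rw [hC, hN]
    refine ⟨hcard, hcyc, ?_⟩
    rw [sl2_card_normalizer_centralizer h2 h w ht hw, hcard]
  exact ⟨fun hd => common _ (Or.inl rfl) hd, fun hd => common _ (Or.inr rfl) hd⟩

end Cfsg.Agent.S2430
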