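-- Statement S2432: inner products of the functions on SL₂(q) induced from linear characters of the Borel subgroup.
import Cfsg.Statements.S2432
import Cfsg.Agent.Helper41.BorelInd

set_option autoImplicit false
open Cfsg

namespace Cfsg.Agent.S2432

open Matrix Cfsg.Agent.Helper39 Cfsg.Agent.Helper41
open scoped ComplexConjugate

variable {F : Type*} [Field F] [Fintype F] [DecidableEq F]

theorem sum_units_eq_card (χ : MulChar F ℂ) (h : χ = 1) :
    ∑ a : Fˣ, χ a = (Fintype.card Fˣ : ℂ) := by
  rw [sum_units_mulChar', if_pos h]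

theorem sum_units_eq_zero (χ : MulChar F ℂ) (h : χ ≠ 1) :
    ∑ a : Fˣ, χ a = 0 := by
  rw [sum_units_mulChar', if_neg h]

theorem inner_indFun (α β : MulChar F ℂ) [Decidable (α = β)] [Decidable (α = β⁻¹)] :
    Cfsg.classInner (Cfsg.indFun (BSL F) (borelTheta α)) (Cfsg.indFun (BSL F) (borelTheta β)) =
      (if α = β then 1 else 0) + (if α = β⁻¹ then 1 else 0) := by
  classical
  rw [Cfsg.Agent.Helper15.frobenius_reciprocity (BSL F) (borelTheta α) _
    (Cfsg.Agent.Helper15.isClassFunction_indFun (BSL F) (borelTheta β))]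
  rw [Cfsg.Agent.Helper15.classInner_apply, ← Equiv.sum_comp (borelEquiv (F := F)),
    Fintype.sum_prod_type]
  have hterm : ∀ (a : Fˣ) (x : F),
      borelTheta α (borelEquiv (a, x)) * conj (Cfsg.indFun (BSL F) (borelTheta β)
        ((borelEquiv (a, x) : BSL F) : Matrix.SpecialLinearGroup (Fin 2) F)) =
      (α * β⁻¹) a + ∑ c : F, if x = c * ((a⁻¹ : Fˣ) : F) - (a : F) * c then (α * β) a else 0 := by
    intro a x
    rw [indFun_borelTheta]
    unfold borelIndVal
    have e : (borelEquiv (a, x) : BSL F) = borelElt (a, x) := rfl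
    rw [e, borelElt_00, borelElt_01, borelElt_10, borelElt_11]
    simp only [if_true, zero_mul, zero_add]
    have ht : borelTheta α (borelElt (a, x)) = α a := rfl
    rw [ht, map_add, mul_add, map_sum, Finset.mul_sum]
    congr 1
    · rw [conj_mulChar', MulChar.mul_apply, MulChar.inv_apply']
    · apply Finset.sum_congr rfl
      intro c _
      have hiff : ((a : F) * c + x - c * ((a⁻¹ : Fˣ) : F) = 0) ↔
          (x = c * ((a⁻¹ : Fˣ) : F) - (a : F) * c) := by
        constructor
        · intro h; linear_combination h
        · intro h; linear_combination h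
      simp only [hiff]
      split_ifs with h
      · rw [conj_mulChar', Units.val_inv_eq_inv_val, inv_inv, MulChar.mul_apply]
      · simp
  simp only [hterm]
  have hsum : ∀ a : Fˣ, ∑ x : F,
      ((α * β⁻¹) a + ∑ c : F, if x = c * ((a⁻¹ : Fˣ) : F) - (a : F) * c then (α * β) a else 0) =
      (Fintype.card F : ℂ) * (α * β⁻¹) a + (Fintype.card F : ℂ) * (α * β) a := by
    intro a
    rw [Finset.sum_add_distrib, Finset.sum_comm]
    simp only [Finset.sum_ite_eq', Finset.mem_univ, if_true, Finset.sum_const, Finset.card_univ,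
      nsmul_eq_mul]
  simp only [hsum]
  rw [Finset.sum_add_distrib, ← Finset.mul_sum, ← Finset.mul_sum, card_BSL']
  have hq : (Fintype.card F : ℂ) ≠ 0 := by exact_mod_cast Fintype.card_ne_zero
  have hu : (Fintype.card Fˣ : ℂ) ≠ 0 := by exact_mod_cast Fintype.card_ne_zero
  have h1 : (α * β⁻¹ = 1) ↔ α = β := mul_inv_eq_one
  have h2 : (α * β = 1) ↔ α = β⁻¹ := mul_eq_one_iff_eq_inv
  push_cast
  by_cases hab : α = β <;> by_cases hab' : α = β⁻¹
  · rw [if_pos hab, if_pos hab', sum_units_eq_card _ (h1.mpr hab), sum_units_eq_card _ (h2.mpr hab')]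
    field_simp
  · rw [if_pos hab, if_neg hab', sum_units_eq_card _ (h1.mpr hab),
      sum_units_eq_zero _ (fun h => hab' (h2.mp h))]
    field_simp
    ring
  · rw [if_neg hab, if_pos hab', sum_units_eq_zero _ (fun h => hab (h1.mp h)),
      sum_units_eq_card _ (h2.mpr hab')]
    field_simp
    ring
  · rw [if_neg hab, if_neg hab', sum_units_eq_zero _ (fun h => hab (h1.mp h)),
      sum_units_eq_zero _ (fun h => hab' (h2.mp h))]
    simp

/-- Let F be a finite field with q elements, q odd, and for a multiplicative character α of F let R(α) be the function on SL₂ induced from the linear character b ↦ α(b₁₁) of the upper triangular subgroup. For multiplicative characters α, β the inner product of R(α) and R(β) equals the number of true statements among 'α = β' and 'α = β⁻¹' (the Mackey formula for the upper triangular subgroup, whose intersection with a conjugate by the Weyl element is the diagonal subgroup). -/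
theorem result {F : Type*} [Field F] [Fintype F] [DecidableEq F] (hodd : Odd (Fintype.card F))
    (α β : MulChar F ℂ) [Decidable (α = β)] [Decidable (α = β⁻¹)] :
    Cfsg.classInner (Cfsg.indFun ((Cfsg.upperTriangularGL 2 F).comap Matrix.SpecialLinearGroup.toGL) (fun b => α (((b : Matrix.SpecialLinearGroup (Fin 2) F) : Matrix (Fin 2) (Fin 2) F) 0 0))) (Cfsg.indFun ((Cfsg.upperTriangularGL 2 F).comap Matrix.SpecialLinearGroup.toGL) (fun b => β (((b : Matrix.SpecialLinearGroup (Fin 2) F) : Matrix (Fin 2) (Fin 2) F) 0 0))) =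
      (if α = β then 1 else 0) + (if α = β⁻¹ then 1 else 0) := by
  exact inner_indFun α β

end Cfsg.Agent.S2432
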