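-- Statement S2433: values of the functions on SL₂(q) induced from linear characters of the Borel subgroup.
import Cfsg.Statements.S2433
import Cfsg.Agent.Helper41.BorelInd

set_option autoImplicit false
open Cfsg

namespace Cfsg.Agent.S2433

open Matrix Cfsg.Agent.Helper39 Cfsg.Agent.Helper41

/-- Let F be a finite field with q elements, q odd, α a multiplicative character of F, and R(α) the function on SL₂ induced from the linear character b ↦ α(b₁₁) of the upper triangular subgroup. Then R(α) takes the value α(a) + α(a⁻¹) at a diagonal element with entries a, a⁻¹, a² ≠ 1; the value 0 at every element with no eigenvector in F²; the value α(ε) at an upper triangular element with both diagonal entries ε and non-zero upper right entry; and the value (q + 1)α(ε) at the scalar element ε (ε = ±1). -/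
theorem result {F : Type*} [Field F] [Fintype F] [DecidableEq F] (hodd : Odd (Fintype.card F)) (α : MulChar F ℂ) (g : Matrix.SpecialLinearGroup (Fin 2) F) :
    ((g : Matrix (Fin 2) (Fin 2) F) 0 1 = 0 → (g : Matrix (Fin 2) (Fin 2) F) 1 0 = 0 → (g : Matrix (Fin 2) (Fin 2) F) 0 0 ^ 2 ≠ 1 →
      (Cfsg.indFun ((Cfsg.upperTriangularGL 2 F).comap Matrix.SpecialLinearGroup.toGL) (fun b => α (((b : Matrix.SpecialLinearGroup (Fin 2) F) : Matrix (Fin 2) (Fin 2) F) 0 0))) g = α ((g : Matrix (Fin 2) (Fin 2) F) 0 0) + α ((g : Matrix (Fin 2) (Fin 2) F) 1 1)) ∧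
    ((∀ (c : F) (v : Fin 2 → F), v ≠ 0 → (g : Matrix (Fin 2) (Fin 2) F).mulVec v ≠ c • v) → (Cfsg.indFun ((Cfsg.upperTriangularGL 2 F).comap Matrix.SpecialLinearGroup.toGL) (fun b => α (((b : Matrix.SpecialLinearGroup (Fin 2) F) : Matrix (Fin 2) (Fin 2) F) 0 0))) g = 0) ∧
    ((g : Matrix (Fin 2) (Fin 2) F) 1 0 = 0 → (g : Matrix (Fin 2) (Fin 2) F) 0 0 = (g : Matrix (Fin 2) (Fin 2) F) 1 1 → (g : Matrix (Fin 2) (Fin 2) F) 0 1 ≠ 0 →
      (Cfsg.indFun ((Cfsg.upperTriangularGL 2 F).comap Matrix.SpecialLinearGroup.toGL) (fun b => α (((b : Matrix.SpecialLinearGroup (Fin 2) F) : Matrix (Fin 2) (Fin 2) F) 0 0))) g = α ((g : Matrix (Fin 2) (Fin 2) F) 0 0)) ∧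
    ((g : Matrix (Fin 2) (Fin 2) F) 0 1 = 0 → (g : Matrix (Fin 2) (Fin 2) F) 1 0 = 0 → (g : Matrix (Fin 2) (Fin 2) F) 0 0 = (g : Matrix (Fin 2) (Fin 2) F) 1 1 →
      (Cfsg.indFun ((Cfsg.upperTriangularGL 2 F).comap Matrix.SpecialLinearGroup.toGL) (fun b => α (((b : Matrix.SpecialLinearGroup (Fin 2) F) : Matrix (Fin 2) (Fin 2) F) 0 0))) g = ((Fintype.card F : ℂ) + 1) * α ((g : Matrix (Fin 2) (Fin 2) F) 0 0)) := by
  change (_ → _ → _ → Cfsg.indFun (BSL F) (borelTheta α) g = _) ∧
    (_ → Cfsg.indFun (BSL F) (borelTheta α) g = _) ∧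
    (_ → _ → _ → Cfsg.indFun (BSL F) (borelTheta α) g = _) ∧
    (_ → _ → _ → Cfsg.indFun (BSL F) (borelTheta α) g = _)
  rw [indFun_borelTheta]
  unfold borelIndVal
  have hdet : (g : Matrix (Fin 2) (Fin 2) F) 0 0 * (g : Matrix (Fin 2) (Fin 2) F) 1 1 -
      (g : Matrix (Fin 2) (Fin 2) F) 0 1 * (g : Matrix (Fin 2) (Fin 2) F) 1 0 = 1 := by
    have := g.2
    rw [Matrix.det_fin_two] at this
    exact this
  refine ⟨?_, ?_, ?_, ?_⟩
  · intro h01 h10 ha
    rw [h01, h10] at hdet ⊢
    have hne : (g : Matrix (Fin 2) (Fin 2) F) 0 0 - (g : Matrix (Fin 2) (Fin 2) F) 1 1 ≠ 0 := by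
      intro h
      apply ha
      have : (g : Matrix (Fin 2) (Fin 2) F) 1 1 = (g : Matrix (Fin 2) (Fin 2) F) 0 0 := by
        linear_combination -h
      rw [this] at hdet
      linear_combination hdet
    have hcond : ∀ c : F, ((g : Matrix (Fin 2) (Fin 2) F) 0 0 * c -
        c * (g : Matrix (Fin 2) (Fin 2) F) 1 1 = 0) ↔ c = 0 := by
      intro c
      constructor
      · intro h
        have : c * ((g : Matrix (Fin 2) (Fin 2) F) 0 0 - (g : Matrix (Fin 2) (Fin 2) F) 1 1) = 0 := by
          linear_combination h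
        rcases mul_eq_zero.mp this with h | h
        · exact h
        · exact absurd h hne
      · rintro rfl; ring
    simp only [if_true, zero_mul, zero_add, add_zero]
    simp only [hcond, Finset.sum_ite_eq', Finset.mem_univ, if_true]
  · intro hno
    have h10 : (g : Matrix (Fin 2) (Fin 2) F) 1 0 ≠ 0 := by
      intro h
      apply hno ((g : Matrix (Fin 2) (Fin 2) F) 0 0) ![1, 0]
      · intro hv
        have := congr_fun hv 0
        simp at this
      · ext i
        fin_cases i <;> simp [Matrix.mulVec, dotProduct, Fin.sum_univ_two, h]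
    rw [if_neg h10, zero_add]
    apply Finset.sum_eq_zero
    intro c _
    rw [if_neg]
    intro hc
    apply hno ((g : Matrix (Fin 2) (Fin 2) F) 1 0 * c + (g : Matrix (Fin 2) (Fin 2) F) 1 1) ![c, 1]
    · intro hv
      have := congr_fun hv 1
      simp at this
    · ext i
      fin_cases i
      · simp [Matrix.mulVec, dotProduct, Fin.sum_univ_two]
        linear_combination hc
      · simp [Matrix.mulVec, dotProduct, Fin.sum_univ_two]
  · intro h10 heq h01
    rw [h10, if_pos rfl]
    have hcond : ∀ c : F, ¬ ((g : Matrix (Fin 2) (Fin 2) F) 0 0 * c + (g : Matrix (Fin 2) (Fin 2) F) 0 1 -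
        c * (0 * c + (g : Matrix (Fin 2) (Fin 2) F) 1 1) = 0) := by
      intro c h
      apply h01
      rw [heq] at h
      linear_combination h
    simp only [hcond, if_false, Finset.sum_const_zero, add_zero]
  · intro h01 h10 heq
    rw [h10, h01, if_pos rfl]
    rw [← heq]
    have hcond : ∀ c : F, ((g : Matrix (Fin 2) (Fin 2) F) 0 0 * c -
        c * (g : Matrix (Fin 2) (Fin 2) F) 0 0 = 0) := by
      intro c
      ring
    simp only [zero_mul, zero_add, add_zero]
    simp only [hcond, if_true, Finset.sum_const, Finset.card_univ, nsmul_eq_mul]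
    ring

end Cfsg.Agent.S2433
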