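-- Statement S2435: values of the half-degree characters of SL₂(q) on semisimple elements.
import Cfsg.Statements.S2435
import Cfsg.Agent.Helper41.SL2TorusSum
import Cfsg.Agent.Helper39.SL2Half2
import Cfsg.Agent.Helper25.GenChar
import Cfsg.Agent.Helper42.SL2Torus
import Cfsg.Agent.Helper41.HalfChar
import Cfsg.Agent.Helper80.Linear

set_option autoImplicit false
open Cfsg

namespace Cfsg.Agent.S2435

open Matrix Cfsg.Agent.Helper39 Cfsg.Agent.Helper41 Cfsg.Agent.Helper42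
open scoped ComplexConjugate

section lib

variable {F : Type*} [Field F] [Fintype F] [DecidableEq F]

local notation "SL2F" => Matrix.SpecialLinearGroup (Fin 2) F
local notation "M2F" => Matrix (Fin 2) (Fin 2) F

/-- Part (1): characters of degree `(q+1)/2` at split diagonal elements. -/
theorem part_one (hodd : Odd (Fintype.card F)) (hq : 5 ≤ Fintype.card F)
    {χ : SL2F → ℂ} (hχ : IsIrrCharacter SL2F χ)
    (h1 : χ 1 = (((Fintype.card F + 1) / 2 : ℕ) : ℂ)) (g : SL2F)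
    (h01 : (g : M2F) 0 1 = 0) (h10 : (g : M2F) 1 0 = 0) (ha : (g : M2F) 0 0 ^ 2 ≠ 1) :
    (IsSquare ((g : M2F) 0 0) → χ g = 1) ∧ (¬ IsSquare ((g : M2F) 0 0) → χ g = -1) := by
  classical
  have hχcf : IsClassFunction SL2F χ :=
    Cfsg.Agent.Helper74.isClassFunction_of_isCharacter (Cfsg.Agent.Helper74.isCharacter_of_isIrr hχ)
  obtain ⟨α, β, hαβ, d, hdχ, hres⟩ := half_plus hodd hq hχ h1
  have hγ2 := sq_eq_one_of_res hχ (isIrrCharacter_twC d hχ) hdχ hres
  have hγ1 : α * β⁻¹ ≠ 1 := by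
    intro h
    exact hαβ (mul_inv_eq_one.mp h)
  have hdet : (g : M2F) 0 0 * (g : M2F) 1 1 = 1 := by
    have := g.det_coe
    rw [Matrix.det_fin_two, h01, zero_mul, sub_zero] at this
    exact this
  have ha0 : (g : M2F) 0 0 ≠ 0 := by
    intro h
    rw [h, zero_mul] at hdet
    exact zero_ne_one hdet
  have hne : (g : M2F) 0 0 ≠ (g : M2F) 1 1 := by
    intro h
    apply ha
    rw [pow_two]
    nth_rewrite 2 [h]
    exact hdet
  have hstab := apply_twistFun_of_stable hχcf g (isStableClass_of_diag g h01 h10) d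
  have hval := hres g
  rw [twC_apply, hstab, piFun_of_split α β _ (by rw [toGL_apply]; exact h01)
    (by rw [toGL_apply]; exact h10) (by rw [toGL_apply, toGL_apply]; exact hne),
    toGL_apply, toGL_apply] at hval
  set a : Fˣ := Units.mk0 _ ha0 with hadef
  have ha00 : (g : M2F) 0 0 = (a : F) := rfl
  have ha11 : (g : M2F) 1 1 = ((a⁻¹ : Fˣ) : F) := by
    rw [Units.val_inv_eq_inv_val, ← ha00]
    exact eq_inv_of_mul_eq_one_right hdet
  have hmul : ∀ u : Fˣ, α (u : F) * β ((u⁻¹ : Fˣ) : F) = (α * β⁻¹) (u : F) := by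
    intro u
    rw [MulChar.mul_apply, MulChar.inv_apply', Units.val_inv_eq_inv_val]
  have h3 : α (a : F) * β ((a⁻¹ : Fˣ) : F) = (α * β⁻¹) (a : F) := hmul a
  have h4 : α ((a⁻¹ : Fˣ) : F) * β (a : F) = (α * β⁻¹) ((a⁻¹ : Fˣ) : F) := by
    have := hmul a⁻¹
    rwa [inv_inv] at this
  rw [ha00, ha11, h3, h4, mulChar_order_two_apply hodd _ hγ2 hγ1 a,
    mulChar_order_two_apply hodd _ hγ2 hγ1 a⁻¹] at hval
  have hsqinv : IsSquare ((a⁻¹ : Fˣ) : F) ↔ IsSquare (a : F) := by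
    rw [Units.val_inv_eq_inv_val]
    exact isSquare_inv
  rw [ha00]
  constructor
  · intro hsq
    rw [if_pos hsq, if_pos (hsqinv.mpr hsq)] at hval
    linear_combination (-1 / 2 : ℂ) * hval
  · intro hsq
    rw [if_neg hsq, if_neg (fun h => hsq (hsqinv.mp h))] at hval
    linear_combination (-1 / 2 : ℂ) * hval

/-- An irreducible character of degree `(q-1)/2` is half of the restriction of a cuspidal
character of `GL₂(q)`. -/
theorem half_minus_full (hodd : Odd (Fintype.card F)) (hq : 5 ≤ Fintype.card F)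
    {χ : SL2F → ℂ} (hχ : IsIrrCharacter SL2F χ)
    (h1 : χ 1 = (((Fintype.card F - 1) / 2 : ℕ) : ℂ)) :
    ∃ (ψ : GL (Fin 2) F → ℂ) (d : Fˣ), IsIrrCharacter (GL (Fin 2) F) ψ ∧ ψ (uElt F) = -1 ∧
      (∀ g : GL (Fin 2) F, (g : M2F) 0 1 = 0 → (g : M2F) 1 0 = 0 →
        (g : M2F) 0 0 ≠ (g : M2F) 1 1 → ψ g = 0) ∧
      twC d χ ≠ χ ∧ ∀ s, ψ (Matrix.SpecialLinearGroup.toGL s) = χ s + twC d χ s := by
  classical
  obtain ⟨ψ, k, hψ, hk, hdeg, hpi, hk2⟩ := sl2_lying_under2 χ hχ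
  obtain ⟨j, hj⟩ := hodd
  have hj2 : 2 ≤ j := by omega
  have hχ1 : χ 1 = ((j : ℕ) : ℂ) := by
    rw [h1]
    congr 1
    omega
  have hqC : (Fintype.card F : ℂ) = 2 * (j : ℂ) + 1 := by rw [hj]; push_cast; ring
  have hχc : IsCharacter SL2F χ := Cfsg.Agent.Helper74.isCharacter_of_isIrr hχ
  rcases classification ψ hψ with ⟨μ, rfl⟩ | ⟨μ, rfl⟩ | ⟨α, β, hαβ, rfl⟩ | ⟨hd, hval, hsplit⟩
  · exfalso
    have hB : detFun μ 1 = ((1 : ℕ) : ℂ) := by rw [detFun_one]; simp
    have := mul_eq_cases _ _ _ hk (deg_key hdeg _ _ hχ1 hB)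
    omega
  · exfalso
    have hB : stFun μ 1 = ((2 * j + 1 : ℕ) : ℂ) := by rw [stFun_one, hqC]; push_cast; ring
    have hkj := deg_key hdeg _ _ hχ1 hB
    rcases Nat.lt_or_ge 2 k with h | h
    · have : 3 * j ≤ k * j := Nat.mul_le_mul_right j h
      omega
    · have : k * j ≤ 2 * j := Nat.mul_le_mul_right j h
      omega
  · exfalso
    have hB : piFun α β 1 = ((2 * j + 2 : ℕ) : ℂ) := by rw [piFun_one, hqC]; push_cast; ring
    have hkj := deg_key hdeg _ _ hχ1 hB
    have h := hpi α β rfl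
    have : k * j ≤ 2 * j := Nat.mul_le_mul_right j h
    omega
  · have hB : ψ 1 = ((2 * j : ℕ) : ℂ) := by rw [hd, hqC]; push_cast; ring
    have hkj := deg_key hdeg _ _ hχ1 hB
    have hk2' : k = 2 := Nat.eq_of_mul_eq_mul_right (by omega : 0 < j) hkj
    rcases hk2 hk2' with h | ⟨d, hd1, hd2⟩
    · exfalso
      have h' := h (uSL 1)
      rw [toGL_uSL_one, hval] at h'
      exact not_isIntegral_half (Cfsg.Agent.Helper80.IsCharacter.isIntegral hχc (uSL 1))
        (Or.inr h'.symm)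
    · exact ⟨ψ, d, hψ, hval, hsplit, hd1, hd2⟩

/-- The split regular classes are represented by diagonal matrices. -/
theorem exists_diag_of_rootCount_ne_zero (hodd : Odd (Fintype.card F)) (t : F) (ht : t ^ 2 ≠ 4)
    (h0 : rootCount t ≠ 0) :
    ∃ a : Fˣ, (a : F) ≠ ((a⁻¹ : Fˣ) : F) ∧ IsConj (cSL t) (diagSL a) := by
  unfold rootCount at h0
  obtain ⟨x, hx⟩ := Finset.card_pos.mp (Nat.pos_of_ne_zero h0)
  rw [Finset.mem_filter] at hx
  have hx' := hx.2
  have hx0 : x ≠ 0 := by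
    rintro rfl
    simp at hx'
  have ha0 : -x ≠ 0 := neg_ne_zero.mpr hx0
  set a : Fˣ := Units.mk0 (-x) ha0 with hadef
  have hav : (a : F) = -x := rfl
  have hinv : ((a⁻¹ : Fˣ) : F) = t - (a : F) := by
    rw [Units.val_inv_eq_inv_val, hav]
    apply inv_eq_of_mul_eq_one_right
    linear_combination -hx'
  have hne : (a : F) ≠ ((a⁻¹ : Fˣ) : F) := by
    intro h
    apply ht
    rw [hinv] at h
    have h1 : t = 2 * (a : F) := by linear_combination -h
    rw [h1, hav]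
    rw [h1, hav] at hx'
    linear_combination (-4 : F) * hx'
  refine ⟨a, hne, ?_⟩
  have htr : ((diagSL a : SL2F) : M2F).trace = t := by
    rw [Matrix.trace_fin_two]
    show (a : F) + ((a⁻¹ : Fˣ) : F) = t
    rw [hinv]; ring
  have hns : IsNonScalarSL (diagSL a : SL2F) := by
    intro h
    exact hne h.2.2
  have := isConj_cSL_of_trace hodd (diagSL a) hns (by rw [htr]; exact ht)
  rwa [htr] at this

/-- The basic data of an irreducible character of degree `(q - 1) / 2`. -/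
theorem half_minus_data (hodd : Odd (Fintype.card F)) (hq : 5 ≤ Fintype.card F)
    {ν : Fˣ} (hν : ¬ IsSquare (ν : F))
    {χ : SL2F → ℂ} (hχ : IsIrrCharacter SL2F χ)
    (h1 : χ 1 = (((Fintype.card F - 1) / 2 : ℕ) : ℂ)) :
    (∀ t : F, t ^ 2 ≠ 4 → rootCount t ≠ 0 → χ (cSL t) = 0) ∧
    χ (uSL 1) + χ (uSL (ν : F)) = -1 ∧
    (χ (uSL 1) - χ (uSL (ν : F))) * conj (χ (uSL 1) - χ (uSL (ν : F))) = (Fintype.card F : ℂ) := by
  classical
  have hχcf : IsClassFunction SL2F χ :=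
    Cfsg.Agent.Helper74.isClassFunction_of_isCharacter (Cfsg.Agent.Helper74.isCharacter_of_isIrr hχ)
  obtain ⟨ψ, d, hψ, hval, hsplit, hdχ, hres⟩ := half_minus_full hodd hq hχ h1
  have hdns : ¬ IsSquare (d : F) := fun hsq => hdχ (twC_of_isSquare hsq hχcf)
  have htw : twC d χ = twC ν χ := twC_eq_of_not_isSquare hodd hν hdns hχcf
  have hνχ : twC ν χ ≠ χ := by rw [← htw]; exact hdχ
  have hB : twC ν χ (uSL 1) = χ (uSL (ν : F)) := by
    rw [twC_apply, twistFun_uSL, mul_one]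
  refine ⟨?_, ?_, ?_⟩
  · intro t ht h0
    obtain ⟨a, hne, hconj⟩ := exists_diag_of_rootCount_ne_zero hodd t ht h0
    obtain ⟨n, hn⟩ := isConj_iff.mp hconj
    have h3 : χ (cSL t) = χ (diagSL a) := by rw [← hn, hχcf]
    have h4 := hres (diagSL a)
    rw [hsplit _ (by rw [toGL_apply]; rfl) (by rw [toGL_apply]; rfl)
      (by rw [toGL_apply, toGL_apply]; exact hne), twC_apply,
      apply_twistFun_of_stable hχcf _ (isStableClass_of_diag _ rfl rfl) d] at h4
    rw [h3]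
    linear_combination (-1 / 2 : ℂ) * h4
  · have h4 := hres (uSL 1)
    rw [toGL_uSL_one, hval, htw, hB] at h4
    exact h4.symm
  · have := normSq_diff hodd hν hχ hνχ
    rwa [hB] at this

omit [Fintype F] [DecidableEq F] in
theorem zSL_mul_zSL : (zSL : SL2F) * zSL = 1 := by
  apply sl2_ext
  · rw [zSL_mul_apply, zSL_00]; simp
  · rw [zSL_mul_apply, zSL_01]; simp
  · rw [zSL_mul_apply, zSL_10]; simp
  · rw [zSL_mul_apply, zSL_11]; simp

/-- Sums of an irreducible character of degree `(q-1)/2` over the elliptic classes. -/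
theorem half_minus_sums (hodd : Odd (Fintype.card F)) (hq : 5 ≤ Fintype.card F)
    {χ : SL2F → ℂ} (hχ : IsIrrCharacter SL2F χ) (j : ℕ) (hj : Fintype.card F = 2 * j + 1)
    (h1 : χ 1 = (j : ℂ)) (ε : ℂ) (hε : ε = 1 ∨ ε = -1)
    (hεχ : ∀ a, χ (zSL * a) = ε * χ a) :
    ∑ t ∈ Finset.univ.filter (fun t : F => rootCount t = 0), χ (cSL t) * conj (χ (cSL t)) = (j : ℂ) ∧
    ∑ t ∈ Finset.univ.filter (fun t : F => rootCount t = 0), χ (cSL t) = (1 + ε) / 2 := by
  classical
  have hχc : IsCharacter SL2F χ := Cfsg.Agent.Helper74.isCharacter_of_isIrr hχ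
  have hχcf : IsClassFunction SL2F χ := Cfsg.Agent.Helper74.isClassFunction_of_isCharacter hχc
  have h2 : (2 : F) ≠ 0 := Ring.two_ne_zero (ringChar_ne_two_of_odd hodd)
  obtain ⟨ν0, hν0⟩ := FiniteField.exists_nonsquare (ringChar_ne_two_of_odd hodd)
  have hν00 : ν0 ≠ 0 := by
    rintro rfl
    exact hν0 ⟨0, by ring⟩
  set ν : Fˣ := Units.mk0 ν0 hν00 with hνdef
  have hν : ¬ IsSquare (ν : F) := hν0
  have h1' : χ 1 = (((Fintype.card F - 1) / 2 : ℕ) : ℂ) := by
    rw [h1]; congr 1; omega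
  obtain ⟨hsplit, hAB, hABn⟩ := half_minus_data hodd hq hν hχ h1'
  obtain ⟨A, hA⟩ : ∃ A, A = χ (uSL 1) := ⟨_, rfl⟩
  obtain ⟨B, hB⟩ : ∃ B, B = χ (uSL (ν : F)) := ⟨_, rfl⟩
  rw [← hA, ← hB] at hAB hABn
  have hqC : (Fintype.card F : ℂ) = 2 * (j : ℂ) + 1 := by rw [hj]; push_cast; ring
  have hj2 : 2 ≤ j := by omega
  have hεε : ε * ε = 1 := by rcases hε with rfl | rfl <;> ring
  have hεc : conj ε = ε := by rcases hε with rfl | rfl <;> simp
  -- norms
  have hn1 : (A + B) * conj (A + B) = 1 := by rw [hAB]; simp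
  have hAB2 : A * conj A + B * conj B = (j : ℂ) + 1 := by
    rw [map_add] at hn1
    rw [map_sub, hqC] at hABn
    linear_combination (1 / 2 : ℂ) * hn1 + (1 / 2 : ℂ) * hABn
  -- the class function χ χ̄
  have hf2 : IsClassFunction SL2F (fun s => χ s * conj (χ s)) := by
    intro a b
    show χ (b * a * b⁻¹) * conj (χ (b * a * b⁻¹)) = χ a * conj (χ a)
    rw [hχcf a b]
  have hS2 := sl2_class_sum_of_vanish hodd hν (fun s => χ s * conj (χ s)) hf2 (by
    intro t ht h0
    show χ (cSL t) * conj (χ (cSL t)) = 0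
    rw [hsplit t ht h0, zero_mul])
  have hS1 := sl2_class_sum_of_vanish hodd hν χ hχcf hsplit
  have hz : χ zSL = ε * (j : ℂ) := by
    have := hεχ 1
    rwa [mul_one, h1] at this
  simp only [hεχ, hz, h1, ← hA, ← hB, map_mul, hεc, Complex.conj_natCast] at hS2 hS1
  -- total sums
  have hG : (Nat.card SL2F : ℂ) = (Fintype.card F : ℂ) * ((Fintype.card F : ℂ) ^ 2 - 1) := by
    rw [Cfsg.Agent.Helper5.card_SL2]
    have : 1 ≤ Fintype.card F ^ 2 := Nat.one_le_pow _ _ Fintype.card_pos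
    push_cast [Nat.cast_sub this]
    ring
  have hG0 : (Nat.card SL2F : ℂ) ≠ 0 := by exact_mod_cast Nat.card_pos.ne'
  have hT2 : ∑ s : SL2F, χ s * conj (χ s) = (Nat.card SL2F : ℂ) := by
    have := Cfsg.Agent.Helper74.irr_inner_self (⟨χ, hχ⟩ : IrrCharacter SL2F)
    rw [Cfsg.Agent.Helper74.classInner_def] at this
    field_simp at this
    exact this
  have hone : IsIrrCharacter SL2F (fun _ => (1 : ℂ)) := by
    have := Cfsg.Agent.Helper80.isIrrCharacter_of_monoidHom (1 : SL2F →* ℂˣ)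
    simpa using this
  have hT1 : ∑ s : SL2F, χ s = 0 := by
    have hne : (⟨χ, hχ⟩ : IrrCharacter SL2F) ≠ ⟨fun _ => (1 : ℂ), hone⟩ := by
      intro h
      have h' := congrArg (fun x : IrrCharacter SL2F => (x : SL2F → ℂ) 1) h
      simp only [] at h'
      rw [h1] at h'
      have : (j : ℂ) = ((1 : ℕ) : ℂ) := by rw [h']; simp
      have := Nat.cast_injective this
      omega
    have := Cfsg.Agent.Helper74.irr_inner_ne hne
    rw [Cfsg.Agent.Helper74.classInner_def] at this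
    simp only [map_one, mul_one] at this
    rcases mul_eq_zero.mp this with h | h
    · exact absurd (inv_eq_zero.mp h) hG0
    · exact h
  rw [hT2, hG, hqC] at hS2
  rw [hT1, hqC] at hS1
  set E2 := ∑ t ∈ Finset.univ.filter (fun t : F => rootCount t = 0), χ (cSL t) * conj (χ (cSL t))
  set E1 := ∑ t ∈ Finset.univ.filter (fun t : F => rootCount t = 0), χ (cSL t)
  have hj0 : (j : ℂ) ≠ 0 := by
    have : 0 < j := by omega
    exact_mod_cast this.ne'
  have h2j1 : (2 * (j : ℂ) + 1) ≠ 0 := by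
    have : (2 * (j : ℂ) + 1) = ((2 * j + 1 : ℕ) : ℂ) := by push_cast; ring
    rw [this]
    exact_mod_cast (by omega : 2 * j + 1 ≠ 0)
  constructor
  · have key : (2 * (j : ℂ) + 1) * (2 * (j : ℂ)) * (E2 - (j : ℂ)) = 0 := by
      linear_combination (-1 : ℂ) * hS2 + (-(((2 * (j : ℂ) + 1) ^ 2 - 1) / 2 * (1 + ε * ε))) * hAB2
        + (-((j : ℂ) ^ 2 + ((2 * (j : ℂ) + 1) ^ 2 - 1) / 2 * ((j : ℂ) + 1))) * hεε
    rcases mul_eq_zero.mp key with h | h
    · rcases mul_eq_zero.mp h with h | h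
      · exact absurd h h2j1
      · exact absurd h (mul_ne_zero two_ne_zero hj0)
    · exact sub_eq_zero.mp h
  · have key : (2 * (j : ℂ) + 1) * (2 * (j : ℂ)) * (E1 - (1 + ε) / 2) = 0 := by
      linear_combination (-1 : ℂ) * hS1 + (-(((2 * (j : ℂ) + 1) ^ 2 - 1) / 2 * (1 + ε))) * hAB
    rcases mul_eq_zero.mp key with h | h
    · rcases mul_eq_zero.mp h with h | h
      · exact absurd h h2j1
      · exact absurd h (mul_ne_zero two_ne_zero hj0)
    · exact sub_eq_zero.mp h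

/-- Part (2): characters of degree `(q-1)/2` at elliptic elements. -/
theorem part_two (hodd : Odd (Fintype.card F)) (hq : 5 ≤ Fintype.card F)
    {χ : SL2F → ℂ} (hχ : IsIrrCharacter SL2F χ)
    (h1 : χ 1 = (((Fintype.card F - 1) / 2 : ℕ) : ℂ)) (g : SL2F)
    (hg : ∀ (c : F) (v : Fin 2 → F), v ≠ 0 → (g : M2F).mulVec v ≠ c • v) :
    ((g ^ ((Fintype.card F + 1) / 2) : SL2F) = 1 → χ g = -1) ∧
    ((g ^ ((Fintype.card F + 1) / 2) : SL2F) ≠ 1 → χ g = 1) := by
  classical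
  have h2 : (2 : F) ≠ 0 := Ring.two_ne_zero (ringChar_ne_two_of_odd hodd)
  obtain ⟨j, hj⟩ := id hodd
  have hj2 : 2 ≤ j := by omega
  have h1j : χ 1 = (j : ℂ) := by rw [h1]; congr 1; omega
  have hm : (Fintype.card F + 1) / 2 = j + 1 := by omega
  rw [hm]
  have hχc : IsCharacter SL2F χ := Cfsg.Agent.Helper74.isCharacter_of_isIrr hχ
  have hχcf : IsClassFunction SL2F χ := Cfsg.Agent.Helper74.isClassFunction_of_isCharacter hχc
  have hrc : rootCount ((g : M2F).trace) = 0 :=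
    (rootCount_eq_zero_iff_not_isSquare h2 _).mpr
      (Cfsg.Agent.S2429.not_isSquare_of_no_eigenvector h2 g hg)
  have htg : (g : M2F).trace ^ 2 ≠ 4 := sq_ne_four_of_rootCount_eq_zero _ hrc
  have hgns := not_scalar_of_trace_sq_ne_four (g : M2F) g.det_coe htg
  obtain ⟨ε, hε, hεχ⟩ := irr_central_sign hχ zSL zSL_comm zSL_mul_zSL
  obtain ⟨hE2, hE1⟩ := half_minus_sums hodd hq hχ j hj h1j ε hε hεχ
  have hεε : ε * ε = 1 := by rcases hε with rfl | rfl <;> ring
  have hεc : conj ε = ε := by rcases hε with rfl | rfl <;> simp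
  have hz : χ zSL = ε * (j : ℂ) := by
    have := hεχ 1
    rwa [mul_one, h1j] at this
  have hf2 : IsClassFunction SL2F (fun s => χ s * conj (χ s)) := by
    intro a b
    show χ (b * a * b⁻¹) * conj (χ (b * a * b⁻¹)) = χ a * conj (χ a)
    rw [hχcf a b]
  let _ : Fintype (Subgroup.centralizer ({g} : Set SL2F)) := Fintype.ofFinite _
  have hT2 := torus_sum hodd g hrc (fun s => χ s * conj (χ s)) hf2
  have hT1 := torus_sum hodd g hrc χ hχcf
  simp only [hz, h1j, map_mul, hεc, Complex.conj_natCast] at hT2 hT1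
  rw [hE2] at hT2
  rw [hE1] at hT1
  have hzmem : (zSL : SL2F) ∈ Subgroup.centralizer ({g} : Set SL2F) := by
    rw [Subgroup.mem_centralizer_singleton_iff]
    exact zSL_comm g
  have hgmem : g ∈ Subgroup.centralizer ({g} : Set SL2F) := by
    rw [Subgroup.mem_centralizer_singleton_iff]
  have hcomm : ∀ a b : Subgroup.centralizer ({g} : Set SL2F), a * b = b * a := by
    intro a b
    apply Subtype.ext
    exact sl2_centralizer_comm g a b hgns a.2 b.2
  have : IsCyclic (Subgroup.centralizer ({g} : Set SL2F)) :=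
    Cfsg.Agent.Helper42.isCyclic_centralizer g
      (Cfsg.Agent.S2429.isNonScalarMat_of_not_scalar _ hgns) hrc
  have hcard : Nat.card (Subgroup.centralizer ({g} : Set SL2F)) = 2 * (j + 1) := by
    rw [Cfsg.Agent.S2429.card_centralizer_of_rootCount_eq_zero h2 (Nat.odd_iff.mp hodd) g hrc]
    omega
  have hreal : ∀ a : Subgroup.centralizer ({g} : Set SL2F), conj (χ a) = χ a := by
    intro a
    by_cases ha1 : (a : SL2F) = 1
    · rw [ha1, h1j, Complex.conj_natCast]
    by_cases haz : (a : SL2F) = zSL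
    · rw [haz, hz, map_mul, hεc, Complex.conj_natCast]
    have hns := isNonScalarSL_of_ne (a : SL2F) ha1 haz
    have hr := rootCount_trace_eq_zero_of_mem_centralizer hodd g a hrc a.2 hns
    obtain ⟨w, hw⟩ := sl2_exists_conj_eq_inv (Nat.odd_iff.mp hodd) h2 (a : SL2F)
      (sq_ne_four_of_rootCount_eq_zero _ hr)
    rw [← Cfsg.Agent.Helper74.char_inv hχc, ← hw, hχcf]
  have key := half_char_on_cyclic hcomm (j + 1) hcard ⟨zSL, hzmem⟩
    (by
      intro h
      exact zSL_ne_one h2 (congrArg Subtype.val h))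
    (by
      apply Subtype.ext
      exact zSL_mul_zSL) ε hε
    (Cfsg.Agent.Helper74.isCharacter_restrict (Subgroup.centralizer ({g} : Set SL2F)) hχc)
    (by
      show χ 1 = ((j + 1 : ℕ) : ℂ) - 1
      rw [h1j]; push_cast; ring)
    (by
      show χ zSL = ε * (((j + 1 : ℕ) : ℂ) - 1)
      rw [hz]; push_cast; ring)
    hreal
    (by
      rw [hT2]; push_cast; linear_combination ((j : ℂ) ^ 2) * hεε)
    (by
      rw [hT1]; push_cast; ring)
  have hg1 : g ≠ 1 := by
    rintro rfl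
    apply htg
    simp
    norm_num
  have hgz : g ≠ zSL := by
    rintro rfl
    apply htg
    rw [trace_zSL]; norm_num
  have := key ⟨g, hgmem⟩ (fun h => hg1 (congrArg Subtype.val h))
    (fun h => hgz (congrArg Subtype.val h))
  constructor
  · intro h
    apply this.1
    apply Subtype.ext
    exact h
  · intro h
    apply this.2
    intro h'
    exact h (congrArg Subtype.val h')

end lib

theorem result {F : Type*} [Field F] [Fintype F] (hodd : Odd (Fintype.card F)) (hq : 5 ≤ Fintype.card F)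
    (χ : Matrix.SpecialLinearGroup (Fin 2) F → ℂ) (hχ : Cfsg.IsIrrCharacter (Matrix.SpecialLinearGroup (Fin 2) F) χ) (g : Matrix.SpecialLinearGroup (Fin 2) F) :
    (χ 1 = (((Fintype.card F + 1) / 2 : ℕ) : ℂ) → (g : Matrix (Fin 2) (Fin 2) F) 0 1 = 0 → (g : Matrix (Fin 2) (Fin 2) F) 1 0 = 0 → (g : Matrix (Fin 2) (Fin 2) F) 0 0 ^ 2 ≠ 1 →
      (IsSquare ((g : Matrix (Fin 2) (Fin 2) F) 0 0) → χ g = 1) ∧ (¬ IsSquare ((g : Matrix (Fin 2) (Fin 2) F) 0 0) → χ g = -1)) ∧
    (χ 1 = (((Fintype.card F - 1) / 2 : ℕ) : ℂ) → (∀ (c : F) (v : Fin 2 → F), v ≠ 0 → (g : Matrix (Fin 2) (Fin 2) F).mulVec v ≠ c • v) →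
      (((g ^ ((Fintype.card F + 1) / 2)) : Matrix (Fin 2) (Fin 2) F) = 1 → χ g = -1) ∧ (((g ^ ((Fintype.card F + 1) / 2)) : Matrix (Fin 2) (Fin 2) F) ≠ 1 → χ g = 1)) := by
  classical
  refine ⟨fun h1 h01 h10 ha => part_one hodd hq hχ h1 g h01 h10 ha, fun h1 hg => ?_⟩
  have key := part_two hodd hq hχ h1 g hg
  have hiff : (((g ^ ((Fintype.card F + 1) / 2)) : Matrix (Fin 2) (Fin 2) F) = 1) ↔
      (g ^ ((Fintype.card F + 1) / 2) = 1) := by
    rw [← Matrix.SpecialLinearGroup.coe_pow, ← Matrix.SpecialLinearGroup.coe_one]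
    exact ⟨fun h => Subtype.ext h, fun h => congrArg Subtype.val h⟩
  exact ⟨fun h => key.1 (hiff.mp h), fun h => key.2 (fun h' => h (hiff.mpr h'))⟩

end Cfsg.Agent.S2435
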