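import Cfsg.Statements.S2438
import Cfsg.Agent.Helper39.SL2Half2

set_option autoImplicit false
open Cfsg

namespace Cfsg.Agent.S2438

open Matrix Cfsg.Agent.Helper39
open scoped ComplexConjugate

section lib

variable {F : Type*} [Field F] [Fintype F] [DecidableEq F]

local notation "SL2F" => Matrix.SpecialLinearGroup (Fin 2) F

/-- The sum over the upper unitriangular subgroup as a sum over the field. -/
theorem sum_unitriangular (χ : SL2F → ℂ) :
    (∑ g : SL2F, if (g : Matrix (Fin 2) (Fin 2) F) 1 0 = 0 ∧ (g : Matrix (Fin 2) (Fin 2) F) 0 0 = 1 ∧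
      (g : Matrix (Fin 2) (Fin 2) F) 1 1 = 1 then χ g else 0) = ∑ x : F, χ (uSL x) := by
  rw [← Finset.sum_filter]
  symm
  apply Finset.sum_bij (fun x _ => uSL x)
  · intro x _
    rw [Finset.mem_filter]
    exact ⟨Finset.mem_univ _, uSL_10 x, uSL_00 x, uSL_11 x⟩
  · intro x _ y _ h
    have := congrArg (fun s : SL2F => (s : Matrix (Fin 2) (Fin 2) F) 0 1) h
    simpa [uSL_01] using this
  · intro g hg
    rw [Finset.mem_filter] at hg
    obtain ⟨-, h10, h00, h11⟩ := hg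
    refine ⟨(g : Matrix (Fin 2) (Fin 2) F) 0 1, Finset.mem_univ _, ?_⟩
    apply sl2_ext
    · rw [uSL_00, h00]
    · rw [uSL_01]
    · rw [uSL_10, h10]
    · rw [uSL_11, h11]
  · intro x _
    rfl

/-- Value of a class function at `uSL x`, `x ≠ 0`. -/
theorem apply_uSL (hodd : Odd (Fintype.card F)) {ν : Fˣ} (hν : ¬ IsSquare (ν : F))
    {χ : SL2F → ℂ} (hχ : IsClassFunction SL2F χ) (x : Fˣ) :
    χ (uSL (x : F)) = if IsSquare (x : F) then χ (uSL 1) else twC ν χ (uSL 1) := by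
  have h1 : χ (uSL (x : F)) = twC x χ (uSL 1) := by
    rw [twC_apply, twistFun_uSL, mul_one]
  rw [h1]
  split_ifs with hx
  · rw [twC_of_isSquare hx hχ]
  · rw [twC_eq_of_not_isSquare hodd hν hx hχ]

/-- The sum of a class function over the upper unitriangular subgroup. -/
theorem sum_uSL (hodd : Odd (Fintype.card F)) {ν : Fˣ} (hν : ¬ IsSquare (ν : F))
    {χ : SL2F → ℂ} (hχ : IsClassFunction SL2F χ) :
    2 * ∑ x : F, χ (uSL x) =
      2 * χ 1 + ((Fintype.card F : ℂ) - 1) * (χ (uSL 1) + twC ν χ (uSL 1)) := by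
  have hchar : ringChar F ≠ 2 := ringChar_ne_two_of_odd hodd
  set A := χ (uSL 1) with hA
  set B := twC ν χ (uSL 1) with hB
  have hval : ∀ x : F, x ≠ 0 →
      2 * χ (uSL x) = (A + B) + ((quadraticChar F x : ℤ) : ℂ) * (A - B) := by
    intro x hx
    have := apply_uSL hodd hν hχ (Units.mk0 x hx)
    rw [Units.val_mk0] at this
    rw [this]
    by_cases hsq : IsSquare x
    · rw [if_pos hsq, (quadraticChar_one_iff_isSquare hx).mpr hsq]
      push_cast; ring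
    · rw [if_neg hsq, (quadraticChar_neg_one_iff_not_isSquare).mpr hsq]
      push_cast; ring
  rw [← Finset.add_sum_erase Finset.univ _ (Finset.mem_univ (0 : F)), uSL_zero, mul_add,
    Finset.mul_sum]
  have h2 : ∑ x ∈ Finset.univ.erase (0 : F), 2 * χ (uSL x) =
      ∑ x ∈ Finset.univ.erase (0 : F), ((A + B) + ((quadraticChar F x : ℤ) : ℂ) * (A - B)) := by
    apply Finset.sum_congr rfl
    intro x hx
    exact hval x (Finset.ne_of_mem_erase hx)
  rw [h2, Finset.sum_add_distrib, Finset.sum_const, ← Finset.sum_mul, Finset.card_erase_of_mem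
    (Finset.mem_univ _), Finset.card_univ]
  have h3 : ∑ x ∈ Finset.univ.erase (0 : F), ((quadraticChar F x : ℤ) : ℂ) = 0 := by
    have h4 := Finset.add_sum_erase Finset.univ (fun x : F => ((quadraticChar F x : ℤ) : ℂ))
      (Finset.mem_univ (0 : F))
    simp only [quadraticChar_zero, Int.cast_zero, zero_add] at h4
    rw [h4, ← Int.cast_sum, quadraticChar_sum_zero hchar, Int.cast_zero]
  rw [h3, zero_mul, add_zero, nsmul_eq_mul]
  have hq : 1 ≤ Fintype.card F := Fintype.card_pos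
  push_cast [Nat.cast_sub hq]
  ring

/-- The restriction of a class function of `GL₂` is stable under the diagonal twists. -/
theorem twC_eq_of_restrict {ψ : GL (Fin 2) F → ℂ} (hψ : IsClassFunction (GL (Fin 2) F) ψ)
    {χ : SL2F → ℂ} (h : ∀ s, χ s = ψ (Matrix.SpecialLinearGroup.toGL s)) (d : Fˣ) :
    twC d χ = χ := by
  funext s
  rw [twC_apply, h, h, toGL_twistFun]
  exact hψ _ _

/-- The three "whole" degrees: an irreducible character of `SL₂(q)` whose degree is `q + 1`, `q`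
or `q - 1` is the restriction of an irreducible character `ψ` of `GL₂(q)` of the same degree. -/
theorem exists_restrict_of_degree (hodd : Odd (Fintype.card F)) (hq : 5 ≤ Fintype.card F)
    {χ : SL2F → ℂ} (hχ : IsIrrCharacter SL2F χ)
    (h1 : χ 1 = (Fintype.card F : ℂ) + 1 ∨ χ 1 = (Fintype.card F : ℂ) ∨
      χ 1 = (Fintype.card F : ℂ) - 1) :
    ∃ ψ : GL (Fin 2) F → ℂ, IsIrrCharacter (GL (Fin 2) F) ψ ∧ ψ 1 = χ 1 ∧
      ∀ s, χ s = ψ (Matrix.SpecialLinearGroup.toGL s) := by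
  classical
  obtain ⟨ψ, k, hψ, hk, hdeg, hk1, -, hpi⟩ := sl2_lying_under' χ hχ
  obtain ⟨j, hj⟩ := hodd
  have hj2 : 2 ≤ j := by omega
  have hqC : (Fintype.card F : ℂ) = 2 * (j : ℂ) + 1 := by rw [hj]; push_cast; ring
  suffices hk' : k = 1 by
    refine ⟨ψ, hψ, ?_, hk1 hk'⟩
    rw [hdeg, hk']; simp
  rcases h1 with h1 | h1 | h1
  · have hχ1 : χ 1 = ((2 * j + 2 : ℕ) : ℂ) := by rw [h1, hqC]; push_cast; ring
    rcases classification ψ hψ with ⟨μ, rfl⟩ | ⟨μ, rfl⟩ | ⟨α, β, hαβ, rfl⟩ | ⟨hd, hval, -⟩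
    · have hB : detFun μ 1 = ((1 : ℕ) : ℂ) := by rw [detFun_one]; simp
      have := mul_eq_cases _ _ _ hk (deg_key hdeg _ _ hχ1 hB)
      omega
    · have hB : stFun μ 1 = ((2 * j + 1 : ℕ) : ℂ) := by rw [stFun_one, hqC]; push_cast; ring
      have := mul_eq_cases _ _ _ hk (deg_key hdeg _ _ hχ1 hB)
      omega
    · have hB : piFun α β 1 = ((2 * j + 2 : ℕ) : ℂ) := by rw [piFun_one, hqC]; push_cast; ring
      have := mul_eq_cases _ _ _ hk (deg_key hdeg _ _ hχ1 hB)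
      omega
    · have hB : ψ 1 = ((2 * j : ℕ) : ℂ) := by rw [hd, hqC]; push_cast; ring
      have := mul_eq_cases _ _ _ hk (deg_key hdeg _ _ hχ1 hB)
      omega
  · have hχ1 : χ 1 = ((2 * j + 1 : ℕ) : ℂ) := by rw [h1, hqC]; push_cast; ring
    rcases classification ψ hψ with ⟨μ, rfl⟩ | ⟨μ, rfl⟩ | ⟨α, β, hαβ, rfl⟩ | ⟨hd, hval, -⟩
    · have hB : detFun μ 1 = ((1 : ℕ) : ℂ) := by rw [detFun_one]; simp
      have := mul_eq_cases _ _ _ hk (deg_key hdeg _ _ hχ1 hB)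
      omega
    · have hB : stFun μ 1 = ((2 * j + 1 : ℕ) : ℂ) := by rw [stFun_one, hqC]; push_cast; ring
      have := mul_eq_cases _ _ _ hk (deg_key hdeg _ _ hχ1 hB)
      omega
    · have hB : piFun α β 1 = ((2 * j + 2 : ℕ) : ℂ) := by rw [piFun_one, hqC]; push_cast; ring
      have := mul_eq_cases _ _ _ hk (deg_key hdeg _ _ hχ1 hB)
      omega
    · have hB : ψ 1 = ((2 * j : ℕ) : ℂ) := by rw [hd, hqC]; push_cast; ring
      have := mul_eq_cases _ _ _ hk (deg_key hdeg _ _ hχ1 hB)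
      omega
  · have hχ1 : χ 1 = ((2 * j : ℕ) : ℂ) := by rw [h1, hqC]; push_cast; ring
    rcases classification ψ hψ with ⟨μ, rfl⟩ | ⟨μ, rfl⟩ | ⟨α, β, hαβ, rfl⟩ | ⟨hd, hval, -⟩
    · have hB : detFun μ 1 = ((1 : ℕ) : ℂ) := by rw [detFun_one]; simp
      have := mul_eq_cases _ _ _ hk (deg_key hdeg _ _ hχ1 hB)
      omega
    · have hB : stFun μ 1 = ((2 * j + 1 : ℕ) : ℂ) := by rw [stFun_one, hqC]; push_cast; ring
      have := mul_eq_cases _ _ _ hk (deg_key hdeg _ _ hχ1 hB)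
      omega
    · have hB : piFun α β 1 = ((2 * j + 2 : ℕ) : ℂ) := by rw [piFun_one, hqC]; push_cast; ring
      have := mul_eq_cases _ _ _ hk (deg_key hdeg _ _ hχ1 hB)
      omega
    · have hB : ψ 1 = ((2 * j : ℕ) : ℂ) := by rw [hd, hqC]; push_cast; ring
      have := mul_eq_cases _ _ _ hk (deg_key hdeg _ _ hχ1 hB)
      omega

/-- Values at the transvection `uSL 1` for the three whole degrees. -/
theorem apply_uSL_one_of_degree (hodd : Odd (Fintype.card F)) (hq : 5 ≤ Fintype.card F)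
    {χ : SL2F → ℂ} (hχ : IsIrrCharacter SL2F χ) (d : Fˣ) :
    (χ 1 = (Fintype.card F : ℂ) + 1 → χ (uSL 1) = 1 ∧ twC d χ = χ) ∧
    (χ 1 = (Fintype.card F : ℂ) → χ (uSL 1) = 0 ∧ twC d χ = χ) ∧
    (χ 1 = (Fintype.card F : ℂ) - 1 → χ (uSL 1) = -1 ∧ twC d χ = χ) := by
  classical
  obtain ⟨j, hj⟩ := id hodd
  have hj2 : 2 ≤ j := by omega
  have hqC : (Fintype.card F : ℂ) = 2 * (j : ℂ) + 1 := by rw [hj]; push_cast; ring
  have hcf : ∀ ψ : GL (Fin 2) F → ℂ, IsIrrCharacter (GL (Fin 2) F) ψ →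
      IsClassFunction (GL (Fin 2) F) ψ := fun ψ hψ =>
    Cfsg.Agent.Helper74.isClassFunction_of_isCharacter (Cfsg.Agent.Helper74.isCharacter_of_isIrr hψ)
  refine ⟨?_, ?_, ?_⟩
  · intro h1
    obtain ⟨ψ, hψ, hψ1, hres⟩ := exists_restrict_of_degree hodd hq hχ (Or.inl h1)
    refine ⟨?_, twC_eq_of_restrict (hcf ψ hψ) hres d⟩
    have hA : ψ 1 = ((2 * j + 2 : ℕ) : ℂ) := by rw [hψ1, h1, hqC]; push_cast; ring
    rw [hres, toGL_uSL_one]
    rcases classification ψ hψ with ⟨μ, rfl⟩ | ⟨μ, rfl⟩ | ⟨α, β, hαβ, rfl⟩ | ⟨hd, hval, -⟩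
    · exfalso
      have hB : detFun μ 1 = ((1 : ℕ) : ℂ) := by rw [detFun_one]; simp
      have : 2 * j + 2 = 1 := by exact_mod_cast hA.symm.trans hB
      omega
    · exfalso
      have hB : stFun μ 1 = ((2 * j + 1 : ℕ) : ℂ) := by rw [stFun_one, hqC]; push_cast; ring
      have : 2 * j + 2 = 2 * j + 1 := by exact_mod_cast hA.symm.trans hB
      omega
    · exact piFun_uElt α β
    · exfalso
      have hB : ψ 1 = ((2 * j : ℕ) : ℂ) := by rw [hd, hqC]; push_cast; ring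
      have : 2 * j + 2 = 2 * j := by exact_mod_cast hA.symm.trans hB
      omega
  · intro h1
    obtain ⟨ψ, hψ, hψ1, hres⟩ := exists_restrict_of_degree hodd hq hχ (Or.inr (Or.inl h1))
    refine ⟨?_, twC_eq_of_restrict (hcf ψ hψ) hres d⟩
    have hA : ψ 1 = ((2 * j + 1 : ℕ) : ℂ) := by rw [hψ1, h1, hqC]; push_cast; ring
    rw [hres, toGL_uSL_one]
    rcases classification ψ hψ with ⟨μ, rfl⟩ | ⟨μ, rfl⟩ | ⟨α, β, hαβ, rfl⟩ | ⟨hd, hval, -⟩
    · exfalso
      have hB : detFun μ 1 = ((1 : ℕ) : ℂ) := by rw [detFun_one]; simp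
      have : 2 * j + 1 = 1 := by exact_mod_cast hA.symm.trans hB
      omega
    · rw [← toGL_uSL_one]
      apply stFun_of_unipotent
      · rw [toGL_apply, uSL_00]
      · rw [toGL_apply, uSL_01]
      · rw [toGL_apply, uSL_10]
      · rw [toGL_apply, uSL_11]
    · exfalso
      have hB : piFun α β 1 = ((2 * j + 2 : ℕ) : ℂ) := by rw [piFun_one, hqC]; push_cast; ring
      have : 2 * j + 1 = 2 * j + 2 := by exact_mod_cast hA.symm.trans hB
      omega
    · exfalso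
      have hB : ψ 1 = ((2 * j : ℕ) : ℂ) := by rw [hd, hqC]; push_cast; ring
      have : 2 * j + 1 = 2 * j := by exact_mod_cast hA.symm.trans hB
      omega
  · intro h1
    obtain ⟨ψ, hψ, hψ1, hres⟩ := exists_restrict_of_degree hodd hq hχ (Or.inr (Or.inr h1))
    refine ⟨?_, twC_eq_of_restrict (hcf ψ hψ) hres d⟩
    have hA : ψ 1 = ((2 * j : ℕ) : ℂ) := by rw [hψ1, h1, hqC]; push_cast; ring
    rw [hres, toGL_uSL_one]
    rcases classification ψ hψ with ⟨μ, rfl⟩ | ⟨μ, rfl⟩ | ⟨α, β, hαβ, rfl⟩ | ⟨hd, hval, -⟩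
    · exfalso
      have hB : detFun μ 1 = ((1 : ℕ) : ℂ) := by rw [detFun_one]; simp
      have : 2 * j = 1 := by exact_mod_cast hA.symm.trans hB
      omega
    · exfalso
      have hB : stFun μ 1 = ((2 * j + 1 : ℕ) : ℂ) := by rw [stFun_one, hqC]; push_cast; ring
      have : 2 * j = 2 * j + 1 := by exact_mod_cast hA.symm.trans hB
      omega
    · exfalso
      have hB : piFun α β 1 = ((2 * j + 2 : ℕ) : ℂ) := by rw [piFun_one, hqC]; push_cast; ring
      have : 2 * j = 2 * j + 2 := by exact_mod_cast hA.symm.trans hB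
      omega
    · exact hval

end lib

theorem result {F : Type*} [Field F] [Fintype F] [DecidableEq F] (hodd : Odd (Fintype.card F)) (hq : 5 ≤ Fintype.card F)
    (χ : Matrix.SpecialLinearGroup (Fin 2) F → ℂ) (hχ : Cfsg.IsIrrCharacter (Matrix.SpecialLinearGroup (Fin 2) F) χ) :
    (χ 1 = (Fintype.card F : ℂ) + 1 →
      (∑ g : Matrix.SpecialLinearGroup (Fin 2) F, if (g : Matrix (Fin 2) (Fin 2) F) 1 0 = 0 ∧ (g : Matrix (Fin 2) (Fin 2) F) 0 0 = 1 ∧ (g : Matrix (Fin 2) (Fin 2) F) 1 1 = 1 then χ g else 0) = 2 * (Fintype.card F : ℂ)) ∧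
    (χ 1 = (Fintype.card F : ℂ) →
      (∑ g : Matrix.SpecialLinearGroup (Fin 2) F, if (g : Matrix (Fin 2) (Fin 2) F) 1 0 = 0 ∧ (g : Matrix (Fin 2) (Fin 2) F) 0 0 = 1 ∧ (g : Matrix (Fin 2) (Fin 2) F) 1 1 = 1 then χ g else 0) = (Fintype.card F : ℂ)) ∧
    (χ 1 = (Fintype.card F : ℂ) - 1 →
      (∑ g : Matrix.SpecialLinearGroup (Fin 2) F, if (g : Matrix (Fin 2) (Fin 2) F) 1 0 = 0 ∧ (g : Matrix (Fin 2) (Fin 2) F) 0 0 = 1 ∧ (g : Matrix (Fin 2) (Fin 2) F) 1 1 = 1 then χ g else 0) = 0) ∧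
    (χ 1 = (((Fintype.card F + 1) / 2 : ℕ) : ℂ) →
      (∑ g : Matrix.SpecialLinearGroup (Fin 2) F, if (g : Matrix (Fin 2) (Fin 2) F) 1 0 = 0 ∧ (g : Matrix (Fin 2) (Fin 2) F) 0 0 = 1 ∧ (g : Matrix (Fin 2) (Fin 2) F) 1 1 = 1 then χ g else 0) = (Fintype.card F : ℂ)) ∧
    (χ 1 = (((Fintype.card F - 1) / 2 : ℕ) : ℂ) →
      (∑ g : Matrix.SpecialLinearGroup (Fin 2) F, if (g : Matrix (Fin 2) (Fin 2) F) 1 0 = 0 ∧ (g : Matrix (Fin 2) (Fin 2) F) 0 0 = 1 ∧ (g : Matrix (Fin 2) (Fin 2) F) 1 1 = 1 then χ g else 0) = 0) := by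
  classical
  obtain ⟨a, ha⟩ := FiniteField.exists_nonsquare (ringChar_ne_two_of_odd hodd)
  have ha0 : a ≠ 0 := by
    rintro rfl
    exact ha ⟨0, by simp⟩
  obtain ⟨ν, hνa⟩ : ∃ ν : Fˣ, (ν : F) = a := ⟨Units.mk0 a ha0, rfl⟩
  have hν : ¬ IsSquare (ν : F) := by rw [hνa]; exact ha
  have hχc : IsCharacter (Matrix.SpecialLinearGroup (Fin 2) F) χ :=
    Cfsg.Agent.Helper74.isCharacter_of_isIrr hχ
  have hχcf : IsClassFunction (Matrix.SpecialLinearGroup (Fin 2) F) χ :=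
    Cfsg.Agent.Helper74.isClassFunction_of_isCharacter hχc
  have hsum := sum_uSL hodd hν hχcf
  rw [sum_unitriangular]
  obtain ⟨h1, h2, h3⟩ := apply_uSL_one_of_degree hodd hq hχ ν
  obtain ⟨j, hj⟩ := id hodd
  have hj2 : 2 ≤ j := by omega
  have hqC : (Fintype.card F : ℂ) = 2 * (j : ℂ) + 1 := by rw [hj]; push_cast; ring
  have htwo : (2 : ℂ) ≠ 0 := two_ne_zero
  refine ⟨?_, ?_, ?_, ?_, ?_⟩
  · intro hd
    obtain ⟨hA, hB⟩ := h1 hd
    rw [hB, hA, hd] at hsum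
    apply mul_left_cancel₀ htwo
    rw [hsum]; ring
  · intro hd
    obtain ⟨hA, hB⟩ := h2 hd
    rw [hB, hA, hd] at hsum
    apply mul_left_cancel₀ htwo
    rw [hsum]; ring
  · intro hd
    obtain ⟨hA, hB⟩ := h3 hd
    rw [hB, hA, hd] at hsum
    apply mul_left_cancel₀ htwo
    rw [hsum]; ring
  · intro hd
    obtain ⟨α, β, hαβ, d, hdχ, hres⟩ := half_plus hodd hq hχ hd
    have hdns : ¬ IsSquare (d : F) := fun hsq => hdχ (twC_of_isSquare hsq hχcf)
    have hAB : χ (uSL 1) + twC ν χ (uSL 1) = 1 := by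
      rw [← twC_eq_of_not_isSquare hodd hν hdns hχcf, ← hres, toGL_uSL_one, piFun_uElt]
    rw [hAB, hd] at hsum
    apply mul_left_cancel₀ htwo
    rw [hsum, hqC]
    have : (Fintype.card F + 1) / 2 = j + 1 := by omega
    rw [this]; push_cast; ring
  · intro hd
    obtain ⟨d, hdχ, hval⟩ := half_minus hodd hq hχ hd
    have hdns : ¬ IsSquare (d : F) := fun hsq => hdχ (twC_of_isSquare hsq hχcf)
    have hAB : χ (uSL 1) + twC ν χ (uSL 1) = -1 := by
      rw [← twC_eq_of_not_isSquare hodd hν hdns hχcf]; exact hval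
    rw [hAB, hd] at hsum
    apply mul_left_cancel₀ htwo
    rw [hsum, hqC]
    have : (Fintype.card F - 1) / 2 = j := by omega
    rw [this]; push_cast; ring

end Cfsg.Agent.S2438
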