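-- Statement S2434: the cuspidal characters of degree q - 1 of SL₂(q), q odd.
import Cfsg.Statements.S2434
import Cfsg.Agent.Helper41.TorusInd
import Cfsg.Agent.Helper41.CuspChar
import Cfsg.Agent.Helper41.BorelInd
import Cfsg.Agent.Helper80.Linear
import Cfsg.Agent.S2435
import Cfsg.Agent.S2438
import Cfsg.Agent.S2322
import Cfsg.Agent.S2433

set_option autoImplicit false
open Cfsg

namespace Cfsg.Agent.S2434

open Matrix Cfsg.Agent.Helper39 Cfsg.Agent.Helper41 Cfsg.Agent.Helper42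
open scoped ComplexConjugate

section lib

variable {F : Type*} [Field F] [Fintype F] [DecidableEq F]

local notation "SL2F" => Matrix.SpecialLinearGroup (Fin 2) F
local notation "M2F" => Matrix (Fin 2) (Fin 2) F

/-- The basic data of an irreducible character of degree `q - 1`, `q ≥ 5`. -/
theorem cusp_data (hodd : Odd (Fintype.card F)) (hq : 5 ≤ Fintype.card F) (ν : Fˣ)
    {χ : SL2F → ℂ} (hχ : IsIrrCharacter SL2F χ) (h1 : χ 1 = (Fintype.card F : ℂ) - 1) :
    (∀ t : F, t ^ 2 ≠ 4 → rootCount t ≠ 0 → χ (cSL t) = 0) ∧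
    χ (uSL 1) = -1 ∧ χ (uSL (ν : F)) = -1 := by
  classical
  have hχcf : IsClassFunction SL2F χ :=
    Cfsg.Agent.Helper74.isClassFunction_of_isCharacter (Cfsg.Agent.Helper74.isCharacter_of_isIrr hχ)
  have h := (Cfsg.Agent.S2438.apply_uSL_one_of_degree hodd hq hχ ν).2.2 h1
  refine ⟨?_, h.1, ?_⟩
  · intro t ht h0
    obtain ⟨a, hne, hconj⟩ := Cfsg.Agent.S2435.exists_diag_of_rootCount_ne_zero hodd t ht h0
    obtain ⟨n, hn⟩ := isConj_iff.mp hconj
    have h3 : χ (cSL t) = χ (diagSL a) := by rw [← hn, hχcf]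
    rw [h3]
    refine (Cfsg.Agent.S2322.result hodd χ hχ (diagSL a)).1 (Or.inl h1) rfl rfl ?_
    intro h2
    apply hne
    have h2' : (a : F) * (a : F) = 1 := by
      rw [← pow_two]; exact h2
    rw [Units.val_inv_eq_inv_val]
    exact eq_inv_of_mul_eq_one_right h2'
  · have hB : twC ν χ (uSL 1) = χ (uSL (ν : F)) := by
      rw [twC_apply, twistFun_uSL, mul_one]
    rw [← hB, h.2]
    exact h.1

/-- Sums of an irreducible character of degree `q - 1` over the elliptic classes. -/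
theorem cusp_sums (hodd : Odd (Fintype.card F)) (hq : 5 ≤ Fintype.card F)
    {χ : SL2F → ℂ} (hχ : IsIrrCharacter SL2F χ) (h1 : χ 1 = (Fintype.card F : ℂ) - 1)
    (ε : ℂ) (hε : ε = 1 ∨ ε = -1) (hεχ : ∀ a, χ (zSL * a) = ε * χ a) :
    ∑ t ∈ Finset.univ.filter (fun t : F => rootCount t = 0), χ (cSL t) * conj (χ (cSL t)) =
      (Fintype.card F : ℂ) - 3 ∧
    ∑ t ∈ Finset.univ.filter (fun t : F => rootCount t = 0), χ (cSL t) = 1 + ε := by
  classical
  have hχc : IsCharacter SL2F χ := Cfsg.Agent.Helper74.isCharacter_of_isIrr hχ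
  have hχcf : IsClassFunction SL2F χ := Cfsg.Agent.Helper74.isClassFunction_of_isCharacter hχc
  have h2 : (2 : F) ≠ 0 := Ring.two_ne_zero (ringChar_ne_two_of_odd hodd)
  obtain ⟨ν0, hν0⟩ := FiniteField.exists_nonsquare (ringChar_ne_two_of_odd hodd)
  have hν00 : ν0 ≠ 0 := by
    rintro rfl
    exact hν0 ⟨0, by ring⟩
  obtain ⟨ν, hνdef⟩ : ∃ ν : Fˣ, ν = Units.mk0 ν0 hν00 := ⟨_, rfl⟩
  have hν : ¬ IsSquare (ν : F) := by rw [hνdef]; exact hν0
  obtain ⟨hsplit, hA, hB⟩ := cusp_data hodd hq ν hχ h1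
  have hεε : ε * ε = 1 := by rcases hε with rfl | rfl <;> ring
  have hεc : conj ε = ε := by rcases hε with rfl | rfl <;> simp
  have hf2 : IsClassFunction SL2F (fun s => χ s * conj (χ s)) := by
    intro a b
    show χ (b * a * b⁻¹) * conj (χ (b * a * b⁻¹)) = χ a * conj (χ a)
    rw [hχcf a b]
  have hS2 := sl2_class_sum_of_vanish hodd hν (fun s => χ s * conj (χ s)) hf2 (by
    intro t ht h0
    show χ (cSL t) * conj (χ (cSL t)) = 0
    rw [hsplit t ht h0, zero_mul])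
  have hS1 := sl2_class_sum_of_vanish hodd hν χ hχcf hsplit
  have hz : χ zSL = ε * ((Fintype.card F : ℂ) - 1) := by
    have := hεχ 1
    rwa [mul_one, h1] at this
  have h1c : conj ((Fintype.card F : ℂ) - 1) = (Fintype.card F : ℂ) - 1 := by
    rw [map_sub, Complex.conj_natCast, map_one]
  simp only [hεχ, hz, h1, hA, hB, map_mul, hεc, h1c, map_neg, map_one] at hS2 hS1
  have hG : (Nat.card SL2F : ℂ) = (Fintype.card F : ℂ) * ((Fintype.card F : ℂ) ^ 2 - 1) := by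
    rw [Cfsg.Agent.Helper5.card_SL2]
    have : 1 ≤ Fintype.card F ^ 2 := Nat.one_le_pow _ _ Fintype.card_pos
    push_cast [Nat.cast_sub this]
    ring
  have hG0 : (Nat.card SL2F : ℂ) ≠ 0 := by exact_mod_cast Nat.card_pos.ne'
  have hT2 : ∑ s : SL2F, χ s * conj (χ s) = (Nat.card SL2F : ℂ) := by
    have := Cfsg.Agent.Helper74.irr_inner_self (⟨χ, hχ⟩ : IrrCharacter SL2F)
    rw [Cfsg.Agent.Helper74.classInner_def] at this
    field_simp at this
    exact this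
  have hone : IsIrrCharacter SL2F (fun _ => (1 : ℂ)) := by
    have := Cfsg.Agent.Helper80.isIrrCharacter_of_monoidHom (1 : SL2F →* ℂˣ)
    simpa using this
  have hq1 : (Fintype.card F : ℂ) - 1 ≠ 0 := by
    have : (Fintype.card F : ℂ) - 1 = ((Fintype.card F - 1 : ℕ) : ℂ) := by
      rw [Nat.cast_sub (by omega)]; simp
    rw [this]
    exact_mod_cast (by omega : Fintype.card F - 1 ≠ 0)
  have hq0 : (Fintype.card F : ℂ) ≠ 0 := by
    exact_mod_cast (by omega : Fintype.card F ≠ 0)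
  have hT1 : ∑ s : SL2F, χ s = 0 := by
    have hne : (⟨χ, hχ⟩ : IrrCharacter SL2F) ≠ ⟨fun _ => (1 : ℂ), hone⟩ := by
      intro h
      have h' := congrArg (fun x : IrrCharacter SL2F => (x : SL2F → ℂ) 1) h
      simp only [] at h'
      rw [h1] at h'
      have : (Fintype.card F : ℂ) = ((2 : ℕ) : ℂ) := by push_cast; linear_combination h'
      have := Nat.cast_injective this
      omega
    have := Cfsg.Agent.Helper74.irr_inner_ne hne
    rw [Cfsg.Agent.Helper74.classInner_def] at this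
    simp only [map_one, mul_one] at this
    rcases mul_eq_zero.mp this with h | h
    · exact absurd (inv_eq_zero.mp h) hG0
    · exact h
  rw [hT2, hG] at hS2
  rw [hT1] at hS1
  set E2 := ∑ t ∈ Finset.univ.filter (fun t : F => rootCount t = 0), χ (cSL t) * conj (χ (cSL t))
  set E1 := ∑ t ∈ Finset.univ.filter (fun t : F => rootCount t = 0), χ (cSL t)
  constructor
  · have key : (Fintype.card F : ℂ) * ((Fintype.card F : ℂ) - 1) *
        (E2 - ((Fintype.card F : ℂ) - 3)) = 0 := by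
      linear_combination (-1 : ℂ) * hS2 +
        (-(((Fintype.card F : ℂ) - 1) ^ 2 + ((Fintype.card F : ℂ) ^ 2 - 1))) * hεε
    rcases mul_eq_zero.mp key with h | h
    · rcases mul_eq_zero.mp h with h | h
      · exact absurd h hq0
      · exact absurd h hq1
    · exact sub_eq_zero.mp h
  · have key : (Fintype.card F : ℂ) * ((Fintype.card F : ℂ) - 1) * (E1 - (1 + ε)) = 0 := by
      linear_combination (-1 : ℂ) * hS1
    rcases mul_eq_zero.mp key with h | h
    · rcases mul_eq_zero.mp h with h | h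
      · exact absurd h hq0
      · exact absurd h hq1
    · exact sub_eq_zero.mp h

/-- Part B for `q ≥ 5`: the restriction of a character of degree `q - 1` to a non-split torus. -/
theorem part_B_ge5 (hodd : Odd (Fintype.card F)) (hq : 5 ≤ Fintype.card F) (g₀ : SL2F)
    (hrc : rootCount ((g₀ : M2F).trace) = 0)
    {χ : SL2F → ℂ} (hχ : IsIrrCharacter SL2F χ) (h1 : χ 1 = (Fintype.card F : ℂ) - 1) :
    ∃ θ : Subgroup.centralizer ({g₀} : Set SL2F) →* ℂˣ, (∃ c, θ c ^ 2 ≠ 1) ∧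
      ∀ c : Subgroup.centralizer ({g₀} : Set SL2F), (c : SL2F) ≠ 1 → (c : SL2F) ≠ zSL →
        χ c = -(((θ c : ℂˣ) : ℂ) + (((θ c)⁻¹ : ℂˣ) : ℂ)) := by
  classical
  have h2 : (2 : F) ≠ 0 := Ring.two_ne_zero (ringChar_ne_two_of_odd hodd)
  obtain ⟨j, hj⟩ := id hodd
  have hj2 : 2 ≤ j := by omega
  have hqC : (Fintype.card F : ℂ) = 2 * (j : ℂ) + 1 := by rw [hj]; push_cast; ring
  have hχc : IsCharacter SL2F χ := Cfsg.Agent.Helper74.isCharacter_of_isIrr hχ
  have hχcf : IsClassFunction SL2F χ := Cfsg.Agent.Helper74.isClassFunction_of_isCharacter hχc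
  have htg : (g₀ : M2F).trace ^ 2 ≠ 4 := sq_ne_four_of_rootCount_eq_zero _ hrc
  have hgns := not_scalar_of_trace_sq_ne_four (g₀ : M2F) g₀.det_coe htg
  obtain ⟨ε, hε, hεχ⟩ := irr_central_sign hχ zSL zSL_comm Cfsg.Agent.S2435.zSL_mul_zSL
  obtain ⟨hE2, hE1⟩ := cusp_sums hodd hq hχ h1 ε hε hεχ
  have hεε : ε * ε = 1 := by rcases hε with rfl | rfl <;> ring
  have hεc : conj ε = ε := by rcases hε with rfl | rfl <;> simp
  have hz : χ zSL = ε * ((Fintype.card F : ℂ) - 1) := by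
    have := hεχ 1
    rwa [mul_one, h1] at this
  have h1c : conj ((Fintype.card F : ℂ) - 1) = (Fintype.card F : ℂ) - 1 := by
    rw [map_sub, Complex.conj_natCast, map_one]
  have hf2 : IsClassFunction SL2F (fun s => χ s * conj (χ s)) := by
    intro a b
    show χ (b * a * b⁻¹) * conj (χ (b * a * b⁻¹)) = χ a * conj (χ a)
    rw [hχcf a b]
  let _ : Fintype (Subgroup.centralizer ({g₀} : Set SL2F)) := Fintype.ofFinite _
  have hT2 := torus_sum hodd g₀ hrc (fun s => χ s * conj (χ s)) hf2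
  have hT1 := torus_sum hodd g₀ hrc χ hχcf
  simp only [hz, h1, map_mul, hεc, h1c] at hT2 hT1
  rw [hE2] at hT2
  rw [hE1] at hT1
  have hzmem : (zSL : SL2F) ∈ Subgroup.centralizer ({g₀} : Set SL2F) := by
    rw [Subgroup.mem_centralizer_singleton_iff]
    exact zSL_comm g₀
  have hcomm : ∀ a b : Subgroup.centralizer ({g₀} : Set SL2F), a * b = b * a := by
    intro a b
    apply Subtype.ext
    exact sl2_centralizer_comm g₀ a b hgns a.2 b.2
  have : IsCyclic (Subgroup.centralizer ({g₀} : Set SL2F)) :=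
    Cfsg.Agent.Helper42.isCyclic_centralizer g₀
      (Cfsg.Agent.S2429.isNonScalarMat_of_not_scalar _ hgns) hrc
  have hcard : Nat.card (Subgroup.centralizer ({g₀} : Set SL2F)) = 2 * (j + 1) := by
    rw [Cfsg.Agent.S2429.card_centralizer_of_rootCount_eq_zero h2 (Nat.odd_iff.mp hodd) g₀ hrc]
    omega
  have hreal : ∀ a : Subgroup.centralizer ({g₀} : Set SL2F), conj (χ a) = χ a := by
    intro a
    by_cases ha1 : (a : SL2F) = 1
    · rw [ha1, h1, h1c]
    by_cases haz : (a : SL2F) = zSL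
    · rw [haz, hz, map_mul, hεc, h1c]
    have hns := isNonScalarSL_of_ne (a : SL2F) ha1 haz
    have hr := rootCount_trace_eq_zero_of_mem_centralizer hodd g₀ a hrc a.2 hns
    obtain ⟨w, hw⟩ := sl2_exists_conj_eq_inv (Nat.odd_iff.mp hodd) h2 (a : SL2F)
      (sq_ne_four_of_rootCount_eq_zero _ hr)
    rw [← Cfsg.Agent.Helper74.char_inv hχc, ← hw, hχcf]
  obtain ⟨θ, hθ2, -, hθ⟩ := cusp_char_on_cyclic hcomm (j + 1) hcard ⟨zSL, hzmem⟩
    (by
      intro h
      exact zSL_ne_one h2 (congrArg Subtype.val h))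
    (by
      apply Subtype.ext
      exact Cfsg.Agent.S2435.zSL_mul_zSL) ε hε
    (Cfsg.Agent.Helper74.isCharacter_restrict (Subgroup.centralizer ({g₀} : Set SL2F)) hχc)
    (by
      show χ 1 = 2 * ((j + 1 : ℕ) : ℂ) - 2
      rw [h1, hqC]; push_cast; ring)
    (by
      show χ zSL = ε * (2 * ((j + 1 : ℕ) : ℂ) - 2)
      rw [hz, hqC]; push_cast; ring)
    hreal
    (by
      rw [hT2, hqC]; push_cast
      linear_combination (4 * (j : ℂ) ^ 2) * hεε)
    (by
      rw [hT1, hqC]; push_cast; ring)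
  refine ⟨θ, hθ2, ?_⟩
  intro c hc1 hcz
  exact hθ c (fun h => hc1 (congrArg Subtype.val h)) (fun h => hcz (congrArg Subtype.val h))

omit [Fintype F] [DecidableEq F] in
/-- An element of trace zero squares to `-1`. -/
theorem mul_self_of_trace_zero (c : SL2F) (ht : (c : M2F).trace = 0) : c * c = zSL := by
  have hdet := c.det_coe
  rw [Matrix.det_fin_two] at hdet
  rw [Matrix.trace_fin_two] at ht
  have hd : (c : M2F) 1 1 = -(c : M2F) 0 0 := by linear_combination ht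
  apply sl2_ext
  · rw [sl2_mul_00, zSL_00]
    rw [hd] at hdet
    linear_combination -hdet
  · rw [sl2_mul_01, zSL_01, hd]; ring
  · rw [sl2_mul_10, zSL_10, hd]; ring
  · rw [sl2_mul_11, zSL_11]
    rw [hd] at hdet ⊢
    linear_combination -hdet

/-- Part B for `q = 3`. -/
theorem part_B_three (hodd : Odd (Fintype.card F)) (h3 : Fintype.card F = 3) (g₀ : SL2F)
    (hrc : rootCount ((g₀ : M2F).trace) = 0)
    {χ : SL2F → ℂ} (hχ : IsIrrCharacter SL2F χ) (h1 : χ 1 = (Fintype.card F : ℂ) - 1) :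
    ∃ θ : Subgroup.centralizer ({g₀} : Set SL2F) →* ℂˣ, (∃ c, θ c ^ 2 ≠ 1) ∧
      ∀ c : Subgroup.centralizer ({g₀} : Set SL2F), (c : SL2F) ≠ 1 → (c : SL2F) ≠ zSL →
        χ c = -(((θ c : ℂˣ) : ℂ) + (((θ c)⁻¹ : ℂˣ) : ℂ)) := by
  classical
  have h2 : (2 : F) ≠ 0 := Ring.two_ne_zero (ringChar_ne_two_of_odd hodd)
  have htg : (g₀ : M2F).trace ^ 2 ≠ 4 := sq_ne_four_of_rootCount_eq_zero _ hrc
  have hgns := not_scalar_of_trace_sq_ne_four (g₀ : M2F) g₀.det_coe htg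
  have hcyc : IsCyclic (Subgroup.centralizer ({g₀} : Set SL2F)) :=
    Cfsg.Agent.Helper42.isCyclic_centralizer g₀
      (Cfsg.Agent.S2429.isNonScalarMat_of_not_scalar _ hgns) hrc
  have hzmem : (zSL : SL2F) ∈ Subgroup.centralizer ({g₀} : Set SL2F) := by
    rw [Subgroup.mem_centralizer_singleton_iff]
    exact zSL_comm g₀
  have hgmem : g₀ ∈ Subgroup.centralizer ({g₀} : Set SL2F) := by
    rw [Subgroup.mem_centralizer_singleton_iff]
  have hz1 : (⟨zSL, hzmem⟩ : Subgroup.centralizer ({g₀} : Set SL2F)) ≠ 1 := by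
    intro h
    exact zSL_ne_one h2 (congrArg Subtype.val h)
  -- a primitive root of unity
  have hn0 : Nat.card (Subgroup.centralizer ({g₀} : Set SL2F)) ≠ 0 := Nat.card_pos.ne'
  have hprim := Complex.isPrimitiveRoot_exp _ hn0
  obtain ⟨θ, hθz⟩ := IsCyclic.exists_apply_ne_one (G' := ℂˣ)
    ⟨Units.mk0 _ (Complex.exp_ne_zero _), IsPrimitiveRoot.coe_units_iff.mp hprim⟩ hz1
  have hθz2 : ((θ ⟨zSL, hzmem⟩ : ℂˣ) : ℂ) * ((θ ⟨zSL, hzmem⟩ : ℂˣ) : ℂ) = 1 := by
    rw [← Units.val_mul, ← map_mul]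
    have : (⟨zSL, hzmem⟩ : Subgroup.centralizer ({g₀} : Set SL2F)) * ⟨zSL, hzmem⟩ = 1 := by
      apply Subtype.ext
      exact Cfsg.Agent.S2435.zSL_mul_zSL
    rw [this, map_one, Units.val_one]
  have hθz' : ((θ ⟨zSL, hzmem⟩ : ℂˣ) : ℂ) = -1 := by
    have hfac : (((θ ⟨zSL, hzmem⟩ : ℂˣ) : ℂ) - 1) * (((θ ⟨zSL, hzmem⟩ : ℂˣ) : ℂ) + 1) = 0 := by
      linear_combination hθz2
    rcases mul_eq_zero.mp hfac with h | h
    · exfalso
      apply hθz
      apply Units.ext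
      rw [Units.val_one]
      linear_combination h
    · linear_combination h
  -- elements of trace zero
  have hsq : ∀ t : F, t ≠ 0 → t ^ 2 = 1 := by
    intro t ht0
    have := FiniteField.pow_card_sub_one_eq_one t ht0
    rwa [h3] at this
  have h3F : (3 : F) = 0 := by
    have := FiniteField.cast_card_eq_zero F
    rw [h3] at this
    exact_mod_cast this
  have htr0 : ∀ c : SL2F, rootCount ((c : M2F).trace) = 0 → (c : M2F).trace = 0 := by
    intro c hc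
    by_contra hne
    apply (rootCount_eq_zero_iff_not_isSquare h2 _).mp hc
    rw [hsq _ hne]
    exact ⟨0, by linear_combination -h3F⟩
  have hval : ∀ c : Subgroup.centralizer ({g₀} : Set SL2F), (c : SL2F) ≠ 1 → (c : SL2F) ≠ zSL →
      ((θ c : ℂˣ) : ℂ) * ((θ c : ℂˣ) : ℂ) = -1 ∧ χ c = 0 := by
    intro c hc1 hcz
    have hns := isNonScalarSL_of_ne (c : SL2F) hc1 hcz
    have hr := rootCount_trace_eq_zero_of_mem_centralizer hodd g₀ c hrc c.2 hns
    constructor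
    · rw [← Units.val_mul, ← map_mul]
      have : c * c = ⟨zSL, hzmem⟩ := by
        apply Subtype.ext
        exact mul_self_of_trace_zero (c : SL2F) (htr0 _ hr)
      rw [this, hθz']
    · refine (Cfsg.Agent.S2322.result hodd χ hχ (c : SL2F)).2 (Or.inr ?_)
        (no_eigen_of_rootCount_eq_zero _ hr)
      rw [h1, h3]
      norm_num
  have hg1 : g₀ ≠ 1 := by
    rintro rfl
    apply htg
    simp
    norm_num
  have hgz : g₀ ≠ zSL := by
    rintro rfl
    apply htg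
    rw [trace_zSL]; norm_num
  refine ⟨θ, ⟨⟨g₀, hgmem⟩, ?_⟩, ?_⟩
  · intro h
    have h' := (hval ⟨g₀, hgmem⟩ hg1 hgz).1
    have h'' : ((θ ⟨g₀, hgmem⟩ : ℂˣ) : ℂ) ^ 2 = 1 := by
      rw [← Units.val_pow_eq_pow_val, h, Units.val_one]
    rw [pow_two, h'] at h''
    norm_num at h''
  · intro c hc1 hcz
    obtain ⟨hsq', hχ0⟩ := hval c hc1 hcz
    rw [hχ0, Units.val_inv_eq_inv_val]
    have hinv : (((θ c : ℂˣ) : ℂ))⁻¹ = -((θ c : ℂˣ) : ℂ) := by
      apply inv_eq_of_mul_eq_one_right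
      linear_combination -hsq'
    rw [hinv]
    ring

/-! ### The construction of the cuspidal characters -/

/-- The principal series function `R(α)`. -/
noncomputable def Rfun (α : MulChar F ℂ) : SL2F → ℂ := indFun (BSL F) (borelTheta α)

theorem isCharacter_Rfun (α : MulChar F ℂ) : IsCharacter SL2F (Rfun α) := by
  apply Cfsg.Agent.Helper15.isCharacter_indFun
  exact (Cfsg.Agent.Helper15.isCharacter_of_hom
    ({ toFun := borelTheta α, map_one' := borelTheta_one α,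
       map_mul' := borelTheta_mul α } : BSL F →* ℂ)).1

theorem Rfun_values (hodd : Odd (Fintype.card F)) (α : MulChar F ℂ) (g : SL2F) :
    ((g : M2F) 0 1 = 0 → (g : M2F) 1 0 = 0 → (g : M2F) 0 0 ^ 2 ≠ 1 →
      Rfun α g = α ((g : M2F) 0 0) + α ((g : M2F) 1 1)) ∧
    ((∀ (c : F) (v : Fin 2 → F), v ≠ 0 → (g : M2F).mulVec v ≠ c • v) → Rfun α g = 0) ∧
    ((g : M2F) 1 0 = 0 → (g : M2F) 0 0 = (g : M2F) 1 1 → (g : M2F) 0 1 ≠ 0 →
      Rfun α g = α ((g : M2F) 0 0)) ∧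
    ((g : M2F) 0 1 = 0 → (g : M2F) 1 0 = 0 → (g : M2F) 0 0 = (g : M2F) 1 1 →
      Rfun α g = ((Fintype.card F : ℂ) + 1) * α ((g : M2F) 0 0)) :=
  Cfsg.Agent.S2433.result hodd α g

theorem zSL_mem_BSL : (zSL : SL2F) ∈ BSL F := (mem_BSL_iff _).mpr zSL_10

theorem Rfun_zSL_mul (α : MulChar F ℂ) (g : SL2F) : Rfun α (zSL * g) = α (-1) * Rfun α g := by
  apply indFun_central_mul (BSL F) zSL zSL_mem_BSL zSL_comm
  intro h
  rw [borelTheta_mul]
  congr 1

theorem Rfun_one (hodd : Odd (Fintype.card F)) (α : MulChar F ℂ) :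
    Rfun α 1 = (Fintype.card F : ℂ) + 1 := by
  have := (Rfun_values hodd α 1).2.2.2 (by simp) (by simp) (by simp)
  rw [this]
  simp

/-- The function induced from a character of the non-split torus. -/
noncomputable def Ifun (g₀ : SL2F) (θ : Subgroup.centralizer ({g₀} : Set SL2F) →* ℂˣ) :
    SL2F → ℂ :=
  indFun (Subgroup.centralizer ({g₀} : Set SL2F)) (fun c => ((θ c : ℂˣ) : ℂ))

theorem isCharacter_Ifun (g₀ : SL2F) (θ : Subgroup.centralizer ({g₀} : Set SL2F) →* ℂˣ) :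
    IsCharacter SL2F (Ifun g₀ θ) := by
  apply Cfsg.Agent.Helper15.isCharacter_indFun
  exact Cfsg.Agent.Helper74.isCharacter_of_isIrr
    (Cfsg.Agent.Helper80.isIrrCharacter_of_monoidHom θ)

/-- The virtual character `R(1) R(α) - 2 R(α) - Ind θ`. -/
noncomputable def cuspFun (g₀ : SL2F) (θ : Subgroup.centralizer ({g₀} : Set SL2F) →* ℂˣ)
    (α : MulChar F ℂ) : SL2F → ℂ :=
  Rfun 1 * Rfun α - (Rfun α + Rfun α) - Ifun g₀ θ

theorem cuspFun_apply (g₀ : SL2F) (θ : Subgroup.centralizer ({g₀} : Set SL2F) →* ℂˣ)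
    (α : MulChar F ℂ) (g : SL2F) :
    cuspFun g₀ θ α g = Rfun 1 g * Rfun α g - (Rfun α g + Rfun α g) - Ifun g₀ θ g := rfl

theorem isGenChar_cuspFun (g₀ : SL2F) (θ : Subgroup.centralizer ({g₀} : Set SL2F) →* ℂˣ)
    (α : MulChar F ℂ) : IsGeneralizedCharacter SL2F (cuspFun g₀ θ α) := by
  unfold cuspFun
  exact Cfsg.Agent.Helper25.isGenChar_sub
    (Cfsg.Agent.Helper25.isGenChar_sub
      (Cfsg.Agent.Helper25.isGenChar_of_isCharacter
        (Cfsg.Agent.Helper74.isCharacter_mul (isCharacter_Rfun 1) (isCharacter_Rfun α)))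
      (Cfsg.Agent.Helper25.isGenChar_of_isCharacter
        (Cfsg.Agent.Helper74.isCharacter_add (isCharacter_Rfun α) (isCharacter_Rfun α))))
    (Cfsg.Agent.Helper25.isGenChar_of_isCharacter (isCharacter_Ifun g₀ θ))

theorem cuspFun_one (hodd : Odd (Fintype.card F)) (g₀ : SL2F)
    (hrc : rootCount ((g₀ : M2F).trace) = 0)
    (θ : Subgroup.centralizer ({g₀} : Set SL2F) →* ℂˣ) (α : MulChar F ℂ) :
    cuspFun g₀ θ α 1 = (Fintype.card F : ℂ) - 1 := by
  have h2 : (2 : F) ≠ 0 := Ring.two_ne_zero (ringChar_ne_two_of_odd hodd)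
  have hcard := Cfsg.Agent.S2429.card_centralizer_of_rootCount_eq_zero h2 (Nat.odd_iff.mp hodd)
    g₀ hrc
  have hidx := Subgroup.index_mul_card (Subgroup.centralizer ({g₀} : Set SL2F))
  rw [hcard, Cfsg.Agent.Helper5.card_SL2] at hidx
  have hidxC : ((Subgroup.centralizer ({g₀} : Set SL2F)).index : ℂ) * ((Fintype.card F : ℂ) + 1) =
      (Fintype.card F : ℂ) * ((Fintype.card F : ℂ) ^ 2 - 1) := by
    have h := congrArg (fun n : ℕ => (n : ℂ)) hidx
    have h1 : 1 ≤ Fintype.card F ^ 2 := Nat.one_le_pow _ _ Fintype.card_pos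
    simp only [Nat.cast_mul, Nat.cast_add, Nat.cast_one, Nat.cast_sub h1, Nat.cast_pow] at h
    exact h
  have hq1 : (Fintype.card F : ℂ) + 1 ≠ 0 := by
    have : (Fintype.card F : ℂ) + 1 = ((Fintype.card F + 1 : ℕ) : ℂ) := by push_cast; ring
    rw [this]
    exact_mod_cast Nat.succ_ne_zero (Fintype.card F)
  have hidx' : ((Subgroup.centralizer ({g₀} : Set SL2F)).index : ℂ) =
      (Fintype.card F : ℂ) * ((Fintype.card F : ℂ) - 1) := by
    apply mul_right_cancel₀ hq1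
    rw [hidxC]; ring
  rw [cuspFun_apply, Rfun_one hodd, Rfun_one hodd]
  unfold Ifun
  rw [Cfsg.Agent.Helper15.indFun_apply_one, hidx', map_one, Units.val_one]
  ring

theorem cuspFun_zSL_mul (g₀ : SL2F) (θ : Subgroup.centralizer ({g₀} : Set SL2F) →* ℂˣ)
    (α : MulChar F ℂ) (hzmem : (zSL : SL2F) ∈ Subgroup.centralizer ({g₀} : Set SL2F))
    (hα : α (-1) = ((θ ⟨zSL, hzmem⟩ : ℂˣ) : ℂ)) (g : SL2F) :
    cuspFun g₀ θ α (zSL * g) = ((θ ⟨zSL, hzmem⟩ : ℂˣ) : ℂ) * cuspFun g₀ θ α g := by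
  have hI : Ifun g₀ θ (zSL * g) = ((θ ⟨zSL, hzmem⟩ : ℂˣ) : ℂ) * Ifun g₀ θ g := by
    apply indFun_central_mul (Subgroup.centralizer ({g₀} : Set SL2F)) zSL hzmem zSL_comm
    intro h
    rw [map_mul, Units.val_mul]
  have h1 : (1 : MulChar F ℂ) (-1) = 1 :=
    MulChar.one_apply (isUnit_iff_ne_zero.mpr (neg_ne_zero.mpr one_ne_zero))
  rw [cuspFun_apply, cuspFun_apply, Rfun_zSL_mul, Rfun_zSL_mul, hI, h1, hα]
  ring

theorem cuspFun_unipotent (hodd : Odd (Fintype.card F)) (g₀ : SL2F)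
    (hrc : rootCount ((g₀ : M2F).trace) = 0)
    (θ : Subgroup.centralizer ({g₀} : Set SL2F) →* ℂˣ) (α : MulChar F ℂ) (g : SL2F)
    (h10 : (g : M2F) 1 0 = 0) (h00 : (g : M2F) 0 0 = 1) (h11 : (g : M2F) 1 1 = 1)
    (h01 : (g : M2F) 0 1 ≠ 0) : cuspFun g₀ θ α g = -1 := by
  have hR : ∀ β : MulChar F ℂ, Rfun β g = 1 := by
    intro β
    rw [(Rfun_values hodd β g).2.2.1 h10 (by rw [h00, h11]) h01, h00, map_one]
  have hI : Ifun g₀ θ g = 0 :=
    indFun_torus_of_upper hodd g₀ hrc _ g h10 (fun h => h01 h.1)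
  rw [cuspFun_apply, hR, hR, hI]
  ring

theorem cuspFun_split (hodd : Odd (Fintype.card F)) (g₀ : SL2F)
    (hrc : rootCount ((g₀ : M2F).trace) = 0)
    (θ : Subgroup.centralizer ({g₀} : Set SL2F) →* ℂˣ) (α : MulChar F ℂ) (g : SL2F)
    (h01 : (g : M2F) 0 1 = 0) (h10 : (g : M2F) 1 0 = 0) (ha : (g : M2F) 0 0 ^ 2 ≠ 1) :
    cuspFun g₀ θ α g = 0 := by
  have hdet : (g : M2F) 0 0 * (g : M2F) 1 1 = 1 := by
    have := g.det_coe
    rw [Matrix.det_fin_two, h01, zero_mul, sub_zero] at this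
    exact this
  have ha0 : (g : M2F) 0 0 ≠ 0 := by
    intro h
    rw [h, zero_mul] at hdet
    exact zero_ne_one hdet
  have hd0 : (g : M2F) 1 1 ≠ 0 := by
    intro h
    rw [h, mul_zero] at hdet
    exact zero_ne_one hdet
  have hne : (g : M2F) 0 0 ≠ (g : M2F) 1 1 := by
    intro h
    apply ha
    rw [pow_two]
    nth_rewrite 2 [h]
    exact hdet
  have hI : Ifun g₀ θ g = 0 :=
    indFun_torus_of_upper hodd g₀ hrc _ g h10 (fun h => hne h.2.2)
  rw [cuspFun_apply, (Rfun_values hodd 1 g).1 h01 h10 ha, (Rfun_values hodd α g).1 h01 h10 ha, hI,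
    MulChar.one_apply (isUnit_iff_ne_zero.mpr ha0), MulChar.one_apply (isUnit_iff_ne_zero.mpr hd0)]
  ring

theorem cuspFun_torus (hodd : Odd (Fintype.card F)) (g₀ : SL2F)
    (hrc : rootCount ((g₀ : M2F).trace) = 0)
    (θ : Subgroup.centralizer ({g₀} : Set SL2F) →* ℂˣ) (α : MulChar F ℂ)
    (c : Subgroup.centralizer ({g₀} : Set SL2F)) (hns : IsNonScalarSL (c : SL2F)) :
    cuspFun g₀ θ α c = -(((θ c : ℂˣ) : ℂ) + (((θ c)⁻¹ : ℂˣ) : ℂ)) := by
  have hr := rootCount_trace_eq_zero_of_mem_centralizer hodd g₀ c hrc c.2 hns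
  have hR : Rfun α c = 0 :=
    (Rfun_values hodd α c).2.1 (no_eigen_of_rootCount_eq_zero _ hr)
  have hI : Ifun g₀ θ c = ((θ c : ℂˣ) : ℂ) + ((θ c⁻¹ : ℂˣ) : ℂ) :=
    indFun_torus_apply hodd g₀ hrc _ c hns
  rw [cuspFun_apply, hR, hI, map_inv]
  ring

/-- The virtual character `cuspFun` has norm one. -/
theorem cuspFun_norm (hodd : Odd (Fintype.card F)) (g₀ : SL2F)
    (hrc : rootCount ((g₀ : M2F).trace) = 0)
    (θ : Subgroup.centralizer ({g₀} : Set SL2F) →* ℂˣ) (hθ2 : ∃ c, θ c ^ 2 ≠ 1)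
    (α : MulChar F ℂ) (hzmem : (zSL : SL2F) ∈ Subgroup.centralizer ({g₀} : Set SL2F))
    (hα : α (-1) = ((θ ⟨zSL, hzmem⟩ : ℂˣ) : ℂ)) :
    classInner (cuspFun g₀ θ α) (cuspFun g₀ θ α) = 1 := by
  classical
  have h2 : (2 : F) ≠ 0 := Ring.two_ne_zero (ringChar_ne_two_of_odd hodd)
  obtain ⟨ν0, hν0⟩ := FiniteField.exists_nonsquare (ringChar_ne_two_of_odd hodd)
  have hν00 : ν0 ≠ 0 := by
    rintro rfl
    exact hν0 ⟨0, by ring⟩
  obtain ⟨ν, hνdef⟩ : ∃ ν : Fˣ, ν = Units.mk0 ν0 hν00 := ⟨_, rfl⟩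
  have hν : ¬ IsSquare (ν : F) := by rw [hνdef]; exact hν0
  have hν0' : (ν : F) ≠ 0 := ν.ne_zero
  obtain ⟨ξ, hξdef⟩ : ∃ ξ : SL2F → ℂ, ξ = cuspFun g₀ θ α := ⟨_, rfl⟩
  rw [← hξdef]
  have hξcf : IsClassFunction SL2F ξ := by
    rw [hξdef]
    exact Cfsg.Agent.Helper25.isGenChar_isClassFunction (isGenChar_cuspFun g₀ θ α)
  obtain ⟨ε, hεdef⟩ : ∃ ε : ℂ, ε = ((θ ⟨zSL, hzmem⟩ : ℂˣ) : ℂ) := ⟨_, rfl⟩
  have hεε : ε * ε = 1 := by
    rw [hεdef, ← Units.val_mul, ← map_mul]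
    have : (⟨zSL, hzmem⟩ : Subgroup.centralizer ({g₀} : Set SL2F)) * ⟨zSL, hzmem⟩ = 1 := by
      apply Subtype.ext
      exact Cfsg.Agent.S2435.zSL_mul_zSL
    rw [this, map_one, Units.val_one]
  have hεc : conj ε = ε := by
    have hfac : (ε - 1) * (ε + 1) = 0 := by linear_combination hεε
    rcases mul_eq_zero.mp hfac with h | h
    · have : ε = 1 := by linear_combination h
      rw [this, map_one]
    · have : ε = -1 := by linear_combination h
      rw [this, map_neg, map_one]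
  have hξz : ∀ g, ξ (zSL * g) = ε * ξ g := by
    intro g
    rw [hξdef, hεdef]
    exact cuspFun_zSL_mul g₀ θ α hzmem hα g
  have hξ1 : ξ 1 = (Fintype.card F : ℂ) - 1 := by
    rw [hξdef]; exact cuspFun_one hodd g₀ hrc θ α
  have hξu : ∀ x : F, x ≠ 0 → ξ (uSL x) = -1 := by
    intro x hx
    rw [hξdef]
    exact cuspFun_unipotent hodd g₀ hrc θ α (uSL x) (uSL_10 x) (uSL_00 x) (uSL_11 x)
      (by rw [uSL_01]; exact hx)
  have hξsplit : ∀ t : F, t ^ 2 ≠ 4 → rootCount t ≠ 0 → ξ (cSL t) = 0 := by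
    intro t ht h0
    obtain ⟨a, hne, hconj⟩ := Cfsg.Agent.S2435.exists_diag_of_rootCount_ne_zero hodd t ht h0
    obtain ⟨n, hn⟩ := isConj_iff.mp hconj
    have h3 : ξ (cSL t) = ξ (diagSL a) := by rw [← hn, hξcf]
    rw [h3, hξdef]
    refine cuspFun_split hodd g₀ hrc θ α (diagSL a) rfl rfl ?_
    intro h2'
    apply hne
    have h2'' : (a : F) * (a : F) = 1 := by
      rw [← pow_two]; exact h2'
    rw [Units.val_inv_eq_inv_val]
    exact eq_inv_of_mul_eq_one_right h2''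
  have hξz1 : ξ zSL = ε * ((Fintype.card F : ℂ) - 1) := by
    have := hξz 1
    rwa [mul_one, hξ1] at this
  have h1c : conj ((Fintype.card F : ℂ) - 1) = (Fintype.card F : ℂ) - 1 := by
    rw [map_sub, Complex.conj_natCast, map_one]
  have hf : IsClassFunction SL2F (fun s => ξ s * conj (ξ s)) := by
    intro a b
    show ξ (b * a * b⁻¹) * conj (ξ (b * a * b⁻¹)) = ξ a * conj (ξ a)
    rw [hξcf a b]
  have hS := sl2_class_sum_of_vanish hodd hν (fun s => ξ s * conj (ξ s)) hf (by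
    intro t ht h0
    show ξ (cSL t) * conj (ξ (cSL t)) = 0
    rw [hξsplit t ht h0, zero_mul])
  let _ : Fintype (Subgroup.centralizer ({g₀} : Set SL2F)) := Fintype.ofFinite _
  have hT := torus_sum hodd g₀ hrc (fun s => ξ s * conj (ξ s)) hf
  simp only [hξz, hξz1, hξ1, hξu 1 one_ne_zero, hξu (ν : F) hν0', map_mul, hεc, h1c, map_neg,
    map_one] at hS hT
  -- the direct computation of the torus sum
  have hcard := Cfsg.Agent.S2429.card_centralizer_of_rootCount_eq_zero h2 (Nat.odd_iff.mp hodd)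
    g₀ hrc
  have hz1 : (⟨zSL, hzmem⟩ : Subgroup.centralizer ({g₀} : Set SL2F)) ≠ 1 := by
    intro h
    exact zSL_ne_one h2 (congrArg Subtype.val h)
  obtain ⟨c₁, hc₁⟩ := hθ2
  have hθ2ne : θ ^ 2 ≠ 1 := by
    intro h
    apply hc₁
    have := congrArg (fun φ : Subgroup.centralizer ({g₀} : Set SL2F) →* ℂˣ => φ c₁) h
    simpa using this
  have hθ2ne' : (θ ^ 2)⁻¹ ≠ 1 := by
    intro h
    apply hc₁
    have := congrArg (fun φ : Subgroup.centralizer ({g₀} : Set SL2F) →* ℂˣ => φ c₁) h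
    simp only [MonoidHom.inv_apply, MonoidHom.pow_apply, MonoidHom.one_apply] at this
    exact inv_eq_one.mp this
  have hsum1 := sum_hom_units (θ ^ 2) hθ2ne
  have hsum2 := sum_hom_units (θ ^ 2)⁻¹ hθ2ne'
  have hk : ∑ c : Subgroup.centralizer ({g₀} : Set SL2F),
      (((θ c : ℂˣ) : ℂ) ^ 2 + 2 + ((((θ c) ^ 2)⁻¹ : ℂˣ) : ℂ)) =
      2 * ((Fintype.card F : ℂ) + 1) := by
    rw [Finset.sum_add_distrib, Finset.sum_add_distrib]
    have e1 : ∑ c : Subgroup.centralizer ({g₀} : Set SL2F), ((θ c : ℂˣ) : ℂ) ^ 2 = 0 := by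
      rw [← hsum1]
      apply Finset.sum_congr rfl
      intro c _
      rw [MonoidHom.pow_apply, Units.val_pow_eq_pow_val]
    have e2 : ∑ c : Subgroup.centralizer ({g₀} : Set SL2F), ((((θ c) ^ 2)⁻¹ : ℂˣ) : ℂ) = 0 := by
      rw [← hsum2]
      apply Finset.sum_congr rfl
      intro c _
      rw [MonoidHom.inv_apply, MonoidHom.pow_apply]
    rw [e1, e2, Finset.sum_const, Finset.card_univ, ← Nat.card_eq_fintype_card, hcard]
    simp only [nsmul_eq_mul]
    push_cast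
    ring
  have hdiff : ∑ c : Subgroup.centralizer ({g₀} : Set SL2F),
      (ξ c * conj (ξ c) - (((θ c : ℂˣ) : ℂ) ^ 2 + 2 + ((((θ c) ^ 2)⁻¹ : ℂˣ) : ℂ))) =
      (((Fintype.card F : ℂ) - 1) * ((Fintype.card F : ℂ) - 1) - 4) +
      (ε * ((Fintype.card F : ℂ) - 1) * (ε * ((Fintype.card F : ℂ) - 1)) - 4) := by
    rw [Finset.sum_eq_add (1 : Subgroup.centralizer ({g₀} : Set SL2F)) ⟨zSL, hzmem⟩ hz1.symm]
    · congr 1
      · rw [Subgroup.coe_one, hξ1, h1c, map_one]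
        simp only [Units.val_one, one_pow, _root_.inv_one]
        ring
      · show ξ zSL * conj (ξ zSL) - _ = _
        rw [hξz1, map_mul, hεc, h1c, ← hεdef]
        have : ((((θ ⟨zSL, hzmem⟩) ^ 2)⁻¹ : ℂˣ) : ℂ) = 1 := by
          rw [Units.val_inv_eq_inv_val, Units.val_pow_eq_pow_val, ← hεdef, pow_two, hεε, _root_.inv_one]
        rw [this, pow_two, hεε]
        ring
    · intro c _ hc
      have hns : IsNonScalarSL (c : SL2F) := isNonScalarSL_of_ne (c : SL2F)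
        (fun h => hc.1 (Subtype.ext h)) (fun h => hc.2 (Subtype.ext h))
      rw [hξdef, cuspFun_torus hodd g₀ hrc θ α c hns, map_neg, map_add, conj_hom_units,
        Units.val_inv_eq_inv_val, map_inv₀, conj_hom_units, Units.val_inv_eq_inv_val, inv_inv,
        Units.val_inv_eq_inv_val, Units.val_pow_eq_pow_val]
      have h0 : ((θ c : ℂˣ) : ℂ) ≠ 0 := (θ c).ne_zero
      field_simp
      ring
    · intro h; exact absurd (Finset.mem_univ _) h
    · intro h; exact absurd (Finset.mem_univ _) h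
  have hTdirect : ∑ c : Subgroup.centralizer ({g₀} : Set SL2F), ξ c * conj (ξ c) =
      2 * ((Fintype.card F : ℂ) + 1) +
      ((((Fintype.card F : ℂ) - 1) * ((Fintype.card F : ℂ) - 1) - 4) +
      (ε * ((Fintype.card F : ℂ) - 1) * (ε * ((Fintype.card F : ℂ) - 1)) - 4)) := by
    rw [← hk, ← hdiff, ← Finset.sum_add_distrib]
    apply Finset.sum_congr rfl
    intro c _
    ring
  rw [hTdirect] at hT
  -- conclusion
  have hG : (Nat.card SL2F : ℂ) = (Fintype.card F : ℂ) * ((Fintype.card F : ℂ) ^ 2 - 1) := by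
    rw [Cfsg.Agent.Helper5.card_SL2]
    have : 1 ≤ Fintype.card F ^ 2 := Nat.one_le_pow _ _ Fintype.card_pos
    push_cast [Nat.cast_sub this]
    ring
  have hG0 : (Nat.card SL2F : ℂ) ≠ 0 := by exact_mod_cast Nat.card_pos.ne'
  rw [Cfsg.Agent.Helper74.classInner_def, hS]
  rw [hG] at hG0 ⊢
  rw [inv_mul_eq_div, div_eq_one_iff_eq hG0]
  linear_combination (-((Fintype.card F : ℂ) * ((Fintype.card F : ℂ) - 1) / 2)) * hT +
    (((Fintype.card F : ℂ) - 1) ^ 2 + ((Fintype.card F : ℂ) ^ 2 - 1)) * hεε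

/-- Part A: the cuspidal character attached to a character `θ` of the non-split torus with
`θ² ≠ 1`. -/
theorem part_A (hodd : Odd (Fintype.card F)) (g₀ : SL2F)
    (hrc : rootCount ((g₀ : M2F).trace) = 0)
    (θ : Subgroup.centralizer ({g₀} : Set SL2F) →* ℂˣ) (hθ2 : ∃ c, θ c ^ 2 ≠ 1)
    (hzmem : (zSL : SL2F) ∈ Subgroup.centralizer ({g₀} : Set SL2F)) :
    ∃ χ : SL2F → ℂ, IsIrrCharacter SL2F χ ∧ χ 1 = (Fintype.card F : ℂ) - 1 ∧
      (∀ c : Subgroup.centralizer ({g₀} : Set SL2F), IsNonScalarSL (c : SL2F) →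
        χ c = -(((θ c : ℂˣ) : ℂ) + (((θ c)⁻¹ : ℂˣ) : ℂ))) ∧
      (∀ g : SL2F, χ (zSL * g) = ((θ ⟨zSL, hzmem⟩ : ℂˣ) : ℂ) * χ g) ∧
      (∀ g : SL2F, (g : M2F) 0 1 = 0 → (g : M2F) 1 0 = 0 → (g : M2F) 0 0 ^ 2 ≠ 1 → χ g = 0) ∧
      (∀ g : SL2F, (g : M2F) 1 0 = 0 → (g : M2F) 0 0 = 1 → (g : M2F) 1 1 = 1 →
        (g : M2F) 0 1 ≠ 0 → χ g = -1) := by
  classical
  have h2 : (2 : F) ≠ 0 := Ring.two_ne_zero (ringChar_ne_two_of_odd hodd)
  have hq3 : 3 ≤ Fintype.card F := by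
    have h1 : 1 < Fintype.card F := Fintype.one_lt_card
    obtain ⟨j, hj⟩ := hodd
    omega
  have hεε : ((θ ⟨zSL, hzmem⟩ : ℂˣ) : ℂ) * ((θ ⟨zSL, hzmem⟩ : ℂˣ) : ℂ) = 1 := by
    rw [← Units.val_mul, ← map_mul]
    have : (⟨zSL, hzmem⟩ : Subgroup.centralizer ({g₀} : Set SL2F)) * ⟨zSL, hzmem⟩ = 1 := by
      apply Subtype.ext
      exact Cfsg.Agent.S2435.zSL_mul_zSL
    rw [this, map_one, Units.val_one]
  -- the character α of the split torus
  obtain ⟨α, hα⟩ : ∃ α : MulChar F ℂ, α (-1) = ((θ ⟨zSL, hzmem⟩ : ℂˣ) : ℂ) := by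
    have hfac : (((θ ⟨zSL, hzmem⟩ : ℂˣ) : ℂ) - 1) * (((θ ⟨zSL, hzmem⟩ : ℂˣ) : ℂ) + 1) = 0 := by
      linear_combination hεε
    rcases mul_eq_zero.mp hfac with h | h
    · refine ⟨1, ?_⟩
      rw [MulChar.one_apply (isUnit_iff_ne_zero.mpr (neg_ne_zero.mpr one_ne_zero))]
      linear_combination -h
    · have hne : (-1 : F) ≠ 1 := by
        intro h'
        apply h2
        linear_combination -h'
      have : NeZero (Monoid.exponent Fˣ) := ⟨Monoid.exponent_ne_zero_of_finite⟩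
      obtain ⟨α, hα⟩ := MulChar.exists_apply_ne_one_of_hasEnoughRootsOfUnity F ℂ hne
      refine ⟨α, ?_⟩
      have hsq : α (-1) * α (-1) = 1 := by
        rw [← map_mul]
        norm_num
      have hfac' : (α (-1) - 1) * (α (-1) + 1) = 0 := by linear_combination hsq
      rcases mul_eq_zero.mp hfac' with h' | h'
      · exact absurd (by linear_combination h') hα
      · linear_combination h' - h
  refine ⟨cuspFun g₀ θ α, ?_, cuspFun_one hodd g₀ hrc θ α,
    fun c hns => cuspFun_torus hodd g₀ hrc θ α c hns,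
    fun g => cuspFun_zSL_mul g₀ θ α hzmem hα g,
    fun g h01 h10 ha => cuspFun_split hodd g₀ hrc θ α g h01 h10 ha,
    fun g h10 h00 h11 h01 => cuspFun_unipotent hodd g₀ hrc θ α g h10 h00 h11 h01⟩
  rcases Cfsg.Agent.Helper25.signedIrr_of_inner_self_eq_one (isGenChar_cuspFun g₀ θ α)
    (cuspFun_norm hodd g₀ hrc θ hθ2 α hzmem hα) with h | h
  · exact h
  · exfalso
    obtain ⟨d, hd, hd1⟩ := Cfsg.Agent.Helper15.irr_degree_pos h
    rw [Pi.neg_apply, cuspFun_one hodd g₀ hrc θ α] at hd1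
    have h3 : ((d + Fintype.card F : ℕ) : ℂ) = ((1 : ℕ) : ℂ) := by
      push_cast
      linear_combination -hd1
    have := Nat.cast_injective h3
    omega

omit [Fintype F] [DecidableEq F] in
theorem isNonScalarSL_of_not_mem_center (s : SL2F) (hs : s ∉ Subgroup.center SL2F) :
    IsNonScalarSL s := by
  intro h
  apply hs
  rcases eq_one_or_zSL s h.1 h.2.1 h.2.2 with h' | h'
  · rw [h']; exact Subgroup.one_mem _
  · rw [h', Subgroup.mem_center_iff]
    intro g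
    exact (zSL_comm g).symm

omit [DecidableEq F] in
theorem eq_one_or_zSL_of_mem_center (s : SL2F) (hs : s ∈ Subgroup.center SL2F) :
    s = 1 ∨ s = zSL := by
  rw [Matrix.SpecialLinearGroup.mem_center_iff] at hs
  obtain ⟨r, -, hr⟩ := hs
  apply eq_one_or_zSL
  · rw [← hr]; simp
  · rw [← hr]; simp
  · rw [← hr]; simp

end lib

theorem result {F : Type*} [Field F] [Fintype F] (hodd : Odd (Fintype.card F))
    (C : Subgroup (Matrix.SpecialLinearGroup (Fin 2) F)) (hC : IsCyclic C) (hcard : Nat.card C = Fintype.card F + 1) :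
    (∀ θ : C →* ℂˣ, (∃ c : C, θ c ^ 2 ≠ 1) →
      ∃ χ : Matrix.SpecialLinearGroup (Fin 2) F → ℂ, Cfsg.IsIrrCharacter (Matrix.SpecialLinearGroup (Fin 2) F) χ ∧ χ 1 = (Fintype.card F : ℂ) - 1 ∧
        (∀ c : C, (c : Matrix.SpecialLinearGroup (Fin 2) F) ∉ Subgroup.center (Matrix.SpecialLinearGroup (Fin 2) F) → χ c = -((θ c).val + (θ c)⁻¹.val)) ∧
        (∀ c : C, (c : Matrix.SpecialLinearGroup (Fin 2) F) ∈ Subgroup.center (Matrix.SpecialLinearGroup (Fin 2) F) → ∀ g : Matrix.SpecialLinearGroup (Fin 2) F, χ ((c : Matrix.SpecialLinearGroup (Fin 2) F) * g) = (θ c).val * χ g) ∧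
        (∀ g : Matrix.SpecialLinearGroup (Fin 2) F, (g : Matrix (Fin 2) (Fin 2) F) 0 1 = 0 → (g : Matrix (Fin 2) (Fin 2) F) 1 0 = 0 → (g : Matrix (Fin 2) (Fin 2) F) 0 0 ^ 2 ≠ 1 → χ g = 0) ∧
        (∀ g : Matrix.SpecialLinearGroup (Fin 2) F, (g : Matrix (Fin 2) (Fin 2) F) 1 0 = 0 → (g : Matrix (Fin 2) (Fin 2) F) 0 0 = 1 → (g : Matrix (Fin 2) (Fin 2) F) 1 1 = 1 → (g : Matrix (Fin 2) (Fin 2) F) 0 1 ≠ 0 → χ g = -1)) ∧
    (∀ χ : Matrix.SpecialLinearGroup (Fin 2) F → ℂ, Cfsg.IsIrrCharacter (Matrix.SpecialLinearGroup (Fin 2) F) χ → χ 1 = (Fintype.card F : ℂ) - 1 →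
      ∃ θ : C →* ℂˣ, (∃ c : C, θ c ^ 2 ≠ 1) ∧
        ∀ c : C, (c : Matrix.SpecialLinearGroup (Fin 2) F) ∉ Subgroup.center (Matrix.SpecialLinearGroup (Fin 2) F) → χ c = -((θ c).val + (θ c)⁻¹.val)) := by
  classical
  have hC' : IsCyclic C := hC
  obtain ⟨g₀, hrc, rfl⟩ := Cfsg.Agent.Helper41.torus_structure hodd C hcard
  have hzmem : (Cfsg.Agent.Helper39.zSL : Matrix.SpecialLinearGroup (Fin 2) F) ∈
      Subgroup.centralizer ({g₀} : Set (Matrix.SpecialLinearGroup (Fin 2) F)) := by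
    rw [Subgroup.mem_centralizer_singleton_iff]
    exact Cfsg.Agent.Helper39.zSL_comm g₀
  refine ⟨?_, ?_⟩
  · intro θ hθ2
    obtain ⟨χ, hirr, h1, ha, hb, hc, hd⟩ := part_A hodd g₀ hrc θ hθ2 hzmem
    refine ⟨χ, hirr, h1, ?_, ?_, hc, hd⟩
    · intro c hcc
      exact ha c (isNonScalarSL_of_not_mem_center _ hcc)
    · intro c hcc g
      rcases eq_one_or_zSL_of_mem_center _ hcc with h | h
      · have hc1 : c = 1 := Subtype.ext h
        rw [hc1, map_one, Units.val_one, one_mul, Subgroup.coe_one, one_mul]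
      · have hcz : c = ⟨Cfsg.Agent.Helper39.zSL, hzmem⟩ := Subtype.ext h
        rw [hcz]
        exact hb g
  · intro χ hχ h1
    have hex : ∃ θ : Subgroup.centralizer ({g₀} : Set (Matrix.SpecialLinearGroup (Fin 2) F)) →* ℂˣ,
        (∃ c, θ c ^ 2 ≠ 1) ∧
        ∀ c : Subgroup.centralizer ({g₀} : Set (Matrix.SpecialLinearGroup (Fin 2) F)),
          (c : Matrix.SpecialLinearGroup (Fin 2) F) ≠ 1 →
          (c : Matrix.SpecialLinearGroup (Fin 2) F) ≠ Cfsg.Agent.Helper39.zSL →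
          χ c = -(((θ c : ℂˣ) : ℂ) + (((θ c)⁻¹ : ℂˣ) : ℂ)) := by
      by_cases hq : 5 ≤ Fintype.card F
      · exact part_B_ge5 hodd hq g₀ hrc hχ h1
      · have h3 : Fintype.card F = 3 := by
          have h1' : 1 < Fintype.card F := Fintype.one_lt_card
          obtain ⟨j, hj⟩ := hodd
          omega
        exact part_B_three hodd h3 g₀ hrc hχ h1
    obtain ⟨θ, hθ2, hθ⟩ := hex
    refine ⟨θ, hθ2, fun c hcc => hθ c ?_ ?_⟩
    · intro h
      apply hcc
      rw [h]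
      exact Subgroup.one_mem _
    · intro h
      apply hcc
      rw [h, Subgroup.mem_center_iff]
      intro g
      exact (Cfsg.Agent.Helper39.zSL_comm g).symm

end Cfsg.Agent.S2434
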