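-- Statement S2436: the McKay equality for SL₂(q), q odd, at every prime.
import Cfsg.Statements.S2436
import Cfsg.Agent.Helper39.McKaySL2

set_option autoImplicit false
open Cfsg

namespace Cfsg.Agent.S2436

open Cfsg.Agent.Helper39

/-- Let F be a finite field with q elements, q odd, ℓ any prime and S a Sylow ℓ-subgroup of SL₂ over F with normaliser N. Then SL₂ and N have the same number of irreducible complex characters of degree not divisible by ℓ (the McKay equality holds for SL₂ over F at every prime). -/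
theorem result {F : Type*} [Field F] [Fintype F] (hodd : Odd (Fintype.card F)) (ℓ : ℕ) [Fact ℓ.Prime] (S : Sylow ℓ (Matrix.SpecialLinearGroup (Fin 2) F)) :
    Nat.card {χ : Cfsg.IrrCharacter (Matrix.SpecialLinearGroup (Fin 2) F) // ¬ ℓ ∣ Cfsg.charDegree (χ : Matrix.SpecialLinearGroup (Fin 2) F → ℂ)} =
      Nat.card {ψ : Cfsg.IrrCharacter (Subgroup.normalizer ((S : Subgroup (Matrix.SpecialLinearGroup (Fin 2) F)) : Set (Matrix.SpecialLinearGroup (Fin 2) F))) //
        ¬ ℓ ∣ Cfsg.charDegree (ψ : Subgroup.normalizer ((S : Subgroup (Matrix.SpecialLinearGroup (Fin 2) F)) : Set (Matrix.SpecialLinearGroup (Fin 2) F)) → ℂ)} := by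
  classical
  have hℓ : ℓ.Prime := Fact.out
  obtain ⟨j, hj⟩ := hodd
  have hodd : Odd (Fintype.card F) := ⟨j, hj⟩
  have hq2 : 2 ≤ Fintype.card F := Fintype.one_lt_card
  have hj1 : 1 ≤ j := by omega
  -- the case of a normal Sylow subgroup
  by_cases htop : Subgroup.normalizer ((S : Subgroup (Matrix.SpecialLinearGroup (Fin 2) F)) :
      Set (Matrix.SpecialLinearGroup (Fin 2) F)) = ⊤
  · exact card_irr_not_dvd_of_eq_top _ htop ℓ
  by_cases hℓ2 : ℓ = 2
  · subst hℓ2
    rw [sl2_card_irr_odd_normalizer hodd S]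
    by_cases hj2 : 2 ≤ j
    · exact sl2_card_irr_odd j hj hj2
    · exfalso
      apply htop
      exact sl2_normalizer_sylow_two_eq_top (by omega) S
  · have hbot : (S : Subgroup (Matrix.SpecialLinearGroup (Fin 2) F)) ≠ ⊥ := by
      intro hbot
      apply htop
      rw [hbot]
      exact Subgroup.normalizer_eq_top (H := (⊥ : Subgroup (Matrix.SpecialLinearGroup (Fin 2) F)))
    have hab := sl2_sylow_abelian ℓ hℓ2 S
    rw [card_irr_normalizer_of_abelian ℓ S hab]
    have hℓ2' : ¬ ℓ ∣ 2 := fun h => hℓ2 ((Nat.prime_dvd_prime_iff_eq hℓ Nat.prime_two).mp h)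
    have hℓ1 : ¬ ℓ ∣ 1 := fun h => hℓ.one_lt.ne' (Nat.dvd_one.mp h)
    by_cases hd : ℓ ∣ Fintype.card F
    · rw [sl2_card_irr_not_dvd_char hodd ℓ hℓ hd,
        sl2_card_conjClasses_normalizer_sylow_char hodd ℓ hd S]
    · rcases sl2_card_conjClasses_normalizer_sylow_odd hodd ℓ hℓ2 hd S hbot with
        ⟨hdiv, hk⟩ | ⟨hdiv, hk⟩
      · have hdj : ℓ ∣ j + 1 := by
          have : Fintype.card F + 1 = 2 * (j + 1) := by omega
          rw [this] at hdiv
          rcases (Nat.Prime.dvd_mul hℓ).mp hdiv with h | h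
          · exact absurd h hℓ2'
          · exact h
        have hj2 : 2 ≤ j := by
          by_contra hlt
          have : j = 1 := by omega
          rw [this] at hdj
          exact hℓ2' hdj
        rw [sl2_card_irr_not_dvd_plus j hj hj2 ℓ hℓ hℓ2 hdj]
        omega
      · have hdj : ℓ ∣ j := by
          have : Fintype.card F - 1 = 2 * j := by omega
          rw [this] at hdiv
          rcases (Nat.Prime.dvd_mul hℓ).mp hdiv with h | h
          · exact absurd h hℓ2'
          · exact h
        have hj2 : 2 ≤ j := by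
          by_contra hlt
          have : j = 1 := by omega
          rw [this] at hdj
          exact hℓ1 hdj
        rw [sl2_card_irr_not_dvd_minus j hj hj2 ℓ hℓ hℓ2 hdj]
        omega

end Cfsg.Agent.S2436
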