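-- Statement S2450: the Arad–Herzog conjecture for PSL(2,q).
import Cfsg.Statements.S2450
import Cfsg.Agent.Helper41.PSL2Orders

set_option autoImplicit false
open Cfsg

namespace Cfsg.Agent.S2450

open Cfsg.Agent.Helper41 Matrix Polynomial

variable {F : Type*} [Field F]

/-- Lower unitriangular element. -/
def sl2Lower (x : F) : Matrix.SpecialLinearGroup (Fin 2) F :=
  ⟨!![1, 0; x, 1], by simp [Matrix.det_fin_two]⟩

/-- The Weyl element and its inverse. -/
def sl2Weyl : Matrix.SpecialLinearGroup (Fin 2) F :=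
  ⟨!![0, 1; -1, 0], by simp [Matrix.det_fin_two]⟩

def sl2WeylInv : Matrix.SpecialLinearGroup (Fin 2) F :=
  ⟨!![0, -1; 1, 0], by simp [Matrix.det_fin_two]⟩

theorem sl2Lower_inv (x : F) : (sl2Lower x)⁻¹ = sl2Lower (-x) := by
  rw [inv_eq_iff_mul_eq_one]
  apply Subtype.ext
  rw [Matrix.SpecialLinearGroup.coe_mul, Matrix.SpecialLinearGroup.coe_one]
  simp [sl2Lower, Matrix.one_fin_two]

theorem sl2Weyl_inv : (sl2Weyl : Matrix.SpecialLinearGroup (Fin 2) F)⁻¹ = sl2WeylInv := by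
  rw [inv_eq_iff_mul_eq_one]
  apply Subtype.ext
  rw [Matrix.SpecialLinearGroup.coe_mul, Matrix.SpecialLinearGroup.coe_one]
  simp [sl2Weyl, sl2WeylInv, Matrix.one_fin_two]

/-- A non-central element of `SL₂` has an `SL₂`-conjugate with nonzero lower-left entry. -/
theorem exists_conj_lower_left_ne_zero (M : Matrix.SpecialLinearGroup (Fin 2) F)
    (hM : M ∉ Subgroup.center (Matrix.SpecialLinearGroup (Fin 2) F)) :
    ∃ R : Matrix.SpecialLinearGroup (Fin 2) F,
      ((R * M * R⁻¹ : Matrix.SpecialLinearGroup (Fin 2) F) : Matrix (Fin 2) (Fin 2) F) 1 0 ≠ 0 := by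
  by_cases h10 : (M : Matrix (Fin 2) (Fin 2) F) 1 0 = 0
  · by_cases h01 : (M : Matrix (Fin 2) (Fin 2) F) 0 1 = 0
    · -- diagonal with distinct entries
      have hne : (M : Matrix (Fin 2) (Fin 2) F) 0 0 ≠ (M : Matrix (Fin 2) (Fin 2) F) 1 1 := by
        intro h
        apply hM
        rw [sl2_mem_center_iff]
        have hdet := sl2_det M
        rw [h10, h01, h] at hdet
        refine ⟨(M : Matrix (Fin 2) (Fin 2) F) 1 1, by linear_combination hdet, ?_⟩
        ext i j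
        fin_cases i <;> fin_cases j <;> simp [Matrix.scalar_apply, h10, h01, h]
      refine ⟨sl2Lower 1, ?_⟩
      rw [sl2Lower_inv]
      simp only [Matrix.SpecialLinearGroup.coe_mul]
      simp [sl2Lower, Matrix.mul_apply, Fin.sum_univ_two, Matrix.vecMul, dotProduct, h10, h01]
      intro h
      apply hne
      linear_combination h
    · refine ⟨sl2Weyl, ?_⟩
      rw [sl2Weyl_inv]
      simp only [Matrix.SpecialLinearGroup.coe_mul]
      simp [sl2Weyl, sl2WeylInv, Matrix.mul_apply, Fin.sum_univ_two, Matrix.vecMul, dotProduct]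
      exact h01
  · exact ⟨1, by simpa using h10⟩

/-- If two elements of `SL₂` have the same image in `PSL₂`, their traces agree up to sign. -/
theorem trace_sq_eq_of_mk_eq (X Y : Matrix.SpecialLinearGroup (Fin 2) F)
    (h : (QuotientGroup.mk X : Matrix.ProjectiveSpecialLinearGroup (Fin 2) F) = QuotientGroup.mk Y) :
    (Matrix.trace (X : Matrix (Fin 2) (Fin 2) F)) ^ 2 = (Matrix.trace (Y : Matrix (Fin 2) (Fin 2) F)) ^ 2 := by
  rw [QuotientGroup.eq, sl2_mem_center_iff] at h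
  obtain ⟨r, hr, h⟩ := h
  have hY : (Y : Matrix (Fin 2) (Fin 2) F) = (X : Matrix (Fin 2) (Fin 2) F) * Matrix.scalar (Fin 2) r := by
    rw [← h, ← Matrix.SpecialLinearGroup.coe_mul, mul_inv_cancel_left]
  rw [hY, Matrix.trace_fin_two, Matrix.trace_fin_two]
  simp [Matrix.mul_apply, Fin.sum_univ_two, Matrix.scalar_apply]
  linear_combination (-((X : Matrix (Fin 2) (Fin 2) F) 0 0 + (X : Matrix (Fin 2) (Fin 2) F) 1 1) ^ 2) * hr

theorem trace_conj (T C : Matrix.SpecialLinearGroup (Fin 2) F) :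
    Matrix.trace ((T * C * T⁻¹ : Matrix.SpecialLinearGroup (Fin 2) F) : Matrix (Fin 2) (Fin 2) F) =
      Matrix.trace (C : Matrix (Fin 2) (Fin 2) F) := by
  rw [Matrix.SpecialLinearGroup.coe_mul, Matrix.trace_mul_comm, ← Matrix.SpecialLinearGroup.coe_mul,
    inv_mul_cancel_left]

/-- The trace of `A * (U_z B U_z⁻¹)` as a quadratic polynomial in `z`. -/
theorem trace_unip_conj (A B : Matrix.SpecialLinearGroup (Fin 2) F) (z : F) :
    Matrix.trace ((A * (sl2Unip z * B * (sl2Unip z)⁻¹) : Matrix.SpecialLinearGroup (Fin 2) F) :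
      Matrix (Fin 2) (Fin 2) F) =
    -((A : Matrix (Fin 2) (Fin 2) F) 1 0 * (B : Matrix (Fin 2) (Fin 2) F) 1 0) * z ^ 2 +
      ((A : Matrix (Fin 2) (Fin 2) F) 0 0 * (B : Matrix (Fin 2) (Fin 2) F) 1 0 +
        (A : Matrix (Fin 2) (Fin 2) F) 1 0 * ((B : Matrix (Fin 2) (Fin 2) F) 1 1 - (B : Matrix (Fin 2) (Fin 2) F) 0 0) -
        (A : Matrix (Fin 2) (Fin 2) F) 1 1 * (B : Matrix (Fin 2) (Fin 2) F) 1 0) * z +
      ((A : Matrix (Fin 2) (Fin 2) F) 0 0 * (B : Matrix (Fin 2) (Fin 2) F) 0 0 +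
        (A : Matrix (Fin 2) (Fin 2) F) 0 1 * (B : Matrix (Fin 2) (Fin 2) F) 1 0 +
        (A : Matrix (Fin 2) (Fin 2) F) 1 0 * (B : Matrix (Fin 2) (Fin 2) F) 0 1 +
        (A : Matrix (Fin 2) (Fin 2) F) 1 1 * (B : Matrix (Fin 2) (Fin 2) F) 1 1) := by
  have hinv : (sl2Unip z)⁻¹ = sl2Unip (-z) := by
    rw [inv_eq_iff_mul_eq_one, sl2Unip_mul, add_neg_cancel, sl2Unip_zero]
  rw [hinv, Matrix.trace_fin_two]
  simp only [Matrix.SpecialLinearGroup.coe_mul]
  simp [sl2Unip, Matrix.mul_apply, Fin.sum_univ_two, Matrix.vecMul, dotProduct]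
  ring


theorem result {F : Type*} [Field F] [Fintype F] (h4 : 4 ≤ Fintype.card F)
    (a b : Matrix.ProjectiveSpecialLinearGroup (Fin 2) F) (ha : a ≠ 1) (hb : b ≠ 1) (c : Matrix.ProjectiveSpecialLinearGroup (Fin 2) F) :
    {g : Matrix.ProjectiveSpecialLinearGroup (Fin 2) F | ∃ u v : Matrix.ProjectiveSpecialLinearGroup (Fin 2) F, g = (u * a * u⁻¹) * (v * b * v⁻¹)} ≠ {g | IsConj c g} := by
  intro heq
  obtain ⟨A0, rfl⟩ := QuotientGroup.mk_surjective a
  obtain ⟨B0, rfl⟩ := QuotientGroup.mk_surjective b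
  obtain ⟨C0, rfl⟩ := QuotientGroup.mk_surjective c
  have hA0 : A0 ∉ Subgroup.center (Matrix.SpecialLinearGroup (Fin 2) F) := by
    rwa [Ne, QuotientGroup.eq_one_iff] at ha
  have hB0 : B0 ∉ Subgroup.center (Matrix.SpecialLinearGroup (Fin 2) F) := by
    rwa [Ne, QuotientGroup.eq_one_iff] at hb
  obtain ⟨R1, hR1⟩ := exists_conj_lower_left_ne_zero A0 hA0
  obtain ⟨R2, hR2⟩ := exists_conj_lower_left_ne_zero B0 hB0
  set A := R1 * A0 * R1⁻¹ with hA
  set B := R2 * B0 * R2⁻¹ with hB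
  have key : ∀ z : F, (Matrix.trace ((A * (sl2Unip z * B * (sl2Unip z)⁻¹) :
      Matrix.SpecialLinearGroup (Fin 2) F) : Matrix (Fin 2) (Fin 2) F)) ^ 2 =
      (Matrix.trace (C0 : Matrix (Fin 2) (Fin 2) F)) ^ 2 := by
    intro z
    have hmem : (QuotientGroup.mk (A * (sl2Unip z * B * (sl2Unip z)⁻¹)) :
        Matrix.ProjectiveSpecialLinearGroup (Fin 2) F) ∈
        {g : Matrix.ProjectiveSpecialLinearGroup (Fin 2) F | ∃ u v : Matrix.ProjectiveSpecialLinearGroup (Fin 2) F,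
          g = (u * (QuotientGroup.mk A0) * u⁻¹) * (v * (QuotientGroup.mk B0) * v⁻¹)} := by
      refine ⟨QuotientGroup.mk R1, QuotientGroup.mk (sl2Unip z * R2), ?_⟩
      simp only [hA, hB, QuotientGroup.mk_mul, QuotientGroup.mk_inv, _root_.mul_inv_rev, mul_assoc]
    rw [heq] at hmem
    obtain ⟨w, hw⟩ := isConj_iff.mp hmem
    obtain ⟨T, rfl⟩ := QuotientGroup.mk_surjective w
    have h1 := trace_sq_eq_of_mk_eq (T * C0 * T⁻¹) (A * (sl2Unip z * B * (sl2Unip z)⁻¹))
      (by simpa only [QuotientGroup.mk_mul, QuotientGroup.mk_inv] using hw)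
    rw [trace_conj] at h1
    exact h1.symm
  simp only [trace_unip_conj] at key
  set c2 : F := -((A : Matrix (Fin 2) (Fin 2) F) 1 0 * (B : Matrix (Fin 2) (Fin 2) F) 1 0) with hc2
  set c1 : F := ((A : Matrix (Fin 2) (Fin 2) F) 0 0 * (B : Matrix (Fin 2) (Fin 2) F) 1 0 +
        (A : Matrix (Fin 2) (Fin 2) F) 1 0 * ((B : Matrix (Fin 2) (Fin 2) F) 1 1 - (B : Matrix (Fin 2) (Fin 2) F) 0 0) -
        (A : Matrix (Fin 2) (Fin 2) F) 1 1 * (B : Matrix (Fin 2) (Fin 2) F) 1 0) with hc1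
  set c0 : F := ((A : Matrix (Fin 2) (Fin 2) F) 0 0 * (B : Matrix (Fin 2) (Fin 2) F) 0 0 +
        (A : Matrix (Fin 2) (Fin 2) F) 0 1 * (B : Matrix (Fin 2) (Fin 2) F) 1 0 +
        (A : Matrix (Fin 2) (Fin 2) F) 1 0 * (B : Matrix (Fin 2) (Fin 2) F) 0 1 +
        (A : Matrix (Fin 2) (Fin 2) F) 1 1 * (B : Matrix (Fin 2) (Fin 2) F) 1 1) with hc0
  have hc2ne : c2 ≠ 0 := by
    rw [hc2]
    exact neg_ne_zero.mpr (mul_ne_zero hR1 hR2)
  have hκ : (Matrix.trace (C0 : Matrix (Fin 2) (Fin 2) F)) ^ 2 = c0 ^ 2 := by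
    have := key 0
    simp at this
    exact this.symm
  rw [hκ] at key
  -- the two quadratic polynomials
  set P1 : F[X] := C c2 * X ^ 2 + C c1 * X + C 0 with hP1
  set P2 : F[X] := C c2 * X ^ 2 + C c1 * X + C (2 * c0) with hP2
  have hd1 : P1.natDegree = 2 := Polynomial.natDegree_quadratic hc2ne
  have hd2 : P2.natDegree = 2 := Polynomial.natDegree_quadratic hc2ne
  have hP1ne : P1 ≠ 0 := by
    intro h; rw [h] at hd1; simp at hd1
  have hP2ne : P2 ≠ 0 := by
    intro h; rw [h] at hd2; simp at hd2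
  have heval : ∀ z : F, (P1 * P2).eval z = 0 := by
    intro z
    have := key z
    simp only [hP1, hP2, eval_mul, eval_add, eval_mul, eval_C, eval_pow, eval_X]
    linear_combination this
  by_cases h5 : 5 ≤ Fintype.card F
  · have hzero : P1 * P2 = 0 := by
      apply Polynomial.eq_zero_of_natDegree_lt_card_of_eval_eq_zero (P1 * P2) (f := id)
        Function.injective_id heval
      rw [Polynomial.natDegree_mul hP1ne hP2ne, hd1, hd2]
      omega
    rcases mul_eq_zero.mp hzero with h | h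
    · exact hP1ne h
    · exact hP2ne h
  · have hq : Fintype.card F = 4 := by omega
    have h2 : (2 : F) = 0 := by
      have h40 : ((Fintype.card F : ℕ) : F) = 0 := Nat.cast_card_eq_zero F
      rw [hq] at h40
      have : (2 : F) * 2 = 0 := by
        have h4' : ((4 : ℕ) : F) = 4 := by norm_num
        rw [h4'] at h40
        linear_combination h40
      exact mul_self_eq_zero.mp this
    have heval1 : ∀ z : F, P1.eval z = 0 := by
      intro z
      have := heval z
      have h12 : P2 = P1 := by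
        rw [hP1, hP2, h2, zero_mul]
      rw [h12, eval_mul] at this
      exact mul_self_eq_zero.mp this
    apply hP1ne
    apply Polynomial.eq_zero_of_natDegree_lt_card_of_eval_eq_zero P1 (f := id)
      Function.injective_id heval1
    rw [hd1, hq]
    decide

end Cfsg.Agent.S2450
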