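-- Statement S2455: in PSL(2,q), q odd, every non-identity element is a product of two conjugates
-- of any non-unipotent element of order greater than 2.
import Cfsg.Statements.S2455
import Cfsg.Agent.Helper41.PSL2Prod

set_option autoImplicit false
open Cfsg

namespace Cfsg.Agent.S2455

open Cfsg.Agent.Helper41

theorem result {F : Type*} [Field F] [Fintype F] (p : ℕ) [Fact p.Prime] [CharP F p] (hp : p ≠ 2) (h5 : 5 ≤ Fintype.card F)
    (x : Matrix.ProjectiveSpecialLinearGroup (Fin 2) F) (hx2 : 2 < orderOf x) (hxp : ¬ p ∣ orderOf x) : ∀ g : Matrix.ProjectiveSpecialLinearGroup (Fin 2) F, g ≠ 1 → ∃ u v : Matrix.ProjectiveSpecialLinearGroup (Fin 2) F, g = (u * x * u⁻¹) * (v * x * v⁻¹) := by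
  have hpp : p.Prime := Fact.out
  obtain ⟨X, rfl⟩ := QuotientGroup.mk_surjective x
  rcases card_field_gcd_two (F := F) p with ⟨h, -⟩ | ⟨-, h2, -, hodd, -⟩
  · exact absurd h hp
  have hodd' : Fintype.card F % 2 = 1 := Nat.odd_iff.mp hodd
  -- the trace of X is not ±2
  have ht4 : (Matrix.trace (X : Matrix (Fin 2) (Fin 2) F)) ^ 2 ≠ 4 := by
    intro h
    have h1 := sl2_pow_char_mem_center p X h
    rw [← QuotientGroup.eq_one_iff, QuotientGroup.mk_pow] at h1
    have h3 := orderOf_dvd_of_pow_eq_one h1
    rcases (Nat.dvd_prime hpp).mp h3 with h4 | h4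
    · rw [h4] at hx2; omega
    · exact hxp (by rw [h4])
  -- the trace of X is not 0
  have ht0 : Matrix.trace (X : Matrix (Fin 2) (Fin 2) F) ≠ 0 := by
    intro h
    have hch := sl2_cayley_hamilton X
    rw [h, zero_smul, zero_sub] at hch
    have h1 : X ^ 2 ∈ Subgroup.center (Matrix.SpecialLinearGroup (Fin 2) F) := by
      apply sl2_mem_center_of_eq_scalar _ (-1) (by ring)
      rw [Matrix.SpecialLinearGroup.coe_pow, pow_two, hch]
      ext i j
      fin_cases i <;> fin_cases j <;> simp [Matrix.scalar_apply]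
    rw [← QuotientGroup.eq_one_iff, QuotientGroup.mk_pow] at h1
    have h3 := Nat.le_of_dvd (by decide) (orderOf_dvd_of_pow_eq_one h1)
    omega
  intro g hg
  apply psl2_eq_mul_conj X ht4 _ _ g hg
  · intro e _
    exact normForm_surjective_of_odd hodd' h2 _ ht4 e
  · intro s
    by_cases hs : s = 2
    · right
      apply conicSolvable_of_odd hodd' h2 _ _ _ ht0
      rw [hs]
      intro h
      have h4 : (2 : F) * 2 = 0 := by linear_combination -h
      exact h2 (mul_self_eq_zero.mp h4)
    · left
      exact conicSolvable_of_odd hodd' h2 _ _ hs ht0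

end Cfsg.Agent.S2455
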