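-- Statement S2456: in PSL(2,q), q even, every non-identity element is a product of two conjugates
-- of any element of order greater than 2 not dividing q + 1.
import Cfsg.Statements.S2456
import Cfsg.Agent.Helper41.PSL2Prod

set_option autoImplicit false
open Cfsg

namespace Cfsg.Agent.S2456

open Cfsg.Agent.Helper41

theorem result {F : Type*} [Field F] [Fintype F] [CharP F 2] (h4 : 4 ≤ Fintype.card F)
    (x : Matrix.ProjectiveSpecialLinearGroup (Fin 2) F) (hx2 : 2 < orderOf x) (hxq : ¬ orderOf x ∣ Fintype.card F + 1) : ∀ g : Matrix.ProjectiveSpecialLinearGroup (Fin 2) F, g ≠ 1 → ∃ u v : Matrix.ProjectiveSpecialLinearGroup (Fin 2) F, g = (u * x * u⁻¹) * (v * x * v⁻¹) := by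
  have : Fact (Nat.Prime 2) := ⟨Nat.prime_two⟩
  obtain ⟨X, rfl⟩ := QuotientGroup.mk_surjective x
  -- the trace of X is not ±2
  have ht4 : (Matrix.trace (X : Matrix (Fin 2) (Fin 2) F)) ^ 2 ≠ 4 := by
    intro h
    have h1 := sl2_pow_char_mem_center 2 X h
    rw [← QuotientGroup.eq_one_iff, QuotientGroup.mk_pow] at h1
    have h3 := Nat.le_of_dvd (by decide) (orderOf_dvd_of_pow_eq_one h1)
    omega
  -- the characteristic polynomial of X has a root
  have hroot : ∃ l : F, l ^ 2 - Matrix.trace (X : Matrix (Fin 2) (Fin 2) F) * l + 1 = 0 := by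
    by_contra hno
    push Not at hno
    have h1 := sl2_pow_card_add_one_eq_one 2 X hno
    apply hxq
    apply orderOf_dvd_of_pow_eq_one
    rw [← QuotientGroup.mk_pow, h1]
    rfl
  obtain ⟨l, hl⟩ := hroot
  intro g hg
  apply psl2_eq_mul_conj X ht4 _ _ g hg
  · intro e _
    exact normForm_surjective_of_root _ l hl ht4 e
  · intro s
    left
    exact conicSolvable_of_root s _ l hl

end Cfsg.Agent.S2456
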