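import Cfsg.Statements.S2459
import Cfsg.Agent.Helper41.Psl3C

set_option autoImplicit false
open Cfsg

namespace Cfsg.Agent.S2459

/-- A form of Thompson's conjecture for PSL(3,q), q > 2 (covering the non-identity elements), with a semisimple class: for F a finite field of characteristic p with more than 2 elements there is an element x of PSL(3,F) of order prime to p such that every non-identity element of PSL(3,F) is a product of two conjugates of x. -/
theorem result {F : Type*} [Field F] [Fintype F] (p : ℕ) [Fact p.Prime] [CharP F p] (h3 : 3 ≤ Fintype.card F) :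
    ∃ x : Matrix.ProjectiveSpecialLinearGroup (Fin 3) F, ¬ p ∣ orderOf x ∧ ∀ g : Matrix.ProjectiveSpecialLinearGroup (Fin 3) F, g ≠ 1 → ∃ u v : Matrix.ProjectiveSpecialLinearGroup (Fin 3) F, g = (u * x * u⁻¹) * (v * x * v⁻¹) := by
  classical
  obtain ⟨n, -, hn⟩ := FiniteField.card F p
  have hpq : p ∣ Fintype.card F := by
    rw [hn]
    exact dvd_pow_self p n.pos.ne'
  have hp : p.Prime := Fact.out
  have key : ∀ (D : Matrix.SpecialLinearGroup (Fin 3) F) (k : ℕ), D ^ k = 1 → ¬ p ∣ k →
      (∀ A : Matrix.SpecialLinearGroup (Fin 3) F,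
        (∀ z : F, (A : Matrix (Fin 3) (Fin 3) F) ≠ z • (1 : Matrix (Fin 3) (Fin 3) F)) →
          Cfsg.Agent.Helper41.Psl3.IsProd D A) →
      ∃ x : Matrix.ProjectiveSpecialLinearGroup (Fin 3) F, ¬ p ∣ orderOf x ∧
        ∀ g : Matrix.ProjectiveSpecialLinearGroup (Fin 3) F, g ≠ 1 →
          ∃ u v : Matrix.ProjectiveSpecialLinearGroup (Fin 3) F, g = (u * x * u⁻¹) * (v * x * v⁻¹) := by
    intro D k hk hpk hD
    refine ⟨QuotientGroup.mk D, ?_, fun g hg => Cfsg.Agent.Helper41.Psl3.psl_of_isProd D hD g hg⟩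
    intro h
    apply hpk
    refine h.trans (orderOf_dvd_of_pow_eq_one ?_)
    rw [← QuotientGroup.mk_pow, hk]
    rfl
  rcases Nat.lt_or_ge (Fintype.card F) 4 with h4 | h4
  · -- three elements
    have hF : Fintype.card F = 3 := by omega
    have hp3 : p = 3 := by
      rw [hF] at hpq
      exact (Nat.prime_dvd_prime_iff_eq hp Nat.prime_three).mp hpq
    subst hp3
    obtain ⟨e⟩ := Cfsg.Agent.Helper41.Psl3.exists_ringEquiv_three hF
    refine key (Matrix.SpecialLinearGroup.map (e : ZMod 3 →+* F) Cfsg.Agent.Helper41.Psl3.X3s) 4 ?_ (by norm_num)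
      (fun A hA => Cfsg.Agent.Helper41.Psl3.isProd_three' e A hA)
    rw [← map_pow, Cfsg.Agent.Helper41.Psl3.X3s_pow_four, map_one]
  · obtain ⟨a, b, hab, h1a, h1b, hne⟩ := Cfsg.Agent.Helper41.Psl3.exists_distinct h4
    refine key (Cfsg.Agent.Helper41.Psl3.diagD a b hab) (Fintype.card F - 1)
      (Cfsg.Agent.Helper41.Psl3.diagD_pow_card a b hab) ?_
      (fun A hA => Cfsg.Agent.Helper41.Psl3.isProd_of_nonscalar a b hab h1a h1b hne A hA)
    intro h
    have h1 : p ∣ 1 := by
      have h2 : p ∣ Fintype.card F - (Fintype.card F - 1) := Nat.dvd_sub hpq h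
      have h3 : Fintype.card F - (Fintype.card F - 1) = 1 := by omega
      rwa [h3] at h2
    exact hp.one_lt.ne' (Nat.dvd_one.mp h1)

end Cfsg.Agent.S2459
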