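-- Statement S2466: adjacency of odd primes in the prime graph of alternating groups.
import Cfsg.Statements.S2466
import Cfsg.Agent.Helper41.AltOrders

set_option autoImplicit false
open Cfsg

namespace Cfsg.Agent.S2466

theorem result (n r s : ℕ) (hr : r.Prime) (hs : s.Prime) (hr2 : r ≠ 2) (hs2 : s ≠ 2) (hrs : r ≠ s) (hrn : r ≤ n) (hsn : s ≤ n) :
    (r * s ∈ Set.range (orderOf : alternatingGroup (Fin n) → ℕ)) ↔ r + s ≤ n := by
  rw [Cfsg.Agent.Helper41.mem_range_orderOf_alternatingGroup_iff]
  have hrodd : Odd r := hr.odd_of_ne_two hr2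
  have hsodd : Odd s := hs.odd_of_ne_two hs2
  have hcop : Nat.Coprime r s := (Nat.coprime_primes hr hs).mpr hrs
  constructor
  · rintro ⟨t, hsum, h2, -, hlcm⟩
    have hrt : r ∣ t.lcm := by rw [hlcm]; exact dvd_mul_right r s
    have hst : s ∣ t.lcm := by rw [hlcm]; exact dvd_mul_left s r
    obtain ⟨a, hat, hra⟩ := Cfsg.Agent.Helper41.exists_dvd_of_prime_dvd_multiset_lcm hr t hrt
    obtain ⟨b, hbt, hsb⟩ := Cfsg.Agent.Helper41.exists_dvd_of_prime_dvd_multiset_lcm hs t hst
    have hr2' : 2 ≤ r := hr.two_le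
    have hs2' : 2 ≤ s := hs.two_le
    have hprod : r + s ≤ r * s := by nlinarith
    obtain ⟨t', rfl⟩ := Multiset.exists_cons_of_mem hat
    rw [Multiset.sum_cons] at hsum
    have ha_pos : 0 < a := by have := h2 a hat; omega
    rcases Multiset.mem_cons.mp hbt with hba | hbt'
    · subst hba
      have : r * s ∣ b := hcop.mul_dvd_of_dvd_of_dvd hra hsb
      have := Nat.le_of_dvd ha_pos this
      omega
    · obtain ⟨t'', rfl⟩ := Multiset.exists_cons_of_mem hbt'
      rw [Multiset.sum_cons] at hsum
      have hb_pos : 0 < b := by have := h2 b hbt; omega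
      have := Nat.le_of_dvd ha_pos hra
      have := Nat.le_of_dvd hb_pos hsb
      omega
  · intro h
    refine ⟨{r, s}, ?_, ?_, ?_, ?_⟩
    · simpa using h
    · intro a ha
      simp only [Multiset.insert_eq_cons, Multiset.mem_cons, Multiset.mem_singleton] at ha
      rcases ha with rfl | rfl
      · exact hr.two_le
      · exact hs.two_le
    · simp only [Multiset.insert_eq_cons, Multiset.sum_cons, Multiset.sum_singleton,
        Multiset.card_cons, Multiset.card_singleton]
      obtain ⟨x, hx⟩ := hrodd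
      obtain ⟨y, hy⟩ := hsodd
      exact ⟨x + y + 2, by omega⟩
    · simp only [Multiset.insert_eq_cons, Multiset.lcm_cons, Multiset.lcm_singleton]
      simp only [normalize_eq]
      exact hcop.lcm_eq_mul

end Cfsg.Agent.S2466
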