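-- Statement S2467: adjacency of 2 and an odd prime in the prime graph of alternating groups.
import Cfsg.Statements.S2467
import Cfsg.Agent.Helper41.AltOrders

set_option autoImplicit false
open Cfsg

namespace Cfsg.Agent.S2467

/-- If all parts are odd then `sum + card` is even. -/
theorem even_sum_add_card_of_all_odd (t : Multiset ℕ) (h : ∀ a ∈ t, Odd a) :
    Even (t.sum + Multiset.card t) := by
  induction t using Multiset.induction_on with
  | empty => simp
  | cons a t ih =>
    have ha : Odd a := h a (Multiset.mem_cons_self a t)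
    have ht := ih (fun b hb => h b (Multiset.mem_cons_of_mem hb))
    rw [Multiset.sum_cons, Multiset.card_cons]
    obtain ⟨x, hx⟩ := ha
    obtain ⟨y, hy⟩ := ht
    exact ⟨x + y + 1, by omega⟩

theorem result (n r : ℕ) (hn : 4 ≤ n) (hr : r.Prime) (hr2 : r ≠ 2) (hrn : r ≤ n) :
    (2 * r ∈ Set.range (orderOf : alternatingGroup (Fin n) → ℕ)) ↔ r + 4 ≤ n := by
  rw [Cfsg.Agent.Helper41.mem_range_orderOf_alternatingGroup_iff]
  have hrodd : Odd r := hr.odd_of_ne_two hr2
  have hr2' : 2 ≤ r := hr.two_le
  have hcop : Nat.Coprime 2 r := (Nat.coprime_primes Nat.prime_two hr).mpr (Ne.symm hr2)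
  constructor
  · rintro ⟨t, hsum, h2, heven, hlcm⟩
    have h2t : 2 ∣ t.lcm := by rw [hlcm]; exact dvd_mul_right 2 r
    have hrt : r ∣ t.lcm := by rw [hlcm]; exact dvd_mul_left r 2
    obtain ⟨a, hat, h2a⟩ := Cfsg.Agent.Helper41.exists_dvd_of_prime_dvd_multiset_lcm Nat.prime_two t h2t
    obtain ⟨b, hbt, hrb⟩ := Cfsg.Agent.Helper41.exists_dvd_of_prime_dvd_multiset_lcm hr t hrt
    obtain ⟨t', rfl⟩ := Multiset.exists_cons_of_mem hat
    rw [Multiset.sum_cons] at hsum
    rw [Multiset.sum_cons, Multiset.card_cons] at heven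
    -- the rest has an even part
    have hex : ∃ a' ∈ t', 2 ∣ a' := by
      by_contra hne
      push Not at hne
      have hall : ∀ c ∈ t', Odd c := fun c hc => by
        rw [← Nat.not_even_iff_odd, even_iff_two_dvd]; exact hne c hc
      have h1 := even_sum_add_card_of_all_odd t' hall
      obtain ⟨x, hx⟩ := h1
      obtain ⟨y, hy⟩ := heven
      obtain ⟨z, hz⟩ := h2a
      omega
    obtain ⟨a', hat', h2a'⟩ := hex
    obtain ⟨t'', rfl⟩ := Multiset.exists_cons_of_mem hat'
    rw [Multiset.sum_cons] at hsum
    have ha_ge : 2 ≤ a := h2 a hat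
    have ha'_ge : 2 ≤ a' := h2 a' (Multiset.mem_cons_of_mem hat')
    have hb_ge : 2 ≤ b := h2 b hbt
    rcases Multiset.mem_cons.mp hbt with hba | hbt'
    · subst hba
      have : 2 * r ∣ b := hcop.mul_dvd_of_dvd_of_dvd h2a hrb
      have := Nat.le_of_dvd (by omega) this
      omega
    · rcases Multiset.mem_cons.mp hbt' with hba | hbt''
      · subst hba
        have : 2 * r ∣ b := hcop.mul_dvd_of_dvd_of_dvd h2a' hrb
        have := Nat.le_of_dvd (by omega) this
        omega
      · obtain ⟨t''', rfl⟩ := Multiset.exists_cons_of_mem hbt''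
        rw [Multiset.sum_cons] at hsum
        have := Nat.le_of_dvd (by omega) hrb
        omega
  · intro h
    refine ⟨{r, 2, 2}, ?_, ?_, ?_, ?_⟩
    · simp only [Multiset.insert_eq_cons, Multiset.sum_cons, Multiset.sum_singleton]
      omega
    · intro a ha
      simp only [Multiset.insert_eq_cons, Multiset.mem_cons, Multiset.mem_singleton] at ha
      rcases ha with rfl | rfl | rfl
      · exact hr2'
      · exact le_refl 2
      · exact le_refl 2
    · simp only [Multiset.insert_eq_cons, Multiset.sum_cons, Multiset.sum_singleton,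
        Multiset.card_cons, Multiset.card_singleton]
      obtain ⟨x, hx⟩ := hrodd
      exact ⟨x + 4, by omega⟩
    · simp only [Multiset.insert_eq_cons, Multiset.lcm_cons, Multiset.lcm_singleton]
      simp only [normalize_eq, lcm_same]
      rw [mul_comm]
      exact hcop.symm.lcm_eq_mul

end Cfsg.Agent.S2467
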