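import Mathlib
import Cfsg.Statements.S2468
import Cfsg.Agent.Helper38.PSLLift
import Cfsg.Agent.Helper38.CommUnip

set_option autoImplicit false
open Cfsg

namespace Cfsg.Agent.S2468

open Matrix Module Cfsg.Agent.Helper38

section nonadj
variable {F V : Type*} [Field F] [Fintype F] [AddCommGroup V] [Module F V] [Finite V]

omit [Fintype F] [Finite V] in
theorem fixIn_top_ne_top (g : Module.End F V) (hg1 : g ≠ 1) : fixIn g ⊤ ≠ ⊤ := by
  intro h
  apply hg1
  apply LinearMap.ext
  intro v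
  have : v ∈ fixIn g ⊤ := by rw [h]; trivial
  rw [Module.End.one_apply]
  exact ((mem_fixIn g ⊤ v).mp this).2

/-- commuting semisimple elements of prime orders `r`, `s` on a space of dimension `< k + l` -/
theorem dvd_of_commuting (g h : Module.End F V) (hgh : g * h = h * g) (r s : ℕ)
    [hr : Fact r.Prime] [hs : Fact s.Prime]
    (hg : g ^ r = 1) (hh : h ^ s = 1) (hg1 : g ≠ 1) (hh1 : h ≠ 1)
    (hrq : ¬ r ∣ Fintype.card F) (hsq : ¬ s ∣ Fintype.card F)
    (hkl : orderOf ((Fintype.card F : ℕ) : ZMod r) ≤ orderOf ((Fintype.card F : ℕ) : ZMod s))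
    (hn : finrank F V < orderOf ((Fintype.card F : ℕ) : ZMod r) +
      orderOf ((Fintype.card F : ℕ) : ZMod s)) :
    orderOf ((Fintype.card F : ℕ) : ZMod r) ∣ orderOf ((Fintype.card F : ℕ) : ZMod s) := by
  have hq : 1 ≤ Fintype.card F := Fintype.card_pos
  have hBinv : ∀ w ∈ fixIn h ⊤, g w ∈ fixIn h ⊤ := by
    intro w hw
    rw [mem_fixIn] at hw ⊢
    refine ⟨trivial, ?_⟩
    rw [← Module.End.mul_apply, ← hgh, Module.End.mul_apply, hw.2]
  have hAinv : ∀ w ∈ fixIn g ⊤, h w ∈ fixIn g ⊤ := by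
    intro w hw
    rw [mem_fixIn] at hw ⊢
    refine ⟨trivial, ?_⟩
    rw [← Module.End.mul_apply, hgh, Module.End.mul_apply, hw.2]
  have d1 := dvd_pow_sub_one_of_invariant g r hg hrq ⊤ (fun w _ => trivial)
  have d2 := dvd_pow_sub_one_of_invariant h s hh hsq ⊤ (fun w _ => trivial)
  have d3 := dvd_pow_sub_one_of_invariant g r hg hrq _ hBinv
  have d4 := dvd_pow_sub_one_of_invariant h s hh hsq _ hAinv
  have hC : fixIn g (fixIn h ⊤) = fixIn h (fixIn g ⊤) := by
    ext v
    simp only [mem_fixIn]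
    tauto
  rw [hC] at d3
  rw [Cfsg.Agent.Helper40.dvd_pow_sub_one_iff hq] at d1 d2 d3 d4
  rw [finrank_top] at d1 d2
  have ha : finrank F (fixIn g ⊤) < finrank F V :=
    Submodule.finrank_lt (fixIn_top_ne_top g hg1)
  have hb : finrank F (fixIn h ⊤) < finrank F V :=
    Submodule.finrank_lt (fixIn_top_ne_top h hh1)
  have hfa : finrank F (fixIn h (fixIn g ⊤)) ≤ finrank F (fixIn g ⊤) :=
    Submodule.finrank_mono (fixIn_le _ _)
  have hfb : finrank F (fixIn h (fixIn g ⊤)) ≤ finrank F (fixIn h ⊤) := by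
    rw [← hC]
    exact Submodule.finrank_mono (fixIn_le _ _)
  generalize finrank F V = n at *
  generalize finrank F (fixIn g ⊤) = a at *
  generalize finrank F (fixIn h ⊤) = b at *
  generalize finrank F (fixIn h (fixIn g ⊤)) = f at *
  generalize orderOf ((Fintype.card F : ℕ) : ZMod r) = k at *
  generalize orderOf ((Fintype.card F : ℕ) : ZMod s) = l at *
  have h1 : k ≤ n - a := Nat.le_of_dvd (by omega) d1
  have h2 : l ≤ n - b := Nat.le_of_dvd (by omega) d2
  have h3 : a = f := by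
    by_contra hne
    have := Nat.le_of_dvd (by omega) d4
    omega
  have h4 : b = f := by
    by_contra hne
    have := Nat.le_of_dvd (by omega) d3
    omega
  have h5 : n - b = l := Nat.eq_of_dvd_of_lt_two_mul (by omega) d2 (by omega)
  have h6 : n - a = l := by omega
  rw [h6] at d1
  exact d1

end nonadj

section adj
variable {F : Type*} [Field F] [Fintype F]

/-- a prime divisor `s ∤ q` of `|PSL_n(q)|` has `ord_s(q) ≤ n` -/
theorem ord_le_of_dvd_card (n : ℕ) (hn : 2 ≤ n) (s : ℕ) [hs : Fact s.Prime]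
    (hsq : ¬ s ∣ Fintype.card F)
    (h : s ∣ Nat.card (Matrix.ProjectiveSpecialLinearGroup (Fin n) F)) :
    orderOf ((Fintype.card F : ℕ) : ZMod s) ≤ n := by
  have hq : 1 ≤ Fintype.card F := Fintype.card_pos
  have h1 : s ∣ Nat.card (SpecialLinearGroup (Fin n) F) :=
    h.trans (Subgroup.card_quotient_dvd_card _)
  rw [Cfsg.Agent.S2364.card_SL_formula n (by omega)] at h1
  rcases (Nat.Prime.dvd_mul hs.out).mp h1 with h2 | h2
  · exact absurd (hs.out.dvd_of_dvd_pow h2) hsq
  · rw [Prime.dvd_finsetProd_iff hs.out.prime] at h2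
    obtain ⟨i, hi, h3⟩ := h2
    rw [Finset.mem_range] at hi
    have h4 : Fintype.card F ^ n - Fintype.card F ^ i =
        Fintype.card F ^ i * (Fintype.card F ^ (n - i) - 1) := by
      rw [Nat.mul_sub, mul_one, ← pow_add]
      congr 2
      omega
    rw [h4] at h3
    rcases (Nat.Prime.dvd_mul hs.out).mp h3 with h5 | h5
    · exact absurd (hs.out.dvd_of_dvd_pow h5) hsq
    · rw [Cfsg.Agent.Helper40.dvd_pow_sub_one_iff hq] at h5
      have := Nat.le_of_dvd (by omega) h5
      omega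

/-- existence of elements of order `r s` -/
theorem exists_orderOf (n : ℕ) (hn : 2 ≤ n) (r s : ℕ) [hr : Fact r.Prime] [hs : Fact s.Prime]
    (hrs : r ≠ s)
    (h2k : 2 ≤ orderOf ((Fintype.card F : ℕ) : ZMod r))
    (hkl : orderOf ((Fintype.card F : ℕ) : ZMod r) ≤ orderOf ((Fintype.card F : ℕ) : ZMod s))
    (hln : orderOf ((Fintype.card F : ℕ) : ZMod s) ≤ n)
    (h : orderOf ((Fintype.card F : ℕ) : ZMod r) + orderOf ((Fintype.card F : ℕ) : ZMod s) ≤ n ∨
      orderOf ((Fintype.card F : ℕ) : ZMod r) ∣ orderOf ((Fintype.card F : ℕ) : ZMod s)) :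
    ∃ x : Matrix.ProjectiveSpecialLinearGroup (Fin n) F, orderOf x = r * s := by
  have hq : 1 ≤ Fintype.card F := Fintype.card_pos
  have hrq1 : ¬ r ∣ Fintype.card F - 1 := by
    intro h1
    have h2 : r ∣ Fintype.card F ^ 1 - 1 := by rwa [pow_one]
    rw [Cfsg.Agent.Helper40.dvd_pow_sub_one_iff hq, Nat.dvd_one] at h2
    omega
  have hsq1 : ¬ s ∣ Fintype.card F - 1 := by
    intro h1
    have h2 : s ∣ Fintype.card F ^ 1 - 1 := by rwa [pow_one]
    rw [Cfsg.Agent.Helper40.dvd_pow_sub_one_iff hq, Nat.dvd_one] at h2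
    omega
  have hcop : Nat.Coprime (r * s) (Fintype.card F - 1) :=
    Nat.Coprime.mul_left ((Nat.Prime.coprime_iff_not_dvd hr.out).mpr hrq1)
      ((Nat.Prime.coprime_iff_not_dvd hs.out).mpr hsq1)
  have hrs' : Nat.Coprime r s := (Nat.coprime_primes hr.out hs.out).mpr hrs
  have hpos : 0 < r * s := Nat.mul_pos hr.out.pos hs.out.pos
  obtain ⟨X, hX⟩ : ∃ X : Matrix (Fin n) (Fin n) F, orderOf X = r * s := by
    rcases h with h | h
    · -- two blocks
      obtain ⟨A, hA⟩ := exists_matrix_orderOf (F := F)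
        (orderOf ((Fintype.card F : ℕ) : ZMod r)) (by omega) r
        ((Cfsg.Agent.Helper40.dvd_pow_sub_one_iff hq _).mpr dvd_rfl)
      obtain ⟨B, hB⟩ := exists_matrix_orderOf (F := F)
        (orderOf ((Fintype.card F : ℕ) : ZMod s)) (by omega) s
        ((Cfsg.Agent.Helper40.dvd_pow_sub_one_iff hq _).mpr dvd_rfl)
      generalize orderOf ((Fintype.card F : ℕ) : ZMod r) = k at *
      generalize orderOf ((Fintype.card F : ℕ) : ZMod s) = l at *
      refine ⟨twoBlock (splitEquiv (show k + (n - k) = n by omega))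
        (A, twoBlock (splitEquiv (show l + (n - k - l) = n - k by omega)) (B, 1)), ?_⟩
      rw [orderOf_twoBlock, orderOf_twoBlock, hA, hB, orderOf_one, Nat.lcm_one_right]
      exact hrs'.lcm_eq_mul
    · -- one Singer block
      have hdvd : r * s ∣ Fintype.card F ^ orderOf ((Fintype.card F : ℕ) : ZMod s) - 1 :=
        hrs'.mul_dvd_of_dvd_of_dvd ((Cfsg.Agent.Helper40.dvd_pow_sub_one_iff hq _).mpr h)
          ((Cfsg.Agent.Helper40.dvd_pow_sub_one_iff hq _).mpr dvd_rfl)
      obtain ⟨A, hA⟩ := exists_matrix_orderOf (F := F)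
        (orderOf ((Fintype.card F : ℕ) : ZMod s)) (by omega) (r * s) hdvd
      generalize orderOf ((Fintype.card F : ℕ) : ZMod s) = l at *
      refine ⟨twoBlock (splitEquiv (show l + (n - l) = n by omega)) (A, 1), ?_⟩
      rw [orderOf_twoBlock, hA, orderOf_one, Nat.lcm_one_right]
  obtain ⟨Y, hY⟩ := exists_SL_orderOf X (by rw [hX]; exact hpos) (by rw [hX]; exact hcop)
  refine ⟨QuotientGroup.mk Y, ?_⟩
  rw [orderOf_mk_of_coprime (by omega) Y (by rw [hY, hX]; exact hcop), hY, hX]

end adj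

/-- Adjacency of two odd primes in the prime graph of PSL(n,q): let F be a finite field of characteristic p with q elements, n ≥ 2 with PSL(n,F) simple, and let r ≠ s be odd primes different from p dividing the order of PSL(n,F). Let k and l be the multiplicative orders of q modulo r and modulo s, and suppose 2 ≤ k ≤ l. Then PSL(n,F) has NO element of order r·s if and only if k + l > n and k does not divide l. -/
theorem result {F : Type*} [Field F] [Fintype F] (p : ℕ) [Fact p.Prime] [CharP F p] (n : ℕ) (hn : 2 ≤ n) (hsmall : n = 2 → 4 ≤ Fintype.card F)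
    (r s : ℕ) (hr : r.Prime) (hs : s.Prime) (hr2 : r ≠ 2) (hs2 : s ≠ 2) (hrp : r ≠ p) (hsp : s ≠ p) (hrs : r ≠ s)
    (hrG : r ∣ Nat.card (Matrix.ProjectiveSpecialLinearGroup (Fin n) F)) (hsG : s ∣ Nat.card (Matrix.ProjectiveSpecialLinearGroup (Fin n) F))
    (k l : ℕ) (hk : k = orderOf ((Fintype.card F : ℕ) : ZMod r)) (hl : l = orderOf ((Fintype.card F : ℕ) : ZMod s))
    (h2k : 2 ≤ k) (hkl : k ≤ l) :
    (r * s ∉ Set.range (orderOf : Matrix.ProjectiveSpecialLinearGroup (Fin n) F → ℕ)) ↔ (n < k + l ∧ ¬ k ∣ l) := by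
  have hpp : p.Prime := Fact.out
  have : Fact r.Prime := ⟨hr⟩
  have : Fact s.Prime := ⟨hs⟩
  have hq : 1 ≤ Fintype.card F := Fintype.card_pos
  obtain ⟨f, -, hf⟩ := FiniteField.card F p
  have hrq : ¬ r ∣ Fintype.card F := by
    rw [hf]
    intro h
    exact hrp ((Nat.prime_dvd_prime_iff_eq hr hpp).mp (hr.dvd_of_dvd_pow h))
  have hsq : ¬ s ∣ Fintype.card F := by
    rw [hf]
    intro h
    exact hsp ((Nat.prime_dvd_prime_iff_eq hs hpp).mp (hs.dvd_of_dvd_pow h))
  subst hk hl
  constructor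
  · intro hno
    by_contra hcon
    have hln := ord_le_of_dvd_card n hn s hsq hsG
    have hor : orderOf ((Fintype.card F : ℕ) : ZMod r) + orderOf ((Fintype.card F : ℕ) : ZMod s) ≤ n ∨
        orderOf ((Fintype.card F : ℕ) : ZMod r) ∣ orderOf ((Fintype.card F : ℕ) : ZMod s) := by
      by_cases h : orderOf ((Fintype.card F : ℕ) : ZMod r) ∣ orderOf ((Fintype.card F : ℕ) : ZMod s)
      · exact Or.inr h
      · left
        by_contra h'
        exact hcon ⟨by omega, h⟩
    obtain ⟨x, hx⟩ := exists_orderOf n hn r s hrs h2k hkl hln hor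
    exact hno ⟨x, hx⟩
  · rintro ⟨hlt, hndvd⟩ ⟨x, hx⟩
    have hrq1 : ¬ r ∣ Fintype.card F - 1 := by
      intro h1
      have h2 : r ∣ Fintype.card F ^ 1 - 1 := by rwa [pow_one]
      rw [Cfsg.Agent.Helper40.dvd_pow_sub_one_iff hq, Nat.dvd_one] at h2
      omega
    have hsq1 : ¬ s ∣ Fintype.card F - 1 := by
      intro h1
      have h2 : s ∣ Fintype.card F ^ 1 - 1 := by rwa [pow_one]
      rw [Cfsg.Agent.Helper40.dvd_pow_sub_one_iff hq, Nat.dvd_one] at h2
      omega
    obtain ⟨g, h, hgh, hg, hh, hg1, hh1⟩ :=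
      exists_commuting_lifts (by omega) x r s hr hs hx hrq1 hsq1
    apply hndvd
    have hφ := (Matrix.toLinAlgEquiv' (R := F) (n := Fin n)).injective
    refine dvd_of_commuting (Matrix.toLinAlgEquiv' (R := F) (n := Fin n) g)
      (Matrix.toLinAlgEquiv' (R := F) (n := Fin n) h)
      (by rw [← map_mul, hgh, map_mul]) r s (by rw [← map_pow, hg, map_one])
      (by rw [← map_pow, hh, map_one])
      (by
        intro h'
        apply hg1
        apply hφ
        rw [h', map_one])
      (by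
        intro h'
        apply hh1
        apply hφ
        rw [h', map_one]) hrq hsq hkl (by rw [Module.finrank_fin_fun]; exact hlt)

end Cfsg.Agent.S2468
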