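-- Statement S2471: PSL(2,q), q odd, has no element of order 2p.
import Cfsg.Statements.S2471
import Mathlib

set_option autoImplicit false
open Cfsg

namespace Cfsg.Agent.S2471

open Matrix

/-- A non-central element of `SL₂` whose square is central has trace zero. -/
theorem trace_eq_zero_of_sq_mem_center {F : Type*} [Field F]
    (K : Matrix.SpecialLinearGroup (Fin 2) F)
    (h2 : K ^ 2 ∈ Subgroup.center (Matrix.SpecialLinearGroup (Fin 2) F))
    (h1 : K ∉ Subgroup.center (Matrix.SpecialLinearGroup (Fin 2) F)) :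
    (K : Matrix (Fin 2) (Fin 2) F) 0 0 + (K : Matrix (Fin 2) (Fin 2) F) 1 1 = 0 := by
  rw [Matrix.SpecialLinearGroup.mem_center_iff] at h1 h2
  obtain ⟨r, -, hr⟩ := h2
  have hdet : (K : Matrix (Fin 2) (Fin 2) F) 0 0 * (K : Matrix (Fin 2) (Fin 2) F) 1 1 -
      (K : Matrix (Fin 2) (Fin 2) F) 0 1 * (K : Matrix (Fin 2) (Fin 2) F) 1 0 = 1 := by
    have := K.det_coe
    rwa [Matrix.det_fin_two] at this
  rw [Matrix.SpecialLinearGroup.coe_pow, pow_two] at hr
  have e01 := congr_fun (congr_fun hr 0) 1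
  have e10 := congr_fun (congr_fun hr 1) 0
  have e00 := congr_fun (congr_fun hr 0) 0
  have e11 := congr_fun (congr_fun hr 1) 1
  simp [Matrix.mul_apply, Fin.sum_univ_two, Matrix.scalar_apply] at e01 e10 e00 e11
  set a := (K : Matrix (Fin 2) (Fin 2) F) 0 0
  set b := (K : Matrix (Fin 2) (Fin 2) F) 0 1
  set c := (K : Matrix (Fin 2) (Fin 2) F) 1 0
  set d := (K : Matrix (Fin 2) (Fin 2) F) 1 1
  by_contra hne
  apply h1
  have hb : b = 0 := by
    have : b * (a + d) = 0 := by linear_combination -e01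
    rcases mul_eq_zero.mp this with h | h
    · exact h
    · exact absurd h hne
  have hc : c = 0 := by
    have : c * (a + d) = 0 := by linear_combination -e10
    rcases mul_eq_zero.mp this with h | h
    · exact h
    · exact absurd h hne
  have had : a = d := by
    have : (a - d) * (a + d) = 0 := by linear_combination e11 - e00
    rcases mul_eq_zero.mp this with h | h
    · exact sub_eq_zero.mp h
    · exact absurd h hne
  refine ⟨a, ?_, ?_⟩
  · simp only [Fintype.card_fin]
    rw [hb, hc, ← had] at hdet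
    linear_combination hdet
  · ext i j
    fin_cases i <;> fin_cases j <;> simp [Matrix.scalar_apply, a, b, c, d] <;>
      first | exact hb.symm | exact hc.symm | exact had | skip

/-- A trace-zero element of `SL₂` has central square. -/
theorem sq_mem_center_of_trace_eq_zero {F : Type*} [Field F]
    (A : Matrix.SpecialLinearGroup (Fin 2) F)
    (h : (A : Matrix (Fin 2) (Fin 2) F) 0 0 + (A : Matrix (Fin 2) (Fin 2) F) 1 1 = 0) :
    A ^ 2 ∈ Subgroup.center (Matrix.SpecialLinearGroup (Fin 2) F) := by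
  rw [Matrix.SpecialLinearGroup.mem_center_iff]
  have hdet : (A : Matrix (Fin 2) (Fin 2) F) 0 0 * (A : Matrix (Fin 2) (Fin 2) F) 1 1 -
      (A : Matrix (Fin 2) (Fin 2) F) 0 1 * (A : Matrix (Fin 2) (Fin 2) F) 1 0 = 1 := by
    have := A.det_coe
    rwa [Matrix.det_fin_two] at this
  refine ⟨-1, by simp, ?_⟩
  rw [Matrix.SpecialLinearGroup.coe_pow, pow_two]
  set a := (A : Matrix (Fin 2) (Fin 2) F) 0 0
  set b := (A : Matrix (Fin 2) (Fin 2) F) 0 1
  set c := (A : Matrix (Fin 2) (Fin 2) F) 1 0
  set d := (A : Matrix (Fin 2) (Fin 2) F) 1 1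
  have hd : d = -a := by linear_combination h
  ext i j
  fin_cases i <;> fin_cases j <;>
    simp [Matrix.mul_apply, Fin.sum_univ_two, Matrix.scalar_apply]
  · change -1 = a * a + b * c
    rw [hd] at hdet; linear_combination hdet
  · change 0 = a * b + b * d
    rw [hd]; ring
  · change 0 = c * a + d * c
    rw [hd]; ring
  · change -1 = c * b + d * d
    rw [hd] at hdet ⊢; linear_combination hdet

theorem result {F : Type*} [Field F] [Fintype F] (p : ℕ) [Fact p.Prime] [CharP F p] (hp : p ≠ 2) (h5 : 5 ≤ Fintype.card F) (g : Matrix.ProjectiveSpecialLinearGroup (Fin 2) F) :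
    orderOf g ≠ 2 * p := by
  intro hord
  have hpp : p.Prime := Fact.out
  obtain ⟨A, rfl⟩ := QuotientGroup.mk_surjective g
  obtain ⟨⟨f, hfpos⟩, -, hf⟩ := FiniteField.card F p
  simp only [PNat.mk_coe] at hf
  -- the q-th power has order 2
  have hgcd : Nat.gcd (2 * p) (p ^ f) = p := by
    have h2p : Nat.Coprime 2 (p ^ f) :=
      Nat.Coprime.pow_right f ((Nat.coprime_primes Nat.prime_two hpp).mpr (Ne.symm hp))
    obtain ⟨f', rfl⟩ : ∃ f', f = f' + 1 := ⟨f - 1, by omega⟩
    rw [pow_succ, mul_comm (p ^ f') p, mul_comm 2 p, Nat.gcd_mul_left]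
    have : Nat.Coprime 2 (p ^ f') :=
      Nat.Coprime.pow_right f' ((Nat.coprime_primes Nat.prime_two hpp).mpr (Ne.symm hp))
    rw [this.gcd_eq_one, mul_one]
  have hK : orderOf ((QuotientGroup.mk A : Matrix.ProjectiveSpecialLinearGroup (Fin 2) F) ^ Fintype.card F) = 2 := by
    rw [orderOf_pow, hord, hf, hgcd, Nat.mul_div_cancel _ hpp.pos]
  rw [← QuotientGroup.mk_pow] at hK
  set K := A ^ Fintype.card F with hKdef
  have hK2 : K ^ 2 ∈ Subgroup.center (Matrix.SpecialLinearGroup (Fin 2) F) := by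
    rw [← QuotientGroup.eq_one_iff, QuotientGroup.mk_pow]
    have h := pow_orderOf_eq_one (QuotientGroup.mk K : Matrix.ProjectiveSpecialLinearGroup (Fin 2) F)
    rwa [hK] at h
  have hK1 : K ∉ Subgroup.center (Matrix.SpecialLinearGroup (Fin 2) F) := by
    rw [← QuotientGroup.eq_one_iff]
    intro h
    rw [h, orderOf_one] at hK
    exact absurd hK (by decide)
  have htrK := trace_eq_zero_of_sq_mem_center K hK2 hK1
  have htr : Matrix.trace (A : Matrix (Fin 2) (Fin 2) F) = 0 := by
    have h1 := FiniteField.trace_pow_card (A : Matrix (Fin 2) (Fin 2) F)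
    rw [FiniteField.pow_card, ← Matrix.SpecialLinearGroup.coe_pow, Matrix.trace_fin_two] at h1
    rw [← h1]
    exact htrK
  rw [Matrix.trace_fin_two] at htr
  have hA2 := sq_mem_center_of_trace_eq_zero A htr
  rw [← QuotientGroup.eq_one_iff, QuotientGroup.mk_pow] at hA2
  have hdvd := orderOf_dvd_of_pow_eq_one hA2
  rw [hord] at hdvd
  have := Nat.le_of_dvd (by decide) hdvd
  have := hpp.two_le
  omega

end Cfsg.Agent.S2471
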