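-- Statement S2475: the set of element orders of PSL(2,q).
import Cfsg.Statements.S2475
import Cfsg.Agent.Helper41.PSL2Orders

set_option autoImplicit false
open Cfsg

namespace Cfsg.Agent.S2475

theorem result {F : Type*} [Field F] [Fintype F] (p : ℕ) [Fact p.Prime] [CharP F p] (h4 : 4 ≤ Fintype.card F) :
    Set.range (orderOf : Matrix.ProjectiveSpecialLinearGroup (Fin 2) F → ℕ) =
      {m : ℕ | m ∣ p ∨ m ∣ (Fintype.card F - 1) / Nat.gcd 2 (Fintype.card F - 1) ∨ m ∣ (Fintype.card F + 1) / Nat.gcd 2 (Fintype.card F - 1)} := by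
  ext m
  simp only [Set.mem_range, Set.mem_ofPred_eq]
  constructor
  · rintro ⟨g, rfl⟩
    exact Cfsg.Agent.Helper41.psl2_orderOf_dvd p g
  · have key : ∀ N : ℕ, (∃ g : Matrix.ProjectiveSpecialLinearGroup (Fin 2) F, orderOf g = N) → m ∣ N →
        ∃ g : Matrix.ProjectiveSpecialLinearGroup (Fin 2) F, orderOf g = m := by
      rintro N ⟨g, rfl⟩ hm
      exact ⟨g ^ (orderOf g / m), orderOf_pow_orderOf_div (orderOf_pos g).ne' hm⟩
    rintro (h | h | h)
    · exact key p (Cfsg.Agent.Helper41.psl2_exists_orderOf_eq_char p) h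
    · exact key _ Cfsg.Agent.Helper41.psl2_exists_orderOf_eq_split h
    · exact key _ (Cfsg.Agent.Helper41.psl2_exists_orderOf_eq_nonsplit p) h

end Cfsg.Agent.S2475
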