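-- Statement S2477: the set of element orders of the alternating group of degree 10.
import Cfsg.Statements.S2477
import Cfsg.Agent.Helper41.AltOrders

set_option autoImplicit false
open Cfsg

namespace Cfsg.Agent.S2477

/-- Checker: for every list of parts (each at least 2) of total at most `budget` and of length
less than `fuel`, if the accumulated parity together with the list's parity is even, then the lcm
of the accumulated lcm with the parts lies in `allowed`. -/
def chk (allowed : List ℕ) : ℕ → ℕ → ℕ → Bool → Bool
  | 0, _, _, _ => false
  | fuel + 1, budget, L, par =>
    (par || decide (L ∈ allowed)) &&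
      (List.range (budget + 1)).all fun a =>
        decide (a < 2) || chk allowed fuel (budget - a) (Nat.lcm a L) (par != decide (a % 2 = 0))

/-- `par = true` means that the accumulated value of `sum + card` is odd. -/
theorem chk_sound (allowed : List ℕ) :
    ∀ (fuel budget L : ℕ) (par : Bool) (l : List ℕ), chk allowed fuel budget L par = true →
      l.length < fuel → (∀ a ∈ l, 2 ≤ a) → l.sum ≤ budget →
      (par != decide ((l.sum + l.length) % 2 = 1)) = false →
      l.foldr Nat.lcm L ∈ allowed := by
  intro fuel
  induction fuel with
  | zero => intro budget L par l h; simp [chk] at h
  | succ fuel ih =>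
    intro budget L par l h hlen h2 hsum hpar
    rw [chk, Bool.and_eq_true] at h
    obtain ⟨h0, hall⟩ := h
    induction l using List.reverseRecOn with
    | nil =>
      simp at hpar
      subst hpar
      simpa using h0
    | append_singleton l a _ =>
      rw [List.all_eq_true] at hall
      have ha2 : 2 ≤ a := h2 a (by simp)
      have hsum' : l.sum + a ≤ budget := by simpa using hsum
      have hab : a ∈ List.range (budget + 1) := by
        rw [List.mem_range]; omega
      have h1 := hall a hab
      rw [Bool.or_eq_true] at h1
      rcases h1 with h1 | h1
      · simp at h1; omega
      · have := ih (budget - a) (Nat.lcm a L) (par != decide (a % 2 = 0)) l h1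
          (by simp at hlen; omega) (fun b hb => h2 b (by simp [hb])) (by omega)
          (by
            simp only [List.sum_append, List.sum_cons, List.sum_nil, List.length_append,
              List.length_cons, List.length_nil] at hpar
            rcases Nat.mod_two_eq_zero_or_one a with ha | ha <;>
            rcases Nat.mod_two_eq_zero_or_one (l.sum + l.length) with hl | hl <;>
            cases par <;> simp_all <;> omega)
        simpa [List.foldr_append] using this

theorem foldr_lcm_eq (l : List ℕ) : l.foldr Nat.lcm 1 = (l : Multiset ℕ).lcm := by
  induction l with
  | nil => simp
  | cons a l ih =>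
    rw [List.foldr_cons, ih, ← Multiset.cons_coe, Multiset.lcm_cons]
    rfl

def allowed : List ℕ := [1, 2, 3, 4, 5, 6, 7, 8, 9, 10, 12, 15, 21]

theorem chk_ten : chk allowed 7 10 1 false = true := by decide +kernel

theorem result : Set.range (orderOf : alternatingGroup (Fin 10) → ℕ) = {1, 2, 3, 4, 5, 6, 7, 8, 9, 10, 12, 15, 21} := by
  ext m
  rw [Cfsg.Agent.Helper41.mem_range_orderOf_alternatingGroup_iff]
  constructor
  · rintro ⟨s, hsum, h2, heven, rfl⟩
    induction s using Quot.inductionOn with
    | h l =>
      have hlen : l.length < 7 := by
        have h2' : ∀ a ∈ l, 2 ≤ a := fun a ha => h2 a (by simpa using ha)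
        have : 2 * l.length ≤ l.sum := by
          clear hsum heven h2
          induction l with
          | nil => simp
          | cons a l ih =>
            have := h2' a (by simp)
            have := ih (fun b hb => h2' b (by simp [hb]))
            simp; omega
        have hs : l.sum ≤ 10 := by simpa using hsum
        omega
      have := chk_sound allowed 7 10 1 false l chk_ten hlen
        (fun a ha => h2 a (by simpa using ha)) (by simpa using hsum)
        (by
          have : Even (l.sum + l.length) := by simpa using heven
          rw [Nat.even_iff] at this
          simp [this])
      rw [foldr_lcm_eq] at this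
      simpa [allowed] using this
  · intro hm
    simp only [Set.mem_insert_iff, Set.mem_singleton_iff] at hm
    rcases hm with rfl | rfl | rfl | rfl | rfl | rfl | rfl | rfl | rfl | rfl | rfl | rfl | rfl
    · exact ⟨{}, by decide, by decide, by decide, by decide⟩
    · exact ⟨{2, 2}, by decide, by decide, by decide, by decide⟩
    · exact ⟨{3}, by decide, by decide, by decide, by decide⟩
    · exact ⟨{4, 2}, by decide, by decide, by decide, by decide⟩
    · exact ⟨{5}, by decide, by decide, by decide, by decide⟩
    · exact ⟨{3, 2, 2}, by decide, by decide, by decide, by decide⟩
    · exact ⟨{7}, by decide, by decide, by decide, by decide⟩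
    · exact ⟨{8, 2}, by decide, by decide, by decide, by decide⟩
    · exact ⟨{9}, by decide, by decide, by decide, by decide⟩
    · exact ⟨{5, 2, 2}, by decide, by decide, by decide, by decide⟩
    · exact ⟨{4, 3, 2}, by decide, by decide, by decide, by decide⟩
    · exact ⟨{5, 3}, by decide, by decide, by decide, by decide⟩
    · exact ⟨{7, 3}, by decide, by decide, by decide, by decide⟩

end Cfsg.Agent.S2477
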