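import Cfsg.Statements.S2479
import Cfsg.Agent.Helper44.SLkFinal
import Cfsg.Agent.Helper44.SLkLower

set_option autoImplicit false
open Cfsg

namespace Cfsg.Agent.S2479

/-- The number of conjugacy classes of SL(n,q): for F a finite field with q elements, the number k of conjugacy classes of SL(n,F) satisfies q^(n−1) < k and k ≤ (5/2)·q^(n−1) for n ≥ 2, and k ≤ q^(n−1) + 3q^(n−2) for n ≥ 3. -/
theorem result {F : Type*} [Field F] [Fintype F] (n : ℕ) (hn : 2 ≤ n) :
    Fintype.card F ^ (n - 1) < Nat.card (ConjClasses (Matrix.SpecialLinearGroup (Fin n) F)) ∧ 2 * Nat.card (ConjClasses (Matrix.SpecialLinearGroup (Fin n) F)) ≤ 5 * Fintype.card F ^ (n - 1) ∧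
      (3 ≤ n → Nat.card (ConjClasses (Matrix.SpecialLinearGroup (Fin n) F)) ≤ Fintype.card F ^ (n - 1) + 3 * Fintype.card F ^ (n - 2)) := by
  have hq : 2 ≤ Fintype.card F := Fintype.one_lt_card
  refine ⟨?_, ?_⟩
  · obtain ⟨k, rfl⟩ : ∃ k, n = k + 1 := ⟨n - 1, by omega⟩
    rw [Nat.add_sub_cancel]
    exact Cfsg.Agent.Helper44.SLk.lower_bound_SL k (by omega)
  · have key : ∀ m : ℕ, Nat.card (ConjClasses (Matrix.SpecialLinearGroup (Fin (m + 3)) F))
        ≤ Fintype.card F ^ (m + 2) + 3 * Fintype.card F ^ (m + 1) := by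
      intro m
      rcases m with _ | _ | m
      · have := Cfsg.Agent.Helper44.SLk.upper_3 (F := F)
        simpa using this
      · exact Cfsg.Agent.Helper44.SLk.upper_4 (F := F)
      · exact Cfsg.Agent.Helper44.SLk.upper_ge5 (F := F) m
    rcases Nat.lt_or_ge n 3 with h | h
    · have h2 : n = 2 := by omega
      subst h2
      refine ⟨?_, fun h3 => absurd h3 (by omega)⟩
      have := Cfsg.Agent.Helper44.SLk.upper_2 (F := F)
      simpa using this
    · obtain ⟨m, rfl⟩ : ∃ m, n = m + 3 := ⟨n - 3, by omega⟩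
      have e1 : m + 3 - 1 = m + 2 := by omega
      have e2 : m + 3 - 2 = m + 1 := by omega
      rw [e1, e2]
      have hk := key m
      refine ⟨?_, fun _ => hk⟩
      have h5 : 2 * Fintype.card F ^ (m + 1) ≤ Fintype.card F ^ (m + 2) := by
        rw [pow_succ _ (m + 1), mul_comm]
        exact Nat.mul_le_mul_left _ hq
      omega

end Cfsg.Agent.S2479
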