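-- Statement S2485: Sylow 2-subgroups of PGL(2,q), q a Mersenne prime, pairwise intersect non-trivially.
import Cfsg.Statements.S2485
import Cfsg.Agent.Helper41.PGL2

set_option autoImplicit false
open scoped Pointwise
open Cfsg

namespace Cfsg.Agent.S2485

open Cfsg.Agent.Helper41 Matrix

variable {F : Type*} [Field F]

/-- In `PGL₂(F)`: the centralizer of the image of a trace-zero matrix `z` of non-square `-det z`
is a 2-group when `q + 1` is a power of 2. -/
theorem isPGroup_centralizer [Fintype F] (hodd : Fintype.card F % 2 = 1) (k : ℕ)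
    (hk : Fintype.card F + 1 = 2 ^ k) (z : GL (Fin 2) F)
    (hz : (z : Matrix (Fin 2) (Fin 2) F).trace = 0)
    (hns : ¬ IsSquare (-(z : Matrix (Fin 2) (Fin 2) F).det)) :
    IsPGroup 2 (Subgroup.centralizer
      ({(QuotientGroup.mk z : GL (Fin 2) F ⧸ Subgroup.center (GL (Fin 2) F))} : Set _)) := by
  rintro ⟨c, hc⟩
  obtain ⟨g, rfl⟩ := QuotientGroup.mk_surjective c
  rw [Subgroup.mem_centralizer_iff] at hc
  have hc' := (hc _ (Set.mem_singleton _)).symm
  rw [pgl2_commute_iff] at hc'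
  obtain ⟨l, hl⟩ := hc'
  have hgdet : (g : Matrix (Fin 2) (Fin 2) F).det ≠ 0 := by
    have := g.isUnit
    rw [Matrix.isUnit_iff_isUnit_det] at this
    exact this.ne_zero
  obtain ⟨r, hr⟩ := sq_pow_card_add_one_scalar_of_not_isSquare hodd _ _ hz hns hgdet l hl
  refine ⟨k + 1, ?_⟩
  apply Subtype.ext
  simp only [Subgroup.coe_pow, Subgroup.coe_one]
  have h1 : (QuotientGroup.mk g : GL (Fin 2) F ⧸ Subgroup.center (GL (Fin 2) F)) ^ 2 ^ (k + 1) =
      QuotientGroup.mk ((g * g) ^ (Fintype.card F + 1)) := by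
    rw [QuotientGroup.mk_pow, QuotientGroup.mk_mul, ← pow_two, ← pow_mul, hk, ← pow_succ']
  rw [h1, pgl2_mk_eq_one_iff]
  exact ⟨r, by simpa using hr⟩

theorem gl2_det_ne_zero (g : GL (Fin 2) F) : (g : Matrix (Fin 2) (Fin 2) F).det ≠ 0 := by
  have := g.isUnit
  rw [Matrix.isUnit_iff_isUnit_det] at this
  exact this.ne_zero

theorem mk_eq_mk_of_eq_smul (g z : GL (Fin 2) F) (β : F)
    (h : (g : Matrix (Fin 2) (Fin 2) F) = β • (z : Matrix (Fin 2) (Fin 2) F)) :
    (QuotientGroup.mk g : GL (Fin 2) F ⧸ Subgroup.center (GL (Fin 2) F)) = QuotientGroup.mk z := by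
  rw [eq_comm, QuotientGroup.eq, Matrix.GeneralLinearGroup.mem_center_iff_val_mem_range_scalar]
  refine ⟨β, ?_⟩
  rw [Units.val_mul, h, Matrix.mul_smul, ← Units.val_mul, inv_mul_cancel, scalar_two_eq_smul_one]
  rfl

/-- Sub-claim A. -/
theorem eq_one_or_eq_of_commute [Fintype F] (hodd : Fintype.card F % 2 = 1) (h2 : (2 : F) ≠ 0)
    (k : ℕ) (hk2 : 2 ≤ k)
    (hk : Fintype.card F + 1 = 2 ^ k) (z : GL (Fin 2) F)
    (hz : (z : Matrix (Fin 2) (Fin 2) F).trace = 0) (e : F) (he : e ≠ 0)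
    (hsq : -(z : Matrix (Fin 2) (Fin 2) F).det = e ^ 2)
    (g : GL (Fin 2) F) (j : ℕ)
    (hj : (QuotientGroup.mk g : GL (Fin 2) F ⧸ Subgroup.center (GL (Fin 2) F)) ^ 2 ^ j = 1)
    (hcomm : (g : Matrix (Fin 2) (Fin 2) F) * (z : Matrix (Fin 2) (Fin 2) F) =
      (z : Matrix (Fin 2) (Fin 2) F) * (g : Matrix (Fin 2) (Fin 2) F)) :
    (QuotientGroup.mk g : GL (Fin 2) F ⧸ Subgroup.center (GL (Fin 2) F)) = 1 ∨
      (QuotientGroup.mk g : GL (Fin 2) F ⧸ Subgroup.center (GL (Fin 2) F)) = QuotientGroup.mk z := by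
  have h1 := pow_card_sub_one_eq_one_of_isSquare hodd _ _ hz e he hsq (gl2_det_ne_zero g) hcomm
  have h3 : (QuotientGroup.mk g : GL (Fin 2) F ⧸ Subgroup.center (GL (Fin 2) F)) ^
      (Fintype.card F - 1) = 1 := by
    rw [← QuotientGroup.mk_pow]
    have : g ^ (Fintype.card F - 1) = 1 := by
      apply Units.ext
      rw [Units.val_pow_eq_pow_val, h1]; rfl
    rw [this]; rfl
  have hd1 := orderOf_dvd_of_pow_eq_one h3
  have hd2 := orderOf_dvd_of_pow_eq_one hj
  obtain ⟨i, -, hi⟩ := (Nat.dvd_prime_pow Nat.prime_two).mp hd2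
  have hi1 : i ≤ 1 := by
    by_contra hi2
    push Not at hi2
    have h4 : 4 ∣ Fintype.card F - 1 := by
      refine dvd_trans ?_ hd1
      rw [hi]
      exact pow_dvd_pow 2 hi2
    obtain ⟨m, hm⟩ : ∃ m, k = m + 2 := ⟨k - 2, by omega⟩
    rw [hm, pow_add] at hk
    omega
  have hsq2 : (QuotientGroup.mk g : GL (Fin 2) F ⧸ Subgroup.center (GL (Fin 2) F)) ^ 2 = 1 := by
    apply orderOf_dvd_iff_pow_eq_one.mp
    rw [hi]
    exact pow_dvd_pow 2 hi1 |>.trans (by norm_num)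
  rw [← QuotientGroup.mk_pow, pgl2_mk_eq_one_iff, pow_two] at hsq2
  obtain ⟨r, hr⟩ := hsq2
  rw [Units.val_mul] at hr
  have hzdet := gl2_det_ne_zero z
  rcases scalar_or_smul_of_sq_scalar h2 _ _ hz hzdet hcomm r hr with ⟨α, hα⟩ | ⟨β, hβ⟩
  · left
    rw [pgl2_mk_eq_one_iff]
    exact ⟨α, hα⟩
  · right
    exact mk_eq_mk_of_eq_smul g z β hβ

/-- Sub-claim B: if `g₁`, `g₂` both anticommute with `z` then `g₁⁻¹ g₂` commutes with `z`. -/
theorem commute_of_anticommute (g₁ g₂ z : GL (Fin 2) F)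
    (h1 : (g₁ : Matrix (Fin 2) (Fin 2) F) * (z : Matrix (Fin 2) (Fin 2) F) =
      (-1 : F) • ((z : Matrix (Fin 2) (Fin 2) F) * (g₁ : Matrix (Fin 2) (Fin 2) F)))
    (h2 : (g₂ : Matrix (Fin 2) (Fin 2) F) * (z : Matrix (Fin 2) (Fin 2) F) =
      (-1 : F) • ((z : Matrix (Fin 2) (Fin 2) F) * (g₂ : Matrix (Fin 2) (Fin 2) F))) :
    ((g₁⁻¹ * g₂ : GL (Fin 2) F) : Matrix (Fin 2) (Fin 2) F) * (z : Matrix (Fin 2) (Fin 2) F) =
      (z : Matrix (Fin 2) (Fin 2) F) * ((g₁⁻¹ * g₂ : GL (Fin 2) F) : Matrix (Fin 2) (Fin 2) F) := by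
  have hinv1 : ((g₁⁻¹ : GL (Fin 2) F) : Matrix (Fin 2) (Fin 2) F) * (g₁ : Matrix (Fin 2) (Fin 2) F) = 1 := by
    rw [← Units.val_mul, inv_mul_cancel]; rfl
  have hinv2 : (g₁ : Matrix (Fin 2) (Fin 2) F) * ((g₁⁻¹ : GL (Fin 2) F) : Matrix (Fin 2) (Fin 2) F) = 1 := by
    rw [← Units.val_mul, mul_inv_cancel]; rfl
  -- z g₁⁻¹ = - g₁⁻¹ z
  have h3 : (z : Matrix (Fin 2) (Fin 2) F) * ((g₁⁻¹ : GL (Fin 2) F) : Matrix (Fin 2) (Fin 2) F) =
      (-1 : F) • (((g₁⁻¹ : GL (Fin 2) F) : Matrix (Fin 2) (Fin 2) F) * (z : Matrix (Fin 2) (Fin 2) F)) := by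
    calc (z : Matrix (Fin 2) (Fin 2) F) * ((g₁⁻¹ : GL (Fin 2) F) : Matrix (Fin 2) (Fin 2) F)
        = (((g₁⁻¹ : GL (Fin 2) F) : Matrix (Fin 2) (Fin 2) F) * (g₁ : Matrix (Fin 2) (Fin 2) F)) *
            (z : Matrix (Fin 2) (Fin 2) F) * ((g₁⁻¹ : GL (Fin 2) F) : Matrix (Fin 2) (Fin 2) F) := by
          rw [hinv1, Matrix.one_mul]
      _ = ((g₁⁻¹ : GL (Fin 2) F) : Matrix (Fin 2) (Fin 2) F) * ((g₁ : Matrix (Fin 2) (Fin 2) F) *
            (z : Matrix (Fin 2) (Fin 2) F)) * ((g₁⁻¹ : GL (Fin 2) F) : Matrix (Fin 2) (Fin 2) F) := by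
          simp only [Matrix.mul_assoc]
      _ = (-1 : F) • (((g₁⁻¹ : GL (Fin 2) F) : Matrix (Fin 2) (Fin 2) F) * (z : Matrix (Fin 2) (Fin 2) F) *
            ((g₁ : Matrix (Fin 2) (Fin 2) F) * ((g₁⁻¹ : GL (Fin 2) F) : Matrix (Fin 2) (Fin 2) F))) := by
          rw [h1]
          simp only [Matrix.mul_smul, Matrix.smul_mul, Matrix.mul_assoc]
      _ = _ := by rw [hinv2, Matrix.mul_one]
  rw [Units.val_mul]
  calc ((g₁⁻¹ : GL (Fin 2) F) : Matrix (Fin 2) (Fin 2) F) * (g₂ : Matrix (Fin 2) (Fin 2) F) *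
        (z : Matrix (Fin 2) (Fin 2) F)
      = ((g₁⁻¹ : GL (Fin 2) F) : Matrix (Fin 2) (Fin 2) F) * ((g₂ : Matrix (Fin 2) (Fin 2) F) *
        (z : Matrix (Fin 2) (Fin 2) F)) := by rw [Matrix.mul_assoc]
    _ = (-1 : F) • (((g₁⁻¹ : GL (Fin 2) F) : Matrix (Fin 2) (Fin 2) F) * (z : Matrix (Fin 2) (Fin 2) F) *
        (g₂ : Matrix (Fin 2) (Fin 2) F)) := by
          rw [h2, Matrix.mul_smul, Matrix.mul_assoc]
    _ = ((z : Matrix (Fin 2) (Fin 2) F) * ((g₁⁻¹ : GL (Fin 2) F) : Matrix (Fin 2) (Fin 2) F)) *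
        (g₂ : Matrix (Fin 2) (Fin 2) F) := by
          rw [h3, Matrix.smul_mul]
    _ = _ := by rw [Matrix.mul_assoc]

/-- A subgroup contained in a four-element set has at most four elements. -/
theorem card_le_four {G : Type*} [Group G] (H : Subgroup G) (a b c d : G)
    (h : ∀ x ∈ H, x = a ∨ x = b ∨ x = c ∨ x = d) : Nat.card H ≤ 4 := by
  classical
  have hsub : (H : Set G) ⊆ (({a, b, c, d} : Finset G) : Set G) := by
    intro x hx
    rcases h x hx with h | h | h | h <;> simp [h]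
  calc Nat.card H = (H : Set G).ncard := (Nat.card_coe_set_eq _)
    _ ≤ (({a, b, c, d} : Finset G) : Set G).ncard := Set.ncard_le_ncard hsub (Finset.finite_toSet _)
    _ = ({a, b, c, d} : Finset G).card := Set.ncard_coe_finset _
    _ ≤ 4 := Finset.card_le_four

/-- Type II: a 2-subgroup centralizing the image of a split trace-zero element has order ≤ 4. -/
theorem card_le_four_of_isSquare [Fintype F] (hodd : Fintype.card F % 2 = 1) (h2 : (2 : F) ≠ 0)
    (k : ℕ) (hk2 : 2 ≤ k)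
    (hk : Fintype.card F + 1 = 2 ^ k) (z : GL (Fin 2) F)
    (hz : (z : Matrix (Fin 2) (Fin 2) F).trace = 0) (e : F) (he : e ≠ 0)
    (hsq : -(z : Matrix (Fin 2) (Fin 2) F).det = e ^ 2)
    (H : Subgroup (GL (Fin 2) F ⧸ Subgroup.center (GL (Fin 2) F))) (hH2 : IsPGroup 2 H)
    (hHz : ∀ h ∈ H, h * QuotientGroup.mk z = QuotientGroup.mk z * h) : Nat.card H ≤ 4 := by
  have hpow : ∀ x ∈ H, ∃ j : ℕ, x ^ 2 ^ j = 1 := by
    intro x hx
    obtain ⟨j, hj⟩ := hH2 ⟨x, hx⟩
    refine ⟨j, ?_⟩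
    have := congrArg Subtype.val hj
    simpa using this
  have hsign : ∀ g : GL (Fin 2) F,
      (QuotientGroup.mk g : GL (Fin 2) F ⧸ Subgroup.center (GL (Fin 2) F)) ∈ H →
      ((g : Matrix (Fin 2) (Fin 2) F) * (z : Matrix (Fin 2) (Fin 2) F) =
        (z : Matrix (Fin 2) (Fin 2) F) * (g : Matrix (Fin 2) (Fin 2) F)) ∨
      ((g : Matrix (Fin 2) (Fin 2) F) * (z : Matrix (Fin 2) (Fin 2) F) =
        (-1 : F) • ((z : Matrix (Fin 2) (Fin 2) F) * (g : Matrix (Fin 2) (Fin 2) F))) := by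
    intro g hg
    obtain ⟨l, hl⟩ := (pgl2_commute_iff g z).mp (hHz _ hg)
    have hl2 := sq_eq_one_of_mul_eq_smul_mul _ _ (gl2_det_ne_zero g) (gl2_det_ne_zero z) l hl
    have : (l - 1) * (l + 1) = 0 := by linear_combination hl2
    rcases mul_eq_zero.mp this with h | h
    · left
      have : l = 1 := by linear_combination h
      rw [hl, this, one_smul]
    · right
      have : l = -1 := by linear_combination h
      rw [hl, this]
  by_cases hall : ∀ g : GL (Fin 2) F,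
      (QuotientGroup.mk g : GL (Fin 2) F ⧸ Subgroup.center (GL (Fin 2) F)) ∈ H →
      (g : Matrix (Fin 2) (Fin 2) F) * (z : Matrix (Fin 2) (Fin 2) F) =
        (z : Matrix (Fin 2) (Fin 2) F) * (g : Matrix (Fin 2) (Fin 2) F)
  · apply card_le_four H 1 (QuotientGroup.mk z) 1 1
    intro x hx
    obtain ⟨g, rfl⟩ := QuotientGroup.mk_surjective x
    obtain ⟨j, hj⟩ := hpow _ hx
    rcases eq_one_or_eq_of_commute hodd h2 k hk2 hk z hz e he hsq g j hj (hall g hx) with h | h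
    · left; exact h
    · right; left; exact h
  · push Not at hall
    obtain ⟨g₁, hg₁H, hg₁⟩ := hall
    have hg₁' := (hsign g₁ hg₁H).resolve_left hg₁
    apply card_le_four H 1 (QuotientGroup.mk z) (QuotientGroup.mk g₁)
      (QuotientGroup.mk g₁ * QuotientGroup.mk z)
    intro x hx
    obtain ⟨g, rfl⟩ := QuotientGroup.mk_surjective x
    rcases hsign g hx with hc | ha
    · obtain ⟨j, hj⟩ := hpow _ hx
      rcases eq_one_or_eq_of_commute hodd h2 k hk2 hk z hz e he hsq g j hj hc with h | h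
      · left; exact h
      · right; left; exact h
    · have hmem : (QuotientGroup.mk (g₁⁻¹ * g) : GL (Fin 2) F ⧸ Subgroup.center (GL (Fin 2) F)) ∈ H := by
        rw [QuotientGroup.mk_mul, QuotientGroup.mk_inv]
        exact H.mul_mem (H.inv_mem hg₁H) hx
      obtain ⟨j, hj⟩ := hpow _ hmem
      have hc := commute_of_anticommute g₁ g z hg₁' ha
      rcases eq_one_or_eq_of_commute hodd h2 k hk2 hk z hz e he hsq (g₁⁻¹ * g) j hj hc with h | h
      · right; right; left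
        rw [QuotientGroup.mk_mul, QuotientGroup.mk_inv, inv_mul_eq_one] at h
        exact h.symm
      · right; right; right
        rw [QuotientGroup.mk_mul, QuotientGroup.mk_inv, inv_mul_eq_iff_eq_mul] at h
        exact h

/-- A Sylow 2-subgroup of order ≥ 8... has a central involution. -/
theorem exists_central_involution {G : Type*} [Group G] [Finite G] (H : Subgroup G)
    (hH : IsPGroup 2 H) (hnt : 1 < Nat.card H) :
    ∃ z ∈ H, z ≠ 1 ∧ z ^ 2 = 1 ∧ ∀ h ∈ H, h * z = z * h := by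
  have : Nontrivial H := Finite.one_lt_card_iff_nontrivial.mp hnt
  have : Fact (Nat.Prime 2) := ⟨Nat.prime_two⟩
  have hcen := IsPGroup.center_nontrivial hH
  have hcenP : IsPGroup 2 (Subgroup.center H) := hH.to_subgroup _
  have hdvd : 2 ∣ Nat.card (Subgroup.center H) := by
    rcases hcenP.card_eq_or_dvd with h | h
    · exfalso
      have := Finite.one_lt_card_iff_nontrivial.mpr hcen
      omega
    · exact h
  obtain ⟨c, hc⟩ := exists_prime_orderOf_dvd_card' 2 hdvd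
  obtain ⟨⟨z, hzH⟩, hzC⟩ := c
  refine ⟨z, hzH, ?_, ?_, ?_⟩
  · rintro rfl
    have : (⟨⟨1, hzH⟩, hzC⟩ : Subgroup.center H) = 1 := rfl
    rw [this, orderOf_one] at hc
    omega
  · have h1 := pow_orderOf_eq_one (⟨⟨z, hzH⟩, hzC⟩ : Subgroup.center H)
    rw [hc] at h1
    have h2 := congrArg (fun c : Subgroup.center H => ((c : H) : G)) h1
    simpa using h2
  · intro h hh
    rw [Subgroup.mem_center_iff] at hzC
    have := hzC ⟨h, hh⟩
    have h2 := congrArg (fun c : H => (c : G)) this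
    simpa using h2

theorem ne_bot_of_mem {G : Type*} [Group G] (H K : Subgroup G) (y : G) (h1 : y ∈ H) (h2 : y ∈ K)
    (hy : y ≠ 1) : H ⊓ K ≠ ⊥ := by
  intro hbot
  have : y ∈ H ⊓ K := ⟨h1, h2⟩
  rw [hbot, Subgroup.mem_bot] at this
  exact hy this

theorem mem_conj_smul_iff {G : Type*} [Group G] (H : Subgroup G) (x y : G) :
    y ∈ MulAut.conj x • H ↔ x⁻¹ * y * x ∈ H := by
  rw [Subgroup.mem_pointwise_smul_iff_inv_smul_mem]
  rw [MulAut.smul_def, MulAut.conj_inv_apply]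

theorem main [Fintype F] (hodd : Fintype.card F % 2 = 1) (h2 : (2 : F) ≠ 0) (k : ℕ)
    (hk3 : 3 ≤ k) (hk : Fintype.card F + 1 = 2 ^ k)
    (H : Sylow 2 (GL (Fin 2) F ⧸ Subgroup.center (GL (Fin 2) F)))
    (x : GL (Fin 2) F ⧸ Subgroup.center (GL (Fin 2) F)) :
    (H : Subgroup (GL (Fin 2) F ⧸ Subgroup.center (GL (Fin 2) F))) ⊓
      MulAut.conj x • (H : Subgroup _) ≠ ⊥ := by
  classical
  have hcard := card_pgl2 (F := F)
  have h8 : 2 ^ 3 ∣ Nat.card (GL (Fin 2) F ⧸ Subgroup.center (GL (Fin 2) F)) := by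
    rw [hcard, hk]
    exact Dvd.dvd.mul_left (pow_dvd_pow 2 hk3) _
  have hH8 : 2 ^ 3 ∣ Nat.card H := Sylow.pow_dvd_card_of_pow_dvd_card H h8
  have hH8' : 8 ≤ Nat.card H := Nat.le_of_dvd Nat.card_pos hH8
  have hH1 : 1 < Nat.card (H : Subgroup (GL (Fin 2) F ⧸ Subgroup.center (GL (Fin 2) F))) := by
    omega
  obtain ⟨zb, hzbH, hzb1, hzb2, hzbc⟩ :=
    exists_central_involution H.toSubgroup H.isPGroup' hH1
  obtain ⟨z, rfl⟩ := QuotientGroup.mk_surjective zb
  have hzdet := gl2_det_ne_zero z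
  have hzns : ∀ r : F, (z : Matrix (Fin 2) (Fin 2) F) ≠ Matrix.scalar (Fin 2) r := by
    intro r hr
    exact hzb1 ((pgl2_mk_eq_one_iff z).mpr ⟨r, hr⟩)
  have hzsq : ∃ r : F, (z : Matrix (Fin 2) (Fin 2) F) * (z : Matrix (Fin 2) (Fin 2) F) =
      Matrix.scalar (Fin 2) r := by
    rw [← QuotientGroup.mk_pow, pgl2_mk_eq_one_iff, pow_two, Units.val_mul] at hzb2
    exact hzb2
  obtain ⟨r, hr⟩ := hzsq
  have hztr := trace_zero_of_mul_self_scalar _ r hr hzns
  by_cases hsq : IsSquare (-(z : Matrix (Fin 2) (Fin 2) F).det)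
  · exfalso
    obtain ⟨e, he⟩ := hsq
    have he0 : e ≠ 0 := by
      rintro rfl
      apply hzdet
      have : -(z : Matrix (Fin 2) (Fin 2) F).det = 0 := by rw [he]; ring
      linear_combination -this
    have := card_le_four_of_isSquare hodd h2 k (by omega) hk z hztr e he0 (by rw [he]; ring)
      (H : Subgroup _) H.isPGroup' hzbc
    omega
  · have hC2 := isPGroup_centralizer hodd k hk z hztr hsq
    have hle : (H : Subgroup (GL (Fin 2) F ⧸ Subgroup.center (GL (Fin 2) F))) ≤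
        Subgroup.centralizer
          ({(QuotientGroup.mk z : GL (Fin 2) F ⧸ Subgroup.center (GL (Fin 2) F))} : Set _) := by
      intro h hh
      rw [Subgroup.mem_centralizer_iff]
      intro y hy
      rw [Set.mem_singleton_iff] at hy
      rw [hy]
      exact (hzbc h hh).symm
    have hCH := H.is_maximal' hC2 hle
    have hmemH : ∀ y : GL (Fin 2) F ⧸ Subgroup.center (GL (Fin 2) F),
        y * QuotientGroup.mk z = QuotientGroup.mk z * y → y ∈ (H : Subgroup _) := by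
      intro y hy
      rw [← hCH, Subgroup.mem_centralizer_iff]
      intro w hw
      rw [Set.mem_singleton_iff] at hw
      rw [hw]
      exact hy.symm
    obtain ⟨X, rfl⟩ := QuotientGroup.mk_surjective x
    -- z' = X z X⁻¹
    have hz'tr : ((X * z * X⁻¹ : GL (Fin 2) F) : Matrix (Fin 2) (Fin 2) F).trace = 0 := by
      rw [Units.val_mul, Units.val_mul, Matrix.trace_mul_comm, ← Matrix.mul_assoc, ← Units.val_mul,
        inv_mul_cancel, Units.val_one, Matrix.one_mul, hztr]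
    by_cases hprop : ∃ β : F, ((X * z * X⁻¹ : GL (Fin 2) F) : Matrix (Fin 2) (Fin 2) F) =
        β • (z : Matrix (Fin 2) (Fin 2) F)
    · obtain ⟨β, hβ⟩ := hprop
      have heq := mk_eq_mk_of_eq_smul _ _ β hβ
      apply ne_bot_of_mem _ _ (QuotientGroup.mk z) hzbH _ hzb1
      rw [mem_conj_smul_iff]
      have : (QuotientGroup.mk X : GL (Fin 2) F ⧸ Subgroup.center (GL (Fin 2) F))⁻¹ *
          QuotientGroup.mk z * QuotientGroup.mk X = QuotientGroup.mk z := by
        have h3 : (QuotientGroup.mk (X * z * X⁻¹) : GL (Fin 2) F ⧸ Subgroup.center (GL (Fin 2) F)) =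
            QuotientGroup.mk X * QuotientGroup.mk z * (QuotientGroup.mk X)⁻¹ := rfl
        rw [heq] at h3
        calc (QuotientGroup.mk X : GL (Fin 2) F ⧸ Subgroup.center (GL (Fin 2) F))⁻¹ *
              QuotientGroup.mk z * QuotientGroup.mk X
            = (QuotientGroup.mk X)⁻¹ * (QuotientGroup.mk X * QuotientGroup.mk z *
                (QuotientGroup.mk X)⁻¹) * QuotientGroup.mk X := by rw [← h3]
          _ = QuotientGroup.mk z := by group
      rw [this]
      exact hzbH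
    · push Not at hprop
      have hsdet := commutator_det_ne_zero h2 _ _ hztr hz'tr hsq hprop
      obtain ⟨hstr, hsz, hsz'⟩ := commutator_anticomm _ _ hztr hz'tr
      set z' : GL (Fin 2) F := X * z * X⁻¹ with hz'def
      set s : Matrix (Fin 2) (Fin 2) F := (z : Matrix (Fin 2) (Fin 2) F) * (z' : Matrix (Fin 2) (Fin 2) F) -
        (z' : Matrix (Fin 2) (Fin 2) F) * (z : Matrix (Fin 2) (Fin 2) F) with hsdef
      let S : GL (Fin 2) F := Matrix.GeneralLinearGroup.mkOfDetNeZero s hsdet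
      have hSval : (S : Matrix (Fin 2) (Fin 2) F) = s := rfl
      have hS1 : (QuotientGroup.mk S : GL (Fin 2) F ⧸ Subgroup.center (GL (Fin 2) F)) ≠ 1 := by
        rw [Ne, pgl2_mk_eq_one_iff]
        rintro ⟨r', hr'⟩
        exact not_scalar_of_trace_zero h2 s hstr hsdet r' (hSval ▸ hr')
      have hSz : (QuotientGroup.mk S : GL (Fin 2) F ⧸ Subgroup.center (GL (Fin 2) F)) *
          QuotientGroup.mk z = QuotientGroup.mk z * QuotientGroup.mk S := by
        rw [pgl2_commute_iff]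
        refine ⟨-1, ?_⟩
        rw [hSval, hsz, neg_smul, one_smul]
      have hSz' : (QuotientGroup.mk S : GL (Fin 2) F ⧸ Subgroup.center (GL (Fin 2) F)) *
          QuotientGroup.mk z' = QuotientGroup.mk z' * QuotientGroup.mk S := by
        rw [pgl2_commute_iff]
        refine ⟨-1, ?_⟩
        rw [hSval, hsz', neg_smul, one_smul]
      apply ne_bot_of_mem _ _ (QuotientGroup.mk S) (hmemH _ hSz) _ hS1
      rw [mem_conj_smul_iff]
      apply hmemH
      rw [hz'def] at hSz'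
      simp only [QuotientGroup.mk_mul, QuotientGroup.mk_inv] at hSz'
      -- hSz' : S̄ * (X̄ z̄ X̄⁻¹) = (X̄ z̄ X̄⁻¹) * S̄
      calc (QuotientGroup.mk X : GL (Fin 2) F ⧸ Subgroup.center (GL (Fin 2) F))⁻¹ *
            QuotientGroup.mk S * QuotientGroup.mk X * QuotientGroup.mk z
          = (QuotientGroup.mk X)⁻¹ * (QuotientGroup.mk S * (QuotientGroup.mk X * QuotientGroup.mk z *
              (QuotientGroup.mk X)⁻¹)) * QuotientGroup.mk X := by group
        _ = (QuotientGroup.mk X)⁻¹ * ((QuotientGroup.mk X * QuotientGroup.mk z *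
              (QuotientGroup.mk X)⁻¹) * QuotientGroup.mk S) * QuotientGroup.mk X := by rw [hSz']
        _ = _ := by group

/-- Let q = 2^k − 1 ≥ 7 be a prime and let G = PGL(2,q), the general linear group of degree 2 over the field with q elements modulo its centre. Then any two Sylow 2-subgroups of G have a non-trivial intersection: for a Sylow 2-subgroup H and every x ∈ G, H ∩ H^x ≠ 1. -/
theorem result {q k : ℕ} [Fact q.Prime] (hk : q + 1 = 2 ^ k) (hq : 7 ≤ q)
    (H : Sylow 2 (GL (Fin 2) (ZMod q) ⧸ Subgroup.center (GL (Fin 2) (ZMod q))))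
    (x : GL (Fin 2) (ZMod q) ⧸ Subgroup.center (GL (Fin 2) (ZMod q))) :
    (H : Subgroup (GL (Fin 2) (ZMod q) ⧸ Subgroup.center (GL (Fin 2) (ZMod q)))) ⊓ MulAut.conj x • (H : Subgroup _) ≠ ⊥ := by
  have hcard : Fintype.card (ZMod q) = q := ZMod.card q
  have hodd : q % 2 = 1 := by
    rcases (Fact.out : q.Prime).eq_two_or_odd with h | h <;> omega
  have h2 : (2 : ZMod q) ≠ 0 := by
    intro h
    have h3 : ((2 : ℕ) : ZMod q) = 0 := by exact_mod_cast h
    rw [ZMod.natCast_eq_zero_iff] at h3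
    have := Nat.le_of_dvd (by norm_num) h3
    omega
  have hk3 : 3 ≤ k := by
    by_contra h
    push Not at h
    have : 2 ^ k ≤ 2 ^ 2 := Nat.pow_le_pow_right (by norm_num) (by omega)
    omega
  exact main (F := ZMod q) (by rw [hcard]; exact hodd) h2 k hk3 (by rw [hcard]; exact hk) H x

end Cfsg.Agent.S2485
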