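import Cfsg.Statements.S2486
import Cfsg.Agent.Helper42.BruhatB
import Cfsg.Agent.Helper42.OppSylow

set_option autoImplicit false
open scoped Pointwise
open Cfsg

namespace Cfsg.Agent.S2486

open Cfsg.Agent.Helper42

/-- over the field with two elements `SL_n` is all of `GL_n` -/
theorem toGL_bijective (n : ℕ) :
    Function.Bijective (Matrix.SpecialLinearGroup.toGL :
      Matrix.SpecialLinearGroup (Fin n) (ZMod 2) →* GL (Fin n) (ZMod 2)) := by
  constructor
  · intro a b h
    apply Subtype.ext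
    have := congrArg (fun g : GL (Fin n) (ZMod 2) => (g : Matrix (Fin n) (Fin n) (ZMod 2))) h
    exact this
  · intro g
    have hdet : (g : Matrix (Fin n) (Fin n) (ZMod 2)).det = 1 := by
      have h2 : IsUnit (g : Matrix (Fin n) (Fin n) (ZMod 2)).det := by
        rw [← Matrix.isUnit_iff_isUnit_det]
        exact g.isUnit
      have h3 : ∀ x : ZMod 2, x ≠ 0 → x = 1 := by decide
      exact h3 _ h2.ne_zero
    refine ⟨⟨(g : Matrix (Fin n) (Fin n) (ZMod 2)), hdet⟩, ?_⟩
    apply Units.ext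
    rfl

/-- Let n ≥ 4 and let G be a finite group with a normal subgroup N of index 2 isomorphic to SL(n,2) and with trivial centralizer in G (so G is the extension of the simple group L_n(2) by its inverse-transpose automorphism, its full automorphism group). Then any two Sylow 2-subgroups of G have a non-trivial intersection: for a Sylow 2-subgroup H and every x ∈ G, H ∩ H^x ≠ 1. -/
theorem result {G : Type*} [Group G] [Finite G] {n : ℕ} (hn : 4 ≤ n) (N : Subgroup G) [N.Normal]
    (e : N ≃* Matrix.SpecialLinearGroup (Fin n) (ZMod 2)) (hidx : N.index = 2)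
    (hC : Subgroup.centralizer (N : Set G) = ⊥)
    (H : Sylow 2 G) (x : G) :
    (H : Subgroup G) ⊓ MulAut.conj x • (H : Subgroup G) ≠ ⊥ := by
  -- the isomorphism `N ≃* GL_n(2)`
  let ι : ↥N ≃* GL (Fin n) (ZMod 2) :=
    e.trans (MulEquiv.ofBijective Matrix.SpecialLinearGroup.toGL (toGL_bijective n))
  let 𝔅 : Subgroup ↥N := (borel (ZMod 2) n).comap ι.toMonoidHom
  have hmem : ∀ g : ↥N, g ∈ 𝔅 ↔ ι g ∈ borel (ZMod 2) n := fun g => Iff.rfl
  have h1 : IsPGroup 2 𝔅 :=
    (isPGroup_borel_two (n := n)).comap_of_injective ι.toMonoidHom ι.injective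
  have h2 : ∀ g : ↥N, (∀ b ∈ 𝔅, g * b * g⁻¹ ∈ 𝔅) → g ∈ 𝔅 := by
    intro g hg
    rw [hmem]
    apply mem_borel_of_conj_le
    intro b hb
    have hb' : ι.symm b ∈ 𝔅 := by rw [hmem, MulEquiv.apply_symm_apply]; exact hb
    have := (hmem _).mp (hg _ hb')
    rwa [map_mul, map_mul, map_inv, MulEquiv.apply_symm_apply] at this
  have h3 : ∀ g : ↥N, (∀ b ∈ 𝔅, g * b * g⁻¹ ∈ 𝔅 → b = 1) →
      ∃ u ∈ 𝔅, ∃ b ∈ 𝔅, g = u * ι.symm (permGL (ZMod 2) n Fin.revPerm) * b := by
    intro g hg
    obtain ⟨u, hu, b, hb, hgub⟩ := opposite_borel (ι g) (by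
      intro b hb hgb
      have hb' : ι.symm b ∈ 𝔅 := by rw [hmem, MulEquiv.apply_symm_apply]; exact hb
      have h4 : g * ι.symm b * g⁻¹ ∈ 𝔅 := by
        rw [hmem, map_mul, map_mul, map_inv, MulEquiv.apply_symm_apply]; exact hgb
      have := hg _ hb' h4
      have h5 := congrArg ι this
      rwa [MulEquiv.apply_symm_apply, map_one] at h5)
    refine ⟨ι.symm u, by rw [hmem, MulEquiv.apply_symm_apply]; exact hu,
      ι.symm b, by rw [hmem, MulEquiv.apply_symm_apply]; exact hb, ?_⟩
    apply ι.injective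
    rw [map_mul, map_mul, MulEquiv.apply_symm_apply, MulEquiv.apply_symm_apply,
      MulEquiv.apply_symm_apply]
    exact hgub
  have key := sylow_inter_ne_bot_of_opposite N hidx 𝔅 h1 h2 _ h3 H (x • H)
  rwa [Sylow.smul_def, Sylow.pointwise_smul_def] at key

end Cfsg.Agent.S2486
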