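import Cfsg.Statements.S2495
import Cfsg.Agent.Helper38.TorusField
import Cfsg.Agent.Helper38.TorusArith
import Cfsg.Agent.Helper38.Singer
import Cfsg.Agent.Helper38.SU3Pow
import Cfsg.Agent.S2476
import Cfsg.Agent.S2904

set_option autoImplicit false
open Cfsg

namespace Cfsg.Agent.S2495

open Matrix Cfsg.Agent.Helper38

section
variable {F : Type*} [Field F] [Fintype F]

/-- the image of the norm-one Singer torus in `PSL_n(q)` is cyclic of order
`((q ^ n - 1) / (q - 1)) / gcd (n, q - 1)` -/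
theorem exists_psl_order_torus (n : ℕ) (hn : 0 < n) :
    ∃ x : Matrix.ProjectiveSpecialLinearGroup (Fin n) F,
      orderOf x = (∑ i ∈ Finset.range n, Fintype.card F ^ i) / Nat.gcd n (Fintype.card F - 1) := by
  obtain ⟨A, hA, -, hcrit⟩ := exists_singer (F := F) n hn
  set q := Fintype.card F with hq
  have hq2 : 2 ≤ q := Fintype.one_lt_card
  set T := ∑ i ∈ Finset.range n, q ^ i with hT
  have hTq : T * (q - 1) = q ^ n - 1 := geomSum_mul_sub_one q n (by omega)
  have hpos : 0 < q ^ n - 1 := by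
    have : 1 < q ^ n := Nat.one_lt_pow hn.ne' (by omega)
    omega
  have hTpos : 0 < T := by
    rcases Nat.eq_zero_or_pos T with h | h
    · rw [h, zero_mul] at hTq; omega
    · exact h
  have hdetA : A.det ≠ 0 := by
    intro h0
    have h1 : A ^ (q ^ n - 1) = 1 := by rw [← hA]; exact pow_orderOf_eq_one A
    have h2 := congrArg Matrix.det h1
    rw [Matrix.det_pow, h0, zero_pow hpos.ne', Matrix.det_one] at h2
    exact zero_ne_one h2
  have hdet : (A ^ (q - 1)).det = 1 := by
    rw [Matrix.det_pow]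
    exact FiniteField.pow_card_sub_one_eq_one _ hdetA
  let X : SpecialLinearGroup (Fin n) F := ⟨A ^ (q - 1), hdet⟩
  have hXpow : ∀ j : ℕ, (X : Matrix (Fin n) (Fin n) F) ^ j = A ^ ((q - 1) * j) := by
    intro j
    show (A ^ (q - 1)) ^ j = _
    rw [← pow_mul]
  have hscal : ∀ j : ℕ, (∃ μ : F, (X : Matrix (Fin n) (Fin n) F) ^ j =
      μ • (1 : Matrix (Fin n) (Fin n) F)) ↔ T ∣ j * (q - 1) := by
    intro j
    rw [hXpow, hcrit, ← hTq]
    rw [show (q - 1) * j * (q - 1) = (j * (q - 1)) * (q - 1) by ring]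
    exact Nat.mul_dvd_mul_iff_right (by omega)
  have hgcd : Nat.gcd n (q - 1) = Nat.gcd T (q - 1) :=
    ((geomSum_modEq q n (by omega)).gcd_eq).symm
  rw [hgcd]
  set d := Nat.gcd T (q - 1) with hd
  obtain ⟨μ, hμ⟩ : ∃ μ : F, (X : Matrix (Fin n) (Fin n) F) ^ (T / d) =
      μ • (1 : Matrix (Fin n) (Fin n) F) := by
    rw [hscal, mul_comm]
    exact su3_dvd_mul_div d (q - 1) T (Nat.gcd_dvd_right _ _) (Nat.gcd_dvd_left _ _)
  refine ⟨QuotientGroup.mk X, Cfsg.Agent.S2476.orderOf_mk_eq X _ μ hμ ?_⟩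
  intro j hj
  rw [hscal] at hj
  exact Cfsg.Agent.S2476.div_gcd_dvd_of_dvd_mul T (q - 1) j hTpos hj

/-- an element of `PSL_n(q)`, `n = 2m`, of order `q ^ m + 1` lies in the image of a Singer torus -/
theorem torus_necessary {n m : ℕ} (hnm : n = 2 * m) (hm : 2 ≤ m) (hodd : Odd (Fintype.card F))
    (g : Matrix.ProjectiveSpecialLinearGroup (Fin n) F)
    (hg : orderOf g = Fintype.card F ^ m + 1) :
    Fintype.card F ^ m + 1 ∣
      (∑ i ∈ Finset.range n, Fintype.card F ^ i) / Nat.gcd n (Fintype.card F - 1) := by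
  classical
  set q := Fintype.card F with hq
  have hq2 : 2 ≤ q := Fintype.one_lt_card
  have hq3 : 3 ≤ q := by
    obtain ⟨t, ht⟩ := hodd
    omega
  have hn4 : 4 ≤ n := by omega
  set N := q ^ m + 1 with hN
  obtain ⟨X, rfl⟩ := QuotientGroup.mk_surjective g
  set G : Matrix (Fin n) (Fin n) F := (X : Matrix (Fin n) (Fin n) F) with hG
  have hdetG : G.det = 1 := X.2
  obtain ⟨lam, hlam⟩ : ∃ lam : F, G ^ N = lam • (1 : Matrix (Fin n) (Fin n) F) := by
    have h1 : (QuotientGroup.mk X : Matrix.ProjectiveSpecialLinearGroup (Fin n) F) ^ N = 1 := by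
      rw [← hg]; exact pow_orderOf_eq_one _
    rw [← QuotientGroup.mk_pow, QuotientGroup.eq_one_iff, Cfsg.Agent.S2470.mem_center_iff_smul] at h1
    obtain ⟨lam, h⟩ := h1
    exact ⟨lam, by rw [← h, Matrix.SpecialLinearGroup.coe_pow]⟩
  have hmin : ∀ j : ℕ, (∃ μ : F, G ^ j = μ • (1 : Matrix (Fin n) (Fin n) F)) → N ∣ j := by
    rintro j ⟨μ, hμ⟩
    rw [← hg]
    apply orderOf_dvd_of_pow_eq_one
    rw [← QuotientGroup.mk_pow, QuotientGroup.eq_one_iff, Cfsg.Agent.S2470.mem_center_iff_smul]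
    exact ⟨μ, by rw [Matrix.SpecialLinearGroup.coe_pow]; exact hμ⟩
  -- a primitive prime divisor
  obtain ⟨r, hr, hrdvd, hrmin⟩ := Cfsg.Agent.S2904.result q n (by omega) (by omega)
    (by rintro ⟨h, -⟩; omega) (by rintro ⟨h, -⟩; omega)
  have hqm1 : 1 ≤ q ^ m := Nat.one_le_pow _ _ (by omega)
  have hrN : r ∣ N := by
    have h1 : q ^ n - 1 = (q ^ m + 1) * (q ^ m - 1) := by
      have : q ^ n - 1 = (q ^ m) ^ 2 - 1 ^ 2 := by
        rw [one_pow, ← pow_mul, hnm, mul_comm]
      rw [this, Nat.sq_sub_sq]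
    rw [h1] at hrdvd
    rcases (Nat.Prime.dvd_mul hr).1 hrdvd with h | h
    · exact h
    · exact absurd h (hrmin m (by omega) (by omega))
  have hrq : ¬ r ∣ q - 1 := by
    have := hrmin 1 (by omega) (by omega)
    rwa [pow_one] at this
  have hr0 : (r : F) ≠ 0 := by
    intro h0
    obtain ⟨c, hc⟩ := hrdvd
    have h1 : ((q ^ n - 1 : ℕ) : F) = 0 := by rw [hc, Nat.cast_mul, h0, zero_mul]
    have h2 : 1 ≤ q ^ n := Nat.one_le_pow _ _ (by omega)
    rw [Nat.cast_sub h2, Nat.cast_pow, hq, FiniteField.cast_card_eq_zero, zero_pow (by omega),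
      Nat.cast_one, zero_sub] at h1
    exact one_ne_zero (neg_eq_zero.1 h1)
  -- the element of order `r`
  obtain ⟨N', hN'⟩ := hrN
  have hN'pos : 0 < N' := by
    rcases Nat.eq_zero_or_pos N' with h | h
    · rw [h, mul_zero] at hN'; omega
    · exact h
  set e := (q - 1) * N' with he
  set H := G ^ e with hH
  have hlam0 : lam ≠ 0 := by
    rintro rfl
    have := congrArg Matrix.det hlam
    have hne : Nonempty (Fin n) := ⟨⟨0, by omega⟩⟩
    rw [Matrix.det_pow, hdetG, one_pow, zero_smul, Matrix.det_zero] at this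
    exact one_ne_zero this
  have hHr : H ^ r = 1 := by
    rw [hH, ← pow_mul, he, show (q - 1) * N' * r = (r * N') * (q - 1) by ring, ← hN', pow_mul, hlam,
      smul_pow, one_pow, hq, FiniteField.pow_card_sub_one_eq_one lam hlam0, one_smul]
  have hH1 : H ≠ 1 := by
    intro h1
    have h2 := hmin e ⟨1, by rw [one_smul]; exact h1⟩
    rw [hN', he] at h2
    apply hrq
    exact (Nat.mul_dvd_mul_iff_right hN'pos).1 h2
  have hirr : Irreducible H.charpoly :=
    charpoly_irreducible_of_ppd H r hr hHr hH1 hr0 (by rw [← hq]; exact hrmin)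
  have : Fact (Irreducible H.charpoly) := ⟨hirr⟩
  obtain ⟨ev, -, hcomm, hdetev⟩ := exists_field_structure H
  obtain ⟨γ, hγ⟩ := hcomm G (by rw [hH, ← pow_succ', ← pow_succ])
  -- the field
  have hne : H.charpoly ≠ 0 := hirr.ne_zero
  have hdeg : H.charpoly.natDegree = n := by
    rw [Matrix.charpoly_natDegree_eq_dim, Fintype.card_fin]
  have hfd : FiniteDimensional F (AdjoinRoot H.charpoly) := (AdjoinRoot.powerBasis hne).finite
  have hfin : Finite (AdjoinRoot H.charpoly) := Module.finite_of_finite F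
  have hfr : Module.finrank F (AdjoinRoot H.charpoly) = n := by
    rw [(AdjoinRoot.powerBasis hne).finrank, AdjoinRoot.powerBasis_dim, hdeg]
  have hcard : Nat.card (AdjoinRoot H.charpoly) = q ^ n := by
    rw [Module.natCard_eq_pow_finrank (K := F), hfr, Nat.card_eq_fintype_card]
  set T := ∑ i ∈ Finset.range n, q ^ i with hT
  have hTq : T * (q - 1) = q ^ n - 1 := geomSum_mul_sub_one q n (by omega)
  have hγT : γ ^ T = 1 := by
    have h1 := FiniteField.algebraMap_norm_eq_pow (K := F) (K' := AdjoinRoot H.charpoly) (x := γ)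
    rw [← hdetev, ← hγ, hdetG, map_one, hcard, Nat.card_eq_fintype_card, ← hq, ← hTq,
      Nat.mul_div_cancel _ (by omega)] at h1
    exact h1.symm
  have hgcd : Nat.gcd n (q - 1) = Nat.gcd T (q - 1) :=
    ((geomSum_modEq q n (by omega)).gcd_eq).symm
  rw [hgcd]
  set d := Nat.gcd T (q - 1) with hd
  apply hmin
  have h2 : (γ ^ (T / d)) ^ (Fintype.card F - 1) = 1 := by
    rw [← hq, ← pow_mul]
    obtain ⟨c, hc⟩ := su3_dvd_mul_div d (q - 1) T (Nat.gcd_dvd_right _ _) (Nat.gcd_dvd_left _ _)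
    rw [mul_comm, hc, pow_mul, hγT, one_pow]
  obtain ⟨μ, hμ⟩ := exists_algebraMap_eq_of_pow_card_sub_one (F := F) _ h2
  refine ⟨μ, ?_⟩
  rw [hγ, ← map_pow, ← hμ, AlgHom.commutes, Algebra.algebraMap_eq_smul_one]

end

/-- Let q be an odd prime power, n ≥ 4 even, and L = PSL(n,q). Then L has an element of order q^(n/2) + 1 if and only if the 2-part of n exceeds the 2-part of q − 1. -/
theorem result {F : Type*} [Field F] [Fintype F] {q : ℕ} (hF : Fintype.card F = q) (hodd : Odd q)
    {n : ℕ} (hn : 4 ≤ n) (heven : Even n) :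
    (∃ g : Matrix.ProjectiveSpecialLinearGroup (Fin n) F, orderOf g = q ^ (n / 2) + 1) ↔
      padicValNat 2 (q - 1) < padicValNat 2 n := by
  classical
  subst hF
  obtain ⟨m, hm⟩ := heven
  have hnm : n = 2 * m := by omega
  have hn2 : n / 2 = m := by omega
  rw [hn2]
  set q := Fintype.card F with hq
  have hq3 : 3 ≤ q := by
    have hq2 : 2 ≤ q := Fintype.one_lt_card
    obtain ⟨t, ht⟩ := hodd
    omega
  set S := ∑ i ∈ Finset.range m, q ^ i with hS
  set T := ∑ i ∈ Finset.range n, q ^ i with hT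
  have hTS : T = (q ^ m + 1) * S := by
    rw [hT, hnm]
    exact geomSum_double q m
  set d := Nat.gcd n (q - 1) with hd
  have hdq : d ∣ q - 1 := Nat.gcd_dvd_right _ _
  have hdT : d ∣ T := by
    have hgcd : Nat.gcd n (q - 1) = Nat.gcd T (q - 1) :=
      ((geomSum_modEq q n (by omega)).gcd_eq).symm
    rw [hd, hgcd]
    exact Nat.gcd_dvd_left _ _
  have hd0 : 0 < d := Nat.gcd_pos_of_pos_left _ (by omega)
  have hNpos : 0 < q ^ m + 1 := by omega
  have key : d ∣ S ↔ padicValNat 2 (q - 1) < padicValNat 2 n := by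
    rw [(geomSum_modEq q m (by omega)).dvd_iff hdq, hd, hnm]
    exact gcd_dvd_half_iff q m hq3 (by omega)
  rw [← key]
  constructor
  · rintro ⟨g, hg⟩
    obtain ⟨k, hk⟩ := torus_necessary hnm (by omega) hodd g hg
    refine ⟨k, ?_⟩
    have h1 : T = (q ^ m + 1) * k * d := by
      rw [← hk, Nat.div_mul_cancel hdT]
    rw [hTS, mul_assoc] at h1
    rw [Nat.eq_of_mul_eq_mul_left hNpos h1, mul_comm]
  · rintro ⟨k, hk⟩
    obtain ⟨x, hx⟩ := exists_psl_order_torus (F := F) n (by omega)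
    have h1 : T / d = (q ^ m + 1) * k := by
      rw [hTS, hk, show (q ^ m + 1) * (d * k) = d * ((q ^ m + 1) * k) by ring,
        Nat.mul_div_cancel_left _ hd0]
    have hkpos : 0 < k := by
      rcases Nat.eq_zero_or_pos k with h | h
      · rw [h, mul_zero] at hk
        have : 0 < S := by
          rw [hS]
          apply Finset.sum_pos
          · intro i _; positivity
          · exact ⟨0, Finset.mem_range.2 (by omega)⟩
        omega
      · exact h
    refine Cfsg.Agent.S2476.exists_orderOf_of_dvd x _ _ ?_ hx ?_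
    · rw [h1]; positivity
    · rw [h1]; exact dvd_mul_right _ _

end Cfsg.Agent.S2495
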