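import Cfsg.Statements.S2496
import Cfsg.Agent.Helper38.UnitaryTorus
import Cfsg.Agent.Helper38.UnitaryPoly
import Cfsg.Agent.Helper38.UnitaryArith
import Cfsg.Agent.Helper38.SpAdj2
import Cfsg.Agent.S2904

set_option autoImplicit false
open Cfsg

namespace Cfsg.Agent.S2496

open Matrix Cfsg.Agent.Helper38 Cfsg.Agent.Helper45.GU

/-- a primitive prime divisor of `q ^ m + 1` (`m` even) or `q ^ m - 1` (`m` odd) and its order
properties -/
theorem exists_ppd (q m : ℕ) (hq : 3 ≤ q) (hodd : Odd q) (hm : 2 ≤ m) :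
    ∃ r : ℕ, r.Prime ∧ r ∣ (if Even m then q ^ m + 1 else q ^ m - 1) ∧ ¬ r ∣ q ∧
      (∀ D : ℕ, r ∣ q ^ (2 * D) - 1 → m ∣ D) ∧ (∀ i : ℕ, ¬ r ∣ q ^ (2 * i + 1) + 1) := by
  have hq1 : 1 ≤ q := by omega
  have h2q : 2 ∣ q - 1 := by
    obtain ⟨t, ht⟩ := hodd
    exact ⟨t, by omega⟩
  have hqm1 : 1 ≤ q ^ m := Nat.one_le_pow _ _ (by omega)
  by_cases hme : Even m
  · rw [if_pos hme]
    obtain ⟨r, hr, hrdvd, hrmin⟩ := Cfsg.Agent.S2904.result q (m + m) (by omega) (by omega)
      (by rintro ⟨h, -⟩; omega) (by rintro ⟨h, -⟩; omega)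
    have : Fact r.Prime := ⟨hr⟩
    have hqn1 : 1 ≤ q ^ (m + m) := Nat.one_le_pow _ _ (by omega)
    have hr2 : r ≠ 2 := by
      rintro rfl
      apply hrmin 1 (by omega) (by omega)
      rw [pow_one]
      exact h2q
    have hrq : ¬ r ∣ q := by
      intro h
      have h1 : r ∣ q ^ (m + m) := dvd_pow h (by omega)
      have h2 : r ∣ 1 := by
        have := Nat.dvd_sub h1 hrdvd
        rwa [Nat.sub_sub_self hqn1] at this
      exact hr.one_lt.ne' (Nat.dvd_one.1 h2)
    have hord : orderOf (q : ZMod r) = m + m := by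
      have h1 : orderOf (q : ZMod r) ∣ m + m :=
        (Cfsg.Agent.Helper40.dvd_pow_sub_one_iff hq1 _).1 hrdvd
      have hpos : 0 < orderOf (q : ZMod r) := Nat.pos_of_dvd_of_pos h1 (by omega)
      by_contra hne
      have hlt : orderOf (q : ZMod r) < m + m := lt_of_le_of_ne (Nat.le_of_dvd (by omega) h1) hne
      exact hrmin _ hpos hlt ((Cfsg.Agent.Helper40.dvd_pow_sub_one_iff hq1 _).2 dvd_rfl)
    refine ⟨r, hr, ?_, hrq, ?_, ?_⟩
    · have hsplit : q ^ (m + m) - 1 = (q ^ m + 1) * (q ^ m - 1) := by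
        have : q ^ (m + m) - 1 = (q ^ m) ^ 2 - 1 ^ 2 := by rw [one_pow, ← pow_mul, mul_two]
        rw [this, Nat.sq_sub_sq]
      rw [hsplit] at hrdvd
      rcases (Nat.Prime.dvd_mul hr).1 hrdvd with h | h
      · exact h
      · exact absurd h (hrmin m (by omega) (by omega))
    · intro D h
      have h1 := (Cfsg.Agent.Helper40.dvd_pow_sub_one_iff hq1 _).1 h
      rw [hord, ← two_mul] at h1
      exact (Nat.mul_dvd_mul_iff_left two_pos).1 h1
    · intro i h
      obtain ⟨h1, -⟩ := ord_dvd_of_dvd_pow_add_one q r hr2 hq1 (2 * i + 1) h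
      rw [hord, ← two_mul] at h1
      have h2 : m ∣ 2 * i + 1 := (Nat.mul_dvd_mul_iff_left two_pos).1 h1
      have h3 : 2 ∣ 2 * i + 1 := (even_iff_two_dvd.1 hme).trans h2
      omega
  · rw [if_neg hme]
    have hmo : Odd m := Nat.not_even_iff_odd.1 hme
    have hm3 : 3 ≤ m := by
      obtain ⟨t, ht⟩ := hmo
      omega
    obtain ⟨r, hr, hrdvd, hrmin⟩ := Cfsg.Agent.S2904.result q m (by omega) (by omega)
      (by rintro ⟨h, -⟩; omega) (by rintro ⟨h, -⟩; omega)
    have : Fact r.Prime := ⟨hr⟩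
    have hr2 : r ≠ 2 := by
      rintro rfl
      apply hrmin 1 (by omega) (by omega)
      rw [pow_one]
      exact h2q
    have hrq : ¬ r ∣ q := by
      intro h
      have h1 : r ∣ q ^ m := dvd_pow h (by omega)
      have h2 : r ∣ 1 := by
        have := Nat.dvd_sub h1 hrdvd
        rwa [Nat.sub_sub_self hqm1] at this
      exact hr.one_lt.ne' (Nat.dvd_one.1 h2)
    have hord : orderOf (q : ZMod r) = m := by
      have h1 : orderOf (q : ZMod r) ∣ m :=
        (Cfsg.Agent.Helper40.dvd_pow_sub_one_iff hq1 _).1 hrdvd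
      have hpos : 0 < orderOf (q : ZMod r) := Nat.pos_of_dvd_of_pos h1 (by omega)
      by_contra hne
      have hlt : orderOf (q : ZMod r) < m := lt_of_le_of_ne (Nat.le_of_dvd (by omega) h1) hne
      exact hrmin _ hpos hlt ((Cfsg.Agent.Helper40.dvd_pow_sub_one_iff hq1 _).2 dvd_rfl)
    have hcop : Nat.Coprime m 2 := Nat.coprime_two_right.mpr hmo
    refine ⟨r, hr, hrdvd, hrq, ?_, ?_⟩
    · intro D h
      have h1 := (Cfsg.Agent.Helper40.dvd_pow_sub_one_iff hq1 _).1 h
      rw [hord] at h1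
      exact hcop.dvd_of_dvd_mul_left h1
    · intro i h
      obtain ⟨h1, h2⟩ := ord_dvd_of_dvd_pow_add_one q r hr2 hq1 (2 * i + 1) h
      rw [hord] at h1 h2
      exact h2 (hcop.dvd_of_dvd_mul_left h1)

section
variable {F : Type*} [Field F] [Fintype F] {q : ℕ} (hF : Fintype.card F = q ^ 2)

include hF in
/-- an element of `PSU_{2m}(q)` of order `q ^ m + 1` (`m` even) or `q ^ m - 1` (`m` odd) lies in
the image of a torus of order `(q ^ (2m) - 1) / (q + 1)` -/
theorem torus_necessary (hodd : Odd q) {m : ℕ} (hm : 2 ≤ m) (g : Cfsg.PSU (m + m) F q)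
    (hg : orderOf g = if Even m then q ^ m + 1 else q ^ m - 1) (T : ℕ)
    (hT : T * (q + 1) = q ^ (m + m) - 1) :
    (if Even m then q ^ m + 1 else q ^ m - 1) ∣ T / Nat.gcd T (q + 1) := by
  classical
  obtain ⟨bar, hbar⟩ := exists_bar hF
  obtain ⟨p, hchar⟩ := CharP.exists F
  have hpp : p.Prime := CharP.char_is_prime F p
  have : Fact p.Prime := ⟨hpp⟩
  obtain ⟨k, hk, hq⟩ := su3_exists_pow p hF
  have hq2 : 2 ≤ q := by
    rw [hq]
    calc 2 ≤ p := hpp.two_le
      _ = p ^ 1 := (pow_one p).symm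
      _ ≤ p ^ k := Nat.pow_le_pow_right (by have := hpp.two_le; omega) hk
  have hq3 : 3 ≤ q := by
    obtain ⟨t, ht⟩ := hodd
    omega
  have hqm2 : 2 ≤ q ^ m := by
    calc 2 ≤ q := hq2
      _ = q ^ 1 := (pow_one q).symm
      _ ≤ q ^ m := Nat.pow_le_pow_right (by omega) (by omega)
  set N := if Even m then q ^ m + 1 else q ^ m - 1 with hN
  have hpq : p ∣ q ^ m := by
    rw [hq]
    exact dvd_pow (dvd_pow_self p (by omega)) (by omega)
  have hNp : ¬ p ∣ N := by
    intro h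
    have h1 : p ∣ 1 := by
      rw [hN] at h
      split_ifs at h
      · exact (Nat.dvd_add_right hpq).1 h
      · have := Nat.dvd_sub hpq h
        rwa [Nat.sub_sub_self (by omega)] at this
    exact hpp.one_lt.ne' (Nat.dvd_one.1 h1)
  obtain ⟨X, rfl⟩ := QuotientGroup.mk_surjective g
  set G : Matrix (Fin (m + m)) (Fin (m + m)) F :=
    ((X : SpecialLinearGroup (Fin (m + m)) F) : Matrix (Fin (m + m)) (Fin (m + m)) F) with hG
  have hdet : G.det = 1 := (X : SpecialLinearGroup (Fin (m + m)) F).2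
  have hU : G.transpose * G.map bar = 1 :=
    unitary_of_herm bar _ ((mem_SU_iff (m + m) bar hbar (X : SpecialLinearGroup (Fin (m + m)) F)).1 X.2)
  obtain ⟨lam, hlam⟩ : ∃ lam : F, G ^ N = lam • (1 : Matrix (Fin (m + m)) (Fin (m + m)) F) := by
    have h1 : (QuotientGroup.mk X : Cfsg.PSU (m + m) F q) ^ N = 1 := by
      rw [← hg]; exact pow_orderOf_eq_one _
    rw [← QuotientGroup.mk_pow, QuotientGroup.eq_one_iff, mem_center_su_iff hF (by omega)] at h1
    obtain ⟨lam, h⟩ := h1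
    exact ⟨lam, by rw [← h]; rfl⟩
  have hmin : ∀ j : ℕ, (∃ μ : F, G ^ j = μ • (1 : Matrix (Fin (m + m)) (Fin (m + m)) F)) →
      N ∣ j := by
    rintro j ⟨μ, hμ⟩
    rw [← hg]
    apply orderOf_dvd_of_pow_eq_one
    rw [← QuotientGroup.mk_pow, QuotientGroup.eq_one_iff, mem_center_su_iff hF (by omega)]
    exact ⟨μ, by rw [← hμ]; rfl⟩
  obtain ⟨r, hr, hrN, hrq, hO1, hO2⟩ := exists_ppd q m hq3 hodd hm
  exact unitary_half_torus_dvd p hF bar hbar hm G hdet hU N lam hlam hmin hNp r hr hrN hrq hO1 hO2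
    T hT

end

/-- Let q be an odd prime power, n ≥ 4 even, and U = PSU(n,q) (realised over the field with q² elements). Then U has an element of order q^(n/2) + (−1)^(n/2) — that is, q^(n/2) + 1 when n/2 is even and q^(n/2) − 1 when n/2 is odd — if and only if the 2-part of n exceeds the 2-part of q + 1. -/
theorem result {F : Type*} [Field F] [Fintype F] {q : ℕ} (hF : Fintype.card F = q ^ 2) (hodd : Odd q)
    {n : ℕ} (hn : 4 ≤ n) (heven : Even n) :
    (∃ g : Cfsg.PSU n F q, orderOf g = if Even (n / 2) then q ^ (n / 2) + 1 else q ^ (n / 2) - 1) ↔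
      padicValNat 2 (q + 1) < padicValNat 2 n := by
  classical
  obtain ⟨m, rfl⟩ := heven
  have hn2 : (m + m) / 2 = m := by omega
  rw [hn2]
  have hm : 2 ≤ m := by omega
  have hq2 : 2 ≤ q := by
    have := Fintype.one_lt_card (α := F)
    rw [hF] at this
    nlinarith
  have hqm2 : 2 ≤ q ^ m := by
    calc 2 ≤ q := hq2
      _ = q ^ 1 := (pow_one q).symm
      _ ≤ q ^ m := Nat.pow_le_pow_right (by omega) (by omega)
  obtain ⟨T, S', hT, hTS, hS'pos, hgcd, hcrit⟩ := unitary_half_arith q m hq2 (by omega)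
  set N := if Even m then q ^ m + 1 else q ^ m - 1 with hN
  have hNpos : 0 < N := by
    rw [hN]
    split_ifs <;> omega
  have hdT : Nat.gcd T (q + 1) ∣ T := Nat.gcd_dvd_left _ _
  have hd0 : 0 < Nat.gcd T (q + 1) := Nat.gcd_pos_of_pos_right _ (by omega)
  rw [← hcrit, ← hgcd]
  constructor
  · rintro ⟨g, hg⟩
    obtain ⟨k, hk⟩ := torus_necessary hF hodd hm g hg T hT
    refine ⟨k, ?_⟩
    have h1 : T = N * k * Nat.gcd T (q + 1) := by
      rw [← hk, Nat.div_mul_cancel hdT]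
    have h2 : N * S' = N * (k * Nat.gcd T (q + 1)) := by
      rw [← hTS, ← mul_assoc]; exact h1
    rw [Nat.eq_of_mul_eq_mul_left hNpos h2, mul_comm]
  · rintro ⟨k, hk⟩
    obtain ⟨x, hx⟩ := exists_psu_order_torus hF m hm T hT
    have h1 : T / Nat.gcd T (q + 1) = N * k := by
      apply Nat.div_eq_of_eq_mul_right hd0
      calc T = N * S' := hTS
        _ = N * (Nat.gcd T (q + 1) * k) := by rw [← hk]
        _ = Nat.gcd T (q + 1) * (N * k) := by ring
    have hkpos : 0 < k := by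
      rcases Nat.eq_zero_or_pos k with h | h
      · rw [h, mul_zero] at hk
        omega
      · exact h
    refine Cfsg.Agent.S2476.exists_orderOf_of_dvd x _ _ ?_ hx ?_
    · rw [h1]; positivity
    · rw [h1]; exact dvd_mul_right _ _

end Cfsg.Agent.S2496
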