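import Cfsg.Statements.S2504
import Cfsg.Agent.Helper42.AbelianAlt

set_option autoImplicit false
open Cfsg

namespace Cfsg.Agent.S2504

open Cfsg.Agent.Helper42

theorem exists_iff_achievableAlt (n c : ℕ) :
    (∃ A : Subgroup (alternatingGroup (Fin n)), IsMulCommutative A ∧ Nat.card A = c) ↔ AchievableAlt n c := by
  constructor
  · rintro ⟨A, hA, rfl⟩
    refine ⟨A.map (alternatingGroup (Fin n)).subtype, Subgroup.map_subtype_le A, inferInstance, ?_⟩
    exact Subgroup.card_map_of_injective (alternatingGroup (Fin n)).subtype_injective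
  · rintro ⟨A', hle, hA', rfl⟩
    refine ⟨A'.subgroupOf (alternatingGroup (Fin n)), ?_, ?_⟩
    · refine ⟨⟨?_⟩⟩
      rintro ⟨⟨a, ha⟩, ha'⟩ ⟨⟨b, hb⟩, hb'⟩
      apply Subtype.ext
      apply Subtype.ext
      show a * b = b * a
      rw [Subgroup.mem_subgroupOf] at ha' hb'
      exact congrArg Subtype.val (mul_comm' (⟨a, ha'⟩ : A') ⟨b, hb'⟩)
    · exact Nat.card_congr (Subgroup.subgroupOfEquivOfLe hle).toEquiv

theorem isGreatest_of {n c : ℕ} (hach : AchievableAlt n c) (hbound : ∀ c', AchievableAlt n c' → c' ≤ c) :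
    IsGreatest {c : ℕ | ∃ A : Subgroup (alternatingGroup (Fin n)), IsMulCommutative A ∧ Nat.card A = c} c := by
  constructor
  · exact (exists_iff_achievableAlt n c).mpr hach
  · intro c' hc'
    exact hbound c' ((exists_iff_achievableAlt n c').mp hc')

/-- The largest order of an abelian subgroup of the alternating group of degree n is 3^k when n = 3k, 4·3^(k−1) when n = 3k + 1, and 16·3^(k−2) when n = 3k + 2, for every k ≥ 2 (so for all degrees n ≥ 6). -/
theorem result (k : ℕ) (hk : 2 ≤ k) :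
    IsGreatest {c : ℕ | ∃ A : Subgroup (alternatingGroup (Fin (3 * k))), IsMulCommutative A ∧ Nat.card A = c} (3 ^ k) ∧
    IsGreatest {c : ℕ | ∃ A : Subgroup (alternatingGroup (Fin (3 * k + 1))), IsMulCommutative A ∧ Nat.card A = c}
      (4 * 3 ^ (k - 1)) ∧
    IsGreatest {c : ℕ | ∃ A : Subgroup (alternatingGroup (Fin (3 * k + 2))), IsMulCommutative A ∧ Nat.card A = c}
      (16 * 3 ^ (k - 2)) := by
  refine ⟨isGreatest_of (achievableAlt_three_mul k) ?_,
    isGreatest_of (achievableAlt_three_mul_add_one k (by omega)) ?_,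
    isGreatest_of (achievableAlt_three_mul_add_two k hk) ?_⟩
  · rintro c' ⟨A, -, hA, rfl⟩
    rw [← g_three_mul k]
    exact card_le_g _ A hA
  · rintro c' ⟨A, -, hA, rfl⟩
    rw [← g_three_mul_add_one k (by omega)]
    exact card_le_g _ A hA
  · rintro c' ⟨A, hle, hA, rfl⟩
    rw [← aAlt_three_mul_add_two k hk]
    exact card_le_aAlt _ A hA hle

end Cfsg.Agent.S2504
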