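-- S2506: in A_n the abelian subgroups of largest order form a single conjugacy class (helper42).
import Cfsg.Statements.S2506
import Cfsg.Agent.Helper42.AbelianAltConj

set_option autoImplicit false
open scoped Pointwise
open Cfsg

namespace Cfsg.Agent.S2506

open Cfsg.Agent.Helper42 Equiv

theorem comm_of_isMulCommutative {n : ℕ} (A : Subgroup (alternatingGroup (Fin n)))
    (hA : IsMulCommutative A) :
    ∀ a ∈ A.map (alternatingGroup (Fin n)).subtype, ∀ b ∈ A.map (alternatingGroup (Fin n)).subtype,
      a * b = b * a := by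
  rintro _ ⟨a, ha, rfl⟩ _ ⟨b, hb, rfl⟩
  have := mul_comm' (⟨a, ha⟩ : A) ⟨b, hb⟩
  have h2 : a * b = b * a := congrArg Subtype.val this
  rw [← map_mul, ← map_mul, h2]

/-- a lower bound for the maximal order -/
theorem le_card_of_max {n : ℕ} (hn : n ≠ 5) (A : Subgroup (alternatingGroup (Fin n)))
    (hAmax : ∀ C : Subgroup (alternatingGroup (Fin n)), IsMulCommutative C → Nat.card C ≤ Nat.card A) :
    aAlt n ≤ Nat.card A := by
  obtain ⟨C', hle, hC', hcard⟩ := achievableAlt_aAlt n hn
  have hC : IsMulCommutative (C'.subgroupOf (alternatingGroup (Fin n))) := by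
    refine ⟨⟨?_⟩⟩
    rintro ⟨⟨a, ha⟩, ha'⟩ ⟨⟨b, hb⟩, hb'⟩
    apply Subtype.ext
    apply Subtype.ext
    show a * b = b * a
    rw [Subgroup.mem_subgroupOf] at ha' hb'
    exact congrArg Subtype.val (mul_comm' (⟨a, ha'⟩ : C') ⟨b, hb'⟩)
  have := hAmax _ hC
  rw [Nat.card_congr (Subgroup.subgroupOfEquivOfLe hle).toEquiv, hcard] at this
  exact this

theorem maxAb_of_max {n : ℕ} (hn : n ≠ 5) (A : Subgroup (alternatingGroup (Fin n)))
    (hA : IsMulCommutative A)
    (hAmax : ∀ C : Subgroup (alternatingGroup (Fin n)), IsMulCommutative C → Nat.card C ≤ Nat.card A) :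
    MaxAb (A.map (alternatingGroup (Fin n)).subtype) (Finset.univ : Finset (Fin n)) := by
  have hcard : Nat.card (A.map (alternatingGroup (Fin n)).subtype) = Nat.card A :=
    Subgroup.card_map_of_injective (alternatingGroup (Fin n)).subtype_injective
  have heven : ∀ a ∈ A.map (alternatingGroup (Fin n)).subtype, Perm.sign a = 1 := by
    rintro _ ⟨a, -, rfl⟩
    exact Perm.mem_alternatingGroup.mp a.2
  refine ⟨comm_of_isMulCommutative A hA, heven, fun a _ x hx => absurd (Finset.mem_univ x) hx, ?_⟩
  rw [Finset.card_univ, Fintype.card_fin, hcard]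
  apply le_antisymm
  · have := card_le_aAlt_aux (Finset.univ : Finset (Fin n)).card _ (comm_of_isMulCommutative A hA)
      heven Finset.univ (fun a _ x hx => absurd (Finset.mem_univ x) hx) rfl
    rw [Finset.card_univ, Fintype.card_fin, hcard] at this
    exact this
  · exact le_card_of_max hn A hAmax

theorem card_alt_five : Nat.card (alternatingGroup (Fin 5)) = 60 := by
  rw [nat_card_alternatingGroup, Nat.card_eq_fintype_card, Fintype.card_fin]
  rfl

theorem result_five (A B : Subgroup (alternatingGroup (Fin 5))) (hA : IsMulCommutative A)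
    (hB : IsMulCommutative B)
    (hAmax : ∀ C : Subgroup (alternatingGroup (Fin 5)), IsMulCommutative C → Nat.card C ≤ Nat.card A)
    (hBmax : ∀ C : Subgroup (alternatingGroup (Fin 5)), IsMulCommutative C → Nat.card C ≤ Nat.card B) :
    ∃ g : alternatingGroup (Fin 5), B = MulAut.conj g • A := by
  haveI : Fact (Nat.Prime 5) := ⟨by norm_num⟩
  -- a subgroup of order 5
  obtain ⟨K, hK⟩ := Sylow.exists_subgroup_card_pow_prime 5 (n := 1)
    (G := alternatingGroup (Fin 5)) (by rw [card_alt_five]; norm_num)
  rw [pow_one] at hK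
  haveI : IsCyclic K := isCyclic_of_prime_card hK
  have hKc : IsMulCommutative K := inferInstance
  have hfive : ∀ (C : Subgroup (alternatingGroup (Fin 5))), IsMulCommutative C →
      (∀ D : Subgroup (alternatingGroup (Fin 5)), IsMulCommutative D → Nat.card D ≤ Nat.card C) →
      Nat.card C = 5 := by
    intro C hC hCmax
    apply le_antisymm
    · have hcard : Nat.card (C.map (alternatingGroup (Fin 5)).subtype) = Nat.card C :=
        Subgroup.card_map_of_injective (alternatingGroup (Fin 5)).subtype_injective
      have heven : ∀ a ∈ C.map (alternatingGroup (Fin 5)).subtype, Perm.sign a = 1 := by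
        rintro _ ⟨a, -, rfl⟩
        exact Perm.mem_alternatingGroup.mp a.2
      have := card_le_aAlt_aux (Finset.univ : Finset (Fin 5)).card _ (comm_of_isMulCommutative C hC)
        heven Finset.univ (fun a _ x hx => absurd (Finset.mem_univ x) hx) rfl
      rw [hcard] at this
      exact this
    · have := hCmax K hKc
      omega
  have hfact : (Nat.card (alternatingGroup (Fin 5))).factorization 5 = 1 := by
    rw [card_alt_five, show (60 : ℕ) = 5 * 12 from rfl,
      Nat.factorization_mul (by norm_num) (by norm_num)]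
    simp [Nat.Prime.factorization_self (show Nat.Prime 5 by norm_num),
      Nat.factorization_eq_zero_of_not_dvd (show ¬ 5 ∣ 12 by norm_num)]
  have hA5 : Nat.card A = 5 ^ (Nat.card (alternatingGroup (Fin 5))).factorization 5 := by
    rw [hfact, pow_one]; exact hfive A hA hAmax
  have hB5 : Nat.card B = 5 ^ (Nat.card (alternatingGroup (Fin 5))).factorization 5 := by
    rw [hfact, pow_one]; exact hfive B hB hBmax
  obtain ⟨g, hg⟩ := MulAction.exists_smul_eq (alternatingGroup (Fin 5)) (Sylow.ofCard A hA5)
    (Sylow.ofCard B hB5)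
  refine ⟨g, ?_⟩
  have := congrArg (fun P : Sylow 5 (alternatingGroup (Fin 5)) => P.toSubgroup) hg
  simp only [Sylow.coe_subgroup_smul, Sylow.coe_ofCard] at this
  exact this.symm

/-- In the alternating group of any degree, any two abelian subgroups of the largest possible order (among abelian subgroups) are conjugate. -/
theorem result (n : ℕ)
    (A B : Subgroup (alternatingGroup (Fin n))) (hA : IsMulCommutative A) (hB : IsMulCommutative B)
    (hAmax : ∀ C : Subgroup (alternatingGroup (Fin n)), IsMulCommutative C → Nat.card C ≤ Nat.card A)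
    (hBmax : ∀ C : Subgroup (alternatingGroup (Fin n)), IsMulCommutative C → Nat.card C ≤ Nat.card B) :
    ∃ g : alternatingGroup (Fin n), B = MulAut.conj g • A := by
  by_cases hn : n = 5
  · subst hn
    exact result_five A B hA hB hAmax hBmax
  · have hA' := maxAb_of_max hn A hA hAmax
    have hB' := maxAb_of_max hn B hB hBmax
    obtain ⟨τ, -, hτs, hτ⟩ := conj_of_maxAb n _ _ Finset.univ
      (by rw [Finset.card_univ, Fintype.card_fin]) hn hA' hB'
    refine ⟨⟨τ, Perm.mem_alternatingGroup.mpr hτs⟩, ?_⟩
    ext b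
    rw [Subgroup.mem_smul_pointwise_iff_exists]
    constructor
    · intro hb
      have hb' : b.1 ∈ B.map (alternatingGroup (Fin n)).subtype := ⟨b, hb, rfl⟩
      rw [hτ] at hb'
      obtain ⟨a', ⟨a, ha, rfl⟩, hab⟩ := mem_conjSub.mp hb'
      refine ⟨a, ha, ?_⟩
      apply Subtype.ext
      exact hab
    · rintro ⟨a, ha, rfl⟩
      have : τ * a.1 * τ⁻¹ ∈ B.map (alternatingGroup (Fin n)).subtype := by
        rw [hτ]
        exact mem_conjSub.mpr ⟨a.1, ⟨a, ha, rfl⟩, rfl⟩
      obtain ⟨b, hb, hbe⟩ := this
      have : b = MulAut.conj (⟨τ, Perm.mem_alternatingGroup.mpr hτs⟩ : alternatingGroup (Fin n)) • a := by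
        apply Subtype.ext
        exact hbe
      rw [← this]
      exact hb

end Cfsg.Agent.S2506
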