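import Cfsg.Statements.S2508
import Cfsg.Agent.Helper42.SL2OddClass
import Cfsg.Agent.Helper5.PSL2

set_option autoImplicit false
open Cfsg

namespace Cfsg.Agent.S2508

open Cfsg.Agent.Helper42 Matrix Finset

/-! ### arithmetic -/

theorem arith (m D I : ℕ) (hm : 0 < m) (h : D * I = (2 * m + 1) * ((2 * m + 1) ^ 2 - 1)) :
    (D = 2 * (2 * m + 1) → I = ((2 * m + 1) ^ 2 - 1) / 2) ∧
    (D = 2 * m + 1 + 1 → I = (2 * m + 1) * (2 * m + 1 - 1)) ∧
    (D = 2 * m + 1 - 1 → I = (2 * m + 1) * (2 * m + 1 + 1)) ∧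
    (D = 2 * (2 * m + 1 - 1) → I = (2 * m + 1) * (2 * m + 1 + 1) / 2) ∧
    (D = 2 * (2 * m + 1 + 1) → I = (2 * m + 1) * (2 * m + 1 - 1) / 2) := by
  have hsq : (2 * m + 1) ^ 2 - 1 = 4 * m * (m + 1) := by
    have : (2 * m + 1) ^ 2 = 4 * m * (m + 1) + 1 := by ring
    rw [this, Nat.add_sub_cancel]
  rw [hsq] at h ⊢
  simp only [Nat.add_sub_cancel]
  refine ⟨?_, ?_, ?_, ?_, ?_⟩
  · intro hD
    rw [hD] at h
    have h1 : 4 * m * (m + 1) = 2 * (2 * m * (m + 1)) := by ring
    rw [h1, Nat.mul_div_cancel_left _ (by norm_num : 0 < 2)]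
    have : (2 * (2 * m + 1)) * I = (2 * (2 * m + 1)) * (2 * m * (m + 1)) := by rw [h]; ring
    exact Nat.eq_of_mul_eq_mul_left (by omega) this
  · intro hD
    rw [hD] at h
    have : (2 * m + 1 + 1) * I = (2 * m + 1 + 1) * ((2 * m + 1) * (2 * m)) := by rw [h]; ring
    exact Nat.eq_of_mul_eq_mul_left (by omega) this
  · intro hD
    rw [hD] at h
    have : (2 * m) * I = (2 * m) * ((2 * m + 1) * (2 * m + 1 + 1)) := by rw [h]; ring
    exact Nat.eq_of_mul_eq_mul_left (by omega) this
  · intro hD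
    rw [hD] at h
    have h1 : (2 * m + 1) * (2 * m + 1 + 1) = 2 * ((2 * m + 1) * (m + 1)) := by ring
    rw [h1, Nat.mul_div_cancel_left _ (by norm_num : 0 < 2)]
    have : (2 * (2 * m)) * I = (2 * (2 * m)) * ((2 * m + 1) * (m + 1)) := by rw [h]; ring
    exact Nat.eq_of_mul_eq_mul_left (by omega) this
  · intro hD
    rw [hD] at h
    have h1 : (2 * m + 1) * (2 * m) = 2 * ((2 * m + 1) * m) := by ring
    rw [h1, Nat.mul_div_cancel_left _ (by norm_num : 0 < 2)]
    have : (2 * (2 * m + 1 + 1)) * I = (2 * (2 * m + 1 + 1)) * ((2 * m + 1) * m) := by rw [h]; ring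
    exact Nat.eq_of_mul_eq_mul_left (by omega) this

section

variable {F : Type*} [Field F] [Fintype F]

theorem card_centralizer_eq [DecidableEq F] (g : Matrix.SpecialLinearGroup (Fin 2) F)
    (hg : IsNonScalarMat (g : Matrix (Fin 2) (Fin 2) F)) :
    Nat.card (Subgroup.centralizer ({g} : Set (Matrix.SpecialLinearGroup (Fin 2) F))) =
      (univ.filter (fun p : F × F => qform ((g : Matrix (Fin 2) (Fin 2) F).trace) p = 1)).card := by
  rw [card_centralizer g hg]
  show Nat.card {p : F × F // qform ((g : Matrix (Fin 2) (Fin 2) F).trace) p = 1} = _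
  rw [Nat.card_eq_fintype_card, Fintype.card_subtype]

theorem preCent_eq_top_of_scalar (g : Matrix.SpecialLinearGroup (Fin 2) F)
    (hg : ¬ IsNonScalarMat (g : Matrix (Fin 2) (Fin 2) F)) : preCent g = ⊤ := by
  rw [eq_top_iff]
  intro h _
  rw [mem_preCent]
  left
  unfold IsNonScalarMat at hg
  rw [not_not] at hg
  obtain ⟨h01, h10, h00⟩ := hg
  apply ext2
  · rw [mul00, mul00, h01, h10]; ring
  · rw [mul01, mul01, h01, h00]; ring
  · rw [mul10, mul10, h10, h00]; ring
  · rw [mul11, mul11, h01, h10]; ring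

theorem rootCount_pos_of_sq_eq_four [DecidableEq F] (h2 : (2 : F) ≠ 0) (t : F) (ht : t ^ 2 = 4) :
    rootCount t ≠ 0 := by
  unfold rootCount
  rw [Finset.card_ne_zero]
  refine ⟨-t / 2, ?_⟩
  simp only [mem_filter, mem_univ, true_and]
  have h4 : (4 : F) ≠ 0 := by
    have : (4 : F) = 2 * 2 := by norm_num
    rw [this]; exact mul_ne_zero h2 h2
  field_simp
  linear_combination -ht

/-- the five possible indices -/
theorem idx_cases [DecidableEq F] (h2 : (2 : F) ≠ 0) (hodd : Fintype.card F % 2 = 1)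
    (g : Matrix.SpecialLinearGroup (Fin 2) F) (hg : IsNonScalarMat (g : Matrix (Fin 2) (Fin 2) F)) :
    ((g : Matrix (Fin 2) (Fin 2) F).trace ^ 2 = 4 → (preCent g).index = (Fintype.card F ^ 2 - 1) / 2) ∧
    ((g : Matrix (Fin 2) (Fin 2) F).trace ≠ 0 → (g : Matrix (Fin 2) (Fin 2) F).trace ^ 2 ≠ 4 →
      rootCount ((g : Matrix (Fin 2) (Fin 2) F).trace) = 0 →
      (preCent g).index = Fintype.card F * (Fintype.card F - 1)) ∧
    ((g : Matrix (Fin 2) (Fin 2) F).trace ≠ 0 → (g : Matrix (Fin 2) (Fin 2) F).trace ^ 2 ≠ 4 →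
      rootCount ((g : Matrix (Fin 2) (Fin 2) F).trace) = 2 →
      (preCent g).index = Fintype.card F * (Fintype.card F + 1)) ∧
    ((g : Matrix (Fin 2) (Fin 2) F).trace = 0 → rootCount (0 : F) = 2 →
      (preCent g).index = Fintype.card F * (Fintype.card F + 1) / 2) ∧
    ((g : Matrix (Fin 2) (Fin 2) F).trace = 0 → rootCount (0 : F) = 0 →
      (preCent g).index = Fintype.card F * (Fintype.card F - 1) / 2) := by
  have hq3 : 3 ≤ Fintype.card F := by
    have : 2 ≤ Fintype.card F := Fintype.one_lt_card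
    omega
  obtain ⟨m, hm⟩ : ∃ m, Fintype.card F = 2 * m + 1 := ⟨Fintype.card F / 2, by omega⟩
  have hm0 : 0 < m := by omega
  have hmul := Subgroup.card_mul_index (preCent g)
  rw [Cfsg.Agent.Helper5.card_SL2, hm] at hmul
  obtain ⟨a1, a2, a3, a4, a5⟩ := arith m _ _ hm0 hmul
  have h40 : (0 : F) ^ 2 ≠ 4 := by
    have : (4 : F) = 2 * 2 := by norm_num
    rw [this]
    intro h
    have : (2 : F) * 2 = 0 := by rw [← h]; ring
    exact h2 ((mul_self_eq_zero).mp this)
  rw [hm]
  refine ⟨?_, ?_, ?_, ?_, ?_⟩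
  · intro ht
    apply a1
    have ht0 : (g : Matrix (Fin 2) (Fin 2) F).trace ≠ 0 := by
      intro h0
      rw [h0] at ht
      exact h40 ht
    rw [preCent_eq_of_trace_ne_zero h2 g ht0, card_centralizer_eq g hg,
      card_normOne_of_sq_eq_four h2 _ ht, hm]
  · intro ht0 ht4 hr
    apply a2
    have := card_normOne_add_rootCount_odd h2 hodd _ ht4
    rw [hr, hm] at this
    rw [preCent_eq_of_trace_ne_zero h2 g ht0, card_centralizer_eq g hg]
    omega
  · intro ht0 ht4 hr
    apply a3
    have := card_normOne_add_rootCount_odd h2 hodd _ ht4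
    rw [hr, hm] at this
    rw [preCent_eq_of_trace_ne_zero h2 g ht0, card_centralizer_eq g hg]
    omega
  · intro ht0 hr
    apply a4
    obtain ⟨h₀, hh₀⟩ := exists_anticomm h2 hodd g hg ht0
    have := card_normOne_add_rootCount_odd h2 hodd (0 : F) h40
    rw [hr, hm] at this
    rw [card_preCent_of_anticomm h2 g h₀ hh₀, card_centralizer_eq g hg, ht0]
    omega
  · intro ht0 hr
    apply a5
    obtain ⟨h₀, hh₀⟩ := exists_anticomm h2 hodd g hg ht0
    have := card_normOne_add_rootCount_odd h2 hodd (0 : F) h40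
    rw [hr, hm] at this
    rw [card_preCent_of_anticomm h2 g h₀ hh₀, card_centralizer_eq g hg, ht0]
    omega

theorem rootCount_zero_of_mod_four_eq_one [DecidableEq F] (h2 : (2 : F) ≠ 0)
    (h : Fintype.card F % 4 = 1) : rootCount (0 : F) = 2 := by
  have hsq : IsSquare (-1 : F) := FiniteField.isSquare_neg_one_iff.mpr (by omega)
  obtain ⟨i, hi⟩ := hsq
  have h40 : (0 : F) ^ 2 ≠ 4 := by
    have : (4 : F) = 2 * 2 := by norm_num
    rw [this]
    intro h
    have : (2 : F) * 2 = 0 := by rw [← h]; ring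
    exact h2 ((mul_self_eq_zero).mp this)
  have hle := rootCount_le_two (0 : F)
  have hne1 := rootCount_ne_one (0 : F) h40
  have hne0 : rootCount (0 : F) ≠ 0 := by
    unfold rootCount
    rw [Finset.card_ne_zero]
    refine ⟨i, ?_⟩
    simp only [mem_filter, mem_univ, true_and]
    linear_combination -hi
  omega

theorem rootCount_zero_of_mod_four_eq_three [DecidableEq F]
    (h : Fintype.card F % 4 = 3) : rootCount (0 : F) = 0 := by
  have hsq : ¬ IsSquare (-1 : F) := by
    rw [FiniteField.isSquare_neg_one_iff]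
    omega
  unfold rootCount
  rw [Finset.card_eq_zero, Finset.filter_eq_empty_iff]
  intro x _ hx
  apply hsq
  exact ⟨x, by linear_combination -hx⟩

/-- the index set of all elements of `SL(2,F)` -/
theorem range_eq (F : Type*) [Field F] :
    Set.range (fun g : (Matrix.ProjectiveSpecialLinearGroup (Fin 2) F) => (Subgroup.centralizer ({g} : Set (Matrix.ProjectiveSpecialLinearGroup (Fin 2) F))).index) =
    Set.range (fun g : Matrix.SpecialLinearGroup (Fin 2) F => (preCent g).index) := by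
  ext n
  constructor
  · rintro ⟨k, rfl⟩
    obtain ⟨g, rfl⟩ := QuotientGroup.mk'_surjective (Subgroup.center (Matrix.SpecialLinearGroup (Fin 2) F)) k
    exact ⟨g, index_preCent g⟩
  · rintro ⟨g, rfl⟩
    exact ⟨(QuotientGroup.mk' (Subgroup.center (Matrix.SpecialLinearGroup (Fin 2) F))) g, (index_preCent g).symm⟩

/-- existence of a split semisimple element with non-zero trace -/
theorem exists_split [DecidableEq F] (h7 : 7 ≤ Fintype.card F) :
    ∃ l : F, l ≠ 0 ∧ l * l ≠ 1 ∧ l * l ≠ -1 := by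
  by_contra hcon
  push Not at hcon
  have hsub : (univ : Finset F) ⊆ ({0, 1, -1} : Finset F) ∪ univ.filter (fun x : F => x ^ 2 + 0 * x + 1 = 0) := by
    intro x _
    rw [mem_union, mem_filter]
    by_cases hx0 : x = 0
    · left; simp [hx0]
    by_cases hx1 : x * x = 1
    · left
      have : (x - 1) * (x + 1) = 0 := by linear_combination hx1
      rcases mul_eq_zero.mp this with h' | h'
      · simp [sub_eq_zero.mp h']
      · simp [eq_neg_of_add_eq_zero_left h']
    · right
      refine ⟨mem_univ _, ?_⟩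
      have := hcon x hx0 hx1
      linear_combination this
  have h1 : Fintype.card F ≤ 3 + 2 := by
    calc Fintype.card F = (univ : Finset F).card := rfl
      _ ≤ _ := card_le_card hsub
      _ ≤ ({0, 1, -1} : Finset F).card + (univ.filter (fun x : F => x ^ 2 + 0 * x + 1 = 0)).card :=
        card_union_le _ _
      _ ≤ 3 + 2 := Nat.add_le_add card_le_three (rootCount_le_two (0 : F))
  omega

end

/-- Let F be a finite field with q elements, q odd and q ≥ 7. If q ≡ 1 (mod 4) the conjugacy class sizes of PSL(2,F) are exactly 1, (q² − 1)/2, q(q + 1)/2, q(q − 1) and q(q + 1); if q ≡ 3 (mod 4) they are exactly 1, (q² − 1)/2, q(q − 1)/2, q(q + 1) and q(q − 1). -/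
theorem result {F : Type*} [Field F] [Fintype F]
    (hodd : ¬ 2 ∣ Fintype.card F) (h7 : 7 ≤ Fintype.card F) :
    (Fintype.card F % 4 = 1 →
      Set.range (fun g : (Matrix.ProjectiveSpecialLinearGroup (Fin 2) F) => (Subgroup.centralizer ({g} : Set (Matrix.ProjectiveSpecialLinearGroup (Fin 2) F))).index) =
        {1, (Fintype.card F ^ 2 - 1) / 2, Fintype.card F * (Fintype.card F + 1) / 2,
          Fintype.card F * (Fintype.card F - 1), Fintype.card F * (Fintype.card F + 1)}) ∧
    (Fintype.card F % 4 = 3 →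
      Set.range (fun g : (Matrix.ProjectiveSpecialLinearGroup (Fin 2) F) => (Subgroup.centralizer ({g} : Set (Matrix.ProjectiveSpecialLinearGroup (Fin 2) F))).index) =
        {1, (Fintype.card F ^ 2 - 1) / 2, Fintype.card F * (Fintype.card F - 1) / 2,
          Fintype.card F * (Fintype.card F + 1), Fintype.card F * (Fintype.card F - 1)}) := by
  classical
  have hodd' : Fintype.card F % 2 = 1 := by omega
  have h2 : (2 : F) ≠ 0 := Cfsg.Agent.Helper5.two_ne_zero_of_odd_card (Nat.odd_iff.mpr hodd')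
  have h40 : (0 : F) ^ 2 ≠ 4 := by
    have : (4 : F) = 2 * 2 := by norm_num
    rw [this]
    intro h
    have : (2 : F) * 2 = 0 := by rw [← h]; ring
    exact h2 ((mul_self_eq_zero).mp this)
  rw [range_eq F]
  -- explicit elements
  -- unipotent
  let gu : Matrix.SpecialLinearGroup (Fin 2) F := ⟨!![1, 1; 0, 1], by rw [Matrix.det_fin_two]; simp⟩
  have hgu_ns : IsNonScalarMat (gu : Matrix (Fin 2) (Fin 2) F) := by
    rintro ⟨h01, -, -⟩
    have : (gu : Matrix (Fin 2) (Fin 2) F) 0 1 = 1 := rfl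
    rw [this] at h01
    exact one_ne_zero h01
  have hgu_tr : (gu : Matrix (Fin 2) (Fin 2) F).trace ^ 2 = 4 := by
    rw [Matrix.trace_fin_two]
    show ((1 : F) + 1) ^ 2 = 4
    norm_num
  have hu := (idx_cases h2 hodd' gu hgu_ns).1 hgu_tr
  -- trace zero
  let gz : Matrix.SpecialLinearGroup (Fin 2) F := ⟨!![0, 1; -1, 0], by rw [Matrix.det_fin_two]; simp⟩
  have hgz_ns : IsNonScalarMat (gz : Matrix (Fin 2) (Fin 2) F) := by
    rintro ⟨h01, -, -⟩
    have : (gz : Matrix (Fin 2) (Fin 2) F) 0 1 = 1 := rfl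
    rw [this] at h01
    exact one_ne_zero h01
  have hgz_tr : (gz : Matrix (Fin 2) (Fin 2) F).trace = 0 := by
    rw [Matrix.trace_fin_two]
    show (0 : F) + 0 = 0
    rw [add_zero]
  -- nonsplit with non-zero trace
  obtain ⟨tn, htn0, htnr⟩ := exists_rootCount_eq_zero_ne_zero h2 (by omega : 5 ≤ Fintype.card F)
  have htn4 : tn ^ 2 ≠ 4 := fun h => rootCount_pos_of_sq_eq_four h2 tn h htnr
  let gn : Matrix.SpecialLinearGroup (Fin 2) F := ⟨!![0, -1; 1, tn], by rw [Matrix.det_fin_two]; simp⟩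
  have hgn_ns : IsNonScalarMat (gn : Matrix (Fin 2) (Fin 2) F) := by
    rintro ⟨-, h10, -⟩
    have : (gn : Matrix (Fin 2) (Fin 2) F) 1 0 = 1 := rfl
    rw [this] at h10
    exact one_ne_zero h10
  have hgn_tr : (gn : Matrix (Fin 2) (Fin 2) F).trace = tn := by
    rw [Matrix.trace_fin_two]
    show (0 : F) + tn = tn
    rw [zero_add]
  have hn := (idx_cases h2 hodd' gn hgn_ns).2.1 (hgn_tr ▸ htn0) (hgn_tr ▸ htn4) (hgn_tr ▸ htnr)
  -- split with non-zero trace
  obtain ⟨l, hl0, hl1, hl2⟩ := exists_split h7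
  let gs : Matrix.SpecialLinearGroup (Fin 2) F := ⟨!![l, 0; 0, l⁻¹], by rw [Matrix.det_fin_two]; simp [hl0]⟩
  have hgs_tr : (gs : Matrix (Fin 2) (Fin 2) F).trace = l + l⁻¹ := by
    rw [Matrix.trace_fin_two]
    rfl
  have hll : l ≠ l⁻¹ := by
    intro h
    apply hl1
    have := congrArg (fun z => l * z) h
    simpa [hl0] using this
  have hgs_ns : IsNonScalarMat (gs : Matrix (Fin 2) (Fin 2) F) := by
    rintro ⟨-, -, h00⟩
    have e1 : (gs : Matrix (Fin 2) (Fin 2) F) 0 0 = l := rfl
    have e2 : (gs : Matrix (Fin 2) (Fin 2) F) 1 1 = l⁻¹ := rfl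
    rw [e1, e2] at h00
    exact hll h00
  have hts0 : l + l⁻¹ ≠ 0 := by
    intro h
    apply hl2
    have : l * (l + l⁻¹) = 0 := by rw [h, mul_zero]
    rw [mul_add, mul_inv_cancel₀ hl0] at this
    linear_combination this
  have hts4 : (l + l⁻¹) ^ 2 ≠ 4 := by
    intro h
    apply hll
    have h1 : (l - l⁻¹) ^ 2 = 0 := by
      have : (l - l⁻¹) ^ 2 = (l + l⁻¹) ^ 2 - 4 * (l * l⁻¹) := by ring
      rw [this, h, mul_inv_cancel₀ hl0]; ring
    exact sub_eq_zero.mp (pow_eq_zero_iff (two_ne_zero) |>.mp h1)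
  have htsr : rootCount (l + l⁻¹) = 2 := by
    have hl0' : -l ≠ 0 := neg_ne_zero.mpr hl0
    have hl1' : (-l) * (-l) ≠ 1 := by rw [neg_mul_neg]; exact hl1
    have := rootCount_eq_two_of_root (-l) hl0' hl1'
    have e : -(-l + (-l)⁻¹) = l + l⁻¹ := by rw [inv_neg]; ring
    rw [e] at this
    exact this
  have hs := (idx_cases h2 hodd' gs hgs_ns).2.2.1 (hgs_tr ▸ hts0) (hgs_tr ▸ hts4) (hgs_tr ▸ htsr)
  -- the identity
  have hone : (preCent (1 : Matrix.SpecialLinearGroup (Fin 2) F)).index = 1 := by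
    rw [preCent_eq_top_of_scalar, Subgroup.index_top]
    unfold IsNonScalarMat
    rw [not_not]
    simp
  -- general classification
  have hclass : ∀ g : Matrix.SpecialLinearGroup (Fin 2) F,
      (preCent g).index = 1 ∨ (preCent g).index = (Fintype.card F ^ 2 - 1) / 2 ∨
      ((g : Matrix (Fin 2) (Fin 2) F).trace = 0 ∧ IsNonScalarMat (g : Matrix (Fin 2) (Fin 2) F)) ∨
      (preCent g).index = Fintype.card F * (Fintype.card F - 1) ∨
      (preCent g).index = Fintype.card F * (Fintype.card F + 1) := by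
    intro g
    by_cases hg : IsNonScalarMat (g : Matrix (Fin 2) (Fin 2) F)
    · obtain ⟨c1, c2, c3, -, -⟩ := idx_cases h2 hodd' g hg
      by_cases ht4 : (g : Matrix (Fin 2) (Fin 2) F).trace ^ 2 = 4
      · right; left; exact c1 ht4
      by_cases ht0 : (g : Matrix (Fin 2) (Fin 2) F).trace = 0
      · right; right; left; exact ⟨ht0, hg⟩
      have hle := rootCount_le_two ((g : Matrix (Fin 2) (Fin 2) F).trace)
      have hne1 := rootCount_ne_one _ ht4
      have h02 : rootCount ((g : Matrix (Fin 2) (Fin 2) F).trace) = 0 ∨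
          rootCount ((g : Matrix (Fin 2) (Fin 2) F).trace) = 2 := by omega
      rcases h02 with h0 | h2'
      · right; right; right; left; exact c2 ht0 ht4 h0
      · right; right; right; right; exact c3 ht0 ht4 h2'
    · left
      rw [preCent_eq_top_of_scalar g hg, Subgroup.index_top]
  constructor
  · intro hmod
    have hr0 := rootCount_zero_of_mod_four_eq_one h2 hmod
    have hz := (idx_cases h2 hodd' gz hgz_ns).2.2.2.1 hgz_tr hr0
    apply Set.eq_of_subset_of_subset
    · rintro _ ⟨g, rfl⟩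
      simp only [Set.mem_insert_iff, Set.mem_singleton_iff]
      rcases hclass g with h | h | ⟨ht0, hg⟩ | h | h
      · left; exact h
      · right; left; exact h
      · right; right; left
        exact (idx_cases h2 hodd' g hg).2.2.2.1 ht0 hr0
      · right; right; right; left; exact h
      · right; right; right; right; exact h
    · intro n hn'
      simp only [Set.mem_insert_iff, Set.mem_singleton_iff] at hn'
      rcases hn' with rfl | rfl | rfl | rfl | rfl
      · exact ⟨1, hone⟩
      · exact ⟨gu, hu⟩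
      · exact ⟨gz, hz⟩
      · exact ⟨gn, hn⟩
      · exact ⟨gs, hs⟩
  · intro hmod
    have hr0 := rootCount_zero_of_mod_four_eq_three hmod
    have hz := (idx_cases h2 hodd' gz hgz_ns).2.2.2.2 hgz_tr hr0
    apply Set.eq_of_subset_of_subset
    · rintro _ ⟨g, rfl⟩
      simp only [Set.mem_insert_iff, Set.mem_singleton_iff]
      rcases hclass g with h | h | ⟨ht0, hg⟩ | h | h
      · left; exact h
      · right; left; exact h
      · right; right; left
        exact (idx_cases h2 hodd' g hg).2.2.2.2 ht0 hr0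
      · right; right; right; right; exact h
      · right; right; right; left; exact h
    · intro n hn'
      simp only [Set.mem_insert_iff, Set.mem_singleton_iff] at hn'
      rcases hn' with rfl | rfl | rfl | rfl | rfl
      · exact ⟨1, hone⟩
      · exact ⟨gu, hu⟩
      · exact ⟨gz, hz⟩
      · exact ⟨gs, hs⟩
      · exact ⟨gn, hn⟩

end Cfsg.Agent.S2508
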