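import Cfsg.Statements.S2513
import Cfsg.Agent.Helper42.SpecPSL

set_option autoImplicit false
open Cfsg

namespace Cfsg.Agent.S2513

open Cfsg.Agent.Helper42 in
/-- Let F be the field with two elements, n ≥ 2, L = PSL(n, F) and k₀ = ⌊(n + 3)/2⌋. Then for every k ≥ k₀ the direct product of k copies of L has the same set of element orders as the direct product of k₀ copies of L. -/
theorem result {F : Type*} [Field F] [Fintype F] (hF : Fintype.card F = 2) (n k : ℕ) (hn : 2 ≤ n) (hk : (n + 3) / 2 ≤ k) :
    Set.range (orderOf : (Fin k → Matrix.ProjectiveSpecialLinearGroup (Fin n) F) → ℕ) = Set.range (orderOf : (Fin ((n + 3) / 2) → Matrix.ProjectiveSpecialLinearGroup (Fin n) F) → ℕ) := by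
  classical
  have hn1 : 1 ≤ n := by omega
  apply Set.eq_of_subset_of_subset
  · rintro _ ⟨f, rfl⟩
    rw [Pi.orderOf]
    obtain ⟨b, hb, hlcm⟩ := SpecPSL.ordSet_reduce hF n hn1 Finset.univ
      (fun i => orderOf (f i)) (fun i _ => SpecPSL.orderOf_mem_ordSet hF n hn1 (f i))
    choose x hx using fun i => SpecPSL.exists_orderOf_eq hF n hn1 (b i) (hb i)
    refine ⟨x, ?_⟩
    rw [Pi.orderOf, ← hlcm]
    congr 1
    funext i
    exact hx i
  · rintro _ ⟨f, rfl⟩
    let g : Fin k → Matrix.ProjectiveSpecialLinearGroup (Fin n) F := fun i =>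
      if h : (i : ℕ) < (n + 3) / 2 then f ⟨i, h⟩ else 1
    refine ⟨g, ?_⟩
    rw [Pi.orderOf, Pi.orderOf]
    apply Nat.dvd_antisymm
    · apply Finset.lcm_dvd
      intro i _
      by_cases h : (i : ℕ) < (n + 3) / 2
      · have : g i = f ⟨i, h⟩ := by simp only [g, h, dif_pos]
        rw [this]
        exact Finset.dvd_lcm (Finset.mem_univ _)
      · have : g i = 1 := by simp only [g, h, dif_neg, not_false_iff]
        rw [this, orderOf_one]
        exact one_dvd _
    · apply Finset.lcm_dvd
      intro j _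
      have hj : (j : ℕ) < k := lt_of_lt_of_le j.isLt hk
      have : g ⟨j, hj⟩ = f j := by
        simp only [g, j.isLt, dif_pos]
      rw [← this]
      exact Finset.dvd_lcm (f := fun i => orderOf (g i)) (Finset.mem_univ _)

end Cfsg.Agent.S2513
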