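import Cfsg.Statements.S2514
import Mathlib

set_option autoImplicit false
open Cfsg

namespace Cfsg.Agent.S2514

theorem exists_orderOf_eq_of_dvd {X : Type*} [Group X] [Finite X] (x : X) (d : ℕ) (hd : d ∣ orderOf x) :
    ∃ y : X, orderOf y = d := by
  have hpos : 0 < orderOf x := orderOf_pos x
  obtain ⟨e, he⟩ := hd
  have he0 : e ≠ 0 := by
    rintro rfl
    rw [mul_zero] at he
    omega
  refine ⟨x ^ e, ?_⟩
  rw [orderOf_pow_of_dvd he0 ⟨d, by rw [he, mul_comm]⟩, he]
  exact Nat.mul_div_cancel _ (Nat.pos_of_ne_zero he0)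

theorem exists_max_above {X : Type*} [Group X] [Finite X] (x : X) :
    ∃ m : ℕ, (m ∈ Set.range (orderOf : X → ℕ) ∧ ∀ m' ∈ Set.range (orderOf : X → ℕ), m ∣ m' → m' = m) ∧
      orderOf x ∣ m := by
  have : Nonempty {y : X // orderOf x ∣ orderOf y} := ⟨⟨x, dvd_rfl⟩⟩
  obtain ⟨y, hy⟩ := Finite.exists_max (fun y : {y : X // orderOf x ∣ orderOf y} => orderOf (y : X))
  refine ⟨orderOf (y : X), ⟨⟨y, rfl⟩, ?_⟩, y.2⟩
  rintro m' ⟨z, rfl⟩ hdvd
  have h1 : orderOf z ≤ orderOf (y : X) := hy ⟨z, dvd_trans y.2 hdvd⟩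
  have h2 : orderOf (y : X) ≤ orderOf z := Nat.le_of_dvd (orderOf_pos z) hdvd
  omega

/-- For a finite group X write μ(X) for the set of element orders of X that are maximal under divisibility. Let G and H be finite groups and k ≥ 1 such that μ(H) ⊆ μ(G) and μ(G) has fewer than k elements outside μ(H). Then the direct product of k copies of G has the same set of element orders as the direct product of k − 1 copies of G with H. -/
theorem result {G H : Type*} [Group G] [Finite G] [Group H] [Finite H] (k : ℕ) (hk : 1 ≤ k)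
    (hsub : {n : ℕ | n ∈ Set.range (orderOf : H → ℕ) ∧ ∀ m ∈ Set.range (orderOf : H → ℕ), n ∣ m → m = n} ⊆ {n : ℕ | n ∈ Set.range (orderOf : G → ℕ) ∧ ∀ m ∈ Set.range (orderOf : G → ℕ), n ∣ m → m = n})
    (hfew : ({n : ℕ | n ∈ Set.range (orderOf : G → ℕ) ∧ ∀ m ∈ Set.range (orderOf : G → ℕ), n ∣ m → m = n} \ {n : ℕ | n ∈ Set.range (orderOf : H → ℕ) ∧ ∀ m ∈ Set.range (orderOf : H → ℕ), n ∣ m → m = n}).ncard < k) :
    Set.range (orderOf : (Fin k → G) → ℕ) = Set.range (orderOf : (Fin (k - 1) → G) × H → ℕ) := by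
  obtain ⟨k, rfl⟩ : ∃ k', k = k' + 1 := ⟨k - 1, by omega⟩
  show Set.range (orderOf : (Fin (k + 1) → G) → ℕ) = Set.range (orderOf : (Fin k → G) × H → ℕ)
  -- ω(H) ⊆ ω(G)
  have hHG : ∀ h : H, ∃ g : G, orderOf g = orderOf h := by
    intro h
    obtain ⟨m, hm, hdvd⟩ := exists_max_above h
    obtain ⟨⟨g, hg⟩, -⟩ := hsub hm
    exact exists_orderOf_eq_of_dvd g _ (hg ▸ hdvd)
  have key1 : ∀ (y : Fin (k + 1) → G) (n : ℕ), y ^ n = 1 ↔ ∀ i, y i ^ n = 1 := by
    intro y n
    rw [funext_iff]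
    simp
  have key2 : ∀ (x : Fin k → G) (h : H) (n : ℕ), (x, h) ^ n = 1 ↔ (∀ i, x i ^ n = 1) ∧ h ^ n = 1 := by
    intro x h n
    rw [Prod.ext_iff]
    simp only [Prod.pow_fst, Prod.fst_one, Prod.pow_snd, Prod.snd_one]
    rw [funext_iff]
    simp
  apply Set.eq_of_subset_of_subset
  · rintro _ ⟨y, rfl⟩
    choose m hm hdvd using fun i => exists_max_above (y i)
    by_cases hcase : ∃ i, m i ∈ {n : ℕ | n ∈ Set.range (orderOf : H → ℕ) ∧ ∀ m ∈ Set.range (orderOf : H → ℕ), n ∣ m → m = n}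
    · obtain ⟨i, ⟨⟨h0, hh0⟩, -⟩⟩ := hcase
      obtain ⟨h, hh⟩ := exists_orderOf_eq_of_dvd h0 (orderOf (y i)) (hh0 ▸ hdvd i)
      refine ⟨(fun j => y (i.succAbove j), h), ?_⟩
      rw [orderOf_eq_orderOf_iff]
      intro n
      rw [key1, key2, Fin.forall_iff_succAbove i, ← orderOf_dvd_iff_pow_eq_one (x := h), hh,
        orderOf_dvd_iff_pow_eq_one]
      tauto
    · push Not at hcase
      have hmaps : ∀ i ∈ (Set.univ : Set (Fin (k + 1))), m i ∈ ({n : ℕ | n ∈ Set.range (orderOf : G → ℕ) ∧ ∀ m ∈ Set.range (orderOf : G → ℕ), n ∣ m → m = n} \ {n : ℕ | n ∈ Set.range (orderOf : H → ℕ) ∧ ∀ m ∈ Set.range (orderOf : H → ℕ), n ∣ m → m = n}) :=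
        fun i _ => ⟨hm i, hcase i⟩
      have hfin : ({n : ℕ | n ∈ Set.range (orderOf : G → ℕ) ∧ ∀ m ∈ Set.range (orderOf : G → ℕ), n ∣ m → m = n} \ {n : ℕ | n ∈ Set.range (orderOf : H → ℕ) ∧ ∀ m ∈ Set.range (orderOf : H → ℕ), n ∣ m → m = n}).Finite := by
        apply Set.Finite.subset (Set.finite_range (orderOf : G → ℕ))
        rintro n ⟨⟨hn, -⟩, -⟩
        exact hn
      have hcard : ({n : ℕ | n ∈ Set.range (orderOf : G → ℕ) ∧ ∀ m ∈ Set.range (orderOf : G → ℕ), n ∣ m → m = n} \ {n : ℕ | n ∈ Set.range (orderOf : H → ℕ) ∧ ∀ m ∈ Set.range (orderOf : H → ℕ), n ∣ m → m = n}).ncard < (Set.univ : Set (Fin (k + 1))).ncard := by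
        rw [Set.ncard_univ, Nat.card_eq_fintype_card, Fintype.card_fin]
        exact hfew
      obtain ⟨i, -, j, -, hij, hmij⟩ := Set.exists_ne_map_eq_of_ncard_lt_of_maps_to hcard hmaps hfin
      -- merge y i and y j
      obtain ⟨⟨g0, hg0⟩, -⟩ := hm i
      have hl : Nat.lcm (orderOf (y i)) (orderOf (y j)) ∣ orderOf g0 := by
        rw [hg0]
        exact Nat.lcm_dvd (hdvd i) (hmij ▸ hdvd j)
      obtain ⟨g', hg'⟩ := exists_orderOf_eq_of_dvd g0 _ hl
      let y' : Fin (k + 1) → G := Function.update (Function.update y i g') j 1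
      have hy'j : y' j = 1 := by simp [y']
      have hy'i : y' i = g' := by simp [y', hij]
      have hy'l : ∀ l, l ≠ i → l ≠ j → y' l = y l := by
        intro l hli hlj
        simp [y', hli, hlj]
      refine ⟨(fun l => y' (j.succAbove l), 1), ?_⟩
      rw [orderOf_eq_orderOf_iff]
      intro n
      rw [key1, key2]
      have h1 : (∀ l : Fin k, y' (j.succAbove l) ^ n = 1) ↔ ∀ l, y' l ^ n = 1 := by
        rw [Fin.forall_iff_succAbove (P := fun l => y' l ^ n = 1) j, hy'j]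
        simp
      rw [h1]
      simp only [one_pow, and_true]
      have h2 : g' ^ n = 1 ↔ y i ^ n = 1 ∧ y j ^ n = 1 := by
        rw [← orderOf_dvd_iff_pow_eq_one, hg', ← orderOf_dvd_iff_pow_eq_one, ← orderOf_dvd_iff_pow_eq_one]
        exact Nat.lcm_dvd_iff
      rw [iff_comm]
      constructor
      · intro hall l
        by_cases hli : l = i
        · subst hli; rw [hy'i, h2]; exact ⟨hall _, hall _⟩
        by_cases hlj : l = j
        · subst hlj; rw [hy'j]; simp
        rw [hy'l l hli hlj]; exact hall l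
      · intro hall l
        by_cases hli : l = i
        · subst hli
          have := hall l
          rw [hy'i, h2] at this
          exact this.1
        by_cases hlj : l = j
        · subst hlj
          have := hall i
          rw [hy'i, h2] at this
          exact this.2
        have := hall l
        rw [hy'l l hli hlj] at this
        exact this
  · rintro _ ⟨⟨x, h⟩, rfl⟩
    obtain ⟨g, hg⟩ := hHG h
    refine ⟨Fin.snoc x g, ?_⟩
    rw [orderOf_eq_orderOf_iff]
    intro n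
    rw [key1, key2, Fin.forall_iff_succAbove (Fin.last k), ← orderOf_dvd_iff_pow_eq_one (x := h), ← hg,
        orderOf_dvd_iff_pow_eq_one]
    simp [and_comm]

end Cfsg.Agent.S2514
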