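import Cfsg.Statements.S2516

set_option autoImplicit false
open Cfsg

namespace Cfsg.Agent.S2516

/-- order of an element of a semidirect product whose `orderOf right`-th power lies in the kernel -/
theorem orderOf_eq_mul {N G : Type*} [Group N] [Group G] {φ : G →* MulAut N} (x : N ⋊[φ] G) (n : N)
    (hk : orderOf x.right ≠ 0) (hx : x ^ orderOf x.right = SemidirectProduct.inl n) :
    orderOf x = orderOf n * orderOf x.right := by
  have h1 : orderOf x.right ∣ orderOf x := by
    have := orderOf_map_dvd (SemidirectProduct.rightHom (φ := φ)) x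
    simpa using this
  have h2 : orderOf (x ^ orderOf x.right) = orderOf x / orderOf x.right := by
    rw [orderOf_pow' x hk, Nat.gcd_eq_right h1]
  rw [hx, orderOf_injective SemidirectProduct.inl SemidirectProduct.inl_injective] at h2
  rw [h2, Nat.div_mul_cancel h1]

theorem addOrderOf_eq_of_charP {F : Type*} [Field F] (p : ℕ) [Fact p.Prime] [CharP F p] {V : Type*} [AddCommGroup V]
    [Module F V] (w : V) (hw : w ≠ 0) : addOrderOf w = p := by
  have h1 : addOrderOf w ∣ p := by
    rw [addOrderOf_dvd_iff_nsmul_eq_zero, ← Nat.cast_smul_eq_nsmul F, CharP.cast_eq_zero, zero_smul]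
  rcases (Nat.dvd_prime (Fact.out : p.Prime)).mp h1 with h | h
  · rw [AddMonoid.addOrderOf_eq_one_iff] at h
    exact absurd h hw
  · exact h

/-- Let F be a field of characteristic p > 0, V a non-zero finite-dimensional F-vector space, G a finite group and ρ a representation of G on V; form the semidirect product V ⋊ G. For g ∈ G of order k, the coset Vg contains an element of order pk if and only if the minimal polynomial of ρ(g) does not divide 1 + X + ⋯ + X^(k−1). -/
theorem result {F : Type*} [Field F] (p : ℕ) [Fact p.Prime] [CharP F p] {V : Type*} [AddCommGroup V] [Module F V] [FiniteDimensional F V] [Nontrivial V]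
    {G : Type*} [Group G] [Finite G] (ρ : Representation F G V) (g : G) :
    (∃ x : Multiplicative V ⋊[(MulAutMultiplicative V).symm.toMonoidHom.comp
        ((DistribMulAction.toAddAut ((V →ₗ[F] V)ˣ) V).comp ρ.asGroupHom)] G,
        x.right = g ∧ orderOf x = p * orderOf g) ↔
      ¬ (minpoly F (ρ g) ∣ ∑ i ∈ Finset.range (orderOf g), (Polynomial.X : Polynomial F) ^ i) := by
  set φ : G →* MulAut (Multiplicative V) := (MulAutMultiplicative V).symm.toMonoidHom.comp
        ((DistribMulAction.toAddAut ((V →ₗ[F] V)ˣ) V).comp ρ.asGroupHom) with hφ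
  have hφ_apply : ∀ (h : G) (v : V), φ h (Multiplicative.ofAdd v) = Multiplicative.ofAdd (ρ h v) := by
    intro h v
    rfl
  have hk : orderOf g ≠ 0 := (orderOf_pos g).ne'
  -- powers
  have hpow : ∀ (v : V) (j : ℕ), ((⟨Multiplicative.ofAdd v, g⟩ : Multiplicative V ⋊[φ] G) ^ j) =
      ⟨Multiplicative.ofAdd (∑ i ∈ Finset.range j, ((ρ g) ^ i) v), g ^ j⟩ := by
    intro v j
    induction j with
    | zero =>
      rw [pow_zero]
      apply SemidirectProduct.ext
      · simp
      · simp
    | succ j ih =>
      rw [pow_succ, ih]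
      apply SemidirectProduct.ext
      · rw [SemidirectProduct.mul_left]
        simp only
        rw [hφ_apply, Finset.sum_range_succ, ofAdd_add, map_pow]
      · rw [SemidirectProduct.mul_right, pow_succ]
  have hN : (Polynomial.aeval (ρ g)) (∑ i ∈ Finset.range (orderOf g), (Polynomial.X : Polynomial F) ^ i) =
      ∑ i ∈ Finset.range (orderOf g), (ρ g) ^ i := by
    simp
  rw [minpoly.dvd_iff, hN]
  -- key: order of ⟨v, g⟩
  have hord : ∀ v : V, orderOf (⟨Multiplicative.ofAdd v, g⟩ : Multiplicative V ⋊[φ] G) =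
      addOrderOf (∑ i ∈ Finset.range (orderOf g), ((ρ g) ^ i) v) * orderOf g := by
    intro v
    have := orderOf_eq_mul (⟨Multiplicative.ofAdd v, g⟩ : Multiplicative V ⋊[φ] G)
      (Multiplicative.ofAdd (∑ i ∈ Finset.range (orderOf g), ((ρ g) ^ i) v)) hk (by
        show _ ^ orderOf g = _
        rw [hpow, pow_orderOf_eq_one]
        rfl)
    rw [this, orderOf_ofAdd_eq_addOrderOf]
  constructor
  · rintro ⟨x, hxg, hxo⟩ h0
    obtain ⟨v, rfl⟩ : ∃ v : V, x = ⟨Multiplicative.ofAdd v, g⟩ := by
      refine ⟨Multiplicative.toAdd x.left, ?_⟩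
      apply SemidirectProduct.ext
      · rfl
      · exact hxg
    rw [hord v] at hxo
    have : (∑ i ∈ Finset.range (orderOf g), ((ρ g) ^ i) v) = 0 := by
      rw [← LinearMap.sum_apply, h0]
      rfl
    rw [this, addOrderOf_zero, one_mul] at hxo
    have hp2 := (Fact.out : p.Prime).two_le
    have : 0 < orderOf g := orderOf_pos g
    nlinarith
  · intro h0
    obtain ⟨v, hv⟩ : ∃ v : V, (∑ i ∈ Finset.range (orderOf g), (ρ g) ^ i) v ≠ 0 := by
      by_contra hcon
      push Not at hcon
      apply h0
      ext v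
      exact hcon v
    refine ⟨⟨Multiplicative.ofAdd v, g⟩, rfl, ?_⟩
    rw [hord v]
    rw [LinearMap.sum_apply] at hv
    rw [addOrderOf_eq_of_charP (F := F) p _ hv]

end Cfsg.Agent.S2516
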