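import Cfsg.Statements.S2518
import Cfsg.Agent.Helper8.G2D

set_option autoImplicit false
open Cfsg

namespace Cfsg.Agent.S2518

open Cfsg.Agent.Helper8.G2 in
/-- a prime dividing `1092 = 2²·3·7·13` is 2, 3, 7 or 13 -/
theorem prime_dvd_1092 {r : ℕ} (hr : r.Prime) (h : r ∣ 1092) :
    r = 2 ∨ r = 3 ∨ r = 7 ∨ r = 13 := by
  apply prime_dvd_card hr
  exact Dvd.dvd.trans h (by norm_num)

/-- Let F₃ be the field with 3 elements and F₁₃ the field with 13 elements. The Chevalley group G₂(F₃) and PSL(2, F₁₃) have the same prime graph: the same prime divisors of their orders, and for distinct primes r, s an element of order rs in one iff in the other. -/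
theorem result {F : Type*} [Field F] [Fintype F] (hF : Fintype.card F = 3) {E : Type*} [Field E] [Fintype E] (hE : Fintype.card E = 13) :
    ((∀ r : ℕ, r.Prime → (r ∣ Nat.card ↥(Cfsg.Lie.chevG2.group F) ↔ r ∣ Nat.card (Matrix.ProjectiveSpecialLinearGroup (Fin 2) E))) ∧
      (∀ r s : ℕ, r.Prime → s.Prime → r ≠ s → ((∃ x : ↥(Cfsg.Lie.chevG2.group F), orderOf x = r * s) ↔ (∃ y : (Matrix.ProjectiveSpecialLinearGroup (Fin 2) E), orderOf y = r * s)))) := by
  constructor
  · intro r hr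
    rw [Cfsg.Agent.S1059.result (q := 3) hF, Cfsg.Agent.Helper8.G2.card_psl hE]
    have e : 3 ^ 6 * (3 ^ 2 - 1) * (3 ^ 6 - 1) = 4245696 := by norm_num
    rw [e]
    constructor
    · intro h
      rcases Cfsg.Agent.Helper8.G2.prime_dvd_card hr h with rfl | rfl | rfl | rfl <;> norm_num
    · intro h
      rcases prime_dvd_1092 hr h with rfl | rfl | rfl | rfl <;> norm_num
  · intro r s hr hs hrs
    obtain ⟨e⟩ := Cfsg.Agent.Helper8.G2.exists_mulEquiv hF
    rw [Cfsg.Agent.Helper8.G2.psl_edge_iff hE r s hr hs hrs,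
      ← Cfsg.Agent.Helper8.G2.g3_edge_iff r s hr hs hrs]
    constructor
    · rintro ⟨x, hx⟩
      exact ⟨e x, by rw [MulEquiv.orderOf_eq, hx]⟩
    · rintro ⟨x, hx⟩
      exact ⟨e.symm x, by rw [MulEquiv.orderOf_eq, hx]⟩

end Cfsg.Agent.S2518
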