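import Cfsg.Statements.S2522
import Cfsg.Agent.Helper73.LUMain
-- import your own Cfsg.Agent.* helpers here

set_option autoImplicit false
open Cfsg

namespace Cfsg.Agent.S2522

open Module Cfsg.Agent.Helper43 Cfsg.Agent.Helper73.Avoid Cfsg.Agent.Helper73.LUMain

section aux

variable {K : Type*} [Field K]

/-- The strictly upper triangular shift matrix. -/
def upShift (n : ℕ) : Matrix (Fin n) (Fin n) K :=
  fun i j => if j.val = i.val + 1 then 1 else 0

theorem toLin'_upShift_apply (n : ℕ) (x : Fin n → K) (i : Fin n) :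
    Matrix.toLin' (upShift (K := K) n) x i
      = if h : i.val + 1 < n then x ⟨i.val + 1, h⟩ else 0 := by
  rw [Matrix.toLin'_apply, Matrix.mulVec, dotProduct]
  split_ifs with h
  · rw [Finset.sum_eq_single (⟨i.val + 1, h⟩ : Fin n)]
    · simp [upShift]
    · intro j _ hj
      have : ¬ (j.val = i.val + 1) := by
        intro hji
        apply hj
        apply Fin.ext
        exact hji
      simp [upShift, this]
    · intro hni
      exact absurd (Finset.mem_univ _) hni
  · apply Finset.sum_eq_zero
    intro j _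
    have : ¬ (j.val = i.val + 1) := by
      intro hji
      have := j.2
      omega
    simp [upShift, this]

theorem toLin'_upShift_pow_apply (n : ℕ) (k : ℕ) :
    ∀ (x : Fin n → K) (i : Fin n), n ≤ i.val + k →
      ((Matrix.toLin' (upShift (K := K) n)) ^ k) x i = 0 := by
  induction k with
  | zero =>
    intro x i hi
    have := i.2
    omega
  | succ k ih =>
    intro x i hi
    rw [pow_succ', Module.End.mul_apply, toLin'_upShift_apply]
    split_ifs with h
    · apply ih
      simp only
      omega
    · rfl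

theorem isRegNilp_upShift (n : ℕ) (hn : 1 ≤ n) :
    IsRegNilp (Matrix.toLin' (upShift (K := K) n)) where
  pow_eq_zero := by
    rw [Module.finrank_fin_fun]
    apply LinearMap.ext
    intro x
    funext i
    exact toLin'_upShift_pow_apply n n x i (by omega)
  ker_le_one := by
    let i0 : Fin n := ⟨0, by omega⟩
    let φ : LinearMap.ker (Matrix.toLin' (upShift (K := K) n)) →ₗ[K] K :=
      (LinearMap.proj i0).comp (LinearMap.ker (Matrix.toLin' (upShift (K := K) n))).subtype
    have hφ : Function.Injective φ := by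
      rw [← LinearMap.ker_eq_bot, LinearMap.ker_eq_bot']
      rintro ⟨x, hx⟩ h0
      rw [LinearMap.mem_ker] at hx
      apply Subtype.ext
      funext i
      obtain ⟨i, hi⟩ := i
      rcases Nat.eq_zero_or_pos i with rfl | hpos
      · exact h0
      · have := congrFun hx ⟨i - 1, by omega⟩
        rw [toLin'_upShift_apply] at this
        have h1 : i - 1 + 1 < n := by omega
        simp only [h1, dite_true] at this
        have h2 : (⟨i - 1 + 1, h1⟩ : Fin n) = ⟨i, hi⟩ := by
          apply Fin.ext
          simp only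
          omega
        rw [h2] at this
        exact this
    have := LinearMap.finrank_le_finrank_of_injective hφ
    rwa [Module.finrank_self] at this

/-- Regular nilpotent matrices are conjugate. -/
theorem exists_conj_matrix {n : ℕ} {N N' : Matrix (Fin n) (Fin n) K}
    (h : IsRegNilp (Matrix.toLin' N)) (h' : IsRegNilp (Matrix.toLin' N')) :
    ∃ a ai : Matrix (Fin n) (Fin n) K, a * ai = 1 ∧ a * N = N' * a := by
  obtain ⟨e, he⟩ := h.exists_conj h'
  refine ⟨LinearMap.toMatrix' (e : (Fin n → K) →ₗ[K] (Fin n → K)),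
    LinearMap.toMatrix' (e.symm : (Fin n → K) →ₗ[K] (Fin n → K)), ?_, ?_⟩
  · rw [← LinearMap.toMatrix'_comp, ← LinearMap.toMatrix'_id]
    congr 1
    ext x : 1
    simp
  · apply (Matrix.toLin' (R := K)).injective
    rw [Matrix.toLin'_mul, Matrix.toLin'_mul, Matrix.toLin'_toMatrix']
    exact LinearMap.ext (fun x => he x)

end aux

/-- Let K be a field with at least four elements (finite or infinite), n ≥ 3, and J ∈ GL(n, K) the regular unipotent matrix (ones on the diagonal and the superdiagonal, zeros elsewhere). Then every non-scalar g ∈ GL(n, K) with det g = 1 is a product of two GL(n, K)-conjugates of J. -/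
theorem result {K : Type*} [Field K] (hK : 4 ≤ Cardinal.mk K) (n : ℕ) (hn : 3 ≤ n) (J g : GL (Fin n) K)
    (hJ : ∀ i j : Fin n, (J : Matrix (Fin n) (Fin n) K) i j = if i = j then 1 else if j.val = i.val + 1 then 1 else 0)
    (hg : ¬ ∃ c : K, (g : Matrix (Fin n) (Fin n) K) = c • (1 : Matrix (Fin n) (Fin n) K))
    (hdet : (g : Matrix (Fin n) (Fin n) K).det = 1) :
    ∃ x y : GL (Fin n) K, g = (x * J * x⁻¹) * (y * J * y⁻¹) := by
  classical
  obtain ⟨s, hs⟩ := exists_finset_card_four hK
  have hfr : finrank K (Fin n → K) = n := Module.finrank_fin_fun K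
  have hdet' : LinearMap.det (Matrix.toLin' (g : Matrix (Fin n) (Fin n) K)) = 1 := by
    rw [LinearMap.det_toLin', hdet]
  have hns : ∀ μ : K, Matrix.toLin' (g : Matrix (Fin n) (Fin n) K) ≠ μ • 1 := by
    intro μ h
    apply hg
    refine ⟨μ, ?_⟩
    apply (Matrix.toLin' (R := K)).injective
    rw [h, map_smul, Matrix.toLin'_one]
    rfl
  obtain ⟨L, U, hL, hU, hLU⟩ :=
    exists_factor s hs.ge (by rw [hfr]; exact hn) _ hdet' hns
  have hJM : (J : Matrix (Fin n) (Fin n) K) - 1 = upShift n := by
    ext i j
    rw [Matrix.sub_apply, hJ, Matrix.one_apply]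
    by_cases hij : i = j
    · have : ¬ (j.val = i.val + 1) := by
        rw [hij]
        omega
      simp [hij, upShift]
    · simp [hij, upShift]
  have hJreg : IsRegNilp (Matrix.toLin' ((J : Matrix (Fin n) (Fin n) K) - 1)) := by
    rw [hJM]
    exact isRegNilp_upShift n (by omega)
  have hLreg : IsRegNilp (Matrix.toLin' (LinearMap.toMatrix' L - 1)) := by
    rw [map_sub, Matrix.toLin'_toMatrix', Matrix.toLin'_one]
    exact hL
  have hUreg : IsRegNilp (Matrix.toLin' (LinearMap.toMatrix' U - 1)) := by
    rw [map_sub, Matrix.toLin'_toMatrix', Matrix.toLin'_one]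
    exact hU
  obtain ⟨a, ai, hai, haJ⟩ := exists_conj_matrix hJreg hLreg
  obtain ⟨b, bi, hbi, hbJ⟩ := exists_conj_matrix hJreg hUreg
  have hia : ai * a = 1 := mul_eq_one_comm.mp hai
  have hib : bi * b = 1 := mul_eq_one_comm.mp hbi
  have haJ' : a * (J : Matrix (Fin n) (Fin n) K) * ai = LinearMap.toMatrix' L := by
    have h1 : a * (J : Matrix (Fin n) (Fin n) K) = LinearMap.toMatrix' L * a := by
      rw [mul_sub, sub_mul, mul_one, one_mul] at haJ
      exact sub_left_injective haJ
    rw [h1, mul_assoc, hai, mul_one]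
  have hbJ' : b * (J : Matrix (Fin n) (Fin n) K) * bi = LinearMap.toMatrix' U := by
    have h1 : b * (J : Matrix (Fin n) (Fin n) K) = LinearMap.toMatrix' U * b := by
      rw [mul_sub, sub_mul, mul_one, one_mul] at hbJ
      exact sub_left_injective hbJ
    rw [h1, mul_assoc, hbi, mul_one]
  refine ⟨⟨a, ai, hai, hia⟩, ⟨b, bi, hbi, hib⟩, ?_⟩
  apply Units.ext
  rw [Units.val_mul, Units.val_mul, Units.val_mul, Units.val_mul, Units.val_mul]
  change (g : Matrix (Fin n) (Fin n) K) = a * (J : Matrix (Fin n) (Fin n) K) * ai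
    * (b * (J : Matrix (Fin n) (Fin n) K) * bi)
  rw [haJ', hbJ', ← LinearMap.toMatrix'_mul, ← hLU, LinearMap.toMatrix'_toLin']

end Cfsg.Agent.S2522
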