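import Cfsg.Statements.S2532
import Mathlib

set_option autoImplicit false
open Cfsg

namespace Cfsg.Agent.S2532

open MulAction in
/-- General lemma: a finite group `H` acting on a large finite set `X` commutes with a copy of
`Perm (Fin r)` permuting `r` isomorphic orbits. -/
theorem exists_commuting_perm {H X : Type*} [Group H] [Fintype H] [Fintype X] [DecidableEq X] [MulAction H X]
    (r : ℕ) (hcard : Fintype.card H * 2 ^ Fintype.card H * r < Fintype.card X) :
    ∃ Ψ : Equiv.Perm (Fin r) →* Equiv.Perm X, Function.Injective Ψ ∧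
      (∀ σ (h : H) (x : X), Ψ σ (h • x) = h • Ψ σ x) ∧
      (∀ σ, Equiv.Perm.sign σ = 1 → Equiv.Perm.sign (Ψ σ) = 1) := by
  classical
  let Ω := orbitRel.Quotient H X
  let rep : Ω → X := Quotient.out
  have hrep : ∀ x : X, ∃ h : H, h • rep (Quotient.mk'' x) = x := by
    intro x
    have h1 : (Quotient.mk'' (rep (Quotient.mk'' x)) : Ω) = Quotient.mk'' x := Quotient.out_eq _
    have h2 : orbitRel H X (rep (Quotient.mk'' x)) x := Quotient.exact h1
    rw [orbitRel_apply] at h2
    obtain ⟨h, hh⟩ := h2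
    refine ⟨h⁻¹, ?_⟩
    rw [← hh]
    simp
  let _ : Fintype (Subgroup H) := Fintype.ofInjective (fun K : Subgroup H => (K : Set H)) SetLike.coe_injective
  have hsub : Fintype.card (Subgroup H) ≤ 2 ^ Fintype.card H := by
    rw [← Fintype.card_set]
    exact Fintype.card_le_of_injective (fun K : Subgroup H => (K : Set H)) SetLike.coe_injective
  have hsurj : Function.Surjective (fun p : H × Ω => p.1 • rep p.2) := by
    intro x
    obtain ⟨h, hh⟩ := hrep x
    exact ⟨(h, Quotient.mk'' x), hh⟩
  have hX : Fintype.card X ≤ Fintype.card H * Fintype.card Ω := by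
    have := Fintype.card_le_of_surjective _ hsurj
    rwa [Fintype.card_prod] at this
  have hpig : Fintype.card (Subgroup H) * r < Fintype.card Ω := by
    have hHpos : 0 < Fintype.card H := Fintype.card_pos
    have h1 : Fintype.card H * (2 ^ Fintype.card H * r) < Fintype.card H * Fintype.card Ω := by
      calc Fintype.card H * (2 ^ Fintype.card H * r) = Fintype.card H * 2 ^ Fintype.card H * r := by ring
        _ < Fintype.card X := hcard
        _ ≤ _ := hX
    have h2 : 2 ^ Fintype.card H * r < Fintype.card Ω := Nat.lt_of_mul_lt_mul_left h1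
    calc Fintype.card (Subgroup H) * r ≤ 2 ^ Fintype.card H * r := Nat.mul_le_mul_right _ hsub
      _ < _ := h2
  obtain ⟨S, hS⟩ := Fintype.exists_lt_card_fiber_of_mul_lt_card (fun ω : Ω => stabilizer H (rep ω)) hpig
  set T : Finset Ω := {ω | stabilizer H (rep ω) = S} with hT
  have hTr : Fintype.card (Fin r) ≤ Fintype.card T := by
    rw [Fintype.card_fin, Fintype.card_coe]
    exact hS.le
  obtain ⟨e⟩ := Function.Embedding.nonempty_of_card_le hTr
  let j : Fin r → Ω := fun i => (e i : Ω)
  have hj : Function.Injective j := fun a b hab => e.injective (Subtype.ext hab)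
  have hjS : ∀ i, stabilizer H (rep (j i)) = S := by
    intro i
    have h1 : (e i : Ω) ∈ T := (e i).2
    have h2 : (e i : Ω) ∈ ({ω | stabilizer H (rep ω) = S} : Finset Ω) := h1
    rw [Finset.mem_filter] at h2
    exact h2.2
  -- the equivariant embedding
  let ι₀ : Fin r × (H ⧸ S) → X := fun p =>
    Quotient.liftOn' p.2 (fun h => h • rep (j p.1)) (by
      intro a b hab
      rw [QuotientGroup.leftRel_apply, ← hjS p.1, mem_stabilizer_iff] at hab
      show a • rep (j p.1) = b • rep (j p.1)
      conv_lhs => rw [← hab]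
      rw [smul_smul, mul_inv_cancel_left])
  have hι₀mk : ∀ (i : Fin r) (h : H), ι₀ (i, (h : H ⧸ S)) = h • rep (j i) := fun i h => rfl
  have hι₀inj : Function.Injective ι₀ := by
    rintro ⟨i, q⟩ ⟨i', q'⟩ hqq
    induction q using QuotientGroup.induction_on with | H h =>
    induction q' using QuotientGroup.induction_on with | H h' =>
    rw [hι₀mk, hι₀mk] at hqq
    have hi : i = i' := by
      apply hj
      have h1 : (Quotient.mk'' (rep (j i)) : Ω) = Quotient.mk'' (rep (j i')) := by
        apply Quotient.sound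
        show orbitRel H X _ _
        rw [orbitRel_apply]
        refine ⟨h⁻¹ * h', ?_⟩
        show (h⁻¹ * h') • rep (j i') = rep (j i)
        rw [mul_smul, ← hqq, smul_smul, inv_mul_cancel, one_smul]
      have h2 : (Quotient.mk'' (rep (j i)) : Ω) = j i := Quotient.out_eq _
      have h3 : (Quotient.mk'' (rep (j i')) : Ω) = j i' := Quotient.out_eq _
      rw [← h2, ← h3, h1]
    subst hi
    congr 1
    rw [QuotientGroup.eq, ← hjS i, mem_stabilizer_iff, mul_smul, ← hqq, smul_smul, inv_mul_cancel, one_smul]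
  have hι₀smul : ∀ (h : H) (i : Fin r) (q : H ⧸ S), ι₀ (i, h • q) = h • ι₀ (i, q) := by
    intro h i q
    induction q using QuotientGroup.induction_on with | H h' =>
    rw [MulAction.Quotient.smul_mk, hι₀mk, hι₀mk, smul_eq_mul, mul_smul]
  let ι : Fin r × (H ⧸ S) ↪ X := ⟨ι₀, hι₀inj⟩
  have hrange : ∀ (h : H) (x : X), x ∉ Set.range ι → h • x ∉ Set.range ι := by
    rintro h x hx ⟨⟨i, q⟩, hiq⟩
    apply hx
    refine ⟨(i, h⁻¹ • q), ?_⟩
    show ι₀ (i, h⁻¹ • q) = x
    rw [hι₀smul]
    have : ι₀ (i, q) = h • x := hiq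
    rw [this, smul_smul, inv_mul_cancel, one_smul]
  -- the hom Perm (Fin r) →* Perm (Fin r × Q)
  let P : Equiv.Perm (Fin r) →* Equiv.Perm (Fin r × (H ⧸ S)) :=
    { toFun := fun σ => Equiv.prodCongrLeft (fun _ => σ)
      map_one' := by ext ⟨a, q⟩ <;> rfl
      map_mul' := by intro σ τ; ext ⟨a, q⟩ <;> rfl }
  have hPapply : ∀ σ i q, P σ (i, q) = (σ i, q) := fun σ i q => rfl
  have hPinj : Function.Injective P := by
    intro σ τ hστ
    ext i
    have := congrArg (fun f : Equiv.Perm (Fin r × (H ⧸ S)) => (f (i, ((1 : H) : H ⧸ S))).1) hστ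
    simp only [hPapply] at this
    rw [this]
  refine ⟨(Equiv.Perm.viaEmbeddingHom ι).comp P, ?_, ?_, ?_⟩
  · exact (Equiv.Perm.viaEmbeddingHom_injective ι).comp hPinj
  · intro σ h x
    show (Equiv.Perm.viaEmbedding (P σ) ι) (h • x) = h • (Equiv.Perm.viaEmbedding (P σ) ι) x
    by_cases hx : x ∈ Set.range ι
    · obtain ⟨⟨i, q⟩, rfl⟩ := hx
      have h1 : h • ι (i, q) = ι (i, h • q) := (hι₀smul h i q).symm
      rw [h1, Equiv.Perm.viaEmbedding_apply, Equiv.Perm.viaEmbedding_apply, hPapply, hPapply]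
      exact hι₀smul h (σ i) q
    · rw [Equiv.Perm.viaEmbedding_apply_of_notMem _ _ _ hx,
        Equiv.Perm.viaEmbedding_apply_of_notMem _ _ _ (hrange h x hx)]
  · intro σ hσ
    show Equiv.Perm.sign (Equiv.Perm.viaEmbedding (P σ) ι) = 1
    unfold Equiv.Perm.viaEmbedding
    rw [Equiv.Perm.sign_extendDomain]
    show Equiv.Perm.sign (Equiv.prodCongrLeft (fun _ => σ)) = 1
    rw [Equiv.Perm.sign_prodCongrLeft]
    simp [hσ]

/-- There is a function `f` of two natural-number arguments such that, whenever `m ≥ f(n, r)`, every subgroup of order `n` of the alternating group of degree `m` centralizes some subgroup of that alternating group isomorphic to the alternating group of degree `r`. -/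
theorem result :
    ∃ f : ℕ → ℕ → ℕ, ∀ (m r : ℕ) (H : Subgroup ↥(alternatingGroup (Fin m))), f (Nat.card H) r ≤ m →
      ∃ K : Subgroup ↥(alternatingGroup (Fin m)), Nonempty (↥K ≃* ↥(alternatingGroup (Fin r))) ∧
        K ≤ Subgroup.centralizer (H : Set ↥(alternatingGroup (Fin m))) := by
  classical
  refine ⟨fun n r => n * 2 ^ n * r + 1, ?_⟩
  intro m r H hm
  let _ : Fintype H := Fintype.ofFinite H
  have hcard : Fintype.card H * 2 ^ Fintype.card H * r < Fintype.card (Fin m) := by
    rw [Fintype.card_fin, ← Nat.card_eq_fintype_card]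
    exact hm
  obtain ⟨Ψ, hΨinj, hΨcomm, hΨsign⟩ := exists_commuting_perm (H := H) (X := Fin m) r hcard
  let Φ : alternatingGroup (Fin r) →* alternatingGroup (Fin m) :=
    { toFun := fun σ => ⟨Ψ σ.1, Equiv.Perm.mem_alternatingGroup.mpr
        (hΨsign σ.1 (Equiv.Perm.mem_alternatingGroup.mp σ.2))⟩
      map_one' := by
        apply Subtype.ext
        simp
      map_mul' := by
        intro a b
        apply Subtype.ext
        simp }
  have hΦinj : Function.Injective Φ := by
    intro a b hab
    apply Subtype.ext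
    apply hΨinj
    exact congrArg Subtype.val hab
  refine ⟨Φ.range, ⟨(MonoidHom.ofInjective hΦinj).symm⟩, ?_⟩
  rintro _ ⟨σ, rfl⟩
  rw [Subgroup.mem_centralizer_iff]
  intro h hh
  apply Subtype.ext
  apply Equiv.ext
  intro x
  show (h : Equiv.Perm (Fin m)) (Ψ σ.1 x) = Ψ σ.1 ((h : Equiv.Perm (Fin m)) x)
  have := hΨcomm σ.1 ⟨h, hh⟩ x
  exact this.symm

end Cfsg.Agent.S2532
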