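import Mathlib
import Cfsg.Statements.S2533
import Cfsg.Agent.Helper42.GDih
import Cfsg.Agent.Helper42.Kronecker

set_option autoImplicit false
open Cfsg

namespace Cfsg.Agent.S2533

open Cfsg.Agent.Helper42 Matrix

section blocks

variable {R : Type*} [CommRing R] {m : ℕ}

/-- the unipotent block matrix -/
def uSL (B : Matrix (Fin (m + 1)) (Fin m) R) : Matrix.SpecialLinearGroup (Fin m ⊕ Fin (m + 1)) R :=
  ⟨Matrix.fromBlocks 1 0 B 1, by
    rw [Matrix.det_fromBlocks_zero₁₂, Matrix.det_one, Matrix.det_one, one_mul]⟩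

theorem uSL_val (B : Matrix (Fin (m + 1)) (Fin m) R) :
    ((uSL B : Matrix.SpecialLinearGroup (Fin m ⊕ Fin (m + 1)) R) :
      Matrix (Fin m ⊕ Fin (m + 1)) (Fin m ⊕ Fin (m + 1)) R) =
      Matrix.fromBlocks 1 0 B 1 := rfl

theorem uSL_mul (B B' : Matrix (Fin (m + 1)) (Fin m) R) : uSL B * uSL B' = uSL (B + B') := by
  apply Subtype.ext
  rw [Matrix.SpecialLinearGroup.coe_mul, uSL_val, uSL_val, uSL_val, Matrix.fromBlocks_multiply]
  simp

/-- the involution -/
def tauSL (hm : Even m) : Matrix.SpecialLinearGroup (Fin m ⊕ Fin (m + 1)) R :=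
  ⟨Matrix.fromBlocks (-1) 0 0 1, by
    rw [Matrix.det_fromBlocks_zero₁₂, Matrix.det_one, mul_one, Matrix.det_neg, Matrix.det_one, mul_one,
      Fintype.card_fin, hm.neg_one_pow]⟩

theorem tauSL_val (hm : Even m) :
    ((tauSL hm : Matrix.SpecialLinearGroup (Fin m ⊕ Fin (m + 1)) R) :
      Matrix (Fin m ⊕ Fin (m + 1)) (Fin m ⊕ Fin (m + 1)) R) =
      Matrix.fromBlocks (-1) 0 0 1 := rfl

theorem tauSL_mul_self (hm : Even m) :
    (tauSL hm : Matrix.SpecialLinearGroup (Fin m ⊕ Fin (m + 1)) R) * tauSL hm = 1 := by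
  apply Subtype.ext
  rw [Matrix.SpecialLinearGroup.coe_mul, tauSL_val, Matrix.fromBlocks_multiply]
  simp [Matrix.fromBlocks_one]

theorem tauSL_conj (hm : Even m) (B : Matrix (Fin (m + 1)) (Fin m) R) :
    tauSL hm * uSL B * tauSL hm = uSL (-B) := by
  apply Subtype.ext
  rw [Matrix.SpecialLinearGroup.coe_mul, Matrix.SpecialLinearGroup.coe_mul, tauSL_val, uSL_val, uSL_val,
    Matrix.fromBlocks_multiply, Matrix.fromBlocks_multiply]
  simp

/-- a third matrix, independent of `kX` and `kY` -/
def kW (R : Type*) [CommRing R] (m : ℕ) : Matrix (Fin (m + 1)) (Fin m) R :=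
  fun i j => if i.val = 0 ∧ j.val + 1 = m then 1 else 0

/-- the linear combination -/
def kM (v : Fin 3 → R) : Matrix (Fin (m + 1)) (Fin m) R :=
  v 0 • kX R m + v 1 • kY R m + v 2 • kW R m

theorem kM_add (v w : Fin 3 → R) : (kM (v + w) : Matrix (Fin (m + 1)) (Fin m) R) = kM v + kM w := by
  simp only [kM, Pi.add_apply, add_smul]
  abel

theorem kM_neg (v : Fin 3 → R) : (kM (-v) : Matrix (Fin (m + 1)) (Fin m) R) = -kM v := by
  simp only [kM, Pi.neg_apply, neg_smul]
  abel

theorem kM_eq_zero (hm : 2 ≤ m) (v : Fin 3 → R) (h : (kM v : Matrix (Fin (m + 1)) (Fin m) R) = 0) :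
    v = 0 := by
  have h0 := congrFun (congrFun h ⟨0, by omega⟩) ⟨0, by omega⟩
  have h1 := congrFun (congrFun h ⟨1, by omega⟩) ⟨0, by omega⟩
  have h2 := congrFun (congrFun h ⟨0, by omega⟩) ⟨m - 1, by omega⟩
  simp only [kM, kX, kY, kW, Matrix.add_apply, Matrix.smul_apply, smul_eq_mul, Matrix.zero_apply,
    Fin.ext_iff, Fin.val_castSucc, Fin.val_succ] at h0 h1 h2
  have e0 : v 0 = 0 := by
    have : ¬ ((0 : ℕ) + 1 = m) := by omega
    simpa [this] using h0
  have e1 : v 1 = 0 := by
    simpa using h1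
  have e2 : v 2 = 0 := by
    have h3 : ¬ (0 = m - 1) := by omega
    have h4 : m - 1 + 1 = m := by omega
    have h5 : ¬ (0 = m) := by omega
    simpa [h3, h4, h5] using h2
  funext i
  fin_cases i
  · exact e0
  · exact e1
  · exact e2

end blocks

section field

variable {F : Type*} [Field F] {m : ℕ}

/-- an element of `SL` commuting with the involution and with the two Kronecker unipotents is scalar -/
theorem scalar_of_commute (h2 : (2 : F) ≠ 0) (hm : Even m)
    (g : Matrix.SpecialLinearGroup (Fin m ⊕ Fin (m + 1)) F)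
    (ht : g * tauSL hm = tauSL hm * g)
    (hX : g * uSL (kX F m) = uSL (kX F m) * g) (hY : g * uSL (kY F m) = uSL (kY F m) * g) :
    ∃ c : F, (g : Matrix (Fin m ⊕ Fin (m + 1)) (Fin m ⊕ Fin (m + 1)) F) = c • 1 := by
  set gm := (g : Matrix (Fin m ⊕ Fin (m + 1)) (Fin m ⊕ Fin (m + 1)) F) with hgm
  have hdecomp : gm = Matrix.fromBlocks gm.toBlocks₁₁ gm.toBlocks₁₂ gm.toBlocks₂₁ gm.toBlocks₂₂ :=
    (Matrix.fromBlocks_toBlocks gm).symm
  set g11 := gm.toBlocks₁₁
  set g12 := gm.toBlocks₁₂
  set g21 := gm.toBlocks₂₁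
  set g22 := gm.toBlocks₂₂
  -- commuting with tau kills the off-diagonal blocks
  have ht' := congrArg (fun x : Matrix.SpecialLinearGroup (Fin m ⊕ Fin (m + 1)) F =>
    (x : Matrix (Fin m ⊕ Fin (m + 1)) (Fin m ⊕ Fin (m + 1)) F)) ht
  simp only [Matrix.SpecialLinearGroup.coe_mul, tauSL_val] at ht'
  rw [← hgm, hdecomp, Matrix.fromBlocks_multiply, Matrix.fromBlocks_multiply, Matrix.fromBlocks_inj] at ht'
  obtain ⟨-, h12, h21, -⟩ := ht'
  have h12' : g12 = 0 := by
    have : (2 : F) • g12 = 0 := by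
      have e : g12 = -g12 := by simpa using h12
      rw [two_smul]
      nth_rewrite 1 [e]
      exact neg_add_cancel g12
    exact (smul_eq_zero.mp this).resolve_left h2
  have h21' : g21 = 0 := by
    have : (2 : F) • g21 = 0 := by
      have e : -g21 = g21 := by simpa using h21
      rw [two_smul]
      nth_rewrite 1 [← e]
      exact neg_add_cancel g21
    exact (smul_eq_zero.mp this).resolve_left h2
  rw [h12', h21'] at hdecomp
  -- commuting with the unipotents
  have key : ∀ B : Matrix (Fin (m + 1)) (Fin m) F, g * uSL B = uSL B * g → g22 * B = B * g11 := by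
    intro B hB
    have hB' := congrArg (fun x : Matrix.SpecialLinearGroup (Fin m ⊕ Fin (m + 1)) F =>
      (x : Matrix (Fin m ⊕ Fin (m + 1)) (Fin m ⊕ Fin (m + 1)) F)) hB
    simp only [Matrix.SpecialLinearGroup.coe_mul, uSL_val] at hB'
    rw [← hgm, hdecomp, Matrix.fromBlocks_multiply, Matrix.fromBlocks_multiply, Matrix.fromBlocks_inj] at hB'
    obtain ⟨-, -, h, -⟩ := hB'
    simpa using h
  obtain ⟨e22, e11⟩ := kronecker_end g22 g11 (key _ hX) (key _ hY)
  refine ⟨g22 0 0, ?_⟩
  rw [hdecomp]
  nth_rewrite 1 [e11]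
  nth_rewrite 2 [e22]
  rw [← Matrix.fromBlocks_one, Matrix.fromBlocks_smul, smul_zero, smul_zero]

end field


section reindex

variable {ι κ R : Type*} [Fintype ι] [DecidableEq ι] [Fintype κ] [DecidableEq κ] [CommRing R]

/-- reindexing the special linear group -/
def slReindex (e : ι ≃ κ) : Matrix.SpecialLinearGroup ι R ≃* Matrix.SpecialLinearGroup κ R where
  toFun A := ⟨Matrix.reindex e e (A : Matrix ι ι R), by
    rw [Matrix.det_reindex_self]; exact A.2⟩
  invFun A := ⟨Matrix.reindex e.symm e.symm (A : Matrix κ κ R), by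
    rw [Matrix.det_reindex_self]; exact A.2⟩
  left_inv A := by
    apply Subtype.ext
    simp
  right_inv A := by
    apply Subtype.ext
    simp
  map_mul' A B := by
    apply Subtype.ext
    show Matrix.reindex e e ((A : Matrix ι ι R) * (B : Matrix ι ι R)) =
      Matrix.reindex e e (A : Matrix ι ι R) * Matrix.reindex e e (B : Matrix ι ι R)
    simp only [Matrix.reindex_apply]
    rw [Matrix.submatrix_mul_equiv]

end reindex

section center

variable {ι : Type*} [Fintype ι] [DecidableEq ι] (p : ℕ) [Fact p.Prime]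

theorem center_eq_bot (k : ℕ) (hcard : Fintype.card ι = (p - 1) * k + 1) :
    Subgroup.center (Matrix.SpecialLinearGroup ι (ZMod p)) = ⊥ := by
  rw [Subgroup.eq_bot_iff_forall]
  intro z hz
  rw [Matrix.SpecialLinearGroup.mem_center_iff] at hz
  obtain ⟨r, hr, hrz⟩ := hz
  have hr0 : r ≠ 0 := by
    rintro rfl
    rw [hcard, zero_pow (by omega)] at hr
    exact zero_ne_one hr
  have hr1 : r = 1 := by
    rw [hcard, pow_succ, pow_mul, ZMod.pow_card_sub_one_eq_one hr0, one_pow, one_mul] at hr
    exact hr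
  apply Subtype.ext
  rw [← hrz, hr1]
  simp

end center

section final

variable (p : ℕ) [Fact p.Prime]

/-- the representation -/
def rep (m : ℕ) (hm : Even m) :
    GDih (Fin 3 → ZMod p) →* Matrix.SpecialLinearGroup (Fin m ⊕ Fin (m + 1)) (ZMod p) :=
  GDih.lift (fun v => uSL (kM v)) (tauSL hm)
    (fun a b => by rw [kM_add, uSL_mul])
    (tauSL_mul_self hm)
    (fun a => by rw [tauSL_conj, kM_neg])

theorem rep_injective (hp : p ≠ 2) (m : ℕ) (hm : Even m) (hm2 : 2 ≤ m) :
    Function.Injective (rep p m hm) := by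
  apply GDih.lift_injective
  · intro v hv
    apply kM_eq_zero hm2
    have := congrArg (fun x : Matrix.SpecialLinearGroup (Fin m ⊕ Fin (m + 1)) (ZMod p) =>
      (x : Matrix (Fin m ⊕ Fin (m + 1)) (Fin m ⊕ Fin (m + 1)) (ZMod p))) hv
    simp only [uSL_val, Matrix.SpecialLinearGroup.coe_one] at this
    rw [← Matrix.fromBlocks_one, Matrix.fromBlocks_inj] at this
    exact this.2.2.1
  · intro v hv
    have := congrArg (fun x : Matrix.SpecialLinearGroup (Fin m ⊕ Fin (m + 1)) (ZMod p) =>
      (x : Matrix (Fin m ⊕ Fin (m + 1)) (Fin m ⊕ Fin (m + 1)) (ZMod p))) hv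
    simp only [Matrix.SpecialLinearGroup.coe_mul, uSL_val, tauSL_val, Matrix.SpecialLinearGroup.coe_one] at this
    rw [Matrix.fromBlocks_multiply, ← Matrix.fromBlocks_one, Matrix.fromBlocks_inj] at this
    have h11 := this.1
    have h00 := congrFun (congrFun h11 ⟨0, by omega⟩) ⟨0, by omega⟩
    simp at h00
    -- -1 = 1 in ZMod p
    have h2 : (2 : ZMod p) = 0 := by
      have : (1 : ZMod p) + 1 = 0 := by
        nth_rewrite 1 [← h00]
        exact neg_add_cancel 1
      rw [← this]; norm_num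
    have : ((2 : ℕ) : ZMod p) = 0 := by exact_mod_cast h2
    rw [ZMod.natCast_eq_zero_iff] at this
    have hp2 := (Nat.prime_dvd_prime_iff_eq (Fact.out : p.Prime) Nat.prime_two).mp this
    exact hp hp2

theorem two_ne_zero_zmod (hp : p ≠ 2) : (2 : ZMod p) ≠ 0 := by
  intro h2
  have : ((2 : ℕ) : ZMod p) = 0 := by exact_mod_cast h2
  rw [ZMod.natCast_eq_zero_iff] at this
  have hp2 := (Nat.prime_dvd_prime_iff_eq (Fact.out : p.Prime) Nat.prime_two).mp this
  exact hp hp2

theorem centralizer_rep (hp : p ≠ 2) (m : ℕ) (hm : Even m)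
    (g : Matrix.SpecialLinearGroup (Fin m ⊕ Fin (m + 1)) (ZMod p))
    (hg : ∀ x, g * rep p m hm x = rep p m hm x * g) :
    g ∈ Subgroup.center (Matrix.SpecialLinearGroup (Fin m ⊕ Fin (m + 1)) (ZMod p)) := by
  have ht : g * tauSL hm = tauSL hm * g := by
    have := hg (GDih.sr 0)
    have e : rep p m hm (GDih.sr 0) = tauSL hm := by
      show tauSL hm * uSL (kM 0) = tauSL hm
      have : (kM (0 : Fin 3 → ZMod p) : Matrix (Fin (m + 1)) (Fin m) (ZMod p)) = 0 := by
        simp [kM]
      rw [this]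
      have : (uSL (0 : Matrix (Fin (m + 1)) (Fin m) (ZMod p))) = 1 := by
        apply Subtype.ext
        rw [uSL_val, Matrix.SpecialLinearGroup.coe_one, Matrix.fromBlocks_one]
      rw [this, mul_one]
    rwa [e] at this
  have hX : g * uSL (kX (ZMod p) m) = uSL (kX (ZMod p) m) * g := by
    have := hg (GDih.r ![1, 0, 0])
    have e : rep p m hm (GDih.r ![1, 0, 0]) = uSL (kX (ZMod p) m) := by
      show uSL (kM ![1, 0, 0]) = _
      congr 1
      simp [kM]
    rwa [e] at this
  have hY : g * uSL (kY (ZMod p) m) = uSL (kY (ZMod p) m) * g := by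
    have := hg (GDih.r ![0, 1, 0])
    have e : rep p m hm (GDih.r ![0, 1, 0]) = uSL (kY (ZMod p) m) := by
      show uSL (kM ![0, 1, 0]) = _
      congr 1
      simp [kM]
    rwa [e] at this
  obtain ⟨c, hc⟩ := scalar_of_commute (two_ne_zero_zmod p hp) hm g ht hX hY
  rw [Matrix.SpecialLinearGroup.mem_center_iff]
  refine ⟨c, ?_, ?_⟩
  · have hdet := g.2
    rw [hc, Matrix.det_smul, Matrix.det_one, mul_one] at hdet
    exact hdet
  · rw [hc]
    ext i j
    simp [Matrix.scalar_apply, Matrix.diagonal_apply, Matrix.one_apply]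

end final

/-- For every odd prime `p` there is a finite group `H` of order `2p³` which, for infinitely many `n`, embeds in the projective special linear group `PSL(n, p)` as a subgroup with trivial centralizer. -/
theorem result
    (p : ℕ) [Fact p.Prime] (hp : p ≠ 2) :
    ∃ (H : Type) (_ : Group H) (_ : Finite H), Nat.card H = 2 * p ^ 3 ∧
      ∀ N : ℕ, ∃ n, N ≤ n ∧ ∃ φ : H →* Matrix.ProjectiveSpecialLinearGroup (Fin n) (ZMod p),
        Function.Injective φ ∧ Subgroup.centralizer (φ.range : Set (Matrix.ProjectiveSpecialLinearGroup (Fin n) (ZMod p))) = ⊥ := by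
  classical
  have hprime : p.Prime := Fact.out
  have hp3 : 3 ≤ p := by
    have := hprime.two_le
    omega
  have hpodd : Odd p := hprime.odd_of_ne_two hp
  refine ⟨GDih (Fin 3 → ZMod p), inferInstance, inferInstance, ?_, ?_⟩
  · rw [GDih.card, Nat.card_eq_fintype_card, Fintype.card_fun, ZMod.card, Fintype.card_fin]
  · intro N
    set j := N + 1 with hj
    set m := (p - 1) * j with hmdef
    have hm : Even m := by
      have : Even (p - 1) := by
        obtain ⟨k, hk⟩ := hpodd
        exact ⟨k, by omega⟩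
      exact this.mul_right j
    have hm2 : 2 ≤ m := by
      have : 2 * 1 ≤ (p - 1) * j := Nat.mul_le_mul (by omega) (by omega)
      omega
    refine ⟨m + (m + 1), ?_, ?_⟩
    · have : j ≤ m := by
        have : 1 * j ≤ (p - 1) * j := Nat.mul_le_mul (by omega) le_rfl
        omega
      omega
    · set n := m + (m + 1) with hn
      have hcardι : Fintype.card (Fin m ⊕ Fin (m + 1)) = (p - 1) * (2 * j) + 1 := by
        rw [Fintype.card_sum, Fintype.card_fin, Fintype.card_fin, hmdef]; ring
      have hcardn : Fintype.card (Fin n) = (p - 1) * (2 * j) + 1 := by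
        rw [Fintype.card_fin, hn, hmdef]; ring
      have hZι := center_eq_bot (ι := Fin m ⊕ Fin (m + 1)) p (2 * j) hcardι
      have hZn := center_eq_bot (ι := Fin n) p (2 * j) hcardn
      let e : Matrix.SpecialLinearGroup (Fin m ⊕ Fin (m + 1)) (ZMod p) ≃*
          Matrix.SpecialLinearGroup (Fin n) (ZMod p) := slReindex finSumFinEquiv
      have hmkinj : Function.Injective
          (QuotientGroup.mk' (Subgroup.center (Matrix.SpecialLinearGroup (Fin n) (ZMod p)))) := by
        rw [← MonoidHom.ker_eq_bot_iff, QuotientGroup.ker_mk', hZn]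
      let ψ : GDih (Fin 3 → ZMod p) →* Matrix.SpecialLinearGroup (Fin n) (ZMod p) :=
        e.toMonoidHom.comp (rep p m hm)
      refine ⟨(QuotientGroup.mk' (Subgroup.center (Matrix.SpecialLinearGroup (Fin n) (ZMod p)))).comp ψ,
        ?_, ?_⟩
      · exact hmkinj.comp (e.injective.comp (rep_injective p hp m hm hm2))
      · rw [Subgroup.eq_bot_iff_forall]
        intro x hx
        obtain ⟨y, rfl⟩ := QuotientGroup.mk'_surjective _ x
        rw [Subgroup.mem_centralizer_iff] at hx
        -- y commutes with ψ h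
        have hy : ∀ h, e.symm y * rep p m hm h = rep p m hm h * e.symm y := by
          intro h
          have h1 := hx _ ⟨h, rfl⟩
          rw [MonoidHom.comp_apply, ← map_mul, ← map_mul] at h1
          have h2 := hmkinj h1
          apply e.injective
          rw [map_mul, map_mul, e.apply_symm_apply]
          exact h2.symm
        have hcen := centralizer_rep p hp m hm (e.symm y) hy
        rw [hZι, Subgroup.mem_bot] at hcen
        have : y = 1 := by
          have := congrArg e hcen
          rwa [e.apply_symm_apply, map_one] at this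
        rw [this, map_one]

end Cfsg.Agent.S2533
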