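-- Statement S2534 (row 2534).
import Cfsg.Statements.S2534
import Cfsg.Agent.Helper30.HallSym.AltD

set_option autoImplicit false
open Cfsg

namespace Cfsg.Agent.S2534

open Cfsg.Agent.Helper30.HallSym

/-- For `n ≥ 5` and a set of primes `π`, the alternating group of degree `n` satisfies the full Sylow analogue for `π` (its maximal `π`-subgroups are pairwise conjugate; for a finite group this says Hall `π`-subgroups exist, are all conjugate, and contain every `π`-subgroup up to conjugacy) if and only if either at most one prime of `π` divides its order or every prime dividing its order lies in `π`. -/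
theorem result (n : ℕ) (hn : 5 ≤ n) (π : Set ℕ) :
    Cfsg.IsDPiGroup π ↥(alternatingGroup (Fin n)) ↔
      ((∀ r s : ℕ, r.Prime → s.Prime → r ∈ π → s ∈ π → r ∣ Nat.card ↥(alternatingGroup (Fin n)) → s ∣ Nat.card ↥(alternatingGroup (Fin n)) → r = s) ∨
        ∀ r : ℕ, r.Prime → r ∣ Nat.card ↥(alternatingGroup (Fin n)) → r ∈ π) := by
  constructor
  · intro hD
    by_contra hcon
    push Not at hcon
    obtain ⟨⟨r, s, hr, hs, hrπ, hsπ, hrd, hsd, hne⟩, ⟨t, ht, htd, htπ⟩⟩ := hcon
    have hle : ∀ p : ℕ, p.Prime → p ∣ Nat.card ↥(alternatingGroup (Fin n)) → p ≤ n := by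
      intro p hp hpd
      have := prime_le_of_dvd_card_perm_subgroup (alternatingGroup (Fin n)) hp hpd
      rwa [Fintype.card_fin] at this
    refine alt_not_dpi hn (π := π) ?_ ?_ hD
    · intro h1
      exact hne (h1 r s hr hs hrπ hsπ (hle r hr hrd) (hle s hs hsd))
    · intro hall
      exact htπ (hall t ht (hle t ht htd))
  · rintro (h | h)
    · exact dpi_of_unique_prime h
    · exact dpi_of_all h

end Cfsg.Agent.S2534
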