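-- Statement S2536 (row 2536).
import Cfsg.Statements.S2536
import Cfsg.Agent.Helper30.HallSym.Class

set_option autoImplicit false
open Cfsg

namespace Cfsg.Agent.S2536

open Equiv Equiv.Perm MulAction Subgroup Cfsg.Agent.Helper30.HallSym
open scoped Pointwise

/-- Let `π` be a set of primes and `n` a natural number such that at least two primes of `π` divide `n!` but not every prime dividing `n!` lies in `π`. Then the symmetric group of degree `n` has a Hall `π`-subgroup if and only if either `n` is prime and the primes of `π` dividing `n!` are exactly the primes smaller than `n` (a point stabilizer is then such a subgroup), or `n ∈ {7, 8}` and the primes of `π` dividing `n!` are exactly 2 and 3. -/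
theorem result (n : ℕ) (π : Set ℕ)
    (h2 : ∃ r s : ℕ, r.Prime ∧ s.Prime ∧ r ≠ s ∧ r ∈ π ∧ s ∈ π ∧ r ≤ n ∧ s ≤ n)
    (hns : ∃ r : ℕ, r.Prime ∧ r ≤ n ∧ r ∉ π) :
    Cfsg.IsEPiGroup π (Equiv.Perm (Fin n)) ↔
      ((n.Prime ∧ ∀ r : ℕ, r.Prime → r ≤ n → (r ∈ π ↔ r < n)) ∨
       ((n = 7 ∨ n = 8) ∧ ∀ r : ℕ, r.Prime → r ≤ n → (r ∈ π ↔ (r = 2 ∨ r = 3)))) := by
  have hcard : Fintype.card (Fin n) = n := Fintype.card_fin n
  constructor
  · rintro ⟨H, hH⟩
    have h2' : ¬ AtMostOne π (Fintype.card (Fin n)) := by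
      rw [hcard]
      intro hcon
      obtain ⟨r, s, hr, hs, hne, hrπ, hsπ, hrn, hsn⟩ := h2
      exact hne (hcon r s hr hs hrπ hsπ hrn hsn)
    have hns' : ¬ AllIn π (Fintype.card (Fin n)) := by
      rw [hcard]
      intro hcon
      obtain ⟨r, hr, hrn, hrπ⟩ := hns
      exact hrπ (hcon r hr hrn)
    rcases hall_classification H hH h2' hns' with ⟨hp, hiff, -⟩ | ⟨h7, h23, -⟩ | ⟨h8, h23, -⟩
    · left
      rw [hcard] at hp hiff
      exact ⟨hp, hiff⟩
    · right
      rw [hcard] at h7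
      subst h7
      exact ⟨Or.inl rfl, h23⟩
    · right
      rw [hcard] at h8
      subst h8
      exact ⟨Or.inr rfl, h23⟩
  · rintro (⟨hp, hiff⟩ | ⟨h78, h23⟩)
    · have hpos : 0 < n := hp.pos
      exact ⟨stabilizer (Perm (Fin n)) (⟨0, hpos⟩ : Fin n),
        Pc.isPiHall_stabilizer_point (by rw [hcard]; exact hp) (by rw [hcard]; exact hiff) _⟩
    · rcases h78 with rfl | rfl
      · refine ⟨stabilizer (Perm (Fin 7)) ({0, 1, 2} : Set (Fin 7)),
          Pc.isPiHall_stabilizer_three (by simp) h23 _ ?_⟩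
        rw [show ({0, 1, 2} : Set (Fin 7)) = (({0, 1, 2} : Finset (Fin 7)) : Set (Fin 7)) by simp,
          Set.ncard_coe_finset]
        decide
      · refine ⟨stabilizer (Perm (Fin 8)) ({{0, 1, 2, 3}, {0, 1, 2, 3}ᶜ} : Set (Set (Fin 8))),
          Pc.isPiHall_stabilizer_bipartition (by simp) h23 _ ?_⟩
        rw [show ({0, 1, 2, 3} : Set (Fin 8)) = (({0, 1, 2, 3} : Finset (Fin 8)) : Set (Fin 8)) by
          simp, Set.ncard_coe_finset]
        decide

end Cfsg.Agent.S2536
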