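-- Statement S2537: Hall {2,3}-subgroups of PSL_2(q), q prime to 6.
import Cfsg.Statements.S2537
import Cfsg.Agent.Helper39.HallPSL2

set_option autoImplicit false
open Cfsg

namespace Cfsg.Agent.S2537

open Cfsg.Agent.Helper39

/-- Let `F` be a finite field with `q` elements of characteristic `p ≥ 5`, and `ε = 1` if `q ≡ 1 (mod 4)`, `ε = -1` otherwise. Then `PSL(2, F)` has a Hall `{2, 3}`-subgroup if and only if `3` divides `q − ε`, or the `{2,3}`-part of `q² − 1` is 24, or the `{2,3}`-part of `q² − 1` is 48 (the `{2,3}`-part of `m` being the largest divisor of `m` with no prime factor other than 2 and 3). -/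
theorem result {F : Type*} [Field F] [Fintype F] {p : ℕ} [Fact p.Prime] [CharP F p]
    (hp : 5 ≤ p) (q : ℕ) (hq : Fintype.card F = q) :
    (∃ H : Subgroup (Matrix.ProjectiveSpecialLinearGroup (Fin 2) F), Cfsg.IsPiHall ({2, 3} : Set ℕ) H) ↔
      (3 ∣ q - 1 ∧ q % 4 = 1) ∨ (3 ∣ q + 1 ∧ q % 4 = 3) ∨
        2 ^ (q ^ 2 - 1).factorization 2 * 3 ^ (q ^ 2 - 1).factorization 3 = 24 ∨
        2 ^ (q ^ 2 - 1).factorization 2 * 3 ^ (q ^ 2 - 1).factorization 3 = 48 := by
  subst hq
  have hpp : p.Prime := Fact.out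
  obtain ⟨n, -, hn⟩ := FiniteField.card F p
  have hp2 : p ≠ 2 := by omega
  have hodd : Odd (Fintype.card F) := by rw [hn]; exact (hpp.odd_of_ne_two hp2).pow
  have hq3 : ¬ 3 ∣ Fintype.card F := by
    intro h
    rw [hn] at h
    have := (Nat.prime_dvd_prime_iff_eq Nat.prime_three hpp).mp (Nat.prime_three.dvd_of_dvd_pow h)
    omega
  constructor
  · rintro ⟨H, hH⟩
    exact psl2_hall_forward p hp H ((psl2_isPiHall_iff hodd hq3 H).mp hH)
  · rintro (h | h | h | h)
    · exact psl2_exists_hall_of_three_dvd p hp (Or.inl h)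
    · exact psl2_exists_hall_of_three_dvd p hp (Or.inr h)
    · obtain ⟨H, ⟨e⟩⟩ := (Cfsg.Agent.S0802.result (F := F) p n hn).mpr (fun h => hp2 h.1)
      refine ⟨H, (psl2_isPiHall_iff hodd hq3 H).mpr ?_⟩
      rw [h, Nat.card_congr e.toEquiv, card_alternatingGroup_fin_four]
    · have h16 : Fintype.card F ^ 2 % 16 = 1 := by
        have h1 : 16 ∣ 2 ^ (Fintype.card F ^ 2 - 1).factorization 2 *
            3 ^ (Fintype.card F ^ 2 - 1).factorization 3 := by rw [h]; norm_num
        have hcop : Nat.Coprime 16 (3 ^ (Fintype.card F ^ 2 - 1).factorization 3) :=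
          Nat.Coprime.pow_right _ (by norm_num)
        have h2 : 16 ∣ Fintype.card F ^ 2 - 1 :=
          (hcop.dvd_of_dvd_mul_right h1).trans (Nat.ordProj_dvd _ _)
        have h3 : 1 ≤ Fintype.card F ^ 2 := Nat.one_le_pow _ _ Fintype.card_pos
        obtain ⟨c, hc⟩ := h2
        omega
      obtain ⟨H, ⟨e⟩⟩ := (Cfsg.Agent.S0803.result (F := F) rfl).mpr h16
      refine ⟨H, (psl2_isPiHall_iff hodd hq3 H).mpr ?_⟩
      rw [h, Nat.card_congr e.toEquiv, card_perm_fin_four]

end Cfsg.Agent.S2537
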