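import Mathlib
import Cfsg.Statements.S2540
import Cfsg.Agent.Helper5.SLn
import Cfsg.Agent.Helper5.PSL2Simple
import Cfsg.Agent.S0249

set_option autoImplicit false
open Cfsg

namespace Cfsg.Agent.S2540

open scoped commutatorElement

theorem comm_mul_of_central {G : Type*} [Group G] (s t g : G)
    (hc : ∀ h : G, h * (t * g * t⁻¹ * g⁻¹) = (t * g * t⁻¹ * g⁻¹) * h) :
    (s * t) * g * (s * t)⁻¹ * g⁻¹ = (s * g * s⁻¹ * g⁻¹) * (t * g * t⁻¹ * g⁻¹) := by
  have e1 : (s * t) * g * (s * t)⁻¹ * g⁻¹ = s * (t * g * t⁻¹ * g⁻¹) * (g * s⁻¹ * g⁻¹) := by group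
  rw [e1, hc s, mul_assoc, ← hc (s * (g * s⁻¹ * g⁻¹))]
  group

/-- if all commutators `[f s, g]` are central and `S` is perfect then `g` commutes with `f s` -/
theorem commute_of_comm_mem_center {S K : Type*} [Group S] [Group K] (f : S →* K) (g : K)
    (hperf : commutator S = ⊤) (h : ∀ s, f s * g * (f s)⁻¹ * g⁻¹ ∈ Subgroup.center K) :
    ∀ s, f s * g = g * f s := by
  let ψ : S →* Subgroup.center K :=
    { toFun := fun s => ⟨_, h s⟩
      map_one' := by
        apply Subtype.ext
        simp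
      map_mul' := by
        intro s t
        apply Subtype.ext
        show f (s * t) * g * (f (s * t))⁻¹ * g⁻¹ = (f s * g * (f s)⁻¹ * g⁻¹) * (f t * g * (f t)⁻¹ * g⁻¹)
        have hct := h t
        rw [Subgroup.mem_center_iff] at hct
        rw [map_mul]
        exact comm_mul_of_central _ _ _ hct }
  have hψ : ∀ s, ψ s = 1 := by
    intro s
    have hker : commutator S ≤ ψ.ker := by
      rw [commutator_eq_closure, Subgroup.closure_le]
      rintro x ⟨p, q, rfl⟩
      rw [SetLike.mem_coe, MonoidHom.mem_ker, map_commutatorElement, commutatorElement_eq_one_iff_mul_comm]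
      apply Subtype.ext
      have hq := (ψ q).2
      rw [Subgroup.mem_center_iff] at hq
      exact hq (ψ p)
    rw [hperf] at hker
    exact hker (Subgroup.mem_top s)
  intro s
  have h2 : f s * g * (f s)⁻¹ * g⁻¹ = 1 := congrArg Subtype.val (hψ s)
  have h3 : f s * g * (f s)⁻¹ = g := by
    rw [mul_inv_eq_one] at h2; exact h2
  rw [mul_inv_eq_iff_eq_mul] at h3
  exact h3

theorem commutator_mul_central {G : Type*} [Group G] (n₁ n₂ z₁ z₂ : G)
    (h1 : ∀ h : G, h * z₁ = z₁ * h) (h2 : ∀ h : G, h * z₂ = z₂ * h) :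
    ⁅n₁ * z₁, n₂ * z₂⁆ = ⁅n₁, n₂⁆ := by
  rw [commutatorElement_def, commutatorElement_def]
  have e1 : n₁ * z₁ * (n₂ * z₂) * (n₁ * z₁)⁻¹ * (n₂ * z₂)⁻¹ =
      n₁ * (n₂ * z₁)⁻¹⁻¹ * (z₂ * z₁⁻¹) * n₁⁻¹ * z₂⁻¹ * n₂⁻¹ := by
    rw [inv_inv, h1 n₂]; group
  rw [e1, inv_inv]
  have e2 : n₁ * (n₂ * z₁) * (z₂ * z₁⁻¹) * n₁⁻¹ * z₂⁻¹ * n₂⁻¹ =
      n₁ * n₂ * (z₁ * z₂) * z₁⁻¹ * n₁⁻¹ * z₂⁻¹ * n₂⁻¹ := by group
  rw [e2, ← h1 z₂]
  have e3 : n₁ * n₂ * (z₂ * z₁) * z₁⁻¹ * n₁⁻¹ * z₂⁻¹ * n₂⁻¹ =
      n₁ * n₂ * (z₂ * n₁⁻¹) * z₂⁻¹ * n₂⁻¹ := by group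
  rw [e3, ← h2 n₁⁻¹]
  group

section

variable {ι F : Type*} [Field F] [DecidableEq ι] [Fintype ι]

/-- a central element of `SL` gives a central element of `GL` -/
theorem toGL_mem_center (z : Matrix.SpecialLinearGroup ι F)
    (hz : z ∈ Subgroup.center (Matrix.SpecialLinearGroup ι F)) :
    Matrix.SpecialLinearGroup.toGL z ∈ Subgroup.center (Matrix.GeneralLinearGroup ι F) := by
  rw [Matrix.SpecialLinearGroup.mem_center_iff] at hz
  obtain ⟨r, -, hr⟩ := hz
  rw [Subgroup.mem_center_iff]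
  intro h
  apply Units.ext
  rw [Units.val_mul, Units.val_mul, Matrix.SpecialLinearGroup.coe_GL_coe_matrix, ← hr]
  exact ((Matrix.scalar_commute r (fun r' => mul_comm r r')) _).eq.symm

/-- The main argument, for a perfect `SL` with simple `PSL`. -/
theorem main (hperf : commutator (Matrix.SpecialLinearGroup ι F) = ⊤)
    (hsimple : IsSimpleGroup (Matrix.ProjectiveSpecialLinearGroup ι F))
    (G : Subgroup (Matrix.GeneralLinearGroup ι F))
    (hG : ∀ s : Matrix.SpecialLinearGroup ι F, ∀ g ∈ G,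
      (Matrix.SpecialLinearGroup.toGL s) * g * (Matrix.SpecialLinearGroup.toGL s)⁻¹ ∈ G) :
    (∀ g ∈ G, ∃ c : F, (g : Matrix ι ι F) = c • (1 : Matrix ι ι F)) ∨
      (Matrix.SpecialLinearGroup.toGL : Matrix.SpecialLinearGroup ι F →* _).range ≤ G := by
  classical
  set N : Subgroup (Matrix.SpecialLinearGroup ι F) := G.comap Matrix.SpecialLinearGroup.toGL with hN
  have hNnormal : N.Normal := by
    constructor
    intro a ha s
    rw [hN, Subgroup.mem_comap] at ha ⊢
    rw [map_mul, map_mul, map_inv]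
    exact hG s _ ha
  set Z := Subgroup.center (Matrix.SpecialLinearGroup ι F) with hZ
  have hmapnormal : (N.map (QuotientGroup.mk' Z)).Normal :=
    Subgroup.Normal.map hNnormal _ (QuotientGroup.mk'_surjective Z)
  rcases hmapnormal.eq_bot_or_eq_top with hbot | htop
  · -- N ≤ Z
    left
    have hNZ : N ≤ Z := by
      intro a ha
      have : (QuotientGroup.mk' Z) a ∈ N.map (QuotientGroup.mk' Z) := Subgroup.mem_map_of_mem _ ha
      rw [hbot, Subgroup.mem_bot] at this
      rwa [← MonoidHom.mem_ker, QuotientGroup.ker_mk'] at this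
    intro g hg
    -- the commutator map into the center of GL
    have hcomm_mem : ∀ s : Matrix.SpecialLinearGroup ι F,
        Matrix.SpecialLinearGroup.toGL s * g * (Matrix.SpecialLinearGroup.toGL s)⁻¹ * g⁻¹ ∈
          Subgroup.center (Matrix.GeneralLinearGroup ι F) := by
      intro s
      have h1 : Matrix.SpecialLinearGroup.toGL s * g * (Matrix.SpecialLinearGroup.toGL s)⁻¹ * g⁻¹ ∈ G :=
        G.mul_mem (hG s g hg) (G.inv_mem hg)
      have hdet : Matrix.GeneralLinearGroup.det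
          (Matrix.SpecialLinearGroup.toGL s * g * (Matrix.SpecialLinearGroup.toGL s)⁻¹ * g⁻¹) = 1 := by
        rw [map_mul, map_mul, map_mul, map_inv, map_inv]
        rw [mul_right_comm _ (Matrix.GeneralLinearGroup.det g), mul_inv_cancel, one_mul, mul_inv_cancel]
      set c := Matrix.SpecialLinearGroup.toGL s * g * (Matrix.SpecialLinearGroup.toGL s)⁻¹ * g⁻¹ with hc
      have hdet' : (c : Matrix ι ι F).det = 1 := by
        have := congrArg Units.val hdet
        simpa using this
      let c' : Matrix.SpecialLinearGroup ι F := ⟨(c : Matrix ι ι F), hdet'⟩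
      have hc' : Matrix.SpecialLinearGroup.toGL c' = c := by
        apply Units.ext
        rfl
      have : c' ∈ N := by
        rw [hN, Subgroup.mem_comap, hc']
        exact h1
      have := toGL_mem_center c' (hNZ this)
      rwa [hc'] at this
    have hcommute := commute_of_comm_mem_center Matrix.SpecialLinearGroup.toGL g hperf hcomm_mem
    have hscalar : (g : Matrix ι ι F) ∈ Set.range (Matrix.scalar ι) := by
      apply Matrix.mem_range_scalar_of_commute_transvectionStruct
      intro t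
      have := congrArg Units.val (hcommute (Matrix.SpecialLinearGroup.transvection t.hij t.c))
      rw [Units.val_mul, Units.val_mul, Matrix.SpecialLinearGroup.coe_GL_coe_matrix,
        Matrix.SpecialLinearGroup.transvection_coe] at this
      exact this
    obtain ⟨c, hc⟩ := hscalar
    refine ⟨c, ?_⟩
    rw [← hc]
    ext i j
    simp [Matrix.scalar_apply, Matrix.diagonal_apply, Matrix.one_apply]
  · -- N Z = SL, so N = SL
    right
    have hcommN : commutator (Matrix.SpecialLinearGroup ι F) ≤ N := by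
      rw [commutator_def, Subgroup.commutator_le]
      intro a _ b _
      have hmem : ∀ x : Matrix.SpecialLinearGroup ι F, ∃ n₁ ∈ N, ∃ z ∈ Z, x = n₁ * z := by
        intro x
        have hx : (QuotientGroup.mk' Z) x ∈ N.map (QuotientGroup.mk' Z) := by
          rw [htop]; exact Subgroup.mem_top _
        obtain ⟨n₁, hn₁, hn₁x⟩ := hx
        refine ⟨n₁, hn₁, n₁⁻¹ * x, ?_, by group⟩
        rw [← QuotientGroup.ker_mk' Z, MonoidHom.mem_ker, map_mul, map_inv, hn₁x, inv_mul_cancel]
      obtain ⟨n₁, hn₁, z₁, hz₁, rfl⟩ := hmem a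
      obtain ⟨n₂, hn₂, z₂, hz₂, rfl⟩ := hmem b
      have hz₁c := Subgroup.mem_center_iff.mp hz₁
      have hz₂c := Subgroup.mem_center_iff.mp hz₂
      have : ⁅n₁ * z₁, n₂ * z₂⁆ = ⁅n₁, n₂⁆ := commutator_mul_central n₁ n₂ z₁ z₂ hz₁c hz₂c
      rw [this]
      exact N.mul_mem (N.mul_mem (N.mul_mem hn₁ hn₂) (N.inv_mem hn₁)) (N.inv_mem hn₂)
    rw [hperf] at hcommN
    rintro _ ⟨s, rfl⟩
    have : s ∈ N := hcommN (Subgroup.mem_top s)
    exact this

end

/-- Let F be a finite field and n ≥ 1, excluding the case n = 2 with #F ≤ 3. A subgroup of GL_n(F) that is normalized by every element of SL_n(F) either consists of scalar matrices or contains SL_n(F). -/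
theorem result {F : Type*} [Field F] [Fintype F] (n : ℕ) (hn : 1 ≤ n) (hex : ¬ (n = 2 ∧ Fintype.card F ≤ 3)) (G : Subgroup (Matrix.GeneralLinearGroup (Fin n) F)) (hG : ∀ s : Matrix.SpecialLinearGroup (Fin n) F, ∀ g ∈ G, (Matrix.SpecialLinearGroup.toGL s) * g * (Matrix.SpecialLinearGroup.toGL s)⁻¹ ∈ G) : (∀ g ∈ G, ∃ c : F, (g : Matrix (Fin n) (Fin n) F) = c • (1 : Matrix (Fin n) (Fin n) F)) ∨ (Matrix.SpecialLinearGroup.toGL : Matrix.SpecialLinearGroup (Fin n) F →* _).range ≤ G := by
  classical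
  by_cases h1 : n = 1
  · subst h1
    left
    intro g _
    refine ⟨(g : Matrix (Fin 1) (Fin 1) F) 0 0, ?_⟩
    ext i j
    fin_cases i; fin_cases j
    simp
  · by_cases h3 : 3 ≤ n
    · exact main (Cfsg.Agent.Helper5.commutator_SL_eq_top_of_three_le (by simpa using h3))
        (Cfsg.Agent.S0249.simple_of_three_le (by simpa using h3)) G hG
    · have h2 : n = 2 := by omega
      subst h2
      have h4 : 4 ≤ Fintype.card F := by
        by_contra hlt
        exact hex ⟨rfl, by omega⟩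
      have hex' := Cfsg.Agent.Helper5.exists_sq_ne_one_of_card h4
      exact main (Cfsg.Agent.Helper5.commutator_SL_eq_top_of_exists hex')
        (Cfsg.Agent.Helper5.isSimpleGroup_PSL_of_exists hex') G hG

end Cfsg.Agent.S2540
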