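import Cfsg.Statements.S2541

set_option autoImplicit false
open Cfsg

namespace Cfsg.Agent.S2541

/-- No permutation of six points has order 8. -/
theorem perm6_orderOf_ne_eight (σ : Equiv.Perm (Fin 6)) : orderOf σ ≠ 8 := by
  intro h8
  have hdvd : orderOf σ ∣ 4 := by
    rw [← Equiv.Perm.lcm_cycleType, Multiset.lcm_dvd]
    intro b hb
    have h1 : b ∣ 8 := h8 ▸ Equiv.Perm.dvd_of_mem_cycleType hb
    have h2 : b ≤ 6 := by
      have := Equiv.Perm.le_card_support_of_mem_cycleType hb
      have h3 : σ.support.card ≤ Fintype.card (Fin 6) := Finset.card_le_univ _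
      simp at h3
      omega
    have h3 : b ∈ Nat.divisors 8 := by
      rw [Nat.mem_divisors]; exact ⟨h1, by norm_num⟩
    have h4 : Nat.divisors 8 = {1, 2, 4, 8} := by decide
    rw [h4] at h3
    simp only [Finset.mem_insert, Finset.mem_singleton] at h3
    rcases h3 with rfl | rfl | rfl | rfl
    · norm_num
    · norm_num
    · norm_num
    · omega
  rw [h8] at hdvd
  omega

/-- the diagonal embedding `c ↦ diag(c, 1)` as a monoid hom into 2×2 matrices -/
noncomputable def diagHom (F : Type*) [Field F] : F →* Matrix (Fin 2) (Fin 2) F where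
  toFun c := Matrix.diagonal ![c, 1]
  map_one' := by
    ext i j
    fin_cases i <;> fin_cases j <;> simp
  map_mul' a b := by
    ext i j
    fin_cases i <;> fin_cases j <;> simp [Matrix.mul_apply, Fin.sum_univ_two]

theorem pgl_has_order_eight {F : Type*} [Field F] [Fintype F] (hF : Fintype.card F = 9) :
    ∃ x : Matrix.ProjGenLinGroup (Fin 2) F, orderOf x = 8 := by
  classical
  obtain ⟨a, ha⟩ := IsCyclic.exists_ofOrder_eq_natCard (α := Fˣ)
  have hcard : Nat.card Fˣ = 8 := by
    rw [Nat.card_units, Nat.card_eq_fintype_card, hF]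
  rw [hcard] at ha
  let φ : Fˣ →* Matrix.GeneralLinearGroup (Fin 2) F := Units.map (diagHom F)
  let ψ : Fˣ →* Matrix.ProjGenLinGroup (Fin 2) F := Matrix.ProjGenLinGroup.mk.comp φ
  have hinj : Function.Injective ψ := by
    rw [injective_iff_map_eq_one]
    intro c hc
    have hc' : φ c ∈ Subgroup.center (Matrix.GeneralLinearGroup (Fin 2) F) := by
      rw [← Matrix.ProjGenLinGroup.mk_eq_one]
      exact hc
    rw [Matrix.GeneralLinearGroup.center_eq_range_scalar] at hc'
    obtain ⟨u, hu⟩ := hc'
    have hmat : (Matrix.scalar (Fin 2) (u : F)) = Matrix.diagonal ![(c : F), 1] := by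
      have := congrArg (fun g : Matrix.GeneralLinearGroup (Fin 2) F => (g : Matrix (Fin 2) (Fin 2) F)) hu
      simpa [φ, diagHom] using this
    have h11 := congrFun (congrFun hmat 1) 1
    have h00 := congrFun (congrFun hmat 0) 0
    simp at h11 h00
    ext
    rw [← h00, h11]
  exact ⟨ψ a, by rw [orderOf_injective ψ hinj, ha]⟩

/-- Let F be a field with 9 elements. The symmetric group S_6 is not isomorphic to PGL_2(F) (although both have index-2 subgroups isomorphic to A_6). -/
theorem result {F : Type*} [Field F] [Fintype F] (hF : Fintype.card F = 9) : ¬ Nonempty (Equiv.Perm (Fin 6) ≃* Matrix.ProjGenLinGroup (Fin 2) F) := by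
  rintro ⟨e⟩
  obtain ⟨x, hx⟩ := pgl_has_order_eight hF
  apply perm6_orderOf_ne_eight (e.symm x)
  rw [MulEquiv.orderOf_eq, hx]

end Cfsg.Agent.S2541
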