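import Cfsg.Statements.S2542
import Cfsg.Agent.Helper56.PSL211

set_option autoImplicit false
open Cfsg

namespace Cfsg.Agent.S2542

open Cfsg.Agent.Helper56 Cfsg.Agent.Helper56.PSL211

/-- Let F be a field with 11 elements. PSL_2(F) has a subgroup H of index 11 isomorphic to the alternating group A_5, and the action of PSL_2(F) on the cosets of H is 2-transitive (of degree 11). -/
theorem result {F : Type*} [Field F] [Fintype F] (hF : Fintype.card F = 11) : ∃ H : Subgroup (Matrix.ProjectiveSpecialLinearGroup (Fin 2) F), H.index = 11 ∧ Nonempty (H ≃* alternatingGroup (Fin 5)) ∧ MulAction.IsMultiplyPretransitive (Matrix.ProjectiveSpecialLinearGroup (Fin 2) F) ((Matrix.ProjectiveSpecialLinearGroup (Fin 2) F) ⧸ H) 2 := by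
  let e : ZMod 11 ≃+* F := ZMod.ringEquivOfPrime F (by norm_num) hF
  let E : G0 ≃* Matrix.ProjectiveSpecialLinearGroup (Fin 2) F := PSLCongr.pslCongr e
  refine ⟨H0.map E.toMonoidHom, ?_, ?_, ?_⟩
  · exact (Subgroup.index_map_equiv H0 E).trans index_H0
  · obtain ⟨i⟩ := nonempty_iso_H0
    exact ⟨(E.subgroupMap H0).symm.trans i⟩
  · apply PSLCongr.two_transitive_of_double_coset _ (E (π SL211.ms0))
    intro g
    rcases double_coset0 (E.symm g) with h | ⟨h1, hh1, h2, hh2, heq⟩
    · left
      exact ⟨E.symm g, h, by simp⟩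
    · right
      refine ⟨E h1, ⟨h1, hh1, rfl⟩, E h2, ⟨h2, hh2, rfl⟩, ?_⟩
      rw [← map_mul, ← map_mul, ← heq]
      simp

end Cfsg.Agent.S2542
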