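import Mathlib
import Cfsg.Agent.Helper5.OmBN.Main

/-!
# S2549: the Steinberg character of `PΩ⁻_{2m+2}(q)` (helper5 + the OmBN farm)
-/

set_option autoImplicit false

namespace Cfsg.Agent.S2549

open Cfsg Cfsg.Agent.Helper5.OmBN Cfsg.Agent.Helper5.OmBN.Main

theorem result {F : Type*} [Field F] [Fintype F] (p : ℕ) [Fact p.Prime] [CharP F p] (m : ℕ) (a b : F) (hab : ∀ z₁ z₂ : F, z₁ ^ 2 + a * z₁ * z₂ + b * z₂ ^ 2 = 0 → z₁ = 0 ∧ z₂ = 0) : ∃ χ : Cfsg.POmega F (Cfsg.quadFormMinus m F a b) → ℂ, Cfsg.IsIrrCharacter (Cfsg.POmega F (Cfsg.quadFormMinus m F a b)) χ ∧ ∀ P : Sylow p (Cfsg.POmega F (Cfsg.quadFormMinus m F a b)), χ 1 = Nat.card P ∧ ∀ x : Cfsg.POmega F (Cfsg.quadFormMinus m F a b), x ∈ P → x ≠ 1 → χ x = 0 := by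
  obtain ⟨e₀⟩ := nonempty_mulEquiv_isometry (F := F) m a b
  have hab' : ∀ z₁ z₂ : F, Nf a b z₁ z₂ = 0 → z₁ = 0 ∧ z₂ = 0 := hab
  exact steinberg_of_mulEquiv (Cfsg.Agent.Helper12.GF.commCongr e₀.symm) p
    (steinberg_commutator (m := m) hab' p)

end Cfsg.Agent.S2549
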