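import Cfsg.Statements.S2550
import Cfsg.Agent.S0256
import Cfsg.Agent.S0243
import Cfsg.Agent.S0820

set_option autoImplicit false
open Cfsg

namespace Cfsg.Agent.S2550

/-- Let F be a field with 2 elements and K a field with 4 elements. PSL_4(F) and PSL_3(K) have the same order (20160) but are not isomorphic. -/
theorem result {F K : Type*} [Field F] [Fintype F] [Field K] [Fintype K] (hF : Fintype.card F = 2) (hK : Fintype.card K = 4) : Nat.card (Matrix.ProjectiveSpecialLinearGroup (Fin 4) F) = Nat.card (Matrix.ProjectiveSpecialLinearGroup (Fin 3) K) ∧ ¬ Nonempty (Matrix.ProjectiveSpecialLinearGroup (Fin 4) F ≃* Matrix.ProjectiveSpecialLinearGroup (Fin 3) K) := by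
  obtain ⟨e⟩ := Cfsg.Agent.S0256.result hF
  have hc1 : Nat.card (Matrix.ProjectiveSpecialLinearGroup (Fin 4) F) = 20160 := by
    rw [Nat.card_congr e.toEquiv, nat_card_alternatingGroup, Nat.card_eq_fintype_card,
      Fintype.card_fin]
    decide
  have hc2 : Nat.card (Matrix.ProjectiveSpecialLinearGroup (Fin 3) K) = 20160 := by
    have h := Cfsg.Agent.S0243.result hK 3 (by norm_num)
    rw [Fin.prod_univ_three] at h
    norm_num at h
    omega
  refine ⟨by rw [hc1, hc2], ?_⟩
  rintro ⟨f⟩
  let g : alternatingGroup (Fin 8) ≃* Matrix.ProjectiveSpecialLinearGroup (Fin 3) K :=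
    e.symm.trans f
  let x : alternatingGroup (Fin 8) := ⟨Equiv.swap 0 1 * Equiv.swap 2 3, by
    rw [Equiv.Perm.mem_alternatingGroup]; decide⟩
  let y : alternatingGroup (Fin 8) :=
    ⟨Equiv.swap 0 1 * Equiv.swap 2 3 * Equiv.swap 4 5 * Equiv.swap 6 7, by
      rw [Equiv.Perm.mem_alternatingGroup]; decide⟩
  have hx : orderOf x = 2 := by
    apply orderOf_eq_prime
    · apply Subtype.ext
      change (Equiv.swap (0 : Fin 8) 1 * Equiv.swap 2 3) ^ 2 = 1
      decide
    · intro h
      have := congrArg Subtype.val h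
      revert this
      change ¬ (Equiv.swap (0 : Fin 8) 1 * Equiv.swap 2 3 = 1)
      decide
  have hy : orderOf y = 2 := by
    apply orderOf_eq_prime
    · apply Subtype.ext
      change (Equiv.swap (0 : Fin 8) 1 * Equiv.swap 2 3 * Equiv.swap 4 5 * Equiv.swap 6 7) ^ 2 = 1
      decide
    · intro h
      have := congrArg Subtype.val h
      revert this
      change ¬ (Equiv.swap (0 : Fin 8) 1 * Equiv.swap 2 3 * Equiv.swap 4 5 * Equiv.swap 6 7 = 1)
      decide
  have hconj : IsConj (g x) (g y) :=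
    Cfsg.Agent.S0820.result hK (g x) (g y) (by rw [MulEquiv.orderOf_eq]; exact hx)
      (by rw [MulEquiv.orderOf_eq]; exact hy)
  have hconj2 : IsConj x y := by
    have := g.symm.toMonoidHom.map_isConj hconj
    simpa using this
  have hconj3 : IsConj (x : Equiv.Perm (Fin 8)) (y : Equiv.Perm (Fin 8)) :=
    (alternatingGroup (Fin 8)).subtype.map_isConj hconj2
  have hct := Equiv.Perm.isConj_iff_cycleType_eq.mp hconj3
  revert hct
  change ¬ ((Equiv.swap (0 : Fin 8) 1 * Equiv.swap 2 3).cycleType =
    (Equiv.swap (0 : Fin 8) 1 * Equiv.swap 2 3 * Equiv.swap 4 5 * Equiv.swap 6 7).cycleType)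
  decide

end Cfsg.Agent.S2550
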