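import Cfsg.Statements.S2552

set_option autoImplicit false
open Cfsg

namespace Cfsg.Agent.S2552

open Module

/-- Two subspaces of the same dimension are related by a linear automorphism. -/
theorem exists_equiv_map_eq {F : Type*} [Field F] {V : Type*} [AddCommGroup V] [Module F V]
    [FiniteDimensional F V] (U₁ U₂ : Submodule F V) (h : finrank F U₁ = finrank F U₂) :
    ∃ e : V ≃ₗ[F] V, U₁.map (e : V →ₗ[F] V) = U₂ := by
  obtain ⟨C₁, hC₁⟩ := Submodule.exists_isCompl U₁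
  obtain ⟨C₂, hC₂⟩ := Submodule.exists_isCompl U₂
  have h1 := Submodule.finrank_add_eq_of_isCompl hC₁
  have h2 := Submodule.finrank_add_eq_of_isCompl hC₂
  have hC : finrank F C₁ = finrank F C₂ := by omega
  let eU : U₁ ≃ₗ[F] U₂ := LinearEquiv.ofFinrankEq _ _ h
  let eC : C₁ ≃ₗ[F] C₂ := LinearEquiv.ofFinrankEq _ _ hC
  let e : V ≃ₗ[F] V := (U₁.prodEquivOfIsCompl C₁ hC₁).symm ≪≫ₗ (eU.prodCongr eC) ≪≫ₗ
    (U₂.prodEquivOfIsCompl C₂ hC₂)
  refine ⟨e, ?_⟩
  apply Submodule.eq_of_le_of_finrank_eq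
  · rintro _ ⟨u, hu, rfl⟩
    have : (U₁.prodEquivOfIsCompl C₁ hC₁).symm u = (⟨u, hu⟩, 0) :=
      Submodule.prodEquivOfIsCompl_symm_apply_left U₁ C₁ hC₁ ⟨u, hu⟩
    show e u ∈ U₂
    simp only [e, LinearEquiv.trans_apply, this, LinearEquiv.prodCongr_apply, Prod.map_apply, map_zero,
      Submodule.coe_prodEquivOfIsCompl', Submodule.coe_zero, add_zero]
    exact (eU ⟨u, hu⟩).2
  · rw [LinearEquiv.finrank_map_eq, h]

/-- Let F be a finite field and n ≥ 1. For every k, the special linear group SL_n(F) acts transitively on the set of k-dimensional subspaces of F^n: any two subspaces of the same dimension are carried onto each other by some matrix of determinant 1. -/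
theorem result {F : Type*} [Field F] [Fintype F] (n : ℕ) (hn : 1 ≤ n) (U₁ U₂ : Submodule F (Fin n → F)) (h : Module.finrank F U₁ = Module.finrank F U₂) : ∃ g : Matrix.SpecialLinearGroup (Fin n) F, U₁.map ((Matrix.SpecialLinearGroup.toLin' g : (Fin n → F) ≃ₗ[F] (Fin n → F)) : (Fin n → F) →ₗ[F] (Fin n → F)) = U₂ := by
  by_cases htop : U₂ = ⊤
  · -- both are the whole space
    have h1 : U₁ = ⊤ := by
      apply Submodule.eq_top_of_finrank_eq
      rw [h, htop, finrank_top]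
    refine ⟨1, ?_⟩
    rw [h1, htop]
    ext v
    simp
  obtain ⟨e, he⟩ := exists_equiv_map_eq U₁ U₂ h
  obtain ⟨φ, hφ0, hφ⟩ := Submodule.exists_dual_map_eq_bot_of_lt_top (lt_top_iff_ne_top.mpr htop) inferInstance
  have hφU : ∀ u ∈ U₂, φ u = 0 := by
    intro u hu
    have : φ u ∈ U₂.map φ := ⟨u, hu, rfl⟩
    rw [hφ] at this
    exact (Submodule.mem_bot F).mp this
  obtain ⟨w0, hw0⟩ : ∃ w0, φ w0 ≠ 0 := by
    by_contra hcon
    push_neg at hcon
    exact hφ0 (LinearMap.ext hcon)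
  set w := (φ w0)⁻¹ • w0 with hw
  have hφw : φ w = 1 := by
    rw [hw, map_smul, smul_eq_mul, inv_mul_cancel₀ hw0]
  set d := LinearMap.det (e : (Fin n → F) →ₗ[F] (Fin n → F)) with hd
  have hd0 : d ≠ 0 := (LinearEquiv.isUnit_det' e).ne_zero
  let s : (Fin n → F) →ₗ[F] (Fin n → F) := LinearMap.transvection ((d⁻¹ - 1) • φ) w
  have hsdet : LinearMap.det s = d⁻¹ := by
    rw [LinearMap.transvection.det]
    simp [hφw]
  let gl : (Fin n → F) →ₗ[F] (Fin n → F) := s ∘ₗ (e : (Fin n → F) →ₗ[F] (Fin n → F))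
  have hgdet : LinearMap.det gl = 1 := by
    rw [LinearMap.det_comp, hsdet, ← hd, inv_mul_cancel₀ hd0]
  have hgU : ∀ u ∈ U₁, gl u = e u := by
    intro u hu
    have heu : e u ∈ U₂ := by rw [← he]; exact ⟨u, hu, rfl⟩
    show LinearMap.transvection ((d⁻¹ - 1) • φ) w (e u) = e u
    rw [LinearMap.transvection.apply, LinearMap.smul_apply, hφU _ heu]
    simp
  have hGdet : (LinearMap.toMatrix' gl).det = 1 := by rw [LinearMap.det_toMatrix', hgdet]
  let G : Matrix.SpecialLinearGroup (Fin n) F := ⟨LinearMap.toMatrix' gl, hGdet⟩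
  refine ⟨G, ?_⟩
  have hto : ((Matrix.SpecialLinearGroup.toLin' G : (Fin n → F) ≃ₗ[F] (Fin n → F)) :
      (Fin n → F) →ₗ[F] (Fin n → F)) = gl := by
    apply LinearMap.ext
    intro v
    show Matrix.SpecialLinearGroup.toLin' G v = gl v
    rw [Matrix.SpecialLinearGroup.toLin'_apply]
    show Matrix.toLin' (LinearMap.toMatrix' gl) v = gl v
    rw [Matrix.toLin'_toMatrix']
  rw [hto, ← he]
  ext v
  constructor
  · rintro ⟨u, hu, rfl⟩
    exact ⟨u, hu, (hgU u hu).symm⟩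
  · rintro ⟨u, hu, rfl⟩
    exact ⟨u, hu, hgU u hu⟩

end Cfsg.Agent.S2552
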