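import Cfsg.Statements.S2564
import Cfsg.Agent.Helper43.QuadF2

set_option autoImplicit false
open Cfsg

namespace Cfsg.Agent.S2564

open Cfsg.Agent.Helper43

/-- On the 2m-dimensional space over the field of two elements (m ≥ 1) let f be the alternating form obtained by polarizing the plus-type form Σ xᵢyᵢ, and let q be any quadratic form polarizing to f. For a vector w, the function q + f(·, w) again polarizes to f, and it is equivalent to q under an invertible linear map (that is, has the same type) if and only if q(w) = 0. -/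
theorem result (m : ℕ) (hm : 1 ≤ m) (q : (Fin m ⊕ Fin m → ZMod 2) → ZMod 2) (hq : (∀ u v : (Fin m ⊕ Fin m → ZMod 2), q (u + v) = q u + q v + (Cfsg.quadFormPlus m (ZMod 2) (u + v) - Cfsg.quadFormPlus m (ZMod 2) u - Cfsg.quadFormPlus m (ZMod 2) v))) (w : (Fin m ⊕ Fin m → ZMod 2)) :
    (∀ u v : (Fin m ⊕ Fin m → ZMod 2), (q (u + v) + (Cfsg.quadFormPlus m (ZMod 2) (u + v + w) - Cfsg.quadFormPlus m (ZMod 2) (u + v) - Cfsg.quadFormPlus m (ZMod 2) w)) =
        (q u + (Cfsg.quadFormPlus m (ZMod 2) (u + w) - Cfsg.quadFormPlus m (ZMod 2) u - Cfsg.quadFormPlus m (ZMod 2) w)) + (q v + (Cfsg.quadFormPlus m (ZMod 2) (v + w) - Cfsg.quadFormPlus m (ZMod 2) v - Cfsg.quadFormPlus m (ZMod 2) w)) +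
        (Cfsg.quadFormPlus m (ZMod 2) (u + v) - Cfsg.quadFormPlus m (ZMod 2) u - Cfsg.quadFormPlus m (ZMod 2) v)) ∧
    ((∃ g : (Fin m ⊕ Fin m → ZMod 2) ≃ₗ[ZMod 2] (Fin m ⊕ Fin m → ZMod 2), ∀ v, q v + (Cfsg.quadFormPlus m (ZMod 2) (v + w) - Cfsg.quadFormPlus m (ZMod 2) v - Cfsg.quadFormPlus m (ZMod 2) w) = q (g v)) ↔ q w = 0) := by
  simp only [quadFormPlus_polar] at hq ⊢
  have hq' : PolarizesPlus m q := hq
  refine ⟨?_, ?_, ?_⟩
  · intro u v
    rw [hq u v, polarPlus_add_left]
    ring
  · -- (⇒): a Gauss sum argument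
    rintro ⟨g, hg⟩
    by_contra hw
    have hw1 : q w = 1 := by
      rcases zmod2_cases (q w) with h | h
      · exact absurd h hw
      · exact h
    -- S(q_w) = S(q) through g
    have e1 : ∑ v : Fin m ⊕ Fin m → ZMod 2, sgn2 (q v + polarPlus m (ZMod 2) v w)
        = ∑ v : Fin m ⊕ Fin m → ZMod 2, sgn2 (q v) :=
      Fintype.sum_equiv g.toEquiv _ _ (fun v => by rw [hg v]; rfl)
    -- S(q_w) = - S(q) through translation by w
    have e2 : ∑ v : Fin m ⊕ Fin m → ZMod 2, sgn2 (q v + polarPlus m (ZMod 2) v w)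
        = - ∑ v : Fin m ⊕ Fin m → ZMod 2, sgn2 (q v) := by
      rw [← Fintype.sum_equiv (Equiv.addRight w)
        (fun v => sgn2 (q (v + w) + polarPlus m (ZMod 2) (v + w) w))
        (fun v => sgn2 (q v + polarPlus m (ZMod 2) v w)) (fun v => rfl)]
      rw [← Finset.sum_neg_distrib]
      apply Finset.sum_congr rfl
      intro v _
      rw [hq v w, polarPlus_add_left, polarPlus_self, hw1]
      have : q v + 1 + polarPlus m (ZMod 2) v w + (polarPlus m (ZMod 2) v w + 0) = q v + 1 := by
        have h2 : polarPlus m (ZMod 2) v w + polarPlus m (ZMod 2) v w = 0 :=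
          CharTwo.add_self_eq_zero _
        calc q v + 1 + polarPlus m (ZMod 2) v w + (polarPlus m (ZMod 2) v w + 0)
            = q v + 1 + (polarPlus m (ZMod 2) v w + polarPlus m (ZMod 2) v w) := by ring
          _ = q v + 1 := by rw [h2, add_zero]
      rw [this, sgn2_add, sgn2_one]
      ring
    have := gauss_sum_ne_zero hq'
    omega
  · -- (⇐): the transvection v ↦ v + f(v,w) w
    intro hw
    let T : (Fin m ⊕ Fin m → ZMod 2) →ₗ[ZMod 2] (Fin m ⊕ Fin m → ZMod 2) :=
      { toFun := fun v => v + polarPlus m (ZMod 2) v w • w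
        map_add' := by
          intro u v
          rw [polarPlus_add_left, add_smul]
          abel
        map_smul' := by
          intro c v
          rw [polarPlus_smul_left, RingHom.id_apply, smul_add, smul_smul] }
    have hTT : ∀ v, T (T v) = v := by
      intro v
      show (v + polarPlus m (ZMod 2) v w • w) + polarPlus m (ZMod 2) (v + polarPlus m (ZMod 2) v w • w) w • w = v
      rw [polarPlus_add_left, polarPlus_smul_left, polarPlus_self, mul_zero, add_zero, add_assoc,
        ← add_smul, CharTwo.add_self_eq_zero, zero_smul, add_zero]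
    let g : (Fin m ⊕ Fin m → ZMod 2) ≃ₗ[ZMod 2] (Fin m ⊕ Fin m → ZMod 2) :=
      LinearEquiv.ofLinear T T (LinearMap.ext hTT) (LinearMap.ext hTT)
    refine ⟨g, ?_⟩
    intro v
    show q v + polarPlus m (ZMod 2) v w = q (v + polarPlus m (ZMod 2) v w • w)
    rcases zmod2_cases (polarPlus m (ZMod 2) v w) with h | h
    · rw [h, zero_smul, add_zero, add_zero]
    · rw [h, one_smul, hq v w, hw, h, add_zero]

end Cfsg.Agent.S2564
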