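import Cfsg.Statements.S2561
import Cfsg.Agent.Helper43.QuadF2Inst
import Cfsg.Agent.S2564

set_option autoImplicit false
open Cfsg

namespace Cfsg.Agent.S2561

open Cfsg.Agent.Helper43 Classical

/-- The translate `Q⁺ + f(·, w)`. -/
def Phi (m : ℕ) (w : Fin m ⊕ Fin m → ZMod 2) : (Fin m ⊕ Fin m → ZMod 2) → ZMod 2 :=
  fun v => Cfsg.quadFormPlus m (ZMod 2) v + polarPlus m (ZMod 2) v w

theorem Phi_pol (m : ℕ) (w : Fin m ⊕ Fin m → ZMod 2) : PolarizesPlus m (Phi m w) :=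
  ((isQF2_plus m).translate w).polar

theorem z2_add_self (a : ZMod 2) : a + a = 0 := CharTwo.add_self_eq_zero a

theorem vec_add_self {m : ℕ} (v : Fin m ⊕ Fin m → ZMod 2) : v + v = 0 := (isQF2_plus m).two v

theorem Phi_inj (m : ℕ) : Function.Injective (Phi m) := by
  intro w w' h
  by_contra hne
  have hs : w + w' ≠ 0 := by
    intro h0
    apply hne
    have : w = -w' := eq_neg_of_add_eq_zero_left h0
    rw [this]
    have h2 := vec_add_self w'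
    exact (eq_neg_of_add_eq_zero_left h2).symm
  obtain ⟨u, hu⟩ := (isQF2_plus m).nondeg _ hs
  apply hu
  rw [(isQF2_plus m).add_right]
  have := congrFun h u
  unfold Phi at this
  have h3 : polarPlus m (ZMod 2) u w = polarPlus m (ZMod 2) u w' := add_left_cancel this
  rw [h3, z2_add_self]

/-- An additive function on `𝔽₂^{2m}` is `f(·, w)` for some `w`. -/
theorem additive_eq_polar (m : ℕ) (d : (Fin m ⊕ Fin m → ZMod 2) → ZMod 2)
    (hd : ∀ u v, d (u + v) = d u + d v) :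
    ∃ w, ∀ v, d v = polarPlus m (ZMod 2) v w := by
  have hd0 : d 0 = 0 := by
    have := hd 0 0
    rw [add_zero] at this
    exact left_eq_add.mp this
  let D : (Fin m ⊕ Fin m → ZMod 2) →+ ZMod 2 := ⟨⟨d, hd0⟩, hd⟩
  let L : (Fin m ⊕ Fin m → ZMod 2) →ₗ[ZMod 2] ZMod 2 := AddMonoidHom.toZModLinearMap 2 D
  have hL : ∀ v, L v = d v := fun v => rfl
  refine ⟨fun j => Sum.elim (fun i => d (Pi.single (.inr i) 1)) (fun i => d (Pi.single (.inl i) 1)) j, ?_⟩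
  intro v
  rw [← hL, LinearMap.pi_apply_eq_sum_univ L v, Fintype.sum_sum_type]
  unfold polarPlus
  rw [Finset.sum_add_distrib]
  congr 1
  · apply Finset.sum_congr rfl
    intro i _
    simp only [smul_eq_mul, Sum.elim_inr]
    congr 1
    rw [hL]
    congr 1
    funext j
    simp [Pi.single_apply, eq_comm]
  · apply Finset.sum_congr rfl
    intro i _
    simp only [smul_eq_mul, Sum.elim_inl]
    rw [mul_comm]
    congr 1
    rw [hL]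
    congr 1
    funext j
    simp [Pi.single_apply, eq_comm]

theorem Phi_surj (m : ℕ) (q : (Fin m ⊕ Fin m → ZMod 2) → ZMod 2) (hq : PolarizesPlus m q) :
    ∃ w, q = Phi m w := by
  have hP := (isQF2_plus m).polar
  obtain ⟨w, hw⟩ := additive_eq_polar m (fun v => q v + Cfsg.quadFormPlus m (ZMod 2) v) (by
    intro u v
    show q (u + v) + Cfsg.quadFormPlus m (ZMod 2) (u + v)
      = q u + Cfsg.quadFormPlus m (ZMod 2) u + (q v + Cfsg.quadFormPlus m (ZMod 2) v)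
    rw [hq u v, hP u v]
    have := z2_add_self (polarPlus m (ZMod 2) u v)
    linear_combination this)
  refine ⟨w, ?_⟩
  funext v
  have := hw v
  unfold Phi
  have h2 := z2_add_self (Cfsg.quadFormPlus m (ZMod 2) v)
  linear_combination this - h2

theorem translate_iff (m : ℕ) (hm : 1 ≤ m) (q : (Fin m ⊕ Fin m → ZMod 2) → ZMod 2)
    (hq : PolarizesPlus m q) (w : Fin m ⊕ Fin m → ZMod 2) :
    (∃ g : (Fin m ⊕ Fin m → ZMod 2) ≃ₗ[ZMod 2] (Fin m ⊕ Fin m → ZMod 2),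
      ∀ v, q v + polarPlus m (ZMod 2) v w = q (g v)) ↔ q w = 0 := by
  have := (Cfsg.Agent.S2564.result m hm q (by intro u v; rw [quadFormPlus_polar]; exact hq u v) w).2
  simpa only [quadFormPlus_polar] using this

theorem plus_pol (m : ℕ) : PolarizesPlus m (Cfsg.quadFormPlus m (ZMod 2)) := (isQF2_plus m).polar

/-- `Φ w` is of plus type iff `Q⁺ w = 0`. -/
theorem Phi_plus_iff (m : ℕ) (hm : 1 ≤ m) (w : Fin m ⊕ Fin m → ZMod 2) :
    (∃ g : (Fin m ⊕ Fin m → ZMod 2) ≃ₗ[ZMod 2] (Fin m ⊕ Fin m → ZMod 2),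
      ∀ v, Phi m w v = Cfsg.quadFormPlus m (ZMod 2) (g v)) ↔ Cfsg.quadFormPlus m (ZMod 2) w = 0 :=
  translate_iff m hm _ (plus_pol m) w

/-- If `Q⁺ w = 1` then `Φ w` is of minus type. -/
theorem Phi_minus_of (k : ℕ) (w : Fin (k + 1) ⊕ Fin (k + 1) → ZMod 2)
    (hw : Cfsg.quadFormPlus (k + 1) (ZMod 2) w = 1) :
    ∃ g : (Fin (k + 1) ⊕ Fin (k + 1) → ZMod 2) ≃ₗ[ZMod 2] ((Fin k ⊕ Fin k) ⊕ Fin 2 → ZMod 2),
      ∀ v, Phi (k + 1) w v = Cfsg.quadFormMinus k (ZMod 2) 1 1 (g v) := by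
  have hQ := isQF2_plus (k + 1)
  have ha : Phi (k + 1) w (w + w0 k) = 0 := by
    unfold Phi
    rw [hQ.polar, hQ.add_left, hQ.self, hw, quadFormPlus_w0, hQ.symm (w0 k) w]
    have := z2_add_self (polarPlus (k + 1) (ZMod 2) w (w0 k))
    have h2 : (1 : ZMod 2) + 1 = 0 := by decide
    linear_combination this + h2
  obtain ⟨g, hg⟩ := (translate_iff (k + 1) (by omega) _ (Phi_pol (k + 1) w) (w + w0 k)).mpr ha
  refine ⟨g.symm ≪≫ₗ g0 k, ?_⟩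
  intro u
  rw [LinearEquiv.trans_apply, quadFormMinus_g0]
  have := hg (g.symm u)
  rw [LinearEquiv.apply_symm_apply] at this
  rw [← this]
  unfold Phi qMinus
  rw [hQ.add_right]
  have h3 := z2_add_self (polarPlus (k + 1) (ZMod 2) (g.symm u) w)
  linear_combination h3

/-- If `Q⁺ w = 0` then `Φ w` is not of minus type. -/
theorem Phi_not_minus_of (k : ℕ) (w : Fin (k + 1) ⊕ Fin (k + 1) → ZMod 2)
    (hw : Cfsg.quadFormPlus (k + 1) (ZMod 2) w = 0) :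
    ¬ ∃ g : (Fin (k + 1) ⊕ Fin (k + 1) → ZMod 2) ≃ₗ[ZMod 2] ((Fin k ⊕ Fin k) ⊕ Fin 2 → ZMod 2),
      ∀ v, Phi (k + 1) w v = Cfsg.quadFormMinus k (ZMod 2) 1 1 (g v) := by
  rintro ⟨g', hg'⟩
  obtain ⟨g, hg⟩ := (Phi_plus_iff (k + 1) (by omega) w).mpr hw
  -- Gauss sums: S(Φ w) = S(Q⁺) = 2^(k+1) but S(Φ w) = S(Q⁻) = -2^(k+1)
  have h1 : IsQF2.gsum (Phi (k + 1) w) = (2 : ℤ) ^ (k + 1) := by
    have : Phi (k + 1) w = fun v => Cfsg.quadFormPlus (k + 1) (ZMod 2) (g v) := funext hg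
    rw [this]
    exact (IsQF2.gsum_comp_equiv (Cfsg.quadFormPlus (k + 1) (ZMod 2)) g.toEquiv).trans (gsum_plus _)
  have h2 : IsQF2.gsum (Phi (k + 1) w) = -(2 : ℤ) ^ (k + 1) := by
    have : Phi (k + 1) w = fun v => Cfsg.quadFormMinus k (ZMod 2) 1 1 (g' v) := funext hg'
    rw [this, ← gsum_qMinus]
    have h3 : qMinus k = fun v => Cfsg.quadFormMinus k (ZMod 2) 1 1 (g0 k v) :=
      funext (fun v => (quadFormMinus_g0 k v).symm)
    rw [h3]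
    exact (IsQF2.gsum_comp_equiv (Cfsg.quadFormMinus k (ZMod 2) 1 1) g'.toEquiv).trans
      (IsQF2.gsum_comp_equiv (Cfsg.quadFormMinus k (ZMod 2) 1 1) (g0 k).toEquiv).symm
  have hpos : (0 : ℤ) < (2 : ℤ) ^ (k + 1) := by positivity
  omega

theorem z2_ne_zero_iff (a : ZMod 2) : a ≠ 0 ↔ a = 1 := by
  revert a; decide

/-- Counting singular vectors of the plus form. -/
theorem card_zeros_plus (k : ℕ) :
    Nat.card {w : Fin (k + 1) ⊕ Fin (k + 1) → ZMod 2 // Cfsg.quadFormPlus (k + 1) (ZMod 2) w = 0}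
      = 2 ^ (2 * (k + 1) - 1) + 2 ^ (k + 1 - 1) := by
  rw [Nat.card_eq_fintype_card, Fintype.card_subtype]
  have h := IsQF2.two_mul_card_zeros (Cfsg.quadFormPlus (k + 1) (ZMod 2))
  rw [gsum_plus, card_plusSpace] at h
  have e1 : 2 * (k + 1) - 1 = 2 * k + 1 := by omega
  have e2 : k + 1 - 1 = k := by omega
  rw [e1, e2]
  have h' : 2 * (Finset.univ.filter
      (fun v : Fin (k + 1) ⊕ Fin (k + 1) → ZMod 2 => Cfsg.quadFormPlus (k + 1) (ZMod 2) v = 0)).card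
      = 2 ^ (k + 1) * 2 ^ (k + 1) + 2 ^ (k + 1) := by exact_mod_cast h
  have e3 : 2 ^ (k + 1) * 2 ^ (k + 1) = 2 * 2 ^ (2 * k + 1) := by
    rw [← pow_add, ← pow_succ']
    congr 1
    omega
  have e4 : 2 ^ (k + 1) = 2 * 2 ^ k := pow_succ' 2 k
  rw [e3] at h'
  omega

theorem card_ones_plus (k : ℕ) :
    Nat.card {w : Fin (k + 1) ⊕ Fin (k + 1) → ZMod 2 // Cfsg.quadFormPlus (k + 1) (ZMod 2) w = 1}
      = 2 ^ (2 * (k + 1) - 1) - 2 ^ (k + 1 - 1) := by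
  have h0 := card_zeros_plus k
  rw [Nat.card_eq_fintype_card, Fintype.card_subtype] at h0 ⊢
  have hc : (Finset.univ.filter
      (fun v : Fin (k + 1) ⊕ Fin (k + 1) → ZMod 2 => Cfsg.quadFormPlus (k + 1) (ZMod 2) v = 1))
      = (Finset.univ.filter
      (fun v : Fin (k + 1) ⊕ Fin (k + 1) → ZMod 2 => Cfsg.quadFormPlus (k + 1) (ZMod 2) v = 0))ᶜ := by
    ext v
    simp only [Finset.mem_filter, Finset.mem_univ, true_and, Finset.mem_compl]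
    rw [← z2_ne_zero_iff]
  rw [hc, Finset.card_compl, h0, card_plusSpace]
  have e1 : 2 * (k + 1) - 1 = 2 * k + 1 := by omega
  have e2 : k + 1 - 1 = k := by omega
  rw [e1, e2]
  have e3 : 2 ^ (k + 1) * 2 ^ (k + 1) = 2 * 2 ^ (2 * k + 1) := by
    rw [← pow_add, ← pow_succ']
    congr 1
    omega
  rw [e3]
  omega

theorem main (k : ℕ) :
    Nat.card {q : (Fin (k + 1) ⊕ Fin (k + 1) → ZMod 2) → ZMod 2 // PolarizesPlus (k + 1) q} = 2 ^ (2 * (k + 1)) ∧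
    (∀ q : (Fin (k + 1) ⊕ Fin (k + 1) → ZMod 2) → ZMod 2, PolarizesPlus (k + 1) q →
      (∃ g : (Fin (k + 1) ⊕ Fin (k + 1) → ZMod 2) ≃ₗ[ZMod 2] (Fin (k + 1) ⊕ Fin (k + 1) → ZMod 2), ∀ v, q v = Cfsg.quadFormPlus (k + 1) (ZMod 2) (g v)) ∨
      (∃ g : (Fin (k + 1) ⊕ Fin (k + 1) → ZMod 2) ≃ₗ[ZMod 2] ((Fin k ⊕ Fin k) ⊕ Fin 2 → ZMod 2), ∀ v, q v = Cfsg.quadFormMinus k (ZMod 2) 1 1 (g v))) ∧
    Nat.card {q : (Fin (k + 1) ⊕ Fin (k + 1) → ZMod 2) → ZMod 2 // PolarizesPlus (k + 1) q ∧ ∃ g : (Fin (k + 1) ⊕ Fin (k + 1) → ZMod 2) ≃ₗ[ZMod 2] (Fin (k + 1) ⊕ Fin (k + 1) → ZMod 2), ∀ v, q v = Cfsg.quadFormPlus (k + 1) (ZMod 2) (g v)} = 2 ^ (2 * (k + 1) - 1) + 2 ^ (k + 1 - 1) ∧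
    Nat.card {q : (Fin (k + 1) ⊕ Fin (k + 1) → ZMod 2) → ZMod 2 // PolarizesPlus (k + 1) q ∧ ∃ g : (Fin (k + 1) ⊕ Fin (k + 1) → ZMod 2) ≃ₗ[ZMod 2] ((Fin k ⊕ Fin k) ⊕ Fin 2 → ZMod 2), ∀ v, q v = Cfsg.quadFormMinus k (ZMod 2) 1 1 (g v)} = 2 ^ (2 * (k + 1) - 1) - 2 ^ (k + 1 - 1) := by
  have hm : 1 ≤ k + 1 := by omega
  refine ⟨?_, ?_, ?_, ?_⟩
  · -- all forms
    have e : (Fin (k + 1) ⊕ Fin (k + 1) → ZMod 2)
        ≃ {q : (Fin (k + 1) ⊕ Fin (k + 1) → ZMod 2) → ZMod 2 // PolarizesPlus (k + 1) q} :=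
      Equiv.ofBijective (fun w => ⟨Phi (k + 1) w, Phi_pol (k + 1) w⟩) ⟨by
        intro w w' h
        exact Phi_inj (k + 1) (congrArg Subtype.val h), by
        rintro ⟨q, hq⟩
        obtain ⟨w, rfl⟩ := Phi_surj (k + 1) q hq
        exact ⟨w, rfl⟩⟩
    rw [← Nat.card_congr e, Nat.card_eq_fintype_card, card_plusSpace, ← pow_add]
    congr 1
    omega
  · intro q hq
    obtain ⟨w, rfl⟩ := Phi_surj (k + 1) q hq
    rcases zmod2_cases (Cfsg.quadFormPlus (k + 1) (ZMod 2) w) with h | h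
    · left
      exact (Phi_plus_iff (k + 1) hm w).mpr h
    · right
      exact Phi_minus_of k w h
  · rw [← card_zeros_plus k]
    apply Nat.card_congr
    symm
    refine Equiv.ofBijective (fun w => ⟨Phi (k + 1) w.1, Phi_pol (k + 1) w.1,
      (Phi_plus_iff (k + 1) hm w.1).mpr w.2⟩) ⟨?_, ?_⟩
    · intro w w' h
      exact Subtype.ext (Phi_inj (k + 1) (congrArg Subtype.val h))
    · rintro ⟨q, hq, hg⟩
      obtain ⟨w, rfl⟩ := Phi_surj (k + 1) q hq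
      exact ⟨⟨w, (Phi_plus_iff (k + 1) hm w).mp hg⟩, rfl⟩
  · rw [← card_ones_plus k]
    apply Nat.card_congr
    symm
    refine Equiv.ofBijective (fun w => ⟨Phi (k + 1) w.1, Phi_pol (k + 1) w.1,
      Phi_minus_of k w.1 w.2⟩) ⟨?_, ?_⟩
    · intro w w' h
      exact Subtype.ext (Phi_inj (k + 1) (congrArg Subtype.val h))
    · rintro ⟨q, hq, hg⟩
      obtain ⟨w, rfl⟩ := Phi_surj (k + 1) q hq
      refine ⟨⟨w, ?_⟩, rfl⟩
      rcases zmod2_cases (Cfsg.quadFormPlus (k + 1) (ZMod 2) w) with h | h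
      · exact absurd hg (Phi_not_minus_of k w h)
      · exact h

/-- Fix the non-singular alternating form on the 2m-dimensional space over the field of two elements obtained by polarizing the plus-type form Σ xᵢyᵢ (m ≥ 1). The functions q on the space with q(u + v) = q(u) + q(v) + f(u, v) (the quadratic forms polarizing to f) number 2^(2m); each is equivalent under an invertible linear map either to the plus-type form or to the minus-type form Σ xᵢyᵢ + (z₁² + z₁z₂ + z₂²); and those of plus type number 2^(2m−1) + 2^(m−1), those of minus type 2^(2m−1) − 2^(m−1). -/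
theorem result (m : ℕ) (hm : 1 ≤ m) :
    Nat.card {q : (Fin m ⊕ Fin m → ZMod 2) → ZMod 2 // (∀ u v : (Fin m ⊕ Fin m → ZMod 2), q (u + v) = q u + q v + (Cfsg.quadFormPlus m (ZMod 2) (u + v) - Cfsg.quadFormPlus m (ZMod 2) u - Cfsg.quadFormPlus m (ZMod 2) v))} = 2 ^ (2 * m) ∧
    (∀ q : (Fin m ⊕ Fin m → ZMod 2) → ZMod 2, (∀ u v : (Fin m ⊕ Fin m → ZMod 2), q (u + v) = q u + q v + (Cfsg.quadFormPlus m (ZMod 2) (u + v) - Cfsg.quadFormPlus m (ZMod 2) u - Cfsg.quadFormPlus m (ZMod 2) v)) →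
      (∃ g : (Fin m ⊕ Fin m → ZMod 2) ≃ₗ[ZMod 2] (Fin m ⊕ Fin m → ZMod 2), ∀ v, q v = Cfsg.quadFormPlus m (ZMod 2) (g v)) ∨
      (∃ g : (Fin m ⊕ Fin m → ZMod 2) ≃ₗ[ZMod 2] ((Fin (m - 1) ⊕ Fin (m - 1)) ⊕ Fin 2 → ZMod 2), ∀ v, q v = Cfsg.quadFormMinus (m - 1) (ZMod 2) 1 1 (g v))) ∧
    Nat.card {q : (Fin m ⊕ Fin m → ZMod 2) → ZMod 2 // (∀ u v : (Fin m ⊕ Fin m → ZMod 2), q (u + v) = q u + q v + (Cfsg.quadFormPlus m (ZMod 2) (u + v) - Cfsg.quadFormPlus m (ZMod 2) u - Cfsg.quadFormPlus m (ZMod 2) v)) ∧ ∃ g : (Fin m ⊕ Fin m → ZMod 2) ≃ₗ[ZMod 2] (Fin m ⊕ Fin m → ZMod 2), ∀ v, q v = Cfsg.quadFormPlus m (ZMod 2) (g v)} = 2 ^ (2 * m - 1) + 2 ^ (m - 1) ∧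
    Nat.card {q : (Fin m ⊕ Fin m → ZMod 2) → ZMod 2 // (∀ u v : (Fin m ⊕ Fin m → ZMod 2), q (u + v) = q u + q v + (Cfsg.quadFormPlus m (ZMod 2) (u + v) - Cfsg.quadFormPlus m (ZMod 2) u - Cfsg.quadFormPlus m (ZMod 2) v)) ∧ ∃ g : (Fin m ⊕ Fin m → ZMod 2) ≃ₗ[ZMod 2] ((Fin (m - 1) ⊕ Fin (m - 1)) ⊕ Fin 2 → ZMod 2), ∀ v, q v = Cfsg.quadFormMinus (m - 1) (ZMod 2) 1 1 (g v)} = 2 ^ (2 * m - 1) - 2 ^ (m - 1) := by
  obtain ⟨k, rfl⟩ : ∃ k, m = k + 1 := ⟨m - 1, by omega⟩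
  simp only [quadFormPlus_polar]
  exact main k

end Cfsg.Agent.S2561
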