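import Cfsg.Statements.S2562
import Cfsg.Agent.Helper43.QuadF2Inst

set_option autoImplicit false
open Cfsg

namespace Cfsg.Agent.S2562

open Cfsg.Agent.Helper43 Module

/-- The embedding of the `x`-coordinates into the plus space. -/
def iotaPlus (m : ℕ) : (Fin m → ZMod 2) →ₗ[ZMod 2] (Fin m ⊕ Fin m → ZMod 2) where
  toFun x := Sum.elim x 0
  map_add' := by
    intro x y
    funext j
    cases j <;> simp
  map_smul' := by
    intro c x
    funext j
    cases j <;> simp

theorem iotaPlus_injective (m : ℕ) : Function.Injective (iotaPlus m) := by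
  intro x y hxy
  funext i
  have := congrFun hxy (.inl i)
  exact this

/-- The embedding of the `x`-coordinates into the minus space. -/
def iotaMinus (k : ℕ) : (Fin k → ZMod 2) →ₗ[ZMod 2] ((Fin k ⊕ Fin k) ⊕ Fin 2 → ZMod 2) where
  toFun x := Sum.elim (Sum.elim x 0) 0
  map_add' := by
    intro x y
    funext j
    rcases j with (j | j) | j <;> simp
  map_smul' := by
    intro c x
    funext j
    rcases j with (j | j) | j <;> simp

theorem iotaMinus_injective (k : ℕ) : Function.Injective (iotaMinus k) := by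
  intro x y hxy
  funext i
  have := congrFun hxy (.inl (.inl i))
  exact this

/-- Witt index of the minus form is at most `k`. -/
theorem minus_witt (k : ℕ) (U : Submodule (ZMod 2) ((Fin k ⊕ Fin k) ⊕ Fin 2 → ZMod 2))
    (hU : ∀ u ∈ U, Cfsg.quadFormMinus k (ZMod 2) 1 1 u = 0) : finrank (ZMod 2) U ≤ k := by
  set U' : Submodule (ZMod 2) (Fin (k + 1) ⊕ Fin (k + 1) → ZMod 2) :=
    U.comap ((g0 k : _ ≃ₗ[ZMod 2] _) : _ →ₗ[ZMod 2] _) with hU'def
  have hfin : finrank (ZMod 2) U' = finrank (ZMod 2) U := by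
    rw [hU'def, Submodule.comap_equiv_eq_map_symm, LinearEquiv.finrank_map_eq]
  have hU' : ∀ v ∈ U', qMinus k v = 0 := by
    intro v hv
    rw [← quadFormMinus_g0]
    exact hU _ hv
  have hV : finrank (ZMod 2) (Fin (k + 1) ⊕ Fin (k + 1) → ZMod 2) = 2 * (k + 1) := by
    rw [Module.finrank_fintype_fun_eq_card]
    simp; ring
  have h1 := (isQF2_qMinus k).two_mul_finrank_le_of_singular U' hU'
  rw [hV] at h1
  by_contra hcon
  have heq : finrank (ZMod 2) U' = k + 1 := by omega
  have h2 := (isQF2_qMinus k).gsum_eq_of_singular_half U' hU' (by rw [hV, heq])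
  rw [gsum_qMinus] at h2
  have hpos : (0 : ℤ) < (2 : ℤ) ^ finrank (ZMod 2) U' := by positivity
  have hpos' : (0 : ℤ) < (2 : ℤ) ^ (k + 1) := by positivity
  omega

/-- Witt indices over the field of two elements, m ≥ 1: for the plus-type form Σ xᵢyᵢ in dimension 2m some m-dimensional subspace is totally singular and no totally singular subspace has larger dimension; for the minus-type form Σ xᵢyᵢ + (z₁² + z₁z₂ + z₂²) in dimension 2m the maximal dimension of a totally singular subspace is m − 1. -/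
theorem result (m : ℕ) (hm : 1 ≤ m) :
    (∃ U : Submodule (ZMod 2) (Fin m ⊕ Fin m → ZMod 2), (∀ u ∈ U, Cfsg.quadFormPlus m (ZMod 2) u = 0) ∧ Module.finrank (ZMod 2) ↥U = m) ∧
    (∀ U : Submodule (ZMod 2) (Fin m ⊕ Fin m → ZMod 2), (∀ u ∈ U, Cfsg.quadFormPlus m (ZMod 2) u = 0) → Module.finrank (ZMod 2) ↥U ≤ m) ∧
    (∃ U : Submodule (ZMod 2) ((Fin (m - 1) ⊕ Fin (m - 1)) ⊕ Fin 2 → ZMod 2), (∀ u ∈ U, Cfsg.quadFormMinus (m - 1) (ZMod 2) 1 1 u = 0) ∧ Module.finrank (ZMod 2) ↥U = m - 1) ∧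
    (∀ U : Submodule (ZMod 2) ((Fin (m - 1) ⊕ Fin (m - 1)) ⊕ Fin 2 → ZMod 2), (∀ u ∈ U, Cfsg.quadFormMinus (m - 1) (ZMod 2) 1 1 u = 0) → Module.finrank (ZMod 2) ↥U ≤ m - 1) := by
  refine ⟨?_, ?_, ?_, ?_⟩
  · refine ⟨LinearMap.range (iotaPlus m), ?_, ?_⟩
    · rintro _ ⟨x, rfl⟩
      unfold Cfsg.quadFormPlus
      apply Finset.sum_eq_zero
      intro i _
      show x i * 0 = 0
      rw [mul_zero]
    · rw [LinearMap.finrank_range_of_inj (iotaPlus_injective m), Module.finrank_fin_fun]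
  · intro U hU
    have h1 := (isQF2_plus m).two_mul_finrank_le_of_singular U hU
    have hV : finrank (ZMod 2) (Fin m ⊕ Fin m → ZMod 2) = 2 * m := by
      rw [Module.finrank_fintype_fun_eq_card]
      simp; ring
    rw [hV] at h1
    omega
  · refine ⟨LinearMap.range (iotaMinus (m - 1)), ?_, ?_⟩
    · rintro _ ⟨x, rfl⟩
      unfold Cfsg.quadFormMinus
      have h1 : ∑ i : Fin (m - 1), (iotaMinus (m - 1) x) (.inl (.inl i)) * (iotaMinus (m - 1) x) (.inl (.inr i)) = 0 := by
        apply Finset.sum_eq_zero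
        intro i _
        show x i * 0 = 0
        rw [mul_zero]
      rw [h1]
      show 0 + ((0 : ZMod 2) ^ 2 + 1 * 0 * 0 + 1 * (0 : ZMod 2) ^ 2) = 0
      simp
    · rw [LinearMap.finrank_range_of_inj (iotaMinus_injective (m - 1)), Module.finrank_fin_fun]
  · intro U hU
    exact minus_witt (m - 1) U hU

end Cfsg.Agent.S2562
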