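import Cfsg.Statements.S2563
import Cfsg.Agent.S2561
import Cfsg.Agent.Helper43.EvenWtBasis
import Cfsg.Agent.Helper43.IsoHom

set_option autoImplicit false
open Cfsg

namespace Cfsg.Agent.S2563

open Cfsg.Agent.Helper43 Cfsg.Agent.Helper43.EvenWt Matrix

section

variable (m : ℕ)

/-- The permutation action on `𝔽₂^N`. -/
def permLin (σ : Equiv.Perm (Fin (2 * m + 2))) :
    (Fin (2 * m + 2) → ZMod 2) →ₗ[ZMod 2] (Fin (2 * m + 2) → ZMod 2) where
  toFun x := fun i => x (σ⁻¹ i)
  map_add' _ _ := rfl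
  map_smul' _ _ := rfl

theorem permLin_apply (σ : Equiv.Perm (Fin (2 * m + 2))) (x : Fin (2 * m + 2) → ZMod 2)
    (i : Fin (2 * m + 2)) : permLin m σ x i = x (σ⁻¹ i) := rfl

theorem permLin_one (x : Fin (2 * m + 2) → ZMod 2) : permLin m 1 x = x := by
  funext i
  rw [permLin_apply, inv_one, Equiv.Perm.one_apply]

theorem permLin_mul (σ τ : Equiv.Perm (Fin (2 * m + 2))) (x : Fin (2 * m + 2) → ZMod 2) :
    permLin m (σ * τ) x = permLin m σ (permLin m τ x) := by
  funext i
  rw [permLin_apply, permLin_apply, permLin_apply, _root_.mul_inv_rev, Equiv.Perm.mul_apply]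

theorem sum_permLin (σ : Equiv.Perm (Fin (2 * m + 2))) (x : Fin (2 * m + 2) → ZMod 2) :
    ∑ i, permLin m σ x i = ∑ i, x i := Equiv.sum_comp σ⁻¹ x

theorem permLin_one_vec (σ : Equiv.Perm (Fin (2 * m + 2))) :
    permLin m σ (1 : Fin (2 * m + 2) → ZMod 2) = 1 := rfl

theorem QE_permLin (σ : Equiv.Perm (Fin (2 * m + 2))) (x : Fin (2 * m + 2) → ZMod 2) :
    QE (permLin m σ x) = QE x := QE_perm σ⁻¹ x

theorem wt_permLin (σ : Equiv.Perm (Fin (2 * m + 2))) (x : Fin (2 * m + 2) → ZMod 2) :
    wt (permLin m σ x) = wt x := wt_perm σ⁻¹ x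

theorem eq_add_smul_one {y z : Fin (2 * m + 2) → ZMod 2} {e : ZMod 2}
    (h : y = z + e • (1 : Fin (2 * m + 2) → ZMod 2)) :
    z = y + e • (1 : Fin (2 * m + 2) → ZMod 2) := by
  funext i
  have := congrFun h i
  simp only [Pi.add_apply, Pi.smul_apply, Pi.one_apply, smul_eq_mul, mul_one] at this ⊢
  rw [this, add_assoc, CharTwo.add_self_eq_zero, add_zero]

/-- `θ (κ y) = y + e • 1` for even `y`. -/
theorem theta_kappa' (y : Fin (2 * m + 2) → ZMod 2) (hy : ∑ i, y i = 0) :
    ∃ e : ZMod 2, theta m (kappa m y) = y + e • (1 : Fin (2 * m + 2) → ZMod 2) := by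
  obtain ⟨e, he⟩ := theta_kappa m y hy
  exact ⟨e, eq_add_smul_one m he⟩

theorem kappa_add_smul_one (y : Fin (2 * m + 2) → ZMod 2) (e : ZMod 2) :
    kappa m (y + e • (1 : Fin (2 * m + 2) → ZMod 2)) = kappa m y := by
  rw [map_add, map_smul, kappa_one, smul_zero, add_zero]

/-- The action of the symmetric group on the symplectic space. -/
def rho : Equiv.Perm (Fin (2 * m + 2)) →* Module.End (ZMod 2) (Fin m ⊕ Fin m → ZMod 2) where
  toFun σ := kappa m ∘ₗ permLin m σ ∘ₗ theta m
  map_one' := by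
    apply LinearMap.ext
    intro c
    show kappa m (permLin m 1 (theta m c)) = c
    rw [permLin_one]
    exact kappa_theta m c
  map_mul' σ τ := by
    apply LinearMap.ext
    intro c
    show kappa m (permLin m (σ * τ) (theta m c))
      = kappa m (permLin m σ (theta m (kappa m (permLin m τ (theta m c)))))
    have hy : ∑ i, permLin m τ (theta m c) i = 0 := by
      rw [sum_permLin]; exact sum_theta m c
    obtain ⟨e, he⟩ := theta_kappa' m _ hy
    rw [he, permLin_mul, map_add, map_smul, permLin_one_vec, kappa_add_smul_one]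

theorem rho_apply (σ : Equiv.Perm (Fin (2 * m + 2))) (c : Fin m ⊕ Fin m → ZMod 2) :
    rho m σ c = kappa m (permLin m σ (theta m c)) := rfl

/-- The quadratic form `half the weight` transported to the symplectic space. -/
def qE (c : Fin m ⊕ Fin m → ZMod 2) : ZMod 2 := QE (theta m c)

theorem qE_polarizes : PolarizesPlus m (qE m) := by
  intro c c'
  unfold qE
  rw [map_add, QE_add _ _ (even_wt_theta m c) (even_wt_theta m c'), theta_dot_theta]

theorem qE_rho (t : ℕ) (hN : 2 * m + 2 = 4 * t) (σ : Equiv.Perm (Fin (2 * m + 2)))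
    (c : Fin m ⊕ Fin m → ZMod 2) : qE m (rho m σ c) = qE m c := by
  unfold qE
  rw [rho_apply]
  have hy : ∑ i, permLin m σ (theta m c) i = 0 := by
    rw [sum_permLin]; exact sum_theta m c
  obtain ⟨e, he⟩ := theta_kappa' m _ hy
  rw [he]
  have hQy : QE (permLin m σ (theta m c)) = QE (theta m c) := QE_permLin m σ _
  rcases zmod2_cases e with rfl | rfl
  · rw [zero_smul, add_zero, hQy]
  · rw [one_smul, QE_add_one t (by rw [Fintype.card_fin]; exact hN) _ ((even_wt_iff _).mpr hy), hQy]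

theorem sgn2_natCast (n : ℕ) : sgn2 ((n : ℕ) : ZMod 2) = (-1) ^ n := by
  rcases Nat.even_or_odd n with h | h
  · rw [(ZMod.natCast_eq_zero_iff_even).mpr h, h.neg_one_pow]; rfl
  · rw [(ZMod.natCast_eq_one_iff_odd).mpr h, h.neg_one_pow]; rfl

theorem two_mul_gsum (t : ℕ) (hN : 2 * m + 2 = 4 * t) :
    2 * IsQF2.gsum (qE m) = SA (2 * m + 2) := by
  -- reduce the full sum to even vectors
  have h1 : SA (2 * m + 2) = ∑ x : EvenSub m, sgn2 (QE x.1) := by
    unfold SA
    rw [← Fintype.sum_subtype_add_sum_subtype (fun x : Fin (2 * m + 2) → ZMod 2 => ∑ i, x i = 0)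
      (fun x => aCoef (wt x))]
    have hz : ∑ x : {x : Fin (2 * m + 2) → ZMod 2 // ¬ ∑ i, x i = 0}, aCoef (wt x.1) = 0 := by
      apply Finset.sum_eq_zero
      intro x _
      unfold aCoef
      rw [if_neg]
      intro he
      exact x.2 ((even_wt_iff _).mp he)
    rw [hz, add_zero]
    apply Finset.sum_congr rfl
    intro x _
    unfold aCoef QE
    rw [if_pos ((even_wt_iff _).mpr x.2), sgn2_natCast]
  rw [h1, ← Fintype.sum_bijective (psi m) (psi_bijective m) (fun p => sgn2 (QE (psi m p).1))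
    (fun x => sgn2 (QE x.1)) (fun _ => rfl), Fintype.sum_prod_type]
  unfold IsQF2.gsum
  rw [Finset.mul_sum]
  apply Finset.sum_congr rfl
  intro c _
  have huniv : (Finset.univ : Finset (ZMod 2)) = {0, 1} := by decide
  rw [huniv, Finset.sum_pair (by decide)]
  have e0 : (psi m (c, 0)).1 = theta m c := by
    show theta m c + (0 : ZMod 2) • (1 : Fin (2 * m + 2) → ZMod 2) = theta m c
    rw [zero_smul, add_zero]
  have e1 : (psi m (c, 1)).1 = theta m c + 1 := by
    show theta m c + (1 : ZMod 2) • (1 : Fin (2 * m + 2) → ZMod 2) = theta m c + 1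
    rw [one_smul]
  rw [e0, e1, QE_add_one t (by rw [Fintype.card_fin]; exact hN) _ (even_wt_theta m c)]
  unfold qE
  ring

/-- Faithfulness of the action. -/
theorem rho_injective (hm : 2 ≤ m) : Function.Injective (rho m) := by
  rw [injective_iff_map_eq_one]
  intro σ hσ
  -- for every even vector x, permLin σ x = x or x + 1
  have key : ∀ x : Fin (2 * m + 2) → ZMod 2, ∑ i, x i = 0 →
      ∃ e : ZMod 2, permLin m σ x = x + e • (1 : Fin (2 * m + 2) → ZMod 2) := by
    intro x hx
    obtain ⟨e, he⟩ := theta_kappa' m x hx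
    have hy : ∑ i, permLin m σ x i = 0 := by rw [sum_permLin]; exact hx
    obtain ⟨e', he'⟩ := theta_kappa' m _ hy
    have h1 : kappa m (permLin m σ x) = kappa m x := by
      have h2 : rho m σ (kappa m x) = kappa m x := by rw [hσ]; rfl
      rw [rho_apply, he, map_add, map_smul, permLin_one_vec, kappa_add_smul_one] at h2
      exact h2
    rw [h1, he] at he'
    refine ⟨e + e', ?_⟩
    funext i
    have hi := congrFun he' i
    simp only [Pi.add_apply, Pi.smul_apply, Pi.one_apply, smul_eq_mul, mul_one] at hi ⊢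
    have h2 : permLin m σ x i = x i + e + e' := by
      rw [hi, add_assoc (permLin m σ x i), CharTwo.add_self_eq_zero, add_zero]
    rw [h2, add_assoc]
  -- weight-two vectors
  have hpair : ∀ a b : Fin (2 * m + 2), a ≠ b →
      permLin m σ (Pi.single a 1 + Pi.single b 1) = Pi.single a 1 + Pi.single b 1 := by
    intro a b hab
    set x : Fin (2 * m + 2) → ZMod 2 := Pi.single a 1 + Pi.single b 1 with hx
    have hwt1 : ∀ c : Fin (2 * m + 2), wt (Pi.single c 1 : Fin (2 * m + 2) → ZMod 2) = 1 := by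
      intro c
      unfold wt
      rw [Finset.sum_eq_single c]
      · rw [Pi.single_eq_same]; rfl
      · intro i _ hic
        rw [Pi.single_eq_of_ne hic]; rfl
      · intro h; exact absurd (Finset.mem_univ c) h
    have hip : ip (Pi.single a 1 : Fin (2 * m + 2) → ZMod 2) (Pi.single b 1) = 0 := by
      unfold ip
      apply Finset.sum_eq_zero
      intro i _
      by_cases hia : i = a
      · subst hia
        rw [Pi.single_eq_of_ne hab]; simp
      · rw [Pi.single_eq_of_ne hia]; simp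
    have hwt : wt x = 2 := by
      have := wt_add (Pi.single a 1 : Fin (2 * m + 2) → ZMod 2) (Pi.single b 1)
      rw [hip, hwt1, hwt1] at this
      omega
    have hxs : ∑ i, x i = 0 := by
      rw [← even_wt_iff, hwt]; exact even_two
    obtain ⟨e, he⟩ := key x hxs
    rcases zmod2_cases e with rfl | rfl
    · rw [he, zero_smul, add_zero]
    · exfalso
      rw [one_smul] at he
      have h1 := wt_permLin m σ x
      rw [he] at h1
      have h2 := wt_add_one x
      rw [Fintype.card_fin] at h2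
      omega
  -- conclude σ = 1
  apply Equiv.ext
  intro a
  rw [Equiv.Perm.one_apply]
  have hN : 3 ≤ 2 * m + 2 := by omega
  -- two further points
  obtain ⟨b, hb⟩ : ∃ b : Fin (2 * m + 2), b ≠ a := by
    by_contra hcon
    push Not at hcon
    have h0 := hcon ⟨0, by omega⟩
    have h1 := hcon ⟨1, by omega⟩
    have := h0.trans h1.symm
    simp at this
  obtain ⟨b', hb', hbb'⟩ : ∃ b' : Fin (2 * m + 2), b' ≠ a ∧ b' ≠ b := by
    by_contra hcon
    push Not at hcon
    -- among 0,1,2 at least one differs from a and b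
    have h0 := hcon ⟨0, by omega⟩
    have h1 := hcon ⟨1, by omega⟩
    have h2 := hcon ⟨2, by omega⟩
    have v0 : ((⟨0, by omega⟩ : Fin (2 * m + 2)) : ℕ) = 0 := rfl
    have v1 : ((⟨1, by omega⟩ : Fin (2 * m + 2)) : ℕ) = 1 := rfl
    have v2 : ((⟨2, by omega⟩ : Fin (2 * m + 2)) : ℕ) = 2 := rfl
    by_cases c0 : (⟨0, by omega⟩ : Fin (2 * m + 2)) = a
    · by_cases c1 : (⟨1, by omega⟩ : Fin (2 * m + 2)) = a
      · have := congrArg Fin.val (c0.trans c1.symm); omega
      · have e1 := h1 c1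
        by_cases c2 : (⟨2, by omega⟩ : Fin (2 * m + 2)) = a
        · have := congrArg Fin.val (c0.trans c2.symm); omega
        · have e2 := h2 c2
          have := congrArg Fin.val (e1.trans e2.symm); omega
    · have e0 := h0 c0
      by_cases c1 : (⟨1, by omega⟩ : Fin (2 * m + 2)) = a
      · by_cases c2 : (⟨2, by omega⟩ : Fin (2 * m + 2)) = a
        · have := congrArg Fin.val (c1.trans c2.symm); omega
        · have e2 := h2 c2
          have := congrArg Fin.val (e0.trans e2.symm); omega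
      · have e1 := h1 c1
        have := congrArg Fin.val (e0.trans e1.symm); omega
  -- evaluate at σ a
  have hval : ∀ c : Fin (2 * m + 2), c ≠ a → σ a = a ∨ σ a = c := by
    intro c hc
    have h := congrFun (hpair a c hc.symm) (σ a)
    have hinv : σ⁻¹ (σ a) = a := by simp
    rw [permLin_apply, hinv] at h
    simp only [Pi.add_apply, Pi.single_eq_same, Pi.single_eq_of_ne hc.symm, add_zero] at h
    by_contra hcon
    push Not at hcon
    rw [Pi.single_eq_of_ne hcon.1, Pi.single_eq_of_ne hcon.2] at h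
    simp at h
  rcases hval b hb with h | h
  · exact h
  · rcases hval b' hb' with h' | h'
    · exact h'
    · exact absurd (h.symm.trans h') hbb'.symm

end

/-- Gauss sums detect the type. -/
theorem gsum_of_plus (m : ℕ) (q : (Fin m ⊕ Fin m → ZMod 2) → ZMod 2)
    (g : (Fin m ⊕ Fin m → ZMod 2) ≃ₗ[ZMod 2] (Fin m ⊕ Fin m → ZMod 2))
    (hg : ∀ v, q v = Cfsg.quadFormPlus m (ZMod 2) (g v)) : IsQF2.gsum q = (2 : ℤ) ^ m := by
  have : q = fun v => Cfsg.quadFormPlus m (ZMod 2) (g v) := funext hg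
  rw [this]
  exact (IsQF2.gsum_comp_equiv (Cfsg.quadFormPlus m (ZMod 2)) g.toEquiv).trans (gsum_plus _)

theorem gsum_of_minus (k : ℕ) (q : (Fin (k + 1) ⊕ Fin (k + 1) → ZMod 2) → ZMod 2)
    (g : (Fin (k + 1) ⊕ Fin (k + 1) → ZMod 2) ≃ₗ[ZMod 2] ((Fin k ⊕ Fin k) ⊕ Fin 2 → ZMod 2))
    (hg : ∀ v, q v = Cfsg.quadFormMinus k (ZMod 2) 1 1 (g v)) :
    IsQF2.gsum q = -(2 : ℤ) ^ (k + 1) := by
  have : q = fun v => Cfsg.quadFormMinus k (ZMod 2) 1 1 (g v) := funext hg
  rw [this, ← gsum_qMinus]
  have h3 : qMinus k = fun v => Cfsg.quadFormMinus k (ZMod 2) 1 1 (g0 k v) :=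
    funext (fun v => (quadFormMinus_g0 k v).symm)
  rw [h3]
  exact (IsQF2.gsum_comp_equiv (Cfsg.quadFormMinus k (ZMod 2) 1 1) g.toEquiv).trans
    (IsQF2.gsum_comp_equiv (Cfsg.quadFormMinus k (ZMod 2) 1 1) (g0 k).toEquiv).symm

/-- Transport of the action along an isometry to a standard form. -/
theorem exists_hom_of_iso (k : ℕ) {ι : Type} [Fintype ι] [DecidableEq ι]
    (Q : (ι → ZMod 2) → ZMod 2)
    (g : (Fin (2 * k + 1) ⊕ Fin (2 * k + 1) → ZMod 2) ≃ₗ[ZMod 2] (ι → ZMod 2))
    (hg : ∀ v, qE (2 * k + 1) v = Q (g v)) (hk : 1 ≤ k) :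
    ∃ φ : Equiv.Perm (Fin (4 * k + 4)) →* ↥(Cfsg.isometryGroup (ZMod 2) Q),
      Function.Injective φ := by
  have hN : 4 * k + 4 = 2 * (2 * k + 1) + 2 := by ring
  have hN4 : 2 * (2 * k + 1) + 2 = 4 * (k + 1) := by ring
  let ρ' : Equiv.Perm (Fin (4 * k + 4)) →* Module.End (ZMod 2) (ι → ZMod 2) :=
    (g.conjRingEquiv.toRingHom.toMonoidHom.comp (rho (2 * k + 1))).comp
      (Equiv.permCongrHom (finCongr hN)).toMonoidHom
  have hρ' : ∀ σ v, ρ' σ v = g (rho (2 * k + 1) ((Equiv.permCongrHom (finCongr hN)) σ) (g.symm v)) := by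
    intro σ v
    rfl
  apply exists_hom_isometryGroup Q ρ'
  · intro σ v
    rw [hρ', ← hg, qE_rho (2 * k + 1) (k + 1) hN4, hg, LinearEquiv.apply_symm_apply]
  · have h1 : Function.Injective (rho (2 * k + 1)) := rho_injective (2 * k + 1) (by omega)
    have h2 : Function.Injective (g.conjRingEquiv :
        Module.End (ZMod 2) (Fin (2 * k + 1) ⊕ Fin (2 * k + 1) → ZMod 2) →
          Module.End (ZMod 2) (ι → ZMod 2)) := g.conjRingEquiv.injective
    have h3 : Function.Injective (Equiv.permCongrHom (finCongr hN)) :=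
      (Equiv.permCongrHom (finCongr hN)).injective
    exact (h2.comp h1).comp h3

/-- For k ≥ 1 the symmetric group of degree 4k + 4 embeds in a full orthogonal group in dimension 4k + 2 over the field of two elements: in the isometry group of the plus-type form Σ xᵢyᵢ when k is odd, and in that of the minus-type form Σ xᵢyᵢ + (z₁² + z₁z₂ + z₂²) when k is even (through its action on even partitions of a (4k+4)-set, with the form 'half the size of a part, modulo 2'). -/
theorem result (k : ℕ) (hk : 1 ≤ k) :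
    (Odd k → ∃ φ : Equiv.Perm (Fin (4 * k + 4)) →* ↥(Cfsg.isometryGroup (ZMod 2) (Cfsg.quadFormPlus (2 * k + 1) (ZMod 2))), Function.Injective φ) ∧
    (Even k → ∃ φ : Equiv.Perm (Fin (4 * k + 4)) →* ↥(Cfsg.isometryGroup (ZMod 2) (Cfsg.quadFormMinus (2 * k) (ZMod 2) 1 1)), Function.Injective φ) := by
  have hN4 : 2 * (2 * k + 1) + 2 = 4 * (k + 1) := by ring
  have hg2 := two_mul_gsum (2 * k + 1) (k + 1) hN4
  rw [hN4, (SA_SB_four (k + 1)).1] at hg2
  have hcls := (Cfsg.Agent.S2561.main (2 * k)).2.1 (qE (2 * k + 1)) (qE_polarizes (2 * k + 1))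
  have hpos : (0 : ℤ) < (2 : ℤ) ^ (2 * k + 1) := by positivity
  constructor
  · intro hodd
    -- (-4)^(k+1) > 0
    have h4 : ((-4 : ℤ)) ^ (k + 1) = 4 ^ (k + 1) := by
      have : Even (k + 1) := by
        rw [Nat.even_add_one, Nat.not_even_iff_odd]; exact hodd
      exact this.neg_pow 4
    have hpos4 : (0 : ℤ) < 4 ^ (k + 1) := by positivity
    rcases hcls with ⟨g, hg⟩ | ⟨g, hg⟩
    · exact exists_hom_of_iso k _ g hg hk
    · exfalso
      have := gsum_of_minus (2 * k) _ g hg
      rw [this, h4] at hg2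
      omega
  · intro heven
    have h4 : ((-4 : ℤ)) ^ (k + 1) = - 4 ^ (k + 1) := by
      have : Odd (k + 1) := heven.add_one
      exact this.neg_pow 4
    have hpos4 : (0 : ℤ) < 4 ^ (k + 1) := by positivity
    rcases hcls with ⟨g, hg⟩ | ⟨g, hg⟩
    · exfalso
      have := gsum_of_plus (2 * k + 1) _ g hg
      rw [this, h4] at hg2
      omega
    · exact exists_hom_of_iso k _ g hg hk

end Cfsg.Agent.S2563
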