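import Cfsg.Statements.S2567

set_option autoImplicit false
open Cfsg

namespace Cfsg.Agent.S2567

/-- If the centre of `G` has exponent dividing `e`, and `r` is a prime not dividing `e`, then an
element of order `r` of `G / Z(G)` has a unique lift of order `r`. -/
theorem unique_lift {G : Type*} [Group G] (e r : ℕ) (hr : r.Prime) (hre : ¬ r ∣ e)
    (hZ : ∀ z ∈ Subgroup.center G, z ^ e = 1) (x : G ⧸ Subgroup.center G) (hx : orderOf x = r) :
    ∃! g : G, (QuotientGroup.mk g : G ⧸ Subgroup.center G) = x ∧ orderOf g = r := by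
  have hcop : Nat.Coprime r e := (Nat.Prime.coprime_iff_not_dvd hr).mpr hre
  -- elements of the centre killed by r are trivial
  have hZr : ∀ z ∈ Subgroup.center G, z ^ r = 1 → z = 1 := by
    intro z hz hzr
    have h1 : orderOf z ∣ r := orderOf_dvd_of_pow_eq_one hzr
    have h2 : orderOf z ∣ e := orderOf_dvd_of_pow_eq_one (hZ z hz)
    have : orderOf z ∣ 1 := by
      have := Nat.dvd_gcd h1 h2
      rwa [hcop] at this
    exact orderOf_eq_one_iff.mp (Nat.dvd_one.mp this)
  have hx1 : x ≠ 1 := by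
    intro h
    rw [h, orderOf_one] at hx
    exact hr.one_lt.ne hx
  obtain ⟨g0, rfl⟩ := QuotientGroup.mk_surjective x
  have hz0 : g0 ^ r ∈ Subgroup.center G := by
    rw [← QuotientGroup.eq_one_iff, QuotientGroup.mk_pow, ← hx]
    exact pow_orderOf_eq_one _
  -- Bezout
  have hbez : (r : ℤ) * Int.gcdA r e + (e : ℤ) * Int.gcdB r e = 1 := by
    have := Int.gcd_eq_gcd_ab r e
    rw [← this]
    have : Int.gcd (r : ℤ) (e : ℤ) = 1 := by
      rw [Int.gcd_natCast_natCast]; exact hcop
    simp [this]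
  set a := Int.gcdA r e with ha
  set μ : G := (g0 ^ r) ^ a with hμ
  have hμZ : μ ∈ Subgroup.center G := Subgroup.zpow_mem _ hz0 a
  have hμr : μ ^ r = g0 ^ r := by
    have h1 : (g0 ^ r) ^ ((e : ℤ) * Int.gcdB r e) = 1 := by
      rw [zpow_mul, zpow_natCast, hZ _ hz0, one_zpow]
    calc μ ^ r = (g0 ^ r) ^ (a * (r : ℤ)) := by
            rw [hμ, zpow_mul, zpow_natCast]
      _ = (g0 ^ r) ^ ((r : ℤ) * a) * (g0 ^ r) ^ ((e : ℤ) * Int.gcdB r e) := by
            rw [h1, mul_one, mul_comm]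
      _ = (g0 ^ r) ^ ((r : ℤ) * a + (e : ℤ) * Int.gcdB r e) := by rw [zpow_add]
      _ = g0 ^ r := by rw [hbez, zpow_one]
  have hcomm : Commute g0 μ⁻¹ :=
    ((Subgroup.mem_center_iff.mp (Subgroup.inv_mem _ hμZ)) g0)
  refine ⟨g0 * μ⁻¹, ⟨?_, ?_⟩, ?_⟩
  · rw [QuotientGroup.mk_mul, (QuotientGroup.eq_one_iff (μ⁻¹)).mpr (Subgroup.inv_mem _ hμZ), mul_one]
  · have hpow : (g0 * μ⁻¹) ^ r = 1 := by
      rw [hcomm.mul_pow, inv_pow, hμr, mul_inv_cancel]
    have hne : g0 * μ⁻¹ ≠ 1 := by
      intro h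
      apply hx1
      have : (QuotientGroup.mk (g0 * μ⁻¹) : G ⧸ Subgroup.center G) = QuotientGroup.mk g0 := by
        rw [QuotientGroup.mk_mul, (QuotientGroup.eq_one_iff (μ⁻¹)).mpr (Subgroup.inv_mem _ hμZ), mul_one]
      rw [← this, h]
      rfl
    have hdvd := orderOf_dvd_of_pow_eq_one hpow
    rcases (Nat.dvd_prime hr).mp hdvd with h | h
    · exact absurd (orderOf_eq_one_iff.mp h) hne
    · exact h
  · rintro g' ⟨hg', hg'r⟩
    -- g' = g z with z central
    set g := g0 * μ⁻¹ with hg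
    have hgmk : (QuotientGroup.mk g : G ⧸ Subgroup.center G) = QuotientGroup.mk g0 := by
      rw [hg, QuotientGroup.mk_mul, (QuotientGroup.eq_one_iff (μ⁻¹)).mpr (Subgroup.inv_mem _ hμZ), mul_one]
    have hgr : g ^ r = 1 := by
      rw [hg, hcomm.mul_pow, inv_pow, hμr, mul_inv_cancel]
    have hz : g⁻¹ * g' ∈ Subgroup.center G := by
      rw [← QuotientGroup.eq, hgmk, hg']
    set z := g⁻¹ * g' with hzdef
    have hg'z : g' = g * z := by rw [hzdef, mul_inv_cancel_left]
    have hcz : Commute g z := ((Subgroup.mem_center_iff.mp hz) g)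
    have hzr : z ^ r = 1 := by
      have h1 : g' ^ r = 1 := by rw [← hg'r]; exact pow_orderOf_eq_one _
      rw [hg'z, hcz.mul_pow, hgr, one_mul] at h1
      exact h1
    rw [hg'z, hZr z hz hzr, mul_one]

/-- Lifting elements of prime order from PGL to GL: let F be a finite field with q elements, r a prime not dividing q − 1, and x an element of order r in GL_n(F) modulo its centre (the scalar matrices). Then x has exactly one preimage in GL_n(F) of order r. -/
theorem result {F : Type*} [Field F] [Fintype F] {q n r : ℕ} (hF : Fintype.card F = q) (hr : r.Prime) (hdiv : ¬ r ∣ q - 1) (x : GL (Fin n) F ⧸ Subgroup.center (GL (Fin n) F)) (hx : orderOf x = r) : ∃! g : GL (Fin n) F, (QuotientGroup.mk g : GL (Fin n) F ⧸ Subgroup.center (GL (Fin n) F)) = x ∧ orderOf g = r := by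
  apply unique_lift (q - 1) r hr hdiv _ x hx
  intro z hz
  rw [Matrix.GeneralLinearGroup.center_eq_range_scalar] at hz
  obtain ⟨a, rfl⟩ := hz
  rw [← map_pow]
  have : a ^ (q - 1) = 1 := by
    classical
    rw [← hF, ← Fintype.card_units]
    exact pow_card_eq_one
  rw [this, map_one]

end Cfsg.Agent.S2567
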