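import Cfsg.Statements.S2572
import Cfsg.Agent.Helper43.ClassCount
import Cfsg.Agent.Helper43.Transvection2
import Cfsg.Agent.Helper43.TransvCount
import Cfsg.Agent.Helper43.GLConj

set_option autoImplicit false
open Cfsg

namespace Cfsg.Agent.S2572

open Cfsg.Agent.Helper43 Module Matrix

section

variable {F : Type*} [Field F] {n : ℕ}

theorem finrank_range_toLin'_eq_rank (A : Matrix (Fin n) (Fin n) F) :
    finrank F (LinearMap.range (Matrix.toLin' A)) = A.rank := by
  rw [Matrix.rank, Matrix.toLin'_apply']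

theorem toLin'_mul_self_eq_zero_iff (A : Matrix (Fin n) (Fin n) F) :
    (Matrix.toLin' A : Module.End F (Fin n → F)) * Matrix.toLin' A = 0 ↔ A * A = 0 := by
  rw [Module.End.mul_eq_comp, ← Matrix.toLin'_mul]
  constructor
  · intro h
    apply (Matrix.toLin' (R := F)).injective
    rw [h, map_zero]
  · intro h
    rw [h, map_zero]

/-- Transvections (as elements of `GL_n`) correspond to rank-one square-zero endomorphisms. -/
noncomputable def transvEquiv :
    {u : GL (Fin n) F // Cfsg.IsTransvection (u : Matrix (Fin n) (Fin n) F)}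
      ≃ TEnds F (Fin n → F) where
  toFun u := ⟨Matrix.toLin' ((u.1 : Matrix (Fin n) (Fin n) F) - 1), by
    rw [finrank_range_toLin'_eq_rank]; exact u.2.1, by
    rw [toLin'_mul_self_eq_zero_iff]; exact u.2.2⟩
  invFun A :=
    have hM : LinearMap.toMatrix' A.1 * LinearMap.toMatrix' A.1 = 0 := by
      rw [← toLin'_mul_self_eq_zero_iff, Matrix.toLin'_toMatrix']
      exact A.2.2
    ⟨⟨1 + LinearMap.toMatrix' A.1, 1 - LinearMap.toMatrix' A.1, by
        rw [mul_sub, mul_one, add_mul, one_mul, hM]; abel, by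
        rw [sub_mul, one_mul, mul_add, mul_one, hM]; abel⟩, by
      show Cfsg.IsTransvection (1 + LinearMap.toMatrix' A.1)
      unfold Cfsg.IsTransvection
      rw [add_sub_cancel_left]
      refine ⟨?_, hM⟩
      rw [← finrank_range_toLin'_eq_rank, Matrix.toLin'_toMatrix']
      exact A.2.1⟩
  left_inv u := by
    apply Subtype.ext
    apply Units.ext
    show 1 + LinearMap.toMatrix' (Matrix.toLin' ((u.1 : Matrix (Fin n) (Fin n) F) - 1)) = _
    rw [LinearMap.toMatrix'_toLin']
    abel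
  right_inv A := by
    apply Subtype.ext
    show Matrix.toLin' ((1 + LinearMap.toMatrix' A.1) - 1) = A.1
    rw [add_sub_cancel_left, Matrix.toLin'_toMatrix']

theorem isTransvection_conj (g : GL (Fin n) F) {u : GL (Fin n) F}
    (h : Cfsg.IsTransvection (u : Matrix (Fin n) (Fin n) F)) :
    Cfsg.IsTransvection ((g * u * g⁻¹ : GL (Fin n) F) : Matrix (Fin n) (Fin n) F) := by
  have e : ((g * u * g⁻¹ : GL (Fin n) F) : Matrix (Fin n) (Fin n) F) - 1
      = (g : Matrix (Fin n) (Fin n) F) * ((u : Matrix (Fin n) (Fin n) F) - 1)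
        * ((g⁻¹ : GL (Fin n) F) : Matrix (Fin n) (Fin n) F) := by
    rw [Units.val_mul, Units.val_mul, mul_sub, sub_mul, mul_one, Units.mul_inv]
  have hdet : IsUnit (g : Matrix (Fin n) (Fin n) F).det := Matrix.isUnits_det_units g
  have hdet' : IsUnit ((g⁻¹ : GL (Fin n) F) : Matrix (Fin n) (Fin n) F).det :=
    Matrix.isUnits_det_units g⁻¹
  unfold Cfsg.IsTransvection at h ⊢
  constructor
  · rw [e, Matrix.rank_mul_eq_left_of_isUnit_det _ _ hdet',
      Matrix.rank_mul_eq_right_of_isUnit_det _ _ hdet, h.1]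
  · rw [e]
    have : (g : Matrix (Fin n) (Fin n) F) * ((u : Matrix (Fin n) (Fin n) F) - 1)
        * ((g⁻¹ : GL (Fin n) F) : Matrix (Fin n) (Fin n) F)
        * ((g : Matrix (Fin n) (Fin n) F) * ((u : Matrix (Fin n) (Fin n) F) - 1)
        * ((g⁻¹ : GL (Fin n) F) : Matrix (Fin n) (Fin n) F))
        = (g : Matrix (Fin n) (Fin n) F) * (((u : Matrix (Fin n) (Fin n) F) - 1)
          * (((g⁻¹ : GL (Fin n) F) : Matrix (Fin n) (Fin n) F) * (g : Matrix (Fin n) (Fin n) F))
          * ((u : Matrix (Fin n) (Fin n) F) - 1))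
          * ((g⁻¹ : GL (Fin n) F) : Matrix (Fin n) (Fin n) F) := by
      simp only [mul_assoc]
    rw [this, Units.inv_mul, mul_one, h.2, mul_zero, zero_mul]

theorem isConj_of_isTransvection {m : ℕ} (u u' : GL (Fin (m + 2)) F)
    (h : Cfsg.IsTransvection (u : Matrix (Fin (m + 2)) (Fin (m + 2)) F))
    (h' : Cfsg.IsTransvection (u' : Matrix (Fin (m + 2)) (Fin (m + 2)) F)) : IsConj u u' := by
  have hV : finrank F (Fin (m + 2) → F) = m + 2 := Module.finrank_fin_fun F
  have hA := (transvEquiv ⟨u, h⟩).2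
  have hA' := (transvEquiv ⟨u', h'⟩).2
  obtain ⟨e, he⟩ := exists_conj_of_rank_one_sq_zero _ _ hV hA.1 hA.2 hA'.1 hA'.2
  exact isConj_of_linearEquiv u u' e he

end

/-- Centraliser of a transvection in GL_n(q), n ≥ 2: if t − 1 has rank one and square zero, the centraliser of t in GL_n(q) has order q^(2n−3) (q − 1) |GL_(n−2)(q)| (a group of order q^(2n−3) extended by GL_1(q) × GL_(n−2)(q)). -/
theorem result {F : Type*} [Field F] [Fintype F] {q n : ℕ} (hF : Fintype.card F = q) (hn : 2 ≤ n) (t : GL (Fin n) F) (ht : Cfsg.IsTransvection (t : Matrix (Fin n) (Fin n) F)) : Nat.card ↥(Subgroup.centralizer ({t} : Set (GL (Fin n) F))) = q ^ (2 * n - 3) * (q - 1) * ∏ i : Fin (n - 2), (q ^ (n - 2) - q ^ (i : ℕ)) := by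
  subst hF
  obtain ⟨m, rfl⟩ : ∃ m, n = m + 2 := ⟨n - 2, by omega⟩
  have hq : 2 ≤ Fintype.card F := Fintype.one_lt_card
  show _ = Fintype.card F ^ (2 * (m + 2) - 3) * (Fintype.card F - 1)
    * ∏ i : Fin m, (Fintype.card F ^ m - Fintype.card F ^ (i : ℕ))
  have h23 : 2 * (m + 2) - 3 = 2 * m + 1 := by omega
  rw [h23]
  -- class of t = all transvections
  have h1 := card_class_mul_card_centralizer t
  have h2 : Nat.card {x : GL (Fin (m + 2)) F // ConjClasses.mk x = ConjClasses.mk t}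
      = Nat.card (TEnds F (Fin (m + 2) → F)) := by
    rw [← Nat.card_congr (transvEquiv (F := F) (n := m + 2))]
    apply Nat.card_congr
    refine Equiv.subtypeEquivRight ?_
    intro x
    rw [ConjClasses.mk_eq_mk_iff_isConj]
    constructor
    · intro hx
      rw [isConj_comm, isConj_iff] at hx
      obtain ⟨c, rfl⟩ := hx
      exact isTransvection_conj c ht
    · intro hx
      exact isConj_of_isTransvection x t hx ht
  have h3 := card_TEnds_mul (F := F) (V := Fin (m + 2) → F)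
  have hNF : Nat.card F = Fintype.card F := Nat.card_eq_fintype_card
  rw [Module.finrank_fin_fun, hNF] at h3
  have h4 : Nat.card (GL (Fin (m + 2)) F)
      = ∏ i : Fin (m + 2), (Fintype.card F ^ (m + 2) - Fintype.card F ^ (i : ℕ)) :=
    Matrix.card_GL_field (m + 2)
  rw [prod_GL_split] at h4
  rw [h2] at h1
  have hm : m + 2 - 1 = m + 1 := by omega
  rw [hm] at h3
  set c := Nat.card ↥(Subgroup.centralizer ({t} : Set (GL (Fin (m + 2)) F))) with hc
  set T := Nat.card (TEnds F (Fin (m + 2) → F)) with hT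
  set Q := Fintype.card F with hQ
  set P := ∏ i : Fin m, (Q ^ m - Q ^ (i : ℕ)) with hP
  have ha : 0 < Q ^ (m + 2) - 1 := by
    have : 2 ^ (m + 2) ≤ Q ^ (m + 2) := Nat.pow_le_pow_left hq _
    have : 2 ≤ 2 ^ (m + 2) := by
      calc 2 = 2 ^ 1 := by norm_num
        _ ≤ 2 ^ (m + 2) := Nat.pow_le_pow_right (by norm_num) (by omega)
    omega
  have hb : 0 < Q ^ (m + 1) - 1 := by
    have : 2 ^ (m + 1) ≤ Q ^ (m + 1) := Nat.pow_le_pow_left hq _
    have : 2 ≤ 2 ^ (m + 1) := by
      calc 2 = 2 ^ 1 := by norm_num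
        _ ≤ 2 ^ (m + 1) := Nat.pow_le_pow_right (by norm_num) (by omega)
    omega
  have key : c * ((Q ^ (m + 2) - 1) * (Q ^ (m + 1) - 1))
      = (Q ^ (2 * m + 1) * (Q - 1) * P) * ((Q ^ (m + 2) - 1) * (Q ^ (m + 1) - 1)) := by
    calc c * ((Q ^ (m + 2) - 1) * (Q ^ (m + 1) - 1)) = c * (T * (Q - 1)) := by rw [h3]
      _ = (T * c) * (Q - 1) := by ring
      _ = (Q ^ (2 * m + 1) * (Q ^ (m + 2) - 1) * (Q ^ (m + 1) - 1) * P) * (Q - 1) := by
          rw [h1, h4]
      _ = _ := by ring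
  exact Nat.eq_of_mul_eq_mul_right (Nat.mul_pos ha hb) key

end Cfsg.Agent.S2572
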