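import Cfsg.Statements.S2574
import Cfsg.Agent.Helper43.RegUnipForm

set_option autoImplicit false
open Cfsg

namespace Cfsg.Agent.S2574

open Matrix in
theorem sympForm_eq {m : ℕ} {F : Type*} [Field F] (v w : Fin m ⊕ Fin m → F) :
    Cfsg.sympForm m F v w = Matrix.toBilin' (Matrix.J (Fin m) F) v w := by
  rw [Matrix.toBilin'_apply']
  rfl

/-- A regular unipotent element of the symplectic group has totally isotropic small invariant subspaces: over a finite field, if u ∈ Sp_2m(F) satisfies (u − 1)^(2m) = 0 and rank(u − 1) = 2m − 1, and W is a u-invariant subspace with 2 dim W ≤ 2m, then the alternating form vanishes identically on W. -/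
theorem result {F : Type*} [Field F] [Finite F] {m : ℕ} (u : Matrix.symplecticGroup (Fin m) F) (hnil : ((u : Matrix (Fin m ⊕ Fin m) (Fin m ⊕ Fin m) F) - 1) ^ (2 * m) = 0) (hreg : ((u : Matrix (Fin m ⊕ Fin m) (Fin m ⊕ Fin m) F) - 1).rank = 2 * m - 1) (W : Submodule F (Fin m ⊕ Fin m → F)) (hW : ∀ v ∈ W, (u : Matrix (Fin m ⊕ Fin m) (Fin m ⊕ Fin m) F).mulVec v ∈ W) (hdim : 2 * Module.finrank F W ≤ 2 * m) : ∀ v ∈ W, ∀ w ∈ W, Cfsg.sympForm m F v w = 0 := by
  set A : Matrix (Fin m ⊕ Fin m) (Fin m ⊕ Fin m) F := (u : Matrix (Fin m ⊕ Fin m) (Fin m ⊕ Fin m) F) with hA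
  have hfin : Module.finrank F (Fin m ⊕ Fin m → F) = 2 * m := by
    rw [Module.finrank_fintype_fun_eq_card]
    simp; ring
  have hJdet : (Matrix.J (Fin m) F).det ≠ 0 := by
    intro h
    have := Matrix.J_det_mul_J_det (Fin m) F
    rw [h] at this
    simp at this
  have hB : (Matrix.toBilin' (Matrix.J (Fin m) F)).Nondegenerate := by
    rw [Matrix.nondegenerate_toBilin'_iff]
    exact Matrix.nondegenerate_of_det_ne_zero hJdet
  have hsub : Matrix.mulVecLin A - 1 = Matrix.mulVecLin (A - 1) := by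
    ext v
    simp
  have hpow : ∀ k : ℕ, Matrix.mulVecLin ((A - 1) ^ k) = (Matrix.mulVecLin (A - 1)) ^ k := by
    intro k
    rw [← Matrix.toLin'_apply', ← Matrix.toLin'_apply', Matrix.toLin'_pow]
  have key := Cfsg.Agent.Helper43.isotropic_of_invariant_regular_unipotent
    (Matrix.toBilin' (Matrix.J (Fin m) F)) hB (Matrix.mulVecLin A) ?_ ?_ ?_ W hW (by rw [hfin]; exact hdim)
  · intro v hv w hw
    rw [sympForm_eq]
    exact key v hv w hw
  · intro x y
    rw [Matrix.toBilin'_apply', Matrix.toBilin'_apply']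
    have hu : A.transpose * Matrix.J (Fin m) F * A = Matrix.J (Fin m) F := by
      have := SymplecticGroup.mem_iff.mp (SymplecticGroup.transpose_mem u.2)
      simpa using this
    simp only [Matrix.mulVecLin_apply]
    rw [Matrix.mulVec_mulVec, Matrix.dotProduct_mulVec, Matrix.vecMul_mulVec, ← Matrix.dotProduct_mulVec,
      ← Matrix.mul_assoc, hu]
  · rw [hsub]
    refine ⟨2 * m, ?_⟩
    rw [← hpow, hnil]
    simp
  · rw [hsub]
    have h := LinearMap.finrank_range_add_finrank_ker (Matrix.mulVecLin (A - 1))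
    rw [hfin] at h
    have h2 : Module.finrank F (LinearMap.range (Matrix.mulVecLin (A - 1))) = 2 * m - 1 := hreg
    omega

end Cfsg.Agent.S2574
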