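import Cfsg.Statements.S2575
import Cfsg.Agent.Helper43.FieldPow

set_option autoImplicit false
open Cfsg

namespace Cfsg.Agent.S2575

open Cfsg.Agent.Helper43

theorem prod_diag {F : Type*} [Field F] (n i : ℕ) (hi : i ≤ n) :
    ∏ j : Fin n, (if (j : ℕ) < i then (-1 : F) else 1) = (-1) ^ i := by
  rw [Fin.prod_univ_eq_prod_range (fun j => if j < i then (-1 : F) else 1) n, Finset.prod_ite]
  simp only [Finset.prod_const, one_pow, mul_one]
  congr 1
  have : (Finset.range n).filter (fun j => j < i) = Finset.range i := by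
    ext j
    simp only [Finset.mem_filter, Finset.mem_range]
    omega
  rw [this, Finset.card_range]

/-- Which diagonal involutions of PGL_n(q) lie in PSL_n(q), q odd: for the diagonal matrix t with i entries −1 and n − i entries 1, some non-zero scalar multiple of t has determinant one if and only if i is even or the 2-part of q − 1 exceeds the 2-part of n (that is, −1 is an n-th power in the field exactly in the latter case). -/
theorem result {F : Type*} [Field F] [Fintype F] {q : ℕ} (hF : Fintype.card F = q) (hq : Odd q) {n : ℕ} (hn : 1 ≤ n) (i : ℕ) (hi : i ≤ n) : (∃ c : F, c ≠ 0 ∧ (c • Matrix.diagonal (fun j : Fin n => if (j : ℕ) < i then (-1 : F) else 1)).det = 1) ↔ (Even i ∨ padicValNat 2 n < padicValNat 2 (q - 1)) := by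
  subst hF
  have hdet : ∀ c : F, (c • Matrix.diagonal (fun j : Fin n => if (j : ℕ) < i then (-1 : F) else 1)).det
      = c ^ n * (-1) ^ i := by
    intro c
    rw [Matrix.det_smul, Matrix.det_diagonal, prod_diag n i hi, Fintype.card_fin]
  simp only [hdet]
  have hne : (-1 : F) ≠ 1 := neg_one_ne_one_of_odd_card hq
  have hq1 : Fintype.card F - 1 ≠ 0 := by
    have := Fintype.one_lt_card (α := F)
    omega
  obtain ⟨a, n', hn', hnn⟩ := Nat.exists_eq_two_pow_mul_odd (n := n) (by omega)
  have hva : padicValNat 2 n = a := by rw [hnn]; exact padicValNat_two_pow_mul_odd hn'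
  rw [hva]
  constructor
  · rintro ⟨c, hc0, hc⟩
    by_cases hev : Even i
    · left; exact hev
    right
    have hodd : Odd i := Nat.not_even_iff_odd.mp hev
    rw [hodd.neg_one_pow, mul_neg, mul_one, neg_eq_iff_eq_neg] at hc
    -- c ^ n = -1
    set y := c ^ n' with hy
    have hy1 : y ^ (2 ^ a) = -1 := by
      rw [hy, ← pow_mul, mul_comm, ← hnn, hc]
    have hy2 : y ^ (2 ^ (a + 1)) = 1 := by
      rw [pow_succ, pow_mul, hy1]
      simp
    have hord : orderOf y = 2 ^ (a + 1) := by
      haveI : Fact (Nat.Prime 2) := ⟨Nat.prime_two⟩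
      apply orderOf_eq_prime_pow
      · rw [hy1]; exact hne
      · exact hy2
    have hy0 : y ≠ 0 := pow_ne_zero _ hc0
    have hdvd := orderOf_dvd_card_sub_one hy0
    rw [hord] at hdvd
    haveI : Fact (Nat.Prime 2) := ⟨Nat.prime_two⟩
    have := (padicValNat_dvd_iff_le hq1).mp hdvd
    omega
  · rintro (hev | hlt)
    · exact ⟨1, one_ne_zero, by rw [one_pow, hev.neg_one_pow, mul_one]⟩
    · by_cases hev : Even i
      · exact ⟨1, one_ne_zero, by rw [one_pow, hev.neg_one_pow, mul_one]⟩
      have hodd : Odd i := Nat.not_even_iff_odd.mp hev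
      haveI : Fact (Nat.Prime 2) := ⟨Nat.prime_two⟩
      have hdvd : 2 ^ (a + 1) ∣ Fintype.card F - 1 := (padicValNat_dvd_iff_le hq1).mpr (by omega)
      obtain ⟨η, hη⟩ := exists_orderOf_eq hdvd
      refine ⟨η, ?_, ?_⟩
      · rintro rfl
        rw [orderOf_zero] at hη
        have : 0 < 2 ^ (a + 1) := by positivity
        omega
      · rw [hodd.neg_one_pow, hnn, pow_mul, pow_two_pow_eq_neg_one hη, hn'.neg_one_pow]
        simp

end Cfsg.Agent.S2575
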