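import Cfsg.Statements.S2576
import Cfsg.Agent.Helper43.FieldPow

set_option autoImplicit false
open Cfsg

namespace Cfsg.Agent.S2576

open Cfsg.Agent.Helper43

/-- Which involutions of PGL_2m(q) coming from a scalar of the quadratic extension field lie in PSL_2m(q), q odd: let μ generate the Sylow 2-subgroup of the multiplicative group of the field with q elements (μ has order the 2-part of q − 1) and let t be the block-diagonal matrix with m diagonal blocks [[0, 1], [μ, 0]] (so t² is the scalar μ and t is an involution modulo scalars). Then some non-zero scalar multiple of t has determinant one if and only if q ≡ 3 (mod 4) or the 2-part of q − 1 is less than the 2-part of 2m. -/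
theorem result {F : Type*} [Field F] [Fintype F] {q : ℕ} (hF : Fintype.card F = q) (hq : Odd q) {m : ℕ} (hm : 1 ≤ m) (μ : F) (hμ : orderOf μ = 2 ^ padicValNat 2 (q - 1)) : (∃ c : F, c ≠ 0 ∧ (c • Matrix.blockDiagonal (fun _ : Fin m => !![(0 : F), 1; μ, 0])).det = 1) ↔ (q % 4 = 3 ∨ padicValNat 2 (q - 1) < padicValNat 2 (2 * m)) := by
  subst hF
  haveI : Fact (Nat.Prime 2) := ⟨Nat.prime_two⟩
  have hdet : ∀ c : F, (c • Matrix.blockDiagonal (fun _ : Fin m => !![(0 : F), 1; μ, 0])).det
      = c ^ (2 * m) * (-μ) ^ m := by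
    intro c
    rw [Matrix.det_smul, Matrix.det_blockDiagonal]
    simp [Matrix.det_fin_two_of]
  simp only [hdet]
  have hne : (-1 : F) ≠ 1 := neg_one_ne_one_of_odd_card hq
  have hcard : 1 < Fintype.card F := Fintype.one_lt_card
  have hq1 : Fintype.card F - 1 ≠ 0 := by omega
  -- decompose q - 1 and m
  obtain ⟨b, r, hr, hqr⟩ := Nat.exists_eq_two_pow_mul_odd hq1
  have hvb : padicValNat 2 (Fintype.card F - 1) = b := by rw [hqr]; exact padicValNat_two_pow_mul_odd hr
  obtain ⟨a, m', hm', hmm⟩ := Nat.exists_eq_two_pow_mul_odd (n := m) (by omega)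
  have hva : padicValNat 2 (2 * m) = a + 1 := by
    have : 2 * m = 2 ^ (a + 1) * m' := by rw [hmm, pow_succ]; ring
    rw [this]; exact padicValNat_two_pow_mul_odd hm'
  rw [hvb] at hμ ⊢
  rw [hva]
  have hb1 : 1 ≤ b := by
    by_contra h
    have hb0 : b = 0 := by omega
    rw [hb0, pow_zero, one_mul] at hqr
    rw [Nat.odd_iff] at hq hr
    omega
  -- q % 4 = 3 iff b = 1
  have hmod : Fintype.card F % 4 = 3 ↔ b = 1 := by
    constructor
    · intro h
      by_contra hb
      have hb2 : 2 ≤ b := by omega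
      have : 2 ^ 2 ∣ Fintype.card F - 1 := by
        rw [hqr]
        exact Dvd.dvd.mul_right (pow_dvd_pow 2 hb2) r
      omega
    · intro h
      rw [h, pow_one] at hqr
      rw [Nat.odd_iff] at hr hq
      omega
  have hμ0 : μ ≠ 0 := by
    rintro rfl
    rw [orderOf_zero] at hμ
    have : 0 < 2 ^ b := by positivity
    omega
  constructor
  · rintro ⟨c, hc0, hc⟩
    by_cases h3 : Fintype.card F % 4 = 3
    · left; exact h3
    right
    have hb2 : 2 ≤ b := by
      by_contra h
      exact h3 (hmod.mpr (by omega))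
    by_contra hlt
    have hab : a + 1 ≤ b := by omega
    -- ν = -μ has order 2^b
    obtain ⟨b', rfl⟩ : ∃ b', b = b' + 1 := ⟨b - 1, by omega⟩
    have hμh : μ ^ (2 ^ b') = -1 := pow_two_pow_eq_neg_one hμ
    have hev : Even (2 ^ b') := by
      obtain ⟨b'', rfl⟩ : ∃ b'', b' = b'' + 1 := ⟨b' - 1, by omega⟩
      exact ⟨2 ^ b'', by rw [pow_succ]; ring⟩
    have hν1 : (-μ) ^ (2 ^ b') = -1 := by
      rw [neg_pow, hev.neg_one_pow, one_mul, hμh]
    have hν2 : (-μ) ^ (2 ^ (b' + 1)) = 1 := by
      rw [pow_succ, pow_mul, hν1]; simp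
    have hνord : orderOf (-μ) = 2 ^ (b' + 1) := by
      apply orderOf_eq_prime_pow
      · rw [hν1]; exact hne
      · exact hν2
    -- raise to the power 2^(b' - a) * r
    have hE : (c ^ (2 * m) * (-μ) ^ m) ^ (2 ^ (b' - a) * r) = 1 := by rw [hc, one_pow]
    rw [mul_pow, ← pow_mul, ← pow_mul] at hE
    have e1 : 2 * m * (2 ^ (b' - a) * r) = (Fintype.card F - 1) * m' := by
      rw [hqr, hmm]
      have : 2 ^ (b' + 1) = 2 * 2 ^ a * 2 ^ (b' - a) := by
        rw [mul_assoc, ← pow_add, ← pow_succ']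
        congr 1
        omega
      rw [this]; ring
    have e2 : m * (2 ^ (b' - a) * r) = 2 ^ b' * (m' * r) := by
      rw [hmm]
      have : 2 ^ b' = 2 ^ a * 2 ^ (b' - a) := by
        rw [← pow_add]
        congr 1
        omega
      rw [this]; ring
    rw [e1, pow_mul, FiniteField.pow_card_sub_one_eq_one c hc0, one_pow, one_mul, e2] at hE
    have hdvd := orderOf_dvd_of_pow_eq_one hE
    rw [hνord, pow_succ] at hdvd
    have h2 : 2 ∣ m' * r := (Nat.mul_dvd_mul_iff_left (by positivity)).mp hdvd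
    have hodd : Odd (m' * r) := hm'.mul hr
    rw [Nat.odd_iff] at hodd
    omega
  · rintro (h3 | hlt)
    · -- b = 1, μ = -1
      have hb : b = 1 := hmod.mp h3
      rw [hb] at hμ
      have hμ1 : μ ^ (2 ^ 0) = -1 := pow_two_pow_eq_neg_one (j := 0) (by simpa using hμ)
      rw [pow_zero, pow_one] at hμ1
      refine ⟨1, one_ne_zero, ?_⟩
      rw [hμ1]
      simp
    · -- 2^b ∣ m
      have hba : b ≤ a := by omega
      refine ⟨1, one_ne_zero, ?_⟩
      rw [one_pow, one_mul, neg_pow]
      have hmeven : Even m := by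
        rw [hmm]
        obtain ⟨a', rfl⟩ : ∃ a', a = a' + 1 := ⟨a - 1, by omega⟩
        exact ⟨2 ^ a' * m', by rw [pow_succ]; ring⟩
      rw [hmeven.neg_one_pow, one_mul]
      apply orderOf_dvd_iff_pow_eq_one.mp
      rw [hμ, hmm]
      exact Dvd.dvd.mul_right (pow_dvd_pow 2 hba) m'

end Cfsg.Agent.S2576
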