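import Cfsg.Statements.S2577
import Cfsg.Agent.Helper43.PGLInvRep

set_option autoImplicit false
open Cfsg

namespace Cfsg.Agent.S2577

open Cfsg.Agent.Helper43.PGLInv Cfsg.Agent.Helper43.SS Cfsg.Agent.Helper43.Inv

/-- Number of conjugacy classes of involutions in PGL_n(q) for q odd and n ≥ 2: there are ⌊n/2⌋ classes represented by diagonal matrices with i entries −1 (1 ≤ i ≤ n/2) and, when n is even, one more class represented by a block-diagonal matrix of 2 × 2 blocks [[0, 1], [μ, 0]] with μ a non-square (a matrix squaring to a scalar but having no eigenvalue in the field); in all ⌊n/2⌋ + 1 classes if n is even and ⌊n/2⌋ if n is odd. -/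
theorem result {F : Type*} [Field F] [Fintype F] {q : ℕ} (hF : Fintype.card F = q) (hq : Odd q) {n : ℕ} (hn : 2 ≤ n) : Nat.card {C : ConjClasses (GL (Fin n) F ⧸ Subgroup.center (GL (Fin n) F)) // ∃ g : GL (Fin n) F ⧸ Subgroup.center (GL (Fin n) F), ConjClasses.mk g = C ∧ orderOf g = 2} = n / 2 + (if Even n then 1 else 0) := by
  subst hF
  have h2 : (2 : F) ≠ 0 := two_ne_zero_of_odd hq
  obtain ⟨c0, hc0⟩ := exists_nonsquare_unit hq
  have hne_of_inv : ∀ g : GL (Fin n) F, g * g = 1 →
      (rankSet (QuotientGroup.mk g : PGL n F)).Nonempty :=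
    fun g hg => ⟨_, g, rfl, hg, rfl⟩
  have hchi0 : ∀ g : GL (Fin n) F, g * g = sc n c0 →
      chi (QuotientGroup.mk g : PGL n F) = 0 := by
    intro g hg
    unfold chi
    rw [rankSet_eq_empty_of_nonsquare (by omega) g c0 hc0 hg, Nat.sInf_empty]
  have hmap : ∀ g h : GL (Fin n) F, IsConj g h →
      IsConj (QuotientGroup.mk g : PGL n F) (QuotientGroup.mk h : PGL n F) := by
    intro g h hgh
    exact (QuotientGroup.mk' (Subgroup.center (GL (Fin n) F))).map_isConj hgh
  refine (card_classes_eq' (fun x : PGL n F => orderOf x = 2) chi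
    (fun t => (1 ≤ t ∧ 2 * t ≤ n) ∨ (t = 0 ∧ Even n)) ?_ ?_ ?_ ?_).trans ?_
  · intro g c _
    exact chi_conj g c
  · intro x y hx hy hxy
    rcases exists_good_lift c0 hc0 x hx with ⟨g, rfl, hg⟩ | ⟨g, rfl, hg⟩
    · rcases exists_good_lift c0 hc0 y hy with ⟨h, rfl, hh⟩ | ⟨h, rfl, hh⟩
      · obtain ⟨g', hg1, hg2, hg3⟩ := Nat.sInf_mem (hne_of_inv g hg)
        obtain ⟨h', hh1, hh2, hh3⟩ := Nat.sInf_mem (hne_of_inv h hh)
        have hr : ((g' : Matrix (Fin n) (Fin n) F) - 1).rank =
            ((h' : Matrix (Fin n) (Fin n) F) - 1).rank := by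
          rw [hg3, hh3]
          exact hxy
        have hg2' : (g' : Matrix (Fin n) (Fin n) F) * (g' : Matrix (Fin n) (Fin n) F) = 1 := by
          rw [← Units.val_mul, hg2, Units.val_one]
        have hh2' : (h' : Matrix (Fin n) (Fin n) F) * (h' : Matrix (Fin n) (Fin n) F) = 1 := by
          rw [← Units.val_mul, hh2, Units.val_one]
        have := hmap g' h' (isConj_of_invol h2 g' h' hg2' hh2' hr)
        rw [hg1, hh1] at this
        exact this
      · exfalso
        have h1 := (chi_bounds _ hx (hne_of_inv g hg)).1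
        have h0 := hchi0 h hh
        omega
    · rcases exists_good_lift c0 hc0 y hy with ⟨h, rfl, hh⟩ | ⟨h, rfl, hh⟩
      · exfalso
        have h1 := (chi_bounds _ hy (hne_of_inv h hh)).1
        have h0 := hchi0 g hg
        omega
      · exact hmap g h (isConj_of_sq_nonsquare hq g h c0 hc0 hg hh)
  · intro x hx
    rcases exists_good_lift c0 hc0 x hx with ⟨g, rfl, hg⟩ | ⟨g, rfl, hg⟩
    · left
      exact chi_bounds _ hx (hne_of_inv g hg)
    · right
      exact ⟨hchi0 g hg, even_of_nonsquare g c0 hg hc0⟩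
  · intro t ht
    rcases ht with ⟨ht1, ht2⟩ | ⟨rfl, he⟩
    · exact ⟨QuotientGroup.mk (dGL n t F), orderOf_mk_dGL h2 t ht1 ht2, chi_mk_dGL h2 t ht1 ht2⟩
    · obtain ⟨g, hg⟩ := exists_nonsplit he c0 hc0
      exact ⟨QuotientGroup.mk g, orderOf_mk_of_nonsquare (by omega) g c0 hc0 hg, hchi0 g hg⟩
  · by_cases he : Even n
    · rw [if_pos he]
      have : Nat.card {t : ℕ // (1 ≤ t ∧ 2 * t ≤ n) ∨ (t = 0 ∧ Even n)} =
          Nat.card (Finset.range (n / 2 + 1)) :=
        Nat.card_congr (Equiv.subtypeEquivRight (fun t => by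
          simp only [he, and_true, Finset.mem_range]; omega))
      rw [this, Nat.card_eq_finsetCard, Finset.card_range]
    · rw [if_neg he]
      have : Nat.card {t : ℕ // (1 ≤ t ∧ 2 * t ≤ n) ∨ (t = 0 ∧ Even n)} =
          Nat.card (Finset.Icc 1 (n / 2)) :=
        Nat.card_congr (Equiv.subtypeEquivRight (fun t => by
          simp only [he, and_false, or_false, Finset.mem_Icc]; omega))
      rw [this, Nat.card_eq_finsetCard, Nat.card_Icc]
      omega

end Cfsg.Agent.S2577
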