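import Cfsg.Statements.S2581
import Cfsg.Agent.Helper59.JCentE

set_option autoImplicit false
open Cfsg

namespace Cfsg.Agent.S2581

/-- Order of the centraliser in GL of a unipotent matrix of given Jordan type over the field with q elements: if the type has a_i blocks of size i (all block sizes at least 1), the invertible matrices commuting with it number q^γ · Π_i |GL_(a_i)(q)| with γ = 2 Σ_(i<j) i a_i a_j + Σ_i (i − 1) a_i² (a group of order q^γ extended by Π GL_(a_i)(q)). -/
theorem result {F : Type*} [Field F] [Fintype F] {q : ℕ} (hF : Fintype.card F = q) {t : ℕ} (d : Fin t → ℕ) (hd : ∀ k, 1 ≤ d k) : Nat.card {g : GL ((k : Fin t) × Fin (d k)) F // (g : Matrix ((k : Fin t) × Fin (d k)) ((k : Fin t) × Fin (d k)) F) * Cfsg.jordanTypeMatrix d F = Cfsg.jordanTypeMatrix d F * (g : Matrix ((k : Fin t) × Fin (d k)) ((k : Fin t) × Fin (d k)) F)} = q ^ (2 * (∑ i ∈ Finset.range (Finset.univ.sup d + 1), ∑ j ∈ Finset.range (Finset.univ.sup d + 1), if i < j then i * (Finset.univ.filter (fun k : Fin t => d k = i)).card * (Finset.univ.filter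 (fun k : Fin t => d k = j)).card else 0) + ∑ i ∈ Finset.range (Finset.univ.sup d + 1), (i - 1) * (Finset.univ.filter (fun k : Fin t => d k = i)).card ^ 2) * ∏ i ∈ Finset.range (Finset.univ.sup d + 1), ∏ j : Fin ((Finset.univ.filter (fun k : Fin t => d k = i)).card), (q ^ (Finset.univ.filter (fun k : Fin t => d k = i)).card - q ^ (j : ℕ)) := by
  subst hF
  have h1 := Cfsg.Agent.Helper59.JCent.card_centralizer_aux (F := F) d hd
  have h2 := Cfsg.Agent.Helper59.JCent.finrank_ker_Phi_add (F := F) d hd
  have h3 := Cfsg.Agent.Helper59.JCent.sum_min_eq d hd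
  have hc : ∀ i : ℕ, Fintype.card {a : Fin t // d a = i}
      = (Finset.univ.filter (fun k : Fin t => d k = i)).card := fun i => Fintype.card_subtype _
  rw [h1]
  simp only [hc] at h2 ⊢
  rw [Fin.sum_univ_eq_sum_range
    (fun i => (Finset.univ.filter (fun k : Fin t => d k = i)).card ^ 2)] at h2
  rw [Fin.prod_univ_eq_prod_range
    (fun i => ∏ j ∈ Finset.range (Finset.univ.filter (fun k : Fin t => d k = i)).card,
      (Fintype.card F ^ (Finset.univ.filter (fun k : Fin t => d k = i)).card
        - Fintype.card F ^ j))]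
  congr 1
  · congr 1
    simp only [Cfsg.Agent.Helper59.JCent.mult] at h3
    omega
  · apply Finset.prod_congr rfl
    intro i _
    rw [Fin.prod_univ_eq_prod_range
      (fun j => Fintype.card F ^ (Finset.univ.filter (fun k : Fin t => d k = i)).card
        - Fintype.card F ^ j)]

end Cfsg.Agent.S2581
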