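import Cfsg.Statements.S2585
import Cfsg.Agent.Helper43.Symp

set_option autoImplicit false
open Cfsg

namespace Cfsg.Agent.S2585

open Cfsg.Agent.Helper43

/-- The "half" of `J`: `M0 + M0ᵀ = J` in characteristic two. -/
def M0 (m : ℕ) (F : Type*) [Field F] : Matrix (Fin m ⊕ Fin m) (Fin m ⊕ Fin m) F :=
  Matrix.fromBlocks 0 0 1 0

theorem M0_add_transpose (m : ℕ) (F : Type*) [Field F] [CharP F 2] :
    M0 m F + (M0 m F).transpose = Matrix.J (Fin m) F := by
  unfold M0 Matrix.J
  rw [Matrix.fromBlocks_transpose, Matrix.fromBlocks_add]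
  have h : (-1 : Matrix (Fin m) (Fin m) F) = 1 := by
    ext i j
    simp [Matrix.neg_apply, CharTwo.neg_eq]
  rw [h]
  simp

/-- The basic quadratic form `Q₀`. -/
noncomputable def Q0 (m : ℕ) (F : Type*) [Field F] : QuadraticForm F (Fin m ⊕ Fin m → F) :=
  LinearMap.BilinMap.toQuadraticMap (Matrix.toBilin' (M0 m F))

theorem polar_Q0 (m : ℕ) (F : Type*) [Field F] [CharP F 2] (u v : Fin m ⊕ Fin m → F) :
    QuadraticMap.polar ⇑(Q0 m F) u v = Matrix.toBilin' (Matrix.J (Fin m) F) u v := by
  unfold Q0
  rw [LinearMap.BilinMap.polar_toQuadraticMap, ← M0_add_transpose]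
  rw [Matrix.toBilin'_apply', Matrix.toBilin'_apply', Matrix.toBilin'_apply']
  rw [Matrix.add_mulVec, dotProduct_add]
  congr 1
  rw [Matrix.mulVec_transpose, Matrix.dotProduct_mulVec, dotProduct_comm]

/-- Over a finite field of characteristic two every element of the symplectic group is orthogonal for a suitable quadratic form: for each A in Sp_2m(F) there is a quadratic form Q on F^(2m) whose polar form is the alternating form defining Sp_2m(F) (so Q is non-degenerate) and which A preserves. Equivalently, for m ≥ 1, Sp_2m(F) is the union of the conjugates of its two orthogonal subgroups O⁺_2m(F) and O⁻_2m(F). -/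
theorem result {F : Type*} [Field F] [Fintype F] [CharP F 2] {m : ℕ} (A : Matrix.symplecticGroup (Fin m) F) : ∃ Q : QuadraticForm F (Fin m ⊕ Fin m → F), (∀ u v : Fin m ⊕ Fin m → F, QuadraticMap.polar ⇑Q u v = Cfsg.sympForm m F u v) ∧ ∀ v : Fin m ⊕ Fin m → F, Q ((A : Matrix (Fin m ⊕ Fin m) (Fin m ⊕ Fin m) F).mulVec v) = Q v := by
  set M : Matrix (Fin m ⊕ Fin m) (Fin m ⊕ Fin m) F := (A : Matrix (Fin m ⊕ Fin m) (Fin m ⊕ Fin m) F) with hM
  have hMs : M ∈ Matrix.symplecticGroup (Fin m) F := A.2
  -- the defect D(v) = Q0 (M v) - Q0 v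
  let D : (Fin m ⊕ Fin m → F) → F := fun v => Q0 m F (M.mulVec v) - Q0 m F v
  have hDadd : ∀ u v, D (u + v) = D u + D v := by
    intro u v
    have h1 := polar_Q0 m F (M.mulVec u) (M.mulVec v)
    have h2 := polar_Q0 m F u v
    rw [symp_preserves hMs, ← h2] at h1
    unfold QuadraticMap.polar at h1
    simp only [D]
    rw [Matrix.mulVec_add]
    linear_combination h1
  have hDsmul : ∀ (c : F) v, D (c • v) = c ^ 2 * D v := by
    intro c v
    simp only [D]
    rw [Matrix.mulVec_smul, QuadraticMap.map_smul, QuadraticMap.map_smul]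
    simp only [smul_eq_mul]
    ring
  -- δ = sqrt ∘ D is linear
  let δ : (Fin m ⊕ Fin m → F) →ₗ[F] F :=
    { toFun := fun v => (frobeniusEquiv F 2).symm (D v)
      map_add' := by
        intro u v
        rw [hDadd, map_add]
      map_smul' := by
        intro c v
        rw [hDsmul, map_mul]
        congr 1
        have : c ^ 2 = frobeniusEquiv F 2 c := by simp [frobeniusEquiv_apply, frobenius_def]
        rw [this, RingEquiv.symm_apply_apply]
        rfl }
  have hδsq : ∀ v, (δ v) ^ 2 = D v := by
    intro v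
    have := frobenius_apply_frobeniusEquiv_symm F 2 (D v)
    rw [frobenius_def] at this
    exact this
  -- δ vanishes on ker (M - 1), hence factors through M - 1... use M + 1 = M - 1
  let T : (Fin m ⊕ Fin m → F) →ₗ[F] (Fin m ⊕ Fin m → F) := Matrix.mulVecLin M - 1
  have hδker : δ ∈ (LinearMap.ker T).dualAnnihilator := by
    rw [Submodule.mem_dualAnnihilator]
    intro w hw
    rw [LinearMap.mem_ker] at hw
    have hw' : M.mulVec w = w := by
      have : M.mulVec w - w = 0 := by simpa [T] using hw
      exact sub_eq_zero.mp this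
    have : D w = 0 := by simp [D, hw']
    show (frobeniusEquiv F 2).symm (D w) = 0
    rw [this, map_zero]
  rw [← LinearMap.range_dualMap_eq_dualAnnihilator_ker] at hδker
  obtain ⟨lam, hlam⟩ := hδker
  have hlam' : ∀ v, lam (M.mulVec v) - lam v = δ v := by
    intro v
    have := congrArg (fun g : Module.Dual F (Fin m ⊕ Fin m → F) => g v) hlam
    simpa [T, LinearMap.dualMap_apply] using this
  refine ⟨Q0 m F + QuadraticMap.linMulLin lam lam, ?_, ?_⟩
  · intro u v
    rw [sympForm_eq_toBilin, ← polar_Q0]
    unfold QuadraticMap.polar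
    simp only [add_apply, QuadraticMap.linMulLin_apply, map_add]
    have h2 : (2 : F) = 0 := CharTwo.two_eq_zero
    linear_combination (lam u * lam v) * h2
  · intro v
    simp only [add_apply, QuadraticMap.linMulLin_apply]
    have h1 := hδsq v
    rw [← hlam' v] at h1
    simp only [D] at h1
    have h2 : (2 : F) = 0 := CharTwo.two_eq_zero
    linear_combination (-1) * h1 + (lam (M.mulVec v) ^ 2 - lam (M.mulVec v) * lam v) * h2

end Cfsg.Agent.S2585
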