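import Cfsg.Statements.S2586
import Cfsg.Agent.Helper43.SelfAdjoint

set_option autoImplicit false
open Cfsg

namespace Cfsg.Agent.S2586

/-- Over a finite field, every element of the symplectic group Sp_2m(F) is conjugate by an invertible matrix to its inverse. -/
theorem result {F : Type*} [Field F] [Finite F] {m : ℕ} (A : Matrix.symplecticGroup (Fin m) F) : IsConj (A : Matrix (Fin m ⊕ Fin m) (Fin m ⊕ Fin m) F) ((A⁻¹ : Matrix.symplecticGroup (Fin m) F) : Matrix (Fin m ⊕ Fin m) (Fin m ⊕ Fin m) F) := by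
  -- A ~ Aᵀ and Aᵀ = J⁻¹ ... : A⁻¹ = -J Aᵀ J
  have h1 := Cfsg.Agent.Helper43.matrix_isConj_transpose (A : Matrix (Fin m ⊕ Fin m) (Fin m ⊕ Fin m) F)
  refine h1.trans ?_
  -- J is a unit
  have hJ : IsUnit (Matrix.J (Fin m) F) := by
    rw [Matrix.isUnit_iff_isUnit_det]
    exact Matrix.isUnit_det_J (Fin m) F
  obtain ⟨u, hu⟩ := hJ
  refine ⟨u, ?_⟩
  show (u : Matrix (Fin m ⊕ Fin m) (Fin m ⊕ Fin m) F) * (A : Matrix (Fin m ⊕ Fin m) (Fin m ⊕ Fin m) F).transpose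
    = ((A⁻¹ : Matrix.symplecticGroup (Fin m) F) : Matrix (Fin m ⊕ Fin m) (Fin m ⊕ Fin m) F) * u
  rw [hu, SymplecticGroup.coe_inv, Matrix.mul_assoc, Matrix.J_squared]
  simp

end Cfsg.Agent.S2586
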