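import Cfsg.Statements.S2589
import Cfsg.Agent.Helper43.SpSSM

set_option autoImplicit false
open Cfsg

namespace Cfsg.Agent.S2589

/-- Two semisimple elements of the finite symplectic group Sp_2m(F) (elements of order prime to the characteristic) are conjugate in Sp_2m(F) if and only if they are conjugate in GL_2m(F). -/
theorem result {F : Type*} [Field F] [Fintype F] {p : ℕ} [Fact p.Prime] [CharP F p] {m : ℕ} (A B : Matrix.symplecticGroup (Fin m) F) (hA : (orderOf A).Coprime p) : IsConj A B ↔ IsConj (A : Matrix (Fin m ⊕ Fin m) (Fin m ⊕ Fin m) F) (B : Matrix (Fin m ⊕ Fin m) (Fin m ⊕ Fin m) F) := by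
  constructor
  · intro h
    exact (Matrix.symplecticGroup (Fin m) F).subtype.map_isConj h
  · rintro ⟨c, hc⟩
    -- `hc : c * A = B * c`
    have hc' : (c : Matrix (Fin m ⊕ Fin m) (Fin m ⊕ Fin m) F) * (A : Matrix _ _ F)
        = (B : Matrix _ _ F) * (c : Matrix (Fin m ⊕ Fin m) (Fin m ⊕ Fin m) F) := hc
    have hk := Cfsg.Agent.Helper43.SpSS.natCast_ne_zero_of_coprime (F := F) p hA
    -- `B` has the same order bound
    have hBk : B ^ orderOf A = 1 := by
      apply Subtype.ext
      have h1 : SemiconjBy (c : Matrix (Fin m ⊕ Fin m) (Fin m ⊕ Fin m) F)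
          ((A : Matrix _ _ F) ^ orderOf A) ((B : Matrix _ _ F) ^ orderOf A) :=
        SemiconjBy.pow_right hc (orderOf A)
      have hAk : (A : Matrix (Fin m ⊕ Fin m) (Fin m ⊕ Fin m) F) ^ orderOf A = 1 := by
        rw [← SubmonoidClass.coe_pow, pow_orderOf_eq_one]
        rfl
      rw [hAk] at h1
      have h2 : (c : Matrix (Fin m ⊕ Fin m) (Fin m ⊕ Fin m) F)
          = (B : Matrix _ _ F) ^ orderOf A * (c : Matrix _ _ F) := by
        have := h1.eq
        rwa [mul_one] at this
      have h3 : (B : Matrix (Fin m ⊕ Fin m) (Fin m ⊕ Fin m) F) ^ orderOf A = 1 := by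
        have := congrArg (fun M => M * ((c⁻¹ : (Matrix (Fin m ⊕ Fin m) (Fin m ⊕ Fin m) F)ˣ) :
          Matrix (Fin m ⊕ Fin m) (Fin m ⊕ Fin m) F)) h2
        simp only [mul_assoc, Units.mul_inv, mul_one] at this
        exact this.symm
      simpa using h3
    have hch : (A : Matrix (Fin m ⊕ Fin m) (Fin m ⊕ Fin m) F).charpoly
        = (B : Matrix (Fin m ⊕ Fin m) (Fin m ⊕ Fin m) F).charpoly := by
      have h1 : (B : Matrix (Fin m ⊕ Fin m) (Fin m ⊕ Fin m) F)
          = (c : Matrix _ _ F) * (A : Matrix _ _ F) * ((c⁻¹ : (Matrix _ _ F)ˣ) : Matrix _ _ F) := by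
        rw [hc', mul_assoc, Units.mul_inv, mul_one]
      rw [h1, Matrix.coe_units_inv, Matrix.charpoly_units_conj]
    exact Cfsg.Agent.Helper43.SpSS.isConj_symp_of_charpoly A B (orderOf A) (orderOf A) hk hk
      (pow_orderOf_eq_one A) hBk hch

end Cfsg.Agent.S2589
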