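import Cfsg.Statements.S2590
import Cfsg.Agent.Helper43.OrthSSB
import Cfsg.Agent.Helper43.SpSSM
import Cfsg.Agent.Helper13.Isom

set_option autoImplicit false
open Cfsg

namespace Cfsg.Agent.S2590

open Cfsg.Agent.Helper43.OrthSS
open Matrix

/-- Two semisimple elements of odd order of a finite orthogonal group (isometry group of a quadratic form on F^n with non-degenerate polar form, F finite of characteristic p; the elements have odd order prime to p) are conjugate in the orthogonal group if and only if they are conjugate in GL_n(F). -/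
theorem result {F : Type*} [Field F] [Fintype F] {p : ℕ} [Fact p.Prime] [CharP F p] {n : ℕ} (Q : QuadraticForm F (Fin n → F)) (hQ : (QuadraticMap.polarBilin Q).Nondegenerate) (A B : ↥(Cfsg.isometryGroup F ⇑Q)) (hodd : Odd (orderOf A)) (hA : (orderOf A).Coprime p) : IsConj A B ↔ IsConj ((A : Matrix.GeneralLinearGroup (Fin n) F) : Matrix (Fin n) (Fin n) F) ((B : Matrix.GeneralLinearGroup (Fin n) F) : Matrix (Fin n) (Fin n) F) := by
  constructor
  · intro h
    have h1 := (Cfsg.isometryGroup F ⇑Q).subtype.map_isConj h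
    exact (Units.coeHom (Matrix (Fin n) (Fin n) F)).map_isConj h1
  · rintro ⟨c, hc⟩
    set MA : Matrix (Fin n) (Fin n) F := ((A : Matrix.GeneralLinearGroup (Fin n) F) : Matrix (Fin n) (Fin n) F)
      with hMA
    set MB : Matrix (Fin n) (Fin n) F := ((B : Matrix.GeneralLinearGroup (Fin n) F) : Matrix (Fin n) (Fin n) F)
      with hMB
    have hc' : (c : Matrix (Fin n) (Fin n) F) * MA = MB * (c : Matrix (Fin n) (Fin n) F) := hc
    set k := orderOf A with hk
    have hkF : (k : F) ≠ 0 := Cfsg.Agent.Helper43.SpSS.natCast_ne_zero_of_coprime (F := F) p hA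
    have hAk : MA ^ k = 1 := by
      have h1 : ((A ^ k : ↥(Cfsg.isometryGroup F ⇑Q)) : Matrix.GeneralLinearGroup (Fin n) F)
          = (A : Matrix.GeneralLinearGroup (Fin n) F) ^ k := rfl
      have h2 : (A ^ k : ↥(Cfsg.isometryGroup F ⇑Q)) = 1 := pow_orderOf_eq_one A
      rw [h2] at h1
      have h3 := congrArg (fun z : Matrix.GeneralLinearGroup (Fin n) F =>
        (z : Matrix (Fin n) (Fin n) F)) h1
      simp only [Units.val_pow_eq_pow_val] at h3
      exact h3.symm
    have hBk : MB ^ k = 1 := by
      have h1 : SemiconjBy (c : Matrix (Fin n) (Fin n) F) (MA ^ k) (MB ^ k) :=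
        SemiconjBy.pow_right hc k
      rw [hAk] at h1
      have h2 : (c : Matrix (Fin n) (Fin n) F) = MB ^ k * (c : Matrix (Fin n) (Fin n) F) := by
        have := h1.eq
        rwa [mul_one] at this
      have := congrArg (fun M => M * ((c⁻¹ : (Matrix (Fin n) (Fin n) F)ˣ) :
        Matrix (Fin n) (Fin n) F)) h2
      simp only [mul_assoc, Units.mul_inv, mul_one] at this
      exact this.symm
    have hAiso : ∀ x, Q (Matrix.toLin' MA x) = Q x := by
      intro x
      rw [Matrix.toLin'_apply]
      exact (Cfsg.Agent.Helper13.mem_isometryGroup_iff (⇑Q) (A : Matrix.GeneralLinearGroup (Fin n) F)).mp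
        A.2 x
    have hBiso : ∀ x, Q (Matrix.toLin' MB x) = Q x := by
      intro x
      rw [Matrix.toLin'_apply]
      exact (Cfsg.Agent.Helper13.mem_isometryGroup_iff (⇑Q) (B : Matrix.GeneralLinearGroup (Fin n) F)).mp
        B.2 x
    have hpow : ∀ M : Matrix (Fin n) (Fin n) F, M ^ k = 1 → Matrix.toLin' M ^ k = 1 := by
      intro M hM
      rw [← Matrix.toLin'_pow, hM, Matrix.toLin'_one]
      rfl
    have hdA : OData Q (Matrix.toLin' MA) k := ⟨hQ, hAiso, hodd, hkF, hpow MA hAk⟩
    have hdB : OData Q (Matrix.toLin' MB) k := ⟨hQ, hBiso, hodd, hkF, hpow MB hBk⟩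
    -- the linear equivalence given by `c`
    let e : (Fin n → F) ≃ₗ[F] (Fin n → F) :=
      LinearEquiv.ofLinearMap (Matrix.toLin' (c : Matrix (Fin n) (Fin n) F))
        (Matrix.toLin' ((c⁻¹ : (Matrix (Fin n) (Fin n) F)ˣ) : Matrix (Fin n) (Fin n) F))
        (by rw [← Matrix.toLin'_mul, Units.mul_inv, Matrix.toLin'_one])
        (by rw [← Matrix.toLin'_mul, Units.inv_mul, Matrix.toLin'_one])
    have he : ∀ x, e (Matrix.toLin' MA x) = Matrix.toLin' MB (e x) := by
      intro x
      show Matrix.toLin' (c : Matrix (Fin n) (Fin n) F) (Matrix.toLin' MA x)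
        = Matrix.toLin' MB (Matrix.toLin' (c : Matrix (Fin n) (Fin n) F) x)
      rw [← LinearMap.comp_apply, ← LinearMap.comp_apply, ← Matrix.toLin'_mul, ← Matrix.toLin'_mul,
        hc']
    obtain ⟨G, hGQ, hGc⟩ := exists_isometry_conj hdA hdB e he
    -- back to matrices
    let C : Matrix (Fin n) (Fin n) F := LinearMap.toMatrix' G.toLinearMap
    let C' : Matrix (Fin n) (Fin n) F := LinearMap.toMatrix' G.symm.toLinearMap
    have hCC' : C * C' = 1 := by
      rw [← LinearMap.toMatrix'_comp]
      have : G.toLinearMap ∘ₗ G.symm.toLinearMap = LinearMap.id := by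
        apply LinearMap.ext
        intro x
        simp
      rw [this, LinearMap.toMatrix'_id]
    have hC'C : C' * C = 1 := by
      rw [← LinearMap.toMatrix'_comp]
      have : G.symm.toLinearMap ∘ₗ G.toLinearMap = LinearMap.id := by
        apply LinearMap.ext
        intro x
        simp
      rw [this, LinearMap.toMatrix'_id]
    let Cu : Matrix.GeneralLinearGroup (Fin n) F := ⟨C, C', hCC', hC'C⟩
    have hClin : Matrix.toLin' C = G.toLinearMap := Matrix.toLin'_toMatrix' _
    have hCv : ∀ x, C *ᵥ x = G x := by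
      intro x
      rw [← Matrix.toLin'_apply, hClin]
      rfl
    have hCmem : Cu ∈ Cfsg.isometryGroup F ⇑Q := by
      rw [Cfsg.Agent.Helper13.mem_isometryGroup_iff]
      intro x
      show Q (C *ᵥ x) = Q x
      rw [hCv, hGQ]
    have hCAB : C * MA = MB * C := by
      apply Matrix.toLin'.injective
      rw [Matrix.toLin'_mul, Matrix.toLin'_mul, hClin]
      apply LinearMap.ext
      intro x
      exact hGc x
    rw [isConj_iff]
    refine ⟨⟨Cu, hCmem⟩, ?_⟩
    rw [mul_inv_eq_iff_eq_mul]
    apply Subtype.ext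
    apply Units.ext
    exact hCAB

end Cfsg.Agent.S2590
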