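import Cfsg.Statements.S2591
import Cfsg.Agent.Helper43.SpRegFin

set_option autoImplicit false
open Cfsg

namespace Cfsg.Agent.S2591

open Cfsg.Agent.Helper43 Cfsg.Agent.Helper43.SpReg Module Matrix

/-- Over a finite field of odd order and for m ≥ 1, the regular unipotent elements of Sp_2m(F) (u − 1 nilpotent of rank 2m − 1, a single Jordan block) form exactly two conjugacy classes of Sp_2m(F) (one class under the similarity group, which splits in two). -/
theorem result {F : Type*} [Field F] [Fintype F] {q : ℕ} (hF : Fintype.card F = q) (hq : Odd q) {m : ℕ} (hm : 1 ≤ m) : Nat.card {C : ConjClasses ↥(Matrix.symplecticGroup (Fin m) F) // ∃ u : Matrix.symplecticGroup (Fin m) F, ConjClasses.mk u = C ∧ ((u : Matrix (Fin m ⊕ Fin m) (Fin m ⊕ Fin m) F) - 1) ^ (2 * m) = 0 ∧ ((u : Matrix (Fin m ⊕ Fin m) (Fin m ⊕ Fin m) F) - 1).rank = 2 * m - 1} = 2 := by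
  subst hF
  obtain ⟨k, rfl⟩ : ∃ k, m = k + 1 := ⟨m - 1, by omega⟩
  have hchar : ringChar F ≠ 2 := by
    intro h2
    have := FiniteField.even_card_of_char_two h2
    rw [← Nat.not_even_iff_odd] at hq
    exact hq (Nat.even_iff.mpr this)
  have h2 : (2 : F) ≠ 0 := Ring.two_ne_zero hchar
  obtain ⟨c, hc⟩ := FiniteField.exists_nonsquare hchar
  have hc0 : c ≠ 0 := by
    rintro rfl
    exact hc ⟨0, by simp⟩
  have hcard : Fintype.card (Fin (k + 1) ⊕ Fin (k + 1)) = 2 * (k + 1) := by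
    rw [Fintype.card_sum, Fintype.card_fin, two_mul]
  -- the base point
  obtain ⟨u0, hu0mem, hu0nil, hu0rank⟩ := exists_regUnip_sp F k
  have hR0 : IsRegNilp (Matrix.toLin' (u0 - 1)) :=
    isRegNilp_of_rank _ (by rw [hcard]; exact hu0nil) (by rw [hcard]; exact hu0rank)
  have hpos : 0 < finrank F (Fin (k + 1) ⊕ Fin (k + 1) → F) := by
    rw [Module.finrank_fintype_fun_eq_card, hcard]; omega
  obtain ⟨v0, hv0⟩ := hR0.exists_cyclic hpos
  have hS : SpData u0 v0 := ⟨hu0mem, ⟨hR0, hpos, hv0⟩, h2⟩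
  -- the twisted point
  set hh : Matrix (Fin (k + 1) ⊕ Fin (k + 1)) (Fin (k + 1) ⊕ Fin (k + 1)) F := simil c with hhh
  set hi : Matrix (Fin (k + 1) ⊕ Fin (k + 1)) (Fin (k + 1) ⊕ Fin (k + 1)) F := simil c⁻¹ with hhi
  have hhi1 : hi * hh = 1 := simil_inv_mul hc0
  have hhi1' : hh * hi = 1 := mul_eq_one_comm.mp hhi1
  have hhi2 : c • (adj hi * hi) = 1 := simil_hhi2 hc0
  have hu1adj : adj (hh * u0 * hi) * (hh * u0 * hi) = 1 := adj_conj_simil hS.adj_mul_self hc0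
  have hu1mem : hh * u0 * hi ∈ symplecticGroup (Fin (k + 1)) F := mem_of_adj_mul_self hu1adj
  have hu1sub : hh * u0 * hi - 1 = hh * (u0 - 1) * hi := by
    rw [mul_sub, sub_mul, mul_one, hhi1']
  have hu1 := conj_pow_rank hhi1' (2 * (k + 1)) (2 * (k + 1) - 1) hu0nil hu0rank
  rw [← hu1sub] at hu1
  let U0 : symplecticGroup (Fin (k + 1)) F := ⟨u0, hu0mem⟩
  let U1 : symplecticGroup (Fin (k + 1)) F := ⟨hh * u0 * hi, hu1mem⟩
  rw [Nat.card_eq_two_iff]
  refine ⟨⟨ConjClasses.mk U0, U0, rfl, hu0nil, hu0rank⟩,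
    ⟨ConjClasses.mk U1, U1, rfl, hu1.1, hu1.2⟩, ?_, ?_⟩
  · intro heq
    have h1 : ConjClasses.mk U0 = ConjClasses.mk U1 := congrArg Subtype.val heq
    rw [ConjClasses.mk_eq_mk_iff_isConj, isConj_iff] at h1
    obtain ⟨s, hs⟩ := h1
    rw [mul_inv_eq_iff_eq_mul] at hs
    have hs' : (s : Matrix (Fin (k + 1) ⊕ Fin (k + 1)) (Fin (k + 1) ⊕ Fin (k + 1)) F) * u0
        = (hh * u0 * hi) * (s : Matrix (Fin (k + 1) ⊕ Fin (k + 1)) (Fin (k + 1) ⊕ Fin (k + 1)) F) := by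
      have := congrArg Subtype.val hs
      simpa [U0, U1] using this
    exact hS.not_conj hc hhi1 hhi2 (adj_mul_self_of_mem s.2) hs'
  · rw [Set.eq_univ_iff_forall]
    rintro ⟨C, U', rfl, hnil', hrank'⟩
    have hR' : IsRegNilp (Matrix.toLin'
        ((U' : Matrix (Fin (k + 1) ⊕ Fin (k + 1)) (Fin (k + 1) ⊕ Fin (k + 1)) F) - 1)) :=
      isRegNilp_of_rank _ (by rw [hcard]; exact hnil') (by rw [hcard]; exact hrank')
    obtain ⟨g, gi, hggi, hg⟩ := exists_conj_mat hR0 hR'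
    have hg' : g * u0 = (U' : Matrix (Fin (k + 1) ⊕ Fin (k + 1)) (Fin (k + 1) ⊕ Fin (k + 1)) F) * g := by
      rwa [commute_sub_one_iff'] at hg
    obtain ⟨s, hs1, hs2⟩ := hS.conj_cases hc hhi1 hhi2 (adj_mul_self_of_mem U'.2) hg' hggi
    let Ss : symplecticGroup (Fin (k + 1)) F := ⟨s, mem_of_adj_mul_self hs1⟩
    rcases hs2 with hs2 | hs2
    · left
      apply Subtype.ext
      show ConjClasses.mk U' = ConjClasses.mk U0
      rw [ConjClasses.mk_eq_mk_iff_isConj, isConj_comm, isConj_iff]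
      refine ⟨Ss, ?_⟩
      rw [mul_inv_eq_iff_eq_mul]
      apply Subtype.ext
      exact hs2
    · right
      apply Subtype.ext
      show ConjClasses.mk U' = ConjClasses.mk U1
      rw [ConjClasses.mk_eq_mk_iff_isConj, isConj_comm, isConj_iff]
      refine ⟨Ss, ?_⟩
      rw [mul_inv_eq_iff_eq_mul]
      apply Subtype.ext
      exact hs2

end Cfsg.Agent.S2591
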