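import Cfsg.Statements.S2594
import Cfsg.Agent.Helper13.SpFrames
import Cfsg.Agent.Helper13.SympTrans
import Cfsg.Agent.Helper13.SpTorus
import Cfsg.Agent.Helper5.SpCard

set_option autoImplicit false
open Cfsg

namespace Cfsg.Agent.S2594

open Matrix Cfsg.Agent.Helper13

variable {F : Type*} [Field F] {m : ℕ}

/-- a symplectic matrix `t` with `rank (t - 1) = 1` is a transvection -/
theorem exists_transvection_form (t : Matrix.symplecticGroup (Fin m) F)
    (ht : ((t : Matrix (Fin m ⊕ Fin m) (Fin m ⊕ Fin m) F) - 1).rank = 1) :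
    ∃ (u : Fin m ⊕ Fin m → F) (a : F), u ≠ 0 ∧ a ≠ 0 ∧ ∀ x,
      (t : Matrix (Fin m ⊕ Fin m) (Fin m ⊕ Fin m) F) *ᵥ x =
        x + (a * Cfsg.sympForm m F x u) • u := by
  set A : Matrix (Fin m ⊕ Fin m) (Fin m ⊕ Fin m) F :=
    (t : Matrix (Fin m ⊕ Fin m) (Fin m ⊕ Fin m) F) - 1 with hA
  have hr : Module.finrank F (LinearMap.range A.mulVecLin) = 1 := ht
  obtain ⟨⟨u, hu⟩, hu0, hspan⟩ := finrank_eq_one_iff'.mp hr
  have hu0' : u ≠ 0 := fun h => hu0 (Subtype.ext h)
  have hφ : ∀ x, ∃ c : F, A *ᵥ x = c • u := by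
    intro x
    obtain ⟨c, hc⟩ := hspan ⟨A *ᵥ x, ⟨x, rfl⟩⟩
    refine ⟨c, ?_⟩
    have := congrArg Subtype.val hc
    simpa using this.symm
  choose φ hφ using hφ
  have htx : ∀ x, (t : Matrix (Fin m ⊕ Fin m) (Fin m ⊕ Fin m) F) *ᵥ x = x + φ x • u := by
    intro x
    rw [← hφ x, hA, Matrix.sub_mulVec, Matrix.one_mulVec]
    abel
  have hpres := (mem_symplecticGroup_iff_preserves _).mp t.2
  have hkey : ∀ x y, φ y * Cfsg.sympForm m F x u = φ x * Cfsg.sympForm m F y u := by
    intro x y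
    have h1 := hpres x y
    rw [htx x, htx y] at h1
    simp only [sympForm_add_left, sympForm_add_right, sympForm_smul_left, sympForm_smul_right,
      sympForm_self, mul_zero, add_zero] at h1
    have h2 := sympForm_swap (m := m) (F := F) u y
    linear_combination h1 - φ x * h2
  -- `t ≠ 1`
  obtain ⟨y₀, hy₀⟩ : ∃ y, φ y ≠ 0 := by
    by_contra hcon
    push Not at hcon
    have hA0 : A = 0 := by
      apply matrix_eq_of_mulVec
      intro x
      rw [hφ x, hcon x, zero_smul, Matrix.zero_mulVec]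
    rw [hA0, Matrix.rank_zero] at ht
    exact zero_ne_one ht
  have hf0 : Cfsg.sympForm m F y₀ u ≠ 0 := by
    intro h0
    obtain ⟨x, hx⟩ := sympForm_nondeg_left hu0'
    have := hkey x y₀
    rw [h0, mul_zero] at this
    exact hx ((mul_eq_zero.mp this).resolve_left hy₀)
  refine ⟨u, φ y₀ / Cfsg.sympForm m F y₀ u, hu0', div_ne_zero hy₀ hf0, ?_⟩
  intro x
  rw [htx x]
  congr 2
  have := hkey x y₀
  field_simp
  linear_combination -this

/-- in characteristic two the centraliser of a transvection is the stabiliser of its centre -/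
theorem commute_iff_fix [CharP F 2] (t g : Matrix.symplecticGroup (Fin m) F)
    (u : Fin m ⊕ Fin m → F) (a : F) (hu : u ≠ 0) (ha : a ≠ 0)
    (htx : ∀ x, (t : Matrix (Fin m ⊕ Fin m) (Fin m ⊕ Fin m) F) *ᵥ x =
        x + (a * Cfsg.sympForm m F x u) • u) :
    t * g = g * t ↔ (g : Matrix (Fin m ⊕ Fin m) (Fin m ⊕ Fin m) F) *ᵥ u = u := by
  have hpres := (mem_symplecticGroup_iff_preserves _).mp g.2
  constructor
  · intro h
    have hM : (t : Matrix (Fin m ⊕ Fin m) (Fin m ⊕ Fin m) F) *
        (g : Matrix (Fin m ⊕ Fin m) (Fin m ⊕ Fin m) F) =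
        (g : Matrix (Fin m ⊕ Fin m) (Fin m ⊕ Fin m) F) *
        (t : Matrix (Fin m ⊕ Fin m) (Fin m ⊕ Fin m) F) := by
      have := congrArg Subtype.val h
      rw [Submonoid.coe_mul, Submonoid.coe_mul] at this
      exact this
    have hx : ∀ x, Cfsg.sympForm m F ((g : Matrix (Fin m ⊕ Fin m) (Fin m ⊕ Fin m) F) *ᵥ x) u • u =
        Cfsg.sympForm m F x u • ((g : Matrix (Fin m ⊕ Fin m) (Fin m ⊕ Fin m) F) *ᵥ u) := by
      intro x
      have h1 := congrArg (fun M : Matrix (Fin m ⊕ Fin m) (Fin m ⊕ Fin m) F => M *ᵥ x) hM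
      simp only [← Matrix.mulVec_mulVec] at h1
      rw [htx, htx, Matrix.mulVec_add, Matrix.mulVec_smul] at h1
      have h2 := add_left_cancel h1
      rw [mul_smul, mul_smul] at h2
      have h3 := smul_right_injective _ ha h2
      exact h3
    obtain ⟨x₀, hx₀⟩ := sympForm_nondeg_left hu
    set gu := (g : Matrix (Fin m ⊕ Fin m) (Fin m ⊕ Fin m) F) *ᵥ u with hgu
    set l := Cfsg.sympForm m F ((g : Matrix (Fin m ⊕ Fin m) (Fin m ⊕ Fin m) F) *ᵥ x₀) u /
      Cfsg.sympForm m F x₀ u with hl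
    have h1 : gu = l • u := by
      have := hx x₀
      rw [hl, div_eq_inv_mul, mul_smul, this, smul_smul, inv_mul_cancel₀ hx₀, one_smul]
    have hgu0 : gu ≠ 0 := by
      intro h0
      apply hu
      apply sp_mulVec_injective g
      show (g : Matrix (Fin m ⊕ Fin m) (Fin m ⊕ Fin m) F) *ᵥ u =
        (g : Matrix (Fin m ⊕ Fin m) (Fin m ⊕ Fin m) F) *ᵥ 0
      rw [Matrix.mulVec_zero]
      exact h0
    have hl0 : l ≠ 0 := by
      intro h0
      rw [h0, zero_smul] at h1
      exact hgu0 h1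
    -- `f(g x₀, u) = l⁻¹ f(x₀, u)`
    have h2 : Cfsg.sympForm m F ((g : Matrix (Fin m ⊕ Fin m) (Fin m ⊕ Fin m) F) *ᵥ x₀) u =
        l⁻¹ * Cfsg.sympForm m F x₀ u := by
      have h3 : u = l⁻¹ • gu := by
        rw [h1, smul_smul, inv_mul_cancel₀ hl0, one_smul]
      conv_lhs => rw [h3]
      rw [sympForm_smul_right, hgu, hpres]
    have h4 : l * l = 1 := by
      have h5 : l * Cfsg.sympForm m F x₀ u = l⁻¹ * Cfsg.sympForm m F x₀ u := by
        rw [← h2, hl, div_mul_cancel₀ _ hx₀]
      have h6 := mul_right_cancel₀ hx₀ h5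
      calc l * l = l * l⁻¹ := by rw [← h6]
        _ = 1 := mul_inv_cancel₀ hl0
    have h5 : (l - 1) * (l - 1) = 0 := by
      have h2' : (2 : F) = 0 := CharTwo.two_eq_zero
      linear_combination h4 + (1 - l) * h2'
    have h6 : l = 1 := by
      have := mul_self_eq_zero.mp h5
      exact sub_eq_zero.mp this
    rw [h1, h6, one_smul]
  · intro h
    apply Subtype.ext
    rw [Submonoid.coe_mul, Submonoid.coe_mul]
    apply matrix_eq_of_mulVec
    intro x
    rw [← Matrix.mulVec_mulVec, ← Matrix.mulVec_mulVec, htx, htx, Matrix.mulVec_add,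
      Matrix.mulVec_smul, h]
    congr 3
    conv_lhs => rw [← h]
    rw [hpres]

/-- Over a finite field with q elements, q even, an element t of Sp_2m(F) with rank(t − 1) = 1 (a symplectic transvection) has centraliser in Sp_2m(F) of order q^(2m−1) · |Sp_(2m−2)(q)| = q^(2m−1) · q^((m−1)²) · Π_(i=1)^(m−1) (q^(2i) − 1). -/
theorem result {F : Type*} [Field F] [Fintype F] [CharP F 2] {q : ℕ} (hF : Fintype.card F = q) {m : ℕ} (hm : 1 ≤ m) (t : Matrix.symplecticGroup (Fin m) F) (ht : ((t : Matrix (Fin m ⊕ Fin m) (Fin m ⊕ Fin m) F) - 1).rank = 1) : Nat.card ↥(Subgroup.centralizer ({t} : Set ↥(Matrix.symplecticGroup (Fin m) F))) = q ^ (2 * m - 1) * (q ^ ((m - 1) ^ 2) * ∏ i : Fin (m - 1), (q ^ (2 * ((i : ℕ) + 1)) - 1)) := by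
  classical
  subst hF
  obtain ⟨u, a, hu, ha, htx⟩ := exists_transvection_form t ht
  have hfinSp : Finite (Matrix.symplecticGroup (Fin m) F) :=
    Finite.of_injective (fun g => g.1) Subtype.val_injective
  -- the frame `(u)`
  have heti : IsTIFrame m (fun _ : Fin 1 => u) := by
    constructor
    · rw [Fintype.linearIndependent_iff]
      intro c hc i
      have hi : i = 0 := Subsingleton.elim _ _
      subst hi
      simp only [Fin.sum_univ_one] at hc
      exact (smul_eq_zero.mp hc).resolve_right hu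
    · intro i j
      exact sympForm_self u
  set e : TIFrames F m 1 := ⟨fun _ => u, heti⟩ with he
  have h1 : Nat.card ↥(Subgroup.centralizer ({t} : Set ↥(Matrix.symplecticGroup (Fin m) F))) =
      Nat.card {g : Matrix.symplecticGroup (Fin m) F // frameMap e g = e} := by
    refine Nat.card_congr (Equiv.subtypeEquivRight ?_)
    intro g
    rw [Subgroup.mem_centralizer_iff]
    constructor
    · intro h
      have h2 := (commute_iff_fix t g u a hu ha htx).mp (h t rfl)
      apply Subtype.ext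
      funext i
      exact h2
    · intro h x hx
      rw [Set.mem_singleton_iff] at hx
      subst hx
      apply (commute_iff_fix x g u a hu ha htx).mpr
      have := congrArg (fun f : TIFrames F m 1 => f.1 0) h
      exact this
  have h4 : Nat.card (Matrix.symplecticGroup (Fin m) F) = Nat.card (TIFrames F m 1) *
      Nat.card {g : Matrix.symplecticGroup (Fin m) F // frameMap e g = e} := by
    have hfin : Finite (Fin 1 → (Fin m ⊕ Fin m → F)) := inferInstance
    apply card_eq_mul_of_fibers (frameMap e)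
    intro f
    exact card_frameMap_fiber e f
  rw [Cfsg.Agent.Helper5.card_sp, card_TIFrames, Finset.prod_range_one, pow_zero,
    Nat.sub_zero] at h4
  rw [h1]
  set c := Nat.card {g : Matrix.symplecticGroup (Fin m) F // frameMap e g = e} with hc
  obtain ⟨k, rfl⟩ : ∃ k, m = k + 1 := ⟨m - 1, by omega⟩
  have hq : 2 ≤ Fintype.card F := Fintype.one_lt_card
  have hpos : 0 < Fintype.card F ^ (2 * (k + 1)) - 1 := by
    have : 2 ≤ Fintype.card F ^ (2 * (k + 1)) := by
      calc 2 ≤ Fintype.card F := hq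
        _ = Fintype.card F ^ 1 := (pow_one _).symm
        _ ≤ Fintype.card F ^ (2 * (k + 1)) := Nat.pow_le_pow_right (by omega) (by omega)
    omega
  apply Nat.eq_of_mul_eq_mul_left hpos
  rw [← h4, Finset.prod_range_succ, Nat.add_sub_cancel, Fin.prod_univ_eq_prod_range
    (fun i => Fintype.card F ^ (2 * (i + 1)) - 1) k]
  have h5 : (k + 1) ^ 2 = (2 * (k + 1) - 1) + k ^ 2 := by
    have : 2 * (k + 1) - 1 = 2 * k + 1 := by omega
    rw [this]
    ring
  rw [h5, pow_add]
  ring

end Cfsg.Agent.S2594
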