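import Cfsg.Statements.S2599

set_option autoImplicit false
open Cfsg

namespace Cfsg.Agent.S2599

/-- An irreducible invariant subspace of a semisimple isometry is non-degenerate or totally singular: let Q be a quadratic form on F^n (F finite of characteristic p) with non-degenerate polar form f, x an isometry of Q of order prime to p, and U a non-zero x-invariant subspace containing no x-invariant subspace other than 0 and U. Then U meets its f-orthogonal trivially, or Q vanishes on U, or p = 2, U is a line spanned by a non-singular vector and x fixes U pointwise. -/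
theorem result {F : Type*} [Field F] [Fintype F] {p : ℕ} [Fact p.Prime] [CharP F p] {n : ℕ} (Q : QuadraticForm F (Fin n → F)) (hQ : (QuadraticMap.polarBilin Q).Nondegenerate) (x : ↥(Cfsg.isometryGroup F ⇑Q)) (hx : (orderOf x).Coprime p) (U : Submodule F (Fin n → F)) (hU0 : U ≠ ⊥) (hUx : ∀ u ∈ U, ((x : Matrix.GeneralLinearGroup (Fin n) F) : Matrix (Fin n) (Fin n) F).mulVec u ∈ U) (hirr : ∀ W : Submodule F (Fin n → F), W ≤ U → (∀ w ∈ W, ((x : Matrix.GeneralLinearGroup (Fin n) F) : Matrix (Fin n) (Fin n) F).mulVec w ∈ W) → W = ⊥ ∨ W = U) : U ⊓ LinearMap.BilinForm.orthogonal (QuadraticMap.polarBilin Q) U = ⊥ ∨ (∀ u ∈ U, Q u = 0) ∨ (p = 2 ∧ Module.finrank F U = 1 ∧ (∃ u ∈ U, Q u ≠ 0) ∧ ∀ u ∈ U, ((x : Matrix.GeneralLinearGroup (Fin n) F) : Matrix (Fin n) (Fin n) F).mulVec u = u) := by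
  set X : Matrix (Fin n) (Fin n) F := ((x : Matrix.GeneralLinearGroup (Fin n) F) : Matrix (Fin n) (Fin n) F) with hX
  -- X preserves Q
  have hXQ : ∀ u, Q (X.mulVec u) = Q u := by
    intro u
    have := x.2 u u
    exact this
  have hXB : ∀ u v, QuadraticMap.polar Q (X.mulVec u) (X.mulVec v) = QuadraticMap.polar Q u v := by
    intro u v
    unfold QuadraticMap.polar
    rw [← Matrix.mulVec_add, hXQ, hXQ, hXQ]
  -- X is injective, hence maps U onto U
  have hXinj : Function.Injective (Matrix.mulVecLin X) := by
    have hu : IsUnit X := ⟨(x : Matrix.GeneralLinearGroup (Fin n) F), rfl⟩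
    exact Matrix.mulVec_injective_iff_isUnit.mpr hu
  have hmap : U.map (Matrix.mulVecLin X) = U := by
    apply Submodule.eq_of_le_of_finrank_le
    · rintro _ ⟨w, hw, rfl⟩
      exact hUx w hw
    · rw [← LinearEquiv.finrank_eq (Submodule.equivMapOfInjective _ hXinj U)]
  -- the radical of U is invariant
  have hrad := hirr (U ⊓ LinearMap.BilinForm.orthogonal (QuadraticMap.polarBilin Q) U) inf_le_left ?_
  swap
  · intro w hw
    refine ⟨hUx w hw.1, ?_⟩
    show X.mulVec w ∈ LinearMap.BilinForm.orthogonal (QuadraticMap.polarBilin Q) U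
    rw [LinearMap.BilinForm.mem_orthogonal_iff]
    intro u hu
    have hu' : u ∈ U.map (Matrix.mulVecLin X) := by rw [hmap]; exact hu
    obtain ⟨u', hu'U, rfl⟩ := hu'
    have h2 := (LinearMap.BilinForm.mem_orthogonal_iff.mp hw.2) u' hu'U
    show QuadraticMap.polarBilin Q (X.mulVec u') (X.mulVec w) = 0
    rw [QuadraticMap.polarBilin_apply_apply, hXB]
    exact h2
  rcases hrad with hrad | hrad
  · left; exact hrad
  right
  -- now the polar form vanishes on U
  have hB0 : ∀ u ∈ U, ∀ v ∈ U, QuadraticMap.polar Q u v = 0 := by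
    intro u hu v hv
    have : v ∈ U ⊓ LinearMap.BilinForm.orthogonal (QuadraticMap.polarBilin Q) U := by
      rw [hrad]; exact hv
    exact (LinearMap.BilinForm.mem_orthogonal_iff.mp this.2) u hu
  have hQadd : ∀ u ∈ U, ∀ v ∈ U, Q (u + v) = Q u + Q v := by
    intro u hu v hv
    have := hB0 u hu v hv
    unfold QuadraticMap.polar at this
    linear_combination this
  -- the singular vectors of U form an invariant subspace
  let W1 : Submodule F (Fin n → F) :=
    { carrier := {u | u ∈ U ∧ Q u = 0}
      add_mem' := by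
        rintro a b ⟨haU, ha⟩ ⟨hbU, hb⟩
        refine ⟨U.add_mem haU hbU, ?_⟩
        rw [hQadd a haU b hbU, ha, hb, add_zero]
      zero_mem' := ⟨U.zero_mem, by simp⟩
      smul_mem' := by
        rintro c a ⟨haU, ha⟩
        refine ⟨U.smul_mem c haU, ?_⟩
        rw [QuadraticMap.map_smul, ha, smul_zero] }
  have hW1 := hirr W1 (fun u hu => hu.1) (fun w hw => ⟨hUx w hw.1, by rw [hXQ]; exact hw.2⟩)
  rcases hW1 with hW1 | hW1
  swap
  · left
    intro u hu
    have : u ∈ W1 := by rw [hW1]; exact hu
    exact this.2
  -- W1 = ⊥ : Q is anisotropic on U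
  have haniso : ∀ u ∈ U, Q u = 0 → u = 0 := by
    intro u hu h
    have : u ∈ W1 := ⟨hu, h⟩
    rw [hW1] at this
    exact (Submodule.mem_bot F).mp this
  by_cases hp2 : p = 2
  swap
  · -- odd characteristic: Q u = polar u u / 2 = 0
    left
    intro u hu
    have h1 := hB0 u hu u hu
    rw [QuadraticMap.polar_self] at h1
    have h2 : (2 : F) ≠ 0 := by
      intro h
      have : ((2 : ℕ) : F) = 0 := by exact_mod_cast h
      rw [CharP.cast_eq_zero_iff F p] at this
      have hp := (Fact.out : p.Prime)
      have := (Nat.prime_dvd_prime_iff_eq hp Nat.prime_two).mp this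
      exact hp2 this
    rw [two_smul, ← two_mul] at h1
    exact (mul_eq_zero.mp h1).resolve_left h2
  · right
    subst hp2
    have h2 : (2 : F) = 0 := CharTwo.two_eq_zero
    have hQneg : ∀ u, Q (-u) = Q u := fun u => QuadraticMap.map_neg Q u
    -- a nonzero vector of U
    obtain ⟨u0, hu0U, hu0⟩ := (Submodule.ne_bot_iff U).mp hU0
    have hQu0 : Q u0 ≠ 0 := fun h => hu0 (haniso u0 hu0U h)
    refine ⟨rfl, ?_, ⟨u0, hu0U, hQu0⟩, ?_⟩
    · -- U is spanned by u0
      have hspan : U = Submodule.span F {u0} := by
        apply le_antisymm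
        · intro u hu
          -- c with c^2 = Q u / Q u0
          obtain ⟨c, hc⟩ : ∃ c : F, c ^ 2 = Q u / Q u0 := by
            have := (frobeniusEquiv F 2).surjective (Q u / Q u0)
            obtain ⟨c, hc⟩ := this
            exact ⟨c, by rw [← hc, frobeniusEquiv_apply, frobenius_def]⟩
          have hmem : u + (-(c • u0)) ∈ U := U.add_mem hu (U.neg_mem (U.smul_mem c hu0U))
          have hz : Q (u + (-(c • u0))) = 0 := by
            rw [hQadd u hu _ (U.neg_mem (U.smul_mem c hu0U)), hQneg, QuadraticMap.map_smul, smul_eq_mul,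
              ← pow_two, hc, div_mul_cancel₀ _ hQu0]
            linear_combination (Q u) * h2
          have := haniso _ hmem hz
          rw [Submodule.mem_span_singleton]
          refine ⟨c, ?_⟩
          have h3 : u = c • u0 := by
            have := add_neg_eq_zero.mp this
            exact this
          exact h3.symm
        · rw [Submodule.span_le]
          intro v hv
          rw [Set.mem_singleton_iff] at hv
          rw [hv]; exact hu0U
      rw [hspan]
      exact finrank_span_singleton hu0
    · intro u hu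
      have hmem : X.mulVec u + (-u) ∈ U := U.add_mem (hUx u hu) (U.neg_mem hu)
      have hz : Q (X.mulVec u + (-u)) = 0 := by
        rw [hQadd _ (hUx u hu) _ (U.neg_mem hu), hQneg, hXQ]
        linear_combination (Q u) * h2
      have := haniso _ hmem hz
      exact add_neg_eq_zero.mp this

end Cfsg.Agent.S2599
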