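import Cfsg.Statements.S2612
import Cfsg.Agent.Helper44.SwapOmega
import Cfsg.Agent.Helper44.Dickson

set_option autoImplicit false
open Cfsg

namespace Cfsg.Agent.S2612

/-- For the hyperbolic quadratic form Σ x_i y_i on F^(2m) (F finite, m ≥ 1, excluding m = 2 over the field of two elements), Ω⁺_2m(F) (the commutator subgroup of the orthogonal group) contains an element interchanging the two complementary maximal totally singular subspaces {y = 0} and {x = 0} if and only if m is even (dimension divisible by 4). -/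
theorem result {F : Type*} [Field F] [Fintype F] {m : ℕ} (hm : 1 ≤ m) (h : Fintype.card F ≠ 2 ∨ m ≠ 2) : (∃ g : ↥(Cfsg.isometryGroup F (Cfsg.quadFormPlus m F)), g ∈ Cfsg.Omega F (Cfsg.quadFormPlus m F) ∧ (∀ v : Fin m ⊕ Fin m → F, (∀ i, v (Sum.inr i) = 0) → ∀ i, (((g : Matrix.GeneralLinearGroup (Fin m ⊕ Fin m) F) : Matrix (Fin m ⊕ Fin m) (Fin m ⊕ Fin m) F).mulVec v) (Sum.inl i) = 0) ∧ (∀ v : Fin m ⊕ Fin m → F, (∀ i, v (Sum.inl i) = 0) → ∀ i, (((g : Matrix.GeneralLinearGroup (Fin m ⊕ Fin m) F) : Matrix (Fin m ⊕ Fin m) (Fin m ⊕ Fin m) F).mulVec v) (Sum.inr i) = 0)) ↔ Even m := by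
  constructor
  · rintro ⟨g, hg, hc1, hc2⟩
    set M : Matrix (Fin m ⊕ Fin m) (Fin m ⊕ Fin m) F :=
      ((g : Matrix.GeneralLinearGroup (Fin m ⊕ Fin m) F) : Matrix (Fin m ⊕ Fin m) (Fin m ⊕ Fin m) F)
      with hM
    have hA : M.toBlocks₁₁ = 0 := by
      ext i j
      have := hc1 (Pi.single (Sum.inl j) 1) (by intro k; simp) i
      rw [Matrix.mulVec_single_one] at this
      exact this
    have hD : M.toBlocks₂₂ = 0 := by
      ext i j
      have := hc2 (Pi.single (Sum.inr j) 1) (by intro k; simp) i
      rw [Matrix.mulVec_single_one] at this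
      exact this
    have hrel := Cfsg.Agent.Helper44.plusRel_of_isometry M (Cfsg.Agent.Helper44.isometryGroup_apply g)
    have h3 := hrel.r3
    rw [hA, Matrix.transpose_zero, Matrix.zero_mul, add_zero] at h3
    by_cases h2 : (2 : F) = 0
    · -- characteristic two: Dickson invariant
      haveI : CharP F 2 := CharTwo.of_one_ne_zero_of_two_eq_zero one_ne_zero h2
      have hd := Cfsg.Agent.Helper44.dicksonMat_eq_zero_of_mem_Omega hg
      unfold Cfsg.Agent.Helper44.dicksonMat at hd
      rw [← Matrix.trace_transpose, Matrix.transpose_mul, Matrix.transpose_transpose, h3,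
        Matrix.trace_one, Fintype.card_fin] at hd
      have := (CharP.cast_eq_zero_iff F 2 m).1 hd
      exact even_iff_two_dvd.2 this
    · -- odd characteristic: determinant
      have hdet := Cfsg.Agent.Helper44.hom_eq_one_of_mem_Omega
        (Cfsg.Agent.Helper44.detHom (Cfsg.quadFormPlus m F)) hg
      have hdet' : M.det = 1 := congrArg Units.val hdet
      have hMb : M = Matrix.fromBlocks M.toBlocks₁₂ 0 0 M.toBlocks₂₁ * Matrix.fromBlocks 0 1 1 0 := by
        conv_lhs => rw [(Matrix.fromBlocks_toBlocks M).symm, hA, hD]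
        rw [Matrix.fromBlocks_multiply]
        simp
      rw [hMb, Matrix.det_mul, Matrix.det_fromBlocks_zero₂₁, Cfsg.Agent.Helper44.det_antidiag_one,
        Fintype.card_fin] at hdet'
      have h4 : M.toBlocks₁₂.det * M.toBlocks₂₁.det = 1 := by
        have := congrArg Matrix.det h3
        rw [Matrix.det_mul, Matrix.det_transpose, Matrix.det_one] at this
        rw [mul_comm]
        exact this
      rw [h4, one_mul] at hdet'
      have hne : (-1 : F) ≠ 1 := by
        intro h
        apply h2
        have : (2 : F) = 1 - (-1) := by ring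
        rw [this, h, sub_self]
      exact (neg_one_pow_eq_one_iff_even hne).1 hdet'
  · intro hm'
    refine ⟨Cfsg.Agent.Helper44.swapIso m F, Cfsg.Agent.Helper44.swapIso_mem_Omega hm', ?_, ?_⟩
    · intro v hv i
      show (Cfsg.Agent.Helper44.swapMat m F).mulVec v (Sum.inl i) = 0
      rw [Cfsg.Agent.Helper44.swapMat_mulVec]
      exact hv i
    · intro v hv i
      show (Cfsg.Agent.Helper44.swapMat m F).mulVec v (Sum.inr i) = 0
      rw [Cfsg.Agent.Helper44.swapMat_mulVec]
      exact hv i

end Cfsg.Agent.S2612
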