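-- Statement S2616: standard bases of a non-degenerate quadratic space of even dimension over a finite field.
import Cfsg.Statements.S2616
import Cfsg.Agent.Helper44.AnisoPlane

set_option autoImplicit false
open Cfsg

namespace Cfsg.Agent.S2616

open QuadraticMap

/-- Standard bases of a non-degenerate quadratic space of even dimension 2m over a finite field. -/
theorem result {F V : Type*} [Field F] [Finite F] [AddCommGroup V] [Module F V] [FiniteDimensional F V] {m : ℕ} (hm : 1 ≤ m) (hV : Module.finrank F V = 2 * m) (Q : QuadraticForm F V) (hQ : (QuadraticMap.polarBilin Q).Nondegenerate) : (∃ b : Module.Basis (Fin m ⊕ Fin m) F V, (∀ i, Q (b (Sum.inl i)) = 0 ∧ Q (b (Sum.inr i)) = 0) ∧ (∀ i j, QuadraticMap.polar ⇑Q (b (Sum.inl i)) (b (Sum.inr j)) = if i = j then 1 else 0) ∧ (∀ i j, QuadraticMap.polar ⇑Q (b (Sum.inl i)) (b (Sum.inl j)) = 0 ∧ QuadraticMap.polar ⇑Q (b (Sum.inr i)) (b (Sum.inr j)) = 0)) ∨ (∃ (b : Module.Basis ((Fin (m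 - 1) ⊕ Fin (m - 1)) ⊕ Fin 2) F V) (ζ : F), (∀ t : F, t ^ 2 + t + ζ ≠ 0) ∧ (∀ i, Q (b (Sum.inl (Sum.inl i))) = 0 ∧ Q (b (Sum.inl (Sum.inr i))) = 0) ∧ (∀ i j, QuadraticMap.polar ⇑Q (b (Sum.inl (Sum.inl i))) (b (Sum.inl (Sum.inr j))) = if i = j then 1 else 0) ∧ (∀ i j, QuadraticMap.polar ⇑Q (b (Sum.inl (Sum.inl i))) (b (Sum.inl (Sum.inl j))) = 0 ∧ QuadraticMap.polar ⇑Q (b (Sum.inl (Sum.inr i))) (b (Sum.inl (Sum.inr j))) = 0) ∧ (∀ i (k : Fin 2), QuadraticMap.polar ⇑Q (b (Sum.inl (Sum.inl i))) (b (Sum.inr k)) = 0 ∧ QuadraticMap.polar ⇑Q (b (Sum.inl (Sum.inr i))) (b (Sum.inr k)) = 0) ∧ Q (b (Sum.inr 0)) = 1 ∧ QuadraticMap.polar ⇑Q (b (Sum.inr 0)) (b (Sum.inr 1)) = 1 ∧ Q (b (Sum.inr 1)) = ζ) := by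
  classical
  have : Fintype F := Fintype.ofFinite F
  have hnd : ∀ x : V, (∀ y, polar Q x y = 0) → x = 0 := by
    intro x hx
    apply hQ.1 x
    intro y
    rw [polarBilin_apply_apply]
    exact hx y
  obtain ⟨k, d, e, f, r, hkd, hd, hdata, hnr⟩ := Helper44.exists_wittData (2 * m) Q hV hnd
  have hd02 : d = 0 ∨ d = 2 := by omega
  rcases hd02 with rfl | rfl
  · -- hyperbolic
    left
    obtain rfl : k = m := by omega
    obtain ⟨b0, hb0⟩ := hdata.exists_basis (by omega)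
    refine ⟨b0.reindex (Equiv.sumEmpty (Fin k ⊕ Fin k) (Fin 0)), ?_⟩
    have h2 : ∀ i, (b0.reindex (Equiv.sumEmpty (Fin k ⊕ Fin k) (Fin 0))) (Sum.inl i) = e i := by
      intro i
      rw [Module.Basis.reindex_apply, hb0]; rfl
    have h3 : ∀ i, (b0.reindex (Equiv.sumEmpty (Fin k ⊕ Fin k) (Fin 0))) (Sum.inr i) = f i := by
      intro i
      rw [Module.Basis.reindex_apply, hb0]; rfl
    simp only [h2, h3]
    exact ⟨hdata.sing, hdata.pair, fun i j => ⟨hdata.ee i j, hdata.ff i j⟩⟩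
  · -- elliptic
    right
    obtain rfl : k = m - 1 := by omega
    obtain ⟨p, u, hx1, hxy, hirr, haniso⟩ := Helper44.exists_aniso_normal_form Q r hdata.aniso hnr
    obtain ⟨x, hx⟩ : ∃ x : V, x = ∑ j, p j • r j := ⟨_, rfl⟩
    obtain ⟨y, hy⟩ : ∃ y : V, y = ∑ j, u j • r j := ⟨_, rfl⟩
    rw [← hx] at hx1 hxy haniso
    rw [← hy] at hxy haniso hirr
    have hex : ∀ i, polar Q (e i) x = 0 := by
      intro i; rw [hx, Helper44.polar_sum_smul_right]; simp [hdata.er]
    have hey : ∀ i, polar Q (e i) y = 0 := by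
      intro i; rw [hy, Helper44.polar_sum_smul_right]; simp [hdata.er]
    have hfx : ∀ i, polar Q (f i) x = 0 := by
      intro i; rw [hx, Helper44.polar_sum_smul_right]; simp [hdata.fr]
    have hfy : ∀ i, polar Q (f i) y = 0 := by
      intro i; rw [hy, Helper44.polar_sum_smul_right]; simp [hdata.fr]
    have hdata' : Helper44.WittData Q e f ![x, y] := by
      refine ⟨hdata.sing, hdata.pair, hdata.ee, hdata.ff, ?_, ?_, ?_⟩
      · intro i j
        fin_cases j
        · exact hex i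
        · exact hey i
      · intro i j
        fin_cases j
        · exact hfx i
        · exact hfy i
      · intro c hc
        apply haniso
        rw [Fin.sum_univ_two] at hc
        simpa using hc
    obtain ⟨b, hb⟩ := hdata'.exists_basis (by omega)
    refine ⟨b, Q y, hirr, ?_⟩
    have h1 : ∀ i, b (Sum.inl (Sum.inl i)) = e i := fun i => by rw [hb]; rfl
    have h2 : ∀ i, b (Sum.inl (Sum.inr i)) = f i := fun i => by rw [hb]; rfl
    have h3 : b (Sum.inr 0) = x := by rw [hb]; rfl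
    have h4 : b (Sum.inr 1) = y := by rw [hb]; rfl
    have h5 : ∀ j : Fin 2, b (Sum.inr j) = ![x, y] j := fun j => by rw [hb]; rfl
    simp only [h1, h2, h3, h4]
    refine ⟨hdata.sing, hdata.pair, fun i j => ⟨hdata.ee i j, hdata.ff i j⟩, ?_, hx1, hxy, trivial⟩
    intro i j
    rw [h5]
    exact ⟨hdata'.er i j, hdata'.fr i j⟩

end Cfsg.Agent.S2616
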