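-- Statement S2617: hyperbolic and elliptic forms are not isometric (count singular vectors).
import Cfsg.Statements.S2617
import Cfsg.Agent.Helper44.ZeroCount

set_option autoImplicit false
open Cfsg

namespace Cfsg.Agent.S2617

open Matrix

section

variable {F : Type*} [Field F] [Fintype F] [DecidableEq F]

/-- the zero set of the hyperbolic form, in product coordinates -/
def plusEquiv (m : ℕ) : (Fin m ⊕ Fin m → F) ≃ ((Fin m → F) × Unit) × (Fin m → F) where
  toFun v := ((v ∘ Sum.inl, ()), v ∘ Sum.inr)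
  invFun p := Sum.elim p.1.1 p.2
  left_inv v := by
    funext i
    cases i <;> rfl
  right_inv p := rfl

theorem card_plus (m : ℕ) :
    Fintype.card {v : Fin m ⊕ Fin m → F // quadFormPlus m F v = 0} * Fintype.card F
      = Fintype.card F ^ (m + 1) + (Fintype.card F ^ m - 1) * Fintype.card F ^ m := by
  have e : Fintype.card {v : Fin m ⊕ Fin m → F // quadFormPlus m F v = 0}
      = Fintype.card {p : ((Fin m → F) × Unit) × (Fin m → F) // p.1.1 ⬝ᵥ p.2 + (fun _ : Unit => (0 : F)) p.1.2 = 0} := by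
    refine Fintype.card_congr ((plusEquiv m).subtypeEquiv ?_)
    intro v
    simp only [plusEquiv, add_zero]
    rfl
  have key := Helper44.card_zeros_dot_add (F := F) (ι := Fin m) (fun _ : Unit => (0 : F))
  rw [e, key]
  have : Fintype.card {z : Unit // (fun _ : Unit => (0 : F)) z = 0} = 1 := by
    rw [Fintype.card_eq_one_iff]
    exact ⟨⟨(), rfl⟩, fun _ => rfl⟩
  rw [this]
  simp

/-- the zero set of the elliptic form, in product coordinates -/
def minusEquiv (k : ℕ) :
    ((Fin k ⊕ Fin k) ⊕ Fin 2 → F) ≃ ((Fin k → F) × (Fin 2 → F)) × (Fin k → F) where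
  toFun w := ((fun i => w (.inl (.inl i)), fun j => w (.inr j)), fun i => w (.inl (.inr i)))
  invFun p := Sum.elim (Sum.elim p.1.1 p.2) p.1.2
  left_inv w := by
    funext i
    rcases i with (i | i) | i <;> rfl
  right_inv p := rfl

theorem card_minus (k : ℕ) (ζ : F) (hζ : ∀ t : F, t ^ 2 + t + ζ ≠ 0) :
    Fintype.card {w : (Fin k ⊕ Fin k) ⊕ Fin 2 → F // quadFormMinus k F 1 ζ w = 0} * Fintype.card F
      = Fintype.card F ^ (k + 1) + (Fintype.card F ^ k - 1) * (Fintype.card F ^ k * Fintype.card F ^ 2) := by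
  let n : (Fin 2 → F) → F := fun z => z 0 ^ 2 + 1 * z 0 * z 1 + ζ * z 1 ^ 2
  have e : Fintype.card {w : (Fin k ⊕ Fin k) ⊕ Fin 2 → F // quadFormMinus k F 1 ζ w = 0}
      = Fintype.card {p : ((Fin k → F) × (Fin 2 → F)) × (Fin k → F) // p.1.1 ⬝ᵥ p.2 + n p.1.2 = 0} := by
    refine Fintype.card_congr ((minusEquiv k).subtypeEquiv ?_)
    intro w
    simp only [minusEquiv]
    rfl
  have key := Helper44.card_zeros_dot_add (F := F) (ι := Fin k) n
  rw [e, key]
  have : Fintype.card {z : Fin 2 → F // n z = 0} = 1 := by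
    rw [Fintype.card_eq_one_iff]
    refine ⟨⟨0, by simp [n]⟩, ?_⟩
    rintro ⟨z, hz⟩
    apply Subtype.ext
    simp only [n] at hz
    have h1 : z 1 = 0 := by
      by_contra h1
      apply hζ (z 0 / z 1)
      have : (z 0 / z 1) ^ 2 + z 0 / z 1 + ζ = (z 0 ^ 2 + 1 * z 0 * z 1 + ζ * z 1 ^ 2) / (z 1) ^ 2 := by
        field_simp
      rw [this, hz, zero_div]
    have h0 : z 0 = 0 := by
      rw [h1] at hz
      simpa using hz
    funext j
    fin_cases j
    · exact h0
    · exact h1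
  rw [this]
  simp

end

/-- The two standard quadratic forms of even dimension 2m over a finite field are not isometric. -/
theorem result {F : Type*} [Field F] [Finite F] {m : ℕ} (hm : 1 ≤ m) (ζ : F) (hζ : ∀ t : F, t ^ 2 + t + ζ ≠ 0) (g : (Fin m ⊕ Fin m → F) ≃ₗ[F] ((Fin (m - 1) ⊕ Fin (m - 1)) ⊕ Fin 2 → F)) : ¬ (∀ v : Fin m ⊕ Fin m → F, Cfsg.quadFormMinus (m - 1) F 1 ζ (g v) = Cfsg.quadFormPlus m F v) := by
  classical
  have : Fintype F := Fintype.ofFinite F
  intro h
  obtain ⟨k, rfl⟩ : ∃ k, m = k + 1 := ⟨m - 1, (Nat.sub_add_cancel hm).symm⟩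
  have h' : ∀ v : Fin (k + 1) ⊕ Fin (k + 1) → F,
      quadFormMinus k F 1 ζ (g v) = quadFormPlus (k + 1) F v := h
  have hcard : Fintype.card {v : Fin (k + 1) ⊕ Fin (k + 1) → F // quadFormPlus (k + 1) F v = 0}
      = Fintype.card {w : (Fin k ⊕ Fin k) ⊕ Fin 2 → F // quadFormMinus k F 1 ζ w = 0} := by
    refine Fintype.card_congr (g.toEquiv.subtypeEquiv ?_)
    intro v
    simp only [LinearEquiv.coe_toEquiv]
    rw [← h' v]
  have h1 := card_plus (F := F) (k + 1)
  have h2 := card_minus k ζ hζ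
  rw [hcard, h2] at h1
  -- arithmetic contradiction
  have hq : 2 ≤ Fintype.card F := Fintype.one_lt_card
  generalize Fintype.card F = q at h1 hq
  have ea : q ^ (k + 1) = q ^ k * q := pow_succ _ _
  have eb : q ^ (k + 1 + 1) = q ^ k * q * q := by rw [pow_succ, pow_succ]
  rw [eb, ea] at h1
  have hQ : 1 ≤ q ^ k := Nat.one_le_pow _ _ (by omega)
  generalize q ^ k = Q at h1 hQ
  obtain ⟨c, rfl⟩ : ∃ c, q = c + 2 := ⟨q - 2, by omega⟩
  obtain ⟨b, rfl⟩ : ∃ b, Q = b + 1 := ⟨Q - 1, by omega⟩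
  have e1 : (b + 1) * (c + 2) - 1 = b * c + c + 2 * b + 1 := by
    apply Nat.sub_eq_of_eq_add; ring
  rw [e1, Nat.add_sub_cancel] at h1
  have key : (b + 1) * (c + 2) * (c + 2) + (b * c + c + 2 * b + 1) * ((b + 1) * (c + 2))
      = ((b + 1) * (c + 2) + b * ((b + 1) * (c + 2) ^ 2)) + 2 * (b + 1) * (c + 2) * (c + 1) := by
    ring
  rw [key] at h1
  have h3 : 2 * (b + 1) * (c + 2) * (c + 1) = 0 := by
    have := h1.symm
    exact Nat.add_left_cancel (this.trans (add_zero _).symm)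
  have h4 : 0 < 2 * (b + 1) * (c + 2) * (c + 1) := by positivity
  omega

end Cfsg.Agent.S2617
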