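-- Statement S2618: standard basis of a non-degenerate quadratic space of odd dimension over a finite field.
import Cfsg.Statements.S2618
import Cfsg.Agent.Helper44.WittBasis

set_option autoImplicit false
open Cfsg

namespace Cfsg.Agent.S2618

open QuadraticMap

/-- reindexing equivalence -/
def idxEquiv (m : ℕ) : (Fin m ⊕ Fin m) ⊕ Fin 1 ≃ Unit ⊕ (Fin m ⊕ Fin m) where
  toFun := Sum.elim Sum.inr (fun _ => Sum.inl ())
  invFun := Sum.elim (fun _ => Sum.inr 0) Sum.inl
  left_inv x := by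
    rcases x with x | j
    · rfl
    · simp only [Sum.elim_inr, Sum.elim_inl]
      congr 1
      exact Subsingleton.elim _ _
  right_inv x := by
    rcases x with ⟨⟩ | x <;> rfl

/-- Standard (parabolic) basis of a non-degenerate quadratic space of odd dimension 2m + 1 over a finite field. -/
theorem result {F V : Type*} [Field F] [Finite F] [AddCommGroup V] [Module F V] [FiniteDimensional F V] {m : ℕ} (hV : Module.finrank F V = 2 * m + 1) (Q : QuadraticForm F V) (hQ : (QuadraticMap.polarBilin Q).Nondegenerate) : ∃ b : Module.Basis (Unit ⊕ (Fin m ⊕ Fin m)) F V, Q (b (Sum.inl ())) ≠ 0 ∧ (∀ i, QuadraticMap.polar ⇑Q (b (Sum.inl ())) (b (Sum.inr (Sum.inl i))) = 0 ∧ QuadraticMap.polar ⇑Q (b (Sum.inl ())) (b (Sum.inr (Sum.inr i))) = 0) ∧ (∀ i, Q (b (Sum.inr (Sum.inl i))) = 0 ∧ Q (b (Sum.inr (Sum.inr i))) = 0) ∧ (∀ i j, QuadraticMap.polar ⇑Q (b (Sum.inr (Sum.inl i))) (b (Sum.inr (Sum.inr j))) = if i = j then 1 else 0) ∧ (∀ i j, QuadraticMap.polar ⇑Q (b (Sum.inr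 (Sum.inl i))) (b (Sum.inr (Sum.inl j))) = 0 ∧ QuadraticMap.polar ⇑Q (b (Sum.inr (Sum.inr i))) (b (Sum.inr (Sum.inr j))) = 0) := by
  classical
  have : Fintype F := Fintype.ofFinite F
  have hnd : ∀ x : V, (∀ y, polar Q x y = 0) → x = 0 := by
    intro x hx
    apply hQ.1 x
    intro y
    rw [polarBilin_apply_apply]
    exact hx y
  obtain ⟨k, d, e, f, r, hkd, hd, hdata, -⟩ := Helper44.exists_wittData (2 * m + 1) Q hV hnd
  obtain rfl : d = 1 := by omega
  obtain rfl : k = m := by omega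
  obtain ⟨b0, hb0⟩ := hdata.exists_basis (by omega)
  refine ⟨b0.reindex (idxEquiv k), ?_⟩
  have h1 : (b0.reindex (idxEquiv k)) (Sum.inl ()) = r 0 := by
    rw [Module.Basis.reindex_apply, hb0]; rfl
  have h2 : ∀ i, (b0.reindex (idxEquiv k)) (Sum.inr (Sum.inl i)) = e i := by
    intro i
    rw [Module.Basis.reindex_apply, hb0]; rfl
  have h3 : ∀ i, (b0.reindex (idxEquiv k)) (Sum.inr (Sum.inr i)) = f i := by
    intro i
    rw [Module.Basis.reindex_apply, hb0]; rfl
  simp only [h1, h2, h3]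
  refine ⟨?_, ?_, hdata.sing, hdata.pair, fun i j => ⟨hdata.ee i j, hdata.ff i j⟩⟩
  · intro h0
    have := hdata.aniso (fun _ => 1) (by simpa using h0)
    have h1 := congrFun this 0
    simp at h1
  · intro i
    exact ⟨by rw [polar_comm]; exact hdata.er i 0, by rw [polar_comm]; exact hdata.fr i 0⟩

end Cfsg.Agent.S2618
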