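-- Statement S2619: char 2, unique quadratic form with prescribed polar form and values on a basis.
import Cfsg.Statements.S2619

set_option autoImplicit false
open Cfsg

namespace Cfsg.Agent.S2619

theorem toBilin_basis {R M n : Type*} [CommSemiring R] [AddCommMonoid M] [Module R M] [Fintype n]
    [DecidableEq n] (b : Module.Basis n R M) (A : Matrix n n R) (i j : n) :
    Matrix.toBilin b A (b i) (b j) = A i j := by
  have h := LinearMap.BilinForm.toMatrix_toBilin b A
  have h2 := congrFun (congrFun h i) j
  rwa [LinearMap.BilinForm.toMatrix_apply] at h2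

theorem unique_aux {F V ι : Type*} [Field F] [AddCommGroup V] [Module F V]
    (b : Module.Basis ι F V) (Q₁ Q₂ : QuadraticForm F V)
    (hpol : QuadraticMap.polarBilin Q₁ = QuadraticMap.polarBilin Q₂)
    (hval : ∀ i, Q₁ (b i) = Q₂ (b i)) : Q₁ = Q₂ := by
  have hp : ∀ x y, QuadraticMap.polar ⇑Q₁ x y = QuadraticMap.polar ⇑Q₂ x y := by
    intro x y
    have := congrArg (fun B => B x y) hpol
    simpa [QuadraticMap.polarBilin_apply_apply] using this
  let S : Submodule F V :=
    { carrier := {x | Q₁ x = Q₂ x}
      add_mem' := by
        intro x y hx hy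
        simp only [Set.mem_ofPred_eq] at hx hy ⊢
        rw [QuadraticMap.map_add ⇑Q₁, QuadraticMap.map_add ⇑Q₂, hx, hy, hp]
      zero_mem' := by simp
      smul_mem' := by
        intro a x hx
        simp only [Set.mem_ofPred_eq] at hx ⊢
        rw [QuadraticMap.map_smul, QuadraticMap.map_smul, hx] }
  have hS : S = ⊤ := by
    rw [eq_top_iff, ← b.span_eq, Submodule.span_le]
    rintro _ ⟨i, rfl⟩
    exact hval i
  ext x
  have : x ∈ S := by rw [hS]; trivial
  exact this

/-- Over a finite field of characteristic two, given an alternating bilinear form B on a finite-dimensional space, a basis (v_i) and scalars (λ_i), there is exactly one quadratic form whose polar form is B and whose value at each v_i is λ_i. -/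
theorem result {F V ι : Type*} [Field F] [Finite F] [CharP F 2] [AddCommGroup V] [Module F V] [Fintype ι] (b : Module.Basis ι F V) (B : LinearMap.BilinForm F V) (hB : B.IsAlt) (c : ι → F) : ∃! Q : QuadraticForm F V, QuadraticMap.polarBilin Q = B ∧ ∀ i, Q (b i) = c i := by
  classical
  let e := Fintype.equivFin ι
  let _ : LinearOrder ι := LinearOrder.lift' e e.injective
  let A : Matrix ι ι F := fun i j => if i < j then B (b i) (b j) else if i = j then c i else 0
  let B' : LinearMap.BilinForm F V := Matrix.toBilin b A
  have hB' : ∀ i j, B' (b i) (b j) = A i j := toBilin_basis b A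
  refine ⟨LinearMap.BilinMap.toQuadraticMap B', ⟨?_, ?_⟩, ?_⟩
  · rw [LinearMap.BilinMap.polarBilin_toQuadraticMap]
    refine LinearMap.BilinForm.ext_basis b fun i j => ?_
    simp only [LinearMap.add_apply, LinearMap.flip_apply, hB']
    simp only [A]
    rcases lt_trichotomy i j with h | h | h
    · have h1 : ¬ j < i := not_lt.2 h.le
      have h2 : j ≠ i := h.ne'
      simp [h, h1, h2]
    · subst h
      simp only [lt_self_iff_false, if_false, if_true]
      rw [hB.self_eq_zero, ← two_mul, CharTwo.two_eq_zero, zero_mul]
    · have h1 : ¬ i < j := not_lt.2 h.le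
      have h2 : i ≠ j := h.ne'
      simp only [h, h1, h2, if_true, if_false, zero_add]
      rw [← hB.neg_eq, CharTwo.neg_eq]
  · intro i
    rw [LinearMap.BilinMap.toQuadraticMap_apply, hB']
    simp [A]
  · rintro Q ⟨hQ1, hQ2⟩
    apply unique_aux b
    · rw [hQ1, LinearMap.BilinMap.polarBilin_toQuadraticMap]
      symm
      refine LinearMap.BilinForm.ext_basis b fun i j => ?_
      simp only [LinearMap.add_apply, LinearMap.flip_apply, hB']
      simp only [A]
      rcases lt_trichotomy i j with h | h | h
      · have h1 : ¬ j < i := not_lt.2 h.le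
        have h2 : j ≠ i := h.ne'
        simp [h, h1, h2]
      · subst h
        simp only [lt_self_iff_false, if_false, if_true]
        rw [hB.self_eq_zero, ← two_mul, CharTwo.two_eq_zero, zero_mul]
      · have h1 : ¬ i < j := not_lt.2 h.le
        have h2 : i ≠ j := h.ne'
        simp only [h, h1, h2, if_true, if_false, zero_add]
        rw [← hB.neg_eq, CharTwo.neg_eq]
    · intro i
      rw [hQ2, LinearMap.BilinMap.toQuadraticMap_apply, hB']
      simp [A]

end Cfsg.Agent.S2619
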