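-- Statement S2622: char 2, symmetric non-alternating nondegenerate form has an orthonormal basis.
import Cfsg.Statements.S2622

set_option autoImplicit false
open Cfsg

namespace Cfsg.Agent.S2622

universe u v

section

variable {F : Type u} [Field F] [Finite F] [CharP F 2]

theorem exists_sqrt (a : F) : ∃ s : F, s * s = a := by
  have h2 : ringChar F = 2 := ringChar.eq F 2
  obtain ⟨s, hs⟩ := FiniteField.isSquare_of_char_two h2 a
  exact ⟨s, hs.symm⟩

variable {V : Type v} [AddCommGroup V] [Module F V] [FiniteDimensional F V]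

theorem exists_good (B : LinearMap.BilinForm F V) (hS : B.IsSymm) (hB : B.Nondegenerate)
    (hna : ∃ v : V, B v v ≠ 0) :
    ∃ v : V, B v v = 1 ∧ (Module.finrank F V = 1 ∨
      ∃ u ∈ B.orthogonal (F ∙ v), B u u ≠ 0) := by
  obtain ⟨v0, hv0⟩ := hna
  obtain ⟨s, hs⟩ := exists_sqrt (B v0 v0)
  have hs0 : s ≠ 0 := by
    rintro rfl
    apply hv0
    rw [← hs, mul_zero]
  set v := s⁻¹ • v0 with hv
  have hv1 : B v v = 1 := by
    simp only [hv, map_smul, LinearMap.smul_apply, smul_eq_mul, ← hs]
    field_simp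
  have hvv : B v v ≠ 0 := by rw [hv1]; exact one_ne_zero
  have hvne : v ≠ 0 := by
    rintro h
    apply hvv
    rw [h]; simp
  set W := B.orthogonal (F ∙ v) with hW
  have hc : IsCompl (F ∙ v) W := LinearMap.BilinForm.isCompl_span_singleton_orthogonal hvv
  have hWmem : ∀ w ∈ W, B v w = 0 := by
    intro w hw
    exact (LinearMap.BilinForm.mem_orthogonal_iff.1 hw) v (Submodule.mem_span_singleton_self v)
  by_cases h : ∃ u ∈ W, B u u ≠ 0
  · exact ⟨v, hv1, Or.inr h⟩
  push Not at h
  by_cases hWbot : W = ⊥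
  · refine ⟨v, hv1, Or.inl ?_⟩
    have h1 := Submodule.finrank_add_eq_of_isCompl hc
    rw [finrank_span_singleton hvne, hWbot, finrank_bot] at h1
    exact h1.symm
  obtain ⟨e, heW, he0⟩ := Submodule.exists_mem_ne_zero_of_ne_bot hWbot
  -- find x with B e x ≠ 0
  obtain ⟨x, hx⟩ : ∃ x, B e x ≠ 0 := by
    by_contra hcon
    push Not at hcon
    exact he0 (hB.1 e hcon)
  -- decompose x
  have hxtop : x ∈ (F ∙ v) ⊔ W := by rw [hc.sup_eq_top]; trivial
  obtain ⟨y, hy, w, hw, rfl⟩ := Submodule.mem_sup.1 hxtop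
  obtain ⟨c, rfl⟩ := Submodule.mem_span_singleton.1 hy
  have hev : B e v = 0 := by rw [hS.eq]; exact hWmem e heW
  have hew : B e w ≠ 0 := by
    intro h0
    apply hx
    rw [map_add, map_smul, hev, h0]; simp
  set f := (B e w)⁻¹ • w with hf
  have hfW : f ∈ W := W.smul_mem _ hw
  have hef : B e f = 1 := by
    rw [hf, map_smul, smul_eq_mul, inv_mul_cancel₀ hew]
  have hvf : B v f = 0 := hWmem f hfW
  have hfv : B f v = 0 := by rw [hS.eq]; exact hvf
  have hve : B v e = 0 := hWmem e heW
  have hee : B e e = 0 := h e heW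
  have hff : B f f = 0 := h f hfW
  refine ⟨v + e, ?_, Or.inr ⟨v + f, ?_, ?_⟩⟩
  · simp only [map_add, LinearMap.add_apply, hv1, hve, hev, hee]
    ring
  · rw [LinearMap.BilinForm.mem_orthogonal_iff]
    intro n hn
    obtain ⟨a, rfl⟩ := Submodule.mem_span_singleton.1 hn
    simp only [map_add, map_smul, LinearMap.add_apply, LinearMap.smul_apply, hv1, hvf, hev, hef, smul_eq_mul]
    have : (1 : F) + 1 = 0 := CharTwo.add_self_eq_zero 1
    linear_combination a * this
  · simp only [map_add, LinearMap.add_apply, hv1, hvf, hfv, hff]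
    simp

theorem main : ∀ (n : ℕ) {V : Type v} [AddCommGroup V] [Module F V] [FiniteDimensional F V],
    Module.finrank F V = n → ∀ B : LinearMap.BilinForm F V, B.IsSymm → B.Nondegenerate →
    (n ≠ 0 → ∃ v : V, B v v ≠ 0) →
    ∃ b : Module.Basis (Fin n) F V, ∀ i j, B (b i) (b j) = if i = j then 1 else 0 := by
  intro n
  induction n with
  | zero =>
    intro V _ _ _ hV B _ _ _
    exact ⟨Module.finBasisOfFinrankEq F V hV, fun i => Fin.elim0 i⟩
  | succ n ih =>
    intro V _ _ _ hV B hS hB hna
    obtain ⟨v, hv1, hv2⟩ := exists_good B hS hB (hna (Nat.succ_ne_zero n))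
    have hvv : B v v ≠ 0 := by rw [hv1]; exact one_ne_zero
    have hvne : v ≠ 0 := by
      rintro h
      apply hvv
      rw [h]; simp
    set W := B.orthogonal (F ∙ v) with hW
    have hc : IsCompl (F ∙ v) W := LinearMap.BilinForm.isCompl_span_singleton_orthogonal hvv
    have hWmem : ∀ w ∈ W, B v w = 0 := by
      intro w hw
      exact (LinearMap.BilinForm.mem_orthogonal_iff.1 hw) v (Submodule.mem_span_singleton_self v)
    have hWrank : Module.finrank F W = n := by
      have h1 := Submodule.finrank_add_eq_of_isCompl hc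
      rw [finrank_span_singleton hvne, hV] at h1
      omega
    have hSW : (B.restrict W).IsSymm := hS.restrict W
    have hBW : (B.restrict W).Nondegenerate :=
      LinearMap.BilinForm.restrict_nondegenerate_orthogonal_spanSingleton B hB hS.isRefl hvv
    have hnaW : n ≠ 0 → ∃ w : W, (B.restrict W) w w ≠ 0 := by
      intro hn
      rcases hv2 with h1 | ⟨u, hu, huu⟩
      · exfalso; omega
      · exact ⟨⟨u, hu⟩, huu⟩
    obtain ⟨bW, hbW⟩ := ih hWrank (B.restrict W) hSW hBW hnaW
    have hli : ∀ (c : F), ∀ x ∈ W, c • v + x = 0 → c = 0 := by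
      intro c x hx h
      have h2 := congrArg (B v) h
      rw [map_add, map_smul, hv1, hWmem x hx, map_zero] at h2
      simpa using h2
    have hsp : ∀ z : V, ∃ c : F, z + c • v ∈ W := by
      intro z
      refine ⟨-(B v z), ?_⟩
      rw [LinearMap.BilinForm.mem_orthogonal_iff]
      intro m hm
      obtain ⟨a, rfl⟩ := Submodule.mem_span_singleton.1 hm
      simp only [map_add, map_smul, LinearMap.smul_apply, hv1, smul_eq_mul]
      ring
    refine ⟨Module.Basis.mkFinCons v bW hli hsp, ?_⟩
    intro i j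
    rw [Module.Basis.coe_mkFinCons]
    have hb0 : ∀ k : Fin n, B v (bW k : V) = 0 := fun k => hWmem _ (bW k).2
    refine Fin.cases ?_ (fun i' => ?_) i <;> refine Fin.cases ?_ (fun j' => ?_) j
    · simp [hv1]
    · simp only [Fin.cons_zero, Fin.cons_succ, Function.comp_apply]
      rw [hb0, if_neg (Fin.succ_ne_zero j').symm]
    · simp only [Fin.cons_zero, Fin.cons_succ, Function.comp_apply]
      rw [hS.eq, hb0, if_neg (Fin.succ_ne_zero i')]
    · simp only [Fin.cons_succ, Function.comp_apply, Fin.succ_inj]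
      exact hbW i' j'

end

/-- Over a finite field of characteristic two, a non-degenerate symmetric bilinear form that is not alternating (some vector v has B(v, v) ≠ 0) admits an orthonormal basis. -/
theorem result {F V : Type*} [Field F] [Finite F] [CharP F 2] [AddCommGroup V] [Module F V] [FiniteDimensional F V] {n : ℕ} (hV : Module.finrank F V = n) (B : LinearMap.BilinForm F V) (hS : B.IsSymm) (hB : B.Nondegenerate) (hna : ∃ v : V, B v v ≠ 0) : ∃ b : Module.Basis (Fin n) F V, ∀ i j, B (b i) (b j) = if i = j then 1 else 0 :=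
  main n hV B hS hB (fun _ => hna)

end Cfsg.Agent.S2622
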