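import Cfsg.Statements.S2629
import Cfsg.Agent.Helper44.PlusParity

set_option autoImplicit false
open Cfsg

namespace Cfsg.Agent.S2629

/-- For the hyperbolic form Σ x_i y_i on F^(2m) over a finite field of odd order (m ≥ 1), an isometry g preserves the class of the maximal totally singular subspace U₀ = {y = 0} (that is, m − dim(U₀ ∩ gU₀) is even) if and only if det g = 1: the stabiliser of each of the two classes of maximal totally singular subspaces is SO. -/
theorem result {F : Type*} [Field F] [Fintype F] (h2 : (2 : F) ≠ 0) {m : ℕ} (hm : 1 ≤ m) (g : ↥(Cfsg.isometryGroup F (Cfsg.quadFormPlus m F))) : Even (m - Module.finrank F ↥(LinearMap.ker (LinearMap.funLeft F F (Sum.inr : Fin m → Fin m ⊕ Fin m)) ⊓ (LinearMap.ker (LinearMap.funLeft F F (Sum.inr : Fin m → Fin m ⊕ Fin m))).map (Matrix.mulVecLin ((g : Matrix.GeneralLinearGroup (Fin m ⊕ Fin m) F) : Matrix (Fin m ⊕ Fin m) (Fin m ⊕ Fin m) F)))) ↔ ((g : Matrix.GeneralLinearGroup (Fin m ⊕ Fin m) F) : Matrix (Fin m ⊕ Fin m) (Fin m ⊕ Fin m) F).det = 1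 := by
  obtain ⟨vs, hvs, hg⟩ := Helper44.cartan_dieudonne (Helper44.plusForm m F) h2
    (Helper44.nondegenerate_plusForm m) g
  have key := Helper44.even_codim_stdSing_iff vs hvs
  rw [← hg] at key
  have hdet := Helper44.detHom_prod_reflT (Helper44.plusForm m F) vs hvs
  rw [← hg] at hdet
  have hdet' : ((g : Matrix.GeneralLinearGroup (Fin m ⊕ Fin m) F) :
      Matrix (Fin m ⊕ Fin m) (Fin m ⊕ Fin m) F).det = (-1) ^ vs.length := by
    have := congrArg (fun x : Fˣ => (x : F)) hdet
    simp only [Units.val_pow_eq_pow_val, Units.val_neg, Units.val_one] at this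
    exact this
  rw [hdet']
  have hne : (-1 : F) ≠ 1 := by
    intro h
    apply h2
    have : (2 : F) = 1 - (-1) := by ring
    rw [this, h, sub_self]
  rw [neg_one_pow_eq_one_iff_even hne]
  exact key

end Cfsg.Agent.S2629
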