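-- Statement S2636: matrices whose image under a field automorphism of prime order is a scalar multiple.
import Cfsg.Statements.S2636

set_option autoImplicit false
open Cfsg

namespace Cfsg.Agent.S2636

open Matrix

section

variable {F : Type*} [Field F] [Fintype F]

/-- the fixed field of a ring automorphism -/
abbrev fixedField (σ : F ≃+* F) : Subfield F := FixedPoints.subfield (Subgroup.zpowers σ) F

omit [Fintype F] in
theorem mem_fixedField (σ : F ≃+* F) (a : F) : a ∈ fixedField σ ↔ σ a = a := by
  constructor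
  · intro h
    exact h ⟨σ, Subgroup.mem_zpowers σ⟩
  · intro h g
    obtain ⟨g, k, rfl⟩ := g
    show (σ ^ k) a = a
    have hpos : ∀ j : ℕ, (σ ^ j) a = a := by
      intro j
      induction j with
      | zero => simp
      | succ j ih => rw [pow_succ, RingAut.mul_apply, h, ih]
    cases k with
    | ofNat j => simpa using hpos j
    | negSucc j =>
      rw [zpow_negSucc]
      have := hpos (j + 1)
      show (σ ^ (j + 1)).symm a = a
      rw [RingEquiv.symm_apply_eq]
      exact this.symm

variable (σ : F ≃+* F) (n : ℕ)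

/-- the hom `(a, h) ↦ a • h` from `Fˣ × GL_n(F₀)` to `GL_n(F)` -/
noncomputable def psi : Fˣ × GL (Fin n) (fixedField σ) →* GL (Fin n) F :=
  MonoidHom.noncommCoprod (GeneralLinearGroup.scalar (Fin n))
    (GeneralLinearGroup.map (fixedField σ).subtype)
    (fun a h => (commute_iff_eq _ _).2 (GeneralLinearGroup.scalar_commute (n := Fin n) (R := F) a (GeneralLinearGroup.map (fixedField σ).subtype h)))

omit [Fintype F] in
theorem psi_coe (x : Fˣ × GL (Fin n) (fixedField σ)) :
    ((psi σ n x : GL (Fin n) F) : Matrix (Fin n) (Fin n) F)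
      = (x.1 : F) • ((x.2 : Matrix (Fin n) (Fin n) (fixedField σ)).map (fixedField σ).subtype) := by
  rw [psi, MonoidHom.noncommCoprod_apply, Units.val_mul, GeneralLinearGroup.coe_scalar,
    Matrix.scalar_apply, ← Matrix.smul_eq_diagonal_mul]
  rfl

omit [Fintype F] in
theorem mem_range_psi (hn : 1 ≤ n) (g : GL (Fin n) F) :
    g ∈ (psi σ n).range ↔ ∃ c : F, c ≠ 0 ∧
      (g : Matrix (Fin n) (Fin n) F).map σ = c • (g : Matrix (Fin n) (Fin n) F) := by
  constructor
  · rintro ⟨⟨a, h⟩, rfl⟩
    refine ⟨σ a / a, div_ne_zero ((map_ne_zero σ).2 a.ne_zero) a.ne_zero, ?_⟩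
    rw [psi_coe]
    ext i j
    simp only [Matrix.map_apply, Matrix.smul_apply, smul_eq_mul, map_mul, Subfield.coe_subtype]
    have : σ ((h : Matrix (Fin n) (Fin n) (fixedField σ)) i j : F)
        = ((h : Matrix (Fin n) (Fin n) (fixedField σ)) i j : F) :=
      (mem_fixedField σ _).1 ((h : Matrix (Fin n) (Fin n) (fixedField σ)) i j).2
    rw [this]
    have ha : (a : F) ≠ 0 := a.ne_zero
    field_simp
  · rintro ⟨c, hc0, hc⟩
    set G : Matrix (Fin n) (Fin n) F := (g : Matrix (Fin n) (Fin n) F) with hG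
    -- a non-zero entry
    obtain ⟨i, j, hij⟩ : ∃ i j, G i j ≠ 0 := by
      by_contra hcon
      push Not at hcon
      have hG0 : G = 0 := by ext i j; exact hcon i j
      have h1 : G * ((g⁻¹ : GL (Fin n) F) : Matrix (Fin n) (Fin n) F) = 1 := by
        rw [hG, ← Units.val_mul, mul_inv_cancel]; rfl
      rw [hG0, zero_mul] at h1
      have := congrFun (congrFun h1 ⟨0, hn⟩) ⟨0, hn⟩
      simp at this
    set a := G i j with ha
    have hσa : σ a = c * a := by
      have := congrFun (congrFun hc i) j
      simpa [Matrix.map_apply, Matrix.smul_apply] using this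
    have hσG : ∀ k l, σ (G k l) = c * G k l := by
      intro k l
      have := congrFun (congrFun hc k) l
      simpa [Matrix.map_apply, Matrix.smul_apply] using this
    have hfix : ∀ k l, a⁻¹ * G k l ∈ fixedField σ := by
      intro k l
      rw [mem_fixedField, map_mul, map_inv₀, hσa, hσG]
      field_simp
    let H : Matrix (Fin n) (Fin n) (fixedField σ) := fun k l => ⟨a⁻¹ * G k l, hfix k l⟩
    have hHmap : H.map (fixedField σ).subtype = a⁻¹ • G := by
      ext k l
      rfl
    have hdet : H.det ≠ 0 := by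
      intro h0
      have h1 : (fixedField σ).subtype H.det = (H.map (fixedField σ).subtype).det := by
        rw [RingHom.map_det]; rfl
      rw [h0, map_zero, hHmap, Matrix.det_smul] at h1
      have hGdet : G.det ≠ 0 := by
        have := (Matrix.isUnit_iff_isUnit_det G).1 ⟨g, rfl⟩
        exact this.ne_zero
      have := mul_ne_zero (pow_ne_zero (Fintype.card (Fin n)) (inv_ne_zero hij)) hGdet
      exact this h1.symm
    refine ⟨⟨Units.mk0 a hij, Matrix.GeneralLinearGroup.mkOfDetNeZero H hdet⟩, ?_⟩
    apply Units.ext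
    rw [psi_coe]
    show a • (H.map (fixedField σ).subtype) = G
    rw [hHmap, smul_smul, mul_inv_cancel₀ hij, one_smul]

omit [Fintype F] in
theorem card_ker_psi (hn : 1 ≤ n) : Nat.card (psi σ n).ker = Nat.card (fixedField σ)ˣ := by
  classical
  symm
  let ι : fixedField σ →+* F := (fixedField σ).subtype
  have hιinj : Function.Injective ι := Subtype.val_injective
  let κ : (fixedField σ)ˣ → (psi σ n).ker := fun b =>
    ⟨((Units.map (ι : fixedField σ →* F) b)⁻¹, GeneralLinearGroup.scalar (Fin n) b), by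
      rw [MonoidHom.mem_ker, psi, MonoidHom.noncommCoprod_apply]
      show GeneralLinearGroup.scalar (Fin n) (Units.map (ι : fixedField σ →* F) b)⁻¹
        * GeneralLinearGroup.map ι (GeneralLinearGroup.scalar (Fin n) b) = 1
      rw [GeneralLinearGroup.map_scalar, map_inv, inv_mul_cancel]⟩
  refine Nat.card_congr (Equiv.ofBijective κ ⟨?_, ?_⟩)
  · intro b b' hbb
    have h1 := congrArg (fun x : (psi σ n).ker => (x : Fˣ × GL (Fin n) (fixedField σ)).2) hbb
    simp only [κ] at h1
    have h2 := congrArg (fun A : GL (Fin n) (fixedField σ) =>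
      (A : Matrix (Fin n) (Fin n) (fixedField σ)) ⟨0, hn⟩ ⟨0, hn⟩) h1
    simp only [GeneralLinearGroup.coe_scalar, Matrix.scalar_apply, Matrix.diagonal_apply_eq] at h2
    exact Units.ext h2
  · rintro ⟨⟨a, h⟩, hx⟩
    rw [MonoidHom.mem_ker] at hx
    have hmat : (a : F) • ((h : Matrix (Fin n) (Fin n) (fixedField σ)).map ι) = 1 := by
      have := congrArg (fun A : GL (Fin n) F => (A : Matrix (Fin n) (Fin n) F)) hx
      simp only [psi_coe] at this
      exact this
    have hent : ∀ k l, ι ((h : Matrix (Fin n) (Fin n) (fixedField σ)) k l)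
        = (a : F)⁻¹ * (if k = l then 1 else 0) := by
      intro k l
      have := congrFun (congrFun hmat k) l
      simp only [Matrix.smul_apply, Matrix.map_apply, smul_eq_mul, Matrix.one_apply] at this
      rw [← this]
      have ha : (a : F) ≠ 0 := a.ne_zero
      field_simp
    set b0 := (h : Matrix (Fin n) (Fin n) (fixedField σ)) ⟨0, hn⟩ ⟨0, hn⟩ with hb0
    have hιb0 : ι b0 = (a : F)⁻¹ := by
      rw [hb0, hent]; simp
    have hb0ne : b0 ≠ 0 := by
      intro h0
      rw [h0, map_zero] at hιb0
      exact (inv_ne_zero a.ne_zero) hιb0.symm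
    refine ⟨Units.mk0 b0 hb0ne, ?_⟩
    apply Subtype.ext
    simp only [κ]
    refine Prod.ext ?_ ?_
    · apply Units.ext
      simp only [Units.val_inv_eq_inv_val, Units.coe_map, MonoidHom.coe_coe, Units.val_mk0]
      rw [hιb0, inv_inv]
    · apply Units.ext
      ext k l
      show ι (((GeneralLinearGroup.scalar (Fin n) (Units.mk0 b0 hb0ne) : GL (Fin n) (fixedField σ)) :
        Matrix (Fin n) (Fin n) (fixedField σ)) k l) = ι ((h : Matrix (Fin n) (Fin n) (fixedField σ)) k l)
      rw [GeneralLinearGroup.coe_scalar, Matrix.scalar_apply, Matrix.diagonal_apply, hent]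
      split_ifs with hkl
      · simp [hιb0]
      · simp

theorem card_fixedField {q₀ r : ℕ} (hr : r.Prime) (hF : Fintype.card F = q₀ ^ r) (σ : F ≃+* F)
    (hσ : orderOf σ = r) : Nat.card (fixedField σ) = q₀ := by
  classical
  have hcard : Nat.card (Subgroup.zpowers σ) = r := by rw [Nat.card_zpowers, hσ]
  have : Finite (Subgroup.zpowers σ) := Nat.finite_of_card_ne_zero (by rw [hcard]; exact hr.ne_zero)
  have : Fintype (Subgroup.zpowers σ) := Fintype.ofFinite _
  have h1 : Module.finrank (fixedField σ) F = r := by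
    rw [FixedPoints.finrank_eq_card, ← Nat.card_eq_fintype_card, hcard]
  have : Fintype (fixedField σ) := Fintype.ofFinite _
  have h2 : Fintype.card F = Fintype.card (fixedField σ) ^ r := by
    rw [← h1]; exact Module.card_eq_pow_finrank
  rw [Nat.card_eq_fintype_card]
  rw [hF] at h2
  exact (Nat.pow_left_injective hr.ne_zero h2).symm

theorem main {q₀ r n : ℕ} (hr : r.Prime) (hn : 1 ≤ n) (hF : Fintype.card F = q₀ ^ r) (σ : F ≃+* F)
    (hσ : orderOf σ = r) :
    Nat.card {g : GL (Fin n) F // ∃ c : F, c ≠ 0 ∧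
      (g : Matrix (Fin n) (Fin n) F).map σ = c • (g : Matrix (Fin n) (Fin n) F)}
      = (q₀ ^ r - 1) / (q₀ - 1) * ∏ i : Fin n, (q₀ ^ n - q₀ ^ (i : ℕ)) := by
  classical
  have hq0 := card_fixedField hr hF σ hσ
  have : Fintype (fixedField σ) := Fintype.ofFinite _
  have e1 : Nat.card {g : GL (Fin n) F // ∃ c : F, c ≠ 0 ∧
      (g : Matrix (Fin n) (Fin n) F).map σ = c • (g : Matrix (Fin n) (Fin n) F)}
      = Nat.card (psi σ n).range :=
    Nat.card_congr (Equiv.subtypeEquivRight (fun g => (mem_range_psi σ n hn g).symm))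
  have e2 : Nat.card (Fˣ × GL (Fin n) (fixedField σ))
      = Nat.card (psi σ n).range * Nat.card (psi σ n).ker := by
    rw [Subgroup.card_eq_card_quotient_mul_card_subgroup (psi σ n).ker,
      Nat.card_congr (QuotientGroup.quotientKerEquivRange (psi σ n)).toEquiv]
  rw [Nat.card_prod, Nat.card_units, Matrix.card_GL_field, card_ker_psi σ n hn, Nat.card_units,
    ← Nat.card_eq_fintype_card (α := fixedField σ), hq0, Nat.card_eq_fintype_card, hF, ← e1] at e2
  have hq02 : 2 ≤ q₀ := by
    rw [← hq0, Nat.card_eq_fintype_card]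
    exact Fintype.one_lt_card
  have hdvd : q₀ - 1 ∣ q₀ ^ r - 1 := Nat.sub_one_dvd_pow_sub_one q₀ r
  obtain ⟨m, hm⟩ := hdvd
  rw [hm, Nat.mul_div_cancel_left m (by omega : 0 < q₀ - 1)]
  rw [hm, mul_assoc] at e2
  have := Nat.eq_of_mul_eq_mul_left (by omega : 0 < q₀ - 1) (e2.trans (mul_comm _ _))
  exact this.symm

end



/-- Centraliser of a field automorphism in PGL_n: let F be the field with q = q₀^r elements, σ a field automorphism of F of prime order r (so its fixed field has q₀ elements) and n ≥ 1. The invertible matrices g whose entrywise image under σ is a scalar multiple of g — those whose coset modulo scalars is fixed by σ — number (q − 1)/(q₀ − 1) · |GL_n(q₀)|; equivalently the centraliser in PGL_n(q) of the induced automorphism has the order of PGL_n(q₀). -/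
theorem result {F : Type*} [Field F] [Fintype F] {q₀ r n : ℕ} (hr : r.Prime) (hn : 1 ≤ n) (hF : Fintype.card F = q₀ ^ r) (σ : F ≃+* F) (hσ : orderOf σ = r) : Nat.card {g : GL (Fin n) F // ∃ c : F, c ≠ 0 ∧ (g : Matrix (Fin n) (Fin n) F).map σ = c • (g : Matrix (Fin n) (Fin n) F)} = (q₀ ^ r - 1) / (q₀ - 1) * ∏ i : Fin n, (q₀ ^ n - q₀ ^ (i : ℕ)) :=
  main hr hn hF σ hσ

end Cfsg.Agent.S2636
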