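import Cfsg.Statements.S2639
import Cfsg.Agent.Helper45.ResScalars

set_option autoImplicit false
open Cfsg
open Matrix

namespace Cfsg.Agent.S2639

open Cfsg.Agent.Helper45 in
/-- The unitary group embeds in the symplectic group of twice the dimension over the subfield. -/
theorem result {K F : Type*} [Field K] [Fintype K] [Field F] [Fintype F] {q : ℕ} (hK : Fintype.card K = q ^ 2) (hF : Fintype.card F = q) (m : ℕ) : ∃ φ : ↥(Cfsg.GU m K q) →* ↥(Matrix.symplecticGroup (Fin m) F), Function.Injective φ := by
  subst hF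
  obtain ⟨alg, hd⟩ := exists_algebra_of_card_sq hK rfl
  let _ := alg
  have : Module.Finite F K := Module.finite_of_finrank_pos (by rw [hd]; norm_num)
  let b := Module.finBasisOfFinrankEq F K hd
  let Ψ : Matrix (Fin m) (Fin m) K →* Matrix (Fin m ⊕ Fin m) (Fin m ⊕ Fin m) F :=
    ((reindexRingEquiv F (eSum (Fin m))).toRingHom.comp (resPhi b) : _ →+* _)
  have hΨ : ∀ g, Ψ g = reindex (eSum (Fin m)) (eSum (Fin m)) (resPhi b g) := fun g => rfl
  have hΨinj : Function.Injective Ψ :=
    (reindexRingEquiv F (eSum (Fin m))).injective.comp (resPhi_injective b)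
  let φ : Cfsg.GU m K (Fintype.card F) →* symplecticGroup (Fin m) F :=
    ((Ψ.comp (Units.coeHom _)).comp (Cfsg.GU m K (Fintype.card F)).subtype).codRestrict
      (symplecticGroup (Fin m) F) (by
        intro g
        show Ψ ((g : GL (Fin m) K) : Matrix (Fin m) (Fin m) K) ∈ _
        rw [hΨ]
        apply sympl_of_omega2
        intro w w'
        apply omega2_resPhi b
        exact g.2)
  refine ⟨φ, ?_⟩
  intro g k hgk
  have h1 : Ψ ((g : GL (Fin m) K) : Matrix (Fin m) (Fin m) K) =
      Ψ ((k : GL (Fin m) K) : Matrix (Fin m) (Fin m) K) := congrArg Subtype.val hgk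
  exact Subtype.ext (Units.ext (hΨinj h1))

end Cfsg.Agent.S2639
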