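import Cfsg.Statements.S2642
import Cfsg.Agent.Helper73.GUJordan

set_option autoImplicit false
open Cfsg

namespace Cfsg.Agent.S2642

open Cfsg.Agent.Helper43 Cfsg.Agent.Helper73.GUJordan

/-- Number of conjugacy classes of elements of order p in the general unitary group GU_n(q), q a power of p: every unipotent Jordan type occurs and the classes correspond to the partitions of n with all parts at most p other than the all-ones partition, exactly as in GL_n; so there are (number of partitions of n with parts ≤ p) − 1 classes. -/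
theorem result {K : Type*} [Field K] [Fintype K] {p q n : ℕ} [Fact p.Prime] [CharP K p] (hK : Fintype.card K = q ^ 2) : Nat.card {C : ConjClasses ↥(Cfsg.GU n K q) // ∃ g : ↥(Cfsg.GU n K q), ConjClasses.mk g = C ∧ orderOf g = p} = (Finset.univ.filter (fun μ : Nat.Partition n => ∀ a ∈ μ.parts, a ≤ p)).card - 1 := by
  classical
  have hp : p.Prime := Fact.out
  have h := card_unip_classes_GU (K := K) (q := q) (n := n) hK
    (fun m => (∀ a ∈ m, a ≤ p) ∧ ¬ (∀ a ∈ m, a ≤ 1))
  have hL : Nat.card {C : ConjClasses ↥(Cfsg.GU n K q) // ∃ g : ↥(Cfsg.GU n K q), ConjClasses.mk g = C ∧ orderOf g = p}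
      = Nat.card {c : ConjClasses ↥(Cfsg.GU n K q) //
          ∃ g : ↥(Cfsg.GU n K q), ConjClasses.mk g = c ∧ (SS.IsUnip (g : GL (Fin n) K) ∧
            ((∀ a ∈ (SS.jtype (g : GL (Fin n) K) : Multiset ℕ), a ≤ p) ∧
              ¬ (∀ a ∈ (SS.jtype (g : GL (Fin n) K) : Multiset ℕ), a ≤ 1)))} := by
    apply Nat.card_congr
    apply Equiv.subtypeEquivRight
    intro C
    constructor
    · rintro ⟨g, hC, hg⟩
      rw [← Subgroup.orderOf_coe, SS.orderOf_eq_prime_iff_nilPart] at hg
      have hu : SS.IsUnip (g : GL (Fin n) K) := ⟨p, hg.1⟩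
      have hJ := SS.jtype_spec (g : GL (Fin n) K) hu
      refine ⟨g, hC, hu, ?_, ?_⟩
      · intro a ha
        exact (hJ.pow_eq_zero_iff p).mp hg.1 a (Multiset.mem_coe.mp ha)
      · intro hcon
        apply hg.2
        rw [hJ.pow_eq_zero_iff 1]
        intro a ha
        exact hcon a (Multiset.mem_coe.mpr ha)
    · rintro ⟨g, hC, hu, h1, h2⟩
      refine ⟨g, hC, ?_⟩
      have hJ := SS.jtype_spec (g : GL (Fin n) K) hu
      rw [← Subgroup.orderOf_coe, SS.orderOf_eq_prime_iff_nilPart]
      refine ⟨?_, ?_⟩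
      · rw [hJ.pow_eq_zero_iff p]
        intro a ha
        exact h1 a (Multiset.mem_coe.mpr ha)
      · intro hcon
        apply h2
        intro a ha
        exact (hJ.pow_eq_zero_iff 1).mp hcon a (Multiset.mem_coe.mp ha)
  rw [hL, h, Nat.card_eq_fintype_card, Fintype.card_subtype]
  -- split the filter
  have hsplit := Finset.card_filter_add_card_filter_not
    (s := Finset.univ.filter (fun μ : Nat.Partition n => ∀ a ∈ μ.parts, a ≤ p))
    (p := fun μ : Nat.Partition n => ∀ a ∈ μ.parts, a ≤ 1)
  rw [Finset.filter_filter, Finset.filter_filter] at hsplit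
  have hone : (Finset.univ.filter (fun μ : Nat.Partition n =>
      (∀ a ∈ μ.parts, a ≤ p) ∧ ∀ a ∈ μ.parts, a ≤ 1)).card = 1 := by
    rw [Finset.card_eq_one]
    refine ⟨Cfsg.Agent.S2570.ones n, ?_⟩
    ext μ
    rw [Finset.mem_filter, Finset.mem_singleton, ← Cfsg.Agent.S2570.eq_ones_iff]
    constructor
    · rintro ⟨_, _, h2⟩
      exact h2
    · intro h2
      refine ⟨Finset.mem_univ _, ?_, h2⟩
      intro a ha
      exact (h2 a ha).trans hp.one_lt.le
  rw [hone] at hsplit
  omega

end Cfsg.Agent.S2642
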