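import Cfsg.Statements.S2643
import Cfsg.Agent.Helper73.GURegUnip

set_option autoImplicit false
open Cfsg

namespace Cfsg.Agent.S2643

open Matrix Cfsg.Agent.S2578 Cfsg.Agent.Helper43 Cfsg.Agent.Helper45.GU
  Cfsg.Agent.Helper73.GURegUnip

/-- Regular unipotent classes of SU_n(q), n ≥ 2: the elements u of the special unitary group (isometries of Σ u_i v_i^q of determinant one over the field with q² elements) with (u − 1)^n = 0 and rank(u − 1) = n − 1 form exactly gcd(n, q + 1) conjugacy classes of SU_n(q). -/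
theorem result {K : Type*} [Field K] [Fintype K] {q n : ℕ} (hK : Fintype.card K = q ^ 2) (hn : 2 ≤ n) : Nat.card {C : ConjClasses ↥(Cfsg.SU n K q) // ∃ u : ↥(Cfsg.SU n K q), ConjClasses.mk u = C ∧ (((u : GL (Fin n) K) : Matrix (Fin n) (Fin n) K) - 1) ^ n = 0 ∧ (((u : GL (Fin n) K) : Matrix (Fin n) (Fin n) K) - 1).rank = n - 1} = Nat.gcd n (q + 1) := by
  classical
  obtain ⟨bar, hbar⟩ := exists_bar hK
  have hn1 : 1 ≤ n := by omega
  set R := Nat.card (powMonoidHom n : U1 K q →* U1 K q).range with hR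
  have hRpos : 0 < R := Nat.card_pos
  obtain ⟨B0, hB0, hB0reg⟩ := exists_regUnip_GU (K := K) (q := q) (n := n) hK hn1
  let g0 : ↥(Cfsg.GU n K q) := ⟨B0, hB0⟩
  set Z := Nat.card (Subgroup.centralizer ({g0} : Set ↥(Cfsg.GU n K q))) with hZdef
  -- predicates
  let PS : ↥(Cfsg.SU n K q) → Prop := fun u =>
    IsRegUnipMat ((u : Matrix.SpecialLinearGroup (Fin n) K) : Matrix (Fin n) (Fin n) K)
  let PG : ↥(Cfsg.GU n K q) → Prop := fun g =>
    IsRegUnipMat ((g : GL (Fin n) K) : Matrix (Fin n) (Fin n) K)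
  have hZ : ∀ g : ↥(Cfsg.GU n K q), PG g →
      Nat.card (Subgroup.centralizer ({g} : Set ↥(Cfsg.GU n K q))) = Z := by
    intro g hg
    obtain ⟨c, hc⟩ := isConj_iff.1 (isConj_GU_of_regUnip hK g0 g hB0reg hg)
    rw [← hc, Cfsg.Agent.S2637.card_centralizer_conj]
  have hmul : ∀ s : ↥(Cfsg.SU n K q), PS s →
      Nat.card (Subgroup.centralizer ({s} : Set ↥(Cfsg.SU n K q))) * R = Z := by
    intro s hs
    rw [hR, card_centralizer_SU_mul bar hbar hn1 s hs]
    exact hZ _ hs
  have hz : ∀ s : ↥(Cfsg.SU n K q), PS s →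
      Nat.card (Subgroup.centralizer ({s} : Set ↥(Cfsg.SU n K q))) = Z / R := by
    intro s hs
    exact (Nat.div_eq_of_eq_mul_left hRpos (hmul s hs).symm).symm
  have hPS : ∀ u g : ↥(Cfsg.SU n K q), PS u → PS (g * u * g⁻¹) := by
    intro u g hu
    have := isRegUnipMat_conj (SpecialLinearGroup.toGL g.1) hu
    rw [← map_inv] at this
    exact this
  have hA := card_classes_mul_card (S := ↥(Cfsg.SU n K q)) PS hPS (Z / R) hz
  -- det of g0 is one, so g0 comes from SU
  have hdet0 : detU n bar hbar g0 = 1 := by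
    apply Subtype.ext
    apply Units.ext
    rw [detU_coe]
    exact det_eq_one_of_isRegUnipMat hB0reg
  obtain ⟨s0, hs0⟩ := exists_jSU_of_detU bar hbar g0 hdet0
  have hs0reg : PS s0 := by
    show IsRegUnipMat _
    rw [← jSU_coe bar hbar s0, hs0]
    exact hB0reg
  have hZR : Z / R * R = Z := by
    rw [← hz s0 hs0reg]
    exact hmul s0 hs0reg
  -- bijection between regular unipotents of SU and of GU
  have hB : Nat.card {s : ↥(Cfsg.SU n K q) // PS s} = Nat.card {g : ↥(Cfsg.GU n K q) // PG g} := by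
    apply Nat.card_congr
    refine Equiv.ofBijective (fun s => ⟨jSU bar hbar s.1, s.2⟩) ⟨?_, ?_⟩
    · intro s t hst
      have := congrArg Subtype.val hst
      exact Subtype.ext (jSU_injective bar hbar this)
    · rintro ⟨g, hg⟩
      have hdet : detU n bar hbar g = 1 := by
        apply Subtype.ext
        apply Units.ext
        rw [detU_coe]
        exact det_eq_one_of_isRegUnipMat hg
      obtain ⟨s, hs⟩ := exists_jSU_of_detU bar hbar g hdet
      refine ⟨⟨s, ?_⟩, Subtype.ext hs⟩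
      show IsRegUnipMat _
      rw [← jSU_coe bar hbar s, hs]
      exact hg
  have hC : Nat.card {g : ↥(Cfsg.GU n K q) // PG g} * Z = Nat.card ↥(Cfsg.GU n K q) := by
    rw [hZdef, ← card_class_mul_card_centralizer g0]
    congr 1
    apply Nat.card_congr
    refine Equiv.subtypeEquivRight ?_
    intro x
    rw [ConjClasses.mk_eq_mk_iff_isConj]
    constructor
    · intro hx
      exact isConj_GU_of_regUnip hK x g0 hx hB0reg
    · intro hx
      rw [isConj_comm, isConj_iff] at hx
      obtain ⟨c, rfl⟩ := hx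
      have := isRegUnipMat_conj (c : GL (Fin n) K) hB0reg
      exact this
  have hD := card_GU_eq hK n hn1
  have hE : R * Nat.gcd n (q + 1) = q + 1 := by
    have h2 : Nat.card (powMonoidHom n : U1 K q →* U1 K q).ker * R = Nat.card (U1 K q) := by
      rw [hR, ← Subgroup.index_ker, Subgroup.card_mul_index]
    have h3 : Nat.card (powMonoidHom n : U1 K q →* U1 K q).ker = (Nat.card (U1 K q)).gcd n :=
      IsCyclic.card_powMonoidHom_ker (U1 K q) n
    rw [h3, card_U1 hK] at h2
    rw [mul_comm, Nat.gcd_comm]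
    exact h2
  set X := Nat.card {C : ConjClasses ↥(Cfsg.SU n K q) // ∃ u : ↥(Cfsg.SU n K q), ConjClasses.mk u = C ∧ (((u : GL (Fin n) K) : Matrix (Fin n) (Fin n) K) - 1) ^ n = 0 ∧ (((u : GL (Fin n) K) : Matrix (Fin n) (Fin n) K) - 1).rank = n - 1} with hX
  change X * Nat.card ↥(Cfsg.SU n K q) = _ at hA
  set NS := Nat.card ↥(Cfsg.SU n K q) with hNS
  have hNSpos : 0 < NS := Nat.card_pos
  rw [hB] at hA
  have key : X * (NS * R) = Nat.gcd n (q + 1) * (NS * R) := by
    calc X * (NS * R) = (X * NS) * R := by ring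
      _ = Nat.card {g : ↥(Cfsg.GU n K q) // PG g} * (Z / R * R) := by rw [hA]; ring
      _ = Nat.card ↥(Cfsg.GU n K q) := by rw [hZR, hC]
      _ = (q + 1) * NS := hD
      _ = (R * Nat.gcd n (q + 1)) * NS := by rw [hE]
      _ = _ := by ring
  exact Nat.eq_of_mul_eq_mul_right (Nat.mul_pos hNSpos hRpos) key

end Cfsg.Agent.S2643
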