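import Cfsg.Statements.S2646
import Cfsg.Agent.Helper73.GUCentH
import Cfsg.Agent.Helper59.JCentE

set_option autoImplicit false
open Cfsg

namespace Cfsg.Agent.S2646

/-- Order of the centraliser in the general unitary group GU_n(q) of a unipotent element of given Jordan type: if u ∈ GU_n(q) (isometries of Σ u_i v_i^q over the field with q² elements) is similar to the unipotent matrix with a_i Jordan blocks of size i (all sizes at least 1), then its centraliser in GU_n(q) has order q^γ · Π_i |GU_(a_i)(q)| with γ = 2 Σ_(i<j) i a_i a_j + Σ_i (i − 1) a_i², the same exponent as in GL_n(q), where |GU_a(q)| = q^(a(a−1)/2) Π_(k=1)^a (q^k − (−1)^k). -/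
theorem result {K : Type*} [Field K] [Fintype K] {q n t : ℕ} (hK : Fintype.card K = q ^ 2) (d : Fin t → ℕ) (hd : ∀ k, 1 ≤ d k) (e : ((k : Fin t) × Fin (d k)) ≃ Fin n) (u : ↥(Cfsg.GU n K q)) (hu : IsConj (Matrix.reindex e e (Cfsg.jordanTypeMatrix d K)) ((u : GL (Fin n) K) : Matrix (Fin n) (Fin n) K)) : (Nat.card ↥(Subgroup.centralizer ({u} : Set ↥(Cfsg.GU n K q))) : ℤ) = (q : ℤ) ^ (2 * (∑ i ∈ Finset.range (Finset.univ.sup d + 1), ∑ j ∈ Finset.range (Finset.univ.sup d + 1), if i < j then i * (Finset.univ.filter (fun k : Fin t => d k = i)).card * (Finset.univ.filter (fun k : Fin t => d k = j)).card else 0) + ∑ i ∈ Finset.range (Finset.univ.sup d + 1), (i - 1) * (Finset.univ.filter (fun k : Fin t => d k = i)).card ^ 2) * ∏ i ∈ Finset.range (Finset.univ.sup d + 1), ((q : ℤ) ^ ((Finset.univ.filter (fun k : Fin t => d k = i)).card * ((Finset.univ.filter (fun k : Fin t => d k = i)).card - 1) / 2) * ∏ j : Fin (Finset.univ.filter (fun k : Fin t => d k = i)).card, ((q : ℤ) ^ ((j : ℕ) + 1) - (-1) ^ ((j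 : ℕ) + 1))) := by
  classical
  have hq1 : 1 ≤ q := by
    rcases Nat.eq_zero_or_pos q with h0 | hpos
    · have hc : 1 < Fintype.card K := Fintype.one_lt_card
      rw [hK, h0] at hc
      simp at hc
    · exact hpos
  have h1 := Cfsg.Agent.Helper73.GUCent.card_centralizer_GU hK d hd e u hu
  have h2 := Cfsg.Agent.Helper59.JCent.finrank_ker_Phi_add (F := K) d hd
  have h3 := Cfsg.Agent.Helper59.JCent.sum_min_eq d hd
  have hc : ∀ i : ℕ, Fintype.card {a : Fin t // d a = i}
      = (Finset.univ.filter (fun k : Fin t => d k = i)).card := fun i => Fintype.card_subtype _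
  have hfac : ∀ i : ℕ, Nat.card (Cfsg.GU (Fintype.card {a : Fin t // d a = i}) K q)
      = Nat.card (Cfsg.GU (Finset.univ.filter (fun k : Fin t => d k = i)).card K q) :=
    fun i => congrArg (fun m => Nat.card ↥(Cfsg.GU m K q)) (hc i)
  have hprod : (∏ i : Fin (Finset.univ.sup d + 1),
        Nat.card (Cfsg.GU (Fintype.card {a : Fin t // d a = (i : ℕ)}) K q))
      = ∏ i ∈ Finset.range (Finset.univ.sup d + 1),
        Nat.card (Cfsg.GU (Finset.univ.filter (fun k : Fin t => d k = i)).card K q) := by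
    rw [← Fin.prod_univ_eq_prod_range
      (fun i => Nat.card (Cfsg.GU (Finset.univ.filter (fun k : Fin t => d k = i)).card K q))]
    exact Finset.prod_congr rfl (fun i _ => hfac (i : ℕ))
  rw [h1, hprod]
  simp only [hc] at h2
  rw [Fin.sum_univ_eq_sum_range
    (fun i => (Finset.univ.filter (fun k : Fin t => d k = i)).card ^ 2)] at h2
  rw [Nat.cast_mul, Nat.cast_pow, Nat.cast_prod, mul_comm]
  congr 1
  · congr 1
    simp only [Cfsg.Agent.Helper59.JCent.mult] at h3
    omega
  · apply Finset.prod_congr rfl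
    intro i _
    rw [Cfsg.Agent.Helper45.GU.card_GU hK, Cfsg.Agent.S2677.cast_card_formula q _ hq1]

end Cfsg.Agent.S2646
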