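-- Statement S2665: Lang–Steinberg for GL_n over an algebraically closed field of characteristic p.
import Cfsg.Statements.S2665
import Cfsg.Agent.Helper44.LangBasis

set_option autoImplicit false
open scoped MatrixGroups
open Cfsg

namespace Cfsg.Agent.S2665

open Matrix

/-- The Lang–Steinberg Theorem for the general linear group. -/
theorem result {K : Type*} [Field K] [IsAlgClosed K] (p : ℕ) [Fact p.Prime] [CharP K p]
    (f : ℕ) (hf : 1 ≤ f) (n : ℕ) (g : GL (Fin n) K) :
    ∃ x : GL (Fin n) K, g = x * (Matrix.GeneralLinearGroup.map (iterateFrobenius K p f) x)⁻¹ := by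
  classical
  let σ := iterateFrobenius K p f
  have hσinj : Function.Injective σ := (bijective_iterateFrobenius K p f).1
  -- the semilinear map v ↦ g *ᵥ σ(v)
  let φ : (Fin n → K) →ₛₗ[σ] (Fin n → K) :=
    { toFun := fun v => (g : Matrix (Fin n) (Fin n) K) *ᵥ (fun i => σ (v i))
      map_add' := by
        intro u v
        rw [← Matrix.mulVec_add]
        congr 1
        funext i
        simp
      map_smul' := by
        intro c v
        rw [← Matrix.mulVec_smul]
        congr 1
        funext i
        simp }
  have hφ : ∀ v, φ v = (g : Matrix (Fin n) (Fin n) K) *ᵥ (fun i => σ (v i)) := fun v => rfl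
  have hinj : Function.Injective φ := by
    intro u v huv
    rw [hφ, hφ] at huv
    have h1 : (fun i => σ (u i)) = fun i => σ (v i) := by
      have := congrArg (fun w => ((g⁻¹ : GL (Fin n) K) : Matrix (Fin n) (Fin n) K) *ᵥ w) huv
      simpa [Matrix.mulVec_mulVec] using this
    funext i
    exact hσinj (congrFun h1 i)
  have hfr : Module.finrank K (Fin n → K) = n := Module.finrank_fin_fun K
  obtain ⟨v, hLI, hv⟩ := Helper44.exists_fixed_family p f hf φ hinj n (le_of_eq hfr.symm)
  let A : Matrix (Fin n) (Fin n) K := Matrix.of fun i j => v j i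
  have hAcol : A.col = v := by
    funext j i
    rfl
  have hAunit : IsUnit A := by
    rw [← Matrix.linearIndependent_cols_iff_isUnit, hAcol]
    exact hLI
  have hfix : (g : Matrix (Fin n) (Fin n) K) * A.map σ = A := by
    ext i j
    have := congrFun (hv j) i
    rw [hφ] at this
    simpa [Matrix.mul_apply, Matrix.mulVec, dotProduct, A] using this
  refine ⟨hAunit.unit, ?_⟩
  rw [eq_mul_inv_iff_mul_eq]
  apply Units.ext
  rw [Units.val_mul]
  have : ((Matrix.GeneralLinearGroup.map (iterateFrobenius K p f) hAunit.unit : GL (Fin n) K) :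
      Matrix (Fin n) (Fin n) K) = A.map σ := by
    ext i j
    rw [Matrix.GeneralLinearGroup.map_apply]
    rfl
  rw [this, hfix]
  rfl

end Cfsg.Agent.S2665
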