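-- Statement S2666: abstract Shintani descent, the bijection.
import Cfsg.Statements.S2666

set_option autoImplicit false
open Cfsg

namespace Cfsg.Agent.S2666

theorem pow_fixed {X : Type*} [Group X] (σ : MulAut X) (h : X) (hh : σ h = h) (e : ℕ) :
    (σ ^ e) h = h := by
  induction e with
  | zero => simp
  | succ n ih => rw [pow_succ, MulAut.mul_apply, hh, ih]

theorem pow_succ_apply {X : Type*} [Group X] (σ : MulAut X) (e : ℕ) (a : X) :
    (σ ^ e) (σ a) = σ ((σ ^ e) a) := by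
  have h1 : (σ ^ e) (σ a) = (σ ^ (e + 1)) a := by rw [pow_succ, MulAut.mul_apply]
  have h2 : σ ((σ ^ e) a) = (σ ^ (e + 1)) a := by rw [pow_succ', MulAut.mul_apply]
  rw [h1, h2]

/-- telescoping norm -/
theorem norm_eq {X : Type*} [Group X] (σ : MulAut X) (a : X) (e : ℕ) :
    ((List.range e).map (fun i => (σ ^ i) (a * (σ a)⁻¹))).prod = a * ((σ ^ e) a)⁻¹ := by
  induction e with
  | zero => simp
  | succ n ih =>
    rw [List.range_succ, List.map_append, List.prod_append, ih]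
    simp only [List.map_cons, List.map_nil, List.prod_cons, List.prod_nil, mul_one, map_mul, map_inv]
    rw [pow_succ_apply]
    have : (σ ^ (n + 1)) a = σ ((σ ^ n) a) := by rw [pow_succ', MulAut.mul_apply]
    rw [this]
    group

/-- Shintani descent, in an abstract form. -/
theorem result {X : Type*} [Group X] (σ : MulAut X) (e : ℕ) (he : 1 ≤ e)
    (hL : ∀ g : X, ∃ a : X, g = a * (σ a)⁻¹) (hLe : ∀ g : X, ∃ a : X, g = a * ((σ ^ e) a)⁻¹) :
    (∀ g ∈ (MulEquiv.toMonoidHom (σ ^ e)).eqLocus (MonoidHom.id X), ∀ a : X, g = a * (σ a)⁻¹ →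
        ((σ ^ e) a)⁻¹ * a ∈ (MulEquiv.toMonoidHom σ).eqLocus (MonoidHom.id X) ∧
          a⁻¹ * ((List.range e).map (fun i => (σ ^ i) g)).prod * a = ((σ ^ e) a)⁻¹ * a) ∧
    (∀ g ∈ (MulEquiv.toMonoidHom (σ ^ e)).eqLocus (MonoidHom.id X), ∀ g' ∈ (MulEquiv.toMonoidHom (σ ^ e)).eqLocus (MonoidHom.id X), ∀ a b : X,
        g = a * (σ a)⁻¹ → g' = b * (σ b)⁻¹ →
          ((∃ k ∈ (MulEquiv.toMonoidHom (σ ^ e)).eqLocus (MonoidHom.id X), g' = k * g * (σ k)⁻¹) ↔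
            (∃ h ∈ (MulEquiv.toMonoidHom σ).eqLocus (MonoidHom.id X), ((σ ^ e) b)⁻¹ * b = h * (((σ ^ e) a)⁻¹ * a) * h⁻¹))) ∧
    (∀ x ∈ (MulEquiv.toMonoidHom σ).eqLocus (MonoidHom.id X), ∃ g ∈ (MulEquiv.toMonoidHom (σ ^ e)).eqLocus (MonoidHom.id X), ∃ a : X,
        g = a * (σ a)⁻¹ ∧ ((σ ^ e) a)⁻¹ * a = x) := by
  have mem1 : ∀ y : X, y ∈ (MulEquiv.toMonoidHom (σ ^ e)).eqLocus (MonoidHom.id X) ↔ (σ ^ e) y = y :=
    fun y => Iff.rfl
  have mem2 : ∀ y : X, y ∈ (MulEquiv.toMonoidHom σ).eqLocus (MonoidHom.id X) ↔ σ y = y :=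
    fun y => Iff.rfl
  simp only [mem1, mem2]
  -- key fact: for g = a σ(a)⁻¹, g is σ^e-fixed iff x = σ^e(a)⁻¹ a is σ-fixed
  have key : ∀ a : X, (σ ^ e) (a * (σ a)⁻¹) = a * (σ a)⁻¹ ↔ σ (((σ ^ e) a)⁻¹ * a) = ((σ ^ e) a)⁻¹ * a := by
    intro a
    simp only [map_mul, map_inv]
    rw [pow_succ_apply]
    constructor
    · intro h
      have h1 : (σ ((σ ^ e) a))⁻¹ = ((σ ^ e) a)⁻¹ * (a * (σ a)⁻¹) := by
        rw [← h]; group
      rw [h1]; group
    · intro h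
      have h1 : (σ ((σ ^ e) a))⁻¹ = ((σ ^ e) a)⁻¹ * a * (σ a)⁻¹ := by
        rw [← h]; group
      rw [h1]; group
  refine ⟨?_, ?_, ?_⟩
  · intro g hg a ha
    subst ha
    refine ⟨(key a).1 hg, ?_⟩
    rw [norm_eq]
    group
  · intro g hg g' hg' a b ha hb
    subst ha hb
    have hxa := (key a).1 hg
    have hxb := (key b).1 hg'
    constructor
    · rintro ⟨k, hk, hkk⟩
      -- h' = (k a)⁻¹ b is σ-fixed
      have hfix : σ (a⁻¹ * k⁻¹ * b) = a⁻¹ * k⁻¹ * b := by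
        simp only [map_mul, map_inv]
        have h1 : (σ b)⁻¹ = b⁻¹ * (k * (a * (σ a)⁻¹) * (σ k)⁻¹) := by
          rw [← hkk]; group
        have h2 : σ b = σ k * σ a * a⁻¹ * k⁻¹ * b := by
          rw [← inv_inv (σ b), h1]; group
        rw [h2]; group
      refine ⟨b⁻¹ * k * a, ?_, ?_⟩
      · have : b⁻¹ * k * a = (a⁻¹ * k⁻¹ * b)⁻¹ := by group
        rw [this, map_inv, hfix]
      · have h2 := pow_fixed σ _ hfix e
        simp only [map_mul, map_inv] at h2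
        rw [hk] at h2
        -- h2 : ((σ ^ e) a)⁻¹ * k⁻¹ * (σ ^ e) b = a⁻¹ * k⁻¹ * b
        have h3 : (σ ^ e) b = k * (σ ^ e) a * (a⁻¹ * k⁻¹ * b) := by
          rw [← h2]; group
        rw [h3]; group
    · rintro ⟨h, hh, hconj⟩
      refine ⟨b * h * a⁻¹, ?_, ?_⟩
      · simp only [map_mul, map_inv]
        rw [pow_fixed σ h hh e]
        have h4 : (σ ^ e) b = b * (h * (((σ ^ e) a)⁻¹ * a) * h⁻¹)⁻¹ := by
          rw [← hconj]; group
        rw [h4]; group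
      · simp only [map_mul, map_inv, hh]
        group
  · intro x hx
    obtain ⟨c, hc⟩ := hLe x⁻¹
    have hxc : ((σ ^ e) c⁻¹)⁻¹ * c⁻¹ = x := by
      rw [map_inv, inv_inv]
      have : x = (x⁻¹)⁻¹ := by group
      rw [this, hc]; group
    refine ⟨c⁻¹ * (σ c⁻¹)⁻¹, ?_, c⁻¹, rfl, hxc⟩
    rw [key, hxc]
    exact hx

end Cfsg.Agent.S2666
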