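import Cfsg.Statements.S2668

set_option autoImplicit false
open Cfsg

namespace Cfsg.Agent.S2668

theorem telescope {X : Type*} [Group X] (σ : MulAut X) (a : X) (d : ℕ) :
    ((List.range d).map (fun i => (σ ^ i) (a * (σ a)⁻¹))).prod = a * ((σ ^ d) a)⁻¹ := by
  induction d with
  | zero => simp
  | succ n ih =>
    rw [List.range_succ, List.map_append, List.prod_append, ih]
    simp only [List.map_cons, List.map_nil, List.prod_cons, List.prod_nil, mul_one, map_mul, map_inv]
    have : (σ ^ n) (σ a) = (σ ^ (n + 1)) a := by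
      rw [pow_succ]; rfl
    rw [this]
    group

theorem fixed_prod {X : Type*} [Group X] (σ τ : MulAut X) (hc : Commute τ σ) (g : X) (hg : τ g = g) (d : ℕ) :
    τ (((List.range d).map (fun i => (σ ^ i) g)).prod) = ((List.range d).map (fun i => (σ ^ i) g)).prod := by
  rw [map_list_prod, List.map_map]
  congr 1
  apply List.map_congr_left
  intro i _
  simp only [Function.comp]
  have h := (hc.pow_right i)
  have : τ ((σ ^ i) g) = (τ * σ ^ i) g := rfl
  rw [this, h.eq]
  show (σ ^ i) (τ g) = _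
  rw [hg]

theorem pow_fixed {X : Type*} [Group X] (τ : MulAut X) (h : X) (hh : τ h = h) (d : ℕ) :
    (τ ^ d) h = h := by
  induction d with
  | zero => simp
  | succ n ih =>
    rw [pow_succ]
    show (τ ^ n) (τ h) = h
    rw [hh, ih]

/-- Shintani descent and powers (abstract form). -/
theorem result {X : Type*} [Group X] (σ : MulAut X) (e d : ℕ) (he : 1 ≤ e) (hd : 1 ≤ d)
    (g : X) (hg : g ∈ (MulEquiv.toMonoidHom (σ ^ e)).eqLocus (MonoidHom.id X)) (a : X) (ha : g = a * (σ a)⁻¹) :
    ((List.range d).map (fun i => (σ ^ i) g)).prod = a * ((σ ^ d) a)⁻¹ ∧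
      ((List.range d).map (fun i => (σ ^ i) g)).prod ∈ (MulEquiv.toMonoidHom ((σ ^ d) ^ e)).eqLocus (MonoidHom.id X) ∧
      (((σ ^ d) ^ e) a)⁻¹ * a = (((σ ^ e) a)⁻¹ * a) ^ d := by
  have hg' : (σ ^ e) g = g := hg
  refine ⟨?_, ?_, ?_⟩
  · rw [ha]; exact telescope σ a d
  · show ((σ ^ d) ^ e) _ = _
    have h1 : (σ ^ d) ^ e = (σ ^ e) ^ d := by rw [← pow_mul, ← pow_mul, mul_comm]
    rw [h1]
    apply pow_fixed
    apply fixed_prod σ (σ ^ e) ?_ g hg' d
    exact (Commute.refl σ).pow_left e
  · have h1 : (σ ^ d) ^ e = (σ ^ e) ^ d := by rw [← pow_mul, ← pow_mul, mul_comm]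
    rw [h1]
    set τ := σ ^ e with hτ
    set x := (τ a)⁻¹ * a with hx
    -- x is fixed by σ
    have hcomm : τ * σ = σ * τ := ((Commute.refl σ).pow_left e).eq
    have hσx : σ x = x := by
      have h2 : τ (a * (σ a)⁻¹) = a * (σ a)⁻¹ := by rw [← ha]; exact hg'
      rw [map_mul, map_inv] at h2
      have h3 : τ (σ a) = σ (τ a) := by
        show (τ * σ) a = (σ * τ) a
        rw [hcomm]
      rw [h3] at h2
      rw [hx, map_mul, map_inv]
      -- h2 : τ a * (σ (τ a))⁻¹ = a * (σ a)⁻¹
      have h4 : (σ (τ a))⁻¹ = (τ a)⁻¹ * (a * (σ a)⁻¹) := by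
        rw [← h2]; group
      rw [h4]; group
    have hτx : τ x = x := pow_fixed σ x hσx e
    have key : ∀ k : ℕ, (τ ^ k) a = a * (x ^ k)⁻¹ := by
      intro k
      induction k with
      | zero => simp
      | succ n ih =>
        rw [pow_succ']
        show τ ((τ ^ n) a) = _
        rw [ih, map_mul, map_inv, map_pow, hτx]
        have : τ a = a * x⁻¹ := by rw [hx]; group
        rw [this, pow_succ']
        group
    rw [key d]
    group

end Cfsg.Agent.S2668
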