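import Cfsg.Statements.S2669

set_option autoImplicit false
open Cfsg

namespace Cfsg.Agent.S2669

variable {X : Type*} [Group X]

theorem stable_pow (σ : MulAut X) (Y : Subgroup X) (hY : ∀ y : X, y ∈ Y ↔ σ y ∈ Y) (e : ℕ) :
    ∀ y : X, y ∈ Y ↔ (σ ^ e) y ∈ Y := by
  induction e with
  | zero => intro y; simp
  | succ n ih =>
    intro y
    rw [pow_succ]
    show _ ↔ (σ ^ n) (σ y) ∈ Y
    rw [← ih, ← hY]

theorem pow_fixed (τ : MulAut X) (h : X) (hh : τ h = h) (d : ℕ) :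
    (τ ^ d) h = h := by
  induction d with
  | zero => simp
  | succ n ih =>
    rw [pow_succ]
    show (τ ^ n) (τ h) = h
    rw [hh, ih]

/-- Lang-type lemma: `z σ(z)⁻¹ ∈ Y` iff `z ∈ Y · Fix(σ)`. -/
theorem lang_iff (σ : MulAut X) (Y : Subgroup X) (hY : ∀ y : X, y ∈ Y ↔ σ y ∈ Y)
    (hYL : ∀ y ∈ Y, ∃ a ∈ Y, y = a * (σ a)⁻¹) (z : X) :
    z * (σ z)⁻¹ ∈ Y ↔ ∃ h : X, σ h = h ∧ z * h ∈ Y := by
  constructor
  · intro hz
    obtain ⟨y, hyY, hy⟩ := hYL _ hz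
    refine ⟨z⁻¹ * y, ?_, ?_⟩
    · rw [map_mul, map_inv]
      have h1 : (σ z)⁻¹ = z⁻¹ * (y * (σ y)⁻¹) := by rw [← hy]; group
      rw [h1]; group
    · have : z * (z⁻¹ * y) = y := by group
      rw [this]; exact hyY
  · rintro ⟨h, hh, hzh⟩
    have h1 : σ (z * h) ∈ Y := (hY _).1 hzh
    have h2 : z * (σ z)⁻¹ = (z * h) * (σ (z * h))⁻¹ := by
      rw [map_mul, hh]; group
    rw [h2]
    exact Y.mul_mem hzh (Y.inv_mem h1)

/-- Double counting, left fibres. -/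
theorem count_left (G H Y : Subgroup X) (a : X) :
    Nat.card {p : G × H // (p.1 : X)⁻¹ * a * (p.2 : X) ∈ Y} =
    Nat.card {k : G // ∃ h : H, (k : X)⁻¹ * a * (h : X) ∈ Y} * Nat.card ↥(Y ⊓ H) := by
  rw [← Nat.card_prod]
  apply Nat.card_congr
  classical
  let h₀ : {k : G // ∃ h : H, (k : X)⁻¹ * a * (h : X) ∈ Y} → H := fun k => Classical.choose k.2
  have hh₀ : ∀ k : {k : G // ∃ h : H, (k : X)⁻¹ * a * (h : X) ∈ Y},
      ((k : G) : X)⁻¹ * a * (h₀ k : X) ∈ Y := fun k => Classical.choose_spec k.2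
  refine
    { toFun := fun p =>
        (⟨p.1.1, ⟨p.1.2, p.2⟩⟩,
          ⟨((h₀ ⟨p.1.1, ⟨p.1.2, p.2⟩⟩ : H) : X)⁻¹ * (p.1.2 : X), ?_⟩)
      invFun := fun q => ⟨(q.1.1, ⟨(h₀ q.1 : X) * (q.2 : X), ?_⟩), ?_⟩
      left_inv := ?_
      right_inv := ?_ }
  · -- membership in Y ⊓ H
    refine ⟨?_, ?_⟩
    · have h1 := hh₀ ⟨p.1.1, ⟨p.1.2, p.2⟩⟩
      have h2 := p.2
      have : ((h₀ ⟨p.1.1, ⟨p.1.2, p.2⟩⟩ : H) : X)⁻¹ * (p.1.2 : X) =
          (((p.1.1 : G) : X)⁻¹ * a * (h₀ ⟨p.1.1, ⟨p.1.2, p.2⟩⟩ : X))⁻¹ *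
            (((p.1.1 : G) : X)⁻¹ * a * (p.1.2 : X)) := by group
      show _ ∈ Y
      rw [this]
      exact Y.mul_mem (Y.inv_mem h1) h2
    · exact H.mul_mem (H.inv_mem (h₀ _).2) p.1.2.2
  · exact H.mul_mem (h₀ q.1).2 q.2.2.2
  · show ((q.1.1 : G) : X)⁻¹ * a * ((h₀ q.1 : X) * (q.2 : X)) ∈ Y
    have : ((q.1.1 : G) : X)⁻¹ * a * ((h₀ q.1 : X) * (q.2 : X)) =
        (((q.1.1 : G) : X)⁻¹ * a * (h₀ q.1 : X)) * (q.2 : X) := by group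
    rw [this]
    exact Y.mul_mem (hh₀ q.1) q.2.2.1
  · rintro ⟨⟨k, h⟩, hp⟩
    apply Subtype.ext
    apply Prod.ext
    · rfl
    · apply Subtype.ext
      simp
  · rintro ⟨k, u⟩
    apply Prod.ext
    · rfl
    · apply Subtype.ext
      simp

/-- Double counting, right fibres. -/
theorem count_right (G H Y : Subgroup X) (a : X) :
    Nat.card {p : G × H // (p.1 : X)⁻¹ * a * (p.2 : X) ∈ Y} =
    Nat.card {h : H // ∃ k : G, (k : X)⁻¹ * a * (h : X) ∈ Y} * Nat.card ↥(Y ⊓ G) := by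
  have key : ∀ (k h : X), k⁻¹ * a * h ∈ Y ↔ h⁻¹ * a⁻¹ * k ∈ Y := by
    intro k h
    have : h⁻¹ * a⁻¹ * k = (k⁻¹ * a * h)⁻¹ := by group
    rw [this, Y.inv_mem_iff]
  have e1 : {p : G × H // (p.1 : X)⁻¹ * a * (p.2 : X) ∈ Y} ≃
      {p : H × G // (p.1 : X)⁻¹ * a⁻¹ * (p.2 : X) ∈ Y} :=
    (Equiv.prodComm G H).subtypeEquiv (by
      rintro ⟨k, h⟩
      exact key k h)
  have e2 : {h : H // ∃ k : G, (k : X)⁻¹ * a * (h : X) ∈ Y} ≃
      {h : H // ∃ k : G, (h : X)⁻¹ * a⁻¹ * (k : X) ∈ Y} :=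
    Equiv.subtypeEquivRight (by
      intro h
      constructor
      · rintro ⟨k, hk⟩; exact ⟨k, (key _ _).1 hk⟩
      · rintro ⟨k, hk⟩; exact ⟨k, (key _ _).2 hk⟩)
  rw [Nat.card_congr e1, Nat.card_congr e2]
  exact count_left H G Y a⁻¹

/-- Shintani descent preserves numbers of fixed points on coset spaces (abstract form). -/
theorem result {X : Type*} [Group X] (σ : MulAut X) (e : ℕ) (he : 1 ≤ e)
    [Finite ↥((MulEquiv.toMonoidHom (σ ^ e)).eqLocus (MonoidHom.id X))]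
    (Y : Subgroup X) (hY : ∀ y : X, y ∈ Y ↔ σ y ∈ Y)
    (hYL : ∀ y ∈ Y, ∃ a ∈ Y, y = a * (σ a)⁻¹) (hYLe : ∀ y ∈ Y, ∃ a ∈ Y, y = a * ((σ ^ e) a)⁻¹)
    (g : X) (hg : g ∈ (MulEquiv.toMonoidHom (σ ^ e)).eqLocus (MonoidHom.id X)) (a : X) (ha : g = a * (σ a)⁻¹) :
    Nat.card {k : ↥((MulEquiv.toMonoidHom (σ ^ e)).eqLocus (MonoidHom.id X)) // (k : X)⁻¹ * g * σ k ∈ Y} *
        Nat.card ↥(Y ⊓ (MulEquiv.toMonoidHom σ).eqLocus (MonoidHom.id X)) =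
      Nat.card {h : ↥((MulEquiv.toMonoidHom σ).eqLocus (MonoidHom.id X)) // (h : X)⁻¹ * (((σ ^ e) a)⁻¹ * a) * h ∈ Y} *
        Nat.card ↥(Y ⊓ (MulEquiv.toMonoidHom (σ ^ e)).eqLocus (MonoidHom.id X)) := by
  set G : Subgroup X := (MulEquiv.toMonoidHom (σ ^ e)).eqLocus (MonoidHom.id X) with hG
  set H : Subgroup X := (MulEquiv.toMonoidHom σ).eqLocus (MonoidHom.id X) with hH
  have memG : ∀ x : X, x ∈ G ↔ (σ ^ e) x = x := fun x => Iff.rfl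
  have memH : ∀ x : X, x ∈ H ↔ σ x = x := fun x => Iff.rfl
  have hYe := stable_pow σ Y hY e
  -- first identification
  have eA : {k : G // (k : X)⁻¹ * g * σ k ∈ Y} ≃ {k : G // ∃ h : H, (k : X)⁻¹ * a * (h : X) ∈ Y} :=
    Equiv.subtypeEquivRight (by
      intro k
      have h1 : (k : X)⁻¹ * g * σ k = ((k : X)⁻¹ * a) * (σ ((k : X)⁻¹ * a))⁻¹ := by
        rw [ha, map_mul, map_inv]; group
      rw [h1, lang_iff σ Y hY hYL]
      constructor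
      · rintro ⟨h, hh, hm⟩; exact ⟨⟨h, (memH h).2 hh⟩, hm⟩
      · rintro ⟨h, hm⟩; exact ⟨h, (memH _).1 h.2, hm⟩)
  have eB : {h : H // (h : X)⁻¹ * (((σ ^ e) a)⁻¹ * a) * h ∈ Y} ≃
      {h : H // ∃ k : G, (k : X)⁻¹ * a * (h : X) ∈ Y} :=
    Equiv.subtypeEquivRight (by
      intro h
      have hfix : (σ ^ e) (h : X) = h := pow_fixed σ _ ((memH _).1 h.2) e
      have h1 : (h : X)⁻¹ * (((σ ^ e) a)⁻¹ * a) * h =
          ((a * (h : X))⁻¹ * ((σ ^ e) (a * (h : X))⁻¹)⁻¹)⁻¹ := by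
        rw [map_inv, map_mul, hfix]; group
      rw [h1, Y.inv_mem_iff, lang_iff (σ ^ e) Y hYe hYLe]
      constructor
      · rintro ⟨k, hk, hm⟩
        refine ⟨⟨k, (memG k).2 hk⟩, ?_⟩
        have : ((⟨k, (memG k).2 hk⟩ : G) : X)⁻¹ * a * (h : X) = ((a * (h : X))⁻¹ * k)⁻¹ := by
          show k⁻¹ * a * (h : X) = _
          group
        rw [this, Y.inv_mem_iff]; exact hm
      · rintro ⟨k, hm⟩
        refine ⟨k, (memG _).1 k.2, ?_⟩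
        have : (a * (h : X))⁻¹ * (k : X) = ((k : X)⁻¹ * a * (h : X))⁻¹ := by group
        rw [this, Y.inv_mem_iff]; exact hm)
  rw [Nat.card_congr eA, Nat.card_congr eB, ← count_left G H Y a, ← count_right G H Y a]

end Cfsg.Agent.S2669
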