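import Cfsg.Statements.S2670
import Cfsg.Agent.Helper43.PGLPrimeE
import Cfsg.Agent.Helper43.PGLPrimeF
import Cfsg.Agent.Helper43.PGLPrimeCount

set_option autoImplicit false
open Cfsg

namespace Cfsg.Agent.S2670

open Cfsg.Agent.Helper43.PGLInv Cfsg.Agent.Helper43.SS Cfsg.Agent.Helper43.PGLPrime MulAction

/-- Number of conjugacy classes of elements of prime order r in PGL_n(q) = GL_n(q)/scalars when r divides q − 1 (n ≥ 2): the classes of elements with a diagonalisable lift correspond to the orbits of the cyclic rotation on the r-tuples of eigenvalue multiplicities (a_0, …, a_(r−1)) summing to n with every a_j < n, and when r divides n there are r − 1 further classes (lifts acting irreducibly on blocks of size r); in all (C(n+r−1, r−1) − r − [r ∣ n])/r + r·[r ∣ n] classes. -/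
theorem result {F : Type*} [Field F] [Fintype F] {q : ℕ} (hF : Fintype.card F = q) {n r : ℕ} (hn : 2 ≤ n) (hr : r.Prime) (hrq : r ∣ q - 1) : Nat.card {C : ConjClasses (GL (Fin n) F ⧸ Subgroup.center (GL (Fin n) F)) // ∃ g : GL (Fin n) F ⧸ Subgroup.center (GL (Fin n) F), ConjClasses.mk g = C ∧ orderOf g = r} = (Nat.choose (n + r - 1) (r - 1) - r - (if r ∣ n then 1 else 0)) / r + r * (if r ∣ n then 1 else 0) := by
  classical
  subst hF
  haveI : NeZero r := ⟨hr.ne_zero⟩
  haveI : Fact r.Prime := ⟨hr⟩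
  have hn1 : 1 ≤ n := by omega
  have hq1 : 1 ≤ Fintype.card F := Fintype.card_pos
  -- `r` is invertible in `F`
  have hrF : (r : F) ≠ 0 := by
    intro h0
    obtain ⟨p, hp⟩ := CharP.exists F
    haveI : CharP F p := hp
    have hpp : p.Prime := CharP.char_is_prime F p
    have h1 : p ∣ r := (CharP.cast_eq_zero_iff F p r).mp h0
    have h2 : p = r := (Nat.prime_dvd_prime_iff_eq hpp hr).mp h1
    have h3 : p ∣ Fintype.card F :=
      (CharP.cast_eq_zero_iff F p _).mp (FiniteField.cast_card_eq_zero F)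
    rw [h2] at h3
    have h4 : r ∣ Fintype.card F - (Fintype.card F - 1) := Nat.dvd_sub h3 hrq
    have h5 : Fintype.card F - (Fintype.card F - 1) = 1 := by omega
    rw [h5] at h4
    exact hr.one_lt.ne' (Nat.dvd_one.mp h4)
  -- a primitive `r`-th root of unity
  obtain ⟨u, hu⟩ := exists_prime_orderOf_dvd_card (G := Fˣ) r (by rw [Fintype.card_units]; exact hrq)
  set ζ : F := (u : F) with hζdef
  have hζ : orderOf ζ = r := by rw [hζdef, orderOf_units]; exact hu
  -- the invariant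
  refine (card_classes_eq' (fun x : PGL n F => orderOf x = r)
    (fun x => ((kap r x, orbQ ζ r x) : (Fˣ ⧸ Pr F r) × Om n r))
    (fun t => (t.1 = 1 ∧ t.2 ≠ Quotient.mk _ (dlt n r 0)) ∨
      (t.1 ≠ 1 ∧ t.2 = Quotient.mk _ (dlt n r 0) ∧ r ∣ n)) ?_ ?_ ?_ ?_).trans ?_
  · intro x c hx
    have hx1 : x ^ r = 1 := by rw [← hx]; exact pow_orderOf_eq_one x
    show (kap r (c * x * c⁻¹), orbQ ζ r (c * x * c⁻¹)) = (kap r x, orbQ ζ r x)
    rw [kap_conj hn1 x c hx1, orbQ_conj hr hζ hrF hn1]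
  · intro x y hx hy hxy
    have hx1 : x ^ r = 1 := by rw [← hx]; exact pow_orderOf_eq_one x
    have hy1 : y ^ r = 1 := by rw [← hy]; exact pow_orderOf_eq_one y
    have hk : kap r x = kap r y := congrArg Prod.fst hxy
    have ho : orbQ ζ r x = orbQ ζ r y := congrArg Prod.snd hxy
    by_cases hk1 : kap r x = 1
    · obtain ⟨g, rfl, hg⟩ := (isSplit_iff_kap hn1 x hx1).mpr hk1
      obtain ⟨h, rfl, hh⟩ := (isSplit_iff_kap hn1 y hy1).mpr (hk ▸ hk1)
      rw [orbQ_mk hr hζ hrF hn1 g hg, orbQ_mk hr hζ hrF hn1 h hh] at ho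
      exact isConj_of_mvec_orbit_eq hr hζ hrF g h hg hh ho
    · exact isConj_of_kap_eq hr hrF hn1 x y hx hy hk hk1
  · intro x hx
    have hx1 : x ^ r = 1 := by rw [← hx]; exact pow_orderOf_eq_one x
    by_cases hk1 : kap r x = 1
    · left
      refine ⟨hk1, ?_⟩
      obtain ⟨g, rfl, hg⟩ := (isSplit_iff_kap hn1 x hx1).mpr hk1
      show orbQ ζ r _ ≠ _
      rw [orbQ_mk hr hζ hrF hn1 g hg]
      exact mvec_orbit_ne_dlt hr hζ hrF g hg ((orderOf_mk_eq_prime_iff hr g).mp hx).2
    · right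
      refine ⟨hk1, ?_, dvd_of_kap_ne_one hr hn1 x hx hk1⟩
      have hns : ¬ IsSplit r x := fun h => hk1 ((isSplit_iff_kap hn1 x hx1).mp h)
      show orbQ ζ r x = _
      unfold orbQ
      rw [dif_neg hns]
  · rintro ⟨k, ω⟩ (⟨hk, hω⟩ | ⟨hk, hω, hrn⟩)
    · obtain ⟨x, hx, hsp, hxo⟩ := exists_split_class hr hζ hrF hn1 ω hω
      have hx1 : x ^ r = 1 := by rw [← hx]; exact pow_orderOf_eq_one x
      refine ⟨x, hx, ?_⟩
      show (kap r x, orbQ ζ r x) = (k, ω)
      rw [(isSplit_iff_kap hn1 x hx1).mp hsp, hxo]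
      exact Prod.ext hk.symm rfl
    · obtain ⟨x, hx, hxk⟩ := exists_nonsplit_class hr hn1 hrn k hk
      have hx1 : x ^ r = 1 := by rw [← hx]; exact pow_orderOf_eq_one x
      refine ⟨x, hx, ?_⟩
      have hns : ¬ IsSplit r x := fun h => hk (hxk ▸ (isSplit_iff_kap hn1 x hx1).mp h)
      show (kap r x, orbQ ζ r x) = (k, ω)
      have ho : orbQ ζ r x = Quotient.mk _ (dlt n r 0) := by
        unfold orbQ
        rw [dif_neg hns]
      rw [hxk, ho]
      exact Prod.ext rfl hω.symm
  · have hK : Nat.card (Fˣ ⧸ Pr F r) = r := by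
      rw [← Subgroup.index_eq_card, IsCyclic.index_powMonoidHom_range, Nat.card_eq_fintype_card,
        Fintype.card_units]
      exact Nat.gcd_eq_right hrq
    rw [card_values (K := Fˣ ⧸ Pr F r) (Ω := Om n r) (Quotient.mk _ (dlt n r 0)) (r ∣ n), hK]
    have hN := natCard_orbits (n := n) hr
    have hC : (n + r - 1).choose (r - 1) = (r + n - 1).choose n := by
      rw [show n + r - 1 = r + n - 1 by omega, ← Nat.choose_symm_of_eq_add]
      have := hr.two_le
      omega
    rw [hC]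
    exact final_arith _ _ r n hr.two_le (fun _ => choose_bound n r hn hr.two_le) hN

end Cfsg.Agent.S2670
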