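import Cfsg.Statements.S2672
import Cfsg.Agent.Helper38.PGUNonsplit
import Cfsg.Agent.Helper43.PGLPrimeCount

set_option autoImplicit false
open Cfsg

namespace Cfsg.Agent.S2672

open Cfsg.Agent.Helper43.SS Cfsg.Agent.Helper43.PGLPrime Cfsg.Agent.Helper38.PG Cfsg.Agent.Helper38.PGU
  Cfsg.Agent.Helper45.GU MulAction

/-- Number of conjugacy classes of elements of odd prime order r in PGU_n(q) = GU_n(q)/scalars (n ≥ 3) when r divides q + 1: as in the linear case with q − 1 replaced by q + 1, the classes correspond to the rotation orbits on r-tuples of eigenvalue multiplicities summing to n with every entry < n, plus r − 1 further classes when r divides n; in all (C(n+r−1, r−1) − r − [r ∣ n])/r + r·[r ∣ n]. -/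
theorem result {K : Type*} [Field K] [Fintype K] {q n r : ℕ} (hK : Fintype.card K = q ^ 2) (hn : 3 ≤ n) (hr : r.Prime) (hr2 : r ≠ 2) (hrq : r ∣ q + 1) : Nat.card {C : ConjClasses (↥(Cfsg.GU n K q) ⧸ Subgroup.center ↥(Cfsg.GU n K q)) // ∃ g : ↥(Cfsg.GU n K q) ⧸ Subgroup.center ↥(Cfsg.GU n K q), ConjClasses.mk g = C ∧ orderOf g = r} = (Nat.choose (n + r - 1) (r - 1) - r - (if r ∣ n then 1 else 0)) / r + r * (if r ∣ n then 1 else 0) := by
  classical
  have : NeZero r := ⟨hr.ne_zero⟩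
  have : Fact r.Prime := ⟨hr⟩
  have hn1 : 1 ≤ n := by omega
  obtain ⟨bar, hbar⟩ := exists_bar hK
  have hq1 : 1 ≤ q := by
    rcases Nat.eq_zero_or_pos q with rfl | h
    · have := Fintype.card_pos (α := K)
      rw [hK] at this
      simp at this
    · exact h
  -- `r` is invertible in `K`
  have hrF : (r : K) ≠ 0 := by
    intro h0
    obtain ⟨m, hm⟩ := hrq
    have h1 : ((q + 1 : ℕ) : K) = 0 := by rw [hm, Nat.cast_mul, h0, zero_mul]
    rw [Nat.cast_add, q_cast_eq_zero hK, zero_add, Nat.cast_one] at h1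
    exact one_ne_zero h1
  have hrc : r.Coprime (q - 1) := by
    rw [Nat.Prime.coprime_iff_not_dvd hr]
    intro h1
    have h2 : r ∣ (q + 1) - (q - 1) := Nat.dvd_sub hrq h1
    have h3 : (q + 1) - (q - 1) = 2 := by omega
    rw [h3] at h2
    exact hr2 ((Nat.prime_dvd_prime_iff_eq hr Nat.prime_two).1 h2)
  -- a primitive `r`-th root of unity
  have hcardU : Fintype.card Kˣ = (q - 1) * (q + 1) := by
    rw [Fintype.card_units, hK]
    obtain ⟨m, rfl⟩ : ∃ m, q = m + 1 := ⟨q - 1, by omega⟩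
    simp only [Nat.add_sub_cancel]
    have : (m + 1) ^ 2 = m * (m + 1 + 1) + 1 := by ring
    omega
  obtain ⟨u, hu⟩ := exists_prime_orderOf_dvd_card (G := Kˣ) r
    (by rw [hcardU]; exact Dvd.dvd.mul_left hrq _)
  set ζ : K := (u : K) with hζdef
  have hζ : orderOf ζ = r := by rw [hζdef, orderOf_units]; exact hu
  have huU : u ∈ U1 K q := by
    rw [U1, MonoidHom.mem_ker, powMonoidHom_apply]
    obtain ⟨m, hm⟩ := hrq
    rw [hm, pow_mul, ← hu, pow_orderOf_eq_one, one_pow]
  have hu1 : u ≠ 1 := by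
    rintro rfl
    rw [orderOf_one] at hu
    exact hr.one_lt.ne hu
  have hs : IsCentralScalar (scU n bar hbar) := isCentralScalar n bar hbar hn1 ⟨u, huU, hu1⟩
  -- the invariant
  refine (card_classes_eq' (fun x : PQuot (GUn n K q) => orderOf x = r)
    (fun x => ((kap (scU n bar hbar) r x, orbU ζ r x) : (↥(U1 K q) ⧸ Pr ↥(U1 K q) r) × Om n r))
    (fun t => (t.1 = 1 ∧ t.2 ≠ Quotient.mk _ (dlt n r 0)) ∨
      (t.1 ≠ 1 ∧ t.2 = Quotient.mk _ (dlt n r 0) ∧ r ∣ n)) ?_ ?_ ?_ ?_).trans ?_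
  · intro x c hx
    have hx1 : x ^ r = 1 := by rw [← hx]; exact pow_orderOf_eq_one x
    show (kap (scU n bar hbar) r (c * x * c⁻¹), orbU ζ r (c * x * c⁻¹)) =
      (kap (scU n bar hbar) r x, orbU ζ r x)
    rw [kap_conj hs x c hx1, orbU_conj bar hbar hr hζ hrF hs]
  · intro x y hx hy hxy
    have hx1 : x ^ r = 1 := by rw [← hx]; exact pow_orderOf_eq_one x
    have hy1 : y ^ r = 1 := by rw [← hy]; exact pow_orderOf_eq_one y
    have hk : kap (scU n bar hbar) r x = kap (scU n bar hbar) r y := congrArg Prod.fst hxy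
    have ho : orbU ζ r x = orbU ζ r y := congrArg Prod.snd hxy
    by_cases hk1 : kap (scU n bar hbar) r x = 1
    · obtain ⟨g, rfl, hg⟩ := (isSplit_iff_kap hs x hx1).mpr hk1
      obtain ⟨h, rfl, hh⟩ := (isSplit_iff_kap hs y hy1).mpr (hk ▸ hk1)
      rw [orbU_mk bar hbar hr hζ hrF hs g hg, orbU_mk bar hbar hr hζ hrF hs h hh] at ho
      exact isConj_of_mvec_orbit_eq bar hbar hr hζ hrF hrq hs hK g h hg hh ho
    · exact isConj_of_kap_eq bar hbar hK hs hr hrc hrF x y hx hy hk hk1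
  · intro x hx
    have hx1 : x ^ r = 1 := by rw [← hx]; exact pow_orderOf_eq_one x
    by_cases hk1 : kap (scU n bar hbar) r x = 1
    · left
      refine ⟨hk1, ?_⟩
      obtain ⟨g, rfl, hg⟩ := (isSplit_iff_kap hs x hx1).mpr hk1
      show orbU ζ r _ ≠ _
      rw [orbU_mk bar hbar hr hζ hrF hs g hg]
      exact mvec_orbit_ne_dlt bar hbar hr hζ hrF hrq g hg ((orderOf_mk_eq_prime_iff hs hr g).mp hx).2
    · right
      refine ⟨hk1, ?_, dvd_of_kap_ne_one bar hbar hK hs hr hrc x hx hk1⟩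
      have hns : ¬ IsSplit r x := fun h => hk1 ((isSplit_iff_kap hs x hx1).mp h)
      show orbU ζ r x = _
      unfold orbU
      rw [dif_neg hns]
  · rintro ⟨k, ω⟩ (⟨hk, hω⟩ | ⟨hk, hω, hrn⟩)
    · obtain ⟨x, hx, hsp, hxo⟩ := exists_split_class bar hbar hr hζ hrF hrq hs hK ω hω
      have hx1 : x ^ r = 1 := by rw [← hx]; exact pow_orderOf_eq_one x
      refine ⟨x, hx, ?_⟩
      show (kap (scU n bar hbar) r x, orbU ζ r x) = (k, ω)
      rw [(isSplit_iff_kap hs x hx1).mp hsp, hxo]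
      exact Prod.ext hk.symm rfl
    · obtain ⟨x, hx, hxk⟩ := exists_nonsplit_class bar hbar hK hs hr hrn k hk
      have hx1 : x ^ r = 1 := by rw [← hx]; exact pow_orderOf_eq_one x
      refine ⟨x, hx, ?_⟩
      have hns : ¬ IsSplit r x := fun h => hk (hxk ▸ (isSplit_iff_kap hs x hx1).mp h)
      show (kap (scU n bar hbar) r x, orbU ζ r x) = (k, ω)
      have ho : orbU ζ r x = Quotient.mk _ (dlt n r 0) := by
        unfold orbU
        rw [dif_neg hns]
      rw [hxk, ho]
      exact Prod.ext rfl hω.symm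
  · have hKc : Nat.card (↥(U1 K q) ⧸ Pr ↥(U1 K q) r) = r := by
      rw [← Subgroup.index_eq_card, IsCyclic.index_powMonoidHom_range, card_U1 hK]
      exact Nat.gcd_eq_right hrq
    rw [card_values (K := ↥(U1 K q) ⧸ Pr ↥(U1 K q) r) (Ω := Om n r) (Quotient.mk _ (dlt n r 0))
      (r ∣ n), hKc]
    have hN := natCard_orbits (n := n) hr
    have hC : (n + r - 1).choose (r - 1) = (r + n - 1).choose n := by
      rw [show n + r - 1 = r + n - 1 by omega, ← Nat.choose_symm_of_eq_add]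
      have := hr.two_le
      omega
    rw [hC]
    exact final_arith _ _ r n hr.two_le (fun _ => choose_bound n r (by omega) hr.two_le) hN

end Cfsg.Agent.S2672
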