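import Cfsg.Statements.S2678
import Cfsg.Agent.Helper45.FiniteFields

set_option autoImplicit false
open Cfsg
open Matrix

namespace Cfsg.Agent.S2678

section General
variable {l l' R R' : Type*} [Fintype l] [DecidableEq l] [Fintype l'] [DecidableEq l']
  [CommRing R] [CommRing R']

/-- Block-wise application of a map on matrix blocks. -/
def blockFun (β : Matrix l l R → Matrix l' l' R') (A : Matrix (l ⊕ l) (l ⊕ l) R) :
    Matrix (l' ⊕ l') (l' ⊕ l') R' :=
  fromBlocks (β A.toBlocks₁₁) (β A.toBlocks₁₂) (β A.toBlocks₂₁) (β A.toBlocks₂₂)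

omit [Fintype l] [DecidableEq l] [Fintype l'] [DecidableEq l'] [CommRing R] [CommRing R'] in
theorem blockFun_fromBlocks (β : Matrix l l R → Matrix l' l' R') (A B C D : Matrix l l R) :
    blockFun β (fromBlocks A B C D) = fromBlocks (β A) (β B) (β C) (β D) := by
  simp [blockFun, toBlocks_fromBlocks₁₁, toBlocks_fromBlocks₁₂, toBlocks_fromBlocks₂₁, toBlocks_fromBlocks₂₂]

/-- Block-wise application of a ring hom on matrix blocks. -/
def blockHom (β : Matrix l l R →+* Matrix l' l' R') :
    Matrix (l ⊕ l) (l ⊕ l) R →+* Matrix (l' ⊕ l') (l' ⊕ l') R' where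
  toFun := blockFun β
  map_one' := by
    rw [← fromBlocks_one, blockFun_fromBlocks]
    simp
  map_mul' A B := by
    rw [← fromBlocks_toBlocks A, ← fromBlocks_toBlocks B, fromBlocks_multiply]
    simp only [blockFun_fromBlocks, fromBlocks_multiply, map_add, map_mul]
  map_zero' := by
    have : (0 : Matrix (l ⊕ l) (l ⊕ l) R) = fromBlocks 0 0 0 0 := by simp
    rw [this, blockFun_fromBlocks]
    simp
  map_add' A B := by
    rw [← fromBlocks_toBlocks A, ← fromBlocks_toBlocks B, fromBlocks_add]
    simp only [blockFun_fromBlocks, fromBlocks_add, map_add]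

theorem blockHom_fromBlocks (β : Matrix l l R →+* Matrix l' l' R') (A B C D : Matrix l l R) :
    blockHom β (fromBlocks A B C D) = fromBlocks (β A) (β B) (β C) (β D) :=
  blockFun_fromBlocks β A B C D

theorem blockHom_injective (β : Matrix l l R →+* Matrix l' l' R') (hβ : Function.Injective β) :
    Function.Injective (blockHom β) := by
  intro A B h
  rw [← fromBlocks_toBlocks A, ← fromBlocks_toBlocks B] at h ⊢
  rw [blockHom_fromBlocks, blockHom_fromBlocks, fromBlocks_inj] at h
  obtain ⟨h1, h2, h3, h4⟩ := h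
  rw [hβ h1, hβ h2, hβ h3, hβ h4]

theorem alg_key {M : Type*} [Ring M] (a at' j d d' p p' pt p't : M)
    (h1 : a * j * at' = j) (h2 : d' * d = 1) (h3 : p' * p = 1) (h4 : pt * p't = 1)
    (h5 : p * (j * d') * pt = j) :
    (p * a * p') * j * (p't * (d * at' * d') * pt) = j := by
  calc (p * a * p') * j * (p't * (d * at' * d') * pt)
      = (p * a * p') * (p * (j * d') * pt) * (p't * (d * at' * d') * pt) := by rw [h5]
    _ = p * a * (p' * p) * j * d' * (pt * p't) * d * at' * d' * pt := by noncomm_ring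
    _ = p * (a * j * (d' * d) * at') * d' * pt := by rw [h3, h4]; noncomm_ring
    _ = p * (a * j * at') * d' * pt := by rw [h2]; noncomm_ring
    _ = p * (j * d') * pt := by rw [h1]; noncomm_ring
    _ = j := h5

theorem blockHom_J (β : Matrix l l R →+* Matrix l' l' R') : blockHom β (J l R) = J l' R' := by
  rw [J, blockHom_fromBlocks]; simp [J]

theorem blockHom_transpose (β : Matrix l l R →+* Matrix l' l' R') (T T' : Matrix l' l' R')
    (hβ : ∀ X, (β X)ᵀ = T * β Xᵀ * T') (A : Matrix (l ⊕ l) (l ⊕ l) R) :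
    (blockHom β A)ᵀ = fromBlocks T 0 0 T * blockHom β Aᵀ * fromBlocks T' 0 0 T' := by
  rw [← fromBlocks_toBlocks A, fromBlocks_transpose, blockHom_fromBlocks, blockHom_fromBlocks,
    fromBlocks_transpose, fromBlocks_multiply, fromBlocks_multiply]
  simp [hβ]

theorem sympl_map (β : Matrix l l R →+* Matrix l' l' R') (T T' : Matrix l' l' R')
    (hTT' : T * T' = 1) (hT'T : T' * T = 1) (hT : Tᵀ = T)
    (hβ : ∀ X, (β X)ᵀ = T * β Xᵀ * T') (A : Matrix (l ⊕ l) (l ⊕ l) R)
    (hA : A ∈ symplecticGroup l R) :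
    fromBlocks 1 0 0 T * blockHom β A * fromBlocks 1 0 0 T' ∈ symplecticGroup l' R' := by
  rw [SymplecticGroup.mem_iff] at hA ⊢
  have hT' : T'ᵀ = T' := by
    have : T'ᵀ = T'ᵀ * (T * T') := by rw [hTT', Matrix.mul_one]
    rw [this, ← Matrix.mul_assoc, ← hT, ← transpose_mul, hTT', transpose_one, Matrix.one_mul]
  have h1 : blockHom β A * J l' R' * blockHom β Aᵀ = J l' R' := by
    rw [← blockHom_J β, ← map_mul, ← map_mul, hA]
  have h2 : (fromBlocks T' 0 0 T' : Matrix (l' ⊕ l') (l' ⊕ l') R') * fromBlocks T 0 0 T = 1 := by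
    rw [fromBlocks_multiply]; simp [hT'T, fromBlocks_one]
  have h3 : (fromBlocks 1 0 0 T' : Matrix (l' ⊕ l') (l' ⊕ l') R') * fromBlocks 1 0 0 T = 1 := by
    rw [fromBlocks_multiply]; simp [hT'T, fromBlocks_one]
  have h4 : (fromBlocks 1 0 0 T : Matrix (l' ⊕ l') (l' ⊕ l') R') * fromBlocks 1 0 0 T' = 1 := by
    rw [fromBlocks_multiply]; simp [hTT', fromBlocks_one]
  have h5 : (fromBlocks 1 0 0 T : Matrix (l' ⊕ l') (l' ⊕ l') R') *
      (J l' R' * fromBlocks T' 0 0 T') * fromBlocks 1 0 0 T = J l' R' := by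
    rw [J, fromBlocks_multiply, fromBlocks_multiply, fromBlocks_multiply]
    simp [hTT', hT'T]
  have e1 : (fromBlocks 1 0 0 T * blockHom β A * fromBlocks 1 0 0 T')ᵀ =
      fromBlocks 1 0 0 T' * (fromBlocks T 0 0 T * blockHom β Aᵀ * fromBlocks T' 0 0 T') *
        fromBlocks 1 0 0 T := by
    rw [transpose_mul, transpose_mul, blockHom_transpose β T T' hβ, fromBlocks_transpose,
      fromBlocks_transpose, ← Matrix.mul_assoc]
    simp only [transpose_one, transpose_zero, hT, hT']
  rw [e1]
  exact alg_key _ _ _ _ _ _ _ _ _ h1 h2 h3 h4 h5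

theorem exists_sympl_hom (β : Matrix l l R →+* Matrix l' l' R') (T T' : Matrix l' l' R')
    (hTT' : T * T' = 1) (hT'T : T' * T = 1) (hT : Tᵀ = T)
    (hβ : ∀ X, (β X)ᵀ = T * β Xᵀ * T') (hinj : Function.Injective β) :
    ∃ φ : symplecticGroup l R →* symplecticGroup l' R', Function.Injective φ := by
  have hP'P : (fromBlocks 1 0 0 T' : Matrix (l' ⊕ l') (l' ⊕ l') R') * fromBlocks 1 0 0 T = 1 := by
    rw [fromBlocks_multiply]; simp [hT'T, fromBlocks_one]
  have hPP' : (fromBlocks 1 0 0 T : Matrix (l' ⊕ l') (l' ⊕ l') R') * fromBlocks 1 0 0 T' = 1 := by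
    rw [fromBlocks_multiply]; simp [hTT', fromBlocks_one]
  let ψ : Matrix (l ⊕ l) (l ⊕ l) R →* Matrix (l' ⊕ l') (l' ⊕ l') R' :=
    { toFun := fun A => fromBlocks 1 0 0 T * blockHom β A * fromBlocks 1 0 0 T'
      map_one' := by rw [map_one, Matrix.mul_one, hPP']
      map_mul' := fun A B => by
        rw [map_mul]
        calc fromBlocks 1 0 0 T * (blockHom β A * blockHom β B) * fromBlocks 1 0 0 T'
            = fromBlocks 1 0 0 T * blockHom β A * 1 * blockHom β B * fromBlocks 1 0 0 T' := by
              noncomm_ring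
          _ = _ := by rw [← hP'P]; noncomm_ring }
  have hψ : ∀ A, ψ A = fromBlocks 1 0 0 T * blockHom β A * fromBlocks 1 0 0 T' := fun A => rfl
  let φ : symplecticGroup l R →* symplecticGroup l' R' :=
    (ψ.comp (symplecticGroup l R).subtype).codRestrict (symplecticGroup l' R')
      (fun A => sympl_map β T T' hTT' hT'T hT hβ A.1 A.2)
  refine ⟨φ, ?_⟩
  intro A B h
  have h1 : ψ A.1 = ψ B.1 := congrArg Subtype.val h
  rw [hψ, hψ] at h1
  have h2 : blockHom β A.1 = blockHom β B.1 := by
    have h3 : fromBlocks 1 0 0 T' * (fromBlocks 1 0 0 T * blockHom β A.1 * fromBlocks 1 0 0 T') *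
          fromBlocks 1 0 0 T =
        fromBlocks 1 0 0 T' * (fromBlocks 1 0 0 T * blockHom β B.1 * fromBlocks 1 0 0 T') *
          fromBlocks 1 0 0 T := by rw [h1]
    have e : ∀ X : Matrix (l' ⊕ l') (l' ⊕ l') R',
        fromBlocks 1 0 0 T' * (fromBlocks 1 0 0 T * X * fromBlocks 1 0 0 T') * fromBlocks 1 0 0 T
          = X := by
      intro X
      calc fromBlocks 1 0 0 T' * (fromBlocks 1 0 0 T * X * fromBlocks 1 0 0 T') * fromBlocks 1 0 0 T
          = (fromBlocks 1 0 0 T' * fromBlocks 1 0 0 T) * X *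
              (fromBlocks 1 0 0 T' * fromBlocks 1 0 0 T) := by noncomm_ring
        _ = X := by rw [hP'P, Matrix.one_mul, Matrix.mul_one]
    rw [e, e] at h3
    exact h3
  exact Subtype.ext (blockHom_injective β hinj h2)

end General

section Comp
variable {l l' m K F : Type*} [Fintype l] [DecidableEq l] [Fintype l'] [DecidableEq l']
  [Fintype m] [DecidableEq m] [CommRing K] [CommRing F]

/-- matrices of matrices to matrices, reindexed -/
def beta0 (e : l × m ≃ l') : Matrix l l (Matrix m m F) ≃+* Matrix l' l' F :=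
  (compRingEquiv l m F).trans (reindexRingEquiv F e)

omit [DecidableEq l] [DecidableEq l'] [DecidableEq m] in
theorem beta0_transpose (e : l × m ≃ l') (Y : Matrix l l (Matrix m m F)) :
    (beta0 e Y)ᵀ = beta0 e (Yᵀ.map (·ᵀ)) := by
  ext i j
  rfl

/-- the block ring hom -/
def beta (e : l × m ≃ l') (L : K →+* Matrix m m F) : Matrix l l K →+* Matrix l' l' F :=
  (beta0 e).toRingHom.comp L.mapMatrix

theorem beta_apply (e : l × m ≃ l') (L : K →+* Matrix m m F) (X : Matrix l l K) :
    beta e L X = beta0 e (X.map L) := rfl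

theorem beta_injective (e : l × m ≃ l') (L : K →+* Matrix m m F) (hL : Function.Injective L) :
    Function.Injective (beta e L) := by
  intro X Y h
  rw [beta_apply, beta_apply] at h
  have h2 := (beta0 e).injective h
  ext i j
  have := congrFun (congrFun h2 i) j
  simp only [map_apply] at this
  exact hL this

theorem diag_mul_diag (S S' : Matrix m m F) (h : S * S' = 1) :
    (diagonal (fun _ : l => S)) * (diagonal (fun _ : l => S')) = 1 := by
  rw [diagonal_mul_diagonal]
  simp only [h]
  exact diagonal_one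

theorem beta_transpose (e : l × m ≃ l') (L : K →+* Matrix m m F) (S S' : Matrix m m F)
    (hL : ∀ x, (L x)ᵀ = S * L x * S') (X : Matrix l l K) :
    (beta e L X)ᵀ = beta0 e (diagonal fun _ => S) * beta e L Xᵀ * beta0 e (diagonal fun _ => S') := by
  rw [beta_apply, beta_apply, beta0_transpose, ← map_mul, ← map_mul]
  congr 1
  apply Matrix.ext
  intro i j
  simp only [map_apply, transpose_apply, diagonal_mul, mul_diagonal, hL]

omit [DecidableEq l'] [DecidableEq m] in
theorem T_symm (e : l × m ≃ l') (S : Matrix m m F) (hS : Sᵀ = S) :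
    (beta0 e (diagonal fun _ : l => S))ᵀ = beta0 e (diagonal fun _ => S) := by
  rw [beta0_transpose, diagonal_transpose, diagonal_map (by simp)]
  simp only [hS]

end Comp

section Rep
variable {K F : Type*} [Field K] [Field F] [Algebra F K]

theorem sum_repr_lam {ι : Type*} [Fintype ι] (b : Module.Basis ι F K) (lam : K →ₗ[F] F) (y z : K) :
    ∑ k, b.repr y k * lam (b k * z) = lam (y * z) := by
  conv_rhs => rw [← b.sum_repr y]
  rw [Finset.sum_mul, map_sum]
  apply Finset.sum_congr rfl
  intro k _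
  rw [smul_mul_assoc, map_smul, smul_eq_mul]

theorem exists_rep {ι : Type*} [Fintype ι] [DecidableEq ι] (b : Module.Basis ι F K) (i₀ : ι) :
    ∃ (L : K →+* Matrix ι ι F) (S S' : Matrix ι ι F),
      Function.Injective L ∧ S * S' = 1 ∧ S' * S = 1 ∧ Sᵀ = S ∧ ∀ x, (L x)ᵀ = S * L x * S' := by
  let lam : K →ₗ[F] F := b.coord i₀
  let S : Matrix ι ι F := Matrix.of fun i j => lam (b i * b j)
  have hSapp : ∀ i j, S i j = lam (b i * b j) := fun i j => rfl
  have hS : Sᵀ = S := by
    ext i j
    rw [transpose_apply, hSapp, hSapp, mul_comm]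
  have hLS : ∀ x, (Algebra.leftMulMatrix b x)ᵀ * S = S * Algebra.leftMulMatrix b x := by
    intro x
    ext i j
    simp only [Matrix.mul_apply, transpose_apply, Algebra.leftMulMatrix_eq_repr_mul, hSapp]
    rw [sum_repr_lam b lam (x * b i) (b j)]
    have : ∑ k, lam (b i * b k) * b.repr (x * b j) k = ∑ k, b.repr (x * b j) k * lam (b k * b i) := by
      apply Finset.sum_congr rfl
      intro k _
      rw [mul_comm, mul_comm (b i)]
    rw [this, sum_repr_lam b lam (x * b j) (b i)]
    congr 1
    ring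
  have hunit : IsUnit S := by
    rw [← Matrix.mulVec_injective_iff_isUnit]
    intro v w h
    have h0 : S *ᵥ (v - w) = 0 := by rw [mulVec_sub, h, sub_self]
    set u := v - w with hu
    set y : K := ∑ j, u j • b j with hy
    have hrepr : b.repr y = u := by
      ext j
      rw [hy, b.repr_sum_self]
    have h1 : ∀ i, lam (b i * y) = 0 := by
      intro i
      have := congrFun h0 i
      simp only [mulVec, dotProduct, hSapp, Pi.zero_apply] at this
      rw [← this, mul_comm, ← sum_repr_lam b lam y (b i)]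
      apply Finset.sum_congr rfl
      intro k _
      rw [hrepr, mul_comm, mul_comm (b k)]
    have h2 : ∀ z, lam (z * y) = 0 := by
      intro z
      rw [← sum_repr_lam b lam z y]
      apply Finset.sum_eq_zero
      intro k _
      rw [h1, mul_zero]
    have hy0 : y = 0 := by
      by_contra hne
      have := h2 (b i₀ * y⁻¹)
      rw [mul_assoc, inv_mul_cancel₀ hne, mul_one] at this
      have h3 : lam (b i₀) = 1 := by
        show b.coord i₀ (b i₀) = 1
        rw [Module.Basis.coord_apply, Module.Basis.repr_self, Finsupp.single_eq_same]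
      rw [h3] at this
      exact one_ne_zero this
    have : u = 0 := by rw [← hrepr, hy0, map_zero]; rfl
    exact sub_eq_zero.1 this
  have hdet : IsUnit S.det := (Matrix.isUnit_iff_isUnit_det S).1 hunit
  refine ⟨(Algebra.leftMulMatrix b).toRingHom, S, S⁻¹, ?_, Matrix.mul_nonsing_inv S hdet,
    Matrix.nonsing_inv_mul S hdet, hS, ?_⟩
  · exact Algebra.leftMulMatrix_injective b
  · intro x
    show (Algebra.leftMulMatrix b x)ᵀ = S * Algebra.leftMulMatrix b x * S⁻¹
    rw [← hLS x, Matrix.mul_assoc, Matrix.mul_nonsing_inv S hdet, Matrix.mul_one]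

end Rep

/-- Field-extension embedding of symplectic groups: for a field K with q² elements and a field F with q elements there is an injective homomorphism Sp_2a(K) → Sp_4a(F). -/
theorem result {K F : Type*} [Field K] [Fintype K] [Field F] [Fintype F] {q : ℕ} (hK : Fintype.card K = q ^ 2) (hF : Fintype.card F = q) (a : ℕ) : ∃ φ : ↥(Matrix.symplecticGroup (Fin a) K) →* ↥(Matrix.symplecticGroup (Fin (2 * a)) F), Function.Injective φ := by
  obtain ⟨alg, hd⟩ := Cfsg.Agent.Helper45.exists_algebra_of_card_sq hK hF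
  let _ := alg
  have : Module.Finite F K := Module.finite_of_finrank_pos (by rw [hd]; norm_num)
  let b := Module.finBasisOfFinrankEq F K hd
  obtain ⟨L, S, S', hLinj, hSS', hS'S, hS, hL⟩ := exists_rep b 0
  let e : Fin a × Fin 2 ≃ Fin (2 * a) := finProdFinEquiv.trans (finCongr (mul_comm a 2))
  refine exists_sympl_hom (beta e L) (beta0 e (diagonal fun _ : Fin a => S))
    (beta0 e (diagonal fun _ : Fin a => S')) ?_ ?_ (T_symm e S hS) (beta_transpose e L S S' hL)
    (beta_injective e L hLinj)
  · rw [← map_mul, diag_mul_diag S S' hSS', map_one]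
  · rw [← map_mul, diag_mul_diag S' S hS'S, map_one]

end Cfsg.Agent.S2678
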