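import Cfsg.Statements.S2679
import Cfsg.Agent.Helper45.FiniteFields
import Cfsg.Agent.Helper45.Isometry

set_option autoImplicit false
open Cfsg
open Matrix

namespace Cfsg.Agent.S2679

section Ext
variable {F K : Type*} [Field F] [Field K] [Algebra F K]

theorem decomp (n : ℕ) (a c : F) (x y : (Fin n ⊕ Fin n) ⊕ Fin 2 → F) (b₁ b₂ : K) :
    Cfsg.quadFormMinus n K (algebraMap F K a) (algebraMap F K c)
        (fun i => b₁ * algebraMap F K (x i) + b₂ * algebraMap F K (y i)) =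
      b₁ ^ 2 * algebraMap F K (Cfsg.quadFormMinus n F a c x) +
        b₂ ^ 2 * algebraMap F K (Cfsg.quadFormMinus n F a c y) +
        b₁ * b₂ * algebraMap F K (Cfsg.quadFormMinus n F a c (x + y) -
          Cfsg.quadFormMinus n F a c x - Cfsg.quadFormMinus n F a c y) := by
  simp only [Cfsg.quadFormMinus, map_add, map_sub, map_mul, map_sum, map_pow, Pi.add_apply]
  have hsum : ∑ i : Fin n, (b₁ * algebraMap F K (x (.inl (.inl i))) + b₂ * algebraMap F K (y (.inl (.inl i)))) *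
        (b₁ * algebraMap F K (x (.inl (.inr i))) + b₂ * algebraMap F K (y (.inl (.inr i)))) =
      b₁ ^ 2 * ∑ i : Fin n, algebraMap F K (x (.inl (.inl i))) * algebraMap F K (x (.inl (.inr i))) +
      b₂ ^ 2 * ∑ i : Fin n, algebraMap F K (y (.inl (.inl i))) * algebraMap F K (y (.inl (.inr i))) +
      b₁ * b₂ * (∑ i : Fin n, (algebraMap F K (x (.inl (.inl i))) + algebraMap F K (y (.inl (.inl i)))) *
          (algebraMap F K (x (.inl (.inr i))) + algebraMap F K (y (.inl (.inr i)))) -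
        ∑ i : Fin n, algebraMap F K (x (.inl (.inl i))) * algebraMap F K (x (.inl (.inr i))) -
        ∑ i : Fin n, algebraMap F K (y (.inl (.inl i))) * algebraMap F K (y (.inl (.inr i)))) := by
    rw [← Finset.sum_sub_distrib, ← Finset.sum_sub_distrib, Finset.mul_sum, Finset.mul_sum,
      Finset.mul_sum, ← Finset.sum_add_distrib, ← Finset.sum_add_distrib]
    apply Finset.sum_congr rfl
    intro i _
    ring
  rw [hsum]
  ring

theorem ext_isometry (n : ℕ) (a c : F) (b : Module.Basis (Fin 2) F K)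
    (g : Matrix ((Fin n ⊕ Fin n) ⊕ Fin 2) ((Fin n ⊕ Fin n) ⊕ Fin 2) F)
    (hg : ∀ v, Cfsg.quadFormMinus n F a c (g *ᵥ v) = Cfsg.quadFormMinus n F a c v)
    (w : (Fin n ⊕ Fin n) ⊕ Fin 2 → K) :
    Cfsg.quadFormMinus n K (algebraMap F K a) (algebraMap F K c) (g.map (algebraMap F K) *ᵥ w) =
      Cfsg.quadFormMinus n K (algebraMap F K a) (algebraMap F K c) w := by
  set x : (Fin n ⊕ Fin n) ⊕ Fin 2 → F := fun i => b.repr (w i) 0 with hx
  set y : (Fin n ⊕ Fin n) ⊕ Fin 2 → F := fun i => b.repr (w i) 1 with hy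
  have hw : w = fun i => b 0 * algebraMap F K (x i) + b 1 * algebraMap F K (y i) := by
    funext i
    have := b.sum_repr (w i)
    rw [Fin.sum_univ_two, Algebra.smul_def, Algebra.smul_def] at this
    rw [← this]
    ring
  have hgw : g.map (algebraMap F K) *ᵥ w =
      fun i => b 0 * algebraMap F K ((g *ᵥ x) i) + b 1 * algebraMap F K ((g *ᵥ y) i) := by
    funext i
    conv_lhs => rw [hw]
    simp only [mulVec, dotProduct, map_apply, map_sum, map_mul, Finset.mul_sum]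
    rw [← Finset.sum_add_distrib]
    apply Finset.sum_congr rfl
    intro j _
    ring
  rw [hgw, decomp, ← mulVec_add, hg, hg, hg, ← decomp, ← hw]

end Ext

section Hyp
variable {K : Type*} [Field K]

/-- hyperbolic form on the index type of the minus form -/
def hypForm (n : ℕ) (K : Type*) [Field K] (w : (Fin n ⊕ Fin n) ⊕ Fin 2 → K) : K :=
  (∑ i : Fin n, w (.inl (.inl i)) * w (.inl (.inr i))) + w (.inr 0) * w (.inr 1)

/-- the change of variables matrix -/
def cmat (n : ℕ) (α β : K) : Matrix ((Fin n ⊕ Fin n) ⊕ Fin 2) ((Fin n ⊕ Fin n) ⊕ Fin 2) K :=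
  fromBlocks 1 0 0 !![1, -α; 1, -β]

theorem cmat_mulVec_inl (n : ℕ) (α β : K) (v : (Fin n ⊕ Fin n) ⊕ Fin 2 → K) (j : Fin n ⊕ Fin n) :
    (cmat n α β *ᵥ v) (.inl j) = v (.inl j) := by
  simp [cmat, fromBlocks_mulVec]

theorem cmat_mulVec_inr0 (n : ℕ) (α β : K) (v : (Fin n ⊕ Fin n) ⊕ Fin 2 → K) :
    (cmat n α β *ᵥ v) (.inr 0) = v (.inr 0) - α * v (.inr 1) := by
  simp [cmat, Matrix.mulVec, dotProduct, Fin.sum_univ_two]
  ring

theorem cmat_mulVec_inr1 (n : ℕ) (α β : K) (v : (Fin n ⊕ Fin n) ⊕ Fin 2 → K) :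
    (cmat n α β *ᵥ v) (.inr 1) = v (.inr 0) - β * v (.inr 1) := by
  simp [cmat, Matrix.mulVec, dotProduct, Fin.sum_univ_two]
  ring

theorem hyp_cmat (n : ℕ) (a c α : K) (hα : α ^ 2 + a * α + c = 0)
    (v : (Fin n ⊕ Fin n) ⊕ Fin 2 → K) :
    hypForm n K (cmat n α (-a - α) *ᵥ v) = Cfsg.quadFormMinus n K a c v := by
  simp only [hypForm, Cfsg.quadFormMinus, cmat_mulVec_inl, cmat_mulVec_inr0, cmat_mulVec_inr1]
  linear_combination (-(v (.inr 1)) ^ 2) * hα

theorem cmat_inv (n : ℕ) (α β : K) (h : α - β ≠ 0) :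
    ∃ C' : Matrix ((Fin n ⊕ Fin n) ⊕ Fin 2) ((Fin n ⊕ Fin n) ⊕ Fin 2) K,
      cmat n α β * C' = 1 ∧ C' * cmat n α β = 1 := by
  have hdet : IsUnit (!![1, -α; 1, -β] : Matrix (Fin 2) (Fin 2) K).det := by
    rw [Matrix.det_fin_two_of]
    apply IsUnit.mk0
    intro h0
    apply h
    linear_combination h0
  refine ⟨fromBlocks 1 0 0 (!![1, -α; 1, -β] : Matrix (Fin 2) (Fin 2) K)⁻¹, ?_, ?_⟩
  · rw [cmat, fromBlocks_multiply]
    simp [Matrix.mul_nonsing_inv _ hdet, fromBlocks_one]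
  · rw [cmat, fromBlocks_multiply]
    simp [Matrix.nonsing_inv_mul _ hdet, fromBlocks_one]

/-- the reindexing equivalence -/
def eps (n : ℕ) : (Fin n ⊕ Fin n) ⊕ Fin 2 ≃ Fin (n + 1) ⊕ Fin (n + 1) where
  toFun := Sum.elim (Sum.elim (fun i => Sum.inl i.castSucc) (fun i => Sum.inr i.castSucc))
    ![Sum.inl (Fin.last n), Sum.inr (Fin.last n)]
  invFun := Sum.elim
    (Fin.lastCases (Sum.inr 0) (fun i => Sum.inl (Sum.inl i)))
    (Fin.lastCases (Sum.inr 1) (fun i => Sum.inl (Sum.inr i)))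
  left_inv := by
    rintro ((i | i) | k)
    · simp
    · simp
    · fin_cases k <;> simp
  right_inv := by
    rintro (j | j)
    · refine Fin.lastCases ?_ (fun i => ?_) j <;> simp
    · refine Fin.lastCases ?_ (fun i => ?_) j <;> simp

theorem plus_eq_hyp (n : ℕ) (w : Fin (n + 1) ⊕ Fin (n + 1) → K) :
    Cfsg.quadFormPlus (n + 1) K w = hypForm n K (w ∘ eps n) := by
  simp only [Cfsg.quadFormPlus, hypForm, Fin.sum_univ_castSucc]
  rfl

end Hyp

/-- An elliptic orthogonal group embeds in the hyperbolic orthogonal group of the same dimension over the quadratic extension. -/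
theorem result {F K : Type*} [Field F] [Fintype F] [Field K] [Fintype K] {q : ℕ} (hF : Fintype.card F = q) (hK : Fintype.card K = q ^ 2) {m : ℕ} (hm : 1 ≤ m) (a c : F) (hac : ∀ z₁ z₂ : F, z₁ ^ 2 + a * z₁ * z₂ + c * z₂ ^ 2 = 0 → z₁ = 0 ∧ z₂ = 0) : ∃ φ : ↥(Cfsg.isometryGroup F (Cfsg.quadFormMinus (m - 1) F a c)) →* ↥(Cfsg.isometryGroup K (Cfsg.quadFormPlus m K)), Function.Injective φ := by
  obtain ⟨n, rfl⟩ : ∃ n, m = n + 1 := ⟨m - 1, by omega⟩
  rw [Nat.add_sub_cancel]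
  obtain ⟨alg, hd⟩ := Cfsg.Agent.Helper45.exists_algebra_of_card_sq hK hF
  let _ := alg
  have : Module.Finite F K := Module.finite_of_finrank_pos (by rw [hd]; norm_num)
  let b := Module.finBasisOfFinrankEq F K hd
  obtain ⟨α, hα, hα2⟩ := Cfsg.Agent.Helper45.exists_root_of_aniso hd a c hac
  have hne : α - (-algebraMap F K a - α) ≠ 0 := by
    intro h0
    apply hα2
    linear_combination h0
  obtain ⟨C', hCC', hC'C⟩ := cmat_inv n α (-algebraMap F K a - α) hne
  obtain ⟨φ₁, hφ₁⟩ := Cfsg.Agent.Helper45.exists_hom_of_conj (algebraMap F K)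
    (Cfsg.quadFormMinus n F a c) (hypForm n K) (cmat n α (-algebraMap F K a - α)) C' hCC' hC'C (by
      intro g hg w
      rw [← mulVec_mulVec, ← mulVec_mulVec, hyp_cmat n _ _ α hα, ext_isometry n a c b g hg,
        ← hyp_cmat n _ _ α hα, mulVec_mulVec, hCC', one_mulVec])
  obtain ⟨φ₂, hφ₂⟩ := Cfsg.Agent.Helper45.exists_hom_of_reindex (eps n) (hypForm n K)
    (Cfsg.quadFormPlus (n + 1) K) (plus_eq_hyp n)
  exact ⟨φ₂.comp φ₁, hφ₂.comp hφ₁⟩

end Cfsg.Agent.S2679
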