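import Cfsg.Statements.S2680
import Cfsg.Agent.Helper94.SpC6

set_option autoImplicit false
open Cfsg

namespace Cfsg.Agent.S2680

open Cfsg.Agent.Helper94.SpC Cfsg.Agent.Helper13 Cfsg.Agent.Helper43.SpInv Matrix

/-- Centraliser order of an involution t of Sp_2m(q), q even, with s = rank(t − 1) odd (type b_s): |C(t)| = q^(2ms − (3s² − s)/2) · |Sp_(s−1)(q)| · |Sp_(2m−2s)(q)|, where |Sp_2k(q)| = q^(k²) Π_(i=1)^k (q^(2i) − 1). -/
theorem result {F : Type*} [Field F] [Fintype F] [CharP F 2] {q : ℕ} (hF : Fintype.card F = q) {m s : ℕ} (t : Matrix.symplecticGroup (Fin m) F) (ht : t ^ 2 = 1) (hs : ((t : Matrix (Fin m ⊕ Fin m) (Fin m ⊕ Fin m) F) - 1).rank = s) (hodd : Odd s) : Nat.card ↥(Subgroup.centralizer ({t} : Set ↥(Matrix.symplecticGroup (Fin m) F))) = q ^ (2 * m * s - (3 * s ^ 2 - s) / 2) * ((q : ℕ) ^ (((s - 1) / 2) ^ 2) * ∏ i : Fin ((s - 1) / 2), (q ^ (2 * ((i : ℕ) + 1)) - 1)) * ((q : ℕ) ^ ((m - s) ^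 2) * ∏ i : Fin (m - s), (q ^ (2 * ((i : ℕ) + 1)) - 1)) := by
  classical
  obtain ⟨k, rfl⟩ := hodd
  have hq2 : 2 ≤ q := by rw [← hF]; exact Fintype.one_lt_card
  have htm : (t : Matrix (Fin m ⊕ Fin m) (Fin m ⊕ Fin m) F) * t = 1 := by
    have := congrArg Subtype.val ht
    rwa [pow_two] at this
  have hord : orderOf t = 2 := orderOf_eq_two_of_rank htm (by omega) hs
  have hsm : 2 * k + 1 ≤ m := by
    have := (rank_bounds t hord).2
    omega
  have h1 := card_centralizer_b t hord hs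
  rw [card_TIFrames, card_OB_b, Cfsg.Agent.Helper5.card_sp, Cfsg.Agent.Helper5.card_sp, hF] at h1
  have h2 := final_count (O := q ^ k ^ 2 * PP q k) hq2 hsm h1
  rw [h2]
  have e1 : (2 * k + 1 - 1) / 2 = k := by omega
  rw [e1, PP_fin, PP_fin]


end Cfsg.Agent.S2680
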