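import Cfsg.Statements.S2681
import Cfsg.Agent.Helper94.SpC6

set_option autoImplicit false
open Cfsg

namespace Cfsg.Agent.S2681

open Cfsg.Agent.Helper94.SpC Cfsg.Agent.Helper13 Cfsg.Agent.Helper43.SpInv Matrix

/-- Centraliser order of an involution t of Sp_2m(q), q even, with s = rank(t − 1) even and f(v, tv) = 0 for every v, f the symplectic form (type a_s): |C(t)| = q^(2ms − (3s² − s)/2) · |Sp_s(q)| · |Sp_(2m−2s)(q)|. -/
theorem result {F : Type*} [Field F] [Fintype F] [CharP F 2] {q : ℕ} (hF : Fintype.card F = q) {m s : ℕ} (t : Matrix.symplecticGroup (Fin m) F) (ht : t ^ 2 = 1) (ht1 : t ≠ 1) (hs : ((t : Matrix (Fin m ⊕ Fin m) (Fin m ⊕ Fin m) F) - 1).rank = s) (heven : Even s) (halt : ∀ v : Fin m ⊕ Fin m → F, Cfsg.sympForm m F v ((t : Matrix (Fin m ⊕ Fin m) (Fin m ⊕ Fin m) F).mulVec v) = 0) : Nat.card ↥(Subgroup.centralizer ({t} : Set ↥(Matrix.symplecticGroup (Fin m) F))) = q ^ (2 * m * s - (3 * s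 ^ 2 - s) / 2) * ((q : ℕ) ^ ((s / 2) ^ 2) * ∏ i : Fin (s / 2), (q ^ (2 * ((i : ℕ) + 1)) - 1)) * ((q : ℕ) ^ ((m - s) ^ 2) * ∏ i : Fin (m - s), (q ^ (2 * ((i : ℕ) + 1)) - 1)) := by
  classical
  obtain ⟨k, hk⟩ := heven
  have hs2 : s = 2 * k := by omega
  subst hs2
  have hq2 : 2 ≤ q := by rw [← hF]; exact Fintype.one_lt_card
  have hord : orderOf t = 2 := by
    have : Fact (Nat.Prime 2) := ⟨Nat.prime_two⟩
    exact orderOf_eq_prime ht ht1
  have hb := rank_bounds t hord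
  rw [hs] at hb
  have hk1 : 1 ≤ k := by omega
  have hsm : 2 * k ≤ m := hb.2
  have h1 := card_centralizer_a hk1 t hord hs halt
  rw [card_TIFrames, card_OB_a, Cfsg.Agent.Helper5.card_sp, Cfsg.Agent.Helper5.card_sp, hF] at h1
  have h2 := final_count (O := q ^ k ^ 2 * PP q k) hq2 hsm h1
  rw [h2]
  have e1 : 2 * k / 2 = k := by omega
  rw [e1, PP_fin, PP_fin]


end Cfsg.Agent.S2681
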