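import Cfsg.Statements.S2682
import Cfsg.Agent.Helper94.SpC6

set_option autoImplicit false
open Cfsg

namespace Cfsg.Agent.S2682

open Cfsg.Agent.Helper94.SpC Cfsg.Agent.Helper13 Cfsg.Agent.Helper43.SpInv Matrix

theorem exp_c {m k : ℕ} (hk : 1 ≤ k) (hkm : 2 * k ≤ m) :
    2 * m * (2 * k) - (3 * (2 * k) ^ 2 - 2 * k) / 2 + k ^ 2 =
      2 * m * (2 * k) - (3 * (2 * k) ^ 2 - 3 * (2 * k)) / 2 - 1 + (k - 1) ^ 2 := by
  have h1 : 3 * (2 * k) ^ 2 - 2 * k = 2 * (6 * (k * k) - k) := by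
    have : 3 * (2 * k) ^ 2 = 2 * (6 * (k * k)) := by ring
    rw [this, Nat.mul_sub]
  have h2 : 3 * (2 * k) ^ 2 - 3 * (2 * k) = 2 * (6 * (k * k) - 3 * k) := by
    have : 3 * (2 * k) ^ 2 = 2 * (6 * (k * k)) := by ring
    have h3 : 3 * (2 * k) = 2 * (3 * k) := by ring
    rw [this, h3, Nat.mul_sub]
  rw [h1, h2, Nat.mul_div_cancel_left _ (by norm_num : 0 < 2), Nat.mul_div_cancel_left _ (by norm_num : 0 < 2)]
  obtain ⟨j, rfl⟩ : ∃ j, k = j + 1 := ⟨k - 1, by omega⟩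
  have h4 : (j + 1 - 1) ^ 2 = j * j := by rw [Nat.add_sub_cancel]; ring
  have h5 : (j + 1) ^ 2 = j * j + 2 * j + 1 := by ring
  have h6 : (j + 1) * (j + 1) = j * j + 2 * j + 1 := by ring
  have h7 : 2 * m * (2 * (j + 1)) = 4 * (m * j) + 4 * m := by ring
  have h8 : 2 * (j * j) + 4 * j + 2 ≤ m * j + m := by nlinarith
  rw [h4, h5, h6, h7]
  omega

/-- Centraliser order of an involution t of Sp_2m(q), q even, with s = rank(t − 1) even and f(v, tv) ≠ 0 for some v, f the symplectic form (type c_s): |C(t)| = q^(2ms − (3s² − 3s)/2 − 1) · |Sp_(s−2)(q)| · |Sp_(2m−2s)(q)|. -/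
theorem result {F : Type*} [Field F] [Fintype F] [CharP F 2] {q : ℕ} (hF : Fintype.card F = q) {m s : ℕ} (t : Matrix.symplecticGroup (Fin m) F) (ht : t ^ 2 = 1) (hs : ((t : Matrix (Fin m ⊕ Fin m) (Fin m ⊕ Fin m) F) - 1).rank = s) (heven : Even s) (hna : ∃ v : Fin m ⊕ Fin m → F, Cfsg.sympForm m F v ((t : Matrix (Fin m ⊕ Fin m) (Fin m ⊕ Fin m) F).mulVec v) ≠ 0) : Nat.card ↥(Subgroup.centralizer ({t} : Set ↥(Matrix.symplecticGroup (Fin m) F))) = q ^ (2 * m * s - (3 * s ^ 2 - 3 * s) / 2 - 1) * ((q : ℕ) ^ (((s - 2) / 2) ^ 2) * ∏ i : Fin ((s - 2) / 2), (q ^ (2 * ((i : ℕ) + 1)) - 1)) * ((q : ℕ) ^ ((m - s) ^ 2) * ∏ i : Fin (m - s), (q ^ (2 * ((i : ℕ) + 1)) - 1)) := by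
  classical
  obtain ⟨k, hk⟩ := heven
  have hs2 : s = 2 * k := by omega
  subst hs2
  have hq2 : 2 ≤ q := by rw [← hF]; exact Fintype.one_lt_card
  obtain ⟨v, hv⟩ := hna
  have ht1 : t ≠ 1 := by
    intro h1
    apply hv
    rw [h1]
    show Cfsg.sympForm m F v ((1 : Matrix (Fin m ⊕ Fin m) (Fin m ⊕ Fin m) F).mulVec v) = 0
    rw [Matrix.one_mulVec]
    exact Cfsg.Agent.S2167.symp_self v
  have hord : orderOf t = 2 := by
    have : Fact (Nat.Prime 2) := ⟨Nat.prime_two⟩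
    exact orderOf_eq_prime ht ht1
  have hb := rank_bounds t hord
  rw [hs] at hb
  have hk1 : 1 ≤ k := by omega
  have hsm : 2 * k ≤ m := hb.2
  have hnt : ¬ tau (t : Matrix (Fin m ⊕ Fin m) (Fin m ⊕ Fin m) F) := fun h => hv (h v)
  have h1 := card_centralizer_c hk1 t hord hs hnt
  have hO := card_OB_c (F := F) hk1
  rw [Cfsg.Agent.Helper5.card_sp, hF] at hO
  obtain ⟨j, rfl⟩ : ∃ j, k = j + 1 := ⟨k - 1, by omega⟩
  have hO2 : Nat.card (OB (Hn F (2 * (j + 1)) (j + 1) 0 1)) = q ^ (j + 1) ^ 2 * PP q j := by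
    have hpos : 0 < q ^ (2 * (j + 1)) - 1 := by
      have : 1 < q ^ (2 * (j + 1)) := Nat.one_lt_pow (by omega) (by omega)
      omega
    apply Nat.eq_of_mul_eq_mul_left hpos
    rw [hO, Finset.prod_range_succ]
    unfold PP
    ring
  rw [card_TIFrames, hO2, Cfsg.Agent.Helper5.card_sp, hF] at h1
  have h2 := final_count (O := q ^ (j + 1) ^ 2 * PP q j) hq2 hsm h1
  rw [h2]
  have e1 : (2 * (j + 1) - 2) / 2 = j := by omega
  rw [e1, PP_fin, PP_fin]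
  have e2 := exp_c hk1 hsm
  rw [Nat.add_sub_cancel] at e2
  obtain ⟨A, hA⟩ : ∃ A, A = 2 * m * (2 * (j + 1)) - (3 * (2 * (j + 1)) ^ 2 - 2 * (j + 1)) / 2 := ⟨_, rfl⟩
  obtain ⟨B, hB⟩ : ∃ B, B = 2 * m * (2 * (j + 1)) - (3 * (2 * (j + 1)) ^ 2 - 3 * (2 * (j + 1))) / 2 - 1 :=
    ⟨_, rfl⟩
  rw [← hA, ← hB] at e2
  rw [← hA, ← hB]
  have e3 : q ^ A * (q ^ (j + 1) ^ 2 * PP q j) = q ^ B * (q ^ j ^ 2 * PP q j) := by
    calc q ^ A * (q ^ (j + 1) ^ 2 * PP q j) = q ^ (A + (j + 1) ^ 2) * PP q j := by rw [pow_add, mul_assoc]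
      _ = q ^ (B + j ^ 2) * PP q j := by rw [e2]
      _ = q ^ B * (q ^ j ^ 2 * PP q j) := by rw [pow_add, mul_assoc]
  rw [e3]

end Cfsg.Agent.S2682
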