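import Cfsg.Statements.S2683
import Cfsg.Agent.Helper94.OrC6
import Cfsg.Agent.S2680

set_option autoImplicit false
open Cfsg

namespace Cfsg.Agent.S2683

open Cfsg.Agent.Helper94.OrC Matrix

theorem exp_b (m k : ℕ) (h : 2 * k + 1 ≤ m) :
    2 * m * (2 * k + 1) - (3 * (2 * k + 1) ^ 2 - (2 * k + 1)) / 2 + (2 * k + 1)
      = 2 * m + (2 * m * (2 * k + 1 - 1) - (3 * (2 * k + 1) ^ 2 - 3 * (2 * k + 1)) / 2) := by
  have h1 : 3 * (2 * k + 1) ^ 2 - (2 * k + 1) = 2 * (6 * (k * k) + 5 * k + 1) := by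
    have : 3 * (2 * k + 1) ^ 2 = 2 * (6 * (k * k) + 5 * k + 1) + (2 * k + 1) := by ring
    rw [this, Nat.add_sub_cancel]
  have h2 : 3 * (2 * k + 1) ^ 2 - 3 * (2 * k + 1) = 2 * (6 * (k * k) + 3 * k) := by
    have : 3 * (2 * k + 1) ^ 2 = 2 * (6 * (k * k) + 3 * k) + 3 * (2 * k + 1) := by ring
    rw [this, Nat.add_sub_cancel]
  rw [h1, h2, Nat.mul_div_cancel_left _ (by norm_num : 0 < 2),
    Nat.mul_div_cancel_left _ (by norm_num : 0 < 2), Nat.add_sub_cancel]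
  have h3 : 2 * m * (2 * k + 1) = 4 * (m * k) + 2 * m := by ring
  have h4 : 2 * m * (2 * k) = 4 * (m * k) := by ring
  have h5 : 2 * (k * k) + k ≤ m * k := by nlinarith
  rw [h3, h4]
  omega

/-- For the hyperbolic form Σ x_j y_j on F^(2m) over a finite field with q elements, q even (excluding m = 2 over the field of two elements), and an involution x of the orthogonal group with s = rank(x − 1) odd (type b_s; such x lie outside Ω): the elements of Ω (the commutator subgroup of the orthogonal group) commuting with x number q^(2m(s−1) − (3s² − 3s)/2) · |Sp_(s−1)(q)| · |Sp_(2m−2s)(q)|, where |Sp_2k(q)| = q^(k²) Π_(i=1)^k (q^(2i) − 1). -/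
theorem result {F : Type*} [Field F] [Fintype F] [CharP F 2] {q : ℕ} (hF : Fintype.card F = q) {m s : ℕ} (h : Fintype.card F ≠ 2 ∨ m ≠ 2) (x : ↥(Cfsg.isometryGroup F (Cfsg.quadFormPlus m F))) (hx : x ^ 2 = 1) (hs : (((x : Matrix.GeneralLinearGroup (Fin m ⊕ Fin m) F) : Matrix (Fin m ⊕ Fin m) (Fin m ⊕ Fin m) F) - 1).rank = s) (hodd : Odd s) : Nat.card {g : ↥(Cfsg.Omega F (Cfsg.quadFormPlus m F)) // (g : ↥(Cfsg.isometryGroup F (Cfsg.quadFormPlus m F))) * x = x * (g : ↥(Cfsg.isometryGroup F (Cfsg.quadFormPlus m F)))} = q ^ (2 * m * (s - 1) - (3 * s ^ 2 - 3 * s) / 2) * ((q : ℕ) ^ (((s - 1) / 2) ^ 2) * ∏ i : Fin ((s - 1) / 2), (q ^ (2 * ((i : ℕ) + 1)) - 1)) * ((q : ℕ) ^ ((m - s) ^ 2) * ∏ i : Fin (m - s), (q ^ (2 * ((i : ℕ) + 1)) - 1)) := by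
  classical
  have hq2 : 2 ≤ q := by rw [← hF]; exact Fintype.one_lt_card
  have hq0 : 0 < q := by omega
  have hxsp := isometry_plus_mem_spGL x
  have hna := exists_ne_zero_of_odd_rank x (by rw [hs]; exact hodd)
  have h1 := card_omega_centralizer_nonalt h x hx hna hxsp
  have h2 := Cfsg.Agent.S2680.result hF (toSp (x : Matrix.GeneralLinearGroup (Fin m ⊕ Fin m) F) hxsp)
    (toSp_pow_two x hx hxsp) hs hodd
  rw [hs, hF, h2] at h1
  -- bounds
  have hord : orderOf x = 2 := by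
    have : Fact (Nat.Prime 2) := ⟨Nat.prime_two⟩
    apply orderOf_eq_prime hx
    intro hx1
    rw [hx1] at hs
    have h0 : ((((1 : ↥(Cfsg.isometryGroup F (Cfsg.quadFormPlus m F))) :
        Matrix.GeneralLinearGroup (Fin m ⊕ Fin m) F) : Matrix (Fin m ⊕ Fin m) (Fin m ⊕ Fin m) F) - 1)
        = 0 := sub_self _
    rw [h0, Matrix.rank_zero] at hs
    rw [← hs] at hodd
    exact (Nat.not_odd_iff_even.mpr (by decide : Even 0)) hodd
  have hb := (Cfsg.Agent.Helper43.OrthInv.rank_bounds x hord).2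
  rw [hs, Fintype.card_sum, Fintype.card_fin] at hb
  obtain ⟨k, rfl⟩ := hodd
  have hsm : 2 * k + 1 ≤ m := by omega
  apply Nat.eq_of_mul_eq_mul_left (pow_pos hq0 (2 * m))
  rw [← h1, ← mul_assoc (q ^ (2 * m)), ← mul_assoc (q ^ (2 * m)), ← pow_add, ← exp_b m k hsm, pow_add]
  ring


end Cfsg.Agent.S2683
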