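import Cfsg.Statements.S2684
import Cfsg.Agent.Helper94.OrC10
import Cfsg.Agent.S2681

set_option autoImplicit false
open Cfsg

namespace Cfsg.Agent.S2684

open Cfsg.Agent.Helper94.OrC Cfsg.Agent.Helper94.SpC Matrix

theorem exp_a (k n : ℕ) (hk : 1 ≤ k) :
    2 * (2 * k + n) * (2 * k) - (3 * (2 * k) ^ 2 - 2 * k) / 2
      = 2 * k + (2 * (2 * k + n) * (2 * k) - (3 * (2 * k) ^ 2 + 2 * k) / 2) := by
  have h1 : 3 * (2 * k) ^ 2 = 12 * (k * k) := by ring
  have h2 : 2 * (2 * k + n) * (2 * k) = 8 * (k * k) + 4 * (n * k) := by ring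
  have h3 : k ≤ k * k := Nat.le_mul_self k
  rw [h1, h2]
  omega

theorem arith_pos {Csp C E Spn Ob A qe1 qe2 q2k : ℕ} (h1 : Csp = q2k * E * (2 * C))
    (h5 : Spn = E * (2 * Ob)) (hS : Csp = qe1 * A * Spn) (he : qe1 = q2k * qe2) (hE : 0 < E)
    (hq : 0 < q2k) : C = qe2 * A * Ob := by
  have hpos : 0 < q2k * E * 2 := by positivity
  apply Nat.eq_of_mul_eq_mul_left hpos
  calc q2k * E * 2 * C = Csp := by rw [h1]; ring
    _ = qe1 * A * Spn := hS
    _ = q2k * E * 2 * (qe2 * A * Ob) := by rw [he, h5]; ring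

/-- For the hyperbolic form Q = Σ x_j y_j on F^(2m) over a finite field with q elements, q even (excluding m = 2 over the field of two elements), and an involution x ≠ 1 of the orthogonal group with s = rank(x − 1) even and Q vanishing on the image of x − 1 (equivalently f(v, xv) = 0 for all v, where f(u, w) = Q(u + w) − Q(u) − Q(w) is the bilinear form of Q; type a_s, which lies in Ω): its centraliser in Ω (the commutator subgroup of the orthogonal group) has order q^(2ms − (3s² + s)/2) · |Sp_s(q)| · |Ω⁺_(2m−2s)(q)|, where |Ω⁺_2k(q)| = q^(k(k−1)) (q^k − 1) Π_(i=1)^(k−1) (q^(2i) − 1) for k ≥ 1 and the last factor is 1 when s = m. -/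
theorem result {F : Type*} [Field F] [Fintype F] [CharP F 2] {q : ℕ} (hF : Fintype.card F = q) {m s : ℕ} (h : Fintype.card F ≠ 2 ∨ m ≠ 2) (x : ↥(Cfsg.isometryGroup F (Cfsg.quadFormPlus m F))) (hx : x ^ 2 = 1) (hx1 : x ≠ 1) (hs : (((x : Matrix.GeneralLinearGroup (Fin m ⊕ Fin m) F) : Matrix (Fin m ⊕ Fin m) (Fin m ⊕ Fin m) F) - 1).rank = s) (heven : Even s) (halt : ∀ v : Fin m ⊕ Fin m → F, Cfsg.quadFormPlus m F ((((x : Matrix.GeneralLinearGroup (Fin m ⊕ Fin m) F) : Matrix (Fin m ⊕ Fin m) (Fin m ⊕ Fin m) F) - 1).mulVec v) = 0) : Nat.card {g : ↥(Cfsg.Omega F (Cfsg.quadFormPlus m F)) // (g : ↥(Cfsg.isometryGroup F (Cfsg.quadFormPlus m F))) * x = x * (g : ↥(Cfsg.isometryGroup F (Cfsg.quadFormPlus m F)))} = q ^ (2 * m * s - (3 * s ^ 2 + s) / 2) * ((q : ℕ) ^ ((s / 2) ^ 2) * ∏ i : Fin (s / 2), (q ^ (2 * ((i : ℕ) + 1)) - 1)) * (if s = m then 1 else q ^ ((m - s) * (m - s - 1)) * (q ^ (m - s) - 1) * ∏ i : Fin (m - s - 1), (q ^ (2 * ((i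 : ℕ) + 1)) - 1)) := by
  classical
  have hq2 : 2 ≤ q := by rw [← hF]; exact Fintype.one_lt_card
  have hq0 : 0 < q := by omega
  have hord : orderOf x = 2 := by
    have : Fact (Nat.Prime 2) := ⟨Nat.prime_two⟩
    exact orderOf_eq_prime hx hx1
  have hb := Cfsg.Agent.Helper43.OrthInv.rank_bounds x hord
  rw [hs, Fintype.card_sum, Fintype.card_fin] at hb
  obtain ⟨k, hk⟩ := heven
  have hs2 : s = 2 * k := by omega
  subst hs2
  have hk1 : 1 ≤ k := by omega
  obtain ⟨n, rfl⟩ : ∃ n, m = 2 * k + n := ⟨m - 2 * k, by omega⟩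
  -- move to the normal form
  have hconj := isConj_x0 x hx (by omega) hs halt
  rw [card_comm_of_isConj (Cfsg.Omega F (Cfsg.quadFormPlus (2 * k + n) F)) hconj]
  have hxsp := isometry_plus_mem_spGL (x0 F (2 * k + n) k)
  have hx0sq : x0 F (2 * k + n) k ^ 2 = 1 := by rw [pow_two]; exact x0_mul_self k
  have hrank0 : ((toSp ((x0 F (2 * k + n) k : ↥(Cfsg.isometryGroup F (Cfsg.quadFormPlus (2 * k + n) F))) :
      Matrix.GeneralLinearGroup (Fin (2 * k + n) ⊕ Fin (2 * k + n)) F) hxsp :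
      Matrix (Fin (2 * k + n) ⊕ Fin (2 * k + n)) (Fin (2 * k + n) ⊕ Fin (2 * k + n)) F) - 1).rank
      = 2 * k := rank_T0_sub_one (by omega)
  have hne1 : toSp ((x0 F (2 * k + n) k : ↥(Cfsg.isometryGroup F (Cfsg.quadFormPlus (2 * k + n) F))) :
      Matrix.GeneralLinearGroup (Fin (2 * k + n) ⊕ Fin (2 * k + n)) F) hxsp ≠ 1 := by
    intro h1
    rw [h1] at hrank0
    have h0 : ((1 : ↥(Matrix.symplecticGroup (Fin (2 * k + n)) F)) :
        Matrix (Fin (2 * k + n) ⊕ Fin (2 * k + n)) (Fin (2 * k + n) ⊕ Fin (2 * k + n)) F) - 1 = 0 :=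
      sub_self _
    rw [h0, Matrix.rank_zero] at hrank0
    omega
  have hS := Cfsg.Agent.S2681.result hF
    (toSp ((x0 F (2 * k + n) k : ↥(Cfsg.isometryGroup F (Cfsg.quadFormPlus (2 * k + n) F))) :
      Matrix.GeneralLinearGroup (Fin (2 * k + n) ⊕ Fin (2 * k + n)) F) hxsp)
    (toSp_pow_two _ hx0sq hxsp) hne1 hrank0 ⟨k, by ring⟩ (Cfsg.Agent.Helper94.SpC.tau_tS_Hn_a k)
  have hfix := card_fixArf_x0 (F := F) k n
  rw [hF] at hfix
  have hexp := exp_a k n hk1
  have e1 : 2 * k / 2 = k := by omega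
  have e2 : 2 * k + n - 2 * k = n := by omega
  rw [PP_fin, PP_fin, e1, e2] at hS
  rw [PP_fin, e1, e2]
  by_cases hn : n = 0
  · subst hn
    have h1 := card_omega_centralizer_x0_zero h (rfl : 2 * k + 0 = 2 * k) hxsp
    rw [hfix, card_fixArf_zero, mul_one, hS] at h1
    rw [if_pos (by omega), mul_one]
    apply Nat.eq_of_mul_eq_mul_left (pow_pos hq0 (2 * k))
    rw [← h1, hexp, pow_add]
    simp [PP]
    ring
  · have hn1 : 1 ≤ n := by omega
    have h1 := card_omega_centralizer_x0_pos h (by omega : 2 * k < 2 * k + n) hxsp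
    have h5 := card_sp_eq_arf_mul_orth (F := F) n
    rw [Cfsg.Agent.S0287.result hF n hn1, Cfsg.Agent.Helper5.card_sp, hF] at h5
    rw [hfix, hS] at h1
    rw [if_neg (by omega), PP_fin]
    have hEpos : 0 < Nat.card (FixArf (Cfsg.Agent.Helper44.plusForm n F)
        (1 : Matrix.GeneralLinearGroup (Fin n ⊕ Fin n) F)) := by
      rcases Nat.eq_zero_or_pos (Nat.card (FixArf (Cfsg.Agent.Helper44.plusForm n F)
        (1 : Matrix.GeneralLinearGroup (Fin n ⊕ Fin n) F))) with h0 | h0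
      · rw [h0, zero_mul] at h5
        have := Nat.mul_pos (pow_pos hq0 (n ^ 2)) (PP_pos hq2 n)
        unfold PP at this
        omega
      · exact h0
    have h5' : q ^ n ^ 2 * PP q n = Nat.card (FixArf (Cfsg.Agent.Helper44.plusForm n F)
        (1 : Matrix.GeneralLinearGroup (Fin n ⊕ Fin n) F)) *
        (2 * (q ^ (n * (n - 1)) * (q ^ n - 1) * PP q (n - 1))) := by
      unfold PP
      rw [h5]
      ring
    exact arith_pos h1 h5' rfl (by rw [hexp, pow_add]) hEpos (pow_pos hq0 _)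


end Cfsg.Agent.S2684
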