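import Cfsg.Statements.S2685
import Cfsg.Agent.Helper94.OrC6
import Cfsg.Agent.S2682

set_option autoImplicit false
open Cfsg

namespace Cfsg.Agent.S2685

open Cfsg.Agent.Helper94.OrC Matrix

theorem exp_c' (m k : ℕ) (hk : 1 ≤ k) (h : 2 * k ≤ m) :
    2 * m * (2 * k) - (3 * (2 * k) ^ 2 - 3 * (2 * k)) / 2 - 1 + 2 * k
      = 2 * m + (2 * m * (2 * k - 1) - (3 * (2 * k) ^ 2 - 5 * (2 * k)) / 2 - 1) := by
  obtain ⟨j, rfl⟩ : ∃ j, k = j + 1 := ⟨k - 1, by omega⟩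
  have h1 : 3 * (2 * (j + 1)) ^ 2 - 3 * (2 * (j + 1)) = 2 * (6 * (j * j) + 9 * j + 3) := by
    have : 3 * (2 * (j + 1)) ^ 2 = 2 * (6 * (j * j) + 9 * j + 3) + 3 * (2 * (j + 1)) := by ring
    rw [this, Nat.add_sub_cancel]
  have h2 : 3 * (2 * (j + 1)) ^ 2 - 5 * (2 * (j + 1)) = 2 * (6 * (j * j) + 7 * j + 1) := by
    have : 3 * (2 * (j + 1)) ^ 2 = 2 * (6 * (j * j) + 7 * j + 1) + 5 * (2 * (j + 1)) := by ring
    rw [this, Nat.add_sub_cancel]
  rw [h1, h2, Nat.mul_div_cancel_left _ (by norm_num : 0 < 2),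
    Nat.mul_div_cancel_left _ (by norm_num : 0 < 2)]
  have h3 : 2 * m * (2 * (j + 1)) = 4 * (m * j) + 4 * m := by ring
  have h4 : 2 * m * (2 * (j + 1) - 1) = 4 * (m * j) + 2 * m := by
    have : 2 * (j + 1) - 1 = 2 * j + 1 := by omega
    rw [this]; ring
  have h5 : 2 * (j * j) + 2 * j ≤ m * j := by nlinarith
  rw [h3, h4]
  omega

/-- For the hyperbolic form Q = Σ x_j y_j on F^(2m) over a finite field with q elements, q even (excluding m = 2 over the field of two elements), and an involution x of the orthogonal group with s = rank(x − 1) even and Q not vanishing on the image of x − 1 (f(v, xv) ≠ 0 for some v, where f(u, w) = Q(u + w) − Q(u) − Q(w) is the bilinear form of Q; type c_s, which lies in Ω): its centraliser in Ω (the commutator subgroup of the orthogonal group) has order q^(2m(s−1) − (3s² − 5s)/2 − 1) · |Sp_(s−2)(q)| · |Sp_(2m−2s)(q)|. -/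
theorem result {F : Type*} [Field F] [Fintype F] [CharP F 2] {q : ℕ} (hF : Fintype.card F = q) {m s : ℕ} (h : Fintype.card F ≠ 2 ∨ m ≠ 2) (x : ↥(Cfsg.isometryGroup F (Cfsg.quadFormPlus m F))) (hx : x ^ 2 = 1) (hs : (((x : Matrix.GeneralLinearGroup (Fin m ⊕ Fin m) F) : Matrix (Fin m ⊕ Fin m) (Fin m ⊕ Fin m) F) - 1).rank = s) (heven : Even s) (hna : ∃ v : Fin m ⊕ Fin m → F, Cfsg.quadFormPlus m F ((((x : Matrix.GeneralLinearGroup (Fin m ⊕ Fin m) F) : Matrix (Fin m ⊕ Fin m) (Fin m ⊕ Fin m) F) - 1).mulVec v) ≠ 0) : Nat.card {g : ↥(Cfsg.Omega F (Cfsg.quadFormPlus m F)) // (g : ↥(Cfsg.isometryGroup F (Cfsg.quadFormPlus m F))) * x = x * (g : ↥(Cfsg.isometryGroup F (Cfsg.quadFormPlus m F)))} = q ^ (2 * m * (s - 1) - (3 * s ^ 2 - 5 * s) / 2 - 1) * ((q : ℕ) ^ (((s - 2) / 2) ^ 2) * ∏ i : Fin ((s - 2) / 2), (q ^ (2 * ((i : ℕ) + 1)) - 1)) * ((q : ℕ) ^ ((m - s) ^ 2) * ∏ i : Fin (m - s), (q ^ (2 * ((i : ℕ) + 1))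 - 1)) := by
  classical
  have hq2 : 2 ≤ q := by rw [← hF]; exact Fintype.one_lt_card
  have hq0 : 0 < q := by omega
  have hxsp := isometry_plus_mem_spGL x
  have hna' : ∃ v : Fin m ⊕ Fin m → F, Cfsg.sympForm m F v
      ((toSp (x : Matrix.GeneralLinearGroup (Fin m ⊕ Fin m) F) hxsp :
        Matrix (Fin m ⊕ Fin m) (Fin m ⊕ Fin m) F).mulVec v) ≠ 0 := by
    obtain ⟨v, hv⟩ := hna
    refine ⟨v, ?_⟩
    rw [toSp_coe, ← quadFormPlus_sub_one]
    exact hv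
  have h1 := card_omega_centralizer_nonalt h x hx hna hxsp
  have h2 := Cfsg.Agent.S2682.result hF (toSp (x : Matrix.GeneralLinearGroup (Fin m ⊕ Fin m) F) hxsp)
    (toSp_pow_two x hx hxsp) hs heven hna'
  rw [hs, hF, h2] at h1
  -- bounds
  have hord : orderOf x = 2 := by
    have : Fact (Nat.Prime 2) := ⟨Nat.prime_two⟩
    apply orderOf_eq_prime hx
    intro hx1
    obtain ⟨v, hv⟩ := hna
    apply hv
    rw [hx1]
    have h0 : ((((1 : ↥(Cfsg.isometryGroup F (Cfsg.quadFormPlus m F))) :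
        Matrix.GeneralLinearGroup (Fin m ⊕ Fin m) F) : Matrix (Fin m ⊕ Fin m) (Fin m ⊕ Fin m) F) - 1)
        = 0 := sub_self _
    rw [h0, Matrix.zero_mulVec]
    unfold Cfsg.quadFormPlus
    simp
  have hb := Cfsg.Agent.Helper43.OrthInv.rank_bounds x hord
  rw [hs, Fintype.card_sum, Fintype.card_fin] at hb
  obtain ⟨k, hk⟩ := heven
  have hs2 : s = 2 * k := by omega
  subst hs2
  have hk1 : 1 ≤ k := by omega
  have hsm : 2 * k ≤ m := by omega
  apply Nat.eq_of_mul_eq_mul_left (pow_pos hq0 (2 * m))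
  rw [← h1, ← mul_assoc (q ^ (2 * m)), ← mul_assoc (q ^ (2 * m)), ← pow_add, ← exp_c' m k hk1 hsm,
    pow_add]
  ring


end Cfsg.Agent.S2685
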