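import Cfsg.Statements.S2686
import Cfsg.Agent.Helper45.LBLP
import Cfsg.Agent.Helper5.NCPGOd
import Cfsg.Agent.Helper4.NCPGSp
import Cfsg.Agent.Helper71.NCPGU

set_option autoImplicit false
open Cfsg

namespace Cfsg.Agent.S2686

open Cfsg.Agent.Helper45.LBL Cfsg.Agent.Helper37.OutPsl in
/-- A criterion for the failure of local balance in almost simple groups with linear socle. Let F be a finite field of characteristic r and K = PSL_n(F) (n ≥ 2) simple. Let A be a group of automorphisms of K containing all inner automorphisms (an almost simple group with socle K), and β ∈ A an automorphism of prime order p ≠ r that is not inner-diagonal (not induced by conjugation by an invertible matrix). Then the largest normal subgroup of C_A(β) of order prime to p is nontrivial if and only if β is the composite of an inner-diagonal automorphism with the automorphism induced by a field automorphism applied entrywise (β is of field type) and p does not divide the number of fixed points of β on K. -/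
theorem result
    (F : Type*) [Field F] [Fintype F] (r : ℕ) [Fact r.Prime] [CharP F r] (n : ℕ) (hn : 2 ≤ n)
    (hK : IsSimpleGroup (Matrix.ProjectiveSpecialLinearGroup (Fin n) F))
    (𝒢 : Subgroup (MulAut (Matrix.ProjectiveSpecialLinearGroup (Fin n) F))) (hinn : ∀ k : Matrix.ProjectiveSpecialLinearGroup (Fin n) F, MulAut.conj k ∈ 𝒢)
    (p : ℕ) [Fact p.Prime] (hpr : p ≠ r) (β : MulAut (Matrix.ProjectiveSpecialLinearGroup (Fin n) F)) (hβ : β ∈ 𝒢) (hord : orderOf β = p)
    (hnot : ¬ Cfsg.IsInnerDiagonalAutPSL β) :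
    Cfsg.pPrimeCore p ↥(𝒢 ⊓ Subgroup.centralizer {β}) ≠ ⊥ ↔
      ((∃ γ φ : MulAut (Matrix.ProjectiveSpecialLinearGroup (Fin n) F), Cfsg.IsInnerDiagonalAutPSL γ ∧ Cfsg.IsFieldAutPSL φ ∧ β = φ.trans γ) ∧
        Nat.Coprime p (Nat.card ↥(MonoidHom.eqLocus β.toMonoidHom (MonoidHom.id (Matrix.ProjectiveSpecialLinearGroup (Fin n) F))))) := by
  obtain ⟨⟨f, hf⟩, -, hF⟩ := FiniteField.card F r
  have hf1 : 1 ≤ f := hf
  simp only [PNat.mk_coe] at hF
  obtain ⟨σ, ε, hNF, hn2⟩ := exists_NF hF hf1 hn β
  rw [field_type_iff_NF]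
  cases ε
  · -- field type
    have hσ1 : σ ≠ 1 := by
      rintro rfl
      obtain ⟨g, hg⟩ := NF.eq_conj hNF
      exact hnot (hg ▸ Cfsg.Agent.Helper14.AutPSL.isInnerDiagonal_pslOf_slConj g)
    rw [main_field hF hf1 hn 𝒢 hinn hpr β hord σ hNF hσ1]
    exact ⟨fun h => ⟨⟨σ, hNF⟩, h⟩, fun h => h.2⟩
  · -- graph type
    have hn3 : 3 ≤ n := by
      by_contra hcon
      have : n = 2 := by omega
      exact Bool.noConfusion (hn2 this)
    -- `p = 2`
    have hp2 : p = 2 := by
      by_contra hp2
      obtain ⟨k, hk⟩ := (Fact.out : p.Prime).odd_of_ne_two hp2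
      have h1 := NF.pow_true_odd hNF k
      rw [← hk, ← hord, pow_orderOf_eq_one] at h1
      exact NF.one_true hn3 h1
    subst hp2
    have hr3 : 3 ≤ r := by
      have := (Fact.out : r.Prime).two_le
      omega
    have hodd : Odd (Fintype.card F) := by
      rw [hF]
      exact Odd.pow ((Fact.out : r.Prime).odd_of_ne_two (Ne.symm hpr))
    have hbot := main_graph hF hf1 hr3 hn3
      (fun m hm N hN hc => Cfsg.Agent.Helper5.NC.noNC_PGO_odd hodd m hm N hN hc)
      (fun m hm N hN hc => Cfsg.Agent.Helper5.NC.noNC_PGO_plus hodd m hm N hN hc)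
      (fun m hm a b hab N hN hc => Cfsg.Agent.Helper5.NC.noNC_PGO_minus hodd m hm a b hab N hN hc)
      (fun m hm N hN hc => Cfsg.Agent.Helper4.NC.noNC_PGSp hodd m hm N hN hc)
      (fun q hq hqo N hN hc => Cfsg.Agent.Helper71.NC.noNC_PGU hq hqo n hn3 N hN hc)
      𝒢 hinn β hord hNF
    constructor
    · intro h
      exact absurd hbot h
    · rintro ⟨⟨σ', hσ'⟩, -⟩
      exact absurd (NF.unique hn3 hNF hσ').2 (by decide)

end Cfsg.Agent.S2686
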