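import Cfsg.Statements.S2689
import Cfsg.Agent.Helper14.AutPreds

set_option autoImplicit false
open Cfsg

namespace Cfsg.Agent.S2689

open Cfsg.Agent.Helper14.AutPSL in
/-- The automorphism group of a simple projective special linear group PSL_n(F) over a finite field (n ≥ 2; |F| ≥ 4 when n = 2) is generated by the automorphisms induced by invertible semilinear maps of F^n (the image of the projective semilinear group) together with the inverse-transpose automorphism. -/
theorem result {F : Type*} [Field F] [Fintype F] {p f : ℕ} [Fact p.Prime] (hF : Fintype.card F = p ^ f) (hf : 1 ≤ f) {n : ℕ} (hn : 2 ≤ n) (hs : n = 2 → 4 ≤ Fintype.card F) :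
    Cfsg.gammaPSL n F ⊔ Cfsg.autSubgroupOf (fun β : Matrix.ProjectiveSpecialLinearGroup (Fin n) F ≃* Matrix.ProjectiveSpecialLinearGroup (Fin n) F => Cfsg.IsInverseTransposeAutPSL β) = ⊤ := by
  rw [eq_top_iff]
  intro β _
  obtain ⟨g, σ, ε, hβ⟩ := exists_factorization hF hf hn β
  rw [hβ, ← map_mul]
  apply Subgroup.mul_mem
  · apply Subgroup.mem_sup_left
    exact Subgroup.subset_closure ⟨g, σ, isInducedBySemilinear_pslOf g σ⟩
  · apply Subgroup.mem_sup_right
    cases ε
    · have : pslOf (slT false : MulAut (Matrix.SpecialLinearGroup (Fin n) F)) = 1 := map_one _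
      rw [this]
      exact Subgroup.one_mem _
    · exact Subgroup.subset_closure isInverseTranspose_pslOf_slInvT

end Cfsg.Agent.S2689
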