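import Cfsg.Statements.S2718
import Cfsg.Agent.Helper44.GraphSplit

set_option autoImplicit false
open Cfsg

namespace Cfsg.Agent.S2718

/-- Let T = PΩ⁺_{2m}(F) with m ≥ 4 and |F| = q odd, G = Inndiag(T), and γ an involutory graph automorphism of T induced by a similarity (one interchanging the two classes of maximal totally singular subspaces). Then the G-class of γ is either a single T-class or the union of exactly two T-classes, and it is the union of two unless m is odd and q ≡ 3 (mod 4). -/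
theorem result {F : Type*} [Field F] [Fintype F] (hodd : Odd (Fintype.card F)) {m : ℕ} (hm : 4 ≤ m) (γ : MulAut (Cfsg.POmega F (Cfsg.quadFormPlus m F))) (hγ : Cfsg.IsSimilarityGraphAutPOmegaPlus m γ) (hγ2 : orderOf γ = 2) :
    (Cfsg.splitClassCount (Cfsg.inndiagPOmegaPlus m F) (Cfsg.Inn (Cfsg.POmega F (Cfsg.quadFormPlus m F))) γ = 1 ∨ Cfsg.splitClassCount (Cfsg.inndiagPOmegaPlus m F) (Cfsg.Inn (Cfsg.POmega F (Cfsg.quadFormPlus m F))) γ = 2) ∧ (¬ (Odd m ∧ Fintype.card F % 4 = 3) → Cfsg.splitClassCount (Cfsg.inndiagPOmegaPlus m F) (Cfsg.Inn (Cfsg.POmega F (Cfsg.quadFormPlus m F))) γ = 2) := by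
  have h2 : (2 : F) ≠ 0 := Cfsg.Agent.Helper44.two_ne_zero_of_odd_card rfl hodd
  have hcrit := Cfsg.Agent.Helper44.exists_neg_one_mem_Omega_plus_iff (F := F) rfl hodd m
  have hiff : Cfsg.Agent.Helper44.negOne (Cfsg.Agent.Helper44.plusForm m F)
      ∈ Cfsg.Omega F (Cfsg.quadFormPlus m F) ↔ ¬ (Odd m ∧ Fintype.card F % 4 = 3) := by
    rw [← Cfsg.Agent.Helper44.pow_mod_four_eq_one_iff _ _ hodd, ← hcrit]
    exact Cfsg.Agent.Helper44.negOne_mem_iff (Cfsg.Agent.Helper44.plusForm m F)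
  have hγ2' : γ * γ = 1 := by
    rw [← pow_two, ← hγ2]
    exact pow_orderOf_eq_one γ
  have h := Cfsg.Agent.Helper44.graph_split h2 hm γ hγ hγ2'
  exact ⟨h.1, fun hn => h.2 (hiff.2 hn)⟩

end Cfsg.Agent.S2718
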