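import Cfsg.Statements.S2723
import Cfsg.Agent.Helper44.PsoInnStd

set_option autoImplicit false
open Cfsg

namespace Cfsg.Agent.S2723

/-- Let T = PΩ⁺_{2m}(F) with m ≥ 4 and |F| = q odd. The image of the special orthogonal group in Aut(T) contains the inner automorphism group T with index 1 (they coincide) when m is odd and q ≡ 3 (mod 4), and with index 2 otherwise (the index is 2 exactly when the discriminant of the form is a square). -/
theorem result {F : Type*} [Field F] [Fintype F] (hodd : Odd (Fintype.card F)) {m : ℕ} (hm : 4 ≤ m) :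
    ((Odd m ∧ Fintype.card F % 4 = 3) → (Cfsg.Inn (Cfsg.POmega F (Cfsg.quadFormPlus m F))).relIndex (Cfsg.psoAut F (Cfsg.quadFormPlus m F)) = 1) ∧ (¬ (Odd m ∧ Fintype.card F % 4 = 3) → (Cfsg.Inn (Cfsg.POmega F (Cfsg.quadFormPlus m F))).relIndex (Cfsg.psoAut F (Cfsg.quadFormPlus m F)) = 2) := by
  have h2 : (2 : F) ≠ 0 := Cfsg.Agent.Helper44.two_ne_zero_of_odd_card rfl hodd
  have hQ := Cfsg.Agent.Helper44.nondegenerate_plusForm (F := F) m
  have hcard : Fintype.card (Fin m ⊕ Fin m) = 2 * m := by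
    rw [Fintype.card_sum, Fintype.card_fin]; omega
  have hcrit := Cfsg.Agent.Helper44.exists_neg_one_mem_Omega_plus_iff (F := F) rfl hodd m
  have hiff : Cfsg.Agent.Helper44.negOne (Cfsg.Agent.Helper44.plusForm m F)
      ∈ Cfsg.Omega F (Cfsg.quadFormPlus m F) ↔ ¬ (Odd m ∧ Fintype.card F % 4 = 3) := by
    rw [← Cfsg.Agent.Helper44.pow_mod_four_eq_one_iff _ _ hodd, ← hcrit]
    exact Cfsg.Agent.Helper44.negOne_mem_iff (Cfsg.Agent.Helper44.plusForm m F)
  constructor
  · intro h
    exact Cfsg.Agent.Helper44.relIndex_Inn_psoAut_of_not_mem (Cfsg.Agent.Helper44.plusForm m F) h2 hQ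
      (by rw [hcard]; omega) ⟨m, by rw [hcard, two_mul]⟩ (fun hmem => (hiff.1 hmem) h)
  · intro h
    exact Cfsg.Agent.Helper44.relIndex_Inn_psoAut_of_mem (Cfsg.Agent.Helper44.plusForm m F) h2 hQ
      (by rw [hcard]; omega) (hiff.2 h)

end Cfsg.Agent.S2723
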