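import Cfsg.Statements.S2726
import Cfsg.Agent.Helper44.PgoPso
import Cfsg.Agent.Helper44.StdNondeg

set_option autoImplicit false
open Cfsg

namespace Cfsg.Agent.S2726

/-- Let T = PΩ⁻_{2m+2}(F) with m ≥ 3 and |F| = q odd (form with anisotropic binary part). Inside Aut(T), the image G̃ of the conformal orthogonal group of the form modulo the image of the special orthogonal group is elementary abelian of order 4. -/
theorem result {F : Type*} [Field F] [Fintype F] (hodd : Odd (Fintype.card F)) {m : ℕ} (hm : 3 ≤ m) (a b : F) (hab : (∀ z₁ z₂ : F, z₁ ^ 2 + a * z₁ * z₂ + b * z₂ ^ 2 = 0 → z₁ = 0 ∧ z₂ = 0)) :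
    (∃ φ : ↥(Cfsg.pgoAut F (Cfsg.quadFormMinus m F a b)) →* Multiplicative (ZMod 2 × ZMod 2), Function.Surjective φ ∧ φ.ker = (Cfsg.psoAut F (Cfsg.quadFormMinus m F a b)).subgroupOf (Cfsg.pgoAut F (Cfsg.quadFormMinus m F a b))) := by
  have h2 : (2 : F) ≠ 0 := Cfsg.Agent.Helper44.two_ne_zero_of_odd_card rfl hodd
  have hD : ¬ IsSquare (a ^ 2 - 4 * b) :=
    Cfsg.Agent.Helper44.not_isSquare_disc_of_anisotropic h2 a b hab
  have hD0 : a ^ 2 - 4 * b ≠ 0 := by
    intro h0
    exact hD ⟨0, by rw [h0, mul_zero]⟩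
  exact Cfsg.Agent.Helper44.pgoAut_mod_psoAut (Cfsg.Agent.Helper44.minusForm m F a b) h2
    (Cfsg.Agent.Helper44.nondegenerate_minusForm m a b hD0) (m + 1)
    (by rw [Fintype.card_sum, Fintype.card_sum, Fintype.card_fin, Fintype.card_fin]; omega)
    (by rw [Fintype.card_sum, Fintype.card_sum, Fintype.card_fin, Fintype.card_fin]; omega)

end Cfsg.Agent.S2726
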