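import Cfsg.Statements.S2727
import Cfsg.Agent.Helper44.PsoInnStd

set_option autoImplicit false
open Cfsg

namespace Cfsg.Agent.S2727

/-- Let T = PΩ⁻_{2m+2}(F) with m ≥ 3 and |F| = q odd (form with anisotropic binary part). The image of the special orthogonal group in Aut(T) contains the inner automorphism group T with index 2 when m is even and q ≡ 3 (mod 4), and coincides with it otherwise (the index is 2 exactly when the discriminant of the form is a square). -/
theorem result {F : Type*} [Field F] [Fintype F] (hodd : Odd (Fintype.card F)) {m : ℕ} (hm : 3 ≤ m) (a b : F) (hab : (∀ z₁ z₂ : F, z₁ ^ 2 + a * z₁ * z₂ + b * z₂ ^ 2 = 0 → z₁ = 0 ∧ z₂ = 0)) :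
    ((Even m ∧ Fintype.card F % 4 = 3) → (Cfsg.Inn (Cfsg.POmega F (Cfsg.quadFormMinus m F a b))).relIndex (Cfsg.psoAut F (Cfsg.quadFormMinus m F a b)) = 2) ∧ (¬ (Even m ∧ Fintype.card F % 4 = 3) → (Cfsg.Inn (Cfsg.POmega F (Cfsg.quadFormMinus m F a b))).relIndex (Cfsg.psoAut F (Cfsg.quadFormMinus m F a b)) = 1) := by
  have h2 : (2 : F) ≠ 0 := Cfsg.Agent.Helper44.two_ne_zero_of_odd_card rfl hodd
  have hD : ¬ IsSquare (a ^ 2 - 4 * b) :=
    Cfsg.Agent.Helper44.not_isSquare_disc_of_anisotropic h2 a b hab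
  have hD0 : a ^ 2 - 4 * b ≠ 0 := by
    intro h0
    exact hD ⟨0, by rw [h0, mul_zero]⟩
  have hQ := Cfsg.Agent.Helper44.nondegenerate_minusForm (F := F) m a b hD0
  have hcard : Fintype.card ((Fin m ⊕ Fin m) ⊕ Fin 2) = 2 * (m + 1) := by
    rw [Fintype.card_sum, Fintype.card_sum, Fintype.card_fin, Fintype.card_fin]; omega
  have hcrit := Cfsg.Agent.Helper44.exists_neg_one_mem_Omega_minus_iff (F := F) rfl hodd (m + 1)
    (by omega) a b hab
  have hiff : Cfsg.Agent.Helper44.negOne (Cfsg.Agent.Helper44.minusForm m F a b)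
      ∈ Cfsg.Omega F (Cfsg.quadFormMinus m F a b) ↔ (Even m ∧ Fintype.card F % 4 = 3) := by
    have h3 : (Even m ∧ Fintype.card F % 4 = 3) ↔ (Odd (m + 1) ∧ Fintype.card F % 4 = 3) := by
      rw [Nat.odd_add_one, Nat.not_odd_iff_even]
    rw [h3, ← Cfsg.Agent.Helper44.pow_mod_four_eq_three_iff _ _ hodd, ← hcrit]
    exact Cfsg.Agent.Helper44.negOne_mem_iff (Cfsg.Agent.Helper44.minusForm m F a b)
  constructor
  · intro h
    exact Cfsg.Agent.Helper44.relIndex_Inn_psoAut_of_mem (Cfsg.Agent.Helper44.minusForm m F a b) h2 hQ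
      (by rw [hcard]; omega) (hiff.2 h)
  · intro h
    exact Cfsg.Agent.Helper44.relIndex_Inn_psoAut_of_not_mem (Cfsg.Agent.Helper44.minusForm m F a b)
      h2 hQ (by rw [hcard]; omega) ⟨m + 1, by rw [hcard, two_mul]⟩ (fun hmem => h (hiff.1 hmem))

end Cfsg.Agent.S2727
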