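import Cfsg.Statements.S2729
import Cfsg.Agent.Helper44.PsoInnStd
import Cfsg.Agent.Helper44.MinusInndiag

set_option autoImplicit false
open Cfsg

namespace Cfsg.Agent.S2729

/-- Let T = PΩ⁻_{2m+2}(F) with m ≥ 3 and |F| = q odd (form with anisotropic binary part). The inner-diagonal group G = Inndiag(T) (image of the class-preserving similarities) taken modulo the inner automorphism group T is cyclic of order 4 when m is even and q ≡ 3 (mod 4), and of order 2 otherwise. -/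
theorem result {F : Type*} [Field F] [Fintype F] (hodd : Odd (Fintype.card F)) {m : ℕ} (hm : 3 ≤ m) (a b : F) (hab : (∀ z₁ z₂ : F, z₁ ^ 2 + a * z₁ * z₂ + b * z₂ ^ 2 = 0 → z₁ = 0 ∧ z₂ = 0)) :
    ((Even m ∧ Fintype.card F % 4 = 3) → (∃ φ : ↥(Cfsg.inndiagPOmegaMinus m F a b) →* Multiplicative (ZMod 4), Function.Surjective φ ∧ φ.ker = (Cfsg.Inn (Cfsg.POmega F (Cfsg.quadFormMinus m F a b))).subgroupOf (Cfsg.inndiagPOmegaMinus m F a b))) ∧ (¬ (Even m ∧ Fintype.card F % 4 = 3) → (∃ φ : ↥(Cfsg.inndiagPOmegaMinus m F a b) →* Multiplicative (ZMod 2), Function.Surjective φ ∧ φ.ker = (Cfsg.Inn (Cfsg.POmega F (Cfsg.quadFormMinus m F a b))).subgroupOf (Cfsg.inndiagPOmegaMinus m F a b))) := by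
  have h2 : (2 : F) ≠ 0 := Cfsg.Agent.Helper44.two_ne_zero_of_odd_card rfl hodd
  have hcrit := Cfsg.Agent.Helper44.exists_neg_one_mem_Omega_minus_iff (F := F) rfl hodd (m + 1)
    (by omega) a b hab
  have hiff : Cfsg.Agent.Helper44.negOne (Cfsg.Agent.Helper44.minusForm m F a b)
      ∈ Cfsg.Omega F (Cfsg.quadFormMinus m F a b) ↔ (Even m ∧ Fintype.card F % 4 = 3) := by
    have h3 : (Even m ∧ Fintype.card F % 4 = 3) ↔ (Odd (m + 1) ∧ Fintype.card F % 4 = 3) := by
      rw [Nat.odd_add_one, Nat.not_odd_iff_even]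
    rw [h3, ← Cfsg.Agent.Helper44.pow_mod_four_eq_three_iff _ _ hodd, ← hcrit]
    exact Cfsg.Agent.Helper44.negOne_mem_iff (Cfsg.Agent.Helper44.minusForm m F a b)
  constructor
  · intro h
    exact Cfsg.Agent.Helper44.inndiagMinus_mod_Inn_of_mem h2 hm h.1 a b hab (hiff.2 h)
  · intro h
    exact Cfsg.Agent.Helper44.inndiagMinus_mod_Inn_of_not_mem h2 hm a b hab
      (fun hmem => h (hiff.1 hmem))

end Cfsg.Agent.S2729
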