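import Cfsg.Statements.S2734
import Cfsg.Agent.Helper83.TriFinal

set_option autoImplicit false
set_option maxRecDepth 100000
open Cfsg

namespace Cfsg.Agent.S2734

open Cfsg.Lie Cfsg.Agent.Helper83.Tri

theorem isLong_simple : ∀ i : Fin 4, chevD4.isLong (chevD4.simple i.val) = false := by decide +kernel

theorem graphExp_one (c : ℕ) (i j : Fin 4) : chevD4.graphExp c i.val j.val = 1 := by
  unfold ChevalleyDatum.graphExp
  rw [isLong_simple j]
  simp

theorem center_fixed : ∀ a : Fin 4, (∀ b : Fin 4, b ≠ a → chevD4.bonds a.val b.val = 1) → a = 1 := by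
  decide +kernel

theorem bonds_center : ∀ j : Fin 4, j ≠ 1 → chevD4.bonds (1 : Fin 4).val j.val = 1 := by decide +kernel

theorem perm_cases : ∀ π : Equiv.Perm (Fin 4), π 1 = 1 → π ≠ 1 → π * π ≠ 1 → π = cPerm ∨ π = cPerm⁻¹ := by
  decide +kernel

/-- In the Chevalley group of type D₄ over a finite field F (the matrix group generated by the root elements), a graph automorphism attached to a symmetry π of the Dynkin diagram (sending each fundamental root element x_p(t) to x_{π(p)}(t) and each x_{−p}(t) to x_{−π(p)}(t)) that has order 3 — a standard triality graph automorphism, π being a 3-cycle of the three outer nodes — has fixed-point subgroup isomorphic to the Chevalley group of type G₂ over F. -/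
theorem result {F : Type*} [Field F] [Fintype F] (τ : MulAut ↥(Cfsg.Lie.chevD4.group F)) (hτ : Cfsg.Lie.chevD4.IsGraphAut τ) (hτ3 : orderOf τ = 3) :
    Nonempty (↥(MonoidHom.eqLocus τ.toMonoidHom (MonoidHom.id ↥(Cfsg.Lie.chevD4.group F))) ≃* ↥(Cfsg.Lie.chevG2.group F)) := by
  obtain ⟨(π : Equiv.Perm (Fin 4)), hπ, hrel⟩ := hτ
  have hR : Rel τ π := by
    intro g i t
    have h := hrel g i t
    have e : chevD4.graphExp (ringChar F) i.val (π i).val = 1 := graphExp_one _ i (π i)
    have e' : t ^ chevD4.graphExp (ringChar F) i.val (π i).val = t := by rw [e, pow_one]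
    refine ⟨fun hg => ?_, fun hg => ?_⟩
    · exact (h.1 hg).trans (congrArg (fun s => chevD4.x F (chevD4.simple (π i).val) s) e')
    · exact (h.2 hg).trans
        (congrArg (fun s => chevD4.x F (chevD4.neg (chevD4.simple (π i).val)) s) e')
  have h1 : π 1 = 1 := by
    apply center_fixed
    intro b hb
    obtain ⟨j, rfl⟩ := π.surjective b
    have hj : j ≠ 1 := fun e => hb (by rw [e])
    have h2 := hπ (1 : Fin 4) j (Ne.symm hj)
    exact h2.trans (bonds_center j hj)
  have hne1 : π ≠ 1 := by
    rintro rfl
    have h2 := hR.eq_one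
    rw [h2, orderOf_one] at hτ3
    norm_num at hτ3
  have hne2 : π * π ≠ 1 := by
    intro e
    have h2 : Rel (τ * τ) (π * π) := hR.mul hR
    rw [e] at h2
    have h3 := h2.eq_one
    have hd : orderOf τ ∣ 2 := orderOf_dvd_of_pow_eq_one (by rw [pow_two]; exact h3)
    rw [hτ3] at hd
    norm_num at hd
  rcases perm_cases π h1 hne1 hne2 with rfl | rfl
  · exact nonempty_equiv_of_rel hR
  · have hR' : Rel τ⁻¹ cPerm := by
      have h2 := hR.inv
      rw [inv_inv] at h2
      exact h2
    obtain ⟨e⟩ := nonempty_equiv_of_rel hR'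
    have heq : MonoidHom.eqLocus τ.toMonoidHom (MonoidHom.id ↥(Cfsg.Lie.chevD4.group F)) =
        MonoidHom.eqLocus (τ⁻¹).toMonoidHom (MonoidHom.id ↥(Cfsg.Lie.chevD4.group F)) := by
      ext g
      constructor
      · intro hg
        have h2 : τ g = g := hg
        show τ⁻¹ g = g
        conv_lhs => rw [← h2]
        exact MulEquiv.symm_apply_apply τ g
      · intro hg
        have h2 : τ⁻¹ g = g := hg
        show τ g = g
        conv_lhs => rw [← h2]
        exact MulEquiv.apply_symm_apply τ g
    exact ⟨(MulEquiv.subgroupCongr heq).trans e⟩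

end Cfsg.Agent.S2734
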