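import Cfsg.Statements.S2738

set_option autoImplicit false
open Cfsg

namespace Cfsg.Agent.S2738

section aux

variable {F : Type*} [Field F] [Fintype F]

theorem unit_cube (hF : Fintype.card F = 4) (u : Fˣ) : u ^ 3 = 1 := by
  classical
  have h : Fintype.card Fˣ = 3 := by rw [Fintype.card_units, hF]
  have := pow_card_eq_one (x := u)
  rwa [h] at this

theorem exists_omega (hF : Fintype.card F = 4) : ∃ w : F, w ^ 3 = 1 ∧ w ≠ 1 := by
  classical
  have h2 : 2 < Fintype.card F := by rw [hF]; norm_num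
  obtain ⟨w, hw0, hw1⟩ : ∃ w : F, w ≠ 0 ∧ w ≠ 1 := by
    by_contra hcon
    push_neg at hcon
    have hsub : (Finset.univ : Finset F) ⊆ {0, 1} := by
      intro x _
      by_cases hx : x = 0
      · simp [hx]
      · simp [hcon x hx]
    have := Finset.card_le_card hsub
    have h3 : ({0, 1} : Finset F).card ≤ 2 := Finset.card_le_two
    rw [Finset.card_univ] at this
    omega
  refine ⟨w, ?_, hw1⟩
  have := unit_cube hF (Units.mk0 w hw0)
  have := congrArg Units.val this
  simpa using this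

theorem card_center (hF : Fintype.card F = 4) :
    Nat.card ↥(Subgroup.center (Matrix.SpecialLinearGroup (Fin 3) F)) = 3 := by
  classical
  rw [Nat.card_congr (Matrix.SpecialLinearGroup.center_equiv_rootsOfUnity (n := Fin 3) (R := F)).toEquiv]
  have h3 : max (Fintype.card (Fin 3)) 1 = 3 := by simp
  rw [h3]
  have htop : rootsOfUnity 3 F = ⊤ := by
    rw [eq_top_iff]
    intro u _
    rw [mem_rootsOfUnity]
    exact unit_cube hF u
  rw [htop, Nat.card_congr Subgroup.topEquiv.toEquiv, Nat.card_eq_fintype_card, Fintype.card_units, hF]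

/-- `diag(1, w, w²)` -/
def matA (w : F) (hw : w ^ 3 = 1) : Matrix.SpecialLinearGroup (Fin 3) F :=
  ⟨!![1, 0, 0; 0, w, 0; 0, 0, w ^ 2], by
    rw [Matrix.det_fin_three]
    simp
    linear_combination hw⟩

/-- the permutation matrix of a 3-cycle -/
def matB : Matrix.SpecialLinearGroup (Fin 3) F :=
  ⟨!![0, 0, 1; 1, 0, 0; 0, 1, 0], by
    rw [Matrix.det_fin_three]
    simp⟩

/-- the scalar matrix `w` -/
def matZ (w : F) (hw : w ^ 3 = 1) : Matrix.SpecialLinearGroup (Fin 3) F :=
  ⟨!![w, 0, 0; 0, w, 0; 0, 0, w], by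
    rw [Matrix.det_fin_three]
    simp
    linear_combination hw⟩

theorem matA_mul_matB (w : F) (hw : w ^ 3 = 1) :
    matA w hw * matB = matZ w hw * (matB * matA w hw) := by
  apply Subtype.ext
  show (matA w hw).1 * (matB).1 = (matZ w hw).1 * ((matB).1 * (matA w hw).1)
  simp only [matA, matB, matZ]
  ext i j
  fin_cases i <;> fin_cases j <;> simp [Matrix.mul_apply, Fin.sum_univ_three]
  · linear_combination -hw
  · ring

theorem matZ_mem_center (w : F) (hw : w ^ 3 = 1) :
    matZ w hw ∈ Subgroup.center (Matrix.SpecialLinearGroup (Fin 3) F) := by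
  rw [Matrix.SpecialLinearGroup.mem_center_iff]
  refine ⟨w, by simpa using hw, ?_⟩
  simp only [matZ]
  ext i j
  fin_cases i <;> fin_cases j <;> simp [Matrix.scalar_apply, Matrix.diagonal_apply]

theorem matZ_ne_one (w : F) (hw : w ^ 3 = 1) (h1 : w ≠ 1) : matZ w hw ≠ 1 := by
  intro h
  have := congrArg (fun M : Matrix.SpecialLinearGroup (Fin 3) F => (M : Matrix (Fin 3) (Fin 3) F) 0 0) h
  simp [matZ] at this
  exact h1 this

end aux

/-- The special linear group SL(3, 4) has centre of order 3 and does not split over it: no subgroup is a complement to the centre (so SL(3, 4) is a non-split central extension of PSL(3, 4) by a group of order 3). -/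
theorem result (F : Type*) [Field F] [Fintype F] (hF : Fintype.card F = 4) : Nat.card ↥(Subgroup.center (Matrix.SpecialLinearGroup (Fin 3) F)) = 3 ∧ ¬ ∃ K : Subgroup (Matrix.SpecialLinearGroup (Fin 3) F), Subgroup.IsComplement' (Subgroup.center (Matrix.SpecialLinearGroup (Fin 3) F)) K := by
  refine ⟨card_center hF, ?_⟩
  rintro ⟨K, hK⟩
  obtain ⟨w, hw, hw1⟩ := exists_omega hF
  have hsurj := (Subgroup.isComplement'_def.1 hK).2
  obtain ⟨⟨z₁, k₁⟩, h1⟩ := hsurj (matA w hw)
  obtain ⟨⟨z₂, k₂⟩, h2⟩ := hsurj (matB (F := F))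
  simp only at h1 h2
  have hrel := matA_mul_matB w hw
  rw [← h1, ← h2] at hrel
  have hz1 : ∀ g : Matrix.SpecialLinearGroup (Fin 3) F, g * (z₁ : Matrix.SpecialLinearGroup (Fin 3) F) = z₁ * g :=
    fun g => Subgroup.mem_center_iff.1 z₁.2 g
  have hz2 : ∀ g : Matrix.SpecialLinearGroup (Fin 3) F, g * (z₂ : Matrix.SpecialLinearGroup (Fin 3) F) = z₂ * g :=
    fun g => Subgroup.mem_center_iff.1 z₂.2 g
  have hzz : ∀ g : Matrix.SpecialLinearGroup (Fin 3) F, g * matZ w hw = matZ w hw * g :=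
    fun g => Subgroup.mem_center_iff.1 (matZ_mem_center w hw) g
  -- k₁ k₂ = Z k₂ k₁
  have hk : (k₁ : Matrix.SpecialLinearGroup (Fin 3) F) * k₂ = matZ w hw * (k₂ * k₁) := by
    have e1 : (z₁ : Matrix.SpecialLinearGroup (Fin 3) F) * k₁ * (z₂ * k₂) = z₁ * z₂ * (k₁ * k₂) := by
      calc (z₁ : Matrix.SpecialLinearGroup (Fin 3) F) * k₁ * (z₂ * k₂) = z₁ * (k₁ * z₂) * k₂ := by group
        _ = z₁ * (z₂ * k₁) * k₂ := by rw [hz2]
        _ = z₁ * z₂ * (k₁ * k₂) := by group
    have e2 : matZ w hw * ((z₂ : Matrix.SpecialLinearGroup (Fin 3) F) * k₂ * (z₁ * k₁)) =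
        z₁ * z₂ * (matZ w hw * (k₂ * k₁)) := by
      calc matZ w hw * ((z₂ : Matrix.SpecialLinearGroup (Fin 3) F) * k₂ * (z₁ * k₁))
          = matZ w hw * (z₂ * (k₂ * z₁) * k₁) := by group
        _ = matZ w hw * (z₂ * (z₁ * k₂) * k₁) := by rw [hz1 k₂]
        _ = (matZ w hw * z₂) * z₁ * (k₂ * k₁) := by group
        _ = (z₂ * matZ w hw) * z₁ * (k₂ * k₁) := by rw [hz2 (matZ w hw)]
        _ = z₂ * (matZ w hw * z₁) * (k₂ * k₁) := by group
        _ = z₂ * (z₁ * matZ w hw) * (k₂ * k₁) := by rw [hz1 (matZ w hw)]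
        _ = (z₂ * z₁) * (matZ w hw * (k₂ * k₁)) := by group
        _ = z₁ * z₂ * (matZ w hw * (k₂ * k₁)) := by rw [hz1 z₂]
    rw [e1, e2] at hrel
    exact mul_left_cancel hrel
  have hZK : matZ w hw ∈ K := by
    have : matZ w hw = k₁ * k₂ * (k₂ * k₁ : Matrix.SpecialLinearGroup (Fin 3) F)⁻¹ := by
      rw [hk]; group
    rw [this]
    exact mul_mem (mul_mem k₁.2 k₂.2) (inv_mem (mul_mem k₂.2 k₁.2))
  have hdisj := hK.disjoint
  have := Subgroup.disjoint_def.1 hdisj (matZ_mem_center w hw) hZK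
  exact matZ_ne_one w hw hw1 this

end Cfsg.Agent.S2738
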