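import Cfsg.Statements.S2758
import Cfsg.Agent.Helper46.DihedralInvolved

set_option autoImplicit false
open Cfsg

namespace Cfsg.Agent.S2758

/-- For an odd prime p and a finite group G the following are equivalent: the dihedral group of order 2p is involved in G; some element of 2-power order normalizes but does not centralize some p-subgroup of G; some element of 2-power order inverts some nonidentity element of p-power order. -/
theorem result {G : Type*} [Group G] [Finite G] {p : ℕ} [Fact p.Prime] (hp : p ≠ 2) : (Cfsg.Involves (DihedralGroup p) G ↔ ∃ (x : G) (P : Subgroup G), (∃ k : ℕ, orderOf x = 2 ^ k) ∧ IsPGroup p ↥P ∧ x ∈ Subgroup.normalizer (P : Set G) ∧ x ∉ Subgroup.centralizer (P : Set G)) ∧ (Cfsg.Involves (DihedralGroup p) G ↔ ∃ x y : G, (∃ k : ℕ, orderOf x = 2 ^ k) ∧ (∃ k : ℕ, orderOf y = p ^ k) ∧ y ≠ 1 ∧ x * y * x⁻¹ = y⁻¹) := by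
  refine ⟨⟨fun h => Cfsg.Agent.Helper46.normalizes_of_involves_dihedral hp h, ?_⟩, ⟨?_, ?_⟩⟩
  · rintro ⟨x, P, hx, hP, hn, hc⟩
    obtain ⟨x', y, hx', hy, hy1, hinv⟩ := Cfsg.Agent.Helper46.inverts_of_normalizes hx hP hn hc
    exact Cfsg.Agent.Helper46.involves_dihedral_of_inverts hp hx' hy hy1 hinv
  · intro h
    obtain ⟨x, P, hx, hP, hn, hc⟩ := Cfsg.Agent.Helper46.normalizes_of_involves_dihedral hp h
    exact Cfsg.Agent.Helper46.inverts_of_normalizes hx hP hn hc
  · rintro ⟨x, y, hx, hy, hy1, hinv⟩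
    exact Cfsg.Agent.Helper46.involves_dihedral_of_inverts hp hx hy hy1 hinv

end Cfsg.Agent.S2758
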