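import Cfsg.Statements.S2761
import Cfsg.Agent.Helper46.Qd

set_option autoImplicit false
open Cfsg

namespace Cfsg.Agent.S2761

open Cfsg.Agent.Helper46

/-- The four affine points of the plane over `ZMod 2`. -/
def ePt : Fin 4 → Fin 3 → ZMod 2 := ![![0,0,1], ![1,0,1], ![0,1,1], ![1,1,1]]

theorem ePt_last (i : Fin 4) : ePt i 2 = 1 := by
  fin_cases i <;> rfl

def pt (i : Fin 4) : AffPt (ZMod 2) := ⟨ePt i, ePt_last i⟩

theorem pt_injective : Function.Injective pt := by
  intro i j h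
  have h' : ePt i = ePt j := congrArg Subtype.val h
  have key : ∀ i j : Fin 4, ePt i = ePt j → i = j := by decide
  exact key i j h'

theorem pt_surjective : Function.Surjective pt := by
  rintro ⟨v, hv⟩
  have key : ∀ a b : ZMod 2, ∃ i : Fin 4, ePt i 0 = a ∧ ePt i 1 = b := by decide
  obtain ⟨i, h0, h1⟩ := key (v 0) (v 1)
  refine ⟨i, ?_⟩
  apply Subtype.ext
  show ePt i = v
  ext j
  fin_cases j
  · exact h0
  · exact h1
  · show ePt i 2 = v 2
    rw [ePt_last, hv]

noncomputable def ptEquiv : Fin 4 ≃ AffPt (ZMod 2) := Equiv.ofBijective pt ⟨pt_injective, pt_surjective⟩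

def psiMat (σ : Equiv.Perm (Fin 4)) : Matrix (Fin 3) (Fin 3) (ZMod 2) :=
  Matrix.of fun i j => if j = 0 then ePt (σ 1) i + ePt (σ 0) i else
    if j = 1 then ePt (σ 2) i + ePt (σ 0) i else ePt (σ 0) i

set_option maxRecDepth 100000 in
theorem psi_ok : ∀ σ : Equiv.Perm (Fin 4),
    (psiMat σ 0 0 * psiMat σ 1 1 * psiMat σ 2 2 - psiMat σ 0 0 * psiMat σ 1 2 * psiMat σ 2 1
      - psiMat σ 0 1 * psiMat σ 1 0 * psiMat σ 2 2 + psiMat σ 0 1 * psiMat σ 1 2 * psiMat σ 2 0
      + psiMat σ 0 2 * psiMat σ 1 0 * psiMat σ 2 1 - psiMat σ 0 2 * psiMat σ 1 1 * psiMat σ 2 0 = 1) ∧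
    psiMat σ 2 0 = 0 ∧ psiMat σ 2 1 = 0 ∧ psiMat σ 2 2 = 1 ∧
    ∀ k : Fin 3 , ∀ l : Fin 4,
      psiMat σ k 0 * ePt l 0 + psiMat σ k 1 * ePt l 1 + psiMat σ k 2 * ePt l 2 = ePt (σ l) k := by
  decide

/-- The permutation representation on the four affine points, transported to `Fin 4`. -/
noncomputable def phi : affSub (ZMod 2) →* Equiv.Perm (Fin 4) :=
  (Equiv.permCongrHom ptEquiv.symm).toMonoidHom.comp (MulAction.toPermHom (affSub (ZMod 2)) (AffPt (ZMod 2)))

theorem phi_injective : Function.Injective phi := by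
  unfold phi
  exact (Equiv.permCongrHom ptEquiv.symm).injective.comp affSub_faithful

theorem phi_surjective : Function.Surjective phi := by
  intro σ
  obtain ⟨hdet, h0, h1, h2, hact⟩ := psi_ok σ
  have hdet' : (psiMat σ).det = 1 := by rw [Matrix.det_fin_three]; exact hdet
  let g : affSub (ZMod 2) := ⟨⟨psiMat σ, hdet'⟩, ⟨h0, h1, h2⟩⟩
  refine ⟨g, ?_⟩
  ext l
  have hgl : g • pt l = pt (σ l) := by
    apply Subtype.ext
    show (psiMat σ).mulVec (ePt l) = ePt (σ l)
    ext k
    simp only [Matrix.mulVec, dotProduct, Fin.sum_univ_three]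
    exact hact k l
  have : phi g l = σ l := by
    unfold phi
    simp only [MonoidHom.coe_comp, MulEquiv.coe_toMonoidHom, Function.comp_apply,
      Equiv.permCongrHom_coe, Equiv.permCongr_apply, MulAction.toPermHom_apply,
      MulAction.toPerm_apply, Equiv.symm_symm]
    rw [Equiv.symm_apply_eq]
    show g • pt l = pt (σ l)
    exact hgl
  rw [this]

/-- The group Qd(2), the natural semidirect product of an elementary abelian group of order 4 by SL₂(2) (realised as the affine subgroup of SL₃(2)), is isomorphic to the symmetric group of degree 4. -/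
theorem result : Nonempty (↥(Cfsg.qd 2) ≃* Equiv.Perm (Fin 4)) := by
  rw [qd_eq_affSub]
  exact ⟨MulEquiv.ofBijective phi ⟨phi_injective, phi_surjective⟩⟩

end Cfsg.Agent.S2761
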