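import Cfsg.Statements.S2763
import Cfsg.Agent.Helper46.QdChar
import Cfsg.Agent.Helper46.CharSkeleton

set_option autoImplicit false
open Cfsg

namespace Cfsg.Agent.S2763

open Cfsg.Agent.Helper46 in
/-- In the group Qd(p) (p prime; the natural semidirect product of an elementary abelian group of order p² by SL₂(p)), the normalizer of every nontrivial characteristic subgroup of a Sylow p-subgroup S equals the normalizer of S, which is a proper subgroup; in particular no such characteristic subgroup is normal. -/
theorem result {p : ℕ} [Fact p.Prime] (S : Sylow p ↥(Cfsg.qd p)) (T : Subgroup ↥(S : Subgroup ↥(Cfsg.qd p))) (hT : T ≠ ⊥) (hTc : T.Characteristic) : Subgroup.normalizer ((T.map (S : Subgroup ↥(Cfsg.qd p)).subtype : Subgroup ↥(Cfsg.qd p)) : Set ↥(Cfsg.qd p)) = Subgroup.normalizer ((S : Subgroup ↥(Cfsg.qd p)) : Set ↥(Cfsg.qd p)) ∧ Subgroup.normalizer ((S : Subgroup ↥(Cfsg.qd p)) : Set ↥(Cfsg.qd p)) ≠ ⊤ := by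
  obtain ⟨g, rfl⟩ := MulAction.exists_smul_eq ↥(qd p) (qdSyl0 p) S
  constructor
  · exact good_conj (qdS0 p) g
      (fun T₀ h1 hc => char_normalizer_skeleton (qdS0 p) (qdVt p) qdVt_le_qdS0 card_qdVt card_qdS0
        centralizer_qdVt_le (fun W a b c d => normalizer_le_of_invariant a b c d)
        ⟨qdGraphAut p, qdGraphAut_moves⟩ T₀ h1 hc) T hT hTc
  · intro h
    have h1 : Subgroup.normalizer (((qdS0 p).map (MulAut.conj g).toMonoidHom : Subgroup ↥(qd p)) :
        Set ↥(qd p)) = ⊤ := h
    rw [normalizer_map_conj] at h1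
    apply normalizer_qdS0_ne_top (p := p)
    have hinj : Function.Injective (MulAut.conj g).toMonoidHom := (MulAut.conj g).injective
    have hsurj : Function.Surjective (MulAut.conj g).toMonoidHom := (MulAut.conj g).surjective
    apply Subgroup.map_injective hinj
    rw [Subgroup.map_top_of_surjective _ hsurj]
    exact h1
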