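import Cfsg.Statements.S2779
import Cfsg.Agent.Helper46.NatSL2

set_option autoImplicit false
open Cfsg

namespace Cfsg.Agent.S2779

open Cfsg.Agent.Helper46 in
theorem result {G : Type*} [Group G] [Finite G] {p : ℕ} [Fact p.Prime] {F : Type*} [Field F] [Fintype F] (n : ℕ) (hF : Fintype.card F = p ^ n) (V L : Subgroup G) (hnat : Cfsg.IsNaturalSL2Module F V L) (hf : L ⊓ Subgroup.centralizer (V : Set G) = ⊥) (S : Sylow p ↥L) (T : Subgroup G) (hT : T = ((S : Subgroup ↥L).map L.subtype)) : ⁅⁅V, T⁆, T⁆ = ⊥ ∧ Nat.card V = p ^ (2 * n) ∧ Nat.card ↥(V ⊓ Subgroup.centralizer ((T : Subgroup G) : Set G)) = p ^ n ∧ ∀ s ∈ T, s ≠ 1 → (V ⊓ Subgroup.centralizer ({s} : Set G)) = (V ⊓ Subgroup.centralizer ((T : Subgroup G) : Set G)) ∧ ⁅V, T⁆ = (V ⊓ Subgroup.centralizer ((T : Subgroup G) : Set G)) ∧ ⁅V, Subgroup.zpowers s⁆ = (V ⊓ Subgroup.centralizer ((T : Subgroup G) : Set G)) ∧ ∀ v ∈ V, v ∉ Subgroup.centralizer (T : Set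 G) → Subgroup.closure {x : G | ∃ t ∈ T, x = v * t * v⁻¹ * t⁻¹} = (V ⊓ Subgroup.centralizer ((T : Subgroup G) : Set G)) := by
  haveI : CharP F p := charP_of_card_eq_pow hF
  obtain ⟨ρ, ψ, hbij, hact, hS⟩ := exists_nat_coords hnat hf S
  have hNT : NatT ρ T := by rw [hT]; exact natT_of_sylow S hS
  refine ⟨?_, ?_, ?_, ?_⟩
  · rw [Subgroup.commutator_eq_bot_iff_le_centralizer]
    exact le_trans (hNT.commutator_le hact hbij.2) inf_le_right
  · rw [card_natV ψ, hF, ← pow_mul, mul_comm]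
  · rw [hNT.card_inf_centralizer hact hbij.2, hF]
  · intro s hs hs1
    exact ⟨hNT.inf_centralizer_singleton_eq hact hbij hs hs1, hNT.commutator_eq hact hbij.2,
      hNT.commutator_zpowers_eq hact hbij hs hs1,
      fun v hv hvT => hNT.closure_comm_eq hact hbij.2 hv hvT⟩

end Cfsg.Agent.S2779
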