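import Cfsg.Statements.S2780
import Cfsg.Agent.Helper46.NatSL2More

set_option autoImplicit false
open Cfsg

namespace Cfsg.Agent.S2780

open Cfsg.Agent.Helper46 in
theorem result {G : Type*} [Group G] [Finite G] {p : ℕ} [Fact p.Prime] {F : Type*} [Field F] [Fintype F] (n : ℕ) (hF : Fintype.card F = p ^ n) (V L : Subgroup G) (hnat : Cfsg.IsNaturalSL2Module F V L) (hf : L ⊓ Subgroup.centralizer (V : Set G) = ⊥) (S : Sylow p ↥L) (T : Subgroup G) (hT : T = ((S : Subgroup ↥L).map L.subtype)) : (∀ g ∈ L, g ∉ Subgroup.normalizer (T : Set G) → Cfsg.IsInternalDirectProduct (V ⊓ Subgroup.centralizer ((T : Subgroup G) : Set G)) (V ⊓ Subgroup.centralizer ((T.map (MulAut.conj g).toMonoidHom : Subgroup G) : Set G)) V) ∧ (∀ x ∈ L, x ≠ 1 → (orderOf x).Coprime p → (V ⊓ Subgroup.centralizer ({x} : Set G)) = ⊥) ∧ (∀ U : Subgroup G, U ≤ (V ⊓ Subgroup.centralizer ((T : Subgroup G) : Set G)) → L ⊓ Subgroup.normalizer (T : Set G) ≤ Subgroup.normalizer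 (U : Set G) → U = ⊥ ∨ U = (V ⊓ Subgroup.centralizer ((T : Subgroup G) : Set G))) ∧ (∀ U : Subgroup G, (V ⊓ Subgroup.centralizer ((T : Subgroup G) : Set G)) ≤ U → U ≤ V → L ⊓ Subgroup.normalizer (T : Set G) ≤ Subgroup.normalizer (U : Set G) → U = (V ⊓ Subgroup.centralizer ((T : Subgroup G) : Set G)) ∨ U = V) := by
  haveI : CharP F p := charP_of_card_eq_pow hF
  obtain ⟨ρ, ψ, hbij, hact, hS⟩ := exists_nat_coords hnat hf S
  have hNT : NatT ρ T := by rw [hT]; exact natT_of_sylow S hS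
  refine ⟨?_, ?_, ?_, ?_⟩
  · intro g hg hgN
    exact hNT.internal_direct hact hbij.2 hg hgN
  · intro x hx hx1 hcop
    exact hact.inf_centralizer_eq_bot hbij.1 hx hx1 hcop
  · intro U hU hN
    exact hNT.irreducible_sub hact hbij.2 hU hN
  · intro U h1 h2 hN
    exact hNT.irreducible_quot hact hbij.2 h1 h2 hN

end Cfsg.Agent.S2780
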