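import Cfsg.Statements.S2781
import Cfsg.Agent.Helper46.Averaging

set_option autoImplicit false
open Cfsg

namespace Cfsg.Agent.S2781

/-- Let H act faithfully by conjugation on the elementary abelian p-subgroup V of a finite group, let O^p(H) be the subgroup of H generated by its elements of order prime to p, and T a Sylow p-subgroup of O^p(H). If V is generated by the H-conjugates of C_V(T) (V is the smallest H-invariant subgroup containing C_V(T)), then V = [V, O^p(H)]·C_V(O^p(H)). -/
theorem result {G : Type*} [Group G] [Finite G] {p : ℕ} [Fact p.Prime] (V H : Subgroup G) (hV : Cfsg.IsElementaryAbelian p V) (hHV : H ≤ Subgroup.normalizer (V : Set G)) (hf : H ⊓ Subgroup.centralizer (V : Set G) = ⊥) (R : Subgroup G) (hR : R = (Cfsg.pResidual p ↥H).map H.subtype) (S : Sylow p ↥R) (T : Subgroup G) (hT : T = ((S : Subgroup ↥R).map R.subtype)) (hgen : ∀ W : Subgroup G, H ≤ Subgroup.normalizer (W : Set G) → (V ⊓ Subgroup.centralizer ((T : Subgroup G) : Set G)) ≤ W → V ≤ W) : ⁅V, R⁆ ⊔ (V ⊓ Subgroup.centralizer ((R : Subgroup G) : Set G)) = V :=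 by
  have hRH : R ≤ H := by rw [hR]; exact Subgroup.map_subtype_le _
  have hHR : H ≤ Subgroup.normalizer (R : Set G) := by
    rw [hR]
    haveI : (Cfsg.pResidual p ↥H).Normal := Cfsg.Agent.Lib.pResidual_normal p
    exact Cfsg.Agent.Helper46.map_subtype_normalized _
  have hRV : R ≤ Subgroup.normalizer (V : Set G) := hRH.trans hHV
  haveI : Finite ↥R := inferInstance
  apply le_antisymm
  · exact sup_le (Cfsg.Agent.Helper46.commutator_le_of_normalized hRV) inf_le_left
  · apply hgen
    · exact Cfsg.Agent.Helper46.sup_normalized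
        (Cfsg.Agent.Helper46.commutator_normalized hHV hHR)
        (Cfsg.Agent.Helper46.inf_normalized hHV (Cfsg.Agent.Helper46.centralizer_normalized hHR))
    · intro v hv
      rw [Subgroup.mem_inf] at hv
      exact Cfsg.Agent.Helper46.coset_average hV hRV S hv.1 (hT ▸ hv.2)

end Cfsg.Agent.S2781
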