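-- Statement S2791: an abelian strongly closed subgroup of a Sylow subgroup controls strong fusion.
import Cfsg.Statements.S2791
import Cfsg.Agent.S5076
import Cfsg.Agent.Helper87.FusionSeries

set_option autoImplicit false
open Cfsg

namespace Cfsg.Agent.S2791

open Cfsg.FusionSystem Cfsg.Agent.Helper87

/-- Let S be a Sylow p-subgroup of the finite group G and A an abelian subgroup of S that is strongly closed in S with respect to G. Then A controls strong fusion in G: for some Sylow p-subgroup T containing A, whenever a subset of T is conjugated into T by an element of G, the same elementwise conjugation is induced by an element of N_G(A). -/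
theorem result {G : Type*} [Group G] [Finite G] {p : ℕ} [Fact p.Prime] (S : Sylow p G) (A : Subgroup G) (hA : IsMulCommutative ↥A) (hsc : Cfsg.IsStronglyClosed A (S : Subgroup G)) : Cfsg.ControlsStrongFusion p A := by
  have hSp : IsPGroup p (S : Subgroup G) := S.2
  have hFsat : (groupFusionSystem (S : Subgroup G)).IsSaturated p := S5076.result p S
  set F := groupFusionSystem (S : Subgroup G) with hF
  have hAS : A ≤ (S : Subgroup G) := hsc.1
  have hAcl : F.StronglyClosed A := by
    refine ⟨hAS, ?_⟩
    rintro R hR φ ⟨-, hφS, g, hg⟩ x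
    have h1 := hφS x
    rw [hg] at h1 ⊢
    exact hsc.2 _ (hR x.2) g h1
  have hAn : F.IsNormal A := by
    apply isNormal_of_weaklyClosed_series_nat hSp F hFsat hAcl 1 (fun k => if k = 0 then ⊥ else A)
    · simp
    · simp
    · intro i j hij
      by_cases hi : i = 0
      · simp [hi]
      · have hj : j ≠ 0 := by omega
        simp [hi, hj]
    · intro j hj
      have hj0 : j = 0 := by omega
      subst hj0
      simp only [zero_add, one_ne_zero, if_false, if_true]
      rw [Subgroup.commutator_le]
      intro a ha b hb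
      rw [Subgroup.mem_bot, commutatorElement_eq_one_iff_commute]
      have := hA.is_comm.comm (⟨a, ha⟩ : A) ⟨b, hb⟩
      exact congrArg Subtype.val this
    · intro j hj
      have hj0 : j = 0 := by omega
      subst hj0
      simp only [if_true]
      refine ⟨bot_le, fun φ _ => ?_⟩
      rw [eq_bot_iff]
      rintro _ ⟨x, rfl⟩
      have hx : x = 1 := Subtype.ext (Subgroup.mem_bot.mp x.2)
      rw [hx, map_one]
      exact Subgroup.one_mem _
  refine ⟨S, hAS, fun B hB => ⟨hB, fun g hg => ?_⟩⟩
  -- the subgroup generated by `B`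
  have hPS : Subgroup.closure B ≤ (S : Subgroup G) := (Subgroup.closure_le _).mpr hB
  have hPg : ∀ x ∈ Subgroup.closure B, g * x * g⁻¹ ∈ (S : Subgroup G) := by
    have : Subgroup.closure B ≤ (S : Subgroup G).comap (MulAut.conj g).toMonoidHom := by
      rw [Subgroup.closure_le]
      intro b hb
      exact hg ⟨b, hb, rfl⟩
    intro x hx
    exact this hx
  have hφ : conjHom (Subgroup.closure B) g ∈ F.Hom (Subgroup.closure B) :=
    ⟨hPS, fun x => hPg x x.2, g, fun _ => rfl⟩
  obtain ⟨ψ, ⟨-, -, x, hx⟩, hψφ, hψA⟩ := hAn.2 _ _ hφ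
  have hxA : x ∈ Subgroup.normalizer (A : Set G) := by
    apply Helper48.mem_normalizer_of_conjSub_le
    rintro _ ⟨a, ha, rfl⟩
    have h1 : ψ ⟨a, (le_sup_right : A ≤ Subgroup.closure B ⊔ A) ha⟩ ∈ (A.subgroupOf (Subgroup.closure B ⊔ A)).map ψ :=
      ⟨_, Subgroup.mem_subgroupOf.mpr ha, rfl⟩
    rw [hψA, hx] at h1
    exact h1
  refine ⟨x, hxA, fun a ha => ?_⟩
  have h1 := hψφ ⟨a, Subgroup.subset_closure ha⟩
  rw [hx] at h1
  exact h1.symm

end Cfsg.Agent.S2791
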