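import Cfsg.Statements.S2820
import Cfsg.Agent.Helper47.OpSubnormal

set_option autoImplicit false
open Cfsg

namespace Cfsg.Agent.S2820

open Cfsg.Agent.Helper47

theorem result {H : Type*} [Group H] [Finite H] {p : ℕ} [Fact p.Prime] (A B : Subgroup H) (hA : A.IsSubnormal) (hB : B.IsSubnormal) (hAp : IsPGroup p ↥A) (hBres : (Cfsg.pResidual p ↥B).map B.subtype = B) : A ≤ Subgroup.normalizer (B : Set H) ∧ (Cfsg.pResidual p ↥(A ⊔ B)).map (A ⊔ B).subtype = B := by
  have hAP : A ≤ Cfsg.pCore p H := le_pCore_of_isSubnormal hA hAp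
  have hPn : (Cfsg.pCore p H).Normal := by
    have hc : (Cfsg.pCore p H).Characteristic := Cfsg.Agent.Lib.pCore_characteristic p
    infer_instance
  have hPp : IsPGroup p (Cfsg.pCore p H) := Cfsg.Agent.Lib.isPGroup_pCore p
  have h1 : (Cfsg.pResidual p ↥(A ⊔ B)).map (A ⊔ B).subtype = B :=
    pResidual_eq_of_le_sup hB hBres hPn hPp le_sup_right
      (sup_le (hAP.trans le_sup_right) le_sup_left)
  refine ⟨?_, h1⟩
  have h2 := le_normalizer_pResidual_map (p := p) (A ⊔ B)
  rw [h1] at h2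
  exact le_sup_left.trans h2

end Cfsg.Agent.S2820
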