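import Cfsg.Statements.S2804
import Cfsg.Agent.Helper47.OpSubnormal
import Cfsg.Agent.Helper47.Comm2
import Cfsg.Agent.Helper47.YL4
import Cfsg.Agent.S2820

set_option autoImplicit false
open Cfsg
open scoped commutatorElement

namespace Cfsg.Agent.S2804

open Cfsg.Agent.Helper47

/-- A subnormal subgroup that is a `p`-group modulo `C_L(V)`, `V` being `p`-reduced, centralizes `V`. -/
theorem le_centralizer_of_isSubnormal {L : Type*} [Group L] [Finite L] {p : ℕ} [Fact p.Prime]
    {V : Subgroup L} (hV : Cfsg.IsPReducedNormal p V) {D : Subgroup L} (hD : D.IsSubnormal)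
    (hDp : ∀ d ∈ D, ∃ k : ℕ, d ^ (p ^ k) ∈ Subgroup.centralizer (V : Set L)) :
    D ≤ Subgroup.centralizer (V : Set L) := by
  obtain ⟨hVn, hVe, hCn, hcore⟩ := hV
  have := hCn
  have hsub : (D.map (QuotientGroup.mk' (Subgroup.centralizer (V : Set L)))).IsSubnormal :=
    hD.map (QuotientGroup.mk'_surjective _)
  have hp : IsPGroup p (D.map (QuotientGroup.mk' (Subgroup.centralizer (V : Set L)))) := by
    rintro ⟨_, d, hd, rfl⟩
    obtain ⟨k, hk⟩ := hDp d hd
    refine ⟨k, ?_⟩
    apply Subtype.ext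
    show ((QuotientGroup.mk' _) d) ^ (p ^ k) = 1
    rw [← map_pow, QuotientGroup.mk'_apply, QuotientGroup.eq_one_iff]
    exact hk
  have hle := le_pCore_of_isSubnormal hsub hp
  rw [hcore] at hle
  intro d hd
  have : (QuotientGroup.mk' (Subgroup.centralizer (V : Set L))) d ∈
      (⊥ : Subgroup (L ⧸ Subgroup.centralizer (V : Set L))) := hle (Subgroup.mem_map_of_mem _ hd)
  rw [Subgroup.mem_bot, QuotientGroup.mk'_apply, QuotientGroup.eq_one_iff] at this
  exact this

theorem result {L : Type*} [Group L] [Finite L] {p : ℕ} [Fact p.Prime] (hchar : Subgroup.centralizer (Cfsg.pCore p L : Set L) ≤ Cfsg.pCore p L) (V : Subgroup L) (hV : Cfsg.IsPReducedNormal p V) (K : Subgroup L) (hK : K.IsSubnormal) : ⁅V, (Cfsg.pResidual p ↥K).map K.subtype⁆ ≤ K ∧ Cfsg.IsPReducedNormal p ((⁅V, (Cfsg.pResidual p ↥K).map K.subtype⁆).subgroupOf K) := by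
  set R := (Cfsg.pResidual p ↥K).map K.subtype with hR
  have hRcl : R = Subgroup.closure {x : L | x ∈ K ∧ (orderOf x).Coprime p} :=
    pResidual_map_subtype_eq_closure K
  have hRK : R ≤ K := Subgroup.map_subtype_le _
  have hVn : V.Normal := hV.1
  have hVe : Cfsg.IsElementaryAbelian p V := hV.2.1
  have hVp : IsPGroup p V := Cfsg.Agent.Lib.isElementaryAbelian_isPGroup hVe
  have hKR : K ≤ Subgroup.normalizer (R : Set L) := le_normalizer_pResidual_map K
  -- R is subnormal with R = O^p(R)
  have hRsn : R.IsSubnormal :=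
    Subgroup.IsSubnormal.step R K hRK hK ((Subgroup.normal_subgroupOf_iff_le_normalizer hRK).mpr hKR)
  have hRres : (Cfsg.pResidual p ↥R).map R.subtype = R := by
    rw [pResidual_map_subtype_eq_closure]
    apply le_antisymm
    · rw [Subgroup.closure_le]; intro x hx; exact hx.1
    · conv_lhs => rw [hRcl]
      apply Subgroup.closure_mono
      intro x hx
      refine ⟨?_, hx.2⟩
      rw [hRcl]; exact Subgroup.subset_closure hx
  -- V normalizes R
  have hVR : V ≤ Subgroup.normalizer (R : Set L) :=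
    (Cfsg.Agent.S2820.result V R hVn.isSubnormal hRsn hVp hRres).1
  set W := ⁅V, R⁆ with hW
  have hWR : W ≤ R := Subgroup.le_normalizer_iff_commutator_le_right.mp hVR
  have hWV : W ≤ V := Subgroup.commutator_le_left V R
  have hWK : W ≤ K := hWR.trans hRK
  refine ⟨hWK, ?_⟩
  rw [isPReducedNormal_subgroupOf_iff hWK]
  refine ⟨hWK, ?_, Cfsg.Agent.Lib.isElementaryAbelian_mono hVe hWV, ?_⟩
  · apply le_normalizer_commutator_of_le _ hKR
    rw [Subgroup.normalizer_eq_top_iff.mpr hVn]; exact le_top
  · intro D hDK hKD hDp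
    have hDsn : D.IsSubnormal :=
      Subgroup.IsSubnormal.step D K hDK hK ((Subgroup.normal_subgroupOf_iff_le_normalizer hDK).mpr hKD)
    have hCVW : Subgroup.centralizer (V : Set L) ≤ Subgroup.centralizer (W : Set L) :=
      Subgroup.centralizer_le hWV
    -- p'-elements of D centralize W, hence V
    have hp' : ∀ x ∈ D, (orderOf x).Coprime p → x ∈ Subgroup.centralizer (V : Set L) := by
      intro x hx hcop
      obtain ⟨k, hk⟩ := hDp x hx
      obtain ⟨m, hm⟩ := exists_pow_eq_self_of_coprime (x := x) (n := p ^ k)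
        (Nat.Coprime.pow_left k hcop.symm)
      have hxW : x ∈ Subgroup.centralizer (W : Set L) := by
        rw [← hm]; exact Subgroup.pow_mem _ hk m
      have hxR : x ∈ R := by
        rw [hRcl]; exact Subgroup.subset_closure ⟨hDK hx, hcop⟩
      have hWp : IsPGroup p W := hVp.to_le hWV
      have key := commute_of_commutator_mem (S := V) (T := W) hWp hcop
        (fun s hs => Subgroup.commutator_mem_commutator hs hxR)
        (fun t ht => ((Subgroup.mem_centralizer_iff.mp hxW) t ht))
      rw [Subgroup.mem_centralizer_iff]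
      intro v hv
      exact (key v hv)
    apply (le_centralizer_of_isSubnormal hV hDsn ?_).trans hCVW
    intro d hd
    obtain ⟨y, z, hy, hz, hyz, hcop, k, hk⟩ :=
      Cfsg.Agent.Helper67.exists_pprime_ppart p (isOfFinOrder_of_finite d)
    have hyD : y ∈ D := (Subgroup.zpowers_le.mpr hd) hy
    have hyC := hp' y hyD hcop
    refine ⟨k, ?_⟩
    have hcomm : Commute y z := by
      obtain ⟨i, rfl⟩ := Subgroup.mem_zpowers_iff.mp hy
      obtain ⟨j, rfl⟩ := Subgroup.mem_zpowers_iff.mp hz
      exact (Commute.refl d).zpow_zpow i j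
    rw [hyz, hcomm.mul_pow, hk, mul_one]
    exact Subgroup.pow_mem _ hyC _

end Cfsg.Agent.S2804
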