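import Cfsg.Statements.S2805
import Cfsg.Agent.Helper49.Kieler

set_option autoImplicit false
open Cfsg

namespace Cfsg.Agent.S2805

/-- Kieler's Lemma: let H be a finite group of characteristic p (C_H(O_p(H)) ≤ O_p(H)), T a Sylow p-subgroup of H and L a subnormal subgroup of H. Then C_L(Ω₁(Z(T))) = C_L(Ω₁(Z(T ∩ L))), Ω₁(Z(·)) denoting the elements of order dividing p in the centre. -/
theorem result {H : Type*} [Group H] [Finite H] {p : ℕ} [Fact p.Prime] (hH : Subgroup.centralizer (Cfsg.pCore p H : Set H) ≤ Cfsg.pCore p H) (T : Sylow p H) (L : Subgroup H) (hL : L.IsSubnormal) : L ⊓ Subgroup.centralizer ((Cfsg.omegaOne p ((T : Subgroup H) ⊓ Subgroup.centralizer ((T : Subgroup H) : Set H))) : Set H) = L ⊓ Subgroup.centralizer ((Cfsg.omegaOne p (((T : Subgroup H) ⊓ L) ⊓ Subgroup.centralizer ((((T : Subgroup H) ⊓ L) : Subgroup H) : Set H))) : Set H) := by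
  classical
  have key : Cfsg.Agent.Helper49.CharPIn p L ∧
      Cfsg.Agent.Helper49.IsSylowOf p ((T : Subgroup H) ⊓ L) L ∧
      L ⊓ Subgroup.centralizer (Cfsg.Agent.Helper49.oz p (T : Subgroup H) : Set H) =
        L ⊓ Subgroup.centralizer (Cfsg.Agent.Helper49.oz p ((T : Subgroup H) ⊓ L) : Set H) := by
    induction hL with
    | top =>
      refine ⟨Cfsg.Agent.Helper49.charPIn_top_iff.mpr hH,
        Cfsg.Agent.Helper49.isSylowOf_inf_of_isSubnormal T Subgroup.IsSubnormal.top, ?_⟩
      rw [inf_top_eq]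
    | step L K hle hK hN ih =>
      obtain ⟨hKc, hKs, hKe⟩ := ih
      have hKn : K ≤ Subgroup.normalizer (L : Set H) :=
        (Subgroup.normal_subgroupOf_iff_le_normalizer hle).mp hN
      refine ⟨Cfsg.Agent.Helper49.charPIn_of_normalized hKc hle
          ((Cfsg.Agent.Helper49.coreIn_le K).trans hKn),
        Cfsg.Agent.Helper49.isSylowOf_inf_of_isSubnormal T
          (Subgroup.IsSubnormal.step L K hle hK hN), ?_⟩
      have h1 := Cfsg.Agent.Helper49.kieler_normal hKc hKs hle hKn
      have e1 : (T : Subgroup H) ⊓ K ⊓ L = (T : Subgroup H) ⊓ L := by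
        rw [inf_assoc, inf_eq_right.mpr hle]
      rw [e1] at h1
      have e2 : ∀ X : Subgroup H, L ⊓ X = L ⊓ (K ⊓ X) := by
        intro X
        rw [← inf_assoc, inf_eq_left.mpr hle]
      rw [e2, hKe, ← e2, h1]
  exact key.2.2

end Cfsg.Agent.S2805
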