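import Cfsg.Statements.S2809
import Cfsg.Agent.Helper47.Basic

set_option autoImplicit false
open Cfsg

namespace Cfsg.Agent.S2809

open Cfsg.Agent.Helper47
open scoped commutatorElement

theorem iter_normalized {H : Type*} [Group H] (R L : Subgroup H)
    (hL : L ≤ Subgroup.normalizer (R : Set H)) (i : ℕ) :
    L ≤ Subgroup.normalizer ((Cfsg.iterCommutator R L i : Subgroup H) : Set H) := by
  induction i with
  | zero => exact hL
  | succ i _ => exact Subgroup.normalizer_commutator_ge_right _ _

theorem iter_succ_le {H : Type*} [Group H] (R L : Subgroup H)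
    (hL : L ≤ Subgroup.normalizer (R : Set H)) (i : ℕ) :
    Cfsg.iterCommutator R L (i + 1) ≤ Cfsg.iterCommutator R L i :=
  Subgroup.le_normalizer_iff_commutator_le_left.mp (iter_normalized R L hL i)

theorem iter_le {H : Type*} [Group H] (R L : Subgroup H)
    (hL : L ≤ Subgroup.normalizer (R : Set H)) (i : ℕ) :
    Cfsg.iterCommutator R L i ≤ R := by
  induction i with
  | zero => exact le_rfl
  | succ i ih => exact (iter_succ_le R L hL i).trans ih

/-- Let H be a finite group, p a prime, R a p-subgroup of H with C_H(R) ≤ R, and L a subgroup of N_H(R) acting nilpotently on R (some iterated commutator [R, L, …, L] is trivial). Then L is a p-group. -/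
theorem result {H : Type*} [Group H] [Finite H] {p : ℕ} [Fact p.Prime] (R : Subgroup H) (hR : IsPGroup p ↥R) (hC : Subgroup.centralizer (R : Set H) ≤ R) (L : Subgroup H) (hL : L ≤ Subgroup.normalizer (R : Set H)) (hnil : ∃ n : ℕ, Cfsg.iterCommutator R L n = ⊥) : IsPGroup p ↥L := by
  obtain ⟨n, hn⟩ := hnil
  apply isPGroup_of_forall_coprime_eq_one (fun y => isOfFinOrder_of_finite y)
  intro y hy
  have hy' : (orderOf (y : H)).Coprime p := by rwa [Subgroup.orderOf_coe]
  -- y centralizes every term of the chain, by downward induction
  have key : ∀ k : ℕ, k ≤ n → ∀ s ∈ Cfsg.iterCommutator R L (n - k), Commute s (y : H) := by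
    intro k
    induction k with
    | zero =>
      intro _ s hs
      rw [Nat.sub_zero, hn, Subgroup.mem_bot] at hs
      rw [hs]; exact Commute.one_left _
    | succ k ih =>
      intro hk
      have hk' : k ≤ n := Nat.le_of_succ_le hk
      have hidx : n - k = (n - (k + 1)) + 1 := by omega
      have hT : IsPGroup p ↥(Cfsg.iterCommutator R L (n - k)) := hR.to_le (iter_le R L hL _)
      refine commute_of_commutator_mem hT hy' ?_ (ih hk')
      intro s hs
      rw [hidx]
      exact Subgroup.commutator_mem_commutator hs y.2
  have hcent : (y : H) ∈ Subgroup.centralizer (R : Set H) := by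
    intro r hr
    have := key n le_rfl r (by rw [Nat.sub_self]; exact hr)
    exact this.eq
  have h1 : (y : H) = 1 := eq_one_of_mem_isPGroup_of_coprime hR (hC hcent) hy'
  exact Subtype.ext h1

end Cfsg.Agent.S2809
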