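import Cfsg.Statements.S2810
import Cfsg.Agent.Helper47.SectionKernel

set_option autoImplicit false
open Cfsg

namespace Cfsg.Agent.S2810

open Cfsg.Agent.Helper47
open scoped commutatorElement

/-- Let H be a finite group of characteristic p and L a subgroup of H centralizing every factor of some H-invariant chain 1 = A₀ ≤ A₁ ≤ … ≤ Aₙ = O_p(H) of normal subgroups (that is, [A_{i+1}, L] ≤ Aᵢ for each i). Then L ≤ O_p(H). -/
theorem result {H : Type*} [Group H] [Finite H] {p : ℕ} [Fact p.Prime] (hchar : Subgroup.centralizer (Cfsg.pCore p H : Set H) ≤ Cfsg.pCore p H) (L : Subgroup H) (n : ℕ) (A : Fin (n + 1) → Subgroup H) (h0 : A 0 = ⊥) (hn : A (Fin.last n) = Cfsg.pCore p H) (hmono : Monotone A) (hnorm : ∀ i, (A i).Normal) (hcent : ∀ i : Fin n, ⁅A i.succ, L⁆ ≤ A i.castSucc) : L ≤ Cfsg.pCore p H := by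
  -- the stability group of the chain
  let C : Subgroup H := ⨅ i : Fin n, @Cfsg.sectionKernel H _ (A i.succ) (A i.castSucc) (hnorm _)
  have hCn : C.Normal := by
    have : ∀ i : Fin n, (@Cfsg.sectionKernel H _ (A i.succ) (A i.castSucc) (hnorm _)).Normal :=
      fun i => @sectionKernel_normal H _ _ _ (hnorm _) (hnorm _)
    exact Subgroup.normal_iInf_normal this
  have hLC : L ≤ C := by
    refine le_iInf fun i => ?_
    exact (@commutator_le_iff_le_sectionKernel H _ _ _ _ (hnorm _)).mp (hcent i)
  have hAp : ∀ i, IsPGroup p ↥(A i) := fun i =>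
    (isPGroup_pCore p H).to_le (hn ▸ hmono (Fin.le_last i))
  have hCp : IsPGroup p ↥C := by
    apply isPGroup_of_forall_coprime_eq_one (fun y => isOfFinOrder_of_finite y)
    intro y hy
    have hy' : (orderOf (y : H)).Coprime p := by rwa [Subgroup.orderOf_coe]
    have key : ∀ i : Fin (n + 1), ∀ s ∈ A i, Commute s (y : H) := by
      intro i
      induction i using Fin.induction with
      | zero =>
        intro s hs
        rw [h0, Subgroup.mem_bot] at hs
        rw [hs]; exact Commute.one_left _
      | succ i ih =>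
        refine commute_of_commutator_mem (hAp i.castSucc) hy' ?_ ih
        intro s hs
        have hyi : (y : H) ∈ @Cfsg.sectionKernel H _ (A i.succ) (A i.castSucc) (hnorm _) :=
          (iInf_le (fun i : Fin n =>
            @Cfsg.sectionKernel H _ (A i.succ) (A i.castSucc) (hnorm _)) i) y.2
        exact (@mem_sectionKernel_iff H _ _ _ (hnorm _) _).mp hyi s hs
    have hcent' : (y : H) ∈ Subgroup.centralizer (Cfsg.pCore p H : Set H) := by
      intro r hr
      rw [← hn] at hr
      exact (key (Fin.last n) r hr).eq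
    have h1 : (y : H) = 1 :=
      eq_one_of_mem_isPGroup_of_coprime (isPGroup_pCore p H) (hchar hcent') hy'
    exact Subtype.ext h1
  exact hLC.trans (le_pCore hCn hCp)

end Cfsg.Agent.S2810
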