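import Cfsg.Statements.S2812
import Cfsg.Agent.S0026
import Cfsg.Agent.Helper48.FStarSplit
import Cfsg.Agent.Helper53.Conj
import Cfsg.Agent.Lib.Cores

set_option autoImplicit false
open Cfsg

namespace Cfsg.Agent.S2812

open scoped commutatorElement

/-- Let H be a subgroup of the finite group G with O_p(H) = 1, Y a p-subgroup of G normalizing H, and L a subgroup of the generalized Fitting subgroup F*(H) that is subnormal in H and normalized by Y. Then L = [L, Y]·C_L(Y) and [L, Y] = [L, Y, Y]. -/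
theorem result {G : Type*} [Group G] [Finite G] {p : ℕ} [Fact p.Prime] (H : Subgroup G) (hO : Cfsg.pCore p ↥H = ⊥) (Y : Subgroup G) (hY : IsPGroup p ↥Y) (hYH : Y ≤ Subgroup.normalizer (H : Set G)) (L : Subgroup G) (hLF : L ≤ (Cfsg.generalizedFittingSubgroup ↥H).map H.subtype) (hLsn : (L.subgroupOf H).IsSubnormal) (hYL : Y ≤ Subgroup.normalizer (L : Set G)) : ⁅L, Y⁆ ⊔ (L ⊓ Subgroup.centralizer (Y : Set G)) = L ∧ ⁅L, Y⁆ = ⁅⁅L, Y⁆, Y⁆ := by
  have hLH : L ≤ H := hLF.trans (Subgroup.map_subtype_le _)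
  have hLYL : ⁅L, Y⁆ ≤ L := Cfsg.Agent.Helper21.commutator_le_of_le_normalizer hYL
  -- `L' ≤ F*(H)` inside `H`
  have hL'F : L.subgroupOf H ≤ generalizedFittingSubgroup ↥H := by
    intro x hx
    rw [Subgroup.mem_subgroupOf] at hx
    obtain ⟨z, hz, hzx⟩ := hLF hx
    have : z = x := Subtype.ext hzx
    rw [← this]; exact hz
  have hsplit := Cfsg.Agent.Helper48.le_inf_fittingSubgroup_sup_components hLsn hL'F
  -- the Fitting part
  have hFh : Y ≤ Subgroup.normalizer (((fittingSubgroup ↥H).map H.subtype : Subgroup G) : Set G) :=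
    hYH.trans (Cfsg.Agent.Helper53.char_map_normalizer_le H (fittingSubgroup ↥H)
      Cfsg.Agent.Lib.fittingSubgroup_characteristic)
  have hYF : Y ≤ Subgroup.normalizer
      ((L ⊓ (fittingSubgroup ↥H).map H.subtype : Subgroup G) : Set G) :=
    (le_inf hYL hFh).trans Subgroup.inf_normalizer_le_normalizer_inf
  have hcopF : (Nat.card ↥(fittingSubgroup ↥H)).Coprime p := by
    have := Cfsg.Agent.Lib.relIndex_pCore_fittingSubgroup_coprime (G := ↥H) p
    rwa [hO, Subgroup.relIndex_bot_left] at this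
  have hcop : (Nat.card ↥Y).Coprime
      (Nat.card ↥(L ⊓ (fittingSubgroup ↥H).map H.subtype : Subgroup G)) := by
    obtain ⟨n, hn⟩ := IsPGroup.iff_card.1 hY
    rw [hn]
    apply Nat.Coprime.pow_left
    have h1 : Nat.card ↥(L ⊓ (fittingSubgroup ↥H).map H.subtype : Subgroup G) ∣
        Nat.card ↥((fittingSubgroup ↥H).map H.subtype : Subgroup G) :=
      Subgroup.card_dvd_of_le inf_le_right
    rw [Subgroup.card_map_of_injective H.subtype_injective] at h1
    exact (Nat.Coprime.coprime_dvd_left h1 hcopF).symm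
  have hYsolv : Group.IsSolvable ↥Y := by
    have := hY.isNilpotent
    infer_instance
  have h26 := Cfsg.Agent.S0026.result Y (L ⊓ (fittingSubgroup ↥H).map H.subtype) hYF hcop
    (Or.inl hYsolv)
  have hFT : L ⊓ (fittingSubgroup ↥H).map H.subtype ≤
      ⁅L, Y⁆ ⊔ (L ⊓ Subgroup.centralizer (Y : Set G)) := by
    rw [← h26]
    exact sup_le_sup (Subgroup.commutator_mono inf_le_left le_rfl)
      (inf_le_inf_right _ inf_le_left)
  -- the component part
  have hET : (sSup {K : Subgroup ↥H | IsComponent K ∧ K ≤ L.subgroupOf H}).map H.subtype ≤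
      ⁅L, Y⁆ ⊔ (L ⊓ Subgroup.centralizer (Y : Set G)) := by
    rw [Subgroup.map_le_iff_le_comap]
    apply sSup_le
    rintro K' ⟨hK', hK'L⟩
    rw [← Subgroup.map_le_iff_le_comap]
    have hKL : K'.map H.subtype ≤ L := by
      rintro _ ⟨k, hk, rfl⟩
      exact Subgroup.mem_subgroupOf.1 (hK'L hk)
    rcases Cfsg.Agent.Helper48.component_le_commutator_or_commutator_eq_bot hK' hYH with h | h
    · exact (h.trans (Subgroup.commutator_mono hKL le_rfl)).trans le_sup_left
    · rw [Subgroup.commutator_eq_bot_iff_le_centralizer] at h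
      exact (le_inf hKL h).trans le_sup_right
  have hLT : L ≤ ⁅L, Y⁆ ⊔ (L ⊓ Subgroup.centralizer (Y : Set G)) := by
    have h1 : L = (L.subgroupOf H).map H.subtype := (Subgroup.map_subgroupOf_eq_of_le hLH).symm
    have h2 := Subgroup.map_mono (f := H.subtype) hsplit
    rw [← h1, Subgroup.map_sup] at h2
    refine h2.trans (sup_le ?_ hET)
    refine le_trans ?_ hFT
    rintro _ ⟨x, ⟨hx1, hx2⟩, rfl⟩
    exact ⟨Subgroup.mem_subgroupOf.1 hx1, ⟨x, hx2, rfl⟩⟩
  have hfirst : ⁅L, Y⁆ ⊔ (L ⊓ Subgroup.centralizer (Y : Set G)) = L :=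
    le_antisymm (sup_le hLYL inf_le_left) hLT
  refine ⟨hfirst, ?_⟩
  apply le_antisymm
  · rw [Subgroup.commutator_le]
    intro l hl y hy
    have hl' : l ∈ (↑(⁅L, Y⁆ ⊔ (L ⊓ Subgroup.centralizer (Y : Set G))) : Set G) := by
      rw [hfirst]; exact hl
    rw [Subgroup.coe_mul_of_right_le_normalizer_left ⁅L, Y⁆ (L ⊓ Subgroup.centralizer (Y : Set G))
      (inf_le_left.trans (Subgroup.normalizer_commutator_ge_left L Y))] at hl'
    obtain ⟨n, hn, c, hc, rfl⟩ := hl'
    have hcy : y * c = c * y := Subgroup.mem_centralizer_iff.1 hc.2 y hy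
    have : ⁅n * c, y⁆ = ⁅n, y⁆ := by
      rw [commutatorElement_def, commutatorElement_def]
      have : n * c * y * (n * c)⁻¹ = n * (c * y) * c⁻¹ * n⁻¹ := by group
      rw [this, ← hcy]; group
    rw [this]
    exact Subgroup.commutator_mem_commutator hn hy
  · exact Subgroup.commutator_mono hLYL le_rfl

end Cfsg.Agent.S2812
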