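import Cfsg.Statements.S2813
import Cfsg.Agent.Helper47.Basic
import Mathlib.Tactic.Group

set_option autoImplicit false
open Cfsg

namespace Cfsg.Agent.S2813

open Cfsg.Agent.Helper47
open scoped commutatorElement

/-- A subgroup generated by commuting `p`-elements is a `p`-group. -/
theorem isPGroup_closure_of_commute {G : Type*} [Group G] {p : ℕ} (S : Set G)
    (hcomm : Subgroup.closure S ≤ Subgroup.centralizer (Subgroup.closure S : Set G))
    (hS : ∀ s ∈ S, ∃ k : ℕ, s ^ p ^ k = 1) : IsPGroup p ↥(Subgroup.closure S) := by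
  rintro ⟨x, hx⟩
  suffices h : ∃ k : ℕ, x ^ p ^ k = 1 by
    obtain ⟨k, hk⟩ := h
    exact ⟨k, Subtype.ext (by simpa using hk)⟩
  induction hx using Subgroup.closure_induction with
  | mem s hs => exact hS s hs
  | one => exact ⟨0, by simp⟩
  | mul a b ha hb iha ihb =>
    obtain ⟨i, hi⟩ := iha
    obtain ⟨j, hj⟩ := ihb
    have hab : Commute a b := by
      have := hcomm hb a ha
      exact this
    refine ⟨i + j, ?_⟩
    rw [hab.mul_pow, pow_add, pow_mul, hi, one_pow, mul_comm (p ^ i), pow_mul, hj, one_pow, one_mul]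
  | inv a _ iha =>
    obtain ⟨i, hi⟩ := iha
    exact ⟨i, by rw [inv_pow, hi, inv_one]⟩

/-- A `p`-subgroup `N ≤ K` normalized by `K` is trivial if `O_p(K) = 1`. -/
theorem eq_bot_of_pCore_eq_bot {G : Type*} [Group G] {p : ℕ} {K N : Subgroup G}
    (hO : Cfsg.pCore p ↥K = ⊥) (hNK : N ≤ K) (hnorm : K ≤ Subgroup.normalizer (N : Set G))
    (hp : IsPGroup p ↥N) : N = ⊥ := by
  have h1 : (N.subgroupOf K).Normal := (Subgroup.normal_subgroupOf_iff_le_normalizer hNK).mpr hnorm
  have h2 : IsPGroup p ↥(N.subgroupOf K) :=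
    hp.of_equiv (Subgroup.subgroupOfEquivOfLe hNK).symm
  have h3 : N.subgroupOf K ≤ Cfsg.pCore p ↥K := le_pCore h1 h2
  rw [hO, le_bot_iff, Subgroup.subgroupOf_eq_bot] at h3
  exact h3.eq_bot_of_le hNK

/-- Let K be a subgroup of the finite group H with O_p(K) = 1 and Y a p-subgroup of N_H(K) with [K, Y, Y] = 1. Then [K, Y] = 1. -/
theorem result {H : Type*} [Group H] [Finite H] {p : ℕ} [Fact p.Prime] (K : Subgroup H) (hO : Cfsg.pCore p ↥K = ⊥) (Y : Subgroup H) (hY : IsPGroup p ↥Y) (hYK : Y ≤ Subgroup.normalizer (K : Set H)) (hq : ⁅⁅K, Y⁆, Y⁆ = ⊥) : ⁅K, Y⁆ = ⊥ := by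
  set N := ⁅K, Y⁆ with hN
  have hNK : N ≤ K := Subgroup.le_normalizer_iff_commutator_le_left.mp hYK
  have hNcY : N ≤ Subgroup.centralizer (Y : Set H) :=
    Subgroup.commutator_eq_bot_iff_le_centralizer.mp hq
  have hKN : K ≤ Subgroup.normalizer (N : Set H) := Subgroup.normalizer_commutator_ge_left _ _
  -- N is abelian
  have hab : N ≤ Subgroup.centralizer (N : Set H) := by
    rw [hN, Subgroup.commutator_le]
    intro k hk y hy
    -- y centralizes N, hence so does k y k⁻¹ and [k,y]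
    have hyc : y ∈ Subgroup.centralizer (N : Set H) := by
      intro n hn
      exact (hNcY hn y hy).symm
    have hkyc : k * y * k⁻¹ ∈ Subgroup.centralizer (N : Set H) := by
      intro n hn
      have hn' : k⁻¹ * n * k ∈ N := by
        have := (Subgroup.mem_normalizer_iff.mp (inv_mem (hKN hk)) n).mp hn
        simpa using this
      have h1 := hyc _ hn'
      -- h1 : k⁻¹ n k * y = y * (k⁻¹ n k)
      calc n * (k * y * k⁻¹) = k * ((k⁻¹ * n * k) * y) * k⁻¹ := by group
        _ = k * (y * (k⁻¹ * n * k)) * k⁻¹ := by rw [h1]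
        _ = k * y * k⁻¹ * n := by group
    have : ⁅k, y⁆ = (k * y * k⁻¹) * y⁻¹ := by rw [commutatorElement_def]
    rw [this]
    exact mul_mem hkyc (inv_mem hyc)
  -- N is a p-group
  have hNp : IsPGroup p ↥N := by
    have hdef : N = Subgroup.closure {g | ∃ g₁ ∈ K, ∃ g₂ ∈ Y, ⁅g₁, g₂⁆ = g} := rfl
    rw [hdef] at hab ⊢
    apply isPGroup_closure_of_commute _ hab
    rintro z ⟨k, hk, y, hy, rfl⟩
    obtain ⟨j, hj⟩ := hY ⟨y, hy⟩
    have hj' : y ^ p ^ j = 1 := by simpa using congrArg Subtype.val hj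
    have hzN : ⁅k, y⁆ ∈ N := Subgroup.commutator_mem_commutator hk hy
    have hzy : Commute ⁅k, y⁆ y := hNcY hzN y hy |>.symm
    refine ⟨j, ?_⟩
    have h1 : k * y * k⁻¹ = ⁅k, y⁆ * y := by rw [commutatorElement_def]; group
    have h2 : (k * y * k⁻¹) ^ p ^ j = 1 := by rw [conj_pow, hj', mul_one, mul_inv_cancel]
    rw [h1, hzy.mul_pow, hj', mul_one] at h2
    exact h2
  exact eq_bot_of_pCore_eq_bot hO hNK hKN hNp

end Cfsg.Agent.S2813
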