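import Cfsg.Statements.S2814
import Cfsg.Agent.Helper47.Subnormal
import Cfsg.Agent.Helper47.Minimal
import Cfsg.Agent.Helper47.WeaklyClosed

set_option autoImplicit false
open Cfsg

namespace Cfsg.Agent.S2814

open Cfsg.Agent.Helper47 Cfsg.Agent.Helper48 Cfsg.Agent.Helper51
open scoped commutatorElement

theorem conj_le_commutator_sup {G : Type*} [Group G] (R A : Subgroup G) (r : G) (hr : r ∈ R) :
    conjSub r A ≤ ⁅R, A⁆ ⊔ A := by
  intro x hx
  obtain ⟨a, ha, rfl⟩ := hx
  have : (MulAut.conj r).toMonoidHom a = ⁅r, a⁆ * a := by simp [commutatorElement_def]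
  rw [this]
  exact mul_mem (Subgroup.mem_sup_left (Subgroup.commutator_mem_commutator hr ha))
    (Subgroup.mem_sup_right ha)

theorem result {H : Type*} [Group H] [Finite H] {p : ℕ} [Fact p.Prime] (A : Subgroup H) (K : Subgroup H) (hK : K = Cfsg.subnormalClosure A) : (Subgroup.normalClosure ((A.subgroupOf K : Subgroup ↥K) : Set ↥K)).map K.subtype = K ∧ Subgroup.normalizer (A : Set H) ≤ Subgroup.normalizer (K : Set H) ∧ A ⊔ (Cfsg.pResidual p ↥K).map K.subtype = K ∧ (IsPGroup p ↥A → ⁅(Cfsg.pResidual p ↥K).map K.subtype, A⁆ = (Cfsg.pResidual p ↥K).map K.subtype) := by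
  have hKsn : K.IsSubnormal := by
    rw [hK]; exact isSubnormal_sInf _ (fun X hX => hX.2)
  have hAK : A ≤ K := by
    rw [hK]; exact le_sInf (fun X hX => hX.1)
  have hmin : ∀ X : Subgroup H, A ≤ X → X.IsSubnormal → K ≤ X := by
    intro X h1 h2
    rw [hK]; exact sInf_le ⟨h1, h2⟩
  have hAmap : (A.subgroupOf K).map K.subtype = A := Subgroup.map_subgroupOf_eq_of_le hAK
  -- (1)
  have h1 : (Subgroup.normalClosure ((A.subgroupOf K : Subgroup ↥K) : Set ↥K)).map K.subtype = K := by
    apply le_antisymm (Subgroup.map_subtype_le _)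
    apply hmin
    · calc A = (A.subgroupOf K).map K.subtype := hAmap.symm
        _ ≤ _ := Subgroup.map_mono Subgroup.le_normalClosure
    · exact (Subgroup.normalClosure_normal.isSubnormal).trans' hKsn
  -- (2)
  have h2 : Subgroup.normalizer (A : Set H) ≤ Subgroup.normalizer (K : Set H) := by
    intro n hn
    have hsn : (conjSub n K).IsSubnormal := hKsn.map (MulAut.conj n).surjective
    have hA : A ≤ conjSub n K := by
      have : conjSub n A = A := conjSub_eq_self_iff.mpr hn
      rw [← this]; exact Subgroup.map_mono hAK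
    have hle : K ≤ conjSub n K := hmin _ hA hsn
    have hle' : conjSub n⁻¹ K ≤ K := (cj_le_iff n⁻¹ K K).mpr (by rwa [inv_inv])
    have := mem_normalizer_of_conjSub_le hle'
    simpa using inv_mem this
  -- the residual
  set R' := Cfsg.pResidual p ↥K with hR'
  set R := R'.map K.subtype with hR
  have hRK : R ≤ K := Subgroup.map_subtype_le _
  have hKR : K ≤ Subgroup.normalizer (R : Set H) := by
    have hn : Subgroup.normalizer ((R' : Subgroup ↥K) : Set ↥K) = ⊤ := Subgroup.normalizer_eq_top _
    have := Subgroup.le_normalizer_map (H := R') K.subtype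
    rw [hn, ← MonoidHom.range_eq_map, Subgroup.range_subtype] at this
    exact this
  -- (3)
  have h3 : A ⊔ R = K := by
    apply le_antisymm (sup_le hAK hRK)
    apply hmin _ le_sup_left
    have hX : A ⊔ R = (A.subgroupOf K ⊔ R').map K.subtype := by
      rw [Subgroup.map_sup, hAmap]
    rw [hX]
    refine Subgroup.IsSubnormal.trans' ?_ hKsn
    have hker : (QuotientGroup.mk' R').ker ≤ A.subgroupOf K ⊔ R' := by
      rw [QuotientGroup.ker_mk']; exact le_sup_right
    rw [← Subgroup.comap_map_eq_self hker]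
    apply Subgroup.IsSubnormal.comap
    exact isSubnormal_of_isPGroup (Cfsg.Agent.Lib.isPGroup_quotient_pResidual p) _
  refine ⟨h1, h2, h3, fun hAp => ?_⟩
  -- (4)
  set D := ⁅R, A⁆ with hD
  have hDR : D ≤ R := Subgroup.le_normalizer_iff_commutator_le_left.mp (hAK.trans hKR)
  apply le_antisymm hDR
  have hDK : D ≤ K := hDR.trans hRK
  have hRD : R ≤ Subgroup.normalizer (D : Set H) := Subgroup.normalizer_commutator_ge_left _ _
  have hAD : A ≤ Subgroup.normalizer (D : Set H) := Subgroup.normalizer_commutator_ge_right _ _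
  have hKD : K ≤ Subgroup.normalizer (D : Set H) := by rw [← h3]; exact sup_le hAD hRD
  -- Y = A ⊔ D is normal in K
  have hYK : A ⊔ D ≤ K := sup_le hAK hDK
  have hKY : K ≤ Subgroup.normalizer ((A ⊔ D : Subgroup H) : Set H) := by
    rw [← h3]
    apply sup_le
    · exact le_sup_left.trans Subgroup.le_normalizer
    · intro r hr
      apply mem_normalizer_of_conjSub_le
      show conjSub r (A ⊔ D) ≤ A ⊔ D
      rw [show conjSub r (A ⊔ D) = conjSub r A ⊔ conjSub r D from Subgroup.map_sup _ _ _]
      apply sup_le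
      · refine (conj_le_commutator_sup R A r hr).trans ?_
        rw [sup_comm]
      · have : conjSub r D = D := conjSub_eq_self_iff.mpr (hRD hr)
        rw [this]; exact le_sup_right
  have hYsn : (A ⊔ D).IsSubnormal :=
    Subgroup.IsSubnormal.trans hYK
      ((Subgroup.normal_subgroupOf_iff_le_normalizer hYK).mpr hKY).isSubnormal hKsn
  have hYeq : A ⊔ D = K := le_antisymm hYK (hmin _ le_sup_left hYsn)
  -- pass to K
  have hDn : (D.subgroupOf K).Normal := (Subgroup.normal_subgroupOf_iff_le_normalizer hDK).mpr hKD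
  have htop : A.subgroupOf K ⊔ D.subgroupOf K = ⊤ := by
    rw [← Subgroup.subgroupOf_sup hAK hDK, hYeq, Subgroup.subgroupOf_self]
  have hpq : IsPGroup p (↥K ⧸ D.subgroupOf K) :=
    isPGroup_quotient_of_sup_eq_top (hAp.comap_subtype) htop
  have hle := Cfsg.Agent.Lib.pResidual_le_of_isPGroup_quotient (D.subgroupOf K) hpq
  calc R = R'.map K.subtype := rfl
    _ ≤ (D.subgroupOf K).map K.subtype := Subgroup.map_mono hle
    _ ≤ D := by rw [Subgroup.subgroupOf_map_subtype]; exact inf_le_left

end Cfsg.Agent.S2814
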