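import Mathlib
import Cfsg.Prelude.Def_LocalStructure
import Cfsg.Agent.Helper21.Radical
import Cfsg.Agent.Helper22.PComponent
import Cfsg.Agent.Lib.Cores

set_option autoImplicit false
open Cfsg
open scoped commutatorElement

namespace Cfsg.Agent.S2815

variable {H : Type*} [Group H] [Finite H] {p : ℕ} [Fact p.Prime]

/-- Key lemma: a normal subgroup not containing the quasisimple `K = O^p(H)` is a `p'`-group
(when `O_p(H) = 1`). -/
theorem card_coprime_of_not_le (hO : Cfsg.pCore p H = ⊥)
    (hq : Cfsg.IsQuasisimple ↥(Cfsg.pResidual p H)) (C : Subgroup H) (hC : C.Normal)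
    (hKC : ¬ Cfsg.pResidual p H ≤ C) : (Nat.card ↥C).Coprime p := by
  set K := Cfsg.pResidual p H with hK
  have hperf : ⁅K, K⁆ = K := Subgroup.isPerfect_iff.1 hq.1
  -- (C ⊓ K) is central in K
  have hcent : (C ⊓ K).subgroupOf K ≤ Subgroup.center ↥K := by
    haveI : ((C ⊓ K).subgroupOf K).Normal := by
      haveI : (C ⊓ K).Normal := inferInstance
      infer_instance
    rcases Cfsg.Agent.Helper21.IsQuasisimple.normal_eq_top_or_le_center hq ((C ⊓ K).subgroupOf K)
      with h | h
    · exfalso
      apply hKC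
      rw [Subgroup.subgroupOf_eq_top] at h
      exact h.trans inf_le_left
    · exact h
  have h1 : ⁅C, K⁆ ≤ C ⊓ K := Subgroup.commutator_le_inf C K
  have h2 : ⁅⁅C, K⁆, K⁆ = ⊥ := by
    rw [Subgroup.commutator_eq_bot_iff_le_centralizer]
    intro g hg
    have hgK : g ∈ K := (h1 hg).2
    have hgc : (⟨g, hgK⟩ : ↥K) ∈ Subgroup.center ↥K := hcent (Subgroup.mem_subgroupOf.mpr (h1 hg))
    rw [Subgroup.mem_centralizer_iff]
    intro k hk
    have := Subgroup.mem_center_iff.mp hgc ⟨k, hk⟩
    exact congrArg Subtype.val this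
  have h3 : ⁅C, K⁆ = ⊥ := Cfsg.Agent.Helper21.commutator_eq_bot_of_perfect hperf h2
  rw [Subgroup.commutator_eq_bot_iff_le_centralizer] at h3
  -- C is nilpotent
  let f : ↥C →* H ⧸ K := (QuotientGroup.mk' K).comp C.subtype
  have hker : f.ker ≤ Subgroup.center ↥C := by
    intro c hc
    rw [MonoidHom.mem_ker] at hc
    have hcK : (c : H) ∈ K := by
      have : QuotientGroup.mk' K (c : H) = 1 := hc
      rwa [QuotientGroup.mk'_apply, QuotientGroup.eq_one_iff] at this
    rw [Subgroup.mem_center_iff]
    intro d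
    apply Subtype.ext
    simp only [Subgroup.coe_mul]
    exact (Subgroup.mem_centralizer_iff.mp (h3 d.2) _ hcK).symm
  have hpq : IsPGroup p (H ⧸ K) := Cfsg.Agent.Lib.isPGroup_quotient_pResidual p
  haveI hnilq : Group.IsNilpotent (H ⧸ K) := hpq.isNilpotent
  haveI hnil : Group.IsNilpotent ↥C := Subgroup.isNilpotent_of_ker_le_center f hker
  by_contra hcop
  have hdvd : p ∣ Nat.card ↥C := by
    by_contra hnd
    exact hcop (Cfsg.Agent.Helper22.coprime_card_of_not_dvd hnd)
  obtain ⟨P⟩ : Nonempty (Sylow p ↥C) := inferInstance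
  have hPn : (P : Subgroup ↥C).Normal := inferInstance
  haveI hPc : (P : Subgroup ↥C).Characteristic := Sylow.characteristic_of_normal P hPn
  have hN : ((P : Subgroup ↥C).map C.subtype).Normal := ConjAct.normal_of_characteristic_of_normal
  have hle := Cfsg.Agent.Lib.le_pCore hN (P.2.map C.subtype)
  rw [hO, le_bot_iff, Subgroup.map_eq_bot_iff_of_injective _ C.subtype_injective] at hle
  exact P.ne_bot_of_dvd_card hdvd hle

theorem not_le_of_isSolvable (hq : Cfsg.IsQuasisimple ↥(Cfsg.pResidual p H)) (C : Subgroup H)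
    (hC : Group.IsSolvable ↥C) : ¬ Cfsg.pResidual p H ≤ C := by
  intro hle
  apply Cfsg.Agent.Helper21.IsQuasisimple.not_isSolvable hq
  exact Group.isSolvable_of_isSolvable_injective (f := Subgroup.inclusion hle)
    (Subgroup.inclusion_injective hle)

theorem result {H : Type*} [Group H] [Finite H] {p : ℕ} [Fact p.Prime] (hp : p ∣ Nat.card H) (hO : Cfsg.pCore p H = ⊥) (hq : Cfsg.IsQuasisimple ↥(Cfsg.pResidual p H)) : Cfsg.pResidual p H = Cfsg.generalizedFittingSubgroup H ∧ (∀ Y : Subgroup H, IsPGroup p ↥Y → Y ≠ ⊥ → ⁅Cfsg.pResidual p H, Y⁆ = Cfsg.pResidual p H ∧ Cfsg.pResidual p H ≤ ⨆ k : ↥(Cfsg.pResidual p H), Y.map (MulAut.conj (k : H)).toMonoidHom) ∧ (∀ C : Subgroup H, C.Normal → ¬ Cfsg.pResidual p H ≤ C → (Nat.card ↥C).Coprime p) ∧ Cfsg.IsPIrreducible p H := by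
  set K := Cfsg.pResidual p H with hK
  have hperf : ⁅K, K⁆ = K := Subgroup.isPerfect_iff.1 hq.1
  have hKn : K.Normal := inferInstance
  have hKne : K ≠ ⊥ := by
    intro h
    have := Cfsg.Agent.Helper21.IsQuasisimple.nontrivial hq
    rw [Subgroup.nontrivial_iff_ne_bot] at this
    exact this h
  have hA := card_coprime_of_not_le hO hq
  refine ⟨?_, ?_, hA, ?_⟩
  · -- K = F*(H)
    unfold Cfsg.generalizedFittingSubgroup
    apply le_antisymm
    · have hcomp : IsComponent K := ⟨hKn.isSubnormal, hq⟩
      exact (Cfsg.Agent.Helper22.IsComponent.le_layer hcomp).trans le_sup_left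
    · apply sup_le
      · rw [Cfsg.Agent.Helper22.layer_le_iff]
        intro L hL
        have hLperf : ⁅L, L⁆ = L := Cfsg.Agent.Helper22.IsComponent.commutator_self hL
        have hmap : L.map (QuotientGroup.mk' K) = ⊥ := by
          by_contra hne
          have hpq : IsPGroup p (H ⧸ K) := Cfsg.Agent.Lib.isPGroup_quotient_pResidual p
          have hpL : IsPGroup p ↥(L.map (QuotientGroup.mk' K)) := hpq.to_subgroup _
          haveI : Group.IsNilpotent ↥(L.map (QuotientGroup.mk' K)) := hpL.isNilpotent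
          haveI : Nontrivial ↥(L.map (QuotientGroup.mk' K)) :=
            (Subgroup.nontrivial_iff_ne_bot _).mpr hne
          haveI : Group.IsPerfect ↥(L.map (QuotientGroup.mk' K)) := by
            rw [Subgroup.isPerfect_iff, ← Subgroup.map_commutator, hLperf]
          exact Group.IsPerfect.not_isSolvable ↥(L.map (QuotientGroup.mk' K)) inferInstance
        rw [Subgroup.map_eq_bot_iff, QuotientGroup.ker_mk'] at hmap
        exact hmap
      · have hFnil : Group.IsNilpotent ↥(fittingSubgroup H) :=
          Cfsg.Agent.Lib.isNilpotent_fittingSubgroup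
        have hFs : Group.IsSolvable ↥(fittingSubgroup H) := inferInstance
        have hcop := hA (fittingSubgroup H) inferInstance (not_le_of_isSolvable hq _ hFs)
        intro g hg
        apply Cfsg.Agent.Lib.mem_pResidual_of_coprime
        exact Nat.Coprime.coprime_dvd_left (Subgroup.orderOf_dvd_natCard _ hg) hcop
  · -- [K, Y] = K and K ≤ ⟨Y^K⟩
    intro Y hY hYne
    have hcomm : ⁅K, Y⁆ = K := by
      have hRK : ⁅K, Y⁆ ≤ K := Subgroup.commutator_le_left K Y
      haveI hRn : ((⁅K, Y⁆).subgroupOf K).Normal :=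
        (Subgroup.normal_subgroupOf_iff_le_normalizer hRK).mpr
          (Cfsg.Agent.Helper22.le_normalizer_commutator K Y)
      rcases Cfsg.Agent.Helper21.IsQuasisimple.normal_eq_top_or_le_center hq ((⁅K, Y⁆).subgroupOf K)
        with h | h
      · rw [Subgroup.subgroupOf_eq_top] at h
        exact le_antisymm hRK h
      · exfalso
        have h2 : ⁅⁅Y, K⁆, K⁆ = ⊥ := by
          rw [Subgroup.commutator_comm Y K, Subgroup.commutator_eq_bot_iff_le_centralizer]
          intro g hg
          have hgc : (⟨g, hRK hg⟩ : ↥K) ∈ Subgroup.center ↥K := h (Subgroup.mem_subgroupOf.mpr hg)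
          rw [Subgroup.mem_centralizer_iff]
          intro k hk
          have := Subgroup.mem_center_iff.mp hgc ⟨k, hk⟩
          exact congrArg Subtype.val this
        have h3 : ⁅Y, K⁆ = ⊥ := Cfsg.Agent.Helper21.commutator_eq_bot_of_perfect hperf h2
        rw [Subgroup.commutator_eq_bot_iff_le_centralizer] at h3
        have hCn : (Subgroup.centralizer (K : Set H)).Normal := inferInstance
        have hKC : ¬ K ≤ Subgroup.centralizer (K : Set H) := by
          intro hle
          rw [← Subgroup.commutator_eq_bot_iff_le_centralizer, hperf] at hle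
          exact hKne hle
        have hcop := hA _ hCn hKC
        have hYcard : Nat.card ↥Y ∣ Nat.card ↥(Subgroup.centralizer (K : Set H)) :=
          Subgroup.card_dvd_of_le h3
        obtain ⟨k, hk⟩ := IsPGroup.iff_card.mp hY
        have h4 : (p ^ k).Coprime p := by
          rw [← hk]; exact Nat.Coprime.coprime_dvd_left hYcard hcop
        have hk0 : k = 0 := by
          by_contra hk0
          have : p ∣ p ^ k := dvd_pow_self p hk0
          have h5 : p ∣ Nat.gcd (p ^ k) p := Nat.dvd_gcd this dvd_rfl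
          rw [h4] at h5
          exact (Fact.out : p.Prime).one_lt.ne' (Nat.dvd_one.mp h5)
        rw [hk0, pow_zero] at hk
        exact hYne (Subgroup.card_eq_one.mp hk)
    refine ⟨hcomm, ?_⟩
    refine hcomm.symm.le.trans ?_
    rw [Subgroup.commutator_le]
    intro k hk y hy
    have e : ⁅k, y⁆ = (k * y * k⁻¹) * y⁻¹ := by rw [commutatorElement_def]
    rw [e]
    refine Subgroup.mul_mem _ ?_ ?_
    · refine Subgroup.mem_iSup_of_mem ⟨k, hk⟩ ?_
      exact ⟨y, hy, by simp [MulAut.conj_apply]⟩
    · refine Subgroup.mem_iSup_of_mem ⟨1, K.one_mem⟩ ?_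
      exact ⟨y⁻¹, Y.inv_mem hy, by simp⟩
  · -- p-irreducible
    refine ⟨?_, ?_⟩
    · intro hcl
      obtain ⟨P⟩ : Nonempty (Sylow p H) := inferInstance
      have hPn := hcl P
      have hle := Cfsg.Agent.Lib.le_pCore hPn P.2
      rw [hO, le_bot_iff] at hle
      exact P.ne_bot_of_dvd_card hp hle
    · intro N hN hNcl
      by_contra hKN
      have hcop := hA N hN hKN
      apply hNcl
      intro P
      have hPbot : (P : Subgroup ↥N) = ⊥ := by
        obtain ⟨k, hk⟩ := IsPGroup.iff_card.mp P.2
        have hdvd : Nat.card ↥(P : Subgroup ↥N) ∣ Nat.card ↥N := Subgroup.card_subgroup_dvd_card _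
        have h4 : (p ^ k).Coprime p := by
          rw [← hk]; exact Nat.Coprime.coprime_dvd_left hdvd hcop
        have hk0 : k = 0 := by
          by_contra hk0
          have : p ∣ p ^ k := dvd_pow_self p hk0
          have h5 : p ∣ Nat.gcd (p ^ k) p := Nat.dvd_gcd this dvd_rfl
          rw [h4] at h5
          exact (Fact.out : p.Prime).one_lt.ne' (Nat.dvd_one.mp h5)
        rw [hk0, pow_zero] at hk
        exact Subgroup.card_eq_one.mp hk
      rw [hPbot]
      infer_instance

end Cfsg.Agent.S2815
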