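import Cfsg.Statements.S2816
import Cfsg.Agent.Helper21.FStarComm

set_option autoImplicit false
open Cfsg

namespace Cfsg.Agent.S2816

open Cfsg.Agent.Helper21

/-- Let H be a finite group and p a prime with O_p(H) = 1, and Y a p-subgroup of H. Then for every subnormal subgroup K of H containing Y, [F*(H), Y] = [F*(K), Y] = [F*(K), Y, Y]; and if Y₀ ≤ Y with [F*(H), Y, Y₀] = 1 then Y₀ = 1 (in particular [F*(H), Y] = 1 forces Y = 1). -/
theorem result {H : Type*} [Group H] [Finite H] {p : ℕ} [Fact p.Prime] (hO : Cfsg.pCore p H = ⊥) (Y : Subgroup H) (hY : IsPGroup p ↥Y) : (∀ K : Subgroup H, K.IsSubnormal → Y ≤ K → ⁅Cfsg.generalizedFittingSubgroup H, Y⁆ = ⁅(Cfsg.generalizedFittingSubgroup ↥K).map K.subtype, Y⁆ ∧ ⁅(Cfsg.generalizedFittingSubgroup ↥K).map K.subtype, Y⁆ = ⁅⁅(Cfsg.generalizedFittingSubgroup ↥K).map K.subtype, Y⁆, Y⁆) ∧ (∀ Y₀ : Subgroup H, Y₀ ≤ Y → ⁅⁅Cfsg.generalizedFittingSubgroup H, Y⁆, Y₀⁆ = ⊥ → Y₀ = ⊥) := by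
  constructor
  · intro K hK hYK
    set FK := (Cfsg.generalizedFittingSubgroup ↥K).map K.subtype with hFK
    have hFK_le : FK ≤ generalizedFittingSubgroup H ⊓ K :=
      Cfsg.Agent.Helper22.map_generalizedFittingSubgroup_le_of_isSubnormal hK
    have hFK_ge : generalizedFittingSubgroup H ⊓ K ≤ FK :=
      Cfsg.Agent.Helper22.generalizedFittingSubgroup_inf_le_map_of_isSubnormal hK
    have hle : ⁅generalizedFittingSubgroup H, Y⁆ ≤ ⁅FK, Y⁆ := by
      rw [commutator_generalizedFittingSubgroup]
      apply sup_le
      · have hiter : ∀ n, iterComm (fittingSubgroup H) Y (n + 1) = ⁅fittingSubgroup H, Y⁆ := by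
          intro n
          induction n with
          | zero => rfl
          | succ n ih =>
            rw [iterComm_succ, ih]
            exact commutator_commutator_fittingSubgroup hO hY
        obtain ⟨n, hn⟩ := exists_iterComm_le_of_isSubnormal hK
        have hn1 : iterComm ⊤ K (n + 1) ≤ K := by
          rw [iterComm_succ]
          exact (Subgroup.commutator_mono hn le_rfl).trans (commutator_self_le K)
        have h1 : ⁅fittingSubgroup H, Y⁆ ≤ K := by
          rw [← hiter n]
          exact (iterComm_mono le_top hYK (n + 1)).trans hn1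
        have h2 : ⁅fittingSubgroup H, Y⁆ ≤ generalizedFittingSubgroup H :=
          (Subgroup.commutator_le_left _ _).trans fittingSubgroup_le_generalizedFittingSubgroup
        have h3 : ⁅fittingSubgroup H, Y⁆ ≤ FK := (le_inf h2 h1).trans hFK_ge
        rw [← commutator_commutator_fittingSubgroup hO hY]
        exact Subgroup.commutator_mono h3 le_rfl
      · apply sSup_le
        intro L hL
        have hLK : L ≤ K := by
          rcases IsComponent.le_or_commutator_eq_bot_of_isSubnormal hL.1 hK with h | h
          · exact h
          · exfalso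
            apply hL.2
            rw [eq_bot_iff, ← h]
            exact Subgroup.commutator_mono le_rfl hYK
        have hLF : L ≤ FK :=
          (le_inf ((IsComponent.le_layer hL.1).trans layer_le_generalizedFittingSubgroup) hLK).trans
            hFK_ge
        rcases IsComponent.le_commutator_or_commutator_eq_bot hL.1 Y with h | h
        · exact h.trans (Subgroup.commutator_mono hLF le_rfl)
        · exact absurd h hL.2
    have heq : ⁅generalizedFittingSubgroup H, Y⁆ = ⁅FK, Y⁆ :=
      le_antisymm hle (Subgroup.commutator_mono (hFK_le.trans inf_le_left) le_rfl)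
    refine ⟨heq, ?_⟩
    rw [← heq]
    exact (commutator_commutator_generalizedFittingSubgroup hO hY).symm
  · intro Y₀ hY₀ h
    apply eq_bot_of_le_centralizer_generalizedFittingSubgroup hO (hY.to_le hY₀)
    rw [← Subgroup.commutator_eq_bot_iff_le_centralizer, Subgroup.commutator_comm,
      commutator_generalizedFittingSubgroup, eq_bot_iff]
    apply sup_le
    · rw [← commutator_commutator_fittingSubgroup hO (hY.to_le hY₀), ← h]
      exact Subgroup.commutator_mono (Subgroup.commutator_mono
        fittingSubgroup_le_generalizedFittingSubgroup hY₀) le_rfl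
    · apply sSup_le
      intro L hL
      exfalso
      apply hL.2
      have hLY : ⁅L, Y⁆ ≠ ⊥ := by
        intro h0
        apply hL.2
        rw [eq_bot_iff, ← h0]
        exact Subgroup.commutator_mono le_rfl hY₀
      rcases IsComponent.le_commutator_or_commutator_eq_bot hL.1 Y with h1 | h1
      · rw [eq_bot_iff, ← h]
        apply Subgroup.commutator_mono _ le_rfl
        exact h1.trans (Subgroup.commutator_mono
          ((IsComponent.le_layer hL.1).trans layer_le_generalizedFittingSubgroup) le_rfl)
      · exact absurd h1 hLY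

end Cfsg.Agent.S2816
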