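import Cfsg.Statements.S2817
import Cfsg.Agent.Helper21.FStarComm2
import Cfsg.Agent.Helper22.Conj
import Cfsg.Agent.Helper22.Subnormal
import Cfsg.Agent.S0026

set_option autoImplicit false
open Cfsg

namespace Cfsg.Agent.S2817

open Cfsg.Agent.Helper21
open scoped commutatorElement

theorem le_normalizer_inf' {G : Type*} [Group G] {A B C : Subgroup G}
    (hA : C ≤ Subgroup.normalizer (A : Set G)) (hB : C ≤ Subgroup.normalizer (B : Set G)) :
    C ≤ Subgroup.normalizer ((A ⊓ B : Subgroup G) : Set G) := by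
  intro x hx
  rw [Subgroup.mem_normalizer_iff]
  intro g
  simp only [Subgroup.mem_inf]
  rw [← Subgroup.mem_normalizer_iff.1 (hA hx) g, ← Subgroup.mem_normalizer_iff.1 (hB hx) g]

theorem layerMoved_le_centralizer_layerFixed {G : Type*} [Group G] (Y : Subgroup G) :
    layerMoved Y ≤ Subgroup.centralizer (layerFixed Y : Set G) := by
  apply sSup_le
  intro K hK
  rw [Subgroup.le_centralizer_iff]
  apply sSup_le
  intro K' hK'
  rw [← Subgroup.commutator_eq_bot_iff_le_centralizer]
  apply IsComponent.commutator_eq_bot_of_ne hK'.1 hK.1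
  rintro rfl
  exact hK.2 hK'.2

theorem centralizer_sup_eq {G : Type*} [Group G] (A B : Subgroup G) :
    Subgroup.centralizer ((A ⊔ B : Subgroup G) : Set G) =
      Subgroup.centralizer (A : Set G) ⊓ Subgroup.centralizer (B : Set G) := by
  apply le_antisymm
  · exact le_inf (Subgroup.centralizer_le (SetLike.coe_subset_coe.2 le_sup_left))
      (Subgroup.centralizer_le (SetLike.coe_subset_coe.2 le_sup_right))
  · rw [Subgroup.le_centralizer_iff]
    apply sup_le
    · rw [Subgroup.le_centralizer_iff]; exact inf_le_left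
    · rw [Subgroup.le_centralizer_iff]; exact inf_le_right

/-- Let H be a finite group and p a prime with O_p(H) = 1, Q a p-subgroup of H, L = [F*(H), Q], and F the largest normal subgroup of F*(H) centralized by Q (a normal subgroup of F*(H) centralized by Q and containing every such). Then F = C_{F*(H)}(LQ); L = [L, Q]; L ∩ F ≤ Φ(L); every p-subgroup B of N_H(Q) with [L, B] ≤ F satisfies [L, B] = 1; and C_H(FL) has order prime to p. -/
theorem result {H : Type*} [Group H] [Finite H] {p : ℕ} [Fact p.Prime] (hO : Cfsg.pCore p H = ⊥) (Q : Subgroup H) (hQ : IsPGroup p ↥Q) (L : Subgroup H) (hL : L = ⁅Cfsg.generalizedFittingSubgroup H, Q⁆) (F : Subgroup H) (hF : F ≤ Cfsg.generalizedFittingSubgroup H ∧ Cfsg.generalizedFittingSubgroup H ≤ Subgroup.normalizer (F : Set H) ∧ Q ≤ Subgroup.centralizer (F : Set H) ∧ ∀ N : Subgroup H, N ≤ Cfsg.generalizedFittingSubgroup H → Cfsg.generalizedFittingSubgroup H ≤ Subgroup.normalizer (N : Set H) → Q ≤ Subgroup.centralizer (N : Set H) → N ≤ F) : F = Cfsg.generalizedFittingSubgroup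 H ⊓ Subgroup.centralizer ((L ⊔ Q : Subgroup H) : Set H) ∧ ⁅L, Q⁆ = L ∧ L ⊓ F ≤ (frattini ↥L).map L.subtype ∧ (∀ B : Subgroup H, IsPGroup p ↥B → B ≤ Subgroup.normalizer (Q : Set H) → ⁅L, B⁆ ≤ F → ⁅L, B⁆ = ⊥) ∧ (Nat.card ↥(Subgroup.centralizer ((F ⊔ L : Subgroup H) : Set H))).Coprime p := by
  classical
  obtain ⟨hF1, hF2, hF3, hF4⟩ := hF
  set Fs := generalizedFittingSubgroup H with hFs
  set R := fittingSubgroup H with hR
  have hFsn : Fs.Normal := by rw [hFs]; infer_instance
  have hRn : R.Normal := by rw [hR]; infer_instance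
  have hRFs : R ≤ Fs := fittingSubgroup_le_generalizedFittingSubgroup
  have hEFs : layer H ≤ Fs := layer_le_generalizedFittingSubgroup
  have hER : layer H ≤ Subgroup.centralizer (R : Set H) := layer_le_centralizer_fittingSubgroup
  have hRE : R ≤ Subgroup.centralizer (layer H : Set H) := Subgroup.le_centralizer_iff.1 hER
  have hRcop : (Nat.card R).Coprime p := card_fittingSubgroup_coprime hO
  have hLdecomp : L = ⁅R, Q⁆ ⊔ layerMoved Q := by
    rw [hL]; exact commutator_generalizedFittingSubgroup Q
  have hA₀L : ⁅R, Q⁆ ≤ L := by rw [hLdecomp]; exact le_sup_left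
  have hEQL : layerMoved Q ≤ L := by rw [hLdecomp]; exact le_sup_right
  have hA₀R : ⁅R, Q⁆ ≤ R := Subgroup.commutator_le_left _ _
  have hLFs : L ≤ Fs := by rw [hL]; exact Subgroup.commutator_le_left _ _
  have hFsL : Fs ≤ Subgroup.normalizer (L : Set H) := by
    rw [hL]; exact Subgroup.normalizer_commutator_ge_left _ _
  have hQL : Q ≤ Subgroup.normalizer (L : Set H) := by
    rw [hL]; exact Subgroup.normalizer_commutator_ge_right _ _
  -- (2)
  have h2 : ⁅L, Q⁆ = L := by
    rw [hL]; exact commutator_commutator_generalizedFittingSubgroup hO hQ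
  -- F centralizes L
  have hQF : ⁅Q, F⁆ = ⊥ := Subgroup.commutator_eq_bot_iff_le_centralizer.2 hF3
  have hFQ : ⁅F, Q⁆ = ⊥ := by rw [Subgroup.commutator_comm]; exact hQF
  have hLF : ⁅L, F⁆ = ⊥ := by
    rw [hL]
    apply Subgroup.commutator_commutator_eq_bot_of_rotate
    · rw [hQF]; exact Subgroup.commutator_bot_left _
    · have h1 : ⁅F, Fs⁆ ≤ F := Subgroup.le_normalizer_iff_commutator_le_left.1 hF2
      rw [eq_bot_iff, ← hFQ]; exact Subgroup.commutator_mono h1 le_rfl
  have hFcL : F ≤ Subgroup.centralizer (L : Set H) := by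
    rw [← Subgroup.commutator_eq_bot_iff_le_centralizer, Subgroup.commutator_comm]; exact hLF
  -- (1)
  have h1 : F = Fs ⊓ Subgroup.centralizer ((L ⊔ Q : Subgroup H) : Set H) := by
    apply le_antisymm
    · apply le_inf hF1
      rw [centralizer_sup_eq]
      exact le_inf hFcL (Subgroup.le_centralizer_iff.1 hF3)
    · have key : ∀ x ∈ Fs, ∀ n ∈ Fs ⊓ Subgroup.centralizer ((L ⊔ Q : Subgroup H) : Set H),
          x * n * x⁻¹ ∈ Fs ⊓ Subgroup.centralizer ((L ⊔ Q : Subgroup H) : Set H) := by
        intro x hx n hn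
        have hnL : ∀ l ∈ L, l * n = n * l := fun l hl =>
          Subgroup.mem_centralizer_iff.1 hn.2 l (Subgroup.mem_sup_left hl)
        have hnQ : ∀ q ∈ Q, q * n = n * q := fun q hq =>
          Subgroup.mem_centralizer_iff.1 hn.2 q (Subgroup.mem_sup_right hq)
        have hzL : ∀ l ∈ L, l * (x * n * x⁻¹) = (x * n * x⁻¹) * l := by
          intro l hl
          have hl' : x⁻¹ * l * x ∈ L := by
            have := (Subgroup.mem_normalizer_iff.1 (hFsL (Fs.inv_mem hx)) l).1 hl
            simpa using this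
          have := hnL _ hl'
          calc l * (x * n * x⁻¹) = x * ((x⁻¹ * l * x) * n) * x⁻¹ := by group
            _ = x * (n * (x⁻¹ * l * x)) * x⁻¹ := by rw [this]
            _ = x * n * x⁻¹ * l := by group
        have hzQ : ∀ q ∈ Q, q * (x * n * x⁻¹) = (x * n * x⁻¹) * q := by
          intro q hq
          have hc : ⁅q, x⁆ ∈ L := by
            rw [hL, Subgroup.commutator_comm]
            exact Subgroup.commutator_mem_commutator hq hx
          have e1 : q * n * q⁻¹ = n := by rw [hnQ q hq]; group
          have e2 : ⁅q, x⁆ * (x * n * x⁻¹) * ⁅q, x⁆⁻¹ = x * n * x⁻¹ := by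
            rw [hzL _ hc]; group
          calc q * (x * n * x⁻¹)
              = (⁅q, x⁆ * (x * (q * n * q⁻¹) * x⁻¹) * ⁅q, x⁆⁻¹) * q := by
                rw [commutatorElement_def]; group
            _ = (x * n * x⁻¹) * q := by rw [e1, e2]
        refine ⟨Fs.mul_mem (Fs.mul_mem hx hn.1) (Fs.inv_mem hx), ?_⟩
        rw [centralizer_sup_eq]
        refine Subgroup.mem_inf.2 ⟨?_, ?_⟩
        · rw [Subgroup.mem_centralizer_iff]; exact fun l hl => hzL l hl
        · rw [Subgroup.mem_centralizer_iff]; exact fun q hq => hzQ q hq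
      apply hF4
      · exact inf_le_left
      · intro x hx
        rw [Subgroup.mem_normalizer_iff]
        intro n
        constructor
        · exact key x hx n
        · intro h
          have := key x⁻¹ (Fs.inv_mem hx) _ h
          simpa [mul_assoc] using this
      · rw [Subgroup.le_centralizer_iff, centralizer_sup_eq]
        exact inf_le_right.trans inf_le_right
  -- D = L ⊓ F
  have hD_center : L ⊓ F ≤ Subgroup.centralizer (L : Set H) := inf_le_right.trans hFcL
  have hFsD : Fs ≤ Subgroup.normalizer ((L ⊓ F : Subgroup H) : Set H) :=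
    le_normalizer_inf' hFsL hF2
  have hDR : L ⊓ F ≤ R := by
    apply Cfsg.Agent.Helper22.le_fittingSubgroup_of_isSubnormal_aux hFsn.isSubnormal _
      (inf_le_left.trans hLFs) hFsD
    have hcomm : IsMulCommutative ↥(L ⊓ F) := by
      rw [← Subgroup.le_centralizer_iff_isMulCommutative]
      exact hD_center.trans (Subgroup.centralizer_le (SetLike.coe_subset_coe.2 inf_le_left))
    exact Cfsg.Agent.Helper29.isNilpotent_of_isMulCommutative _
  obtain ⟨k, hk⟩ := IsPGroup.iff_card.1 hQ
  have hD_comm : L ⊓ F ≤ ⁅L, L⁆ := by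
    intro x hx
    apply fixed_mem_commutator_self L Q hQL h2.ge hx.1
    · intro q hq
      exact (Subgroup.mem_centralizer_iff.1 (hF3 hq) x hx.2).symm
    · rw [hk]
      apply Nat.Coprime.pow_right
      have hdvd : orderOf x ∣ Nat.card R := by
        have := orderOf_dvd_natCard (⟨x, hDR hx⟩ : R)
        rwa [Subgroup.orderOf_mk] at this
      exact Nat.Coprime.coprime_dvd_left hdvd hRcop
  -- (3)
  have h3 : L ⊓ F ≤ (frattini ↥L).map L.subtype := by
    intro x hx
    refine ⟨⟨x, hx.1⟩, ?_, rfl⟩
    apply center_inf_commutator_le_frattini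
    refine Subgroup.mem_inf.2 ⟨?_, ?_⟩
    · rw [Subgroup.mem_center_iff]
      intro l
      apply Subtype.ext
      exact Subgroup.mem_centralizer_iff.1 (hD_center hx) l l.2
    · have := hD_comm hx
      rw [← Subgroup.map_subtype_commutator] at this
      obtain ⟨y, hy, hyx⟩ := this
      have : y = ⟨x, hx.1⟩ := Subtype.ext hyx
      rw [← this]; exact hy
  -- (4)
  have h4 : ∀ B : Subgroup H, IsPGroup p ↥B → B ≤ Subgroup.normalizer (Q : Set H) →
      ⁅L, B⁆ ≤ F → ⁅L, B⁆ = ⊥ := by
    intro B hB hBQ hLBF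
    have hBFs : B ≤ Subgroup.normalizer (Fs : Set H) := by
      rw [Subgroup.normalizer_eq_top]; exact le_top
    have hBR : B ≤ Subgroup.normalizer (R : Set H) := by
      rw [Subgroup.normalizer_eq_top]; exact le_top
    have hBL : B ≤ Subgroup.normalizer (L : Set H) := by
      rw [hL]; exact le_normalizer_commutator hBFs hBQ
    have hLB_D : ⁅L, B⁆ ≤ L ⊓ F :=
      le_inf (Subgroup.le_normalizer_iff_commutator_le_left.1 hBL) hLBF
    have hLLB : ⁅⁅L, L⁆, B⁆ = ⊥ := commutator_commutator_self_eq_bot (hLB_D.trans hD_center)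
    rw [hLdecomp]
    apply commutator_sup_eq_bot
    · have hBA₀ : B ≤ Subgroup.normalizer ((⁅R, Q⁆ : Subgroup H) : Set H) :=
        le_normalizer_commutator hBR hBQ
      obtain ⟨j, hj⟩ := IsPGroup.iff_card.1 hB
      have hcop : (Nat.card B).Coprime (Nat.card (⁅R, Q⁆ : Subgroup H)) := by
        rw [hj]
        apply Nat.Coprime.pow_left
        exact (Nat.Coprime.coprime_dvd_left (Subgroup.card_dvd_of_le hA₀R) hRcop).symm
      have hsolv : Group.IsSolvable B := by
        haveI := hB.isNilpotent
        infer_instance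
      rw [← Cfsg.Agent.S0027.result B ⁅R, Q⁆ hBA₀ hcop (Or.inl hsolv), eq_bot_iff, ← hLLB]
      apply Subgroup.commutator_mono _ le_rfl
      exact (Subgroup.commutator_mono hA₀L le_rfl).trans (hLB_D.trans hD_comm)
    · rw [eq_bot_iff]
      apply commutator_sSup_le
      intro K hK
      refine ⟨by rw [Subgroup.normalizer_eq_top]; exact le_top, ?_⟩
      rcases IsComponent.le_commutator_or_commutator_eq_bot hK.1 B with h | h
      · exfalso
        have hKL : K ≤ L := (IsComponent.le_layerMoved hK.1 hK.2).trans hEQL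
        have hKc : K ≤ Subgroup.centralizer (K : Set H) :=
          h.trans ((Subgroup.commutator_mono hKL le_rfl).trans ((hLB_D.trans hD_center).trans
            (Subgroup.centralizer_le (SetLike.coe_subset_coe.2 hKL))))
        have hKK : ⁅K, K⁆ = ⊥ := Subgroup.commutator_eq_bot_iff_le_centralizer.2 hKc
        have hperf : ⁅K, K⁆ = K := Subgroup.isPerfect_iff.1 hK.1.2.1
        exact IsComponent.ne_bot hK.1 (hperf.symm.trans hKK)
      · rw [h]
  -- (5)
  have h5 : (Nat.card ↥(Subgroup.centralizer ((F ⊔ L : Subgroup H) : Set H))).Coprime p := by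
    by_contra hcon
    have hp : p.Prime := Fact.out
    have hdvd : p ∣ Nat.card ↥(Subgroup.centralizer ((F ⊔ L : Subgroup H) : Set H)) := by
      by_contra h
      exact hcon ((Nat.Prime.coprime_iff_not_dvd hp).2 h).symm
    obtain ⟨y, hy⟩ := exists_prime_orderOf_dvd_card' p hdvd
    set Y₀ := Subgroup.zpowers (y : H) with hY₀
    have hyo : orderOf (y : H) = p := by rw [Subgroup.orderOf_coe]; exact hy
    have hY₀p : IsPGroup p Y₀ := by
      apply IsPGroup.of_card (n := 1)
      rw [Nat.card_zpowers, hyo, pow_one]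
    have hY₀C : Y₀ ≤ Subgroup.centralizer ((F ⊔ L : Subgroup H) : Set H) := by
      rw [hY₀, Subgroup.zpowers_le]; exact y.2
    rw [centralizer_sup_eq] at hY₀C
    have hY₀F : F ≤ Subgroup.centralizer (Y₀ : Set H) :=
      Subgroup.le_centralizer_iff.1 (hY₀C.trans inf_le_left)
    have hY₀L : L ≤ Subgroup.centralizer (Y₀ : Set H) :=
      Subgroup.le_centralizer_iff.1 (hY₀C.trans inf_le_right)
    -- layerFixed Q ≤ F
    have hECF : layerFixed Q ≤ F := by
      rw [h1]
      apply le_inf ((layerFixed_le_layer Q).trans hEFs)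
      rw [centralizer_sup_eq]
      apply le_inf
      · rw [Subgroup.le_centralizer_iff, hLdecomp]
        apply sup_le
        · exact hA₀R.trans (hRE.trans (Subgroup.centralizer_le
            (SetLike.coe_subset_coe.2 (layerFixed_le_layer Q))))
        · exact layerMoved_le_centralizer_layerFixed Q
      · rw [← Subgroup.commutator_eq_bot_iff_le_centralizer]
        exact commutator_layerFixed Q
    have hE : layer H ≤ Subgroup.centralizer (Y₀ : Set H) := by
      rw [layer_eq_moved_sup_fixed Q]
      exact sup_le (hEQL.trans hY₀L) (hECF.trans hY₀F)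
    -- R ⊓ C(A₀ ⊔ Q) ≤ F
    have hCRF : R ⊓ Subgroup.centralizer ((⁅R, Q⁆ ⊔ Q : Subgroup H) : Set H) ≤ F := by
      rw [h1]
      apply le_inf (inf_le_left.trans hRFs)
      rw [Subgroup.le_centralizer_iff]
      apply sup_le
      · rw [hLdecomp]
        apply sup_le
        · rw [Subgroup.le_centralizer_iff]
          exact inf_le_right.trans (Subgroup.centralizer_le (SetLike.coe_subset_coe.2 le_sup_left))
        · exact (layerMoved_le_layer Q).trans (hER.trans (Subgroup.centralizer_le
            (SetLike.coe_subset_coe.2 inf_le_left)))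
      · rw [Subgroup.le_centralizer_iff]
        exact inf_le_right.trans (Subgroup.centralizer_le (SetLike.coe_subset_coe.2 le_sup_right))
    -- R₁ = C_R(A₀)
    set R₁ := R ⊓ Subgroup.centralizer ((⁅R, Q⁆ : Subgroup H) : Set H) with hR₁
    have hQR : Q ≤ Subgroup.normalizer (R : Set H) := by
      rw [Subgroup.normalizer_eq_top]; exact le_top
    have hQA₀ : Q ≤ Subgroup.normalizer ((⁅R, Q⁆ : Subgroup H) : Set H) :=
      Subgroup.normalizer_commutator_ge_right _ _
    have hQR₁ : Q ≤ Subgroup.normalizer (R₁ : Set H) :=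
      le_normalizer_inf' hQR
        (hQA₀.trans (Cfsg.Agent.Helper22.normalizer_le_normalizer_centralizer _))
    have hcopQ : (Nat.card Q).Coprime (Nat.card R₁) := by
      rw [hk]
      apply Nat.Coprime.pow_left
      exact (Nat.Coprime.coprime_dvd_left (Subgroup.card_dvd_of_le inf_le_left) hRcop).symm
    have hsolvQ : Group.IsSolvable Q := by
      haveI := hQ.isNilpotent
      infer_instance
    have hR₁dec := Cfsg.Agent.S0026.result Q R₁ hQR₁ hcopQ (Or.inl hsolvQ)
    have hR₁Y : R₁ ≤ Subgroup.centralizer (Y₀ : Set H) := by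
      rw [← hR₁dec]
      apply sup_le
      · exact (Subgroup.commutator_mono inf_le_left le_rfl).trans (hA₀L.trans hY₀L)
      · refine le_trans ?_ (hCRF.trans hY₀F)
        rw [centralizer_sup_eq, hR₁, inf_assoc]
    have hRY_le : ⁅R, Y₀⁆ ≤ R₁ := by
      apply le_inf (Subgroup.commutator_le_left _ _)
      rw [← Subgroup.commutator_eq_bot_iff_le_centralizer]
      have hYA : ⁅Y₀, ⁅R, Q⁆⁆ = ⊥ := by
        rw [Subgroup.commutator_comm, Subgroup.commutator_eq_bot_iff_le_centralizer]
        exact hA₀L.trans hY₀L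
      apply Subgroup.commutator_commutator_eq_bot_of_rotate
      · rw [hYA]; exact Subgroup.commutator_bot_left _
      · have hle : ⁅⁅R, Q⁆, R⁆ ≤ ⁅R, Q⁆ :=
          Subgroup.le_normalizer_iff_commutator_le_left.1
            (Subgroup.normalizer_commutator_ge_left R Q)
        rw [eq_bot_iff]
        refine (Subgroup.commutator_mono hle le_rfl).trans ?_
        rw [Subgroup.commutator_comm, hYA]
    have hRY : ⁅R, Y₀⁆ = ⊥ := by
      rw [← commutator_commutator_fittingSubgroup hO hY₀p, eq_bot_iff]
      refine (Subgroup.commutator_mono hRY_le le_rfl).trans ?_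
      rw [le_bot_iff, Subgroup.commutator_eq_bot_iff_le_centralizer]
      exact hR₁Y
    have hY₀Fs : Y₀ ≤ Subgroup.centralizer (Fs : Set H) := by
      rw [Subgroup.le_centralizer_iff, hFs]
      unfold generalizedFittingSubgroup
      apply sup_le hE
      rw [← Subgroup.commutator_eq_bot_iff_le_centralizer]; exact hRY
    have hbot := eq_bot_of_le_centralizer_generalizedFittingSubgroup hO hY₀p hY₀Fs
    have hy1 : (y : H) = 1 := by
      have : (y : H) ∈ Y₀ := Subgroup.mem_zpowers _
      rw [hbot] at this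
      exact Subgroup.mem_bot.1 this
    rw [hy1, orderOf_one] at hyo
    exact hp.one_lt.ne hyo
  exact ⟨h1, h2, h3, h4, h5⟩

end Cfsg.Agent.S2817
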