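import Cfsg.Statements.S2818
import Cfsg.Agent.Helper47.Basic
import Cfsg.Agent.Helper47.Frattini

set_option autoImplicit false
open Cfsg

namespace Cfsg.Agent.S2818

open Cfsg.Agent.Helper47
open scoped commutatorElement

/-- Elements of `Ω₁(Z(P))` are central in `P` and killed by `p`. -/
theorem mem_omegaOne_center {G : Type*} [Group G] {p : ℕ} (P : Subgroup G) {z : G}
    (hz : z ∈ Cfsg.omegaOne p (P ⊓ Subgroup.centralizer (P : Set G))) :
    z ∈ P ∧ z ∈ Subgroup.centralizer (P : Set G) ∧ z ^ p = 1 := by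
  unfold Cfsg.omegaOne at hz
  induction hz using Subgroup.closure_induction with
  | mem x hx => exact ⟨hx.1.1, hx.1.2, hx.2⟩
  | one => exact ⟨one_mem _, one_mem _, one_pow _⟩
  | mul a b _ _ iha ihb =>
    refine ⟨mul_mem iha.1 ihb.1, mul_mem iha.2.1 ihb.2.1, ?_⟩
    have hab : Commute a b := (ihb.2.1 a iha.1)
    rw [hab.mul_pow, iha.2.2, ihb.2.2, one_mul]
  | inv a _ iha =>
    exact ⟨inv_mem iha.1, inv_mem iha.2.1, by rw [inv_pow, iha.2.2, inv_one]⟩

/-- Let P be a finite p-subgroup of a group G and H a subgroup of N_G(P) with [P, H] ≤ Ω₁(Z(P)) (the elements of order dividing p in the centre of P). Then H centralizes the Frattini subgroup of P. -/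
theorem result {G : Type*} [Group G] [Finite G] {p : ℕ} [Fact p.Prime] (P : Subgroup G) (hP : IsPGroup p ↥P) (H : Subgroup G) (hH : H ≤ Subgroup.normalizer (P : Set G)) (h : ⁅P, H⁆ ≤ Cfsg.omegaOne p (P ⊓ Subgroup.centralizer (P : Set G))) : ⁅(frattini ↥P).map P.subtype, H⁆ = ⊥ := by
  rw [Subgroup.commutator_eq_bot_iff_le_centralizer]
  intro x hx g hg
  obtain ⟨x, hxF, rfl⟩ := Subgroup.mem_map.mp hx
  -- the commutator map x ↦ [g, x]
  have hz : ∀ y : ↥P, ⁅g, (y : G)⁆ ∈ Cfsg.omegaOne p (P ⊓ Subgroup.centralizer (P : Set G)) := by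
    intro y
    apply h
    rw [← commutatorElement_inv]
    exact inv_mem (Subgroup.commutator_mem_commutator y.2 hg)
  let ζ : ↥P →* G :=
    { toFun := fun y => ⁅g, (y : G)⁆
      map_one' := by simp
      map_mul' := by
        intro a b
        have hb := (mem_omegaOne_center P (hz b)).2.1
        have hcomm : (a : G)⁻¹ * ⁅g, (b : G)⁆ = ⁅g, (b : G)⁆ * (a : G)⁻¹ := hb _ (inv_mem a.2)
        have e1 : ⁅g, ((a * b : ↥P) : G)⁆ = g * a * g⁻¹ * ⁅g, (b : G)⁆ * (a : G)⁻¹ := by
          rw [commutatorElement_def, commutatorElement_def, Subgroup.coe_mul]; group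
        rw [e1, mul_assoc, ← hcomm, commutatorElement_def g (a : G)]
        group }
  have hζ : ∀ y : ↥P, ζ y = ⁅g, (y : G)⁆ := fun _ => rfl
  have hker : frattini ↥P ≤ ζ.ker := by
    apply frattini_le_of_commutator_pow_mem (p := p)
    · intro a b
      rw [MonoidHom.mem_ker, map_commutatorElement, commutatorElement_eq_one_iff_commute, hζ, hζ]
      exact ((mem_omegaOne_center P (hz b)).2.1 _ (mem_omegaOne_center P (hz a)).1)
    · intro a
      rw [MonoidHom.mem_ker, map_pow, hζ]
      exact (mem_omegaOne_center P (hz a)).2.2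
  have := hker hxF
  rw [MonoidHom.mem_ker, hζ, commutatorElement_eq_one_iff_mul_comm] at this
  exact this

end Cfsg.Agent.S2818
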