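import Cfsg.Statements.S2819
import Cfsg.Agent.Helper47.Frattini
import Cfsg.Agent.Helper47.Comm2
import Cfsg.Agent.Helper47.OpSubnormal

set_option autoImplicit false
open Cfsg
open scoped commutatorElement

namespace Cfsg.Agent.S2819

open Cfsg.Agent.Helper47

variable {G : Type*} [Group G]

/-- In `P / P'` the `p`-th power map is multiplicative. -/
theorem mul_pow_mul_inv_mem_commutator (P : Subgroup G) {p : ℕ} {c x : G} (hc : c ∈ P) (hx : x ∈ P)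
    (hcp : c ^ p = 1) : (c * x) ^ p * (x ^ p)⁻¹ ∈ ⁅P, P⁆ := by
  rw [← Subgroup.map_subtype_commutator]
  refine ⟨((⟨c, hc⟩ : P) * ⟨x, hx⟩) ^ p * ((⟨x, hx⟩ : P) ^ p)⁻¹, ?_, by simp⟩
  rw [SetLike.mem_coe, ← Abelianization.ker_of, MonoidHom.mem_ker]
  have hc' : (⟨c, hc⟩ : P) ^ p = 1 := Subtype.ext (by simpa using hcp)
  rw [map_mul, map_inv, map_pow, map_pow, map_mul, mul_pow, ← map_pow, hc', map_one, one_mul,
    mul_inv_cancel]

/-- The subgroup of elements of `N(P) ∩ C(P')` acting trivially on `p`-th powers modulo `P'`. -/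
def stabSub (p : ℕ) (P : Subgroup G) : Subgroup G where
  carrier := {a | a ∈ Subgroup.normalizer (P : Set G) ∧
    a ∈ Subgroup.centralizer ((⁅P, P⁆ : Subgroup G) : Set G) ∧
    ∀ x ∈ P, a * x ^ p * a⁻¹ * (x ^ p)⁻¹ ∈ ⁅P, P⁆}
  one_mem' := ⟨Subgroup.one_mem _, Subgroup.one_mem _, fun x _ => by simp [Subgroup.one_mem]⟩
  mul_mem' := by
    rintro a b ⟨haN, haC, hap⟩ ⟨hbN, hbC, hbp⟩
    refine ⟨Subgroup.mul_mem _ haN hbN, Subgroup.mul_mem _ haC hbC, fun x hx => ?_⟩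
    have hcb := hbp x hx
    have hca := hap x hx
    have e1 : a * (b * x ^ p * b⁻¹ * (x ^ p)⁻¹) * a⁻¹ = b * x ^ p * b⁻¹ * (x ^ p)⁻¹ := by
      have := (Subgroup.mem_centralizer_iff.mp haC) _ hcb
      rw [← this]; group
    have e2 : a * b * x ^ p * (a * b)⁻¹ * (x ^ p)⁻¹ =
        (a * (b * x ^ p * b⁻¹ * (x ^ p)⁻¹) * a⁻¹) * (a * x ^ p * a⁻¹ * (x ^ p)⁻¹) := by group
    rw [e2, e1]
    exact Subgroup.mul_mem _ hcb hca
  inv_mem' := by
    rintro a ⟨haN, haC, hap⟩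
    refine ⟨Subgroup.inv_mem _ haN, Subgroup.inv_mem _ haC, fun x hx => ?_⟩
    have hca := hap x hx
    have e1 : a⁻¹ * (a * x ^ p * a⁻¹ * (x ^ p)⁻¹)⁻¹ * a = (a * x ^ p * a⁻¹ * (x ^ p)⁻¹)⁻¹ := by
      have := (Subgroup.mem_centralizer_iff.mp (Subgroup.inv_mem _ haC)) _ (Subgroup.inv_mem _ hca)
      rw [← this]; group
    have e2 : a⁻¹ * x ^ p * a⁻¹⁻¹ * (x ^ p)⁻¹ = a⁻¹ * (a * x ^ p * a⁻¹ * (x ^ p)⁻¹)⁻¹ * a := by group
    rw [e2, e1]
    exact Subgroup.inv_mem _ hca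

theorem mem_stabSub {p : ℕ} {P : Subgroup G} {a : G} : a ∈ stabSub p P ↔
    a ∈ Subgroup.normalizer (P : Set G) ∧
    a ∈ Subgroup.centralizer ((⁅P, P⁆ : Subgroup G) : Set G) ∧
    ∀ x ∈ P, a * x ^ p * a⁻¹ * (x ^ p)⁻¹ ∈ ⁅P, P⁆ := Iff.rfl

theorem normalizer_le_normalizer_commutator_self (P : Subgroup G) :
    Subgroup.normalizer (P : Set G) ≤ Subgroup.normalizer ((⁅P, P⁆ : Subgroup G) : Set G) :=
  le_normalizer_commutator_of_le le_rfl le_rfl

/-- `stabSub` is invariant under `N(P)`. -/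
theorem conj_mem_stabSub {p : ℕ} {P : Subgroup G} {a h : G} (ha : a ∈ stabSub p P)
    (hh : h ∈ Subgroup.normalizer (P : Set G)) : h * a * h⁻¹ ∈ stabSub p P := by
  obtain ⟨haN, haC, hap⟩ := ha
  have hh' : h ∈ Subgroup.normalizer ((⁅P, P⁆ : Subgroup G) : Set G) :=
    normalizer_le_normalizer_commutator_self P hh
  have hhi : h⁻¹ ∈ Subgroup.normalizer ((⁅P, P⁆ : Subgroup G) : Set G) := Subgroup.inv_mem _ hh'
  refine ⟨Subgroup.mul_mem _ (Subgroup.mul_mem _ hh haN) (Subgroup.inv_mem _ hh), ?_, ?_⟩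
  · rw [Subgroup.mem_centralizer_iff]
    intro c hc
    have hc' : h⁻¹ * c * h⁻¹⁻¹ ∈ ⁅P, P⁆ := (Subgroup.mem_normalizer_iff.mp hhi c).mp hc
    have := (Subgroup.mem_centralizer_iff.mp haC) _ hc'
    calc c * (h * a * h⁻¹) = h * ((h⁻¹ * c * h⁻¹⁻¹) * a) * h⁻¹ := by group
      _ = h * (a * (h⁻¹ * c * h⁻¹⁻¹)) * h⁻¹ := by rw [this]
      _ = h * a * h⁻¹ * c := by group
  · intro x hx
    have hx' : h⁻¹ * x * h⁻¹⁻¹ ∈ P :=
      (Subgroup.mem_normalizer_iff.mp (Subgroup.inv_mem _ hh) x).mp hx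
    have h1 := hap _ hx'
    have h2 : h * (a * (h⁻¹ * x * h⁻¹⁻¹) ^ p * a⁻¹ * ((h⁻¹ * x * h⁻¹⁻¹) ^ p)⁻¹) * h⁻¹ ∈ ⁅P, P⁆ :=
      (Subgroup.mem_normalizer_iff.mp hh' _).mp h1
    have e : h * a * h⁻¹ * x ^ p * (h * a * h⁻¹)⁻¹ * (x ^ p)⁻¹ =
        h * (a * (h⁻¹ * x * h⁻¹⁻¹) ^ p * a⁻¹ * ((h⁻¹ * x * h⁻¹⁻¹) ^ p)⁻¹) * h⁻¹ := by
      rw [conj_pow]; group
    rw [e]; exact h2

/-- Elements of `stabSub` act trivially on `Φ(P)` modulo `P'`. -/
theorem stabSub_frattini [Finite G] {p : ℕ} [Fact p.Prime] {P : Subgroup G} {a : G}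
    (ha : a ∈ stabSub p P) {g : G} (hg : g ∈ (frattini ↥P).map P.subtype) :
    a * g * a⁻¹ * g⁻¹ ∈ ⁅P, P⁆ := by
  obtain ⟨haN, haC, hap⟩ := ha
  have hP'P : ⁅P, P⁆ ≤ P := Subgroup.commutator_le_self P
  have hP'n : P ≤ Subgroup.normalizer ((⁅P, P⁆ : Subgroup G) : Set G) :=
    Subgroup.le_normalizer.trans (normalizer_le_normalizer_commutator_self P)
  let S : Subgroup G :=
    { carrier := {g | g ∈ P ∧ a * g * a⁻¹ * g⁻¹ ∈ ⁅P, P⁆}
      one_mem' := ⟨P.one_mem, by simp [Subgroup.one_mem]⟩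
      mul_mem' := by
        rintro g₁ g₂ ⟨h1P, h1⟩ ⟨h2P, h2⟩
        refine ⟨P.mul_mem h1P h2P, ?_⟩
        have h3 : g₁ * (a * g₂ * a⁻¹ * g₂⁻¹) * g₁⁻¹ ∈ ⁅P, P⁆ :=
          (Subgroup.mem_normalizer_iff.mp (hP'n h1P) _).mp h2
        have e : a * (g₁ * g₂) * a⁻¹ * (g₁ * g₂)⁻¹ =
            (a * g₁ * a⁻¹ * g₁⁻¹) * (g₁ * (a * g₂ * a⁻¹ * g₂⁻¹) * g₁⁻¹) := by group
        rw [e]; exact Subgroup.mul_mem _ h1 h3
      inv_mem' := by
        rintro g ⟨hgP, hg⟩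
        refine ⟨P.inv_mem hgP, ?_⟩
        have h3 : g⁻¹ * (a * g * a⁻¹ * g⁻¹)⁻¹ * g⁻¹⁻¹ ∈ ⁅P, P⁆ :=
          (Subgroup.mem_normalizer_iff.mp (hP'n (P.inv_mem hgP)) _).mp (Subgroup.inv_mem _ hg)
        have e : a * g⁻¹ * a⁻¹ * g⁻¹⁻¹ = g⁻¹ * (a * g * a⁻¹ * g⁻¹)⁻¹ * g⁻¹⁻¹ := by group
        rw [e]; exact h3 }
  have hS : frattini ↥P ≤ S.subgroupOf P := by
    apply frattini_le_of_commutator_pow_mem (p := p)
    · intro u v
      rw [Subgroup.mem_subgroupOf]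
      have hc : ((⁅u, v⁆ : P) : G) ∈ ⁅P, P⁆ := by
        have : ((⁅u, v⁆ : P) : G) = ⁅(u : G), (v : G)⁆ := by
          simp [commutatorElement_def]
        rw [this]; exact Subgroup.commutator_mem_commutator u.2 v.2
      refine ⟨hP'P hc, ?_⟩
      have := (Subgroup.mem_centralizer_iff.mp haC) _ hc
      have e : a * ((⁅u, v⁆ : P) : G) * a⁻¹ * ((⁅u, v⁆ : P) : G)⁻¹ = 1 := by
        rw [← this]; group
      rw [e]; exact Subgroup.one_mem _
    · intro u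
      rw [Subgroup.mem_subgroupOf]
      refine ⟨(u ^ p).2, ?_⟩
      have := hap (u : G) u.2
      simpa using this
  obtain ⟨g', hg', rfl⟩ := hg
  have := hS hg'
  rw [Subgroup.mem_subgroupOf] at this
  exact this.2

theorem result {G : Type*} [Group G] [Finite G] {p : ℕ} [Fact p.Prime] (P : Subgroup G) (hP : IsPGroup p ↥P) (H : Subgroup G) (hH : H ≤ Subgroup.normalizer (P : Set G)) (Y : Subgroup G) (hYH : Y ≤ H) (hYc : Y ≤ Subgroup.centralizer ((⁅P, P⁆ : Subgroup G) : Set G)) (hel : Cfsg.IsElementaryAbelian p ⁅P, Y⁆) (NY : Subgroup G) (hNY : NY = (Subgroup.normalClosure ((Y.subgroupOf H : Subgroup ↥H) : Set ↥H)).map H.subtype) : (Cfsg.pResidual p ↥NY).map NY.subtype ≤ Subgroup.centralizer (((frattini ↥P).map P.subtype : Subgroup G) : Set G) := by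
  -- Y ≤ stabSub
  have hYA : Y ≤ stabSub p P := by
    intro y hy
    refine ⟨hH (hYH hy), hYc hy, fun x hx => ?_⟩
    have hyN := hH (hYH hy)
    have hyx : y * x * y⁻¹ ∈ P := (Subgroup.mem_normalizer_iff.mp hyN x).mp hx
    set c := y * x * y⁻¹ * x⁻¹ with hc
    have hcP : c ∈ P := P.mul_mem hyx (P.inv_mem hx)
    have hcm : c ∈ ⁅P, Y⁆ := by
      rw [Subgroup.commutator_comm]
      have : c = ⁅y, x⁆ := by rw [commutatorElement_def]
      rw [this]; exact Subgroup.commutator_mem_commutator hy hx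
    have hcp : c ^ p = 1 := hel.2 c hcm
    have e : y * x ^ p * y⁻¹ * (x ^ p)⁻¹ = (c * x) ^ p * (x ^ p)⁻¹ := by
      have : c * x = y * x * y⁻¹ := by rw [hc]; group
      rw [this, conj_pow]
    rw [e]
    exact mul_pow_mul_inv_mem_commutator P hcP hx hcp
  -- NY ≤ stabSub
  have hNYA : NY ≤ stabSub p P := by
    rw [hNY]
    have hn : ((stabSub p P).subgroupOf H).Normal := by
      refine ⟨fun n hn g => ?_⟩
      rw [Subgroup.mem_subgroupOf] at hn ⊢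
      have := conj_mem_stabSub hn (hH g.2)
      simpa using this
    have h1 : Subgroup.normalClosure ((Y.subgroupOf H : Subgroup ↥H) : Set ↥H) ≤
        (stabSub p P).subgroupOf H := by
      apply Subgroup.normalClosure_le_normal
      intro y hy
      rw [SetLike.mem_coe, Subgroup.mem_subgroupOf] at hy ⊢
      exact hYA hy
    rintro _ ⟨x, hx, rfl⟩
    have := h1 hx
    rw [Subgroup.mem_subgroupOf] at this
    exact this
  -- elements of stabSub have a p-power in C(Φ)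
  have hP'p : IsPGroup p (⁅P, P⁆ : Subgroup G) := hP.to_le (Subgroup.commutator_le_self P)
  have hpow : ∀ a ∈ stabSub p P, ∃ k : ℕ,
      a ^ (p ^ k) ∈ Subgroup.centralizer (((frattini ↥P).map P.subtype : Subgroup G) : Set G) := by
    intro a ha
    obtain ⟨k, hk⟩ := IsPGroup.iff_card.mp hP'p
    refine ⟨k, ?_⟩
    rw [Subgroup.mem_centralizer_iff]
    intro g hg
    have hc := stabSub_frattini ha hg
    set c := a * g * a⁻¹ * g⁻¹ with hcdef
    have hac : a * c = c * a := ((Subgroup.mem_centralizer_iff.mp ha.2.1) c hc).symm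
    have hconj : ∀ n : ℕ, a ^ n * g * (a ^ n)⁻¹ = c ^ n * g := by
      intro n
      induction n with
      | zero => simp
      | succ n ih =>
        have hacn : a * c ^ n = c ^ n * a := (show Commute a c from hac).pow_right n
        calc a ^ (n + 1) * g * (a ^ (n + 1))⁻¹ = a * (a ^ n * g * (a ^ n)⁻¹) * a⁻¹ := by
              rw [pow_succ']; group
          _ = a * (c ^ n * g) * a⁻¹ := by rw [ih]
          _ = (a * c ^ n) * g * a⁻¹ := by group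
          _ = (c ^ n * a) * g * a⁻¹ := by rw [hacn]
          _ = c ^ n * (a * g * a⁻¹ * g⁻¹) * g := by group
          _ = c ^ (n + 1) * g := by rw [← hcdef, pow_succ]
    have hc1 : c ^ (p ^ k) = 1 := by
      have : (⟨c, hc⟩ : (⁅P, P⁆ : Subgroup G)) ^ (p ^ k) = 1 := by
        rw [← hk]; exact pow_card_eq_one'
      have := congrArg Subtype.val this
      simpa using this
    have := hconj (p ^ k)
    rw [hc1, one_mul] at this
    calc g * a ^ p ^ k = (a ^ (p ^ k) * g * (a ^ (p ^ k))⁻¹) * a ^ p ^ k := by rw [this]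
      _ = a ^ p ^ k * g := by group
  rw [pResidual_map_subtype_eq_closure, Subgroup.closure_le]
  intro x hx
  obtain ⟨k, hk⟩ := hpow x (hNYA hx.1)
  obtain ⟨m, hm⟩ := exists_pow_eq_self_of_coprime (x := x) (n := p ^ k)
    (Nat.Coprime.pow_left k hx.2.symm)
  rw [SetLike.mem_coe, ← hm]
  exact Subgroup.pow_mem _ hk m

end Cfsg.Agent.S2819
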