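import Cfsg.Statements.S2821
import Cfsg.Agent.Helper47.YL2

set_option autoImplicit false
open Cfsg

namespace Cfsg.Agent.S2821

open Cfsg.Agent.Helper47 Cfsg.Agent.Helper46

theorem result {H : Type*} [Group H] [Finite H] {p : ℕ} [Fact p.Prime] (T : Sylow p H) (L : Subgroup H) (hTL : (T : Subgroup H) ≤ L) (hL : Subgroup.centralizer (Cfsg.pCore p ↥L : Set ↥L) ≤ Cfsg.pCore p ↥L) (T₀ : Subgroup H) (hT₀ : T₀ = (T : Subgroup H) ⊓ Subgroup.centralizer (((Cfsg.largestPReducedOf p L) : Subgroup H) : Set H)) : (∃ P : Sylow p ↥(Subgroup.centralizer (((Cfsg.largestPReducedOf p L) : Subgroup H) : Set H)), (P : Subgroup ↥(Subgroup.centralizer (((Cfsg.largestPReducedOf p L) : Subgroup H) : Set H))) = T₀.subgroupOf (Subgroup.centralizer (((Cfsg.largestPReducedOf p L) : Subgroup H) : Set H))) ∧ (Cfsg.pCoreOf p L) ≤ T₀ ∧ T₀ ≤ L ⊓ Subgroup.centralizer (((Cfsg.largestPReducedOf p L) : Subgroup H) : Set H) ∧ (Cfsg.omegaOne p ((T : Subgroup H) ⊓ Subgroup.centralizer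 (((T : Subgroup H) : Subgroup H) : Set H))) ≤ Cfsg.sylowCenterClosure p L ∧ Cfsg.sylowCenterClosure p L ≤ (Cfsg.largestPReducedOf p L) ∧ (Cfsg.largestPReducedOf p L) ≤ (Cfsg.omegaOne p ((Cfsg.pCoreOf p L) ⊓ Subgroup.centralizer (((Cfsg.pCoreOf p L) : Subgroup H) : Set H))) := by
  have hYr := isPRedIn_largestPReducedOf (p := p) L
  have hLc : IsCharPIn p L := isCharPIn_of_subtype hL
  have hTN : (T : Subgroup H) ≤ Subgroup.normalizer
      ((Subgroup.centralizer (((Cfsg.largestPReducedOf p L) : Subgroup H) : Set H) : Subgroup H) : Set H) :=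
    (hTL.trans hYr.le_normalizer).trans
      (Cfsg.Agent.Helper49.normalizer_le_normalizer_centralizer (Cfsg.largestPReducedOf p L))
  subst hT₀
  refine ⟨exists_sylow_inf_of_le_normalizer T hTN, ?_, ?_, ?_, ?_, ?_⟩
  · exact le_inf (pCoreOf_le_sylow T hTL) hYr.pCoreOf_le_centralizer
  · exact inf_le_inf_right _ hTL
  · exact omega_center_le_sylowCenterClosure (isSylIn_of_sylow_le T hTL)
  · exact (isPRedIn_sylowCenterClosure hLc).le_largestPReducedOf
  · exact hYr.le_omegaOne_center_pCoreOf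

end Cfsg.Agent.S2821
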