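import Cfsg.Statements.S2823
import Cfsg.Agent.Helper47.Trace
import Cfsg.Agent.Helper47.YL2
import Cfsg.Agent.Helper34.Basic

set_option autoImplicit false
open Cfsg
open scoped commutatorElement

namespace Cfsg.Agent.S2823

open Cfsg.Agent.Helper47 Cfsg.Agent.Helper46

theorem result {H : Type*} [Group H] [Finite H] {p : ℕ} [Fact p.Prime] (T : Sylow p H) (L : Subgroup H) (hTL : (T : Subgroup H) ≤ L) (hL : Subgroup.centralizer (Cfsg.pCore p ↥L : Set ↥L) ≤ Cfsg.pCore p ↥L) : Cfsg.sylowCenterClosure p L = (Cfsg.omegaOne p (L ⊓ Subgroup.centralizer ((L : Subgroup H) : Set H))) ⊔ ⁅Cfsg.sylowCenterClosure p L, (Cfsg.pResidual p ↥L).map L.subtype⁆ ∧ ⁅Cfsg.sylowCenterClosure p L, L⁆ = ⁅Cfsg.sylowCenterClosure p L, (Cfsg.pResidual p ↥L).map L.subtype⁆ := by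
  set V := Cfsg.sylowCenterClosure p L with hV
  set R := (Cfsg.pResidual p ↥L).map L.subtype with hR
  set W := ⁅V, R⁆ with hW
  have hVr : IsPRedIn p V L := isPRedIn_sylowCenterClosure (isCharPIn_of_subtype hL)
  have hVL : V ≤ L := hVr.le
  have hLV : L ≤ Subgroup.normalizer (V : Set H) := hVr.le_normalizer
  have hVe := hVr.isElementaryAbelian
  have hRL : R ≤ L := Subgroup.map_subtype_le _
  have hWV : W ≤ V := by
    rw [hW, Subgroup.commutator_comm]
    exact Subgroup.le_normalizer_iff_commutator_le_right.mp (hRL.trans hLV)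
  have hVcomm : ∀ a ∈ V, ∀ b ∈ V, a * b = b * a := by
    intro a ha b hb
    have := hVe.1.is_comm.comm (⟨a, ha⟩ : V) ⟨b, hb⟩
    exact congrArg Subtype.val this
  -- K1
  have K1 : ∀ (S : Sylow p ↥L) (z : H),
      z ∈ ((S : Subgroup ↥L).map L.subtype) ⊓
        Subgroup.centralizer ((((S : Subgroup ↥L).map L.subtype : Subgroup H)) : Set H) →
      z ∈ V → ∀ g ∈ L, g * z * g⁻¹ * z⁻¹ ∈ W := by
    intro S z hzA hzV g hg
    have hRS : Cfsg.pResidual p ↥L ⊔ (S : Subgroup ↥L) = ⊤ :=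
      Cfsg.Agent.Helper34.pResidual_sup_sylow p ↥L S
    have hRn : (Cfsg.pResidual p ↥L).Normal := Cfsg.Agent.Lib.pResidual_normal p
    have hg' : (⟨g, hg⟩ : L)⁻¹ ∈ (S : Subgroup ↥L) ⊔ Cfsg.pResidual p ↥L := by
      rw [sup_comm, hRS]; exact Subgroup.mem_top _
    obtain ⟨τ, hτ, r, hr, e⟩ := exists_mul_of_mem_sup
      (show (S : Subgroup ↥L) ≤ Subgroup.normalizer ((Cfsg.pResidual p ↥L : Subgroup ↥L) : Set ↥L) by
        rw [Subgroup.normalizer_eq_top_iff.mpr hRn]; exact le_top) hg'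
    have hτz : (τ : H) * z = z * (τ : H) :=
      (Subgroup.mem_centralizer_iff.mp hzA.2) (τ : H) ⟨τ, hτ, rfl⟩
    have e' : g⁻¹ = (τ : H) * (r : H) := by
      have := congrArg Subtype.val e
      simpa using this
    have hgeq : g = (r : H)⁻¹ * (τ : H)⁻¹ := by
      have : g = (g⁻¹)⁻¹ := by group
      rw [this, e']; group
    have e2 : g * z * g⁻¹ * z⁻¹ = ⁅(r : H)⁻¹, z⁆ := by
      rw [hgeq, commutatorElement_def]
      have : (τ : H)⁻¹ * z * (τ : H) = z := by
        calc (τ : H)⁻¹ * z * (τ : H) = (τ : H)⁻¹ * (z * (τ : H)) := by group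
          _ = (τ : H)⁻¹ * ((τ : H) * z) := by rw [hτz]
          _ = z := by group
      calc (r : H)⁻¹ * (τ : H)⁻¹ * z * ((r : H)⁻¹ * (τ : H)⁻¹)⁻¹ * z⁻¹
          = (r : H)⁻¹ * ((τ : H)⁻¹ * z * (τ : H)) * (r : H)⁻¹⁻¹ * z⁻¹ := by group
        _ = (r : H)⁻¹ * z * (r : H)⁻¹⁻¹ * z⁻¹ := by rw [this]
    rw [e2, hW, Subgroup.commutator_comm]
    exact Subgroup.commutator_mem_commutator (R.inv_mem ⟨r, hr, rfl⟩) hzV
  -- K2
  have K2 : ∀ (S : Sylow p ↥L) (z : H),
      z ∈ ((S : Subgroup ↥L).map L.subtype) ⊓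
        Subgroup.centralizer ((((S : Subgroup ↥L).map L.subtype : Subgroup H)) : Set H) →
      z ^ p = 1 →
      z ∈ (Cfsg.omegaOne p (L ⊓ Subgroup.centralizer ((L : Subgroup H) : Set H))) ⊔ W := by
    intro S z hzA hzp
    have hzV : z ∈ V := by
      have h1 : Cfsg.omegaOne p (((S : Subgroup ↥L).map L.subtype) ⊓
          Subgroup.centralizer ((((S : Subgroup ↥L).map L.subtype : Subgroup H)) : Set H)) ≤ V :=
        omega_center_le_sylowCenterClosure ⟨S, rfl⟩
      exact h1 (Subgroup.subset_closure ⟨hzA, hzp⟩)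
    have hidx : (((S : Subgroup ↥L).map L.subtype).relIndex L).Coprime p := by
      have e : ((S : Subgroup ↥L).map L.subtype).subgroupOf L = (S : Subgroup ↥L) :=
        Subgroup.comap_map_eq_self_of_injective L.subtype_injective _
      show (((S : Subgroup ↥L).map L.subtype).subgroupOf L).index.Coprime p
      rw [e]
      exact ((Nat.Prime.coprime_iff_not_dvd Fact.out).mpr S.not_dvd_index).symm
    obtain ⟨t, ht, w, hw, htc, e⟩ := trace_split (L := L) (V := V)
      (T := (S : Subgroup ↥L).map L.subtype) (W := W) hLV hVe.1 (Subgroup.map_subtype_le _) hidx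
      hzV hzp (fun τ hτ => (Subgroup.mem_centralizer_iff.mp hzA.2) τ hτ) (K1 S z hzA hzV)
    rw [e]
    refine Subgroup.mul_mem _ (Subgroup.mem_sup_left ?_) (Subgroup.mem_sup_right hw.1)
    apply Subgroup.subset_closure
    refine ⟨⟨hVL ht, ?_⟩, hVe.2 t ht⟩
    show t ∈ Subgroup.centralizer ((L : Subgroup H) : Set H)
    rw [Subgroup.mem_centralizer_iff]
    intro y hy
    exact htc y hy
  refine ⟨le_antisymm ?_ (sup_le ?_ hWV), le_antisymm ?_ (Subgroup.commutator_mono le_rfl hRL)⟩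
  · -- V ≤ Ω₁Z(L) ⊔ W
    conv_lhs => rw [hV]
    unfold Cfsg.sylowCenterClosure
    apply iSup_le
    intro S
    unfold Cfsg.omegaOne
    rw [Subgroup.closure_le]
    intro z hz
    exact K2 S z hz.1 hz.2
  · -- Ω₁Z(L) ≤ V
    unfold Cfsg.omegaOne
    rw [Subgroup.closure_le]
    intro x hx
    obtain ⟨⟨hxL, hxC⟩, hxp⟩ := hx
    obtain ⟨S⟩ : Nonempty (Sylow p ↥L) := inferInstance
    have hSyl : IsSylIn p ((S : Subgroup ↥L).map L.subtype) L := ⟨S, rfl⟩
    have hxS : Subgroup.zpowers x ≤ (S : Subgroup ↥L).map L.subtype := by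
      apply hSyl.normal_le (Subgroup.zpowers_le.mpr hxL)
      · rintro ⟨w, hw⟩
        obtain ⟨i, rfl⟩ := Subgroup.mem_zpowers_iff.mp hw
        refine ⟨1, ?_⟩
        apply Subtype.ext
        show (x ^ i) ^ (p ^ 1) = 1
        rw [pow_one, ← zpow_natCast, ← zpow_mul, mul_comm, zpow_mul, zpow_natCast, hxp, one_zpow]
      · apply le_normalizer_of_conj_mem
        intro l hl y hy
        have hxC' : x ∈ Subgroup.centralizer ((L : Subgroup H) : Set H) := hxC
        have hlx : l * x = x * l := ((Subgroup.mem_centralizer_iff.mp hxC') l hl)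
        obtain ⟨i, rfl⟩ := Subgroup.mem_zpowers_iff.mp hy
        have hc : Commute l (x ^ i) := (show Commute l x from hlx).zpow_right i
        have e : l * x ^ i * l⁻¹ = x ^ i := by
          calc l * x ^ i * l⁻¹ = x ^ i * l * l⁻¹ := by rw [hc.eq]
            _ = x ^ i := by group
        rw [e]; exact hy
    have hxS' : x ∈ (S : Subgroup ↥L).map L.subtype := hxS (Subgroup.mem_zpowers x)
    have hxCS : x ∈ Subgroup.centralizer ((((S : Subgroup ↥L).map L.subtype : Subgroup H)) : Set H) :=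
      Subgroup.centralizer_le (show ((((S : Subgroup ↥L).map L.subtype : Subgroup H)) : Set H) ⊆ (L : Set H) from
        Subgroup.map_subtype_le _) hxC
    have h1 : Cfsg.omegaOne p (((S : Subgroup ↥L).map L.subtype) ⊓
        Subgroup.centralizer ((((S : Subgroup ↥L).map L.subtype : Subgroup H)) : Set H)) ≤ V :=
      omega_center_le_sylowCenterClosure ⟨S, rfl⟩
    exact h1 (Subgroup.subset_closure ⟨⟨hxS', hxCS⟩, hxp⟩)
  · -- ⁅V, L⁆ ≤ W
    let X : Subgroup H :=
      { carrier := {v | v ∈ V ∧ ∀ g ∈ L, g * v * g⁻¹ * v⁻¹ ∈ W}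
        one_mem' := ⟨V.one_mem, fun g _ => by simp [W.one_mem]⟩
        mul_mem' := by
          rintro a b ⟨ha, hag⟩ ⟨hb, hbg⟩
          refine ⟨V.mul_mem ha hb, fun g hg => ?_⟩
          have hc := hbg g hg
          have e1 : a * (g * b * g⁻¹ * b⁻¹) * a⁻¹ = g * b * g⁻¹ * b⁻¹ := by
            rw [hVcomm a ha _ (hWV hc)]; group
          have e2 : g * (a * b) * g⁻¹ * (a * b)⁻¹ =
              (g * a * g⁻¹ * a⁻¹) * (a * (g * b * g⁻¹ * b⁻¹) * a⁻¹) := by group
          rw [e2, e1]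
          exact W.mul_mem (hag g hg) hc
        inv_mem' := by
          rintro a ⟨ha, hag⟩
          refine ⟨V.inv_mem ha, fun g hg => ?_⟩
          have hc := hag g hg
          have e1 : a⁻¹ * (g * a * g⁻¹ * a⁻¹)⁻¹ * a = (g * a * g⁻¹ * a⁻¹)⁻¹ := by
            rw [hVcomm a⁻¹ (V.inv_mem ha) _ (hWV (W.inv_mem hc))]; group
          have e2 : g * a⁻¹ * g⁻¹ * a⁻¹⁻¹ = a⁻¹ * (g * a * g⁻¹ * a⁻¹)⁻¹ * a := by group
          rw [e2, e1]
          exact W.inv_mem hc }
    have hVX : V ≤ X := by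
      conv_lhs => rw [hV]
      unfold Cfsg.sylowCenterClosure
      apply iSup_le
      intro S
      unfold Cfsg.omegaOne
      rw [Subgroup.closure_le]
      intro z hz
      have hzV : z ∈ V := by
        have h1 : Cfsg.omegaOne p (((S : Subgroup ↥L).map L.subtype) ⊓
            Subgroup.centralizer ((((S : Subgroup ↥L).map L.subtype : Subgroup H)) : Set H)) ≤ V :=
          omega_center_le_sylowCenterClosure ⟨S, rfl⟩
        exact h1 (Subgroup.subset_closure hz)
      exact ⟨hzV, K1 S z hz.1 hzV⟩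
    rw [Subgroup.commutator_le]
    intro v hv g hg
    have hc := (hVX hv).2 g hg
    have : ⁅v, g⁆ = (g * v * g⁻¹ * v⁻¹)⁻¹ := by
      rw [commutatorElement_def]; group
    rw [this]
    exact W.inv_mem hc

end Cfsg.Agent.S2823
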