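import Cfsg.Statements.S2824
import Cfsg.Agent.Helper47.YL4

set_option autoImplicit false
open Cfsg

namespace Cfsg.Agent.S2824

open Cfsg.Agent.Helper47

theorem result {H : Type*} [Group H] [Finite H] {p : ℕ} [Fact p.Prime] (T : Sylow p H) (L M : Subgroup H) (hTL : (T : Subgroup H) ≤ L) (hTM : (T : Subgroup H) ≤ M) (hL : Subgroup.centralizer (Cfsg.pCore p ↥L : Set ↥L) ≤ Cfsg.pCore p ↥L) (hM : Subgroup.centralizer (Cfsg.pCore p ↥M : Set ↥M) ≤ Cfsg.pCore p ↥M) (T₀ : Subgroup H) (hT₀ : T₀ = (T : Subgroup H) ⊓ Subgroup.centralizer (((Cfsg.largestPReducedOf p L) : Subgroup H) : Set H)) (hfac : M ⊔ Subgroup.centralizer (((Cfsg.largestPReducedOf p L) : Subgroup H) : Set H) = L ⊔ Subgroup.centralizer (((Cfsg.largestPReducedOf p L) : Subgroup H) : Set H)) (Ls : Subgroup H) (hLs : Ls = M ⊓ Subgroup.normalizer ((T₀ : Subgroup H) : Set H)) : (Cfsg.largestPReducedOf p Ls) = (Cfsg.largestPReducedOf p L) ∧ L ⊔ Subgroup.centralizer (((Cfsg.largestPReducedOf p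 L) : Subgroup H) : Set H) = Ls ⊔ Subgroup.centralizer (((Cfsg.largestPReducedOf p L) : Subgroup H) : Set H) := by
  subst hT₀
  subst hLs
  set Y := Cfsg.largestPReducedOf p L with hY
  have hYL : IsPRedIn p Y L := isPRedIn_largestPReducedOf L
  have hYM' : Y ≤ M := ((hYL.le_inf_centralizer T hTL).trans inf_le_left).trans hTM
  have hYM : IsPRedIn p Y M := hYL.of_sup_centralizer_eq hYM' hfac
  have hsup := hYM.inf_normalizer_sup T hTM
  have hYLs := hYM.inf_normalizer T hTM
  refine ⟨le_antisymm ?_ hYLs.le_largestPReducedOf, ?_⟩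
  · have h1 := (isPRedIn_largestPReducedOf (p := p)
      (M ⊓ Subgroup.normalizer (((T : Subgroup H) ⊓ Subgroup.centralizer (Y : Set H) : Subgroup H) : Set H))).le_omegaOne_center_pCoreOf
    rw [hYM.pCoreOf_inf_normalizer T hTM] at h1
    have h2 := hYL.eq_omegaOne_of_parabolic_max T hTL (fun R X hTR hRL hX =>
      hX.le_largestPReducedOf_of_parabolic hL T hTR hRL)
    rw [← h2] at h1
    exact h1
  · rw [hsup, hfac]

end Cfsg.Agent.S2824
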