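import Cfsg.Statements.S2825
import Cfsg.Agent.Helper47.YSub2

set_option autoImplicit false
open Cfsg

namespace Cfsg.Agent.S2825

open Cfsg.Agent.Helper47

/-- The two facts proved by induction along a subnormal series. -/
theorem key {H : Type*} [Group H] [Finite H] {p : ℕ} [Fact p.Prime] (L : Subgroup H)
    (hL : L.IsSubnormal) :
    (∀ V : Subgroup H, IsPRedIn p V ⊤ → IsPRedIn p (V ⊓ L) L ∧
      L ⊓ Subgroup.centralizer ((V ⊓ L : Subgroup H) : Set H) ≤
        Subgroup.centralizer (V : Set H)) ∧
    L ⊓ Subgroup.centralizer (Cfsg.largestPReduced p H : Set H) ≤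
      Subgroup.centralizer ((Cfsg.largestPReducedOf p L : Subgroup H) : Set H) := by
  induction hL with
  | top =>
    refine ⟨?_, ?_⟩
    · intro V hV
      rw [inf_top_eq]
      exact ⟨hV, inf_le_right⟩
    · have h1 : IsPRedIn p (Cfsg.largestPReducedOf p (⊤ : Subgroup H)) ⊤ :=
        isPRedIn_largestPReducedOf ⊤
      have h2 : Cfsg.largestPReducedOf p (⊤ : Subgroup H) ≤ Cfsg.largestPReduced p H :=
        IsPReducedNormal.le_largestPReduced (isPReducedNormal_iff_top.mpr h1)
      exact inf_le_right.trans (Subgroup.centralizer_le h2)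
  | step L K hLK hK hN ih =>
    have hKL : K ≤ Subgroup.normalizer (L : Set H) :=
      (Subgroup.normal_subgroupOf_iff_le_normalizer hLK).mp hN
    obtain ⟨ihA, ihB⟩ := ih
    refine ⟨?_, ?_⟩
    · intro V hV
      obtain ⟨h1, h2⟩ := ihA V hV
      obtain ⟨h3, h4⟩ := h1.inf_of_normal hLK hKL
      have e : V ⊓ K ⊓ L = V ⊓ L := by rw [inf_assoc, inf_eq_right.mpr hLK]
      rw [e] at h3 h4
      refine ⟨h3, ?_⟩
      exact (le_inf (inf_le_left.trans hLK) h4).trans h2
    · have h1 := inf_centralizer_largestPReducedOf_le (p := p) hLK hKL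
      refine le_trans (le_inf inf_le_left ?_) h1
      exact (le_inf (inf_le_left.trans hLK) inf_le_right).trans ihB

/-- Let L be a subnormal subgroup of the finite group H, p a prime, Y_H and Y_L the largest p-reduced normal subgroups. Then Y_H ∩ L = Y_H ∩ Y_L and this subgroup is a p-reduced normal subgroup of L; C_L(Y_L) = C_L(Y_H) = C_L(Y_H ∩ L); and if O^p(H) ≤ L, then [Y_L, L] = 1 if and only if [Y_H, H] = 1. -/
theorem result {H : Type*} [Group H] [Finite H] {p : ℕ} [Fact p.Prime] (L : Subgroup H) (hL : L.IsSubnormal) : Cfsg.largestPReduced p H ⊓ L = Cfsg.largestPReduced p H ⊓ (Cfsg.largestPReducedOf p L) ∧ Cfsg.IsPReducedNormal p ((Cfsg.largestPReduced p H ⊓ L).subgroupOf L) ∧ L ⊓ Subgroup.centralizer ((Cfsg.largestPReducedOf p L : Subgroup H) : Set H) = L ⊓ Subgroup.centralizer (Cfsg.largestPReduced p H : Set H) ∧ L ⊓ Subgroup.centralizer (Cfsg.largestPReduced p H : Set H) = L ⊓ Subgroup.centralizer ((Cfsg.largestPReduced p H ⊓ L : Subgroup H) : Set H) ∧ (Cfsg.pResidual p H ≤ L → (⁅(Cfsg.largestPReducedOf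 p L), L⁆ = ⊥ ↔ ⁅Cfsg.largestPReduced p H, (⊤ : Subgroup H)⁆ = ⊥)) := by
  have hp : Fact p.Prime := inferInstance
  obtain ⟨hA, hB⟩ := key (p := p) L hL
  have hYH : IsPRedIn p (Cfsg.largestPReduced p H) ⊤ :=
    isPReducedNormal_iff_top.mp isPReducedNormal_largestPReduced
  have hYL : IsPRedIn p (Cfsg.largestPReducedOf p L) L := isPRedIn_largestPReducedOf L
  obtain ⟨h2', h4'⟩ := hA _ hYH
  have hle : Cfsg.largestPReduced p H ⊓ L ≤ Cfsg.largestPReducedOf p L := h2'.le_largestPReducedOf
  have h3 : L ⊓ Subgroup.centralizer ((Cfsg.largestPReducedOf p L : Subgroup H) : Set H) =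
      L ⊓ Subgroup.centralizer (Cfsg.largestPReduced p H : Set H) := by
    apply le_antisymm
    · refine le_inf inf_le_left ?_
      exact (inf_le_inf_left L (Subgroup.centralizer_le hle)).trans h4'
    · exact le_inf inf_le_left hB
  refine ⟨?_, ?_, h3, ?_, ?_⟩
  · apply le_antisymm
    · exact le_inf inf_le_left hle
    · exact inf_le_inf_left _ hYL.le
  · exact (isPReducedNormal_subgroupOf_iff inf_le_right).mpr h2'
  · apply le_antisymm
    · exact inf_le_inf_left L (Subgroup.centralizer_le inf_le_left)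
    · exact le_inf inf_le_left h4'
  · intro hOp
    rw [Subgroup.commutator_eq_bot_iff_le_centralizer, Subgroup.commutator_eq_bot_iff_le_centralizer]
    constructor
    · intro h
      -- `L` centralizes `Y_L`, hence `Y_H`
      have h5 : L ≤ Subgroup.centralizer ((Cfsg.largestPReducedOf p L : Subgroup H) : Set H) :=
        Subgroup.le_centralizer_iff.mp h
      have h6 : L ≤ Subgroup.centralizer (Cfsg.largestPReduced p H : Set H) := by
        have : L ≤ L ⊓ Subgroup.centralizer ((Cfsg.largestPReducedOf p L : Subgroup H) : Set H) :=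
          le_inf le_rfl h5
        rw [h3] at this
        exact this.trans inf_le_right
      have h7 : (⊤ : Subgroup H) ≤ Subgroup.centralizer (Cfsg.largestPReduced p H : Set H) := by
        apply hYH.le_centralizer le_rfl
        · exact le_top.trans (le_of_eq (Subgroup.normalizer_eq_top_iff.mpr inferInstance).symm)
        · intro d _
          obtain ⟨k, hk⟩ := exists_pow_orderOf_coprime (p := p) d
          refine ⟨k, h6 (hOp ?_)⟩
          exact Subgroup.subset_closure hk
      exact Subgroup.le_centralizer_iff.mp h7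
    · intro h
      have h5 : (⊤ : Subgroup H) ≤ Subgroup.centralizer (Cfsg.largestPReduced p H : Set H) :=
        Subgroup.le_centralizer_iff.mp h
      have h6 : L ≤ L ⊓ Subgroup.centralizer (Cfsg.largestPReduced p H : Set H) :=
        le_inf le_rfl (le_top.trans h5)
      rw [← h3] at h6
      exact Subgroup.le_centralizer_iff.mp (h6.trans inf_le_right)

end Cfsg.Agent.S2825
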