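import Cfsg.Statements.S2826
import Cfsg.Agent.Helper47.Trace
import Cfsg.Agent.Helper47.YL2
import Cfsg.Agent.Helper34.Basic

set_option autoImplicit false
open Cfsg
open scoped commutatorElement

namespace Cfsg.Agent.S2826

open Cfsg.Agent.Helper47 Cfsg.Agent.Helper46

theorem result {H : Type*} [Group H] [Finite H] {p : ℕ} [Fact p.Prime] (hH : Subgroup.centralizer (Cfsg.pCore p H : Set H) ≤ Cfsg.pCore p H) (T : Sylow p H) (V : Subgroup H) [V.Normal] (hV : Cfsg.IsElementaryAbelian p V) (hZV : (Cfsg.omegaOne p ((T : Subgroup H) ⊓ Subgroup.centralizer (((T : Subgroup H) : Subgroup H) : Set H))) ≤ V) : Subgroup.centralizer ((Cfsg.omegaOne p ((T : Subgroup H) ⊓ Subgroup.centralizer (((T : Subgroup H) : Subgroup H) : Set H))) : Set H) = Subgroup.centralizer (((⁅V, Cfsg.pResidual p H⁆ ⊓ (Cfsg.omegaOne p ((T : Subgroup H) ⊓ Subgroup.centralizer (((T : Subgroup H) : Subgroup H) : Set H)))) : Subgroup H) : Set H) := by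
  set Z := Cfsg.omegaOne p ((T : Subgroup H) ⊓ Subgroup.centralizer (((T : Subgroup H) : Subgroup H) : Set H)) with hZ
  set R := Cfsg.pResidual p H with hR
  have hRn : R.Normal := Cfsg.Agent.Lib.pResidual_normal p
  have hVn : V.Normal := inferInstance
  apply le_antisymm (Subgroup.centralizer_le (show ((⁅V, R⁆ ⊓ Z : Subgroup H) : Set H) ⊆ (Z : Set H) from inf_le_right))
  intro x hx
  rw [Subgroup.mem_centralizer_iff]
  intro z hz
  have hzA : z ∈ (T : Subgroup H) ⊓ Subgroup.centralizer ((T : Subgroup H) : Set H) := omegaOne_le _ hz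
  have hzp : z ^ p = 1 :=
    (isElementaryAbelian_omegaOne (p := p) (inf_centralizer_le_centralizer (T : Subgroup H))).2 z hz
  have hRT : R ⊔ (T : Subgroup H) = ⊤ := Cfsg.Agent.Helper34.pResidual_sup_sylow p H T
  have hidx : ((T : Subgroup H).relIndex ⊤).Coprime p := by
    rw [Subgroup.relIndex_top_right]
    exact ((Nat.Prime.coprime_iff_not_dvd Fact.out).mpr T.not_dvd_index).symm
  have hW : ∀ g ∈ (⊤ : Subgroup H), g * z * g⁻¹ * z⁻¹ ∈ ⁅V, R⁆ := by
    intro g _
    have hg : g⁻¹ ∈ (T : Subgroup H) ⊔ R := by rw [sup_comm, hRT]; exact Subgroup.mem_top _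
    obtain ⟨τ, hτ, r, hr, e⟩ := exists_mul_of_mem_sup
      (show (T : Subgroup H) ≤ Subgroup.normalizer (R : Set H) by
        rw [Subgroup.normalizer_eq_top_iff.mpr hRn]; exact le_top) hg
    have hτz : τ * z = z * τ := (Subgroup.mem_centralizer_iff.mp hzA.2) τ hτ
    have hg' : g = r⁻¹ * τ⁻¹ := by
      have : g = (g⁻¹)⁻¹ := by group
      rw [this, e]; group
    have e2 : g * z * g⁻¹ * z⁻¹ = ⁅r⁻¹, z⁆ := by
      rw [hg', commutatorElement_def]
      have : τ⁻¹ * z * τ = z := by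
        calc τ⁻¹ * z * τ = τ⁻¹ * (z * τ) := by group
          _ = τ⁻¹ * (τ * z) := by rw [hτz]
          _ = z := by group
      calc r⁻¹ * τ⁻¹ * z * (r⁻¹ * τ⁻¹)⁻¹ * z⁻¹ = r⁻¹ * (τ⁻¹ * z * τ) * r⁻¹⁻¹ * z⁻¹ := by group
        _ = r⁻¹ * z * r⁻¹⁻¹ * z⁻¹ := by rw [this]
    rw [e2, Subgroup.commutator_comm]
    exact Subgroup.commutator_mem_commutator (R.inv_mem hr) (hZV hz)
  obtain ⟨t, ht, w, hw, htc, e⟩ := trace_split (L := ⊤) (V := V) (T := (T : Subgroup H))
    (W := ⁅V, R⁆) (by rw [Subgroup.normalizer_eq_top_iff.mpr hVn]) hV.1 le_top hidx (hZV hz) hzp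
    (fun τ hτ => (Subgroup.mem_centralizer_iff.mp hzA.2) τ hτ) hW
  have hVT : V ≤ (T : Subgroup H) :=
    Cfsg.Agent.Lib.normal_pGroup_le_sylow hVn (Cfsg.Agent.Lib.isElementaryAbelian_isPGroup hV) T
  have htZ : t ∈ Z := by
    apply Subgroup.subset_closure
    refine ⟨⟨hVT ht, ?_⟩, hV.2 t ht⟩
    show t ∈ Subgroup.centralizer ((T : Subgroup H) : Set H)
    rw [Subgroup.mem_centralizer_iff]
    intro y _
    exact htc y (Subgroup.mem_top y)
  have hwZ : w ∈ Z := by
    have : w = t⁻¹ * z := by rw [e]; group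
    rw [this]; exact Z.mul_mem (Z.inv_mem htZ) hz
  have hxw : w * x = x * w := (Subgroup.mem_centralizer_iff.mp hx) w ⟨hw.1, hwZ⟩
  have hxt : x * t = t * x := htc x (Subgroup.mem_top x)
  rw [e]
  calc t * w * x = t * (w * x) := by group
    _ = t * (x * w) := by rw [hxw]
    _ = (t * x) * w := by group
    _ = (x * t) * w := by rw [hxt]
    _ = x * (t * w) := by group

end Cfsg.Agent.S2826
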