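import Cfsg.Statements.S2827
import Cfsg.Agent.Helper47.PIrred2
import Cfsg.Agent.Helper47.Comm2
import Cfsg.Agent.Helper48.StronglyEmbedded

set_option autoImplicit false
open Cfsg
open scoped commutatorElement

namespace Cfsg.Agent.S2827

open Cfsg.Agent.Helper47

theorem result {H : Type*} [Group H] [Finite H] {p : ℕ} [Fact p.Prime] (hH : Cfsg.IsPIrreducible p H) (T : Sylow p H) : Subgroup.normalClosure ((T : Subgroup H) : Set H) = ⊤ ∧ commutator H ⊔ (T : Subgroup H) = ⊤ ∧ Cfsg.pResidual p H ≤ commutator H ∧ ∀ Y : Subgroup H, Y ≤ (T : Subgroup H) → (T : Subgroup H) ≤ Subgroup.normalizer (Y : Set H) → ¬ Y ≤ Cfsg.pCore p H → ⁅Cfsg.pResidual p H, Y⁆ = Cfsg.pResidual p H ∧ Cfsg.pResidual p H ≤ Subgroup.normalClosure (Y : Set H) := by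
  have hRT := Cfsg.Agent.Helper34.pResidual_sup_sylow p H T
  have hTn := sylow_not_le_pCore hH.1 T
  have hRn : (Cfsg.pResidual p H).Normal := Cfsg.Agent.Lib.pResidual_normal p
  -- 1
  have h1 : Subgroup.normalClosure ((T : Subgroup H) : Set H) = ⊤ := by
    have hle : Cfsg.pResidual p H ≤ Subgroup.normalClosure ((T : Subgroup H) : Set H) :=
      IsPIrreducible.pResidual_le hH Subgroup.normalClosure_normal T.2 Subgroup.le_normalClosure hTn
    rw [eq_top_iff, ← hRT]
    exact sup_le hle Subgroup.le_normalClosure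
  -- 2
  have h2 : commutator H ⊔ (T : Subgroup H) = ⊤ := by
    have hn : (commutator H ⊔ (T : Subgroup H)).Normal := Subgroup.Normal.of_commutator_le _ le_sup_left
    rw [eq_top_iff, ← h1]
    exact Subgroup.normalClosure_le_normal (show ((T : Subgroup H) : Set H) ⊆ ((commutator H ⊔ (T : Subgroup H) : Subgroup H) : Set H) from
      fun x hx => (le_sup_right : (T : Subgroup H) ≤ commutator H ⊔ (T : Subgroup H)) hx)
  -- 3
  have h3 : Cfsg.pResidual p H ≤ commutator H := by
    apply Cfsg.Agent.Lib.pResidual_le_of_isPGroup_quotient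
    apply isPGroup_quotient_of_sup_eq_top T.2
    rw [sup_comm]; exact h2
  refine ⟨h1, h2, h3, ?_⟩
  intro Y hYT hTY hYc
  have hYp : IsPGroup p Y := T.2.to_le hYT
  refine ⟨?_, IsPIrreducible.pResidual_le hH Subgroup.normalClosure_normal hYp Subgroup.le_normalClosure hYc⟩
  set R := Cfsg.pResidual p H with hR
  set K := ⁅R, Y⁆ with hK
  have hKn : K.Normal := by
    rw [← Subgroup.normalizer_eq_top_iff, eq_top_iff, ← hRT]
    refine sup_le (le_normalizer_commutator_left R Y) ?_
    apply le_normalizer_commutator_of_le _ hTY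
    rw [Subgroup.normalizer_eq_top_iff.mpr hRn]; exact le_top
  have hKR : K ≤ R := Subgroup.commutator_le_left R Y
  have hMn : (K ⊔ Y).Normal := by
    rw [← Subgroup.normalizer_eq_top_iff, eq_top_iff, ← hRT]
    refine sup_le ?_ ?_
    · intro r hr
      apply Cfsg.Agent.Helper48.mem_normalizer_of_conjSub_le
      show (K ⊔ Y).map (MulAut.conj r).toMonoidHom ≤ K ⊔ Y
      rw [Subgroup.map_sup]
      refine sup_le ?_ ?_
      · have : K.map (MulAut.conj r).toMonoidHom = K :=
          Subgroup.mem_normalizer_iff_map_conj_eq.mp (by rw [Subgroup.normalizer_eq_top_iff.mpr hKn]; trivial)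
        rw [this]; exact le_sup_left
      · rintro _ ⟨y, hy, rfl⟩
        have e : (MulAut.conj r).toMonoidHom y = ⁅r, y⁆ * y := by
          simp only [MulEquiv.coe_toMonoidHom, MulAut.conj_apply, commutatorElement_def]; group
        rw [e]
        exact Subgroup.mul_mem _ (le_sup_left (a := K) (Subgroup.commutator_mem_commutator hr hy))
          (le_sup_right (b := Y) hy)
    · intro t ht
      have e1 : K.map (MulAut.conj t).toMonoidHom = K :=
        Subgroup.mem_normalizer_iff_map_conj_eq.mp (by rw [Subgroup.normalizer_eq_top_iff.mpr hKn]; trivial)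
      have e2 : Y.map (MulAut.conj t).toMonoidHom = Y :=
        Subgroup.mem_normalizer_iff_map_conj_eq.mp (hTY ht)
      have e3 : (K ⊔ Y).map (MulAut.conj t).toMonoidHom = K ⊔ Y := by
        rw [Subgroup.map_sup, e1, e2]
      exact Subgroup.mem_normalizer_iff_map_conj_eq.mpr e3
  have hRM : R ≤ K ⊔ Y := IsPIrreducible.pResidual_le hH hMn hYp le_sup_right hYc
  have := hKn
  exact le_antisymm hKR (pResidual_le_of_le_sup hYp hRM)

end Cfsg.Agent.S2827
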