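import Cfsg.Statements.S2828
import Cfsg.Agent.Helper47.PIrred

set_option autoImplicit false
open Cfsg

namespace Cfsg.Agent.S2828

open Cfsg.Agent.Helper47

theorem result {H : Type*} [Group H] [Finite H] {p : ℕ} [Fact p.Prime] (D : Subgroup H) [D.Normal] (hD : IsPGroup p ↥D) : (Cfsg.IsPIrreducible p H ↔ Cfsg.IsPIrreducible p (H ⧸ D)) ∧ (Cfsg.IsStronglyPIrreducible p H ↔ Cfsg.IsStronglyPIrreducible p (H ⧸ D)) := by
  apply isPIrreducible_iff_of_surjective_of_ker (f := QuotientGroup.mk' D) (QuotientGroup.mk'_surjective D)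
  rw [QuotientGroup.ker_mk']
  exact hD

end Cfsg.Agent.S2828
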