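import Cfsg.Statements.S2830
import Cfsg.Agent.Helper47.PIrred2
import Cfsg.Agent.Helper67.Conj

set_option autoImplicit false
open Cfsg

namespace Cfsg.Agent.S2830

open Cfsg.Agent.Helper47

/-- If `O^p(A) ≤ Q` and `Q` has `p`-group image modulo the normal subgroup `N`, then `O^p(A) ≤ N`. -/
theorem pResidual_le_of_le_of_isPGroup_map {A : Type*} [Group A] {p : ℕ} [hp : Fact p.Prime]
    {N Q : Subgroup A} [hN : N.Normal]
    (hQ : IsPGroup p (Q.map (QuotientGroup.mk' N))) (h : Cfsg.pResidual p A ≤ Q) :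
    Cfsg.pResidual p A ≤ N := by
  unfold Cfsg.pResidual
  rw [Subgroup.closure_le]
  intro x hx
  have hx' : (orderOf x).Coprime p := hx
  have hxR : x ∈ Cfsg.pResidual p A := Subgroup.subset_closure hx
  have hmem : (QuotientGroup.mk' N) x ∈ Q.map (QuotientGroup.mk' N) :=
    Subgroup.mem_map_of_mem _ (h hxR)
  have hcop : (orderOf ((QuotientGroup.mk' N) x)).Coprime p :=
    Nat.Coprime.coprime_dvd_left (orderOf_map_dvd _ x) hx'
  have := eq_one_of_mem_isPGroup_of_coprime hQ hmem hcop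
  rw [SetLike.mem_coe, ← QuotientGroup.eq_one_iff]
  exact this

theorem isPGroup_zpowers_of_pow_eq_one {A : Type*} [Group A] {p : ℕ} {z : A} {k : ℕ}
    (hz : z ^ (p ^ k) = 1) : IsPGroup p (Subgroup.zpowers z) := by
  rintro ⟨w, hw⟩
  obtain ⟨i, rfl⟩ := Subgroup.mem_zpowers_iff.mp hw
  refine ⟨k, ?_⟩
  apply Subtype.ext
  show (z ^ i) ^ (p ^ k) = 1
  rw [← zpow_natCast, ← zpow_mul, mul_comm, zpow_mul, zpow_natCast, hz, one_zpow]

theorem result {G : Type*} [Group G] [Finite G] {p : ℕ} [Fact p.Prime] (V H : Subgroup G) (hV : Cfsg.IsElementaryAbelian p V) (hHV : H ≤ Subgroup.normalizer (V : Set G)) (hH : Cfsg.IsPIrreducible p ↥H) (hnc : ¬ (Cfsg.pResidual p ↥H).map H.subtype ≤ Subgroup.centralizer (V : Set G)) [hn : ((Subgroup.centralizer (V : Set G)).subgroupOf H).Normal] : Cfsg.IsPClosed p ↥(H ⊓ Subgroup.centralizer (V : Set G)) ∧ (∀ T : Subgroup G, T ≤ H → IsPGroup p ↥T → T ⊓ Subgroup.centralizer (V : Set G) ≤ Cfsg.pCoreOf p H) ∧ (Cfsg.pCoreOf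 p H ≤ Subgroup.centralizer (V : Set G) → (∀ T : Subgroup G, T ≤ H → IsPGroup p ↥T → T ⊓ Subgroup.centralizer (V : Set G) = T ⊓ Cfsg.pCoreOf p H) ∧ Cfsg.pCore p (↥H ⧸ (Subgroup.centralizer (V : Set G)).subgroupOf H) = ⊥) := by
  set A := Subgroup.centralizer (V : Set G) with hA
  set C := A.subgroupOf H with hC
  -- pResidual ≤ C is impossible
  have hnc' : ¬ Cfsg.pResidual p ↥H ≤ C := by
    intro hle
    apply hnc
    rintro _ ⟨x, hx, rfl⟩
    exact hle hx
  have hCcl : Cfsg.IsPClosed p ↥C := by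
    by_contra hcl
    exact hnc' (hH.2 C hn hcl)
  have hb : ∀ T : Subgroup G, T ≤ H → IsPGroup p ↥T → T ⊓ A ≤ Cfsg.pCoreOf p H := by
    intro T hTH hT
    have hYp : IsPGroup p ((T ⊓ A).subgroupOf H) := (hT.to_le inf_le_left).comap_subtype
    have hYC : (T ⊓ A).subgroupOf H ≤ C := by
      intro x hx
      rw [Subgroup.mem_subgroupOf] at hx
      exact hx.2
    have hle := le_pCore_of_le_pClosed_normal hn hCcl hYp hYC
    intro x hx
    exact ⟨⟨x, hTH hx.1⟩, hle (show (⟨x, hTH hx.1⟩ : H) ∈ (T ⊓ A).subgroupOf H from hx), rfl⟩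
  refine ⟨?_, hb, ?_⟩
  · have hker : IsPGroup p H.subtype.ker := by
      rw [Subgroup.ker_subtype]; exact IsPGroup.of_bot
    have h1 := (isPClosed_map_iff H.subtype hker C).mp hCcl
    have e : C.map H.subtype = H ⊓ A := by
      rw [hC, Subgroup.subgroupOf_map_subtype, inf_comm]
    rw [e] at h1
    exact h1
  · intro hO
    refine ⟨fun T hTH hT => le_antisymm (le_inf inf_le_left (hb T hTH hT)) (inf_le_inf_left T hO), ?_⟩
    have hO' : Cfsg.pCore p ↥H ≤ C := by
      intro x hx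
      rw [hC, Subgroup.mem_subgroupOf]
      exact hO ⟨x, hx, rfl⟩
    set Q := (Cfsg.pCore p (↥H ⧸ C)).comap (QuotientGroup.mk' C) with hQ
    have hcoreN : (Cfsg.pCore p (↥H ⧸ C)).Normal := by
      have hc : (Cfsg.pCore p (↥H ⧸ C)).Characteristic := Cfsg.Agent.Lib.pCore_characteristic p
      infer_instance
    have hQn : Q.Normal := Subgroup.Normal.comap hcoreN _
    have hcoreP : IsPGroup p (Cfsg.pCore p (↥H ⧸ C)) := Cfsg.Agent.Lib.isPGroup_pCore p
    have hQcl : Cfsg.IsPClosed p ↥Q := by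
      by_contra hcl
      have h1 : Cfsg.pResidual p ↥H ≤ Q := hH.2 Q hQn hcl
      have h2 : IsPGroup p (Q.map (QuotientGroup.mk' C)) :=
        hcoreP.to_le (Subgroup.map_comap_le _ _)
      exact hnc' (pResidual_le_of_le_of_isPGroup_map h2 h1)
    rw [eq_bot_iff]
    intro x hx
    obtain ⟨h, rfl⟩ := QuotientGroup.mk_surjective x
    obtain ⟨y, z, hy, hz, hyz, hcop, k, hk⟩ :=
      Cfsg.Agent.Helper67.exists_pprime_ppart p (isOfFinOrder_of_finite h)
    have hhQ : h ∈ Q := hx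
    have hyQ : y ∈ Q := (Subgroup.zpowers_le.mpr hhQ) hy
    have hzQ : z ∈ Q := (Subgroup.zpowers_le.mpr hhQ) hz
    have hy1 : (QuotientGroup.mk' C) y = 1 := by
      apply eq_one_of_mem_isPGroup_of_coprime hcoreP hyQ
      exact Nat.Coprime.coprime_dvd_left (orderOf_map_dvd _ y) hcop
    have hzp : IsPGroup p (Subgroup.zpowers z) := isPGroup_zpowers_of_pow_eq_one hk
    have hzC : z ∈ C :=
      hO' (le_pCore_of_le_pClosed_normal hQn hQcl hzp (Subgroup.zpowers_le.mpr hzQ)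
        (Subgroup.mem_zpowers z))
    have hz1 : (QuotientGroup.mk' C) z = 1 := by
      rw [QuotientGroup.mk'_apply, QuotientGroup.eq_one_iff]; exact hzC
    rw [Subgroup.mem_bot]
    show (QuotientGroup.mk' C) h = 1
    rw [hyz, map_mul, hy1, hz1, one_mul]

end Cfsg.Agent.S2830
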