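import Cfsg.Statements.S2831
import Cfsg.Agent.Helper47.Minimal

set_option autoImplicit false
open Cfsg

namespace Cfsg.Agent.S2831

open Cfsg.Agent.Helper47

/-- Let H be a finite group with Sylow p-subgroup T such that H is T-minimal (H is generated by the conjugates of T and T lies in exactly one maximal subgroup of H). Then H is p-irreducible: H is not p-closed and O^p(H) lies in every normal subgroup of H that is not p-closed. -/
theorem result {H : Type*} [Group H] [Finite H] {p : ℕ} [Fact p.Prime] (T : Sylow p H) (hmin : Cfsg.IsMinimalOver (T : Subgroup H)) : Cfsg.IsPIrreducible p H := by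
  obtain ⟨M, hM, -⟩ := hmin.2
  have hMtop : M ≠ ⊤ := hM.1.1
  refine ⟨?_, ?_⟩
  · intro hcl
    have hTn : (T : Subgroup H).Normal := hcl T
    have h1 : Subgroup.normalClosure ((T : Subgroup H) : Set H) = T := Subgroup.normalClosure_eq_self _
    have h2 : (T : Subgroup H) = ⊤ := by rw [← h1]; exact hmin.1
    exact hMtop (top_le_iff.mp (h2 ▸ hM.2))
  · intro N hN hNc
    by_cases hTN : (T : Subgroup H) ⊔ N = ⊤
    · exact Cfsg.Agent.Lib.pResidual_le_of_isPGroup_quotient N (isPGroup_quotient_of_sup_eq_top T.2 hTN)
    · exfalso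
      apply hNc
      have hTNM : (T : Subgroup H) ⊔ N ≤ M := IsMinimalOver.le_of_ne_top hmin hM le_sup_left hTN
      have hNM : N ≤ M := le_sup_right.trans hTNM
      have hfr := Cfsg.Agent.Helper64.normalizer_inf_sup_eq_top T N
      have hTle : (T : Subgroup H) ≤ Subgroup.normalizer (((T : Subgroup H) ⊓ N : Subgroup H) : Set H) := by
        have h1 : (T : Subgroup H) ≤ Subgroup.normalizer ((T : Subgroup H) : Set H) := Subgroup.le_normalizer
        have h2 : (T : Subgroup H) ≤ Subgroup.normalizer ((N : Subgroup H) : Set H) := by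
          rw [Subgroup.normalizer_eq_top]; exact le_top
        intro t ht
        have ht1 := h1 ht
        have ht2 := h2 ht
        rw [Subgroup.mem_normalizer_iff] at ht1 ht2 ⊢
        intro x
        rw [Subgroup.mem_inf, Subgroup.mem_inf, ← ht1 x, ← ht2 x]
      have hnorm : Subgroup.normalizer (((T : Subgroup H) ⊓ N : Subgroup H) : Set H) = ⊤ := by
        by_contra hne
        have h1 := IsMinimalOver.le_of_ne_top hmin hM hTle hne
        exact hMtop (top_le_iff.mp (hfr ▸ sup_le h1 hNM))
      have hn : ((T : Subgroup H) ⊓ N).Normal := Subgroup.normalizer_eq_top_iff.mp hnorm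
      obtain ⟨Q, hQ⟩ := Cfsg.Agent.Helper64.exists_sylow_subgroupOf_normal T N
      apply isPClosed_of_normal_sylow Q
      rw [hQ]
      have : (T : Subgroup H).subgroupOf N = ((T : Subgroup H) ⊓ N).subgroupOf N := by
        rw [Subgroup.inf_subgroupOf_right]
      rw [this]
      infer_instance

end Cfsg.Agent.S2831
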