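import Cfsg.Statements.S2832
import Cfsg.Agent.Helper47.Minimal

set_option autoImplicit false
open Cfsg

namespace Cfsg.Agent.S2832

open Cfsg.Agent.Helper47

/-- Let H be a finite group with Sylow p-subgroup T such that H is T-minimal (generated by the conjugates of T, with T in exactly one maximal subgroup), and let N be a normal subgroup of H. Then either H/N is a p-group or H/N is minimal over the image of T in the same sense. -/
theorem result {H : Type*} [Group H] [Finite H] {p : ℕ} [Fact p.Prime] (T : Sylow p H) (hmin : Cfsg.IsMinimalOver (T : Subgroup H)) (N : Subgroup H) [N.Normal] : IsPGroup p (H ⧸ N) ∨ Cfsg.IsMinimalOver ((T : Subgroup H).map (QuotientGroup.mk' N)) := by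
  by_cases hTN : (T : Subgroup H) ⊔ N = ⊤
  · exact Or.inl (isPGroup_quotient_of_sup_eq_top T.2 hTN)
  · right
    obtain ⟨M, hM, huniq⟩ := hmin.2
    have hTNM : (T : Subgroup H) ⊔ N ≤ M := IsMinimalOver.le_of_ne_top hmin hM le_sup_left hTN
    have hNM : N ≤ M := le_sup_right.trans hTNM
    have hsurj := QuotientGroup.mk'_surjective N
    have hker : (QuotientGroup.mk' N).ker ≤ M := by rw [QuotientGroup.ker_mk']; exact hNM
    refine ⟨?_, M.map (QuotientGroup.mk' N), ⟨isCoatom_map_of_ker_le hsurj hker hM.1,
      Subgroup.map_mono hM.2⟩, ?_⟩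
    · rw [Subgroup.coe_map, ← Subgroup.map_normalClosure _ _ hsurj, hmin.1,
        Subgroup.map_top_of_surjective _ hsurj]
    · rintro M' ⟨hM'c, hTM'⟩
      have h1 : IsCoatom (M'.comap (QuotientGroup.mk' N)) :=
        Subgroup.isCoatom_comap_of_surjective hsurj hM'c
      have h2 : (T : Subgroup H) ≤ M'.comap (QuotientGroup.mk' N) :=
        Subgroup.map_le_iff_le_comap.mp hTM'
      have h3 := huniq _ ⟨h1, h2⟩
      rw [← Subgroup.map_comap_eq_self_of_surjective hsurj M', h3]

end Cfsg.Agent.S2832
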