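import Cfsg.Statements.S2833
import Cfsg.Agent.Helper47.Comm
import Mathlib.Tactic.Group

set_option autoImplicit false
open Cfsg

namespace Cfsg.Agent.S2833

open Cfsg.Agent.Helper47
open scoped Pointwise

/-- Let V be a subgroup of a finite group G normalized by the subgroup L, let X ≤ L and g ∈ L with [V, X, X] = 1 and L generated by X and gXg⁻¹. Put W = [V, L]. Then W = [V, X]·[V, gXg⁻¹], C_W(X) = [V, X], and C_W(L) = [V, X] ∩ [V, gXg⁻¹]. -/
theorem result {G : Type*} [Group G] [Finite G] (V L : Subgroup G) (hLV : L ≤ Subgroup.normalizer (V : Set G)) (X : Subgroup G) (hX : X ≤ L) (g : G) (hg : g ∈ L) (hq : ⁅⁅V, X⁆, X⁆ = ⊥) (hgen : X ⊔ X.map (MulAut.conj g).toMonoidHom = L) (W : Subgroup G) (hW : W = ⁅V, L⁆) : ⁅V, X⁆ ⊔ ⁅V, X.map (MulAut.conj g).toMonoidHom⁆ = W ∧ W ⊓ Subgroup.centralizer (X : Set G) = ⁅V, X⁆ ∧ W ⊓ Subgroup.centralizer (L : Set G) = ⁅V, X⁆ ⊓ ⁅V, X.map (MulAut.conj g).toMonoidHom⁆ := by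
  set Xg := X.map (MulAut.conj g).toMonoidHom with hXg
  have hXgL : Xg ≤ L := hgen ▸ le_sup_right
  have hXV : X ≤ Subgroup.normalizer (V : Set G) := hX.trans hLV
  have hXgV : Xg ≤ Subgroup.normalizer (V : Set G) := hXgL.trans hLV
  have hgV : g ∈ Subgroup.normalizer (V : Set G) := hLV hg
  -- B is the conjugate of A
  have hVg : V.map (MulAut.conj g).toMonoidHom = V :=
    (Subgroup.mem_normalizer_iff_map_conj_eq.mp hgV)
  have hBA : ⁅V, Xg⁆ = (⁅V, X⁆).map (MulAut.conj g).toMonoidHom := by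
    rw [Subgroup.map_commutator, hVg]
  -- A, B ≤ V
  have hAV : ⁅V, X⁆ ≤ V := Subgroup.le_normalizer_iff_commutator_le_left.mp hXV
  have hBV : ⁅V, Xg⁆ ≤ V := Subgroup.le_normalizer_iff_commutator_le_left.mp hXgV
  have hAcX : ⁅V, X⁆ ≤ Subgroup.centralizer (X : Set G) :=
    Subgroup.commutator_eq_bot_iff_le_centralizer.mp hq
  have hqg : ⁅⁅V, Xg⁆, Xg⁆ = ⊥ := by
    rw [hBA, hXg, ← Subgroup.map_commutator, hq, Subgroup.map_bot]
  have hBcXg : ⁅V, Xg⁆ ≤ Subgroup.centralizer (Xg : Set G) :=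
    Subgroup.commutator_eq_bot_iff_le_centralizer.mp hqg
  set N := ⁅V, X⁆ ⊔ ⁅V, Xg⁆ with hN
  have hNV : N ≤ V := sup_le hAV hBV
  have hXN : X ≤ Subgroup.normalizer (N : Set G) := by
    rw [Subgroup.le_normalizer_iff_commutator_le_left]
    exact (Subgroup.commutator_mono hNV le_rfl).trans le_sup_left
  have hXgN : Xg ≤ Subgroup.normalizer (N : Set G) := by
    rw [Subgroup.le_normalizer_iff_commutator_le_left]
    exact (Subgroup.commutator_mono hNV le_rfl).trans le_sup_right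
  have h1 : N = W := by
    apply le_antisymm
    · rw [hW]
      exact sup_le (Subgroup.commutator_mono le_rfl hX) (Subgroup.commutator_mono le_rfl hXgL)
    · rw [hW, ← hgen]
      exact commutator_sup_right_le le_sup_left le_sup_right hXN hXgN
  -- elements of N are products a * b
  have hAnB : ⁅V, X⁆ ≤ Subgroup.normalizer ((⁅V, Xg⁆ : Subgroup G) : Set G) :=
    hAV.trans (Subgroup.normalizer_commutator_ge_left _ _)
  have hLc : ∀ b : G, b ∈ Subgroup.centralizer (X : Set G) → b ∈ Subgroup.centralizer (Xg : Set G) →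
      b ∈ Subgroup.centralizer (L : Set G) := by
    intro b hb1 hb2
    have h1 : X ≤ Subgroup.centralizer ({b} : Set G) := by
      intro x hx
      rw [Subgroup.mem_centralizer_singleton_iff]
      exact (hb1 x hx)
    have h2 : Xg ≤ Subgroup.centralizer ({b} : Set G) := by
      intro x hx
      rw [Subgroup.mem_centralizer_singleton_iff]
      exact (hb2 x hx)
    have h3 : L ≤ Subgroup.centralizer ({b} : Set G) := hgen ▸ sup_le h1 h2
    intro l hl
    have := h3 hl
    rw [Subgroup.mem_centralizer_singleton_iff] at this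
    exact this
  have hcentB : ∀ b : G, b ∈ ⁅V, Xg⁆ → b ∈ Subgroup.centralizer (L : Set G) → b ∈ ⁅V, X⁆ := by
    intro b hb hbL
    rw [hBA] at hb
    obtain ⟨a, ha, rfl⟩ := hb
    have hgb := hbL g hg
    simp only [MulEquiv.coe_toMonoidHom, MulAut.conj_apply] at hgb ⊢
    have : g * a * g⁻¹ = a := by
      have h3 : g * (g * a * g⁻¹) = g * a * g⁻¹ * g := hgb
      rw [inv_mul_cancel_right] at h3
      exact mul_left_cancel h3
    rw [this]; exact ha
  have h2 : W ⊓ Subgroup.centralizer (X : Set G) = ⁅V, X⁆ := by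
    apply le_antisymm
    · intro w hw
      obtain ⟨hwW, hwX⟩ := hw
      rw [← h1] at hwW
      have hcoe : ((N : Subgroup G) : Set G) = ((⁅V, X⁆ : Subgroup G) : Set G) * ((⁅V, Xg⁆ : Subgroup G) : Set G) :=
        Subgroup.coe_mul_of_left_le_normalizer_right _ _ hAnB
      have hwm : w ∈ ((N : Subgroup G) : Set G) := hwW
      rw [hcoe] at hwm
      obtain ⟨a, ha, b, hb, rfl⟩ := hwm
      have hbX : b ∈ Subgroup.centralizer (X : Set G) := by
        have : b = a⁻¹ * (a * b) := by group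
        rw [this]
        exact mul_mem (inv_mem (hAcX ha)) hwX
      have hbL := hLc b hbX (hBcXg hb)
      exact mul_mem ha (hcentB b hb hbL)
    · exact le_inf (h1 ▸ le_sup_left) hAcX
  refine ⟨h1, h2, ?_⟩
  apply le_antisymm
  · intro w hw
    obtain ⟨hwW, hwL⟩ := hw
    have hwX : w ∈ Subgroup.centralizer (X : Set G) := Subgroup.centralizer_le hX hwL
    have hwA : w ∈ ⁅V, X⁆ := h2 ▸ (Subgroup.mem_inf.mpr ⟨hwW, hwX⟩)
    refine Subgroup.mem_inf.mpr ⟨hwA, ?_⟩
    rw [hBA]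
    refine ⟨w, hwA, ?_⟩
    have hgb := hwL g hg
    simp only [MulEquiv.coe_toMonoidHom, MulAut.conj_apply]
    rw [hgb, mul_assoc, mul_inv_cancel, mul_one]
  · intro w hw
    obtain ⟨hwA, hwB⟩ := hw
    exact Subgroup.mem_inf.mpr ⟨h1 ▸ Subgroup.mem_sup_left hwA, hLc w (hAcX hwA) (hBcXg hwB)⟩

end Cfsg.Agent.S2833
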