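import Cfsg.Statements.S2834
import Cfsg.Agent.Helper50.LLemmaTop

set_option autoImplicit false
open Cfsg

namespace Cfsg.Agent.S2834

/-- The L-Lemma: let H be a finite group with Sylow p-subgroup T such that H is T-minimal (generated by the conjugates of T, T in exactly one maximal subgroup M), and let A ≤ T with A not contained in O_p(H). Then there is a subgroup L of H containing A·O_p(H) such that (a) A·O_p(L) lies in exactly one maximal subgroup L₀ of L, and L₀ = L ∩ gMg⁻¹ for some g ∈ H; (b) L = ⟨A, xAx⁻¹⟩·O_p(L) for every x ∈ L outside L₀. -/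
theorem result {H : Type*} [Group H] [Finite H] {p : ℕ} [Fact p.Prime] (T : Sylow p H) (hmin : Cfsg.IsMinimalOver (T : Subgroup H)) (M : Subgroup H) (hM : IsCoatom M ∧ (T : Subgroup H) ≤ M) (A : Subgroup H) (hAT : A ≤ (T : Subgroup H)) (hA : ¬ A ≤ Cfsg.pCore p H) : ∃ L : Subgroup H, A ⊔ Cfsg.pCore p H ≤ L ∧ ∃ L₀ : Subgroup H, A ⊔ (Cfsg.pCoreOf p L) ≤ L₀ ∧ L₀ < L ∧ (∀ X : Subgroup H, A ⊔ (Cfsg.pCoreOf p L) ≤ X → X < L → X ≤ L₀) ∧ (∃ g : H, L₀ = L ⊓ ((M : Subgroup H).map (MulAut.conj (g : H)).toMonoidHom)) ∧ ∀ x ∈ L, x ∉ L₀ → (A ⊔ ((A : Subgroup H).map (MulAut.conj (x : H)).toMonoidHom)) ⊔ (Cfsg.pCoreOf p L) = L := by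
  classical
  obtain ⟨hncl, hex⟩ := hmin
  have hTsyl : Cfsg.Agent.Helper46.IsSylIn p (T : Subgroup H) ⊤ := by
    apply Cfsg.Agent.Helper46.isSylIn_of_card le_top
    rw [Subgroup.card_top]
    exact T.card_eq_multiplicity
  have hMtop : M < ⊤ := lt_top_iff_ne_top.2 hM.1.1
  have huniq : ∀ X : Subgroup H, (T : Subgroup H) ≤ X → X < ⊤ → X ≤ M := by
    intro X hTX hX
    rcases eq_top_or_exists_le_coatom X with h | ⟨M', hM', hXM'⟩
    · exact absurd h (ne_of_lt hX)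
    · have h1 : M' = M := hex.unique ⟨hM', hTX.trans hXM'⟩ hM
      rw [← h1]
      exact hXM'
  have hnn : ∃ h : H, Cfsg.Agent.Helper50.cj h M ≠ M := by
    by_contra hc
    push Not at hc
    have hMn : M.Normal := by
      constructor
      intro n hn g
      have := Cfsg.Agent.Helper50.conj_mem_cj (g := g) hn
      rwa [hc g] at this
    have h1 : Subgroup.normalClosure ((T : Subgroup H) : Set H) ≤ M :=
      Subgroup.normalClosure_le_normal hM.2
    rw [hncl] at h1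
    exact hM.1.1 (top_le_iff.1 h1)
  have hAO : ¬ A ≤ Cfsg.pCoreOf p (⊤ : Subgroup H) := by
    rw [Cfsg.Agent.Helper50.pCoreOf_top_eq]
    exact hA
  have hpA : IsPGroup p A := T.isPGroup'.to_le hAT
  obtain ⟨L, hL1, L₀, h1, h2, h3, h4, h5⟩ :=
    Cfsg.Agent.Helper50.lLemma_top hTsyl hM.2 hMtop huniq hnn hpA hAO
  rw [Cfsg.Agent.Helper50.pCoreOf_top_eq] at hL1
  exact ⟨L, hL1, L₀, h1, h2, h3, h4, h5⟩

end Cfsg.Agent.S2834
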