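import Cfsg.Statements.S2835
import Cfsg.Agent.Helper47.Minimal
import Cfsg.Agent.Helper48.StronglyEmbedded2

set_option autoImplicit false
open Cfsg

namespace Cfsg.Agent.S2835

open Cfsg.Agent.Helper47

theorem result {L : Type*} [Group L] [Finite L] {p : ℕ} [Fact p.Prime] (L₀ : Subgroup L) (hL₀ : IsCoatom L₀) (T : Sylow p ↥L₀) (Y : Subgroup L) (hYT : Y ≤ (T : Subgroup ↥L₀).map L₀.subtype) (hmin : Cfsg.IsMinimalOver Y) : Subgroup.normalizer (((T : Subgroup ↥L₀).map L₀.subtype : Subgroup L) : Set L) ≤ L₀ ∧ Cfsg.pCore p L ≤ L₀ ∧ (∃ P : Sylow p L, (P : Subgroup L) = (T : Subgroup ↥L₀).map L₀.subtype) ∧ Subgroup.normalizer (L₀ : Set L) = L₀ ∧ (∀ g : L, g ∉ L₀ → Y ⊔ Y.map (MulAut.conj g).toMonoidHom = ⊤) ∧ (IsMulCommutative ↥Y → ∀ g : L, g ∉ L₀ → Y ⊓ Y.map (MulAut.conj g).toMonoidHom = Y ⊓ Subgroup.center L) := by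
  set T' : Subgroup L := (T : Subgroup ↥L₀).map L₀.subtype with hT'
  have hT'L₀ : T' ≤ L₀ := by
    rw [hT']; exact (Subgroup.map_subtype_le _)
  have hYL₀ : Y ≤ L₀ := hYT.trans hT'L₀
  have hM : IsCoatom L₀ ∧ Y ≤ L₀ := ⟨hL₀, hYL₀⟩
  have hT'p : IsPGroup p T' := by
    rw [hT']; exact T.2.map _
  -- a normal proper subgroup cannot contain Y
  have hnotnormal : ∀ K : Subgroup L, K.Normal → Y ≤ K → K = ⊤ := by
    intro K hK hYK
    have := Subgroup.normalClosure_le_normal (N := K) (s := (Y : Set L)) hYK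
    rw [hmin.1] at this
    exact top_le_iff.mp this
  -- 1
  have h1 : Subgroup.normalizer (T' : Set L) ≤ L₀ := by
    apply IsMinimalOver.le_of_ne_top hmin hM (hYT.trans Subgroup.le_normalizer)
    intro htop
    have hn : T'.Normal := Subgroup.normalizer_eq_top_iff.mp htop
    have := hnotnormal T' hn hYT
    exact hL₀.1 (top_le_iff.mp (this ▸ hT'L₀))
  -- 3
  have h3 : ∃ P : Sylow p L, (P : Subgroup L) = T' := by
    obtain ⟨P, hP⟩ := hT'p.exists_le_sylow
    refine ⟨P, ?_⟩
    by_contra hne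
    have hlt : T' < (P : Subgroup L) := lt_of_le_of_ne hP (fun e => hne e.symm)
    have h := Cfsg.Agent.Helper48.lt_inf_normalizer_of_lt P.2 hlt
    set R := (P : Subgroup L) ⊓ Subgroup.normalizer (T' : Set L) with hR
    have hRL₀ : R ≤ L₀ := inf_le_right.trans h1
    have hRp : IsPGroup p R := P.2.to_le inf_le_left
    -- R.subgroupOf L₀ is a p-subgroup of L₀ containing T
    have hRp' : IsPGroup p (R.subgroupOf L₀) := hRp.comap_subtype
    have hTR : (T : Subgroup ↥L₀) ≤ R.subgroupOf L₀ := by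
      intro x hx
      rw [Subgroup.mem_subgroupOf]
      exact h.le (Subgroup.mem_map_of_mem _ hx)
    have heq : R.subgroupOf L₀ = (T : Subgroup ↥L₀) := (T.3 hRp' hTR)
    have : R ≤ T' := by
      intro x hx
      have hx' : (⟨x, hRL₀ hx⟩ : L₀) ∈ R.subgroupOf L₀ := by
        rw [Subgroup.mem_subgroupOf]; exact hx
      rw [heq] at hx'
      exact ⟨_, hx', rfl⟩
    exact absurd (lt_of_lt_of_le h this) (lt_irrefl _)
  -- 4
  have h4 : Subgroup.normalizer (L₀ : Set L) = L₀ := by
    by_contra hne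
    have hlt : L₀ < Subgroup.normalizer (L₀ : Set L) := lt_of_le_of_ne Subgroup.le_normalizer (fun e => hne e.symm)
    have htop := hL₀.2 _ hlt
    have hn : L₀.Normal := Subgroup.normalizer_eq_top_iff.mp htop
    exact hL₀.1 (hnotnormal L₀ hn hYL₀)
  -- 5
  have h5 : ∀ g : L, g ∉ L₀ → Y ⊔ Y.map (MulAut.conj g).toMonoidHom = ⊤ := by
    intro g hg
    by_contra hne
    have hle := IsMinimalOver.le_of_ne_top hmin hM (X := Y ⊔ Y.map (MulAut.conj g).toMonoidHom) le_sup_left hne
    have hYg : Y.map (MulAut.conj g).toMonoidHom ≤ L₀ := le_sup_right.trans hle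
    -- Y ≤ L₀^{g⁻¹}
    set M' : Subgroup L := L₀.map (MulAut.conj g⁻¹).toMonoidHom with hM'
    have hYM' : Y ≤ M' := by
      intro y hy
      refine ⟨g * y * g⁻¹, hYg ⟨y, hy, by simp [MulAut.conj_apply]⟩, ?_⟩
      simp [MulAut.conj_apply, mul_assoc]
    have hM'co : IsCoatom M' := by
      have : M' = L₀.map (MulAut.conj g⁻¹).toMonoidHom := rfl
      rw [this]
      exact isCoatom_map_of_ker_le (f := (MulAut.conj g⁻¹).toMonoidHom) (MulAut.conj g⁻¹).surjective
        (by
          have : (MulAut.conj g⁻¹).toMonoidHom.ker = ⊥ :=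
            (MonoidHom.ker_eq_bot_iff _).mpr (MulAut.conj g⁻¹).injective
          rw [this]; exact bot_le) hL₀
    obtain ⟨M₀, -, huniq⟩ := hmin.2
    have e1 : M' = M₀ := huniq M' ⟨hM'co, hYM'⟩
    have e2 : L₀ = M₀ := huniq L₀ hM
    have e : M' = L₀ := e1.trans e2.symm
    -- so g⁻¹ normalizes L₀
    have hgn : g⁻¹ ∈ Subgroup.normalizer (L₀ : Set L) := by
      rw [Subgroup.mem_normalizer_iff]
      have key : ∀ h : L, h ∈ L₀ → g⁻¹ * h * g⁻¹⁻¹ ∈ L₀ := by
        intro h hh
        have : g⁻¹ * h * g⁻¹⁻¹ ∈ M' := ⟨h, hh, by simp [MulAut.conj_apply]⟩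
        rwa [e] at this
      intro h
      refine ⟨key h, fun hh => ?_⟩
      -- finite: conjugation is injective on L₀ of same card; use the inverse via normalizer of finite
      by_contra hcon
      -- use M' = L₀ and card argument: map is bijection so preimage also
      have hsub : L₀ ≤ L₀.comap (MulAut.conj g⁻¹).toMonoidHom := fun x hx => key x hx
      have hcard : Nat.card (L₀.comap (MulAut.conj g⁻¹).toMonoidHom) = Nat.card L₀ := by
        have := Subgroup.card_map_of_injective (K := L₀.comap (MulAut.conj g⁻¹).toMonoidHom) (f := (MulAut.conj g⁻¹).toMonoidHom) (MulAut.conj g⁻¹).injective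
        rw [Subgroup.map_comap_eq_self_of_surjective (MulAut.conj g⁻¹).surjective] at this
        exact this.symm
      have heq : L₀ = L₀.comap (MulAut.conj g⁻¹).toMonoidHom :=
        Subgroup.eq_of_le_of_card_ge hsub (le_of_eq hcard)
      apply hcon
      rw [heq]
      exact hh
    rw [h4] at hgn
    exact hg (by simpa using L₀.inv_mem hgn)
  refine ⟨h1, ?_, h3, h4, h5, ?_⟩
  · -- 2
    obtain ⟨P, hP⟩ := h3
    exact ((pCore_le_sylow P).trans (le_of_eq hP)).trans hT'L₀
  · -- 6
    intro hcomm g hg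
    have hYcomm : ∀ a ∈ Y, ∀ b ∈ Y, a * b = b * a := by
      intro a ha b hb
      have := hcomm.is_comm.comm (⟨a, ha⟩ : Y) ⟨b, hb⟩
      exact congrArg Subtype.val this
    apply le_antisymm
    · refine le_inf inf_le_left ?_
      intro z hz
      obtain ⟨hzY, w, hwY, hwz⟩ := hz
      -- z centralizes Y and Y^g, hence their join = ⊤
      have hcent : Y ⊔ Y.map (MulAut.conj g).toMonoidHom ≤ Subgroup.centralizer {z} := by
        refine sup_le ?_ ?_
        · intro y hy
          rw [Subgroup.mem_centralizer_singleton_iff]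
          exact hYcomm y hy z hzY
        · rintro _ ⟨y, hy, rfl⟩
          rw [Subgroup.mem_centralizer_singleton_iff]
          have hwz' : g * w * g⁻¹ = z := by simpa [MulAut.conj_apply] using hwz
          have := hYcomm y hy w hwY
          simp only [MulEquiv.coe_toMonoidHom, MulAut.conj_apply]
          rw [← hwz']
          calc g * y * g⁻¹ * (g * w * g⁻¹) = g * (y * w) * g⁻¹ := by group
            _ = g * (w * y) * g⁻¹ := by rw [this]
            _ = g * w * g⁻¹ * (g * y * g⁻¹) := by group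
      rw [h5 g hg] at hcent
      rw [Subgroup.mem_center_iff]
      intro x
      have := hcent (Subgroup.mem_top x)
      rw [Subgroup.mem_centralizer_singleton_iff] at this
      exact this
    · refine le_inf inf_le_left ?_
      rintro z ⟨hzY, hzZ⟩
      refine ⟨z, hzY, ?_⟩
      have hzZ : z ∈ Subgroup.center L := hzZ
      rw [Subgroup.mem_center_iff] at hzZ
      simp only [MulEquiv.coe_toMonoidHom, MulAut.conj_apply]
      rw [hzZ g]; group

end Cfsg.Agent.S2835
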