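import Cfsg.Statements.S2836
import Cfsg.Agent.S2835
import Cfsg.Agent.Helper47.YMin
import Cfsg.Agent.Helper48.StronglyEmbedded

set_option autoImplicit false
open Cfsg

namespace Cfsg.Agent.S2836

open Cfsg.Agent.Helper47 Cfsg.Agent.Helper48

/-- Let L be a finite group, L₀ a maximal subgroup, T a Sylow p-subgroup of L₀, Y ≤ T, and suppose L is Y-minimal. Let D be the intersection of the conjugates of L₀ (the core of L₀). Then D contains O_p(L) and D/O_p(L) is the Frattini subgroup of L/O_p(L), so D is p-closed; and every normal subgroup N of L contained in L₀ is p-closed with N/O_p(N) a nilpotent group of order prime to p. -/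
theorem result {L : Type*} [Group L] [Finite L] {p : ℕ} [Fact p.Prime] (L₀ : Subgroup L) (hL₀ : IsCoatom L₀) (T : Sylow p ↥L₀) (Y : Subgroup L) (hYT : Y ≤ (T : Subgroup ↥L₀).map L₀.subtype) (hmin : Cfsg.IsMinimalOver Y) : (Cfsg.pCore p L ≤ L₀.normalCore ∧ (L₀.normalCore).map (QuotientGroup.mk' (Cfsg.pCore p L)) = frattini (L ⧸ Cfsg.pCore p L) ∧ Cfsg.IsPClosed p ↥(L₀.normalCore)) ∧ ∀ (N : Subgroup L) [N.Normal], N ≤ L₀ → Cfsg.IsPClosed p ↥N ∧ Group.IsNilpotent (↥N ⧸ Cfsg.pCore p ↥N) ∧ (Nat.card (↥N ⧸ Cfsg.pCore p ↥N)).Coprime p := by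
  have hp : Fact p.Prime := inferInstance
  obtain ⟨-, h2, ⟨P, hP⟩, -, -, -⟩ := Cfsg.Agent.S2835.result L₀ hL₀ T Y hYT hmin
  have hPL₀ : (P : Subgroup L) ≤ L₀ := by rw [hP]; exact Subgroup.map_subtype_le _
  have hYP : Y ≤ (P : Subgroup L) := by rw [hP]; exact hYT
  have hYL₀ : Y ≤ L₀ := hYP.trans hPL₀
  have hM : IsCoatom L₀ ∧ Y ≤ L₀ := ⟨hL₀, hYL₀⟩
  set Q : Subgroup L := Cfsg.pCore p L with hQ
  have hQP : Q ≤ (P : Subgroup L) := Cfsg.Agent.Helper46.pCore_le_sylow P
  set D : Subgroup L := L₀.normalCore with hD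
  have hDn : D.Normal := Subgroup.normalCore_normal L₀
  have hDL₀ : D ≤ L₀ := Subgroup.normalCore_le L₀
  have hQD : Q ≤ D := (Subgroup.normal_le_normalCore).mpr h2
  -- Step A: Frattini argument
  have hA : ∀ N : Subgroup L, N.Normal → N ≤ L₀ → ((P : Subgroup L) ⊓ N).Normal := by
    intro N hN hNL₀
    have := hN
    have hsyl := Cfsg.Agent.Helper49.isSylowOf_inf_of_normal P N
    have hfrat := Sylow.normalizer_sup_eq_top hsyl.toSylow
    rw [hsyl.map_toSylow] at hfrat
    have hPN : (P : Subgroup L) ≤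
        Subgroup.normalizer ((((P : Subgroup L) ⊓ N : Subgroup L)) : Set L) := by
      intro a ha
      have ha' : a ∈ (P : Subgroup L) := ha
      have hai : a⁻¹ ∈ (P : Subgroup L) := (P : Subgroup L).inv_mem ha'
      rw [Subgroup.mem_normalizer_iff]
      intro x
      constructor
      · intro hx
        exact ⟨(P : Subgroup L).mul_mem ((P : Subgroup L).mul_mem ha' hx.1) hai,
          hN.conj_mem x hx.2 a⟩
      · intro hx
        have h1' : a⁻¹ * (a * x * a⁻¹) * a⁻¹⁻¹ ∈ (P : Subgroup L) ⊓ N :=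
          ⟨(P : Subgroup L).mul_mem ((P : Subgroup L).mul_mem hai hx.1)
            ((P : Subgroup L).inv_mem hai), hN.conj_mem _ hx.2 a⁻¹⟩
        have e : a⁻¹ * (a * x * a⁻¹) * a⁻¹⁻¹ = x := by group
        rwa [e] at h1'
    have htop : Subgroup.normalizer ((((P : Subgroup L) ⊓ N : Subgroup L)) : Set L) = ⊤ := by
      by_contra hne
      have hle := IsMinimalOver.le_of_ne_top hmin hM (hYP.trans hPN) hne
      apply hL₀.1
      rw [eq_top_iff, ← hfrat]
      exact sup_le hle hNL₀
    exact Subgroup.normalizer_eq_top_iff.mp htop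
  have hA' : ∀ N : Subgroup L, N.Normal → N ≤ L₀ → (P : Subgroup L) ⊓ N ≤ Q := by
    intro N hN hNL₀
    exact Cfsg.Agent.Helper46.le_pCore (hA N hN hNL₀) (P.isPGroup'.to_inf_left)
  -- Step B: every maximal subgroup containing `Q` contains `D`
  have hB : ∀ M : Subgroup L, IsCoatom M → Q ≤ M → D ≤ M := by
    intro M hMco hQM
    by_contra hDM
    have hsup : M ⊔ D = ⊤ := by
      apply hMco.2
      refine lt_of_le_of_ne le_sup_left (fun e => hDM ?_)
      rw [e]; exact le_sup_right
    have hidx : ¬ p ∣ M.index := by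
      have e1 : M.index = M.relIndex D := by
        rw [← Subgroup.relIndex_top_right, ← hsup,
          Cfsg.Agent.Helper49.relIndex_sup_eq_of_normal]
      have hsylD := Cfsg.Agent.Helper49.isSylowOf_inf_of_normal P D
      have e2 : M.relIndex D ∣ ((P : Subgroup L) ⊓ D).relIndex D := by
        rw [← Subgroup.inf_relIndex_right M D]
        apply Subgroup.relIndex_dvd_of_le_left
        exact le_inf ((hA' D hDn hDL₀).trans hQM) inf_le_right
      intro hdvd
      exact hsylD.2.2 ((e1 ▸ hdvd).trans e2)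
    obtain ⟨S⟩ : Nonempty (Sylow p M) := inferInstance
    have hSp : IsPGroup p ((S : Subgroup M).map M.subtype) := S.isPGroup'.map _
    have hSidx : ¬ p ∣ ((S : Subgroup M).map M.subtype).index := by
      rw [Subgroup.index_map_subtype]
      intro hdvd
      rcases (Nat.Prime.dvd_mul hp.out).mp hdvd with h | h
      · exact S.not_dvd_index h
      · exact hidx h
    obtain ⟨h, -, hh⟩ := exists_conj_le_sylow (H := ⊤) (hSp.toSylow hSidx) le_top
      (Q := (P : Subgroup L)) le_top P.isPGroup'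
    have hPM : conjSub h (P : Subgroup L) ≤ M := by
      refine hh.trans ?_
      show (S : Subgroup M).map M.subtype ≤ M
      exact Subgroup.map_subtype_le _
    -- `Y ≤ M' := conjSub h⁻¹ M`
    have hYM' : Y ≤ conjSub h⁻¹ M := by
      intro y hy
      rw [mem_conjSub]
      have := hPM (conj_mem_conjSub (g := h) (hYP hy))
      simpa using this
    have hM'co : IsCoatom (conjSub h⁻¹ M) := by
      refine isCoatom_map_of_ker_le (f := (MulAut.conj h⁻¹).toMonoidHom)
        (MulAut.conj h⁻¹).surjective ?_ hMco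
      have : (MulAut.conj h⁻¹).toMonoidHom.ker = ⊥ :=
        (MonoidHom.ker_eq_bot_iff _).mpr (MulAut.conj h⁻¹).injective
      rw [this]; exact bot_le
    obtain ⟨M₀, -, huniq⟩ := hmin.2
    have e1 : conjSub h⁻¹ M = M₀ := huniq _ ⟨hM'co, hYM'⟩
    have e2 : L₀ = M₀ := huniq L₀ hM
    apply hDM
    intro d hd
    have hd' : h⁻¹ * d * h⁻¹⁻¹ ∈ D := hDn.conj_mem d hd h⁻¹
    have hd'' : h⁻¹ * d * h⁻¹⁻¹ ∈ conjSub h⁻¹ M := by
      rw [e1, ← e2]; exact hDL₀ hd'
    rw [mem_conjSub] at hd''
    have e : h⁻¹⁻¹ * (h⁻¹ * d * h⁻¹⁻¹) * h⁻¹ = d := by group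
    rwa [e] at hd''
  -- Step C: the Frattini quotient
  have hπs : Function.Surjective (QuotientGroup.mk' Q) := QuotientGroup.mk'_surjective Q
  have hker : (QuotientGroup.mk' Q).ker = Q := QuotientGroup.ker_mk' Q
  have hC : D.map (QuotientGroup.mk' Q) = frattini (L ⧸ Q) := by
    apply le_antisymm
    · simp_rw [frattini, Order.radical, le_iInf_iff]
      intro M hM
      rw [Subgroup.map_le_iff_le_comap]
      apply hB _ (Subgroup.isCoatom_comap_of_surjective hπs hM)
      have := Subgroup.ker_le_comap (QuotientGroup.mk' Q) M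
      rwa [hker] at this
    · have hFL₀ : (frattini (L ⧸ Q)).comap (QuotientGroup.mk' Q) ≤ L₀ := by
        have hco : IsCoatom (L₀.map (QuotientGroup.mk' Q)) :=
          isCoatom_map_of_ker_le hπs (hker.le.trans h2) hL₀
        have := frattini_le_coatom hco
        calc (frattini (L ⧸ Q)).comap (QuotientGroup.mk' Q)
            ≤ (L₀.map (QuotientGroup.mk' Q)).comap (QuotientGroup.mk' Q) :=
              Subgroup.comap_mono this
          _ = L₀ := Subgroup.comap_map_eq_self (hker.le.trans h2)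
      have hFD : (frattini (L ⧸ Q)).comap (QuotientGroup.mk' Q) ≤ D :=
        (Subgroup.normal_le_normalCore).mpr hFL₀
      calc frattini (L ⧸ Q)
          = ((frattini (L ⧸ Q)).comap (QuotientGroup.mk' Q)).map (QuotientGroup.mk' Q) :=
            (Subgroup.map_comap_eq_self_of_surjective hπs _).symm
        _ ≤ D.map (QuotientGroup.mk' Q) := Subgroup.map_mono hFD
  -- Step D: normal subgroups inside `L₀`
  have hN : ∀ (N : Subgroup L) [N.Normal], N ≤ L₀ → Cfsg.IsPClosed p ↥N ∧
      Group.IsNilpotent (↥N ⧸ Cfsg.pCore p ↥N) ∧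
      (Nat.card (↥N ⧸ Cfsg.pCore p ↥N)).Coprime p := by
    intro N hNn hNL₀
    have hsyl := Cfsg.Agent.Helper49.isSylowOf_inf_of_normal P N
    have hSn : (hsyl.toSylow : Subgroup N).Normal := by
      rw [hsyl.coe_toSylow]
      have := hA N hNn hNL₀
      infer_instance
    refine ⟨isPClosed_of_normal_sylow hsyl.toSylow hSn, ?_,
      card_quotient_pCore_coprime_of_normal_sylow hsyl.toSylow hSn⟩
    have hND : N ≤ D := (Subgroup.normal_le_normalCore).mpr hNL₀
    have : Group.IsNilpotent (frattini (L ⧸ Q)) := frattini_nilpotent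
    let φ : N →* frattini (L ⧸ Q) :=
      ((QuotientGroup.mk' Q).comp N.subtype).codRestrict (frattini (L ⧸ Q)) (fun n => by
        rw [← hC]; exact Subgroup.mem_map_of_mem (QuotientGroup.mk' Q) (hND n.2))
    apply isNilpotent_quotient_of_eq_ker φ
    rw [pCore_eq_of_normal_sylow hsyl.toSylow hSn, hsyl.coe_toSylow]
    ext n
    rw [Subgroup.mem_subgroupOf, MonoidHom.mem_ker]
    constructor
    · intro hn
      have hnQ : (n : L) ∈ Q := hA' N hNn hNL₀ hn
      apply Subtype.ext
      show (QuotientGroup.mk' Q) (n : L) = 1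
      rw [← MonoidHom.mem_ker, hker]; exact hnQ
    · intro hn
      have h1 : (QuotientGroup.mk' Q) (n : L) = 1 := congrArg Subtype.val hn
      have hnQ : (n : L) ∈ Q := by rw [← hker]; exact h1
      exact ⟨hQP hnQ, n.2⟩
  exact ⟨⟨hQD, hC, (hN D hDL₀).1⟩, fun N _ hNL₀ => hN N hNL₀⟩

end Cfsg.Agent.S2836
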