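import Cfsg.Statements.S2837
import Cfsg.Agent.S2835
import Cfsg.Agent.Helper47.Frattini
import Cfsg.Agent.Helper47.Comm
import Cfsg.Agent.Helper47.Comm2
import Cfsg.Agent.Helper47.YL
import Cfsg.Agent.Helper47.WeaklyClosed
import Cfsg.Agent.Helper2.Basic

set_option autoImplicit false
open Cfsg

namespace Cfsg.Agent.S2837

open Cfsg.Agent.Helper47 Cfsg.Agent.Helper48 Cfsg.Agent.Helper51
open scoped commutatorElement

/-- If `Y` is abelian and `Q` is a normal subgroup normalizing `Y`, then `[Q, Y] ⊆ Q ∩ Y`. -/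
theorem commutator_mem_inf {L : Type*} [Group L] {Q Y : Subgroup L} (hQ : Q.Normal)
    (hQY : Q ≤ Subgroup.normalizer (Y : Set L)) {q y : L} (hq : q ∈ Q) (hy : y ∈ Y) :
    ⁅q, y⁆ ∈ Q ⊓ Y := by
  refine ⟨?_, ?_⟩
  · rw [commutatorElement_def]
    have h1 : y * q⁻¹ * y⁻¹ ∈ Q := hQ.conj_mem _ (Q.inv_mem hq) y
    have e : q * y * q⁻¹ * y⁻¹ = q * (y * q⁻¹ * y⁻¹) := by group
    rw [e]; exact Q.mul_mem hq h1
  · rw [commutatorElement_def]
    have h1 : q * y * q⁻¹ ∈ Y := (Subgroup.mem_normalizer_iff.mp (hQY hq) y).mp hy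
    exact Y.mul_mem h1 (Y.inv_mem hy)

/-- The key structural statement: `Y₀ ⊔ Y₁` is normalized by `Y` when `[Y₁, Y] ⊆ Y₀`. -/
theorem le_normalizer_sup_of_commutator {L : Type*} [Group L] [Finite L] {Y Y₀ Y₁ : Subgroup L}
    (hY₀ : Y ≤ Subgroup.normalizer (Y₀ : Set L))
    (hc : ∀ y ∈ Y, ∀ z ∈ Y₁, ⁅y, z⁆ ∈ Y₀) :
    Y ≤ Subgroup.normalizer ((Y₀ ⊔ Y₁ : Subgroup L) : Set L) := by
  intro a ha
  apply mem_normalizer_of_conjSub_le
  show (Y₀ ⊔ Y₁).map (MulAut.conj a).toMonoidHom ≤ _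
  rw [Subgroup.map_sup]
  refine sup_le ?_ ?_
  · have : conjSub a Y₀ = Y₀ := conjSub_eq_self_iff.mpr (hY₀ ha)
    exact (le_of_eq this).trans le_sup_left
  · rintro _ ⟨z, hz, rfl⟩
    simp only [MulEquiv.coe_toMonoidHom, MulAut.conj_apply]
    have e : a * z * a⁻¹ = ⁅a, z⁆ * z := by rw [commutatorElement_def]; group
    rw [e]
    exact Subgroup.mul_mem _ ((le_sup_left : Y₀ ≤ Y₀ ⊔ Y₁) (hc a ha z hz))
      ((le_sup_right : Y₁ ≤ Y₀ ⊔ Y₁) hz)

/-- Let L be a finite group of characteristic p, L₀ a maximal subgroup, Y an elementary abelian p-subgroup of L₀ with L Y-minimal and O_p(L) ≤ N_L(Y). Put A = the normal closure of O_p(L) ∩ Y in L. Then for every g ∈ L outside L₀: Φ(A) = A' = [A ∩ Y, A] = [A ∩ Y, A ∩ gYg⁻¹] ≤ C_Y(L), and Y ∩ gYg⁻¹ = (A ∩ Y) ∩ (A ∩ gYg⁻¹) = C_Y(L) = C_A(L). -/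
theorem result {L : Type*} [Group L] [Finite L] {p : ℕ} [Fact p.Prime] (hchar : Subgroup.centralizer (Cfsg.pCore p L : Set L) ≤ Cfsg.pCore p L) (L₀ : Subgroup L) (hL₀ : IsCoatom L₀) (Y : Subgroup L) (hYL₀ : Y ≤ L₀) (hYel : Cfsg.IsElementaryAbelian p Y) (hmin : Cfsg.IsMinimalOver Y) (hOY : Cfsg.pCore p L ≤ Subgroup.normalizer (Y : Set L)) (A : Subgroup L) (hA : A = Subgroup.normalClosure (((Cfsg.pCore p L ⊓ Y : Subgroup L)) : Set L)) (g : L) (hg : g ∉ L₀) : (frattini ↥A).map A.subtype = ⁅A, A⁆ ∧ ⁅A, A⁆ = ⁅A ⊓ Y, A⁆ ∧ ⁅A ⊓ Y, A⁆ = ⁅A ⊓ Y, A ⊓ Y.map (MulAut.conj g).toMonoidHom⁆ ∧ ⁅A ⊓ Y, A⁆ ≤ Y ⊓ Subgroup.center L ∧ Y ⊓ Y.map (MulAut.conj g).toMonoidHom = Y ⊓ Subgroup.center L ∧ (A ⊓ Y) ⊓ (A ⊓ Y.map (MulAut.conj g).toMonoidHom) = Y ⊓ Subgroup.center L ∧ A ⊓ Subgroup.center L = Y ⊓ Subgroup.center L := by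
  have hp : Fact p.Prime := inferInstance
  have hYp : IsPGroup p Y := Cfsg.Agent.Lib.isElementaryAbelian_isPGroup hYel
  -- a Sylow subgroup of `L₀` containing `Y`
  obtain ⟨T, hT⟩ := (hYp.comap_subtype (K := L₀)).exists_le_sylow
  have hYT : Y ≤ (T : Subgroup ↥L₀).map L₀.subtype := by
    intro y hy
    exact ⟨⟨y, hYL₀ hy⟩, hT (show (⟨y, hYL₀ hy⟩ : L₀) ∈ Y.comap L₀.subtype from hy), rfl⟩
  obtain ⟨-, -, -, -, h5, h6⟩ := Cfsg.Agent.S2835.result L₀ hL₀ T Y hYT hmin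
  have hgen := h5 g hg
  have hint := h6 hYel.1 g hg
  have hYc : ∀ a ∈ Y, ∀ b ∈ Y, a * b = b * a := by
    intro a ha b hb
    have := hYel.1.is_comm.comm (⟨a, ha⟩ : Y) ⟨b, hb⟩
    exact congrArg Subtype.val this
  have hQn : (Cfsg.pCore p L).Normal := inferInstance
  have hQp : IsPGroup p (Cfsg.pCore p L) := Cfsg.Agent.Lib.isPGroup_pCore p
  -- the conjugate `Yg`
  have hYgc : ∀ a ∈ conjSub g Y, ∀ b ∈ conjSub g Y, a * b = b * a := by
    rintro _ ⟨a, ha, rfl⟩ _ ⟨b, hb, rfl⟩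
    rw [← map_mul, ← map_mul, hYc a ha b hb]
  have hQYg : Cfsg.pCore p L ≤ Subgroup.normalizer ((conjSub g Y : Subgroup L) : Set L) := by
    rw [normalizer_conjSub]
    have h1 : conjSub g (Cfsg.pCore p L) = Cfsg.pCore p L :=
      conjSub_eq_self_iff.mpr (by rw [Subgroup.normalizer_eq_top_iff.mpr hQn]; trivial)
    calc Cfsg.pCore p L = conjSub g (Cfsg.pCore p L) := h1.symm
      _ ≤ conjSub g (Subgroup.normalizer (Y : Set L)) := Subgroup.map_mono hOY
  -- the subgroup `A₁ = Y₀ ⊔ Y₀g` is normal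
  have hYn0 : Y ≤ Subgroup.normalizer ((Cfsg.pCore p L ⊓ Y : Subgroup L) : Set L) := by
    refine (le_inf ?_ Subgroup.le_normalizer).trans Subgroup.inf_normalizer_le_normalizer_inf
    rw [Subgroup.normalizer_eq_top_iff.mpr hQn]; exact le_top
  have hYgn0 : conjSub g Y ≤
      Subgroup.normalizer ((Cfsg.pCore p L ⊓ conjSub g Y : Subgroup L) : Set L) := by
    refine (le_inf ?_ Subgroup.le_normalizer).trans Subgroup.inf_normalizer_le_normalizer_inf
    rw [Subgroup.normalizer_eq_top_iff.mpr hQn]; exact le_top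
  have hc1 : ∀ y ∈ Y, ∀ z ∈ Cfsg.pCore p L ⊓ conjSub g Y, ⁅y, z⁆ ∈ Cfsg.pCore p L ⊓ Y := by
    intro y hy z hz
    have h1 := commutator_mem_inf hQn hOY hz.1 hy
    rw [← commutatorElement_inv]
    exact Subgroup.inv_mem _ h1
  have hc2 : ∀ y ∈ conjSub g Y, ∀ z ∈ Cfsg.pCore p L ⊓ Y, ⁅y, z⁆ ∈ Cfsg.pCore p L ⊓ conjSub g Y := by
    intro y hy z hz
    have h1 := commutator_mem_inf hQn hQYg hz.1 hy
    rw [← commutatorElement_inv]
    exact Subgroup.inv_mem _ h1
  have hN1 := le_normalizer_sup_of_commutator hYn0 hc1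
  have hN2 := le_normalizer_sup_of_commutator hYgn0 hc2
  rw [sup_comm] at hN2
  have hA1n : ((Cfsg.pCore p L ⊓ Y) ⊔ (Cfsg.pCore p L ⊓ conjSub g Y)).Normal := by
    apply Subgroup.normalizer_eq_top_iff.mp
    rw [eq_top_iff, ← hgen]
    exact sup_le hN1 hN2
  -- `A = A₁`
  have hY0g : Cfsg.pCore p L ⊓ conjSub g Y = conjSub g (Cfsg.pCore p L ⊓ Y) := by
    rw [show conjSub g (Cfsg.pCore p L ⊓ Y) = conjSub g (Cfsg.pCore p L) ⊓ conjSub g Y from
      cj_inf g _ _]
    have h1 : conjSub g (Cfsg.pCore p L) = Cfsg.pCore p L :=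
      conjSub_eq_self_iff.mpr (by rw [Subgroup.normalizer_eq_top_iff.mpr hQn]; trivial)
    rw [h1]
  have hAeq : A = (Cfsg.pCore p L ⊓ Y) ⊔ (Cfsg.pCore p L ⊓ conjSub g Y) := by
    rw [hA]
    apply le_antisymm
    · exact Subgroup.normalClosure_le_normal (N := _)
        (fun x hx => (le_sup_left : Cfsg.pCore p L ⊓ Y ≤ _ ⊔ _) hx)
    · refine sup_le Subgroup.le_normalClosure ?_
      rw [hY0g]
      rintro _ ⟨x, hx, rfl⟩
      simp only [MulEquiv.coe_toMonoidHom, MulAut.conj_apply]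
      exact (Subgroup.normalClosure_normal).conj_mem x (Subgroup.le_normalClosure hx) g
  have hAQ : A ≤ Cfsg.pCore p L := by
    rw [hAeq]; exact sup_le inf_le_left inf_le_left
  have hAY : A ⊓ Y = Cfsg.pCore p L ⊓ Y := by
    apply le_antisymm
    · exact inf_le_inf_right _ hAQ
    · refine le_inf ?_ inf_le_right
      rw [hAeq]; exact le_sup_left
  have hAYg : A ⊓ conjSub g Y = Cfsg.pCore p L ⊓ conjSub g Y := by
    apply le_antisymm
    · exact inf_le_inf_right _ hAQ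
    · refine le_inf ?_ inf_le_right
      rw [hAeq]; exact le_sup_right
  -- the commutator `C = [Y₀, Y₀g]`
  have hCle : ⁅Cfsg.pCore p L ⊓ Y, Cfsg.pCore p L ⊓ conjSub g Y⁆ ≤ Y ⊓ Subgroup.center L := by
    rw [← hint, Subgroup.commutator_le]
    intro y hy z hz
    exact ⟨(hc2 z hz.2 y hy |> fun h => by
        have h1 : ⁅y, z⁆ = ⁅z, y⁆⁻¹ := (commutatorElement_inv z y).symm
        rw [h1]
        exact Subgroup.inv_mem _ ((commutator_mem_inf hQn hOY hz.1 hy.2).2)),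
      (commutator_mem_inf hQn hQYg hy.1 hz.2).2⟩
  have hab0 : ⁅Cfsg.pCore p L ⊓ Y, Cfsg.pCore p L ⊓ Y⁆ = ⊥ := by
    rw [Subgroup.commutator_eq_bot_iff_le_centralizer]
    intro a ha
    rw [Subgroup.mem_centralizer_iff]
    intro b hb
    exact hYc b hb.2 a ha.2
  have hab1 : ⁅Cfsg.pCore p L ⊓ conjSub g Y, Cfsg.pCore p L ⊓ conjSub g Y⁆ = ⊥ := by
    rw [Subgroup.commutator_eq_bot_iff_le_centralizer]
    intro a ha
    rw [Subgroup.mem_centralizer_iff]
    intro b hb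
    exact hYgc b hb.2 a ha.2
  have hY0A : ⁅Cfsg.pCore p L ⊓ Y, A⁆ ≤ ⁅Cfsg.pCore p L ⊓ Y, Cfsg.pCore p L ⊓ conjSub g Y⁆ := by
    rw [hAeq]
    apply commutator_sup_right_le
    · rw [hab0]; exact bot_le
    · exact le_rfl
    · exact le_normalizer_commutator_left _ _
    · exact le_normalizer_commutator_right _ _
  have hY1A : ⁅Cfsg.pCore p L ⊓ conjSub g Y, A⁆ ≤
      ⁅Cfsg.pCore p L ⊓ Y, Cfsg.pCore p L ⊓ conjSub g Y⁆ := by
    rw [hAeq]
    apply commutator_sup_right_le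
    · rw [Subgroup.commutator_comm]
    · rw [hab1]; exact bot_le
    · exact le_normalizer_commutator_left _ _
    · exact le_normalizer_commutator_right _ _
  have hAA : ⁅A, A⁆ ≤ ⁅Cfsg.pCore p L ⊓ Y, Cfsg.pCore p L ⊓ conjSub g Y⁆ := by
    have h : ⁅A, (Cfsg.pCore p L ⊓ Y) ⊔ (Cfsg.pCore p L ⊓ conjSub g Y)⁆ ≤
        ⁅Cfsg.pCore p L ⊓ Y, Cfsg.pCore p L ⊓ conjSub g Y⁆ := by
      apply commutator_sup_right_le
      · rw [Subgroup.commutator_comm]; exact hY0A
      · rw [Subgroup.commutator_comm]; exact hY1A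
      · exact le_normalizer_commutator_left _ _
      · exact le_normalizer_commutator_right _ _
    rwa [← hAeq] at h
  have hCA : ⁅Cfsg.pCore p L ⊓ Y, Cfsg.pCore p L ⊓ conjSub g Y⁆ ≤ ⁅Cfsg.pCore p L ⊓ Y, A⁆ := by
    apply Subgroup.commutator_mono le_rfl
    rw [hAeq]; exact le_sup_right
  have hY0AA : ⁅Cfsg.pCore p L ⊓ Y, A⁆ ≤ ⁅A, A⁆ := by
    apply Subgroup.commutator_mono _ le_rfl
    rw [hAeq]; exact le_sup_left
  have e23 : ⁅Cfsg.pCore p L ⊓ Y, A⁆ = ⁅Cfsg.pCore p L ⊓ Y, Cfsg.pCore p L ⊓ conjSub g Y⁆ :=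
    le_antisymm hY0A hCA
  have e12 : ⁅A, A⁆ = ⁅Cfsg.pCore p L ⊓ Y, A⁆ :=
    le_antisymm (hAA.trans hCA) hY0AA
  -- `Y ∩ Z(L) ≤ O_p(L)`
  have hZQ : Y ⊓ Subgroup.center L ≤ Cfsg.pCore p L := by
    apply Cfsg.Agent.Lib.le_pCore
    · refine ⟨fun n hn x => ?_⟩
      have hnc : n ∈ Subgroup.center L := hn.2
      have : x * n * x⁻¹ = n := by
        rw [Subgroup.mem_center_iff] at hnc
        rw [hnc x, mul_inv_cancel_right]
      rw [this]; exact hn
    · exact hYp.to_le inf_le_left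
  have hZY0 : Y ⊓ Subgroup.center L ≤ Cfsg.pCore p L ⊓ Y := le_inf hZQ inf_le_left
  have hZY1 : Y ⊓ Subgroup.center L ≤ Cfsg.pCore p L ⊓ conjSub g Y :=
    le_inf hZQ (hint ▸ inf_le_right)
  -- the Frattini subgroup
  have hAp : IsPGroup p A := hQp.to_le hAQ
  have hfr : frattini ↥A = commutator ↥A := by
    apply le_antisymm
    · apply frattini_le_of_commutator_pow_mem (p := p)
      · intro a b
        rw [commutator_def]
        exact Subgroup.commutator_mem_commutator (Subgroup.mem_top a) (Subgroup.mem_top b)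
      · intro a
        have ha : (a : L) ∈ (Cfsg.pCore p L ⊓ Y) ⊔ (Cfsg.pCore p L ⊓ conjSub g Y) := by
          rw [← hAeq]; exact a.2
        have hnorm : Cfsg.pCore p L ⊓ Y ≤ Subgroup.normalizer
            ((Cfsg.pCore p L ⊓ conjSub g Y : Subgroup L) : Set L) := by
          refine (le_inf ?_ (inf_le_left.trans hQYg)).trans
            Subgroup.inf_normalizer_le_normalizer_inf
          rw [Subgroup.normalizer_eq_top_iff.mpr hQn]; exact le_top
        obtain ⟨y, hy, z, hz, e⟩ := exists_mul_of_mem_sup hnorm ha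
        have hyA : y ∈ A := by
          rw [hAeq]
          exact (le_sup_left : Cfsg.pCore p L ⊓ Y ≤
            (Cfsg.pCore p L ⊓ Y) ⊔ (Cfsg.pCore p L ⊓ conjSub g Y)) hy
        have hzA : z ∈ A := by
          rw [hAeq]
          exact (le_sup_right : Cfsg.pCore p L ⊓ conjSub g Y ≤
            (Cfsg.pCore p L ⊓ Y) ⊔ (Cfsg.pCore p L ⊓ conjSub g Y)) hz
        have hyp : y ^ p = 1 := hYel.2 y hy.2
        have hzp : z ^ p = 1 := by
          obtain ⟨w, hw, rfl⟩ := hz.2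
          rw [← map_pow, hYel.2 w hw, map_one]
        have ea : a = (⟨y, hyA⟩ : A) * ⟨z, hzA⟩ := Subtype.ext e
        rw [← Abelianization.ker_of, MonoidHom.mem_ker, map_pow, ea, map_mul, mul_pow,
          ← map_pow, ← map_pow]
        have h1 : (⟨y, hyA⟩ : A) ^ p = 1 := Subtype.ext (by simpa using hyp)
        have h2 : (⟨z, hzA⟩ : A) ^ p = 1 := Subtype.ext (by simpa using hzp)
        rw [h1, h2, map_one, one_mul]
    · have : Group.IsNilpotent ↥A := hAp.isNilpotent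
      exact Cfsg.Agent.Helper2.commutator_le_frattini
  refine ⟨?_, ?_, ?_, ?_, hint, ?_, ?_⟩
  · rw [hfr, Subgroup.map_subtype_commutator]
  · rw [hAY]; exact e12
  · show ⁅A ⊓ Y, A⁆ = ⁅A ⊓ Y, A ⊓ conjSub g Y⁆
    rw [hAY, hAYg]; exact e23
  · rw [hAY]; exact hY0A.trans hCle
  · show (A ⊓ Y) ⊓ (A ⊓ conjSub g Y) = Y ⊓ Subgroup.center L
    rw [hAY, hAYg]
    apply le_antisymm
    · rw [← hint]
      exact inf_le_inf inf_le_right inf_le_right
    · exact le_inf hZY0 hZY1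
  · apply le_antisymm
    · intro a ha
      refine ⟨?_, ha.2⟩
      have hac : a ∈ Subgroup.center L := ha.2
      rw [Subgroup.mem_center_iff] at hac
      have ha' : a ∈ (Cfsg.pCore p L ⊓ Y) ⊔ (Cfsg.pCore p L ⊓ conjSub g Y) := by
        rw [← hAeq]; exact ha.1
      have hnorm : Cfsg.pCore p L ⊓ Y ≤ Subgroup.normalizer
          ((Cfsg.pCore p L ⊓ conjSub g Y : Subgroup L) : Set L) := by
        refine (le_inf ?_ (inf_le_left.trans hQYg)).trans
          Subgroup.inf_normalizer_le_normalizer_inf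
        rw [Subgroup.normalizer_eq_top_iff.mpr hQn]; exact le_top
      obtain ⟨y, hy, z, hz, e⟩ := exists_mul_of_mem_sup hnorm ha'
      -- `z` centralizes `Y` and `Yg`
      have hzY : Y ≤ Subgroup.centralizer ({z} : Set L) := by
        intro u hu
        rw [Subgroup.mem_centralizer_singleton_iff]
        have h1 := hac u
        rw [e] at h1
        -- u * (y * z) = (y * z) * u, and u y = y u
        have h2 := hYc u hu y hy.2
        have h3 : y * (u * z) = y * (z * u) := by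
          calc y * (u * z) = (y * u) * z := by group
            _ = (u * y) * z := by rw [h2]
            _ = u * (y * z) := by group
            _ = y * z * u := h1
            _ = y * (z * u) := by group
        exact mul_left_cancel h3
      have hzYg : conjSub g Y ≤ Subgroup.centralizer ({z} : Set L) := by
        intro u hu
        rw [Subgroup.mem_centralizer_singleton_iff]
        exact hYgc u hu z hz.2
      have hztop : (⊤ : Subgroup L) ≤ Subgroup.centralizer ({z} : Set L) := by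
        rw [← hgen]; exact sup_le hzY hzYg
      have hzc : z ∈ Subgroup.center L := by
        rw [Subgroup.mem_center_iff]
        intro x
        have := hztop (Subgroup.mem_top x)
        rw [Subgroup.mem_centralizer_singleton_iff] at this
        exact this
      -- so `z ∈ Y`
      have hzY' : z ∈ Y := by
        obtain ⟨w, hw, hwz⟩ := hz.2
        simp only [MulEquiv.coe_toMonoidHom, MulAut.conj_apply] at hwz
        rw [Subgroup.mem_center_iff] at hzc
        have : w = z := by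
          have h1 : g * w = z * g := by rw [← hwz]; group
          rw [← hzc g] at h1
          exact mul_left_cancel h1
        rw [← this]; exact hw
      rw [e]; exact Y.mul_mem hy.2 hzY'
    · refine le_inf ?_ inf_le_right
      rw [hAeq]
      exact hZY0.trans le_sup_left

end Cfsg.Agent.S2837
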