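import Cfsg.Statements.S2838
import Cfsg.Agent.Helper47.WeaklyClosed

set_option autoImplicit false
open Cfsg

namespace Cfsg.Agent.S2838

open Cfsg.Agent.Helper47 Cfsg.Agent.Helper48 Cfsg.Agent.Helper51

theorem result {H : Type*} [Group H] [Finite H] {p : ℕ} [Fact p.Prime] (Q : Subgroup H) (hQp : IsPGroup p ↥Q) (hQ1 : Q ≠ ⊥) : (Cfsg.IsWeaklyClosedSubgroup p Q ↔ ∀ g : H, ⁅Q, ((Q : Subgroup H).map (MulAut.conj (g : H)).toMonoidHom)⁆ ≤ Q ⊓ ((Q : Subgroup H).map (MulAut.conj (g : H)).toMonoidHom) → ((Q : Subgroup H).map (MulAut.conj (g : H)).toMonoidHom) = Q) ∧ (Cfsg.IsWeaklyClosedSubgroup p Q ↔ ∀ R : Subgroup H, IsPGroup p ↥R → Q ≤ R → Subgroup.normalizer ((R : Subgroup H) : Set H) ≤ Subgroup.normalizer ((Q : Subgroup H) : Set H)) := by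
  -- (ii) → WC
  have h_ii : (∀ R : Subgroup H, IsPGroup p ↥R → Q ≤ R → Subgroup.normalizer ((R : Subgroup H) : Set H) ≤
      Subgroup.normalizer ((Q : Subgroup H) : Set H)) → Cfsg.IsWeaklyClosedSubgroup p Q := by
    intro h
    exact wc_of_normal_in_pgroups hQp (fun R hR hQR => Subgroup.le_normalizer.trans (h R hR hQR))
      (fun T hQT => h T T.2 hQT)
  refine ⟨⟨fun hwc g hg => ?_, fun h => ?_⟩, ⟨fun hwc R hR hQR => wc_normalizer_le hwc hR hQR, h_ii⟩⟩
  · -- WC → (i)
    have h1 : Q ≤ Subgroup.normalizer ((conjSub g Q : Subgroup H) : Set H) :=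
      Subgroup.le_normalizer_iff_commutator_le_right.mpr (hg.trans inf_le_right)
    have hR : IsPGroup p ↥(Q ⊔ conjSub g Q) := hQp.to_sup_of_normal_right' (isPGroup_conjSub hQp) h1
    exact wc_conj_eq_of_le hwc hR le_sup_left le_sup_right
  · -- (i) → WC
    -- first: Q is normal in every p-subgroup containing it
    have hn : ∀ R : Subgroup H, IsPGroup p R → Q ≤ R → R ≤ Subgroup.normalizer (Q : Set H) := by
      intro R hR hQR
      by_contra hle
      set N := R ⊓ Subgroup.normalizer (Q : Set H) with hN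
      have hNR : N < R := lt_of_le_of_ne inf_le_left (fun e => hle (e ▸ inf_le_right))
      have hlt := lt_inf_normalizer_of_lt hR hNR
      obtain ⟨r, hr, hrN⟩ := SetLike.exists_of_lt hlt
      have hrR : r ∈ R := hr.1
      have hrNN : r ∈ Subgroup.normalizer (N : Set H) := hr.2
      have hQN : Q ≤ N := le_inf hQR Subgroup.le_normalizer
      have hQrN : conjSub r Q ≤ N := by
        have : conjSub r N = N := conjSub_eq_self_iff.mpr hrNN
        rw [← this]; exact Subgroup.map_mono hQN
      -- Q^r normalizes Q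
      have hA : conjSub r Q ≤ Subgroup.normalizer (Q : Set H) := hQrN.trans inf_le_right
      -- Q normalizes Q^r
      have hB : Q ≤ Subgroup.normalizer ((conjSub r Q : Subgroup H) : Set H) := by
        rw [normalizer_conjSub]
        have : conjSub r N = N := conjSub_eq_self_iff.mpr hrNN
        calc Q ≤ N := hQN
          _ = conjSub r N := this.symm
          _ ≤ conjSub r (Subgroup.normalizer (Q : Set H)) := Subgroup.map_mono inf_le_right
      have hcomm : ⁅Q, conjSub r Q⁆ ≤ Q ⊓ conjSub r Q :=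
        le_inf (Subgroup.le_normalizer_iff_commutator_le_left.mp hA)
          (Subgroup.le_normalizer_iff_commutator_le_right.mp hB)
      have := h r hcomm
      exact hrN ⟨hrR, conjSub_eq_self_iff.mp this⟩
    obtain ⟨T, hQT⟩ := hQp.exists_le_sylow
    refine ⟨T, hQT, fun g hg => ?_⟩
    apply h g
    have hA : conjSub g Q ≤ Subgroup.normalizer (Q : Set H) := hg.trans (hn T T.2 hQT)
    have hB : Q ≤ Subgroup.normalizer ((conjSub g Q : Subgroup H) : Set H) := by
      rw [normalizer_conjSub]
      -- g⁻¹ T g ≥ Q is a p-group so normalizes Q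
      have h1 : conjSub g⁻¹ (T : Subgroup H) ≤ Subgroup.normalizer (Q : Set H) :=
        hn _ (isPGroup_conjSub T.2) ((cj_le_iff g Q T).mp hg)
      have h2 : (T : Subgroup H) ≤ conjSub g (Subgroup.normalizer (Q : Set H)) := by
        have := (cj_le_iff g⁻¹ (T : Subgroup H) _).mp h1
        rwa [inv_inv] at this
      exact hQT.trans h2
    exact le_inf (Subgroup.le_normalizer_iff_commutator_le_left.mp hA)
      (Subgroup.le_normalizer_iff_commutator_le_right.mp hB)

end Cfsg.Agent.S2838
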