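import Cfsg.Statements.S2839
import Cfsg.Agent.Helper47.WeaklyClosed2

set_option autoImplicit false
open Cfsg

namespace Cfsg.Agent.S2839

open Cfsg.Agent.Helper47 Cfsg.Agent.Helper48

theorem result {H : Type*} [Group H] [Finite H] {p : ℕ} [Fact p.Prime] (Q : Subgroup H) (hQp : IsPGroup p ↥Q) (hQ1 : Q ≠ ⊥) (hwc : Cfsg.IsWeaklyClosedSubgroup p Q) (K : Subgroup H) (hQK : Q ≤ K) (N' : Subgroup H) [N'.Normal] : Cfsg.IsWeaklyClosedSubgroup p (Q.subgroupOf K) ∧ (∀ g : H, ((Q : Subgroup H).map (MulAut.conj (g : H)).toMonoidHom) ≤ K → ∃ k ∈ K, ((Q : Subgroup H).map (MulAut.conj (g : H)).toMonoidHom) = ((Q : Subgroup H).map (MulAut.conj (k : H)).toMonoidHom)) ∧ Cfsg.IsParabolic p ((Subgroup.normalizer ((Q : Subgroup H) : Set H)).subgroupOf K) ∧ (N' ⊓ Subgroup.normalizer ((Q : Subgroup H) : Set H)) ⊔ (Cfsg.pResidual p ↥N').map N'.subtype = N' ∧ Cfsg.IsWeaklyClosedSubgroup p (Q.map (QuotientGroup.mk'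 N')) :=
  ⟨wc_subgroupOf hQp hwc hQK, fun _ hg => wc_exists_conj_in hQp hwc hQK hg,
    wc_parabolic hQp hwc hQK, wc_normal_factorization hQp hwc N', wc_quotient hQp hwc N'⟩

end Cfsg.Agent.S2839
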