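import Cfsg.Statements.S2841
import Cfsg.Agent.Helper47.WeaklyClosed2

set_option autoImplicit false
open Cfsg

namespace Cfsg.Agent.S2841

open Cfsg.Agent.Helper47 Cfsg.Agent.Helper48 Cfsg.Agent.Helper51
open scoped commutatorElement Pointwise

theorem result {H : Type*} [Group H] [Finite H] {p : ℕ} [Fact p.Prime] (Q : Subgroup H) (hQp : IsPGroup p ↥Q) (hQ1 : Q ≠ ⊥) (hwc : Cfsg.IsWeaklyClosedSubgroup p Q) (N' : Subgroup H) [N'.Normal] : (∀ n : H, n ∈ N' → ∃ a ∈ N' ⊓ Subgroup.normalizer ((Q : Subgroup H) : Set H), ∃ b ∈ ⁅N', Q⁆, n = a * b) ∧ (∀ c : H, c ∈ ⁅N', Q⁆ → ∃ a ∈ Q ⊓ ⁅N', Q⁆, ∃ b ∈ ⁅⁅N', Q⁆, Q⁆, c = a * b) := by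
  set N₁ := ⁅N', Q⁆ with hN₁
  have hN₁N' : N₁ ≤ N' := Subgroup.commutator_le_left _ _
  have hQN₁ : Q ≤ Subgroup.normalizer (N₁ : Set H) := Subgroup.normalizer_commutator_ge_right _ _
  have hN'N₁ : N' ≤ Subgroup.normalizer (N₁ : Set H) := Subgroup.normalizer_commutator_ge_left _ _
  -- general fact: a conjugate c q c⁻¹ lies in [A,Q] Q
  have conj_mem : ∀ (A : Subgroup H) (n : H), n ∈ A → conjSub n Q ≤ ⁅A, Q⁆ ⊔ Q := by
    intro A n hn x hx
    obtain ⟨q, hq, rfl⟩ := hx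
    have : (MulAut.conj n).toMonoidHom q = ⁅n, q⁆ * q := by
      simp [commutatorElement_def]
    rw [this]
    exact mul_mem (Subgroup.mem_sup_left (Subgroup.commutator_mem_commutator hn hq))
      (Subgroup.mem_sup_right hq)
  have key2 : ∀ n ∈ N', ∃ c ∈ N₁, conjSub n Q = conjSub c Q := by
    intro n hn
    obtain ⟨m, hm, hmQ⟩ := wc_exists_conj_in hQp hwc (le_sup_right : Q ≤ N₁ ⊔ Q) (conj_mem N' n hn)
    have hcoe : ((N₁ ⊔ Q : Subgroup H) : Set H) = (N₁ : Set H) * (Q : Set H) :=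
      Subgroup.coe_mul_of_right_le_normalizer_left N₁ Q hQN₁
    have hm' : m ∈ ((N₁ ⊔ Q : Subgroup H) : Set H) := hm
    rw [hcoe] at hm'
    obtain ⟨c, hc, q, hq, rfl⟩ := hm'
    refine ⟨c, hc, ?_⟩
    have e : conjSub q Q = Q := conjSub_eq_self_iff.mpr (Subgroup.le_normalizer hq)
    rw [hmQ, ← conjSub_conjSub, e]
  constructor
  · intro n hn
    obtain ⟨c, hc, hcQ⟩ := key2 n hn
    -- a := c⁻¹ n normalizes Q
    have ha : c⁻¹ * n ∈ Subgroup.normalizer (Q : Set H) := by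
      rw [← conjSub_eq_self_iff, ← conjSub_conjSub, hcQ, conjSub_conjSub, inv_mul_cancel, conjSub_one]
    have haN : c⁻¹ * n ∈ N' := mul_mem (inv_mem (hN₁N' hc)) hn
    refine ⟨c⁻¹ * n, ⟨haN, ha⟩, (c⁻¹ * n)⁻¹ * c * (c⁻¹ * n), ?_, by group⟩
    have := (Subgroup.mem_normalizer_iff.mp (inv_mem (hN'N₁ haN)) c).mp hc
    simpa using this
  · intro c hc
    set N₂ := ⁅N₁, Q⁆ with hN₂
    have hN₂N₁ : N₂ ≤ N₁ := Subgroup.le_normalizer_iff_commutator_le_left.mp hQN₁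
    have hQN₂ : Q ≤ Subgroup.normalizer (N₂ : Set H) := Subgroup.normalizer_commutator_ge_right _ _
    have hle : N₁ ≤ N₂ ⊔ Q := by
      rw [hN₁, Subgroup.commutator_le]
      intro n hn q hq
      obtain ⟨c', hc', hcQ⟩ := key2 n hn
      have h1 : n * q * n⁻¹ ∈ conjSub n Q := conj_mem_conjSub hq
      rw [hcQ] at h1
      have h2 := conj_mem N₁ c' hc' h1
      have : ⁅n, q⁆ = n * q * n⁻¹ * q⁻¹ := commutatorElement_def n q
      rw [this]
      exact mul_mem h2 (Subgroup.mem_sup_right (inv_mem hq))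
    have hcoe : ((N₂ ⊔ Q : Subgroup H) : Set H) = (N₂ : Set H) * (Q : Set H) :=
      Subgroup.coe_mul_of_right_le_normalizer_left N₂ Q hQN₂
    have hc' : c ∈ ((N₂ ⊔ Q : Subgroup H) : Set H) := hle hc
    rw [hcoe] at hc'
    obtain ⟨b', hb', q, hq, rfl⟩ := hc'
    have hqN₁ : q ∈ N₁ := by
      have : q = b'⁻¹ * (b' * q) := by group
      rw [this]
      exact mul_mem (inv_mem (hN₂N₁ hb')) hc
    refine ⟨q, ⟨hq, hqN₁⟩, q⁻¹ * b' * q, ?_, by group⟩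
    have := (Subgroup.mem_normalizer_iff.mp (inv_mem (hQN₂ hq)) b').mp hb'
    simpa using this

end Cfsg.Agent.S2841
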