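import Cfsg.Statements.S2842
import Cfsg.Agent.Helper21.CharPLocal
import Cfsg.Agent.Helper21.FStarComm
import Cfsg.Agent.S0027

set_option autoImplicit false
open Cfsg

namespace Cfsg.Agent.S2842

open Cfsg.Agent.Helper21 Cfsg.Agent.Helper48 Cfsg.Agent.Helper47 Cfsg.Agent.Helper51
  Cfsg.Agent.Helper46
open scoped commutatorElement

/-- Main argument: `Q` weakly closed with `C_H(Q) ≤ Q`, `Q ≤ L`, `C_H(O_p(L))` of characteristic `p`;
then `C_H(O_p(L))` is a `p`-group. -/
theorem isPGroup_centralizer {H : Type*} [Group H] [Finite H] {p : ℕ} [Fact p.Prime]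
    (Q : Subgroup H) (hQp : IsPGroup p ↥Q) (hwc : Cfsg.IsWeaklyClosedSubgroup p Q)
    (hCQ : Subgroup.centralizer ((Q : Subgroup H) : Set H) ≤ Q) (L : Subgroup H) (hQL : Q ≤ L)
    (hchar : CharPIn p (Subgroup.centralizer ((pCoreOf p L : Subgroup H) : Set H))) :
    IsPGroup p ↥(Subgroup.centralizer ((pCoreOf p L : Subgroup H) : Set H)) := by
  classical
  set P := pCoreOf p L with hP
  set C := Subgroup.centralizer (P : Set H) with hC
  set RC := pCoreOf p C with hRC
  have hPp : IsPGroup p P := pCoreOf_isPGroup L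
  have hRCp : IsPGroup p RC := pCoreOf_isPGroup C
  have hRCC : RC ≤ C := pCoreOf_le C
  have hLN : L ≤ Subgroup.normalizer (P : Set H) := pCoreOf_normalized L
  have hNC : Subgroup.normalizer (P : Set H) ≤ Subgroup.normalizer (C : Set H) :=
    Cfsg.Agent.Helper22.normalizer_le_normalizer_centralizer P
  have hCN : C ≤ Subgroup.normalizer (P : Set H) := Subgroup.centralizer_le_normalizer _
  have hNRC : Subgroup.normalizer (P : Set H) ≤ Subgroup.normalizer (RC : Set H) :=
    le_normalizer_pCoreOf hNC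
  have hQN : Q ≤ Subgroup.normalizer (P : Set H) := hQL.trans hLN
  -- (a) RC ⊓ L ≤ P
  have ha : RC ⊓ L ≤ P := by
    apply le_pCoreOf inf_le_right (hRCp.to_le inf_le_left)
    exact le_normalizer_inf_of_le (hLN.trans hNRC) Subgroup.le_normalizer
  have haQ : Q ⊓ RC ≤ P := (le_inf inf_le_right (inf_le_left.trans hQL)).trans ha
  -- (b) RC normalizes Q
  have hSp : IsPGroup p ↥(Q ⊔ RC) := hQp.to_sup_of_normal_right' hRCp (hQN.trans hNRC)
  have hSQ : Q ⊔ RC ≤ Subgroup.normalizer (Q : Set H) :=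
    Subgroup.le_normalizer.trans (wc_normalizer_le hwc hSp le_sup_left)
  have hRCQ : RC ≤ Subgroup.normalizer (Q : Set H) := le_sup_right.trans hSQ
  -- Z₀ = RC ⊓ P
  have hcommRQ : ⁅Q, RC⁆ ≤ RC ⊓ P := by
    have h1 : ⁅Q, RC⁆ ≤ Q := commutator_le_of_le_normalizer hRCQ
    have h2 : ⁅Q, RC⁆ ≤ RC := by
      rw [Subgroup.commutator_comm]; exact commutator_le_of_le_normalizer (hQN.trans hNRC)
    exact le_inf h2 ((le_inf h1 h2).trans haQ)
  have hNZ₀ : Subgroup.normalizer (P : Set H) ≤ Subgroup.normalizer ((RC ⊓ P : Subgroup H) : Set H) :=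
    le_normalizer_inf_of_le hNRC le_rfl
  -- NQ = normal closure of Q under N(P)
  set NQ : Subgroup H := ⨆ n : ↥(Subgroup.normalizer (P : Set H)), conjSub (n : H) Q with hNQ
  have hQNQ : Q ≤ NQ := by
    have := le_iSup (fun n : ↥(Subgroup.normalizer (P : Set H)) => conjSub (n : H) Q) 1
    simpa [conjSub_one] using this
  have hNNQ : Subgroup.normalizer (P : Set H) ≤ Subgroup.normalizer (NQ : Set H) := by
    intro m hm
    apply mem_normalizer_of_conjSub_le
    rw [hNQ]
    show Subgroup.map (MulAut.conj m).toMonoidHom _ ≤ _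
    rw [Subgroup.map_iSup]
    apply iSup_le
    intro n
    have : conjSub m (conjSub (n : H) Q) = conjSub (m * n) Q := conjSub_conjSub m n Q
    show conjSub m (conjSub (n : H) Q) ≤ _
    rw [this]
    exact le_iSup (fun n : ↥(Subgroup.normalizer (P : Set H)) => conjSub (n : H) Q)
      ⟨m * n, Subgroup.mul_mem _ hm n.2⟩
  have hNQcomm : ⁅NQ, RC⁆ ≤ RC ⊓ P := by
    have hexp : NQ = sSup (Set.range
        (fun n : ↥(Subgroup.normalizer (P : Set H)) => conjSub (n : H) Q)) := rfl
    rw [hexp]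
    apply commutator_sSup_le
    rintro A ⟨n, rfl⟩
    refine ⟨?_, ?_⟩
    · have h1 : conjSub (n : H) Q ≤ Subgroup.normalizer (P : Set H) :=
        conjSub_le_of_mem hQN n.2
      exact h1.trans hNZ₀
    · have h1 : conjSub (n : H) ⁅Q, RC⁆ ≤ conjSub (n : H) (RC ⊓ P) := Subgroup.map_mono hcommRQ
      have h2 : conjSub (n : H) (RC ⊓ P) = RC ⊓ P := conjSub_eq_self_iff.2 (hNZ₀ n.2)
      have h3 : conjSub (n : H) RC = RC := conjSub_eq_self_iff.2 (hNRC n.2)
      have h4 : conjSub (n : H) ⁅Q, RC⁆ = ⁅conjSub (n : H) Q, conjSub (n : H) RC⁆ :=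
        Subgroup.map_commutator _ _ _
      rw [h4, h3, h2] at h1
      exact h1
  -- D = O^p(C)
  set D : Subgroup H := Subgroup.closure {x : H | x ∈ C ∧ (orderOf x).Coprime p} with hD
  have hDC : D ≤ C := by
    rw [hD, Subgroup.closure_le]
    intro x hx
    exact hx.1
  have hND : Subgroup.normalizer (P : Set H) ≤ Subgroup.normalizer (D : Set H) := by
    intro m hm
    apply mem_normalizer_of_conjSub_le
    rw [hD]
    show Subgroup.map (MulAut.conj m).toMonoidHom _ ≤ _
    rw [MonoidHom.map_closure, Subgroup.closure_le]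
    rintro _ ⟨x, ⟨hxC, hxp⟩, rfl⟩
    apply Subgroup.subset_closure
    refine ⟨?_, ?_⟩
    · have := (Subgroup.mem_normalizer_iff.1 (hNC hm) x).1 hxC
      simpa using this
    · have : orderOf (m * x * m⁻¹) = orderOf x := orderOf_conj' m x
      show (orderOf ((MulAut.conj m).toMonoidHom x)).Coprime p
      simp only [MulEquiv.toMonoidHom_eq_coe, MonoidHom.coe_coe, MulAut.conj_apply]
      rw [this]; exact hxp
  -- A = NQ ⊓ D is a p-group inside RC
  have hAp : IsPGroup p ↥(NQ ⊓ D) := by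
    apply isPGroup_of_no_p'_elements
    intro a ha hap
    have haNQ : a ∈ NQ := ha.1
    have haD : a ∈ D := ha.2
    have haC : a ∈ C := hDC haD
    have hAcop : (Nat.card (Subgroup.zpowers a)).Coprime (Nat.card RC) := by
      rw [Nat.card_zpowers]
      obtain ⟨k, hk⟩ := IsPGroup.iff_card.1 hRCp
      rw [hk]; exact Nat.Coprime.pow_right k hap
    have hAN : Subgroup.zpowers a ≤ Subgroup.normalizer (RC : Set H) := by
      rw [Subgroup.zpowers_le]; exact hNRC (hCN haC)
    have hsolv : Group.IsSolvable ↥(Subgroup.zpowers a) := inferInstance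
    have h27 := Cfsg.Agent.S0027.result (Subgroup.zpowers a) RC hAN hAcop (Or.inl hsolv)
    have h1 : ⁅RC, Subgroup.zpowers a⁆ ≤ RC ⊓ P := by
      rw [Subgroup.commutator_comm]
      refine le_trans (Subgroup.commutator_mono ?_ le_rfl) hNQcomm
      rw [Subgroup.zpowers_le]; exact haNQ
    have h2 : ⁅RC ⊓ P, Subgroup.zpowers a⁆ = ⊥ := by
      rw [Subgroup.commutator_eq_bot_iff_le_centralizer, Subgroup.le_centralizer_iff,
        Subgroup.zpowers_le]
      exact Subgroup.centralizer_le (SetLike.coe_subset_coe.2 inf_le_right) haC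
    have h3 : ⁅RC, Subgroup.zpowers a⁆ = ⊥ := by
      rw [← h27, eq_bot_iff, ← h2]
      exact Subgroup.commutator_mono h1 le_rfl
    have h4 : a ∈ Subgroup.centralizer (RC : Set H) := by
      rw [Subgroup.commutator_eq_bot_iff_le_centralizer, Subgroup.le_centralizer_iff,
        Subgroup.zpowers_le] at h3
      exact h3
    have h5 : a ∈ RC := hchar (Subgroup.mem_inf.2 ⟨haC, h4⟩)
    exact eq_one_of_mem_pgroup_of_coprime hRCp h5 hap
  have hARC : NQ ⊓ D ≤ RC := by
    apply le_pCoreOf (inf_le_right.trans hDC) hAp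
    exact le_normalizer_inf_of_le (hCN.trans hNNQ) (hCN.trans hND)
  have hQD : ⁅Q, D⁆ ≤ RC := by
    refine le_trans (le_inf ?_ ?_) hARC
    · exact (Subgroup.commutator_mono hQNQ le_rfl).trans
        (commutator_le_of_le_normalizer ((hDC.trans hCN).trans hNNQ))
    · rw [Subgroup.commutator_comm]
      exact commutator_le_of_le_normalizer (hQN.trans hND)
  -- now p'-elements of C are trivial
  apply isPGroup_of_no_p'_elements
  intro x hx hxp
  have hxD : x ∈ D := Subgroup.subset_closure ⟨hx, hxp⟩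
  have hconj : ∀ q ∈ Q, q⁻¹ * (x * q * x⁻¹) ∈ RC := by
    intro q hq
    have : ⁅q⁻¹, x⁆ ∈ ⁅Q, D⁆ := Subgroup.commutator_mem_commutator (Q.inv_mem hq) hxD
    have h1 := hQD this
    rw [commutatorElement_def] at h1
    simpa [mul_assoc] using h1
  have hxNQ : x ∈ Subgroup.normalizer (Q : Set H) := by
    rw [← conjSub_eq_self_iff]
    apply wc_conj_eq_of_le hwc hSp le_sup_left
    rintro _ ⟨q, hq, rfl⟩
    have h1 : q * (q⁻¹ * (x * q * x⁻¹)) ∈ Q ⊔ RC :=
      Subgroup.mul_mem _ (Subgroup.mem_sup_left hq) (Subgroup.mem_sup_right (hconj q hq))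
    have h2 : q * (q⁻¹ * (x * q * x⁻¹)) = x * q * x⁻¹ := by group
    rw [h2] at h1
    exact h1
  have hxQ : x ∈ Subgroup.centralizer (Q : Set H) := by
    rw [Subgroup.mem_centralizer_iff]
    intro q hq
    have hmem : q⁻¹ * (x * q * x⁻¹) ∈ P := by
      apply haQ
      refine Subgroup.mem_inf.2 ⟨?_, hconj q hq⟩
      exact Q.mul_mem (Q.inv_mem hq) ((Subgroup.mem_normalizer_iff.1 hxNQ q).1 hq)
    have := centralizes_of_stab hPp hxp hmem hx
    calc q * x = (x * q * x⁻¹) * x := by rw [this]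
      _ = x * q := by group
  exact eq_one_of_mem_pgroup_of_coprime hQp (hCQ hxQ) hxp

/-- Let Q be a nontrivial p-subgroup of the finite group H that is a weakly closed subgroup with C_H(Q) ≤ Q, and Q ≤ L ≤ H. Suppose H has characteristic p, or more generally that C_H(y) has characteristic p for some nonidentity y ∈ C_{O_p(L)}(Q). Then [Q, C_H(O_p(L))] ≤ Q ∩ O_p(L), C_H(O_p(L)) is a p-group, and L has characteristic p. -/
theorem result {H : Type*} [Group H] [Finite H] {p : ℕ} [Fact p.Prime] (Q : Subgroup H) (hQp : IsPGroup p ↥Q) (hQ1 : Q ≠ ⊥) (hwc : Cfsg.IsWeaklyClosedSubgroup p Q) (hCQ : Subgroup.centralizer ((Q : Subgroup H) : Set H) ≤ Q) (L : Subgroup H) (hQL : Q ≤ L) (hyp : Subgroup.centralizer (Cfsg.pCore p H : Set H) ≤ Cfsg.pCore p H ∨ ∃ y : H, y ≠ 1 ∧ y ∈ (Cfsg.pCoreOf p L) ⊓ Subgroup.centralizer ((Q : Subgroup H) : Set H) ∧ Subgroup.centralizer (Cfsg.pCore p ↥(Subgroup.centralizer ({y} : Set H)) : Set ↥(Subgroup.centralizer ({y} : Set H))) ≤ Cfsg.pCore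 p ↥(Subgroup.centralizer ({y} : Set H))) : ⁅Q, Subgroup.centralizer (((Cfsg.pCoreOf p L) : Subgroup H) : Set H)⁆ ≤ Q ⊓ (Cfsg.pCoreOf p L) ∧ IsPGroup p ↥(Subgroup.centralizer (((Cfsg.pCoreOf p L) : Subgroup H) : Set H)) ∧ Subgroup.centralizer (Cfsg.pCore p ↥L : Set ↥L) ≤ Cfsg.pCore p ↥L := by
  have hPp : IsPGroup p (pCoreOf p L) := pCoreOf_isPGroup L
  have hLN : L ≤ Subgroup.normalizer ((pCoreOf p L : Subgroup H) : Set H) := pCoreOf_normalized L
  have hNC := Cfsg.Agent.Helper22.normalizer_le_normalizer_centralizer (pCoreOf p L)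
  have hchar : CharPIn p (Subgroup.centralizer ((pCoreOf p L : Subgroup H) : Set H)) := by
    rcases hyp with h | ⟨y, -, hy, hK⟩
    · exact charPIn_centralizer_of_top hPp h
    · exact charPIn_centralizer_of_mem hPp hy.1 (charPIn_of_internal hK)
  have hCp := isPGroup_centralizer Q hQp hwc hCQ L hQL hchar
  have hLchar : L ⊓ Subgroup.centralizer ((pCoreOf p L : Subgroup H) : Set H) ≤ pCoreOf p L := by
    apply le_pCoreOf inf_le_left (hCp.to_le inf_le_right)
    exact le_normalizer_inf_of_le Subgroup.le_normalizer (hLN.trans hNC)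
  refine ⟨?_, hCp, centralizer_pCore_le_of_ambient hLchar⟩
  have hQC : Q ≤ Subgroup.normalizer
      ((Subgroup.centralizer ((pCoreOf p L : Subgroup H) : Set H) : Subgroup H) : Set H) :=
    hQL.trans (hLN.trans hNC)
  have hSp : IsPGroup p ↥(Q ⊔ Subgroup.centralizer ((pCoreOf p L : Subgroup H) : Set H)) :=
    hQp.to_sup_of_normal_right' hCp hQC
  have hCQ' : Subgroup.centralizer ((pCoreOf p L : Subgroup H) : Set H) ≤
      Subgroup.normalizer (Q : Set H) :=
    le_sup_right.trans (Subgroup.le_normalizer.trans (wc_normalizer_le hwc hSp le_sup_left))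
  have h1 : ⁅Q, Subgroup.centralizer ((pCoreOf p L : Subgroup H) : Set H)⁆ ≤ Q :=
    commutator_le_of_le_normalizer hCQ'
  have h2 : ⁅Q, Subgroup.centralizer ((pCoreOf p L : Subgroup H) : Set H)⁆ ≤
      Subgroup.centralizer ((pCoreOf p L : Subgroup H) : Set H) := by
    rw [Subgroup.commutator_comm]; exact commutator_le_of_le_normalizer hQC
  exact le_inf h1 ((le_inf (h1.trans hQL) h2).trans hLchar)

end Cfsg.Agent.S2842
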