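import Cfsg.Statements.S2843
import Cfsg.Agent.Helper21.LargeSub
import Cfsg.Agent.Helper21.FStarComm

set_option autoImplicit false
open Cfsg

namespace Cfsg.Agent.S2843

open Cfsg.Agent.Helper21 Cfsg.Agent.Helper48 Cfsg.Agent.Helper47 Cfsg.Agent.Helper51
  Cfsg.Agent.Helper46

/-- Let Q be a nontrivial large p-subgroup of the finite group H, Q ≤ L ≤ H, and Y a nontrivial p-subgroup of H normalized by L. Let L° be the weak closure of Q in L (generated by the conjugates of Q inside L). Then L° equals the weak closure of Q in L·C_H(Y), and [L°, C_H(Y)] ≤ O_p(L°); in particular C_H(Y) normalizes L°. -/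
theorem result {H : Type*} [Group H] [Finite H] {p : ℕ} [Fact p.Prime] (Q : Subgroup H) (hQp : IsPGroup p ↥Q) (hQ1 : Q ≠ ⊥) (hL : Cfsg.IsLarge Q) (L : Subgroup H) (hQL : Q ≤ L) (Y : Subgroup H) (hYp : IsPGroup p ↥Y) (hY1 : Y ≠ ⊥) (hLY : L ≤ Subgroup.normalizer ((Y : Subgroup H) : Set H)) : Cfsg.weakClosure Q L = Cfsg.weakClosure Q (L ⊔ Subgroup.centralizer ((Y : Subgroup H) : Set H)) ∧ ⁅Cfsg.weakClosure Q L, Subgroup.centralizer ((Y : Subgroup H) : Set H)⁆ ≤ (Cfsg.pCoreOf p (Cfsg.weakClosure Q L)) ∧ Subgroup.centralizer ((Y : Subgroup H) : Set H) ≤ Subgroup.normalizer (((Cfsg.weakClosure Q L) : Subgroup H) : Set H) := by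
  classical
  have hCYN : Subgroup.centralizer (Y : Set H) ≤ Subgroup.normalizer (Y : Set H) :=
    Subgroup.centralizer_le_normalizer _
  have hXY : L ⊔ Subgroup.centralizer (Y : Set H) ≤ Subgroup.normalizer (Y : Set H) :=
    sup_le hLY hCYN
  have hLCY : L ≤ Subgroup.normalizer
      ((Subgroup.centralizer (Y : Set H) : Subgroup H) : Set H) :=
    hLY.trans (Cfsg.Agent.Helper22.normalizer_le_normalizer_centralizer Y)
  have key : ∀ g : H, conjSub g Q ≤ L ⊔ Subgroup.centralizer (Y : Set H) →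
      Subgroup.centralizer (Y : Set H) ≤ Subgroup.normalizer ((conjSub g Q : Subgroup H) : Set H) :=
    fun g hg => IsLarge.centralizer_le_normalizer (isPGroup_conjSub hQp) (isLarge_conj hL g)
      hYp hY1 (hg.trans hXY)
  have hCYQ : Subgroup.centralizer (Y : Set H) ≤ Subgroup.normalizer (Q : Set H) :=
    IsLarge.centralizer_le_normalizer hQp hL hYp hY1 (hQL.trans hLY)
  have hwc := isWeaklyClosedSubgroup_of_isLarge hQp hQ1 hL
  -- membership in the weak closure
  have hmemL : ∀ g : H, conjSub g Q ≤ L → conjSub g Q ≤ Cfsg.weakClosure Q L := by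
    intro g hg
    unfold Cfsg.weakClosure
    exact le_iSup (fun g : {g : H // Q.map (MulAut.conj g).toMonoidHom ≤ L} =>
      Q.map (MulAut.conj (g : H)).toMonoidHom) ⟨g, hg⟩
  have hL0L : Cfsg.weakClosure Q L ≤ L := by
    unfold Cfsg.weakClosure
    apply iSup_le
    rintro ⟨g, hg⟩
    exact hg
  refine ⟨?_, ?_, ?_⟩
  · apply le_antisymm
    · unfold Cfsg.weakClosure
      apply iSup_le
      rintro ⟨g, hg⟩
      exact le_iSup (fun g : {g : H // Q.map (MulAut.conj g).toMonoidHom ≤
        L ⊔ Subgroup.centralizer (Y : Set H)} =>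
        Q.map (MulAut.conj (g : H)).toMonoidHom) ⟨g, hg.trans le_sup_left⟩
    · conv_lhs => unfold Cfsg.weakClosure
      apply iSup_le
      rintro ⟨g, hg⟩
      apply hmemL g
      obtain ⟨k, hk, hkQ⟩ := wc_exists_conj_in hQp hwc (hQL.trans le_sup_left) hg
      have hk' : k ∈ ((L ⊔ Subgroup.centralizer (Y : Set H) : Subgroup H) : Set H) := hk
      rw [Subgroup.coe_mul_of_left_le_normalizer_right L _ hLCY] at hk'
      obtain ⟨l, hl, c, hc, rfl⟩ := hk'
      show conjSub g Q ≤ L
      rw [hkQ, ← conjSub_conjSub, conjSub_eq_self_iff.2 (hCYQ hc)]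
      exact conjSub_le_of_mem hQL hl
  · have hL0D : Cfsg.weakClosure Q L ≤ Subgroup.normalizer
        ((Cfsg.weakClosure Q L ⊓ Subgroup.centralizer (Y : Set H) : Subgroup H) : Set H) :=
      le_normalizer_inf_of_le Subgroup.le_normalizer (hL0L.trans hLCY)
    have hDle : pCoreOf p (Cfsg.weakClosure Q L ⊓ Subgroup.centralizer (Y : Set H)) ≤
        pCoreOf p (Cfsg.weakClosure Q L) :=
      le_pCoreOf ((pCoreOf_le _).trans inf_le_left) (pCoreOf_isPGroup _)
        (le_normalizer_pCoreOf hL0D)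
    have hgoal : ∀ g : H, conjSub g Q ≤ L →
        ⁅conjSub g Q, Subgroup.centralizer (Y : Set H)⁆ ≤ pCoreOf p (Cfsg.weakClosure Q L) := by
      intro g hg
      have hkg := key g (hg.trans le_sup_left)
      have h1 : ⁅conjSub g Q, Subgroup.centralizer (Y : Set H)⁆ ≤
          conjSub g Q ⊓ Subgroup.centralizer (Y : Set H) := by
        apply le_inf (commutator_le_of_le_normalizer hkg)
        rw [Subgroup.commutator_comm]
        exact commutator_le_of_le_normalizer (hg.trans hLCY)
      refine h1.trans (le_trans ?_ hDle)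
      apply le_pCoreOf
      · exact le_inf (inf_le_left.trans (hmemL g hg)) inf_le_right
      · exact (isPGroup_conjSub hQp).to_le inf_le_left
      · exact le_normalizer_inf_of_le (inf_le_right.trans hkg)
          (inf_le_right.trans Subgroup.le_normalizer)
    have hexp : Cfsg.weakClosure Q L =
        sSup (Set.range (fun g : {g : H // Q.map (MulAut.conj g).toMonoidHom ≤ L} =>
          Q.map (MulAut.conj (g : H)).toMonoidHom)) := rfl
    conv_lhs => rw [hexp]
    apply commutator_sSup_le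
    rintro A ⟨⟨g, hg⟩, rfl⟩
    exact ⟨(hmemL g hg).trans (pCoreOf_normalized _), hgoal g hg⟩
  · intro c hc
    rw [← conjSub_eq_self_iff]
    unfold Cfsg.weakClosure
    show Subgroup.map (MulAut.conj c).toMonoidHom _ = _
    rw [Subgroup.map_iSup]
    apply iSup_congr
    rintro ⟨g, hg⟩
    exact conjSub_eq_self_iff.2 (key g (hg.trans le_sup_left) hc)

end Cfsg.Agent.S2843
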