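import Cfsg.Statements.S2844
import Cfsg.Agent.Helper47.Large

set_option autoImplicit false
open Cfsg

namespace Cfsg.Agent.S2844

open Cfsg.Agent.Helper47 Cfsg.Agent.Helper48 Cfsg.Agent.Helper49

theorem result {H : Type*} [Group H] [Finite H] {p : ℕ} [Fact p.Prime] (Q : Subgroup H) (hQp : IsPGroup p ↥Q) (hQ1 : Q ≠ ⊥) (hL : Cfsg.IsLarge Q) (Qb : Subgroup H) (hQb : Qb = Cfsg.largeBullet p Q) : (∀ g : H, g ∉ Subgroup.normalizer ((Q : Subgroup H) : Set H) → Subgroup.centralizer ((Q : Subgroup H) : Set H) ⊓ Subgroup.centralizer ((((Q : Subgroup H).map (MulAut.conj (g : H)).toMonoidHom) : Subgroup H) : Set H) = ⊥ ∧ Subgroup.centralizer ((Qb : Subgroup H) : Set H) ⊓ Subgroup.centralizer ((((Qb : Subgroup H).map (MulAut.conj (g : H)).toMonoidHom) : Subgroup H) : Set H) = ⊥ ∧ (Q ⊓ Subgroup.centralizer ((Q : Subgroup H) : Set H)) ⊓ (((Q : Subgroup H).map (MulAut.conj (g : H)).toMonoidHom) ⊓ Subgroup.centralizer ((((Q : Subgroup H).map (MulAut.conj (g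 : H)).toMonoidHom) : Subgroup H) : Set H)) = ⊥ ∧ (Qb ⊓ Subgroup.centralizer ((Qb : Subgroup H) : Set H)) ⊓ (((Qb : Subgroup H).map (MulAut.conj (g : H)).toMonoidHom) ⊓ Subgroup.centralizer ((((Qb : Subgroup H).map (MulAut.conj (g : H)).toMonoidHom) : Subgroup H) : Set H)) = ⊥) ∧ Subgroup.normalizer ((Q : Subgroup H) : Set H) = Subgroup.normalizer ((Qb : Subgroup H) : Set H) ∧ Cfsg.IsLarge Qb := by
  have hQbdef : Qb = coreIn p (Subgroup.normalizer (Q : Set H)) := hQb
  -- basic facts on Qb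
  have hQQb : Q ≤ Qb := by
    rw [hQbdef]
    apply le_coreIn Subgroup.le_normalizer _ hQp
    intro l hl n hn
    exact (Subgroup.mem_normalizer_iff.mp hl n).mp hn
  have hQbp : IsPGroup p ↥Qb := hQbdef ▸ coreIn_isPGroup _
  have hQb1 : Qb ≠ ⊥ := fun h => hQ1 (le_bot_iff.mp (h ▸ hQQb))
  have hCle : Subgroup.centralizer (Qb : Set H) ≤ Subgroup.centralizer (Q : Set H) :=
    Subgroup.centralizer_le hQQb
  have hN1 : Subgroup.normalizer (Q : Set H) ≤ Subgroup.normalizer (Qb : Set H) := by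
    rw [hQbdef]
    exact Subgroup.le_normalizer.trans (normalizer_le_normalizer_coreIn _)
  have hN2 : Subgroup.normalizer (Qb : Set H) ≤ Subgroup.normalizer (Q : Set H) := by
    refine (normalizer_le_normalizer_inf_centralizer Qb).trans ?_
    exact hL.2 _ (inf_le_right.trans hCle) (inf_centralizer_ne_bot hQbp hQb1)
  have hNeq : Subgroup.normalizer (Q : Set H) = Subgroup.normalizer (Qb : Set H) :=
    le_antisymm hN1 hN2
  have hLb : Cfsg.IsLarge Qb := by
    refine ⟨hCle.trans (hL.1.trans hQQb), fun U hU hU1 => ?_⟩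
    exact (hL.2 U (hU.trans hCle) hU1).trans hN1
  refine ⟨fun g hg => ?_, hNeq, hLb⟩
  have h1 : Subgroup.centralizer ((Q : Subgroup H) : Set H) ⊓ Subgroup.centralizer
      ((((Q : Subgroup H).map (MulAut.conj (g : H)).toMonoidHom) : Subgroup H) : Set H) = ⊥ := by
    by_contra h
    exact hg (mem_normalizer_of_large hQp hQ1 hL h)
  have h2 : Subgroup.centralizer ((Qb : Subgroup H) : Set H) ⊓ Subgroup.centralizer
      ((((Qb : Subgroup H).map (MulAut.conj (g : H)).toMonoidHom) : Subgroup H) : Set H) = ⊥ := by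
    by_contra h
    exact hg (hNeq ▸ mem_normalizer_of_large hQbp hQb1 hLb h)
  refine ⟨h1, h2, ?_, ?_⟩
  · rw [eq_bot_iff, ← h1]
    exact inf_le_inf inf_le_right inf_le_right
  · rw [eq_bot_iff, ← h2]
    exact inf_le_inf inf_le_right inf_le_right

end Cfsg.Agent.S2844
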