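import Cfsg.Statements.S2847
import Cfsg.Agent.Helper47.FrakM
import Cfsg.Agent.S2824

set_option autoImplicit false
open Cfsg

namespace Cfsg.Agent.S2847

open Cfsg.Agent.Helper47 Cfsg.Agent.Helper46 Cfsg.Agent.Helper48

/-- Let H be a finite group of parabolic characteristic p, T a Sylow p-subgroup and L a subgroup containing T with O_p(L) ≠ 1 and C_H(O_p(L)) ≤ O_p(L). Then there are M ≥ T with the basic property (M ∈ 𝔐_H) and L* with T ≤ L* ≤ M, O_p(L*) ≠ 1, C_H(O_p(L*)) ≤ O_p(L*), such that Y_L = Y_{L*} ≤ Y_M and L·C_H(Y_L) = L*·C_H(Y_L), Y denoting largest p-reduced normal subgroups. -/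
theorem result {H : Type*} [Group H] [Finite H] {p : ℕ} [Fact p.Prime] (hH : Cfsg.IsOfParabolicCharacteristic p H) (T : Sylow p H) (L : Subgroup H) (hTL : (T : Subgroup H) ≤ L) (hL : L ∈ Cfsg.charPSubgroups p H) : ∃ M Ls : Subgroup H, (T : Subgroup H) ≤ M ∧ Cfsg.IsInFrakM p M ∧ (T : Subgroup H) ≤ Ls ∧ Ls ≤ M ∧ Ls ∈ Cfsg.charPSubgroups p H ∧ (Cfsg.largestPReducedOf p L) = (Cfsg.largestPReducedOf p Ls) ∧ (Cfsg.largestPReducedOf p L) ≤ (Cfsg.largestPReducedOf p M) ∧ L ⊔ Subgroup.centralizer (((Cfsg.largestPReducedOf p L) : Subgroup H) : Set H) = Ls ⊔ Subgroup.centralizer (((Cfsg.largestPReducedOf p L) : Subgroup H) : Set H) := by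
  classical
  have hLc := charP_of_mem_charPSubgroups hL
  set YL := Cfsg.largestPReducedOf p L with hYLdef
  have hYL : IsPRedIn p YL L := isPRedIn_largestPReducedOf L
  set CL := Subgroup.centralizer ((YL : Subgroup H) : Set H) with hCLdef
  -- Step 1: the family `𝒞`
  let 𝒞 : Set (Subgroup H) := {X | X ∈ Cfsg.maxCharPSubgroups p H ∧ (T : Subgroup H) ≤ X ∧
    YL ≤ Cfsg.largestPReducedOf p X ∧ ∀ l ∈ L, ∃ x ∈ X, ∃ c ∈ CL, l = x * c}
  have h𝒞ne : 𝒞.Nonempty := by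
    obtain ⟨X, hX⟩ := (Set.toFinite {X | X ∈ Cfsg.charPSubgroups p H ∧ L ≤ X}).exists_maximal
      ⟨L, hL, le_rfl⟩
    refine ⟨X, ⟨hX.1.1, ?_⟩, hTL.trans hX.1.2, ?_, ?_⟩
    · intro Z hZ hXZ
      exact le_antisymm (hX.2 ⟨hZ, hX.1.2.trans hXZ⟩ hXZ) hXZ
    · exact hYL.le_largestPReducedOf_of_parabolic (charP_of_mem_charPSubgroups hX.1.1) T hTL hX.1.2
    · intro l hl
      exact ⟨l, hX.1.2 hl, 1, one_mem _, (mul_one l).symm⟩
  obtain ⟨Mt, hMt𝒞, hMtmax⟩ := Set.exists_max_image 𝒞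
    (fun X => Nat.card (Cfsg.largestPReducedOf p X)) (Set.toFinite _) h𝒞ne
  obtain ⟨hMtmaxL, hTMt, hYLMt, hLMt⟩ := hMt𝒞
  set Yt := Cfsg.largestPReducedOf p Mt with hYtdef
  have hYt : IsPRedIn p Yt Mt := isPRedIn_largestPReducedOf Mt
  have hNYt : Subgroup.normalizer ((Yt : Subgroup H) : Set H) = Mt :=
    normalizer_largestPReducedOf_eq hH T hMtmaxL hTMt
  set Ct := Subgroup.centralizer ((Yt : Subgroup H) : Set H) with hCtdef
  have hCtMt : Ct ≤ Mt := (Subgroup.centralizer_le_normalizer _).trans hNYt.le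
  have hCtCL : Ct ≤ CL := Subgroup.centralizer_le hYLMt
  have hMtNCt : Mt ≤ Subgroup.normalizer ((Ct : Subgroup H) : Set H) :=
    hYt.le_normalizer.trans (Cfsg.Agent.Helper49.normalizer_le_normalizer_centralizer Yt)
  -- Step 2: `M` minimal with `M Ct = Mt`
  let 𝒟 : Set (Subgroup H) := {M | (T : Subgroup H) ≤ M ∧ M ≤ Mt ∧ M ⊔ Ct = Mt}
  obtain ⟨M, hM𝒟, hMmin⟩ := Set.exists_min_image 𝒟 (fun M => Nat.card M) (Set.toFinite _)
    ⟨Mt, hTMt, le_rfl, sup_of_le_left hCtMt⟩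
  obtain ⟨hTM, hMMt, hMsup⟩ := hM𝒟
  have hM𝓛 : M ∈ Cfsg.charPSubgroups p H := mem_charPSubgroups_of_le T hTM hMMt hMtmaxL.1
  have hYM : Cfsg.largestPReducedOf p M = Yt :=
    largestPReducedOf_eq_of_sup_eq T hTM hMMt hMtmaxL.1
      (by rw [inf_of_le_right hCtMt]; exact hMsup)
  have hYMr : IsPRedIn p Yt M := hYM ▸ isPRedIn_largestPReducedOf (p := p) M
  have hminX : ∀ X : Subgroup H, (T : Subgroup H) ≤ X → X ≤ M → X ⊔ (M ⊓ Ct) = M → X = M := by
    intro X hTX hXM hXsup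
    have hX𝒟 : X ∈ 𝒟 := by
      refine ⟨hTX, hXM.trans hMMt, ?_⟩
      apply le_antisymm (sup_le (hXM.trans hMMt) hCtMt)
      rw [← hMsup, ← hXsup]
      exact sup_le (sup_le le_sup_left (inf_le_right.trans le_sup_right)) le_sup_right
    exact Subgroup.eq_of_le_of_card_ge hXM (hMmin X hX𝒟)
  -- decomposition of `L` through `M`
  have hLM : ∀ l ∈ L, ∃ m ∈ M, ∃ c ∈ CL, l = m * c := by
    intro l hl
    obtain ⟨x, hx, c, hc, rfl⟩ := hLMt l hl
    rw [← hMsup] at hx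
    obtain ⟨m, hm, c', hc', rfl⟩ := exists_mul_of_mem_sup (hMMt.trans hMtNCt) hx
    exact ⟨m, hm, c' * c, CL.mul_mem (hCtCL hc') hc, mul_assoc _ _ _⟩
  -- `M ≤ N(T ⊓ Ct)`
  set T₀ := (T : Subgroup H) ⊓ Ct with hT₀def
  have hMN : M ≤ Subgroup.normalizer ((T₀ : Subgroup H) : Set H) := by
    have h1 : M ⊓ Subgroup.normalizer ((T₀ : Subgroup H) : Set H) = M := by
      apply hminX _ (sylow_le_inf_normalizer T hTM hYMr) inf_le_left
      apply le_antisymm (sup_le inf_le_left inf_le_left)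
      intro g hg
      obtain ⟨a, ha, c, hc, rfl⟩ := hYMr.frattini T hTM hg
      exact Subgroup.mul_mem _ (Subgroup.mem_sup_left ha) (Subgroup.mem_sup_right hc)
    rw [← h1]; exact inf_le_right
  have hSyl : IsSylIn p T₀ (M ⊓ Ct) := hYMr.isSylIn_inf_centralizer T hTM
  have hT₀core : Cfsg.pCoreOf p M = T₀ := by
    apply le_antisymm
    · exact le_inf (pCoreOf_le_sylow T hTM) hYMr.pCoreOf_le_centralizer
    · exact le_pCoreOf (inf_le_left.trans hTM) (T.2.to_le inf_le_left) hMN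
  -- the subgroup `L*`
  have hM'sup : (M ⊓ (L ⊔ CL)) ⊔ CL = L ⊔ CL := by
    apply le_antisymm (sup_le inf_le_right le_sup_right)
    refine sup_le ?_ le_sup_right
    intro l hl
    obtain ⟨m, hm, c, hc, rfl⟩ := hLM l hl
    refine Subgroup.mul_mem _ (Subgroup.mem_sup_left ⟨hm, ?_⟩) (Subgroup.mem_sup_right hc)
    have : m = (m * c) * c⁻¹ := by group
    rw [this]
    exact Subgroup.mul_mem _ (Subgroup.mem_sup_left hl) (Subgroup.mem_sup_right (CL.inv_mem hc))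
  have hTM' : (T : Subgroup H) ≤ M ⊓ (L ⊔ CL) := le_inf hTM (hTL.trans le_sup_left)
  have hM'𝓛 : M ⊓ (L ⊔ CL) ∈ Cfsg.charPSubgroups p H :=
    mem_charPSubgroups_of_le T hTM' (inf_le_left.trans hMMt) hMtmaxL.1
  obtain ⟨hYLs, hLsup⟩ := Cfsg.Agent.S2824.result T L (M ⊓ (L ⊔ CL)) hTL hTM' hLc
    (charP_of_mem_charPSubgroups hM'𝓛) ((T : Subgroup H) ⊓ CL) rfl hM'sup
    ((M ⊓ (L ⊔ CL)) ⊓ Subgroup.normalizer ((((T : Subgroup H) ⊓ CL : Subgroup H)) : Set H)) rfl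
  have hTLs : (T : Subgroup H) ≤ (M ⊓ (L ⊔ CL)) ⊓
      Subgroup.normalizer ((((T : Subgroup H) ⊓ CL : Subgroup H)) : Set H) :=
    le_inf hTM' ((sylow_le_inf_normalizer T hTL hYL).trans inf_le_right)
  have hLsM : (M ⊓ (L ⊔ CL)) ⊓
      Subgroup.normalizer ((((T : Subgroup H) ⊓ CL : Subgroup H)) : Set H) ≤ M :=
    inf_le_left.trans inf_le_left
  refine ⟨M, (M ⊓ (L ⊔ CL)) ⊓
      Subgroup.normalizer ((((T : Subgroup H) ⊓ CL : Subgroup H)) : Set H), hTM, ?_, hTLs, hLsM,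
    mem_charPSubgroups_of_le T hTLs (hLsM.trans hMMt) hMtmaxL.1, hYLs.symm,
    by rw [hYM]; exact hYLMt, hLsup⟩
  -- `M ∈ 𝔐_H`
  have hMdag : M ⊔ Subgroup.centralizer ((Cfsg.largestPReducedOf p M : Subgroup H) : Set H) = Mt := by
    rw [hYM]; exact hMsup
  refine ⟨hM𝓛, ?_, ?_, ?_, ?_, ?_⟩
  · rw [hMdag]; exact hMtmaxL
  · intro X hX hMX
    rw [hMdag]
    have hYMX : Yt ≤ Cfsg.largestPReducedOf p X :=
      hYMr.le_largestPReducedOf_of_parabolic (charP_of_mem_charPSubgroups hX.1) T hTM hMX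
    have hX𝒞 : X ∈ 𝒞 := by
      refine ⟨hX, hTM.trans hMX, hYLMt.trans hYMX, ?_⟩
      intro l hl
      obtain ⟨m, hm, c, hc, e⟩ := hLM l hl
      exact ⟨m, hMX hm, c, hc, e⟩
    have hcard := hMtmax X hX𝒞
    have hYX : Yt = Cfsg.largestPReducedOf p X := Subgroup.eq_of_le_of_card_ge hYMX hcard
    rw [← normalizer_largestPReducedOf_eq hH T hX (hTM.trans hMX), ← hYX, hNYt]
  · rw [hMdag]; exact hYM
  · rw [hYM]
    obtain ⟨P, hP⟩ := hSyl
    refine isPClosed_of_normal_sylow P ⟨fun n hn g => ?_⟩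
    have hnT : (n : H) ∈ T₀ := by
      rw [← hP]; exact ⟨n, hn, rfl⟩
    have hgN : (g : H) ∈ Subgroup.normalizer ((T₀ : Subgroup H) : Set H) := hMN g.2.1
    have h1 : (g : H) * n * (g : H)⁻¹ ∈ T₀ := (Subgroup.mem_normalizer_iff.mp hgN _).mp hnT
    rw [← hP] at h1
    obtain ⟨y, hy, hyv⟩ := h1
    have : y = g * n * g⁻¹ := Subtype.ext hyv
    rw [← this]; exact hy
  · rw [hYM]
    have hMNC : M ≤ Subgroup.normalizer (((M ⊓ Ct : Subgroup H)) : Set H) :=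
      (le_inf Subgroup.le_normalizer (hMMt.trans hMtNCt)).trans
        Subgroup.inf_normalizer_le_normalizer_inf
    have hCn : ((M ⊓ Ct).subgroupOf M).Normal :=
      (Subgroup.normal_subgroupOf_iff_le_normalizer inf_le_left).mpr hMNC
    have hQeq : Cfsg.pCore p ↥M = T₀.subgroupOf M := by
      rw [← hT₀core]
      unfold Cfsg.pCoreOf
      rw [Subgroup.subgroupOf, Subgroup.comap_map_eq_self_of_injective M.subtype_injective]
    have hT₀MC : T₀ ≤ M ⊓ Ct := le_inf (inf_le_left.trans hTM) inf_le_right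
    have hQC : Cfsg.pCore p ↥M ≤ (M ⊓ Ct).subgroupOf M := by
      rw [hQeq]
      intro x hx
      rw [Subgroup.mem_subgroupOf] at hx ⊢
      exact hT₀MC hx
    have hidx : ¬ p ∣ (Cfsg.pCore p ↥M).relIndex ((M ⊓ Ct).subgroupOf M) := by
      rw [hQeq, Subgroup.relIndex_subgroupOf inf_le_left]
      obtain ⟨P, hP⟩ := hSyl
      have : T₀.subgroupOf (M ⊓ Ct) = (P : Subgroup ↥(M ⊓ Ct)) := by
        rw [← hP, Subgroup.subgroupOf,
          Subgroup.comap_map_eq_self_of_injective (M ⊓ Ct).subtype_injective]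
      rw [Subgroup.relIndex, this]
      exact P.not_dvd_index
    apply map_le_frattini_of_min (Cfsg.pCore p ↥M) _ hQC hidx (T.subtype hTM)
    intro X hTX hXsup
    have h1 : X.map M.subtype = M := by
      apply hminX
      · intro t ht
        exact ⟨⟨t, hTM ht⟩, hTX (by rw [Sylow.coe_subtype, Subgroup.mem_subgroupOf]; exact ht), rfl⟩
      · exact Subgroup.map_subtype_le _
      · have h2 := congrArg (Subgroup.map M.subtype) hXsup
        rw [Subgroup.map_sup, Subgroup.subgroupOf_map_subtype, ← MonoidHom.range_eq_map,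
          Subgroup.range_subtype, inf_of_le_left inf_le_left] at h2
        exact h2
    apply Subgroup.map_injective M.subtype_injective
    rw [h1, ← MonoidHom.range_eq_map, Subgroup.range_subtype]

end Cfsg.Agent.S2847
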