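import Cfsg.Statements.S2846
import Cfsg.Agent.S2847
import Cfsg.Agent.S2843
import Cfsg.Agent.S2845

set_option autoImplicit false
open Cfsg

namespace Cfsg.Agent.S2846

open Cfsg.Agent.Helper47 Cfsg.Agent.Helper46 Cfsg.Agent.Helper48 Cfsg.Agent.Helper21

/-- `Y_X ≠ 1` for a member `X ≥ T` of `𝓛_H`. -/
theorem largestPReducedOf_ne_bot {H : Type*} [Group H] [Finite H] {p : ℕ} [hp : Fact p.Prime]
    (T : Sylow p H) {X : Subgroup H} (hX : X ∈ Cfsg.charPSubgroups p H)
    (hTX : (T : Subgroup H) ≤ X) : Cfsg.largestPReducedOf p X ≠ ⊥ := by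
  have hXc := charP_of_mem_charPSubgroups hX
  have hXL := mem_charPSubgroups_iff.mp hX
  have hTne : (T : Subgroup H) ≠ ⊥ := by
    intro h
    apply hXL.1
    rw [eq_bot_iff, ← h]
    exact pCoreOf_le_sylow T hTX
  intro h
  apply omegaOne_center_ne_bot T.2 hTne
  rw [eq_bot_iff, ← h]
  exact (omega_center_le_sylowCenterClosure (isSylIn_of_sylow_le T hTX)).trans
    (isPRedIn_sylowCenterClosure (isCharPIn_of_subtype hXc)).le_largestPReducedOf

/-- Let Q be a nontrivial large p-subgroup of the finite group H, S a Sylow p-subgroup containing Q, and L a subgroup containing S with O_p(L) ≠ 1 and C_H(O_p(L)) ≤ O_p(L). Then there are a subgroup M containing S having the basic property (M ∈ 𝔐_H, writing Y_X for the largest p-reduced normal subgroup of X and 𝓛_H for the set of subgroups X with O_p(X) ≠ 1 and C_H(O_p(X)) ≤ O_p(X): M ∈ 𝓛_H, M·C_H(Y_M) is the only maximal member of 𝓛_H containing M and its largest p-reduced normal subgroup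 is again Y_M, C_M(Y_M) is p-closed, and the image of C_M(Y_M) in M/O_p(M) lies in the Frattini subgroup of M/O_p(M)) and a subgroup L* with S ≤ L* ≤ M, O_p(L*) ≠ 1, C_H(O_p(L*)) ≤ O_p(L*), such that L·C_H(Y_L) = L*·C_H(Y_L), the weak closures of Q in L and in L* agree and lie in that of M, and Y_L = Y_{L*} ≤ Y_M. If moreover Q is not normal in L, then Q is normal in neither L* nor M. -/
theorem result {H : Type*} [Group H] [Finite H] {p : ℕ} [Fact p.Prime] (Q : Subgroup H) (hQp : IsPGroup p ↥Q) (hQ1 : Q ≠ ⊥) (hLg : Cfsg.IsLarge Q) (S : Sylow p H) (hQS : Q ≤ (S : Subgroup H)) (L : Subgroup H) (hSL : (S : Subgroup H) ≤ L) (hL : L ∈ Cfsg.charPSubgroups p H) : ∃ M Ls : Subgroup H, (S : Subgroup H) ≤ M ∧ Cfsg.IsInFrakM p M ∧ (S : Subgroup H) ≤ Ls ∧ Ls ≤ M ∧ Ls ∈ Cfsg.charPSubgroups p H ∧ L ⊔ Subgroup.centralizer (((Cfsg.largestPReducedOf p L) : Subgroup H) : Set H) = Ls ⊔ Subgroup.centralizer (((Cfsg.largestPReducedOf p L) : Subgroup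 H) : Set H) ∧ Cfsg.weakClosure Q L = Cfsg.weakClosure Q Ls ∧ Cfsg.weakClosure Q Ls ≤ Cfsg.weakClosure Q M ∧ (Cfsg.largestPReducedOf p L) = (Cfsg.largestPReducedOf p Ls) ∧ (Cfsg.largestPReducedOf p Ls) ≤ (Cfsg.largestPReducedOf p M) ∧ (¬ L ≤ Subgroup.normalizer ((Q : Subgroup H) : Set H) → ¬ Ls ≤ Subgroup.normalizer ((Q : Subgroup H) : Set H) ∧ ¬ M ≤ Subgroup.normalizer ((Q : Subgroup H) : Set H)) := by
  have hH : Cfsg.IsOfParabolicCharacteristic p H := (Cfsg.Agent.S2845.result Q hQp hQ1 hLg).2.2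
  obtain ⟨M, Ls, hSM, hMfrak, hSLs, hLsM, hLs𝓛, hYeq, hYle, hsup⟩ :=
    Cfsg.Agent.S2847.result hH S L hSL hL
  have hwc := isWeaklyClosedSubgroup_of_isLarge hQp hQ1 hLg
  have hYL : IsPRedIn p (Cfsg.largestPReducedOf p L) L := isPRedIn_largestPReducedOf L
  have hYLp : IsPGroup p (Cfsg.largestPReducedOf p L) :=
    Cfsg.Agent.Lib.isElementaryAbelian_isPGroup hYL.isElementaryAbelian
  have hYL1 : Cfsg.largestPReducedOf p L ≠ ⊥ := largestPReducedOf_ne_bot S hL hSL
  have hYLs : IsPRedIn p (Cfsg.largestPReducedOf p L) Ls :=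
    hYeq ▸ isPRedIn_largestPReducedOf (p := p) Ls
  have hwcL := (Cfsg.Agent.S2843.result Q hQp hQ1 hLg L (hQS.trans hSL)
    (Cfsg.largestPReducedOf p L) hYLp hYL1 hYL.le_normalizer).1
  have hwcLs := (Cfsg.Agent.S2843.result Q hQp hQ1 hLg Ls (hQS.trans hSLs)
    (Cfsg.largestPReducedOf p L) hYLp hYL1 hYLs.le_normalizer).1
  have hwceq : Cfsg.weakClosure Q L = Cfsg.weakClosure Q Ls := by rw [hwcL, hwcLs, hsup]
  refine ⟨M, Ls, hSM, hMfrak, hSLs, hLsM, hLs𝓛, hsup, hwceq, ?_, hYeq, hYeq ▸ hYle, ?_⟩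
  · exact iSup_le fun g => le_iSup_of_le ⟨g.1, g.2.trans hLsM⟩ le_rfl
  · intro hLn
    have hLsn : ¬ Ls ≤ Subgroup.normalizer ((Q : Subgroup H) : Set H) := by
      intro hLsn
      apply hLn
      have h1 : Cfsg.weakClosure Q Ls ≤ Q := by
        refine iSup_le fun g => ?_
        obtain ⟨k, hk, e⟩ := wc_exists_conj_in hQp hwc (hQS.trans hSLs) g.2
        show conjSub (g : H) Q ≤ Q
        rw [e]
        exact (conjSub_eq_self_iff.mpr (hLsn hk)).le
      intro l hl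
      rw [← conjSub_eq_self_iff]
      have h2 : conjSub l Q ≤ L := by
        rintro _ ⟨x, hx, rfl⟩
        exact L.mul_mem (L.mul_mem hl (hSL (hQS hx))) (L.inv_mem hl)
      have h3 : conjSub l Q ≤ Q := by
        refine le_trans ?_ h1
        rw [← hwceq]
        exact le_iSup_of_le (ι := {g : H // Q.map (MulAut.conj g).toMonoidHom ≤ L}) ⟨l, h2⟩ le_rfl
      apply Subgroup.eq_of_le_of_card_ge h3
      exact (Subgroup.card_map_of_injective (MulAut.conj l).injective).ge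
    exact ⟨hLsn, fun h => hLsn (hLsM.trans h)⟩

end Cfsg.Agent.S2846
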