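import Cfsg.Statements.S2850
import Cfsg.Agent.Helper87.AsymM

set_option autoImplicit false
open Cfsg

namespace Cfsg.Agent.S2850

open Cfsg.Agent.Helper46 Cfsg.Agent.Helper47 Cfsg.Agent.Helper48 Cfsg.Agent.Helper21
open Cfsg.Agent.Helper87.AsymM

/-- Standing hypotheses: G a finite group, S a Sylow p-subgroup, Q a nontrivial large p-subgroup of G contained in S (C_G(Q) ≤ Q and N_G(U) ≤ N_G(Q) for all nontrivial U ≤ C_G(Q)), and M a subgroup containing S with the basic property (M ∈ 𝔐_G(S)); Y_M denotes the largest p-reduced normal subgroup of M and M† = M·C_G(Y_M). Suppose Y_M is asymmetric in G. Then N_G(L) ≤ N_G(O_p(M)) ≤ M† for every p-subgroup L containing O_p(M); O_p(M) is a weakly closed subgroup of G; for every subgroup L containing O_p(M), L ∩ M† contains a Sylow p-subgroup of L; and two elements of Y_M conjugate in G are conjugate in M. -/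
theorem result {G : Type*} [Group G] [Finite G] {p : ℕ} [Fact p.Prime] (S : Sylow p G) (Q : Subgroup G) (hQp : IsPGroup p ↥Q) (hQ1 : Q ≠ ⊥) (hQS : Q ≤ (S : Subgroup G)) (hQ : Cfsg.IsLarge Q) (M : Subgroup G) (hSM : (S : Subgroup G) ≤ M) (hM : Cfsg.IsInFrakM p M) (hasym : ¬ Cfsg.IsSymmetricIn (Cfsg.largestPReducedOf p M)) : (∀ L : Subgroup G, IsPGroup p ↥L → (Cfsg.pCoreOf p M) ≤ L → Subgroup.normalizer ((L : Subgroup G) : Set G) ≤ Subgroup.normalizer (((Cfsg.pCoreOf p M) : Subgroup G) : Set G) ∧ Subgroup.normalizer (((Cfsg.pCoreOf p M) : Subgroup G) : Set G) ≤ (M ⊔ Subgroup.centralizer (((Cfsg.largestPReducedOf p M) : Subgroup G) : Set G))) ∧ Cfsg.IsWeaklyClosedSubgroup p (Cfsg.pCoreOf p M) ∧ (∀ L : Subgroup G, (Cfsg.pCoreOf p M) ≤ L → Cfsg.IsParabolic p ((L ⊓ (M ⊔ Subgroup.centralizer (((Cfsg.largestPReducedOf p M) : Subgroup G) : Set G))).subgroupOf L)) ∧ (∀ x ∈ (Cfsg.largestPReducedOf p M), ∀ g : G, g * x * g⁻¹ ∈ (Cfsg.largestPReducedOf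 p M) → ∃ m ∈ M, m * x * m⁻¹ = g * x * g⁻¹) := by
  have hY : IsPRedIn p (Cfsg.largestPReducedOf p M) M := isPRedIn_largestPReducedOf M
  obtain ⟨hML, -, huniq, -, hcl, -⟩ := hM
  have ctx : Ctx p S M (Cfsg.largestPReducedOf p M) :=
    { hSM := hSM
      hY := hY
      hR0 := Cfsg.Agent.S2848.pCoreOf_eq_inf_centralizer S hSM hY hcl
      hR0ne := (mem_charPSubgroups_iff.mp hML).1
      hasym := hasym
      hpar := fun R hR hP1 => IsLarge.centralizer_pCoreOf_le_of_isParabolic hQp hQ1 hQ hR hP1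
      hmax := fun X hX hMX => le_Md_of_mem_charPSubgroups huniq hX hMX }
  refine ⟨fun L hLp hRL => ⟨ctx.normalizer_le_normalizer_R0 hLp hRL, ctx.normalizer_R0_le_Md⟩,
    ctx.weaklyClosed_R0, fun L hRL => ctx.parabolic_inf_Md hRL,
    fun x hx g hgx => ctx.fusion_in_Y hx hgx⟩

end Cfsg.Agent.S2850
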