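import Cfsg.Statements.S2856
import Cfsg.Agent.Helper2.AmalgamV
import Cfsg.Agent.Helper2.NilAct

set_option autoImplicit false
set_option maxHeartbeats 400000
set_option linter.unusedVariables false
set_option linter.style.haveILetI false
open Cfsg
open scoped commutatorElement

namespace Cfsg.Agent.S2856

/-- Let (M₁, M₂) be an amalgam pair in X satisfying the rank-two standing hypothesis (characteristic p, the normalizers in M₁ and in M₂ of a Sylow p-subgroup of M₁ ∩ M₂ equal and contained in M₁ ∩ M₂, and strongly p-embedded residues), λ a vertex of the coset graph, L_λ the subgroup of its stabilizer generated by the p-elements, Q_λ = O_p of the stabilizer, O^p(L_λ) the subgroup of L_λ generated by its elements of order prime to p, and V_λ^{(k)} the subgroup generated by the Z_μ over the vertices μ at distance at most k from λ (Z_μ being generated by the Ω₁(Z(S)), S a Sylow p-subgroup of the stabilizer of μ). If n ≥ 1 and V_λ^{(n)} ≤ Q_λ,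 then O^p(L_λ) does not centralize V_λ^{(n)}/[V_λ^{(n)}, Q_λ], that is, [V_λ^{(n)}, O^p(L_λ)] is not contained in [V_λ^{(n)}, Q_λ]. -/
theorem result {X : Type*} [Group X] {p : ℕ} [Fact p.Prime] (M₁ M₂ : Subgroup X) (h : Cfsg.IsSpeAmalgamPair p M₁ M₂) (lam : Cfsg.CosetVertex M₁ M₂) (n : ℕ) (hn : 1 ≤ n) (V : Subgroup X) (hV : V = Cfsg.vertexVIter p M₁ M₂ n lam) (hVQ : V ≤ Cfsg.vertexQ p lam) : ¬ ⁅V, ((Cfsg.pResidual p ↥(Cfsg.pElementClosure p (MulAction.stabilizer X lam))).map (Cfsg.pElementClosure p (MulAction.stabilizer X lam)).subtype)⁆ ≤ ⁅V, Cfsg.vertexQ p lam⁆ := by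
  intro hle
  open Cfsg.Agent.Helper46 Cfsg.Agent.Helper2.AmalgamV in
  have hc : Cfsg.IsCharPAmalgamPair p M₁ M₂ := h.1
  have hgen : M₁ ⊔ M₂ = ⊤ := hc.1.1
  obtain ⟨μ, hμ⟩ := exists_adj (M₁ := M₁) (M₂ := M₂) lam
  obtain ⟨m, rfl⟩ : ∃ m, n = m + 1 := ⟨n - 1, by omega⟩
  subst hV
  set Gl := MulAction.stabilizer X lam with hGl
  set Gm := MulAction.stabilizer X μ with hGm
  set L := Cfsg.pElementClosure p Gl with hL
  set R := (Cfsg.pResidual p ↥L).map L.subtype with hR
  set V := Cfsg.vertexVIter p M₁ M₂ (m + 1) lam with hV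
  set Q := Cfsg.vertexQ p lam with hQ
  set V₀ := ⁅V, Q⁆ with hV₀
  set W := Cfsg.vertexVIter p M₁ M₂ m μ with hW
  have hfin : Finite Gl := cg_finite_stabilizer hc lam
  have hLG : L ≤ Gl := pElementClosure_le Gl
  have hfinL : Finite L := finite_of_le hLG
  have hRG : R ≤ Gl := (Subgroup.map_subtype_le _).trans hLG
  have hWV : W ≤ V := vertexVIter_le_succ_of_adj hgen hμ m
  have hGmW : Gm ≤ Subgroup.normalizer (W : Set X) := vertexVIter_normalized hc m μ
  have hGlV : Gl ≤ Subgroup.normalizer (V : Set X) := vertexVIter_normalized hc (m + 1) lam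
  have hGlQ : Gl ≤ Subgroup.normalizer (Q : Set X) := pCoreOf_normalized Gl
  have hGlV₀ : Gl ≤ Subgroup.normalizer (V₀ : Set X) := commutator_normalized hGlV hGlQ
  have hQG : Q ≤ Gl := pCoreOf_le Gl
  have hQE : Q ≤ Cfsg.edgeStabilizer lam μ := cg_vertexQ_le_edge hc hμ
  have hEW : Cfsg.edgeStabilizer lam μ ≤ Subgroup.normalizer (W : Set X) :=
    inf_le_right.trans hGmW
  -- conjugation by `g ∈ G_lam` maps `W` into `W ⊔ V₀`
  obtain ⟨T, hT⟩ := cg_exists_sylIn_edge (p := p) lam μ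
  have hTl : IsSylIn p T Gl := cg_sylIn_edge_vertex hc hμ hT
  have hTL : T ≤ L := le_pElementClosure hTl.le hTl.isPGroup
  have hTL' : IsSylIn p T L := hTl.of_ge hTL hLG
  obtain ⟨S, hS⟩ := hTL'
  have hconj : ∀ g ∈ Gl, ∀ w ∈ W, g * w * g⁻¹ ∈ W ⊔ V₀ := by
    intro g hg w hw
    obtain ⟨r, hr, k, hk, rfl⟩ := cg_spe_factor h hμ hg
    obtain ⟨r', hr', s, hs, rfl⟩ := exists_mul_of_residual_sylow S hr
    rw [hS] at hs
    have hsk : s * k ∈ Subgroup.normalizer (W : Set X) := mul_mem (hEW (hT.le hs)) (hEW hk)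
    have hw' : (s * k) * w * (s * k)⁻¹ ∈ W := (Subgroup.mem_normalizer_iff.1 hsk w).1 hw
    set w' := (s * k) * w * (s * k)⁻¹ with hw'def
    have h1 : ⁅w', r'⁆ ∈ V₀ := hle (Subgroup.commutator_mem_commutator (hWV hw') hr')
    have e : r' * s * k * w * (r' * s * k)⁻¹ = (⁅w', r'⁆)⁻¹ * w' := by
      rw [hw'def]; simp only [commutatorElement_def]; group
    rw [e]
    exact mul_mem (Subgroup.mem_sup_right (inv_mem h1)) (Subgroup.mem_sup_left hw')
  -- hence `V ≤ W ⊔ V₀`
  have hVle : V ≤ W ⊔ V₀ := by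
    apply vertexVIter_succ_le hc m lam
    intro μ' hμ'
    obtain ⟨g, hg, rfl⟩ := cg_neighbours_transitive lam μ μ' hμ hμ'
    have hsub : (Cfsg.vertexVIter p M₁ M₂ m (g • μ)).map (MulAut.conj g⁻¹).toMonoidHom ≤ W := by
      have := vertexVIter_smul hc g⁻¹ m (g • μ)
      rwa [inv_smul_smul] at this
    intro x hx
    have hx' : g⁻¹ * x * g⁻¹⁻¹ ∈ W := hsub ⟨x, hx, by simp [MulAut.conj_apply]⟩
    have := hconj g hg _ hx'
    have e : g * (g⁻¹ * x * g⁻¹⁻¹) * g⁻¹ = x := by group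
    rwa [e] at this
  -- the nilpotent action lemma: `V ≤ W`
  have hfinQ : Finite Q := finite_of_le hQG
  have hQp : IsPGroup p Q := pCoreOf_isPGroup Gl
  have hVW : V ≤ W :=
    Cfsg.Agent.Helper2.NilAct.le_of_le_sup_commutator_ambient hQp hWV hVQ (hQG.trans hGlV)
      (hQE.trans hEW) hVle
  have hVeq : V = W := le_antisymm hVW hWV
  have hVT : V ≤ T := hVQ.trans hTl.pCoreOf_le
  have hbot : V = ⊥ := cg_spe_trivial h hμ hT V hVT (hLG.trans hGlV)
    ((pElementClosure_le Gm).trans (hVeq ▸ hGmW))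
  have hZ : Cfsg.vertexZ p lam ≤ V := self_le_vertexVIter hgen (m + 1) lam
  rw [hbot, le_bot_iff] at hZ
  exact vertexZ_ne_bot hc lam hZ

end Cfsg.Agent.S2856
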