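import Cfsg.Statements.S2857
import Cfsg.Agent.Helper2.AmalgamV

set_option autoImplicit false
set_option maxHeartbeats 400000
set_option linter.unusedVariables false
set_option linter.style.haveILetI false
open Cfsg
open scoped commutatorElement

namespace Cfsg.Agent.S2857

/-- Let (M₁, M₂) be an amalgam pair in X satisfying the rank-two standing hypothesis (characteristic p, the normalizers in M₁ and in M₂ of a Sylow p-subgroup of M₁ ∩ M₂ equal and contained in M₁ ∩ M₂, and strongly p-embedded residues), λ a vertex of the coset graph, L_λ the subgroup of its stabilizer generated by the p-elements, Q_λ = O_p of the stabilizer, O^p(L_λ) the subgroup of L_λ generated by its elements of order prime to p, and V_λ^{(k)} the subgroup generated by the Z_μ over the vertices μ at distance at most k from λ (Z_μ being generated by the Ω₁(Z(S)), S a Sylow p-subgroup of the stabilizer of μ). If n ≥ 2 and V_λ^{(n)} ≤ Q_λ, then O^p(L_λ) does not centralize V_λ^{(n)}/V_λ^{(n-2)},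 that is, [V_λ^{(n)}, O^p(L_λ)] is not contained in V_λ^{(n-2)}. -/
theorem result {X : Type*} [Group X] {p : ℕ} [Fact p.Prime] (M₁ M₂ : Subgroup X) (h : Cfsg.IsSpeAmalgamPair p M₁ M₂) (lam : Cfsg.CosetVertex M₁ M₂) (n : ℕ) (hn : 2 ≤ n) (hVQ : Cfsg.vertexVIter p M₁ M₂ n lam ≤ Cfsg.vertexQ p lam) : ¬ ⁅Cfsg.vertexVIter p M₁ M₂ n lam, ((Cfsg.pResidual p ↥(Cfsg.pElementClosure p (MulAction.stabilizer X lam))).map (Cfsg.pElementClosure p (MulAction.stabilizer X lam)).subtype)⁆ ≤ Cfsg.vertexVIter p M₁ M₂ (n - 2) lam := by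
  intro hle
  open Cfsg.Agent.Helper46 Cfsg.Agent.Helper2.AmalgamV in
  have hc : Cfsg.IsCharPAmalgamPair p M₁ M₂ := h.1
  have hgen : M₁ ⊔ M₂ = ⊤ := hc.1.1
  obtain ⟨μ, hμ⟩ := exists_adj (M₁ := M₁) (M₂ := M₂) lam
  obtain ⟨m, rfl⟩ : ∃ m, n = m + 2 := ⟨n - 2, by omega⟩
  have hm : m + 2 - 2 = m := by omega
  rw [hm] at hle
  set Gl := MulAction.stabilizer X lam with hGl
  set Gm := MulAction.stabilizer X μ with hGm
  set L := Cfsg.pElementClosure p Gl with hL
  set R := (Cfsg.pResidual p ↥L).map L.subtype with hR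
  set V := Cfsg.vertexVIter p M₁ M₂ (m + 2) lam with hV
  set V₀ := Cfsg.vertexVIter p M₁ M₂ m lam with hV₀
  set W := Cfsg.vertexVIter p M₁ M₂ (m + 1) μ with hW
  have hfin : Finite Gl := cg_finite_stabilizer hc lam
  have hLG : L ≤ Gl := pElementClosure_le Gl
  have hfinL : Finite L := finite_of_le hLG
  have hV₀W : V₀ ≤ W := vertexVIter_le_succ_of_adj hgen hμ.symm m
  have hWV : W ≤ V := vertexVIter_le_succ_of_adj hgen hμ (m + 1)
  have hGmW : Gm ≤ Subgroup.normalizer (W : Set X) := vertexVIter_normalized hc (m + 1) μ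
  -- `R` normalizes `W`
  have hRW : R ≤ Subgroup.normalizer (W : Set X) := by
    apply le_normalizer_of_conj_mem
    intro r hr w hw
    have h1 : ⁅w, r⁆ ∈ W := hV₀W (hle (Subgroup.commutator_mem_commutator (hWV hw) hr))
    have e : r * w * r⁻¹ = (⁅w, r⁆)⁻¹ * w := by
      simp only [commutatorElement_def]; group
    rw [e]
    exact mul_mem (inv_mem h1) hw
  -- a Sylow subgroup of the edge stabilizer
  obtain ⟨T, hT⟩ := cg_exists_sylIn_edge (p := p) lam μ
  have hTl : IsSylIn p T Gl := cg_sylIn_edge_vertex hc hμ hT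
  have hTL : T ≤ L := le_pElementClosure hTl.le hTl.isPGroup
  have hTL' : IsSylIn p T L := hTl.of_ge hTL hLG
  obtain ⟨S, hS⟩ := hTL'
  have hEW : Cfsg.edgeStabilizer lam μ ≤ Subgroup.normalizer (W : Set X) :=
    inf_le_right.trans hGmW
  -- `G_lam` normalizes `W`
  have hGlW : Gl ≤ Subgroup.normalizer (W : Set X) := by
    intro g hg
    obtain ⟨r, hr, k, hk, rfl⟩ := cg_spe_factor h hμ hg
    obtain ⟨r', hr', s, hs, rfl⟩ := exists_mul_of_residual_sylow S hr
    rw [hS] at hs
    exact mul_mem (mul_mem (hRW hr') (hEW (hT.le hs))) (hEW hk)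
  have hVQ' : W ≤ T := (hWV.trans hVQ).trans hTl.pCoreOf_le
  have hbot : W = ⊥ := cg_spe_trivial h hμ hT W hVQ' (hLG.trans hGlW)
    ((pElementClosure_le Gm).trans hGmW)
  have hZ : Cfsg.vertexZ p μ ≤ W := self_le_vertexVIter hgen (m + 1) μ
  rw [hbot, le_bot_iff] at hZ
  exact vertexZ_ne_bot hc μ hZ

end Cfsg.Agent.S2857
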