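import Cfsg.Statements.S2859
import Cfsg.Agent.Helper87.WCFactor

set_option autoImplicit false
open Cfsg

namespace Cfsg.Agent.S2859

open Cfsg.Agent.Helper47 Cfsg.Agent.Helper48 Cfsg.Agent.Helper87.WCF

/-- One side of the transfer: facts about `K = O^p(wcY Q' H')` pushed to the ambient group. -/
theorem side {G : Type*} [Group G] {Hc Q H K : Subgroup G} (K' : Subgroup ↥Hc)
    (Q' H' : Subgroup ↥Hc) (hQ : Q'.map Hc.subtype = Q) (hH : H'.map Hc.subtype = H)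
    (hK : K = K'.map Hc.subtype) (h1 : ⁅K', Q'⁆ = K') (h2 : ⁅K', H'⁆ = K')
    (h3 : K' ≤ ⁅H', H'⁆) (h4 : K'.Normal) :
    ⁅K, Q⁆ = K ∧ ⁅K, H⁆ = K ∧ K ≤ ⁅H, H⁆ ∧ Hc ≤ Subgroup.normalizer ((K : Subgroup G) : Set G) := by
  subst hQ hH hK
  refine ⟨?_, ?_, ?_, ?_⟩
  · rw [← Subgroup.map_commutator, h1]
  · rw [← Subgroup.map_commutator, h2]
  · rw [← Subgroup.map_commutator]; exact Subgroup.map_mono h3
  · intro h hh
    rw [Subgroup.mem_normalizer_iff_map_conj_eq]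
    have e := map_subtype_map_conj Hc K' ⟨h, hh⟩
    have e2 : K'.map (MulAut.conj (⟨h, hh⟩ : ↥Hc)).toMonoidHom = K' :=
      conjSub_eq_self_iff.mpr (le_normalizer_of_normal ⊤ K' (Subgroup.mem_top _))
    rw [e2] at e
    exact e.symm

/-- Let Q be a nontrivial p-subgroup of the finite group H that is a weakly closed subgroup, H° the weak closure of Q in H (generated by the conjugates of Q) and H_∘ = O^p(H°). Suppose H₁, H₂ are normal subgroups of H° with H° = H₁H₂ and [H₁, H₂] ≤ N_H(Q), and put Kᵢ = O^p of the weak closure of Q in HᵢQ. Then for i = 1, 2: Kᵢ = [Kᵢ, Q] = [Kᵢ, Hᵢ] ≤ Hᵢ′ and Kᵢ is normal in H°; H_∘ = K₁K₂; and [K₁, K₂] ≤ O_p(H°). -/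
theorem result {G : Type*} [Group G] [Finite G] {p : ℕ} [Fact p.Prime] (Q : Subgroup G) (hQp : IsPGroup p ↥Q) (hQ1 : Q ≠ ⊥) (hwc : Cfsg.IsWeaklyClosedSubgroup p Q) (Hc : Subgroup G) (hHc : Hc = Cfsg.weakClosure Q ⊤) (H₁ H₂ : Subgroup G) (hn₁ : H₁ ≤ Hc ∧ Hc ≤ Subgroup.normalizer ((H₁ : Subgroup G) : Set G)) (hn₂ : H₂ ≤ Hc ∧ Hc ≤ Subgroup.normalizer ((H₂ : Subgroup G) : Set G)) (hprod : H₁ ⊔ H₂ = Hc) (hcomm : ⁅H₁, H₂⁆ ≤ Subgroup.normalizer ((Q : Subgroup G) : Set G)) (K₁ K₂ : Subgroup G) (hK₁ : K₁ = ((Cfsg.pResidual p ↥(Cfsg.weakClosure Q (H₁ ⊔ Q))).map ((Cfsg.weakClosure Q (H₁ ⊔ Q))).subtype)) (hK₂ : K₂ = ((Cfsg.pResidual p ↥(Cfsg.weakClosure Q (H₂ ⊔ Q))).map ((Cfsg.weakClosure Q (H₂ ⊔ Q))).subtype)) : (⁅K₁, Q⁆ = K₁ ∧ ⁅K₁, H₁⁆ = K₁ ∧ K₁ ≤ ⁅H₁, H₁⁆ ∧ Hc ≤ Subgroup.normalizer ((K₁ : Subgroup G) : Set G)) ∧ (⁅K₂, Q⁆ = K₂ ∧ ⁅K₂, H₂⁆ = K₂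 ∧ K₂ ≤ ⁅H₂, H₂⁆ ∧ Hc ≤ Subgroup.normalizer ((K₂ : Subgroup G) : Set G)) ∧ K₁ ⊔ K₂ = ((Cfsg.pResidual p ↥Hc).map (Hc).subtype) ∧ ⁅K₁, K₂⁆ ≤ (Cfsg.pCoreOf p Hc) := by
  have hHc' : Hc = ⨆ g : G, conjSub g Q := by rw [hHc, weakClosure_top]
  have hQHc : Q ≤ Hc := le_of_eq_iSup_conj hHc'
  have hQp' : IsPGroup p ↥(Q.subgroupOf Hc) := hQp.comap_subtype
  have hwc' : Cfsg.IsWeaklyClosedSubgroup p (Q.subgroupOf Hc) := wc_subgroupOf hQp hwc hQHc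
  have htop' := iSup_conj_subgroupOf hQp hwc hHc'
  have hN₁ : (H₁.subgroupOf Hc).Normal :=
    (Subgroup.normal_subgroupOf_iff_le_normalizer hn₁.1).mpr hn₁.2
  have hN₂ : (H₂.subgroupOf Hc).Normal :=
    (Subgroup.normal_subgroupOf_iff_le_normalizer hn₂.1).mpr hn₂.2
  have hprod' : H₁.subgroupOf Hc ⊔ H₂.subgroupOf Hc = ⊤ := by
    rw [← Subgroup.subgroupOf_sup hn₁.1 hn₂.1, hprod, Subgroup.subgroupOf_self]
  have hQmap : (Q.subgroupOf Hc).map Hc.subtype = Q := Subgroup.map_subgroupOf_eq_of_le hQHc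
  have hH₁map : (H₁.subgroupOf Hc).map Hc.subtype = H₁ := Subgroup.map_subgroupOf_eq_of_le hn₁.1
  have hH₂map : (H₂.subgroupOf Hc).map Hc.subtype = H₂ := Subgroup.map_subgroupOf_eq_of_le hn₂.1
  have hcomm' : ⁅H₁.subgroupOf Hc, H₂.subgroupOf Hc⁆ ≤
      Subgroup.normalizer ((Q.subgroupOf Hc : Subgroup ↥Hc) : Set ↥Hc) := by
    apply normalizer_subgroupOf_of_le
    rw [Subgroup.map_commutator, hH₁map, hH₂map]
    exact hcomm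
  have hcomm'' : ⁅H₂.subgroupOf Hc, H₁.subgroupOf Hc⁆ ≤
      Subgroup.normalizer ((Q.subgroupOf Hc : Subgroup ↥Hc) : Set ↥Hc) := by
    rw [Subgroup.commutator_comm]; exact hcomm'
  have hprod'' : H₂.subgroupOf Hc ⊔ H₁.subgroupOf Hc = ⊤ := by rw [sup_comm]; exact hprod'
  have hK₁' : K₁ = (opOf p (wcY (Q.subgroupOf Hc) (H₁.subgroupOf Hc))).map Hc.subtype := by
    rw [hK₁]; exact pResidual_weakClosure_eq_map hQp hwc hQHc hn₁.1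
  have hK₂' : K₂ = (opOf p (wcY (Q.subgroupOf Hc) (H₂.subgroupOf Hc))).map Hc.subtype := by
    rw [hK₂]; exact pResidual_weakClosure_eq_map hQp hwc hQHc hn₂.1
  obtain ⟨a1, a2, a3⟩ := one_sided hQp' hwc' htop' hprod' hcomm'
  obtain ⟨b1, b2, b3⟩ := one_sided hQp' hwc' htop' hprod'' hcomm''
  obtain ⟨c1, c2⟩ := two_sided hQp' hwc' htop' hprod' hcomm'
  refine ⟨?_, ?_, ?_, ?_⟩
  · exact side _ _ _ hQmap hH₁map hK₁' (comm_opOf_wcY hQp' hwc' _) a3 a1 a2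
  · exact side _ _ _ hQmap hH₂map hK₂' (comm_opOf_wcY hQp' hwc' _) b3 b1 b2
  · rw [hK₁', hK₂', ← Subgroup.map_sup, c2]
  · rw [hK₁', hK₂', ← Subgroup.map_commutator]
    exact Subgroup.map_mono c1

end Cfsg.Agent.S2859
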