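import Cfsg.Statements.S2860
import Cfsg.Agent.Helper87.LargeQS2

set_option autoImplicit false
open Cfsg

namespace Cfsg.Agent.S2860

open Cfsg.Agent.Helper21 Cfsg.Agent.Helper47 Cfsg.Agent.Helper87.WCF Cfsg.Agent.Helper87.LargeQS

/-- Let Q be a nontrivial large p-subgroup of the finite group H, U a nontrivial elementary abelian p-subgroup of H, and Q ≤ E ≤ N_H(U) with Q not normal in E. Suppose O_p(E/C_E(U)) = 1 and O^p(E)·C_E(U)/C_E(U) is quasisimple. Let E° be the weak closure of Q in E (generated by the conjugates of Q inside E) and E_∘ = O^p(E°). Then O^p(E)·C_E(U) = E_∘·C_E(U); E_∘ is perfect and equals O^p(E_∘); E_∘/C_{E_∘}(U) and E_∘/O_p(E_∘) are quasisimple; and E_∘ = [E_∘, Y] for every p-subgroup Y of E not centralizing U. -/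
theorem result {G : Type*} [Group G] [Finite G] {p : ℕ} [Fact p.Prime] (Q : Subgroup G) (hQp : IsPGroup p ↥Q) (hQ1 : Q ≠ ⊥) (hQ : Cfsg.IsLarge Q) (U : Subgroup G) (hU : Cfsg.IsElementaryAbelian p U) (hU1 : U ≠ ⊥) (E : Subgroup G) (hQE : Q ≤ E) (hEU : E ≤ Subgroup.normalizer ((U : Subgroup G) : Set G)) (hQn : ¬ E ≤ Subgroup.normalizer ((Q : Subgroup G) : Set G)) [hn : ((Subgroup.centralizer ((U : Subgroup G) : Set G)).subgroupOf E).Normal] (hred : Cfsg.pCore p (↥E ⧸ (Subgroup.centralizer ((U : Subgroup G) : Set G)).subgroupOf E) = ⊥) (hqs : Cfsg.IsQuasisimple ↥(((Cfsg.pResidual p ↥E) ⊔ (Subgroup.centralizer ((U : Subgroup G) : Set G)).subgroupOf E).map (QuotientGroup.mk' ((Subgroup.centralizer ((U : Subgroup G) : Set G)).subgroupOf E)))) (Er : Subgroup G) (hEr : Er = ((Cfsg.pResidual p ↥(Cfsg.weakClosure Q E)).map ((Cfsg.weakClosure Q E)).subtype)) [hn2 : ((Subgroup.centralizer ((U : Subgroup G) : Set G)).subgroupOf Er).Normal] : ((Cfsg.pResidual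 p ↥E).map (E).subtype) ⊔ (E ⊓ Subgroup.centralizer ((U : Subgroup G) : Set G)) = Er ⊔ (E ⊓ Subgroup.centralizer ((U : Subgroup G) : Set G)) ∧ ⁅Er, Er⁆ = Er ∧ ((Cfsg.pResidual p ↥Er).map (Er).subtype) = Er ∧ Cfsg.IsQuasisimple (↥Er ⧸ (Subgroup.centralizer ((U : Subgroup G) : Set G)).subgroupOf Er) ∧ Cfsg.IsQuasisimple (↥Er ⧸ Cfsg.pCore p ↥Er) ∧ ∀ Y : Subgroup G, Y ≤ E → IsPGroup p ↥Y → ¬ Y ≤ Subgroup.centralizer ((U : Subgroup G) : Set G) → ⁅Er, Y⁆ = Er := by
  have hwc : Cfsg.IsWeaklyClosedSubgroup p Q := isWeaklyClosedSubgroup_of_isLarge hQp hQ1 hQ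
  have hUp : IsPGroup p ↥U := by
    intro g
    refine ⟨1, Subtype.ext ?_⟩
    simpa using hU.2 g g.2
  have hCQ : Subgroup.centralizer ((U : Subgroup G) : Set G) ≤
      Subgroup.normalizer ((Q : Subgroup G) : Set G) :=
    IsLarge.centralizer_le_normalizer hQp hQ hUp hU1 (hQE.trans hEU)
  have hEQ : E ⊔ Q = E := sup_eq_left.mpr hQE
  have hwcl : Cfsg.weakClosure Q E = wcY Q E := by
    have := weakClosure_eq_wcY hQp hwc E
    rwa [hEQ] at this
  have hErdef : Er = opOf p (wcY Q E) := by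
    rw [hEr, ← opOf_eq_map, hwcl]
  subst hErdef
  -- the quasisimple hypothesis in `bar` form
  have hres : (opOf p E).subgroupOf E = Cfsg.pResidual p ↥E := by
    rw [opOf_eq_map]
    exact Subgroup.comap_map_eq_self_of_injective E.subtype_injective _
  have hqs' : IsQuasisimple ↥(bar E (Subgroup.centralizer ((U : Subgroup G) : Set G)) (opOf p E)) := by
    have e : bar E (Subgroup.centralizer ((U : Subgroup G) : Set G)) (opOf p E) =
        ((Cfsg.pResidual p ↥E) ⊔ (Subgroup.centralizer ((U : Subgroup G) : Set G)).subgroupOf E).map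
          (QuotientGroup.mk' ((Subgroup.centralizer ((U : Subgroup G) : Set G)).subgroupOf E)) := by
      unfold bar
      rw [hres, Subgroup.map_sup]
      have : ((Subgroup.centralizer ((U : Subgroup G) : Set G)).subgroupOf E).map
          (QuotientGroup.mk' ((Subgroup.centralizer ((U : Subgroup G) : Set G)).subgroupOf E)) = ⊥ := by
        rw [Subgroup.map_eq_bot_iff, QuotientGroup.ker_mk']
      rw [this, sup_bot_eq]
    rw [e]; exact hqs
  refine ⟨?_, ?_, ?_, ?_, ?_, ?_⟩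
  · rw [← opOf_eq_map]
    exact opOf_sup_eq hQp hwc hQE hCQ hQn hqs'
  · exact opOf_wcY_perfect hQp hwc hQE hCQ hQn hqs'
  · rw [← opOf_eq_map, opOf_idem]
  · exact isQuasisimple_quotient_centralizer hQp hwc hQE hCQ hQn hqs'
  · exact isQuasisimple_quotient_pCore hQp hwc hQE hCQ hQn hred hqs'
  · intro Y hYE hYp hYC
    exact comm_opOf_wcY_eq hQp hwc hQE hCQ hQn hred hqs' hYE hYp hYC

end Cfsg.Agent.S2860
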