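import Cfsg.Statements.S2864
import Cfsg.Agent.Helper21.StabChain
import Cfsg.Agent.Helper21.FrakM

set_option autoImplicit false
open Cfsg

namespace Cfsg.Agent.S2864

open Cfsg.Agent.Helper21 Cfsg.Agent.Helper46

/-- Standing hypotheses: G a finite group, S a Sylow p-subgroup, Q a nontrivial large p-subgroup of G contained in S, M a subgroup containing S with the basic property (M ∈ 𝔐_G(S)); Y_M the largest p-reduced normal subgroup of M and M† = M·C_G(Y_M). Let I be a nontrivial normal p-subgroup of M and Y ≤ O_p(M†); let L be a subgroup of G containing Y and A a normal p-subgroup of L with I ≤ A ≤ M. If [Y, A] ≤ [I, A], then Y ≤ O_p(L). -/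
theorem result {G : Type*} [Group G] [Finite G] {p : ℕ} [Fact p.Prime] (S : Sylow p G) (Q : Subgroup G) (hQp : IsPGroup p ↥Q) (hQ1 : Q ≠ ⊥) (hQS : Q ≤ (S : Subgroup G)) (hQ : Cfsg.IsLarge Q) (M : Subgroup G) (hSM : (S : Subgroup G) ≤ M) (hM : Cfsg.IsInFrakM p M) (I : Subgroup G) (hI1 : I ≠ ⊥) (hIp : IsPGroup p ↥I) (hIM : I ≤ M ∧ M ≤ Subgroup.normalizer ((I : Subgroup G) : Set G)) (Y : Subgroup G) (hY : Y ≤ (Cfsg.pCoreOf p (M ⊔ Subgroup.centralizer (((Cfsg.largestPReducedOf p M) : Subgroup G) : Set G)))) (L : Subgroup G) (hYL : Y ≤ L) (A : Subgroup G) (hAp : IsPGroup p ↥A) (hAL : A ≤ L ∧ L ≤ Subgroup.normalizer ((A : Subgroup G) : Set G)) (hIA : I ≤ A) (hAM : A ≤ M) (hc : ⁅Y, A⁆ ≤ ⁅I, A⁆) : Y ≤ (Cfsg.pCoreOf p L) := by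
  set Md := M ⊔ Subgroup.centralizer (((Cfsg.largestPReducedOf p M) : Subgroup G) : Set G) with hMd
  have hNI : Subgroup.normalizer (I : Set G) ≤ Md :=
    IsInFrakM.normalizer_le_dagger S hQp hQ1 hQ hSM hM hI1 hIp hIM.2
  have hYp : IsPGroup p Y := (pCoreOf_isPGroup Md).to_le hY
  have hLA : L ≤ Subgroup.normalizer (A : Set G) := hAL.2
  set X := conjClosure Y L with hX
  have hXL : X ≤ L := conjClosure_le Y L hYL
  have hLX : L ≤ Subgroup.normalizer (X : Set G) := le_normalizer_conjClosure Y L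
  have hYX : Y ≤ X := le_conjClosure Y L
  have hXA : X ≤ Subgroup.normalizer (A : Set G) := hXL.trans hLA
  -- `Y` stabilizes the lower central series of `A`
  have hAY : ⁅A, Y⁆ ≤ ⁅A, A⁆ := by
    rw [Subgroup.commutator_comm A Y]
    exact hc.trans (Subgroup.commutator_mono hIA le_rfl)
  have hYstab : ∀ n, ⁅A.lowerCentralSeries n, Y⁆ ≤ A.lowerCentralSeries (n + 1) :=
    lcs_stable A Y (hYL.trans hLA) hAY
  have hstab : ∀ n, ⁅A.lowerCentralSeries n, X⁆ ≤ A.lowerCentralSeries (n + 1) := fun n =>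
    commutator_conjClosure_le _ _ Y L (hLA.trans (normalizer_le_normalizer_lcs A n))
      (hLA.trans (normalizer_le_normalizer_lcs A (n + 1))) hYL (hYstab n)
  -- `X₀ = C_X(A) ≤ M†`
  set X₀ := X ⊓ Subgroup.centralizer (A : Set G) with hX₀
  have hX₀Md : X₀ ≤ Md := by
    refine inf_le_right.trans (le_trans ?_ hNI)
    exact (Subgroup.centralizer_le hIA).trans (Subgroup.centralizer_le_normalizer _)
  have hLX₀ : L ≤ Subgroup.normalizer (X₀ : Set G) :=
    (le_inf hLX (hLA.trans (Cfsg.Agent.Helper22.normalizer_le_normalizer_centralizer A))).trans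
      Subgroup.inf_normalizer_le_normalizer_inf
  set P := Cfsg.pCoreOf p X₀ with hP
  have hLP : L ≤ Subgroup.normalizer (P : Set G) := le_normalizer_pCoreOf hLX₀
  have hY0 : ⁅X₀, Y⁆ ≤ P := by
    have h1 : ⁅X₀, Y⁆ ≤ X₀ :=
      (Subgroup.le_normalizer_iff_commutator_le_left).1 (hYL.trans hLX₀)
    have h2 : ⁅X₀, Y⁆ ≤ Cfsg.pCoreOf p Md := by
      rw [Subgroup.commutator_comm]
      refine (Subgroup.commutator_mono hY le_rfl).trans ?_
      exact (Subgroup.le_normalizer_iff_commutator_le_left).1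
        (hX₀Md.trans (pCoreOf_normalized Md))
    refine (le_inf h1 h2).trans ?_
    apply le_pCoreOf inf_le_left ((pCoreOf_isPGroup Md).to_le inf_le_right)
    exact (le_inf Subgroup.le_normalizer (hX₀Md.trans (pCoreOf_normalized Md))).trans
      Subgroup.inf_normalizer_le_normalizer_inf
  have hcomm : ⁅X₀, X⁆ ≤ P := commutator_conjClosure_le X₀ P Y L hLX₀ hLP hYL hY0
  exact le_pCoreOf_of_stab A X L Y P hAp hXL hLX hXA hstab (pCoreOf_isPGroup X₀)
    ((pCoreOf_le X₀).trans inf_le_left) (hXL.trans hLP) hcomm hYX hYp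

end Cfsg.Agent.S2864
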