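import Cfsg.Statements.S2872
import Cfsg.Agent.S1853
import Cfsg.Agent.Helper1.PGroup

set_option autoImplicit false
open Cfsg

namespace Cfsg.Agent.S2872

open Cfsg.Agent.S1853

/-- The sign character attached to a subgroup of index two. -/
noncomputable def signHom {S : Type*} [Group S] (M : Subgroup S) (h : M.index = 2) : S →* ℤˣ where
  toFun y := by classical exact if y ∈ M then 1 else -1
  map_one' := by simp [M.one_mem]
  map_mul' a b := by
    classical
    by_cases ha : a ∈ M <;> by_cases hb : b ∈ M <;>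
      simp [Subgroup.mul_mem_iff_of_index_two h, ha, hb]

theorem signHom_of_mem {S : Type*} [Group S] (M : Subgroup S) (h : M.index = 2) {y : S}
    (hy : y ∈ M) : signHom M h y = 1 := by
  classical
  unfold signHom
  simp [hy]

theorem signHom_of_not_mem {S : Type*} [Group S] (M : Subgroup S) (h : M.index = 2) {y : S}
    (hy : y ∉ M) : signHom M h y = -1 := by
  classical
  unfold signHom
  simp [hy]

/-- a homomorphism to `ℤˣ` kills the subgroup generated by the elements of odd order. -/
theorem hom_eq_one_of_pResidual_eq_top {G : Type*} [Group G] (h : Cfsg.pResidual 2 G = ⊤)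
    (V : G →* ℤˣ) (x : G) : V x = 1 := by
  have hle : Cfsg.pResidual 2 G ≤ V.ker := by
    unfold Cfsg.pResidual
    rw [Subgroup.closure_le]
    intro g hg
    have hg' : Nat.Coprime (orderOf g) 2 := hg
    rw [SetLike.mem_coe, MonoidHom.mem_ker]
    have h1 : V g ^ orderOf g = 1 := by rw [← map_pow, pow_orderOf_eq_one, map_one]
    have h2 : V g ^ 2 = 1 := by
      rcases Int.units_eq_one_or (V g) with h | h <;> rw [h] <;> rfl
    have h3 : orderOf (V g) ∣ 1 := by
      rw [← Nat.Coprime.gcd_eq_one hg']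
      exact Nat.dvd_gcd (orderOf_dvd_of_pow_eq_one h1) (orderOf_dvd_of_pow_eq_one h2)
    exact orderOf_eq_one_iff.mp (Nat.dvd_one.mp h3)
  have : x ∈ V.ker := hle (h ▸ Subgroup.mem_top x)
  exact this

/-- Let S be a Sylow 2-subgroup of the finite group G. Then G has a proper normal subgroup of 2-power index (O²(G) ≠ G), or Ω₁(Z(S)) is contained in the Frattini subgroup of S, or N_G(S) acts nontrivially on Ω₁(Z(S)) by conjugation. -/
theorem result {G : Type*} [Group G] [Finite G] (S : Sylow 2 G) : Cfsg.pResidual 2 G ≠ ⊤ ∨ Cfsg.omegaOne 2 ((S : Subgroup G) ⊓ Subgroup.centralizer ((S : Subgroup G) : Set G)) ≤ (frattini ↥(S : Subgroup G)).map (S : Subgroup G).subtype ∨ ∃ g ∈ Subgroup.normalizer ((S : Subgroup G) : Set G), ∃ z ∈ Cfsg.omegaOne 2 ((S : Subgroup G) ⊓ Subgroup.centralizer ((S : Subgroup G) : Set G)), g * z * g⁻¹ ≠ z := by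
  classical
  have : Fact (Nat.Prime 2) := ⟨Nat.prime_two⟩
  by_contra hcon
  rw [not_or, not_or] at hcon
  obtain ⟨h1, h2, h3⟩ := hcon
  have h1' : Cfsg.pResidual 2 G = ⊤ := not_not.mp h1
  have h3' : ∀ g ∈ Subgroup.normalizer ((S : Subgroup G) : Set G),
      ∀ z ∈ Cfsg.omegaOne 2 ((S : Subgroup G) ⊓ Subgroup.centralizer ((S : Subgroup G) : Set G)),
      g * z * g⁻¹ = z := by
    intro g hg z hz
    by_contra hne
    exact h3 ⟨g, hg, z, hz, hne⟩
  obtain ⟨z, hzZ, hz2, hzΦ⟩ : ∃ z, z ∈ (S : Subgroup G) ⊓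
      Subgroup.centralizer ((S : Subgroup G) : Set G) ∧ z ^ 2 = 1 ∧
      z ∉ (frattini ↥(S : Subgroup G)).map (S : Subgroup G).subtype := by
    by_contra hno
    apply h2
    unfold Cfsg.omegaOne
    rw [Subgroup.closure_le]
    intro x hx
    by_contra hx'
    exact hno ⟨x, hx.1, hx.2, hx'⟩
  have hzS : z ∈ (S : Subgroup G) := hzZ.1
  have hzC : ∀ s ∈ (S : Subgroup G), s * z = z * s :=
    fun s hs => Subgroup.mem_centralizer_iff.mp hzZ.2 s hs
  have hzZ1 : z ∈ Cfsg.omegaOne 2
      ((S : Subgroup G) ⊓ Subgroup.centralizer ((S : Subgroup G) : Set G)) :=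
    Subgroup.subset_closure ⟨hzZ, hz2⟩
  have hzz : z * z = 1 := by rw [← pow_two]; exact hz2
  obtain ⟨M, hM, hzM⟩ : ∃ M : Subgroup ↥(S : Subgroup G), IsCoatom M ∧
      (⟨z, hzS⟩ : ↥(S : Subgroup G)) ∉ M := by
    by_contra hno
    apply hzΦ
    refine ⟨⟨z, hzS⟩, ?_, rfl⟩
    unfold frattini Order.radical
    simp only [SetLike.mem_coe, Subgroup.mem_iInf, Set.mem_ofPred_eq]
    intro M hM
    by_contra hzM
    exact hno ⟨M, hM, hzM⟩
  obtain ⟨hMn, hMi⟩ := Cfsg.Agent.Helper1.coatom_normal_index S.isPGroup' M hM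
  let φ : ↥(S : Subgroup G) →* ℤˣ := signHom M hMi
  have hφz : φ ⟨z, hzS⟩ = -1 := signHom_of_not_mem M hMi hzM
  have hV : MonoidHom.transfer φ z = 1 := hom_eq_one_of_pResidual_eq_top h1' _ z
  let _ := (S : Subgroup G).fintypeQuotientOfFiniteIndex
  rw [transfer_invol (S : Subgroup G) φ hzz] at hV
  set τ := tau (S : Subgroup G) φ z with hτ
  -- the cosets of nontrivial type are even in number
  have hFu : 2 ∣ (Finset.univ.filter (fun q : G ⧸ (S : Subgroup G) => τ q ≠ 1)).card := by
    have hconst : ∀ q ∈ Finset.univ.filter (fun q : G ⧸ (S : Subgroup G) => τ q ≠ 1),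
        τ q = -1 := by
      intro q hq
      rw [Finset.mem_filter] at hq
      exact (Int.units_eq_one_or (τ q)).resolve_left hq.2
    rw [← Finset.prod_filter_ne_one, Finset.prod_congr rfl hconst, Finset.prod_const] at hV
    have hne : (-1 : ℤˣ) ≠ 1 := by decide
    exact even_iff_two_dvd.mp ((neg_one_pow_eq_one_iff_even hne).mp hV)
  -- the number of cosets is odd
  have hodd : ¬ 2 ∣ Fintype.card (G ⧸ (S : Subgroup G)) := by
    have := S.not_dvd_index
    rwa [Subgroup.index_eq_card, Nat.card_eq_fintype_card] at this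
  have hF1 : ¬ 2 ∣ (Finset.univ.filter (fun q : G ⧸ (S : Subgroup G) => τ q = 1)).card := by
    intro h
    apply hodd
    have := Finset.card_filter_add_card_filter_not (s := Finset.univ)
      (fun q : G ⧸ (S : Subgroup G) => τ q = 1)
    rw [Finset.card_univ] at this
    rw [← this]
    exact dvd_add h hFu
  -- the action of S on the cosets of trivial type
  let X : SubMulAction ↥(S : Subgroup G) (G ⧸ (S : Subgroup G)) :=
    { carrier := {q | τ q = 1}
      smul_mem' := by
        intro r q hq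
        change τ q = 1 at hq
        change τ (r • q) = 1
        rw [← hq]
        exact tau_smul (S : Subgroup G) φ z (r : G) (hzC r r.2) q }
  have hXcard : ¬ 2 ∣ Nat.card ↥X := by
    have : Nat.card ↥X = (Finset.univ.filter (fun q : G ⧸ (S : Subgroup G) => τ q = 1)).card := by
      rw [← Fintype.card_subtype, ← Nat.card_eq_fintype_card]
      rfl
    rwa [this]
  obtain ⟨⟨q, hq⟩, hfix⟩ := S.isPGroup'.nonempty_fixed_point_of_prime_not_dvd_card ↥X hXcard
  change τ q = 1 at hq
  set k : G := Quotient.out q with hkdef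
  have hk : (QuotientGroup.mk k : G ⧸ (S : Subgroup G)) = q := QuotientGroup.out_eq' q
  have hfixG : ∀ r ∈ (S : Subgroup G), k⁻¹ * r * k ∈ (S : Subgroup G) := by
    intro r hr
    have h1 := hfix ⟨r, hr⟩
    have h2 : r • q = q := congrArg Subtype.val h1
    rw [← hk] at h2
    exact (smul_fix_iff (S : Subgroup G) r k).mp h2
  have hkN : k⁻¹ ∈ Subgroup.normalizer ((S : Subgroup G) : Set G) := by
    apply Subgroup.mem_normalizer_fintype
    intro n hn
    have := hfixG n hn
    rw [inv_inv]
    exact this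
  have hzk : k⁻¹ * z * k = z := by
    have := h3' k⁻¹ hkN z hzZ1
    simpa using this
  rw [← hk, hτ, tau_rep, hzk, ext1_mem _ _ hzS, hφz] at hq
  exact absurd hq (by decide)

end Cfsg.Agent.S2872
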