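import Cfsg.Statements.S2873
import Cfsg.Agent.Helper49.DihQuot
import Cfsg.Agent.Helper49.CharP

set_option autoImplicit false
open Cfsg

namespace Cfsg.Agent.S2873

/-- Let G be a finite group and r an odd prime such that G ⧸ O₂(G) is dihedral of order 2r, and let R be a Sylow r-subgroup of G with C_{O₂(G)}(R) = 1. Then N_G(R) is dihedral of order 2r; for any involution a of N_G(R), every involution of G outside O₂(G) is conjugate to a; and |C_{O₂(G)}(a)|² = |O₂(G)|. -/
theorem result {G : Type*} [Group G] [Finite G] {r : ℕ} [Fact r.Prime] (hr : r ≠ 2) [hN : (Cfsg.pCore 2 G).Normal] (hquot : Nonempty (G ⧸ Cfsg.pCore 2 G ≃* DihedralGroup r)) (R : Sylow r G) (hC : Cfsg.pCore 2 G ⊓ Subgroup.centralizer ((R : Subgroup G) : Set G) = ⊥) : Nonempty (↥(Subgroup.normalizer ((R : Subgroup G) : Set G)) ≃* DihedralGroup r) ∧ ∀ a : G, a ∈ Subgroup.normalizer ((R : Subgroup G) : Set G) → orderOf a = 2 → (∀ b : G, orderOf b = 2 → b ∉ Cfsg.pCore 2 G → ∃ g : G, g * a * g⁻¹ = b) ∧ Nat.card ↥(Cfsg.pCore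 2 G ⊓ Subgroup.centralizer ({a} : Set G)) ^ 2 = Nat.card ↥(Cfsg.pCore 2 G) := by
  obtain ⟨e⟩ := hquot
  set Q := Cfsg.pCore 2 G with hQ
  let π : G →* DihedralGroup r := e.toMonoidHom.comp (QuotientGroup.mk' Q)
  have hyp : Cfsg.Agent.Helper49.DihQuot.Hyp r Q π R :=
    { hn := hr
      normal := hN
      two := Cfsg.Agent.Helper49.pCore_isPGroup 2 G
      surj := e.surjective.comp (QuotientGroup.mk'_surjective Q)
      ker := by
        ext g
        rw [MonoidHom.mem_ker]
        show e (QuotientGroup.mk' Q g) = 1 ↔ g ∈ Q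
        rw [MulEquiv.map_eq_one_iff]
        exact QuotientGroup.eq_one_iff g
      cent := hC }
  refine ⟨⟨hyp.normalizerEquiv⟩, ?_⟩
  intro a haN hao
  have ha2 : a * a = 1 := by
    have := pow_orderOf_eq_one a
    rw [hao, pow_two] at this
    exact this
  have ha1 : a ≠ 1 := by
    intro h
    rw [h, orderOf_one] at hao
    omega
  -- a nontrivial element of `R`
  have hRne : (R : Subgroup G) ≠ ⊥ := by
    intro h0
    have h1 := hyp.card_R
    rw [h0, Subgroup.card_bot] at h1
    have := (Fact.out : r.Prime).two_le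
    omega
  obtain ⟨x, hx1⟩ := (Subgroup.ne_bot_iff_exists_ne_one).mp hRne
  have d : Cfsg.Agent.Helper49.DihQuot.InvData Q π R a (x : G) :=
    { hyp := hyp
      haN := haN
      ha2 := ha2
      ha1 := ha1
      hxR := x.2
      hx1 := fun h => hx1 (Subtype.ext h) }
  refine ⟨?_, d.card_sq⟩
  intro b hbo hbQ
  have hb2 : b * b = 1 := by
    have := pow_orderOf_eq_one b
    rw [hbo, pow_two] at this
    exact this
  exact d.exists_conj_of_invol hb2 hbQ

end Cfsg.Agent.S2873
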