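import Cfsg.Statements.S2880
import Cfsg.Agent.Helper48.ES2Bridge

set_option autoImplicit false
open Cfsg

namespace Cfsg.Agent.S2880

/-- Let E be an extraspecial 2-group of order 2^(2m+1) of plus type, that is, containing an elementary abelian subgroup of order 2^(m+1) (equivalently, a central product of m dihedral groups of order 8). Then E has exactly 2^(2m) − 2^m elements of order 4. -/
theorem result {E : Type*} [Group E] [Finite E] (m : ℕ) (hm : 1 ≤ m) (hE : Cfsg.IsExtraspecial 2 E) (hcard : Nat.card E = 2 ^ (2 * m + 1)) (hplus : ∃ A : Subgroup E, Cfsg.IsElementaryAbelian 2 A ∧ Nat.card A = 2 ^ (m + 1)) : Nat.card {x : E // orderOf x = 4} = 2 ^ (2 * m) - 2 ^ m := by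
  obtain ⟨z, hz, hcen⟩ := Cfsg.Agent.Helper48.exists_ES2 hE
  obtain ⟨A, ⟨hAc, hAe⟩, hAcard⟩ := hplus
  have hab : ∀ a ∈ A, ∀ b ∈ A, a * b = b * a := by
    intro a ha b hb
    have := hAc.is_comm.comm ⟨a, ha⟩ ⟨b, hb⟩
    exact congrArg Subtype.val this
  have hexp : ∀ a ∈ A, a * a = 1 := by
    intro a ha
    rw [← pow_two]
    exact hAe a ha
  have hC := Cfsg.Agent.Helper48.centralizer_eq_of_card hz hcen m hcard A hab hAcard
  have key := hz.two_mul_card_orderOf_four A hexp hC
  rw [hAcard, hcard] at key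
  have e1 : 2 ^ (2 * m + 1) = 2 * 2 ^ (2 * m) := by ring
  have e2 : 2 ^ (m + 1) = 2 * 2 ^ m := by ring
  rw [e1, e2] at key
  omega

end Cfsg.Agent.S2880
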