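import Cfsg.Statements.S2881
import Cfsg.Agent.S2880

set_option autoImplicit false
open Cfsg

namespace Cfsg.Agent.S2881

theorem orderOf_two_zmod_five : orderOf (2 : ZMod 5) = 2 ^ (1 + 1) := by
  have a1 : ¬ (2 : ZMod 5) ^ 2 ^ 1 = 1 := by decide
  have a2 : (2 : ZMod 5) ^ 2 ^ (1 + 1) = 1 := by decide
  exact orderOf_eq_prime_pow a1 a2

/-- Let E be an extraspecial 2-group of order 2^(2m+1) of plus type (containing an elementary abelian subgroup of order 2^(m+1)), and let ω be an automorphism of E of order 5 whose fixed points are exactly the centre of E. Then m is divisible by 4. -/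
theorem result {E : Type*} [Group E] [Finite E] (m : ℕ) (hm : 1 ≤ m) (hE : Cfsg.IsExtraspecial 2 E) (hcard : Nat.card E = 2 ^ (2 * m + 1)) (hplus : ∃ A : Subgroup E, Cfsg.IsElementaryAbelian 2 A ∧ Nat.card A = 2 ^ (m + 1)) (ω : E ≃* E) (hω : orderOf ω = 5) (hfix : ∀ x : E, ω x = x ↔ x ∈ Subgroup.center E) : 4 ∣ m := by
  classical
  have := Fintype.ofFinite E
  obtain ⟨z, hz, hcen⟩ := Cfsg.Agent.Helper48.exists_ES2 hE
  have hN := Cfsg.Agent.S2880.result m hm hE hcard hplus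
  let σ : Equiv.Perm {x : E // orderOf x = 4} :=
    ω.toEquiv.subtypeEquiv (fun x => by simp [MulEquiv.orderOf_eq])
  have hσ1 : ∀ x : {x : E // orderOf x = 4}, (σ x).1 = ω x.1 := fun x => rfl
  have hσn : ∀ (n : ℕ) (x : {x : E // orderOf x = 4}), ((σ ^ n) x).1 = (ω ^ n) x.1 := by
    intro n
    induction n with
    | zero => intro x; rfl
    | succ n ih =>
      intro x
      rw [pow_succ, Equiv.Perm.mul_apply, ih, hσ1, pow_succ, MulAut.mul_apply]
  have hσ5 : σ ^ 5 ^ 1 = 1 := by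
    ext x
    rw [pow_one, hσn, ← hω, pow_orderOf_eq_one]
    rfl
  have hsupp : σ.supportᶜ = ∅ := by
    ext x
    simp only [Finset.mem_compl, Equiv.Perm.mem_support, not_not, Finset.notMem_empty,
      iff_false]
    intro hx
    have h1 : ω x.1 = x.1 := by rw [← hσ1, hx]
    rw [hfix, hcen] at h1
    have h2 : x.1 * x.1 = 1 := by
      rcases h1 with h1 | h1
      · rw [h1, one_mul]
      · rw [h1, hz.sq]
    exact (hz.orderOf_eq_four_iff x.1).mp x.2 h2
  have : Fact (Nat.Prime 5) := ⟨by norm_num⟩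
  have h5 := Equiv.Perm.card_compl_support_modEq hσ5
  rw [hsupp, Finset.card_empty] at h5
  have h5' : 5 ∣ Fintype.card {x : E // orderOf x = 4} := (Nat.modEq_zero_iff_dvd.mp h5.symm)
  rw [← Nat.card_eq_fintype_card, hN] at h5'
  have e : 2 ^ (2 * m) - 2 ^ m = 2 ^ m * (2 ^ m - 1) := by
    rw [Nat.mul_sub, mul_one, two_mul, pow_add]
  rw [e] at h5'
  have hcop : Nat.Coprime 5 (2 ^ m) := Nat.Coprime.pow_right m (by norm_num)
  have h6 : 5 ∣ 2 ^ m - 1 := hcop.dvd_of_dvd_mul_left h5'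
  have h7 : ((2 ^ m - 1 : ℕ) : ZMod 5) = 0 := (ZMod.natCast_eq_zero_iff _ _).mpr h6
  rw [Nat.cast_sub Nat.one_le_two_pow] at h7
  push_cast at h7
  have h8 : (2 : ZMod 5) ^ m = 1 := sub_eq_zero.mp h7
  have h9 := orderOf_two_zmod_five
  have := orderOf_dvd_of_pow_eq_one h8
  rw [h9] at this
  exact this

end Cfsg.Agent.S2881
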