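-- Statement S2882 (Cfsg.lsp_mathieu_twenty_four_sylow_two_self_normalizing).
import Cfsg.Statements.S2882
import Cfsg.Agent.Helper90.M24Hol
import Cfsg.Agent.Helper90.SelfNorm

set_option autoImplicit false
open Cfsg

namespace Cfsg.Agent.S2882

open Cfsg.Agent.Helper90 Cfsg.Agent.Helper26

/-- Sylow 2-subgroups of `M24` are self-normalizing. -/
theorem selfNormSyl_M24 : SelfNormSyl ↥Cfsg.M24 := by
  classical
  have ho : Cfsg.Agent.Helper7.O0F ∈ Cfsg.octads := Cfsg.Agent.Helper7.O0F_mem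
  have hcard24 : (Finset.univ : Finset Cfsg.GolayPt).card = 24 := by
    simp [Cfsg.GolayPt]
  obtain ⟨p, _, hp⟩ : ∃ p ∈ (Finset.univ : Finset Cfsg.GolayPt), p ∉ Cfsg.Agent.Helper7.O0F := by
    apply Finset.exists_mem_notMem_of_card_lt_card
    rw [ho.2, hcard24]
    norm_num
  have hcardK : Nat.card ↥(octK Cfsg.Agent.Helper7.O0F) = 2 ^ 4 := card_octK ho
  haveI : Finite ↥(octK Cfsg.Agent.Helper7.O0F) :=
    Nat.finite_of_card_ne_zero (by rw [hcardK]; norm_num)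
  haveI : Nontrivial ↥(octK Cfsg.Agent.Helper7.O0F) := by
    rw [← Finite.one_lt_card_iff_nontrivial, hcardK]
    norm_num
  obtain ⟨k, hk⟩ := exists_ne (1 : ↥(octK Cfsg.Agent.Helper7.O0F))
  have hkM : (k : Equiv.Perm Cfsg.GolayPt) ∈ Cfsg.M24 := (Subgroup.mem_inf.1 k.2).1
  have hk1 : (k : Equiv.Perm Cfsg.GolayPt) ≠ 1 := fun h => hk (Subtype.ext h)
  have hz1 : (⟨(k : Equiv.Perm Cfsg.GolayPt), hkM⟩ : ↥Cfsg.M24) ≠ 1 := by
    intro h
    exact hk1 (congrArg Subtype.val h)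
  have hrelM := holRel_M24 ho hp ⟨(k : Equiv.Perm Cfsg.GolayPt), hkM⟩ k.2 hz1
  have hcardU : Nat.card ↥((octK Cfsg.Agent.Helper7.O0F).subgroupOf Cfsg.M24) = 2 ^ 4 := by
    rw [← hcardK]
    exact Nat.card_congr (Subgroup.subgroupOfEquivOfLe
      (inf_le_left : octK Cfsg.Agent.Helper7.O0F ≤ Cfsg.M24)).toEquiv
  obtain ⟨e⟩ := hrelM.nonempty_M_equiv_SL 4 hcardU
  exact hrelM.selfNormSyl ((selfNormSyl_SLz 3).of_equiv e.symm)

/-- In the Mathieu group of degree 24 (realised as the automorphism group of the extended binary Golay code) every Sylow 2-subgroup is self-normalizing. -/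
theorem result (S : Sylow 2 ↥Cfsg.M24) : Subgroup.normalizer ((S : Subgroup ↥Cfsg.M24) : Set ↥Cfsg.M24) = (S : Subgroup ↥Cfsg.M24) := by
  exact selfNormSyl_M24 S

end Cfsg.Agent.S2882
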