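import Cfsg.Statements.S2896
import Cfsg.Agent.Helper48.CharPLocal

set_option autoImplicit false
open Cfsg

namespace Cfsg.Agent.S2896

open Cfsg.Agent.Helper48 Cfsg.Agent.Helper49

variable {G : Type*} [Group G] {p : ℕ}

/-- `F*(L) = O_p(L)` iff `L` has characteristic `p` (ambient form). -/
theorem gfs_iff_charPIn [Finite G] [Fact p.Prime] (L : Subgroup G) :
    Cfsg.generalizedFittingSubgroup ↥L = Cfsg.pCore p ↥L ↔ CharPIn p L := by
  rw [gfs_eq_pCore_iff, charPIn_iff]

theorem mem_normalizer_zpowers_of_commute {r u : G} (h : r * u = u * r) :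
    r ∈ Subgroup.normalizer ((Subgroup.zpowers u : Subgroup G) : Set G) := by
  apply Subgroup.centralizer_le_normalizer
  rw [Subgroup.mem_centralizer_iff]
  intro y hy
  obtain ⟨k, rfl⟩ := Subgroup.mem_zpowers_iff.mp hy
  have : Commute u r := h.symm
  exact (this.zpow_left k).eq

/-- `Ω₁(Z(S)) ≤ Z(S)`. -/
theorem omegaOne_le (H : Subgroup G) : Cfsg.omegaOne p H ≤ H := by
  unfold Cfsg.omegaOne
  rw [Subgroup.closure_le]
  intro x hx
  exact hx.1

/-- membership in a conjugate Sylow subgroup -/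
theorem mem_smul_sylow_iff' {g x : G} {P : Sylow p G} :
    x ∈ ((g • P : Sylow p G) : Subgroup G) ↔ g⁻¹ * x * g ∈ (P : Subgroup G) := by
  rw [Sylow.coe_subgroup_smul, Subgroup.mem_pointwise_smul_iff_inv_smul_mem]
  simp [MulAut.smul_def]

/-- part (i) in ambient form, for any `p`-subgroup `X`. -/
theorem part_one [Finite G] [Fact p.Prime] {X : Subgroup G} (hX : IsPGroup p X) {z : G}
    (hzX : z ∈ X) (hzc : ∀ x ∈ X, x * z = z * x)
    (h : Cfsg.generalizedFittingSubgroup ↥(Subgroup.centralizer ({z} : Set G)) =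
      Cfsg.pCore p ↥(Subgroup.centralizer ({z} : Set G))) :
    CharPIn p (Subgroup.normalizer (X : Set G)) :=
  charPIn_normalizer_of_centralizer hX hzX hzc ((gfs_iff_charPIn _).mp h)

/-- If the centralizers of the elements of order `p` of `Z(S)` have characteristic `p` then so
has `C_G(z)` for every element `z` of order `p` centralizing a Sylow `p`-subgroup. -/
theorem charPIn_centralizer_of_sylow [Finite G] [Fact p.Prime] (S : Sylow p G)
    (h : ∀ z : G, z ≠ 1 → z ∈ Cfsg.omegaOne p
        ((S : Subgroup G) ⊓ Subgroup.centralizer ((S : Subgroup G) : Set G)) →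
      Cfsg.generalizedFittingSubgroup ↥(Subgroup.centralizer ({z} : Set G)) =
        Cfsg.pCore p ↥(Subgroup.centralizer ({z} : Set G)))
    (T : Sylow p G) {z : G} (hzT : z ∈ (T : Subgroup G)) (hzp : orderOf z = p)
    (hzc : ∀ t ∈ (T : Subgroup G), t * z = z * t) :
    CharPIn p (Subgroup.centralizer ({z} : Set G)) := by
  obtain ⟨g, hg⟩ := MulAction.exists_smul_eq G S T
  have hp : p.Prime := Fact.out
  have hz1 : z ≠ 1 := by
    intro h1
    rw [h1, orderOf_one] at hzp
    exact hp.one_lt.ne hzp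
  set z' : G := g⁻¹ * z * g with hz'
  have hz'S : z' ∈ (S : Subgroup G) := by
    rw [← hg] at hzT
    exact mem_smul_sylow_iff'.mp hzT
  have hz'c : z' ∈ Subgroup.centralizer ((S : Subgroup G) : Set G) := by
    rw [Subgroup.mem_centralizer_iff]
    intro s hs
    have hsT : g * s * g⁻¹ ∈ (T : Subgroup G) := by
      rw [← hg, mem_smul_sylow_iff']
      have : g⁻¹ * (g * s * g⁻¹) * g = s := by group
      rw [this]; exact hs
    have := hzc _ hsT
    calc s * z' = g⁻¹ * ((g * s * g⁻¹) * z) * g := by rw [hz']; group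
      _ = g⁻¹ * (z * (g * s * g⁻¹)) * g := by rw [this]
      _ = z' * s := by rw [hz']; group
  have hz'p : z' ^ p = 1 := by
    have : z' ^ p = g⁻¹ * z ^ p * g := by
      rw [hz']
      have := map_pow (MulAut.conj g⁻¹) z p
      simp only [MulAut.conj_apply, inv_inv] at this
      exact this.symm
    rw [this, ← hzp, pow_orderOf_eq_one]; group
  have hz'1 : z' ≠ 1 := by
    intro h1
    apply hz1
    calc z = g * z' * g⁻¹ := by rw [hz']; group
      _ = 1 := by rw [h1]; group
  have hz'Ω : z' ∈ Cfsg.omegaOne p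
      ((S : Subgroup G) ⊓ Subgroup.centralizer ((S : Subgroup G) : Set G)) :=
    Subgroup.subset_closure ⟨Subgroup.mem_inf.mpr ⟨hz'S, hz'c⟩, hz'p⟩
  have h1 := (gfs_iff_charPIn _).mp (h z' hz'1 hz'Ω)
  have h2 := charPIn_centralizer_conj h1 g
  have : g * z' * g⁻¹ = z := by rw [hz']; group
  rwa [this] at h2

theorem centralizer_singleton_le_normalizer_zpowers (z : G) :
    Subgroup.centralizer ({z} : Set G) ≤
      Subgroup.normalizer ((Subgroup.zpowers z : Subgroup G) : Set G) := by
  intro c hc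
  exact mem_normalizer_zpowers_of_commute (Subgroup.mem_centralizer_singleton_iff.mp hc)

theorem normalizer_zpowers_le_normalizer_centralizer (z : G) :
    Subgroup.normalizer ((Subgroup.zpowers z : Subgroup G) : Set G) ≤
      Subgroup.normalizer ((Subgroup.centralizer ({z} : Set G) : Subgroup G) : Set G) := by
  have key : ∀ n ∈ Subgroup.normalizer ((Subgroup.zpowers z : Subgroup G) : Set G),
      ∀ c ∈ Subgroup.centralizer ({z} : Set G), n * c * n⁻¹ ∈ Subgroup.centralizer ({z} : Set G) := by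
    intro n hn c hc
    rw [Subgroup.mem_centralizer_singleton_iff] at hc ⊢
    have h1 : n⁻¹ * z * n⁻¹⁻¹ ∈ Subgroup.zpowers z :=
      (Subgroup.mem_normalizer_iff.mp (Subgroup.inv_mem _ hn) z).mp (Subgroup.mem_zpowers z)
    obtain ⟨k, hk⟩ := Subgroup.mem_zpowers_iff.mp h1
    have h2 : c * (n⁻¹ * z * n⁻¹⁻¹) = (n⁻¹ * z * n⁻¹⁻¹) * c := by
      rw [← hk]
      have : Commute c z := hc
      exact (this.zpow_right k).eq
    calc n * c * n⁻¹ * z = n * (c * (n⁻¹ * z * n⁻¹⁻¹)) * n⁻¹ := by group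
      _ = n * ((n⁻¹ * z * n⁻¹⁻¹) * c) * n⁻¹ := by rw [h2]
      _ = z * (n * c * n⁻¹) := by group
  intro n hn
  rw [Subgroup.mem_normalizer_iff]
  intro c
  constructor
  · exact key n hn c
  · intro h
    have := key n⁻¹ (Subgroup.inv_mem _ hn) _ h
    have e : n⁻¹ * (n * c * n⁻¹) * n⁻¹⁻¹ = c := by group
    rwa [e] at this

/-- Let p be a prime dividing the order of the finite group G, S a Sylow p-subgroup of G and X a subgroup of S. (i) If some nontrivial element z of the centre of X has F*(C_G(z)) = O_p(C_G(z)), then F*(N_G(X)) = O_p(N_G(X)). (ii) G has parabolic characteristic p if and only if F*(C_G(z)) = O_p(C_G(z)) for every nontrivial z ∈ Ω₁(Z(S)). (iii) If F*(C_G(z)) = O_p(C_G(z)) for every element z of S of order p, then G has local characteristic p. -/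
theorem result {G : Type*} [Group G] [Finite G] {p : ℕ} [Fact p.Prime] (hdiv : p ∣ Nat.card G) (S : Sylow p G) (X : Subgroup G) (hX : X ≤ (S : Subgroup G)) : (∀ z : G, z ≠ 1 → z ∈ X → (∀ x ∈ X, x * z = z * x) → Cfsg.generalizedFittingSubgroup ↥(Subgroup.centralizer ({z} : Set G)) = Cfsg.pCore p ↥(Subgroup.centralizer ({z} : Set G)) → Cfsg.generalizedFittingSubgroup ↥(Subgroup.normalizer (X : Set G)) = Cfsg.pCore p ↥(Subgroup.normalizer (X : Set G))) ∧ (Cfsg.IsOfParabolicCharacteristic p G ↔ ∀ z : G, z ≠ 1 → z ∈ Cfsg.omegaOne p ((S : Subgroup G) ⊓ Subgroup.centralizer ((S : Subgroup G) : Set G)) → Cfsg.generalizedFittingSubgroup ↥(Subgroup.centralizer ({z} : Set G)) = Cfsg.pCore p ↥(Subgroup.centralizer ({z} : Set G))) ∧ ((∀ z : G, z ∈ (S : Subgroup G) → orderOf z = p → Cfsg.generalizedFittingSubgroup ↥(Subgroup.centralizer ({z} : Set G)) = Cfsg.pCore p ↥(Subgroup.centralizer ({z} : Set G))) → Cfsg.IsOfLocalCharacteristic p G) := by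
  refine ⟨?_, ⟨?_, ?_⟩, ?_⟩
  · intro z _ hzX hzc hF
    exact (gfs_iff_charPIn _).mpr (part_one (S.isPGroup'.to_le hX) hzX hzc hF)
  · -- parabolic characteristic ⇒ centralizers
    intro hpar z hz1 hzΩ
    have hzZ := omegaOne_le _ hzΩ
    have hzS : z ∈ (S : Subgroup G) := hzZ.1
    have hzc : ∀ s ∈ (S : Subgroup G), s * z = z * s :=
      fun s hs => Subgroup.mem_centralizer_iff.mp hzZ.2 s hs
    have hRp : IsPGroup p ↥(Subgroup.zpowers z) :=
      S.isPGroup'.to_le ((Subgroup.zpowers_le).mpr hzS)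
    have hR1 : Subgroup.zpowers z ≠ ⊥ := Subgroup.zpowers_ne_bot.mpr hz1
    have hpara : Cfsg.IsParabolic p
        (Subgroup.normalizer ((Subgroup.zpowers z : Subgroup G) : Set G)) :=
      ⟨S, fun s hs => mem_normalizer_zpowers_of_commute (hzc s hs)⟩
    have hN : CharPIn p (Subgroup.normalizer ((Subgroup.zpowers z : Subgroup G) : Set G)) :=
      (charPIn_iff _).mpr (hpar _ hRp hR1 hpara)
    rw [gfs_iff_charPIn]
    apply charPIn_of_normalized hN (centralizer_singleton_le_normalizer_zpowers z)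
    exact (coreIn_le _).trans (normalizer_zpowers_le_normalizer_centralizer z)
  · -- centralizers ⇒ parabolic characteristic
    intro h R hR hR1 hpara
    obtain ⟨T, hT⟩ := hpara
    rw [← charPIn_iff]
    have hRT : R ≤ (T : Subgroup G) := le_sylow_of_normalized T hR hT
    obtain ⟨z, hzR, hzp, hzc⟩ := exists_orderOf_eq_prime_central T.isPGroup' hRT hR1 hT
    have hC := charPIn_centralizer_of_sylow S h T (hRT hzR) hzp hzc
    exact charPIn_normalizer_of_centralizer hR hzR (fun x hx => hzc x (hRT hx)) hC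
  · -- local characteristic
    intro h
    refine ⟨hdiv, fun T hT hT1 => ?_⟩
    rw [← charPIn_iff]
    obtain ⟨z, hzT, hzp, hzc⟩ :=
      exists_orderOf_eq_prime_central hT le_rfl hT1 Subgroup.le_normalizer
    obtain ⟨P', hP'⟩ := hT.exists_le_sylow
    obtain ⟨g, hg⟩ := MulAction.exists_smul_eq G S P'
    have hz'S : g⁻¹ * z * g ∈ (S : Subgroup G) := by
      have : z ∈ ((g • S : Sylow p G) : Subgroup G) := hg ▸ hP' hzT
      exact mem_smul_sylow_iff'.mp this
    have hz'p : orderOf (g⁻¹ * z * g) = p := by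
      have := (MulAut.conj g⁻¹).orderOf_eq z
      simp only [MulAut.conj_apply, inv_inv] at this
      rw [this, hzp]
    have h1 := (gfs_iff_charPIn _).mp (h _ hz'S hz'p)
    have h2 := charPIn_centralizer_conj h1 g
    have e : g * (g⁻¹ * z * g) * g⁻¹ = z := by group
    rw [e] at h2
    exact charPIn_normalizer_of_centralizer hT hzT hzc h2

end Cfsg.Agent.S2896
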