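import Cfsg.Statements.S2897
import Cfsg.Agent.S2896
import Cfsg.Agent.Helper49.RConj

set_option autoImplicit false
open Cfsg

namespace Cfsg.Agent.S2897

open Cfsg.Agent.Helper48 Cfsg.Agent.Helper49

/-- the normalizer in `↥G₁` of `R`, as an abstract group, is `N_G(R') ∩ G₁` for `R'` the image
of `R` in `G`. -/
noncomputable def normalizerEquiv {G : Type*} [Group G] (G₁ : Subgroup G) (R : Subgroup ↥G₁) :
    ↥(Subgroup.normalizer ((R.map G₁.subtype : Subgroup G) : Set G) ⊓ G₁) ≃*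
      ↥(Subgroup.normalizer (R : Set ↥G₁)) := by
  have h1 : (R.map G₁.subtype).subgroupOf G₁ = R :=
    Subgroup.comap_map_eq_self_of_injective G₁.subtype_injective R
  have h2 : (Subgroup.normalizer ((R.map G₁.subtype : Subgroup G) : Set G) ⊓ G₁).subgroupOf G₁ =
      Subgroup.normalizer (R : Set ↥G₁) := by
    rw [Subgroup.inf_subgroupOf_right,
      Subgroup.subgroupOf_normalizer_eq (Subgroup.map_subtype_le R), h1]
  exact (Subgroup.subgroupOfEquivOfLe inf_le_right).symm.trans (MulEquiv.subgroupCongr h2)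

/-- Let p be a prime dividing the order of the finite group G, suppose G has parabolic characteristic p, let S be a Sylow p-subgroup of G and G₁ a normal subgroup of G. If Ω₁(Z(S ∩ G₁)) is nontrivial and contained in Ω₁(Z(S)), then G₁ has parabolic characteristic p. -/
theorem result {G : Type*} [Group G] [Finite G] {p : ℕ} [Fact p.Prime] (hdiv : p ∣ Nat.card G) (hG : Cfsg.IsOfParabolicCharacteristic p G) (S : Sylow p G) (G₁ : Subgroup G) [G₁.Normal] (hne : Cfsg.omegaOne p (((S : Subgroup G) ⊓ G₁) ⊓ Subgroup.centralizer (((S : Subgroup G) ⊓ G₁ : Subgroup G) : Set G)) ≠ ⊥) (hle : Cfsg.omegaOne p (((S : Subgroup G) ⊓ G₁) ⊓ Subgroup.centralizer (((S : Subgroup G) ⊓ G₁ : Subgroup G) : Set G)) ≤ Cfsg.omegaOne p ((S : Subgroup G) ⊓ Subgroup.centralizer ((S : Subgroup G) : Set G))) : Cfsg.IsOfParabolicCharacteristic p ↥G₁ := by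
  have hp : p.Prime := Fact.out
  have hcent := (Cfsg.Agent.S2896.result hdiv S ⊥ bot_le).2.1.mp hG
  intro R hR hR1 hpara
  obtain ⟨T₁, hT₁⟩ := hpara
  -- work inside `↥G₁`
  have hRT : R ≤ (T₁ : Subgroup ↥G₁) := le_sylow_of_normalized T₁ hR hT₁
  obtain ⟨z₁, hz₁R, hz₁p, hz₁c⟩ := exists_orderOf_eq_prime_central T₁.isPGroup' hRT hR1 hT₁
  -- pass to `G`
  set z : G := (z₁ : G) with hz
  have hzp : orderOf z = p := by rw [hz, Subgroup.orderOf_coe]; exact hz₁p
  have hz1 : z ≠ 1 := by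
    intro h1
    rw [h1, orderOf_one] at hzp
    exact hp.one_lt.ne hzp
  set A : Subgroup G := (T₁ : Subgroup ↥G₁).map G₁.subtype with hA
  have hAsyl : IsSylowOf p A G₁ := isSylowOf_map T₁
  have hBsyl : IsSylowOf p ((S : Subgroup G) ⊓ G₁) G₁ :=
    (isSylowOf_top S).inf_of_normal le_top (by
      have : G₁.subgroupOf ⊤ = G₁.comap (⊤ : Subgroup G).subtype := rfl
      rw [this]
      infer_instance)
  obtain ⟨m, hmG₁, hm⟩ := hBsyl.exists_conj hAsyl
  have hzA : z ∈ A := ⟨z₁, hRT hz₁R, rfl⟩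
  have hzAc : ∀ a ∈ A, a * z = z * a := by
    rintro _ ⟨t, ht, rfl⟩
    have := hz₁c t ht
    exact congrArg Subtype.val this
  -- `w = m z m⁻¹ ∈ Ω₁(Z(S ∩ G₁))`
  set w : G := m * z * m⁻¹ with hw
  have hmemA : ∀ a : G, a ∈ A ↔ m * a * m⁻¹ ∈ ((S : Subgroup G) ⊓ G₁ : Subgroup G) := by
    intro a
    rw [← hm, mem_scr]
  have hwB : w ∈ ((S : Subgroup G) ⊓ G₁ : Subgroup G) := (hmemA z).mp hzA
  have hwc : w ∈ Subgroup.centralizer ((((S : Subgroup G) ⊓ G₁ : Subgroup G)) : Set G) := by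
    rw [Subgroup.mem_centralizer_iff]
    intro b hb
    have hb' : m⁻¹ * b * m ∈ A := by
      rw [hmemA]
      have e : m * (m⁻¹ * b * m) * m⁻¹ = b := by group
      rw [e]; exact hb
    have := hzAc _ hb'
    calc b * w = m * ((m⁻¹ * b * m) * z) * m⁻¹ := by rw [hw]; group
      _ = m * (z * (m⁻¹ * b * m)) * m⁻¹ := by rw [this]
      _ = w * b := by rw [hw]; group
  have hwp : w ^ p = 1 := by
    have : w ^ p = m * z ^ p * m⁻¹ := by
      rw [hw]
      have := map_pow (MulAut.conj m) z p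
      simp only [MulAut.conj_apply] at this
      exact this.symm
    rw [this, ← hzp, pow_orderOf_eq_one]; group
  have hw1 : w ≠ 1 := by
    intro h1
    apply hz1
    calc z = m⁻¹ * w * m := by rw [hw]; group
      _ = 1 := by rw [h1]; group
  have hwΩ : w ∈ Cfsg.omegaOne p
      ((S : Subgroup G) ⊓ Subgroup.centralizer ((S : Subgroup G) : Set G)) :=
    hle (Subgroup.subset_closure ⟨Subgroup.mem_inf.mpr ⟨hwB, hwc⟩, hwp⟩)
  have hCw : CharPIn p (Subgroup.centralizer ({w} : Set G)) :=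
    (Cfsg.Agent.S2896.gfs_iff_charPIn _).mp (hcent w hw1 hwΩ)
  have hCz : CharPIn p (Subgroup.centralizer ({z} : Set G)) := by
    have := charPIn_centralizer_conj hCw m⁻¹
    have e : m⁻¹ * w * m⁻¹⁻¹ = z := by rw [hw]; group
    rwa [e] at this
  -- the image of `R` in `G`
  set R' : Subgroup G := R.map G₁.subtype with hR'
  have hR'p : IsPGroup p R' := hR.map _
  have hzR' : z ∈ R' := ⟨z₁, hz₁R, rfl⟩
  have hzR'c : ∀ x ∈ R', x * z = z * x := by
    rintro _ ⟨r, hr, rfl⟩
    exact hzAc _ ⟨r, hRT hr, rfl⟩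
  have hN : CharPIn p (Subgroup.normalizer (R' : Set G)) :=
    charPIn_normalizer_of_centralizer hR'p hzR' hzR'c hCz
  have hN₁ : CharPIn p (Subgroup.normalizer (R' : Set G) ⊓ G₁) := by
    apply charPIn_of_normalized hN inf_le_left
    refine (coreIn_le _).trans ?_
    intro n hn
    rw [Subgroup.mem_normalizer_iff]
    intro x
    have hG₁n : ∀ y : G, y ∈ G₁ ↔ n * y * n⁻¹ ∈ G₁ := by
      intro y
      constructor
      · intro hy
        exact (inferInstance : G₁.Normal).conj_mem y hy n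
      · intro hy
        have := (inferInstance : G₁.Normal).conj_mem _ hy n⁻¹
        have e : n⁻¹ * (n * y * n⁻¹) * n⁻¹⁻¹ = y := by group
        rwa [e] at this
    have hNn : ∀ y : G, y ∈ Subgroup.normalizer (R' : Set G) ↔
        n * y * n⁻¹ ∈ Subgroup.normalizer (R' : Set G) := by
      intro y
      constructor
      · intro hy
        exact Subgroup.mul_mem _ (Subgroup.mul_mem _ hn hy) (Subgroup.inv_mem _ hn)
      · intro hy
        have := Subgroup.mul_mem _ (Subgroup.mul_mem _ (Subgroup.inv_mem _ hn) hy) hn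
        have e : n⁻¹ * (n * y * n⁻¹) * n = y := by group
        rwa [e] at this
    rw [Subgroup.mem_inf, Subgroup.mem_inf, ← hG₁n, ← hNn]
  exact charP_congr (normalizerEquiv G₁ R) ((charPIn_iff _).mp hN₁)

end Cfsg.Agent.S2897
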