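import Cfsg.Statements.S2898
import Cfsg.Agent.S2896

set_option autoImplicit false
open Cfsg

namespace Cfsg.Agent.S2898

open Cfsg.Agent.Helper48 Cfsg.Agent.Helper49

/-- a normal subgroup meeting a Sylow `2`-subgroup trivially has odd order. -/
theorem odd_card_of_sylow_inf_eq_bot {G : Type*} [Group G] [Finite G] (S : Sylow 2 G)
    (L : Subgroup G) [hL : L.Normal] (h : (S : Subgroup G) ⊓ L = ⊥) : Odd (Nat.card L) := by
  have : Fact (Nat.Prime 2) := ⟨Nat.prime_two⟩
  by_contra hodd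
  have hdvd : 2 ∣ Nat.card L := even_iff_two_dvd.mp (Nat.not_odd_iff_even.mp hodd)
  obtain ⟨t, ht⟩ := exists_prime_orderOf_dvd_card' 2 hdvd
  have ht' : orderOf (t : G) = 2 := by rw [Subgroup.orderOf_coe]; exact ht
  have hP : IsPGroup 2 ↥(Subgroup.zpowers (t : G)) := by
    apply IsPGroup.of_card (n := 1)
    rw [Nat.card_zpowers, ht', pow_one]
  obtain ⟨P', hP'⟩ := hP.exists_le_sylow
  obtain ⟨g, hg⟩ := MulAction.exists_smul_eq G S P'
  have h1 : (t : G) ∈ ((g • S : Sylow 2 G) : Subgroup G) :=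
    hg ▸ hP' (Subgroup.mem_zpowers (t : G))
  have h2 : g⁻¹ * (t : G) * g ∈ (S : Subgroup G) := Cfsg.Agent.S2896.mem_smul_sylow_iff'.mp h1
  have h3 : g⁻¹ * (t : G) * g ∈ L := by
    have := hL.conj_mem (t : G) t.2 g⁻¹
    simpa using this
  have h4 : g⁻¹ * (t : G) * g ∈ ((S : Subgroup G) ⊓ L : Subgroup G) := Subgroup.mem_inf.mpr ⟨h2, h3⟩
  rw [h, Subgroup.mem_bot] at h4
  have h5 : (t : G) = 1 := by
    calc (t : G) = g * (g⁻¹ * (t : G) * g) * g⁻¹ := by group
      _ = 1 := by rw [h4]; group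
  rw [h5, orderOf_one] at ht'
  omega

/-- Let G be a finite group of even order with parabolic characteristic 2. If the centre of G ⧸ O(G) is trivial, then O(G) = 1. -/
theorem result {G : Type*} [Group G] [Finite G] (h2 : 2 ∣ Nat.card G) (hG : Cfsg.IsOfParabolicCharacteristic 2 G) [hN : (Cfsg.oddCore G).Normal] (hZ : Subgroup.center (G ⧸ Cfsg.oddCore G) = ⊥) : Cfsg.oddCore G = ⊥ := by
  classical
  have : Fact (Nat.Prime 2) := ⟨Nat.prime_two⟩
  by_contra hK
  obtain ⟨S⟩ : Nonempty (Sylow 2 G) := inferInstance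
  have hS1 : (S : Subgroup G) ≠ ⊥ := S.ne_bot_of_dvd_card h2
  have hKodd : ∀ x ∈ Cfsg.oddCore G, (orderOf x).Coprime 2 := by
    intro x hx
    have h1 : orderOf (⟨x, hx⟩ : ↥(Cfsg.oddCore G)) ∣ Nat.card ↥(Cfsg.oddCore G) :=
      orderOf_dvd_natCard _
    rw [Subgroup.orderOf_mk] at h1
    exact Nat.Coprime.coprime_dvd_left h1 (Cfsg.Agent.Lib.card_pPrimeCore_coprime 2)
  -- involutions of `Z(S)` act fixed-point-freely on `O(G)`
  have hfpf : ∀ z ∈ (S : Subgroup G), orderOf z = 2 → (∀ s ∈ (S : Subgroup G), s * z = z * s) →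
      ∀ k ∈ Cfsg.oddCore G, z * k = k * z → k = 1 := by
    intro z hzS hz2 hzc k hk hkz
    have hz1 : z ≠ 1 := by
      intro h1
      rw [h1, orderOf_one] at hz2
      omega
    have hzΩ : z ∈ Cfsg.omegaOne 2
        ((S : Subgroup G) ⊓ Subgroup.centralizer ((S : Subgroup G) : Set G)) := by
      apply Subgroup.subset_closure
      refine ⟨Subgroup.mem_inf.mpr ⟨hzS, ?_⟩, ?_⟩
      · rw [Subgroup.mem_centralizer_iff]
        exact hzc
      · rw [← hz2]; exact pow_orderOf_eq_one z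
    have hF := ((Cfsg.Agent.S2896.result h2 S ⊥ bot_le).2.1.mp hG) z hz1 hzΩ
    have hC : CharPIn 2 (Subgroup.centralizer ({z} : Set G)) :=
      (Cfsg.Agent.S2896.gfs_iff_charPIn _).mp hF
    have hkC : k ∈ Subgroup.centralizer ({z} : Set G) :=
      Subgroup.mem_centralizer_singleton_iff.mpr hkz.symm
    have hkQ : ∀ r ∈ coreIn 2 (Subgroup.centralizer ({z} : Set G)), k * r = r * k := by
      intro r hr
      have hcK : k * r * k⁻¹ * r⁻¹ ∈ Cfsg.oddCore G := by
        have : k * r * k⁻¹ * r⁻¹ = k * (r * k⁻¹ * r⁻¹) := by group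
        rw [this]
        exact Subgroup.mul_mem _ hk (hN.conj_mem _ (Subgroup.inv_mem _ hk) r)
      have hcQ : k * r * k⁻¹ * r⁻¹ ∈ coreIn 2 (Subgroup.centralizer ({z} : Set G)) :=
        Subgroup.mul_mem _ (coreIn_conj_mem hkC hr) (Subgroup.inv_mem _ hr)
      have h1 : k * r * k⁻¹ * r⁻¹ = 1 :=
        eq_one_of_mem_pGroup_of_coprime (coreIn_isPGroup _) hcQ (hKodd _ hcK)
      calc k * r = (k * r * k⁻¹ * r⁻¹) * (r * k) := by group
        _ = r * k := by rw [h1, one_mul]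
    have hkcore : k ∈ coreIn 2 (Subgroup.centralizer ({z} : Set G)) := hC k hkC hkQ
    exact eq_one_of_mem_pGroup_of_coprime (coreIn_isPGroup _) hkcore (hKodd k hk)
  -- `S ∩ C_G(O(G)) = 1`
  have hCS : (S : Subgroup G) ⊓ Subgroup.centralizer ((Cfsg.oddCore G : Subgroup G) : Set G) = ⊥ := by
    by_contra hne
    have hnorm : (S : Subgroup G) ≤ Subgroup.normalizer
        (((S : Subgroup G) ⊓ Subgroup.centralizer ((Cfsg.oddCore G : Subgroup G) : Set G) :
          Subgroup G) : Set G) := by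
      have key : ∀ s ∈ (S : Subgroup G), ∀ x ∈ ((S : Subgroup G) ⊓
          Subgroup.centralizer ((Cfsg.oddCore G : Subgroup G) : Set G) : Subgroup G),
          s * x * s⁻¹ ∈ ((S : Subgroup G) ⊓
          Subgroup.centralizer ((Cfsg.oddCore G : Subgroup G) : Set G) : Subgroup G) := by
        intro s hs x hx
        refine Subgroup.mem_inf.mpr ⟨?_, ?_⟩
        · exact Subgroup.mul_mem _ (Subgroup.mul_mem _ hs hx.1) (Subgroup.inv_mem _ hs)
        · exact (Subgroup.normal_centralizer (H := Cfsg.oddCore G)).conj_mem x hx.2 s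
      intro s hs
      rw [Subgroup.mem_normalizer_iff]
      intro x
      constructor
      · exact key s hs x
      · intro hx
        have := key s⁻¹ (Subgroup.inv_mem _ hs) _ hx
        have e : s⁻¹ * (s * x * s⁻¹) * s⁻¹⁻¹ = x := by group
        rwa [e] at this
    obtain ⟨z, hzR, hz2, hzc⟩ :=
      exists_orderOf_eq_prime_central S.isPGroup' inf_le_left hne hnorm
    apply hK
    rw [eq_bot_iff]
    intro k hk
    have hzk : z * k = k * z :=
      (Subgroup.mem_centralizer_iff.mp (Subgroup.mem_inf.mp hzR).2 k hk).symm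
    exact Subgroup.mem_bot.mpr (hfpf z (Subgroup.mem_inf.mp hzR).1 hz2 hzc k hk hzk)
  -- `C_G(O(G)) ≤ O(G)`
  have hCK : Subgroup.centralizer ((Cfsg.oddCore G : Subgroup G) : Set G) ≤ Cfsg.oddCore G :=
    Cfsg.Agent.Lib.le_oddCore Subgroup.normal_centralizer
      (odd_card_of_sylow_inf_eq_bot S _ hCS)
  -- an involution in `Z(S)`
  obtain ⟨z, hzS, hz2, hzc⟩ :=
    exists_orderOf_eq_prime_central S.isPGroup' le_rfl hS1 Subgroup.le_normalizer
  have hzz : z * z = 1 := by rw [← pow_two, ← hz2]; exact pow_orderOf_eq_one z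
  have hzinv : z⁻¹ = z := inv_eq_of_mul_eq_one_right hzz
  -- `z` inverts `O(G)`
  have hinv : ∀ k ∈ Cfsg.oddCore G, z * k * z⁻¹ = k⁻¹ := by
    let φ : ↥(Cfsg.oddCore G) ≃* ↥(Cfsg.oddCore G) := MulAut.conjNormal z
    have hφa : ∀ k : ↥(Cfsg.oddCore G), ((φ k : ↥(Cfsg.oddCore G)) : G) = z * k * z⁻¹ :=
      fun k => MulAut.conjNormal_apply z k
    have hφ : MonoidHom.FixedPointFree φ := by
      intro k hk
      have h1 : z * (k : G) * z⁻¹ = k := by rw [← hφa, hk]
      have h3 : z * (k : G) = k * z := by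
        calc z * (k : G) = (z * (k : G) * z⁻¹) * z := by group
          _ = k * z := by rw [h1]
      exact Subtype.ext (hfpf z hzS hz2 hzc k k.2 h3)
    have hinvol : Function.Involutive φ := by
      intro k
      apply Subtype.ext
      rw [hφa, hφa, hzinv]
      calc z * (z * (k : G) * z) * z = (z * z) * k * (z * z) := by group
        _ = k := by rw [hzz, one_mul, mul_one]
    have hcoe := hφ.coe_eq_inv_of_involutive hinvol
    intro k hk
    have h1 := congrFun hcoe ⟨k, hk⟩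
    have h2 := congrArg Subtype.val h1
    rw [hφa] at h2
    exact h2
  -- `z O(G)` is central in `G ⧸ O(G)`
  have hcen : QuotientGroup.mk' (Cfsg.oddCore G) z ∈ Subgroup.center (G ⧸ Cfsg.oddCore G) := by
    rw [Subgroup.mem_center_iff]
    intro q
    obtain ⟨g, rfl⟩ := QuotientGroup.mk'_surjective (Cfsg.oddCore G) q
    rw [← map_mul, ← map_mul]
    apply (QuotientGroup.eq).mpr
    apply hCK
    rw [Subgroup.mem_centralizer_iff]
    intro k hk
    have hk1 : g * k * g⁻¹ ∈ Cfsg.oddCore G := hN.conj_mem k hk g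
    have e1 : (g * z)⁻¹ * (z * g) * k * ((g * z)⁻¹ * (z * g))⁻¹ = k := by
      calc (g * z)⁻¹ * (z * g) * k * ((g * z)⁻¹ * (z * g))⁻¹
          = z⁻¹ * (g⁻¹ * (z * (g * k * g⁻¹) * z⁻¹) * g) * z := by group
        _ = z⁻¹ * (g⁻¹ * (g * k * g⁻¹)⁻¹ * g) * z := by rw [hinv _ hk1]
        _ = z⁻¹ * k⁻¹ * z := by group
        _ = z⁻¹ * (z * k * z⁻¹) * z := by rw [hinv k hk]
        _ = k := by group
    calc k * ((g * z)⁻¹ * (z * g))
        = ((g * z)⁻¹ * (z * g) * k * ((g * z)⁻¹ * (z * g))⁻¹) * ((g * z)⁻¹ * (z * g)) := by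
          rw [e1]
      _ = (g * z)⁻¹ * (z * g) * k := by group
  rw [hZ, Subgroup.mem_bot] at hcen
  have hzK : z ∈ Cfsg.oddCore G := (QuotientGroup.eq_one_iff z).mp hcen
  have := hKodd z hzK
  rw [hz2] at this
  norm_num at this

end Cfsg.Agent.S2898
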