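import Cfsg.Statements.S2907

set_option autoImplicit false
open Cfsg

namespace Cfsg.Agent.S2907

variable {X : Type*} [Group X]

/-- the commutator map `y ↦ [x,y]` into the centre, when commutators are central. -/
def commHom (hc : commutator X = Subgroup.center X) (x : X) : X →* Subgroup.center X where
  toFun y := ⟨x * y * x⁻¹ * y⁻¹, by
    rw [← hc, commutator_def]
    have := Subgroup.commutator_mem_commutator (Subgroup.mem_top x) (Subgroup.mem_top y)
    simpa [commutatorElement_def] using this⟩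
  map_one' := by apply Subtype.ext; simp
  map_mul' y₁ y₂ := by
    apply Subtype.ext
    have hz : x * y₂ * x⁻¹ * y₂⁻¹ ∈ Subgroup.center X := by
      rw [← hc, commutator_def]
      have := Subgroup.commutator_mem_commutator (Subgroup.mem_top x) (Subgroup.mem_top y₂)
      simpa [commutatorElement_def] using this
    have hcomm := (Subgroup.mem_center_iff.mp hz) y₁⁻¹
    show x * (y₁ * y₂) * x⁻¹ * (y₁ * y₂)⁻¹ = (x * y₁ * x⁻¹ * y₁⁻¹) * (x * y₂ * x⁻¹ * y₂⁻¹)
    calc x * (y₁ * y₂) * x⁻¹ * (y₁ * y₂)⁻¹ = x * y₁ * x⁻¹ * ((x * y₂ * x⁻¹ * y₂⁻¹) * y₁⁻¹) := by group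
      _ = x * y₁ * x⁻¹ * (y₁⁻¹ * (x * y₂ * x⁻¹ * y₂⁻¹)) := by rw [hcomm]
      _ = (x * y₁ * x⁻¹ * y₁⁻¹) * (x * y₂ * x⁻¹ * y₂⁻¹) := by group

theorem commHom_ker (hc : commutator X = Subgroup.center X) (x : X) :
    (commHom hc x).ker = Subgroup.centralizer ({x} : Set X) := by
  ext y
  rw [MonoidHom.mem_ker, Subgroup.mem_centralizer_singleton_iff]
  constructor
  · intro h
    have := congrArg Subtype.val h
    have h1 : x * y * x⁻¹ * y⁻¹ = 1 := this
    calc y * x = (x * y * x⁻¹ * y⁻¹)⁻¹ * (x * y) := by group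
      _ = x * y := by rw [h1]; group
  · intro h
    apply Subtype.ext
    show x * y * x⁻¹ * y⁻¹ = 1
    rw [← h]; group

/-- Let X be a finite semi-extraspecial p-group and x an element of X outside the centre. Then the index of C_X(x) in X equals the order of Z(X), and the commutators [x, y], y ∈ X, form exactly the centre Z(X). -/
theorem result {X : Type*} [Group X] [Finite X] {p : ℕ} [Fact p.Prime] (hX : Cfsg.IsSemiExtraspecial p X) (x : X) (hx : x ∉ Subgroup.center X) : (Subgroup.centralizer ({x} : Set X)).index = Nat.card ↥(Subgroup.center X) ∧ {z : X | ∃ y : X, z = x * y * x⁻¹ * y⁻¹} = (Subgroup.center X : Set X) := by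
  obtain ⟨⟨-, -, hc⟩, hsemi⟩ := hX
  set f := commHom hc x with hf
  have hrange : f.range = ⊤ := by
    by_contra hne
    obtain ⟨Y', hY'co, hY'le⟩ := (eq_top_or_exists_le_coatom f.range).resolve_left hne
    set Y : Subgroup X := Y'.map (Subgroup.center X).subtype with hY
    have hYle : Y ≤ Subgroup.center X := by
      rintro _ ⟨z, -, rfl⟩; exact z.2
    have hYsub : Y.subgroupOf (Subgroup.center X) = Y' :=
      Subgroup.comap_map_eq_self_of_injective (Subgroup.center X).subtype_injective Y'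
    obtain ⟨hYn, ⟨-, hcard⟩⟩ := hsemi Y hYle (hYsub ▸ hY'co)
    -- image of x is central in X ⧸ Y
    have hxbar : (QuotientGroup.mk' Y x) ∈ Subgroup.center (X ⧸ Y) := by
      rw [Subgroup.mem_center_iff]
      intro ybar
      obtain ⟨y, rfl⟩ := QuotientGroup.mk'_surjective Y ybar
      rw [← map_mul, ← map_mul]
      symm
      rw [QuotientGroup.mk'_eq_mk']
      refine ⟨(x * y)⁻¹ * (y * x), ?_, by group⟩
      -- (x y)⁻¹ (y x) = c⁻¹ where c = f y is central
      have hfy : ((f y : Subgroup.center X) : X) ∈ Y := ⟨f y, hY'le ⟨y, rfl⟩, rfl⟩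
      have hval : ((f y : Subgroup.center X) : X) = x * y * x⁻¹ * y⁻¹ := rfl
      have hcen : (x * y * x⁻¹ * y⁻¹)⁻¹ ∈ Subgroup.center X := (Subgroup.center X).inv_mem (f y).2
      have hcomm := (Subgroup.mem_center_iff.mp hcen) (x * y)
      have : (x * y)⁻¹ * (y * x) = (x * y * x⁻¹ * y⁻¹)⁻¹ := by
        calc (x * y)⁻¹ * (y * x) = (x * y)⁻¹ * ((x * y * x⁻¹ * y⁻¹)⁻¹ * (x * y)) := by group
          _ = (x * y)⁻¹ * ((x * y) * (x * y * x⁻¹ * y⁻¹)⁻¹) := by rw [hcomm]
          _ = (x * y * x⁻¹ * y⁻¹)⁻¹ := by group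
      rw [this, ← hval]; exact Y.inv_mem hfy
    -- image of the centre
    set Zbar : Subgroup (X ⧸ Y) := (Subgroup.center X).map (QuotientGroup.mk' Y) with hZbar
    have hZle : Zbar ≤ Subgroup.center (X ⧸ Y) := by
      rintro _ ⟨z, hz, rfl⟩
      rw [Subgroup.mem_center_iff]
      intro ybar
      obtain ⟨y, rfl⟩ := QuotientGroup.mk'_surjective Y ybar
      rw [← map_mul, ← map_mul, (Subgroup.mem_center_iff.mp hz) y]
    have hdvd : Nat.card Zbar ∣ p := hcard ▸ Subgroup.card_dvd_of_le hZle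
    rcases (Nat.dvd_prime (Fact.out : p.Prime)).mp hdvd with h1 | hp
    · -- Zbar trivial: centre ≤ Y
      have hbot : Zbar = ⊥ := Subgroup.card_eq_one.mp h1
      have hle : Subgroup.center X ≤ Y := by
        intro z hz
        have : QuotientGroup.mk' Y z ∈ Zbar := ⟨z, hz, rfl⟩
        rw [hbot, Subgroup.mem_bot] at this
        exact (QuotientGroup.eq_one_iff z).mp this
      apply hY'co.1
      rw [← hYsub, Subgroup.subgroupOf_eq_top]
      exact hle
    · have heq : Zbar = Subgroup.center (X ⧸ Y) :=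
        Subgroup.eq_of_le_of_card_ge hZle (by rw [hp, hcard])
      rw [← heq] at hxbar
      obtain ⟨z, hz, hzx⟩ := hxbar
      rw [QuotientGroup.mk'_eq_mk'] at hzx
      obtain ⟨w, hw, hzw⟩ := hzx
      apply hx
      rw [← hzw]
      exact (Subgroup.center X).mul_mem hz (hYle hw)
  constructor
  · rw [← commHom_ker hc x, Subgroup.index_ker, ← hf, hrange]
    exact Nat.card_congr (Subgroup.topEquiv).toEquiv
  · ext z
    simp only [Set.mem_ofPred_eq, SetLike.mem_coe]
    constructor
    · rintro ⟨y, rfl⟩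
      exact (f y).2
    · intro hz
      have : (⟨z, hz⟩ : Subgroup.center X) ∈ f.range := by rw [hrange]; trivial
      obtain ⟨y, hy⟩ := this
      exact ⟨y, (congrArg Subtype.val hy).symm⟩

end Cfsg.Agent.S2907
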