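import Cfsg.Statements.S2908
import Cfsg.Agent.S0029
import Cfsg.Agent.Helper2.Basic

set_option autoImplicit false
open Cfsg
open scoped commutatorElement Pointwise

namespace Cfsg.Agent.S2908

/-- Let P be a p-subgroup of a finite group, normalized by a p-subgroup A and by a subgroup B of order prime to p that commutes elementwise with A. If [P, B] ≤ [P, A], then B centralizes P. -/
theorem result {G : Type*} [Group G] [Finite G] {p : ℕ} [Fact p.Prime] (P A B : Subgroup G) (hP : IsPGroup p ↥P) (hA : IsPGroup p ↥A) (hB : ¬ p ∣ Nat.card ↥B) (hnA : A ≤ Subgroup.normalizer (P : Set G)) (hnB : B ≤ Subgroup.normalizer (P : Set G)) (hAB : ⁅A, B⁆ = ⊥) (hcomm : ⁅P, B⁆ ≤ ⁅P, A⁆) : ⁅P, B⁆ = ⊥ := by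
  have hpp : p.Prime := Fact.out
  set T : Subgroup G := P ⊔ A with hT
  have hTp : IsPGroup p T := IsPGroup.to_sup_of_normal_left' hP hA hnA
  have : Group.IsNilpotent T := hTp.isNilpotent
  -- B commutes with A elementwise
  have hab : ∀ a ∈ A, ∀ b ∈ B, a * b = b * a := by
    intro a ha b hb
    have : ⁅a, b⁆ ∈ ⁅A, B⁆ := Subgroup.commutator_mem_commutator ha hb
    rw [hAB, Subgroup.mem_bot, commutatorElement_eq_one_iff_mul_comm] at this
    exact this
  -- B normalizes T
  have hBA : B ≤ Subgroup.normalizer (A : Set G) := by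
    intro b hb
    apply Subgroup.centralizer_le_normalizer
    rw [Subgroup.mem_centralizer_iff]
    intro a ha
    exact hab a ha b hb
  have hBT : B ≤ Subgroup.normalizer (T : Set G) := by
    intro b hb
    exact Subgroup.normalizer_inf_normalizer_le_normalizer_sup P A
      (Subgroup.mem_inf.mpr ⟨hnB hb, hBA hb⟩)
  -- coprimality
  have hcop : (Nat.card B).Coprime (Nat.card (frattini T)) := by
    obtain ⟨n, hn⟩ := (IsPGroup.iff_card).mp (hTp.to_subgroup (frattini T))
    rw [hn]
    exact Nat.Coprime.pow_right n ((Nat.Prime.coprime_iff_not_dvd hpp).mpr hB).symm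
  -- the derived subgroup of T (inside G) lies in the image of the Frattini subgroup
  have hTT : ⁅T, T⁆ ≤ (frattini T).map T.subtype := by
    have h1 : (commutator T).map T.subtype = ⁅T, T⁆ := by
      rw [commutator_def, Subgroup.map_commutator, ← MonoidHom.range_eq_map, Subgroup.range_subtype]
    rw [← h1]
    exact Subgroup.map_mono Cfsg.Agent.Helper2.commutator_le_frattini
  -- B acts trivially on T modulo the Frattini subgroup
  have htriv : ∀ b ∈ B, ∀ t ∈ T, b * t * b⁻¹ * t⁻¹ ∈ (frattini T).map T.subtype := by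
    intro b hb t ht
    have hset : (T : Set G) = (P : Set G) * (A : Set G) :=
      Subgroup.coe_mul_of_right_le_normalizer_left P A hnA
    have ht' : t ∈ (P : Set G) * (A : Set G) := by rw [← hset]; exact ht
    obtain ⟨x, hx, a, ha, rfl⟩ := Set.mem_mul.mp ht'
    have h1 : b * (x * a) * b⁻¹ * (x * a)⁻¹ = ⁅b, x⁆ := by
      have hba : b * a * b⁻¹ = a := by rw [← hab a ha b hb]; group
      calc b * (x * a) * b⁻¹ * (x * a)⁻¹ = b * x * b⁻¹ * (b * a * b⁻¹) * a⁻¹ * x⁻¹ := by group
        _ = b * x * b⁻¹ * a * a⁻¹ * x⁻¹ := by rw [hba]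
        _ = ⁅b, x⁆ := by rw [commutatorElement_def]; group
    rw [h1]
    apply hTT
    have h2 : ⁅b, x⁆ ∈ ⁅B, P⁆ := Subgroup.commutator_mem_commutator hb hx
    rw [Subgroup.commutator_comm] at h2
    exact Subgroup.commutator_mono le_sup_left le_sup_right (hcomm h2)
  have key := Cfsg.Agent.S0029.result B T hBT hcop htriv
  rw [eq_bot_iff, Subgroup.commutator_le]
  intro x hx b hb
  rw [Subgroup.mem_bot, commutatorElement_eq_one_iff_mul_comm]
  have := key hb
  rw [Subgroup.mem_centralizer_iff] at this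
  exact this x ((le_sup_left : P ≤ T) hx)

end Cfsg.Agent.S2908
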