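import Cfsg.Statements.S2909
import Cfsg.Agent.S2908
import Cfsg.Agent.Helper24.Coprime
import Cfsg.Agent.Helper48.CoprimeGen
import Cfsg.Agent.Helper70.Commutator

set_option autoImplicit false
open Cfsg
open scoped commutatorElement

namespace Cfsg.Agent.S2909

section aux

variable {G : Type*} [Group G]

/-- The subgroup of elements normalizing `F` and acting trivially on `E` modulo `F`. -/
def trivMod (E F : Subgroup G) : Subgroup G where
  carrier := {g | g ∈ Subgroup.normalizer (F : Set G) ∧ ∀ e ∈ E, e * g * e⁻¹ * g⁻¹ ∈ F}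
  one_mem' := ⟨Subgroup.one_mem _, fun e _ => by simp⟩
  mul_mem' := by
    rintro a b ⟨ha, ha'⟩ ⟨hb, hb'⟩
    refine ⟨Subgroup.mul_mem _ ha hb, fun e he => ?_⟩
    have : e * (a * b) * e⁻¹ * (a * b)⁻¹ =
        (e * a * e⁻¹ * a⁻¹) * (a * (e * b * e⁻¹ * b⁻¹) * a⁻¹) := by group
    rw [this]
    exact F.mul_mem (ha' e he) ((Subgroup.mem_normalizer_iff.mp ha _).mp (hb' e he))
  inv_mem' := by
    rintro a ⟨ha, ha'⟩
    refine ⟨Subgroup.inv_mem _ ha, fun e he => ?_⟩
    have : e * a⁻¹ * e⁻¹ * a⁻¹⁻¹ = a⁻¹ * (e * a * e⁻¹ * a⁻¹)⁻¹ * a⁻¹⁻¹ := by group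
    rw [this]
    exact (Subgroup.mem_normalizer_iff.mp (Subgroup.inv_mem _ ha) _).mp (F.inv_mem (ha' e he))

theorem mem_trivMod {E F : Subgroup G} {g : G} :
    g ∈ trivMod E F ↔ g ∈ Subgroup.normalizer (F : Set G) ∧ ∀ e ∈ E, e * g * e⁻¹ * g⁻¹ ∈ F :=
  Iff.rfl

/-- conjugating by an element normalizing both `E` and `F` preserves `trivMod E F`. -/
theorem conj_mem_trivMod {E F : Subgroup G} {g r : G} (hg : g ∈ trivMod E F)
    (hrE : r ∈ Subgroup.normalizer (E : Set G)) (hrF : r ∈ Subgroup.normalizer (F : Set G)) :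
    r * g * r⁻¹ ∈ trivMod E F := by
  obtain ⟨hg1, hg2⟩ := hg
  refine ⟨Subgroup.mul_mem _ (Subgroup.mul_mem _ hrF hg1) (Subgroup.inv_mem _ hrF), fun e he => ?_⟩
  have he' : r⁻¹ * e * r⁻¹⁻¹ ∈ E :=
    (Subgroup.mem_normalizer_iff.mp (Subgroup.inv_mem _ hrE) e).mp he
  have h1 := hg2 _ he'
  have h2 := (Subgroup.mem_normalizer_iff.mp hrF _).mp h1
  have : e * (r * g * r⁻¹) * e⁻¹ * (r * g * r⁻¹)⁻¹ =
      r * (r⁻¹ * e * r⁻¹⁻¹ * g * (r⁻¹ * e * r⁻¹⁻¹)⁻¹ * g⁻¹) * r⁻¹ := by group
  rw [this]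
  exact h2

/-- an element normalizing `H` and `K` normalizes `⁅H, K⁆`. -/
theorem mem_normalizer_commutator {H K : Subgroup G} {g : G}
    (hH : g ∈ Subgroup.normalizer (H : Set G)) (hK : g ∈ Subgroup.normalizer (K : Set G)) :
    g ∈ Subgroup.normalizer ((⁅H, K⁆ : Subgroup G) : Set G) := by
  have key : ∀ g : G, g ∈ Subgroup.normalizer (H : Set G) → g ∈ Subgroup.normalizer (K : Set G) →
      ∀ x ∈ ⁅H, K⁆, g * x * g⁻¹ ∈ ⁅H, K⁆ := by
    intro g hH hK x hx
    have h1 : (⁅H, K⁆).map (MulAut.conj g).toMonoidHom = ⁅H, K⁆ := by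
      rw [Subgroup.map_commutator]
      congr 1
      · ext y
        simp only [Subgroup.mem_map, MulEquiv.coe_toMonoidHom, MulAut.conj_apply]
        constructor
        · rintro ⟨z, hz, rfl⟩
          exact (Subgroup.mem_normalizer_iff.mp hH z).mp hz
        · intro hy
          refine ⟨g⁻¹ * y * g, ?_, by group⟩
          have := (Subgroup.mem_normalizer_iff.mp (Subgroup.inv_mem _ hH) y).mp hy
          simpa using this
      · ext y
        simp only [Subgroup.mem_map, MulEquiv.coe_toMonoidHom, MulAut.conj_apply]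
        constructor
        · rintro ⟨z, hz, rfl⟩
          exact (Subgroup.mem_normalizer_iff.mp hK z).mp hz
        · intro hy
          refine ⟨g⁻¹ * y * g, ?_, by group⟩
          have := (Subgroup.mem_normalizer_iff.mp (Subgroup.inv_mem _ hK) y).mp hy
          simpa using this
    rw [← h1]
    exact ⟨x, hx, rfl⟩
  rw [Subgroup.mem_normalizer_iff]
  intro x
  constructor
  · exact key g hH hK x
  · intro hx
    have := key g⁻¹ (Subgroup.inv_mem _ hH) (Subgroup.inv_mem _ hK) _ hx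
    have e : g⁻¹ * (g * x * g⁻¹) * g⁻¹⁻¹ = x := by group
    rwa [e] at this

theorem commute_zpowers {a g z : G} (hz : z ∈ Subgroup.zpowers a)
    (h : a * g = g * a) : z * g = g * z := by
  obtain ⟨k, rfl⟩ := Subgroup.mem_zpowers_iff.mp hz
  have : Commute a g := h
  exact (this.zpow_left k).eq

theorem isPGroup_zpowers_of_pow_eq_one (p : ℕ) (a : G) (ha : a ^ p = 1) :
    IsPGroup p ↥(Subgroup.zpowers a) := by
  rintro ⟨g, hg⟩
  obtain ⟨k, rfl⟩ := Subgroup.mem_zpowers_iff.mp hg
  refine ⟨1, ?_⟩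
  apply Subtype.ext
  simp only [pow_one, Subgroup.coe_pow, Subgroup.coe_one]
  rw [← zpow_natCast, ← zpow_mul, mul_comm, zpow_mul, zpow_natCast, ha, one_zpow]

theorem mem_normalizer_zpowers_of_commute {r u : G} (h : r * u = u * r) :
    r ∈ Subgroup.normalizer ((Subgroup.zpowers u : Subgroup G) : Set G) := by
  apply Subgroup.centralizer_le_normalizer
  rw [Subgroup.mem_centralizer_iff]
  intro y hy
  exact commute_zpowers hy h.symm

end aux

/-- the key step: for `u ∈ U#`, `r ∈ C_R(u)` and `w ∈ U`, the commutator `⁅r, w⁆` centralizes `E`. -/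
theorem key {G : Type*} [Group G] [Finite G] {p : ℕ} [Fact p.Prime] (E : Subgroup G) [E.Normal]
    (hE : IsPGroup p ↥E) (U : Subgroup G) (hU : Cfsg.IsElementaryAbelian p U)
    (hcond : (∀ u ∈ U, u ≠ 1 → E ⊓ Subgroup.centralizer (U : Set G) =
        E ⊓ Subgroup.centralizer ({u} : Set G)) ∨
      (∀ u ∈ U, u ≠ 1 → ⁅E, U⁆ = ⁅E, Subgroup.zpowers u⁆))
    (R : Subgroup G) (hR : ¬ p ∣ Nat.card ↥R) (hRU : U ≤ Subgroup.normalizer (R : Set G))
    (u : G) (hu : u ∈ U) (hu1 : u ≠ 1) (r : G) (hr : r ∈ R) (hru : r * u = u * r)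
    (w : G) (hw : w ∈ U) : ⁅r, w⁆ ∈ Subgroup.centralizer (E : Set G) := by
  have hUab : ∀ a ∈ U, ∀ b ∈ U, a * b = b * a := by
    intro a ha b hb
    have := hU.1.is_comm.comm ⟨a, ha⟩ ⟨b, hb⟩
    exact congrArg Subtype.val this
  have hnE : ∀ g : G, g ∈ Subgroup.normalizer (E : Set G) := by
    intro g
    rw [Subgroup.normalizer_eq_top]
    exact Subgroup.mem_top g
  have hwu : w * u = u * w := hUab w hw u hu
  set x : G := ⁅r, w⁆ with hx
  have hxdef : x = r * w * r⁻¹ * w⁻¹ := commutatorElement_def r w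
  have hxR : x ∈ R := by
    rw [hxdef]
    have h1 : w * r⁻¹ * w⁻¹ ∈ R :=
      (Subgroup.mem_normalizer_iff.mp (hRU hw) r⁻¹).mp (R.inv_mem hr)
    have : r * w * r⁻¹ * w⁻¹ = r * (w * r⁻¹ * w⁻¹) := by group
    rw [this]
    exact R.mul_mem hr h1
  have hxu : x * u = u * x := by
    have c1 : Commute r u := hru
    have c2 : Commute w u := hwu
    rw [hxdef]
    exact (((c1.mul_left c2).mul_left c1.inv_left).mul_left c2.inv_left).eq
  have hcop : (orderOf x).Coprime p := Cfsg.Agent.Helper48.coprime_orderOf_of_not_dvd_card hR hxR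
  have hup : u ^ p = 1 := hU.2 u hu
  have hzu : IsPGroup p ↥(Subgroup.zpowers u) := isPGroup_zpowers_of_pow_eq_one p u hup
  have hzuN : Subgroup.zpowers u ≤ Subgroup.normalizer (E : Set G) := fun g _ => hnE g
  -- it suffices to show that `x` commutes with `E`
  suffices hmain : ∀ e ∈ E, x * e = e * x by
    rw [Subgroup.mem_centralizer_iff]
    intro e he
    exact (hmain e he).symm
  rcases hcond with hcond | hcond
  · -- case (a): Thompson's P × Q lemma
    apply Cfsg.Agent.Helper24.thompson_PxQ hE hzu hzuN (hnE x) hcop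
    · intro b hb
      exact (commute_zpowers hb hxu.symm).symm
    · intro e he hce
      have heu : u * e = e * u := hce u (Subgroup.mem_zpowers u)
      have hD := hcond u hu hu1
      have heD : e ∈ E ⊓ Subgroup.centralizer (U : Set G) := by
        rw [hD]
        refine Subgroup.mem_inf.mpr ⟨he, ?_⟩
        rw [Subgroup.mem_centralizer_singleton_iff]
        exact heu.symm
      have hwe : w * e = e * w := (Subgroup.mem_centralizer_iff.mp heD.2 w hw)
      have he'E : r⁻¹ * e * r ∈ E := by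
        have := (Subgroup.mem_normalizer_iff.mp (hnE r⁻¹) e).mp he
        simpa using this
      have he'u : u * (r⁻¹ * e * r) = (r⁻¹ * e * r) * u := by
        have c1 : Commute u r := hru.symm
        have c2 : Commute u e := heu
        exact ((c1.inv_right.mul_right c2).mul_right c1).eq
      have he'D : r⁻¹ * e * r ∈ E ⊓ Subgroup.centralizer (U : Set G) := by
        rw [hD]
        refine Subgroup.mem_inf.mpr ⟨he'E, ?_⟩
        rw [Subgroup.mem_centralizer_singleton_iff]
        exact he'u.symm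
      have hwe' : w * (r⁻¹ * e * r) = (r⁻¹ * e * r) * w :=
        (Subgroup.mem_centralizer_iff.mp he'D.2 w hw)
      have h1 : w⁻¹ * e = e * w⁻¹ := by
        have c : Commute w e := hwe
        exact c.inv_left.eq
      rw [hxdef]
      calc r * w * r⁻¹ * w⁻¹ * e = r * w * r⁻¹ * (w⁻¹ * e) := by group
        _ = r * w * r⁻¹ * (e * w⁻¹) := by rw [h1]
        _ = r * (w * (r⁻¹ * e * r)) * r⁻¹ * w⁻¹ := by group
        _ = r * ((r⁻¹ * e * r) * w) * r⁻¹ * w⁻¹ := by rw [hwe']
        _ = e * (r * w * r⁻¹ * w⁻¹) := by group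
  · -- case (b): the dual lemma S2908
    have hF := hcond u hu hu1
    have hrF : r ∈ Subgroup.normalizer ((⁅E, Subgroup.zpowers u⁆ : Subgroup G) : Set G) :=
      mem_normalizer_commutator (hnE r) (mem_normalizer_zpowers_of_commute hru)
    have hwF : w ∈ Subgroup.normalizer ((⁅E, Subgroup.zpowers u⁆ : Subgroup G) : Set G) := by
      rw [← hF]
      exact mem_normalizer_commutator (hnE w) (Subgroup.le_normalizer hw)
    have hwT : w ∈ trivMod E ⁅E, Subgroup.zpowers u⁆ := by
      refine ⟨hwF, fun e he => ?_⟩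
      rw [← hF, ← commutatorElement_def]
      exact Subgroup.commutator_mem_commutator he hw
    have hxT : x ∈ trivMod E ⁅E, Subgroup.zpowers u⁆ := by
      rw [hxdef]
      exact Subgroup.mul_mem _ (conj_mem_trivMod hwT (hnE r) hrF) (Subgroup.inv_mem _ hwT)
    have hzx : Subgroup.zpowers x ≤ trivMod E ⁅E, Subgroup.zpowers u⁆ :=
      (Subgroup.zpowers_le).mpr hxT
    have hcomm : ⁅E, Subgroup.zpowers x⁆ ≤ ⁅E, Subgroup.zpowers u⁆ := by
      rw [Subgroup.commutator_le]
      intro e he y hy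
      rw [commutatorElement_def]
      exact (hzx hy).2 e he
    have hB : ¬ p ∣ Nat.card ↥(Subgroup.zpowers x) := by
      rw [Nat.card_zpowers]
      intro h
      have := Nat.Coprime.eq_one_of_dvd hcop.symm h
      exact (Fact.out : p.Prime).one_lt.ne' this
    have hAB : ⁅Subgroup.zpowers u, Subgroup.zpowers x⁆ = ⊥ := by
      rw [Subgroup.commutator_eq_bot_iff_le_centralizer, Subgroup.zpowers_le,
        Subgroup.mem_centralizer_iff]
      intro y hy
      exact commute_zpowers hy hxu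
    have hres := Cfsg.Agent.S2908.result E (Subgroup.zpowers u) (Subgroup.zpowers x) hE hzu hB hzuN
      (fun g _ => hnE g) hAB hcomm
    rw [Subgroup.commutator_eq_bot_iff_le_centralizer] at hres
    intro e he
    exact (Subgroup.mem_centralizer_iff.mp (hres he) x (Subgroup.mem_zpowers x))

/-- a non-cyclic group of exponent `p` has order at least `p ^ 2`. -/
theorem sq_le_card_of_not_isCyclic {G : Type*} [Group G] [Finite G] {p : ℕ} [Fact p.Prime]
    (U : Subgroup G) (hexp : ∀ a ∈ U, a ^ p = 1) (hnc : ¬ IsCyclic ↥U) : p ^ 2 ≤ Nat.card ↥U := by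
  have hp : p.Prime := Fact.out
  have hUp : IsPGroup p ↥U := by
    intro g
    refine ⟨1, ?_⟩
    apply Subtype.ext
    simp only [pow_one, Subgroup.coe_pow, Subgroup.coe_one]
    exact hexp g g.2
  obtain ⟨k, hk⟩ := IsPGroup.iff_card.mp hUp
  rw [hk]
  apply Nat.pow_le_pow_right hp.pos
  by_contra hlt
  have hk' : k = 0 ∨ k = 1 := by omega
  apply hnc
  rcases hk' with rfl | rfl
  · rw [pow_zero] at hk
    have : Subsingleton ↥U := (Nat.card_eq_one_iff_unique.mp hk).1
    infer_instance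
  · rw [pow_one] at hk
    exact isCyclic_of_prime_card hk

/-- Let p be a prime, E a normal p-subgroup of the finite group G, and U a non-cyclic elementary abelian p-subgroup of G such that either C_E(U) = C_E(u) for every nontrivial u ∈ U, or [E, U] = [E, ⟨u⟩] for every nontrivial u ∈ U. If R is a subgroup of order prime to p normalized by U, then [R, U] centralizes E. -/
theorem result {G : Type*} [Group G] [Finite G] {p : ℕ} [Fact p.Prime] (E : Subgroup G) [E.Normal] (hE : IsPGroup p ↥E) (U : Subgroup G) (hU : Cfsg.IsElementaryAbelian p U) (hnc : ¬ IsCyclic ↥U) (hcond : (∀ u ∈ U, u ≠ 1 → E ⊓ Subgroup.centralizer (U : Set G) = E ⊓ Subgroup.centralizer ({u} : Set G)) ∨ (∀ u ∈ U, u ≠ 1 → ⁅E, U⁆ = ⁅E, Subgroup.zpowers u⁆)) (R : Subgroup G) (hR : ¬ p ∣ Nat.card ↥R) (hRU : U ≤ Subgroup.normalizer (R : Set G)) : ⁅R, U⁆ ≤ Subgroup.centralizer (E : Set G) := by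
  have hUab : ∀ a ∈ U, ∀ b ∈ U, a * b = b * a := by
    intro a ha b hb
    have := hU.1.is_comm.comm ⟨a, ha⟩ ⟨b, hb⟩
    exact congrArg Subtype.val this
  have hUcard : p ^ 2 ≤ Nat.card ↥U := sq_le_card_of_not_isCyclic U hU.2 hnc
  have hgen : R ≤ Cfsg.Agent.Helper70.centralizerMod U (Subgroup.centralizer (E : Set G)) := by
    refine (Cfsg.Agent.Helper48.le_cgen_of_le_card R U hR hRU hUab hU.2 hUcard).trans ?_
    apply iSup_le
    rintro ⟨u, huU, hu1⟩
    rw [Cfsg.Agent.Helper70.le_centralizerMod_iff, Subgroup.commutator_le]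
    intro w hw r hr
    have hru : r * u = u * r := Subgroup.mem_centralizer_singleton_iff.mp hr.2
    have := key E hE U hU hcond R hR hRU u huU hu1 r hr.1 hru w hw
    rw [← commutatorElement_inv]
    exact Subgroup.inv_mem _ this
  rw [Subgroup.commutator_comm, ← Cfsg.Agent.Helper70.le_centralizerMod_iff]
  exact hgen

end Cfsg.Agent.S2909
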