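-- Statement S3309: no non-abelian finite simple group has Sylow 2-subgroups isomorphic to Z2 x D8.
-- Proof: Burnside fusion in Z(S), four applications of the Thompson transfer lemma (S0111), and a Sylow
-- argument inside the centralizer of the central involution a; the combinatorics is done on the model group.
import Cfsg.Statements.S3309
import Cfsg.Agent.S0111

set_option autoImplicit false
open Cfsg

namespace Cfsg.Agent.S3309

open DihedralGroup Multiplicative
open scoped Pointwise

abbrev MM := Multiplicative (ZMod 2) × DihedralGroup 4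

def rho : DihedralGroup 4 →* Multiplicative (ZMod 2) where
  toFun x := match x with
    | r i => ofAdd (i.val : ZMod 2)
    | sr i => ofAdd (i.val : ZMod 2)
  map_one' := by decide
  map_mul' := by decide

def sigma : DihedralGroup 4 →* Multiplicative (ZMod 2) where
  toFun x := match x with
    | r _ => 1
    | sr _ => ofAdd (1 : ZMod 2)
  map_one' := by decide
  map_mul' := by decide

def chiD : MM →* Multiplicative (ZMod 2) := MonoidHom.fst _ _
def chi110 : MM →* Multiplicative (ZMod 2) := MonoidHom.fst _ _ * rho.comp (MonoidHom.snd _ _)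
def chi111 : MM →* Multiplicative (ZMod 2) :=
  MonoidHom.fst _ _ * rho.comp (MonoidHom.snd _ _) * sigma.comp (MonoidHom.snd _ _)

abbrev ea : MM := (ofAdd 1, 1)
abbrev ez : MM := (1, r 2)
abbrev eaz : MM := (ofAdd 1, r 2)
abbrev er : MM := (1, r 1)
abbrev es (i : ZMod 4) : MM := (1, sr i)
abbrev eas (i : ZMod 4) : MM := (ofAdd 1, sr i)

theorem surjD : Function.Surjective chiD := by decide
theorem surj110 : Function.Surjective chi110 := by decide
theorem surj111 : Function.Surjective chi111 := by decide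

theorem invol_list : ∀ m : MM, m ^ 2 = 1 → m ≠ 1 →
    m = ez ∨ m = ea ∨ m = eaz ∨ m = es 0 ∨ m = es 1 ∨ m = es 2 ∨ m = es 3 ∨
    m = eas 0 ∨ m = eas 1 ∨ m = eas 2 ∨ m = eas 3 := by decide

theorem kerD_list : ∀ m : MM, chiD m = 1 → m ^ 2 = 1 → m ≠ 1 →
    m = ez ∨ m = es 0 ∨ m = es 1 ∨ m = es 2 ∨ m = es 3 := by decide

theorem ker111_list : ∀ m : MM, chi111 m = 1 → m ^ 2 = 1 → m ≠ 1 →
    m = ez ∨ m = es 1 ∨ m = es 3 ∨ m = eas 0 ∨ m = eas 2 := by decide

theorem ker110_list : ∀ m : MM, chi110 m = 1 → m ^ 2 = 1 → m ≠ 1 →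
    m = ez ∨ m = es 0 ∨ m = es 2 ∨ m = eas 1 ∨ m = eas 3 := by decide


theorem center_list : ∀ m : MM, (∀ y : MM, y * m = m * y) → m = 1 ∨ m = ea ∨ m = ez ∨ m = eaz := by decide

theorem ea_central : ∀ y : MM, y * ea = ea * y := by decide

theorem sq_list : ∀ m : MM, m ^ 2 = 1 ∨ m ^ 2 = ez := by decide

/-- The abstract fusion data on the model group. -/
structure Fusion (R : MM → MM → Prop) : Prop where
  refl : ∀ m, R m m
  symm : ∀ {m m'}, R m m' → R m' m
  trans : ∀ {m m' m''}, R m m' → R m' m'' → R m m''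
  conj : ∀ m x : MM, R m (x * m * x⁻¹)
  burn : ∀ m m' : MM, (∀ y, y * m = m * y) → (∀ y, y * m' = m' * y) → R m m' → m = m'
  inv : ∀ m m' : MM, R m m' → m ^ 2 = 1 → m ≠ 1 → m' ^ 2 = 1 ∧ m' ≠ 1
  tt : ∀ χ : MM →* Multiplicative (ZMod 2), Function.Surjective χ → ∀ m : MM, m ^ 2 = 1 → m ≠ 1 → χ m ≠ 1 →
        ∃ m', χ m' = 1 ∧ R m m'
  syl : ∀ d a' : MM, (∀ y, y * a' = a' * y) → R d a' →
        ∃ θ : MM → MM, θ d = a' ∧
          (∀ m m', m * d = d * m → m' * d = d * m' → θ (m * m') = θ m * θ m') ∧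
          (∀ m, m * d = d * m → R m (θ m)) ∧
          (∀ m m', m * d = d * m → m' * d = d * m' → θ m = θ m' → m = m')

variable {R : MM → MM → Prop}

theorem Fusion.nz (F : Fusion R) : ¬ R ea ez := fun h => by
  have := F.burn ea ez (by decide) (by decide) h
  revert this; decide

theorem Fusion.naz (F : Fusion R) : ¬ R ea eaz := fun h => by
  have := F.burn ea eaz (by decide) (by decide) h
  revert this; decide

theorem Fusion.nazz (F : Fusion R) : ¬ R eaz ez := fun h => by
  have := F.burn eaz ez (by decide) (by decide) h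
  revert this; decide

theorem conj_es : ∀ i : ZMod 4, er * es i * er⁻¹ = es (i + 2) := by decide
theorem conj_eas : ∀ i : ZMod 4, er * eas i * er⁻¹ = eas (i + 2) := by decide

theorem Fusion.s02 (F : Fusion R) (i : ZMod 4) : R (es i) (es (i + 2)) := by
  have := F.conj (es i) er
  rwa [conj_es i] at this

theorem Fusion.as02 (F : Fusion R) (i : ZMod 4) : R (eas i) (eas (i + 2)) := by
  have := F.conj (eas i) er
  rwa [conj_eas i] at this

theorem caseA (F : Fusion R) (hA : R ea (es 0)) : False := by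
  have hnz := F.nz
  have hnaz := F.naz
  have hnazz := F.nazz
  have s02 : R (es 0) (es 2) := F.s02 0
  have s13 : R (es 1) (es 3) := F.s02 1
  have as02 : R (eas 0) (eas 2) := F.as02 0
  have as13 : R (eas 1) (eas 3) := F.as02 1
  have hA2 : R ea (es 2) := F.trans hA s02
  -- step 2: az ~ s1
  obtain ⟨m2, hm2k, hm2R⟩ := F.tt chiD surjD eaz (by decide) (by decide) (by decide)
  have hm2i := F.inv eaz m2 hm2R (by decide) (by decide)
  have hB : R eaz (es 1) := by
    rcases kerD_list m2 hm2k hm2i.1 hm2i.2 with rfl | rfl | rfl | rfl | rfl <;>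
    first
    | exact hm2R
    | exact F.trans hm2R (F.symm s13)
    | exact absurd hm2R hnazz
    | exact absurd (F.trans hA (F.symm hm2R)) hnaz
    | exact absurd (F.trans hA2 (F.symm hm2R)) hnaz
  have hB3 : R eaz (es 3) := F.trans hB s13
  -- step 3: a ~ as0
  obtain ⟨m3, hm3k, hm3R⟩ := F.tt chi111 surj111 ea (by decide) (by decide) (by decide)
  have hm3i := F.inv ea m3 hm3R (by decide) (by decide)
  have hA' : R ea (eas 0) := by
    rcases ker111_list m3 hm3k hm3i.1 hm3i.2 with rfl | rfl | rfl | rfl | rfl <;>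
    first
    | exact hm3R
    | exact F.trans hm3R (F.symm as02)
    | exact absurd hm3R hnz
    | exact absurd (F.trans hm3R (F.symm hB)) hnaz
    | exact absurd (F.trans hm3R (F.symm hB3)) hnaz
  have hA'2 : R ea (eas 2) := F.trans hA' as02
  -- step 4: az ~ as1
  obtain ⟨m4, hm4k, hm4R⟩ := F.tt chi110 surj110 eaz (by decide) (by decide) (by decide)
  have hm4i := F.inv eaz m4 hm4R (by decide) (by decide)
  have hB' : R eaz (eas 1) := by
    rcases ker110_list m4 hm4k hm4i.1 hm4i.2 with rfl | rfl | rfl | rfl | rfl <;>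
    first
    | exact hm4R
    | exact F.trans hm4R (F.symm as13)
    | exact absurd hm4R hnazz
    | exact absurd (F.trans hA (F.symm hm4R)) hnaz
    | exact absurd (F.trans hA2 (F.symm hm4R)) hnaz
  have hB'3 : R eaz (eas 3) := F.trans hB' as13
  -- step 5
  obtain ⟨θ, hθd, hθmul, hθR, hθinj⟩ := F.syl (es 0) ea (by decide) (F.symm hA)
  have cz : ez * es 0 = es 0 * ez := by decide
  have ca : ea * es 0 = es 0 * ea := by decide
  have caz : eaz * es 0 = es 0 * eaz := by decide
  have cd : es 0 * es 0 = es 0 * es 0 := rfl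
  -- θ z = z
  have hz : θ ez = ez := by
    have h1 := hθR ez cz
    have h2 := F.inv ez (θ ez) h1 (by decide) (by decide)
    rcases invol_list (θ ez) h2.1 h2.2 with h | h | h | h | h | h | h | h | h | h | h <;> rw [h] at h1 <;>
    first
    | exact h
    | exact absurd (F.symm h1) hnz
    | exact absurd (F.symm h1) hnazz
    | exact absurd (F.trans hA (F.symm h1)) hnz
    | exact absurd (F.trans hB (F.symm h1)) hnazz
    | exact absurd (F.trans hA2 (F.symm h1)) hnz
    | exact absurd (F.trans hB3 (F.symm h1)) hnazz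
    | exact absurd (F.trans hA' (F.symm h1)) hnz
    | exact absurd (F.trans hB' (F.symm h1)) hnazz
    | exact absurd (F.trans hA'2 (F.symm h1)) hnz
    | exact absurd (F.trans hB'3 (F.symm h1)) hnazz
  -- θ a ∈ {s0, s2, as0, as2}
  have hane : θ ea ≠ ea := by
    intro h
    have := hθinj ea (es 0) ca cd (h.trans hθd.symm)
    revert this; decide
  have ha : θ ea = es 0 ∨ θ ea = es 2 ∨ θ ea = eas 0 ∨ θ ea = eas 2 := by
    have h1 := hθR ea ca
    have h2 := F.inv ea (θ ea) h1 (by decide) (by decide)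
    rcases invol_list (θ ea) h2.1 h2.2 with h | h | h | h | h | h | h | h | h | h | h <;> rw [h] at h1 <;>
    first
    | exact Or.inl h
    | exact Or.inr (Or.inl h)
    | exact Or.inr (Or.inr (Or.inl h))
    | exact Or.inr (Or.inr (Or.inr h))
    | exact absurd h hane
    | exact absurd h1 hnz
    | exact absurd h1 hnaz
    | exact absurd (F.trans h1 (F.symm hB)) hnaz
    | exact absurd (F.trans h1 (F.symm hB3)) hnaz
    | exact absurd (F.trans h1 (F.symm hB')) hnaz
    | exact absurd (F.trans h1 (F.symm hB'3)) hnaz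
  have haz : θ eaz = eaz ∨ θ eaz = es 1 ∨ θ eaz = es 3 ∨ θ eaz = eas 1 ∨ θ eaz = eas 3 := by
    have h1 := hθR eaz caz
    have h2 := F.inv eaz (θ eaz) h1 (by decide) (by decide)
    rcases invol_list (θ eaz) h2.1 h2.2 with h | h | h | h | h | h | h | h | h | h | h <;> rw [h] at h1 <;>
    first
    | exact Or.inl h
    | exact Or.inr (Or.inl h)
    | exact Or.inr (Or.inr (Or.inl h))
    | exact Or.inr (Or.inr (Or.inr (Or.inl h)))
    | exact Or.inr (Or.inr (Or.inr (Or.inr h)))
    | exact absurd h1 hnazz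
    | exact absurd (F.symm h1) hnaz
    | exact absurd (F.trans hA (F.symm h1)) hnaz
    | exact absurd (F.trans hA2 (F.symm h1)) hnaz
    | exact absurd (F.trans hA' (F.symm h1)) hnaz
    | exact absurd (F.trans hA'2 (F.symm h1)) hnaz
  -- θ a and θ az commute
  have hcomm : θ ea * θ eaz = θ eaz * θ ea := by
    rw [← hθmul ea eaz ca caz, ← hθmul eaz ea caz ca]
    congr 1
  have haz' : θ eaz = eaz := by
    rcases haz with h | h | h | h | h
    · exact h
    all_goals
      exfalso
      rcases ha with h' | h' | h' | h' <;> rw [h, h'] at hcomm <;> revert hcomm <;> decide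
  -- θ a = θ (az * z) = az * z = a
  have : θ ea = ea := by
    have e : ea = eaz * ez := by decide
    calc θ ea = θ (eaz * ez) := by rw [← e]
      _ = θ eaz * θ ez := hθmul eaz ez caz cz
      _ = eaz * ez := by rw [haz', hz]
      _ = ea := e.symm
  exact hane this

theorem caseB (F : Fusion R) (hA : R ea (es 1)) : False := by
  have hnz := F.nz
  have hnaz := F.naz
  have hnazz := F.nazz
  have s02 : R (es 1) (es 3) := F.s02 1
  have s13 : R (es 0) (es 2) := F.s02 0
  have as02 : R (eas 1) (eas 3) := F.as02 1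
  have as13 : R (eas 0) (eas 2) := F.as02 0
  have hA2 : R ea (es 3) := F.trans hA s02
  -- step 2: az ~ s1
  obtain ⟨m2, hm2k, hm2R⟩ := F.tt chiD surjD eaz (by decide) (by decide) (by decide)
  have hm2i := F.inv eaz m2 hm2R (by decide) (by decide)
  have hB : R eaz (es 0) := by
    rcases kerD_list m2 hm2k hm2i.1 hm2i.2 with rfl | rfl | rfl | rfl | rfl <;>
    first
    | exact hm2R
    | exact F.trans hm2R (F.symm s13)
    | exact absurd hm2R hnazz
    | exact absurd (F.trans hA (F.symm hm2R)) hnaz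
    | exact absurd (F.trans hA2 (F.symm hm2R)) hnaz
  have hB3 : R eaz (es 2) := F.trans hB s13
  -- step 3: a ~ as0
  obtain ⟨m3, hm3k, hm3R⟩ := F.tt chi110 surj110 ea (by decide) (by decide) (by decide)
  have hm3i := F.inv ea m3 hm3R (by decide) (by decide)
  have hA' : R ea (eas 1) := by
    rcases ker110_list m3 hm3k hm3i.1 hm3i.2 with rfl | rfl | rfl | rfl | rfl <;>
    first
    | exact hm3R
    | exact F.trans hm3R (F.symm as02)
    | exact absurd hm3R hnz
    | exact absurd (F.trans hm3R (F.symm hB)) hnaz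
    | exact absurd (F.trans hm3R (F.symm hB3)) hnaz
  have hA'2 : R ea (eas 3) := F.trans hA' as02
  -- step 4: az ~ as1
  obtain ⟨m4, hm4k, hm4R⟩ := F.tt chi111 surj111 eaz (by decide) (by decide) (by decide)
  have hm4i := F.inv eaz m4 hm4R (by decide) (by decide)
  have hB' : R eaz (eas 0) := by
    rcases ker111_list m4 hm4k hm4i.1 hm4i.2 with rfl | rfl | rfl | rfl | rfl <;>
    first
    | exact hm4R
    | exact F.trans hm4R (F.symm as13)
    | exact absurd hm4R hnazz
    | exact absurd (F.trans hA (F.symm hm4R)) hnaz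
    | exact absurd (F.trans hA2 (F.symm hm4R)) hnaz
  have hB'3 : R eaz (eas 2) := F.trans hB' as13
  -- step 5
  obtain ⟨θ, hθd, hθmul, hθR, hθinj⟩ := F.syl (es 1) ea (by decide) (F.symm hA)
  have cz : ez * es 1 = es 1 * ez := by decide
  have ca : ea * es 1 = es 1 * ea := by decide
  have caz : eaz * es 1 = es 1 * eaz := by decide
  have cd : es 1 * es 1 = es 1 * es 1 := rfl
  -- θ z = z
  have hz : θ ez = ez := by
    have h1 := hθR ez cz
    have h2 := F.inv ez (θ ez) h1 (by decide) (by decide)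
    rcases invol_list (θ ez) h2.1 h2.2 with h | h | h | h | h | h | h | h | h | h | h <;> rw [h] at h1 <;>
    first
    | exact h
    | exact absurd (F.symm h1) hnz
    | exact absurd (F.symm h1) hnazz
    | exact absurd (F.trans hA (F.symm h1)) hnz
    | exact absurd (F.trans hB (F.symm h1)) hnazz
    | exact absurd (F.trans hA2 (F.symm h1)) hnz
    | exact absurd (F.trans hB3 (F.symm h1)) hnazz
    | exact absurd (F.trans hA' (F.symm h1)) hnz
    | exact absurd (F.trans hB' (F.symm h1)) hnazz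
    | exact absurd (F.trans hA'2 (F.symm h1)) hnz
    | exact absurd (F.trans hB'3 (F.symm h1)) hnazz
  -- θ a ∈ {s0, s2, as0, as2}
  have hane : θ ea ≠ ea := by
    intro h
    have := hθinj ea (es 1) ca cd (h.trans hθd.symm)
    revert this; decide
  have ha : θ ea = es 1 ∨ θ ea = es 3 ∨ θ ea = eas 1 ∨ θ ea = eas 3 := by
    have h1 := hθR ea ca
    have h2 := F.inv ea (θ ea) h1 (by decide) (by decide)
    rcases invol_list (θ ea) h2.1 h2.2 with h | h | h | h | h | h | h | h | h | h | h <;> rw [h] at h1 <;>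
    first
    | exact Or.inl h
    | exact Or.inr (Or.inl h)
    | exact Or.inr (Or.inr (Or.inl h))
    | exact Or.inr (Or.inr (Or.inr h))
    | exact absurd h hane
    | exact absurd h1 hnz
    | exact absurd h1 hnaz
    | exact absurd (F.trans h1 (F.symm hB)) hnaz
    | exact absurd (F.trans h1 (F.symm hB3)) hnaz
    | exact absurd (F.trans h1 (F.symm hB')) hnaz
    | exact absurd (F.trans h1 (F.symm hB'3)) hnaz
  have haz : θ eaz = eaz ∨ θ eaz = es 0 ∨ θ eaz = es 2 ∨ θ eaz = eas 0 ∨ θ eaz = eas 2 := by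
    have h1 := hθR eaz caz
    have h2 := F.inv eaz (θ eaz) h1 (by decide) (by decide)
    rcases invol_list (θ eaz) h2.1 h2.2 with h | h | h | h | h | h | h | h | h | h | h <;> rw [h] at h1 <;>
    first
    | exact Or.inl h
    | exact Or.inr (Or.inl h)
    | exact Or.inr (Or.inr (Or.inl h))
    | exact Or.inr (Or.inr (Or.inr (Or.inl h)))
    | exact Or.inr (Or.inr (Or.inr (Or.inr h)))
    | exact absurd h1 hnazz
    | exact absurd (F.symm h1) hnaz
    | exact absurd (F.trans hA (F.symm h1)) hnaz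
    | exact absurd (F.trans hA2 (F.symm h1)) hnaz
    | exact absurd (F.trans hA' (F.symm h1)) hnaz
    | exact absurd (F.trans hA'2 (F.symm h1)) hnaz
  -- θ a and θ az commute
  have hcomm : θ ea * θ eaz = θ eaz * θ ea := by
    rw [← hθmul ea eaz ca caz, ← hθmul eaz ea caz ca]
    congr 1
  have haz' : θ eaz = eaz := by
    rcases haz with h | h | h | h | h
    · exact h
    all_goals
      exfalso
      rcases ha with h' | h' | h' | h' <;> rw [h, h'] at hcomm <;> revert hcomm <;> decide
  -- θ a = θ (az * z) = az * z = a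
  have : θ ea = ea := by
    have e : ea = eaz * ez := by decide
    calc θ ea = θ (eaz * ez) := by rw [← e]
      _ = θ eaz * θ ez := hθmul eaz ez caz cz
      _ = eaz * ez := by rw [haz', hz]
      _ = ea := e.symm
  exact hane this

theorem core (F : Fusion R) : False := by
  obtain ⟨m1, hm1k, hm1R⟩ := F.tt chiD surjD ea (by decide) (by decide) (by decide)
  have hm1i := F.inv ea m1 hm1R (by decide) (by decide)
  rcases kerD_list m1 hm1k hm1i.1 hm1i.2 with rfl | rfl | rfl | rfl | rfl
  · exact F.nz hm1R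
  · exact caseA F hm1R
  · exact caseB F hm1R
  · exact caseA F (F.trans hm1R (F.symm (F.s02 0)))
  · exact caseB F (F.trans hm1R (F.symm (F.s02 1)))

/-! ### The group-theoretic side -/

section GSide

variable {G : Type*} [Group G]

/-- Sylow's theorem inside a subgroup `C` containing the Sylow subgroup `S`. -/
theorem exists_conj_mem_of_le {p : ℕ} [Fact p.Prime] [Finite G] (S : Sylow p G) (C P : Subgroup G)
    (hSC : (S : Subgroup G) ≤ C) (hPC : P ≤ C) (hP : IsPGroup p P) :
    ∃ c ∈ C, ∀ x ∈ P, c⁻¹ * x * c ∈ (S : Subgroup G) := by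
  have hP' : IsPGroup p (P.subgroupOf C) :=
    hP.comap_of_injective C.subtype C.subtype_injective
  obtain ⟨Q, hQ⟩ := hP'.exists_le_sylow
  obtain ⟨c, hc⟩ := MulAction.exists_smul_eq C (S.subtype hSC) Q
  refine ⟨c, c.2, ?_⟩
  intro x hx
  have h1 : (⟨x, hPC hx⟩ : C) ∈ P.subgroupOf C := by
    rw [Subgroup.mem_subgroupOf]; exact hx
  have h2 := hQ h1
  rw [← hc, Sylow.smul_subtype hSC c] at h2
  have h3 : (⟨x, hPC hx⟩ : C) ∈ ((c • S : Sylow p G) : Subgroup G).subgroupOf C := by
    have := Sylow.coe_subtype (P := (c • S : Sylow p G)) (N := C) (Sylow.smul_le hSC c)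
    rw [← this]
    exact h2
  rw [Subgroup.mem_subgroupOf] at h3
  have h4 : x ∈ MulAut.conj (c : G) • (S : Subgroup G) := h3
  rw [Subgroup.mem_pointwise_smul_iff_inv_smul_mem] at h4
  simpa [MulAut.smul_def, mul_assoc] using h4

end GSide


section Build

variable {G : Type*} [Group G] [Finite G] (S : Sylow 2 G) (φ : MM →* G)

theorem mem_S_iff (hr : φ.range = (S : Subgroup G)) (x : G) : x ∈ (S : Subgroup G) ↔ ∃ m, φ m = x := by
  rw [← hr, MonoidHom.mem_range]

/-- conjugation by an element of the normalizer of `S` fixes `φ z`. -/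
theorem norm_fix_z (hφ : Function.Injective φ) (hr : φ.range = (S : Subgroup G)) (n : G)
    (hn : n ∈ Subgroup.normalizer ((S : Subgroup G) : Set G)) : n * φ ez * n⁻¹ = φ ez := by
  have h1 : n * φ er * n⁻¹ ∈ (S : Subgroup G) := by
    have : φ er ∈ (S : Subgroup G) := (mem_S_iff S φ hr _).mpr ⟨er, rfl⟩
    exact (Subgroup.mem_normalizer_iff.mp hn (φ er)).mp this
  obtain ⟨m₁, hm₁⟩ := (mem_S_iff S φ hr _).mp h1
  have hz : ez = er ^ 2 := by decide
  have h2 : n * φ ez * n⁻¹ = φ (m₁ ^ 2) := by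
    rw [map_pow, hm₁, hz, map_pow, conj_pow]
  rcases sq_list m₁ with h | h
  · exfalso
    rw [h, map_one] at h2
    have : φ ez = 1 := by
      have := congrArg (fun t => n⁻¹ * t * n) h2
      simpa [mul_assoc] using this
    have : ez = 1 := hφ (this.trans (map_one φ).symm)
    revert this; decide
  · rw [h2, h]

theorem norm_fix_a (hφ : Function.Injective φ) (hr : φ.range = (S : Subgroup G)) (n : G)
    (hn : n ∈ Subgroup.normalizer ((S : Subgroup G) : Set G)) : n * φ ea * n⁻¹ = φ ea := by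
  have hSn : ∀ x, x ∈ (S : Subgroup G) ↔ n * x * n⁻¹ ∈ (S : Subgroup G) :=
    fun x => Subgroup.mem_normalizer_iff.mp hn x
  have hz := norm_fix_z S φ hφ hr n hn
  have h1 : n * φ ea * n⁻¹ ∈ (S : Subgroup G) :=
    (hSn _).mp ((mem_S_iff S φ hr _).mpr ⟨ea, rfl⟩)
  obtain ⟨m₂, hm₂⟩ := (mem_S_iff S φ hr _).mp h1
  -- m₂ is central
  have hcen : ∀ y : MM, y * m₂ = m₂ * y := by
    intro y
    apply hφ
    rw [map_mul, map_mul, hm₂]
    -- n⁻¹ φ y n ∈ S
    have h2 : n⁻¹ * φ y * n ∈ (S : Subgroup G) := by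
      have : φ y ∈ (S : Subgroup G) := (mem_S_iff S φ hr _).mpr ⟨y, rfl⟩
      have h3 := (hSn (n⁻¹ * φ y * n)).mpr (by simpa [mul_assoc] using this)
      exact h3
    obtain ⟨y', hy'⟩ := (mem_S_iff S φ hr _).mp h2
    have hy : φ y = n * φ y' * n⁻¹ := by rw [hy']; group
    have hc : y' * ea = ea * y' := ea_central y'
    rw [hy]
    calc n * φ y' * n⁻¹ * (n * φ ea * n⁻¹) = n * φ (y' * ea) * n⁻¹ := by rw [map_mul]; group
      _ = n * φ (ea * y') * n⁻¹ := by rw [hc]
      _ = n * φ ea * n⁻¹ * (n * φ y' * n⁻¹) := by rw [map_mul]; group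
  rcases center_list m₂ hcen with h | h | h | h
  · exfalso
    rw [h, map_one] at hm₂
    have : φ ea = 1 := by
      have := congrArg (fun t => n⁻¹ * t * n) hm₂
      simpa [mul_assoc] using this.symm
    have : ea = 1 := hφ (this.trans (map_one φ).symm)
    revert this; decide
  · rw [← hm₂, h]
  · exfalso
    rw [h, ← hz] at hm₂
    have : φ ez = φ ea := by
      have := congrArg (fun t => n⁻¹ * t * n) hm₂
      simpa [mul_assoc] using this
    have : ez = ea := hφ this
    revert this; decide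
  · -- the swap case: use an odd power of n lying in S
    exfalso
    rw [h] at hm₂
    have hpow : ∀ j : ℕ, n ^ j * φ ea * (n ^ j)⁻¹ = φ (ea * ez ^ j) := by
      intro j
      induction j with
      | zero => simp
      | succ j ih =>
        have e1 : n ^ (j + 1) * φ ea * (n ^ (j + 1))⁻¹ = n * (n ^ j * φ ea * (n ^ j)⁻¹) * n⁻¹ := by
          rw [pow_succ']; group
        rw [e1, ih, map_mul, map_pow]
        have e2 : n * (φ ea * φ ez ^ j) * n⁻¹ = (n * φ ea * n⁻¹) * (n * φ ez * n⁻¹) ^ j := by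
          rw [conj_pow]; group
        rw [e2, ← hm₂, hz, ← map_pow, ← map_mul]
        congr 1
        have : eaz = ea * ez := by decide
        rw [this, pow_succ', mul_assoc]
    -- the odd index
    set N := Subgroup.normalizer ((S : Subgroup G) : Set G) with hN
    have hnorm : ((S : Subgroup G).subgroupOf N).Normal := Subgroup.normal_in_normalizer
    set k := ((S : Subgroup G).subgroupOf N).index with hk
    have hkmem : (⟨n, hn⟩ : N) ^ k ∈ (S : Subgroup G).subgroupOf N := Subgroup.pow_index_mem _ _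
    have hnk : n ^ k ∈ (S : Subgroup G) := by
      rw [Subgroup.mem_subgroupOf] at hkmem
      simpa using hkmem
    have hkodd : Odd k := by
      have hdvd : k ∣ (S : Subgroup G).index := Subgroup.relIndex_dvd_index_of_le Subgroup.le_normalizer
      have : ¬ 2 ∣ (S : Subgroup G).index := S.not_dvd_index
      rw [← Nat.not_even_iff_odd, even_iff_two_dvd]
      exact fun h2 => this (h2.trans hdvd)
    obtain ⟨y, hy⟩ := (mem_S_iff S φ hr _).mp hnk
    have hyc : y * ea = ea * y := ea_central y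
    have h3 := hpow k
    rw [← hy] at h3
    have h4 : φ y * φ ea * (φ y)⁻¹ = φ ea := by
      rw [← map_mul, hyc, map_mul]; group
    rw [h4] at h3
    have h5 : ea = ea * ez ^ k := hφ h3
    obtain ⟨j, hj⟩ := hkodd
    have hz2 : ez ^ 2 = 1 := by decide
    rw [hj, pow_succ, pow_mul, hz2, one_pow, one_mul] at h5
    revert h5; decide

theorem norm_fix_center (hφ : Function.Injective φ) (hr : φ.range = (S : Subgroup G)) (n : G)
    (hn : n ∈ Subgroup.normalizer ((S : Subgroup G) : Set G)) (m : MM) (hm : ∀ y : MM, y * m = m * y) :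
    n * φ m * n⁻¹ = φ m := by
  rcases center_list m hm with h | h | h | h
  · rw [h, map_one]; group
  · rw [h]; exact norm_fix_a S φ hφ hr n hn
  · rw [h]; exact norm_fix_z S φ hφ hr n hn
  · have : eaz = ea * ez := by decide
    rw [h, this, map_mul]
    calc n * (φ ea * φ ez) * n⁻¹ = (n * φ ea * n⁻¹) * (n * φ ez * n⁻¹) := by group
      _ = φ ea * φ ez := by rw [norm_fix_a S φ hφ hr n hn, norm_fix_z S φ hφ hr n hn]

end Build


section Build2

variable {G : Type*} [Group G] [Finite G] (S : Sylow 2 G) (φ : MM →* G)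

theorem rel_burn (hφ : Function.Injective φ) (hr : φ.range = (S : Subgroup G)) (m m' : MM)
    (hm : ∀ y : MM, y * m = m * y) (hm' : ∀ y : MM, y * m' = m' * y) (h : IsConj (φ m) (φ m')) : m = m' := by
  have : Fact (Nat.Prime 2) := ⟨Nat.prime_two⟩
  obtain ⟨c, hc⟩ := isConj_iff.mp h
  have hcent : ∀ m₀ : MM, (∀ y : MM, y * m₀ = m₀ * y) → φ m₀ ∈ Subgroup.centralizer ((S : Subgroup G) : Set G) := by
    intro m₀ hm₀
    rw [Subgroup.mem_centralizer_iff]
    intro y hy
    obtain ⟨y', rfl⟩ := (mem_S_iff S φ hr _).mp hy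
    rw [← map_mul, ← map_mul, hm₀ y']
  have h1 := hcent m hm
  have h2 : c⁻¹⁻¹ * φ m * c⁻¹ ∈ Subgroup.centralizer ((S : Subgroup G) : Set G) := by
    rw [inv_inv, hc]; exact hcent m' hm'
  obtain ⟨n, hn, hn'⟩ := Sylow.conj_eq_normalizer_conj_of_mem_centralizer S (φ m) c⁻¹ h1 h2
  rw [inv_inv, hc] at hn'
  have h3 := norm_fix_center S φ hφ hr n⁻¹ (Subgroup.inv_mem _ hn) m hm
  rw [inv_inv] at h3
  rw [h3] at hn'
  exact (hφ hn').symm

omit [Finite G] in
theorem rel_inv (hφ : Function.Injective φ) (m m' : MM) (h : IsConj (φ m) (φ m'))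
    (h2 : m ^ 2 = 1) (h1 : m ≠ 1) : m' ^ 2 = 1 ∧ m' ≠ 1 := by
  obtain ⟨c, hc⟩ := isConj_iff.mp h
  constructor
  · apply hφ
    rw [map_pow, ← hc, conj_pow, ← map_pow, h2, map_one, mul_one, mul_inv_cancel]
  · intro h'
    apply h1
    apply hφ
    rw [h', map_one] at hc
    have := congrArg (fun t => c⁻¹ * t * c) hc
    simp only [map_one] at this ⊢
    simpa [mul_assoc] using this

theorem rel_tt [IsSimpleGroup G] (hφ : Function.Injective φ) (hr : φ.range = (S : Subgroup G))
    (χ : MM →* Multiplicative (ZMod 2)) (hχ : Function.Surjective χ) (m : MM) (h2 : m ^ 2 = 1) (h1 : m ≠ 1)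
    (hm : χ m ≠ 1) : ∃ m', χ m' = 1 ∧ IsConj (φ m) (φ m') := by
  set Q : Subgroup G := χ.ker.map φ with hQ
  have hQS : Q ≤ (S : Subgroup G) := by
    rw [← hr]; exact Subgroup.map_le_range φ _
  have hidx : Q.relIndex (S : Subgroup G) = 2 := by
    rw [← hr, MonoidHom.range_eq_map, hQ, Subgroup.relIndex_map_map_of_injective _ _ hφ,
      Subgroup.relIndex_top_right, Subgroup.index_ker, MonoidHom.range_eq_top.mpr hχ]
    simp
  have hu : orderOf (φ m) = 2 := by
    rw [orderOf_injective φ hφ]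
    exact orderOf_eq_prime h2 h1
  have huS : φ m ∈ (S : Subgroup G) := (mem_S_iff S φ hr _).mpr ⟨m, rfl⟩
  have huQ : φ m ∉ Q := by
    intro hmem
    rw [hQ, Subgroup.mem_map] at hmem
    obtain ⟨k, hk, hkm⟩ := hmem
    rw [hφ hkm] at hk
    exact hm (MonoidHom.mem_ker.mp hk)
  rcases Cfsg.Agent.S0111.result S Q hQS hidx (φ m) hu huS huQ with ⟨N, hNn, hNi, _⟩ | ⟨g, hg⟩
  · exfalso
    rcases hNn.eq_bot_or_eq_top with hN | hN
    · rw [hN, Subgroup.index_bot] at hNi
      -- card G = 2 but G contains 16 elements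
      have hle : Nat.card MM ≤ Nat.card G := Nat.card_le_card_of_injective φ hφ
      have : Nat.card MM = 16 := by
        rw [Nat.card_eq_fintype_card]; decide
      omega
    · rw [hN, Subgroup.index_top] at hNi
      omega
  · rw [hQ, Subgroup.mem_map] at hg
    obtain ⟨m', hm'k, hm'⟩ := hg
    exact ⟨m', MonoidHom.mem_ker.mp hm'k, isConj_iff.mpr ⟨g, hm'.symm⟩⟩

theorem rel_syl (hφ : Function.Injective φ) (hr : φ.range = (S : Subgroup G)) (d a' : MM)
    (ha' : ∀ y : MM, y * a' = a' * y) (h : IsConj (φ d) (φ a')) :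
    ∃ θ : MM → MM, θ d = a' ∧
      (∀ m m', m * d = d * m → m' * d = d * m' → θ (m * m') = θ m * θ m') ∧
      (∀ m, m * d = d * m → IsConj (φ m) (φ (θ m))) ∧
      (∀ m m', m * d = d * m → m' * d = d * m' → θ m = θ m' → m = m') := by
  have : Fact (Nat.Prime 2) := ⟨Nat.prime_two⟩
  obtain ⟨g, hg⟩ := isConj_iff.mp h
  set C := Subgroup.centralizer ({φ a'} : Set G) with hC
  have hSC : (S : Subgroup G) ≤ C := by
    intro x hx
    obtain ⟨y, rfl⟩ := (mem_S_iff S φ hr _).mp hx
    rw [hC, Subgroup.mem_centralizer_iff]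
    intro t ht
    rw [Set.mem_singleton_iff] at ht
    rw [ht, ← map_mul, ← map_mul, ha' y]
  set P : Subgroup G := ((S : Subgroup G) ⊓ Subgroup.centralizer ({φ d} : Set G)).map (MulAut.conj g).toMonoidHom
    with hP
  have hPC : P ≤ C := by
    intro x hx
    rw [hP, Subgroup.mem_map] at hx
    obtain ⟨y, hy, rfl⟩ := hx
    have hyd : φ d * y = y * φ d :=
      (Subgroup.mem_centralizer_iff.mp hy.2) (φ d) (Set.mem_singleton _)
    rw [hC, Subgroup.mem_centralizer_iff]
    intro t ht
    rw [Set.mem_singleton_iff] at ht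
    rw [ht, ← hg]
    show g * φ d * g⁻¹ * (g * y * g⁻¹) = g * y * g⁻¹ * (g * φ d * g⁻¹)
    calc g * φ d * g⁻¹ * (g * y * g⁻¹) = g * (φ d * y) * g⁻¹ := by group
      _ = g * (y * φ d) * g⁻¹ := by rw [hyd]
      _ = g * y * g⁻¹ * (g * φ d * g⁻¹) := by group
  have hPp : IsPGroup 2 P := by
    rw [hP]
    exact (S.isPGroup'.to_le inf_le_left).map _
  obtain ⟨c, hcC, hc⟩ := exists_conj_mem_of_le S C P hSC hPC hPp
  -- the conjugating element
  set h₀ := c⁻¹ * g with hh₀
  have hcom : c⁻¹ * φ a' * c = φ a' := by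
    have := (Subgroup.mem_centralizer_iff.mp hcC) (φ a') (Set.mem_singleton _)
    calc c⁻¹ * φ a' * c = c⁻¹ * (φ a' * c) := by group
      _ = c⁻¹ * (c * φ a') := by rw [this]
      _ = φ a' := by group
  have hd : h₀ * φ d * h₀⁻¹ = φ a' := by
    calc h₀ * φ d * h₀⁻¹ = c⁻¹ * (g * φ d * g⁻¹) * c := by rw [hh₀]; group
      _ = φ a' := by rw [hg, hcom]
  have hmemS : ∀ m : MM, m * d = d * m → ∃ m', φ m' = h₀ * φ m * h₀⁻¹ := by
    intro m hm
    have h1 : g * φ m * g⁻¹ ∈ P := by
      rw [hP, Subgroup.mem_map]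
      refine ⟨φ m, ⟨(mem_S_iff S φ hr _).mpr ⟨m, rfl⟩, ?_⟩, rfl⟩
      show φ m ∈ Subgroup.centralizer ({φ d} : Set G)
      rw [Subgroup.mem_centralizer_iff]
      intro t ht
      rw [Set.mem_singleton_iff] at ht
      rw [ht, ← map_mul, ← map_mul, hm]
    have h2 := hc _ h1
    obtain ⟨m', hm'⟩ := (mem_S_iff S φ hr _).mp h2
    refine ⟨m', ?_⟩
    rw [hm', hh₀]; group
  classical
  let θ : MM → MM := fun m => if hm : m * d = d * m then (hmemS m hm).choose else 1
  have hθ : ∀ m, m * d = d * m → φ (θ m) = h₀ * φ m * h₀⁻¹ := by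
    intro m hm
    simp only [θ, dif_pos hm]
    exact (hmemS m hm).choose_spec
  refine ⟨θ, ?_, ?_, ?_, ?_⟩
  · apply hφ
    rw [hθ d rfl, hd]
  · intro m m' hm hm'
    have hmm' : (m * m') * d = d * (m * m') := by
      rw [mul_assoc, hm', ← mul_assoc, hm, mul_assoc]
    apply hφ
    rw [hθ _ hmm', map_mul, map_mul, hθ m hm, hθ m' hm']
    group
  · intro m hm
    exact isConj_iff.mpr ⟨h₀, (hθ m hm).symm⟩
  · intro m m' hm hm' hmm
    apply hφ
    have := congrArg φ hmm
    rw [hθ m hm, hθ m' hm'] at this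
    have := congrArg (fun t => h₀⁻¹ * t * h₀) this
    simpa [mul_assoc] using this

theorem fusion_of [IsSimpleGroup G] (hφ : Function.Injective φ) (hr : φ.range = (S : Subgroup G)) :
    Fusion (fun m m' : MM => IsConj (φ m) (φ m')) where
  refl := fun m => IsConj.refl _
  symm := fun h => h.symm
  trans := fun h h' => h.trans h'
  conj := fun m x => isConj_iff.mpr ⟨φ x, by rw [map_mul, map_mul, map_inv]⟩
  burn := rel_burn S φ hφ hr
  inv := rel_inv φ hφ
  tt := rel_tt S φ hφ hr
  syl := rel_syl S φ hφ hr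

end Build2


/-- A finite group whose Sylow 2-subgroups are isomorphic to the direct product of a group of order 2 and the dihedral group of order 8 is not a non-abelian simple group. -/
theorem result {G : Type*} [Group G] [Finite G] (S : Sylow 2 G) (hS : Nonempty (↥(S : Subgroup G) ≃* Multiplicative (ZMod 2) × DihedralGroup 4))
    [IsSimpleGroup G] (hG : ¬ IsMulCommutative G) : False := by
  obtain ⟨e⟩ := hS
  let φ : MM →* G := (S : Subgroup G).subtype.comp e.symm.toMonoidHom
  have hφ : Function.Injective φ := Subtype.val_injective.comp e.symm.injective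
  have hr : φ.range = (S : Subgroup G) := by
    rw [MonoidHom.range_comp, MonoidHom.range_eq_top.mpr e.symm.surjective, ← MonoidHom.range_eq_map,
      Subgroup.range_subtype]
  exact core (fusion_of S φ hφ hr)

end Cfsg.Agent.S3309
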