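import Cfsg.Statements.S2911
import Cfsg.Agent.S3309

set_option autoImplicit false
open Cfsg

namespace Cfsg.Agent.S2911

open Cfsg.Agent.S3309

section

variable {G : Type*} [Group G] [Finite G] (S : Sylow 2 G) (φ : MM →* G)

/-- Thompson transfer in a group without subgroups of index 2. -/
theorem rel_tt' (hno : ¬ ∃ H : Subgroup G, H.index = 2) (hφ : Function.Injective φ)
    (hr : φ.range = (S : Subgroup G))
    (χ : MM →* Multiplicative (ZMod 2)) (hχ : Function.Surjective χ) (m : MM) (h2 : m ^ 2 = 1) (h1 : m ≠ 1)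
    (hm : χ m ≠ 1) : ∃ m', χ m' = 1 ∧ IsConj (φ m) (φ m') := by
  set Q : Subgroup G := χ.ker.map φ with hQ
  have hQS : Q ≤ (S : Subgroup G) := by
    rw [← hr]; exact Subgroup.map_le_range φ _
  have hidx : Q.relIndex (S : Subgroup G) = 2 := by
    rw [← hr, MonoidHom.range_eq_map, hQ, Subgroup.relIndex_map_map_of_injective _ _ hφ,
      Subgroup.relIndex_top_right, Subgroup.index_ker, MonoidHom.range_eq_top.mpr hχ]
    simp
  have hu : orderOf (φ m) = 2 := by
    rw [orderOf_injective φ hφ]
    exact orderOf_eq_prime h2 h1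
  have huS : φ m ∈ (S : Subgroup G) := (mem_S_iff S φ hr _).mpr ⟨m, rfl⟩
  have huQ : φ m ∉ Q := by
    intro hmem
    rw [hQ, Subgroup.mem_map] at hmem
    obtain ⟨k, hk, hkm⟩ := hmem
    rw [hφ hkm] at hk
    exact hm (MonoidHom.mem_ker.mp hk)
  rcases Cfsg.Agent.S0111.result S Q hQS hidx (φ m) hu huS huQ with ⟨N, _, hNi, _⟩ | ⟨g, hg⟩
  · exact absurd ⟨N, hNi⟩ hno
  · rw [hQ, Subgroup.mem_map] at hg
    obtain ⟨m', hm'k, hm'⟩ := hg
    exact ⟨m', MonoidHom.mem_ker.mp hm'k, isConj_iff.mpr ⟨g, hm'.symm⟩⟩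

theorem fusion_of' (hno : ¬ ∃ H : Subgroup G, H.index = 2) (hφ : Function.Injective φ)
    (hr : φ.range = (S : Subgroup G)) :
    Fusion (fun m m' : MM => IsConj (φ m) (φ m')) where
  refl := fun m => IsConj.refl _
  symm := fun h => h.symm
  trans := fun h h' => h.trans h'
  conj := fun m x => isConj_iff.mpr ⟨φ x, by rw [map_mul, map_mul, map_inv]⟩
  burn := rel_burn S φ hφ hr
  inv := rel_inv φ hφ
  tt := rel_tt' S φ hno hφ hr
  syl := rel_syl S φ hφ hr

end

/-- A finite group whose Sylow 2-subgroups are isomorphic to the direct product of a group of order 2 and a dihedral group of order 8 has a subgroup of index two. -/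
theorem result {G : Type*} [Group G] [Finite G] (S : Sylow 2 G) (hS : Nonempty (↥(S : Subgroup G) ≃* Multiplicative (ZMod 2) × DihedralGroup 4)) : ∃ H : Subgroup G, H.index = 2 := by
  by_contra hno
  obtain ⟨e⟩ := hS
  let φ : MM →* G := (S : Subgroup G).subtype.comp e.symm.toMonoidHom
  have hφ : Function.Injective φ := Subtype.val_injective.comp e.symm.injective
  have hr : φ.range = (S : Subgroup G) := by
    rw [MonoidHom.range_comp, MonoidHom.range_eq_top.mpr e.symm.surjective, ← MonoidHom.range_eq_map,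
      Subgroup.range_subtype]
  exact core (fusion_of' S φ hno hφ hr)

end Cfsg.Agent.S2911
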