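import Cfsg.Statements.S2912
import Cfsg.Agent.Helper2.ExtraspecialModule
-- import your own Cfsg.Agent.* helpers here

set_option autoImplicit false
open Cfsg

namespace Cfsg.Agent.S2912

open Cfsg.Agent.Helper2

open scoped IsMulCommutative commutatorElement

/-- the conjugation action of a normalizing subgroup on an abelian subgroup, written additively -/
@[reducible] def conjAction {G : Type*} [Group G] (E A : Subgroup G) [IsMulCommutative ↥A]
    (hnorm : E ≤ Subgroup.normalizer (A : Set G)) : DistribMulAction ↥E (Additive ↥A) where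
  smul e a := Additive.ofMul ⟨(e : G) * (a.toMul : G) * (e : G)⁻¹,
    (Subgroup.mem_normalizer_iff.mp (hnorm e.2) _).mp a.toMul.2⟩
  one_smul a := by
    apply Additive.toMul.injective
    apply Subtype.ext
    show ((1 : ↥E) : G) * (a.toMul : G) * ((1 : ↥E) : G)⁻¹ = (a.toMul : G)
    simp
  mul_smul e f a := by
    apply Additive.toMul.injective
    apply Subtype.ext
    show ((e * f : ↥E) : G) * (a.toMul : G) * ((e * f : ↥E) : G)⁻¹
      = (e : G) * ((f : G) * (a.toMul : G) * (f : G)⁻¹) * (e : G)⁻¹
    rw [Subgroup.coe_mul]; group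
  smul_zero e := by
    apply Additive.toMul.injective
    apply Subtype.ext
    show (e : G) * ((1 : ↥A) : G) * (e : G)⁻¹ = ((1 : ↥A) : G)
    simp
  smul_add e a b := by
    apply Additive.toMul.injective
    apply Subtype.ext
    show (e : G) * ((a.toMul * b.toMul : ↥A) : G) * (e : G)⁻¹
      = ((e : G) * (a.toMul : G) * (e : G)⁻¹) * ((e : G) * (b.toMul : G) * (e : G)⁻¹)
    rw [Subgroup.coe_mul]; group

/-- Let p and r be distinct primes, let E be an extraspecial subgroup of order p^(2w+1) of a finite group, and let A be an elementary abelian r-subgroup normalized by E on which E acts faithfully (C_E(A) = 1). If n ≥ 1 is least with p dividing rⁿ − 1 (the smallest dimension of a faithful representation of a group of order p over the field with r elements), then the order of A is at least r^(n·p^w). -/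
theorem result {G : Type*} [Group G] [Finite G] {p r : ℕ} [Fact p.Prime] [hr : Fact r.Prime] (hpr : p ≠ r) (E A : Subgroup G) (w : ℕ) (hE : Cfsg.IsExtraspecial p ↥E) (hEcard : Nat.card ↥E = p ^ (2 * w + 1)) (hA : Cfsg.IsElementaryAbelian r A) (hnorm : E ≤ Subgroup.normalizer (A : Set G)) (hfaith : E ⊓ Subgroup.centralizer (A : Set G) = ⊥) (n : ℕ) (hn : 1 ≤ n) (hdiv : p ∣ r ^ n - 1) (hmin : ∀ k : ℕ, 1 ≤ k → p ∣ r ^ k - 1 → n ≤ k) : r ^ (n * p ^ w) ≤ Nat.card ↥A := by
  have hp : p.Prime := Fact.out
  have hrp : r.Prime := hr.out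
  obtain ⟨hAc, hAe⟩ := hA
  have : IsMulCommutative ↥A := hAc
  let _ : DistribMulAction ↥E (Additive ↥A) := conjAction E A hnorm
  have hsmul : ∀ (e : ↥E) (a : Additive ↥A),
      ((e • a).toMul : G) = (e : G) * (a.toMul : G) * (e : G)⁻¹ := fun e a => rfl
  -- `E` is of our kind
  have hCK : IsCK p ↥E := by
    refine ⟨fun a b => ?_, hE.2⟩
    have h1 : ⁅a, b⁆ ∈ commutator ↥E := by
      rw [commutator_def]
      exact Subgroup.commutator_mem_commutator (Subgroup.mem_top a) (Subgroup.mem_top b)
    rw [hE.1.2.2, commutatorElement_def] at h1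
    exact h1
  -- `A` is an `r`-group
  have hAp : IsPGroup r ↥A := by
    intro a
    refine ⟨1, ?_⟩
    apply Subtype.ext
    rw [pow_one, Subgroup.coe_pow]
    exact hAe a a.2
  obtain ⟨m, hm⟩ := IsPGroup.iff_card.mp hAp
  have hV : ∃ m, Nat.card (Additive ↥A) = r ^ m := ⟨m, by rw [← hm]; exact Nat.card_congr Additive.toMul⟩
  -- a generator of the centre
  have hcen : ∃ z : ↥E, z ∈ Subgroup.center ↥E ∧ z ≠ 1 := by
    have : Nontrivial (Subgroup.center ↥E) := by
      rw [← Finite.one_lt_card_iff_nontrivial, hCK.card]; exact hp.one_lt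
    obtain ⟨z, hz⟩ := exists_ne (1 : Subgroup.center ↥E)
    exact ⟨z, z.2, fun h => hz (Subtype.ext h)⟩
  obtain ⟨z, hzc, hz1⟩ := hcen
  have hzp : z ^ p = 1 := hCK.pow_eq_one_of_mem_center hzc
  have hzcomm : ∀ e : ↥E, e * z = z * e := Subgroup.mem_center_iff.mp hzc
  -- the commutator module
  set U : AddSubgroup (Additive ↥A) := (cycNormHom z p : Additive ↥A →+ Additive ↥A).ker with hUdef
  have hpV : ∀ u : Additive ↥A, p • u = 0 → u = 0 := by
    intro u hu
    have h1 : addOrderOf u ∣ p := addOrderOf_dvd_of_nsmul_eq_zero hu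
    have h2 : addOrderOf u ∣ r ^ m := by
      obtain ⟨m', hm'⟩ := hV
      have := addOrderOf_dvd_natCard u
      rw [← hm] at *
      rw [show Nat.card (Additive ↥A) = Nat.card ↥A from Nat.card_congr Additive.toMul] at this
      exact this
    have h3 : Nat.Coprime p (r ^ m) :=
      Nat.Coprime.pow_right m ((Nat.coprime_primes hp hrp).mpr hpr)
    have h4 : addOrderOf u = 1 := Nat.eq_one_of_dvd_coprimes h3 h1 h2
    exact AddMonoid.addOrderOf_eq_one_iff.mp h4
  have hU : ∀ e : ↥E, ∀ u ∈ U, e • u ∈ U := by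
    intro e u hu
    rw [hUdef, AddMonoidHom.mem_ker] at hu ⊢
    have h1 : cycNormHom z p (e • u) = e • cycNormHom z p u := by
      rw [cycNormHom_apply, cycNormHom_apply, Finset.smul_sum]
      refine Finset.sum_congr rfl fun k _ => ?_
      rw [← mul_smul, ← mul_smul]
      congr 1
      exact ((Commute.pow_right (show Commute e z from hzcomm e) k).eq).symm
    rw [h1, hu, smul_zero]
  have hfz : ∀ u ∈ U, z • u = u → u = 0 := by
    intro u hu hzu
    rw [hUdef, AddMonoidHom.mem_ker, cycNormHom_of_fixed hzu p] at hu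
    exact hpV u hu
  have hfpf : ∀ c ∈ Subgroup.center ↥E, c ≠ 1 → ∀ u ∈ U, c • u = u → u = 0 := by
    intro c hc hc1 u hu hcu
    have h1 := hCK.center_eq_zpowers hp hc hc1
    have h2 : z ∈ Subgroup.zpowers c := h1 ▸ hzc
    obtain ⟨k, hk⟩ := h2
    apply hfz u hu
    rw [← hk]
    exact zpow_smul_of_fixed hcu k
  have hU0 : U ≠ ⊥ := by
    intro hbot
    apply hz1
    have h1 : ∀ a : Additive ↥A, z • a = a := by
      intro a
      have h2 : z • a - a ∈ U := by
        rw [hUdef, AddMonoidHom.mem_ker, map_sub, sub_eq_zero]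
        have h3 : cycNormHom z p (z • a) = z • cycNormHom z p a := by
          rw [cycNormHom_apply, cycNormHom_apply, Finset.smul_sum]
          refine Finset.sum_congr rfl fun k _ => ?_
          rw [← mul_smul, ← mul_smul, ← pow_succ, ← pow_succ']
        rw [h3, smul_cycNormHom hzp]
      rw [hbot, AddSubgroup.mem_bot, sub_eq_zero] at h2
      exact h2
    have h2 : (z : G) ∈ E ⊓ Subgroup.centralizer (A : Set G) := by
      refine Subgroup.mem_inf.mpr ⟨z.2, ?_⟩
      rw [Subgroup.mem_centralizer_iff]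
      intro a ha
      have h3 := hsmul z (Additive.ofMul ⟨a, ha⟩)
      rw [h1] at h3
      have h4 : a = (z : G) * a * (z : G)⁻¹ := h3
      calc a * (z : G) = ((z : G) * a * (z : G)⁻¹) * (z : G) := by rw [← h4]
        _ = (z : G) * a := by group
    rw [hfaith, Subgroup.mem_bot] at h2
    exact Subtype.ext h2
  have hmain := isCK_module_card_bound hp hrp hpr hn hmin hV w ↥E hCK hEcard U hU hU0 hfpf
  calc r ^ (n * p ^ w) ≤ Nat.card U := hmain
    _ ≤ Nat.card (Additive ↥A) := Nat.card_le_card_of_injective _ Subtype.val_injective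
    _ = Nat.card ↥A := Nat.card_congr Additive.toMul

end Cfsg.Agent.S2912
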