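import Cfsg.Statements.S2922
import Cfsg.Agent.Helper49.FStar
import Cfsg.Agent.Helper49.LocalCharP

set_option autoImplicit false
open Cfsg

namespace Cfsg.Agent.S2922

open Cfsg.Agent.Helper49

/-- Let p be a prime, X a finite group, B a p-subgroup of X and C a normal subgroup of B. If N_X(C) has characteristic p (its generalized Fitting subgroup is O_p(N_X(C))), then N_X(B) and C_X(B) have characteristic p. -/
theorem result {X : Type*} [Group X] [Finite X] {p : ℕ} [Fact p.Prime] (B C : Subgroup X) (hB : IsPGroup p ↥B) (hCB : C ≤ B) (hCn : (C.subgroupOf B).Normal) (hC : Cfsg.generalizedFittingSubgroup ↥(Subgroup.normalizer (C : Set X)) = Cfsg.pCore p ↥(Subgroup.normalizer (C : Set X))) : Cfsg.generalizedFittingSubgroup ↥(Subgroup.normalizer (B : Set X)) = Cfsg.pCore p ↥(Subgroup.normalizer (B : Set X)) ∧ Cfsg.generalizedFittingSubgroup ↥(Subgroup.centralizer (B : Set X)) = Cfsg.pCore p ↥(Subgroup.centralizer (B : Set X)) := by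
  have hM : CharPIn p (Subgroup.normalizer (C : Set X)) :=
    (charPIn_iff _).mpr (gfs_eq_pCore_iff.mp hC)
  have hBM : B ≤ Subgroup.normalizer (C : Set X) :=
    (Subgroup.normal_subgroupOf_iff_le_normalizer hCB).mp hCn
  have hCM : Subgroup.centralizer (B : Set X) ≤ Subgroup.normalizer (C : Set X) :=
    (Subgroup.centralizer_le hCB).trans (Subgroup.centralizer_le_normalizer _)
  constructor
  · rw [gfs_eq_pCore_iff, ← charPIn_iff]
    apply charPIn_of_centralizer_le hM hB hBM hCM (Subgroup.centralizer_le_normalizer _)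
    intro d _ hdR
    have hBR : B ≤ coreIn p (Subgroup.normalizer (B : Set X)) := by
      apply le_coreIn Subgroup.le_normalizer
      · intro l hl n hn
        exact (Subgroup.mem_normalizer_iff.mp hl n).mp hn
      · exact hB
    rw [Subgroup.mem_centralizer_iff]
    intro b hb
    exact (hdR b (hBR hb)).symm
  · rw [gfs_eq_pCore_iff, ← charPIn_iff]
    apply charPIn_of_centralizer_le hM hB hBM hCM le_rfl
    intro d hd _
    exact hd

end Cfsg.Agent.S2922
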