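import Cfsg.Statements.S2923
import Cfsg.Agent.Helper49.CharP

set_option autoImplicit false
open Cfsg

namespace Cfsg.Agent.S2923

open Cfsg.Agent.Helper49

/-- Let p be a prime and X a finite group of characteristic p, that is C_X(O_p(X)) ≤ O_p(X). Then every subnormal subgroup of X has characteristic p. -/
theorem result {X : Type*} [Group X] [Finite X] {p : ℕ} [Fact p.Prime] (hX : Subgroup.centralizer (Cfsg.pCore p X : Set X) ≤ Cfsg.pCore p X) (Y : Subgroup X) (hY : Y.IsSubnormal) : Subgroup.centralizer (Cfsg.pCore p ↥Y : Set ↥Y) ≤ Cfsg.pCore p ↥Y := by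
  rw [← charPIn_iff]
  induction hY with
  | top => exact charPIn_top_iff.mpr hX
  | step H K hle _ hN ih =>
    apply charPIn_of_normalized ih hle
    intro x hx
    have hxK : x ∈ K := coreIn_le K hx
    rw [Subgroup.mem_normalizer_iff]
    intro h
    constructor
    · intro hh
      have := hN.conj_mem ⟨h, hle hh⟩ (by rw [Subgroup.mem_subgroupOf]; exact hh) ⟨x, hxK⟩
      rw [Subgroup.mem_subgroupOf] at this
      simpa using this
    · intro hh
      have hhK : h ∈ K := by
        have : h = x⁻¹ * (x * h * x⁻¹) * x := by group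
        rw [this]
        exact K.mul_mem (K.mul_mem (K.inv_mem hxK) (hle hh)) hxK
      have := hN.conj_mem ⟨x * h * x⁻¹, hle hh⟩ (by rw [Subgroup.mem_subgroupOf]; exact hh)
        ⟨x⁻¹, K.inv_mem hxK⟩
      rw [Subgroup.mem_subgroupOf] at this
      have h2 : h = x⁻¹ * (x * h * x⁻¹) * x⁻¹⁻¹ := by group
      rw [h2]
      simpa using this

end Cfsg.Agent.S2923
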