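import Cfsg.Statements.S2925
import Cfsg.Agent.Helper21.Radical
import Cfsg.Agent.Helper49.SylowSubnormal

set_option autoImplicit false
open Cfsg

namespace Cfsg.Agent.S2925

open Cfsg.Agent.Helper49
open scoped Pointwise

/-- Let K be a component of the finite group X and T a Sylow 2-subgroup of X. If some abelian normal subgroup Y of T does not normalize K, then K ⧸ Z(K) has abelian Sylow 2-subgroups. -/
theorem result {X : Type*} [Group X] [Finite X] (K : Subgroup X) (hK : Cfsg.IsComponent K) (T : Sylow 2 X) (Y : Subgroup X) (hYT : Y ≤ (T : Subgroup X)) (hYn : (Y.subgroupOf (T : Subgroup X)).Normal) (hYab : IsMulCommutative ↥Y) (hnot : ¬ Y ≤ Subgroup.normalizer (K : Set X)) (P : Sylow 2 (↥K ⧸ Subgroup.center ↥K)) : IsMulCommutative ↥(P : Subgroup (↥K ⧸ Subgroup.center ↥K)) := by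
  haveI : Fact (Nat.Prime 2) := ⟨Nat.prime_two⟩
  obtain ⟨y, hyY, hyN⟩ := SetLike.not_le_iff_exists.mp hnot
  set K' : Subgroup X := K.map (MulAut.conj y).toMonoidHom with hK'def
  have hne : K ≠ K' := by
    intro h
    exact hyN (Cfsg.Agent.Helper21.mem_normalizer_of_map_conj_eq h.symm)
  have hK' : IsComponent K' := Cfsg.Agent.Helper21.IsComponent.map_conj hK y
  have hcomm : ∀ a ∈ K, ∀ b ∈ K', a * b = b * a := fun a ha b hb =>
    (Cfsg.Agent.Helper21.IsComponent.commute_of_ne hK hK' hne ha hb).eq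
  set S : Subgroup X := (T : Subgroup X) ⊓ K with hSdef
  have hS : IsSylowOf 2 S K := isSylowOf_inf_of_isSubnormal T hK.1
  -- u_t ∈ Y
  have hu : ∀ t ∈ (T : Subgroup X), t⁻¹ * (y * t * y⁻¹) ∈ Y := by
    intro t ht
    have h1 := hYn.conj_mem ⟨y, hYT hyY⟩ (by rw [Subgroup.mem_subgroupOf]; exact hyY)
      ⟨t⁻¹, Subgroup.inv_mem _ ht⟩
    rw [Subgroup.mem_subgroupOf] at h1
    have h2 : t⁻¹ * y * t⁻¹⁻¹ ∈ Y := by simpa using h1
    have : t⁻¹ * (y * t * y⁻¹) = (t⁻¹ * y * t⁻¹⁻¹) * y⁻¹ := by group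
    rw [this]
    exact Y.mul_mem h2 (Y.inv_mem hyY)
  have hconjK' : ∀ k ∈ K, y * k * y⁻¹ ∈ K' := fun k hk => ⟨k, hk, by simp [MulAut.conj_apply]⟩
  -- key: commutators of elements of S are central in K
  have key : ∀ s ∈ S, ∀ t ∈ S, ∀ k ∈ K, (s * t * s⁻¹ * t⁻¹) * k = k * (s * t * s⁻¹ * t⁻¹) := by
    intro s hs t ht k hk
    obtain ⟨hsT, hsK⟩ := Subgroup.mem_inf.mp hs
    obtain ⟨htT, htK⟩ := Subgroup.mem_inf.mp ht
    set s' : X := y * s * y⁻¹ with hs'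
    set t' : X := y * t * y⁻¹ with ht'
    have hs'K : s' ∈ K' := hconjK' s hsK
    have ht'K : t' ∈ K' := hconjK' t htK
    have hYc : (s⁻¹ * s') * (t⁻¹ * t') = (t⁻¹ * t') * (s⁻¹ * s') := by
      have := hYab.is_comm.comm (⟨s⁻¹ * s', hu s hsT⟩ : ↥Y) ⟨t⁻¹ * t', hu t htT⟩
      exact congrArg Subtype.val this
    have c1 : s' * t⁻¹ = t⁻¹ * s' := (hcomm t⁻¹ (K.inv_mem htK) s' hs'K).symm
    have c2 : t' * s⁻¹ = s⁻¹ * t' := (hcomm s⁻¹ (K.inv_mem hsK) t' ht'K).symm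
    have e1 : s⁻¹ * t⁻¹ * (s' * t') = t⁻¹ * s⁻¹ * (t' * s') := by
      calc s⁻¹ * t⁻¹ * (s' * t') = s⁻¹ * (t⁻¹ * s') * t' := by group
        _ = s⁻¹ * (s' * t⁻¹) * t' := by rw [c1]
        _ = (s⁻¹ * s') * (t⁻¹ * t') := by group
        _ = (t⁻¹ * t') * (s⁻¹ * s') := hYc
        _ = t⁻¹ * (t' * s⁻¹) * s' := by group
        _ = t⁻¹ * (s⁻¹ * t') * s' := by rw [c2]
        _ = t⁻¹ * s⁻¹ * (t' * s') := by group
    have e2 : s * t * s⁻¹ * t⁻¹ = t' * s' * t'⁻¹ * s'⁻¹ := by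
      calc s * t * s⁻¹ * t⁻¹ = s * t * (s⁻¹ * t⁻¹ * (s' * t')) * (s' * t')⁻¹ := by group
        _ = s * t * (t⁻¹ * s⁻¹ * (t' * s')) * (s' * t')⁻¹ := by rw [e1]
        _ = t' * s' * t'⁻¹ * s'⁻¹ := by group
    have hcK' : s * t * s⁻¹ * t⁻¹ ∈ K' := by
      rw [e2]
      exact K'.mul_mem (K'.mul_mem (K'.mul_mem ht'K hs'K) (K'.inv_mem ht'K)) (K'.inv_mem hs'K)
    exact (hcomm k hk _ hcK').symm
  -- Sylow subgroup of K and its image
  set S' : Sylow 2 ↥K := hS.toSylow with hS'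
  have hsurj : Function.Surjective (QuotientGroup.mk' (Subgroup.center ↥K)) :=
    QuotientGroup.mk'_surjective _
  set Sbar : Sylow 2 (↥K ⧸ Subgroup.center ↥K) := S'.mapSurjective hsurj with hSbar
  obtain ⟨g, hg⟩ := MulAction.exists_smul_eq (↥K ⧸ Subgroup.center ↥K) Sbar P
  -- elements of Sbar commute
  have hSbar_comm : ∀ a ∈ (Sbar : Subgroup (↥K ⧸ Subgroup.center ↥K)),
      ∀ b ∈ (Sbar : Subgroup (↥K ⧸ Subgroup.center ↥K)), a * b = b * a := by
    intro a ha b hb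
    rw [hSbar, Sylow.coe_mapSurjective] at ha hb
    obtain ⟨s, hs, rfl⟩ := ha
    obtain ⟨t, ht, rfl⟩ := hb
    have hs' : (s : X) ∈ S := by
      have : s ∈ (S' : Subgroup ↥K) := hs
      rw [hS', hS.coe_toSylow, Subgroup.mem_subgroupOf] at this
      exact this
    have ht' : (t : X) ∈ S := by
      have : t ∈ (S' : Subgroup ↥K) := ht
      rw [hS', hS.coe_toSylow, Subgroup.mem_subgroupOf] at this
      exact this
    change (QuotientGroup.mk (s * t) : ↥K ⧸ Subgroup.center ↥K) = QuotientGroup.mk (t * s)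
    rw [QuotientGroup.eq, Subgroup.mem_center_iff]
    intro k
    apply Subtype.ext
    have := key (t : X)⁻¹ (S.inv_mem ht') (s : X)⁻¹ (S.inv_mem hs') (k : X) k.2
    simp only [inv_inv] at this
    have e : (((s * t)⁻¹ * (t * s) : ↥K) : X) = (t : X)⁻¹ * (s : X)⁻¹ * (t : X) * (s : X) := by
      simp [mul_assoc]
    show (k : X) * (((s * t)⁻¹ * (t * s) : ↥K) : X) = (((s * t)⁻¹ * (t * s) : ↥K) : X) * (k : X)
    rw [e]
    exact this.symm
  rw [isMulCommutative_iff]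
  rintro ⟨a, ha⟩ ⟨b, hb⟩
  apply Subtype.ext
  change a * b = b * a
  have haP : a ∈ (g • Sbar : Sylow 2 (↥K ⧸ Subgroup.center ↥K)) := by rw [hg]; exact ha
  have hbP : b ∈ (g • Sbar : Sylow 2 (↥K ⧸ Subgroup.center ↥K)) := by rw [hg]; exact hb
  have memconj : ∀ c, c ∈ (g • Sbar : Sylow 2 (↥K ⧸ Subgroup.center ↥K)) →
      g⁻¹ * c * g ∈ (Sbar : Subgroup (↥K ⧸ Subgroup.center ↥K)) := by
    intro c hc
    have : c ∈ MulAut.conj g • (Sbar : Subgroup (↥K ⧸ Subgroup.center ↥K)) := hc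
    rw [Subgroup.mem_pointwise_smul_iff_inv_smul_mem, MulAut.smul_def, ← map_inv,
      MulAut.conj_apply, inv_inv] at this
    exact this
  have := hSbar_comm _ (memconj a haP) _ (memconj b hbP)
  calc a * b = g * ((g⁻¹ * a * g) * (g⁻¹ * b * g)) * g⁻¹ := by group
    _ = g * ((g⁻¹ * b * g) * (g⁻¹ * a * g)) * g⁻¹ := by rw [this]
    _ = b * a := by group

end Cfsg.Agent.S2925
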