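import Cfsg.Statements.S2929
import Cfsg.Agent.Helper21.Quasisimple
import Cfsg.Agent.Helper21.Radical
import Cfsg.Agent.Helper22.Bender
import Cfsg.Agent.Helper59.SylowThree
import Cfsg.Agent.Helper59.AltOver

set_option autoImplicit false
open Cfsg

namespace Cfsg.Agent.S2929

/-- Let n ≥ 5 and let H be a subgroup of the symmetric group of degree n whose generalized Fitting subgroup F*(H) is quasisimple. If H contains a Sylow 3-subgroup of the symmetric group, then F*(H) is isomorphic to an alternating group of degree m for some m ∈ {n − 2, n − 1, n}. -/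
theorem result (n : ℕ) (hn : 5 ≤ n) (H : Subgroup (Equiv.Perm (Fin n))) (hF : Cfsg.IsQuasisimple ↥(Cfsg.generalizedFittingSubgroup ↥H)) (hS : ∃ P : Sylow 3 (Equiv.Perm (Fin n)), (P : Subgroup (Equiv.Perm (Fin n))) ≤ H) : ∃ m : ℕ, (m = n - 2 ∨ m = n - 1 ∨ m = n) ∧ Nonempty (↥(Cfsg.generalizedFittingSubgroup ↥H) ≃* ↥(alternatingGroup (Fin m))) := by
  classical
  obtain ⟨P, hP⟩ := hS
  obtain ⟨c, hc, hdisj⟩ := Cfsg.Agent.Helper59.ThreeCyc.exists_disjoint_threeCycles n P
  let K : Subgroup (Equiv.Perm (Fin n)) := (Cfsg.generalizedFittingSubgroup ↥H).map H.subtype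
  have e : ↥(Cfsg.generalizedFittingSubgroup ↥H) ≃* ↥K :=
    (Cfsg.generalizedFittingSubgroup ↥H).equivMapOfInjective H.subtype H.subtype_injective
  have hKq : Cfsg.IsQuasisimple ↥K := Cfsg.Agent.Helper21.IsQuasisimple.of_mulEquiv e hF
  have hKH : K ≤ H := Subgroup.map_subtype_le _
  have hnorm : ∀ h ∈ H, ∀ k ∈ K, h * k * h⁻¹ ∈ K := by
    rintro h hh _ ⟨k, hk, rfl⟩
    have hn : (Cfsg.generalizedFittingSubgroup ↥H).Normal :=
      Cfsg.Agent.Helper21.generalizedFittingSubgroup_normal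
    exact ⟨⟨h, hh⟩ * k * ⟨h, hh⟩⁻¹, hn.conj_mem k hk ⟨h, hh⟩, rfl⟩
  have hcent : ∀ h ∈ H, (∀ k ∈ K, h * k = k * h) → h ∈ K := by
    intro h hh hcomm
    have h1 : (⟨h, hh⟩ : ↥H) ∈
        Subgroup.centralizer (Cfsg.generalizedFittingSubgroup ↥H : Set ↥H) := by
      rw [Subgroup.mem_centralizer_iff]
      intro k hk
      apply Subtype.ext
      exact (hcomm k.1 ⟨k, hk, rfl⟩).symm
    exact ⟨⟨h, hh⟩, Cfsg.Agent.Helper22.centralizer_generalizedFittingSubgroup_le h1, rfl⟩
  obtain ⟨p, hdec, h5, hcov, hKeq⟩ := Cfsg.Agent.Helper59.ThreeCyc.main_perm H K hKH hnorm hKq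
    hcent (n / 3) c (fun j => (hc j).1) (fun j => hP (hc j).2) hdisj
    (by rw [Fintype.card_fin]; omega)
  refine ⟨Fintype.card (Subtype p), ?_, ?_⟩
  · have hle : Fintype.card (Subtype p) ≤ n := by
      have := Fintype.card_subtype_le p
      rwa [Fintype.card_fin] at this
    rw [Fintype.card_fin] at hcov
    omega
  · exact ⟨e.trans ((MulEquiv.subgroupCongr hKeq).trans
      ((((alternatingGroup (Subtype p)).equivMapOfInjective _
        Equiv.Perm.ofSubtype_injective).symm).trans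
        (Equiv.altCongrHom (Fintype.equivFin (Subtype p)))))⟩

end Cfsg.Agent.S2929
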