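import Cfsg.Statements.S2933
import Cfsg.Agent.Helper65.T2933O

set_option autoImplicit false
open Cfsg

namespace Cfsg.Agent.S2933

open Cfsg.Agent.Helper65.T2933 Cfsg.Agent.Helper65.Ord64

/-- Let T be a 2-subgroup of a finite group G, V ≤ Z(T) a four-group, and t, ρ ∈ N_G(V) ∩ N_G(T) elements of order 2 and 3 with t commuting with ρ and with V. If [V, ρ] = V and C_T(t) = V, then T is elementary abelian of order 16, or homocyclic of rank 2 (ℤ/2ⁿ × ℤ/2ⁿ for some n ≥ 1), or isomorphic to a Sylow 2-subgroup of PSL₃(4) or of PSU₃(4). -/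
theorem result {G : Type*} [Group G] [Finite G] (T V : Subgroup G) (hT : IsPGroup 2 ↥T) (hVT : V ≤ T ⊓ Subgroup.centralizer (T : Set G)) (hV : Nat.card ↥V = 4 ∧ ∀ v ∈ V, v ^ 2 = 1) (t ρ : G) (ht : orderOf t = 2) (hρ : orderOf ρ = 3) (htn : t ∈ Subgroup.normalizer (V : Set G) ⊓ Subgroup.normalizer (T : Set G)) (hρn : ρ ∈ Subgroup.normalizer (V : Set G) ⊓ Subgroup.normalizer (T : Set G)) (htρ : t * ρ = ρ * t) (htV : t ∈ Subgroup.centralizer (V : Set G)) (hVρ : ⁅V, Subgroup.zpowers ρ⁆ = V) (hCt : T ⊓ Subgroup.centralizer ({t} : Set G) = V) : (Nat.card ↥T = 16 ∧ ∀ x ∈ T, x ^ 2 = 1) ∨ (∃ n : ℕ, 1 ≤ n ∧ Nonempty (↥T ≃* Multiplicative (ZMod (2 ^ n)) × Multiplicative (ZMod (2 ^ n)))) ∨ (∃ (F : Type) (_ : Field F) (_ : Fintype F), Fintype.card F = 4 ∧ ∀ P : Sylow 2 (Matrix.ProjectiveSpecialLinearGroup (Fin 3) F), Nonempty (↥T ≃* ↥(P : Subgroup (Matrix.ProjectiveSpecialLinearGroup (Fin 3) F))))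 ∨ (∃ (F : Type) (_ : Field F) (_ : Fintype F), Fintype.card F = 16 ∧ ∀ P : Sylow 2 (Cfsg.PSU 3 F 4), Nonempty (↥T ≃* ↥(P : Subgroup (Cfsg.PSU 3 F 4)))) := by
  have hρ3 : ρ ^ 3 = 1 := by rw [← hρ]; exact pow_orderOf_eq_one ρ
  have ht2 : t ^ 2 = 1 := by rw [← ht]; exact pow_orderOf_eq_one t
  have hVleT : V ≤ T := fun v hv => (hVT hv).1
  set ρ' : MulAut T := conjAut T ρ hρn.2 with hρ'
  set τ' : MulAut T := conjAut T t htn.2 with hτ'
  set V' : Subgroup T := V.subgroupOf T with hV'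
  have hρ'3 : ∀ x : T, ρ' (ρ' (ρ' x)) = x := by
    intro x
    apply Subtype.ext
    show ρ * (ρ * (ρ * x.1 * ρ⁻¹) * ρ⁻¹) * ρ⁻¹ = x.1
    have : ρ * (ρ * (ρ * x.1 * ρ⁻¹) * ρ⁻¹) * ρ⁻¹ = ρ ^ 3 * x.1 * (ρ ^ 3)⁻¹ := by
      rw [pow_succ, pow_succ, pow_one]
      group
    rw [this, hρ3]
    group
  have hτ'2 : ∀ x : T, τ' (τ' x) = x := by
    intro x
    apply Subtype.ext
    show t * (t * x.1 * t⁻¹) * t⁻¹ = x.1
    have : t * (t * x.1 * t⁻¹) * t⁻¹ = t ^ 2 * x.1 * (t ^ 2)⁻¹ := by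
      rw [pow_succ, pow_one]
      group
    rw [this, ht2]
    group
  have hcomm : ∀ x : T, τ' (ρ' x) = ρ' (τ' x) := by
    intro x
    apply Subtype.ext
    show t * (ρ * x.1 * ρ⁻¹) * t⁻¹ = ρ * (t * x.1 * t⁻¹) * ρ⁻¹
    have h1 : t * (ρ * x.1 * ρ⁻¹) * t⁻¹ = (t * ρ) * x.1 * (t * ρ)⁻¹ := by group
    have h2 : ρ * (t * x.1 * t⁻¹) * ρ⁻¹ = (ρ * t) * x.1 * (ρ * t)⁻¹ := by group
    rw [h1, h2, htρ]
  have hfix : ∀ x : T, τ' x = x ↔ x ∈ V' := by
    intro x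
    rw [hV', Subgroup.mem_subgroupOf, ← hCt, Subgroup.mem_inf, Subgroup.mem_centralizer_iff]
    constructor
    · intro hx
      refine ⟨x.2, ?_⟩
      intro s hs
      rw [Set.mem_singleton_iff] at hs
      subst hs
      have h1 : s * x.1 * s⁻¹ = x.1 := congrArg Subtype.val hx
      calc s * x.1 = (s * x.1 * s⁻¹) * s := by group
        _ = x.1 * s := by rw [h1]
    · rintro ⟨-, hx⟩
      have h1 := hx t (Set.mem_singleton t)
      apply Subtype.ext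
      show t * x.1 * t⁻¹ = x.1
      rw [h1]
      group
  have hV'4 : Nat.card V' = 4 := by
    rw [hV', Nat.card_congr (Subgroup.subgroupOfEquivOfLe hVleT).toEquiv]
    exact hV.1
  have hV'Z : V' ≤ Subgroup.center T := by
    intro x hx
    rw [hV', Subgroup.mem_subgroupOf] at hx
    have h1 : x.1 ∈ Subgroup.centralizer (T : Set G) := (hVT hx).2
    rw [Subgroup.mem_centralizer_iff] at h1
    rw [Subgroup.mem_center_iff]
    intro g
    apply Subtype.ext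
    exact h1 g.1 g.2
  have hρV' : ∀ v ∈ V', ρ' v = v → v = 1 := by
    intro v hv hfixv
    rw [hV', Subgroup.mem_subgroupOf] at hv
    have h1 : ρ * v.1 * ρ⁻¹ = v.1 := congrArg Subtype.val hfixv
    have h2 := fix_trivial_of_commutator_eq V hV.1 ρ hρ3 hρn.1 hVρ v.1 hv h1
    exact Subtype.ext h2
  have hfp := fpf_of_fix hT ρ' τ' hτ'2 hcomm V' hfix hρV'
  have H : Hyp ρ' τ' V' := ⟨⟨hρ'3, hfp⟩, hτ'2, hcomm, hV'4, hV'Z, hfix⟩
  rcases main_type hT H with hE | hH | hP | hM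
  · left
    refine ⟨hE.1, ?_⟩
    intro x hx
    have := hE.2 ⟨x, hx⟩
    rw [pow_two]
    exact congrArg Subtype.val this
  · exact Or.inr (Or.inl hH)
  · exact Or.inr (Or.inr (Or.inl hP))
  · exact Or.inr (Or.inr (Or.inr hM))

end Cfsg.Agent.S2933
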