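import Cfsg.Statements.S2934
import Cfsg.Agent.Helper50.QA8
-- import your own Cfsg.Agent.* helpers here

set_option autoImplicit false
open Cfsg

namespace Cfsg.Agent.S2934

/-- Let p be an odd prime, W a finite 2-group and E a non-cyclic abelian p-subgroup of Aut(W) such that, for every nontrivial e ∈ E, the fixed points of e in W contain at most one involution. Then E has order 9, W is extraspecial of order 2⁵, 2⁷ or 2⁹, and the common fixed points of E in W form exactly the centre Z(W). -/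
theorem result {W : Type*} [Group W] [Finite W] (hW : IsPGroup 2 W) {p : ℕ} [Fact p.Prime] (hp : p ≠ 2) (E : Subgroup (MulAut W)) (hE : IsPGroup p ↥E) (hab : IsMulCommutative ↥E) (hnc : ¬ IsCyclic ↥E) (hfix : ∀ e ∈ E, e ≠ 1 → ∀ x y : W, orderOf x = 2 → orderOf y = 2 → e x = x → e y = y → x = y) : Nat.card ↥E = 9 ∧ Cfsg.IsExtraspecial 2 W ∧ (Nat.card W = 2 ^ 5 ∨ Nat.card W = 2 ^ 7 ∨ Nat.card W = 2 ^ 9) ∧ {x : W | ∀ e ∈ E, e x = x} = (Subgroup.center W : Set W) := by
  classical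
  have hcommE : ∀ x ∈ E, ∀ y ∈ E, x * y = y * x := by
    intro x hx y hy
    exact congrArg Subtype.val (hab.is_comm.comm (⟨x, hx⟩ : E) ⟨y, hy⟩)
  have hDE := Helper50.omegaOne_le E hcommE p
  have hcard := Helper50.card_omegaOne_ge E hcommE hE hnc
  obtain ⟨hp3, z, S⟩ := Helper50.exists_qsetup hW hp (Helper50.omegaOne E hcommE p)
    (fun x hx y hy => hcommE x hx.1 y hy.1) (fun d hd => hd.2) hcard
    (fun e he => hfix e he.1)
  subst hp3
  obtain ⟨h9, hDeqE⟩ := S.card_E_eq E hDE hE (fun e he d hd => hcommE e he d hd.1) hfix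
  obtain ⟨T, hT, hcardW⟩ := S.card_eq
  have hT4 : T.card ≤ 4 := S.card_isQ_le (by rw [hDeqE]; exact h9) T (fun F hF => (hT F).mp hF)
  have hT2 : 2 ≤ T.card := by
    obtain ⟨F, F', hF, hF', hne⟩ := S.exists_two_isQ
    exact Finset.one_lt_card.mpr ⟨F, (hT F).mpr hF, F', (hT F').mpr hF', Ne.symm hne⟩
  refine ⟨h9, ⟨⟨hW, ?_, ?_⟩, ?_⟩, ?_, ?_⟩
  · rw [S.frattini_eq, S.center_eq]
  · rw [S.commutator_eq, S.center_eq]
  · rw [S.center_eq, S.card_zpowers_z]
  · rw [hcardW]
    have : T.card = 2 ∨ T.card = 3 ∨ T.card = 4 := by omega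
    rcases this with h | h | h <;> rw [h]
    · left; rfl
    · right; left; rfl
    · right; right; rfl
  · ext x
    rw [S.center_eq, Set.mem_ofPred_eq, SetLike.mem_coe, Helper50.mem_zpowers_z S.hz, ← S.hC0 x, hDeqE]

end Cfsg.Agent.S2934
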