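import Cfsg.Statements.S2939
import Cfsg.Agent.Helper49.SylowChain

set_option autoImplicit false
open Cfsg

namespace Cfsg.Agent.S2939

open Cfsg.Agent.Helper49

variable {G : Type*} [Group G] {p : ℕ}

theorem mem_conjRight {g a : G} {A : Set G} : a ∈ conjRight g A ↔ g * a * g⁻¹ ∈ A := by
  unfold conjRight
  constructor
  · rintro ⟨b, hb, rfl⟩
    simpa [mul_assoc] using hb
  · intro h
    exact ⟨g * a * g⁻¹, h, by simp [mul_assoc]⟩

theorem coe_scr (g : G) (X : Subgroup G) :
    ((subgroupConjRight g X : Subgroup G) : Set G) = conjRight g (X : Set G) := by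
  ext a
  rw [SetLike.mem_coe, mem_scr, mem_conjRight, SetLike.mem_coe]

theorem conjRight_mono (g : G) {A B : Set G} (h : A ⊆ B) : conjRight g A ⊆ conjRight g B :=
  Set.image_mono h

/-- The list form of a factorisation through members of `𝓕(S)`. -/
def GoodList (p : ℕ) (𝓕 : Set (Subgroup G)) (S D : Subgroup G) (L : List (Subgroup G × G)) : Prop :=
  ∀ (k : ℕ) (hk : k < L.length), (L[k]).1 ∈ sylowMembers p 𝓕 S ∧ (L[k]).2 ∈ (L[k]).1 ∧
    subgroupConjRight ((L.take (k + 1)).map Prod.snd).prod D ≤ S ⊓ (L[k]).1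

theorem exists_goodList [Finite G] [Fact p.Prime] {𝓕 : Set (Subgroup G)} (h𝓕 : IsNormalSet 𝓕)
    {D : Subgroup G} {S T : Sylow p G} (h : GConn p 𝓕 D S T) :
    ∃ L : List (Subgroup G × G), GoodList p 𝓕 (S : Subgroup G) D L ∧
      subgroupConjRight (L.map Prod.snd).prod (T : Subgroup G) = (S : Subgroup G) := by
  unfold GConn at h
  induction h with
  | refl => exact ⟨[], fun k hk => absurd hk (by simp), by simp [scr_one]⟩
  | @tail T' T'' _ hl ih =>
    obtain ⟨L, hL, hw⟩ := ih
    obtain ⟨hA, hB, X, hX, hAX, hBX, hDX, x, hx, hxB⟩ := hl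
    set w : G := (L.map Prod.snd).prod with hwdef
    have hYS : IsSylowOf p ((S : Subgroup G) ⊓ subgroupConjRight w X) (subgroupConjRight w X) := by
      have := isSylowOf_scr w hAX
      rwa [scr_inf, hw] at this
    refine ⟨L ++ [(subgroupConjRight w X, w⁻¹ * x * w)], ?_, ?_⟩
    · intro k hk
      rw [List.length_append, List.length_singleton] at hk
      rcases Nat.lt_succ_iff_lt_or_eq.mp hk with hk' | hk'
      · have e1 : (L ++ [(subgroupConjRight w X, w⁻¹ * x * w)])[k] = L[k] :=
          List.getElem_append_left hk'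
        have e2 : (L ++ [(subgroupConjRight w X, w⁻¹ * x * w)]).take (k + 1) = L.take (k + 1) :=
          List.take_append_of_le_length hk'
        rw [e1, e2]
        exact hL k hk'
      · subst hk'
        have e1 : (L ++ [(subgroupConjRight w X, w⁻¹ * x * w)])[L.length] =
            (subgroupConjRight w X, w⁻¹ * x * w) := by
          rw [List.getElem_append_right (le_refl _)]
          simp
        have e2 : (L ++ [(subgroupConjRight w X, w⁻¹ * x * w)]).take (L.length + 1) =
            L ++ [(subgroupConjRight w X, w⁻¹ * x * w)] := by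
          apply List.take_of_length_le
          simp
        rw [e1, e2]
        refine ⟨mem_sylowMembers_iff.mpr ⟨h𝓕 X hX w, hYS⟩, conj_mem_scr hx, ?_⟩
        have e3 : ((L ++ [(subgroupConjRight w X, w⁻¹ * x * w)]).map Prod.snd).prod = x * w := by
          rw [List.map_append, List.prod_append, ← hwdef]
          simp [mul_assoc]
        rw [e3, scr_mul]
        have h1 : subgroupConjRight x D ≤ (T' : Subgroup G) ⊓ X := by
          have := scr_mono x (le_inf hB hDX)
          rwa [scr_inf, hxB, scr_eq_self_of_mem hx] at this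
        have := scr_mono w h1
        rwa [scr_inf, hw] at this
    · have e3 : ((L ++ [(subgroupConjRight w X, w⁻¹ * x * w)]).map Prod.snd).prod = x * w := by
        rw [List.map_append, List.prod_append, ← hwdef]
        simp [mul_assoc]
      rw [e3, scr_mul, hxB, hw]

/-- Let p be a prime dividing the order of the finite group G and 𝓕 a family of subgroups of G closed under conjugation, with conjugates taken as X^g = g⁻¹Xg. Then 𝓕 controls Sylow p-intersections in G (any two distinct Sylow p-subgroups S and T with S ∩ T ≠ 1 are joined by a chain S = S₀, S₁, …, Sₙ = T of Sylow p-subgroups where, for each i, some member Xᵢ of 𝓕 meets both S_{i-1} and Sᵢ in Sylow p-subgroups of Xᵢ, satisfies S ∩ T ≤ Sᵢ ∩ Xᵢ, and contains an element xᵢ with Sᵢ^{xᵢ} = S_{i-1}) if and only if 𝓕 strongly controls p-fusion in G (whenever A is a subset of a Sylow p-subgroup S, A contains an element other than 1, and A^g ⊆ S, the element g factorises as g = y₁⋯yₙy with y ∈ N_G(S) and each yᵢ in a member Yᵢ of 𝓕 that meets S in a Sylow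 p-subgroup of Yᵢ, with A^{y₁⋯yᵢ} ⊆ S ∩ Yᵢ for each i). -/
theorem result {G : Type*} [Group G] [Finite G] {p : ℕ} [Fact p.Prime] (hdiv : p ∣ Nat.card G) (𝓕 : Set (Subgroup G)) (h𝓕 : Cfsg.IsNormalSet 𝓕) : Cfsg.ControlsSylowIntersections p 𝓕 ↔ Cfsg.FamilyStronglyControlsFusion p 𝓕 := by
  constructor
  · -- control of intersections gives strong control of fusion
    intro hc S A g hAS hA1 hAg
    obtain ⟨a₀, ha₀, ha₀1⟩ := hA1
    set T : Sylow p G := sconj g⁻¹ S with hT
    have hTcoe : (T : Subgroup G) = subgroupConjRight g⁻¹ (S : Subgroup G) := coe_sconj _ _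
    have hAT : A ⊆ ((T : Subgroup G) : Set G) := by
      intro a ha
      have h1 : g⁻¹ * a * g ∈ conjRight g A := ⟨a, ha, rfl⟩
      have h2 := hAg h1
      rw [SetLike.mem_coe, hTcoe, mem_scr, inv_inv]
      exact h2
    set D : Subgroup G := (S : Subgroup G) ⊓ (T : Subgroup G) with hD
    have hAD : A ⊆ (D : Set G) := fun a ha => ⟨hAS ha, hAT ha⟩
    have hDne : D ≠ ⊥ := by
      intro h0
      have : a₀ ∈ (⊥ : Subgroup G) := h0 ▸ hAD ha₀
      exact ha₀1 (Subgroup.mem_bot.mp this)
    have hconn : GConn p 𝓕 D S T := gconn_of_controls hc hDne inf_le_left inf_le_right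
    obtain ⟨L, hL, hw⟩ := exists_goodList h𝓕 hconn
    set w : G := (L.map Prod.snd).prod with hwdef
    have hofFn : List.ofFn (fun i : Fin L.length => (L.get i).2) = L.map Prod.snd := by
      have : (fun i : Fin L.length => (L.get i).2) = Prod.snd ∘ L.get := rfl
      rw [this, ← List.map_ofFn, List.ofFn_get]
    refine ⟨L.length, fun i => (L.get i).1, fun i => (L.get i).2, w⁻¹ * g, ?_, ?_, ?_, ?_⟩
    · apply mem_normalizer_of_scr_eq_self
      have : subgroupConjRight (g⁻¹ * w) (S : Subgroup G) = (S : Subgroup G) := by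
        rw [scr_mul, ← hTcoe, hw]
      have h2 := scr_eq_iff.mp this
      have e : (g⁻¹ * w)⁻¹ = w⁻¹ * g := by simp
      rw [e] at h2
      exact h2.symm
    · intro i
      have := hL i.1 i.2
      exact ⟨this.1, this.2.1⟩
    · rw [hofFn, ← hwdef]; simp
    · intro i
      rw [hofFn, List.map_take.symm]
      have := (hL i.1 i.2).2.2
      have h3 : conjRight ((L.take (i.1 + 1)).map Prod.snd).prod A ⊆
          ((subgroupConjRight ((L.take (i.1 + 1)).map Prod.snd).prod D : Subgroup G) : Set G) := by
        rw [coe_scr]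
        exact conjRight_mono _ hAD
      intro a ha
      have h4 := this (h3 ha)
      exact ⟨h4.1, h4.2⟩
  · -- strong control of fusion gives control of intersections
    intro hf
    rw [controls_iff]
    intro S T hne hST
    set D : Subgroup G := (S : Subgroup G) ⊓ (T : Subgroup G) with hD
    obtain ⟨g, hg⟩ := exists_sconj_eq T S
    have hgT : subgroupConjRight g (T : Subgroup G) = (S : Subgroup G) := by
      rw [← coe_sconj, hg]
    obtain ⟨a₀, ha₀, ha₀1⟩ := (Subgroup.bot_or_exists_ne_one D).resolve_left hST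
    have hAg : conjRight g (D : Set G) ⊆ ((S : Subgroup G) : Set G) := by
      rw [← coe_scr, ← hgT]
      exact scr_mono g inf_le_right
    obtain ⟨n, Y, y, y₀, hy₀, hY, hgprod, hcond⟩ :=
      hf S (D : Set G) g (fun a ha => ha.1) ⟨a₀, ha₀, ha₀1⟩ hAg
    set w : ℕ → G := fun k => ((List.ofFn y).take k).prod with hwdef
    have hw0 : w 0 = 1 := by simp [hwdef]
    have hwsucc : ∀ k (hk : k < n), w (k + 1) = w k * y ⟨k, hk⟩ := by
      intro k hk
      have hk' : k < (List.ofFn y).length := by rw [List.length_ofFn]; exact hk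
      have := List.prod_take_succ (List.ofFn y) k hk'
      rw [List.getElem_ofFn] at this
      exact this
    have hwn : w n = (List.ofFn y).prod := by
      simp only [hwdef]
      rw [List.take_of_length_le (by rw [List.length_ofFn])]
    have hcond' : ∀ k (hk : k < n), subgroupConjRight (w (k + 1)) D ≤ (S : Subgroup G) ⊓ Y ⟨k, hk⟩ := by
      intro k hk a ha
      have h1 := hcond ⟨k, hk⟩
      rw [← SetLike.mem_coe, coe_scr] at ha
      have h2 := h1 ha
      exact ⟨h2.1, h2.2⟩
    have key : ∀ k, k ≤ n → GConn p 𝓕 D S (sconj (w k)⁻¹ S) ∧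
        D ≤ ((sconj (w k)⁻¹ S : Sylow p G) : Subgroup G) := by
      intro k
      induction k with
      | zero =>
        intro _
        have e : sconj (w 0)⁻¹ S = S := by
          apply Sylow.ext
          rw [coe_sconj, hw0, inv_one, scr_one]
        rw [e]
        exact ⟨GConn.refl _, inf_le_left⟩
      | succ k ih =>
        intro hk
        have hk' : k < n := hk
        obtain ⟨ih1, ih2⟩ := ih (Nat.le_of_lt hk')
        have hYk := (hY ⟨k, hk'⟩).1
        have hyk := (hY ⟨k, hk'⟩).2
        rw [mem_sylowMembers_iff] at hYk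
        have hc := hcond' k hk'
        -- D ≤ c_{k+1}
        have hD1 : D ≤ ((sconj (w (k + 1))⁻¹ S : Sylow p G) : Subgroup G) := by
          rw [coe_sconj, le_scr_iff, inv_inv]
          exact hc.trans inf_le_left
        have hXeq : subgroupConjRight (w k)⁻¹ (Y ⟨k, hk'⟩) =
            subgroupConjRight (w (k + 1))⁻¹ (Y ⟨k, hk'⟩) := by
          rw [hwsucc k hk', mul_inv_rev, scr_mul, scr_eq_self_of_mem ((Y ⟨k, hk'⟩).inv_mem hyk)]
        refine ⟨Relation.ReflTransGen.tail ih1 ?_, hD1⟩
        refine ⟨ih2, hD1, subgroupConjRight (w k)⁻¹ (Y ⟨k, hk'⟩), h𝓕 _ hYk.1 _, ?_, ?_, ?_, ?_⟩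
        · have := isSylowOf_scr (w k)⁻¹ hYk.2
          rwa [scr_inf, ← coe_sconj] at this
        · have := isSylowOf_scr (w (k + 1))⁻¹ hYk.2
          rwa [scr_inf, ← coe_sconj, ← hXeq] at this
        · rw [hXeq, le_scr_iff, inv_inv]
          exact hc.trans inf_le_right
        · refine ⟨w k * y ⟨k, hk'⟩ * (w k)⁻¹, ?_, ?_⟩
          · have := conj_mem_scr (g := (w k)⁻¹) hyk
            simpa using this
          · rw [coe_sconj, coe_sconj, ← scr_mul, hwsucc k hk']
            congr 1
            group
    obtain ⟨h1, _⟩ := key n le_rfl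
    have e : sconj (w n)⁻¹ S = T := by
      apply Sylow.ext
      rw [coe_sconj, hwn]
      have h2 : (T : Subgroup G) = subgroupConjRight g⁻¹ (S : Subgroup G) := scr_eq_iff.mp hgT
      rw [h2, hgprod, mul_inv_rev, scr_mul,
        scr_eq_self_of_mem_normalizer (Subgroup.inv_mem _ hy₀)]
    rwa [e] at h1

end Cfsg.Agent.S2939
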