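import Cfsg.Statements.S2940

set_option autoImplicit false
open Cfsg

namespace Cfsg.Agent.S2940

open scoped Pointwise

/-- Let S be a Sylow p-subgroup of the finite group G and G₁, G₂ subgroups containing S with G = G₁G₂. Then for every g ∈ G there is a Sylow p-subgroup U of G with S ∩ S^g ≤ U ≤ G₁ ∩ G₂^g (conjugates taken as X^g = g⁻¹Xg). -/
theorem result {G : Type*} [Group G] [Finite G] {p : ℕ} [Fact p.Prime] (S : Sylow p G) (G₁ G₂ : Subgroup G) (h1 : (S : Subgroup G) ≤ G₁) (h2 : (S : Subgroup G) ≤ G₂) (hfact : ∀ g : G, ∃ g₁ ∈ G₁, ∃ g₂ ∈ G₂, g = g₁ * g₂) (g : G) : ∃ U : Sylow p G, (S : Subgroup G) ⊓ Cfsg.subgroupConjRight g (S : Subgroup G) ≤ (U : Subgroup G) ∧ (U : Subgroup G) ≤ G₁ ⊓ Cfsg.subgroupConjRight g G₂ := by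
  obtain ⟨a', ha', b', hb', hab⟩ := hfact g⁻¹
  set b : G := a'⁻¹ with hb
  set a : G := b'⁻¹ with ha
  have hbG : b ∈ G₁ := G₁.inv_mem ha'
  have haG : a ∈ G₂ := G₂.inv_mem hb'
  have hg : g = a * b := by
    have : g = (g⁻¹)⁻¹ := by simp
    rw [this, hab, mul_inv_rev]
  set H : Subgroup G := G₁ ⊓ Cfsg.subgroupConjRight g G₂ with hH
  have memConj : ∀ (X : Subgroup G) (y : G), y ∈ Cfsg.subgroupConjRight g X ↔ g * y * g⁻¹ ∈ X := by
    intro X y
    unfold Cfsg.subgroupConjRight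
    constructor
    · rintro ⟨x, hx, rfl⟩
      simpa [MulAut.conj_apply, mul_assoc] using hx
    · intro h
      exact ⟨g * y * g⁻¹, h, by simp [MulAut.conj_apply, mul_assoc]⟩
  set P : Sylow p G := b⁻¹ • S with hP
  have memP : ∀ y : G, y ∈ P ↔ b * y * b⁻¹ ∈ S := by
    intro y
    have : y ∈ P ↔ y ∈ (MulAut.conj b⁻¹ • (S : Subgroup G)) := Iff.rfl
    rw [this, Subgroup.mem_pointwise_smul_iff_inv_smul_mem]
    rw [MulAut.smul_def, ← map_inv, inv_inv, MulAut.conj_apply]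
    exact Iff.rfl
  have hPH : (P : Subgroup G) ≤ H := by
    intro y hy
    have hy' : b * y * b⁻¹ ∈ S := (memP y).mp hy
    refine Subgroup.mem_inf.mpr ⟨?_, ?_⟩
    · have : y = b⁻¹ * (b * y * b⁻¹) * b := by group
      rw [this]
      exact G₁.mul_mem (G₁.mul_mem (G₁.inv_mem hbG) (h1 hy')) hbG
    · rw [memConj]
      have : g * y * g⁻¹ = a * (b * y * b⁻¹) * a⁻¹ := by rw [hg]; group
      rw [this]
      exact G₂.mul_mem (G₂.mul_mem haG (h2 hy')) (G₂.inv_mem haG)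
  set D : Subgroup G := (S : Subgroup G) ⊓ Cfsg.subgroupConjRight g (S : Subgroup G) with hD
  have hDH : D ≤ H := by
    intro d hd
    obtain ⟨hd1, hd2⟩ := Subgroup.mem_inf.mp hd
    refine Subgroup.mem_inf.mpr ⟨h1 hd1, ?_⟩
    rw [memConj] at hd2 ⊢
    exact h2 hd2
  have hDp : IsPGroup p (D.subgroupOf H) :=
    (S.isPGroup'.to_inf_left).comap_subtype
  obtain ⟨Q, hQ⟩ := hDp.exists_le_sylow
  obtain ⟨h, hh⟩ := MulAction.exists_smul_eq ↥H (P.subtype hPH) Q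
  refine ⟨(h : G) • P, ?_, Sylow.smul_le hPH h⟩
  intro d hd
  have hd' : (⟨d, hDH hd⟩ : ↥H) ∈ D.subgroupOf H := by
    rw [Subgroup.mem_subgroupOf]; exact hd
  have hdQ : (⟨d, hDH hd⟩ : ↥H) ∈ Q := hQ hd'
  rw [← hh, Sylow.smul_subtype hPH h] at hdQ
  have : (⟨d, hDH hd⟩ : ↥H) ∈ (((h : G) • P : Sylow p G) : Subgroup G).subgroupOf H := by
    rw [← Sylow.coe_subtype]; exact hdQ
  rw [Subgroup.mem_subgroupOf] at this
  exact this

end Cfsg.Agent.S2940
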