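import Cfsg.Statements.S2941
-- import your own Cfsg.Agent.* helpers here

set_option autoImplicit false
open Cfsg
open scoped commutatorElement

namespace Cfsg.Agent.S2941

/-- An element of odd order of `K ⊔ J`, with `J` a 2-group normalizing `K`, lies in `K`. -/
theorem mem_of_odd_of_mem_sup {G : Type*} [Group G] {K J : Subgroup G}
    (hJK : J ≤ Subgroup.normalizer (K : Set G)) (hJ : IsPGroup 2 ↥J) {x : G} (hx : x ∈ K ⊔ J)
    (hodd : Odd (orderOf x)) : x ∈ K := by
  classical
  set N := Subgroup.normalizer (K : Set G) with hN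
  have hKN : K ≤ N := Subgroup.le_normalizer
  have : (K.subgroupOf N).Normal := Subgroup.normal_in_normalizer
  let π := QuotientGroup.mk' (K.subgroupOf N)
  have hXN : K ⊔ J ≤ N := sup_le hKN hJK
  -- the image of `x` lies in the image of `J`
  have hle : K ⊔ J ≤ (((J.subgroupOf N).map π).comap π).map N.subtype := by
    apply sup_le
    · intro k hk
      refine ⟨⟨k, hKN hk⟩, ?_, rfl⟩
      show π ⟨k, hKN hk⟩ ∈ (J.subgroupOf N).map π
      have : π ⟨k, hKN hk⟩ = 1 := by
        rw [QuotientGroup.mk'_apply, QuotientGroup.eq_one_iff]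
        exact hk
      rw [this]; exact one_mem _
    · intro j hj
      refine ⟨⟨j, hJK hj⟩, ?_, rfl⟩
      exact ⟨⟨j, hJK hj⟩, hj, rfl⟩
  obtain ⟨y, hy, hyx⟩ := hle hx
  have hy' : π y ∈ (J.subgroupOf N).map π := hy
  have h2 : IsPGroup 2 ↥((J.subgroupOf N).map π) := by
    apply IsPGroup.map
    exact hJ.comap_subtype
  obtain ⟨k, hk⟩ := h2 ⟨π y, hy'⟩
  have hk' : (π y) ^ (2 ^ k) = 1 := by
    have := congrArg Subtype.val hk
    simpa using this
  have hordy : orderOf y = orderOf x := by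
    rw [← hyx]; exact (orderOf_injective N.subtype N.subtype_injective y).symm
  have hdvd1 : orderOf (π y) ∣ 2 ^ k := orderOf_dvd_of_pow_eq_one hk'
  have hdvd2 : orderOf (π y) ∣ orderOf x := by
    rw [← hordy]; exact orderOf_map_dvd π y
  have hcop : Nat.Coprime (orderOf x) (2 ^ k) :=
    Nat.Coprime.pow_right _ hodd.coprime_two_right
  have h1 : orderOf (π y) = 1 := Nat.eq_one_of_dvd_coprimes hcop hdvd2 hdvd1
  have hpy : π y = 1 := orderOf_eq_one_iff.1 h1
  rw [QuotientGroup.mk'_apply, QuotientGroup.eq_one_iff] at hpy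
  rw [← hyx]; exact hpy

/-- Let G be a finite group of characteristic 2 type in which every 2-local subgroup is solvable and the centralizer of Ω₁(Z(S)) lies in N_G(S) for every Sylow 2-subgroup S, and let T be a nontrivial 2-subgroup and K a J(T)-component (J the Thompson subgroup generated by the elementary abelian 2-subgroups of largest order). If a subgroup Q is normalized by ⟨K, J(T)⟩ and normalizes J(T), then Q normalizes K. -/
theorem result {G : Type*} [Group G] [Finite G] (hL : Cfsg.IsCharacteristicTwoType G) (hN : ∀ N : Subgroup G, Cfsg.IsTwoLocal N → Group.IsSolvable ↥N)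
    (hZ : ∀ S : Sylow 2 G, Subgroup.centralizer (Cfsg.omegaCenterOf (S : Subgroup G) : Set G) ≤ Subgroup.normalizer ((S : Subgroup G) : Set G)) (T : Subgroup G) (hT : IsPGroup 2 ↥T) (hT1 : T ≠ ⊥) (K : Subgroup G) (hK : Cfsg.IsJComponent T K)
    (Q : Subgroup G) (hQ1 : K ⊔ Cfsg.thompsonSubgroupOf 2 T ≤ Subgroup.normalizer (Q : Set G)) (hQ2 : Q ≤ Subgroup.normalizer (Cfsg.thompsonSubgroupOf 2 T : Set G)) :
    Q ≤ Subgroup.normalizer (K : Set G) := by
  obtain ⟨hgen, hKJ, -, -, -, -⟩ := hK
  set J := Cfsg.thompsonSubgroupOf 2 T with hJ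
  have hJT : J ≤ T := by
    rw [hJ]; unfold Cfsg.thompsonSubgroupOf; exact Subgroup.map_subtype_le _
  have hJ2 : IsPGroup 2 ↥J := hT.to_le hJT
  -- `J` normalizes `K = [K, J]`
  have hJK : J ≤ Subgroup.normalizer (K : Set G) := by
    have := Subgroup.normalizer_commutator_ge_right K J
    rwa [hKJ] at this
  -- conjugation by elements of `Q` maps `K` into `K ⊔ J`
  have hconj : ∀ q ∈ Q, ∀ k ∈ K, q * k * q⁻¹ ∈ K ⊔ J := by
    intro q hq
    have : K ≤ (K ⊔ J).comap (MulAut.conj q).toMonoidHom := by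
      conv_lhs => rw [← hKJ, Subgroup.commutator_def]
      rw [Subgroup.closure_le]
      rintro _ ⟨k, hk, j, hj, rfl⟩
      show q * ⁅k, j⁆ * q⁻¹ ∈ K ⊔ J
      have hkq : k⁻¹ * q * k ∈ Q := by
        have hkN : k⁻¹ ∈ Subgroup.normalizer (Q : Set G) :=
          inv_mem (hQ1 (Subgroup.mem_sup_left hk))
        have := (Subgroup.mem_normalizer_iff.1 hkN q).1 hq
        simpa using this
      have h1 : (k⁻¹ * q * k) * j * (k⁻¹ * q * k)⁻¹ ∈ J :=
        (Subgroup.mem_normalizer_iff.1 (hQ2 hkq) j).1 hj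
      have h2 : q * j⁻¹ * q⁻¹ ∈ J :=
        (Subgroup.mem_normalizer_iff.1 (hQ2 hq) j⁻¹).1 (inv_mem hj)
      have hkX : k ∈ K ⊔ J := Subgroup.mem_sup_left hk
      have e : q * ⁅k, j⁆ * q⁻¹ =
          k * ((k⁻¹ * q * k) * j * (k⁻¹ * q * k)⁻¹) * k⁻¹ * (q * j⁻¹ * q⁻¹) := by
        rw [commutatorElement_def]; group
      rw [e]
      exact mul_mem (mul_mem (mul_mem hkX (Subgroup.mem_sup_right h1)) (inv_mem hkX))
        (Subgroup.mem_sup_right h2)
    intro k hk
    exact this hk
  -- conjugation by elements of `Q` maps `K` into `K`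
  have hconjK : ∀ q ∈ Q, ∀ k ∈ K, q * k * q⁻¹ ∈ K := by
    intro q hq
    have : K ≤ K.comap (MulAut.conj q).toMonoidHom := by
      conv_lhs => rw [← hgen]
      rw [Subgroup.closure_le]
      rintro g ⟨hgK, hgodd⟩
      show q * g * q⁻¹ ∈ K
      apply mem_of_odd_of_mem_sup hJK hJ2 (hconj q hq g hgK)
      have : orderOf (q * g * q⁻¹) = orderOf g := by
        simpa using orderOf_injective (MulAut.conj q).toMonoidHom (MulAut.conj q).injective g
      rw [this]; exact hgodd
    intro k hk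
    exact this hk
  intro q hq
  rw [Subgroup.mem_normalizer_iff]
  intro h
  constructor
  · exact hconjK q hq h
  · intro hh
    have := hconjK q⁻¹ (inv_mem hq) _ hh
    simpa [mul_assoc] using this

end Cfsg.Agent.S2941
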