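import Cfsg.Statements.S2947
import Cfsg.Agent.Helper49.SylowGrowth
import Cfsg.Agent.Helper49.CharP

set_option autoImplicit false
open Cfsg

namespace Cfsg.Agent.S2947

open Cfsg.Agent.Helper49
open scoped Pointwise

/-- A nontrivial `2`-subgroup has even order. -/
theorem even_card_of_ne_bot {G : Type*} [Group G] [Finite G] {V : Subgroup G} (hV : IsPGroup 2 V)
    (hne : V ≠ ⊥) : 2 ∣ Nat.card V := by
  haveI : Fact (Nat.Prime 2) := ⟨Nat.prime_two⟩
  obtain ⟨n, hn⟩ := (IsPGroup.iff_card (p := 2) (G := ↥V)).mp hV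
  rcases Nat.eq_zero_or_pos n with h0 | h0
  · exfalso
    rw [h0, pow_zero] at hn
    exact hne (Subgroup.card_eq_one.mp hn)
  · rw [hn]
    exact dvd_pow_self 2 h0.ne'

/-- Let G be a finite group of characteristic 2 type in which every 2-local subgroup is solvable and the centralizer of Ω₁(Z(S)) lies in N_G(S) for every Sylow 2-subgroup S; suppose O₂(G) = 1, fix a Sylow 2-subgroup S and a 2-local subgroup M containing N_G(J(S)) (J the Thompson subgroup generated by the elementary abelian 2-subgroups of largest order). Then M is strongly embedded in G (a proper subgroup of even order whose intersection with each conjugate by an element outside M has odd order) if and only if no nontrivial 2-subgroup of M lies in a 2-local subgroup of G not contained in M. -/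
theorem result {G : Type*} [Group G] [Finite G] (hL : Cfsg.IsCharacteristicTwoType G) (hN : ∀ N : Subgroup G, Cfsg.IsTwoLocal N → Group.IsSolvable ↥N)
    (hZ : ∀ S : Sylow 2 G, Subgroup.centralizer (Cfsg.omegaCenterOf (S : Subgroup G) : Set G) ≤ Subgroup.normalizer ((S : Subgroup G) : Set G)) (hO : Cfsg.pCore 2 G = ⊥) (S : Sylow 2 G) (M : Subgroup G) (hM : Cfsg.IsTwoLocal M)
    (hMJ : Subgroup.normalizer (Cfsg.thompsonSubgroupOf 2 (S : Subgroup G) : Set G) ≤ M) :
    Cfsg.IsStronglyEmbedded M ↔ Cfsg.straddlingTwoSubgroups M = ∅ := by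
  haveI : Fact (Nat.Prime 2) := ⟨Nat.prime_two⟩
  constructor
  · -- strongly embedded ⇒ no straddling subgroups
    rintro ⟨_, _, hodd⟩
    -- SE1
    have SE1 : ∀ V : Subgroup G, IsPGroup 2 V → V ≠ ⊥ → V ≤ M →
        Subgroup.normalizer (V : Set G) ≤ M := by
      intro V hV hne hVM g hg
      by_contra hgM
      have h1 := hodd g hgM
      have hle : V ≤ M ⊓ M.map (MulAut.conj g).toMonoidHom := by
        intro v hv
        refine Subgroup.mem_inf.mpr ⟨hVM hv, ?_⟩
        have hginv : g⁻¹ ∈ Subgroup.normalizer (V : Set G) := Subgroup.inv_mem _ hg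
        have h2 : g⁻¹ * v * g⁻¹⁻¹ ∈ V := (Subgroup.mem_normalizer_iff.mp hginv v).mp hv
        exact ⟨g⁻¹ * v * g⁻¹⁻¹, hVM h2, by simp [MulAut.conj_apply, mul_assoc]⟩
      have h3 : 2 ∣ Nat.card ↥(M ⊓ M.map (MulAut.conj g).toMonoidHom) :=
        (even_card_of_ne_bot hV hne).trans (Subgroup.card_dvd_of_le hle)
      exact (Nat.not_even_iff_odd.mpr h1) (even_iff_two_dvd.mpr h3)
    rw [Set.eq_empty_iff_forall_notMem]
    rintro T ⟨hT2, hTne, hTM, L, ⟨U, hU2, hUne, rfl⟩, hTL, hLM⟩
    apply hLM
    -- R = T ⊔ U is a 2-group meeting M nontrivially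
    set R : Subgroup G := T ⊔ U with hR
    have hR2 : IsPGroup 2 R := IsPGroup.to_sup_of_normal_right' hT2 hU2 hTL
    have hRM : R ≤ M := by
      apply le_of_inf_normalizer_inf_le hR2
      have hne : R ⊓ M ≠ ⊥ := by
        intro h
        apply hTne
        rw [eq_bot_iff, ← h]
        exact le_inf le_sup_left hTM
      exact inf_le_right.trans (SE1 _ (hR2.to_inf_left) hne inf_le_right)
    exact SE1 U hU2 hUne (le_sup_right.trans hRM)
  · -- no straddling subgroups ⇒ strongly embedded
    intro hempty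
    have star : ∀ T : Subgroup G, IsPGroup 2 T → T ≠ ⊥ → T ≤ M →
        ∀ L : Subgroup G, Cfsg.IsTwoLocal L → T ≤ L → L ≤ M := by
      intro T hT2 hTne hTM L hL hTL
      by_contra hLM
      have : T ∈ Cfsg.straddlingTwoSubgroups M := ⟨hT2, hTne, hTM, L, hL, hTL, hLM⟩
      rw [hempty] at this
      exact this
    -- Claim A
    have claimA : ∀ R : Subgroup G, IsPGroup 2 R → R ⊓ M ≠ ⊥ → R ≤ M := by
      intro R hR2 hne
      apply le_of_inf_normalizer_inf_le hR2
      refine inf_le_right.trans ?_
      exact star (R ⊓ M) hR2.to_inf_left hne inf_le_right _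
        ⟨R ⊓ M, hR2.to_inf_left, hne, rfl⟩ Subgroup.le_normalizer
    obtain ⟨U₀, hU₀2, hU₀ne, hMU₀⟩ := hM
    have hU₀M : U₀ ≤ M := by rw [hMU₀]; exact Subgroup.le_normalizer
    refine ⟨?_, ?_, ?_⟩
    · intro htop
      have hn : U₀.Normal := by
        rw [← Subgroup.normalizer_eq_top_iff, ← hMU₀, htop]
      have : U₀ ≤ Cfsg.pCore 2 G := le_pCore hn hU₀2
      rw [hO, le_bot_iff] at this
      exact hU₀ne this
    · exact even_iff_two_dvd.mpr ((even_card_of_ne_bot hU₀2 hU₀ne).trans (Subgroup.card_dvd_of_le hU₀M))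
    · intro g hgM
      rw [← Nat.not_even_iff_odd]
      intro heven
      have h2 : 2 ∣ Nat.card ↥(M ⊓ M.map (MulAut.conj g).toMonoidHom) := even_iff_two_dvd.mp heven
      obtain ⟨t, ht⟩ := exists_prime_orderOf_dvd_card' 2 h2
      obtain ⟨htM, t', ht'M, ht't⟩ := Subgroup.mem_inf.mp t.2
      have ht'eq : g * t' * g⁻¹ = (t : G) := by simpa [MulAut.conj_apply] using ht't
      have hto : orderOf (t : G) = 2 := by rw [Subgroup.orderOf_coe]; exact ht
      have ht'o : orderOf t' = 2 := by
        rw [← hto, ← ht'eq]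
        have : g * t' * g⁻¹ = MulAut.conj g t' := by simp [MulAut.conj_apply]
        rw [this, MulEquiv.orderOf_eq]
      have ht'1 : t' ≠ 1 := by
        intro h; rw [h, orderOf_one] at ht'o; omega
      have ht1 : (t : G) ≠ 1 := by
        intro h; rw [h, orderOf_one] at hto; omega
      have hzp : IsPGroup 2 (Subgroup.zpowers t') := by
        apply IsPGroup.of_card (n := 1)
        rw [Nat.card_zpowers, ht'o, pow_one]
      obtain ⟨S', hS'⟩ := hzp.exists_le_sylow
      have ht'S' : t' ∈ S' := hS' (Subgroup.mem_zpowers t')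
      have hS'M : (S' : Subgroup G) ≤ M := by
        apply claimA _ S'.isPGroup'
        intro h
        have : t' ∈ (S' : Subgroup G) ⊓ M := Subgroup.mem_inf.mpr ⟨ht'S', ht'M⟩
        rw [h, Subgroup.mem_bot] at this
        exact ht'1 this
      have htgS' : (t : G) ∈ ((g • S' : Sylow 2 G) : Subgroup G) := by
        change (t : G) ∈ MulAut.conj g • (S' : Subgroup G)
        rw [← ht'eq]
        have := Subgroup.smul_mem_pointwise_smul t' (MulAut.conj g) (S' : Subgroup G) ht'S'
        simpa [MulAut.smul_def, MulAut.conj_apply] using this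
      have hgS'M : ((g • S' : Sylow 2 G) : Subgroup G) ≤ M := by
        apply claimA _ (g • S' : Sylow 2 G).isPGroup'
        intro h
        have : (t : G) ∈ ((g • S' : Sylow 2 G) : Subgroup G) ⊓ M := Subgroup.mem_inf.mpr ⟨htgS', htM⟩
        rw [h, Subgroup.mem_bot] at this
        exact ht1 this
      obtain ⟨m, hm⟩ := MulAction.exists_smul_eq ↥M (S'.subtype hS'M) ((g • S' : Sylow 2 G).subtype hgS'M)
      rw [Sylow.smul_subtype hS'M m] at hm
      have hm' : (m : G) • S' = g • S' := Sylow.subtype_injective hm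
      have hmg : ((m : G)⁻¹ * g) • S' = S' := by
        rw [mul_smul, ← hm', inv_smul_smul]
      have hnorm : (m : G)⁻¹ * g ∈ Subgroup.normalizer ((S' : Subgroup G) : Set G) :=
        Sylow.smul_eq_iff_mem_normalizer.mp hmg
      have hS'ne : (S' : Subgroup G) ≠ ⊥ := by
        intro h
        have : t' ∈ (S' : Subgroup G) := ht'S'
        rw [h, Subgroup.mem_bot] at this
        exact ht'1 this
      have hNM : Subgroup.normalizer ((S' : Subgroup G) : Set G) ≤ M :=
        star _ S'.isPGroup' hS'ne hS'M _ ⟨S', S'.isPGroup', hS'ne, rfl⟩ Subgroup.le_normalizer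
      apply hgM
      have : g = (m : G) * ((m : G)⁻¹ * g) := by group
      rw [this]
      exact M.mul_mem m.2 (hNM hnorm)

end Cfsg.Agent.S2947
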