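import Cfsg.Statements.S2950
import Cfsg.Agent.Helper49.ZNUnique2

set_option autoImplicit false
open Cfsg

namespace Cfsg.Agent.S2950

/-- Uniqueness of the maximal 2-local overgroup. Let G be a finite group of characteristic 2 type in which every 2-local subgroup is solvable and the centralizer of Ω₁(Z(S)) lies in N_G(S) for every Sylow 2-subgroup S; suppose O₂(G) = 1, fix a Sylow 2-subgroup S and a 2-local subgroup M containing N_G(J(S)) (J the Thompson subgroup generated by the elementary abelian 2-subgroups of largest order). Let T be maximal (for the order of a largest elementary abelian subgroup, then the order of J(T), then the order of T) among the nontrivial 2-subgroups of M lying in a 2-local subgroup not inside M, and let K be a J(T)-component not contained in M with J(T) the Thompson subgroup of every Sylow 2-subgroup of N_G(W_K) containing J(T), and O₂(⟨K, T⟩) ≠ 1. Then there is exactly one maximal 2-local subgroup L of G containing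 ⟨K, J(T)⟩; moreover K is subnormal in L and T is a Sylow 2-subgroup of L. -/
theorem result {G : Type*} [Group G] [Finite G] (hL : Cfsg.IsCharacteristicTwoType G) (hN : ∀ N : Subgroup G, Cfsg.IsTwoLocal N → Group.IsSolvable ↥N)
    (hZ : ∀ S : Sylow 2 G, Subgroup.centralizer (Cfsg.omegaCenterOf (S : Subgroup G) : Set G) ≤ Subgroup.normalizer ((S : Subgroup G) : Set G)) (hO : Cfsg.pCore 2 G = ⊥) (S : Sylow 2 G) (M : Subgroup G) (hM : Cfsg.IsTwoLocal M)
    (hMJ : Subgroup.normalizer (Cfsg.thompsonSubgroupOf 2 (S : Subgroup G) : Set G) ≤ M) (T : Subgroup G) (hT : T ∈ Cfsg.maxStraddlingTwoSubgroups M)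
    (K : Subgroup G) (hK : K ∈ Cfsg.jComponentsOutside M T) :
    ∃ L : Subgroup G, Cfsg.IsMaximalTwoLocal L ∧ K ⊔ Cfsg.thompsonSubgroupOf 2 T ≤ L ∧
      (∀ L' : Subgroup G, Cfsg.IsMaximalTwoLocal L' → K ⊔ Cfsg.thompsonSubgroupOf 2 T ≤ L' → L' = L) ∧
      (K.subgroupOf L).IsSubnormal ∧ Cfsg.IsSylowTwoIn T L := by
  haveI : Fact (Nat.Prime 2) := ⟨Nat.prime_two⟩
  obtain ⟨hK0, hKM, hO2⟩ := hK
  obtain ⟨hT2, hT1, hTM, -⟩ := hT.1
  -- a maximal 2-local subgroup containing `⟨K, T⟩`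
  have hR2 : IsPGroup 2 ↥(Cfsg.pCoreOf 2 (K ⊔ T)) := Cfsg.Agent.Helper46.pCoreOf_isPGroup _
  have hloc : Cfsg.IsTwoLocal (Subgroup.normalizer ((Cfsg.pCoreOf 2 (K ⊔ T) : Subgroup G) : Set G)) :=
    ⟨_, hR2, hO2, rfl⟩
  obtain ⟨L, hLmax, hNL⟩ := Cfsg.Agent.Helper49.ZN.exists_isMaximalTwoLocal_ge hloc
  have hPL : K ⊔ T ≤ L := (Cfsg.Agent.Helper46.pCoreOf_normalized (K ⊔ T)).trans hNL
  have hKL : K ≤ L := le_sup_left.trans hPL
  have hTL : T ≤ L := le_sup_right.trans hPL
  have hLM : ¬ L ≤ M := fun hc => hKM (hKL.trans hc)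
  have hTsyl := Cfsg.Agent.Helper49.ZN.isSylowTwoIn_of_le S hMJ hT hLmax.1 hLM hTL
  have hLT : L ∈ Cfsg.jOvergroups T :=
    Cfsg.Agent.Helper49.ZN.mem_jOvergroups_of_sylow hL S hMJ hT hLmax.1 hLM hTsyl
      (Cfsg.Agent.Helper49.JComp.thompsonSubgroupOf_le 2 T)
  have hJL : Cfsg.thompsonSubgroupOf 2 T ≤ L :=
    (Cfsg.Agent.Helper49.JComp.thompsonSubgroupOf_le 2 T).trans hTL
  refine ⟨L, hLmax, sup_le hKL hJL, ?_, ?_, hTsyl⟩
  · intro L' hL' hle
    exact Cfsg.Agent.Helper49.ZN.maximalTwoLocal_unique hL hN hZ S hMJ hT hK0.1 hKM hL' hLmax hle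
      (sup_le hKL hJL)
  · exact Cfsg.Agent.Helper49.ZN.subnormal_of_mem_jOvergroups hN hZ hT1 hLT hK0.1 hKL

end Cfsg.Agent.S2950
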