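import Cfsg.Statements.S2955
import Cfsg.Agent.Helper49.SylowChain

set_option autoImplicit false
open Cfsg

namespace Cfsg.Agent.S2955

open Cfsg.Agent.Helper49

/-- Let p be a prime dividing the order of the finite group G and 𝓕 a conjugation-closed family of subgroups that controls Sylow p-intersections in G. Suppose the Sylow p-subgroups of G are chain-connected: any two of them are joined by a chain of Sylow p-subgroups, consecutive ones distinct with nontrivial intersection, all containing the intersection of the two ends (equivalently, the graph on the Sylow p-subgroups whose edges are the distinct pairs meeting nontrivially is connected). Then for every Sylow p-subgroup S, G is generated by N_G(S) together with the members of 𝓕 that meet S in a Sylow p-subgroup of themselves. -/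
theorem result {G : Type*} [Group G] [Finite G] (p : ℕ) [Fact p.Prime] (hdiv : p ∣ Nat.card G)
    (𝓕 : Set (Subgroup G)) (h𝓕 : Cfsg.IsNormalSet 𝓕) (hc : Cfsg.ControlsSylowIntersections p 𝓕)
    (hconn : Cfsg.IsSylowChainConnected p G) (S : Sylow p G) :
    (⨆ X ∈ Cfsg.sylowMembers p 𝓕 (S : Subgroup G), X) ⊔ Subgroup.normalizer ((S : Subgroup G) : Set G) = ⊤ := by
  classical
  set H : Subgroup G := (⨆ X ∈ Cfsg.sylowMembers p 𝓕 (S : Subgroup G), X) ⊔
    Subgroup.normalizer ((S : Subgroup G) : Set G) with hH
  have step : ∀ (D : Subgroup G) (A B : Sylow p G), GLink p 𝓕 D A B →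
      (∃ h ∈ H, subgroupConjRight h (S : Subgroup G) = (A : Subgroup G)) →
      ∃ h ∈ H, subgroupConjRight h (S : Subgroup G) = (B : Subgroup G) := by
    rintro D A B ⟨hA, hB, X, hX, hAX, hBX, hDX, x, hx, hxB⟩ ⟨h, hh, hhA⟩
    have hX' : subgroupConjRight h⁻¹ X ∈ sylowMembers p 𝓕 (S : Subgroup G) := by
      rw [mem_sylowMembers_iff]
      refine ⟨h𝓕 X hX h⁻¹, ?_⟩
      have := isSylowOf_scr h⁻¹ hAX
      rwa [scr_inf, ← hhA, scr_scr_inv] at this
    have hle : subgroupConjRight h⁻¹ X ≤ H :=
      le_sup_of_le_left (le_iSup₂_of_le _ hX' le_rfl)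
    have hx' : h * x * h⁻¹ ∈ H := hle (by
      have := conj_mem_scr (g := h⁻¹) hx
      simpa using this)
    have hxH : x ∈ H := by
      have := H.mul_mem (H.mul_mem (H.inv_mem hh) hx') hh
      simpa [mul_assoc] using this
    refine ⟨h * x⁻¹, H.mul_mem hh (H.inv_mem hxH), ?_⟩
    rw [scr_mul, hhA, ← hxB, scr_scr_inv]
  have conn : ∀ (D : Subgroup G) (A B : Sylow p G), GConn p 𝓕 D A B →
      (∃ h ∈ H, subgroupConjRight h (S : Subgroup G) = (A : Subgroup G)) →
      ∃ h ∈ H, subgroupConjRight h (S : Subgroup G) = (B : Subgroup G) := by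
    intro D A B hcn hA
    induction hcn with
    | refl => exact hA
    | tail _ h2 ih => exact step _ _ _ h2 ih
  have all : ∀ T : Sylow p G, ∃ h ∈ H, subgroupConjRight h (S : Subgroup G) = (T : Subgroup G) := by
    intro T
    obtain ⟨n, c, hc0, hcn, _, hstep⟩ := hconn S T
    have key : ∀ i : Fin (n + 1), ∃ h ∈ H,
        subgroupConjRight h (S : Subgroup G) = (c i : Subgroup G) := by
      intro i
      induction i using Fin.induction with
      | zero => exact ⟨1, H.one_mem, by rw [scr_one, hc0]⟩
      | succ i ih =>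
        obtain ⟨hne, hint⟩ := hstep i
        exact conn _ _ _ (controls_iff.mp hc _ _ hne hint) ih
    have := key (Fin.last n)
    rwa [hcn] at this
  rw [eq_top_iff]
  intro g _
  obtain ⟨h, hh, hhS⟩ := all (sconj g S)
  rw [coe_sconj] at hhS
  have h1 : g * h⁻¹ ∈ Subgroup.normalizer ((S : Subgroup G) : Set G) :=
    mem_normalizer_of_scr_eq_self (by rw [scr_mul, ← hhS, scr_scr_inv])
  have := H.mul_mem (le_sup_right (a := ⨆ X ∈ Cfsg.sylowMembers p 𝓕 (S : Subgroup G), X) h1) hh
  simpa using this

end Cfsg.Agent.S2955
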