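import Cfsg.Statements.S2956
import Cfsg.Agent.Helper49.FunctorChain
import Cfsg.Agent.Helper49.SylowGrowth

set_option autoImplicit false
open Cfsg

namespace Cfsg.Agent.S2956

open Cfsg.Agent.Helper49

variable {G : Type*} [Group G] {p : ℕ}

theorem exists_maximal_plocal_ge [Finite G] {L : Subgroup G} (hL : IsPLocal p L) :
    ∃ M, IsMaximalPLocal p M ∧ L ≤ M := by
  have key : ∀ (k : ℕ) (L : Subgroup G), IsPLocal p L → Nat.card G - Nat.card L = k →
      ∃ M, IsMaximalPLocal p M ∧ L ≤ M := by
    intro k
    induction k using Nat.strong_induction_on with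
    | _ k ih =>
    intro L hL hk
    by_cases hmax : ∀ N, IsPLocal p N → L ≤ N → N = L
    · exact ⟨L, ⟨hL, hmax⟩, le_rfl⟩
    · push Not at hmax
      obtain ⟨N, hN, hLN, hne⟩ := hmax
      have hlt : Nat.card L < Nat.card N := by
        by_contra hcon
        push Not at hcon
        exact hne (Subgroup.eq_of_le_of_card_ge hLN hcon).symm
      have hNG : Nat.card N ≤ Nat.card G := Subgroup.card_le_card_group N
      obtain ⟨M, hM, hNM⟩ := ih (Nat.card G - Nat.card N) (by omega) N hN rfl
      exact ⟨M, hM, hLN.trans hNM⟩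
  exact key _ L hL rfl

theorem card_lt_of_le_of_ne [Finite G] {H K : Subgroup G} (h : H ≤ K) (hne : H ≠ K) :
    Nat.card H < Nat.card K := by
  by_contra hcon
  push Not at hcon
  exact hne (Subgroup.eq_of_le_of_card_ge h hcon)

/-- Normalizers grow: a proper subgroup `D` of a `p`-group `S` is proper in `N_S(D)`. -/
theorem card_lt_inf_normalizer [Finite G] [Fact p.Prime] {S D : Subgroup G} (hS : IsPGroup p S)
    (hDS : D ≤ S) (hne : D ≠ S) :
    Nat.card D < Nat.card ↥(S ⊓ Subgroup.normalizer (D : Set G)) := by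
  apply card_lt_of_le_of_ne (le_inf hDS Subgroup.le_normalizer)
  intro h
  apply hne
  apply le_antisymm hDS
  apply le_of_inf_normalizer_inf_le hS
  rw [inf_eq_right.mpr hDS, ← h]

/-- Let p be a prime dividing the order of the finite group G, and f an assignment to every p-subgroup P of a set f(P) of subgroups of P, each normalized by N_G(P), compatible with conjugation, such that for P ≠ 1 the members of f(P) are nontrivial. Let 𝓕 be the family of the normalizers N_G(F) of the members F of f(S) over the Sylow p-subgroups S of G, and 𝓕' the family of the maximal p-local subgroups M of G that are singular for f (the corresponding family of normalizers inside M does not control Sylow p-intersections in M). Then 𝓕 ∪ 𝓕' controls Sylow p-intersections in G. -/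
theorem result {G : Type*} [Group G] [Finite G] (p : ℕ) [Fact p.Prime] (hdiv : p ∣ Nat.card G)
    (f : Subgroup G → Set (Subgroup G)) (hf : Cfsg.IsNormalizerFunctor p f)
    (hf1 : ∀ P : Subgroup G, IsPGroup p ↥P → P ≠ ⊥ → ∀ F ∈ f P, F ≠ ⊥)
    (𝓕 𝓕' : Set (Subgroup G)) (h𝓕 : 𝓕 = Cfsg.functorFamily p f ⊤)
    (h𝓕' : 𝓕' = {M | Cfsg.IsMaximalPLocal p M ∧ ¬ Cfsg.IsFunctorRegular p f M}) :
    Cfsg.ControlsSylowIntersections p (𝓕 ∪ 𝓕') := by
  apply controls_of_gconn
  have main : ∀ (k : ℕ) (D : Subgroup G), D ≠ ⊥ → Nat.card G - Nat.card D = k →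
      ∀ S T : Sylow p G, D ≤ (S : Subgroup G) → D ≤ (T : Subgroup G) →
        GConn p (𝓕 ∪ 𝓕') D S T := by
    intro k
    induction k using Nat.strong_induction_on with
    | _ k ihk =>
    intro D hD hk
    -- outer induction hypothesis in convenient form
    have IH : ∀ D' : Subgroup G, D' ≠ ⊥ → Nat.card D < Nat.card D' →
        ∀ S T : Sylow p G, D' ≤ (S : Subgroup G) → D' ≤ (T : Subgroup G) →
          GConn p (𝓕 ∪ 𝓕') D' S T := by
      intro D' hD' hlt
      have hle : Nat.card D' ≤ Nat.card G := Subgroup.card_le_card_group D'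
      exact ihk (Nat.card G - Nat.card D') (by omega) D' hD' rfl
    -- inner claim, by induction on the size of a Sylow subgroup of M
    have Q : ∀ (j : ℕ) (M : Subgroup G), IsMaximalPLocal p M →
        ∀ (T : Sylow p G) (y : G) (D' P : Subgroup G), IsSylowOf p P M →
          Nat.card G - Nat.card P = j → D' ≠ ⊥ → Nat.card D ≤ Nat.card D' →
          D' ≤ (T : Subgroup G) → D' ≤ M → D' ≤ subgroupConjRight y (T : Subgroup G) → y ∈ M →
          Nat.card D < Nat.card ↥((T : Subgroup G) ⊓ M) →
          GConn p (𝓕 ∪ 𝓕') D' T (sconj y T) := by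
      intro j
      induction j using Nat.strong_induction_on with
      | _ j ihj =>
      intro M hM T y D' P hP hj hD' hn hDT hDM hDy hyM hTM
      -- Step 2: move to Sylow subgroups meeting M in Sylow subgroups of M
      set E : Subgroup G := (T : Subgroup G) ⊓ M with hEdef
      have hEp : IsPGroup p E := T.isPGroup'.to_inf_left
      have hD'E : D' ≤ E := le_inf hDT hDM
      have hEne : E ≠ ⊥ := ne_bot_of_le_ne_bot hD' hD'E
      obtain ⟨T₁, hT₁M, hET₁⟩ := exists_sylow_inf_isSylowOf hEp (inf_le_right : E ≤ M)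
      have c1 : GConn p (𝓕 ∪ 𝓕') D' T T₁ :=
        (IH E hEne hTM T T₁ inf_le_left hET₁).mono_left hD'E
      have hyMM : subgroupConjRight y M = M := scr_eq_self_of_mem hyM
      have hD'Ey : D' ≤ subgroupConjRight y E := by
        rw [hEdef, scr_inf, hyMM]; exact le_inf hDy hDM
      have c2 : GConn p (𝓕 ∪ 𝓕') D' (sconj y T) (sconj y T₁) := by
        refine (IH (subgroupConjRight y E) (scr_ne_bot hEne) (by rw [card_scr]; exact hTM)
          (sconj y T) (sconj y T₁) ?_ ?_).mono_left hD'Ey
        · rw [coe_sconj]; exact scr_mono y inf_le_left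
        · rw [coe_sconj]; exact scr_mono y hET₁
      suffices c3 : GConn p (𝓕 ∪ 𝓕') D' T₁ (sconj y T₁) from c1.trans (c3.trans c2.symm)
      set P₁ : Subgroup G := (T₁ : Subgroup G) ⊓ M with hP₁def
      have hEP₁ : E ≤ P₁ := le_inf hET₁ inf_le_right
      have hD'P₁ : D' ≤ P₁ := hD'E.trans hEP₁
      have hnP₁ : Nat.card D < Nat.card P₁ := lt_of_lt_of_le hTM (Subgroup.card_le_of_le hEP₁)
      have hP₁y : subgroupConjRight y P₁ = ((sconj y T₁ : Sylow p G) : Subgroup G) ⊓ M := by
        rw [hP₁def, scr_inf, hyMM, coe_sconj]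
      have hP₁'M : IsSylowOf p (subgroupConjRight y P₁) M := isSylowOf_scr_of_mem hyM hT₁M
      have hD'P₁' : D' ≤ subgroupConjRight y P₁ := hD'Ey.trans (scr_mono y hEP₁)
      by_cases hreg : IsFunctorRegular p f M
      swap
      · -- M singular: a single link through M
        have hM𝓕 : M ∈ 𝓕 ∪ 𝓕' := Or.inr (by rw [h𝓕']; exact ⟨hM, hreg⟩)
        have hl : GLink p (𝓕 ∪ 𝓕') D' (sconj y T₁) T₁ := by
          refine ⟨?_, hD'P₁.trans inf_le_left, M, hM𝓕, ?_, hT₁M, hDM, y, hyM, ?_⟩
          · rw [coe_sconj]; exact hD'P₁'.trans (scr_mono y inf_le_left)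
          · rw [← hP₁y]; exact hP₁'M
          · rw [coe_sconj]
        exact (GConn.of_link hl).symm
      · -- M regular
        have hFC := fcontrols_of_regular hf hreg
        by_cases hPP : P₁ = subgroupConjRight y P₁
        · refine (IH P₁ (ne_bot_of_le_ne_bot hD' hD'P₁) hnP₁ T₁ (sconj y T₁) inf_le_left ?_).mono_left
            hD'P₁
          rw [hPP, hP₁y]; exact inf_le_left
        · have hconnM : FConn p f M D' P₁ (subgroupConjRight y P₁) :=
            hFC.fconn hT₁M hP₁'M hD' hD'P₁ hD'P₁'
          have claim : ∀ C : Subgroup G, FConn p f M D' P₁ C →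
              ∃ R : Sylow p G, (R : Subgroup G) ⊓ M = C ∧ GConn p (𝓕 ∪ 𝓕') D' T₁ R := by
            intro C hC
            induction hC with
            | refl => exact ⟨T₁, rfl, GConn.refl _⟩
            | @tail C₁ C₂ _ hl ih =>
              obtain ⟨R, hRM, hR⟩ := ih
              obtain ⟨F, hFC₁, hFC₂, hFleC₁, hFleC₂, hC₁N, hC₂N, x, hx, hxC⟩ := hl.data hf
              obtain ⟨hC₁M, hC₂M, hD'C₁, hD'C₂, _⟩ := hl
              have hxM : subgroupConjRight x⁻¹ M = M := scr_eq_self_of_mem (M.inv_mem hx.1)
              have hC₂eq : C₂ = subgroupConjRight x⁻¹ C₁ := scr_eq_iff.mp hxC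
              set R' : Sylow p G := sconj x⁻¹ R with hR'def
              have hR'coe : (R' : Subgroup G) = subgroupConjRight x⁻¹ (R : Subgroup G) :=
                coe_sconj _ _
              have hR'M : (R' : Subgroup G) ⊓ M = C₂ := by
                rw [hR'coe, hC₂eq, ← hRM, scr_inf, hxM]
              have hxR' : subgroupConjRight x (R' : Subgroup G) = (R : Subgroup G) := by
                rw [hR'coe, scr_inv_scr]
              have hD'R : D' ≤ (R : Subgroup G) := hD'C₁.trans (hRM ▸ inf_le_left)
              have hD'R' : D' ≤ (R' : Subgroup G) := hD'C₂.trans (hR'M ▸ inf_le_left)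
              have hC₁R : C₁ ≤ (R : Subgroup G) := hRM ▸ inf_le_left
              have hC₂R' : C₂ ≤ (R' : Subgroup G) := hR'M ▸ inf_le_left
              refine ⟨R', hR'M, hR.trans ?_⟩
              by_cases hFD : F ≤ D'
              · by_cases hRleM : (R' : Subgroup G) ≤ M
                · -- Sylow of M is Sylow of G: link through N_G(F) ∈ 𝓕
                  have hR'eq : (R' : Subgroup G) = C₂ := by
                    rw [← hR'M]; exact (inf_eq_left.mpr hRleM).symm
                  have hfl : FLink p f ⊤ D' (R : Subgroup G) (R' : Subgroup G) :=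
                    ⟨isSylowOf_top R, isSylowOf_top R', hD'R, hD'R', F, hR'eq ▸ hFC₂, x,
                      ⟨Subgroup.mem_top _, hx.2⟩, hxR'⟩
                  have hgl := glink_top_of_flink hf hfl
                  rw [← h𝓕] at hgl
                  exact GConn.of_link (hgl.mono_family Set.subset_union_left)
                · -- pass to a maximal p-local containing N_G(F)
                  have hC₂p : IsPGroup p C₂ := hC₂M.2.1
                  have hC₂ne : C₂ ≠ ⊥ := ne_bot_of_le_ne_bot hD' hD'C₂
                  have hFne : F ≠ ⊥ := hf1 C₂ hC₂p hC₂ne F hFC₂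
                  have hL : IsPLocal p (Subgroup.normalizer (F : Set G)) :=
                    ⟨F, hC₂p.to_le hFleC₂, hFne, rfl⟩
                  obtain ⟨M', hM', hLM'⟩ := exists_maximal_plocal_ge hL
                  have hNC₂ : Subgroup.normalizer (C₂ : Set G) ≤ M' :=
                    (((hf C₂ hC₂p).1 F hFC₂).2).trans hLM'
                  have hC₂M' : C₂ ≤ M' := Subgroup.le_normalizer.trans hNC₂
                  have hlt : Nat.card C₂ < Nat.card ↥((R' : Subgroup G) ⊓ M') := by
                    apply card_lt_of_le_of_ne (le_inf hC₂R' hC₂M')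
                    intro heq
                    apply hRleM
                    apply le_of_inf_normalizer_inf_le R'.isPGroup'
                    rw [hR'M]
                    calc (R' : Subgroup G) ⊓ Subgroup.normalizer (C₂ : Set G)
                        ≤ (R' : Subgroup G) ⊓ M' := inf_le_inf_left _ hNC₂
                      _ = C₂ := heq.symm
                      _ ≤ M := hC₂M.1
                  obtain ⟨P', hP', hRP'⟩ := exists_isSylowOf_ge
                    (R'.isPGroup'.to_inf_left : IsPGroup p ↥((R' : Subgroup G) ⊓ M')) inf_le_right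
                  have hcard1 : Nat.card C₂ = Nat.card P := by rw [hC₂M.card_eq, hP.card_eq]
                  have hcard2 : Nat.card ↥((R' : Subgroup G) ⊓ M') ≤ Nat.card P' :=
                    Subgroup.card_le_of_le hRP'
                  have hcard3 : Nat.card P' ≤ Nat.card G := Subgroup.card_le_card_group P'
                  have hcard4 : Nat.card P₁ = Nat.card P := by rw [hT₁M.card_eq, hP.card_eq]
                  have hrec := ihj (Nat.card G - Nat.card P') (by omega) M' hM' R' x D' P' hP' rfl
                    hD' hn hD'R' (hD'C₂.trans hC₂M') (hxR'.symm ▸ hD'R) (hLM' hx.2) (by omega)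
                  have e : sconj x R' = R := by
                    apply Sylow.ext
                    rw [coe_sconj, hxR']
                  rw [e] at hrec
                  exact hrec.symm
              · -- F ≰ D': enlarge D'
                have hD₂R : D' ⊔ F ≤ (R : Subgroup G) := sup_le hD'R (hFleC₁.trans hC₁R)
                have hD₂R' : D' ⊔ F ≤ (R' : Subgroup G) := sup_le hD'R' (hFleC₂.trans hC₂R')
                have hlt : Nat.card D' < Nat.card ↥(D' ⊔ F) := by
                  apply card_lt_of_le_of_ne le_sup_left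
                  intro heq
                  apply hFD
                  rw [heq]; exact le_sup_right
                exact (IH (D' ⊔ F) (ne_bot_of_le_ne_bot hD' le_sup_left) (by omega) R R' hD₂R
                  hD₂R').mono_left le_sup_left
          obtain ⟨R, hRM, hR⟩ := claim _ hconnM
          have hcardP : Nat.card ↥(subgroupConjRight y P₁) = Nat.card P₁ := card_scr y P₁
          have c4 : GConn p (𝓕 ∪ 𝓕') D' R (sconj y T₁) := by
            refine (IH (subgroupConjRight y P₁) (ne_bot_of_le_ne_bot hD' hD'P₁') (by omega) R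
              (sconj y T₁) ?_ ?_).mono_left hD'P₁'
            · rw [← hRM]; exact inf_le_left
            · rw [hP₁y]; exact inf_le_left
          exact hR.trans c4
    -- Step 1: the outer argument
    intro S T hDS hDT
    by_cases hDeqS : D = (S : Subgroup G)
    · have : S = T := sylow_ext_of_le (hDeqS ▸ hDT)
      rw [this]; exact GConn.refl _
    have hDeqT : D ≠ (T : Subgroup G) := by
      intro h
      have : T = S := sylow_ext_of_le (h ▸ hDS)
      exact hDeqS (this ▸ h)
    have hDp : IsPGroup p D := S.isPGroup'.to_le hDS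
    set N : Subgroup G := Subgroup.normalizer (D : Set G) with hNdef
    have hDN : D ≤ N := Subgroup.le_normalizer
    have hES : Nat.card D < Nat.card ↥((S : Subgroup G) ⊓ N) :=
      card_lt_inf_normalizer S.isPGroup' hDS hDeqS
    have hET : Nat.card D < Nat.card ↥((T : Subgroup G) ⊓ N) :=
      card_lt_inf_normalizer T.isPGroup' hDT hDeqT
    have hESne : (S : Subgroup G) ⊓ N ≠ ⊥ := ne_bot_of_le_ne_bot hD (le_inf hDS hDN)
    have hETne : (T : Subgroup G) ⊓ N ≠ ⊥ := ne_bot_of_le_ne_bot hD (le_inf hDT hDN)
    obtain ⟨S₁, hS₁N, hES₁⟩ := exists_sylow_inf_isSylowOf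
      (S.isPGroup'.to_inf_left : IsPGroup p ↥((S : Subgroup G) ⊓ N)) inf_le_right
    obtain ⟨T₁, hT₁N, hET₁⟩ := exists_sylow_inf_isSylowOf
      (T.isPGroup'.to_inf_left : IsPGroup p ↥((T : Subgroup G) ⊓ N)) inf_le_right
    have c1 : GConn p (𝓕 ∪ 𝓕') D S S₁ :=
      (IH _ hESne hES S S₁ inf_le_left hES₁).mono_left (le_inf hDS hDN)
    have c2 : GConn p (𝓕 ∪ 𝓕') D T T₁ :=
      (IH _ hETne hET T T₁ inf_le_left hET₁).mono_left (le_inf hDT hDN)
    obtain ⟨x, hxN, hx⟩ := hT₁N.exists_conj hS₁N
    have hES₁' : (S : Subgroup G) ⊓ N ≤ (S₁ : Subgroup G) ⊓ N := le_inf hES₁ inf_le_right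
    have hET₁' : (T : Subgroup G) ⊓ N ≤ (T₁ : Subgroup G) ⊓ N := le_inf hET₁ inf_le_right
    have hA₁card : Nat.card D < Nat.card ↥((S₁ : Subgroup G) ⊓ N) :=
      lt_of_lt_of_le hES (Subgroup.card_le_of_le hES₁')
    have c3 : GConn p (𝓕 ∪ 𝓕') D (sconj x T₁) S₁ := by
      refine (IH _ (ne_bot_of_le_ne_bot hESne hES₁') hA₁card (sconj x T₁) S₁ ?_
        inf_le_left).mono_left ((le_inf hDS hDN).trans hES₁')
      rw [coe_sconj, ← hx]
      exact scr_mono x inf_le_left
    have hNloc : IsPLocal p N := ⟨D, hDp, hD, rfl⟩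
    obtain ⟨M, hM, hNM⟩ := exists_maximal_plocal_ge hNloc
    obtain ⟨P, hP, _⟩ := exists_isSylowOf_ge (IsPGroup.of_bot : IsPGroup p (⊥ : Subgroup G))
      (bot_le : (⊥ : Subgroup G) ≤ M)
    have hDT₁ : D ≤ (T₁ : Subgroup G) := (le_inf hDT hDN).trans hET₁
    have hDxT₁ : D ≤ subgroupConjRight x (T₁ : Subgroup G) := by
      have := scr_mono x hDT₁
      rwa [scr_eq_self_of_mem_normalizer hxN] at this
    have hT₁Mcard : Nat.card D < Nat.card ↥((T₁ : Subgroup G) ⊓ M) :=
      lt_of_lt_of_le hET (Subgroup.card_le_of_le (le_inf hET₁ (inf_le_right.trans hNM)))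
    have c4 : GConn p (𝓕 ∪ 𝓕') D T₁ (sconj x T₁) :=
      Q (Nat.card G - Nat.card P) M hM T₁ x D P hP rfl hD le_rfl hDT₁ (hDN.trans hNM) hDxT₁
        (hNM hxN) hT₁Mcard
    exact c1.trans (c3.symm.trans (c4.symm.trans c2.symm))
  intro D hD S T hDS hDT
  exact main _ D hD rfl S T hDS hDT

end Cfsg.Agent.S2956
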