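import Cfsg.Statements.S2957
import Cfsg.Agent.Helper49.FunctorChain
import Cfsg.Agent.S2940

set_option autoImplicit false
open Cfsg

namespace Cfsg.Agent.S2957

open Cfsg.Agent.Helper49

/-- Let p be a prime dividing the order of the finite group G, f an equivariant assignment of a set of subgroups f(P) of P to every p-subgroup P, each normalized by N_G(P), and S a Sylow p-subgroup. If G = G₁G₂ for subgroups G₁, G₂ both containing S and both regular for f (in each Gᵢ, the family of normalizers in Gᵢ of the members of f(P), P a Sylow p-subgroup of Gᵢ, controls Sylow p-intersections), then G itself is regular for f. -/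
theorem result {G : Type*} [Group G] [Finite G] (p : ℕ) [Fact p.Prime] (hdiv : p ∣ Nat.card G)
    (f : Subgroup G → Set (Subgroup G)) (hf : Cfsg.IsNormalizerFunctor p f) (S : Sylow p G)
    (G₁ G₂ : Subgroup G) (h₁ : (S : Subgroup G) ≤ G₁) (h₂ : (S : Subgroup G) ≤ G₂)
    (hprod : ∀ g : G, ∃ g₁ ∈ G₁, ∃ g₂ ∈ G₂, g = g₁ * g₂)
    (hr₁ : Cfsg.IsFunctorRegular p f G₁) (hr₂ : Cfsg.IsFunctorRegular p f G₂) :
    Cfsg.IsFunctorRegular p f ⊤ := by
  apply regular_of_fcontrols hf
  have hG₁ := fcontrols_of_regular hf hr₁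
  have hG₂ := fcontrols_of_regular hf hr₂
  have hidx₁ : ¬ p ∣ G₁.index := fun hd => S.not_dvd_index (hd.trans (Subgroup.index_dvd_of_le h₁))
  have hidx₂ : ¬ p ∣ G₂.index := fun hd => S.not_dvd_index (hd.trans (Subgroup.index_dvd_of_le h₂))
  have hS1 : IsSylowOf p (S : Subgroup G) G₁ := (isSylowOf_top S).mono_right h₁ le_top
  have hS2 : IsSylowOf p (S : Subgroup G) G₂ := (isSylowOf_top S).mono_right h₂ le_top
  have key : ∀ (g : G) (D : Subgroup G), D ≠ ⊥ → D ≤ (S : Subgroup G) →
      D ≤ subgroupConjRight g (S : Subgroup G) →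
      FConn p f ⊤ D (S : Subgroup G) (subgroupConjRight g (S : Subgroup G)) := by
    intro g D hD hDS hDg
    obtain ⟨U, hU1, hU2⟩ := Cfsg.Agent.S2940.result S G₁ G₂ h₁ h₂ hprod g
    have hDU : D ≤ (U : Subgroup G) := (le_inf hDS hDg).trans hU1
    have hU1' : IsSylowOf p (U : Subgroup G) G₁ :=
      (isSylowOf_top U).mono_right (hU2.trans inf_le_left) le_top
    have c1 : FConn p f ⊤ D (S : Subgroup G) (U : Subgroup G) :=
      (hG₁.fconn hS1 hU1' hD hDS hDU).to_top hidx₁
    have hUg : subgroupConjRight g⁻¹ (U : Subgroup G) ≤ G₂ := by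
      rw [scr_le_iff, inv_inv]; exact hU2.trans inf_le_right
    have hU2' : IsSylowOf p (subgroupConjRight g⁻¹ (U : Subgroup G)) G₂ := by
      have := isSylowOf_scr g⁻¹ (isSylowOf_top U)
      rw [scr_top] at this
      exact this.mono_right hUg le_top
    have hD''S : subgroupConjRight g⁻¹ D ≤ (S : Subgroup G) := by
      rw [scr_le_iff, inv_inv]; exact hDg
    have c2' : FConn p f ⊤ (subgroupConjRight g⁻¹ D) (subgroupConjRight g⁻¹ (U : Subgroup G))
        (S : Subgroup G) :=
      (hG₂.fconn hU2' hS2 (scr_ne_bot hD) (scr_mono _ hDU) hD''S).to_top hidx₂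
    have c2 := c2'.conj hf g
    rw [scr_top, scr_inv_scr, scr_inv_scr] at c2
    exact c1.trans c2
  intro A B hA hB hne hAB
  obtain ⟨a, _, ha⟩ := (isSylowOf_top S).exists_conj hA
  obtain ⟨b, _, hb⟩ := (isSylowOf_top S).exists_conj hB
  have h1 : subgroupConjRight a⁻¹ (A ⊓ B) ≤ (S : Subgroup G) := by
    rw [scr_le_iff, inv_inv, ha]; exact inf_le_left
  have h2 : subgroupConjRight a⁻¹ (A ⊓ B) ≤ subgroupConjRight (b * a⁻¹) (S : Subgroup G) := by
    rw [scr_mul, hb]; exact scr_mono _ inf_le_right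
  have h3 := (key (b * a⁻¹) (subgroupConjRight a⁻¹ (A ⊓ B)) (scr_ne_bot hAB) h1 h2).conj hf a
  rw [scr_top, scr_inv_scr, ha, ← scr_mul, inv_mul_cancel_right, hb] at h3
  exact h3

end Cfsg.Agent.S2957
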