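import Cfsg.Statements.S2958

set_option autoImplicit false
open Cfsg

namespace Cfsg.Agent.S2958

/-- Let X, A, B be subgroups of a group G such that G is generated by the conjugates of X and every conjugate of X is contained in A or in B. Then A = G or B = G. -/
theorem result {G : Type*} [Group G] (X A B : Subgroup G) (hgen : (⨆ g : G, X.map (MulAut.conj g).toMonoidHom) = ⊤) (hcover : ∀ g : G, X.map (MulAut.conj g).toMonoidHom ≤ A ∨ X.map (MulAut.conj g).toMonoidHom ≤ B) : A = ⊤ ∨ B = ⊤ := by
  classical
  by_cases hall : ∀ g : G, X.map (MulAut.conj g).toMonoidHom ≤ A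
  · left
    rw [eq_top_iff, ← hgen]
    exact iSup_le hall
  · right
    simp only [not_forall] at hall
    obtain ⟨g₀, hg₀⟩ := hall
    -- D = join of conjugates not contained in A
    set D : Subgroup G := ⨆ g : {g : G // ¬ X.map (MulAut.conj g).toMonoidHom ≤ A},
      X.map (MulAut.conj (g : G)).toMonoidHom with hD
    have hDB : D ≤ B := by
      refine iSup_le ?_
      rintro ⟨g, hg⟩
      rcases hcover g with h | h
      · exact absurd h hg
      · exact h
    -- conjugation by a ∈ A preserves the index set
    have hconj : ∀ (a g : G), (X.map (MulAut.conj g).toMonoidHom).map (MulAut.conj a).toMonoidHom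
        = X.map (MulAut.conj (a * g)).toMonoidHom := by
      intro a g
      rw [Subgroup.map_map]
      congr 1
      ext x
      simp [MulAut.conj_apply, mul_assoc]
    have hA_inv : ∀ a ∈ A, ∀ g : G, ¬ X.map (MulAut.conj g).toMonoidHom ≤ A →
        ¬ X.map (MulAut.conj (a * g)).toMonoidHom ≤ A := by
      intro a ha g hg hcon
      apply hg
      intro y hy
      have hy' : a * y * a⁻¹ ∈ X.map (MulAut.conj (a * g)).toMonoidHom := by
        rw [← hconj]
        exact ⟨y, hy, by simp [MulAut.conj_apply]⟩
      have := hcon hy'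
      have h2 : y = a⁻¹ * (a * y * a⁻¹) * a := by group
      rw [h2]
      exact A.mul_mem (A.mul_mem (A.inv_mem ha) this) ha
    -- A normalizes D (maps D into D)
    have hAD : ∀ a ∈ A, D.map (MulAut.conj a).toMonoidHom ≤ D := by
      intro a ha
      rw [hD, Subgroup.map_iSup]
      refine iSup_le ?_
      rintro ⟨g, hg⟩
      rw [hconj]
      exact le_iSup (fun g : {g : G // ¬ X.map (MulAut.conj g).toMonoidHom ≤ A} =>
        X.map (MulAut.conj (g : G)).toMonoidHom) ⟨a * g, hA_inv a ha g hg⟩
    -- the set of elements mapping D into D (both ways) is a subgroup containing all conjugates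
    have hnorm : ∀ g : G, X.map (MulAut.conj g).toMonoidHom ≤ Subgroup.normalizer (D : Set G) := by
      intro g
      by_cases hg : X.map (MulAut.conj g).toMonoidHom ≤ A
      · intro a ha
        have haA := hg ha
        rw [Subgroup.mem_normalizer_iff]
        intro h
        constructor
        · intro hh
          exact hAD a haA ⟨h, hh, by simp [MulAut.conj_apply]⟩
        · intro hh
          have h2 : h = a⁻¹ * (a * h * a⁻¹) * a⁻¹⁻¹ := by group
          rw [h2]
          exact hAD a⁻¹ (A.inv_mem haA) ⟨a * h * a⁻¹, hh, rfl⟩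
      · exact le_trans (le_iSup (fun g : {g : G // ¬ X.map (MulAut.conj g).toMonoidHom ≤ A} =>
          X.map (MulAut.conj (g : G)).toMonoidHom) ⟨g, hg⟩) Subgroup.le_normalizer
    have hNtop : Subgroup.normalizer (D : Set G) = ⊤ := by
      rw [eq_top_iff, ← hgen]
      exact iSup_le hnorm
    have hDn : D.Normal := Subgroup.normalizer_eq_top_iff.mp hNtop
    have hg₀D : X.map (MulAut.conj g₀).toMonoidHom ≤ D :=
      le_iSup (fun g : {g : G // ¬ X.map (MulAut.conj g).toMonoidHom ≤ A} =>
          X.map (MulAut.conj (g : G)).toMonoidHom) ⟨g₀, hg₀⟩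
    have hallD : ∀ g : G, X.map (MulAut.conj g).toMonoidHom ≤ D := by
      intro g
      have : X.map (MulAut.conj g).toMonoidHom
          = (X.map (MulAut.conj g₀).toMonoidHom).map (MulAut.conj (g * g₀⁻¹)).toMonoidHom := by
        rw [hconj]; simp
      rw [this]
      rintro _ ⟨y, hy, rfl⟩
      have := hDn.conj_mem y (hg₀D hy) (g * g₀⁻¹)
      simpa [MulAut.conj_apply, mul_assoc] using this
    rw [eq_top_iff]
    calc (⊤ : Subgroup G) = ⨆ g : G, X.map (MulAut.conj g).toMonoidHom := hgen.symm
      _ ≤ D := iSup_le hallD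
      _ ≤ B := hDB

end Cfsg.Agent.S2958
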