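import Cfsg.Statements.S2959
import Cfsg.Agent.Helper49.CharP

set_option autoImplicit false
open Cfsg

namespace Cfsg.Agent.S2959

open Cfsg.Agent.Helper49

/-- Let G be a finite group of characteristic p, that is C_G(O_p(G)) ≤ O_p(G), with p prime, and let L be a subgroup of G normalized by O_p(G). Then L has characteristic p: C_L(O_p(L)) ≤ O_p(L). -/
theorem result {G : Type*} [Group G] [Finite G] {p : ℕ} [Fact p.Prime] (hG : Subgroup.centralizer (Cfsg.pCore p G : Set G) ≤ Cfsg.pCore p G) (L : Subgroup G) (hL : Cfsg.pCore p G ≤ Subgroup.normalizer (L : Set G)) : Subgroup.centralizer (Cfsg.pCore p ↥L : Set ↥L) ≤ Cfsg.pCore p ↥L := by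
  apply charP_of_forall
  intro c hcL hcR hcop
  have hPn : (pCore p G).Normal := pCore_normal' p G
  have hPp : IsPGroup p (pCore p G) := pCore_isPGroup p G
  -- P ⊓ L ≤ coreIn p L
  have hPL : pCore p G ⊓ L ≤ coreIn p L := by
    apply le_coreIn inf_le_right
    · intro l hl n hn
      exact ⟨hPn.conj_mem n hn.1 l, L.mul_mem (L.mul_mem hl hn.2) (L.inv_mem hl)⟩
    · exact hPp.to_inf_left
  -- c centralizes P
  have hcP : ∀ x ∈ pCore p G, c * x = x * c := by
    intro x hx
    set z : G := x⁻¹ * c * x * c⁻¹ with hz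
    have hzP : z ∈ pCore p G := by
      have h1 : c * x * c⁻¹ ∈ pCore p G := hPn.conj_mem x hx c
      have : z = x⁻¹ * (c * x * c⁻¹) := by rw [hz]; group
      rw [this]
      exact (pCore p G).mul_mem ((pCore p G).inv_mem hx) h1
    have hzL : z ∈ L := by
      have hx' : x⁻¹ ∈ Subgroup.normalizer (L : Set G) := hL ((pCore p G).inv_mem hx)
      have h1 : x⁻¹ * c * x⁻¹⁻¹ ∈ L := (Subgroup.mem_normalizer_iff.mp hx' c).mp hcL
      have : z = (x⁻¹ * c * x⁻¹⁻¹) * c⁻¹ := by rw [hz]; group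
      rw [this]
      exact L.mul_mem h1 (L.inv_mem hcL)
    have hzR : z ∈ coreIn p L := hPL ⟨hzP, hzL⟩
    have hcz : Commute c z := hcR z hzR
    have hconj : c * x * c⁻¹ = x * z := by rw [hz]; group
    have hzp : ∃ k : ℕ, z ^ (p ^ k) = 1 := by
      obtain ⟨k, hk⟩ := hPp ⟨z, hzP⟩
      exact ⟨k, by simpa using congrArg Subtype.val hk⟩
    have hz1 : z = 1 := eq_one_of_conj_eq_mul hconj hcz hzp hcop
    rw [hz1, mul_one] at hconj
    calc c * x = (c * x * c⁻¹) * c := by group
      _ = x * c := by rw [hconj]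
  have hcP' : c ∈ pCore p G := mem_pCore_of_charP hG hcP
  exact eq_one_of_mem_pGroup_of_coprime hPp hcP' hcop

end Cfsg.Agent.S2959
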