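import Cfsg.Statements.S2961
import Cfsg.Agent.Helper49.SelfCent

set_option autoImplicit false
open Cfsg

namespace Cfsg.Agent.S2961

open Cfsg.Agent.Helper49

variable {G : Type*} [Group G]

/-- The kernel of the action of `L` on the cosets `P / U` (with `U` normalized by `L`). -/
def actKer (L P U : Subgroup G) (hU : ∀ l ∈ L, ∀ u ∈ U, l * u * l⁻¹ ∈ U)
    (hP : ∀ l ∈ L, ∀ x ∈ P, l * x * l⁻¹ ∈ P) : Subgroup G where
  carrier := {l | l ∈ L ∧ ∀ x ∈ P, x⁻¹ * (l * x * l⁻¹) ∈ U}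
  one_mem' := ⟨L.one_mem, fun x _ => by simp⟩
  mul_mem' := by
    rintro a b ⟨haL, ha⟩ ⟨hbL, hb⟩
    refine ⟨L.mul_mem haL hbL, fun x hx => ?_⟩
    have h1 := hb x hx
    have h2 := ha x hx
    have h3 := hU a haL _ h1
    have : x⁻¹ * (a * b * x * (a * b)⁻¹) = (x⁻¹ * (a * x * a⁻¹)) * (a * (x⁻¹ * (b * x * b⁻¹)) * a⁻¹) := by
      group
    rw [this]
    exact U.mul_mem h2 h3
  inv_mem' := by
    rintro a ⟨haL, ha⟩
    refine ⟨L.inv_mem haL, fun x hx => ?_⟩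
    have hx' : a⁻¹ * x * a⁻¹⁻¹ ∈ P := hP a⁻¹ (L.inv_mem haL) x hx
    have h1 := ha _ hx'
    have : x⁻¹ * (a⁻¹ * x * a⁻¹⁻¹) = ((a⁻¹ * x * a⁻¹⁻¹)⁻¹ * (a * (a⁻¹ * x * a⁻¹⁻¹) * a⁻¹))⁻¹ := by
      group
    rw [this]
    exact U.inv_mem h1

/-- Let G be a finite group of characteristic p (C_G(O_p(G)) ≤ O_p(G)), p prime, T a Sylow p-subgroup of G and Q a normal subgroup of T with C_T(Q) ≤ Q. Then every subgroup L of G containing Q has characteristic p: C_L(O_p(L)) ≤ O_p(L). -/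
theorem result {G : Type*} [Group G] [Finite G] {p : ℕ} [Fact p.Prime] (hG : Subgroup.centralizer (Cfsg.pCore p G : Set G) ≤ Cfsg.pCore p G) (T : Sylow p G) (Q : Subgroup G) (hQT : Q ≤ (T : Subgroup G)) (hQn : (T : Subgroup G) ≤ Subgroup.normalizer (Q : Set G)) (hC : (T : Subgroup G) ⊓ Subgroup.centralizer (Q : Set G) ≤ Q) (L : Subgroup G) (hQL : Q ≤ L) : Subgroup.centralizer (Cfsg.pCore p ↥L : Set ↥L) ≤ Cfsg.pCore p ↥L := by
  have hCQ : Subgroup.centralizer (Q : Set G) ≤ Q :=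
    centralizer_le_of_self_centralizing hG T Q hQn hC
  have hPn : (pCore p G).Normal := pCore_normal' p G
  have hPp : IsPGroup p (pCore p G) := pCore_isPGroup p G
  have hQp : IsPGroup p Q := T.isPGroup'.to_le hQT
  set P : Subgroup G := pCore p G with hPdef
  set R : Subgroup G := coreIn p L with hRdef
  set U : Subgroup G := P ⊓ L with hUdef
  have hUnorm : ∀ l ∈ L, ∀ u ∈ U, l * u * l⁻¹ ∈ U := fun l hl u hu =>
    ⟨hPn.conj_mem u hu.1 l, L.mul_mem (L.mul_mem hl hu.2) (L.inv_mem hl)⟩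
  have hPnorm : ∀ l ∈ L, ∀ x ∈ P, l * x * l⁻¹ ∈ P := fun l _ x hx => hPn.conj_mem x hx l
  have hUR : U ≤ R := le_coreIn inf_le_right hUnorm hPp.to_inf_left
  set K : Subgroup G := actKer L P U hUnorm hPnorm with hKdef
  have hKL : K ≤ L := fun k hk => hk.1
  -- K is normal in L
  have hKnorm : ∀ m ∈ L, ∀ k ∈ K, m * k * m⁻¹ ∈ K := by
    rintro m hm k ⟨hkL, hk⟩
    refine ⟨L.mul_mem (L.mul_mem hm hkL) (L.inv_mem hm), fun x hx => ?_⟩
    have hx' : m⁻¹ * x * m⁻¹⁻¹ ∈ P := hPnorm m⁻¹ (L.inv_mem hm) x hx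
    have h1 := hk _ hx'
    have h2 := hUnorm m hm _ h1
    have : x⁻¹ * (m * k * m⁻¹ * x * (m * k * m⁻¹)⁻¹)
        = m * ((m⁻¹ * x * m⁻¹⁻¹)⁻¹ * (k * (m⁻¹ * x * m⁻¹⁻¹) * k⁻¹)) * m⁻¹ := by group
    rw [this]; exact h2
  -- Q ≤ K
  have hPT : P ≤ (T : Subgroup G) := pCore_le_sylow T
  have hQK : Q ≤ K := by
    intro q hq
    refine ⟨hQL hq, fun x hx => ?_⟩
    have hxN : x⁻¹ ∈ Subgroup.normalizer (Q : Set G) := hQn (hPT (P.inv_mem hx))
    have h1 : x⁻¹ * q * x⁻¹⁻¹ ∈ Q := (Subgroup.mem_normalizer_iff.mp hxN q).mp hq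
    have h2 : x⁻¹ * (q * x * q⁻¹) = (x⁻¹ * q * x⁻¹⁻¹) * q⁻¹ := by group
    constructor
    · exact P.mul_mem (P.inv_mem hx) (hPn.conj_mem x hx q)
    · rw [h2]; exact hQL (Q.mul_mem h1 (Q.inv_mem hq))
  -- D = C_L(R)
  set D : Subgroup G := L ⊓ Subgroup.centralizer (R : Set G) with hDdef
  have hDnorm : ∀ m ∈ L, ∀ d ∈ D, m * d * m⁻¹ ∈ D := by
    intro m hm d hdD
    obtain ⟨hdL, hd⟩ := Subgroup.mem_inf.mp hdD
    refine Subgroup.mem_inf.mpr ⟨L.mul_mem (L.mul_mem hm hdL) (L.inv_mem hm), ?_⟩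
    rw [Subgroup.mem_centralizer_iff] at hd ⊢
    intro r hr
    have hr' : m⁻¹ * r * m⁻¹⁻¹ ∈ R := coreIn_conj_mem (L.inv_mem hm) hr
    have := hd _ hr'
    calc r * (m * d * m⁻¹) = m * ((m⁻¹ * r * m⁻¹⁻¹) * d) * m⁻¹ := by group
      _ = m * (d * (m⁻¹ * r * m⁻¹⁻¹)) * m⁻¹ := by rw [this]
      _ = m * d * m⁻¹ * r := by group
  -- K ⊓ D is a p-group
  have hKDp : IsPGroup p (K ⊓ D : Subgroup G) := by
    apply isPGroup_of_forall_coprime
    intro e heKD hcop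
    obtain ⟨heK', heD'⟩ := Subgroup.mem_inf.mp heKD
    obtain ⟨heL, heK⟩ := heK'
    obtain ⟨_, heD⟩ := Subgroup.mem_inf.mp heD'
    rw [Subgroup.mem_centralizer_iff] at heD
    have hcP : ∀ x ∈ P, e * x = x * e := by
      intro x hx
      set z : G := x⁻¹ * (e * x * e⁻¹) with hz
      have hzU : z ∈ U := heK x hx
      have hcz : Commute e z := (heD z (hUR hzU)).symm
      have hconj : e * x * e⁻¹ = x * z := by rw [hz]; group
      have hzp : ∃ k : ℕ, z ^ (p ^ k) = 1 := by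
        obtain ⟨k, hk⟩ := hPp ⟨z, hzU.1⟩
        exact ⟨k, by simpa using congrArg Subtype.val hk⟩
      have hz1 : z = 1 := eq_one_of_conj_eq_mul hconj hcz hzp hcop
      rw [hz1, mul_one] at hconj
      calc e * x = (e * x * e⁻¹) * e := by group
        _ = x * e := by rw [hconj]
    have heP : e ∈ pCore p G := mem_pCore_of_charP hG hcP
    exact eq_one_of_mem_pGroup_of_coprime hPp heP hcop
  have hKDR : K ⊓ D ≤ R := by
    apply le_coreIn (inf_le_left.trans hKL)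
    · intro l hl n hn
      exact ⟨hKnorm l hl n hn.1, hDnorm l hl n hn.2⟩
    · exact hKDp
  -- main argument
  rw [← charPIn_iff]
  apply charPIn_of_forall
  intro d hdL hdR hcop
  have hdD : d ∈ D := by
    refine Subgroup.mem_inf.mpr ⟨hdL, ?_⟩
    rw [Subgroup.mem_centralizer_iff]
    intro r hr
    exact (hdR r hr).symm
  have hdQ : ∀ q ∈ Q, d * q = q * d := by
    intro q hq
    set z : G := q⁻¹ * (d * q * d⁻¹) with hz
    have hzK : z ∈ K := K.mul_mem (K.inv_mem (hQK hq)) (hKnorm d hdL q (hQK hq))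
    have hzD : z ∈ D := by
      have : z = (q⁻¹ * d * q⁻¹⁻¹) * d⁻¹ := by rw [hz]; group
      rw [this]
      exact D.mul_mem (hDnorm q⁻¹ (L.inv_mem (hQL hq)) d hdD) (D.inv_mem hdD)
    have hzR : z ∈ R := hKDR ⟨hzK, hzD⟩
    have hcz : Commute d z := hdR z hzR
    have hconj : d * q * d⁻¹ = q * z := by rw [hz]; group
    have hzp : ∃ k : ℕ, z ^ (p ^ k) = 1 := by
      obtain ⟨k, hk⟩ := (coreIn_isPGroup (p := p) L) ⟨z, hzR⟩
      exact ⟨k, by simpa using congrArg Subtype.val hk⟩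
    have hz1 : z = 1 := eq_one_of_conj_eq_mul hconj hcz hzp hcop
    rw [hz1, mul_one] at hconj
    calc d * q = (d * q * d⁻¹) * d := by group
      _ = q * d := by rw [hconj]
  have hdCQ : d ∈ Subgroup.centralizer (Q : Set G) := by
    rw [Subgroup.mem_centralizer_iff]
    intro q hq
    exact (hdQ q hq).symm
  exact eq_one_of_mem_pGroup_of_coprime hQp (hCQ hdCQ) hcop

end Cfsg.Agent.S2961
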