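import Cfsg.Statements.S2963
import Mathlib.GroupTheory.Perm.MaximalSubgroups
import Mathlib.GroupTheory.PGroup

set_option autoImplicit false
open Cfsg

namespace Cfsg.Agent.S2963

open scoped Pointwise
open MulAction

theorem subgroup_le_stabilizer_orbit {α : Type*} (H : Subgroup (Equiv.Perm α)) (x : α) :
    H ≤ stabilizer (Equiv.Perm α) (orbit ↥H x : Set α) := by
  intro σ hσ
  rw [mem_stabilizer_iff]
  ext a
  rw [Set.mem_smul_set_iff_inv_smul_mem]
  constructor
  · intro h
    have := mem_orbit_of_mem_orbit (⟨σ, hσ⟩ : ↥H) h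
    have e : (⟨σ, hσ⟩ : ↥H) • (σ⁻¹ • a) = a := by
      change σ • (σ⁻¹ • a) = a
      simp
    rwa [e] at this
  · intro h
    have := mem_orbit_of_mem_orbit (⟨σ, hσ⟩⁻¹ : ↥H) h
    have e : (⟨σ, hσ⟩⁻¹ : ↥H) • a = σ⁻¹ • a := rfl
    rwa [e] at this

/-- Let n be odd. If the symmetric group of degree n is a minimal parabolic group for the prime 2, that is, a Sylow 2-subgroup is not normal and lies in exactly one maximal subgroup, then n = 2^m + 1 for some natural number m. -/
theorem result (n : ℕ) (hn : Odd n) (h : Cfsg.IsPMinimal 2 (Equiv.Perm (Fin n))) : ∃ m : ℕ, n = 2 ^ m + 1 := by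
  classical
  haveI : Fact (Nat.Prime 2) := ⟨Nat.prime_two⟩
  let S : Sylow 2 (Equiv.Perm (Fin n)) := default
  obtain ⟨hnn, M, ⟨hMco, hSM⟩, huniq⟩ := h S
  have hS2 : IsPGroup 2 ↥(S : Subgroup (Equiv.Perm (Fin n))) := S.isPGroup'
  -- orbits
  let O : Fin n → Set (Fin n) := fun x => orbit ↥(S : Subgroup (Equiv.Perm (Fin n))) x
  have hOself : ∀ x, x ∈ O x := fun x => mem_orbit_self x
  have hOeq : ∀ x y, y ∈ O x → O y = O x := fun x y hy => orbit_eq_iff.mpr hy
  have hcard : Nat.card (Fin n) = n := by simp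
  -- stabilizers of proper nonempty orbits equal M
  have hstab : ∀ x y, y ∉ O x → stabilizer (Equiv.Perm (Fin n)) (O x) = M := by
    intro x y hy
    apply huniq
    refine ⟨?_, subgroup_le_stabilizer_orbit _ x⟩
    apply Equiv.Perm.isCoatom_stabilizer ⟨x, hOself x⟩ ⟨y, hy⟩
    rw [hcard]
    intro h2
    rw [h2] at hn
    exact (Nat.not_odd_iff_even.mpr (even_two_mul _)) hn
  -- no three distinct orbits
  have hthree : ∀ x y z, y ∉ O x → z ∉ O x → z ∉ O y → False := by
    intro x y z hyx hzx hzy
    have hxz : x ∉ O z := fun hx => hzx (by rw [hOeq z x hx]; exact hOself z)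
    have hyz : y ∉ O z := fun hy' => hzy (by rw [hOeq z y hy']; exact hOself z)
    have h1 : stabilizer (Equiv.Perm (Fin n)) (O x) = stabilizer (Equiv.Perm (Fin n)) (O z) := by
      rw [hstab x y hyx, hstab z x hxz]
    have hswap : Equiv.swap x y ∈ stabilizer (Equiv.Perm (Fin n)) (O z) := by
      rw [mem_stabilizer_iff]
      ext a
      rw [Set.mem_smul_set_iff_inv_smul_mem]
      have : (Equiv.swap x y)⁻¹ • a = Equiv.swap x y a := by
        rw [Equiv.swap_inv]; rfl
      rw [this]
      by_cases hax : a = x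
      · subst hax
        rw [Equiv.swap_apply_left]
        exact ⟨fun h => absurd h hyz, fun h => absurd h hxz⟩
      · by_cases hay : a = y
        · subst hay
          rw [Equiv.swap_apply_right]
          exact ⟨fun h => absurd h hxz, fun h => absurd h hyz⟩
        · rw [Equiv.swap_apply_of_ne_of_ne hax hay]
    rw [← h1, mem_stabilizer_iff] at hswap
    have : y ∈ Equiv.swap x y • O x := by
      rw [Set.mem_smul_set]
      exact ⟨x, hOself x, by simp [Equiv.Perm.smul_def]⟩
    rw [hswap] at this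
    exact hyx this
  -- fixed point
  have hfix : (fixedPoints ↥(S : Subgroup (Equiv.Perm (Fin n))) (Fin n)).Nonempty := by
    apply hS2.nonempty_fixed_point_of_prime_not_dvd_card
    rw [hcard]
    intro h2
    exact (Nat.not_even_iff_odd.mpr hn) (even_iff_two_dvd.mpr h2)
  obtain ⟨x₀, hx₀⟩ := hfix
  have hOx₀ : O x₀ = {x₀} := by
    ext a
    constructor
    · rintro ⟨s, rfl⟩
      exact hx₀ s
    · intro ha
      rw [Set.mem_singleton_iff] at ha
      rw [ha]; exact hOself x₀
  -- there is some y ≠ x₀ (else n = 1 and S would be normal)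
  by_cases hall : ∀ y : Fin n, y = x₀
  · exfalso
    apply hnn
    haveI : Subsingleton (Fin n) := ⟨fun a b => by rw [hall a, hall b]⟩
    haveI : Subsingleton (Equiv.Perm (Fin n)) := inferInstance
    constructor
    intro a ha g
    have : g * a * g⁻¹ = a := Subsingleton.elim _ _
    rw [this]; exact ha
  · simp only [not_forall] at hall
    obtain ⟨y₀, hy₀⟩ := hall
    have hy₀O : y₀ ∉ O x₀ := by rw [hOx₀]; exact hy₀
    -- all points other than x₀ lie in O y₀
    have hOy₀ : O y₀ = {x₀}ᶜ := by
      ext a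
      constructor
      · intro ha hax
        rw [Set.mem_singleton_iff] at hax
        subst hax
        -- x₀ ∈ O y₀ → y₀ ∈ O x₀
        apply hy₀O
        rw [hOeq y₀ a ha]; exact hOself y₀
      · intro ha
        by_contra haO
        have hax : a ∉ O x₀ := by rw [hOx₀]; exact ha
        exact hthree x₀ y₀ a hy₀O hax haO
    obtain ⟨m, hm⟩ := hS2.card_orbit (α := Fin n) y₀
    refine ⟨m, ?_⟩
    have h1 : Nat.card (O y₀) = n - 1 := by
      rw [hOy₀, Nat.card_coe_set_eq, Set.ncard_compl, Set.ncard_singleton, hcard]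
    have h2 : Nat.card (O y₀) = 2 ^ m := hm
    have hn1 : 1 ≤ n := by
      rcases hn with ⟨k, hk⟩; omega
    omega

end Cfsg.Agent.S2963
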