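import Cfsg.Statements.S2968
import Cfsg.Agent.Helper49.Isolated

set_option autoImplicit false
open Cfsg

namespace Cfsg.Agent.S2968

open Cfsg.Agent.Helper49

/-- Let G be a finite group, p a prime, P a Sylow p-subgroup of G and x ∈ P an element of p-power order which is isolated in G (the only conjugate of x commuting with x is x itself). Then x lies in the centre of P, and the subgroup generated by x is both strongly closed and weakly closed in P with respect to G. -/
theorem result {G : Type*} [Group G] [Finite G] {p : ℕ} [Fact p.Prime] (P : Sylow p G) (x : G) (hxP : x ∈ (P : Subgroup G)) (hx : ∃ k : ℕ, orderOf x = p ^ k) (hiso : Cfsg.IsIsolated x) : x ∈ (P : Subgroup G) ⊓ Subgroup.centralizer ((P : Subgroup G) : Set G) ∧ Cfsg.IsStronglyClosed (Subgroup.zpowers x) (P : Subgroup G) ∧ Cfsg.IsWeaklyClosed (Subgroup.zpowers x) (P : Subgroup G) := by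
  have hPp : IsPGroup p (P : Subgroup G) := P.isPGroup'
  have hcomm : ∀ t ∈ (P : Subgroup G), t * x = x * t :=
    isolated_commute_of_mem_pgroup hiso hPp hxP
  have hzP : Subgroup.zpowers x ≤ (P : Subgroup G) := by
    rw [Subgroup.zpowers_le]; exact hxP
  refine ⟨?_, ⟨hzP, ?_⟩, ⟨hzP, ?_⟩⟩
  · refine Subgroup.mem_inf.mpr ⟨hxP, ?_⟩
    rw [Subgroup.mem_centralizer_iff]
    intro t ht
    exact hcomm t ht
  · intro w hw g hu
    obtain ⟨i, rfl⟩ := Subgroup.mem_zpowers_iff.mp hw
    set y : G := g * x * g⁻¹ with hy
    set u : G := g * x ^ i * g⁻¹ with hudef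
    have huy : u = y ^ i := by
      rw [hudef, hy]
      have : g * x * g⁻¹ = MulAut.conj g x := by simp [MulAut.conj_apply]
      rw [this, ← map_zpow]
      simp [MulAut.conj_apply]
    have hxH : x ∈ Subgroup.centralizer ({u} : Set G) := by
      rw [Subgroup.mem_centralizer_iff]
      intro z hz
      rw [Set.mem_singleton_iff] at hz
      rw [hz]
      exact hcomm u hu
    have hyH : g * x * g⁻¹ ∈ Subgroup.centralizer ({u} : Set G) := by
      rw [Subgroup.mem_centralizer_iff]
      intro z hz
      rw [Set.mem_singleton_iff] at hz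
      rw [hz, huy]
      exact ((Commute.refl y).zpow_left i).eq
    obtain ⟨c, hcH, hc⟩ := isolated_exists_conj_mem hiso hx hxH hyH
    have hcu : u * c = c * u := (Subgroup.mem_centralizer_iff.mp hcH) u rfl
    have h1 : u = c * x ^ i * c⁻¹ := by
      rw [huy, hy, hc]
      have : c * x * c⁻¹ = MulAut.conj c x := by simp [MulAut.conj_apply]
      rw [this, ← map_zpow]
      simp [MulAut.conj_apply]
    have h2 : u = x ^ i := by
      have h3 : c⁻¹ * u * c = x ^ i := by rw [h1]; group
      rw [← h3]
      calc u = c⁻¹ * (c * u) := by group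
        _ = c⁻¹ * (u * c) := by rw [hcu]
        _ = c⁻¹ * u * c := by group
    rw [h2]
    exact Subgroup.zpow_mem_zpowers x i
  · intro g hg
    have hgx : g * x * g⁻¹ ∈ (P : Subgroup G) := by
      apply hg
      exact ⟨x, Subgroup.mem_zpowers x, by simp [MulAut.conj_apply]⟩
    have h1 : g * x * g⁻¹ = x := isolated_conj_eq_of_mem hiso hPp hxP hgx
    rw [MonoidHom.map_zpowers]
    congr 1

end Cfsg.Agent.S2968
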