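import Cfsg.Statements.S2971
import Cfsg.Agent.Helper50.CyclicSylow

set_option autoImplicit false
open Cfsg

namespace Cfsg.Agent.S2971

/-- Let G be a finite group and p an odd prime such that G has p-rank at most 1 (no elementary abelian subgroup of order p²). If x ∈ G is an isolated element of order p, then x is central modulo the largest normal subgroup of G of order prime to p. -/
theorem result {G : Type*} [Group G] [Finite G] {p : ℕ} [Fact p.Prime] (hp : p ≠ 2) (hrk : Cfsg.PRankLE p 1 G) (x : G) (hx : orderOf x = p) (hiso : Cfsg.IsIsolated x) : Cfsg.InZStar p x := by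
  have hpp : p.Prime := Fact.out
  have hzx : IsPGroup p (Subgroup.zpowers x) :=
    IsPGroup.of_card (n := 1) (by rw [Nat.card_zpowers, hx, pow_one])
  obtain ⟨P, hP⟩ := hzx.exists_le_sylow
  have hxP : x ∈ (P : Subgroup G) := hP (Subgroup.mem_zpowers x)
  have hc := Cfsg.Agent.Helper50.sylow_isCyclic_of_pRankLE_one hp hrk P
  have hPab : ∀ a ∈ (P : Subgroup G), ∀ b ∈ (P : Subgroup G), a * b = b * a := by
    intro a ha b hb
    have := hc.isMulCommutative.is_comm.comm ⟨a, ha⟩ ⟨b, hb⟩
    exact congrArg Subtype.val this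
  have hcomm : ∀ n ∈ Subgroup.normalizer ((P : Subgroup G) : Set G), n * x = x * n := by
    intro n hn
    have h1 : n * x * n⁻¹ ∈ (P : Subgroup G) := (Subgroup.mem_normalizer_iff.mp hn x).mp hxP
    have h2 : Commute x (n * x * n⁻¹) := hPab x hxP _ h1
    have h3 := hiso n h2
    calc n * x = (n * x * n⁻¹) * n := by group
      _ = x * n := by rw [h3]
  have hNC := Cfsg.Agent.Helper50.normalizer_le_centralizer_of_cyclic P hc x hxP hx hcomm
  have hnd := MonoidHom.not_dvd_card_ker_transferSylow P hNC
  have hcop : (Nat.card (MonoidHom.transferSylow P hNC).ker).Coprime p :=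
    ((hpp.coprime_iff_not_dvd).mpr hnd).symm
  have hKle : (MonoidHom.transferSylow P hNC).ker ≤ Cfsg.pPrimeCore p G :=
    Cfsg.Agent.Lib.le_pPrimeCore (MonoidHom.normal_ker _) hcop
  intro g
  apply hKle
  rw [MonoidHom.mem_ker, map_mul, map_mul, map_mul, map_inv, map_inv]
  set a := (MonoidHom.transferSylow P hNC) g
  set b := (MonoidHom.transferSylow P hNC) x
  have hab : a * b = b * a := hc.isMulCommutative.is_comm.comm a b
  calc a * b * a⁻¹ * b⁻¹ = b * a * a⁻¹ * b⁻¹ := by rw [hab]
    _ = 1 := by group

end Cfsg.Agent.S2971
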