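import Cfsg.Statements.S2998
import Cfsg.Agent.Helper50.LocallyCentral

set_option autoImplicit false
open Cfsg

namespace Cfsg.Agent.S2998

/-- Let G be a finite group, p a prime, P a Sylow p-subgroup of G and x ∈ P an element such that N_G(R) ≤ C_G(x) for every nontrivial subgroup R of P. Then P ≤ C_G(x); every G-conjugate of x lying in P equals x (so g ∈ C_G(x) whenever g x g⁻¹ ∈ P); and for every normal subgroup N of G, the image of x in G ⧸ N has the same property with respect to the image of P: the normalizer of every nontrivial subgroup of the image of P centralizes the image of x. -/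
theorem result {G : Type*} [Group G] [Finite G] {p : ℕ} [Fact p.Prime] (P : Sylow p G) (x : G) (hxP : x ∈ (P : Subgroup G)) (hlc : ∀ R : Subgroup G, R ≤ (P : Subgroup G) → R ≠ ⊥ → Subgroup.normalizer (R : Set G) ≤ Subgroup.centralizer ({x} : Set G)) : (P : Subgroup G) ≤ Subgroup.centralizer ({x} : Set G) ∧ (∀ g : G, g * x * g⁻¹ ∈ (P : Subgroup G) → g * x * g⁻¹ = x) ∧ ∀ (N : Subgroup G) [N.Normal], ∀ R : Subgroup (G ⧸ N), R ≤ (P : Subgroup G).map (QuotientGroup.mk' N) → R ≠ ⊥ → Subgroup.normalizer (R : Set (G ⧸ N)) ≤ Subgroup.centralizer ({(QuotientGroup.mk x : G ⧸ N)} : Set (G ⧸ N)) := by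
  have key := Cfsg.Agent.Helper50.mem_centralizer_of_cjg_le P x hlc
  have part1 : (P : Subgroup G) ≤ Subgroup.centralizer ({x} : Set G) := by
    by_cases hP : (P : Subgroup G) = ⊥
    · rw [hP] at hxP
      have hx1 : x = 1 := Subgroup.mem_bot.mp hxP
      rw [hP]
      exact bot_le
    · exact le_trans Subgroup.le_normalizer (hlc P le_rfl hP)
  have himg : ∀ (N : Subgroup G) [N.Normal] (a : G), a ∈ Subgroup.centralizer ({x} : Set G) →
      (QuotientGroup.mk a : G ⧸ N) ∈ Subgroup.centralizer ({(QuotientGroup.mk x : G ⧸ N)} : Set (G ⧸ N)) := by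
    intro N _ a ha
    rw [Subgroup.mem_centralizer_singleton_iff] at ha ⊢
    rw [← QuotientGroup.mk_mul, ← QuotientGroup.mk_mul, ha]
  refine ⟨part1, ?_, ?_⟩
  · intro g hg
    by_cases hx1 : x = 1
    · rw [hx1]; group
    · have hR : Subgroup.zpowers x ≤ (P : Subgroup G) := (Subgroup.zpowers_le).mpr hxP
      have hR1 : Subgroup.zpowers x ≠ ⊥ := by
        intro h
        exact hx1 (Subgroup.zpowers_eq_bot.mp h)
      have hcj : Cfsg.Agent.Helper50.cjg g (Subgroup.zpowers x) ≤ (P : Subgroup G) := by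
        unfold Cfsg.Agent.Helper50.cjg
        rw [MonoidHom.map_zpowers, Subgroup.zpowers_le]
        exact hg
      have := key _ _ hR hR1 rfl g hcj
      rw [Subgroup.mem_centralizer_singleton_iff] at this
      rw [this]; group
  · intro N _ R hR hR1 q hq
    obtain ⟨g, rfl⟩ := QuotientGroup.mk'_surjective N q
    -- R₀ = preimage of R intersected with P
    set R₀ := R.comap (QuotientGroup.mk' N) ⊓ (P : Subgroup G) with hR₀
    have hR₀P : R₀ ≤ (P : Subgroup G) := inf_le_right
    have hR₀1 : R₀ ≠ ⊥ := by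
      obtain ⟨r, hr1⟩ := (Subgroup.ne_bot_iff_exists_ne_one).mp hR1
      obtain ⟨u, hu, hur⟩ := hR r.2
      intro h
      have huR₀ : u ∈ R₀ := by
        refine ⟨?_, hu⟩
        show (QuotientGroup.mk' N) u ∈ R
        rw [hur]
        exact r.2
      rw [h] at huR₀
      have hu1 : u = 1 := Subgroup.mem_bot.mp huR₀
      apply hr1
      apply Subtype.ext
      rw [← hur, hu1]
      simp
    have hcjL : Cfsg.Agent.Helper50.cjg g R₀ ≤ (P : Subgroup G) ⊔ N := by
      intro y hy
      obtain ⟨u, hu, rfl⟩ := Cfsg.Agent.Helper50.mem_cjg.mp hy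
      have h1 : (QuotientGroup.mk' N) u ∈ R := hu.1
      have h2 : (QuotientGroup.mk' N) g * (QuotientGroup.mk' N) u * ((QuotientGroup.mk' N) g)⁻¹ ∈ R :=
        (Subgroup.mem_normalizer_iff.mp hq _).mp h1
      obtain ⟨u', hu', hu'eq⟩ := hR h2
      have h3 : u'⁻¹ * (g * u * g⁻¹) ∈ N := by
        apply (QuotientGroup.eq_one_iff _).mp
        rw [QuotientGroup.mk_mul, QuotientGroup.mk_inv]
        have : (QuotientGroup.mk (g * u * g⁻¹) : G ⧸ N) = (QuotientGroup.mk' N) u' := by
          rw [hu'eq]; simp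
        rw [this]; simp
      have : g * u * g⁻¹ = u' * (u'⁻¹ * (g * u * g⁻¹)) := by group
      rw [this]
      exact mul_mem ((le_sup_left : (P : Subgroup G) ≤ (P : Subgroup G) ⊔ N) hu')
        ((le_sup_right : N ≤ (P : Subgroup G) ⊔ N) h3)
    have hR₀p : IsPGroup p R₀ := P.isPGroup'.to_le hR₀P
    obtain ⟨S, hSp, hSL, hPS, m, hmL, hmA⟩ :=
      Cfsg.Agent.Helper50.exists_conj_le_in ((P : Subgroup G) ⊔ N) (Cfsg.Agent.Helper50.cjg g R₀)
        (P : Subgroup G) (Cfsg.Agent.Helper50.isPGroup_cjg g hR₀p) P.isPGroup' hcjL le_sup_left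
    have hSP : S = (P : Subgroup G) := P.is_maximal' hSp hPS
    rw [hSP, Cfsg.Agent.Helper50.cjg_cjg] at hmA
    have hmg : m * g ∈ Subgroup.centralizer ({x} : Set G) := key _ _ hR₀P hR₀1 rfl (m * g) hmA
    have hmL' : m ∈ (((P : Subgroup G) ⊔ N : Subgroup G) : Set G) := hmL
    rw [Subgroup.mul_normal] at hmL'
    obtain ⟨u, hu, n, hn, rfl⟩ := Set.mem_mul.mp hmL'
    have h1 := himg N (u * n * g) hmg
    have h2 := himg N u (part1 hu)
    have h3 : (QuotientGroup.mk' N) g = ((QuotientGroup.mk u : G ⧸ N))⁻¹ * (QuotientGroup.mk (u * n * g) : G ⧸ N) := by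
      have hn1 : (QuotientGroup.mk n : G ⧸ N) = 1 := (QuotientGroup.eq_one_iff n).mpr hn
      rw [QuotientGroup.mk_mul, QuotientGroup.mk_mul, hn1]
      simp
    rw [h3]
    exact mul_mem (inv_mem h2) h1

end Cfsg.Agent.S2998
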