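import Cfsg.Statements.S3003
import Cfsg.Agent.Helper50.CoprimeHyp

set_option autoImplicit false
open Cfsg

namespace Cfsg.Agent.S3003


open Subgroup in
/-- the first part, for an arbitrary subgroup `U` -/
theorem part_one {G : Type*} [Group G] [Finite G] {p : ℕ} [Fact p.Prime] (Q : Subgroup G)
    (hQp : IsPGroup p ↥Q) (hlarge : Cfsg.IsLarge Q) (G₁ : Subgroup G) (hQG : Q ≤ G₁)
    (R : Subgroup G) (hR : (Nat.card ↥R).Coprime p)
    (hGR : G₁ ≤ Subgroup.normalizer (R : Set G)) (U : Subgroup G)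
    (hx : ∃ x ∈ U, x ≠ 1 ∧ ∃ g ∈ G₁, g * x * g⁻¹ ∈ Q ⊓ Subgroup.centralizer (Q : Set G)) :
    R ⊓ Subgroup.centralizer (U : Set G) = ⊥ := by
  obtain ⟨x, hxU, hx1, g, hg, hy⟩ := hx
  set y := g * x * g⁻¹ with hydef
  have hy1 : y ≠ 1 := by
    intro h1
    apply hx1
    have : x = g⁻¹ * y * g := by rw [hydef]; group
    rw [this, h1]; group
  have hyQ : y ∈ centralizer (Q : Set G) := hy.2
  -- D = C_R(y) is trivial
  set D : Subgroup G := R ⊓ centralizer ({y} : Set G) with hD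
  have hzy : zpowers y ≤ centralizer (Q : Set G) := zpowers_le.mpr hyQ
  have hzy1 : zpowers y ≠ ⊥ := by
    intro hb
    apply hy1
    have : y ∈ zpowers y := mem_zpowers y
    rw [hb] at this
    exact mem_bot.mp this
  have hN := hlarge.2 (zpowers y) hzy hzy1
  have hCy : centralizer ({y} : Set G) ≤ normalizer ((zpowers y : Subgroup G) : Set G) := by
    refine le_trans ?_ (centralizer_le_normalizer _)
    intro c hc
    rw [mem_centralizer_iff]
    intro w hw
    obtain ⟨k, rfl⟩ := mem_zpowers_iff.mp hw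
    have : Commute y c := (mem_centralizer_singleton_iff.mp hc).symm
    exact (this.zpow_left k).eq
  have hDN : D ≤ normalizer (Q : Set G) := inf_le_right.trans (hCy.trans hN)
  have hQC : Q ≤ centralizer ({y} : Set G) := by
    intro q hq
    rw [mem_centralizer_singleton_iff]
    exact ((mem_centralizer_iff.mp hyQ) q hq)
  have hQD : Q ≤ normalizer (D : Set G) := by
    refine le_trans (le_inf (hQG.trans hGR) (hQC.trans le_normalizer)) ?_
    exact inf_normalizer_le_normalizer_inf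
  have hDQ : D ⊓ Q = ⊥ := by
    apply disjoint_iff.mp
    apply Subgroup.disjoint_of_coprime_natCard
    obtain ⟨n, hn⟩ := IsPGroup.iff_card.mp hQp
    rw [hn]
    apply Nat.Coprime.pow_right
    exact Nat.Coprime.coprime_dvd_left (Subgroup.card_dvd_of_le inf_le_left) hR
  have hDbot : D = ⊥ := by
    rw [eq_bot_iff]
    intro d hd
    have hdC : d ∈ centralizer (Q : Set G) := by
      rw [mem_centralizer_iff]
      intro q hq
      have h1 : d * q * d⁻¹ ∈ Q := (mem_normalizer_iff.mp (hDN hd) q).mp hq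
      have h2 : q * d⁻¹ * q⁻¹ ∈ D := (mem_normalizer_iff.mp (hQD hq) d⁻¹).mp (D.inv_mem hd)
      have h3 : d * q * d⁻¹ * q⁻¹ ∈ D ⊓ Q := by
        refine ⟨?_, Q.mul_mem h1 (Q.inv_mem hq)⟩
        have : d * q * d⁻¹ * q⁻¹ = d * (q * d⁻¹ * q⁻¹) := by group
        rw [this]
        exact D.mul_mem hd h2
      rw [hDQ] at h3
      have h4 := mem_bot.mp h3
      calc q * d = (d * q * d⁻¹ * q⁻¹)⁻¹ * (d * q) := by group
        _ = d * q := by rw [h4]; group
    have : d ∈ D ⊓ Q := ⟨hd, hlarge.1 hdC⟩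
    rw [hDQ] at this
    exact this
  rw [eq_bot_iff]
  intro r hr
  have hs : g * r * g⁻¹ ∈ D := by
    refine ⟨(mem_normalizer_iff.mp (hGR hg) r).mp hr.1, ?_⟩
    show g * r * g⁻¹ ∈ centralizer ({y} : Set G)
    rw [mem_centralizer_singleton_iff]
    have hrx : x * r = r * x := (mem_centralizer_iff.mp hr.2) x hxU
    calc g * r * g⁻¹ * y = g * (r * x) * g⁻¹ := by rw [hydef]; group
      _ = g * (x * r) * g⁻¹ := by rw [hrx]
      _ = y * (g * r * g⁻¹) := by rw [hydef]; group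
  rw [hDbot] at hs
  have h1 := mem_bot.mp hs
  rw [mem_bot]
  calc r = g⁻¹ * (g * r * g⁻¹) * g := by group
    _ = 1 := by rw [h1]; group

/-- Let G be a finite group, p a prime and Q a large p-subgroup of G: C_G(Q) ≤ Q and N_G(U) ≤ N_G(Q) for every nontrivial subgroup U of C_G(Q). Let Q ≤ G₁ ≤ G, let R be a subgroup of order prime to p normalized by G₁, and let U ≤ G₁ be a p-subgroup. If U contains a nontrivial element which is G₁-conjugate to an element of Z(Q), then C_R(U) = 1. In particular, if U is elementary abelian of order at least p² and every maximal subgroup of U contains a nontrivial element G₁-conjugate into Z(Q), then R = 1. -/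
theorem result {G : Type*} [Group G] [Finite G] {p : ℕ} [Fact p.Prime] (Q : Subgroup G) (hQp : IsPGroup p ↥Q) (hlarge : Cfsg.IsLarge Q) (G₁ : Subgroup G) (hQG : Q ≤ G₁) (R : Subgroup G) (hR : (Nat.card ↥R).Coprime p) (hGR : G₁ ≤ Subgroup.normalizer (R : Set G)) (U : Subgroup G) (hUG : U ≤ G₁) (hUp : IsPGroup p ↥U) : ((∃ x ∈ U, x ≠ 1 ∧ ∃ g ∈ G₁, g * x * g⁻¹ ∈ Q ⊓ Subgroup.centralizer (Q : Set G)) → R ⊓ Subgroup.centralizer (U : Set G) = ⊥) ∧ (Cfsg.IsElementaryAbelian p U → p ^ 2 ≤ Nat.card ↥U → (∀ U₀ : Subgroup G, U₀ ≤ U → IsCoatom (U₀.subgroupOf U) → ∃ x ∈ U₀, x ≠ 1 ∧ ∃ g ∈ G₁, g * x * g⁻¹ ∈ Q ⊓ Subgroup.centralizer (Q : Set G)) → R = ⊥) := by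
  have hp : p.Prime := Fact.out
  refine ⟨part_one Q hQp hlarge G₁ hQG R hR hGR U, ?_⟩
  intro hEA hcard hco
  obtain ⟨hcomm, hexp⟩ := hEA
  apply Cfsg.Agent.Helper50.eq_bot_of_coatom_centralizer (p := p) R U
    ((Nat.Prime.coprime_iff_not_dvd hp).mp hR.symm) (hUG.trans hGR)
    (fun x hx y hy => by
      have := hcomm.is_comm.comm ⟨x, hx⟩ ⟨y, hy⟩
      exact congrArg Subtype.val this) hexp hcard
  intro U₀ hle hcoat
  exact part_one Q hQp hlarge G₁ hQG R hR hGR U₀ (hco U₀ hle hcoat)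

end Cfsg.Agent.S3003
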