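import Mathlib
import Cfsg.Statements.S3195
import Cfsg.Agent.Helper53.OddDihedral

set_option autoImplicit false
open Cfsg

namespace Cfsg.Agent.S3195

open Cfsg.Agent.Helper53

variable {G : Type*} [Group G]

lemma inv_eq_self_of_sq {a : G} (ha : a ^ 2 = 1) : a⁻¹ = a := by
  rw [inv_eq_iff_mul_eq_one, ← sq, ha]

lemma pow_odd_of_sq {z : G} (hz : z ^ 2 = 1) {r : ℕ} (hr : Odd r) : z ^ r = z := by
  obtain ⟨k, rfl⟩ := hr
  rw [pow_succ, pow_mul, hz, one_pow, one_mul]

lemma eq_one_of_odd_of_pow_four {s : G} (hodd : Odd (orderOf s)) (h4 : s ^ 4 = 1) : s = 1 := by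
  have hdvd : orderOf s ∣ 4 := orderOf_dvd_of_pow_eq_one h4
  have hcop : Nat.Coprime (orderOf s) 4 := by
    have : (4 : ℕ) = 2 ^ 2 := by norm_num
    rw [this]
    exact Nat.Coprime.pow_right 2 (Nat.coprime_two_right.mpr hodd)
  exact orderOf_eq_one_iff.mp (Nat.Coprime.eq_one_of_dvd hcop hdvd)

/-- The final contradiction: inside `D_{2r} × D_{2s}` the conjugate `w z'` of `x z` commutes with
no involution of `A`. -/
lemma caseI (A : Subgroup G)
    (hyp : ∀ a ∈ A, a ≠ 1 → ∀ g : G, ∃ c ∈ A, c ≠ 1 ∧ Commute c (g * a * g⁻¹))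
    (x z w z' d d' : G) (hxA : x ∈ A) (hzA : z ∈ A)
    (henum : ∀ c ∈ A, c = 1 ∨ c = x ∨ c = z ∨ c = x * z)
    (hxz1 : x * z ≠ 1)
    (hx2 : x ^ 2 = 1) (hz2 : z ^ 2 = 1) (hw2 : w ^ 2 = 1) (hz'2 : z' ^ 2 = 1)
    (hxz : Commute x z) (hwz : Commute w z) (hxz' : Commute x z') (hwz' : Commute w z')
    (hxw : ¬ Commute x w) (hzz' : ¬ Commute z z')
    (hσ : Odd (orderOf (z * z')))
    (hdx : d * x * d⁻¹ = w) (hdz : d * z * d⁻¹ = z)
    (hd'z : d' * z * d'⁻¹ = z') (hd'w : d' * w * d'⁻¹ = w) : False := by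
  obtain ⟨c, hcA, hc1, hc⟩ := hyp (x * z) (A.mul_mem hxA hzA) hxz1 (d' * d)
  have ht : d' * d * (x * z) * (d' * d)⁻¹ = w * z' := by
    calc d' * d * (x * z) * (d' * d)⁻¹
        = d' * ((d * x * d⁻¹) * (d * z * d⁻¹)) * d'⁻¹ := by group
      _ = d' * (w * z) * d'⁻¹ := by rw [hdx, hdz]
      _ = (d' * w * d'⁻¹) * (d' * z * d'⁻¹) := by group
      _ = w * z' := by rw [hd'w, hd'z]
  rw [ht] at hc
  have hxi := inv_eq_self_of_sq hx2
  have hzi := inv_eq_self_of_sq hz2
  have hwi := inv_eq_self_of_sq hw2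
  have hz'i := inv_eq_self_of_sq hz'2
  rcases henum c hcA with h0 | h0 | h0 | h0
  · exact hc1 h0
  · -- c = x
    rw [h0] at hc
    apply hxw
    have h1 : x * w * z' = w * x * z' := by
      calc x * w * z' = x * (w * z') := by group
        _ = w * z' * x := hc.eq
        _ = w * (z' * x) := by group
        _ = w * (x * z') := by rw [hxz'.eq]
        _ = w * x * z' := by group
    exact mul_right_cancel h1
  · -- c = z
    rw [h0] at hc
    apply hzz'
    have h1 : w * (z * z') = w * (z' * z) := by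
      calc w * (z * z') = (w * z) * z' := by group
        _ = (z * w) * z' := by rw [hwz.eq]
        _ = z * (w * z') := by group
        _ = w * z' * z := hc.eq
        _ = w * (z' * z) := by group
    exact mul_left_cancel h1
  · -- c = x * z
    rw [h0] at hc
    set ρ := x * w with hρ
    set σ := z * z' with hσ'
    have hρσ : Commute ρ σ := (hxz.mul_right hxz').mul_left (hwz.mul_right hwz')
    have hρi : ρ⁻¹ = w * x := by rw [hρ, mul_inv_rev, hxi, hwi]
    have hσi : σ⁻¹ = z' * z := by rw [hσ', mul_inv_rev, hzi, hz'i]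
    have h1 : ρ * σ = ρ⁻¹ * σ⁻¹ := by
      rw [hρi, hσi]
      calc ρ * σ = x * (w * z) * z' := by rw [hρ, hσ']; group
        _ = x * (z * w) * z' := by rw [hwz.eq]
        _ = x * z * (w * z') := by group
        _ = w * z' * (x * z) := hc.eq
        _ = w * (z' * x) * z := by group
        _ = w * (x * z') * z := by rw [hxz'.eq]
        _ = w * x * (z' * z) := by group
    have E1 : ρ ^ 2 * σ ^ 2 = 1 := by
      rw [← hρσ.mul_pow, sq]
      calc ρ * σ * (ρ * σ) = ρ * σ * (ρ⁻¹ * σ⁻¹) := by rw [← h1]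
        _ = ρ * (σ * ρ⁻¹) * σ⁻¹ := by group
        _ = ρ * (ρ⁻¹ * σ) * σ⁻¹ := by rw [hρσ.symm.inv_right.eq]
        _ = 1 := by group
    have hzρ : z * ρ * z⁻¹ = ρ := (hxz.symm.mul_right hwz.symm).mul_inv_cancel
    have hzσ : z * σ * z⁻¹ = σ⁻¹ := by
      rw [hσi, hσ', hzi]
      calc z * (z * z') * z = (z * z) * z' * z := by group
        _ = z' * z := by rw [← sq, hz2, one_mul]
    have E2 : ρ ^ 2 * (σ ^ 2)⁻¹ = 1 := by
      have h2 : z * (ρ ^ 2 * σ ^ 2) * z⁻¹ = 1 := by rw [E1, mul_one, mul_inv_cancel]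
      have h3 : z * (ρ ^ 2 * σ ^ 2) * z⁻¹ = (z * ρ * z⁻¹) ^ 2 * (z * σ * z⁻¹) ^ 2 := by
        rw [conj_pow, conj_pow]; group
      rw [h3, hzρ, hzσ, inv_pow] at h2
      exact h2
    have h4 : σ ^ 2 = (σ ^ 2)⁻¹ := by
      have a1 : σ ^ 2 = (ρ ^ 2)⁻¹ := eq_inv_of_mul_eq_one_right E1
      have a2 : (σ ^ 2)⁻¹ = (ρ ^ 2)⁻¹ := eq_inv_of_mul_eq_one_right E2
      exact a1.trans a2.symm
    have h5 : σ ^ 4 = 1 := by
      have : σ ^ 4 = σ ^ 2 * σ ^ 2 := by rw [← pow_add]
      rw [this]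
      nth_rewrite 2 [h4]
      exact mul_inv_cancel _
    have h6 : σ = 1 := eq_one_of_odd_of_pow_four hσ h5
    apply hzz'
    have : z' = z := by
      have h7 : z * z' = 1 := h6
      have := eq_inv_of_mul_eq_one_right h7
      rw [this, hzi]
    rw [this]

/-- Let A be a Klein four-subgroup of a finite group G. If every G-conjugate of every involution of A commutes with some involution of A (its centralizer meets A nontrivially), then A meets the largest normal 2-subgroup O₂(G) nontrivially. -/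
theorem result {G : Type*} [Group G] [Finite G]
    (A : Subgroup G) (hA : IsKleinFour ↥A)
    (h : ∀ a ∈ A, a ≠ 1 → ∀ g : G, A ⊓ Subgroup.centralizer ({g * a * g⁻¹} : Set G) ≠ ⊥) :
    A ⊓ Cfsg.pCore 2 G ≠ ⊥ := by
  intro hbot
  have hyp : ∀ a ∈ A, a ≠ 1 → ∀ g : G, ∃ c ∈ A, c ≠ 1 ∧ Commute c (g * a * g⁻¹) := by
    intro a ha ha1 g
    obtain ⟨c, hc⟩ := (Subgroup.ne_bot_iff_exists_ne_one).mp (h a ha ha1 g)
    refine ⟨c, c.2.1, fun h0 => hc (Subtype.ext h0), ?_⟩
    exact Subgroup.mem_centralizer_singleton_iff.mp c.2.2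
  have hA2 : ∀ a ∈ A, a ^ 2 = 1 := by
    intro a ha
    have h1 := IsKleinFour.mul_self (⟨a, ha⟩ : ↥A)
    have h2 : a * a = 1 := congrArg (fun b : ↥A => (b : G)) h1
    rw [sq]; exact h2
  have hAcomm : ∀ a ∈ A, ∀ b ∈ A, Commute a b := by
    intro a ha b hb
    have : IsMulCommutative ↥A := IsKleinFour.isMulCommutative
    have h1 := mul_comm' (⟨a, ha⟩ : ↥A) ⟨b, hb⟩
    exact congrArg (fun c : ↥A => (c : G)) h1
  have hnotO : ∀ a ∈ A, a ≠ 1 → a ∉ Cfsg.pCore 2 G := by
    intro a ha ha1 hO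
    have : a ∈ A ⊓ Cfsg.pCore 2 G := ⟨ha, hO⟩
    rw [hbot] at this
    exact ha1 (Subgroup.mem_bot.mp this)
  -- choose `x`
  obtain ⟨x, hxA, hx1⟩ : ∃ x ∈ A, x ≠ 1 := by
    have hne : A ≠ ⊥ := by
      intro h0
      have := hA.card_four
      rw [h0, Subgroup.card_bot] at this
      omega
    obtain ⟨x, hx⟩ := (Subgroup.ne_bot_iff_exists_ne_one).mp hne
    exact ⟨(x : G), x.2, fun h0 => hx (Subtype.ext h0)⟩
  have hx2 := hA2 x hxA
  obtain ⟨g, hodd, hne1⟩ := exists_conj_odd_order hx2 (hnotO x hxA hx1)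
  set w := g * x * g⁻¹ with hw
  have hw2 : w ^ 2 = 1 := by rw [hw, conj_pow, hx2, mul_one, mul_inv_cancel]
  obtain ⟨z, hzA, hz1, hzw⟩ := hyp x hxA hx1 g
  have hz2 := hA2 z hzA
  have hxw : ¬ Commute x w := by
    intro hc
    apply hne1
    have h4 : (x * w) ^ 4 = 1 := by
      have : (x * w) ^ 4 = ((x * w) ^ 2) ^ 2 := by rw [← pow_mul]
      rw [this, hc.mul_pow, hx2, hw2, one_mul, one_pow]
    exact orderOf_eq_one_iff.mpr (eq_one_of_odd_of_pow_four hodd h4)
  have hzx : z ≠ x := by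
    intro h0
    rw [h0] at hzw
    exact hxw hzw
  have hxz : Commute x z := hAcomm x hxA z hzA
  have henum : ∀ c ∈ A, c = 1 ∨ c = x ∨ c = z ∨ c = x * z := by
    intro c hcA
    by_contra hcon
    push Not at hcon
    obtain ⟨c1, cx, cz, cxz⟩ := hcon
    apply cxz
    have h1 := IsKleinFour.eq_mul_of_ne_all (G := ↥A) (x := ⟨x, hxA⟩) (y := ⟨z, hzA⟩) (z := ⟨c, hcA⟩)
      (fun h0 => hx1 (congrArg Subtype.val h0)) (fun h0 => hz1 (congrArg Subtype.val h0))
      (fun h0 => hzx (congrArg Subtype.val h0).symm) (fun h0 => c1 (congrArg Subtype.val h0))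
      (fun h0 => cx (congrArg Subtype.val h0)) (fun h0 => cz (congrArg Subtype.val h0))
    exact congrArg Subtype.val h1
  -- choose `z'`
  obtain ⟨g', hodd', hne1'⟩ := exists_conj_odd_order hz2 (hnotO z hzA hz1)
  set z' := g' * z * g'⁻¹ with hz'
  have hz'2 : z' ^ 2 = 1 := by rw [hz', conj_pow, hz2, mul_one, mul_inv_cancel]
  have hzz' : ¬ Commute z z' := by
    intro hc
    apply hne1'
    have h4 : (z * z') ^ 4 = 1 := by
      have : (z * z') ^ 4 = ((z * z') ^ 2) ^ 2 := by rw [← pow_mul]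
      rw [this, hc.mul_pow, hz2, hz'2, one_mul, one_pow]
    exact orderOf_eq_one_iff.mpr (eq_one_of_odd_of_pow_four hodd' h4)
  -- the conjugating elements
  set d := (x * w) ^ ((orderOf (x * w) - 1) / 2) with hd
  have hdx : d * x * d⁻¹ = w := conj_pow_mul_eq_of_odd hx2 hw2 hodd
  have hzρ : Commute z (x * w) := hxz.symm.mul_right hzw
  have hdz : d * z * d⁻¹ = z := (hzρ.symm.pow_left _).mul_inv_cancel
  set d' := (z * z') ^ ((orderOf (z * z') - 1) / 2) with hd'
  have hd'z : d' * z * d'⁻¹ = z' := conj_pow_mul_eq_of_odd hz2 hz'2 hodd'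
  have hd'comm : ∀ u : G, Commute u z → Commute u z' → d' * u * d'⁻¹ = u := by
    intro u h1 h2
    exact ((h1.mul_right h2).symm.pow_left _).mul_inv_cancel
  -- `z'` commutes with `x` or `x z`
  obtain ⟨c, hcA, hc1, hcz'⟩ := hyp z hzA hz1 g'
  -- and with `w` or `w z`
  obtain ⟨c2, hc2A, hc21, hc2⟩ := hyp z hzA hz1 (d⁻¹ * g')
  have hc2' : Commute (d * c2 * d⁻¹) z' := by
    have e : d⁻¹ * g' * z * (d⁻¹ * g')⁻¹ = d⁻¹ * z' * d := by rw [hz']; group
    rw [e] at hc2
    show d * c2 * d⁻¹ * z' = z' * (d * c2 * d⁻¹)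
    calc d * c2 * d⁻¹ * z' = d * (c2 * (d⁻¹ * z' * d)) * d⁻¹ := by group
      _ = d * ((d⁻¹ * z' * d) * c2) * d⁻¹ := by rw [hc2.eq]
      _ = z' * (d * c2 * d⁻¹) := by group
  have hxzA : x * z ∈ A := A.mul_mem hxA hzA
  have hxz1 : x * z ≠ 1 := by
    intro h0
    apply hzx
    have := eq_inv_of_mul_eq_one_right h0
    rw [this, inv_eq_self_of_sq hx2]
  have hdxz : d * (x * z) * d⁻¹ = w * z := by
    calc d * (x * z) * d⁻¹ = (d * x * d⁻¹) * (d * z * d⁻¹) := by group
      _ = w * z := by rw [hdx, hdz]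
  -- the mixed cases are impossible
  have hmixed : Commute (x * w * z) z' → False := by
    intro hc
    apply hzz'
    have h1 : (x * w * z) ^ orderOf (x * w) = z := by
      rw [hzρ.symm.mul_pow, pow_orderOf_eq_one, one_mul, pow_odd_of_sq hz2 hodd]
    rw [← h1]
    exact hc.pow_left _
  have hwz : Commute w z := hzw.symm
  rcases henum c hcA with h0 | h0 | h0 | h0
  · exact hc1 h0
  · -- `z'` commutes with `x`
    rw [h0] at hcz'
    rcases henum c2 hc2A with h2 | h2 | h2 | h2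
    · exact hc21 h2
    · -- and with `w`: case I
      rw [h2, hdx] at hc2'
      exact caseI A hyp x z w z' d d' hxA hzA henum hxz1 hx2 hz2 hw2 hz'2 hxz hwz hcz' hc2' hxw
        hzz' hodd' hdx hdz hd'z (hd'comm w hwz hc2')
    · rw [h2, hdz] at hc2'
      exact hzz' hc2'
    · -- and with `w z`: impossible
      rw [h2, hdxz] at hc2'
      apply hmixed
      have : x * w * z = x * (w * z) := by group
      rw [this]
      exact hcz'.mul_left hc2'
  · rw [h0] at hcz'
    exact hzz' hcz'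
  · -- `z'` commutes with `x z`
    rw [h0] at hcz'
    rcases henum c2 hc2A with h2 | h2 | h2 | h2
    · exact hc21 h2
    · -- and with `w`: impossible
      rw [h2, hdx] at hc2'
      apply hmixed
      have : x * w * z = (x * z) * w := by
        calc x * w * z = x * (w * z) := by group
          _ = x * (z * w) := by rw [hwz.eq]
          _ = (x * z) * w := by group
      rw [this]
      exact hcz'.mul_left hc2'
    · rw [h2, hdz] at hc2'
      exact hzz' hc2'
    · -- and with `w z`: case II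
      rw [h2, hdxz] at hc2'
      have hxz2 : (x * z) ^ 2 = 1 := hA2 _ hxzA
      have hwz2 : (w * z) ^ 2 = 1 := by rw [hwz.mul_pow, hw2, hz2, one_mul]
      have henum' : ∀ c ∈ A, c = 1 ∨ c = x * z ∨ c = z ∨ c = x * z * z := by
        intro c hc
        have e : x * z * z = x := by rw [mul_assoc, ← sq, hz2, mul_one]
        rw [e]
        rcases henum c hc with h0 | h0 | h0 | h0
        · exact Or.inl h0
        · exact Or.inr (Or.inr (Or.inr h0))
        · exact Or.inr (Or.inr (Or.inl h0))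
        · exact Or.inr (Or.inl h0)
      have hxzz1 : x * z * z ≠ 1 := by
        rw [mul_assoc, ← sq, hz2, mul_one]; exact hx1
      have hnc : ¬ Commute (x * z) (w * z) := by
        intro hc
        apply hxw
        have h1 : x * z * (w * z) = x * w := by
          calc x * z * (w * z) = x * (z * w) * z := by group
            _ = x * (w * z) * z := by rw [hwz.eq]
            _ = x * w * (z * z) := by group
            _ = x * w := by rw [← sq, hz2, mul_one]
        have h2 : w * z * (x * z) = w * x := by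
          calc w * z * (x * z) = w * (z * x) * z := by group
            _ = w * (x * z) * z := by rw [hxz.eq]
            _ = w * x * (z * z) := by group
            _ = w * x := by rw [← sq, hz2, mul_one]
        have h3 : x * z * (w * z) = w * z * (x * z) := hc.eq
        rw [h1, h2] at h3
        exact h3
      exact caseI A hyp (x * z) z (w * z) z' d d' hxzA hzA henum' hxzz1 hxz2 hz2 hwz2 hz'2
        (hxz.mul_left (Commute.refl z)) (hwz.mul_left (Commute.refl z)) hcz' hc2' hnc hzz' hodd'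
        hdxz hdz hd'z (hd'comm (w * z) (hwz.mul_left (Commute.refl z)) hc2')

end Cfsg.Agent.S3195
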