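import Mathlib
import Cfsg.Statements.S3011
import Cfsg.Agent.Helper53.OddDihedral
import Cfsg.Agent.S3195

set_option autoImplicit false
open Cfsg

namespace Cfsg.Agent.S3011

open Cfsg.Agent.Helper53
open Cfsg.Agent.S3195 (inv_eq_self_of_sq pow_odd_of_sq eq_one_of_odd_of_pow_four)

variable {G : Type*} [Group G]

/-- an element of odd order equal to its inverse is trivial -/
lemma eq_one_of_odd_of_inv_eq_self {h : G} (hodd : Odd (orderOf h)) (h2 : h⁻¹ = h) : h = 1 := by
  have hsq : h ^ 2 = 1 := by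
    rw [sq]
    nth_rewrite 1 [← h2]
    exact inv_mul_cancel h
  have h4 : h ^ 4 = 1 := by
    have : h ^ 4 = (h ^ 2) ^ 2 := by rw [← pow_mul]
    rw [this, hsq, one_pow]
  exact eq_one_of_odd_of_pow_four hodd h4

/-- The final contradiction: a direct product of two dihedral groups of twice odd order gives an
element of odd order inverted by `x z` and centralized by no involution of `V`. -/
lemma caseI (V : Subgroup G) (hS : Cfsg.IsSidkiPair V)
    (x z w z' : G) (hxA : x ∈ V) (hzA : z ∈ V)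
    (henum : ∀ c ∈ V, c = 1 ∨ c = x ∨ c = z ∨ c = x * z)
    (hx2 : x ^ 2 = 1) (hz2 : z ^ 2 = 1) (hw2 : w ^ 2 = 1) (hz'2 : z' ^ 2 = 1)
    (hxz : Commute x z) (hwz : Commute w z) (hxz' : Commute x z') (hwz' : Commute w z')
    (hρ : Odd (orderOf (x * w))) (hσ : Odd (orderOf (z * z')))
    (hρ1 : x * w ≠ 1) (hσ1 : z * z' ≠ 1) : False := by
  obtain ⟨ρ, hρdef⟩ : ∃ ρ : G, ρ = x * w := ⟨_, rfl⟩
  obtain ⟨σ, hσdef⟩ : ∃ σ : G, σ = z * z' := ⟨_, rfl⟩
  rw [← hρdef] at hρ hρ1
  rw [← hσdef] at hσ hσ1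
  have hρσ : Commute ρ σ := by
    rw [hρdef, hσdef]
    exact (hxz.mul_right hxz').mul_left (hwz.mul_right hwz')
  have hxρ : x * ρ * x⁻¹ = ρ⁻¹ := by rw [hρdef]; exact conj_mul_of_sq_eq_one hx2 hw2
  have hzσ : z * σ * z⁻¹ = σ⁻¹ := by rw [hσdef]; exact conj_mul_of_sq_eq_one hz2 hz'2
  have hxσ : x * σ * x⁻¹ = σ := by
    rw [hσdef]; exact (hxz.mul_right hxz').mul_inv_cancel
  have hzρ : z * ρ * z⁻¹ = ρ := by
    rw [hρdef]; exact (hxz.symm.mul_right hwz.symm).mul_inv_cancel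
  have hodd : Odd (orderOf (ρ * σ)) := by
    have hdvd := hρσ.orderOf_mul_dvd_lcm
    have h2 : Nat.lcm (orderOf ρ) (orderOf σ) ∣ orderOf ρ * orderOf σ := Nat.lcm_dvd_mul _ _
    exact Odd.of_dvd_nat (hρ.mul hσ) (hdvd.trans h2)
  have hinv : (x * z) * (ρ * σ) * (x * z)⁻¹ = (ρ * σ)⁻¹ := by
    calc (x * z) * (ρ * σ) * (x * z)⁻¹
        = x * ((z * ρ * z⁻¹) * (z * σ * z⁻¹)) * x⁻¹ := by group
      _ = x * (ρ * σ⁻¹) * x⁻¹ := by rw [hzρ, hzσ]
      _ = (x * ρ * x⁻¹) * (x * σ * x⁻¹)⁻¹ := by group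
      _ = ρ⁻¹ * σ⁻¹ := by rw [hxρ, hxσ]
      _ = (σ * ρ)⁻¹ := by rw [mul_inv_rev]
      _ = (ρ * σ)⁻¹ := by rw [hρσ.eq]
  obtain ⟨u, huV, hu1, hu⟩ := hS (ρ * σ) (x * z) (V.mul_mem hxA hzA) hodd hinv
  rcases henum u huV with h0 | h0 | h0 | h0
  · exact hu1 h0
  · -- u = x
    rw [h0] at hu
    have h1 : x * (ρ * σ) * x⁻¹ = ρ * σ := (show Commute x (ρ * σ) from hu).mul_inv_cancel
    have h2 : x * (ρ * σ) * x⁻¹ = ρ⁻¹ * σ := by
      calc x * (ρ * σ) * x⁻¹ = (x * ρ * x⁻¹) * (x * σ * x⁻¹) := by group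
        _ = ρ⁻¹ * σ := by rw [hxρ, hxσ]
    rw [h2] at h1
    exact hρ1 (eq_one_of_odd_of_inv_eq_self hρ (mul_right_cancel h1))
  · -- u = z
    rw [h0] at hu
    have h1 : z * (ρ * σ) * z⁻¹ = ρ * σ := (show Commute z (ρ * σ) from hu).mul_inv_cancel
    have h2 : z * (ρ * σ) * z⁻¹ = ρ * σ⁻¹ := by
      calc z * (ρ * σ) * z⁻¹ = (z * ρ * z⁻¹) * (z * σ * z⁻¹) := by group
        _ = ρ * σ⁻¹ := by rw [hzρ, hzσ]
    rw [h2] at h1
    exact hσ1 (eq_one_of_odd_of_inv_eq_self hσ (mul_left_cancel h1))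
  · -- u = x z
    rw [h0] at hu
    have h1 : (x * z) * (ρ * σ) * (x * z)⁻¹ = ρ * σ :=
      (show Commute (x * z) (ρ * σ) from hu).mul_inv_cancel
    rw [hinv] at h1
    have h3 : ρ * σ = 1 := eq_one_of_odd_of_inv_eq_self hodd h1
    have h4 : σ = ρ⁻¹ := (eq_inv_of_mul_eq_one_right h3)
    have h5 : x * ρ⁻¹ * x⁻¹ = ρ⁻¹ := by rw [← h4]; exact hxσ
    have h6 : x * ρ⁻¹ * x⁻¹ = (x * ρ * x⁻¹)⁻¹ := by group
    rw [h6, hxρ, inv_inv] at h5
    exact hρ1 (eq_one_of_odd_of_inv_eq_self hρ h5.symm)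

/-- Let G be a finite group and V a nontrivial elementary abelian 2-subgroup of G of order at most 4 such that, whenever an element of V inverts an element h of G of odd order, some nontrivial element of V commutes with h. Then V meets O₂(G) nontrivially. (The case of order at most 4 has a short argument from the Baer–Suzuki theorem.) -/
theorem result {G : Type*} [Group G] [Finite G] (V : Subgroup G) (hV : Cfsg.IsElementaryAbelian 2 V) (hV1 : V ≠ ⊥) (hS : Cfsg.IsSidkiPair V) (h4 : Nat.card V ≤ 4) : V ⊓ Cfsg.pCore 2 G ≠ ⊥ := by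
  classical
  intro hbot
  have hA2 : ∀ a ∈ V, a ^ 2 = 1 := hV.2
  have hAcomm : ∀ a ∈ V, ∀ b ∈ V, Commute a b := by
    intro a ha b hb
    have : IsMulCommutative ↥V := hV.1
    have h1 := mul_comm' (⟨a, ha⟩ : ↥V) ⟨b, hb⟩
    exact congrArg (fun c : ↥V => (c : G)) h1
  have hnotO : ∀ a ∈ V, a ≠ 1 → a ∉ Cfsg.pCore 2 G := by
    intro a ha ha1 hO
    have : a ∈ V ⊓ Cfsg.pCore 2 G := ⟨ha, hO⟩
    rw [hbot] at this
    exact ha1 (Subgroup.mem_bot.mp this)
  -- choose `x`
  obtain ⟨x, hxA, hx1⟩ : ∃ x ∈ V, x ≠ 1 := by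
    obtain ⟨x, hx⟩ := (Subgroup.ne_bot_iff_exists_ne_one).mp hV1
    exact ⟨(x : G), x.2, fun h0 => hx (Subtype.ext h0)⟩
  have hx2 := hA2 x hxA
  obtain ⟨g, hodd, hne1⟩ := exists_conj_odd_order hx2 (hnotO x hxA hx1)
  obtain ⟨w, hw⟩ : ∃ w : G, w = g * x * g⁻¹ := ⟨_, rfl⟩
  rw [← hw] at hodd hne1
  have hw2 : w ^ 2 = 1 := by rw [hw, conj_pow, hx2, mul_one, mul_inv_cancel]
  have hρ1 : x * w ≠ 1 := fun h0 => hne1 (orderOf_eq_one_iff.mpr h0)
  have hxρ : x * (x * w) * x⁻¹ = (x * w)⁻¹ := conj_mul_of_sq_eq_one hx2 hw2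
  obtain ⟨z, hzA, hz1, hzρ'⟩ := hS (x * w) x hxA hodd hxρ
  have hzρ : Commute z (x * w) := hzρ'
  have hz2 := hA2 z hzA
  have hzx : z ≠ x := by
    intro h0
    rw [h0] at hzρ
    have h1 : x * (x * w) * x⁻¹ = x * w := hzρ.mul_inv_cancel
    rw [hxρ] at h1
    exact hρ1 (eq_one_of_odd_of_inv_eq_self hodd h1)
  have hxz : Commute x z := hAcomm x hxA z hzA
  have hzw : Commute z w := by
    have e : w = x⁻¹ * (x * w) := by group
    rw [e]
    exact hxz.symm.inv_right.mul_right hzρ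
  have hwz : Commute w z := hzw.symm
  have hxzA : x * z ∈ V := V.mul_mem hxA hzA
  have hxz1 : x * z ≠ 1 := by
    intro h0
    apply hzx
    have := eq_inv_of_mul_eq_one_right h0
    rw [this, inv_eq_self_of_sq hx2]
  have henum : ∀ c ∈ V, c = 1 ∨ c = x ∨ c = z ∨ c = x * z := by
    intro c hcV
    by_contra hcon
    push Not at hcon
    obtain ⟨c1, cx, cz, cxz⟩ := hcon
    have hxxz : x ≠ x * z := by
      intro h0
      apply hz1
      have : x * 1 = x * z := by rw [mul_one]; exact h0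
      exact (mul_left_cancel this).symm
    have hzxz : z ≠ x * z := by
      intro h0
      apply hx1
      have : 1 * z = x * z := by rw [one_mul]; exact h0
      exact (mul_right_cancel this).symm
    let s : Finset G := insert c (insert (x * z) (insert z (insert x {1})))
    have hs5 : s.card = 5 := by
      rw [Finset.card_insert_of_notMem, Finset.card_insert_of_notMem,
        Finset.card_insert_of_notMem, Finset.card_insert_of_notMem, Finset.card_singleton]
      · simp only [Finset.mem_singleton]; exact hx1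
      · simp only [Finset.mem_insert, Finset.mem_singleton, not_or]; exact ⟨hzx, hz1⟩
      · simp only [Finset.mem_insert, Finset.mem_singleton, not_or]
        exact ⟨hzxz.symm, hxxz.symm, hxz1⟩
      · simp only [Finset.mem_insert, Finset.mem_singleton, not_or]
        exact ⟨cxz, cz, cx, c1⟩
    have hsub : (s : Set G) ⊆ (V : Set G) := by
      intro y hy
      simp only [s, Finset.coe_insert, Finset.coe_singleton, Set.mem_insert_iff,
        Set.mem_singleton_iff] at hy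
      rcases hy with rfl | rfl | rfl | rfl | rfl
      · exact hcV
      · exact hxzA
      · exact hzA
      · exact hxA
      · exact V.one_mem
    have h5 : 5 ≤ Nat.card V := by
      have h6 := Set.ncard_le_ncard hsub (Set.toFinite _)
      rw [Set.ncard_coe_finset, hs5] at h6
      have h7 : (V : Set G).ncard = Nat.card V := (Nat.card_coe_set_eq (V : Set G)).symm
      rw [h7] at h6
      exact h6
    omega
  -- choose `z'`
  obtain ⟨g', hodd', hne1'⟩ := exists_conj_odd_order hz2 (hnotO z hzA hz1)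
  obtain ⟨z', hz'⟩ : ∃ z' : G, z' = g' * z * g'⁻¹ := ⟨_, rfl⟩
  rw [← hz'] at hodd' hne1'
  have hz'2 : z' ^ 2 = 1 := by rw [hz', conj_pow, hz2, mul_one, mul_inv_cancel]
  have hσ1 : z * z' ≠ 1 := fun h0 => hne1' (orderOf_eq_one_iff.mpr h0)
  have hzσ : z * (z * z') * z⁻¹ = (z * z')⁻¹ := conj_mul_of_sq_eq_one hz2 hz'2
  -- the conjugating element
  obtain ⟨d, hd⟩ : ∃ d : G, d = (x * w) ^ ((orderOf (x * w) - 1) / 2) := ⟨_, rfl⟩
  have hdx : d * x * d⁻¹ = w := by rw [hd]; exact conj_pow_mul_eq_of_odd hx2 hw2 hodd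
  have hdz : d * z * d⁻¹ = z := by rw [hd]; exact (hzρ.symm.pow_left _).mul_inv_cancel
  have hdxz : d * (x * z) * d⁻¹ = w * z := by
    calc d * (x * z) * d⁻¹ = (d * x * d⁻¹) * (d * z * d⁻¹) := by group
      _ = w * z := by rw [hdx, hdz]
  -- `z'` commutes with `x` or `x z`
  obtain ⟨c, hcA, hc1, hcσ'⟩ := hS (z * z') z hzA hodd' hzσ
  have hcσ : Commute c (z * z') := hcσ'
  have hcz : c ≠ z := by
    intro h0
    rw [h0] at hcσ
    have h1 : z * (z * z') * z⁻¹ = z * z' := hcσ.mul_inv_cancel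
    rw [hzσ] at h1
    exact hσ1 (eq_one_of_odd_of_inv_eq_self hodd' h1)
  have hcz' : Commute c z' := by
    have e : z' = z⁻¹ * (z * z') := by group
    rw [e]
    exact (hAcomm c hcA z hzA).inv_right.mul_right hcσ
  -- and with `w` or `w z`
  have hzσd : z * (d⁻¹ * (z * z') * d) * z⁻¹ = (d⁻¹ * (z * z') * d)⁻¹ := by
    have hzd : z * d⁻¹ = d⁻¹ * z := by
      have : d⁻¹ * (d * z * d⁻¹) * d = d⁻¹ * z * d := by rw [hdz]
      have h1 : d⁻¹ * (d * z * d⁻¹) * d = z := by group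
      rw [h1] at this
      calc z * d⁻¹ = (d⁻¹ * z * d) * d⁻¹ := by rw [← this]
        _ = d⁻¹ * z := by group
    calc z * (d⁻¹ * (z * z') * d) * z⁻¹ = (z * d⁻¹) * (z * z') * (d * z⁻¹) := by group
      _ = (d⁻¹ * z) * (z * z') * (d * z⁻¹) := by rw [hzd]
      _ = d⁻¹ * (z * (z * z') * z⁻¹) * (z * d * z⁻¹) := by group
      _ = d⁻¹ * (z * z')⁻¹ * (z * d * z⁻¹) := by rw [hzσ]
      _ = d⁻¹ * (z * z')⁻¹ * d := by
          have : z * d * z⁻¹ = d := by
            have h2 : z * d⁻¹ * z⁻¹ = d⁻¹ := by rw [hzd]; group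
            have h3 : z * d * z⁻¹ = (z * d⁻¹ * z⁻¹)⁻¹ := by group
            rw [h3, h2, inv_inv]
          rw [this]
      _ = (d⁻¹ * (z * z') * d)⁻¹ := by group
  have hoddd : Odd (orderOf (d⁻¹ * (z * z') * d)) := by
    have hsc : SemiconjBy d⁻¹ (z * z') (d⁻¹ * (z * z') * d) := by
      unfold SemiconjBy; group
    rw [← hsc.orderOf_eq]
    exact hodd'
  obtain ⟨c2, hc2A, hc21, hc2'⟩ := hS (d⁻¹ * (z * z') * d) z hzA hoddd hzσd
  have hc2σ : Commute (d * c2 * d⁻¹) (z * z') := by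
    show d * c2 * d⁻¹ * (z * z') = (z * z') * (d * c2 * d⁻¹)
    calc d * c2 * d⁻¹ * (z * z') = d * (c2 * (d⁻¹ * (z * z') * d)) * d⁻¹ := by group
      _ = d * ((d⁻¹ * (z * z') * d) * c2) * d⁻¹ := by rw [hc2']
      _ = (z * z') * (d * c2 * d⁻¹) := by group
  have hc2z : c2 ≠ z := by
    intro h0
    rw [h0, hdz] at hc2σ
    have h1 : z * (z * z') * z⁻¹ = z * z' := hc2σ.mul_inv_cancel
    rw [hzσ] at h1
    exact hσ1 (eq_one_of_odd_of_inv_eq_self hodd' h1)
  have hc2z' : Commute (d * c2 * d⁻¹) z → Commute (d * c2 * d⁻¹) z' := by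
    intro h0
    have e : z' = z⁻¹ * (z * z') := by group
    rw [e]
    exact h0.inv_right.mul_right hc2σ
  -- the mixed cases are impossible
  have hmixed : Commute (x * w * z) z' → False := by
    intro hc
    have h1 : (x * w * z) ^ orderOf (x * w) = z := by
      rw [hzρ.symm.mul_pow, pow_orderOf_eq_one, one_mul, pow_odd_of_sq hz2 hodd]
    have h2 : Commute z z' := by
      rw [← h1]
      exact hc.pow_left _
    -- then z commutes with z z'
    have h3 : z * (z * z') * z⁻¹ = z * z' := ((Commute.refl z).mul_right h2).mul_inv_cancel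
    rw [hzσ] at h3
    exact hσ1 (eq_one_of_odd_of_inv_eq_self hodd' h3)
  rcases henum c hcA with h0 | h0 | h0 | h0
  · exact hc1 h0
  · -- `z'` commutes with `x`
    rw [h0] at hcz'
    rcases henum c2 hc2A with h2 | h2 | h2 | h2
    · exact hc21 h2
    · -- and with `w`: case I
      rw [h2, hdx] at hc2z'
      exact caseI V hS x z w z' hxA hzA henum hx2 hz2 hw2 hz'2 hxz hwz hcz' (hc2z' hwz)
        hodd hodd' hρ1 hσ1
    · exact hc2z h2
    · -- and with `w z`: impossible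
      rw [h2, hdxz] at hc2z'
      apply hmixed
      have : x * w * z = x * (w * z) := by group
      rw [this]
      exact hcz'.mul_left (hc2z' (hwz.mul_left (Commute.refl z)))
  · exact hcz h0
  · -- `z'` commutes with `x z`
    rw [h0] at hcz'
    rcases henum c2 hc2A with h2 | h2 | h2 | h2
    · exact hc21 h2
    · -- and with `w`: impossible
      rw [h2, hdx] at hc2z'
      apply hmixed
      have : x * w * z = (x * z) * w := by
        calc x * w * z = x * (w * z) := by group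
          _ = x * (z * w) := by rw [hwz.eq]
          _ = (x * z) * w := by group
      rw [this]
      exact hcz'.mul_left (hc2z' hwz)
    · exact hc2z h2
    · -- and with `w z`: case II
      rw [h2, hdxz] at hc2z'
      have hxz2 : (x * z) ^ 2 = 1 := hA2 _ hxzA
      have hwz2 : (w * z) ^ 2 = 1 := by rw [hwz.mul_pow, hw2, hz2, one_mul]
      have e : x * z * z = x := by rw [mul_assoc, ← sq, hz2, mul_one]
      have henum' : ∀ c ∈ V, c = 1 ∨ c = x * z ∨ c = z ∨ c = x * z * z := by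
        intro c hc
        rw [e]
        rcases henum c hc with h0 | h0 | h0 | h0
        · exact Or.inl h0
        · exact Or.inr (Or.inr (Or.inr h0))
        · exact Or.inr (Or.inr (Or.inl h0))
        · exact Or.inr (Or.inl h0)
      have hρeq : x * z * (w * z) = x * w := by
        calc x * z * (w * z) = x * (z * w) * z := by group
          _ = x * (w * z) * z := by rw [hwz.eq]
          _ = x * w * (z * z) := by group
          _ = x * w := by rw [← sq, hz2, mul_one]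
      exact caseI V hS (x * z) z (w * z) z' hxzA hzA henum' hxz2 hz2 hwz2 hz'2
        (hxz.mul_left (Commute.refl z)) (hwz.mul_left (Commute.refl z)) hcz'
        (hc2z' (hwz.mul_left (Commute.refl z))) (by rw [hρeq]; exact hodd) hodd'
        (by rw [hρeq]; exact hρ1) hσ1

end Cfsg.Agent.S3011
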