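import Cfsg.Statements.S3012
import Mathlib.FieldTheory.Finite.Basic

set_option autoImplicit false
open Cfsg

namespace Cfsg.Agent.S3012

/-- An element `y` whose image under `f` has odd order `n` has a power `y ^ k` of odd order with the same image. -/
theorem exists_odd_pow {G H : Type*} [Group G] [Group H] [Finite G] (f : G →* H) (y : G)
    (hodd : Odd (orderOf (f y))) : ∃ k : ℕ, Odd (orderOf (y ^ k)) ∧ f (y ^ k) = f y := by
  set N := orderOf y with hN
  have hNpos : 0 < N := orderOf_pos y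
  set n := orderOf (f y) with hn
  have hnN : n ∣ N := orderOf_map_dvd f y
  -- 2-part and odd part of N
  set a := N.factorization 2 with ha
  have hsplit : 2 ^ a * (N / 2 ^ a) = N := Nat.ordProj_mul_ordCompl_eq_self N 2
  have hoddpart : ¬ 2 ∣ N / 2 ^ a := Nat.not_dvd_ordCompl Nat.prime_two hNpos.ne'
  have hcop : Nat.Coprime (2 ^ a) n := by
    apply Nat.Coprime.pow_left
    rw [Nat.coprime_two_left]
    exact hodd
  refine ⟨(2 ^ a) ^ Nat.totient n, ?_, ?_⟩
  · -- order divides the odd part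
    have hnpos : 0 < n := by
      rcases hodd with ⟨t, ht⟩; omega
    have htot : 0 < Nat.totient n := Nat.totient_pos.mpr hnpos
    have hdvd : orderOf (y ^ ((2 ^ a) ^ Nat.totient n)) ∣ N / 2 ^ a := by
      apply orderOf_dvd_of_pow_eq_one
      rw [← pow_mul]
      apply orderOf_dvd_iff_pow_eq_one.mp
      have : (2 ^ a) ∣ (2 ^ a) ^ Nat.totient n := dvd_pow_self _ htot.ne'
      calc orderOf y = 2 ^ a * (N / 2 ^ a) := hsplit.symm
        _ ∣ (2 ^ a) ^ Nat.totient n * (N / 2 ^ a) := Nat.mul_dvd_mul_right this _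
    have : Odd (N / 2 ^ a) := by
      rw [← Nat.not_even_iff_odd, even_iff_two_dvd]
      exact hoddpart
    exact this.of_dvd_nat hdvd
  · rw [map_pow]
    have hmod : (2 ^ a) ^ Nat.totient n ≡ 1 [MOD n] := Nat.ModEq.pow_totient hcop
    have := (pow_eq_pow_iff_modEq (x := f y) (n := (2 ^ a) ^ Nat.totient n) (m := 1)).mpr hmod
    simpa using this

theorem result {G : Type*} [Group G] [Finite G] (V K : Subgroup G) [K.Normal] (hV : Cfsg.IsElementaryAbelian 2 V) (hV1 : V ≠ ⊥) (hS : Cfsg.IsSidkiPair V) (hVK : V ⊓ K = ⊥) : Cfsg.IsSidkiPair (V.map (QuotientGroup.mk' K)) := by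
  intro hb vb hvb hodd hinv
  obtain ⟨v, hvV, rfl⟩ := hvb
  have hv2 : v * v = 1 := by
    have := hV.2 v hvV
    rwa [pow_two] at this
  have hvinv : v⁻¹ = v := inv_eq_of_mul_eq_one_left hv2
  set π := QuotientGroup.mk' K with hπ
  have hπv2 : π v * π v = 1 := by rw [← map_mul, hv2, map_one]
  have hπvinv : (π v)⁻¹ = π v := inv_eq_of_mul_eq_one_left hπv2
  -- c̄ with c̄ ^ 2 = h̄, a power of h̄
  obtain ⟨t, ht⟩ := hodd
  set cb := hb ^ (t + 1) with hcb
  have hcb2 : cb * cb = hb := by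
    rw [hcb, ← pow_add, show t + 1 + (t + 1) = orderOf hb + 1 by omega, pow_succ, pow_orderOf_eq_one, one_mul]
  have hcbinv : π v * cb * (π v)⁻¹ = cb⁻¹ := by
    rw [hcb, ← inv_pow, ← hinv]
    exact (conj_pow (a := π v) (b := hb) (i := t + 1)).symm
  obtain ⟨c, hc⟩ := QuotientGroup.mk'_surjective K cb
  -- y = (c v c⁻¹) v
  set y := c * v * c⁻¹ * v with hy
  have hyv : v * y * v⁻¹ = y⁻¹ := by
    have hs : (c * v * c⁻¹) * (c * v * c⁻¹) = 1 := by
      calc (c * v * c⁻¹) * (c * v * c⁻¹) = c * (v * v) * c⁻¹ := by group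
        _ = 1 := by rw [hv2]; group
    have hsinv : (c * v * c⁻¹)⁻¹ = c * v * c⁻¹ := inv_eq_of_mul_eq_one_left hs
    rw [hy, mul_inv_rev, hsinv, hvinv]
    calc v * (c * v * c⁻¹ * v) * v = v * (c * v * c⁻¹) * (v * v) := by group
      _ = v * (c * v * c⁻¹) := by rw [hv2, mul_one]
  have hπy : π y = hb := by
    rw [hy, map_mul, map_mul, map_mul, map_inv, hc]
    have : π v * cb⁻¹ * π v = cb := by
      have h1 := hcbinv
      rw [hπvinv] at h1
      have h2 : (π v * cb * π v)⁻¹ = cb⁻¹⁻¹ := by rw [h1]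
      rw [mul_inv_rev, mul_inv_rev, hπvinv, inv_inv, ← mul_assoc] at h2
      exact h2
    calc cb * π v * cb⁻¹ * π v = cb * (π v * cb⁻¹ * π v) := by group
      _ = cb * cb := by rw [this]
      _ = hb := hcb2
  have hoddy : Odd (orderOf (π y)) := by rw [hπy]; exact ⟨t, ht⟩
  obtain ⟨k, hk1, hk2⟩ := exists_odd_pow π y hoddy
  have hinvk : v * y ^ k * v⁻¹ = (y ^ k)⁻¹ := by
    rw [← inv_pow, ← hyv]
    exact (conj_pow (a := v) (b := y) (i := k)).symm
  obtain ⟨w, hwV, hw1, hw⟩ := hS (y ^ k) v hvV hk1 hinvk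
  refine ⟨π w, ⟨w, hwV, rfl⟩, ?_, ?_⟩
  · intro h1
    have hwK : w ∈ K := (QuotientGroup.eq_one_iff w).mp h1
    have : w ∈ V ⊓ K := ⟨hwV, hwK⟩
    rw [hVK] at this
    exact hw1 (Subgroup.mem_bot.mp this)
  · rw [← hπy, ← hk2, ← map_mul, ← map_mul, hw]

end Cfsg.Agent.S3012
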