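import Cfsg.Statements.S3013

set_option autoImplicit false
open Cfsg

namespace Cfsg.Agent.S3013

theorem key {G : Type*} [Group G] (V : Subgroup G) (hV : Cfsg.IsElementaryAbelian 2 V)
    (hS : Cfsg.IsSidkiPair V) (v x u h : G) (hv : v ∈ V) (hu : u ∈ V)
    (hx : Odd (orderOf x)) (hh : Odd (orderOf h))
    (hinv : v * x * v⁻¹ = x⁻¹) (hvh : v * h = h * v) (hxh : x * h = h * x)
    (hux : u * x = x * u) (huh : u * h * u⁻¹ = h⁻¹) :
    ∃ w ∈ V, w ≠ 1 ∧ w * h = h * w ∧ w * x = x * w := by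
  have hcomm : ∀ a ∈ V, ∀ b ∈ V, a * b = b * a := by
    intro a ha b hb
    have := hV.1
    have h1 := this.is_comm.comm ⟨a, ha⟩ ⟨b, hb⟩
    exact congrArg Subtype.val h1
  -- uv inverts h * x
  have hcxh : Commute h x := hxh.symm
  have hodd : Odd (orderOf (h * x)) := by
    have hdvd : orderOf (h * x) ∣ Nat.lcm (orderOf h) (orderOf x) := hcxh.orderOf_mul_dvd_lcm
    have : Odd (Nat.lcm (orderOf h) (orderOf x)) := by
      have h2 : Nat.lcm (orderOf h) (orderOf x) ∣ orderOf h * orderOf x := Nat.lcm_dvd_mul _ _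
      exact (Odd.mul hh hx).of_dvd_nat h2
    exact this.of_dvd_nat hdvd
  have huv : u * v ∈ V := V.mul_mem hu hv
  have e1 : v * h * v⁻¹ = h := by rw [hvh]; group
  have e2 : u * x * u⁻¹ = x := by rw [hux]; group
  have e3 : v * (h * x) * v⁻¹ = h * x⁻¹ := by
    calc v * (h * x) * v⁻¹ = (v * h * v⁻¹) * (v * x * v⁻¹) := by group
      _ = h * x⁻¹ := by rw [e1, hinv]
  have hinv2 : (u * v) * (h * x) * (u * v)⁻¹ = (h * x)⁻¹ := by
    calc (u * v) * (h * x) * (u * v)⁻¹ = u * (v * (h * x) * v⁻¹) * u⁻¹ := by group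
      _ = u * (h * x⁻¹) * u⁻¹ := by rw [e3]
      _ = (u * h * u⁻¹) * (u * x * u⁻¹)⁻¹ := by group
      _ = h⁻¹ * x⁻¹ := by rw [huh, e2]
      _ = (h * x)⁻¹ := by rw [mul_inv_rev, hcxh.inv_inv.eq]
  obtain ⟨w, hwV, hw1, hw⟩ := hS (h * x) (u * v) huv hodd hinv2
  refine ⟨w, hwV, hw1, ?_⟩
  have hwv : Commute w v := hcomm w hwV v hv
  have hw' : Commute w (h * x) := hw
  have hw2 : Commute w (h * x⁻¹) := by
    rw [← e3]
    exact (hwv.mul_right hw').mul_right hwv.inv_right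
  have hh2 : (h * x) * (h * x⁻¹) = h ^ 2 := by
    calc (h * x) * (h * x⁻¹) = h * (x * h) * x⁻¹ := by group
      _ = h * (h * x) * x⁻¹ := by rw [hxh]
      _ = h ^ 2 := by rw [pow_two]; group
  have hw3 : Commute w (h ^ 2) := by
    rw [← hh2]
    exact Commute.mul_right hw' hw2
  have hwh : Commute w h := by
    obtain ⟨k, hk⟩ := hh
    have : h = (h ^ 2) ^ (k + 1) := by
      rw [← pow_mul, show 2 * (k + 1) = orderOf h + 1 by omega, pow_succ, pow_orderOf_eq_one, one_mul]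
    rw [this]
    exact hw3.pow_right _
  refine ⟨hwh.eq, ?_⟩
  have : Commute w (h⁻¹ * (h * x)) := Commute.mul_right hwh.inv_right hw'
  simpa using this.eq

theorem result {G : Type*} [Group G] [Finite G] (V : Subgroup G) (hV : Cfsg.IsElementaryAbelian 2 V) (hV1 : V ≠ ⊥) (hS : Cfsg.IsSidkiPair V) (v x : G) (hv : v ∈ V) (hx : Odd (orderOf x)) (hinv : v * x * v⁻¹ = x⁻¹) (C : Subgroup G) (hC : C = Subgroup.centralizer ({v} : Set G) ⊓ Subgroup.centralizer ({x} : Set G)) : C ⊓ V ≠ ⊥ ∧ Cfsg.IsSidkiPair ((C ⊓ V).subgroupOf C) := by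
  have hcomm : ∀ a ∈ V, ∀ b ∈ V, a * b = b * a := by
    intro a ha b hb
    have := hV.1
    have h1 := this.is_comm.comm ⟨a, ha⟩ ⟨b, hb⟩
    exact congrArg Subtype.val h1
  have memC : ∀ g : G, g ∈ C ↔ (v * g = g * v ∧ x * g = g * x) := by
    intro g
    rw [hC, Subgroup.mem_inf, Subgroup.mem_centralizer_iff, Subgroup.mem_centralizer_iff]
    simp
  constructor
  · obtain ⟨w, hwV, hw1, hw⟩ := hS x v hv hx hinv
    intro hbot
    have hwC : w ∈ C := (memC w).2 ⟨hcomm v hv w hwV, hw.symm⟩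
    have : w ∈ C ⊓ V := ⟨hwC, hwV⟩
    rw [hbot] at this
    exact hw1 (Subgroup.mem_bot.mp this)
  · intro h u hu hh huh
    have huCV : (u : G) ∈ C ⊓ V := by
      simpa [Subgroup.mem_subgroupOf] using hu
    have hhC := (memC h).1 h.2
    have huC := (memC u).1 u.2
    have hh' : Odd (orderOf (h : G)) := by
      rwa [Subgroup.orderOf_coe]
    have huh' : (u : G) * h * (u : G)⁻¹ = (h : G)⁻¹ := by
      have := congrArg Subtype.val huh
      simpa using this
    obtain ⟨w, hwV, hw1, hwh, hwx⟩ := key V hV hS v x u h hv huCV.2 hx hh' hinv hhC.1 hhC.2 huC.2.symm huh'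
    have hwC : w ∈ C := (memC w).2 ⟨hcomm v hv w hwV, hwx.symm⟩
    refine ⟨⟨w, hwC⟩, ?_, ?_, ?_⟩
    · rw [Subgroup.mem_subgroupOf]
      exact ⟨hwC, hwV⟩
    · intro h1
      apply hw1
      exact congrArg Subtype.val h1
    · apply Subtype.ext
      simpa using hwh

end Cfsg.Agent.S3013
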