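import Cfsg.Statements.S3014
import Cfsg.Agent.Helper50.TransferFix
import Cfsg.Agent.Helper50.LocallyCentral

set_option autoImplicit false
open Cfsg

namespace Cfsg.Agent.S3014


open Subgroup Cfsg.Agent.Helper50 in
/-- a subgroup between `H` and `M`, not inside `H`, is `M`, when `H` is maximal in `M` -/
theorem eq_of_coatom_subgroupOf {G : Type*} [Group G] {H M X : Subgroup G}
    (hmaxH : IsCoatom (H.subgroupOf M)) (hHX : H ≤ X) (hXM : X ≤ M) (hne : ¬ X ≤ H) : X = M := by
  apply le_antisymm hXM
  obtain ⟨x, hxX, hxH⟩ := SetLike.not_le_iff_exists.mp hne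
  have hlt : H.subgroupOf M < X.subgroupOf M := by
    refine lt_of_le_of_ne ?_ ?_
    · intro y hy
      exact hHX hy
    · intro heq
      have : (⟨x, hXM hxX⟩ : M) ∈ X.subgroupOf M := hxX
      rw [← heq] at this
      exact hxH this
  have := hmaxH.2 _ hlt
  exact Subgroup.subgroupOf_eq_top.mp this

open Subgroup Cfsg.Agent.Helper50 in
/-- the quotient by a normal maximal subgroup is cyclic -/
theorem isCyclic_quotient_of_coatom {M : Type*} [Group M] (K : Subgroup M) [K.Normal]
    (hK : IsCoatom K) : IsCyclic (M ⧸ K) := by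
  have hsub : ∀ S : Subgroup (M ⧸ K), S = ⊥ ∨ S = ⊤ := by
    intro S
    have hle : K ≤ S.comap (QuotientGroup.mk' K) := by
      intro k hk
      rw [Subgroup.mem_comap]
      have : (QuotientGroup.mk' K) k = 1 := (QuotientGroup.eq_one_iff k).mpr hk
      rw [this]; exact S.one_mem
    have hS : S = (S.comap (QuotientGroup.mk' K)).map (QuotientGroup.mk' K) :=
      (Subgroup.map_comap_eq_self_of_surjective (QuotientGroup.mk'_surjective K) S).symm
    rcases eq_or_lt_of_le hle with h | h
    · left
      rw [hS, ← h]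
      rw [eq_bot_iff]
      rintro _ ⟨k, hk, rfl⟩
      exact (QuotientGroup.eq_one_iff k).mpr hk
    · right
      rw [hS, hK.2 _ h, ← MonoidHom.range_eq_map]
      exact MonoidHom.range_eq_top.mpr (QuotientGroup.mk'_surjective K)
  have hnt : ∃ q : M ⧸ K, q ≠ 1 := by
    obtain ⟨m, -, hm⟩ := SetLike.exists_of_lt (lt_top_iff_ne_top.mpr hK.1)
    exact ⟨QuotientGroup.mk' K m, fun h => hm ((QuotientGroup.eq_one_iff m).mp h)⟩
  obtain ⟨q, hq⟩ := hnt
  rw [isCyclic_iff_exists_zpowers_eq_top]
  refine ⟨q, (hsub _).resolve_left ?_⟩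
  intro hb
  apply hq
  have : q ∈ zpowers q := mem_zpowers q
  rw [hb] at this
  exact mem_bot.mp this

/-- Let G be a finite group and H ≤ M ≤ G subgroups such that for every g ∈ G the subgroup generated by H and g H g⁻¹ meets M exactly in H. If H is a maximal subgroup of M and M is a maximal subgroup of G, then the normal closure of H in G meets M exactly in H. -/
theorem result {G : Type*} [Group G] [Finite G] (H M : Subgroup G) (hHM : H ≤ M) (hcl : ∀ g : G, (H ⊔ H.map (MulAut.conj g).toMonoidHom) ⊓ M = H) (hmaxH : IsCoatom (H.subgroupOf M)) (hmaxM : IsCoatom M) : Subgroup.normalClosure (H : Set G) ⊓ M = H := by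
  classical
  have hH_le : H ≤ Subgroup.normalClosure (H : Set G) ⊓ M :=
    le_inf Subgroup.le_normalClosure hHM
  refine le_antisymm ?_ hH_le
  -- strong closure
  have hsc : ∀ g : G, Cfsg.Agent.Helper50.cjg g H ⊓ M ≤ H := fun g => by
    calc Cfsg.Agent.Helper50.cjg g H ⊓ M ≤ (H ⊔ Cfsg.Agent.Helper50.cjg g H) ⊓ M :=
          inf_le_inf_right _ le_sup_right
      _ = H := hcl g
  -- `H` is normal in `M`
  have hMN : M ≤ Subgroup.normalizer (H : Set G) := by
    intro m hm
    apply Cfsg.Agent.Helper50.mem_normalizer_of_cjg_le H m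
    have h1 : Cfsg.Agent.Helper50.cjg m H ≤ M := by
      rintro _ ⟨h, hh, rfl⟩
      exact M.mul_mem (M.mul_mem hm (hHM hh)) (M.inv_mem hm)
    exact (le_inf le_rfl h1).trans (hsc m)
  by_cases hHn : Subgroup.normalizer (H : Set G) = ⊤
  · have hn : H.Normal := Subgroup.normalizer_eq_top_iff.mp hHn
    rw [Subgroup.normalClosure_eq_self]
    exact inf_le_left
  have hNM : Subgroup.normalizer (H : Set G) = M := by
    rcases eq_or_lt_of_le hMN with h | h
    · exact h.symm
    · exact absurd (hmaxM.2 _ h) hHn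
  by_cases hB : ∀ g : G, g ∉ M → ∀ w ∈ M, g * w * g⁻¹ ∈ M → w ∈ H
  · -- transfer case
    have hnormal : (H.subgroupOf M).Normal :=
      (Subgroup.normal_subgroupOf_iff_le_normalizer hHM).mpr hMN
    have hcyc : IsCyclic (↥M ⧸ H.subgroupOf M) := isCyclic_quotient_of_coatom _ hmaxH
    let _ : CommGroup (↥M ⧸ H.subgroupOf M) := IsCyclic.commGroup
    let ϕ : ↥M →* (↥M ⧸ H.subgroupOf M) := QuotientGroup.mk' (H.subgroupOf M)
    have hϕ : ∀ (y : G) (hy : y ∈ M), MonoidHom.transfer ϕ y = ϕ ⟨y, hy⟩ := by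
      apply Cfsg.Agent.Helper50.transfer_eq_of_forall M ϕ
      intro g hg z hz hmem
      have : g⁻¹ * z * g ∈ H := by
        apply hB g hg _ hmem
        have : g * (g⁻¹ * z * g) * g⁻¹ = z := by group
        rw [this]; exact hz
      exact (QuotientGroup.eq_one_iff _).mpr this
    have hHker : H ≤ (MonoidHom.transfer ϕ).ker := by
      intro h hh
      rw [MonoidHom.mem_ker, hϕ h (hHM hh)]
      exact (QuotientGroup.eq_one_iff _).mpr hh
    have hNker : Subgroup.normalClosure (H : Set G) ≤ (MonoidHom.transfer ϕ).ker :=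
      Subgroup.normalClosure_le_normal hHker
    intro y hy
    have h1 : MonoidHom.transfer ϕ y = 1 := MonoidHom.mem_ker.mp (hNker hy.1)
    rw [hϕ y hy.2] at h1
    have h2 : (⟨y, hy.2⟩ : ↥M) ∈ H.subgroupOf M := (QuotientGroup.eq_one_iff _).mp h1
    exact h2
  · -- a normal subgroup `T = ⟨H, H^k⟩`
    push Not at hB
    obtain ⟨g, hg, w, hwM, hgw, hwH⟩ := hB
    set k := g⁻¹ with hk
    have hkM : k ∉ M := fun h => hg (by simpa [hk] using M.inv_mem h)
    set K := Cfsg.Agent.Helper50.cjg k H with hK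
    set T := H ⊔ K with hT
    have hKM : ¬ K ≤ M := by
      intro hle
      have h1 : K ≤ H := (le_inf le_rfl hle).trans (hsc k)
      have h2 := Cfsg.Agent.Helper50.mem_normalizer_of_cjg_le H k h1
      rw [hNM] at h2
      exact hkM h2
    -- `w` normalizes `T`
    have hwT : w ∈ Subgroup.normalizer (T : Set G) := by
      apply Cfsg.Agent.Helper50.mem_normalizer_of_cjg_le T w
      have h1 : Cfsg.Agent.Helper50.cjg w H = H :=
        Subgroup.mem_normalizer_iff_map_conj_eq.mp (hMN hwM)
      have h2 : Cfsg.Agent.Helper50.cjg w K = K := by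
        have hwK : w ∈ Cfsg.Agent.Helper50.cjg k (Subgroup.normalizer (H : Set G)) := by
          rw [hNM]
          refine Cfsg.Agent.Helper50.mem_cjg.mpr ⟨g * w * g⁻¹, hgw, ?_⟩
          rw [hk]; group
        exact Subgroup.mem_normalizer_iff_map_conj_eq.mp
          (Cfsg.Agent.Helper50.cjg_normalizer_le k H hwK)
      show Subgroup.map (MulAut.conj w).toMonoidHom (H ⊔ K) ≤ H ⊔ K
      rw [Subgroup.map_sup]
      exact le_of_eq (by rw [show Subgroup.map (MulAut.conj w).toMonoidHom H = H from h1,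
        show Subgroup.map (MulAut.conj w).toMonoidHom K = K from h2])
    have hHw : H ⊔ Subgroup.zpowers w = M := by
      apply eq_of_coatom_subgroupOf hmaxH le_sup_left (sup_le hHM (Subgroup.zpowers_le.mpr hwM))
      intro hle
      exact hwH (hle ((le_sup_right : Subgroup.zpowers w ≤ H ⊔ Subgroup.zpowers w)
        (Subgroup.mem_zpowers w)))
    have hMT : M ≤ Subgroup.normalizer (T : Set G) := by
      rw [← hHw]
      exact sup_le ((le_sup_left : H ≤ T).trans Subgroup.le_normalizer)
        (Subgroup.zpowers_le.mpr hwT)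
    have hKT : K ≤ Subgroup.normalizer (T : Set G) :=
      (le_sup_right : K ≤ T).trans Subgroup.le_normalizer
    have hTtop : Subgroup.normalizer (T : Set G) = ⊤ := by
      rcases eq_or_lt_of_le hMT with h | h
      · exact absurd (h ▸ hKT) hKM
      · exact hmaxM.2 _ h
    have hTn : T.Normal := Subgroup.normalizer_eq_top_iff.mp hTtop
    have hNT : Subgroup.normalClosure (H : Set G) ≤ T :=
      Subgroup.normalClosure_le_normal (le_sup_left : H ≤ T)
    calc Subgroup.normalClosure (H : Set G) ⊓ M ≤ T ⊓ M := inf_le_inf_right _ hNT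
      _ = H := hcl k

end Cfsg.Agent.S3014
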