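import Cfsg.Statements.S3015
import Cfsg.Agent.S3014

set_option autoImplicit false
open Cfsg

namespace Cfsg.Agent.S3015


open Subgroup Cfsg.Agent.Helper50 in
/-- prime index in `M` gives maximality in `M` -/
theorem isCoatom_of_relIndex_prime {G : Type*} [Group G] {H M : Subgroup G}
    (hidx : (H.relIndex M).Prime) : IsCoatom (H.subgroupOf M) := by
  constructor
  · intro htop
    have : (H.subgroupOf M).index = 1 := by rw [htop]; exact Subgroup.index_top
    have h1 : H.relIndex M = 1 := this
    rw [h1] at hidx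
    exact Nat.not_prime_one hidx
  · intro K' hlt
    have h1 := Subgroup.relIndex_mul_index hlt.le
    have h2 : (H.subgroupOf M).index = H.relIndex M := rfl
    rw [h2] at h1
    rcases (Nat.dvd_prime hidx).mp (Dvd.intro_left _ h1) with h | h
    · exact Subgroup.index_eq_one.mp h
    · exfalso
      rw [h] at h1
      have h3 : (H.subgroupOf M).relIndex K' = 1 := by
        have hpos : 0 < H.relIndex M := hidx.pos
        nlinarith
      have := Subgroup.relIndex_eq_one.mp h3
      exact (not_le_of_gt hlt) this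

open Subgroup Cfsg.Agent.Helper50 in
theorem mem_of_pow_mem_of_coprime' {G : Type*} [Group G] {H : Subgroup G} {n : G} {k l : ℕ}
    (hkl : k.Coprime l) (hk : n ^ k ∈ H) (hl : n ^ l ∈ H) : n ∈ H := by
  have h1 : (n ^ k) ^ (Nat.gcdA k l) * (n ^ l) ^ (Nat.gcdB k l) ∈ H :=
    H.mul_mem (H.zpow_mem hk _) (H.zpow_mem hl _)
  have h2 : (n ^ k) ^ (Nat.gcdA k l) * (n ^ l) ^ (Nat.gcdB k l) = n := by
    rw [← zpow_natCast n k, ← zpow_natCast n l, ← zpow_mul, ← zpow_mul, ← zpow_add,
      ← Nat.gcd_eq_gcd_ab, hkl.gcd_eq_one]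
    simp
  rwa [h2] at h1

/-- Let G be a finite non-abelian simple group, M a maximal subgroup of G and H a normal subgroup of M of prime index in M. Then G is generated by H together with one of its conjugates. -/
theorem result {G : Type*} [Group G] [Finite G] [IsSimpleGroup G] (hG : ¬ IsMulCommutative G) (M H : Subgroup G) (hmaxM : IsCoatom M) (hHM : H ≤ M) (hHn : (H.subgroupOf M).Normal) (hidx : (H.relIndex M).Prime) : ∃ g : G, H ⊔ H.map (MulAut.conj g).toMonoidHom = ⊤ := by
  classical
  by_contra hno
  push Not at hno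
  have hrp : (H.relIndex M).Prime := hidx
  have : Fact (H.relIndex M).Prime := ⟨hidx⟩
  set r := H.relIndex M with hr
  have hMtop : M ≠ ⊤ := hmaxM.1
  have hcoH : IsCoatom (H.subgroupOf M) := isCoatom_of_relIndex_prime hidx
  have hMNH : M ≤ Subgroup.normalizer (H : Set G) :=
    (Subgroup.normal_subgroupOf_iff_le_normalizer hHM).mp hHn
  have hHM_ne : H ≠ M := by
    intro h
    have : H.relIndex M = 1 := by rw [h]; exact Subgroup.relIndex_self M
    rw [← hr] at this
    rw [this] at hrp
    exact Nat.not_prime_one hrp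
  -- Step 0: `H` is not trivial
  have hH0 : H ≠ ⊥ := by
    intro hbot
    have hcardM : Nat.card M = r := by
      rw [hr, hbot, Subgroup.relIndex_bot_left]
    have hMp : IsPGroup r M := IsPGroup.of_card (n := 1) (by rw [hcardM, pow_one])
    have hMcyc : IsCyclic M := isCyclic_of_prime_card hcardM
    have hMab : IsMulCommutative M := hMcyc.isMulCommutative
    have hMbot : M ≠ ⊥ := by
      intro h
      rw [h, Subgroup.card_bot] at hcardM
      rw [← hcardM] at hrp
      exact Nat.not_prime_one hrp
    have hNM : Subgroup.normalizer (M : Set G) = M := by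
      rcases eq_or_lt_of_le (Subgroup.le_normalizer : M ≤ Subgroup.normalizer (M : Set G)) with h | h
      · exact h.symm
      · have hn : M.Normal := Subgroup.normalizer_eq_top_iff.mp (hmaxM.2 _ h)
        rcases hn.eq_bot_or_eq_top with h1 | h1
        · exact absurd h1 hMbot
        · exact absurd h1 hMtop
    obtain ⟨h1, h2⟩ := Cfsg.Agent.Helper50.normal_complement_of_self_normalizing M hMp hMab hNM
    have hnorm : (Cfsg.pPrimeCore r G).Normal :=
      @Subgroup.normal_of_characteristic _ _ _ (Cfsg.Agent.Lib.pPrimeCore_characteristic r (G := G))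
    rcases hnorm.eq_bot_or_eq_top with h3 | h3
    · rw [h3, sup_bot_eq] at h1
      exact hMtop h1
    · rw [h3, inf_top_eq] at h2
      exact hMbot h2
  have hMbot : M ≠ ⊥ := fun h => hH0 (le_bot_iff.mp (h ▸ hHM))
  have hNH : Subgroup.normalizer (H : Set G) = M := by
    rcases eq_or_lt_of_le hMNH with h | h
    · exact h.symm
    · have hn : H.Normal := Subgroup.normalizer_eq_top_iff.mp (hmaxM.2 _ h)
      rcases hn.eq_bot_or_eq_top with h1 | h1
      · exact absurd h1 hH0
      · exact absurd (top_le_iff.mp (h1 ▸ hHM)) hMtop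
  have hNM : Subgroup.normalizer (M : Set G) = M := by
    rcases eq_or_lt_of_le (Subgroup.le_normalizer : M ≤ Subgroup.normalizer (M : Set G)) with h | h
    · exact h.symm
    · have hn : M.Normal := Subgroup.normalizer_eq_top_iff.mp (hmaxM.2 _ h)
      rcases hn.eq_bot_or_eq_top with h1 | h1
      · exact absurd h1 hMbot
      · exact absurd h1 hMtop
  -- elements of `M` of order prime to `r` lie in `H`
  have hcopH : ∀ x ∈ M, (orderOf x).Coprime r → x ∈ H := by
    intro x hx hcop
    have h1 : (⟨x, hx⟩ : M) ^ (H.subgroupOf M).index ∈ H.subgroupOf M :=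
      (H.subgroupOf M).pow_index_mem ⟨x, hx⟩
    have h2 : x ^ r ∈ H := by
      have : ((⟨x, hx⟩ : M) ^ (H.subgroupOf M).index : M) = ⟨x ^ r, M.pow_mem hx r⟩ := rfl
      rw [this] at h1
      exact h1
    have h3 : x ^ orderOf x ∈ H := by rw [pow_orderOf_eq_one]; exact H.one_mem
    exact mem_of_pow_mem_of_coprime' hcop h3 h2
  -- Step 2: weak closure
  have hwc : ∀ g : G, Cfsg.Agent.Helper50.cjg g H ≤ M → g ∈ M := by
    intro g hg
    by_contra hgM
    set S : Set G := {x : G | x ∈ M ∧ (orderOf x).Coprime r} with hS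
    set L : Subgroup G := Subgroup.closure S with hL
    have hLH : L ≤ H := by
      rw [hL, Subgroup.closure_le]
      intro x hx
      exact hcopH x hx.1 hx.2
    have hLconj : ∀ k : G, Cfsg.Agent.Helper50.cjg k H ≤ M →
        k ∈ Subgroup.normalizer (L : Set G) := by
      intro k hk
      apply Cfsg.Agent.Helper50.mem_normalizer_of_cjg_le L k
      show Subgroup.map (MulAut.conj k).toMonoidHom L ≤ L
      rw [hL, MonoidHom.map_closure, Subgroup.closure_le]
      rintro _ ⟨x, hx, rfl⟩
      apply Subgroup.subset_closure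
      refine ⟨hk (Cfsg.Agent.Helper50.mem_cjg.mpr ⟨x, hcopH x hx.1 hx.2, rfl⟩), ?_⟩
      have : orderOf ((MulAut.conj k).toMonoidHom x) = orderOf x :=
        orderOf_injective (MulAut.conj k).toMonoidHom (MulAut.conj k).injective x
      rw [this]
      exact hx.2
    have hML : M ≤ Subgroup.normalizer (L : Set G) := by
      intro m hm
      apply hLconj m
      rintro _ ⟨h, hh, rfl⟩
      exact M.mul_mem (M.mul_mem hm (hHM hh)) (M.inv_mem hm)
    have hgL : g ∈ Subgroup.normalizer (L : Set G) := hLconj g hg
    have hLtop : Subgroup.normalizer (L : Set G) = ⊤ := by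
      rcases eq_or_lt_of_le hML with h | h
      · exact absurd (h ▸ hgL) hgM
      · exact hmaxM.2 _ h
    have hLn : L.Normal := Subgroup.normalizer_eq_top_iff.mp hLtop
    have hLbot : L = ⊥ := by
      rcases hLn.eq_bot_or_eq_top with h1 | h1
      · exact h1
      · exact absurd (top_le_iff.mp (h1 ▸ hLH.trans hHM)) hMtop
    -- `M` is an `r`-group
    have hMp : IsPGroup r M := by
      rintro ⟨x, hx⟩
      obtain ⟨a, m, hm, hnm⟩ := Nat.exists_eq_pow_mul_and_not_dvd (orderOf_pos x).ne' r hrp.ne_one
      refine ⟨a, ?_⟩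
      have hord : orderOf (x ^ r ^ a) = m := by
        rw [orderOf_pow_of_dvd (pow_ne_zero a hrp.ne_zero) (hnm ▸ Dvd.intro _ rfl), hnm]
        exact Nat.mul_div_cancel_left m (pow_pos hrp.pos a)
      have hmem : x ^ r ^ a ∈ L := by
        apply Subgroup.subset_closure
        refine ⟨M.pow_mem hx _, ?_⟩
        rw [hord]
        exact ((Nat.Prime.coprime_iff_not_dvd hrp).mpr hm).symm
      rw [hLbot] at hmem
      apply Subtype.ext
      simpa using Subgroup.mem_bot.mp hmem
    -- the conjugate `K` of `H` is normal in `M`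
    set K := Cfsg.Agent.Helper50.cjg g H with hK
    have hKidx : K.relIndex M = r := by
      have h1 := Subgroup.relIndex_mul_index hg
      have h2 := Subgroup.relIndex_mul_index hHM
      have h3 : K.index = H.index := Subgroup.index_map_equiv H (MulAut.conj g)
      rw [h3, ← h2] at h1
      have hMi : M.index ≠ 0 := Subgroup.index_ne_zero_of_finite
      exact Nat.eq_of_mul_eq_mul_right (Nat.pos_of_ne_zero hMi) h1
    have hKn : (K.subgroupOf M).Normal := by
      apply Subgroup.normal_of_index_eq_minFac_card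
      show K.relIndex M = (Nat.card M).minFac
      obtain ⟨n, hn⟩ := IsPGroup.iff_card.mp hMp
      have hn0 : n ≠ 0 := by
        intro h0
        rw [h0, pow_zero] at hn
        exact hMbot (Subgroup.card_eq_one.mp hn)
      rw [hn, hrp.pow_minFac hn0, hKidx]
    have hMK : M ≤ Subgroup.normalizer (K : Set G) :=
      (Subgroup.normal_subgroupOf_iff_le_normalizer hg).mp hKn
    have hNK : Subgroup.normalizer (K : Set G) = Cfsg.Agent.Helper50.cjg g M := by
      have := Subgroup.map_equiv_normalizer_eq H (MulAut.conj g)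
      rw [hNH] at this
      exact this.symm
    rw [hNK] at hMK
    have hMeq : Cfsg.Agent.Helper50.cjg g M = M :=
      (Subgroup.eq_of_le_of_card_ge hMK (le_of_eq (Cfsg.Agent.Helper50.card_cjg g M))).symm
    have : g ∈ Subgroup.normalizer (M : Set G) := Subgroup.mem_normalizer_iff_map_conj_eq.mpr hMeq
    rw [hNM] at this
    exact hgM this
  -- Step 3: the hypothesis of the closure lemma
  have hcl : ∀ g : G, (H ⊔ H.map (MulAut.conj g).toMonoidHom) ⊓ M = H := by
    intro g
    by_contra hne
    have hle : H ≤ (H ⊔ H.map (MulAut.conj g).toMonoidHom) ⊓ M := le_inf le_sup_left hHM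
    have h1 : (H ⊔ H.map (MulAut.conj g).toMonoidHom) ⊓ M = M := by
      apply Cfsg.Agent.S3014.eq_of_coatom_subgroupOf hcoH hle inf_le_right
      intro h2
      exact hne (le_antisymm h2 hle)
    have h2 : M ≤ H ⊔ H.map (MulAut.conj g).toMonoidHom := inf_eq_right.mp h1
    have h3 : H ⊔ H.map (MulAut.conj g).toMonoidHom = M := by
      rcases eq_or_lt_of_le h2 with h | h
      · exact h.symm
      · exact absurd (hmaxM.2 _ h) (hno g)
    have h4 : Cfsg.Agent.Helper50.cjg g H ≤ M := by
      rw [← h3]; exact le_sup_right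
    have h5 : g ∈ Subgroup.normalizer (H : Set G) := hMNH (hwc g h4)
    have h6 : H.map (MulAut.conj g).toMonoidHom = H := Subgroup.mem_normalizer_iff_map_conj_eq.mp h5
    rw [h6, sup_idem] at h3
    exact hHM_ne h3
  -- Step 4
  have hfin := Cfsg.Agent.S3014.result H M hHM hcl hcoH hmaxM
  have hnc : (Subgroup.normalClosure (H : Set G)).Normal := Subgroup.normalClosure_normal
  rcases hnc.eq_bot_or_eq_top with h1 | h1
  · apply hH0
    rw [eq_bot_iff, ← h1]
    exact Subgroup.le_normalClosure
  · rw [h1, top_inf_eq] at hfin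
    exact hHM_ne hfin.symm

end Cfsg.Agent.S3015
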