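import Cfsg.Statements.S3020
import Cfsg.Agent.Helper50.Burnside

set_option autoImplicit false
open Cfsg

namespace Cfsg.Agent.S3020

/-- Let G be a finite group, p a prime and H an abelian p-subgroup of G that is extremely closed (for every g, the subgroup generated by H and g H g⁻¹ meets N_G(H) exactly in H). Then for every g ∈ G, the subgroup T generated by H and g H g⁻¹ is the product of H with O_{p'}(T), and H meets O_{p'}(T) trivially; that is, O_{p'}(T) is a normal p-complement of H in T. -/
theorem result {G : Type*} [Group G] [Finite G] {p : ℕ} [Fact p.Prime] (H : Subgroup G) (hHp : IsPGroup p H) (hHab : IsMulCommutative H) (hcl : Cfsg.IsExtremelyClosed H) (g : G) (T : Subgroup G) (hT : T = H ⊔ H.map (MulAut.conj g).toMonoidHom) : H ⊔ (Cfsg.pPrimeCore p ↥T).map T.subtype = T ∧ H ⊓ (Cfsg.pPrimeCore p ↥T).map T.subtype = ⊥ := by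
  have hHT : H ≤ T := by rw [hT]; exact le_sup_left
  have hH'p : IsPGroup p ↥(H.subgroupOf T) := hHp.comap_subtype
  have hH'ab : IsMulCommutative ↥(H.subgroupOf T) := by
    apply Subgroup.le_centralizer_iff_isMulCommutative.mp
    rintro ⟨x, hxT⟩ hx
    rw [Subgroup.mem_centralizer_iff]
    rintro ⟨y, hyT⟩ hy
    apply Subtype.ext
    have hx' : x ∈ H := hx
    have hy' : y ∈ H := hy
    have := hHab.is_comm.comm ⟨y, hy'⟩ ⟨x, hx'⟩
    have h3 : y * x = x * y := congrArg Subtype.val this
    exact h3
  have hN : Subgroup.normalizer ((H.subgroupOf T : Subgroup ↥T) : Set ↥T) = H.subgroupOf T := by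
    rw [← Subgroup.subgroupOf_normalizer_eq hHT]
    have h1 := hcl g
    rw [← hT] at h1
    rw [← Subgroup.inf_subgroupOf_left, h1]
  obtain ⟨h1, h2⟩ := Cfsg.Agent.Helper50.normal_complement_of_self_normalizing
    (H.subgroupOf T) hH'p hH'ab hN
  have e1 : (H.subgroupOf T).map T.subtype = H := Subgroup.map_subgroupOf_eq_of_le hHT
  constructor
  · have := congrArg (Subgroup.map T.subtype) h1
    rw [Subgroup.map_sup, e1, ← MonoidHom.range_eq_map, Subgroup.range_subtype] at this
    exact this
  · have := congrArg (Subgroup.map T.subtype) h2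
    rw [Subgroup.map_inf _ _ _ T.subtype_injective, e1, Subgroup.map_bot] at this
    exact this

end Cfsg.Agent.S3020
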