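import Cfsg.Statements.S3021
import Mathlib.GroupTheory.Nilpotent

set_option autoImplicit false
open Cfsg

namespace Cfsg.Agent.S3021

/-- In a finite `p`-group `T`, a subgroup `H ≤ T` with `T ⊓ N(H) = H` equals `T`. -/
theorem eq_of_pgroup_of_inf_normalizer {G : Type*} [Group G] [Finite G] {p : ℕ} [Fact p.Prime]
    (H T : Subgroup G) (hT : IsPGroup p T) (hHT : H ≤ T)
    (h : T ⊓ Subgroup.normalizer (H : Set G) = H) : H = T := by
  have : Group.IsNilpotent T := hT.isNilpotent
  have hnc : NormalizerCondition T := Group.normalizerCondition_of_isNilpotent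
  rw [normalizerCondition_iff_only_full_group_self_normalizing] at hnc
  have h1 : Subgroup.normalizer ((H.subgroupOf T : Subgroup T) : Set T) = H.subgroupOf T := by
    rw [← Subgroup.subgroupOf_normalizer_eq hHT]
    ext ⟨y, hy⟩
    simp only [Subgroup.mem_subgroupOf]
    constructor
    · intro hyN
      have : y ∈ T ⊓ Subgroup.normalizer (H : Set G) := ⟨hy, hyN⟩
      rw [h] at this
      exact this
    · intro hyH
      exact Subgroup.le_normalizer hyH
  have h2 := hnc _ h1
  rw [Subgroup.subgroupOf_eq_top] at h2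
  exact le_antisymm hHT h2

theorem conj_le_imp_mem_normalizer {G : Type*} [Group G] [Finite G] (H : Subgroup G) (g : G)
    (hle : H.map (MulAut.conj g).toMonoidHom ≤ H) : g ∈ Subgroup.normalizer (H : Set G) := by
  have hcard : Nat.card (H.map (MulAut.conj g).toMonoidHom) = Nat.card H :=
    Nat.card_congr (Subgroup.equivMapOfInjective H _ (MulAut.conj g).injective).symm.toEquiv
  have heq : H.map (MulAut.conj g).toMonoidHom = H :=
    Subgroup.eq_of_le_of_card_ge hle (le_of_eq hcard.symm)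
  exact Subgroup.mem_normalizer_iff_map_conj_eq.mpr heq

theorem result {G : Type*} [Group G] [Finite G] {p : ℕ} [Fact p.Prime] (H : Subgroup G) (hHp : IsPGroup p H) (hcl : Cfsg.IsExtremelyClosed H) : (∀ Q : Subgroup G, IsPGroup p Q → H ≤ Q → Subgroup.normalizer (Q : Set G) ≤ Subgroup.normalizer (H : Set G)) ∧ ∀ P : Sylow p G, H ≤ (P : Subgroup G) → (P : Subgroup G) ≤ Subgroup.normalizer (H : Set G) ∧ Cfsg.IsStronglyClosed H (P : Subgroup G) := by
  have partA : ∀ Q : Subgroup G, IsPGroup p Q → H ≤ Q → Subgroup.normalizer (Q : Set G) ≤ Subgroup.normalizer (H : Set G) := by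
    intro Q hQ hHQ g hg
    have hgQ : Q.map (MulAut.conj g).toMonoidHom = Q :=
      Subgroup.mem_normalizer_iff_map_conj_eq.mp hg
    have hHg : H.map (MulAut.conj g).toMonoidHom ≤ Q := by
      rw [← hgQ]
      exact Subgroup.map_mono hHQ
    have hTQ : H ⊔ H.map (MulAut.conj g).toMonoidHom ≤ Q := sup_le hHQ hHg
    have hTp : IsPGroup p ↥(H ⊔ H.map (MulAut.conj g).toMonoidHom) := hQ.to_le hTQ
    have hEq : H = H ⊔ H.map (MulAut.conj g).toMonoidHom :=
      eq_of_pgroup_of_inf_normalizer H _ hTp le_sup_left (hcl g)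
    have hle : H.map (MulAut.conj g).toMonoidHom ≤ H := by
      have h3 : H.map (MulAut.conj g).toMonoidHom ≤ H ⊔ H.map (MulAut.conj g).toMonoidHom := le_sup_right
      exact le_trans h3 (le_of_eq hEq.symm)
    exact conj_le_imp_mem_normalizer H g hle
  refine ⟨partA, ?_⟩
  intro P hHP
  have hPN : (P : Subgroup G) ≤ Subgroup.normalizer (H : Set G) :=
    le_trans Subgroup.le_normalizer (partA P P.isPGroup' hHP)
  refine ⟨hPN, hHP, ?_⟩
  intro x hx g hgx
  have h1 : g * x * g⁻¹ ∈ H.map (MulAut.conj g).toMonoidHom := ⟨x, hx, rfl⟩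
  have h2 : g * x * g⁻¹ ∈ (H ⊔ H.map (MulAut.conj g).toMonoidHom) ⊓ Subgroup.normalizer (H : Set G) :=
    ⟨(le_sup_right : _ ≤ H ⊔ H.map (MulAut.conj g).toMonoidHom) h1, hPN hgx⟩
  rw [hcl g] at h2
  exact h2

end Cfsg.Agent.S3021
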