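-- Statement S3025 (helper90; claimed from helper50's block).
import Cfsg.Statements.S3025
import Cfsg.Agent.Helper73.PGroupCyclic
import Cfsg.Agent.Helper90.Conj

set_option autoImplicit false
open Cfsg

namespace Cfsg.Agent.S3025

open Cfsg.Agent.Helper90

/-- the kernel of the conjugation action on a normal subgroup is its centralizer -/
theorem ker_conjNormal_eq {F : Type*} [Group F] (N : Subgroup F) [N.Normal] :
    (MulAut.conjNormal : F →* MulAut N).ker = Subgroup.centralizer (N : Set F) := by
  ext g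
  rw [MonoidHom.mem_ker, Subgroup.mem_centralizer_iff]
  constructor
  · intro hg h hh
    have h1 : (MulAut.conjNormal g : MulAut N) ⟨h, hh⟩ = ⟨h, hh⟩ := by rw [hg]; rfl
    have h2 := congrArg Subtype.val h1
    rw [MulAut.conjNormal_apply] at h2
    simp only at h2
    calc h * g = (g * h * g⁻¹) * g := by rw [h2]
      _ = g * h := by group
  · intro hg
    ext ⟨h, hh⟩
    rw [MulAut.conjNormal_apply]
    simp only [MulAut.one_apply]
    have := hg h hh
    calc g * h * g⁻¹ = (h * g) * g⁻¹ := by rw [this]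
      _ = h := by group

/-- quotient by the centralizer of a normal subgroup of prime order is cyclic of order dividing `p - 1` -/
theorem cyclic_quotient_facts {F : Type*} [Group F] [Finite F] (N : Subgroup F) [N.Normal]
    (hp : (Nat.card N).Prime) :
    (∃ g : F, Subgroup.centralizer (N : Set F) ⊔ Subgroup.zpowers g = ⊤) ∧
      (Subgroup.centralizer (N : Set F)).index ∣ Nat.card N - 1 := by
  haveI : Fact (Nat.card N).Prime := ⟨hp⟩
  haveI hcycN : IsCyclic N := isCyclic_of_prime_card rfl
  let φ : F →* MulAut N := MulAut.conjNormal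
  have hker : φ.ker = Subgroup.centralizer (N : Set F) := ker_conjNormal_eq N
  have hcardAut : Nat.card (MulAut N) = Nat.card N - 1 := by
    rw [IsCyclic.card_mulAut, Nat.totient_prime hp]
  haveI : Finite (MulAut N) := Nat.finite_of_card_ne_zero (by
    rw [hcardAut]; have := hp.two_le; omega)
  haveI hcycAut : IsCyclic (MulAut N) := by
    haveI : IsCyclic (ZMod (Nat.card N))ˣ := ZMod.isCyclic_units_prime hp
    exact isCyclic_of_surjective (IsCyclic.mulAutMulEquiv N).symm.toMonoidHom
      (IsCyclic.mulAutMulEquiv N).symm.surjective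
  constructor
  · -- the range is cyclic
    haveI : IsCyclic φ.range := Subgroup.isCyclic _
    obtain ⟨⟨γ, hγr⟩, hγ⟩ := IsCyclic.exists_generator (α := φ.range)
    obtain ⟨g, rfl⟩ := hγr
    refine ⟨g, ?_⟩
    rw [eq_top_iff]
    intro f _
    have hf := hγ ⟨φ f, ⟨f, rfl⟩⟩
    obtain ⟨k, hk⟩ := Subgroup.mem_zpowers_iff.mp hf
    have hk' : φ g ^ k = φ f := by
      have := congrArg Subtype.val hk
      simpa using this
    have hmem : f * (g ^ k)⁻¹ ∈ Subgroup.centralizer (N : Set F) := by
      rw [← hker, MonoidHom.mem_ker, map_mul, map_inv, map_zpow, hk']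
      simp
    have : f = (f * (g ^ k)⁻¹) * g ^ k := by group
    rw [this]
    exact Subgroup.mul_mem _ (Subgroup.mem_sup_left hmem)
      (Subgroup.mem_sup_right (Subgroup.zpow_mem _ (Subgroup.mem_zpowers g) k))
  · rw [← hker, Subgroup.index_ker, ← hcardAut]
    exact Subgroup.card_subgroup_dvd_card _

theorem result {F : Type*} [Group F] [Finite F] (H : Subgroup F) (hH : H ≠ ⊥)
    (hmin : ∀ R : Subgroup F, R ≠ ⊥ → H ≤ Subgroup.normalizer (R : Set F) → H ≤ R) :
    ∃ N : Subgroup F, N.Normal ∧ N ≠ ⊥ ∧ (∀ M : Subgroup F, M.Normal → M ≠ ⊥ → N ≤ M) ∧ IsSimpleGroup ↥N ∧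
      (Subgroup.centralizer (N : Set F) = ⊥ ∨
       (H = N ∧ (Nat.card N).Prime ∧ IsCyclic ↥(Subgroup.centralizer (N : Set F)) ∧
          (∃ k : ℕ, 1 ≤ k ∧ Nat.card ↥(Subgroup.centralizer (N : Set F)) = Nat.card N ^ k) ∧
          (∃ g : F, Subgroup.centralizer (N : Set F) ⊔ Subgroup.zpowers g = ⊤) ∧
          (Subgroup.centralizer (N : Set F)).index ∣ Nat.card N - 1) ∨
       (H = N ∧ Nat.card N = 2 ∧ Subgroup.centralizer (N : Set F) = ⊤ ∧
          ∃ k : ℕ, 1 ≤ k ∧ Nonempty (F ≃* QuaternionGroup (2 ^ k)))) := by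
  classical
  -- every nontrivial normal subgroup contains H
  have hHM : ∀ M : Subgroup F, M.Normal → M ≠ ⊥ → H ≤ M := by
    intro M hMn hM
    apply hmin M hM
    rw [Subgroup.normalizer_eq_top_iff.mpr hMn]
    exact le_top
  -- N
  let N : Subgroup F := ⨅ M : {M : Subgroup F // M.Normal ∧ M ≠ ⊥}, (M : Subgroup F)
  have hNn : N.Normal := Subgroup.normal_iInf_normal (fun M => M.2.1)
  have hHN : H ≤ N := le_iInf (fun M => hHM M.1 M.2.1 M.2.2)
  have hNbot : N ≠ ⊥ := by
    intro h
    apply hH
    rw [eq_bot_iff, ← h]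
    exact hHN
  have hNle : ∀ M : Subgroup F, M.Normal → M ≠ ⊥ → N ≤ M := by
    intro M hMn hM
    exact iInf_le (fun M : {M : Subgroup F // M.Normal ∧ M ≠ ⊥} => (M : Subgroup F)) ⟨M, hMn, hM⟩
  haveI := hNn
  -- N is simple
  have hNontriv : Nontrivial N := by
    rw [← Subgroup.nontrivial_iff_ne_bot] at hNbot
    exact hNbot
  have hsimple : IsSimpleGroup N := by
    refine { exists_pair_ne := hNontriv.exists_pair_ne, eq_bot_or_eq_top_of_normal := ?_ }
    intro K hK
    by_cases hKbot : K = ⊥
    · exact Or.inl hKbot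
    right
    set K' : Subgroup F := K.map N.subtype with hK'
    have hK'N : K' ≤ N := by
      rintro x ⟨y, _, rfl⟩
      exact y.2
    have hK'bot : K' ≠ ⊥ := by
      intro h
      apply hKbot
      rw [eq_bot_iff]
      intro y hy
      have : (N.subtype y) ∈ K' := ⟨y, hy, rfl⟩
      rw [h, Subgroup.mem_bot] at this
      rw [Subgroup.mem_bot]
      exact Subtype.ext this
    -- K' is normalized by N
    have hK'norm : ∀ n ∈ N, ∀ x ∈ K', n * x * n⁻¹ ∈ K' := by
      rintro n hn x ⟨y, hy, rfl⟩
      refine ⟨⟨n, hn⟩ * y * ⟨n, hn⟩⁻¹, hK.conj_mem y hy ⟨n, hn⟩, ?_⟩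
      simp
    -- H lies in every conjugate of K'
    have hHcore : H ≤ K'.normalCore := by
      intro h hh b
      -- R = b⁻¹ K' b
      set R : Subgroup F := K'.map (MulAut.conj b⁻¹).toMonoidHom with hR
      have hRbot : R ≠ ⊥ := by
        intro hRb
        apply hK'bot
        rw [eq_bot_iff]
        intro x hx
        have : b⁻¹ * x * b⁻¹⁻¹ ∈ R := conj_mem_map_conj K' b⁻¹ hx
        rw [hRb, Subgroup.mem_bot] at this
        rw [Subgroup.mem_bot]
        have h2 : x = b * (b⁻¹ * x * b⁻¹⁻¹) * b⁻¹ := by group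
        rw [h2, this]; group
      have hHR : H ≤ Subgroup.normalizer (R : Set F) := by
        intro n hn
        have hnN : n ∈ N := hHN hn
        apply mem_normalizer_of_conj_mem R n
        intro x hx
        rw [hR, mem_map_conj_iff] at hx ⊢
        simp only [inv_inv] at hx ⊢
        have h1 : b * n * b⁻¹ ∈ N := hNn.conj_mem n hnN b
        have h2 := hK'norm _ h1 _ hx
        have h3 : b * (n * x * n⁻¹) * b⁻¹ = b * n * b⁻¹ * (b * x * b⁻¹) * (b * n * b⁻¹)⁻¹ := by group
        rw [h3]; exact h2
      have := hmin R hRbot hHR hh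
      rw [hR, mem_map_conj_iff] at this
      simpa using this
    have hcore_bot : K'.normalCore ≠ ⊥ := by
      intro h
      apply hH
      rw [eq_bot_iff, ← h]
      exact hHcore
    have hNK' : N ≤ K' := (hNle _ K'.normalCore_normal hcore_bot).trans K'.normalCore_le
    rw [eq_top_iff]
    intro y _
    obtain ⟨y', hy', hyy'⟩ := hNK' y.2
    have : y' = y := Subtype.ext hyy'
    rw [← this]; exact hy'
  refine ⟨N, hNn, hNbot, hNle, hsimple, ?_⟩
  -- centralizer
  set C : Subgroup F := Subgroup.centralizer (N : Set F) with hC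
  haveI hCn : C.Normal := Subgroup.normal_centralizer
  by_cases hCbot : C = ⊥
  · exact Or.inl hCbot
  right
  -- N ≤ C so N is commutative
  have hNC : N ≤ C := hNle C hCn hCbot
  have hcomm : ∀ a b : N, a * b = b * a := by
    intro a b
    have := (Subgroup.mem_centralizer_iff.mp (hNC a.2)) b b.2
    apply Subtype.ext
    simpa using this.symm
  letI : CommGroup N := { (inferInstance : Group N) with mul_comm := hcomm }
  have hprime : (Nat.card N).Prime := IsSimpleGroup.prime_card
  haveI : Fact (Nat.card N).Prime := ⟨hprime⟩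
  set p := Nat.card N with hp
  -- H = N
  have hHeqN : H = N := by
    have h1 := (H.subgroupOf N).eq_bot_or_eq_top_of_prime_card
    rcases h1 with h1 | h1
    · exfalso
      apply hH
      rw [Subgroup.subgroupOf_eq_bot] at h1
      rw [eq_bot_iff]
      intro x hx
      have : x ∈ H ⊓ N := ⟨hx, hHN hx⟩
      rw [disjoint_iff.mp h1] at this
      exact this
    · rw [Subgroup.subgroupOf_eq_top] at h1
      exact le_antisymm hHN h1
  -- every nontrivial subgroup of C contains N
  have hNR : ∀ R : Subgroup F, R ≤ C → R ≠ ⊥ → N ≤ R := by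
    intro R hRC hRbot
    rw [← hHeqN]
    apply hmin R hRbot
    rw [hHeqN]
    intro n hn
    apply mem_normalizer_of_conj_mem R n
    intro x hx
    have := (Subgroup.mem_centralizer_iff.mp (hRC hx)) n hn
    have h2 : n * x * n⁻¹ = x := by rw [this]; group
    rw [h2]; exact hx
  -- C is a p-group
  have hCp : IsPGroup p C := by
    have hcard : ∃ k, Nat.card C = p ^ k := by
      refine ⟨_, Nat.eq_prime_pow_of_unique_prime_dvd Nat.card_pos.ne' ?_⟩
      intro q hq hqd
      haveI : Fact q.Prime := ⟨hq⟩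
      obtain ⟨c, hc⟩ := exists_prime_orderOf_dvd_card' q hqd
      set R : Subgroup F := Subgroup.zpowers (c : F) with hR
      have hRC : R ≤ C := by
        rw [hR, Subgroup.zpowers_le]; exact c.2
      have hcF : orderOf (c : F) = q := by rw [Subgroup.orderOf_coe]; exact hc
      have hRbot : R ≠ ⊥ := by
        rw [hR, Ne, Subgroup.zpowers_eq_bot]
        intro h
        rw [h, orderOf_one] at hcF
        exact hq.one_lt.ne hcF
      have hle := hNR R hRC hRbot
      have hdvd : Nat.card N ∣ Nat.card R := Subgroup.card_dvd_of_le hle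
      rw [hR, Nat.card_zpowers, hcF] at hdvd
      exact ((Nat.prime_dvd_prime_iff_eq hprime hq).mp hdvd).symm
    obtain ⟨k, hk⟩ := hcard
    exact IsPGroup.of_card hk
  -- unique subgroup of order p in C
  have hu : Cfsg.Agent.Helper73.UniqueOrderP p C := by
    intro x y hx hy
    have hxF : orderOf (x : F) = p := by rw [Subgroup.orderOf_coe]; exact hx
    have hyF : orderOf (y : F) = p := by rw [Subgroup.orderOf_coe]; exact hy
    have key : ∀ w : C, orderOf (w : F) = p → Subgroup.zpowers (w : F) = N := by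
      intro w hw
      have hwC : Subgroup.zpowers (w : F) ≤ C := by
        rw [Subgroup.zpowers_le]; exact w.2
      have hwbot : Subgroup.zpowers (w : F) ≠ ⊥ := by
        rw [Ne, Subgroup.zpowers_eq_bot]
        intro h
        rw [h, orderOf_one] at hw
        exact hprime.one_lt.ne hw
      have hle := hNR _ hwC hwbot
      symm
      apply Subgroup.eq_of_le_of_card_ge hle
      rw [Nat.card_zpowers, hw]
    have hyx : (y : F) ∈ Subgroup.zpowers (x : F) := by
      rw [key x hxF, ← key y hyF]
      exact Subgroup.mem_zpowers _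
    obtain ⟨k, hk⟩ := Subgroup.mem_zpowers_iff.mp hyx
    exact Subgroup.mem_zpowers_iff.mpr ⟨k, Subtype.ext (by simpa using hk)⟩
  -- card C = p^k with k ≥ 1
  have hcardC : ∃ k : ℕ, 1 ≤ k ∧ Nat.card C = p ^ k := by
    obtain ⟨k, hk⟩ := (IsPGroup.iff_card).mp hCp
    refine ⟨k, ?_, hk⟩
    by_contra hk0
    have : k = 0 := by omega
    rw [this, pow_zero] at hk
    apply hCbot
    exact (Subgroup.card_eq_one).mp hk
  rcases Cfsg.Agent.Helper73.cyclic_or_quaternion hCp hu with hcyc | ⟨hp2, n, hn1, ⟨e⟩⟩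
  · left
    obtain ⟨h1, h2⟩ := cyclic_quotient_facts N hprime
    exact ⟨hHeqN, hprime, hcyc, hcardC, h1, h2⟩
  · right
    -- N is central since it has order 2
    have hCtop : C = ⊤ := by
      obtain ⟨h1, h2⟩ := cyclic_quotient_facts N hprime
      have : C.index ∣ 1 := by
        have h3 : Nat.card N - 1 = 1 := by rw [← hp, hp2]
        rw [h3] at h2; exact h2
      exact Subgroup.index_eq_one.mp (Nat.dvd_one.mp this)
    refine ⟨hHeqN, hp2, hCtop, n, hn1, ⟨?_⟩⟩
    have e1 : F ≃* (⊤ : Subgroup F) := Subgroup.topEquiv.symm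
    have e2 : (⊤ : Subgroup F) ≃* C := MulEquiv.subgroupCongr hCtop.symm
    exact (e1.trans e2).trans e

end Cfsg.Agent.S3025
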