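import Cfsg.Statements.S3033
import Cfsg.Agent.Helper35.CPDef
import Cfsg.Agent.Helper35.CPCore
import Cfsg.Agent.Helper31.CPP12
import Cfsg.Agent.Helper60.CPP3
import Cfsg.Agent.Helper79.CPP4

set_option autoImplicit false
open Cfsg

namespace Cfsg.Agent.S3033

open Cfsg.Agent.Helper35.CP

theorem card_lt_of_ne_top {G : Type*} [Group G] [Finite G] (H : Subgroup G) (hH : H ≠ ⊤) :
    Nat.card H < Nat.card G :=
  lt_of_le_of_ne (Subgroup.card_le_card_group H)
    (fun h => hH ((Subgroup.card_eq_iff_eq_top H).mp h))

theorem conjPair_solvable : ∀ (n : ℕ) (G : Type*) [Group G] [Finite G], Nat.card G = n →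
    ConjPair G → Group.IsSolvable G := by
  intro n
  induction n using Nat.strong_induction_on with
  | _ n ih =>
    intro G _ _ hn h
    apply Cfsg.Agent.Helper60.CP.conjPair_solvable_step h
    intro H hH
    have hlt : Nat.card H < n := by
      rw [← hn]
      exact card_lt_of_ne_top H hH
    exact ih _ hlt H rfl (h.subgroup H)

theorem conjPair_supersolvable : ∀ (n : ℕ) (G : Type*) [Group G] [Finite G], Nat.card G = n →
    ConjPair G → Cfsg.IsSupersolvable G := by
  intro n
  induction n using Nat.strong_induction_on with
  | _ n ih =>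
    intro G _ _ hn h
    have hsub : ∀ H : Subgroup G, H ≠ ⊤ → Cfsg.IsSupersolvable H := by
      intro H hH
      have hlt : Nat.card H < n := by
        rw [← hn]
        exact card_lt_of_ne_top H hH
      exact ih _ hlt H rfl (h.subgroup H)
    apply Cfsg.Agent.Helper79.CP.supersolvable_of_core (conjPair_solvable _ G rfl h)
    · intro N _ hN
      have hlt : Nat.card (G ⧸ N) < n := by
        rw [← hn, ← Subgroup.index_eq_card, ← Subgroup.index_mul_card N]
        have h1 : 1 < Nat.card N := by
          rw [Subgroup.one_lt_card_iff_ne_bot]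
          exact hN
        have h2 : 0 < N.index := Nat.pos_of_ne_zero Subgroup.index_ne_zero_of_finite
        nlinarith
      exact ih _ hlt (G ⧸ N) rfl (Cfsg.Agent.Helper31.CP.conjPair_quotient h N)
    · intro N M r hr hNn hN hmin hexp hcomm hNM hNM'
      exact core h hsub N M r hr hNn hN hmin hexp hcomm hNM hNM'

/-- Let G be a finite group such that for every pair of distinct primes p and q, every p-element x and every q-element g of G, the order of the subgroup generated by x and g x g⁻¹ is not divisible by q². Then G is supersolvable. -/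
theorem result {G : Type*} [Group G] [Finite G]
    (h : ∀ (p q : ℕ), p.Prime → q.Prime → p ≠ q → ∀ (x g : G), (∃ a : ℕ, orderOf x = p ^ a) → (∃ b : ℕ, orderOf g = q ^ b) →
      ¬ q ^ 2 ∣ Nat.card ↥(Subgroup.zpowers x ⊔ Subgroup.zpowers (g * x * g⁻¹))) :
    Cfsg.IsSupersolvable G := by
  exact conjPair_supersolvable _ G rfl h

end Cfsg.Agent.S3033
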