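-- Statement S3036: Chermak–Delgado measure argument.
import Cfsg.Statements.S3036
import Cfsg.Agent.Helper51.CD

set_option autoImplicit false
open Cfsg

namespace Cfsg.Agent.S3036

open Subgroup Cfsg.Agent.Helper51

variable {G : Type*} [Group G]

/-- The Chermak–Delgado measure. -/
noncomputable def m (H : Subgroup G) : ℕ := Nat.card H * Nat.card ↥(centralizer (H : Set G))

theorem m_pos [Finite G] (H : Subgroup G) : 0 < m H := Nat.mul_pos Nat.card_pos Nat.card_pos

theorem m_cj (g : G) (H : Subgroup G) : m (cj g H) = m H := by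
  unfold m
  rw [← cj_centralizer, card_cj, card_cj]

theorem card_cent_mul_le [Finite G] (H K : Subgroup G) :
    Nat.card ↥(centralizer (H : Set G)) * Nat.card ↥(centralizer (K : Set G)) ≤
      Nat.card ↥(centralizer ((H ⊔ K : Subgroup G) : Set G)) *
        Nat.card ↥(centralizer ((H ⊓ K : Subgroup G) : Set G)) := by
  have h3 := card_mul_card_le_sup_mul_inf (centralizer (H : Set G)) (centralizer (K : Set G))
  have h2 := sup_centralizer_le H K
  have h4 : Nat.card ↥(centralizer (H : Set G) ⊔ centralizer (K : Set G)) ≤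
      Nat.card ↥(centralizer ((H ⊓ K : Subgroup G) : Set G)) :=
    Nat.card_le_card_of_injective (Subgroup.inclusion h2) (Subgroup.inclusion_injective h2)
  rw [centralizer_sup]
  calc _ ≤ _ := h3
    _ ≤ Nat.card ↥(centralizer ((H ⊓ K : Subgroup G) : Set G)) *
        Nat.card ↥(centralizer (H : Set G) ⊓ centralizer (K : Set G)) := by gcongr
    _ = _ := mul_comm _ _

/-- The key lattice property of subgroups of maximal measure. -/
theorem key [Finite G] {M : ℕ} (hM : ∀ K : Subgroup G, m K ≤ M) {H K : Subgroup G}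
    (hH : m H = M) (hK : m K = M) :
    m (H ⊔ K) = M ∧ m (H ⊓ K) = M ∧
      Nat.card ↥(H ⊔ K) * Nat.card ↥(H ⊓ K) = Nat.card H * Nat.card K := by
  have hab := card_mul_card_le_sup_mul_inf H K
  have hcd := card_cent_mul_le H K
  have h1 := hM (H ⊔ K)
  have h2 := hM (H ⊓ K)
  have hMpos : 0 < M := hH ▸ m_pos H
  set a := Nat.card ↥(H ⊔ K) * Nat.card ↥(H ⊓ K) with ha
  set b := Nat.card H * Nat.card K with hb
  set c := Nat.card ↥(centralizer ((H ⊔ K : Subgroup G) : Set G)) *
        Nat.card ↥(centralizer ((H ⊓ K : Subgroup G) : Set G)) with hc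
  set d := Nat.card ↥(centralizer (H : Set G)) * Nat.card ↥(centralizer (K : Set G)) with hd
  have e1 : m (H ⊔ K) * m (H ⊓ K) = a * c := by simp only [m, ha, hc]; ring
  have e2 : M * M = b * d := by
    have : M * M = m H * m K := by rw [hH, hK]
    rw [this]; simp only [m, hb, hd]; ring
  have apos : 0 < a := Nat.mul_pos Nat.card_pos Nat.card_pos
  have cpos : 0 < c := Nat.mul_pos Nat.card_pos Nat.card_pos
  have h3 : a * c ≤ b * d := by
    rw [← e1, ← e2]; exact Nat.mul_le_mul h1 h2
  have hcd' : c = d := by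
    apply le_antisymm _ hcd
    have : a * c ≤ a * d := h3.trans (Nat.mul_le_mul_right d hab)
    exact Nat.le_of_mul_le_mul_left this apos
  have hab' : a = b := by
    apply le_antisymm _ hab
    rw [← hcd'] at h3
    exact Nat.le_of_mul_le_mul_right h3 cpos
  have e3 : m (H ⊔ K) * m (H ⊓ K) = M * M := by rw [e1, e2, hab', hcd']
  have x1 : m (H ⊔ K) = M := by
    by_contra hne
    have hlt : m (H ⊔ K) < M := lt_of_le_of_ne h1 hne
    have : m (H ⊔ K) * m (H ⊓ K) < M * M :=
      calc m (H ⊔ K) * m (H ⊓ K) < M * m (H ⊓ K) := Nat.mul_lt_mul_of_pos_right hlt (m_pos _)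
        _ ≤ M * M := Nat.mul_le_mul_left M h2
    omega
  have x2 : m (H ⊓ K) = M := by
    rw [x1] at e3
    exact Nat.eq_of_mul_eq_mul_left hMpos e3
  exact ⟨x1, x2, hab'⟩

theorem normal_of_cj_eq {H : Subgroup G} (h : ∀ g, cj g H = H) : H.Normal := by
  refine ⟨fun n hn g => ?_⟩
  have : g * n * g⁻¹ ∈ cj g H := mem_cj.mpr ⟨n, hn, rfl⟩
  rwa [h g] at this

theorem m_bot [Finite G] : m (⊥ : Subgroup G) = Nat.card G := by
  unfold m
  have : centralizer (((⊥ : Subgroup G) : Subgroup G) : Set G) = ⊤ := by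
    rw [centralizer_eq_top_iff_subset, Subgroup.coe_bot]
    intro x hx
    rw [Set.mem_singleton_iff] at hx
    subst hx
    exact (Subgroup.center G).one_mem
  rw [this, Subgroup.card_bot, Subgroup.card_top, one_mul]

theorem m_top [Finite G] [IsSimpleGroup G] (hG : ¬ IsMulCommutative G) :
    m (⊤ : Subgroup G) = Nat.card G := by
  unfold m
  rw [Subgroup.coe_top, centralizer_univ, Subgroup.card_top]
  have hc : Subgroup.center G = ⊥ := by
    rcases (inferInstance : (Subgroup.center G).Normal).eq_bot_or_eq_top with h | h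
    · exact h
    · exfalso
      apply hG
      refine ⟨⟨fun a b => ?_⟩⟩
      have : b ∈ Subgroup.center G := by rw [h]; trivial
      exact (Subgroup.mem_center_iff.mp this a)
  rw [hc, Subgroup.card_bot, mul_one]

/-- Let G be a finite non-abelian simple group and A a proper nontrivial subgroup of G. Then |G| > |A| · |C_G(A)|. In particular |G| > |A|² for every nontrivial abelian subgroup A of G. -/
theorem result {G : Type*} [Group G] [Finite G] [IsSimpleGroup G] (hG : ¬ IsMulCommutative G) (A : Subgroup G) (hA1 : A ≠ ⊥) (hA2 : A ≠ ⊤) : Nat.card A * Nat.card ↥(Subgroup.centralizer (A : Set G)) < Nat.card G := by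
  classical
  by_contra hcon
  rw [not_lt] at hcon
  change Nat.card G ≤ m A at hcon
  -- maximal value of the measure
  obtain ⟨Hmax, hHmax⟩ := Finite.exists_max (fun H : Subgroup G => m H)
  set M := m Hmax with hMdef
  have hM : ∀ K : Subgroup G, m K ≤ M := hHmax
  -- Step 1: M = |G|
  have hMG : M = Nat.card G := by
    -- minimal cardinality maximizer
    have : Nonempty {H : Subgroup G // m H = M} := ⟨⟨Hmax, rfl⟩⟩
    obtain ⟨H0, hH0⟩ := Finite.exists_min (fun H : {H : Subgroup G // m H = M} => Nat.card H.1)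
    have hnorm : H0.1.Normal := by
      apply normal_of_cj_eq
      intro g
      have hg : m (cj g H0.1) = M := by rw [m_cj]; exact H0.2
      have hk := (key hM H0.2 hg).2.1
      have hle := hH0 ⟨_, hk⟩
      simp only at hle
      have heq : H0.1 ⊓ cj g H0.1 = H0.1 :=
        Subgroup.eq_of_le_of_card_ge inf_le_left hle
      have hle2 : H0.1 ≤ cj g H0.1 := inf_eq_left.mp heq
      exact (Subgroup.eq_of_le_of_card_ge hle2 (by rw [card_cj])).symm
    rcases hnorm.eq_bot_or_eq_top with h | h
    · rw [← H0.2, h, m_bot]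
    · rw [← H0.2, h, m_top hG]
  have hAM : m A = M := le_antisymm (hM A) (hMG ▸ hcon)
  -- Step 2: maximal cardinality proper maximizer
  have : Nonempty {H : Subgroup G // m H = M ∧ H ≠ ⊤} := ⟨⟨A, hAM, hA2⟩⟩
  obtain ⟨H, hH⟩ := Finite.exists_max (fun H : {H : Subgroup G // m H = M ∧ H ≠ ⊤} => Nat.card H.1)
  have hHbot : H.1 ≠ ⊥ := by
    intro h
    have h1 := hH ⟨A, hAM, hA2⟩
    simp only [h, Subgroup.card_bot] at h1
    have := (Subgroup.one_lt_card_iff_ne_bot (H := A)).mpr hA1
    omega
  have hnn : ¬ ∀ g, cj g H.1 = H.1 := by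
    intro h
    rcases (normal_of_cj_eq h).eq_bot_or_eq_top with h' | h'
    · exact hHbot h'
    · exact H.2.2 h'
  push Not at hnn
  obtain ⟨g, hg⟩ := hnn
  have hgm : m (cj g H.1) = M := by rw [m_cj]; exact H.2.1
  obtain ⟨k1, _, k3⟩ := key hM H.2.1 hgm
  have htop : H.1 ⊔ cj g H.1 = ⊤ := by
    by_contra hne
    have hle := hH ⟨_, k1, hne⟩
    simp only at hle
    have heq : H.1 = H.1 ⊔ cj g H.1 := Subgroup.eq_of_le_of_card_ge le_sup_left hle
    have hle2 : cj g H.1 ≤ H.1 := by
      have : cj g H.1 ≤ H.1 ⊔ cj g H.1 := le_sup_right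
      rwa [← heq] at this
    exact hg (Subgroup.eq_of_le_of_card_ge hle2 (by rw [card_cj]))
  rw [htop, Subgroup.card_top] at k3
  obtain ⟨a, ha, b, hb, hab⟩ := exists_mul_of_card_eq H.1 (cj g H.1) k3 g⁻¹
  obtain ⟨k, hk, rfl⟩ := mem_cj.mp hb
  have hgH : g ∈ H.1 := by
    have : g = a⁻¹ * k⁻¹ := by
      have h1 : g⁻¹ * g = a * (g * k * g⁻¹) * g := by rw [← hab]
      have h2 : (1 : G) = a * g * k := by
        rw [inv_mul_cancel] at h1
        rw [h1]; group
      calc g = a⁻¹ * (a * g * k) * k⁻¹ := by group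
        _ = a⁻¹ * k⁻¹ := by rw [← h2]; group
    rw [this]
    exact H.1.mul_mem (H.1.inv_mem ha) (H.1.inv_mem hk)
  exact hg (cj_eq_self_of_mem_normalizer (Subgroup.le_normalizer hgH))

end Cfsg.Agent.S3036
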