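-- Statement S3037: Chermak–Delgado type measure with a real exponent.
import Cfsg.Statements.S3037
import Cfsg.Agent.Helper51.CD

set_option autoImplicit false
open Cfsg

namespace Cfsg.Agent.S3037

open Subgroup Cfsg.Agent.Helper51

variable {X : Type*} [Group X]

/-- The measure `|H|^α |C_V(H)|`. -/
noncomputable def f (V : Subgroup X) (α : ℝ) (H : Subgroup X) : ℝ :=
  (Nat.card H : ℝ) ^ α * (Nat.card ↥(V ⊓ centralizer (H : Set X)) : ℝ)

theorem f_pos [Finite X] (V : Subgroup X) (α : ℝ) (H : Subgroup X) : 0 < f V α H := by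
  unfold f
  have h1 : (0 : ℝ) < (Nat.card H : ℝ) := by exact_mod_cast Nat.card_pos
  have h2 : (0 : ℝ) < (Nat.card ↥(V ⊓ centralizer (H : Set X)) : ℝ) := by exact_mod_cast Nat.card_pos
  exact mul_pos (Real.rpow_pos_of_pos h1 α) h2

theorem f_super [Finite X] (V : Subgroup X) {α : ℝ} (hα : 0 < α) (H K : Subgroup X) :
    f V α H * f V α K ≤ f V α (H ⊔ K) * f V α (H ⊓ K) := by
  unfold f
  have h1 : ((Nat.card H : ℝ) * (Nat.card K : ℝ)) ≤
      ((Nat.card ↥(H ⊔ K) : ℝ) * (Nat.card ↥(H ⊓ K) : ℝ)) := by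
    exact_mod_cast card_mul_card_le_sup_mul_inf H K
  have h2 : ((Nat.card ↥(V ⊓ centralizer (H : Set X)) : ℝ) *
      (Nat.card ↥(V ⊓ centralizer (K : Set X)) : ℝ)) ≤
      ((Nat.card ↥(V ⊓ centralizer ((H ⊔ K : Subgroup X) : Set X)) : ℝ) *
        (Nat.card ↥(V ⊓ centralizer ((H ⊓ K : Subgroup X) : Set X)) : ℝ)) := by
    exact_mod_cast card_fix_mul_le V H K
  have h3 : (Nat.card H : ℝ) ^ α * (Nat.card K : ℝ) ^ α ≤
      (Nat.card ↥(H ⊔ K) : ℝ) ^ α * (Nat.card ↥(H ⊓ K) : ℝ) ^ α := by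
    rw [← Real.mul_rpow (Nat.cast_nonneg _) (Nat.cast_nonneg _),
      ← Real.mul_rpow (Nat.cast_nonneg _) (Nat.cast_nonneg _)]
    exact Real.rpow_le_rpow (mul_nonneg (Nat.cast_nonneg _) (Nat.cast_nonneg _)) h1 hα.le
  calc (Nat.card H : ℝ) ^ α * (Nat.card ↥(V ⊓ centralizer (H : Set X)) : ℝ) *
        ((Nat.card K : ℝ) ^ α * (Nat.card ↥(V ⊓ centralizer (K : Set X)) : ℝ))
      = ((Nat.card H : ℝ) ^ α * (Nat.card K : ℝ) ^ α) *
        ((Nat.card ↥(V ⊓ centralizer (H : Set X)) : ℝ) *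
          (Nat.card ↥(V ⊓ centralizer (K : Set X)) : ℝ)) := by ring
    _ ≤ ((Nat.card ↥(H ⊔ K) : ℝ) ^ α * (Nat.card ↥(H ⊓ K) : ℝ) ^ α) *
        ((Nat.card ↥(V ⊓ centralizer ((H ⊔ K : Subgroup X) : Set X)) : ℝ) *
        (Nat.card ↥(V ⊓ centralizer ((H ⊓ K : Subgroup X) : Set X)) : ℝ)) := by
        apply mul_le_mul h3 h2
        · positivity
        · positivity
    _ = _ := by ring

theorem f_cj (V : Subgroup X) (α : ℝ) {g : X} (hg : cj g V = V) (H : Subgroup X) :
    f V α (cj g H) = f V α H := by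
  unfold f
  have : V ⊓ centralizer ((cj g H : Subgroup X) : Set X) = cj g (V ⊓ centralizer (H : Set X)) := by
    rw [cj_inf, cj_centralizer, hg]
  rw [this, card_cj, card_cj]

theorem mem_normalizer_of_cj_eq {g : X} {H : Subgroup X} (h : cj g H = H) :
    g ∈ normalizer (H : Set X) := by
  rw [Subgroup.mem_normalizer_iff]
  intro x
  constructor
  · intro hx
    have : g * x * g⁻¹ ∈ cj g H := mem_cj.mpr ⟨x, hx, rfl⟩
    rwa [h] at this
  · intro hx
    rw [← h, mem_cj'] at hx
    simpa [mul_assoc] using hx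

/-- Let V and G be subgroups of a finite group with V an elementary abelian p-group (p prime) on which G acts faithfully and irreducibly by conjugation: G normalizes V, G ∩ C(V) = 1, and the only subgroups of V normalized by G are 1 and V. If for some nontrivial subgroup A of G and some real α > 0 one has |V| ≤ |A|^α · |C_V(A)|, then |V| ≤ |G|^α. -/
theorem result {X : Type*} [Group X] [Finite X] {p : ℕ} [Fact p.Prime] (V G : Subgroup X) (hV : Cfsg.IsElementaryAbelian p V)
    (hGV : G ≤ Subgroup.normalizer (V : Set X)) (hfaith : G ⊓ Subgroup.centralizer (V : Set X) = ⊥)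
    (hirr : ∀ W : Subgroup X, W ≤ V → G ≤ Subgroup.normalizer (W : Set X) → W = ⊥ ∨ W = V)
    (A : Subgroup X) (hA : A ≤ G) (hA1 : A ≠ ⊥) (α : ℝ) (hα : 0 < α)
    (hbig : (Nat.card V : ℝ) ≤ (Nat.card A : ℝ) ^ α * (Nat.card ↥(V ⊓ Subgroup.centralizer (A : Set X)) : ℝ)) :
    (Nat.card V : ℝ) ≤ (Nat.card G : ℝ) ^ α := by
  classical
  change (Nat.card V : ℝ) ≤ f V α A at hbig
  -- maximum of the measure on subgroups of G
  have : Nonempty {H : Subgroup X // H ≤ G} := ⟨⟨⊥, bot_le⟩⟩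
  obtain ⟨Hmax, hHmax⟩ := Finite.exists_max (fun H : {H : Subgroup X // H ≤ G} => f V α H.1)
  set M := f V α Hmax.1 with hMdef
  have hM : ∀ K : Subgroup X, K ≤ G → f V α K ≤ M := fun K hK => hHmax ⟨K, hK⟩
  -- a maximizer of maximal cardinality
  have : Nonempty {H : Subgroup X // H ≤ G ∧ f V α H = M} := ⟨⟨Hmax.1, Hmax.2, rfl⟩⟩
  obtain ⟨⟨T, hTG, hTM⟩, hT⟩ := Finite.exists_max
    (fun H : {H : Subgroup X // H ≤ G ∧ f V α H = M} => Nat.card H.1)
  simp only at hT
  -- lattice property: join of maximizers is a maximizer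
  have hjoin : ∀ H K : Subgroup X, H ≤ G → K ≤ G → f V α H = M → f V α K = M →
      f V α (H ⊔ K) = M := by
    intro H K hH hK hfH hfK
    have h1 := hM (H ⊔ K) (sup_le hH hK)
    have h2 := hM (H ⊓ K) (inf_le_left.trans hH)
    have h3 := f_super V hα H K
    rw [hfH, hfK] at h3
    by_contra hne
    have hlt : f V α (H ⊔ K) < M := lt_of_le_of_ne h1 hne
    have : f V α (H ⊔ K) * f V α (H ⊓ K) < M * M :=
      calc f V α (H ⊔ K) * f V α (H ⊓ K) < M * f V α (H ⊓ K) :=
            mul_lt_mul_of_pos_right hlt (f_pos V α _)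
        _ ≤ M * M := mul_le_mul_of_nonneg_left h2 (f_pos V α _).le
    exact absurd h3 (not_le.mpr this)
  -- T is G-invariant
  have hTinv : ∀ g ∈ G, cj g T = T := by
    intro g hg
    have hgV : cj g V = V := cj_eq_self_of_mem_normalizer (hGV hg)
    have hgG : cj g G = G := cj_eq_self_of_mem_normalizer (Subgroup.le_normalizer hg)
    have hle : cj g T ≤ G := by
      have := cj_mono g hTG
      rwa [hgG] at this
    have hf : f V α (cj g T) = M := by rw [f_cj V α hgV]; exact hTM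
    have hj := hjoin T (cj g T) hTG hle hTM hf
    have hc := hT ⟨_, sup_le hTG hle, hj⟩
    simp only at hc
    have heq : T = T ⊔ cj g T := Subgroup.eq_of_le_of_card_ge le_sup_left hc
    have hle2 : cj g T ≤ T := by
      have : cj g T ≤ T ⊔ cj g T := le_sup_right
      rwa [← heq] at this
    exact Subgroup.eq_of_le_of_card_ge hle2 (by rw [card_cj])
  -- C_V(T) is G-invariant
  have hWinv : G ≤ normalizer ((V ⊓ centralizer (T : Set X) : Subgroup X) : Set X) := by
    intro g hg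
    apply mem_normalizer_of_cj_eq
    have hgV : cj g V = V := cj_eq_self_of_mem_normalizer (hGV hg)
    rw [cj_inf, cj_centralizer, hgV, hTinv g hg]
  have hcardT : (Nat.card T : ℝ) ^ α ≤ (Nat.card G : ℝ) ^ α := by
    apply Real.rpow_le_rpow (Nat.cast_nonneg _) _ hα.le
    exact_mod_cast Subgroup.card_le_of_le hTG
  have hAM : f V α A ≤ M := hM A hA
  rcases hirr _ inf_le_left hWinv with hW | hW
  · -- C_V(T) = 1
    have hMT : M = (Nat.card T : ℝ) ^ α := by
      rw [← hTM]; unfold f; rw [hW, Subgroup.card_bot]; simp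
    calc (Nat.card V : ℝ) ≤ f V α A := hbig
      _ ≤ M := hAM
      _ = (Nat.card T : ℝ) ^ α := hMT
      _ ≤ _ := hcardT
  · -- C_V(T) = V: then T = 1, contradiction
    exfalso
    have h1 : V ≤ centralizer (T : Set X) := inf_eq_left.mp hW
    have h2 : T ≤ centralizer (V : Set X) := le_centralizer_iff.mp h1
    have h3 : T = ⊥ := by
      have : T ≤ G ⊓ centralizer (V : Set X) := le_inf hTG h2
      rw [hfaith] at this
      exact le_bot_iff.mp this
    have hMV : M = (Nat.card V : ℝ) := by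
      rw [← hTM]; unfold f; rw [hW, h3, Subgroup.card_bot]; simp
    have hfA : f V α A = M := le_antisymm hAM (hMV ▸ hbig)
    have hc := hT ⟨A, hA, hfA⟩
    simp only [h3, Subgroup.card_bot] at hc
    have := (Subgroup.one_lt_card_iff_ne_bot (H := A)).mpr hA1
    omega

end Cfsg.Agent.S3037
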