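import Cfsg.Statements.S3048
import Cfsg.Agent.Helper51.SidkiFinal
import Cfsg.Agent.Helper68.SidkiA
import Cfsg.Agent.Helper70.SidkiK
import Cfsg.Agent.Helper48.SidkiSimple

set_option autoImplicit false
universe u
open Cfsg

namespace Cfsg.Agent.S3048

/-- Minimal counterexample reduction for the Sidki pair problem. Let G be a finite group and V a nontrivial elementary abelian 2-subgroup satisfying the Sidki pair condition with V ∩ O₂(G) = 1. Suppose that for every finite group H of smaller order, every nontrivial elementary abelian 2-subgroup W of H satisfying the Sidki pair condition meets O₂(H) nontrivially, and that the same holds in G for every such subgroup W of order smaller than that of V. Then the generalized Fitting subgroup F*(G) is a non-abelian simple group and G = V F*(G). -/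
theorem result {G : Type u} [Group G] [Finite G] (V : Subgroup G) (hV : Cfsg.IsElementaryAbelian 2 V) (hV1 : V ≠ ⊥) (hS : Cfsg.IsSidkiPair V) (hVO : V ⊓ Cfsg.pCore 2 G = ⊥) (hminG : ∀ (H : Type u) [Group H] [Finite H] (W : Subgroup H), Nat.card H < Nat.card G → Cfsg.IsElementaryAbelian 2 W → W ≠ ⊥ → Cfsg.IsSidkiPair W → W ⊓ Cfsg.pCore 2 H ≠ ⊥) (hminV : ∀ W : Subgroup G, Nat.card W < Nat.card V → Cfsg.IsElementaryAbelian 2 W → W ≠ ⊥ → Cfsg.IsSidkiPair W → W ⊓ Cfsg.pCore 2 G ≠ ⊥) : IsSimpleGroup ↥(Cfsg.generalizedFittingSubgroup G) ∧ ¬ IsMulCommutative ↥(Cfsg.generalizedFittingSubgroup G) ∧ V ⊔ Cfsg.generalizedFittingSubgroup G = ⊤ := by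
  have ctx := Cfsg.Agent.Helper51.Sidki.ctx_of_min V hV hV1 hS hVO hminG hminV
  exact Cfsg.Agent.Helper51.Sidki.final_of_pieces ctx
    (fun hN hab => Cfsg.Agent.Helper68.SidkiA.no_abelian_minNormal ctx hN hab)
    (fun hN hN1 hZ => Cfsg.Agent.Helper70.SidkiK.inf_centralizer_eq_bot ctx hN hN1 hZ)
    (fun hN hNV hC L hLN hLnorm =>
      Cfsg.Agent.Helper48.SidkiSimple.normal_sub_minNormal ctx hN hNV hC L hLN hLnorm)

end Cfsg.Agent.S3048
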