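import Cfsg.Statements.S3053
import Cfsg.Agent.Helper51.Extra3Main

set_option autoImplicit false
open Cfsg

namespace Cfsg.Agent.S3053

open Subgroup
open scoped commutatorElement

/-- Let p be an odd prime and G a finite group with a Sylow p-subgroup P that is extraspecial of order p³ and exponent p². Then the centre of P is strongly closed in P with respect to G: a G-conjugate of an element of Z(P) that lies in P already lies in Z(P). In particular a nontrivial central element of P is conjugate in G to no noncentral element of P. -/
theorem result {G : Type*} [Group G] [Finite G]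
    {p : ℕ} [Fact p.Prime] (hp : p ≠ 2) (P : Sylow p G) (hE : Cfsg.IsExtraspecial p ↥P)
    (hcard : Nat.card P = p ^ 3) (hexp : Monoid.exponent ↥P = p ^ 2) :
    Cfsg.IsStronglyClosed ((Subgroup.center ↥P).map (P : Subgroup G).subtype) (P : Subgroup G) := by
  have hpp : p.Prime := Fact.out
  obtain ⟨⟨_, _, hcomm⟩, hZc⟩ := hE
  have hcls : ∀ g h : ↥P, ⁅g, h⁆ ∈ center ↥P := by
    intro g h
    rw [← hcomm, _root_.commutator_def]
    exact Subgroup.commutator_mem_commutator (mem_top g) (mem_top h)
  have hexp' : ∃ g : ↥P, g ^ p ≠ 1 := by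
    by_contra hcon
    push Not at hcon
    have h1 := Monoid.exponent_dvd_of_forall_pow_eq_one hcon
    rw [hexp] at h1
    have h2 := Nat.le_of_dvd hpp.pos h1
    nlinarith [hpp.two_le]
  refine ⟨Subgroup.map_subtype_le _, ?_⟩
  rintro _ ⟨z, hz, rfl⟩ g hg
  have := Helper51.center_strongly_closed_aux hp P hcls hZc hexp' hcard z hz g hg
  exact ⟨_, this, rfl⟩

end Cfsg.Agent.S3053
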