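import Cfsg.Statements.S3057
import Cfsg.Agent.Helper49.StronglyEmbedded
import Cfsg.Agent.Helper49.SylowExtra
import Cfsg.Agent.Helper49.CharP
import Cfsg.Agent.Helper48.CoprimeGen
import Cfsg.Agent.S0016
import Cfsg.Agent.S2777

set_option autoImplicit false
open Cfsg

namespace Cfsg.Agent.S3057

open Cfsg.Agent.Helper49

variable {G : Type*} [Group G] {p : ℕ}

/-- Two commuting elements of order `p`, the second outside the group generated by the first,
generate an abelian group of exponent `p` and order at least `p ^ 2`. -/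
theorem ea2_data [Finite G] [Fact p.Prime] {Q : Subgroup G} (hQ : IsPGroup p Q) {a b : G}
    (ha : a ∈ Q) (hb : b ∈ Q) (hoa : orderOf a = p) (hob : orderOf b = p)
    (hcomm : a * b = b * a) (hb' : b ∉ Subgroup.zpowers a) :
    ∃ A : Subgroup G, A ≤ Q ∧ (∀ x ∈ A, ∀ y ∈ A, x * y = y * x) ∧ (∀ x ∈ A, x ^ p = 1) ∧
      p ^ 2 ≤ Nat.card A := by
  have hp : p.Prime := Fact.out
  set A : Subgroup G := Subgroup.closure {a, b} with hAdef
  have haA : a ∈ A := Subgroup.subset_closure (by simp)
  have hbA : b ∈ A := Subgroup.subset_closure (by simp)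
  have hAQ : A ≤ Q := by
    rw [hAdef, Subgroup.closure_le]
    rintro x (rfl | rfl)
    · exact ha
    · exact hb
  have hAcomm : ∀ x ∈ A, ∀ y ∈ A, x * y = y * x := by
    have h1 : A ≤ Subgroup.centralizer {a, b} := by
      rw [hAdef, Subgroup.closure_le]
      intro x hx
      rw [SetLike.mem_coe, Subgroup.mem_centralizer_iff]
      intro y hy
      rcases hx with rfl | rfl <;> rcases hy with rfl | rfl
      · rfl
      · exact hcomm.symm
      · exact hcomm
      · rfl
    intro x hx y hy
    have h2 := h1 hx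
    rw [← Subgroup.centralizer_closure, Subgroup.mem_centralizer_iff] at h2
    exact (h2 y hy).symm
  have hAexp : ∀ x ∈ A, x ^ p = 1 := by
    intro x hx
    induction hx using Subgroup.closure_induction with
    | mem x hx =>
      rcases hx with rfl | rfl
      · rw [← hoa]; exact pow_orderOf_eq_one _
      · rw [← hob]; exact pow_orderOf_eq_one _
    | one => exact one_pow _
    | mul x y hx hy ihx ihy =>
      have hc : Commute x y := hAcomm x hx y hy
      rw [hc.mul_pow, ihx, ihy, one_mul]
    | inv x hx ih => rw [inv_pow, ih, inv_one]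
  refine ⟨A, hAQ, hAcomm, hAexp, ?_⟩
  have hAp : IsPGroup p A := hQ.to_le hAQ
  obtain ⟨k, hk⟩ := (IsPGroup.iff_card).mp hAp
  have hza : Subgroup.zpowers a ≤ A := Subgroup.zpowers_le.mpr haA
  have hne : Subgroup.zpowers a ≠ A := fun h => hb' (h ▸ hbA)
  have hlt := card_lt_of_le_of_ne hza hne
  rw [Nat.card_zpowers, hoa, hk] at hlt
  rw [hk]
  have h1k : 1 < k := by
    by_contra hcon
    push Not at hcon
    have : p ^ k ≤ p ^ 1 := Nat.pow_le_pow_right hp.pos hcon
    rw [pow_one] at this
    omega
  exact Nat.pow_le_pow_right hp.pos h1k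

/-- A normal `p'`-subgroup lies in every strongly `p`-embedded subgroup containing a rank-two
abelian `p`-subgroup. -/
theorem normal_pprime_le [Finite G] [Fact p.Prime] {H : Subgroup G} (hSE : Cfsg.Agent.Helper49.IsStronglyEmbedded p H)
    {Q A K : Subgroup G} (hQ : IsPGroup p Q) (hQH : Q ≤ H) (hAQ : A ≤ Q)
    (hAcomm : ∀ x ∈ A, ∀ y ∈ A, x * y = y * x) (hAexp : ∀ x ∈ A, x ^ p = 1)
    (hAcard : p ^ 2 ≤ Nat.card A) [K.Normal] (hK : ¬ p ∣ Nat.card K) : K ≤ H := by
  have hAK : A ≤ Subgroup.normalizer (K : Set G) := by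
    rw [Subgroup.normalizer_eq_top]; exact le_top
  have h1 := Cfsg.Agent.Helper48.le_cgen_of_le_card K A hK hAK hAcomm hAexp hAcard
  refine h1.trans ?_
  unfold Cfsg.Agent.Helper48.cgen
  apply iSup_le
  rintro ⟨c, hcA, hc1⟩
  refine inf_le_right.trans ?_
  have hz : Subgroup.zpowers c ≤ H := Subgroup.zpowers_le.mpr (hQH (hAQ hcA))
  have hzp : IsPGroup p (Subgroup.zpowers c) := hQ.to_le (Subgroup.zpowers_le.mpr (hAQ hcA))
  have hz1 : Subgroup.zpowers c ≠ ⊥ := by
    rw [Ne, Subgroup.zpowers_eq_bot]; exact hc1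
  exact (centralizer_singleton_le_normalizer_zpowers c).trans (hSE.normalizer_le hzp hz1 hz)

/-- In a `p`-solvable group of order divisible by `p` there are normal subgroups `K₀ ≤ L` with
`K₀` a `p'`-group and `L / K₀` a nontrivial `p`-group. -/
theorem exists_layer [Finite G] [Fact p.Prime] (hdiv : p ∣ Nat.card G) (hsol : IsPSolvable p G) :
    ∃ K₀ L : Subgroup G, K₀.Normal ∧ L.Normal ∧ K₀ ≤ L ∧ ¬ p ∣ Nat.card K₀ ∧ p ∣ Nat.card L ∧
      ∃ m : ℕ, K₀.relIndex L = p ^ m := by
  have hp : p.Prime := Fact.out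
  obtain ⟨n, Hc, h0, hn, hmono, hnorm, hfac⟩ := hsol
  have key : ∀ (k : ℕ) (hk : k < n + 1), p ∣ Nat.card (Hc ⟨k, hk⟩) →
      ∃ K₀ L : Subgroup G, K₀.Normal ∧ L.Normal ∧ K₀ ≤ L ∧ ¬ p ∣ Nat.card K₀ ∧ p ∣ Nat.card L ∧
        ∃ m : ℕ, K₀.relIndex L = p ^ m := by
    intro k
    induction k with
    | zero =>
      intro hk hd
      exfalso
      have e : Hc ⟨0, hk⟩ = ⊥ := h0
      rw [e, Subgroup.card_bot] at hd
      exact hp.one_lt.ne' (Nat.dvd_one.mp hd)
    | succ k ih =>
      intro hk hd
      by_cases hd' : p ∣ Nat.card (Hc ⟨k, by omega⟩)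
      · exact ih (by omega) hd'
      · have hkn : k < n := by omega
        have e1 : Hc (Fin.castSucc ⟨k, hkn⟩) = Hc ⟨k, by omega⟩ := rfl
        have e2 : Hc (Fin.succ ⟨k, hkn⟩) = Hc ⟨k + 1, hk⟩ := rfl
        have hle : Hc ⟨k, by omega⟩ ≤ Hc ⟨k + 1, hk⟩ := hmono (by
          rw [Fin.le_def]; simp)
        refine ⟨Hc ⟨k, by omega⟩, Hc ⟨k + 1, hk⟩, hnorm _, hnorm _, hle, hd', hd, ?_⟩
        have hmul : Nat.card (Hc ⟨k, by omega⟩) * (Hc ⟨k, by omega⟩).relIndex (Hc ⟨k + 1, hk⟩) =
            Nat.card (Hc ⟨k + 1, hk⟩) := by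
          rw [← Subgroup.relIndex_bot_left, ← Subgroup.relIndex_bot_left (H := Hc ⟨k + 1, hk⟩)]
          exact Subgroup.relIndex_mul_relIndex _ _ _ bot_le hle
        have hdr : p ∣ (Hc ⟨k, by omega⟩).relIndex (Hc ⟨k + 1, hk⟩) := by
          rw [← hmul] at hd
          rcases (Nat.Prime.dvd_mul hp).mp hd with h | h
          · exact absurd h hd'
          · exact h
        rcases hfac ⟨k, hkn⟩ with h | h
        · rw [e1, e2] at h; exact h
        · rw [e1, e2] at h
          exfalso
          have := Nat.dvd_gcd hdr (dvd_refl p)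
          rw [Nat.Coprime] at h
          rw [h] at this
          exact hp.one_lt.ne' (Nat.dvd_one.mp this)
  have hlast : p ∣ Nat.card (Hc ⟨n, by omega⟩) := by
    have e : Hc ⟨n, by omega⟩ = ⊤ := hn
    rw [e, Subgroup.card_top]; exact hdiv
  exact key n (by omega) hlast

/-- Let p be a prime and G a finite p-solvable group of order divisible by p, with Sylow p-subgroup P. Then the Sylow p-subgroups of G fail to be chain-connected through nontrivial intersections (equivalently, G has a strongly p-embedded subgroup) if and only if O_p(G) = 1 and P is cyclic or, for p = 2, generalized quaternion. -/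
theorem result {G : Type*} [Group G] [Finite G]
    (p : ℕ) [Fact p.Prime] (hdiv : p ∣ Nat.card G) (hsol : Cfsg.IsPSolvable p G) (P : Sylow p G) :
    ¬ Cfsg.IsSylowChainConnected p G ↔
      Cfsg.pCore p G = ⊥ ∧ (IsCyclic ↥P ∨ (p = 2 ∧ ∃ n : ℕ, Nonempty (↥P ≃* QuaternionGroup (2 ^ n)))) := by
  have hp : p.Prime := Fact.out
  have hP1 : (P : Subgroup G) ≠ ⊥ :=
    (isSylowOf_top P).ne_bot (by rw [Subgroup.card_top]; exact hdiv)
  constructor
  · intro hnc
    obtain ⟨H, hSE, hPH⟩ := exists_stronglyEmbedded_ge hnc P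
    refine ⟨?_, ?_⟩
    · by_contra hO
      haveI := pCore_normal' p G
      have h1 := hSE.normalizer_le (pCore_isPGroup p G) hO ((pCore_le_sylow P).trans hPH)
      rw [Subgroup.normalizer_eq_top] at h1
      exact hSE.1 (top_le_iff.mp h1)
    · apply Cfsg.Agent.S0016.result p P.isPGroup'
      by_contra hne
      push Not at hne
      obtain ⟨H₁, K₁, hH₁, hK₁, hHK⟩ := hne
      haveI : Nontrivial ↥(P : Subgroup G) := (Subgroup.nontrivial_iff_ne_bot _).mpr hP1
      have hcent : Subgroup.center ↥(P : Subgroup G) ≠ ⊥ := by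
        have := P.isPGroup'.center_nontrivial
        exact (Subgroup.nontrivial_iff_ne_bot _).mp this
      obtain ⟨z', hz'c, hoz'⟩ := exists_orderOf_eq_of_isPGroup
        (P.isPGroup'.to_subgroup (Subgroup.center ↥(P : Subgroup G))) hcent
      obtain ⟨C, hC, hCz⟩ : ∃ C : Subgroup ↥(P : Subgroup G), Nat.card C = p ∧
          C ≠ Subgroup.zpowers z' := by
        by_cases h : H₁ = Subgroup.zpowers z'
        · exact ⟨K₁, hK₁, fun h' => hHK (h.trans h'.symm)⟩
        · exact ⟨H₁, hH₁, h⟩
      obtain ⟨c', hc'C, hc'1⟩ : ∃ c' ∈ C, c' ≠ 1 := by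
        rcases Subgroup.bot_or_exists_ne_one C with h | h
        · rw [h, Subgroup.card_bot] at hC
          exact absurd hC.symm hp.one_lt.ne'
        · exact h
      have hoc' : orderOf c' = p := by
        have := Subgroup.orderOf_dvd_natCard C hc'C
        rw [hC] at this
        rcases (Nat.dvd_prime hp).mp this with h | h
        · exact absurd (orderOf_eq_one_iff.mp h) hc'1
        · exact h
      have hc'z : c' ∉ Subgroup.zpowers z' := by
        intro hmem
        apply hCz
        have h1 : Subgroup.zpowers c' ≤ Subgroup.zpowers z' := Subgroup.zpowers_le.mpr hmem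
        have h2 : Subgroup.zpowers c' = Subgroup.zpowers z' :=
          Subgroup.eq_of_le_of_card_ge h1 (by rw [Nat.card_zpowers, Nat.card_zpowers, hoz', hoc'])
        have h3 : Subgroup.zpowers c' ≤ C := Subgroup.zpowers_le.mpr hc'C
        have h4 : Subgroup.zpowers c' = C :=
          Subgroup.eq_of_le_of_card_ge h3 (by rw [Nat.card_zpowers, hoc', hC])
        rw [← h4, h2]
      have hoa : orderOf (z' : G) = p := by rw [Subgroup.orderOf_coe]; exact hoz'
      have hob : orderOf (c' : G) = p := by rw [Subgroup.orderOf_coe]; exact hoc'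
      have hcomm : (z' : G) * (c' : G) = (c' : G) * (z' : G) := by
        have := Subgroup.mem_center_iff.mp hz'c c'
        exact (congrArg Subtype.val this).symm
      have hbz : (c' : G) ∉ Subgroup.zpowers (z' : G) := by
        intro hmem
        obtain ⟨k, hk⟩ := Subgroup.mem_zpowers_iff.mp hmem
        apply hc'z
        exact Subgroup.mem_zpowers_iff.mpr ⟨k, Subtype.ext (by simpa using hk)⟩
      obtain ⟨A, hAP, hAcomm, hAexp, hAcard⟩ :=
        ea2_data P.isPGroup' z'.2 c'.2 hoa hob hcomm hbz
      obtain ⟨K₀, L, hK₀n, hLn, hK₀L, hpK₀, hpL, m, hm⟩ := exists_layer hdiv hsol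
      haveI := hK₀n
      haveI := hLn
      have hK₀H : K₀ ≤ H :=
        normal_pprime_le hSE P.isPGroup' hPH hAP hAcomm hAexp hAcard hpK₀
      have hPL := isSylowOf_inf_of_normal P L
      have hLH : L ≤ H := by
        rw [← Subgroup.relIndex_eq_one]
        have h1 : H.relIndex L ∣ p ^ m := hm ▸ Subgroup.relIndex_dvd_of_le_left L hK₀H
        have h2 : H.relIndex L ∣ ((P : Subgroup G) ⊓ L).relIndex L :=
          Subgroup.relIndex_dvd_of_le_left L (inf_le_left.trans hPH)
        obtain ⟨j, _, hj⟩ := (Nat.dvd_prime_pow hp).mp h1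
        rcases Nat.eq_zero_or_pos j with rfl | hjpos
        · rw [hj, pow_zero]
        · exfalso
          apply hPL.2.2
          refine dvd_trans ?_ h2
          rw [hj]; exact dvd_pow_self p hjpos.ne'
      have hfr : Subgroup.normalizer (((P : Subgroup G) ⊓ L : Subgroup G) : Set G) ⊔ L = ⊤ := by
        have := Sylow.normalizer_sup_eq_top hPL.toSylow
        rwa [hPL.map_toSylow] at this
      have hNle : Subgroup.normalizer (((P : Subgroup G) ⊓ L : Subgroup G) : Set G) ≤ H :=
        hSE.normalizer_le P.isPGroup'.to_inf_left (hPL.ne_bot hpL) (inf_le_left.trans hPH)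
      apply hSE.1
      rw [eq_top_iff, ← hfr]
      exact sup_le hNle hLH
  · rintro ⟨hO, hT⟩
    have hU : Cfsg.Agent.S2777.UniqueOmega p ↥(P : Subgroup G) := by
      rcases hT with hc | ⟨hp2, n, ⟨e⟩⟩
      · exact Cfsg.Agent.S2777.uniqueOmega_of_cyclic
      · subst hp2
        haveI : NeZero (2 ^ n) := ⟨pow_ne_zero _ two_ne_zero⟩
        exact (Cfsg.Agent.S2777.uniqueOmega_quaternion (n := 2 ^ n)).of_mulEquiv e
    obtain ⟨a, haP, hoa⟩ := exists_orderOf_eq_of_isPGroup P.isPGroup' hP1
    have ha1 : a ≠ 1 := by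
      intro h
      rw [h, orderOf_one] at hoa
      exact hp.one_lt.ne hoa
    have hap : a ^ p = 1 := by rw [← hoa]; exact pow_orderOf_eq_one a
    have hZcard : Nat.card (Subgroup.zpowers a) = p := by rw [Nat.card_zpowers, hoa]
    have key : ∀ x ∈ (P : Subgroup G), x ^ p = 1 → x ∈ Subgroup.zpowers a := by
      intro x hx hxp
      have h1 := hU ⟨a, haP⟩ ⟨x, hx⟩ (Subtype.ext (by simpa using hap))
        (Subtype.ext (by simpa using hxp)) (fun h => ha1 (congrArg Subtype.val h))
      obtain ⟨k, hk⟩ := Subgroup.mem_zpowers_iff.mp h1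
      refine Subgroup.mem_zpowers_iff.mpr ⟨k, ?_⟩
      have := congrArg Subtype.val hk
      simpa using this
    have hZexp : ∀ h ∈ Subgroup.zpowers a, h ^ p = 1 := by
      intro h hh
      obtain ⟨k, rfl⟩ := Subgroup.mem_zpowers_iff.mp hh
      rw [← zpow_natCast, ← zpow_mul, mul_comm, zpow_mul, zpow_natCast, hap, one_zpow]
    have hZP : Subgroup.zpowers a ≤ (P : Subgroup G) := Subgroup.zpowers_le.mpr haP
    have hconj : ∀ s ∈ (P : Subgroup G), ∀ h ∈ Subgroup.zpowers a,
        s * h * s⁻¹ ∈ Subgroup.zpowers a := by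
      intro s hs h hh
      apply key _ (Subgroup.mul_mem _ (Subgroup.mul_mem _ hs (hZP hh)) (Subgroup.inv_mem _ hs))
      rw [conj_pow, hZexp h hh]
      simp
    have hPN : (P : Subgroup G) ≤ Subgroup.normalizer ((Subgroup.zpowers a : Subgroup G) : Set G) := by
      intro s hs
      rw [Subgroup.mem_normalizer_iff]
      intro h
      constructor
      · exact hconj s hs h
      · intro hh
        have := hconj s⁻¹ (Subgroup.inv_mem _ hs) _ hh
        simpa [mul_assoc] using this
    have hSE : Cfsg.Agent.Helper49.IsStronglyEmbedded p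
        (Subgroup.normalizer ((Subgroup.zpowers a : Subgroup G) : Set G)) := by
      refine ⟨?_, ?_, ?_⟩
      · intro htop
        have hZn : (Subgroup.zpowers a).Normal := Subgroup.normalizer_eq_top_iff.mp htop
        have hZp : IsPGroup p (Subgroup.zpowers a) := P.isPGroup'.to_le hZP
        have := le_pCore hZn hZp
        rw [hO] at this
        exact ha1 (Subgroup.mem_bot.mp (this (Subgroup.mem_zpowers a)))
      · rw [← hZcard]; exact Subgroup.card_dvd_of_le Subgroup.le_normalizer
      · intro g hg hdvd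
        apply hg
        obtain ⟨x, hx⟩ := exists_prime_orderOf_dvd_card' p hdvd
        have hx' : orderOf (x : G) = p := by rw [Subgroup.orderOf_coe]; exact hx
        obtain ⟨hxH, y, hyH, hyx⟩ := x.2
        have hyx' : g * y * g⁻¹ = (x : G) := by
          simpa [MulAut.conj_apply] using hyx
        have hSyl : IsSylowOf p (P : Subgroup G)
            (Subgroup.normalizer ((Subgroup.zpowers a : Subgroup G) : Set G)) :=
          (isSylowOf_top P).mono_right hPN le_top
        have claim : ∀ z ∈ Subgroup.normalizer ((Subgroup.zpowers a : Subgroup G) : Set G),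
            orderOf z = p → z ∈ Subgroup.zpowers a := by
          intro z hzH hz
          have hQ : IsPGroup p (Subgroup.zpowers z) :=
            IsPGroup.of_card (n := 1) (by rw [Nat.card_zpowers, hz, pow_one])
          obtain ⟨A, hA, hQA⟩ := exists_isSylowOf_ge hQ (Subgroup.zpowers_le.mpr hzH)
          obtain ⟨m, hm, hmA⟩ := hSyl.exists_conj hA
          have hz1 : z ∈ subgroupConjRight m (P : Subgroup G) := hmA ▸ hQA (Subgroup.mem_zpowers z)
          rw [mem_scr] at hz1
          have hz2 : m * z * m⁻¹ ∈ Subgroup.zpowers a :=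
            key _ hz1 (by rw [conj_pow, ← hz, pow_orderOf_eq_one]; simp)
          have := (Subgroup.mem_normalizer_iff.mp (Subgroup.inv_mem _ hm) (m * z * m⁻¹)).mp hz2
          simpa [mul_assoc] using this
        have hy : orderOf y = p := by
          rw [← hx', ← hyx']
          have : g * y * g⁻¹ = MulAut.conj g y := by simp [MulAut.conj_apply]
          rw [this, MulEquiv.orderOf_eq]
        have hxZ := claim x hxH hx'
        have hyZ := claim y hyH hy
        have hZy : Subgroup.zpowers a = Subgroup.zpowers y :=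
          (Subgroup.eq_of_le_of_card_ge (Subgroup.zpowers_le.mpr hyZ)
            (by rw [hZcard, Nat.card_zpowers, hy])).symm
        have hZx : Subgroup.zpowers a = Subgroup.zpowers (x : G) :=
          (Subgroup.eq_of_le_of_card_ge (Subgroup.zpowers_le.mpr hxZ)
            (by rw [hZcard, Nat.card_zpowers, hx'])).symm
        rw [Subgroup.mem_normalizer_iff]
        intro h
        constructor
        · intro hh
          rw [hZy] at hh
          obtain ⟨k, rfl⟩ := Subgroup.mem_zpowers_iff.mp hh
          rw [hZx]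
          refine Subgroup.mem_zpowers_iff.mpr ⟨k, ?_⟩
          rw [← hyx', conj_zpow]
        · intro hh
          rw [hZx] at hh
          obtain ⟨k, hk⟩ := Subgroup.mem_zpowers_iff.mp hh
          rw [hZy]
          refine Subgroup.mem_zpowers_iff.mpr ⟨k, ?_⟩
          rw [← hyx', conj_zpow] at hk
          exact mul_left_cancel (mul_right_cancel hk)
    exact hSE.not_connected

end Cfsg.Agent.S3057
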