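import Cfsg.Statements.S3059
import Cfsg.Agent.Helper49.StronglyEmbedded

set_option autoImplicit false
open Cfsg

namespace Cfsg.Agent.S3059

open Cfsg.Agent.Helper49

/-- Let p be a prime and H a strongly p-embedded subgroup of the finite group G in the classical sense: H is proper, p divides the order of H, and H ∩ gHg⁻¹ has order prime to p for every g outside H. Then for every normal subgroup N of G of order divisible by p, G = H · O^p(N), where O^p(N) is the subgroup generated by the elements of N of order prime to p. -/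
theorem result {G : Type*} [Group G] [Finite G]
    (p : ℕ) [Fact p.Prime] (H : Subgroup G) (hH : H ≠ ⊤) (hpH : p ∣ Nat.card H)
    (hse : ∀ g : G, g ∉ H → ¬ p ∣ Nat.card ↥(H ⊓ H.map (MulAut.conj g).toMonoidHom))
    (N : Subgroup G) [N.Normal] (hN : p ∣ Nat.card N) :
    H ⊔ Subgroup.closure {g : G | g ∈ N ∧ (orderOf g).Coprime p} = ⊤ := by
  have hSE : IsStronglyEmbedded p H := ⟨hH, hpH, hse⟩
  obtain ⟨P, hPH, hP1⟩ := hSE.exists_sylow_le
  set K : Subgroup G := Subgroup.closure {g : G | g ∈ N ∧ (orderOf g).Coprime p} with hK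
  have hPN : IsSylowOf p ((P : Subgroup G) ⊓ N) N :=
    ⟨inf_le_right, P.isPGroup'.to_inf_left, by
      rw [Subgroup.inf_relIndex_right]; exact not_dvd_relIndex_of_normal P N⟩
  have hPN1 : (P : Subgroup G) ⊓ N ≠ ⊥ := by
    intro h0
    have h1 := hPN.card_eq
    rw [h0, Subgroup.card_bot] at h1
    have hpos : 0 < (Nat.card N).factorization p :=
      Nat.Prime.factorization_pos_of_dvd Fact.out Nat.card_pos.ne' hN
    have : 1 < p ^ (Nat.card N).factorization p :=
      Nat.one_lt_pow hpos.ne' (Fact.out : p.Prime).one_lt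
    omega
  have hfr : Subgroup.normalizer (((P : Subgroup G) ⊓ N : Subgroup G) : Set G) ⊔ N = ⊤ := by
    have := Sylow.normalizer_sup_eq_top hPN.toSylow
    rwa [hPN.map_toSylow] at this
  have hNle : Subgroup.normalizer (((P : Subgroup G) ⊓ N : Subgroup G) : Set G) ≤ H :=
    hSE.normalizer_le P.isPGroup'.to_inf_left hPN1 (inf_le_left.trans hPH)
  have hNL : N ≤ H ⊔ K := by
    rw [← Subgroup.relIndex_eq_one, Nat.eq_one_iff_not_exists_prime_dvd]
    intro r hr hdvd
    by_cases hrp : r = p
    · subst hrp
      have hle : (hPN.toSylow : Subgroup ↥N) ≤ (H ⊔ K).subgroupOf N := by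
        rw [hPN.coe_toSylow]
        exact Subgroup.subgroupOf_mono N (inf_le_left.trans (hPH.trans le_sup_left))
      exact hPN.toSylow.not_dvd_index (hdvd.trans (Subgroup.index_dvd_of_le hle))
    · haveI : Fact r.Prime := ⟨hr⟩
      obtain ⟨R⟩ : Nonempty (Sylow r ↥N) := inferInstance
      have hle : (R : Subgroup ↥N) ≤ (H ⊔ K).subgroupOf N := by
        intro x hx
        rw [Subgroup.mem_subgroupOf]
        apply Subgroup.mem_sup_right
        apply Subgroup.subset_closure
        refine ⟨x.2, ?_⟩
        have hcop : r.Coprime p := (Nat.coprime_primes hr Fact.out).mpr hrp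
        have := R.isPGroup'.orderOf_coprime hcop ⟨x, hx⟩
        rwa [← Subgroup.orderOf_coe, ← Subgroup.orderOf_coe] at this
      exact R.not_dvd_index (hdvd.trans (Subgroup.index_dvd_of_le hle))
  rw [eq_top_iff, ← hfr]
  exact sup_le (hNle.trans le_sup_left) hNL

end Cfsg.Agent.S3059
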