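import Cfsg.Statements.S3063
import Cfsg.Agent.Helper51.TimmesfeldExt

set_option autoImplicit false
open Cfsg

namespace Cfsg.Agent.S3063

open Subgroup Cfsg.Agent.Helper51
open scoped commutatorElement

/-- A weak replacement Theorem for metabelian p-groups: let S be a finite p-group whose derived subgroup is abelian and A an abelian subgroup of S of largest possible order. Then the normal closure of A in S contains an abelian subgroup B of the same order as A that is normal in S. -/
theorem result {S : Type*} [Group S] [Finite S] {p : ℕ} [Fact p.Prime]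
    (hS : IsPGroup p S) (hmeta : IsMulCommutative ↥(commutator S))
    (A : Subgroup S) (hA : A ∈ Cfsg.maxAbelianSubgroups S) :
    ∃ B ∈ Cfsg.maxAbelianSubgroups S, B.Normal ∧ B ≤ Subgroup.normalClosure (A : Set S) := by
  obtain ⟨hAc, hAmax⟩ := hA
  set D : Subgroup S := commutator S with hD
  have hDc : D ≤ centralizer (D : Set S) := le_centralizer_iff_isMulCommutative.mpr hmeta
  have hAcc : A ≤ centralizer (A : Set S) := le_centralizer_iff_isMulCommutative.mpr hAc
  have hcomm_of_le : ∀ {X Y : Subgroup S}, X ≤ Y → IsMulCommutative Y → IsMulCommutative X := by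
    intro X Y hXY hY
    apply le_centralizer_iff_isMulCommutative.mp
    exact hXY.trans ((le_centralizer_iff_isMulCommutative.mpr hY).trans (centralizer_le hXY))
  -- A ⊓ D ≤ C_D(A)
  have hADc : A ⊓ D ≤ cD D A := le_inf inf_le_right (inf_le_left.trans hAcc)
  -- best offender
  have hBO : ∀ B : Subgroup S, B ≤ A → mu D B ≤ mu D A := by
    intro B hBA
    have hBe : IsMulCommutative B := hcomm_of_le hBA hAc
    have hCe : IsMulCommutative ↥(cD D B) := hcomm_of_le inf_le_left hmeta
    have hsup : IsMulCommutative ↥(B ⊔ cD D B) := by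
      rw [sup_comm]; exact isMulCommutative_sup' hCe hBe inf_le_right
    have h1 : Nat.card ↥(B ⊔ cD D B) ≤ Nat.card A := hAmax _ hsup
    have h2 := card_mul_card_le_sup_mul_inf B (cD D B)
    have h3 : B ⊓ cD D B ≤ cD D A :=
      (le_inf (inf_le_left.trans hBA) (inf_le_right.trans inf_le_left)).trans hADc
    have h4 : Nat.card ↥(B ⊓ cD D B) ≤ Nat.card ↥(cD D A) := Subgroup.card_le_of_le h3
    calc Nat.card B * Nat.card (cD D B) ≤ Nat.card ↥(B ⊔ cD D B) * Nat.card ↥(B ⊓ cD D B) := h2
      _ ≤ Nat.card A * Nat.card (cD D A) := Nat.mul_le_mul h1 h4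
  have hU : ∀ u ∈ (⊤ : Subgroup S), ∀ a ∈ A, ⁅u, a⁆ ∈ D := by
    intro u _ a _
    rw [hD, _root_.commutator_def]
    exact commutator_mem_commutator (mem_top u) (mem_top a)
  obtain ⟨hmu, hcD⟩ := timmesfeld_replacement_ext D A hmeta hAc hBO ⊤ hU
  set X : Subgroup S := ⁅(⊤ : Subgroup S), A⁆ with hX
  set C : Subgroup S := A ⊓ centralizer (X : Set S) with hC
  have hXD : X ≤ D := by
    rw [hX, hD, _root_.commutator_def]
    exact commutator_mono le_rfl le_top
  have hXc : IsMulCommutative X := hcomm_of_le hXD hmeta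
  have hCc : IsMulCommutative C := hcomm_of_le inf_le_left hAc
  have hXC : X ≤ centralizer (C : Set S) := le_centralizer_iff.mp inf_le_right
  have hBc : IsMulCommutative ↥(X ⊔ C) := isMulCommutative_sup' hXc hCc hXC
  -- C_D(A) ≤ A
  have hCA : cD D A ≤ A := by
    have hCe : IsMulCommutative ↥(cD D A) := hcomm_of_le inf_le_left hmeta
    have hsup : IsMulCommutative ↥(cD D A ⊔ A) := isMulCommutative_sup' hCe hAc inf_le_right
    have h1 : Nat.card ↥(cD D A ⊔ A) ≤ Nat.card A := hAmax _ hsup
    have h2 : A = cD D A ⊔ A := Subgroup.eq_of_le_of_card_ge le_sup_right h1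
    exact le_sup_left.trans h2.symm.le
  have hCAC : cD D A ≤ C := le_inf hCA (inf_le_left.trans (hDc.trans (centralizer_le hXD)))
  have hB0 : X ⊔ C = C ⊔ cD D C := by
    rw [hcD]
    apply le_antisymm
    · exact sup_le (le_sup_left.trans le_sup_right) le_sup_left
    · exact sup_le le_sup_right (sup_le le_sup_left (hCAC.trans le_sup_right))
  have hcard : Nat.card A ≤ Nat.card ↥(X ⊔ C) := by
    have h2 := card_mul_card_le_sup_mul_inf C (cD D C)
    have h3 : C ⊓ cD D C ≤ cD D A :=
      (le_inf (inf_le_left.trans inf_le_left) (inf_le_right.trans inf_le_left)).trans hADc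
    have h4 : Nat.card ↥(C ⊓ cD D C) ≤ Nat.card ↥(cD D A) := Subgroup.card_le_of_le h3
    have h5 : Nat.card A * Nat.card (cD D A) ≤ Nat.card ↥(X ⊔ C) * Nat.card (cD D A) := by
      calc Nat.card A * Nat.card (cD D A) = Nat.card C * Nat.card (cD D C) := hmu.symm
        _ ≤ Nat.card ↥(C ⊔ cD D C) * Nat.card ↥(C ⊓ cD D C) := h2
        _ ≤ Nat.card ↥(X ⊔ C) * Nat.card (cD D A) := by
          rw [← hB0]; exact Nat.mul_le_mul le_rfl h4
    exact Nat.le_of_mul_le_mul_right h5 Nat.card_pos
  -- X is normal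
  have hXn : ∀ g : S, cj g X = X := by
    intro g
    apply cj_eq_self_of_mem_normalizer
    exact normalizer_commutator_ge_left ⊤ A (mem_top g)
  have hBn : ∀ g : S, cj g (X ⊔ C) ≤ X ⊔ C := by
    intro g
    rw [cj_sup, hXn]
    refine sup_le le_sup_left ?_
    intro y hy
    obtain ⟨c, hc, rfl⟩ := mem_cj.mp hy
    have e : g * c * g⁻¹ = ⁅g, c⁆ * c := by simp only [commutatorElement_def]; group
    rw [e]
    exact mul_mem (mem_sup_left (commutator_mem_commutator (mem_top g) (mem_inf.mp hc).1))
      (mem_sup_right hc)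
  refine ⟨X ⊔ C, ⟨hBc, fun B hB => (hAmax B hB).trans hcard⟩,
    ⟨fun n hn g => hBn g (mem_cj.mpr ⟨n, hn, rfl⟩)⟩, ?_⟩
  refine sup_le ?_ (inf_le_left.trans le_normalClosure)
  rw [hX, commutator_le]
  intro g _ a ha
  have e : ⁅g, a⁆ = (g * a * g⁻¹) * a⁻¹ := by simp only [commutatorElement_def]
  rw [e]
  have haN : a ∈ normalClosure (A : Set S) := subset_normalClosure ha
  exact mul_mem (normalClosure_normal.conj_mem a haN g) (inv_mem haN)

end Cfsg.Agent.S3063
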