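import Mathlib
import Cfsg.Statements.S3064
import Cfsg.Agent.Helper75.FrobeniusKernel
import Cfsg.Agent.Helper25.CoprimeConj
import Cfsg.Agent.Helper54.PConstrained
import Cfsg.Agent.Helper11.PSolvable
import Cfsg.Agent.Helper78.Frobenius
import Cfsg.Agent.Lib.Cores

set_option autoImplicit false
open Cfsg

open Cfsg
open scoped Pointwise

namespace Cfsg.Agent.S3064

universe u

/-- the hypotheses of the statement -/
def IsoHyp (p : ℕ) (G : Type u) [Group G] (x : G) : Prop :=
  (∃ S : Sylow p G, x ∈ S ∧ ∀ g : G, g⁻¹ * x * g ∈ S → g⁻¹ * x * g = x) ∧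
  (∀ H : Subgroup G, (Nat.card H).Coprime p → (∀ h ∈ H, x * h * x⁻¹ ∈ H) →
    ∀ h ∈ H, x * h = h * x)

section

variable {G : Type u} [Group G] {p : ℕ}

/-- isolation holds for every Sylow subgroup containing `x` -/
theorem iso_all_sylow [Finite G] [Fact p.Prime] {x : G} {S : Sylow p G}
    (hU : ∀ g : G, g⁻¹ * x * g ∈ S → g⁻¹ * x * g = x)
    (T : Sylow p G) (hxT : x ∈ T) (g : G) (hg : g⁻¹ * x * g ∈ T) : g⁻¹ * x * g = x := by
  obtain ⟨c, hc⟩ := MulAction.exists_smul_eq G S T
  have hxT' : x ∈ ((c • S : Sylow p G) : Subgroup G) := by rw [hc]; exact hxT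
  have hg' : g⁻¹ * x * g ∈ ((c • S : Sylow p G) : Subgroup G) := by rw [hc]; exact hg
  rw [Cfsg.Agent.Helper78.mem_smul_sylow'] at hxT' hg'
  have h1 := hU c hxT'
  have hg := hg' 
  have h2 : (g * c)⁻¹ * x * (g * c) = x := by
    apply hU
    have : (g * c)⁻¹ * x * (g * c) = c⁻¹ * (g⁻¹ * x * g) * c := by group
    rw [this]; exact hg
  have h3 : g⁻¹ * x * g = c * ((g * c)⁻¹ * x * (g * c)) * c⁻¹ := by group
  rw [h3, h2]
  have h4 : c * x * c⁻¹ = c * (c⁻¹ * x * c) * c⁻¹ := by rw [h1]
  rw [h4]; group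

/-- a conjugate of `x` commuting with `x` equals `x` -/
theorem iso_commute [Finite G] [Fact p.Prime] {x : G} {S : Sylow p G} (hx : x ∈ S)
    (hU : ∀ g : G, g⁻¹ * x * g ∈ S → g⁻¹ * x * g = x)
    (g : G) (hg : (g⁻¹ * x * g) * x = x * (g⁻¹ * x * g)) : g⁻¹ * x * g = x := by
  set y := g⁻¹ * x * g with hy
  have hxp : IsPGroup p (Subgroup.zpowers x) := S.2.to_le (by rw [Subgroup.zpowers_le]; exact hx)
  have hyp : IsPGroup p (Subgroup.zpowers y) := by
    have h2 := hxp.map (MulAut.conj g⁻¹).toMonoidHom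
    rw [MonoidHom.map_zpowers] at h2
    have : (MulAut.conj g⁻¹).toMonoidHom x = y := by
      show g⁻¹ * x * g⁻¹⁻¹ = y
      rw [inv_inv]
    rwa [this] at h2
  have hnorm : Subgroup.zpowers x ≤ Subgroup.normalizer (Subgroup.zpowers y : Set G) := by
    rw [Subgroup.zpowers_le]
    apply Subgroup.centralizer_le_normalizer
    rw [Subgroup.mem_centralizer_iff]
    intro w hw
    obtain ⟨k, rfl⟩ := Subgroup.mem_zpowers_iff.mp hw
    have : Commute y x := hg
    exact (this.zpow_left k).eq
  have hsup : IsPGroup p (Subgroup.zpowers x ⊔ Subgroup.zpowers y : Subgroup G) :=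
    hxp.to_sup_of_normal_right' hyp hnorm
  obtain ⟨T, hT⟩ := hsup.exists_le_sylow
  exact iso_all_sylow hU T (hT (Subgroup.mem_sup_left (Subgroup.mem_zpowers x))) g
    (hT (Subgroup.mem_sup_right (Subgroup.mem_zpowers y)))

/-- the hypotheses pass to subgroups containing `x` -/
theorem isoHyp_subgroup [Finite G] [Fact p.Prime] {x : G} (h : IsoHyp p G x) (H : Subgroup G)
    (hxH : x ∈ H) : IsoHyp p H ⟨x, hxH⟩ := by
  obtain ⟨⟨S, hx, hU⟩, hb⟩ := h
  have hxp : IsPGroup p (Subgroup.zpowers x) := S.2.to_le (by rw [Subgroup.zpowers_le]; exact hx)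
  have hxHp : IsPGroup p (Subgroup.zpowers (⟨x, hxH⟩ : H)) := by
    refine (hxp.comap_subtype (K := H)).to_le ?_
    rw [Subgroup.zpowers_le]
    show (⟨x, hxH⟩ : H) ∈ (Subgroup.zpowers x).subgroupOf H
    rw [Subgroup.mem_subgroupOf]
    exact Subgroup.mem_zpowers x
  obtain ⟨SH, hSH⟩ := hxHp.exists_le_sylow
  have hmapp : IsPGroup p ((SH : Subgroup H).map H.subtype) := SH.2.map _
  obtain ⟨T, hT⟩ := hmapp.exists_le_sylow
  have hxSH : (⟨x, hxH⟩ : H) ∈ SH := hSH (Subgroup.mem_zpowers _)
  have hxT : x ∈ T := hT ⟨⟨x, hxH⟩, hxSH, rfl⟩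
  refine ⟨⟨SH, hxSH, ?_⟩, ?_⟩
  · intro g hg
    have h1 : (g : G)⁻¹ * x * (g : G) ∈ T := hT ⟨_, hg, by simp⟩
    have h2 := iso_all_sylow hU T hxT (g : G) h1
    exact Subtype.ext (by simpa using h2)
  · intro K hK hn k hk
    have hK' : (Nat.card (K.map H.subtype)).Coprime p := by
      rwa [Subgroup.card_map_of_injective H.subtype_injective]
    have h1 := hb (K.map H.subtype) hK' (by
      rintro _ ⟨k', hk', rfl⟩
      exact ⟨_, hn k' hk', by simp⟩) (k : G) ⟨k, hk, rfl⟩
    exact Subtype.ext (by simpa using h1)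

/-- the hypotheses pass to the quotient by a normal `p'`-subgroup -/
theorem isoHyp_quotient [Finite G] [hp : Fact p.Prime] {x : G} (h : IsoHyp p G x) (K : Subgroup G)
    [K.Normal] (hK : (Nat.card K).Coprime p) : IsoHyp p (G ⧸ K) (QuotientGroup.mk' K x) := by
  obtain ⟨⟨S, hx, hU⟩, hb⟩ := h
  set π := QuotientGroup.mk' K with hπ
  have hπs : Function.Surjective π := QuotientGroup.mk'_surjective K
  have hker : π.ker = K := QuotientGroup.ker_mk' K
  refine ⟨⟨S.mapSurjective hπs, ?_, ?_⟩, ?_⟩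
  · show π x ∈ ((S.mapSurjective hπs : Sylow p (G ⧸ K)) : Subgroup (G ⧸ K))
    rw [Sylow.coe_mapSurjective]
    exact Subgroup.mem_map_of_mem π hx
  · intro gb hgb
    obtain ⟨g, rfl⟩ := hπs gb
    have hgb' : (π g)⁻¹ * π x * π g ∈
        ((S.mapSurjective hπs : Sylow p (G ⧸ K)) : Subgroup (G ⧸ K)) := hgb
    rw [Sylow.coe_mapSurjective] at hgb'
    obtain ⟨y, hy, hyx⟩ := hgb' 
    set c := g⁻¹ * x * g with hc
    have hyx' : π y = π c := by rw [hyx, hc]; simp
    have hcmem : c ∈ K ⊔ (S : Subgroup G) := by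
      have h2 : c * y⁻¹ ∈ K := by
        rw [← hker, MonoidHom.mem_ker, map_mul, map_inv, hyx']
        simp
      have h3 : c = (c * y⁻¹) * y := by group
      rw [h3]
      exact Subgroup.mul_mem_sup h2 hy
    have hxp : IsPGroup p (Subgroup.zpowers x) := S.2.to_le (by rw [Subgroup.zpowers_le]; exact hx)
    have hcp : IsPGroup p (Subgroup.zpowers c) := by
      have h2 := hxp.map (MulAut.conj g⁻¹).toMonoidHom
      rw [MonoidHom.map_zpowers] at h2
      have : (MulAut.conj g⁻¹).toMonoidHom x = c := by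
        show g⁻¹ * x * g⁻¹⁻¹ = c
        rw [inv_inv]
      rwa [this] at h2
    have hnorm : (S : Subgroup G) ≤ Subgroup.normalizer ((K : Subgroup G) : Set G) := by
      rw [Subgroup.normalizer_eq_top]; exact le_top
    have hinf : K ⊓ (S : Subgroup G) = ⊥ := by
      apply (Subgroup.disjoint_of_coprime_natCard _).eq_bot
      obtain ⟨n, hn⟩ := IsPGroup.iff_card.mp S.2
      rw [hn]
      exact Nat.Coprime.pow_right n hK
    have hnd : ¬ p ∣ Nat.card K := by
      rwa [← Nat.Prime.coprime_iff_not_dvd hp.out, Nat.coprime_comm]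
    obtain ⟨k, hk, hconj⟩ := Cfsg.Agent.Helper25.exists_conj_mem_of_isPGroup K (S : Subgroup G)
      (Subgroup.zpowers c) hnorm hinf hcp (by rw [Subgroup.zpowers_le]; exact hcmem) hnd
    have h1 : k⁻¹ * c * k ∈ (S : Subgroup G) := hconj c (Subgroup.mem_zpowers c)
    have h2 : (g * k)⁻¹ * x * (g * k) = k⁻¹ * c * k := by rw [hc]; group
    have h3 : (g * k)⁻¹ * x * (g * k) = x := hU _ (h2 ▸ h1)
    have h4 : c = k * x * k⁻¹ := by
      have : c = k * (k⁻¹ * c * k) * k⁻¹ := by group
      rw [this, ← h2, h3]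
    have hk1 : π k = 1 := by rw [← MonoidHom.mem_ker, hker]; exact hk
    have : (π g)⁻¹ * π x * π g = π c := by rw [hc]; simp
    rw [this, h4]
    simp [hk1]
  · intro Hb hHb hn hb' hhb
    obtain ⟨h, rfl⟩ := hπs hb'
    set H := Hb.comap π with hH
    have hHc : (Nat.card H).Coprime p :=
      Cfsg.Agent.Helper54.card_comap_coprime π (by rw [hker]; exact hK) Hb hHb
    have h1 := hb H hHc (by
      intro h' hh'
      rw [hH, Subgroup.mem_comap] at hh' ⊢
      have := hn (π h') hh'
      simpa using this) h (by rw [hH, Subgroup.mem_comap]; exact hhb)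
    rw [← map_mul, ← map_mul, h1]

/-- with `O_{p'}(G) = 1` the centre is a `p`-group -/
theorem center_isPGroup_of_pPrimeCore [Finite G] [hp : Fact p.Prime]
    (hO : Cfsg.pPrimeCore p G = ⊥) : IsPGroup p (Subgroup.center G) := by
  rintro ⟨z, hz⟩
  obtain ⟨e, m, hm, hn⟩ := Nat.exists_eq_pow_mul_and_not_dvd (orderOf_pos z).ne' p hp.out.ne_one
  refine ⟨e, ?_⟩
  apply Subtype.ext
  show z ^ p ^ e = 1
  set w := z ^ p ^ e with hw
  have hord : orderOf w = m := by
    rw [hw, orderOf_pow_of_dvd (pow_ne_zero e hp.out.ne_zero) ⟨m, hn⟩, hn,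
      Nat.mul_div_cancel_left _ (pow_pos hp.out.pos e)]
  have hwZ : w ∈ Subgroup.center G := Subgroup.pow_mem _ hz _
  have hnorm : (Subgroup.zpowers w).Normal := by
    refine ⟨fun y hy g => ?_⟩
    obtain ⟨k, rfl⟩ := Subgroup.mem_zpowers_iff.mp hy
    have hc : w ^ k ∈ Subgroup.center G := Subgroup.zpow_mem _ hwZ k
    have : g * w ^ k * g⁻¹ = w ^ k := by
      rw [(Subgroup.mem_center_iff.mp hc g), mul_inv_cancel_right]
    rw [this]
    exact Subgroup.zpow_mem _ (Subgroup.mem_zpowers w) k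
  have hcard : (Nat.card (Subgroup.zpowers w)).Coprime p := by
    rw [Nat.card_zpowers, hord, Nat.coprime_comm, Nat.Prime.coprime_iff_not_dvd hp.out]
    exact hm
  have := Cfsg.Agent.Lib.le_pPrimeCore hnorm hcard (Subgroup.mem_zpowers w)
  rwa [hO, Subgroup.mem_bot] at this

theorem iso_main (p : ℕ) [hp : Fact p.Prime] : ∀ (n : ℕ) (G : Type u) [Group G] [Finite G],
    Nat.card G = n → ∀ x : G, IsoHyp p G x → x ∈ Subgroup.center G := by
  intro n
  induction n using Nat.strong_induction_on with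
  | _ n ih =>
  intro G _ _ hn x hyp
  by_contra hxZ
  obtain ⟨⟨S, hx, hU⟩, hb⟩ := hyp
  have hyp : IsoHyp p G x := ⟨⟨S, hx, hU⟩, hb⟩
  set M := Subgroup.centralizer ({x} : Set G) with hM
  have hmemM : ∀ g : G, g ∈ M ↔ g * x = x * g := by
    intro g
    rw [hM, Subgroup.mem_centralizer_iff]
    constructor
    · intro h; exact (h x rfl).symm
    · intro h y hy
      rw [Set.mem_singleton_iff] at hy
      rw [hy]; exact h.symm
  have hxM : x ∈ M := (hmemM x).mpr rfl
  have hSM : (S : Subgroup G) ≤ M := by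
    intro s hs
    rw [hmemM]
    have h1 := hU s (S.mul_mem (S.mul_mem (S.inv_mem hs) hx) hs)
    calc s * x = s * (s⁻¹ * x * s) := by rw [h1]
      _ = x * s := by group
  have hMtop : M ≠ ⊤ := by
    intro h
    apply hxZ
    rw [Subgroup.mem_center_iff]
    intro g
    have : g ∈ M := h ▸ Subgroup.mem_top g
    exact (hmemM g).mp this
  -- Step 1
  have step1 : ∀ H : Subgroup G, H ≠ ⊤ → x ∈ H → H ≤ M := by
    intro H hH hxH h hh
    have hcard : Nat.card H < n := by
      rw [← hn]
      have := Cfsg.Agent.Helper78.card_lt_card_of_lt (lt_top_iff_ne_top.mpr hH)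
      rwa [Subgroup.card_top] at this
    have h1 := ih (Nat.card H) hcard H rfl ⟨x, hxH⟩ (isoHyp_subgroup hyp H hxH)
    rw [hmemM]
    have := (Subgroup.mem_center_iff.mp h1) ⟨h, hh⟩
    exact congrArg Subtype.val this
  -- conjugates in `M`
  have hconjM : ∀ g : G, g⁻¹ * x * g ∈ M → g ∈ M := by
    intro g hg
    have h1 := iso_commute hx hU g ((hmemM _).mp hg)
    rw [hmemM]
    calc g * x = g * (g⁻¹ * x * g) := by rw [h1]
      _ = x * g := by group
  -- Step 2
  have hO : Cfsg.pPrimeCore p G = ⊥ := by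
    by_contra hK1
    have hKn : (Cfsg.pPrimeCore p G).Normal := by
      have := Cfsg.Agent.Lib.pPrimeCore_characteristic (G := G) p
      infer_instance
    set K := Cfsg.pPrimeCore p G with hK
    have hKc : (Nat.card K).Coprime p := Cfsg.Agent.Lib.card_pPrimeCore_coprime p
    set π := QuotientGroup.mk' K with hπ
    have hπs : Function.Surjective π := QuotientGroup.mk'_surjective K
    have hker : π.ker = K := QuotientGroup.ker_mk' K
    have hcard : Nat.card (G ⧸ K) < n := by
      rw [← hn, ← Subgroup.index_eq_card, ← Subgroup.card_mul_index K]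
      have h1 : 1 < Nat.card K := (Subgroup.one_lt_card_iff_ne_bot K).mpr hK1
      have h2 : 0 < K.index := Nat.pos_of_ne_zero Subgroup.index_ne_zero_of_finite
      nlinarith
    have h1 := ih (Nat.card (G ⧸ K)) hcard (G ⧸ K) rfl (π x) (isoHyp_quotient hyp K hKc)
    have hxK : ∀ k ∈ K, x * k = k * x := hb K hKc (fun h hh => hKn.conj_mem h hh x)
    apply hxZ
    rw [Subgroup.mem_center_iff]
    intro g
    -- `c = g⁻¹ x g`
    set c := g⁻¹ * x * g with hc
    have hπc : π c = π x := by
      have := Subgroup.mem_center_iff.mp h1 (π g)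
      rw [hc, map_mul, map_mul, map_inv, mul_assoc, ← this]
      group
    have hcmem : c ∈ K ⊔ Subgroup.zpowers x := by
      have h2 : c * x⁻¹ ∈ K := by
        rw [← hker, MonoidHom.mem_ker, map_mul, map_inv, hπc]
        simp
      have h3 : c = (c * x⁻¹) * x := by group
      rw [h3]
      exact Subgroup.mul_mem_sup h2 (Subgroup.mem_zpowers x)
    have hxp : IsPGroup p (Subgroup.zpowers x) := S.2.to_le (by rw [Subgroup.zpowers_le]; exact hx)
    have hcp : IsPGroup p (Subgroup.zpowers c) := by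
      have h2 := hxp.map (MulAut.conj g⁻¹).toMonoidHom
      rw [MonoidHom.map_zpowers] at h2
      have : (MulAut.conj g⁻¹).toMonoidHom x = c := by
        show g⁻¹ * x * g⁻¹⁻¹ = c
        rw [inv_inv]
      rwa [this] at h2
    have hnorm : Subgroup.zpowers x ≤ Subgroup.normalizer ((K : Subgroup G) : Set G) := by
      rw [Subgroup.normalizer_eq_top]; exact le_top
    have hinf : K ⊓ Subgroup.zpowers x = ⊥ := by
      apply (Subgroup.disjoint_of_coprime_natCard _).eq_bot
      obtain ⟨m, hm⟩ := IsPGroup.iff_card.mp hxp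
      rw [hm]
      exact Nat.Coprime.pow_right m hKc
    have hnd : ¬ p ∣ Nat.card K := by
      rwa [← Nat.Prime.coprime_iff_not_dvd hp.out, Nat.coprime_comm]
    obtain ⟨k, hk, hconj⟩ := Cfsg.Agent.Helper25.exists_conj_mem_of_isPGroup K (Subgroup.zpowers x)
      (Subgroup.zpowers c) hnorm hinf hcp (by rw [Subgroup.zpowers_le]; exact hcmem) hnd
    have h2 : k⁻¹ * c * k ∈ (S : Subgroup G) := by
      have := hconj c (Subgroup.mem_zpowers c)
      exact (Subgroup.zpowers_le.mpr hx) this
    have h3 : (g * k)⁻¹ * x * (g * k) = k⁻¹ * c * k := by rw [hc]; group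
    have h4 : (g * k)⁻¹ * x * (g * k) = x := hU _ (h3 ▸ h2)
    have h5 : c = k * x * k⁻¹ := by
      have : c = k * (k⁻¹ * c * k) * k⁻¹ := by group
      rw [this, ← h3, h4]
    have h6 : c = x := by
      rw [h5, ← hxK k hk]; group
    calc g * x = g * c := by rw [h6]
      _ = x * g := by rw [hc]; group
  -- Step 3
  have step3 : ∀ g : G, g ∉ M → M ⊓ (MulAut.conj g • M) ≤ Subgroup.center G := by
    intro g hg m hm
    obtain ⟨hm1, hm2⟩ := hm
    have hm1 : m ∈ M := hm1
    have hm2 : m ∈ MulAut.conj g • M := hm2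
    rw [Subgroup.mem_pointwise_smul_iff_inv_smul_mem] at hm2
    have hm2' : g⁻¹ * m * g ∈ M := by simpa [MulAut.smul_def] using hm2
    -- `m` commutes with `x` and with `g x g⁻¹`
    set y := g * x * g⁻¹ with hy
    have hmy : m * y = y * m := by
      have := (hmemM _).mp hm2'
      have e : m * y = g * ((g⁻¹ * m * g) * x) * g⁻¹ := by rw [hy]; group
      rw [e, this, hy]; group
    have htop : Subgroup.closure ({x, y} : Set G) = ⊤ := by
      by_contra hne
      have h1 := step1 _ hne (Subgroup.subset_closure (by simp))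
      have h2 : y ∈ M := h1 (Subgroup.subset_closure (by simp))
      have h3 : g⁻¹ ∈ M := by
        apply hconjM
        rw [inv_inv]; exact h2
      exact hg (by simpa using M.inv_mem h3)
    have : m ∈ Subgroup.centralizer ((Subgroup.closure ({x, y} : Set G) : Subgroup G) : Set G) := by
      rw [Subgroup.centralizer_closure, Subgroup.mem_centralizer_iff]
      intro w hw
      rcases hw with rfl | hw
      · exact ((hmemM m).mp hm1).symm
      · rw [Set.mem_singleton_iff] at hw
        subst hw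
        exact hmy.symm
    rw [htop, Subgroup.coe_top, Subgroup.centralizer_univ] at this
    exact this
  -- Step 4: the Frobenius structure of `G / Z(G)`
  set Z := Subgroup.center G with hZ
  have hZM : Z ≤ M := by
    intro z hz
    rw [hmemM]
    exact (Subgroup.mem_center_iff.mp hz x).symm
  set π := QuotientGroup.mk' Z with hπ
  have hπs : Function.Surjective π := QuotientGroup.mk'_surjective Z
  have hker : π.ker = Z := QuotientGroup.ker_mk' Z
  set Mb := M.map π with hMb
  have hcomap : Mb.comap π = M := by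
    rw [hMb, Subgroup.comap_map_eq, hker, sup_eq_left.mpr hZM]
  have hfrob : Cfsg.IsFrobeniusComplement Mb := by
    refine ⟨?_, ?_, ?_⟩
    · intro h
      rw [hMb, Subgroup.map_eq_bot_iff, hker] at h
      exact hxZ (h hxM)
    · intro h
      apply hMtop
      rw [← hcomap, h, Subgroup.comap_top]
    · intro gb hgb
      obtain ⟨g, rfl⟩ := hπs gb
      have hg : g ∉ M := by
        intro h; exact hgb (Subgroup.mem_map_of_mem π h)
      rw [eq_bot_iff]
      rintro ab ⟨ha1, ha2⟩
      rw [Subgroup.mem_bot]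
      obtain ⟨m, hm, rfl⟩ := ha1
      have ha2 : π m ∈ MulAut.conj (π g) • Mb := ha2
      rw [Subgroup.mem_pointwise_smul_iff_inv_smul_mem] at ha2
      have ha2' : (π g)⁻¹ * π m * π g ∈ Mb := by simpa [MulAut.smul_def] using ha2
      have h1 : g⁻¹ * m * g ∈ M := by
        rw [← hcomap, Subgroup.mem_comap]
        simpa using ha2'
      have h2 : m ∈ M ⊓ (MulAut.conj g • M) := by
        refine ⟨hm, ?_⟩
        show m ∈ MulAut.conj g • M
        rw [Subgroup.mem_pointwise_smul_iff_inv_smul_mem]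
        simpa [MulAut.smul_def] using h1
      have h3 := step3 g hg h2
      rw [← MonoidHom.mem_ker, hker]
      exact h3
  obtain ⟨Nb, -, hNbn, hNbc⟩ := Cfsg.Agent.Helper75.frobenius_kernel_theorem Mb hfrob
  -- `|Nb| = |G : M|` is prime to `p`
  have hcardNb : Nat.card Nb = Mb.index := hNbc.index_eq_card.symm
  have hidx : Mb.index = M.index := by
    rw [← hcomap, Subgroup.index_comap_of_surjective Mb hπs]
  have hcop : (Nat.card Nb).Coprime p := by
    rw [hcardNb, hidx, Nat.coprime_comm, Nat.Prime.coprime_iff_not_dvd hp.out]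
    intro hdvd
    exact S.not_dvd_index (dvd_trans hdvd (Subgroup.index_dvd_of_le hSM))
  -- the preimage of `Nb` is a `p`-group
  set N := Nb.comap π with hN
  have hNn : N.Normal := hNbn.comap π
  have hZN : Z ≤ N := by rw [← hker]; exact Subgroup.ker_le_comap π Nb
  have hZp : IsPGroup p Z := center_isPGroup_of_pPrimeCore hO
  have hrel : (Z.relIndex N).Coprime p := by
    rw [← hker, Subgroup.relIndex_ker, hN, Subgroup.map_comap_eq_self_of_surjective hπs]
    exact hcop
  have hNp : IsPGroup p N :=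
    Cfsg.Agent.Helper11.isPGroup_of_central_of_coprime_relIndex hO Z N hZN hZp
      (fun e he d _ => (Subgroup.mem_center_iff.mp he d).symm) hrel
  have hNbp : IsPGroup p Nb := by
    have := hNp.map π
    rwa [hN, Subgroup.map_comap_eq_self_of_surjective hπs] at this
  obtain ⟨k, hk⟩ := IsPGroup.iff_card.mp hNbp
  have hone : Nat.card Nb = 1 := by
    rw [hk] at hcop ⊢
    rcases Nat.eq_zero_or_pos k with rfl | hkpos
    · simp
    · exfalso
      have : p ∣ p ^ k := dvd_pow_self p hkpos.ne'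
      have h2 := Nat.Coprime.eq_one_of_dvd hcop.symm this
      exact hp.out.ne_one h2
  have : Mb = ⊤ := by
    rw [← Subgroup.index_eq_one, ← hcardNb, hone]
  exact hfrob.2.1 this

end

/-- Let S be a Sylow p-subgroup of the finite group G and x an element of S such that (i) x is the only G-conjugate of x lying in S, and (ii) x centralizes every subgroup of order prime to p that it normalizes. Then x lies in the centre of G. -/
theorem result {G : Type*} [Group G] [Finite G] {p : ℕ} [Fact p.Prime]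
    (S : Sylow p G) (x : G) (hx : x ∈ S)
    (hU : ∀ g : G, g⁻¹ * x * g ∈ S → g⁻¹ * x * g = x)
    (hb : ∀ H : Subgroup G, (Nat.card H).Coprime p → (∀ h ∈ H, x * h * x⁻¹ ∈ H) → ∀ h ∈ H, x * h = h * x) :
    x ∈ Subgroup.center G := by
  exact iso_main p (Nat.card G) G rfl x ⟨⟨S, hx, hU⟩, hb⟩

end Cfsg.Agent.S3064
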