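import Cfsg.Statements.S3071
import Cfsg.Agent.Helper97.SL2FreeZJ

set_option autoImplicit false
open Cfsg

namespace Cfsg.Agent.S3071

/-- Let p be an odd prime and S a Sylow p-subgroup of the finite group G such that, for every subgroup P with Z(S) ≤ P ≤ S, the normalizer N_G(P) has no section isomorphic to SL₂(p). Let J(S) be the subgroup generated by the abelian subgroups of S of largest order. Then two elements of S are conjugate in G if and only if they are conjugate in N_G(Z(J(S))). -/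
theorem result {G : Type*} [Group G] [Finite G] {p : ℕ} [Fact p.Prime]
    (hp : p ≠ 2) (S : Sylow p G)
    (hfree : ∀ P : Subgroup G, (S : Subgroup G) ⊓ Subgroup.centralizer ((S : Subgroup G) : Set G) ≤ P → P ≤ S →
      ¬ ∃ (H K : Subgroup G) (hK : (K.subgroupOf H).Normal), H ≤ Subgroup.normalizer (P : Set G) ∧
        Nonempty ((H ⧸ K.subgroupOf H) ≃* Matrix.SpecialLinearGroup (Fin 2) (ZMod p))) :
    ∀ x ∈ S, ∀ y ∈ S, (∃ g : G, g * x * g⁻¹ = y) ↔
      ∃ n ∈ Subgroup.normalizer (Cfsg.centerThompsonAOf (S : Subgroup G) : Set G), n * x * n⁻¹ = y := by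
  intro x hx y hy
  constructor
  · rintro ⟨g, rfl⟩
    have hA : ({x} : Set G) ⊆ ((S : Subgroup G) : Set G) := by
      rintro _ rfl
      exact hx
    have hgA : Cfsg.Agent.Helper33.conjR g⁻¹ ({x} : Set G) ⊆ ((S : Subgroup G) : Set G) := by
      rintro _ ⟨a, ha, rfl⟩
      rw [Set.mem_singleton_iff] at ha
      subst ha
      rw [inv_inv]
      exact hy
    obtain ⟨c, hc, n, hn, hgcn⟩ :=
      Cfsg.Agent.Helper97.SL2ZJ.ctl_zj_of_sl2Free_local hp S hfree {x} g⁻¹ hA hgA
    have hcx : x * c = c * x := Subgroup.mem_centralizer_iff.mp hc x rfl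
    have hg : g = n⁻¹ * c⁻¹ := by
      have : g = (g⁻¹)⁻¹ := (inv_inv g).symm
      rw [this, hgcn]
      group
    refine ⟨n⁻¹, Subgroup.inv_mem _ hn, ?_⟩
    rw [hg, inv_inv]
    have h3 : c⁻¹ * x * c = x := by rw [mul_assoc, hcx, inv_mul_cancel_left]
    calc n⁻¹ * x * n = n⁻¹ * (c⁻¹ * x * c) * n := by rw [h3]
      _ = n⁻¹ * c⁻¹ * x * (n⁻¹ * c⁻¹)⁻¹ := by group
  · rintro ⟨n, _, hn⟩
    exact ⟨n, hn⟩

end Cfsg.Agent.S3071
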