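import Cfsg.Statements.S3072
import Cfsg.Agent.Helper51.AGDec

set_option autoImplicit false
open Cfsg

namespace Cfsg.Agent.S3072

open Cfsg.Agent.Helper31 Cfsg.Agent.Helper51.AG

theorem schain_props {G : Type*} [Group G] {p : ℕ} {P : Sylow p G}
    {l : List (Subgroup G × Subgroup G × G)} :
    ∀ {A : Subgroup G}, SChain P A l → ∀ i : Fin l.length, Step P (l.get i) ∧
      cj A (((l.map (fun q => q.2.2)).take i.val).prod) ≤ (l.get i).1 := by
  induction l with
  | nil => intro A _ i; exact i.elim0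
  | cons q l ih =>
    intro A h i
    refine Fin.cases ?_ (fun i' => ?_) i
    · refine ⟨h.1, ?_⟩
      simp only [Fin.val_zero, List.take_zero, List.prod_nil, cj_one]
      exact h.2.1
    · obtain ⟨h1, h2⟩ := ih h.2.2 i'
      refine ⟨h1, ?_⟩
      simp only [Fin.val_succ, List.map_cons, List.take_succ_cons, List.prod_cons, cj_mul]
      exact h2

/-- A strong form of the Alperin–Goldschmidt fusion Theorem. Let P be a Sylow p-subgroup of the finite group G, A a subset of P containing a nonidentity element, and g an element with g⁻¹Ag ⊆ P. Then g = c·x₁⋯xₙ·y with c ∈ C_G(A), y ∈ N_G(P) and, for each i, an element xᵢ and a subgroup Hᵢ ≤ P such that: N_P(Hᵢ) is a Sylow p-subgroup of N_G(Hᵢ); C_P(Hᵢ) ≤ Hᵢ; O_{p',p}(N_G(Hᵢ)) = Hᵢ·C_G(Hᵢ); the Sylow p-subgroups of N_G(Hᵢ)/Hᵢ are not chain-connected through nontrivial intersections (the quotient has a strongly p-embedded subgroup); xᵢ lies in O^p(Xᵢ), where Xᵢ/Hᵢ is the smallest normal subgroup of N_G(Hᵢ)/Hᵢ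 of order divisible by p; and (x₁⋯xᵢ₋₁)⁻¹A(x₁⋯xᵢ₋₁) ⊆ Hᵢ. -/
theorem result {G : Type*} [Group G] [Finite G] {p : ℕ} [Fact p.Prime]
    (P : Sylow p G) (A : Set G) (hA : A ⊆ (P : Set G)) (hA1 : ∃ a ∈ A, a ≠ 1)
    (g : G) (hAg : (fun a => g⁻¹ * a * g) '' A ⊆ (P : Set G)) :
    ∃ (n : ℕ) (H X : Fin n → Subgroup G) (x : Fin n → G) (c y : G),
      c ∈ Subgroup.centralizer A ∧ y ∈ Subgroup.normalizer ((P : Subgroup G) : Set G) ∧
      g = c * (List.ofFn x).prod * y ∧
      ∀ i : Fin n,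
        H i ≤ (P : Subgroup G) ∧
        ¬ p ∣ ((P : Subgroup G) ⊓ Subgroup.normalizer (H i : Set G)).relIndex (Subgroup.normalizer (H i : Set G)) ∧
        (P : Subgroup G) ⊓ Subgroup.centralizer (H i : Set G) ≤ H i ∧
        (Cfsg.pPrimePCore p ↥(Subgroup.normalizer (H i : Set G))).map (Subgroup.normalizer (H i : Set G)).subtype =
          H i ⊔ Subgroup.centralizer (H i : Set G) ∧
        ¬ Cfsg.IsSylowChainConnected p
            (↥(Subgroup.normalizer (H i : Set G)) ⧸ (H i).subgroupOf (Subgroup.normalizer (H i : Set G))) ∧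
        (H i ≤ X i ∧ X i ≤ Subgroup.normalizer (H i : Set G) ∧
          ((X i).subgroupOf (Subgroup.normalizer (H i : Set G))).Normal ∧ p ∣ (H i).relIndex (X i) ∧
          ∀ Y : Subgroup G, H i ≤ Y → Y ≤ Subgroup.normalizer (H i : Set G) →
            (Y.subgroupOf (Subgroup.normalizer (H i : Set G))).Normal → p ∣ (H i).relIndex Y → X i ≤ Y) ∧
        x i ∈ (Cfsg.pResidual p ↥(X i)).map (X i).subtype ∧
        (fun a => (((List.ofFn x).take i.val).prod)⁻¹ * a * ((List.ofFn x).take i.val).prod) '' A ⊆ (H i : Set G) := by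
  classical
  set A' : Subgroup G := Subgroup.closure A with hA'
  have hA'P : A' ≤ (P : Subgroup G) := (Subgroup.closure_le _).mpr hA
  have hA'g : cj A' g ≤ (P : Subgroup G) := by
    rw [cj_le_iff]
    apply (Subgroup.closure_le _).mpr
    intro a ha
    have h1 : g⁻¹ * a * g ∈ (P : Subgroup G) := hAg ⟨a, ha, rfl⟩
    change a ∈ cj (P : Subgroup G) g⁻¹
    rw [mem_cj, inv_inv]
    exact h1
  obtain ⟨l, c, y, hc, hy, hg, hl⟩ := decS_main P A' hA'P g hA'g
  have hprops := schain_props hl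
  have hofFn : List.ofFn (fun i : Fin l.length => (l.get i).2.2) = l.map (fun q => q.2.2) := by
    apply List.ext_get
    · simp
    · intro n h1 h2
      simp
  refine ⟨l.length, fun i => (l.get i).1, fun i => (l.get i).2.1, fun i => (l.get i).2.2, c, y,
    Subgroup.centralizer_le Subgroup.subset_closure hc, hy, ?_, ?_⟩
  · rw [hofFn]
    exact hg
  · intro i
    obtain ⟨⟨hE, hX, hx⟩, hpre⟩ := hprops i
    obtain ⟨hX1, hX2, hX3, hX4, hX5⟩ := hX
    refine ⟨hE.1, hE.2.2.1, hE.cen, hE.core, hE.ncc, ⟨hX1, hX2, ?_, hX4, ?_⟩, ?_, ?_⟩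
    · exact (Subgroup.normal_subgroupOf_iff_le_normalizer hX2).mpr hX3
    · intro Y hY1 hY2 hY3 hY4
      exact hX5 Y hY1 hY2 ((Subgroup.normal_subgroupOf_iff_le_normalizer hY2).mp hY3) hY4
    · rw [Res_eq_map]
      exact hx
    · rw [hofFn]
      rintro _ ⟨a, ha, rfl⟩
      apply hpre
      exact conj_mem_cj (Subgroup.subset_closure ha)

end Cfsg.Agent.S3072
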