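-- Statement S3075: an extension of a self-centralizing plane by SL₂(p) splits (p odd).
import Cfsg.Statements.S3075
import Cfsg.Agent.Helper51.CD

set_option autoImplicit false
open Cfsg

namespace Cfsg.Agent.S3075

open Subgroup Cfsg.Agent.Helper51
open scoped commutatorElement

variable {N : Type*} [Group N]

theorem comm_of_mem {A : Subgroup N} (hA : IsMulCommutative A) {a b : N} (ha : a ∈ A) (hb : b ∈ A) :
    a * b = b * a :=
  congrArg Subtype.val (mul_comm' (⟨a, ha⟩ : A) ⟨b, hb⟩)

theorem pow_card_of_mem {A : Subgroup N} {a : N} (ha : a ∈ A) : a ^ Nat.card A = 1 := by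
  have h := congrArg Subtype.val (pow_card_eq_one' (G := A) (x := ⟨a, ha⟩))
  rw [SubgroupClass.coe_pow] at h
  exact h

/-- Square roots in a subgroup of odd order. -/
theorem exists_sq {A : Subgroup N} (hodd : Odd (Nat.card A)) {a : N} (ha : a ∈ A) :
    ∃ b ∈ A, b * b = a := by
  obtain ⟨k, hk⟩ := hodd
  refine ⟨a ^ (k + 1), A.pow_mem ha _, ?_⟩
  rw [← pow_add]
  have : k + 1 + (k + 1) = Nat.card A + 1 := by omega
  rw [this, pow_succ, pow_card_of_mem ha, one_mul]

/-- Lifting an involution of `N ⧸ A` to an involution of `N`, when `A` has odd order. -/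
theorem exists_involution_lift (A : Subgroup N) [A.Normal] (hodd : Odd (Nat.card A))
    (zb : N ⧸ A) (hz2 : zb * zb = 1) : ∃ t : N, t * t = 1 ∧ (t : N ⧸ A) = zb := by
  obtain ⟨n0, hn0⟩ := QuotientGroup.mk_surjective zb
  obtain ⟨k, hk⟩ := hodd
  refine ⟨n0 ^ Nat.card A, ?_, ?_⟩
  · have hn2 : n0 * n0 ∈ A := by
      rw [← QuotientGroup.eq_one_iff, QuotientGroup.mk_mul, hn0, hz2]
    have h1 : (n0 * n0) ^ Nat.card A = 1 := pow_card_of_mem hn2
    rw [← pow_add, ← two_mul, pow_mul, pow_two]; exact h1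
  · rw [QuotientGroup.mk_pow, hn0, hk, pow_succ, pow_mul, pow_two, hz2, one_pow, one_mul]

/-- The automorphism group of a cyclic group is commutative, in the form we need: commutators act
trivially on a normal subgroup of prime order. -/
theorem commutator_le_centralizer_of_prime_card {p : ℕ} [Fact p.Prime] (P : Subgroup N) [P.Normal]
    (hP : Nat.card P = p) : commutator N ≤ centralizer (P : Set N) := by
  have : IsCyclic P := isCyclic_of_prime_card hP
  have hcomm : ∀ φ ψ : MulAut P, φ * ψ = ψ * φ := by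
    intro φ ψ
    apply (IsCyclic.mulAutMulEquiv P).injective
    rw [map_mul, map_mul, mul_comm]
  rw [_root_.commutator_def, commutator_le]
  intro n _ m _
  rw [mem_centralizer_iff]
  intro x hx
  have h1 : MulAut.conjNormal (H := P) ⁅n, m⁆ = 1 := by
    rw [commutatorElement_def, map_mul, map_mul, map_mul, map_inv, map_inv, hcomm (MulAut.conjNormal n),
      mul_assoc (MulAut.conjNormal m), mul_inv_cancel, mul_one, mul_inv_cancel]
  have h2 := congrArg (fun φ : MulAut P => ((φ ⟨x, hx⟩ : P) : N)) h1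
  simp only [MulAut.conjNormal_apply, MulAut.one_apply] at h2
  -- h2 : ⁅n,m⁆ * x * ⁅n,m⁆⁻¹ = x
  calc x * ⁅n, m⁆ = (⁅n, m⁆ * x * ⁅n, m⁆⁻¹) * ⁅n, m⁆ := by rw [h2]
    _ = ⁅n, m⁆ * x := by group

/-- The abstract splitting statement. -/
theorem split_of_central_involution [Finite N] {p : ℕ} [Fact p.Prime] (hp : p ≠ 2)
    (A : Subgroup N) [A.Normal] (hAcomm : IsMulCommutative A) (hAcard : Nat.card A = p ^ 2)
    (hAself : centralizer (A : Set N) = A)
    (zb : N ⧸ A) (hz1 : zb ≠ 1) (hz2 : zb * zb = 1) (hzc : ∀ x : N ⧸ A, x * zb = zb * x)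
    (hnab : ∃ x y : N ⧸ A, x * y ≠ y * x) :
    ∃ U : Subgroup N, A ⊓ U = ⊥ ∧ A ⊔ U = ⊤ := by
  have hpp : p.Prime := Fact.out
  have hpodd : Odd p := hpp.odd_of_ne_two hp
  have hodd : Odd (Nat.card A) := by rw [hAcard]; exact hpodd.pow
  obtain ⟨t, ht2, htz⟩ := exists_involution_lift A hodd zb hz2
  have htinv : t⁻¹ = t := inv_eq_of_mul_eq_one_left ht2
  have htA : t ∉ A := by
    intro h
    apply hz1
    rw [← htz]; exact (QuotientGroup.eq_one_iff t).mpr h
  -- conjugates of t
  have hconj : ∀ n : N, ∃ a ∈ A, n * t * n⁻¹ = t * a := by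
    intro n
    refine ⟨t⁻¹ * (n * t * n⁻¹), ?_, by group⟩
    rw [← QuotientGroup.eq]
    rw [QuotientGroup.mk_mul, QuotientGroup.mk_mul, QuotientGroup.mk_inv, htz, hzc, mul_assoc,
      mul_inv_cancel, mul_one]
  have htconjA : ∀ a ∈ A, t * a * t⁻¹ ∈ A := fun a ha => ‹A.Normal›.conj_mem a ha t
  -- the plus and minus parts
  set Ap : Subgroup N := A ⊓ centralizer ({t} : Set N) with hAp
  let Am : Subgroup N :=
    { carrier := {a | a ∈ A ∧ t * a * t⁻¹ = a⁻¹}
      one_mem' := ⟨A.one_mem, by simp⟩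
      mul_mem' := by
        rintro a b ⟨ha, ha'⟩ ⟨hb, hb'⟩
        refine ⟨A.mul_mem ha hb, ?_⟩
        have : t * (a * b) * t⁻¹ = (t * a * t⁻¹) * (t * b * t⁻¹) := by group
        rw [this, ha', hb', mul_inv_rev, comm_of_mem hAcomm (A.inv_mem ha) (A.inv_mem hb)]
      inv_mem' := by
        rintro a ⟨ha, ha'⟩
        refine ⟨A.inv_mem ha, ?_⟩
        have : t * a⁻¹ * t⁻¹ = (t * a * t⁻¹)⁻¹ := by group
        rw [this, ha'] }
  have hAm_mem : ∀ a, a ∈ Am ↔ a ∈ A ∧ t * a * t⁻¹ = a⁻¹ := fun a => Iff.rfl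
  have hAp_mem : ∀ a, a ∈ Ap ↔ a ∈ A ∧ t * a = a * t := by
    intro a
    rw [hAp, mem_inf, mem_centralizer_singleton_iff]
    constructor
    · exact fun h => ⟨h.1, h.2.symm⟩
    · exact fun h => ⟨h.1, h.2.symm⟩
  have hAmA : Am ≤ A := fun a ha => ha.1
  have hApA : Ap ≤ A := inf_le_left
  -- both are normal in N
  have hApn : Ap.Normal := by
    refine ⟨fun x hx n => ?_⟩
    rw [hAp_mem] at hx ⊢
    refine ⟨‹A.Normal›.conj_mem x hx.1 n, ?_⟩
    obtain ⟨a, ha, hna⟩ := hconj n⁻¹
    rw [inv_inv] at hna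
    have hax : a * x = x * a := comm_of_mem hAcomm ha hx.1
    have e1 : t * (n * x * n⁻¹) = n * ((n⁻¹ * t * n) * x) * n⁻¹ := by group
    have e2 : (n * x * n⁻¹) * t = n * (x * (n⁻¹ * t * n)) * n⁻¹ := by group
    rw [e1, e2, hna]
    congr 2
    rw [mul_assoc, hax, ← mul_assoc, hx.2, mul_assoc]
  have hAmn : Am.Normal := by
    refine ⟨fun x hx n => ?_⟩
    rw [hAm_mem] at hx ⊢
    refine ⟨‹A.Normal›.conj_mem x hx.1 n, ?_⟩
    obtain ⟨a, ha, hna⟩ := hconj n⁻¹
    rw [inv_inv] at hna
    have hax : a * x = x * a := comm_of_mem hAcomm ha hx.1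
    have e1 : t * (n * x * n⁻¹) * t⁻¹ = n * ((n⁻¹ * t * n) * x * (n⁻¹ * t * n)⁻¹) * n⁻¹ := by group
    rw [e1, hna]
    have e2 : t * a * x * (t * a)⁻¹ = t * (a * x * a⁻¹) * t⁻¹ := by group
    rw [e2, hax, mul_assoc x, mul_inv_cancel, mul_one, hx.2]
    group
  -- Ap ⊓ Am = ⊥
  have hinf : Ap ⊓ Am = ⊥ := by
    rw [eq_bot_iff]
    intro x hx
    rw [mem_inf, hAp_mem, hAm_mem] at hx
    obtain ⟨⟨hxA, hx1⟩, _, hx2⟩ := hx
    rw [mem_bot]
    have h1 : x = x⁻¹ := by
      rw [← hx2, hx1, mul_assoc, mul_inv_cancel, mul_one]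
    have h2 : x * x = 1 := by
      nth_rewrite 2 [h1]; exact mul_inv_cancel x
    obtain ⟨k, hk⟩ := hodd
    have h3 : x ^ Nat.card A = 1 := pow_card_of_mem hxA
    rw [hk, pow_succ, pow_mul, pow_two, h2, one_pow, one_mul] at h3
    exact h3
  -- Ap ⊔ Am = A
  have hsup : Ap ⊔ Am = A := by
    apply le_antisymm (sup_le hApA hAmA)
    intro a ha
    obtain ⟨b, hb, hba⟩ := exists_sq hodd ha
    set b' := t * b * t⁻¹ with hb'
    have hb'A : b' ∈ A := htconjA b hb
    have htb' : t * b' * t⁻¹ = b := by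
      rw [hb', htinv]
      calc t * (t * b * t) * t = (t * t) * b * (t * t) := by group
        _ = b := by rw [ht2, one_mul, mul_one]
    have hbb' : b * b' = b' * b := comm_of_mem hAcomm hb hb'A
    have h1 : b * b' ∈ Ap := by
      rw [hAp_mem]
      refine ⟨A.mul_mem hb hb'A, ?_⟩
      have : t * (b * b') * t⁻¹ = b * b' := by
        have : t * (b * b') * t⁻¹ = (t * b * t⁻¹) * (t * b' * t⁻¹) := by group
        rw [this, htb', ← hb', hbb']
      calc t * (b * b') = (t * (b * b') * t⁻¹) * t := by group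
        _ = (b * b') * t := by rw [this]
    have h2 : b * b'⁻¹ ∈ Am := by
      rw [hAm_mem]
      refine ⟨A.mul_mem hb (A.inv_mem hb'A), ?_⟩
      have : t * (b * b'⁻¹) * t⁻¹ = (t * b * t⁻¹) * (t * b' * t⁻¹)⁻¹ := by group
      rw [this, htb', ← hb', mul_inv_rev, inv_inv]
    have h3 : a = (b * b') * (b * b'⁻¹) := by
      rw [← hba]
      calc b * b = b * (b' * b'⁻¹) * b := by group
        _ = (b * b') * (b'⁻¹ * b) := by group
        _ = (b * b') * (b * b'⁻¹) := by rw [comm_of_mem hAcomm (A.inv_mem hb'A) hb]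
    rw [h3]
    exact mul_mem (mem_sup_left h1) (mem_sup_right h2)
  have hcard : Nat.card Ap * Nat.card Am = p ^ 2 := by
    have := @card_sup_mul_card_inf_of_normal N _ Ap Am hAmn
    rw [hinf, hsup, Subgroup.card_bot, mul_one, hAcard] at this
    exact this.symm
  -- the possible orders of Ap
  obtain ⟨k, hk2, hk⟩ := (Nat.dvd_prime_pow hpp).mp (Dvd.intro _ hcard)
  have hApbot : Ap = ⊥ := by
    interval_cases k
    · -- order 1
      exact Subgroup.card_eq_one.mp (by simpa using hk)
    · -- order p : impossible as N ⧸ A is not abelian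
      exfalso
      rw [pow_one] at hk
      have hkm : Nat.card Am = p := by
        rw [hk, pow_two] at hcard
        exact Nat.eq_of_mul_eq_mul_left hpp.pos hcard
      have c1 := @commutator_le_centralizer_of_prime_card N _ p _ Ap hApn hk
      have c2 := @commutator_le_centralizer_of_prime_card N _ p _ Am hAmn hkm
      have c3 : commutator N ≤ A := by
        have : commutator N ≤ centralizer ((Ap ⊔ Am : Subgroup N) : Set N) := by
          rw [centralizer_sup]; exact le_inf c1 c2
        rwa [hsup, hAself] at this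
      obtain ⟨x, y, hxy⟩ := hnab
      apply hxy
      obtain ⟨n, rfl⟩ := QuotientGroup.mk_surjective x
      obtain ⟨m, rfl⟩ := QuotientGroup.mk_surjective y
      rw [← QuotientGroup.mk_mul, ← QuotientGroup.mk_mul, QuotientGroup.eq]
      have hc : ⁅m⁻¹, n⁻¹⁆ ∈ A := c3 (by
        rw [_root_.commutator_def]; exact commutator_mem_commutator (mem_top _) (mem_top _))
      have e : (n * m)⁻¹ * (m * n) = ⁅m⁻¹, n⁻¹⁆ := by
        rw [commutatorElement_def]; group
      rw [e]; exact hc
    · -- order p^2 : then t centralizes A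
      exfalso
      have hApeq : Ap = A := Subgroup.eq_of_le_of_card_ge hApA (by rw [hk, hAcard])
      have : A ≤ centralizer ({t} : Set N) := by
        rw [← hApeq]; exact inf_le_right
      have ht : t ∈ centralizer (A : Set N) := by
        rw [mem_centralizer_iff]
        intro a ha
        have := this ha
        rw [mem_centralizer_singleton_iff] at this
        exact this
      rw [hAself] at ht
      exact htA ht
  have hAmA' : Am = A := by
    rw [hApbot, bot_sup_eq] at hsup; exact hsup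
  have hinvert : ∀ a ∈ A, t * a * t⁻¹ = a⁻¹ := by
    intro a ha
    rw [← hAmA'] at ha
    exact ha.2
  -- the complement
  refine ⟨centralizer ({t} : Set N), ?_, ?_⟩
  · rw [← hAp]; exact hApbot
  · rw [eq_top_iff]
    intro n _
    obtain ⟨a, ha, hna⟩ := hconj n
    obtain ⟨b, hb, hba⟩ := exists_sq hodd ha
    -- b⁻¹ t b = t b b
    have h1 : b⁻¹ * t * b = t * a := by
      have hbi := hinvert b hb
      have : t * b * t⁻¹ * t = b⁻¹ * t := by rw [hbi]
      have h2 : t * b = b⁻¹ * t := by rw [← this]; group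
      rw [← h2, mul_assoc, hba]
    have h3 : (b * n) * t * (b * n)⁻¹ = t := by
      calc (b * n) * t * (b * n)⁻¹ = b * (n * t * n⁻¹) * b⁻¹ := by group
        _ = b * (b⁻¹ * t * b) * b⁻¹ := by rw [hna, h1]
        _ = t := by group
    have h4 : b * n ∈ centralizer ({t} : Set N) := by
      rw [mem_centralizer_singleton_iff]
      symm
      calc t * (b * n) = ((b * n) * t * (b * n)⁻¹) * (b * n) := by rw [h3]
        _ = (b * n) * t := by group
    have : n = b⁻¹ * (b * n) := by group
    rw [this]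
    exact mul_mem (mem_sup_left (A.inv_mem hb)) (mem_sup_right h4)

section SL2

variable {F : Type*} [Field F]

/-- The matrix `-1` in `SL₂(F)`. -/
def negOne : Matrix.SpecialLinearGroup (Fin 2) F :=
  ⟨!![-1, 0; 0, -1], by simp [Matrix.det_fin_two]⟩

/-- An upper unitriangular matrix. -/
def upper : Matrix.SpecialLinearGroup (Fin 2) F :=
  ⟨!![1, 1; 0, 1], by simp [Matrix.det_fin_two]⟩

/-- A lower unitriangular matrix. -/
def lower : Matrix.SpecialLinearGroup (Fin 2) F :=
  ⟨!![1, 0; 1, 1], by simp [Matrix.det_fin_two]⟩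

theorem negOne_mul_self : (negOne : Matrix.SpecialLinearGroup (Fin 2) F) * negOne = 1 := by
  apply Subtype.ext
  change (!![-1, 0; 0, -1] * !![-1, 0; 0, -1] : Matrix (Fin 2) (Fin 2) F) = 1
  ext i j
  fin_cases i <;> fin_cases j <;> simp [Matrix.mul_apply, Fin.sum_univ_two]

theorem negOne_comm (x : Matrix.SpecialLinearGroup (Fin 2) F) : x * negOne = negOne * x := by
  apply Subtype.ext
  change (x.1 * !![-1, 0; 0, -1] : Matrix (Fin 2) (Fin 2) F) = !![-1, 0; 0, -1] * x.1
  ext i j
  fin_cases i <;> fin_cases j <;> simp [Matrix.mul_apply, Fin.sum_univ_two]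

theorem negOne_ne_one (h2 : (2 : F) ≠ 0) : (negOne : Matrix.SpecialLinearGroup (Fin 2) F) ≠ 1 := by
  intro h
  have h0 : (!![-1, 0; 0, -1] : Matrix (Fin 2) (Fin 2) F) = 1 := congrArg Subtype.val h
  have := congrFun (congrFun h0 0) 0
  simp at this
  apply h2
  have h3 : (2 : F) = 1 - (-1) := by ring
  rw [h3, this]; ring

theorem upper_lower_ne : (upper : Matrix.SpecialLinearGroup (Fin 2) F) * lower ≠ lower * upper := by
  intro h
  have h0 : (!![1, 1; 0, 1] * !![1, 0; 1, 1] : Matrix (Fin 2) (Fin 2) F) =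
      !![1, 0; 1, 1] * !![1, 1; 0, 1] := congrArg Subtype.val h
  have := congrFun (congrFun h0 0) 0
  simp [Matrix.mul_apply, Fin.sum_univ_two] at this

end SL2

/-- Let p be an odd prime and N a finite group with a normal elementary abelian subgroup A of order p² that is its own centralizer in N, such that N/A is isomorphic to SL₂(p) (over any field F with p elements). Then N splits over A: some subgroup U of N satisfies A ∩ U = 1 and AU = N. -/
theorem result {N : Type*} [Group N] [Finite N] {p : ℕ} [Fact p.Prime] (hp : p ≠ 2)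
    (A : Subgroup N) [A.Normal] (hAcomm : IsMulCommutative A) (hAcard : Nat.card A = p ^ 2) (hAexp : Monoid.exponent ↥A = p)
    (hAself : Subgroup.centralizer (A : Set N) = A)
    {F : Type*} [Field F] [Fintype F] (hF : Fintype.card F = p) (e : N ⧸ A ≃* Matrix.SpecialLinearGroup (Fin 2) F) :
    ∃ U : Subgroup N, A ⊓ U = ⊥ ∧ A ⊔ U = ⊤ := by
  have hpp : p.Prime := Fact.out
  have h2 : (2 : F) ≠ 0 := by
    apply Ring.two_ne_zero
    intro hc
    have := FiniteField.even_card_iff_char_two.mp hc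
    rw [hF] at this
    have h3 := Nat.odd_iff.mp (hpp.odd_of_ne_two hp)
    omega
  refine split_of_central_involution hp A hAcomm hAcard hAself (e.symm negOne) ?_ ?_ ?_ ?_
  · intro h
    apply negOne_ne_one h2
    have := congrArg e h
    simpa using this
  · rw [← map_mul, negOne_mul_self, map_one]
  · intro x
    apply e.injective
    rw [map_mul, map_mul, e.apply_symm_apply, negOne_comm]
  · refine ⟨e.symm upper, e.symm lower, ?_⟩
    intro h
    apply upper_lower_ne (F := F)
    have := congrArg e h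
    simpa using this

end Cfsg.Agent.S3075
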