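import Cfsg.Statements.S3076
import Cfsg.Agent.Helper46.CoreMod

set_option autoImplicit false
open Cfsg

namespace Cfsg.Agent.S3076

open Cfsg.Agent.Helper46 in
theorem result {G : Type*} [Group G] [Finite G] {p : ℕ} [Fact p.Prime]
    (P : Sylow p G) (H : Subgroup G) (hHP : H ≤ (P : Subgroup G))
    (hSyl : ¬ p ∣ ((P : Subgroup G) ⊓ Subgroup.normalizer (H : Set G)).relIndex (Subgroup.normalizer (H : Set G)))
    [hC : ((Subgroup.centralizer (H : Set G)).subgroupOf (Subgroup.normalizer (H : Set G))).Normal] :
    (H ≤ ((Cfsg.pCore p (↥(Subgroup.normalizer (H : Set G)) ⧸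
              (Subgroup.centralizer (H : Set G)).subgroupOf (Subgroup.normalizer (H : Set G)))).comap
            (QuotientGroup.mk' _)).map (Subgroup.normalizer (H : Set G)).subtype ∧
      ¬ p ∣ H.relIndex (((Cfsg.pCore p (↥(Subgroup.normalizer (H : Set G)) ⧸
              (Subgroup.centralizer (H : Set G)).subgroupOf (Subgroup.normalizer (H : Set G)))).comap
            (QuotientGroup.mk' _)).map (Subgroup.normalizer (H : Set G)).subtype)) ↔
    ((P : Subgroup G) ⊓ Subgroup.centralizer (H : Set G) ≤ H ∧
      (Cfsg.pPrimePCore p ↥(Subgroup.normalizer (H : Set G))).map (Subgroup.normalizer (H : Set G)).subtype =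
        H ⊔ Subgroup.centralizer (H : Set G)) := by
  have hHN : H ≤ Subgroup.normalizer (H : Set G) := Subgroup.le_normalizer
  have hCN : Subgroup.centralizer (H : Set G) ≤ Subgroup.normalizer (H : Set G) :=
    Subgroup.centralizer_le_normalizer _
  -- the abstract data
  have hQp : IsPGroup p ↥(H.subgroupOf (Subgroup.normalizer (H : Set G))) :=
    (P.isPGroup'.to_le hHP).comap_subtype
  have hCeq : (Subgroup.centralizer (H : Set G)).subgroupOf (Subgroup.normalizer (H : Set G)) =
      Subgroup.centralizer ((H.subgroupOf (Subgroup.normalizer (H : Set G)) :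
        Subgroup ↥(Subgroup.normalizer (H : Set G))) : Set ↥(Subgroup.normalizer (H : Set G))) := by
    ext ⟨x, hx⟩
    rw [Subgroup.mem_subgroupOf, Subgroup.mem_centralizer_iff, Subgroup.mem_centralizer_iff]
    constructor
    · intro h q hq
      apply Subtype.ext
      exact h q.1 (Subgroup.mem_subgroupOf.1 hq)
    · intro h g hg
      have := h ⟨g, hHN hg⟩ (Subgroup.mem_subgroupOf.2 hg)
      exact congrArg Subtype.val this
  have hRp : IsPGroup p ↥(((P : Subgroup G) ⊓ Subgroup.normalizer (H : Set G)).subgroupOf
      (Subgroup.normalizer (H : Set G))) :=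
    (P.isPGroup'.to_le inf_le_left).comap_subtype
  have key := sylow_in_pCoreMod_iff (p := p) (H.subgroupOf (Subgroup.normalizer (H : Set G))) hQp
    ((Subgroup.centralizer (H : Set G)).subgroupOf (Subgroup.normalizer (H : Set G))) hCeq
    (((P : Subgroup G) ⊓ Subgroup.normalizer (H : Set G)).subgroupOf
      (Subgroup.normalizer (H : Set G))) hRp hSyl
  -- translation of the four clauses
  have hHmap : (H.subgroupOf (Subgroup.normalizer (H : Set G))).map
      (Subgroup.normalizer (H : Set G)).subtype = H := by
    rw [Subgroup.subgroupOf_map_subtype, inf_of_le_left hHN]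
  have hCmap : ((Subgroup.centralizer (H : Set G)).subgroupOf (Subgroup.normalizer (H : Set G))).map
      (Subgroup.normalizer (H : Set G)).subtype = Subgroup.centralizer (H : Set G) := by
    rw [Subgroup.subgroupOf_map_subtype, inf_of_le_left hCN]
  have hinj := Subgroup.subtype_injective (Subgroup.normalizer (H : Set G))
  have t1 : ∀ N : Subgroup ↥(Subgroup.normalizer (H : Set G)),
      H ≤ N.map (Subgroup.normalizer (H : Set G)).subtype ↔
        H.subgroupOf (Subgroup.normalizer (H : Set G)) ≤ N := by
    intro N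
    constructor
    · intro h q hq
      obtain ⟨n, hn, hnq⟩ := h (Subgroup.mem_subgroupOf.1 hq)
      have : n = q := Subtype.ext hnq
      rwa [← this]
    · intro h g hg
      exact ⟨⟨g, hHN hg⟩, h (Subgroup.mem_subgroupOf.2 hg), rfl⟩
  have t2 : ∀ N : Subgroup ↥(Subgroup.normalizer (H : Set G)),
      H.relIndex (N.map (Subgroup.normalizer (H : Set G)).subtype) =
        (H.subgroupOf (Subgroup.normalizer (H : Set G))).relIndex N := by
    intro N
    have h1 := Subgroup.relIndex_map_map_of_injective
      (H.subgroupOf (Subgroup.normalizer (H : Set G))) N hinj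
    rw [← h1]
    exact congrArg (fun X : Subgroup G => X.relIndex
      (N.map (Subgroup.normalizer (H : Set G)).subtype)) hHmap.symm
  have t3 : ((P : Subgroup G) ⊓ Subgroup.centralizer (H : Set G) ≤ H) ↔
      (((P : Subgroup G) ⊓ Subgroup.normalizer (H : Set G)).subgroupOf
        (Subgroup.normalizer (H : Set G))) ⊓
        ((Subgroup.centralizer (H : Set G)).subgroupOf (Subgroup.normalizer (H : Set G))) ≤
        H.subgroupOf (Subgroup.normalizer (H : Set G)) := by
    constructor
    · rintro h x ⟨hx1, hx2⟩
      rw [Subgroup.mem_subgroupOf]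
      exact h ⟨(Subgroup.mem_subgroupOf.1 hx1).1, Subgroup.mem_subgroupOf.1 hx2⟩
    · rintro h g ⟨hg1, hg2⟩
      have hgN : g ∈ Subgroup.normalizer (H : Set G) := hCN hg2
      have := @h ⟨g, hgN⟩ ⟨Subgroup.mem_subgroupOf.2 ⟨hg1, hgN⟩, Subgroup.mem_subgroupOf.2 hg2⟩
      exact Subgroup.mem_subgroupOf.1 this
  have t4 : ((Cfsg.pPrimePCore p ↥(Subgroup.normalizer (H : Set G))).map
      (Subgroup.normalizer (H : Set G)).subtype = H ⊔ Subgroup.centralizer (H : Set G)) ↔
      Cfsg.pPrimePCore p ↥(Subgroup.normalizer (H : Set G)) =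
        H.subgroupOf (Subgroup.normalizer (H : Set G)) ⊔
          (Subgroup.centralizer (H : Set G)).subgroupOf (Subgroup.normalizer (H : Set G)) := by
    have hsup : (H.subgroupOf (Subgroup.normalizer (H : Set G)) ⊔
        (Subgroup.centralizer (H : Set G)).subgroupOf (Subgroup.normalizer (H : Set G))).map
        (Subgroup.normalizer (H : Set G)).subtype = H ⊔ Subgroup.centralizer (H : Set G) := by
      rw [Subgroup.map_sup, hHmap, hCmap]
    constructor
    · intro h
      apply Subgroup.map_injective hinj
      rw [h, hsup]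
    · intro h
      rw [h, hsup]
  rw [t1, t2, t3, t4]
  exact key

end Cfsg.Agent.S3076
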