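import Cfsg.Statements.S3080
import Cfsg.Agent.Helper48.ZJClosedB
import Cfsg.Agent.S0622

set_option autoImplicit false
open Cfsg

namespace Cfsg.Agent.S3080

/-- Let p be an odd prime, G a finite group that is p-stable in the normalizer form, P a Sylow p-subgroup such that N_G(U) is p-constrained for every nontrivial subgroup U of P, and D a subgroup of P strongly closed in P with respect to G. Then N_G(Z(J(D))) controls strong G-fusion in P (for every subset A of P and every g ∈ G with gAg⁻¹ ⊆ P, some element of that normalizer acts on A exactly as g does; J(D) is generated by the abelian subgroups of D of largest order), and so does N_G(Ω₁(Z(J_e(D)))) (J_e(D) generated by the elementary abelian subgroups of largest order). -/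
theorem result {G : Type*} [Group G] [Finite G] {p : ℕ} [Fact p.Prime] (hp : p ≠ 2) (P : Sylow p G) (D : Subgroup G) (hD : Cfsg.IsStronglyClosed D (P : Subgroup G)) (hst : Cfsg.IsNormalizerPStable p G) (hc : ∀ U : Subgroup G, U ≤ (P : Subgroup G) → U ≠ ⊥ → Cfsg.IsPConstrained p ↥(Subgroup.normalizer (U : Set G))) : (∀ A : Set G, A ⊆ (P : Subgroup G) → Cfsg.ControlsStrongFusionOf (Subgroup.normalizer ((Cfsg.centerThompsonAOf D) : Set G)) (P : Subgroup G) A) ∧ (∀ A : Set G, A ⊆ (P : Subgroup G) → Cfsg.ControlsStrongFusionOf (Subgroup.normalizer ((Cfsg.omegaOne p (Cfsg.centerThompsonOf p D)) : Set G)) (P : Subgroup G) A) := by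
  have hDp : IsPGroup p ↥D := P.2.to_le hD.1
  constructor
  · intro A hA
    rw [Cfsg.Agent.Lib.ZJ.centerThompsonAOf_eq_sInf]
    refine Cfsg.Agent.Helper48.controlsStrongFusionOf_normalizer_sInf Cfsg.Agent.Lib.ZJ.intrinsic_comm
      (fun S _ _ hS D' _ B _ h1 h2 => Cfsg.Agent.S0651.result hS hp D' B h1 h2) ?_ P D hD hst hc A hA
    intro R hR hR1
    rw [← Cfsg.Agent.Lib.ZJ.centerThompsonAOf_eq_sInf]
    exact Cfsg.Agent.Lib.ZJ.centerThompsonAOf_ne_bot hR hR1
  · intro A hA
    rw [Cfsg.Agent.Lib.ZJ.omegaOne_centerThompsonOf_eq_map,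
      Cfsg.Agent.Lib.ZJ.map_omegaCenterThompson_eq_sInf D (Cfsg.Agent.S0655.result hDp).1]
    refine Cfsg.Agent.Helper48.controlsStrongFusionOf_normalizer_sInf (Cfsg.Agent.Lib.ZJ.intrinsic_elem p)
      (fun S _ _ hS D' _ B _ h1 h2 => Cfsg.Agent.S0652.result hS hp D' B h1 h2) ?_ P D hD hst hc A hA
    intro R hR hR1
    have hRp : IsPGroup p ↥R := hR
    rw [← Cfsg.Agent.Lib.ZJ.map_omegaCenterThompson_eq_sInf R (Cfsg.Agent.S0655.result hRp).1, Ne,
      Subgroup.map_eq_bot_iff_of_injective _ R.subtype_injective]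
    have h622 := Cfsg.Agent.S0622.result hRp
    have hnt : Nontrivial ↥R := (Subgroup.nontrivial_iff_ne_bot R).2 hR1
    intro hbot
    apply h622.2.2.2.1 hnt
    rw [eq_bot_iff, ← hbot]
    exact h622.2.2.1

end Cfsg.Agent.S3080
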