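import Cfsg.Statements.S3084
import Cfsg.Agent.Helper44.CliffDefs
import Cfsg.Agent.Helper50.CliffA
import Cfsg.Agent.Helper64.CliffR1
import Cfsg.Agent.Helper64.CliffR2
import Cfsg.Agent.Helper23.CliffL5pre
import Cfsg.Agent.Helper88.CliffL2
import Cfsg.Agent.Helper30.CliffL3
import Cfsg.Agent.Helper30.CliffN1
import Cfsg.Agent.Helper48.CliffL4
import Cfsg.Agent.Helper82.CliffQ1
import Cfsg.Agent.Helper82.CliffQ2
import Cfsg.Agent.Helper87.CliffC7

set_option autoImplicit false
open Cfsg

namespace Cfsg.Agent.S3084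

open Cfsg.Agent.Helper44.Cliff in
/-- the construction in hyperbolic coordinates -/
theorem exists_extension_coords {n : ℕ} {K : Type*} [Group K] (hn : 1 ≤ n) (act : K → U0 n → U0 n)
    (h1 : ∀ u, act 1 u = u) (hmul : ∀ k k' u, act (k * k') u = act k (act k' u))
    (hadd : ∀ k u v, act k (u + v) = act k u + act k v) (hq : ∀ k u, q0 (act k u) = q0 u)
    (hfaith : ∀ k k', (∀ u, act k u = act k' u) → k = k') :
    ∃ (R : Type) (_ : Group R) (_ : Finite R) (Q : Subgroup R) (hN : Q.Normal) (e : R ⧸ Q ≃* K)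
      (χ : ↥Q →* Multiplicative (U0 n)),
      Cfsg.IsExtraspecial 2 ↥Q ∧ Nat.card ↥Q = 2 ^ (2 * n + 1) ∧ Function.Surjective χ ∧
      χ.ker = Subgroup.center ↥Q ∧
      (∀ (r : R) (a : ↥Q), χ ⟨r * a * r⁻¹, hN.conj_mem (a : R) a.2 r⟩ =
        Multiplicative.ofAdd (act (e (r : R ⧸ Q)) (Multiplicative.toAdd (χ a)))) ∧
      ∀ a : ↥Q, a * a = 1 ↔ q0 (Multiplicative.toAdd (χ a)) = 0 := by
  have hL5 : ∀ (σ : U0 n → U0 n), (∀ u v, σ (u + v) = σ u + σ v) → (∀ u, q0 (σ u) = q0 u) →
      ∃ (g : Matrix.GeneralLinearGroup (X n) (ZMod 3)) (f : U0 n → ZMod 2), ∀ u,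
        (g : Matrix (X n) (X n) (ZMod 3)) * T u *
          ((g⁻¹ : Matrix.GeneralLinearGroup (X n) (ZMod 3)) : Matrix (X n) (X n) (ZMod 3)) =
            sg (f u) • T (σ u) := by
    intro σ hσadd hσq
    exact Cfsg.Agent.Helper23.Cliff.exists_lift_of σ hσadd
      (Cfsg.Agent.Helper88.Cliff.exists_sign σ hσadd hσq)
      (fun T' h0 hm => Cfsg.Agent.Helper30.Cliff.exists_algEnd T' h0 hm)
      (fun Φ h1 hm => Cfsg.Agent.Helper48.Cliff.skolem_noether Φ h1 hm)
  exact Cfsg.Agent.Helper64.Cliff.exists_extension_coords_of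
    (Cfsg.Agent.Helper82.Cliff.Q0_extraspecial hn) (Cfsg.Agent.Helper82.Cliff.exists_chi0 n) act
    (Cfsg.Agent.Helper64.Cliff.exists_Rg_of
      (fun ε δ u v h => Cfsg.Agent.Helper87.Cliff.T_unique ε δ u v h) hL5
      (fun g ℓ h => Cfsg.Agent.Helper30.Cliff.mem_Q0_of_trivial_action g ℓ h)
      act h1 hmul hadd hq hfaith)

open Cfsg.Agent.Helper44.Cliff in
/-- Let K be a group acting faithfully and linearly on a finite-dimensional vector space U of dimension 2n ≥ 2 over the field with two elements, preserving a quadratic form q whose polar bilinear form is non-degenerate and which vanishes on some n-dimensional subspace (a non-singular form of plus type). Then there is a finite group R with a normal extraspecial 2-subgroup Q of order 2^(2n+1), an isomorphism of R/Q with K, and a surjective homomorphism χ from Q onto (the additive group of) U with kernel the centre of Q, such that χ carries conjugation by any r in R to the action of the image of r in K, and an element a of Q squares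 to the identity exactly when q vanishes at χ(a). -/
theorem result {K : Type*} [Group K] {U : Type*} [AddCommGroup U] [Module (ZMod 2) U] [Module.Finite (ZMod 2) U] (n : ℕ) (hn1 : 1 ≤ n) (hn : Module.finrank (ZMod 2) U = 2 * n) (ρ : Representation (ZMod 2) K U) (hρ : Function.Injective ρ) (q : QuadraticForm (ZMod 2) U) (hq : ∀ (k : K) (u : U), q (ρ k u) = q u) (hnd : (QuadraticMap.polarBilin q).Nondegenerate) (hplus : ∃ W : Submodule (ZMod 2) U, Module.finrank (ZMod 2) ↥W = n ∧ ∀ w ∈ W, q w = 0) : ∃ (R : Type) (_ : Group R) (_ : Finite R) (Q : Subgroup R) (hN : Q.Normal) (e : R ⧸ Q ≃* K) (χ : ↥Q →* Multiplicative U), Cfsg.IsExtraspecial 2 ↥Q ∧ Nat.card ↥Q = 2 ^ (2 * n + 1) ∧ Function.Surjective χ ∧ χ.ker = Subgroup.center ↥Q ∧ (∀ (r : R) (a : ↥Q), χ ⟨r * a * r⁻¹, hN.conj_mem (a : R) a.2 r⟩ = Multiplicative.ofAdd (ρ (e (r : R ⧸ Q)) (Multiplicative.toAdd (χ a)))) ∧ ∀ a : ↥Q, a * a = 1 ↔ q (Multiplicative.toAdd (χ a)) = 0 := by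
  obtain ⟨φ, hφ⟩ := Cfsg.Agent.Helper50.Cliff.exists_coords n hn q hnd hplus
  set act : K → U0 n → U0 n := fun k u => φ (ρ k (φ.symm u)) with hact
  have h1 : ∀ u, act 1 u = u := by
    intro u; simp [hact]
  have hmul : ∀ k k' u, act (k * k') u = act k (act k' u) := by
    intro k k' u; simp [hact]
  have hadd : ∀ k u v, act k (u + v) = act k u + act k v := by
    intro k u v; simp [hact]
  have hq0 : ∀ k u, q0 (act k u) = q0 u := by
    intro k u
    simp only [hact]
    rw [hφ, hq, ← hφ, LinearEquiv.apply_symm_apply]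
  have hfaith : ∀ k k', (∀ u, act k u = act k' u) → k = k' := by
    intro k k' h
    apply hρ
    ext u
    have := h (φ u)
    simp only [hact, LinearEquiv.symm_apply_apply] at this
    exact φ.injective this
  obtain ⟨R, iG, iF, Q, hN, e, χ, hes, hcard, hsurj, hker, hequiv, hsq⟩ :=
    exists_extension_coords hn1 act h1 hmul hadd hq0 hfaith
  let ψ : Multiplicative (U0 n) →* Multiplicative U :=
    AddMonoidHom.toMultiplicative (φ.symm : U0 n →+ U)
  have hψ : ∀ x : Multiplicative (U0 n), Multiplicative.toAdd (ψ x) = φ.symm (Multiplicative.toAdd x) :=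
    fun x => rfl
  have hψinj : Function.Injective ψ := fun x y h => φ.symm.injective h
  have hψsurj : Function.Surjective ψ := fun y => ⟨Multiplicative.ofAdd (φ (Multiplicative.toAdd y)), by
    apply Multiplicative.toAdd.injective
    rw [hψ]; simp⟩
  refine ⟨R, iG, iF, Q, hN, e, ψ.comp χ, hes, hcard, hψsurj.comp hsurj, ?_, ?_, ?_⟩
  · rw [← hker]
    ext a
    simp only [MonoidHom.mem_ker, MonoidHom.comp_apply]
    constructor
    · intro h
      apply hψinj
      rw [h, map_one]
    · intro h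
      rw [h, map_one]
  · intro r a
    rw [MonoidHom.comp_apply, hequiv r a]
    apply Multiplicative.toAdd.injective
    rw [hψ]
    simp only [toAdd_ofAdd, hact, MonoidHom.comp_apply]
    rw [LinearEquiv.symm_apply_apply, hψ]
  · intro a
    rw [hsq a, MonoidHom.comp_apply, hψ, ← hφ, LinearEquiv.apply_symm_apply]

end Cfsg.Agent.S3084
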