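-- Statement S3087: best offender condition passes to an invariant subspace.
import Cfsg.Statements.S3087
import Cfsg.Agent.Helper51.Card

set_option autoImplicit false
open Cfsg

namespace Cfsg.Agent.S3087

/-- Fixed points of a subgroup `X` on `V`, as an additive subgroup. -/
def fix {G V : Type*} [Group G] [AddCommGroup V] (p : ℕ) [Module (ZMod p) V]
    (ρ : Representation (ZMod p) G V) (X : Subgroup G) : AddSubgroup V where
  carrier := {v | ∀ x ∈ X, ρ x v = v}
  zero_mem' := by intro x _; simp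
  add_mem' := by
    intro a b ha hb x hx
    simp only [Set.mem_setOf_eq] at ha hb
    rw [map_add, ha x hx, hb x hx]
  neg_mem' := by
    intro a ha x hx
    simp only [Set.mem_setOf_eq] at ha
    rw [map_neg, ha x hx]

theorem mem_fix {G V : Type*} [Group G] [AddCommGroup V] (p : ℕ) [Module (ZMod p) V]
    (ρ : Representation (ZMod p) G V) (X : Subgroup G) (v : V) :
    v ∈ fix p ρ X ↔ ∀ x ∈ X, ρ x v = v := Iff.rfl

/-- Let p be a prime, G a finite group acting linearly on a finite vector space V over the field with p elements, W a G-invariant subspace, and A a subgroup of G with |A|·|C_V(A)| ≥ |B|·|C_V(B)| for every subgroup B of A. Then |A|·|C_W(A)| ≥ |B|·|C_W(B)| for every subgroup B of A that contains C_A(W); that is, the image of A in the group induced on W satisfies the same maximality condition. -/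
theorem result {G V : Type*} [Group G] [Finite G] [AddCommGroup V] [Finite V] (p : ℕ) [Fact p.Prime] [Module (ZMod p) V]
    (ρ : Representation (ZMod p) G V) (W : Submodule (ZMod p) V) (hW : ∀ g : G, ∀ w ∈ W, ρ g w ∈ W)
    (A : Subgroup G)
    (hP : ∀ B : Subgroup G, B ≤ A →
      Nat.card ↥B * Nat.card {v : V // ∀ b ∈ B, ρ b v = v} ≤ Nat.card ↥A * Nat.card {v : V // ∀ a ∈ A, ρ a v = v})
    (B : Subgroup G) (hBA : B ≤ A) (hCB : ∀ a ∈ A, (∀ w ∈ W, ρ a w = w) → a ∈ B) :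
    Nat.card ↥B * Nat.card {w : W // ∀ b ∈ B, ρ b w = w} ≤ Nat.card ↥A * Nat.card {w : W // ∀ a ∈ A, ρ a w = w} := by
  -- cardinalities of the fixed point sets
  have hV : ∀ X : Subgroup G, Nat.card {v : V // ∀ x ∈ X, ρ x v = v} = Nat.card (fix p ρ X) :=
    fun X => rfl
  have hWc : ∀ X : Subgroup G, Nat.card {w : W // ∀ x ∈ X, ρ x w = w} =
      Nat.card ↥(fix p ρ X ⊓ W.toAddSubgroup) := by
    intro X
    refine Nat.card_congr ⟨fun w => ⟨(w.1 : V), ?_, ?_⟩, fun v => ⟨⟨v.1, ?_⟩, ?_⟩, ?_, ?_⟩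
    · exact w.2
    · exact w.1.2
    · exact v.2.2
    · exact v.2.1
    · intro w; rfl
    · intro v; rfl
  have hP' := hP B hBA
  rw [hV, hV] at hP'
  rw [hWc, hWc]
  set CA := fix p ρ A
  set CB := fix p ρ B
  set Wa := W.toAddSubgroup
  -- C_V(A) ≤ C_V(B)
  have hAB : CA ≤ CB := fun v hv x hx => hv x (hBA hx)
  have hsup : CA ⊔ (CB ⊓ Wa) ≤ CB := sup_le hAB inf_le_left
  have hinf : CA ⊓ (CB ⊓ Wa) = CA ⊓ Wa := by
    rw [← inf_assoc, inf_eq_left.mpr hAB]
  have hcard := Cfsg.Agent.Helper51.addCard_sup_mul_card_inf CA (CB ⊓ Wa)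
  rw [hinf] at hcard
  have hle : Nat.card ↥(CA ⊔ (CB ⊓ Wa)) ≤ Nat.card CB :=
    Nat.card_le_card_of_injective (AddSubgroup.inclusion hsup) (AddSubgroup.inclusion_injective hsup)
  have hpos : 0 < Nat.card CA := Nat.card_pos
  -- |B| |C_W(B)| |C_V(A)| ≤ |B| |C_V(B)| |C_W(A)| ≤ |A| |C_V(A)| |C_W(A)|
  have key : Nat.card B * Nat.card ↥(CB ⊓ Wa) * Nat.card CA ≤
      Nat.card A * Nat.card ↥(CA ⊓ Wa) * Nat.card CA := by
    calc Nat.card B * Nat.card ↥(CB ⊓ Wa) * Nat.card CA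
        = Nat.card B * (Nat.card CA * Nat.card ↥(CB ⊓ Wa)) := by ring
      _ = Nat.card B * (Nat.card ↥(CA ⊔ (CB ⊓ Wa)) * Nat.card ↥(CA ⊓ Wa)) := by rw [hcard]
      _ ≤ Nat.card B * (Nat.card CB * Nat.card ↥(CA ⊓ Wa)) := by gcongr
      _ = (Nat.card B * Nat.card CB) * Nat.card ↥(CA ⊓ Wa) := by ring
      _ ≤ (Nat.card A * Nat.card CA) * Nat.card ↥(CA ⊓ Wa) := by gcongr
      _ = Nat.card A * Nat.card ↥(CA ⊓ Wa) * Nat.card CA := by ring
  exact Nat.le_of_mul_le_mul_right key hpos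

end Cfsg.Agent.S3087
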