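import Cfsg.Statements.S3117
import Cfsg.Agent.Helper52.ThreeInvD

set_option autoImplicit false
open Cfsg

namespace Cfsg.Agent.S3117

open Cfsg.Agent.Helper52 in
theorem aux.{u} : ∀ (n : ℕ) (X : Type u) [Group X] [Finite X], Nat.card X = n → IsPGroup 2 X →
    Nat.card {x : X // orderOf x = 2} = 3 → Group.IsSolvable (MulAut X) := by
  intro n
  induction n using Nat.strong_induction_on with
  | _ n ih =>
    intro X _ _ hn h2 h3
    by_contra hns
    obtain ⟨P, hPne, hPperf⟩ := PerfectCore.exists_perfect_of_not_solvable hns
    have hperf := PerfectCore.commutator_eq_top_of_perfect P hPperf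
    have c : ThreeInv.Ctx X P :=
      { pgroup := h2
        three := h3
        perfect := hperf
        ne_bot := hPne
        fix := by
          intro Y hinv hT3 hne
          have hlt : Nat.card Y < n := by
            rw [← hn]
            exact lt_of_le_of_ne (Subgroup.card_le_card_group Y)
              (fun h => hne ((Subgroup.card_eq_iff_eq_top Y).mp h))
          have hsol := ih (Nat.card Y) hlt Y rfl (h2.to_subgroup Y)
            (by rw [ThreeInv.card_involutions_subgroup Y hT3]; exact h3)
          exact ThreeInv.fix_of_solvable hperf Y hinv hsol }
    exact c.false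

/-- If X is a finite 2-group containing exactly three involutions, then the automorphism group of X is solvable. -/
theorem result {X : Type*} [Group X] [Finite X] (h2 : IsPGroup 2 X) (h3 : Nat.card {x : X // orderOf x = 2} = 3) : Group.IsSolvable (MulAut X) := by
  exact aux (Nat.card X) X rfl h2 h3

end Cfsg.Agent.S3117
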