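import Mathlib
import Cfsg.Agent.S1991
import Cfsg.Agent.S0144
import Cfsg.Statements.S3125
-- import your own Cfsg.Agent.* helpers here

set_option autoImplicit false
open Cfsg

namespace Cfsg.Agent.S3125

/-- A simple solvable group is commutative. -/
theorem comm_of_simple_solvable_h95 {G : Type*} [Group G] [IsSimpleGroup G] [Group.IsSolvable G] :
    IsMulCommutative G := by
  have h := IsSimpleGroup.comm_iff_isSolvable (G := G)
  have hc : ∀ a b : G, a * b = b * a := h.mpr inferInstance
  exact ⟨⟨hc⟩⟩

/-- Let G be a finite group such that, for every prime p dividing the order of G, every Sylow p-subgroup of G is its own normalizer. Then G is not a non-abelian simple group. -/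
theorem result {G : Type*} [Group G] [Finite G]
    (h : ∀ p : ℕ, p.Prime → p ∣ Nat.card G → ∀ P : Sylow p G, Subgroup.normalizer ((P : Subgroup G) : Set G) = P) :
    ¬ (IsSimpleGroup G ∧ ¬ IsMulCommutative G) := by
  rintro ⟨hsimp, hnc⟩
  by_cases hbig : ∃ p : ℕ, p.Prime ∧ p ∣ Nat.card G ∧ 5 ≤ p
  · obtain ⟨p, hpp, hpd, hp5⟩ := hbig
    haveI : Fact p.Prime := ⟨hpp⟩
    obtain ⟨P⟩ : Nonempty (Sylow p G) := inferInstance
    have hP : (P : Subgroup G) ≠ ⊥ := by
      intro hbot
      have hc : Nat.card (P : Subgroup G) = 1 := by rw [hbot]; exact Subgroup.card_bot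
      have hnd := P.not_dvd_index
      -- p ∣ card G = card P * index P = index P
      have hmul : Nat.card (P : Subgroup G) * (P : Subgroup G).index = Nat.card G :=
        Subgroup.card_mul_index _
      rw [hc, one_mul] at hmul
      rw [hmul] at hnd
      exact hnd hpd
    have hNP := h p hpp hpd P
    have hN : ∀ g ∈ Subgroup.normalizer ((P : Subgroup G) : Set G), (orderOf g).Coprime p →
        g ∈ Subgroup.centralizer ((P : Subgroup G) : Set G) := by
      intro g hg hcop
      rw [hNP] at hg
      -- g ∈ P, so orderOf g is a power of p, coprime to p → g = 1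
      obtain ⟨k, hk⟩ := (P.2 ⟨g, hg⟩)
      have hk' : g ^ p ^ k = 1 := by
        have := congrArg Subtype.val hk
        simpa using this
      have hdvd : orderOf g ∣ p ^ k := orderOf_dvd_of_pow_eq_one hk'
      have hcop' : (orderOf g).Coprime (p ^ k) := Nat.Coprime.pow_right k hcop
      have h1 : orderOf g = 1 := Nat.Coprime.eq_one_of_dvd hcop' hdvd
      rw [orderOf_eq_one_iff] at h1
      rw [h1]
      exact Subgroup.one_mem _
    obtain ⟨N, hNn, hNi⟩ := Cfsg.Agent.S1991.result (p := p) hp5 P hP hN
    rcases hNn.eq_bot_or_eq_top with hb | ht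
    · -- N = ⊥, so card G = p, G cyclic hence commutative
      rw [hb, Subgroup.index_bot] at hNi
      haveI : IsCyclic G := isCyclic_of_prime_card hNi
      exact hnc ⟨⟨fun a b => IsCyclic.commGroup.mul_comm a b⟩⟩
    · rw [ht, Subgroup.index_top] at hNi
      exact hpp.one_lt.ne hNi
  · push Not at hbig
    -- all prime divisors are 2 or 3
    have hcard : Nat.card G = 2 ^ (Nat.card G).factorization 2 * 3 ^ (Nat.card G).factorization 3 := by
      have hne : Nat.card G ≠ 0 := Nat.card_pos.ne'
      apply Nat.eq_of_factorization_eq hne (by positivity)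
      intro q
      rw [Nat.factorization_mul (by positivity) (by positivity),
        Nat.Prime.factorization_pow Nat.prime_two, Nat.Prime.factorization_pow Nat.prime_three]
      by_cases hq2 : q = 2
      · subst hq2; simp
      by_cases hq3 : q = 3
      · subst hq3; simp
      have : (Nat.card G).factorization q = 0 := by
        by_cases hqp : q.Prime
        · by_cases hqd : q ∣ Nat.card G
          · have := hbig q hqp hqd
            have h2 := hqp.two_le
            interval_cases q
            · exact absurd rfl hq2
            · exact absurd rfl hq3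
            · exact absurd hqp (by decide)
          · exact Nat.factorization_eq_zero_of_not_dvd hqd
        · exact Nat.factorization_eq_zero_of_not_prime _ hqp
      rw [this]
      simp [Finsupp.single_apply, Ne.symm hq2, Ne.symm hq3]
    haveI : Group.IsSolvable G := Cfsg.Agent.S0144.result 2 3 _ _ Nat.prime_two Nat.prime_three hcard
    exact hnc comm_of_simple_solvable_h95
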