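import Mathlib
import Cfsg.Statements.S3155

set_option autoImplicit false
open Cfsg

namespace Cfsg.Agent.S3155

/-- no endomorphism of `(ℤ/4)³` squares to `-1` -/
lemma no_sqrt_neg_one (L : (ZMod 4 × ZMod 4 × ZMod 4) →ₗ[ZMod 4] (ZMod 4 × ZMod 4 × ZMod 4))
    (h : ∀ m, L (L m) = -m) : False := by
  have hcomp : L.comp L = (-1 : ZMod 4) • LinearMap.id := by
    apply LinearMap.ext
    intro m
    simp [h]
  have hdet := congrArg LinearMap.det hcomp
  rw [LinearMap.det_comp, LinearMap.det_smul, LinearMap.det_id] at hdet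
  have hfact : Fact (1 < 4) := ⟨by norm_num⟩
  have hrank : Module.finrank (ZMod 4) (ZMod 4 × ZMod 4 × ZMod 4) = 3 := by
    rw [Module.finrank_prod, Module.finrank_prod, Module.finrank_self]
  rw [hrank] at hdet
  have key : ∀ x : ZMod 4, x * x ≠ (-1) ^ 3 * 1 := by decide
  exact key _ hdet

/-- Let B be the direct product of three cyclic groups of order 4. Then the automorphism of B inverting every element is not the square of any automorphism of B. -/
theorem result {B : Type*} [CommGroup B] [Finite B] (hB : Nonempty (B ≃* Multiplicative (ZMod 4 × ZMod 4 × ZMod 4)))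
    (τ : B ≃* B) : τ.trans τ ≠ MulEquiv.inv B := by
  intro hτ
  obtain ⟨e⟩ := hB
  have h1 : ∀ b : B, τ (τ b) = b⁻¹ := by
    intro b
    have := congrArg (fun φ : B ≃* B => φ b) hτ
    simpa using this
  let f : Multiplicative (ZMod 4 × ZMod 4 × ZMod 4) →* Multiplicative (ZMod 4 × ZMod 4 × ZMod 4) :=
    (e.toMonoidHom.comp τ.toMonoidHom).comp e.symm.toMonoidHom
  have hf : ∀ x, f (f x) = x⁻¹ := by
    intro x
    simp only [f, MonoidHom.comp_apply, MulEquiv.coe_toMonoidHom, MulEquiv.symm_apply_apply]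
    rw [h1, map_inv, MulEquiv.apply_symm_apply]
  let g : (ZMod 4 × ZMod 4 × ZMod 4) →+ (ZMod 4 × ZMod 4 × ZMod 4) := AddMonoidHom.toMultiplicative.symm f
  have hg : ∀ m, g (g m) = -m := by
    intro m
    have := hf (Multiplicative.ofAdd m)
    exact congrArg Multiplicative.toAdd this
  exact no_sqrt_neg_one (g.toZModLinearMap 4) (by
    intro m
    simp only [AddMonoidHom.coe_toZModLinearMap]
    exact hg m)

end Cfsg.Agent.S3155
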