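import Cfsg.Statements.S3156
import Cfsg.Agent.Helper19.SU3.Sylow
import Cfsg.Agent.Helper19.SU3.Aut3

set_option autoImplicit false
open Cfsg

namespace Cfsg.Agent.S3156

/-- If a finite group T is isomorphic to a Sylow 2-subgroup of the projective special unitary group of dimension 3 with parameter 4 (realised over the field with 16 elements), then no subgroup of the automorphism group of T is isomorphic to the symmetric group of degree 3. -/
theorem result {T : Type*} [Group T] [Finite T] (hT : (∃ (F : Type) (_ : Field F) (_ : Fintype F), Fintype.card F = 16 ∧ ∃ S : Sylow 2 (Cfsg.PSU 3 F 4), Nonempty (T ≃* ↥(S : Subgroup (Cfsg.PSU 3 F 4))))) (H : Subgroup (MulAut T)) : ¬ Nonempty (↥H ≃* Equiv.Perm (Fin 3)) := by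
  classical
  obtain ⟨F, _, _, hF, S, ⟨e₀⟩⟩ := hT
  have hF' : Fintype.card F = (2 ^ 2) ^ 2 := by rw [hF]; norm_num
  obtain ⟨bar, hbar⟩ := Cfsg.Agent.Helper45.GU.exists_bar hF'
  have : Cfsg.Agent.Helper19.SU3.BarField F bar :=
    Cfsg.Agent.Helper19.SU3.barField bar hF' (by decide) hbar
  have hbar4 : ∀ x, bar x = x ^ 4 := fun x => by rw [hbar]; norm_num
  have hTr := Cfsg.Agent.Helper19.SU3.hTr bar hF' (by norm_num) hbar
  have hω := Cfsg.Agent.Helper19.SU3.hω bar hF' (by norm_num) hbar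
  obtain ⟨e₁⟩ := Cfsg.Agent.Helper19.SU3.exists_equiv_sylow_PSU (n := 2) (by norm_num) hF' bar hbar S
  let e : T ≃* Cfsg.Agent.Helper19.SU3.Heis bar := e₀.trans e₁.symm
  rintro ⟨f⟩
  let s₁ : Equiv.Perm (Fin 3) := Equiv.swap 0 1
  let s₂ : Equiv.Perm (Fin 3) := Equiv.swap 1 2
  have hs1 : s₁ * s₁ = 1 := by decide
  have hs2 : s₂ * s₂ = 1 := by decide
  have hs3 : s₁ * s₂ * (s₁ * s₂ * (s₁ * s₂)) = 1 := by decide
  have hs4 : s₁ * s₂ ≠ 1 := by decide
  let t₁ : MulAut T := (f.symm s₁ : ↥H)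
  let t₂ : MulAut T := (f.symm s₂ : ↥H)
  have ht1 : t₁ * t₁ = 1 := by
    have : f.symm s₁ * f.symm s₁ = 1 := by rw [← map_mul, hs1, map_one]
    exact congrArg Subtype.val this
  have ht2 : t₂ * t₂ = 1 := by
    have : f.symm s₂ * f.symm s₂ = 1 := by rw [← map_mul, hs2, map_one]
    exact congrArg Subtype.val this
  have ht3 : t₁ * t₂ * (t₁ * t₂ * (t₁ * t₂)) = 1 := by
    have : f.symm s₁ * f.symm s₂ * (f.symm s₁ * f.symm s₂ * (f.symm s₁ * f.symm s₂)) = 1 := by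
      simp only [← map_mul]
      rw [hs3, map_one]
    exact congrArg Subtype.val this
  have ht4 : t₁ * t₂ ≠ 1 := by
    intro h
    apply hs4
    have h' : f.symm s₁ * f.symm s₂ = 1 := Subtype.ext h
    rw [← map_mul] at h'
    exact f.symm.injective (h'.trans (map_one f.symm).symm)
  let ψ₁ : Cfsg.Agent.Helper19.SU3.Heis bar ≃* Cfsg.Agent.Helper19.SU3.Heis bar :=
    (e.symm.trans t₁).trans e
  let ψ₂ : Cfsg.Agent.Helper19.SU3.Heis bar ≃* Cfsg.Agent.Helper19.SU3.Heis bar :=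
    (e.symm.trans t₂).trans e
  have hψ1 : ∀ x, ψ₁ x = e (t₁ (e.symm x)) := fun x => rfl
  have hψ2 : ∀ x, ψ₂ x = e (t₂ (e.symm x)) := fun x => rfl
  have h1 : ∀ x, ψ₁ (ψ₁ x) = x := by
    intro x
    rw [hψ1, hψ1, MulEquiv.symm_apply_apply, ← MulAut.mul_apply, ht1, MulAut.one_apply,
      MulEquiv.apply_symm_apply]
  have h2 : ∀ x, ψ₂ (ψ₂ x) = x := by
    intro x
    rw [hψ2, hψ2, MulEquiv.symm_apply_apply, ← MulAut.mul_apply, ht2, MulAut.one_apply,
      MulEquiv.apply_symm_apply]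
  have h3 : ∀ x, ψ₁ (ψ₂ (ψ₁ (ψ₂ (ψ₁ (ψ₂ x))))) = x := by
    intro x
    simp only [hψ1, hψ2, MulEquiv.symm_apply_apply]
    have := congrArg (fun g : MulAut T => g (e.symm x)) ht3
    simp only [MulAut.mul_apply, MulAut.one_apply] at this
    rw [this, MulEquiv.apply_symm_apply]
  have h4 := Cfsg.Agent.Helper19.SU3.Heis.no_S3 hF hbar4 hω hTr ψ₁ ψ₂ h1 h2 h3
  apply ht4
  ext y
  have := h4 (e y)
  rw [hψ1, hψ2, MulEquiv.symm_apply_apply, MulEquiv.symm_apply_apply] at this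
  exact e.injective this

end Cfsg.Agent.S3156
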