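import Cfsg.Statements.S3157
import Cfsg.Agent.Helper65.Ord64E
import Cfsg.Agent.Helper65.Ord8

set_option autoImplicit false
open Cfsg

namespace Cfsg.Agent.S3157

open Cfsg.Agent.Helper65.Ord64 Cfsg.Agent.Helper65.Suz Cfsg.Agent.Helper27
  Cfsg.Agent.Helper14.AutPSL

/-- Let T be a non-abelian group of order 64 admitting automorphisms ρ of order 3 and x of order 2 with x ρ x⁻¹ = ρ⁻¹ (so they generate a symmetric group of degree 3), where ρ fixes only the identity. Then T is isomorphic to a Sylow 2-subgroup of the projective special linear group of dimension 3 over the field with 4 elements, and the subgroup of fixed points of x is dihedral of order 8 or quaternion of order 8. -/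
theorem result {T : Type*} [Group T] [Finite T] (hT : Nat.card T = 64) (hna : ¬ IsMulCommutative T) (ρ x : MulAut T) (hρ : orderOf ρ = 3) (hx : orderOf x = 2)
    (hxr : x * ρ * x⁻¹ = ρ⁻¹) (hfp : ∀ y : T, ρ y = y → y = 1) (C : Subgroup T) (hC : ∀ y : T, y ∈ C ↔ x y = y) :
    (∃ (F : Type) (_ : Field F) (_ : Fintype F), Fintype.card F = 4 ∧
        ∃ S : Sylow 2 (Matrix.ProjectiveSpecialLinearGroup (Fin 3) F), Nonempty (T ≃* ↥(S : Subgroup (Matrix.ProjectiveSpecialLinearGroup (Fin 3) F)))) ∧
      (Nonempty (↥C ≃* DihedralGroup 4) ∨ Nonempty (↥C ≃* QuaternionGroup 2)) := by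
  have hρ3 : ρ * ρ * ρ = 1 := by
    have h1 : ρ ^ 3 = 1 := by rw [← hρ]; exact pow_orderOf_eq_one ρ
    rw [← h1, pow_succ, pow_succ, pow_one]
  have h : Fpf3 ρ := by
    refine ⟨?_, hfp⟩
    intro g
    have := congrArg (fun k : MulAut T => k g) hρ3
    simpa [MulAut.mul_apply] using this
  have hx2' : x * x = 1 := by
    have h1 : x ^ 2 = 1 := by rw [← hx]; exact pow_orderOf_eq_one x
    rw [← h1, pow_succ, pow_one]
  have hX : XData ρ x C := by
    refine ⟨?_, ?_, hC⟩
    · intro g
      have := congrArg (fun k : MulAut T => k g) hx2'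
      simpa [MulAut.mul_apply] using this
    · intro g
      have h2 : ρ * ρ = ρ⁻¹ := eq_inv_of_mul_eq_one_left hρ3
      have h1 : x * ρ = ρ * ρ * x := by
        calc x * ρ = (x * ρ * x⁻¹) * x := by group
          _ = ρ⁻¹ * x := by rw [hxr]
          _ = ρ * ρ * x := by rw [h2]
      have := congrArg (fun k : MulAut T => k g) h1
      simpa [MulAut.mul_apply] using this
  have hna' : ¬ ∀ a b : T, a * b = b * a := by
    intro hc
    apply hna
    exact ⟨⟨hc⟩⟩
  have hC2 := cl2_of_card h hT hna'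
  have hZ := card_center h hT hna'
  constructor
  · obtain ⟨a, b, ha, hb, hab⟩ := hX.exists_involutions h hC2 hT hZ
    obtain ⟨e1⟩ := core_equiv h hC2 hT ha hb hab
    obtain ⟨e2⟩ := ut_equiv_sylow
    exact ⟨GF4, inferInstance, inferInstance, GF4.card_eq,
      sylUT (p := 2) (f := 2) gf4_card' (by norm_num) 3 (by norm_num), ⟨e1.trans e2⟩⟩
  · have hcard := hX.card_eq h hC2 hT hZ
    obtain ⟨c1, hc1, c2, hc2, hne⟩ := hX.exists_noncomm h hC2 hT hZ
    apply nonabelian_card_eight hcard
    intro hcomm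
    apply hne
    rw [cm_eq_one_iff]
    exact congrArg Subtype.val (hcomm ⟨c1, hc1⟩ ⟨c2, hc2⟩)

end Cfsg.Agent.S3157
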