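import Mathlib
import Cfsg.Statements.S3158
import Cfsg.Agent.Helper53.PGroup

set_option autoImplicit false
open Cfsg

namespace Cfsg.Agent.S3158

open Cfsg.Agent.Helper53

variable {U : Type*} [Group U]

/-- the commutator, in the convention of the statement -/
def cm (a b : U) : U := a * b * a⁻¹ * b⁻¹

lemma t_add (y : MulAut U) (i j : ℕ) (u : U) : (y ^ (i + j)) u = (y ^ i) ((y ^ j) u) := by
  rw [pow_add, MulAut.mul_apply]

lemma t_comm (y : MulAut U) (i j : ℕ) (u : U) : (y ^ i) ((y ^ j) u) = (y ^ j) ((y ^ i) u) := by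
  rw [← t_add, ← t_add, add_comm]

lemma t_one (y : MulAut U) {p : ℕ} (h : y ^ p = 1) (u : U) : (y ^ p) u = u := by
  rw [h, MulAut.one_apply]

lemma cm_map (θ : MulAut U) (a b : U) : θ (cm a b) = cm (θ a) (θ b) := by
  simp [cm, map_mul, map_inv]

/-- the working context: `V` central of exponent two containing all commutators, `y` acting regularly
on the nonidentity elements of `V` through the base point `z`, compatibly with the action on `U ⧸ V`
through the base point `u₀` -/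
structure Ctx (V : Subgroup U) (y : MulAut U) (m : ℕ) (z u₀ : U) : Prop where
  hm : y ^ m = 1
  hmpos : 1 ≤ m
  hz : z ∈ V
  hcent : ∀ v ∈ V, ∀ u : U, v * u = u * v
  hexp : ∀ v ∈ V, v * v = 1
  hyV : ∀ k : ℕ, ∀ v ∈ V, (y ^ k) v ∈ V
  hreg : ∀ v ∈ V, v = 1 ∨ ∃ i : ℕ, (y ^ i) z = v
  hfree : ∀ k : ℕ, y ^ k ≠ 1 → (y ^ k) z ≠ z
  htrans : ∀ i j k : ℕ, (y ^ i) z * (y ^ j) z = (y ^ k) z →
    ∃ v ∈ V, (y ^ i) u₀ * (y ^ j) u₀ = (y ^ k) u₀ * v
  hcomm : ∀ a b : U, cm a b ∈ V

namespace Ctx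

variable {V : Subgroup U} {y : MulAut U} {m : ℕ} {z u₀ : U}

lemma inv_eq (c : Ctx V y m z u₀) {v : U} (hv : v ∈ V) : v⁻¹ = v := by
  rw [inv_eq_iff_mul_eq_one]; exact c.hexp v hv

lemma cm_mul (c : Ctx V y m z u₀) (a b b' : U) : cm a (b * b') = cm a b * cm a b' := by
  have h := c.hcent _ (c.hcomm a b') (b⁻¹)
  -- cm a b' commutes with b⁻¹
  unfold cm at h ⊢
  calc a * (b * b') * a⁻¹ * (b * b')⁻¹ = a * b * a⁻¹ * ((a * b' * a⁻¹ * b'⁻¹) * b⁻¹) := by group
    _ = a * b * a⁻¹ * (b⁻¹ * (a * b' * a⁻¹ * b'⁻¹)) := by rw [h]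
    _ = a * b * a⁻¹ * b⁻¹ * (a * b' * a⁻¹ * b'⁻¹) := by group

lemma cm_mul_central (c : Ctx V y m z u₀) (a b v : U) (hv : v ∈ V) : cm a (b * v) = cm a b := by
  have h := c.hcent v hv a⁻¹
  unfold cm
  calc a * (b * v) * a⁻¹ * (b * v)⁻¹ = a * b * (v * a⁻¹) * v⁻¹ * b⁻¹ := by group
    _ = a * b * (a⁻¹ * v) * v⁻¹ * b⁻¹ := by rw [h]
    _ = a * b * a⁻¹ * b⁻¹ := by group

lemma cm_self (a : U) : cm a a = 1 := by
  unfold cm; group

lemma cm_symm (c : Ctx V y m z u₀) (a b : U) : cm b a = cm a b := by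
  have h : cm b a = (cm a b)⁻¹ := by unfold cm; group
  rw [h, c.inv_eq (c.hcomm a b)]

/-- additivity of `F` -/
lemma F_add (c : Ctx V y m z u₀) (i j k : ℕ) (h : (y ^ i) z * (y ^ j) z = (y ^ k) z) :
    cm u₀ ((y ^ i) u₀) * cm u₀ ((y ^ j) u₀) = cm u₀ ((y ^ k) u₀) := by
  obtain ⟨v, hv, hv'⟩ := c.htrans i j k h
  rw [← c.cm_mul, hv', c.cm_mul_central _ _ _ hv]

/-- the symmetry relation -/
lemma F_inv (c : Ctx V y m z u₀) (p p' : ℕ) (h : y ^ (p' + p) = 1) :
    cm u₀ ((y ^ p') u₀) = (y ^ p') (cm u₀ ((y ^ p) u₀)) := by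
  rw [cm_map, ← t_add, t_one y h, c.cm_symm]

lemma abelian (c : Ctx V y m z u₀) {v w : U} (hv : v ∈ V) (_hw : w ∈ V) : v * w = w * v :=
  c.hcent v hv w

/-- the key computation: `F (2 i) = 1` whenever `y ^ i ≠ 1` -/
lemma F_two_mul (c : Ctx V y m z u₀) (i : ℕ) (hi : y ^ i ≠ 1) :
    cm u₀ ((y ^ (2 * i)) u₀) = 1 := by
  have hzz : z * z = 1 := c.hexp z c.hz
  have htiz : (y ^ i) z ∈ V := c.hyV i z c.hz
  have hne : (y ^ i) z * z ≠ 1 := by
    intro h
    apply c.hfree i hi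
    have : (y ^ i) z = z⁻¹ := eq_inv_of_mul_eq_one_left h
    rw [this, c.inv_eq c.hz]
  obtain ⟨k, hk⟩ : ∃ k : ℕ, (y ^ k) z = (y ^ i) z * z := by
    rcases c.hreg _ (V.mul_mem htiz c.hz) with h | h
    · exact absurd h hne
    · exact h
  have hm1 : (m - 1) + 1 = m := Nat.sub_add_cancel c.hmpos
  set i' := i * (m - 1) with hi'
  set k' := k * (m - 1) with hk'
  have hii' : y ^ (i' + i) = 1 := by
    have : i' + i = m * i := by rw [hi']; nlinarith [hm1]
    rw [this, pow_mul, c.hm, one_pow]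
  have hkk' : y ^ (k' + k) = 1 := by
    have : k' + k = m * k := by rw [hk']; nlinarith [hm1]
    rw [this, pow_mul, c.hm, one_pow]
  have hik : y ^ ((i' + k') + (i + k)) = 1 := by
    have : (i' + k') + (i + k) = (i' + i) + (k' + k) := by ring
    rw [this, pow_add, hii', hkk', one_mul]
  -- mini-lemma: t k v = t i v * v on V
  have hmini : ∀ v ∈ V, (y ^ k) v = (y ^ i) v * v := by
    intro v hv
    rcases c.hreg v hv with h | ⟨r, hr⟩
    · rw [h]; simp
    · rw [← hr, t_comm y k r, hk, map_mul, t_comm y r i]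
  -- E1
  have E1 : (y ^ i') z * (y ^ k') z = (y ^ (i' + k')) z := by
    have h1 : (y ^ k) z * (y ^ i) z = z := by
      rw [hk, c.abelian (V.mul_mem htiz c.hz) htiz, ← mul_assoc, c.hexp _ htiz, one_mul]
    have h2 : (y ^ (i' + k')) ((y ^ k) z * (y ^ i) z) = (y ^ i') z * (y ^ k') z := by
      rw [map_mul, ← t_add, ← t_add]
      have e1 : y ^ (i' + k' + k) = y ^ i' := by
        rw [add_assoc, pow_add, hkk', mul_one]
      have e2 : y ^ (i' + k' + i) = y ^ k' := by
        have : i' + k' + i = k' + (i' + i) := by ring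
        rw [this, pow_add, hii', mul_one]
      rw [e1, e2]
    rw [← h2, h1]
  -- E2
  have E2 : (y ^ i) z * (y ^ 0) z = (y ^ k) z := by
    rw [hk, pow_zero, MulAut.one_apply]
  -- E3
  have E3 : (y ^ (2 * i)) z * (y ^ i) z = (y ^ (i + k)) z := by
    rw [t_add y i k, hk, map_mul, ← t_add, two_mul]
  have A1 := c.F_add _ _ _ E1
  have A2 := c.F_add _ _ _ E2
  have A3 := c.F_add _ _ _ E3
  have hF0 : cm u₀ ((y ^ 0) u₀) = 1 := by
    rw [pow_zero, MulAut.one_apply, cm_self]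
  rw [hF0, mul_one] at A2
  -- symmetry relations
  have S1 := c.F_inv i i' hii'
  have S2 := c.F_inv k k' hkk'
  have S3 := c.F_inv (i + k) (i' + k') hik
  rw [S1, S2, S3] at A1
  -- apply t (i + k)
  have A1' := congrArg (fun x => (y ^ (i + k)) x) A1
  simp only [map_mul] at A1'
  have e1 : (y ^ (i + k)) ((y ^ i') (cm u₀ ((y ^ i) u₀))) = (y ^ k) (cm u₀ ((y ^ i) u₀)) := by
    rw [← t_add]
    have : i + k + i' = k + (i' + i) := by ring
    rw [this, pow_add, hii', mul_one]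
  have e2 : (y ^ (i + k)) ((y ^ k') (cm u₀ ((y ^ k) u₀))) = (y ^ i) (cm u₀ ((y ^ k) u₀)) := by
    rw [← t_add]
    have : i + k + k' = i + (k' + k) := by ring
    rw [this, pow_add, hkk', mul_one]
  have e3 : (y ^ (i + k)) ((y ^ (i' + k')) (cm u₀ ((y ^ (i + k)) u₀))) = cm u₀ ((y ^ (i + k)) u₀) := by
    rw [← t_add]
    have : i + k + (i' + k') = (i' + k') + (i + k) := by ring
    rw [this, hik, MulAut.one_apply]
  rw [e1, e2, e3, ← A2, ← A3] at A1'
  -- t k (F i) * t i (F i) = F (2i) * F i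
  have hFi : cm u₀ ((y ^ i) u₀) ∈ V := c.hcomm _ _
  have htFi : (y ^ i) (cm u₀ ((y ^ i) u₀)) ∈ V := c.hyV i _ hFi
  rw [hmini _ hFi] at A1'
  -- (t i Fi * Fi) * t i Fi = Fi
  have hL : (y ^ i) (cm u₀ ((y ^ i) u₀)) * cm u₀ ((y ^ i) u₀) * (y ^ i) (cm u₀ ((y ^ i) u₀)) =
      cm u₀ ((y ^ i) u₀) := by
    rw [c.abelian htFi hFi, mul_assoc, c.hexp _ htFi, mul_one]
  rw [hL] at A1'
  -- Fi = F(2i) * Fi
  have := mul_right_cancel (a := (1 : U)) (b := cm u₀ ((y ^ i) u₀)) (c := cm u₀ ((y ^ (2 * i)) u₀))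
    (by rw [one_mul]; exact A1')
  exact this.symm

/-- `F` vanishes identically when `m` is odd -/
lemma F_eq_one (c : Ctx V y m z u₀) (hodd : Odd m) (j : ℕ) : cm u₀ ((y ^ j) u₀) = 1 := by
  by_cases hj : y ^ j = 1
  · rw [hj, MulAut.one_apply, cm_self]
  · obtain ⟨h, hh⟩ := hodd
    -- m + 1 = 2 (h + 1)
    set r := j * (h + 1) with hr
    have h2r : y ^ (2 * r) = y ^ j := by
      have : 2 * r = j + m * j := by rw [hr, hh]; ring
      rw [this, pow_add, pow_mul, c.hm, one_pow, mul_one]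
    have hr1 : y ^ r ≠ 1 := by
      intro h1
      apply hj
      rw [← h2r, mul_comm, pow_mul, h1, one_pow]
    have := c.F_two_mul r hr1
    rw [h2r] at this
    exact this

/-- all the `y`-translates of `u₀` commute -/
lemma comm_translates (c : Ctx V y m z u₀) (hodd : Odd m) (i j : ℕ) :
    (y ^ i) u₀ * (y ^ j) u₀ = (y ^ j) u₀ * (y ^ i) u₀ := by
  have hm1 : (m - 1) + 1 = m := Nat.sub_add_cancel c.hmpos
  set i' := i * (m - 1) with hi'
  have hii' : y ^ (i + i') = 1 := by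
    have : i + i' = m * i := by rw [hi']; nlinarith [hm1]
    rw [this, pow_mul, c.hm, one_pow]
  have h1 : (y ^ j) u₀ = (y ^ i) ((y ^ (i' + j)) u₀) := by
    rw [← t_add, ← add_assoc, pow_add, hii', one_mul]
  have h2 : cm ((y ^ i) u₀) ((y ^ j) u₀) = 1 := by
    rw [h1, ← cm_map, c.F_eq_one hodd, map_one]
  unfold cm at h2
  calc (y ^ i) u₀ * (y ^ j) u₀ = ((y ^ i) u₀ * (y ^ j) u₀ * ((y ^ i) u₀)⁻¹ * ((y ^ j) u₀)⁻¹) * (y ^ j) u₀ * (y ^ i) u₀ := by group
    _ = (y ^ j) u₀ * (y ^ i) u₀ := by rw [h2, one_mul]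

end Ctx

/-- Let U be a group of order q² with q = 2^n ≥ 2, and y an automorphism of U of order q − 1 all of whose nontrivial powers fix only the identity. Let V be a proper normal y-invariant subgroup of U such that V and U/V are elementary abelian 2-groups and there is an isomorphism from V to U/V commuting with the actions of y. Then U is abelian. -/
theorem result {U : Type*} [Group U] [Finite U] (n : ℕ) (hn : 1 ≤ n) (hU : Nat.card U = (2 ^ n) ^ 2)
    (y : MulAut U) (hy : orderOf y = 2 ^ n - 1) (hfp : ∀ k : ℕ, y ^ k ≠ 1 → ∀ u : U, (y ^ k) u = u → u = 1)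
    (V : Subgroup U) [V.Normal] (hV : V ≠ ⊤) (hyV : ∀ v ∈ V, y v ∈ V)
    (hVe : ∀ v ∈ V, v ^ 2 = 1) (hQe : ∀ u : U, u ^ 2 ∈ V) (hQc : ∀ u w : U, u * w * u⁻¹ * w⁻¹ ∈ V)
    (φ : ↥V ≃* U ⧸ V) (hφ : ∀ (v : ↥V) (u : U), (QuotientGroup.mk u : U ⧸ V) = φ v → φ ⟨y v, hyV v v.2⟩ = QuotientGroup.mk (y u)) :
    IsMulCommutative U := by
  classical
  have : Fact (Nat.Prime 2) := ⟨Nat.prime_two⟩
  obtain ⟨m, hm⟩ : ∃ m, m = 2 ^ n - 1 := ⟨_, rfl⟩
  have hq2 : 2 ≤ 2 ^ n := by
    calc 2 = 2 ^ 1 := by norm_num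
      _ ≤ 2 ^ n := Nat.pow_le_pow_right (by norm_num) hn
  have hm1 : m + 1 = 2 ^ n := by omega
  have hmpos : 1 ≤ m := by omega
  have hmodd : Odd m := by
    have heven : Even (2 ^ n) := (Nat.even_pow' (by omega)).mpr even_two
    rw [← hm1] at heven
    rcases Nat.even_or_odd m with h | h
    · exfalso
      have : Odd (m + 1) := h.add_one
      exact (Nat.not_even_iff_odd.mpr this) heven
    · exact h
  have hym : y ^ m = 1 := by rw [hm, ← hy]; exact pow_orderOf_eq_one y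
  -- card V = q
  have hcardV : Nat.card ↥V = 2 ^ n := by
    have h1 := Subgroup.card_mul_index V
    rw [Subgroup.index_eq_card, ← Nat.card_congr φ.toEquiv, hU, sq] at h1
    exact Nat.mul_self_inj.mp h1
  -- powers preserve V
  have hyVk : ∀ (k : ℕ) (v : U), v ∈ V → (y ^ k) v ∈ V := by
    intro k
    induction k with
    | zero => intro v hv; simpa using hv
    | succ k ih =>
      intro v hv
      rw [pow_succ, MulAut.mul_apply]
      exact ih _ (hyV v hv)
  -- equivariance for powers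
  have hφk : ∀ (k : ℕ) (v : ↥V) (u : U), (QuotientGroup.mk u : U ⧸ V) = φ v →
      φ ⟨(y ^ k) v, hyVk k v v.2⟩ = QuotientGroup.mk ((y ^ k) u) := by
    intro k
    induction k with
    | zero =>
      intro v u h
      simp only [pow_zero, MulAut.one_apply]
      exact h.symm
    | succ k ih =>
      intro v u h
      have h1 := hφ v u h
      have h2 := ih ⟨y v, hyV v v.2⟩ (y u) h1.symm
      have e : ∀ w : U, (y ^ (k + 1)) w = (y ^ k) (y w) := by
        intro w; rw [pow_succ, MulAut.mul_apply]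
      simp only [e]
      exact h2
  have hU2 : IsPGroup 2 U := IsPGroup.of_card (n := 2 * n) (by rw [hU]; ring)
  have hVbot : V ≠ ⊥ := by
    intro h
    rw [h, Subgroup.card_bot] at hcardV
    omega
  obtain ⟨z, hzV, hz1, hzZ⟩ := exists_mem_center_of_normal' hU2 V hVbot
  have hfree : ∀ k : ℕ, y ^ k ≠ 1 → (y ^ k) z ≠ z := fun k hk h => hz1 (hfp k hk z h)
  -- regularity
  have hreg : ∀ v ∈ V, v = 1 ∨ ∃ i : ℕ, (y ^ i) z = v := by
    let g : Option (Fin m) → ↥V := fun o =>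
      match o with
      | none => 1
      | some i => ⟨(y ^ (i : ℕ)) z, hyVk i z hzV⟩
    have hginj : Function.Injective g := by
      have key : ∀ i j : Fin m, (i : ℕ) ≤ (j : ℕ) → (y ^ (i : ℕ)) z = (y ^ (j : ℕ)) z → i = j := by
        intro i j hij h
        have h1 : (y ^ (j : ℕ)) z = (y ^ (i : ℕ)) ((y ^ ((j : ℕ) - (i : ℕ))) z) := by
          rw [← t_add, Nat.add_sub_cancel' hij]
        rw [h1] at h
        have h2 := (y ^ (i : ℕ)).injective h
        have h3 : y ^ ((j : ℕ) - (i : ℕ)) = 1 := by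
          by_contra hne
          exact hfree _ hne h2.symm
        have h4 : orderOf y ∣ (j : ℕ) - (i : ℕ) := orderOf_dvd_of_pow_eq_one h3
        rw [hy, ← hm] at h4
        have h5 : (j : ℕ) - (i : ℕ) < m := lt_of_le_of_lt (Nat.sub_le _ _) j.2
        have h6 : (j : ℕ) - (i : ℕ) = 0 := Nat.eq_zero_of_dvd_of_lt h4 h5
        apply Fin.ext
        omega
      intro a b hab
      match a, b with
      | none, none => rfl
      | none, some j =>
        exfalso
        have h1 : (1 : U) = (y ^ (j : ℕ)) z := congrArg Subtype.val hab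
        apply hz1
        exact (map_eq_one_iff (y ^ (j : ℕ)) (y ^ (j : ℕ)).injective).mp h1.symm
      | some i, none =>
        exfalso
        have h1 : (y ^ (i : ℕ)) z = (1 : U) := congrArg Subtype.val hab
        apply hz1
        exact (map_eq_one_iff (y ^ (i : ℕ)) (y ^ (i : ℕ)).injective).mp h1
      | some i, some j =>
        have h1 : (y ^ (i : ℕ)) z = (y ^ (j : ℕ)) z := congrArg Subtype.val hab
        rcases le_total (i : ℕ) (j : ℕ) with h | h
        · rw [key i j h h1]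
        · rw [key j i h h1.symm]
    have hcard : Nat.card ↥V ≤ Nat.card (Option (Fin m)) := by
      rw [hcardV, Nat.card_eq_fintype_card, Fintype.card_option, Fintype.card_fin, hm1]
    have hgbij := hginj.bijective_of_nat_card_le hcard
    intro v hv
    obtain ⟨o, ho⟩ := hgbij.2 ⟨v, hv⟩
    match o, ho with
    | none, ho =>
      left
      exact (congrArg Subtype.val ho).symm
    | some i, ho =>
      right
      exact ⟨i, congrArg Subtype.val ho⟩
  -- centrality of V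
  have hcent : ∀ v ∈ V, ∀ u : U, v * u = u * v := by
    intro v hv u
    rcases hreg v hv with h | ⟨i, hi⟩
    · rw [h]; simp
    · rw [← hi]
      obtain ⟨u', rfl⟩ := (y ^ i).surjective u
      rw [← map_mul, ← map_mul]
      congr 1
      exact (Subgroup.mem_center_iff.mp hzZ u').symm
  obtain ⟨u₀, hu₀⟩ := QuotientGroup.mk_surjective (φ ⟨z, hzV⟩)
  have hctx : Ctx V y m z u₀ :=
    { hm := hym
      hmpos := hmpos
      hz := hzV
      hcent := hcent
      hexp := fun v hv => by rw [← sq]; exact hVe v hv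
      hyV := fun k v hv => hyVk k v hv
      hreg := hreg
      hfree := hfree
      htrans := by
        intro i j k h
        have h1 : (⟨(y ^ i) z, hyVk i z hzV⟩ : ↥V) * ⟨(y ^ j) z, hyVk j z hzV⟩ = ⟨(y ^ k) z, hyVk k z hzV⟩ :=
          Subtype.ext h
        have h2 := congrArg φ h1
        rw [map_mul, hφk i ⟨z, hzV⟩ u₀ hu₀, hφk j ⟨z, hzV⟩ u₀ hu₀, hφk k ⟨z, hzV⟩ u₀ hu₀] at h2
        rw [← QuotientGroup.mk_mul] at h2
        have h3 := QuotientGroup.eq.mp h2.symm
        exact ⟨_, h3, by group⟩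
      hcomm := fun a b => hQc a b }
  -- decomposition of elements
  have hdec : ∀ u : U, u ∈ V ∨ ∃ i : ℕ, ∃ v ∈ V, u = (y ^ i) u₀ * v := by
    intro u
    have hw : φ (φ.symm (QuotientGroup.mk u)) = QuotientGroup.mk u := φ.apply_symm_apply _
    rcases hreg _ (φ.symm (QuotientGroup.mk u)).2 with h | ⟨i, hi⟩
    · left
      have h1 : φ.symm (QuotientGroup.mk u) = 1 := Subtype.ext h
      rw [h1, map_one] at hw
      exact (QuotientGroup.eq_one_iff u).mp hw.symm
    · right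
      have h1 : (⟨(y ^ i) z, hyVk i z hzV⟩ : ↥V) = φ.symm (QuotientGroup.mk u) := Subtype.ext hi
      have h2 := hφk i ⟨z, hzV⟩ u₀ hu₀
      rw [h1, hw] at h2
      have h3 := QuotientGroup.eq.mp h2.symm
      exact ⟨i, _, h3, by group⟩
  rw [isMulCommutative_iff]
  intro a b
  rcases hdec a with ha | ⟨i, v, hv, rfl⟩
  · exact hcent a ha b
  · rcases hdec b with hb | ⟨j, v', hv', rfl⟩
    · exact (hcent b hb _).symm
    · have c1 := hcent v hv ((y ^ j) u₀)
      have c2 := hcent v' hv' ((y ^ i) u₀)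
      have c3 := hcent v hv v'
      have c4 := hctx.comm_translates hmodd i j
      calc (y ^ i) u₀ * v * ((y ^ j) u₀ * v') = (y ^ i) u₀ * (v * (y ^ j) u₀) * v' := by group
        _ = (y ^ i) u₀ * ((y ^ j) u₀ * v) * v' := by rw [c1]
        _ = ((y ^ i) u₀ * (y ^ j) u₀) * (v * v') := by group
        _ = ((y ^ j) u₀ * (y ^ i) u₀) * (v' * v) := by rw [c4, c3]
        _ = (y ^ j) u₀ * ((y ^ i) u₀ * v') * v := by group
        _ = (y ^ j) u₀ * (v' * (y ^ i) u₀) * v := by rw [c2]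
        _ = (y ^ j) u₀ * v' * ((y ^ i) u₀ * v) := by group

end Cfsg.Agent.S3158
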