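import Cfsg.Statements.S3162
import Cfsg.Agent.Helper6.SUaut2
import Cfsg.Agent.Helper45.GUBasic

set_option autoImplicit false
open Cfsg

namespace Cfsg.Agent.S3162

/-- Let S be a Sylow 2-subgroup of the special unitary group of dimension 3 with parameter q = 2^n (n ≥ 2; realised over the field with q² elements). Then the largest normal 2-subgroup of the automorphism group of S is elementary abelian of order 2^(2n²), and the automorphism group has order 2^(2n²) · 2n(q² − 1). -/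
theorem result {S : Type*} [Group S] [Finite S] (n : ℕ) (hn : 2 ≤ n) {F : Type*} [Field F] [Fintype F] (hF : Fintype.card F = 4 ^ n)
    (P : Sylow 2 ↥(Cfsg.SU 3 F (2 ^ n))) (hS : Nonempty (S ≃* ↥(P : Subgroup ↥(Cfsg.SU 3 F (2 ^ n))))) :
    Cfsg.IsElementaryAbelian 2 (Cfsg.pCore 2 (MulAut S)) ∧ Nat.card ↥(Cfsg.pCore 2 (MulAut S)) = 2 ^ (2 * n ^ 2) ∧
      Nat.card (MulAut S) = 2 ^ (2 * n ^ 2) * (2 * n * ((2 ^ n) ^ 2 - 1)) := by
  classical
  obtain ⟨e₀⟩ := hS
  have hF' : Fintype.card F = (2 ^ n) ^ 2 := by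
    rw [hF, ← pow_mul, mul_comm, pow_mul]; norm_num
  obtain ⟨bar, hbar⟩ := Cfsg.Agent.Helper45.GU.exists_bar hF'
  have hqe : Even (2 ^ n) := (Nat.even_pow.mpr ⟨even_two, by omega⟩)
  have : Cfsg.Agent.Helper19.SU3.BarField F bar :=
    Cfsg.Agent.Helper19.SU3.barField bar hF' hqe hbar
  obtain ⟨e₁⟩ := Cfsg.Agent.Helper19.SU3.exists_equiv_sylow_SU (n := n) (by omega) hF' bar hbar P
  let e : S ≃* Cfsg.Agent.Helper19.SU3.Heis bar := e₀.trans e₁.symm
  let E : MulAut S ≃* MulAut (Cfsg.Agent.Helper19.SU3.Heis bar) := MulAut.congr e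
  obtain ⟨h1, h2, h3⟩ := Cfsg.Agent.Helper6.SUaut.main_heis (bar := bar) (n := n) (by omega) hF' hbar
  have hmap := Cfsg.Agent.Helper11.pCore_map_mulEquiv 2 E
  have hmem : ∀ a : MulAut S, a ∈ Cfsg.pCore 2 (MulAut S) →
      E a ∈ Cfsg.pCore 2 (MulAut (Cfsg.Agent.Helper19.SU3.Heis bar)) := by
    intro a ha
    rw [← hmap]
    exact ⟨a, ha, rfl⟩
  refine ⟨⟨⟨⟨fun a b => ?_⟩⟩, fun a ha => ?_⟩, ?_, ?_⟩
  · apply Subtype.ext
    apply E.injective
    have hc := h1.1.is_comm.comm ⟨E a.1, hmem a.1 a.2⟩ ⟨E b.1, hmem b.1 b.2⟩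
    have hc' := congrArg Subtype.val hc
    simpa using hc'
  · apply E.injective
    rw [map_pow, map_one]
    exact h1.2 (E a) (hmem a ha)
  · rw [← h2, ← hmap]
    exact (Subgroup.card_map_of_injective (f := E.toMonoidHom) E.injective).symm
  · rw [← h3]
    exact Nat.card_congr E.toEquiv

end Cfsg.Agent.S3162
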