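import Mathlib
import Cfsg.Statements.S3163
import Cfsg.Agent.Helper53.Index

set_option autoImplicit false
open Cfsg

namespace Cfsg.Agent.S3163

open Cfsg.Agent.Helper53

variable {S : Type*} [Group S]

lemma comm_of_mem {A : Subgroup S} (hA : Cfsg.IsElementaryAbelian 2 A) {x y : S} (hx : x ∈ A) (hy : y ∈ A) :
    x * y = y * x := by
  have := hA.1
  exact setLike_mul_comm hx hy

lemma mem_centralizer_singleton {x y : S} : y ∈ Subgroup.centralizer ({x} : Set S) ↔ x * y = y * x := by
  rw [Subgroup.mem_centralizer_iff]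
  simp

/-- Let S be a non-abelian finite 2-group which is the product S = AB of two elementary abelian subgroups A and B, and suppose that the centralizer in S of every element of A outside B is exactly A. Then the centralizer of every element of B outside A is exactly B; A and B are maximal elementary abelian subgroups of S and the only ones; the centre of S is A ∩ B; and every element of S outside A ∪ B has centralizer of order at most min(|A|, |B|). -/
theorem result {S : Type*} [Group S] [Finite S] (hS : IsPGroup 2 S) (hna : ¬ IsMulCommutative S) (A B : Subgroup S)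
    (hA : Cfsg.IsElementaryAbelian 2 A) (hB : Cfsg.IsElementaryAbelian 2 B) (hAB : ∀ s : S, ∃ a ∈ A, ∃ b ∈ B, s = a * b)
    (hC : ∀ a ∈ A, a ∉ B → Subgroup.centralizer ({a} : Set S) = A) :
    (∀ b ∈ B, b ∉ A → Subgroup.centralizer ({b} : Set S) = B) ∧
      (∀ E : Subgroup S, Cfsg.IsElementaryAbelian 2 E → (∀ E' : Subgroup S, Cfsg.IsElementaryAbelian 2 E' → E ≤ E' → E' = E) → E = A ∨ E = B) ∧
      (∀ E' : Subgroup S, Cfsg.IsElementaryAbelian 2 E' → A ≤ E' → E' = A) ∧ (∀ E' : Subgroup S, Cfsg.IsElementaryAbelian 2 E' → B ≤ E' → E' = B) ∧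
      Subgroup.center S = A ⊓ B ∧
      (∀ x : S, x ∉ A → x ∉ B → Nat.card ↥(Subgroup.centralizer ({x} : Set S)) ≤ min (Nat.card ↥A) (Nat.card ↥B)) := by
  -- P0
  have hnAB : ¬ A ≤ B := by
    intro h
    apply hna
    rw [isMulCommutative_iff]
    intro x y
    obtain ⟨a, ha, b, hb, rfl⟩ := hAB x
    obtain ⟨a', ha', b', hb', rfl⟩ := hAB y
    exact comm_of_mem hB (B.mul_mem (h ha) hb) (B.mul_mem (h ha') hb')
  have hnBA : ¬ B ≤ A := by
    intro h
    apply hna
    rw [isMulCommutative_iff]
    intro x y
    obtain ⟨a, ha, b, hb, rfl⟩ := hAB x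
    obtain ⟨a', ha', b', hb', rfl⟩ := hAB y
    exact comm_of_mem hA (A.mul_mem ha (h hb)) (A.mul_mem ha' (h hb'))
  obtain ⟨a0, ha0, ha0B⟩ := SetLike.not_le_iff_exists.mp hnAB
  obtain ⟨b0, hb0, hb0A⟩ := SetLike.not_le_iff_exists.mp hnBA
  -- P1
  have h1 : ∀ b ∈ B, b ∉ A → Subgroup.centralizer ({b} : Set S) = B := by
    intro b hb hbA
    apply le_antisymm
    · intro x hx
      rw [mem_centralizer_singleton] at hx
      obtain ⟨a, ha, b', hb', rfl⟩ := hAB x
      -- a commutes with b
      have hab : b * a = a * b := by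
        have e1 : b * b' = b' * b := comm_of_mem hB hb hb'
        calc b * a = b * (a * b') * b'⁻¹ := by group
          _ = (a * b') * b * b'⁻¹ := by rw [hx]
          _ = a * (b' * b) * b'⁻¹ := by group
          _ = a * (b * b') * b'⁻¹ := by rw [e1]
          _ = a * b := by group
      by_cases haB : a ∈ B
      · exact B.mul_mem haB hb'
      · exfalso
        have := hC a ha haB
        apply hbA
        rw [← this, mem_centralizer_singleton]
        exact hab.symm
    · intro x hx
      rw [mem_centralizer_singleton]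
      exact comm_of_mem hB hb hx
  -- P2: involutions lie in A or B
  have h2 : ∀ x : S, x ^ 2 = 1 → x ∈ A ∨ x ∈ B := by
    intro x hx
    obtain ⟨a, ha, b, hb, rfl⟩ := hAB x
    have ha2 : a ^ 2 = 1 := hA.2 a ha
    have hb2 : b ^ 2 = 1 := hB.2 b hb
    have hab : a * b = b * a := by
      have e1 : a⁻¹ = a := by rw [inv_eq_iff_mul_eq_one, ← sq, ha2]
      have e2 : b⁻¹ = b := by rw [inv_eq_iff_mul_eq_one, ← sq, hb2]
      have e3 : (a * b)⁻¹ = a * b := by rw [inv_eq_iff_mul_eq_one, ← sq, hx]
      calc a * b = (a * b)⁻¹ := e3.symm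
        _ = b⁻¹ * a⁻¹ := by group
        _ = b * a := by rw [e1, e2]
    by_cases haB : a ∈ B
    · right; exact B.mul_mem haB hb
    · left
      have := hC a ha haB
      refine A.mul_mem ha ?_
      rw [← this, mem_centralizer_singleton]
      exact hab
  -- P3: elementary abelian subgroups lie in A or B
  have h3 : ∀ E : Subgroup S, Cfsg.IsElementaryAbelian 2 E → E ≤ A ∨ E ≤ B := by
    intro E hE
    by_contra hcon
    rw [not_or] at hcon
    obtain ⟨x, hxE, hxA⟩ := SetLike.not_le_iff_exists.mp hcon.1
    obtain ⟨y, hyE, hyB⟩ := SetLike.not_le_iff_exists.mp hcon.2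
    have hxB : x ∈ B := (h2 x (hE.2 x hxE)).resolve_left hxA
    have hyA : y ∈ A := (h2 y (hE.2 y hyE)).resolve_right hyB
    rcases h2 (x * y) (hE.2 _ (E.mul_mem hxE hyE)) with h | h
    · apply hxA
      have : x = (x * y) * y⁻¹ := by group
      rw [this]
      exact A.mul_mem h (A.inv_mem hyA)
    · apply hyB
      have : y = x⁻¹ * (x * y) := by group
      rw [this]
      exact B.mul_mem (B.inv_mem hxB) h
  refine ⟨h1, ?_, ?_, ?_, ?_, ?_⟩
  · intro E hE hmax
    rcases h3 E hE with h | h
    · left; exact (hmax A hA h).symm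
    · right; exact (hmax B hB h).symm
  · intro E' hE' hle
    rcases h3 E' hE' with h | h
    · exact le_antisymm h hle
    · exact absurd (hle.trans h) hnAB
  · intro E' hE' hle
    rcases h3 E' hE' with h | h
    · exact absurd (hle.trans h) hnBA
    · exact le_antisymm h hle
  · apply le_antisymm
    · intro z hz
      rw [Subgroup.mem_center_iff] at hz
      refine ⟨?_, ?_⟩
      · show z ∈ A
        rw [← hC a0 ha0 ha0B, mem_centralizer_singleton]
        exact hz a0
      · show z ∈ B
        rw [← h1 b0 hb0 hb0A, mem_centralizer_singleton]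
        exact hz b0
    · rintro z ⟨hzA, hzB⟩
      rw [Subgroup.mem_center_iff]
      intro s
      obtain ⟨a, ha, b, hb, rfl⟩ := hAB s
      have e1 : a * z = z * a := comm_of_mem hA ha hzA
      have e2 : b * z = z * b := comm_of_mem hB hb hzB
      calc a * b * z = a * (b * z) := by group
        _ = a * (z * b) := by rw [e2]
        _ = (a * z) * b := by group
        _ = z * a * b := by rw [e1]
        _ = z * (a * b) := by group
  · intro x hxA hxB
    obtain ⟨a, ha, b, hb, rfl⟩ := hAB x
    have haB : a ∉ B := fun h => hxB (B.mul_mem h hb)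
    have hbA : b ∉ A := fun h => hxA (A.mul_mem ha h)
    set C := Subgroup.centralizer ({a * b} : Set S) with hCdef
    have hAC : A ⊓ C ≤ A ⊓ B := by
      rintro a' ⟨ha', ha'C⟩
      refine ⟨ha', ?_⟩
      by_contra hcon
      have hcen := hC a' ha' hcon
      apply hbA
      rw [← hcen, mem_centralizer_singleton]
      have hx : a * b * a' = a' * (a * b) := by
        have := (mem_centralizer_singleton (x := a * b) (y := a')).mp ha'C
        exact this
      have e1 : a' * a = a * a' := comm_of_mem hA ha' ha
      calc a' * b = a⁻¹ * (a * a') * b := by group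
        _ = a⁻¹ * (a' * a) * b := by rw [e1]
        _ = a⁻¹ * (a' * (a * b)) := by group
        _ = a⁻¹ * (a * b * a') := by rw [hx]
        _ = b * a' := by group
    have hBC : B ⊓ C ≤ B ⊓ A := by
      rintro b' ⟨hb', hb'C⟩
      refine ⟨hb', ?_⟩
      by_contra hcon
      have hcen := h1 b' hb' hcon
      apply haB
      rw [← hcen, mem_centralizer_singleton]
      have hx : a * b * b' = b' * (a * b) := by
        have := (mem_centralizer_singleton (x := a * b) (y := b')).mp hb'C
        exact this
      have e1 : b' * b = b * b' := comm_of_mem hB hb' hb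
      calc b' * a = b' * (a * b) * b⁻¹ := by group
        _ = a * b * b' * b⁻¹ := by rw [hx]
        _ = a * (b * b') * b⁻¹ := by group
        _ = a * (b' * b) * b⁻¹ := by rw [e1]
        _ = a * b' := by group
    have hBA' : ∀ g : S, ∃ k ∈ B, ∃ x ∈ A, g = k * x := by
      intro g
      obtain ⟨a', ha', b', hb', h⟩ := hAB g⁻¹
      refine ⟨b'⁻¹, B.inv_mem hb', a'⁻¹, A.inv_mem ha', ?_⟩
      have : g = (g⁻¹)⁻¹ := by group
      rw [this, h]; group
    have hAB' : ∀ g : S, ∃ k ∈ A, ∃ x ∈ B, g = k * x := hAB
    have hAidx : A.index ≠ 0 := Subgroup.index_ne_zero_of_finite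
    have hBidx : B.index ≠ 0 := Subgroup.index_ne_zero_of_finite
    have r1 : A.relIndex C ≤ A.index := by
      have := Subgroup.relIndex_le_of_le_right (H := A) (K := C) (L := ⊤) le_top
        (by rw [Subgroup.relIndex_top_right]; exact hAidx)
      rwa [Subgroup.relIndex_top_right] at this
    have r2 : B.relIndex C ≤ B.index := by
      have := Subgroup.relIndex_le_of_le_right (H := B) (K := C) (L := ⊤) le_top
        (by rw [Subgroup.relIndex_top_right]; exact hBidx)
      rwa [Subgroup.relIndex_top_right] at this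
    apply le_min
    · -- |C| ≤ |A|
      calc Nat.card ↥C = Nat.card ↥(B ⊓ C) * B.relIndex C := card_eq_card_inf_mul_relIndex B C
        _ ≤ Nat.card ↥(B ⊓ A) * B.index := Nat.mul_le_mul (Subgroup.card_le_of_le hBC) r2
        _ = Nat.card ↥(B ⊓ A) * B.relIndex A := by rw [relIndex_eq_index_of_prod B A hAB']
        _ = Nat.card ↥A := (card_eq_card_inf_mul_relIndex B A).symm
    · calc Nat.card ↥C = Nat.card ↥(A ⊓ C) * A.relIndex C := card_eq_card_inf_mul_relIndex A C
        _ ≤ Nat.card ↥(A ⊓ B) * A.index := Nat.mul_le_mul (Subgroup.card_le_of_le hAC) r1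
        _ = Nat.card ↥(A ⊓ B) * A.relIndex B := by rw [relIndex_eq_index_of_prod A B hBA']
        _ = Nat.card ↥B := (card_eq_card_inf_mul_relIndex A B).symm

end Cfsg.Agent.S3163
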