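import Mathlib
import Cfsg.Statements.S3166

set_option autoImplicit false
open Cfsg

namespace Cfsg.Agent.S3166

/-- the value is not a perfect square -/
lemma not_sq (q y : ℕ) (hq : 2 ≤ q) (h : q ^ 4 + q ^ 2 + 1 = y ^ 2 + q ^ 3 + q) : False := by
  have hQ : (2 : ℤ) ≤ (q : ℤ) := by exact_mod_cast hq
  have hY : (0 : ℤ) ≤ (y : ℤ) := by positivity
  have hZ : ((q : ℤ)) ^ 4 + (q : ℤ) ^ 2 + 1 = (y : ℤ) ^ 2 + (q : ℤ) ^ 3 + (q : ℤ) := by exact_mod_cast h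
  generalize (q : ℤ) = Q at hQ hZ
  generalize (y : ℤ) = Y at hY hZ
  rcases le_or_gt (2 * Y) (2 * Q ^ 2 - Q) with h1 | h1
  · have : (2 * Y) ^ 2 ≤ (2 * Q ^ 2 - Q) ^ 2 := by
      apply pow_le_pow_left₀ (by linarith) h1
    nlinarith
  · have h2 : 2 * Q ^ 2 - Q + 1 ≤ 2 * Y := by linarith
    have h3 : 0 ≤ 2 * Q ^ 2 - Q + 1 := by nlinarith
    have : (2 * Q ^ 2 - Q + 1) ^ 2 ≤ (2 * Y) ^ 2 := by
      apply pow_le_pow_left₀ h3 h2
    nlinarith

/-- geometric sum of an odd number of odd terms is odd -/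
lemma odd_geom (p m : ℕ) (hp : Odd p) (hm : Odd m) : Odd (∑ i ∈ Finset.range m, p ^ i) := by
  rw [Finset.odd_sum_iff_odd_card_odd]
  have : (Finset.range m).filter (fun i => Odd (p ^ i)) = Finset.range m := by
    apply Finset.filter_true_of_mem
    intro i _
    exact hp.pow
  rw [this, Finset.card_range]
  exact hm

/-- Let q = 2^n with n ≥ 1. If q⁴ − q³ + q² − q + 1 is a power p^m of a prime p, then m = 1: the value is never a prime power with exponent greater than 1. -/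
theorem result (n p m : ℕ) (hn : 1 ≤ n) (hp : p.Prime) (h : (2 ^ n) ^ 4 - (2 ^ n) ^ 3 + (2 ^ n) ^ 2 - 2 ^ n + 1 = p ^ m) : m = 1 := by
  obtain ⟨q, hq⟩ : ∃ q, q = 2 ^ n := ⟨_, rfl⟩
  rw [← hq] at h
  have hq2 : 2 ≤ q := by
    rw [hq]
    calc 2 = 2 ^ 1 := by norm_num
      _ ≤ 2 ^ n := Nat.pow_le_pow_right (by norm_num) hn
  have h34 : q ^ 3 ≤ q ^ 4 := Nat.pow_le_pow_right (by omega) (by norm_num)
  have h12 : q ≤ q ^ 2 := by nlinarith
  have hadd : q ^ 4 + q ^ 2 + 1 = p ^ m + q ^ 3 + q := by omega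
  have hqeven : 2 ∣ q := by
    rw [hq]; exact dvd_pow_self 2 (by omega)
  -- m ≠ 0
  have hm0 : m ≠ 0 := by
    rintro rfl
    simp only [pow_zero] at hadd
    nlinarith
  -- p ^ m is odd
  have hpm_odd : Odd (p ^ m) := by
    obtain ⟨c, hc⟩ := hqeven
    rw [Nat.odd_iff]
    have e1 : q ^ 4 = 2 * (8 * c ^ 4) := by rw [hc]; ring
    have e2 : q ^ 2 = 2 * (2 * c ^ 2) := by rw [hc]; ring
    have e3 : q ^ 3 = 2 * (4 * c ^ 3) := by rw [hc]; ring
    omega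
  have hp_odd : Odd p := by
    rcases Nat.Prime.eq_two_or_odd' hp with h2 | h2
    · exfalso
      rw [h2] at hpm_odd
      have : Even (2 ^ m) := (Nat.even_pow' hm0).mpr (by norm_num)
      exact (Nat.not_odd_iff_even.mpr this) hpm_odd
    · exact h2
  -- m is odd
  have hm_odd : Odd m := by
    by_contra hne
    rw [Nat.not_odd_iff_even] at hne
    obtain ⟨k, hk⟩ := hne
    have : p ^ m = (p ^ k) ^ 2 := by rw [hk, ← pow_mul]; congr 1; ring
    rw [this] at hadd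
    exact not_sq q (p ^ k) hq2 hadd
  by_contra hm1
  have hm3 : 3 ≤ m := by
    obtain ⟨k, hk⟩ := hm_odd
    omega
  -- q ∣ p - 1
  have hp1 : 1 ≤ p := hp.one_lt.le
  have hgeom : (∑ i ∈ Finset.range m, p ^ i) * (p - 1) = p ^ m - 1 := by
    have := Nat.geomSum_eq hp.two_le m
    have hdvd : (p - 1) ∣ p ^ m - 1 := by
      simpa using Nat.sub_dvd_pow_sub_pow p 1 m
    rw [this, Nat.div_mul_cancel hdvd]
  have hq3 : q ^ 2 ≤ q ^ 3 := Nat.pow_le_pow_right (by omega) (by norm_num)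
  have hfact : p ^ m - 1 = q * (q ^ 3 - q ^ 2 + q - 1) := by
    have e : q * (q ^ 3 - q ^ 2 + q - 1) = q ^ 4 - q ^ 3 + q ^ 2 - q := by
      have h1 : 1 ≤ q ^ 3 - q ^ 2 + q := by omega
      zify [h1, hq3, h34, h12]
      have h5 : q ≤ q ^ 4 - q ^ 3 + q ^ 2 := by omega
      zify [h5, h34]
      ring
    omega
  have hcop : Nat.Coprime q (∑ i ∈ Finset.range m, p ^ i) := by
    rw [hq]
    apply Nat.Coprime.pow_left
    rw [Nat.coprime_two_left]
    exact odd_geom p m hp_odd hm_odd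
  have hqdvd : q ∣ p - 1 := by
    have : q ∣ (∑ i ∈ Finset.range m, p ^ i) * (p - 1) := by
      rw [hgeom, hfact]; exact dvd_mul_right _ _
    exact hcop.dvd_of_dvd_mul_left this
  obtain ⟨k, hk⟩ := hqdvd
  have hpk : p = 1 + q * k := by omega
  have hk1 : 1 ≤ k := by
    rcases Nat.eq_zero_or_pos k with h0 | h0
    · exfalso; rw [h0] at hpk; simp at hpk; exact hp.one_lt.ne' hpk
    · exact h0
  -- m = 3
  have hm_eq : m = 3 := by
    by_contra hne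
    have hm4 : 4 ≤ m := by omega
    have hpq : q + 1 ≤ p := by nlinarith
    have : (q + 1) ^ 4 ≤ p ^ m := by
      calc (q + 1) ^ 4 ≤ p ^ 4 := Nat.pow_le_pow_left hpq 4
        _ ≤ p ^ m := Nat.pow_le_pow_right hp1 hm4
    nlinarith
  subst hm_eq
  -- now the final contradiction
  have hZ : ((q : ℤ)) ^ 4 + (q : ℤ) ^ 2 + 1 = (1 + (q : ℤ) * (k : ℤ)) ^ 3 + (q : ℤ) ^ 3 + (q : ℤ) := by
    rw [hpk] at hadd
    exact_mod_cast hadd
  have hQ : (2 : ℤ) ≤ (q : ℤ) := by exact_mod_cast hq2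
  have hK : (1 : ℤ) ≤ (k : ℤ) := by exact_mod_cast hk1
  have hdiv : (q : ℤ) ∣ 3 * (k : ℤ) + 1 := by
    refine ⟨(q : ℤ) ^ 2 - (q : ℤ) + 1 - 3 * (k : ℤ) ^ 2 - (q : ℤ) * (k : ℤ) ^ 3, ?_⟩
    have hqpos : (q : ℤ) ≠ 0 := by linarith
    apply mul_left_cancel₀ hqpos
    linear_combination (-1 : ℤ) * hZ
  have hle : (q : ℤ) ≤ 3 * (k : ℤ) + 1 := Int.le_of_dvd (by linarith) hdiv
  have hk3 : (k : ℤ) ^ 3 < (q : ℤ) := by
    by_contra hcon
    rw [not_lt] at hcon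
    have : (q : ℤ) ^ 3 * (q : ℤ) ≤ (q : ℤ) ^ 3 * (k : ℤ) ^ 3 :=
      mul_le_mul_of_nonneg_left hcon (by positivity)
    nlinarith
  have hk_eq : (k : ℤ) = 1 := by
    by_contra hne
    have hk2 : (2 : ℤ) ≤ (k : ℤ) := by omega
    have h4 : 0 ≤ (k : ℤ) * ((k : ℤ) - 2) * ((k : ℤ) + 2) :=
      mul_nonneg (mul_nonneg (by linarith) (by linarith)) (by linarith)
    nlinarith
  rw [hk_eq] at hZ hle
  have hq4 : (q : ℤ) ≤ 4 := by linarith
  have hq4' : q ≤ 4 := by exact_mod_cast hq4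
  interval_cases q <;> norm_num at hZ

end Cfsg.Agent.S3166
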