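import Mathlib
import Cfsg.Statements.S3178
import Cfsg.Agent.Helper53.Cj
import Cfsg.Agent.Helper53.Index
import Cfsg.Agent.Helper53.IndexTwo
import Cfsg.Agent.Helper53.Thompson
import Cfsg.Agent.Helper53.NormalComplement

set_option autoImplicit false
open Cfsg

namespace Cfsg.Agent.S3178

open Cfsg.Agent.Helper53
open scoped Pointwise

/-- Groups with a modular Sylow 2-subgroup have a normal 2-complement. Let S, of order 2^(n+1) with n ≥ 3, be a Sylow 2-subgroup of a finite group G, and suppose S contains an element a of order 2^n and an involution b with b a b⁻¹ = a^(2^(n-1) + 1); so S is the non-abelian 2-group with a cyclic subgroup of index 2 that is neither dihedral, semidihedral nor generalized quaternion. Then G has a normal 2-complement. -/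
theorem result {G : Type*} [Group G] [Finite G]
    (S : Sylow 2 G) (n : ℕ) (hn : 3 ≤ n) (hS : Nat.card ↥(S : Subgroup G) = 2 ^ (n + 1))
    (a b : G) (ha : a ∈ (S : Subgroup G)) (hb : b ∈ (S : Subgroup G))
    (hao : orderOf a = 2 ^ n) (hbo : orderOf b = 2) (hrel : b * a * b⁻¹ = a ^ (2 ^ (n - 1) + 1)) :
    Cfsg.HasNormalPComplement 2 G := by
  have : Fact (Nat.Prime 2) := ⟨Nat.prime_two⟩
  obtain ⟨k, rfl⟩ : ∃ k, n = k + 3 := ⟨n - 3, by omega⟩
  have hk1 : k + 3 - 1 = k + 2 := by omega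
  rw [hk1] at hrel
  set z := a ^ (2 ^ (k + 2)) with hz
  set A := Subgroup.zpowers a with hA
  -- basic facts
  have hb2 : b ^ 2 = 1 := by rw [← hbo]; exact pow_orderOf_eq_one b
  have hb1 : b ≠ 1 := by
    intro h
    rw [h, orderOf_one] at hbo
    omega
  have ha2n : a ^ (2 ^ (k + 3)) = 1 := by rw [← hao]; exact pow_orderOf_eq_one a
  have hz2 : z ^ 2 = 1 := by rw [hz, ← pow_mul, ← pow_succ, ha2n]
  have hz1 : z ≠ 1 := by
    intro h
    have h1 := orderOf_dvd_of_pow_eq_one h
    rw [hao] at h1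
    have h2 := Nat.le_of_dvd (by positivity) h1
    have h3 : 2 ^ (k + 2) < 2 ^ (k + 3) := Nat.pow_lt_pow_right (by norm_num) (by omega)
    omega
  have hAS : A ≤ (S : Subgroup G) := (Subgroup.zpowers_le).mpr ha
  have hAcard : Nat.card ↥A = 2 ^ (k + 3) := by rw [hA, Nat.card_zpowers, hao]
  have hArel : A.relIndex (S : Subgroup G) = 2 := by
    have h1 := card_eq_card_inf_mul_relIndex A (S : Subgroup G)
    rw [inf_eq_left.mpr hAS, hS, hAcard] at h1
    have h2 : (2 : ℕ) ^ (k + 3 + 1) = 2 ^ (k + 3) * 2 := pow_succ 2 (k + 3)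
    rw [h2] at h1
    exact (Nat.eq_of_mul_eq_mul_left (by positivity) h1).symm
  have huniq : ∀ y ∈ A, y ^ 2 = 1 → y ≠ 1 → y = z := fun y hy hy2 hy1 =>
    eq_pow_of_sq_eq_one_of_mem_zpowers (m := k + 2) hao hy hy2 hy1
  -- `b` centralizes `z`
  have hbz : b * z * b⁻¹ = z := by
    have e : (2 ^ (k + 2) + 1) * 2 ^ (k + 2) = 2 ^ (k + 3) * 2 ^ (k + 1) + 2 ^ (k + 2) := by ring
    rw [hz, ← conj_pow, hrel, ← pow_mul, e, pow_add, pow_mul, ha2n, one_pow, one_mul]
  have hbzc : Commute b z := by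
    have : b * z = z * b := by
      calc b * z = (b * z * b⁻¹) * b := by group
        _ = z * b := by rw [hbz]
    exact this
  -- `b ∉ A`
  have hbA : b ∉ A := by
    intro h
    obtain ⟨i, hi⟩ := Subgroup.mem_zpowers_iff.mp h
    have hc : Commute b a := by rw [← hi]; exact (Commute.refl a).zpow_left i
    have h1 : b * a * b⁻¹ = a := by rw [hc.eq, mul_inv_cancel_right]
    rw [hrel, pow_succ] at h1
    exact hz1 (mul_eq_right.mp h1)
  -- `z` is central in `S`
  have hzcomm : ∀ w ∈ (S : Subgroup G), Commute w z := by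
    intro w hw
    have hAz : ∀ v ∈ A, Commute v z := by
      intro v hv
      obtain ⟨i, rfl⟩ := Subgroup.mem_zpowers_iff.mp hv
      exact ((Commute.refl a).pow_right _).zpow_left i
    by_cases hwA : w ∈ A
    · exact hAz w hwA
    · have h1 : w * b ∈ A := (mul_mem_iff_of_relIndex_two hArel hw hb).mpr (iff_of_false hwA hbA)
      have h2 : Commute (w * b * b⁻¹) z := (hAz _ h1).mul_left hbzc.inv_left
      rwa [mul_inv_cancel_right] at h2
  -- no conjugate of `b` lies in `A`
  have hcon : ∀ g : G, g * b * g⁻¹ ∉ A := by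
    intro g hg
    have hy2 : (g * b * g⁻¹) ^ 2 = 1 := by rw [conj_pow, hb2, mul_one, mul_inv_cancel]
    have hy1 : g * b * g⁻¹ ≠ 1 := by
      intro h; exact hb1 (conj_eq_one_iff.mp h)
    have hgz : g * b * g⁻¹ = z := huniq _ hg hy2 hy1
    set M := Subgroup.centralizer ({z} : Set G) with hM
    have hSM : (S : Subgroup G) ≤ M := fun w hw =>
      Subgroup.mem_centralizer_singleton_iff.mpr (hzcomm w hw).eq
    set B0 := (S : Subgroup G) ⊓ Subgroup.centralizer ({b} : Set G) with hB0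
    set B := MulAut.conj g • B0 with hB
    have hB0p : IsPGroup 2 ↥B0 := S.2.to_le inf_le_left
    have hBp : IsPGroup 2 ↥B := by
      rw [hB, ← cj_def]
      exact hB0p.map _
    have hBM : B ≤ M := by
      intro y hy
      rw [hB, mem_conj_smul] at hy
      have h1 : g⁻¹ * y * g * b = b * (g⁻¹ * y * g) :=
        Subgroup.mem_centralizer_singleton_iff.mp hy.2
      rw [hM, Subgroup.mem_centralizer_singleton_iff, ← hgz]
      calc y * (g * b * g⁻¹) = g * (g⁻¹ * y * g * b) * g⁻¹ := by group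
        _ = g * (b * (g⁻¹ * y * g)) * g⁻¹ := by rw [h1]
        _ = g * b * g⁻¹ * y := by group
    obtain ⟨m, hmM, hle⟩ := pgroup_le_conj_sylow_in S M hSM B hBp hBM
    have ha2B0 : a ^ 2 ∈ B0 := by
      refine ⟨(S : Subgroup G).pow_mem ha 2, ?_⟩
      show a ^ 2 ∈ Subgroup.centralizer ({b} : Set G)
      rw [Subgroup.mem_centralizer_singleton_iff]
      have h1 : b * a ^ 2 * b⁻¹ = a ^ 2 := by
        have e : (2 ^ (k + 2) + 1) * 2 = 2 ^ (k + 3) + 2 := by ring
        rw [← conj_pow, hrel, ← pow_mul, e, pow_add, ha2n, one_mul]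
      calc a ^ 2 * b = (b * a ^ 2 * b⁻¹) * b := by rw [h1]
        _ = b * a ^ 2 := by group
    have h1 : g * a ^ 2 * g⁻¹ ∈ MulAut.conj m • (S : Subgroup G) := hle (cj_mem'.mpr ha2B0)
    rw [mem_conj_smul] at h1
    set h := m⁻¹ * g with hh
    set u := h * a ^ 2 * h⁻¹ with hu
    have huS : u ∈ (S : Subgroup G) := by
      have : u = m⁻¹ * (g * a ^ 2 * g⁻¹) * m := by rw [hu, hh]; group
      rw [this]; exact h1
    have hmz : m * z = z * m := Subgroup.mem_centralizer_singleton_iff.mp hmM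
    have hhb : h * b * h⁻¹ = z := by
      calc h * b * h⁻¹ = m⁻¹ * (g * b * g⁻¹) * m := by rw [hh]; group
        _ = m⁻¹ * (z * m) := by rw [hgz, mul_assoc]
        _ = m⁻¹ * (m * z) := by rw [hmz]
        _ = z := by group
    have hupow : u ^ (2 ^ (k + 1)) = h * z * h⁻¹ := by
      rw [hu, conj_pow, ← pow_mul, ← pow_succ']
    have hupowA : u ^ (2 ^ (k + 1)) ∈ A := by
      rw [pow_succ', pow_mul]
      exact A.pow_mem (sq_mem_of_relIndex_two hArel huS) _
    have hhz : h * z * h⁻¹ = z := by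
      apply huniq
      · rw [← hupow]; exact hupowA
      · rw [conj_pow, hz2, mul_one, mul_inv_cancel]
      · intro h0; exact hz1 (conj_eq_one_iff.mp h0)
    have hbz' : b = z := by
      have h2 : h * b * h⁻¹ = h * z * h⁻¹ := by rw [hhb, hhz]
      exact mul_left_cancel (mul_right_cancel h2)
    apply hbA
    rw [hbz', hz]
    exact A.pow_mem (Subgroup.mem_zpowers a) _
  -- Thompson transfer
  obtain ⟨H, hHidx, hbH⟩ := thompson_transfer S A hArel b hb hbo hcon
  have hHn : H.Normal := Subgroup.normal_of_index_eq_two hHidx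
  -- an element of order `2 ^ (k + 3)` in `S ⊓ H`
  obtain ⟨c, hcS, hcH, hco⟩ : ∃ c, c ∈ (S : Subgroup G) ∧ c ∈ H ∧ orderOf c = 2 ^ (k + 3) := by
    by_cases haH : a ∈ H
    · exact ⟨a, ha, haH, hao⟩
    · refine ⟨a * b, (S : Subgroup G).mul_mem ha hb,
        (Subgroup.mul_mem_iff_of_index_two hHidx).mpr (iff_of_false haH hbH), ?_⟩
      have hsq : (a * b) ^ 2 = a ^ (2 ^ (k + 2) + 2) := by
        have e : a * b * (a * b) = a * (b * a * b⁻¹) * (b ^ 2) := by group
        rw [sq, e, hrel, hb2, mul_one, ← pow_succ']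
      have hpow : (a * b) ^ (2 ^ (k + 2)) = z := by
        have e : (2 ^ (k + 2) + 2) * 2 ^ (k + 1) = 2 ^ (k + 3) * 2 ^ k + 2 ^ (k + 2) := by ring
        have e2 : (2 : ℕ) ^ (k + 2) = 2 * 2 ^ (k + 1) := by ring
        rw [e2, pow_mul, hsq, ← pow_mul, e, pow_add, pow_mul, ha2n, one_pow, one_mul]
      apply orderOf_eq_prime_pow
      · rw [hpow]; exact hz1
      · rw [pow_succ, pow_mul, hpow, hz2]
  -- the Sylow 2-subgroup `S ⊓ H` of `H` is cyclic
  have hHrel : H.relIndex (S : Subgroup G) = 2 := by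
    have h1 : H.relIndex (S : Subgroup G) ∣ 2 := by
      have h0 := Subgroup.relIndex_dvd_index_of_normal H (S : Subgroup G)
      rwa [hHidx] at h0
    have h2 : H.relIndex (S : Subgroup G) ≠ 1 := by
      rw [Ne, Subgroup.relIndex_eq_one]; intro hle; exact hbH (hle hb)
    rcases (Nat.dvd_prime Nat.prime_two).mp h1 with h | h
    · exact absurd h h2
    · exact h
  have hcardinf : Nat.card ↥(H ⊓ (S : Subgroup G)) = 2 ^ (k + 3) := by
    have h1 := card_eq_card_inf_mul_relIndex H (S : Subgroup G)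
    rw [hS, hHrel] at h1
    have h2 : (2 : ℕ) ^ (k + 3 + 1) = 2 ^ (k + 3) * 2 := pow_succ 2 (k + 3)
    rw [h2] at h1
    exact (Nat.eq_of_mul_eq_mul_right (by norm_num) h1).symm
  have hcardQ : Nat.card ↥((S : Subgroup G).subgroupOf H) = 2 ^ (k + 3) := by
    rw [← hcardinf, ← Subgroup.inf_subgroupOf_left]
    exact Nat.card_congr (Subgroup.subgroupOfEquivOfLe
      (inf_le_left : H ⊓ (S : Subgroup G) ≤ H)).toEquiv
  let Q : Sylow 2 ↥H := sylowInfNormal S H
  have hQcyc : IsCyclic ↥(Q : Subgroup ↥H) := by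
    have hcQ : (⟨c, hcH⟩ : ↥H) ∈ (Q : Subgroup ↥H) := by
      show (⟨c, hcH⟩ : ↥H) ∈ (S : Subgroup G).subgroupOf H
      rw [Subgroup.mem_subgroupOf]; exact hcS
    apply isCyclic_of_orderOf_eq_card (⟨⟨c, hcH⟩, hcQ⟩ : ↥(Q : Subgroup ↥H))
    have h1 : orderOf (⟨⟨c, hcH⟩, hcQ⟩ : ↥(Q : Subgroup ↥H)) = orderOf c := by
      rw [← Subgroup.orderOf_coe, ← Subgroup.orderOf_coe]
    rw [h1, hco]
    exact hcardQ.symm
  have hHcomp : Cfsg.HasNormalPComplement 2 ↥H := hasNormalPComplement_two_of_isCyclic Q hQcyc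
  exact hasNormalPComplement_of_normal_of_index_pow H 1 (by rw [hHidx, pow_one]) hHcomp

end Cfsg.Agent.S3178
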