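import Cfsg.Statements.S3179
import Cfsg.Agent.Helper19.GL5.Basic
import Cfsg.Agent.Helper19.GL5.SL28
import Cfsg.Agent.Helper19.SU3.Sylow
import Cfsg.Agent.S1163

set_option autoImplicit false
open Cfsg

namespace Cfsg.Agent.S3179

/-- Let X be a section of the general linear group GL(5, 2), that is, a quotient of a subgroup of it. If X is isomorphic to PSL(2, 2^n) for some n ≥ 2, to a Suzuki group over the field with 2^(2m+1) elements for some m ≥ 1, or to PSU(3, 2^n) for some n ≥ 2, then X is isomorphic to PSL(2, 4). -/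
theorem result {H : Subgroup (GL (Fin 5) (ZMod 2))}
    {K : Subgroup ↥H} [K.Normal]
    (hX : (∃ (n : ℕ) (F : Type) (_ : Field F) (_ : Fintype F), 2 ≤ n ∧ Fintype.card F = 2 ^ n ∧
        Nonempty (↥H ⧸ K ≃* Matrix.ProjectiveSpecialLinearGroup (Fin 2) F)) ∨
      (∃ (m : ℕ) (F : Type) (_ : Field F) (_ : Fintype F), 1 ≤ m ∧ Fintype.card F = 2 ^ (2 * m + 1) ∧
        Nonempty (↥H ⧸ K ≃* ↥(Cfsg.Lie.Sz F (2 ^ (m + 1))))) ∨
      (∃ (n : ℕ) (F : Type) (_ : Field F) (_ : Fintype F), 2 ≤ n ∧ Fintype.card F = 4 ^ n ∧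
        Nonempty (↥H ⧸ K ≃* Cfsg.PSU 3 F (2 ^ n)))) :
    ∃ (F : Type) (_ : Field F) (_ : Fintype F), Fintype.card F = 4 ∧
      Nonempty (↥H ⧸ K ≃* Matrix.ProjectiveSpecialLinearGroup (Fin 2) F) := by
  classical
  -- the order of a section divides the order of `GL₅(2)`
  have hdiv : Nat.card (↥H ⧸ K) ∣ 9999360 := by
    rw [← Cfsg.Agent.Helper19.GL5.card_GL52]
    refine dvd_trans ?_ (Subgroup.card_subgroup_dvd_card H)
    rw [Subgroup.card_eq_card_quotient_mul_card_subgroup K]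
    exact dvd_mul_right _ _
  have hpow : ∀ k : ℕ, 2 ^ k ∣ 9999360 → k ≤ 10 := by
    intro k hk
    have h1 : (9999360 : ℕ) = 2 ^ 10 * 9765 := by norm_num
    rw [h1] at hk
    have hcop : Nat.Coprime (2 ^ k) 9765 := Nat.Coprime.pow_left k (by norm_num)
    have := hcop.dvd_of_dvd_mul_right hk
    exact (Nat.pow_dvd_pow_iff_le_right (by norm_num)).mp this
  rcases hX with ⟨n, F, _, _, hn, hF, ⟨e⟩⟩ | ⟨m, F, _, _, hm, hF, ⟨e⟩⟩ | ⟨n, F, _, _, hn, hF, ⟨e⟩⟩
  · -- `PSL₂(2ⁿ)`
    have h2 : (2 : F) = 0 :=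
      Cfsg.Agent.Helper5.two_eq_zero_of_even_card (by rw [hF]; exact (Nat.even_pow.mpr ⟨even_two, by omega⟩))
    have hcard : Nat.card (Matrix.ProjectiveSpecialLinearGroup (Fin 2) F) =
        2 ^ n * ((2 ^ n) ^ 2 - 1) := by
      have := Cfsg.Agent.Helper5.card_PSL2_mul (F := F)
      rw [Cfsg.Agent.Helper5.card_center_SL2_of_two_eq_zero h2, mul_one, hF] at this
      exact this
    rw [Nat.card_congr e.toEquiv, hcard] at hdiv
    have hn10 : n ≤ 10 := hpow n (dvd_trans (dvd_mul_right _ _) hdiv)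
    interval_cases n
    · exact ⟨F, inferInstance, inferInstance, by rw [hF]; norm_num, ⟨e⟩⟩
    · -- `n = 3`: an element of order nine
      exfalso
      obtain ⟨x, hx⟩ := Cfsg.Agent.Helper19.GL5.exists_orderOf_nine (F := F) (by rw [hF]; norm_num)
      obtain ⟨h, hh⟩ := QuotientGroup.mk_surjective (e.symm x)
      have hx' : orderOf (e.symm x) = 9 := by rw [MulEquiv.orderOf_eq, hx]
      have hdvd : 9 ∣ orderOf h := by
        rw [← hx', ← hh]
        apply orderOf_dvd_of_pow_eq_one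
        rw [← QuotientGroup.mk_pow, pow_orderOf_eq_one, QuotientGroup.mk_one]
      have h0 : orderOf h ≠ 0 := (orderOf_pos h).ne'
      have h9 := orderOf_pow_orderOf_div h0 hdvd
      have h9' : orderOf ((h ^ (orderOf h / 9) : ↥H) : GL (Fin 5) (ZMod 2)) = 9 := by
        rw [Subgroup.orderOf_coe, h9]
      exact Cfsg.Agent.Helper19.GL5.orderOf_ne_nine _ h9'
    all_goals (exfalso; revert hdiv; norm_num)
  · -- Suzuki groups
    exfalso
    have hcard := (Cfsg.Agent.S1163.result hm hF).1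
    rw [Nat.card_congr e.toEquiv, hcard] at hdiv
    have h1 : 2 ^ (2 * (2 * m + 1)) ∣ 9999360 := by
      refine dvd_trans ?_ hdiv
      rw [pow_mul, mul_assoc, ← pow_mul, mul_comm 2 (2 * m + 1), pow_mul]
      exact dvd_mul_right _ _
    have hm2 : m ≤ 2 := by have := hpow _ h1; omega
    interval_cases m
    all_goals (revert hdiv; norm_num)
  · -- `PSU₃(2ⁿ)`
    exfalso
    have hF' : Fintype.card F = (2 ^ n) ^ 2 := by
      rw [hF, ← pow_mul, mul_comm, pow_mul]; norm_num
    have hfac := Cfsg.Agent.Helper19.SU3.factorization_PSU (by omega : 1 ≤ n) hF'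
    rw [Nat.card_congr e.toEquiv] at hdiv
    have h1 : 2 ^ (3 * n) ∣ 9999360 := by
      refine dvd_trans ?_ hdiv
      rw [← hfac]
      exact Nat.ordProj_dvd _ _
    have hn3 : n ≤ 3 := by have := hpow _ h1; omega
    have hP := Cfsg.Agent.Helper45.GU.card_PSU hF' 3 (by norm_num)
    interval_cases n
    · generalize Nat.card (Cfsg.PSU 3 F (2 ^ 2)) = N at hP hdiv
      norm_num [Finset.prod_range_succ] at hP
      have : N = 62400 := by omega
      rw [this] at hdiv
      revert hdiv; norm_num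
    · generalize Nat.card (Cfsg.PSU 3 F (2 ^ 3)) = N at hP hdiv
      norm_num [Finset.prod_range_succ] at hP
      have : N = 5515776 := by omega
      rw [this] at hdiv
      revert hdiv; norm_num

end Cfsg.Agent.S3179
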