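import Mathlib
import Cfsg.Statements.S3180
import Cfsg.Agent.Helper53.WeaklyClosed

set_option autoImplicit false
open Cfsg

namespace Cfsg.Agent.S3180

open Cfsg.Agent.Helper53
open scoped Pointwise

/-- Let P be a Sylow p-subgroup of a finite group J and P₁ a subgroup of P that is weakly closed in P with respect to J. If J acts on a set and two points, each fixed by every element of P₁, lie in one J-orbit, then they lie in one orbit of the normalizer of P₁ in J. -/
theorem result {J : Type*} [Group J] [Finite J]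
    {p : ℕ} [Fact p.Prime] (P : Sylow p J) (P₁ : Subgroup J) (hW : Cfsg.IsWeaklyClosed P₁ (P : Subgroup J))
    {Ω : Type*} [MulAction J Ω] (x y : Ω) (hx : ∀ g ∈ P₁, g • x = x) (hy : ∀ g ∈ P₁, g • y = y)
    (hc : ∃ g : J, g • x = y) :
    ∃ g ∈ Subgroup.normalizer (P₁ : Set J), g • x = y := by
  obtain ⟨g, hg⟩ := hc
  set K : Subgroup J := MulAction.stabilizer J y with hK
  have hP1K : P₁ ≤ K := fun w hw => MulAction.mem_stabilizer_iff.mpr (hy w hw)
  set Q : Subgroup J := P₁.map (MulAut.conj g).toMonoidHom with hQ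
  have hQK : Q ≤ K := by
    intro q hq
    rw [hQ, mem_map_conj] at hq
    rw [hK, MulAction.mem_stabilizer_iff]
    have h1 := hx _ hq
    -- (g⁻¹ * q * g) • x = x
    calc q • y = q • (g • x) := by rw [hg]
      _ = g • ((g⁻¹ * q * g) • x) := by simp only [smul_smul]; congr 1; group
      _ = g • x := by rw [h1]
      _ = y := hg
  have hP1p : IsPGroup p ↥P₁ := P.2.to_le hW.1
  have hQp : IsPGroup p ↥Q := hP1p.map _
  obtain ⟨R, hR⟩ := (hP1p.comap_subtype (K := K)).exists_le_sylow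
  obtain ⟨R', hR'⟩ := (hQp.comap_subtype (K := K)).exists_le_sylow
  obtain ⟨k, hk⟩ := MulAction.exists_smul_eq ↥K R' R
  have hRp : IsPGroup p ↥((R : Subgroup ↥K).map K.subtype) := R.2.map _
  obtain ⟨S, hS⟩ := hRp.exists_le_sylow
  have hP1S : P₁ ≤ (S : Subgroup J) := by
    intro w hw
    apply hS
    refine ⟨⟨w, hP1K hw⟩, hR ?_, rfl⟩
    exact hw
  have hWS := weaklyClosed_of_le_sylow P S P₁ hW hP1S
  have hconj : P₁.map (MulAut.conj ((k : J) * g)).toMonoidHom ≤ (S : Subgroup J) := by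
    intro z hz
    rw [mem_map_conj] at hz
    -- g (..) g⁻¹ ∈ Q
    have h1 : g * (((k : J) * g)⁻¹ * z * ((k : J) * g)) * g⁻¹ ∈ Q := conj_mem_map_conj hz
    have h2 : (⟨_, hQK h1⟩ : ↥K) ∈ (R' : Subgroup ↥K) := hR' h1
    have h3 : k * (⟨_, hQK h1⟩ : ↥K) * k⁻¹ ∈ (R : Subgroup ↥K) := by
      rw [← hk, Sylow.coe_subgroup_smul, mem_conj_smul]
      have : k⁻¹ * (k * (⟨_, hQK h1⟩ : ↥K) * k⁻¹) * k = (⟨_, hQK h1⟩ : ↥K) := by group
      rw [this]
      exact h2
    apply hS
    refine ⟨_, h3, ?_⟩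
    simp only [Subgroup.coe_subtype, Subgroup.coe_mul, Subgroup.coe_inv]
    group
  have heq := hWS.2 _ hconj
  refine ⟨(k : J) * g, mem_normalizer_of_map_conj_eq heq, ?_⟩
  rw [mul_smul, hg]
  exact MulAction.mem_stabilizer_iff.mp k.2

end Cfsg.Agent.S3180
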