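import Mathlib
import Cfsg.Statements.S3183
import Cfsg.Agent.Helper53.PGroup

set_option autoImplicit false
open Cfsg

namespace Cfsg.Agent.S3183

open Cfsg.Agent.Helper53
open scoped Pointwise

variable {G : Type*} [Group G] [Finite G]

omit [Finite G] in
lemma sylow_eq_of_le {p : ℕ} {S T : Sylow p G} (h : (S : Subgroup G) ≤ (T : Subgroup G)) : S = T := by
  have := S.3 T.2 h
  exact Sylow.ext this.symm

lemma inter_le_center
    (hCI : ∀ S T : Sylow 2 G, S ≠ T → ∃ U : Sylow 2 G,
      (S : Subgroup G) ⊓ (T : Subgroup G) ≤ (Subgroup.center ↥(U : Subgroup G)).map (U : Subgroup G).subtype) :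
    ∀ (k : ℕ) (S T : Sylow 2 G), S ≠ T →
      Nat.card ↥(S : Subgroup G) - Nat.card ↥((S : Subgroup G) ⊓ (T : Subgroup G)) = k →
      (S : Subgroup G) ⊓ (T : Subgroup G) ≤ (Subgroup.center ↥(S : Subgroup G)).map (S : Subgroup G).subtype := by
  have : Fact (Nat.Prime 2) := ⟨Nat.prime_two⟩
  intro k
  induction k using Nat.strong_induction_on with
  | _ k ih =>
    intro S T hST hk
    set D : Subgroup G := (S : Subgroup G) ⊓ (T : Subgroup G) with hD
    have hDS : D < (S : Subgroup G) := by
      refine lt_of_le_of_ne inf_le_left ?_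
      intro h
      apply hST
      apply sylow_eq_of_le
      rw [← h]
      exact inf_le_right
    obtain ⟨y, hyS, hyN, hyD⟩ := exists_normalizer_not_mem (S : Subgroup G) D S.2 hDS
    obtain ⟨U, hU⟩ := hCI S T hST
    set N := Subgroup.normalizer (D : Set G) with hN
    have hUN : (U : Subgroup G) ≤ N := by
      refine le_trans ?_ (Subgroup.centralizer_le_normalizer _)
      intro u hu
      rw [Subgroup.mem_centralizer_iff]
      intro d hd
      have := (mem_center_map.mp (hU hd)).2 u hu
      exact this.symm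
    have hB : IsPGroup 2 ↥((S : Subgroup G) ⊓ N) := S.2.to_le inf_le_left
    obtain ⟨n, hnN, hn⟩ := pgroup_le_conj_sylow_in U N hUN _ hB inf_le_right
    have hS₂ : ((n • U : Sylow 2 G) : Subgroup G) = MulAut.conj n • (U : Subgroup G) :=
      Sylow.coe_subgroup_smul
    have hDZ : D ≤ (Subgroup.center ↥((n • U : Sylow 2 G) : Subgroup G)).map
        ((n • U : Sylow 2 G) : Subgroup G).subtype := by
      have h1 : MulAut.conj n • D ≤ MulAut.conj n • ((Subgroup.center ↥(U : Subgroup G)).map (U : Subgroup G).subtype) :=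
        cj_le_iff.mpr hU
      rw [cj_eq_self_iff.mpr hnN, cj_center_map] at h1
      exact h1
    by_cases hSS₂ : (n • U : Sylow 2 G) = S
    · rw [hSS₂] at hDZ
      exact hDZ
    · have hle : (S : Subgroup G) ⊓ N ≤ (S : Subgroup G) ⊓ ((n • U : Sylow 2 G) : Subgroup G) := by
        apply le_inf inf_le_left
        rw [hS₂]
        exact hn
      have hDB : D ≤ (S : Subgroup G) ⊓ N := le_inf inf_le_left Subgroup.le_normalizer
      have hlt : D < (S : Subgroup G) ⊓ ((n • U : Sylow 2 G) : Subgroup G) := by
        refine lt_of_le_of_ne (hDB.trans hle) ?_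
        intro h
        apply hyD
        rw [h]
        exact hle ⟨hyS, hyN⟩
      have hc1 := card_lt_of_lt hlt
      have hc2 : Nat.card ↥((S : Subgroup G) ⊓ ((n • U : Sylow 2 G) : Subgroup G)) ≤ Nat.card ↥(S : Subgroup G) :=
        Subgroup.card_le_of_le inf_le_left
      have hm : Nat.card ↥(S : Subgroup G) - Nat.card ↥((S : Subgroup G) ⊓ ((n • U : Sylow 2 G) : Subgroup G)) < k := by
        omega
      have := ih _ hm S (n • U) (Ne.symm hSS₂) rfl
      exact (hDB.trans hle).trans this

/-- Let G be a finite group in which the intersection of any two distinct Sylow 2-subgroups is contained in the centre of some Sylow 2-subgroup, and let S be a Sylow 2-subgroup. Then for every x in S the centralizer of x in S is a Sylow 2-subgroup of the centralizer of x in G (no 2-subgroup centralizing x is larger), and for every other Sylow 2-subgroup T the intersection S ∩ T lies in both the centre of S and the centre of T. -/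
theorem result {G : Type*} [Group G] [Finite G]
    (hCI : ∀ S T : Sylow 2 G, S ≠ T → ∃ U : Sylow 2 G,
      (S : Subgroup G) ⊓ (T : Subgroup G) ≤ (Subgroup.center ↥(U : Subgroup G)).map (U : Subgroup G).subtype)
    (S : Sylow 2 G) :
    (∀ x ∈ (S : Subgroup G), ∀ P : Subgroup G, IsPGroup 2 ↥P → P ≤ Subgroup.centralizer ({x} : Set G) →
        Nat.card ↥P ≤ Nat.card ↥((S : Subgroup G) ⊓ Subgroup.centralizer ({x} : Set G))) ∧
    (∀ T : Sylow 2 G, T ≠ S →
        (S : Subgroup G) ⊓ (T : Subgroup G) ≤
          (Subgroup.center ↥(S : Subgroup G)).map (S : Subgroup G).subtype ⊓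
            (Subgroup.center ↥(T : Subgroup G)).map (T : Subgroup G).subtype) := by
  have : Fact (Nat.Prime 2) := ⟨Nat.prime_two⟩
  have part2 : ∀ S T : Sylow 2 G, S ≠ T →
      (S : Subgroup G) ⊓ (T : Subgroup G) ≤ (Subgroup.center ↥(S : Subgroup G)).map (S : Subgroup G).subtype :=
    fun S T h => inter_le_center hCI _ S T h rfl
  refine ⟨?_, ?_⟩
  · intro x hxS P hP hPC
    set C := Subgroup.centralizer ({x} : Set G) with hC
    have hxC : x ∈ C := by
      rw [hC, Subgroup.mem_centralizer_iff]
      intro y hy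
      rw [Set.mem_singleton_iff] at hy
      rw [hy]
    have hSCp : IsPGroup 2 ↥((S : Subgroup G) ⊓ C) := S.2.to_le inf_le_left
    obtain ⟨R, hR⟩ := (hSCp.comap_subtype (K := C)).exists_le_sylow
    have hR₀p : IsPGroup 2 ↥((R : Subgroup ↥C).map C.subtype) := R.2.map _
    obtain ⟨T, hT⟩ := hR₀p.exists_le_sylow
    have hSCR : (S : Subgroup G) ⊓ C ≤ (R : Subgroup ↥C).map C.subtype := by
      intro z hz
      exact ⟨⟨z, hz.2⟩, hR hz, rfl⟩
    have hTS : T = S := by
      by_contra hne
      have h1 := part2 S T (Ne.symm hne)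
      have hxT : x ∈ (T : Subgroup G) := hT (hSCR ⟨hxS, hxC⟩)
      have hxZ := mem_center_map.mp (h1 ⟨hxS, hxT⟩)
      have hSC : (S : Subgroup G) ≤ C := by
        intro s hs
        rw [hC, Subgroup.mem_centralizer_iff]
        intro y hy
        rw [Set.mem_singleton_iff] at hy
        rw [hy]
        exact (hxZ.2 s hs).symm
      apply hne
      symm
      apply sylow_eq_of_le
      exact (le_inf le_rfl hSC).trans (hSCR.trans hT)
    have hR₀ : (R : Subgroup ↥C).map C.subtype ≤ (S : Subgroup G) ⊓ C := by
      apply le_inf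
      · rw [← hTS]; exact hT
      · exact Subgroup.map_subtype_le _
    -- now compare cardinalities
    obtain ⟨Q, hQ⟩ := (hP.comap_subtype (K := C)).exists_le_sylow
    have hcardQR : Nat.card ↥(Q : Subgroup ↥C) = Nat.card ↥(R : Subgroup ↥C) := by
      rw [Sylow.card_eq_multiplicity, Sylow.card_eq_multiplicity]
    calc Nat.card ↥P = Nat.card ↥(P.subgroupOf C) :=
          (Nat.card_congr (Subgroup.subgroupOfEquivOfLe hPC).toEquiv).symm
      _ ≤ Nat.card ↥(Q : Subgroup ↥C) := Subgroup.card_le_of_le hQ
      _ = Nat.card ↥(R : Subgroup ↥C) := hcardQR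
      _ = Nat.card ↥((R : Subgroup ↥C).map C.subtype) :=
          Nat.card_congr ((R : Subgroup ↥C).equivMapOfInjective C.subtype (Subgroup.subtype_injective C)).toEquiv
      _ ≤ Nat.card ↥((S : Subgroup G) ⊓ C) := Subgroup.card_le_of_le hR₀
  · intro T hTS
    apply le_inf
    · exact part2 S T (Ne.symm hTS)
    · rw [inf_comm]
      exact part2 T S hTS

end Cfsg.Agent.S3183
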