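import Mathlib
import Cfsg.Statements.S3190
import Cfsg.Agent.Helper53.Conj
import Cfsg.Agent.Helper53.PGroup

set_option autoImplicit false
open Cfsg

namespace Cfsg.Agent.S3190

open Cfsg.Agent.Helper53

/-- Let p be an odd prime and, inside a finite group, let P be a p-subgroup normalized by a Klein four-group T. Let R be a subgroup of P, normal in P and normalized by T, such that P is the product of R with the centralizer of T in P. If T centralizes the centre of P, then T centralizes the centre of R. -/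
theorem result {X : Type*} [Group X] [Finite X]
    {p : ℕ} (hp : p.Prime) (hodd : Odd p) (P T R : Subgroup X) (hP : IsPGroup p ↥P) (hT : IsKleinFour ↥T)
    (hTP : T ≤ Subgroup.normalizer (P : Set X)) (hRP : R ≤ P) (hRn : (R.subgroupOf P).Normal)
    (hTR : T ≤ Subgroup.normalizer (R : Set X)) (hfac : R ⊔ (P ⊓ Subgroup.centralizer (T : Set X)) = P)
    (hZ : T ≤ Subgroup.centralizer (((Subgroup.center ↥P).map P.subtype : Subgroup X) : Set X)) :
    T ≤ Subgroup.centralizer (((Subgroup.center ↥R).map R.subtype : Subgroup X) : Set X) := by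
  have : Fact p.Prime := ⟨hp⟩
  set W : Subgroup X := (Subgroup.center ↥R).map R.subtype with hW
  have hPR : P ≤ Subgroup.normalizer (R : Set X) :=
    (Subgroup.normal_subgroupOf_iff_le_normalizer hRP).mp hRn
  have hNW : Subgroup.normalizer (R : Set X) ≤ Subgroup.normalizer (W : Set X) :=
    char_map_normalizer_le R (Subgroup.center ↥R) Subgroup.centerCharacteristic
  have hPW : P ≤ Subgroup.normalizer (W : Set X) := hPR.trans hNW
  have hTW : T ≤ Subgroup.normalizer (W : Set X) := hTR.trans hNW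
  have hWR : W ≤ R := Subgroup.map_subtype_le _
  have hWP : W ≤ P := hWR.trans hRP
  -- elements of R commute with elements of W
  have hRW : ∀ r ∈ R, ∀ w ∈ W, r * w = w * r := fun r hr w hw => (mem_center_map.mp hw).2 r hr
  have hWcomm : ∀ w₁ ∈ W, ∀ w₂ ∈ W, w₁ * w₂ = w₂ * w₁ := fun w₁ h₁ w₂ h₂ => hRW w₁ (hWR h₁) w₂ h₂
  intro t ht
  have ht2 : t * t = 1 := by
    have h1 : (⟨t, ht⟩ : ↥T) ^ Monoid.exponent ↥T = 1 := Monoid.pow_exponent_eq_one _
    rw [hT.exponent_two] at h1
    have h2 := congrArg Subtype.val h1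
    simpa [sq] using h2
  have htinv : t⁻¹ = t := by
    rw [inv_eq_iff_mul_eq_one]; exact ht2
  -- conjugation by t preserves W
  have htW : ∀ w ∈ W, t * w * t⁻¹ ∈ W := fun w hw =>
    (Subgroup.mem_normalizer_iff.mp (hTW ht) w).mp hw
  -- the subgroup of elements of W inverted by t
  let K : Subgroup X :=
    { carrier := {w | w ∈ W ∧ t * w * t⁻¹ = w⁻¹}
      one_mem' := ⟨W.one_mem, by simp⟩
      mul_mem' := by
        rintro a b ⟨ha, ha'⟩ ⟨hb, hb'⟩
        refine ⟨W.mul_mem ha hb, ?_⟩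
        have e : t * (a * b) * t⁻¹ = (t * a * t⁻¹) * (t * b * t⁻¹) := by group
        rw [e, ha', hb', mul_inv_rev]
        exact hWcomm _ (W.inv_mem ha) _ (W.inv_mem hb)
      inv_mem' := by
        rintro a ⟨ha, ha'⟩
        refine ⟨W.inv_mem ha, ?_⟩
        have e : t * a⁻¹ * t⁻¹ = (t * a * t⁻¹)⁻¹ := by group
        rw [e, ha'] }
  have hKmem : ∀ w, w ∈ K ↔ w ∈ W ∧ t * w * t⁻¹ = w⁻¹ := fun w => Iff.rfl
  have hKW : K ≤ W := fun w hw => ((hKmem w).mp hw).1
  -- P normalizes K
  have hRK : R ≤ Subgroup.normalizer (K : Set X) := by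
    apply le_normalizer_of_conj_mem
    intro r hr k hk
    have : r * k * r⁻¹ = k := by
      rw [hRW r hr k (hKW hk)]; group
    rw [this]; exact hk
  have hCK : P ⊓ Subgroup.centralizer (T : Set X) ≤ Subgroup.normalizer (K : Set X) := by
    apply le_normalizer_of_conj_mem
    rintro c ⟨hcP, hcT⟩ k hk
    obtain ⟨hkW, hkt⟩ := (hKmem k).mp hk
    rw [hKmem]
    refine ⟨(Subgroup.mem_normalizer_iff.mp (hPW hcP) k).mp hkW, ?_⟩
    have hct : t * c = c * t := Subgroup.mem_centralizer_iff.mp hcT t ht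
    have hct' : t * c * t⁻¹ = c := by rw [hct]; group
    calc t * (c * k * c⁻¹) * t⁻¹ = (t * c * t⁻¹) * (t * k * t⁻¹) * (t * c * t⁻¹)⁻¹ := by group
      _ = c * k⁻¹ * c⁻¹ := by rw [hct', hkt]
      _ = (c * k * c⁻¹)⁻¹ := by group
  have hPK : P ≤ Subgroup.normalizer (K : Set X) := by
    rw [← hfac]
    exact sup_le hRK hCK
  -- K is trivial
  have hKbot : K = ⊥ := by
    by_contra hne
    obtain ⟨b, hbK, hb1, hbc⟩ := exists_central_of_normalized P K hP (hKW.trans hWP) hPK hne
    obtain ⟨hbW, hbt⟩ := (hKmem b).mp hbK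
    have hbZ : b ∈ (Subgroup.center ↥P).map P.subtype :=
      mem_center_map.mpr ⟨hWP hbW, hbc⟩
    have h1 : b * t = t * b := Subgroup.mem_centralizer_iff.mp (hZ ht) b hbZ
    have h2 : t * b * t⁻¹ = b := by rw [← h1]; group
    rw [h2] at hbt
    -- b = b⁻¹, so b ^ 2 = 1
    have hb2 : b ^ 2 = 1 := by
      rw [sq]
      nth_rewrite 1 [hbt]
      exact inv_mul_cancel b
    obtain ⟨k, hk⟩ := hP ⟨b, hWP hbW⟩
    have hk' : b ^ (p ^ k) = 1 := by
      have := congrArg Subtype.val hk
      simpa using this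
    have hcop : Nat.Coprime (p ^ k) 2 := by
      apply Nat.Coprime.pow_left
      exact hodd.coprime_two_right
    have hord1 : orderOf b ∣ p ^ k := orderOf_dvd_of_pow_eq_one hk'
    have hord2 : orderOf b ∣ 2 := orderOf_dvd_of_pow_eq_one hb2
    have : orderOf b = 1 := Nat.eq_one_of_dvd_coprimes hcop hord1 hord2
    exact hb1 (orderOf_eq_one_iff.mp this)
  -- conclude
  rw [Subgroup.mem_centralizer_iff]
  intro w hw
  have hu : w⁻¹ * (t * w * t⁻¹) ∈ K := by
    rw [hKmem]
    refine ⟨W.mul_mem (W.inv_mem hw) (htW w hw), ?_⟩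
    have e1 : t * (w⁻¹ * (t * w * t⁻¹)) * t⁻¹ = (t * w * t⁻¹)⁻¹ * ((t * t) * w * (t * t)⁻¹) := by group
    rw [e1, ht2]
    group
  rw [hKbot, Subgroup.mem_bot] at hu
  have h3 : t * w * t⁻¹ = w := by
    have := congrArg (fun z => w * z) hu
    simpa using this
  calc w * t = (t * w * t⁻¹) * t := by rw [h3]
    _ = t * w := by group

end Cfsg.Agent.S3190
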