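import Mathlib
import Cfsg.Statements.S3196
import Cfsg.Agent.Helper53.Shult5

set_option autoImplicit false
open Cfsg

namespace Cfsg.Agent.S3196

open Cfsg.Agent.Helper53

variable {G : Type*} [Group G]

/-- a non-identity element of a subgroup of prime order generates it -/
lemma zpowers_eq_of_card_prime [Finite G] {p : ℕ} (hp : p.Prime) {X : Subgroup G}
    (hX : Nat.card ↥X = p) {g : G} (hg : g ∈ X) (h1 : g ≠ 1) : Subgroup.zpowers g = X := by
  have hle : Subgroup.zpowers g ≤ X := (Subgroup.zpowers_le).mpr hg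
  apply Subgroup.eq_of_le_of_card_ge hle
  rw [Nat.card_zpowers, hX]
  have hdvd : orderOf g ∣ p := hX ▸ Subgroup.orderOf_dvd_natCard X hg
  rcases (Nat.dvd_prime hp).mp hdvd with h | h
  · exact absurd (orderOf_eq_one_iff.mp h) h1
  · exact h.ge

lemma exists_ne_one_of_card_prime {p : ℕ} (hp : p.Prime) {X : Subgroup G}
    (hX : Nat.card ↥X = p) : ∃ g ∈ X, g ≠ 1 := by
  have hne : X ≠ ⊥ := by
    intro h
    rw [h, Subgroup.card_bot] at hX
    exact hp.one_lt.ne hX
  obtain ⟨g, hg⟩ := (Subgroup.ne_bot_iff_exists_ne_one).mp hne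
  exact ⟨(g : G), g.2, fun h0 => hg (Subtype.ext h0)⟩

/-- elements of the join of two commuting cyclic groups -/
lemma exists_pow_mul_pow_of_mem_sup [Finite G] {x y e : G} (hxy : Commute x y)
    (he : e ∈ Subgroup.zpowers x ⊔ Subgroup.zpowers y) : ∃ i j : ℕ, e = x ^ i * y ^ j := by
  have key : ∃ i j : ℤ, e = x ^ i * y ^ j := by
    rw [Subgroup.sup_eq_closure] at he
    induction he using Subgroup.closure_induction with
    | mem a ha =>
      rcases ha with ha | ha
      · obtain ⟨i, rfl⟩ := Subgroup.mem_zpowers_iff.mp ha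
        exact ⟨i, 0, by simp⟩
      · obtain ⟨j, rfl⟩ := Subgroup.mem_zpowers_iff.mp ha
        exact ⟨0, j, by simp⟩
    | one => exact ⟨0, 0, by simp⟩
    | mul a b _ _ h1 h2 =>
      obtain ⟨i, j, rfl⟩ := h1
      obtain ⟨k, l, rfl⟩ := h2
      refine ⟨i + k, j + l, ?_⟩
      rw [zpow_add, zpow_add]
      have hc : Commute (y ^ j) (x ^ k) := (hxy.symm.zpow_left j).zpow_right k
      calc x ^ i * y ^ j * (x ^ k * y ^ l) = x ^ i * (y ^ j * x ^ k) * y ^ l := by group
        _ = x ^ i * (x ^ k * y ^ j) * y ^ l := by rw [hc.eq]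
        _ = x ^ i * x ^ k * (y ^ j * y ^ l) := by group
    | inv a _ h =>
      obtain ⟨i, j, rfl⟩ := h
      refine ⟨-i, -j, ?_⟩
      have hc : Commute (y ^ (-j)) (x ^ (-i)) := (hxy.symm.zpow_left _).zpow_right _
      rw [mul_inv_rev, ← zpow_neg, ← zpow_neg, hc.eq]
  obtain ⟨i, j, rfl⟩ := key
  obtain ⟨i', hi'⟩ := (isOfFinOrder_of_finite x).mem_powers_iff_mem_zpowers.mpr
    (Subgroup.zpow_mem_zpowers x i)
  obtain ⟨j', hj'⟩ := (isOfFinOrder_of_finite y).mem_powers_iff_mem_zpowers.mpr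
    (Subgroup.zpow_mem_zpowers y j)
  have hi'' : x ^ i' = x ^ i := hi'
  have hj'' : y ^ j' = y ^ j := hj'
  exact ⟨i', j', by rw [hi'', hj'']⟩

/-- Let p be a prime and K a set of subgroups of order p of a finite group G, closed under conjugation, such that at least two distinct members of K commute elementwise, and whenever two distinct members X, Y of K commute: every subgroup of order p of the group XY they generate belongs to K, and every member W of K has centralizer meeting XY nontrivially. Then some member V of K commutes elementwise with every member of K and lies in O_p(G); in particular G is not simple. -/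
theorem result {G : Type*} [Group G] [Finite G]
    {p : ℕ} (hp : p.Prime) (K : Set (Subgroup G)) (hK : ∀ X ∈ K, Nat.card ↥X = p)
    (hKc : ∀ X ∈ K, ∀ g : G, X.map (MulAut.conj g).toMonoidHom ∈ K)
    (hex : ∃ X ∈ K, ∃ Y ∈ K, X ≠ Y ∧ ∀ x ∈ X, ∀ y ∈ Y, x * y = y * x)
    (ha : ∀ X ∈ K, ∀ Y ∈ K, X ≠ Y → (∀ x ∈ X, ∀ y ∈ Y, x * y = y * x) →
      ∀ Z : Subgroup G, Z ≤ X ⊔ Y → Nat.card ↥Z = p → Z ∈ K)
    (hb : ∀ X ∈ K, ∀ Y ∈ K, X ≠ Y → (∀ x ∈ X, ∀ y ∈ Y, x * y = y * x) →
      ∀ W ∈ K, (X ⊔ Y) ⊓ Subgroup.centralizer (W : Set G) ≠ ⊥) :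
    (∃ V ∈ K, (∀ W ∈ K, ∀ v ∈ V, ∀ w ∈ W, v * w = w * v) ∧ V ≤ Cfsg.pCore p G) ∧ ¬ IsSimpleGroup G := by
  have : Fact p.Prime := ⟨hp⟩
  set Kh : Set G := {g : G | g ≠ 1 ∧ Subgroup.zpowers g ∈ K} with hKh
  -- basic facts
  have hord : ∀ g ∈ Kh, orderOf g = p := by
    rintro g ⟨-, hg⟩
    rw [← Nat.card_zpowers]; exact hK _ hg
  have hcomm_zp : ∀ x y : G, Commute x y → ∀ a ∈ Subgroup.zpowers x, ∀ b ∈ Subgroup.zpowers y,
      a * b = b * a := by
    intro x y hxy a ha b hb
    obtain ⟨i, rfl⟩ := Subgroup.mem_zpowers_iff.mp ha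
    obtain ⟨j, rfl⟩ := Subgroup.mem_zpowers_iff.mp hb
    exact ((hxy.zpow_left i).zpow_right j).eq
  have hne_zp : ∀ x ∈ Kh, ∀ y : G, y ∉ Subgroup.zpowers x → Subgroup.zpowers x ≠ Subgroup.zpowers y := by
    intro x _ y hy h
    apply hy
    rw [h]; exact Subgroup.mem_zpowers y
  have hSh : ShultSet p Kh := by
    refine ⟨fun g hg => hg.1, ?_, ?_, ?_, ?_, ?_⟩
    · intro g hg
      rw [← hord g hg]; exact pow_orderOf_eq_one g
    · rintro g ⟨hg1, hgK⟩ h
      refine ⟨fun h0 => hg1 (conj_eq_one_iff.mp h0), ?_⟩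
      have := hKc _ hgK h
      rw [MonoidHom.map_zpowers] at this
      exact this
    · rintro g ⟨hg1, hgK⟩ i hi
      refine ⟨hi, ?_⟩
      rw [zpowers_eq_of_card_prime hp (hK _ hgK) (Subgroup.npow_mem_zpowers g i) hi]
      exact hgK
    · intro x hx y hy hxy hyx i j hne
      refine ⟨hne, ?_⟩
      apply ha _ hx.2 _ hy.2 (hne_zp x hx y hyx) (hcomm_zp x y hxy)
      · rw [Subgroup.zpowers_le]
        exact Subgroup.mul_mem _ (Subgroup.mem_sup_left (Subgroup.npow_mem_zpowers x i))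
          (Subgroup.mem_sup_right (Subgroup.npow_mem_zpowers y j))
      · rw [Nat.card_zpowers]
        apply orderOf_eq_prime _ hne
        rw [(hxy.pow_pow i j).mul_pow, ← pow_mul, ← pow_mul, mul_comm i, mul_comm j, pow_mul,
          pow_mul, ← hord x hx, pow_orderOf_eq_one, hord x hx, ← hord y hy, pow_orderOf_eq_one,
          one_pow, one_pow, one_mul]
    · intro x hx y hy hxy hyx w hw
      have h1 := hb _ hx.2 _ hy.2 (hne_zp x hx y hyx) (hcomm_zp x y hxy) _ hw.2
      obtain ⟨e, he⟩ := (Subgroup.ne_bot_iff_exists_ne_one).mp h1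
      have he1 : (e : G) ≠ 1 := fun h0 => he (Subtype.ext h0)
      obtain ⟨hesup, hecen⟩ := e.2
      obtain ⟨i, j, hij⟩ := exists_pow_mul_pow_of_mem_sup hxy hesup
      refine ⟨i, j, hij ▸ he1, ?_⟩
      rw [← hij]
      have := Subgroup.mem_centralizer_iff.mp hecen w (Subgroup.mem_zpowers w)
      exact this
  -- translate the existence of a line
  have hex' : ∃ x ∈ Kh, ∃ y ∈ Kh, Commute x y ∧ y ∉ Subgroup.zpowers x := by
    obtain ⟨X, hX, Y, hY, hXY, hc⟩ := hex
    obtain ⟨x, hxX, hx1⟩ := exists_ne_one_of_card_prime hp (hK X hX)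
    obtain ⟨y, hyY, hy1⟩ := exists_ne_one_of_card_prime hp (hK Y hY)
    have hzx := zpowers_eq_of_card_prime hp (hK X hX) hxX hx1
    have hzy := zpowers_eq_of_card_prime hp (hK Y hY) hyY hy1
    refine ⟨x, ⟨hx1, hzx ▸ hX⟩, y, ⟨hy1, hzy ▸ hY⟩, hc x hxX y hyY, ?_⟩
    intro h
    apply hXY
    rw [hzx] at h
    rw [← hzy]
    exact (zpowers_eq_of_card_prime hp (hK X hX) h hy1).symm
  obtain ⟨v, hv, hvrad⟩ := hSh.exists_radical hex'
  set V := Subgroup.zpowers v with hV
  have hVK : V ∈ K := hv.2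
  have hVcomm : ∀ W ∈ K, ∀ a ∈ V, ∀ w ∈ W, a * w = w * a := by
    intro W hW a ha w hw
    obtain ⟨w0, hw0W, hw01⟩ := exists_ne_one_of_card_prime hp (hK W hW)
    have hzw := zpowers_eq_of_card_prime hp (hK W hW) hw0W hw01
    have hw0K : w0 ∈ Kh := ⟨hw01, hzw ▸ hW⟩
    exact hcomm_zp v w0 (hvrad w0 hw0K) a ha w (hzw ▸ hw)
  have hVp : IsPGroup p ↥V := by
    apply IsPGroup.of_card (n := 1)
    rw [hK V hVK, pow_one]
  have hVcore : V ≤ Cfsg.pCore p G := by
    obtain ⟨N, hNn, hNp, hVN⟩ := Cfsg.Agent.S0199.result V hVp (by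
      intro g
      have hVg : V.map (MulAut.conj g).toMonoidHom ∈ K := hKc V hVK g
      have hVgp : IsPGroup p ↥(V.map (MulAut.conj g).toMonoidHom) := hVp.map _
      apply hVp.to_sup_of_normal_right' hVgp
      apply le_trans _ (Subgroup.centralizer_le_normalizer _)
      intro a ha
      rw [Subgroup.mem_centralizer_iff]
      intro w hw
      exact (hVcomm _ hVg a ha w hw).symm)
    exact (Cfsg.Agent.Lib.le_pCore hNn hNp).trans' hVN
  refine ⟨⟨V, hVK, hVcomm, hVcore⟩, ?_⟩
  intro hsimple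
  have hVne : V ≠ ⊥ := by
    intro h
    have := hK V hVK
    rw [h, Subgroup.card_bot] at this
    exact hp.one_lt.ne this
  have hPn : (Cfsg.pCore p G).Normal := by
    have := Cfsg.Agent.Lib.pCore_characteristic (G := G) p
    infer_instance
  have hPtop : Cfsg.pCore p G = ⊤ := by
    rcases hPn.eq_bot_or_eq_top with h | h
    · exfalso
      apply hVne
      rw [eq_bot_iff, ← h]; exact hVcore
    · exact h
  have hGp : IsPGroup p G := by
    have h1 := Cfsg.Agent.Lib.isPGroup_pCore (G := G) p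
    rw [hPtop] at h1
    exact h1.of_equiv Subgroup.topEquiv
  have hcen : Subgroup.center G = ⊤ := by
    have : Nontrivial (Subgroup.center G) := hGp.center_nontrivial
    rcases (inferInstance : (Subgroup.center G).Normal).eq_bot_or_eq_top with h | h
    · exfalso
      have h2 := (Subgroup.nontrivial_iff_ne_bot (Subgroup.center G)).mp this
      exact h2 h
    · exact h
  have hall : ∀ X ∈ K, X = ⊤ := by
    intro X hX
    have hXn : X.Normal := by
      constructor
      intro n hn g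
      have hg : g ∈ Subgroup.center G := by rw [hcen]; exact Subgroup.mem_top g
      have : g * n * g⁻¹ = n := by
        rw [(Subgroup.mem_center_iff.mp hg n).symm, mul_inv_cancel_right]
      rw [this]; exact hn
    rcases hXn.eq_bot_or_eq_top with h | h
    · exfalso
      have := hK X hX
      rw [h, Subgroup.card_bot] at this
      exact hp.one_lt.ne this
    · exact h
  obtain ⟨X, hX, Y, hY, hXY, -⟩ := hex
  exact hXY ((hall X hX).trans (hall Y hY).symm)

end Cfsg.Agent.S3196
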