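import Mathlib
import Cfsg.Statements.S3201
import Cfsg.Agent.Helper73.PGroupCyclic
import Cfsg.Agent.Helper63.Frattini

set_option autoImplicit false
open Cfsg

namespace Cfsg.Agent.S3201

section Lift

variable {S : Type*} [Group S]

theorem conj_zpow_of_conj_inv {a b : S} (hconj : b * a * b⁻¹ = a⁻¹) (k : ℤ) :
    b * a ^ k = a ^ (-k) * b := by
  have h : b * a ^ k * b⁻¹ = a ^ (-k) := by
    rw [← conj_zpow, hconj, inv_zpow, zpow_neg]
  rw [← h]; group

/-- the subgroup `⟨a⟩ ∪ ⟨a⟩ b` -/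
def liftQ (a b : S) (N : ℕ) (hconj : b * a * b⁻¹ = a⁻¹) (h1 : a ^ N = b ^ 2) (h3 : b ^ 4 = 1) :
    Subgroup S where
  carrier := {x | ∃ i : ℤ, x = a ^ i ∨ x = a ^ i * b}
  one_mem' := ⟨0, Or.inl (by simp)⟩
  mul_mem' := by
    rintro x y ⟨i, hx | hx⟩ ⟨j, hy | hy⟩
    · exact ⟨i + j, Or.inl (by rw [hx, hy, zpow_add])⟩
    · exact ⟨i + j, Or.inr (by rw [hx, hy, zpow_add, mul_assoc])⟩
    · refine ⟨i - j, Or.inr ?_⟩
      rw [hx, hy, mul_assoc, conj_zpow_of_conj_inv hconj, ← mul_assoc, ← zpow_add, sub_eq_add_neg]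
    · refine ⟨i - j + N, Or.inl ?_⟩
      have hbb : b * b = a ^ (N : ℤ) := by rw [zpow_natCast, h1, sq]
      calc x * y = a ^ i * (b * a ^ j) * b := by rw [hx, hy]; group
        _ = a ^ i * (a ^ (-j) * b) * b := by rw [conj_zpow_of_conj_inv hconj]
        _ = a ^ i * a ^ (-j) * (b * b) := by group
        _ = a ^ (i - j + N) := by rw [hbb, ← zpow_add, ← zpow_add, sub_eq_add_neg]
  inv_mem' := by
    rintro x ⟨i, hx | hx⟩
    · exact ⟨-i, Or.inl (by rw [hx, zpow_neg])⟩
    · refine ⟨N + i, Or.inr ?_⟩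
      have hbinv : b⁻¹ = a ^ (N : ℤ) * b := by
        apply inv_eq_of_mul_eq_one_right
        rw [zpow_natCast, h1]
        calc b * (b ^ 2 * b) = b ^ 4 := by group
          _ = 1 := h3
      calc x⁻¹ = b⁻¹ * a ^ (-i) := by rw [hx, mul_inv_rev, zpow_neg]
        _ = a ^ (N : ℤ) * (b * a ^ (-i)) := by rw [hbinv, mul_assoc]
        _ = a ^ (N : ℤ) * (a ^ (- -i) * b) := by rw [conj_zpow_of_conj_inv hconj]
        _ = a ^ (N + i) * b := by rw [neg_neg, ← mul_assoc, ← zpow_add]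

theorem a_one_zpow {N : ℕ} (i : ℤ) :
    ∃ j : ZMod (2 * N), (QuaternionGroup.a 1 : QuaternionGroup N) ^ i = QuaternionGroup.a j := by
  cases i with
  | ofNat k => exact ⟨k, by rw [Int.ofNat_eq_natCast, zpow_natCast, QuaternionGroup.a_one_pow]⟩
  | negSucc k =>
    refine ⟨-((k + 1 : ℕ) : ZMod (2 * N)), ?_⟩
    rw [zpow_negSucc, QuaternionGroup.a_one_pow]
    rfl

theorem exists_complement_of_lift {N : ℕ} [NeZero N]
    (f : S →* QuaternionGroup N) (a b : S)
    (hfa : f a = QuaternionGroup.a 1) (hfb : f b = QuaternionGroup.xa 0)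
    (h1 : a ^ N = b ^ 2) (h2 : (b * a) ^ 2 = b ^ 2) (h3 : b ^ 4 = 1) :
    ∃ Q : Subgroup S, Q ⊓ f.ker = ⊥ ∧ (∀ s : S, ∃ q ∈ Q, f q = f s) ∧ b ^ 2 ∈ Q := by
  have hconj : b * a * b⁻¹ = a⁻¹ := by
    have h : b * a * (b * a) = b * b := by rw [← sq, h2, sq]
    have h' : a * b * a = b := by
      have : b * (a * b * a) = b * b := by rw [← h]; group
      exact mul_left_cancel this
    calc b * a * b⁻¹ = a⁻¹ * (a * b * a) * b⁻¹ := by group
      _ = a⁻¹ * b * b⁻¹ := by rw [h']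
      _ = a⁻¹ := by group
  have ha2N : a ^ (2 * N) = 1 := by
    rw [mul_comm, pow_mul, h1, ← pow_mul]; exact h3
  refine ⟨liftQ a b N hconj h1 h3, ?_, ?_, ?_⟩
  · rw [eq_bot_iff]
    rintro x ⟨⟨i, hx | hx⟩, hker⟩
    · have hk : f x = 1 := MonoidHom.mem_ker.mp hker
      rw [hx, map_zpow, hfa] at hk
      have hdvd := (orderOf_dvd_iff_zpow_eq_one).mpr hk
      rw [QuaternionGroup.orderOf_a_one] at hdvd
      obtain ⟨k, hk'⟩ := hdvd
      rw [Subgroup.mem_bot, hx, hk', zpow_mul, zpow_natCast, ha2N, one_zpow]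
    · exfalso
      have hk : f x = 1 := MonoidHom.mem_ker.mp hker
      rw [hx, map_mul, map_zpow, hfa, hfb] at hk
      obtain ⟨j, hj⟩ := a_one_zpow (N := N) i
      rw [hj, QuaternionGroup.a_mul_xa, QuaternionGroup.one_def] at hk
      cases hk
  · intro s
    cases hs : f s with
    | a j =>
      refine ⟨a ^ j.val, ⟨(j.val : ℤ), Or.inl (zpow_natCast a _).symm⟩, ?_⟩
      rw [map_pow, hfa, QuaternionGroup.a_one_pow, ZMod.natCast_zmod_val]
    | xa j =>
      refine ⟨a ^ (-j).val * b, ⟨((-j).val : ℤ), Or.inr (by rw [zpow_natCast])⟩, ?_⟩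
      rw [map_mul, map_pow, hfa, hfb, QuaternionGroup.a_one_pow, ZMod.natCast_zmod_val,
        QuaternionGroup.a_mul_xa]
      congr 1
      ring
  · exact ⟨(N : ℤ), Or.inl (by rw [zpow_natCast, h1])⟩

end Lift

section Center

variable {S : Type*} [Group S]

theorem center_of_unique_inv (K : Subgroup S) [K.Normal] (hK : K ≤ Subgroup.center S)
    (z0 : S) (hz0 : z0 ∈ Subgroup.center S) (hz0K : z0 ∉ K)
    (hexp : ∀ z ∈ Subgroup.center S, z ^ 2 = 1)
    (hu : ∃! x : S ⧸ K, orderOf x = 2) :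
    (∀ y : S, orderOf (y : S ⧸ K) = 2 → y ∈ Subgroup.center S) ∧
    (∀ x : S, x ^ 2 ∈ K → x ∈ Subgroup.center S) := by
  obtain ⟨u, hu2, huniq⟩ := hu
  have hz0ord : orderOf (z0 : S ⧸ K) = 2 := by
    apply orderOf_eq_prime
    · rw [← QuotientGroup.mk_pow, hexp z0 hz0]; rfl
    · rw [Ne, QuotientGroup.eq_one_iff]; exact hz0K
  have h3a : ∀ y : S, orderOf (y : S ⧸ K) = 2 → y ∈ Subgroup.center S := by
    intro y hy
    have e : (z0 : S ⧸ K) = (y : S ⧸ K) := by rw [huniq _ hz0ord, huniq _ hy]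
    rw [QuotientGroup.eq] at e
    have : y = z0 * (z0⁻¹ * y) := by group
    rw [this]
    exact (Subgroup.center S).mul_mem hz0 (hK e)
  refine ⟨h3a, ?_⟩
  intro x hx
  by_cases hx1 : (x : S ⧸ K) = 1
  · exact hK ((QuotientGroup.eq_one_iff x).mp hx1)
  · apply h3a
    apply orderOf_eq_prime
    · rw [← QuotientGroup.mk_pow]; exact (QuotientGroup.eq_one_iff _).mpr hx
    · exact hx1

theorem eq_of_not_mem_all {n : ℕ} (C : Fin n → Subgroup ↥(Subgroup.center S))
    (hidx : ∀ i, (C i).index = 2) (hCint : ⨅ i, C i = ⊥) (u v : S)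
    (hu : u ∈ Subgroup.center S) (hv : v ∈ Subgroup.center S)
    (hu' : ∀ i, u ∉ (C i).map (Subgroup.center S).subtype)
    (hv' : ∀ i, v ∉ (C i).map (Subgroup.center S).subtype) : u = v := by
  have hmem : (⟨u, hu⟩ : ↥(Subgroup.center S)) * (⟨v, hv⟩ : ↥(Subgroup.center S))⁻¹ ∈ ⨅ i, C i := by
    rw [Subgroup.mem_iInf]
    intro i
    rw [Subgroup.mul_mem_iff_of_index_two (hidx i)]
    constructor
    · intro h
      exact absurd (Subgroup.mem_map_of_mem (Subgroup.center S).subtype h) (hu' i)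
    · intro h
      exact absurd (Subgroup.mem_map_of_mem (Subgroup.center S).subtype ((C i).inv_mem_iff.mp h))
        (hv' i)
  rw [hCint, Subgroup.mem_bot, mul_inv_eq_one] at hmem
  exact congrArg Subtype.val hmem

end Center

/-- Let S be a finite 2-group whose centre Z(S) has n ≥ 2 distinct maximal subgroups C₁, …, Cₙ with trivial intersection such that each quotient S/Cᵢ is a non-abelian group with exactly one involution (a generalized quaternion group). Then S is the internal direct product of an elementary abelian subgroup and a non-abelian subgroup with exactly one involution. -/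
theorem result {S : Type*} [Group S] [Finite S]
    (hS : IsPGroup 2 S) (n : ℕ) (hn : 2 ≤ n) (C : Fin n → Subgroup ↥(Subgroup.center S))
    (hCmax : ∀ i, IsCoatom (C i)) (hCinj : Function.Injective C) (hCint : ⨅ i, C i = ⊥)
    (hCq : ∀ i, ∃ (_ : ((C i).map (Subgroup.center S).subtype).Normal),
      ¬ IsMulCommutative (S ⧸ (C i).map (Subgroup.center S).subtype) ∧
      ∃! x : S ⧸ (C i).map (Subgroup.center S).subtype, orderOf x = 2) :
    ∃ E Q : Subgroup S, Cfsg.IsInternalDirectProduct E Q ⊤ ∧ Cfsg.IsElementaryAbelian 2 E ∧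
      ¬ IsMulCommutative ↥Q ∧ ∃! x : ↥Q, orderOf x = 2 := by
  classical
  have hidx : ∀ i, (C i).index = 2 := fun i =>
    Cfsg.Agent.Helper63.index_of_isCoatom_of_isPGroup (hS.to_subgroup (Subgroup.center S)) (C i)
      (hCmax i)
  have hexpZ : ∀ z : ↥(Subgroup.center S), z ^ 2 = 1 := by
    intro z
    have : z ^ 2 ∈ ⨅ i, C i := by
      rw [Subgroup.mem_iInf]; intro i
      exact Subgroup.sq_mem_of_index_two (hidx i) z
    rw [hCint] at this
    exact Subgroup.mem_bot.mp this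
  have hexp : ∀ z ∈ Subgroup.center S, z ^ 2 = 1 := fun z hz =>
    congrArg Subtype.val (hexpZ ⟨z, hz⟩)
  have hKle : ∀ i, (C i).map (Subgroup.center S).subtype ≤ Subgroup.center S := fun i =>
    Subgroup.map_subtype_le _
  have hz0 : ∀ i, ∃ z0 : S, z0 ∈ Subgroup.center S ∧ z0 ∉ (C i).map (Subgroup.center S).subtype := by
    intro i
    by_contra hcon
    push Not at hcon
    apply (hCmax i).1
    rw [Subgroup.eq_top_iff']
    intro z
    have := hcon z z.2
    rwa [show (z : S) = (Subgroup.center S).subtype z from rfl,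
      Subgroup.mem_map_iff_mem (Subgroup.center S).subtype_injective] at this
  have hcen : ∀ i, ∀ y : S, y ^ 2 ∈ (C i).map (Subgroup.center S).subtype →
      y ∈ Subgroup.center S := by
    intro i
    obtain ⟨hN, -, hu⟩ := hCq i
    obtain ⟨z0, hz0Z, hz0K⟩ := hz0 i
    exact (center_of_unique_inv _ (hKle i) z0 hz0Z hz0K hexp hu).2
  -- now the first coatom
  let i0 : Fin n := ⟨0, by omega⟩
  obtain ⟨hN, hnc, hu⟩ := hCq i0
  obtain ⟨z0, hz0Z, hz0K⟩ := hz0 i0
  have h3a := (center_of_unique_inv _ (hKle i0) z0 hz0Z hz0K hexp hu).1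
  have huop : Cfsg.Agent.Helper73.UniqueOrderP 2
      (S ⧸ (C i0).map (Subgroup.center S).subtype) := by
    intro x y hx hy
    obtain ⟨u, _, huniq⟩ := hu
    rw [huniq x hx, huniq y hy]
    exact Subgroup.mem_zpowers u
  have : Fact (Nat.Prime 2) := ⟨Nat.prime_two⟩
  rcases Cfsg.Agent.Helper73.cyclic_or_quaternion (hS.to_quotient _) huop with
    hcyc | ⟨-, m, hm1, ⟨φ⟩⟩
  · exact absurd IsCyclic.isMulCommutative hnc
  have : NeZero (2 ^ m) := ⟨by positivity⟩
  set f : S →* QuaternionGroup (2 ^ m) :=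
    φ.toMonoidHom.comp (QuotientGroup.mk' ((C i0).map (Subgroup.center S).subtype)) with hf
  have hfφ : ∀ s : S, f s = φ (s : S ⧸ (C i0).map (Subgroup.center S).subtype) := fun s => rfl
  have hfker : f.ker = (C i0).map (Subgroup.center S).subtype := by
    ext s
    rw [MonoidHom.mem_ker, hfφ, MulEquiv.map_eq_one_iff, QuotientGroup.eq_one_iff]
  have hfsurj : Function.Surjective f := by
    intro q
    obtain ⟨x, hx⟩ := φ.surjective q
    obtain ⟨s, rfl⟩ := QuotientGroup.mk_surjective x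
    exact ⟨s, hx⟩
  obtain ⟨a, hfa⟩ := hfsurj (QuaternionGroup.a 1)
  obtain ⟨b, hfb⟩ := hfsurj (QuaternionGroup.xa 0)
  have hP : ∀ x : S, f x ^ 2 ≠ 1 → f x ^ 4 = 1 →
      (x ^ 2 ∈ Subgroup.center S ∧ ∀ i, x ^ 2 ∉ (C i).map (Subgroup.center S).subtype) := by
    intro x hx2 hx4
    have hord : orderOf (f (x ^ 2)) = 2 := by
      apply orderOf_eq_prime
      · rw [map_pow, ← pow_mul]; exact hx4
      · rw [map_pow]; exact hx2
    have hord' : orderOf ((x ^ 2 : S) : S ⧸ (C i0).map (Subgroup.center S).subtype) = 2 := by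
      have h0 := MulEquiv.orderOf_eq φ ((x ^ 2 : S) : S ⧸ (C i0).map (Subgroup.center S).subtype)
      rw [← h0]
      exact hord
    have hxZ : x ∉ Subgroup.center S := by
      intro h
      apply hx2
      rw [← map_pow, hexp x h, map_one]
    exact ⟨h3a _ hord', fun i h => hxZ (hcen i x h)⟩
  -- the three squares
  have hmm : 2 ^ m = 2 * 2 ^ (m - 1) := by
    rw [← pow_succ', Nat.sub_add_cancel hm1]
  have hPa : (a ^ 2 ^ m ∈ Subgroup.center S ∧
      ∀ i, a ^ 2 ^ m ∉ (C i).map (Subgroup.center S).subtype) := by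
    have hm2 : 2 ^ (m - 1) * 2 = 2 ^ m := by rw [hmm]; ring
    have e : a ^ 2 ^ m = (a ^ 2 ^ (m - 1)) ^ 2 := by rw [← pow_mul, hm2]
    rw [e]
    apply hP
    · rw [map_pow, hfa, ← pow_mul, hm2]
      apply pow_ne_one_of_lt_orderOf (by positivity)
      rw [QuaternionGroup.orderOf_a_one]
      have : 0 < 2 ^ m := by positivity
      omega
    · rw [map_pow, hfa, ← pow_mul]
      have h4 : 2 ^ (m - 1) * 4 = 2 * 2 ^ m := by rw [hmm]; ring
      rw [h4, QuaternionGroup.a_one_pow_n]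
  have hPb : (b ^ 2 ∈ Subgroup.center S ∧
      ∀ i, b ^ 2 ∉ (C i).map (Subgroup.center S).subtype) := by
    apply hP
    · rw [hfb]
      apply pow_ne_one_of_lt_orderOf (by norm_num)
      rw [QuaternionGroup.orderOf_xa]; norm_num
    · rw [hfb, QuaternionGroup.xa_pow_four]
  have hPba : ((b * a) ^ 2 ∈ Subgroup.center S ∧
      ∀ i, (b * a) ^ 2 ∉ (C i).map (Subgroup.center S).subtype) := by
    apply hP
    · rw [map_mul, hfa, hfb, QuaternionGroup.xa_mul_a]
      apply pow_ne_one_of_lt_orderOf (by norm_num)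
      rw [QuaternionGroup.orderOf_xa]; norm_num
    · rw [map_mul, hfa, hfb, QuaternionGroup.xa_mul_a, QuaternionGroup.xa_pow_four]
  have h1 : a ^ 2 ^ m = b ^ 2 := eq_of_not_mem_all C hidx hCint _ _ hPa.1 hPb.1 hPa.2 hPb.2
  have h2 : (b * a) ^ 2 = b ^ 2 := eq_of_not_mem_all C hidx hCint _ _ hPba.1 hPb.1 hPba.2 hPb.2
  have h3 : b ^ 4 = 1 := by
    have : b ^ 4 = (b ^ 2) ^ 2 := by rw [← pow_mul]
    rw [this]
    exact hexp _ hPb.1
  obtain ⟨Q, hQK, hQsurj, hb2Q⟩ := exists_complement_of_lift f a b hfa hfb h1 h2 h3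
  rw [hfker] at hQK
  have hb2ne : b ^ 2 ≠ 1 := by
    intro h0
    have h4 : f b ^ 2 = 1 := by rw [← map_pow, h0, map_one]
    rw [hfb] at h4
    have h5 : (QuaternionGroup.xa (0 : ZMod (2 * 2 ^ m)) : QuaternionGroup (2 ^ m)) ^ 2 ≠ 1 := by
      apply pow_ne_one_of_lt_orderOf (by norm_num)
      rw [QuaternionGroup.orderOf_xa]; norm_num
    exact h5 h4
  refine ⟨(C i0).map (Subgroup.center S).subtype, Q, ⟨le_top, le_top, ?_, ?_, ?_⟩, ⟨?_, ?_⟩, ?_, ?_⟩
  · intro x hx y _
    exact (Subgroup.mem_center_iff.mp (hKle i0 hx) y).symm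
  · rw [inf_comm]; exact hQK
  · rw [eq_top_iff]
    intro s _
    obtain ⟨q, hq, hfq⟩ := hQsurj s
    have hk : s * q⁻¹ ∈ (C i0).map (Subgroup.center S).subtype := by
      rw [← hfker, MonoidHom.mem_ker, map_mul, map_inv, hfq, mul_inv_cancel]
    have : s = (s * q⁻¹) * q := by group
    rw [this]
    exact Subgroup.mul_mem_sup hk hq
  · exact ⟨⟨fun x y => Subtype.ext (Subgroup.mem_center_iff.mp (hKle i0 y.2) x)⟩⟩
  · intro x hx
    exact hexp x (hKle i0 hx)
  · intro hQc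
    apply hnc
    have hcomm : ∀ s t : S, f (s * t) = f (t * s) := by
      intro s t
      obtain ⟨q, hq, hfq⟩ := hQsurj s
      obtain ⟨q', hq', hfq'⟩ := hQsurj t
      have e : q * q' = q' * q := congrArg Subtype.val (mul_comm' (⟨q, hq⟩ : ↥Q) ⟨q', hq'⟩)
      rw [map_mul, map_mul, ← hfq, ← hfq', ← map_mul, ← map_mul, e]
    refine ⟨⟨fun x y => ?_⟩⟩
    obtain ⟨s, rfl⟩ := QuotientGroup.mk_surjective x
    obtain ⟨t, rfl⟩ := QuotientGroup.mk_surjective y
    apply φ.injective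
    have := hcomm s t
    rw [hfφ, hfφ] at this
    exact this
  · refine ⟨⟨b ^ 2, hb2Q⟩, ?_, ?_⟩
    · show orderOf (⟨b ^ 2, hb2Q⟩ : ↥Q) = 2
      rw [Subgroup.orderOf_mk]
      apply orderOf_eq_prime
      · rw [← pow_mul]; exact h3
      · exact hb2ne
    · intro y hy
      have hyS : orderOf (y : S) = 2 := by rw [Subgroup.orderOf_coe]; exact hy
      have hy1 : (y : S) ≠ 1 := by
        intro h0
        rw [h0, orderOf_one] at hyS
        omega
      have hyK : (y : S) ∉ (C i0).map (Subgroup.center S).subtype := by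
        intro h0
        have : (y : S) ∈ Q ⊓ (C i0).map (Subgroup.center S).subtype := ⟨y.2, h0⟩
        rw [hQK] at this
        exact hy1 (Subgroup.mem_bot.mp this)
      have hyord : orderOf ((y : S) : S ⧸ (C i0).map (Subgroup.center S).subtype) = 2 := by
        apply orderOf_eq_prime
        · rw [← QuotientGroup.mk_pow, ← hyS, pow_orderOf_eq_one]; rfl
        · rw [Ne, QuotientGroup.eq_one_iff]; exact hyK
      have hbK : b ^ 2 ∉ (C i0).map (Subgroup.center S).subtype := hPb.2 i0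
      have hbord : orderOf ((b ^ 2 : S) : S ⧸ (C i0).map (Subgroup.center S).subtype) = 2 := by
        apply orderOf_eq_prime
        · rw [← QuotientGroup.mk_pow, ← pow_mul, h3]; rfl
        · rw [Ne, QuotientGroup.eq_one_iff]; exact hbK
      obtain ⟨u, _, huniq⟩ := hu
      have e : ((y : S) : S ⧸ (C i0).map (Subgroup.center S).subtype) = ((b ^ 2 : S) : S ⧸ _) := by
        rw [huniq _ hyord, huniq _ hbord]
      rw [QuotientGroup.eq] at e
      have hmem : (y : S)⁻¹ * b ^ 2 ∈ Q ⊓ (C i0).map (Subgroup.center S).subtype :=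
        ⟨Q.mul_mem (Q.inv_mem y.2) hb2Q, e⟩
      rw [hQK, Subgroup.mem_bot, inv_mul_eq_one] at hmem
      exact Subtype.ext hmem

end Cfsg.Agent.S3201
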