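import Mathlib
import Cfsg.Statements.S3202
import Cfsg.Agent.Helper73.PGroupCyclic

set_option autoImplicit false
open Cfsg
open scoped commutatorElement

namespace Cfsg.Agent.S3202

section Lift

variable {S : Type*} [Group S]

/-- If `S` maps onto a generalized quaternion group with central kernel then the commutator
subgroup of `S` is cyclic. -/
theorem commutator_le_zpowers {N : ℕ} [NeZero N]
    (f : S →* QuaternionGroup N) (hker : f.ker ≤ Subgroup.center S) (a b : S)
    (hfa : f a = QuaternionGroup.a 1) (hfb : f b = QuaternionGroup.xa 0) :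
    commutator S ≤ Subgroup.zpowers ⁅b, a⁆ := by
  -- every element is `a ^ i * d` or `a ^ i * b * d`
  have hgen : ∀ s : S, ∃ i : ℕ, ∃ d ∈ f.ker, s = a ^ i * d ∨ s = a ^ i * b * d := by
    intro s
    cases hs : f s with
    | a j =>
      refine ⟨j.val, (a ^ j.val)⁻¹ * s, ?_, Or.inl (by group)⟩
      rw [MonoidHom.mem_ker, map_mul, map_inv, map_pow, hfa, hs, QuaternionGroup.a_one_pow,
        ZMod.natCast_zmod_val, inv_mul_cancel]
    | xa j =>
      refine ⟨(-j).val, (a ^ (-j).val * b)⁻¹ * s, ?_, Or.inr (by group)⟩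
      rw [MonoidHom.mem_ker, map_mul, map_inv, map_mul, map_pow, hfa, hfb, hs,
        QuaternionGroup.a_one_pow, ZMod.natCast_zmod_val, QuaternionGroup.a_mul_xa]
      have : (0 : ZMod (2 * N)) - -j = j := by ring
      rw [this, inv_mul_cancel]
  obtain ⟨e, he⟩ : ∃ e : S, e = b⁻¹ * (a * b * a) := ⟨_, rfl⟩
  have heK : e ∈ f.ker := by
    rw [MonoidHom.mem_ker, he, map_mul, map_inv, map_mul, map_mul, hfa, hfb,
      QuaternionGroup.a_mul_xa, QuaternionGroup.xa_mul_a]
    have : (0 : ZMod (2 * N)) - 1 + 1 = 0 := by ring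
    rw [this, inv_mul_cancel]
  have hcen : ∀ d ∈ f.ker, ∀ s : S, Commute d s := fun d hd s =>
    (Subgroup.mem_center_iff.mp (hker hd) s).symm
  have hec := hcen e heK
  obtain ⟨c, hc⟩ : ∃ c : S, c = ⁅b, a⁆ := ⟨_, rfl⟩
  rw [← hc]
  have hbab : b * a * b⁻¹ = a⁻¹ * e := by
    have h1 : a * b * a = b * e := by rw [he]; group
    calc b * a * b⁻¹ = a⁻¹ * (a * b * a) * b⁻¹ := by group
      _ = a⁻¹ * (b * e) * b⁻¹ := by rw [h1]
      _ = a⁻¹ * (e * b) * b⁻¹ := by rw [(hec b).eq]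
      _ = a⁻¹ * e := by group
  have hc' : c = e * a⁻¹ * a⁻¹ := by
    rw [hc, commutatorElement_def, hbab, (hec a⁻¹).eq]
  have hac : a * c * a⁻¹ = c := by
    rw [hc']
    calc a * (e * a⁻¹ * a⁻¹) * a⁻¹ = (a * e) * a⁻¹ * a⁻¹ * a⁻¹ := by group
      _ = (e * a) * a⁻¹ * a⁻¹ * a⁻¹ := by rw [(hec a).eq]
      _ = e * a⁻¹ * a⁻¹ := by group
  have hbc : b * c * b⁻¹ = c⁻¹ := by
    have h1 : b * a⁻¹ * b⁻¹ = e⁻¹ * a := by
      have : b * a⁻¹ * b⁻¹ = (b * a * b⁻¹)⁻¹ := by group
      rw [this, hbab]; group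
    have h2 : b * e * b⁻¹ = e := by rw [← (hec b).eq]; group
    calc b * c * b⁻¹ = (b * e * b⁻¹) * (b * a⁻¹ * b⁻¹) * (b * a⁻¹ * b⁻¹) := by rw [hc']; group
      _ = e * (e⁻¹ * a) * (e⁻¹ * a) := by rw [h1, h2]
      _ = a * (e⁻¹ * a) := by group
      _ = a * (a * e⁻¹) := by rw [((hec a).inv_left).eq]
      _ = c⁻¹ := by rw [hc', mul_inv_rev, mul_inv_rev, inv_inv]
  -- every element conjugates `c` to `c` or `c⁻¹`
  have hR : ∀ s : S, s * c * s⁻¹ = c ∨ s * c * s⁻¹ = c⁻¹ := by
    have hai : ∀ i : ℕ, a ^ i * c * (a ^ i)⁻¹ = c := by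
      intro i
      have : Commute a c := by
        show a * c = c * a
        calc a * c = (a * c * a⁻¹) * a := by group
          _ = c * a := by rw [hac]
      exact (this.pow_left i).mul_inv_cancel
    have hd : ∀ d ∈ f.ker, d * c * d⁻¹ = c := fun d hd => (hcen d hd c).mul_inv_cancel
    intro s
    obtain ⟨i, d, hd', hs | hs⟩ := hgen s
    · left
      calc s * c * s⁻¹ = a ^ i * (d * c * d⁻¹) * (a ^ i)⁻¹ := by rw [hs]; group
        _ = c := by rw [hd d hd', hai]
    · right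
      calc s * c * s⁻¹ = a ^ i * (b * (d * c * d⁻¹) * b⁻¹) * (a ^ i)⁻¹ := by rw [hs]; group
        _ = a ^ i * c⁻¹ * (a ^ i)⁻¹ := by rw [hd d hd', hbc]
        _ = (a ^ i * c * (a ^ i)⁻¹)⁻¹ := by group
        _ = c⁻¹ := by rw [hai]
  have hnormal : (Subgroup.zpowers c).Normal := by
    constructor
    intro x hx s
    obtain ⟨k, rfl⟩ := Subgroup.mem_zpowers_iff.mp hx
    rw [← conj_zpow]
    rcases hR s with h | h
    · rw [h]; exact Subgroup.zpow_mem_zpowers c k
    · rw [h]; exact (Subgroup.zpowers c).zpow_mem ((Subgroup.zpowers c).inv_mem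
        (Subgroup.mem_zpowers c)) k
  -- the quotient is commutative
  set A : S ⧸ Subgroup.zpowers c := (a : S ⧸ Subgroup.zpowers c) with hA
  set B : S ⧸ Subgroup.zpowers c := (b : S ⧸ Subgroup.zpowers c) with hB
  have hAB : Commute B A := by
    rw [← commutatorElement_eq_one_iff_commute]
    show ((⁅b, a⁆ : S) : S ⧸ Subgroup.zpowers c) = 1
    rw [QuotientGroup.eq_one_iff, ← hc]
    exact Subgroup.mem_zpowers c
  have hδ : ∀ d ∈ f.ker, ∀ y : S ⧸ Subgroup.zpowers c, Commute (d : S ⧸ Subgroup.zpowers c) y := by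
    intro d hd y
    obtain ⟨t, rfl⟩ := QuotientGroup.mk_surjective y
    show ((d * t : S) : S ⧸ Subgroup.zpowers c) = ((t * d : S) : S ⧸ Subgroup.zpowers c)
    rw [(hcen d hd t).eq]
  have hgenT : ∀ y : S ⧸ Subgroup.zpowers c, ∃ i : ℕ, ∃ d ∈ f.ker,
      y = A ^ i * (d : S ⧸ Subgroup.zpowers c) ∨ y = A ^ i * B * (d : S ⧸ Subgroup.zpowers c) := by
    intro y
    obtain ⟨t, rfl⟩ := QuotientGroup.mk_surjective y
    obtain ⟨i, d, hd, ht | ht⟩ := hgen t
    · exact ⟨i, d, hd, Or.inl (by rw [ht]; rfl)⟩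
    · exact ⟨i, d, hd, Or.inr (by rw [ht]; rfl)⟩
  have hAall : ∀ y : S ⧸ Subgroup.zpowers c, Commute A y := by
    intro y
    obtain ⟨i, d, hd, hy | hy⟩ := hgenT y
    · rw [hy]
      exact ((Commute.refl A).pow_right i).mul_right (hδ d hd A).symm
    · rw [hy]
      exact (((Commute.refl A).pow_right i).mul_right hAB.symm).mul_right (hδ d hd A).symm
  have hBall : ∀ y : S ⧸ Subgroup.zpowers c, Commute B y := by
    intro y
    obtain ⟨i, d, hd, hy | hy⟩ := hgenT y
    · rw [hy]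
      exact (hAB.pow_right i).mul_right (hδ d hd B).symm
    · rw [hy]
      exact ((hAB.pow_right i).mul_right (Commute.refl B)).mul_right (hδ d hd B).symm
  have hall : ∀ x y : S ⧸ Subgroup.zpowers c, Commute x y := by
    intro x y
    obtain ⟨i, d, hd, hx | hx⟩ := hgenT x
    · rw [hx]
      exact ((hAall y).pow_left i).mul_left (hδ d hd y)
    · rw [hx]
      exact (((hAall y).pow_left i).mul_left (hBall y)).mul_left (hδ d hd y)
  rw [commutator_eq_closure, Subgroup.closure_le]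
  rintro x ⟨p, q, rfl⟩
  show ⁅p, q⁆ ∈ Subgroup.zpowers c
  rw [← QuotientGroup.eq_one_iff]
  have := hall (p : S ⧸ Subgroup.zpowers c) (q : S ⧸ Subgroup.zpowers c)
  rw [← commutatorElement_eq_one_iff_commute] at this
  exact this

end Lift

/-- Let S be a finite 2-group of 2-rank exactly 2 and D a maximal subgroup of the centre of S such that S/D is a non-abelian group with exactly one involution (a generalized quaternion group). Then S has a nontrivial cyclic characteristic subgroup. -/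
theorem result {S : Type*} [Group S]
    [Finite S] (hS : IsPGroup 2 S) (hr2 : Cfsg.PRankLE 2 2 S) (hr1 : ¬ Cfsg.PRankLE 2 1 S)
    (D : Subgroup ↥(Subgroup.center S)) (hD : IsCoatom D)
    (hq : ∃ (_ : (D.map (Subgroup.center S).subtype).Normal),
      ¬ IsMulCommutative (S ⧸ D.map (Subgroup.center S).subtype) ∧
      ∃! x : S ⧸ D.map (Subgroup.center S).subtype, orderOf x = 2) :
    ∃ C : Subgroup S, C ≠ ⊥ ∧ IsCyclic ↥C ∧ C.Characteristic := by
  classical
  obtain ⟨hN, hnc, hu⟩ := hq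
  have hKle : D.map (Subgroup.center S).subtype ≤ Subgroup.center S := Subgroup.map_subtype_le _
  have huop : Cfsg.Agent.Helper73.UniqueOrderP 2
      (S ⧸ D.map (Subgroup.center S).subtype) := by
    intro x y hx hy
    obtain ⟨u, _, huniq⟩ := hu
    rw [huniq x hx, huniq y hy]
    exact Subgroup.mem_zpowers u
  have : Fact (Nat.Prime 2) := ⟨Nat.prime_two⟩
  rcases Cfsg.Agent.Helper73.cyclic_or_quaternion (hS.to_quotient _) huop with
    hcyc | ⟨-, m, hm1, ⟨φ⟩⟩
  · exact absurd IsCyclic.isMulCommutative hnc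
  have : NeZero (2 ^ m) := ⟨by positivity⟩
  set f : S →* QuaternionGroup (2 ^ m) :=
    φ.toMonoidHom.comp (QuotientGroup.mk' (D.map (Subgroup.center S).subtype)) with hf
  have hfφ : ∀ s : S, f s = φ (s : S ⧸ D.map (Subgroup.center S).subtype) := fun s => rfl
  have hfker : f.ker = D.map (Subgroup.center S).subtype := by
    ext s
    rw [MonoidHom.mem_ker, hfφ, MulEquiv.map_eq_one_iff, QuotientGroup.eq_one_iff]
  have hfsurj : Function.Surjective f := by
    intro q
    obtain ⟨x, hx⟩ := φ.surjective q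
    obtain ⟨s, rfl⟩ := QuotientGroup.mk_surjective x
    exact ⟨s, hx⟩
  obtain ⟨a, hfa⟩ := hfsurj (QuaternionGroup.a 1)
  obtain ⟨b, hfb⟩ := hfsurj (QuaternionGroup.xa 0)
  have hle := commutator_le_zpowers f (by rw [hfker]; exact hKle) a b hfa hfb
  refine ⟨commutator S, ?_, Subgroup.isCyclic_of_le hle, inferInstance⟩
  intro hbot
  apply hnc
  refine ⟨⟨fun x y => ?_⟩⟩
  obtain ⟨s, rfl⟩ := QuotientGroup.mk_surjective x
  obtain ⟨t, rfl⟩ := QuotientGroup.mk_surjective y
  have hmem : ⁅s, t⁆ ∈ commutator S := by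
    rw [commutator_def]
    exact Subgroup.commutator_mem_commutator (Subgroup.mem_top s) (Subgroup.mem_top t)
  rw [hbot, Subgroup.mem_bot, commutatorElement_eq_one_iff_mul_comm] at hmem
  show ((s * t : S) : S ⧸ D.map (Subgroup.center S).subtype) = ((t * s : S) : S ⧸ _)
  rw [hmem]

end Cfsg.Agent.S3202
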