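import Mathlib
import Cfsg.Statements.S3203
import Cfsg.Agent.Helper53.Cj

set_option autoImplicit false
open Cfsg

namespace Cfsg.Agent.S3203

open Cfsg.Agent.Helper53
open scoped Pointwise

variable {G : Type*} [Group G] [Finite G]

/-- Step 1: `S = AB` normalizes `A`. -/
lemma S_le_normalizer (S A B : Subgroup G) (hAS : A ≤ S) (hBS : B ≤ S)
    (hnAB : ¬ A ≤ B)
    (hmax : ∀ C : Subgroup G, C ≤ S → Cfsg.IsElementaryAbelian 2 C → C ≤ A ∨ C ≤ B)
    (hA : Cfsg.IsElementaryAbelian 2 A)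
    (hprod : ∀ s ∈ S, ∃ a ∈ A, ∃ b ∈ B, a * b = s) :
    S ≤ Subgroup.normalizer (A : Set G) := by
  have hb : ∀ b ∈ B, MulAut.conj b • A = A := by
    intro b hb
    have h1 : MulAut.conj b • A ≤ S := by
      calc MulAut.conj b • A ≤ MulAut.conj b • S := cj_le_iff.mpr hAS
        _ = S := Subgroup.conj_smul_eq_self_of_mem (hBS hb)
    rcases hmax _ h1 (cj_elemAb b hA) with h2 | h2
    · exact cj_eq_of_le h2
    · exfalso
      apply hnAB
      rw [cj_le_iff'] at h2
      rwa [Subgroup.conj_smul_eq_self_of_mem (B.inv_mem hb)] at h2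
  intro s hs
  obtain ⟨a, ha, b, hb', rfl⟩ := hprod s hs
  rw [← cj_eq_self_iff, cj_mul, hb b hb', Subgroup.conj_smul_eq_self_of_mem ha]

/-- the same with the roles of the factors exchanged -/
lemma S_le_normalizer' (S A B : Subgroup G) (hAS : A ≤ S) (hBS : B ≤ S)
    (hnBA : ¬ B ≤ A)
    (hmax : ∀ C : Subgroup G, C ≤ S → Cfsg.IsElementaryAbelian 2 C → C ≤ A ∨ C ≤ B)
    (hB : Cfsg.IsElementaryAbelian 2 B)
    (hprod : ∀ s ∈ S, ∃ a ∈ A, ∃ b ∈ B, a * b = s) :
    S ≤ Subgroup.normalizer (B : Set G) := by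
  have ha : ∀ a ∈ A, MulAut.conj a • B = B := by
    intro a ha
    have h1 : MulAut.conj a • B ≤ S := by
      calc MulAut.conj a • B ≤ MulAut.conj a • S := cj_le_iff.mpr hBS
        _ = S := Subgroup.conj_smul_eq_self_of_mem (hAS ha)
    rcases hmax _ h1 (cj_elemAb a hB) with h2 | h2
    · exfalso
      apply hnBA
      rw [cj_le_iff'] at h2
      rwa [Subgroup.conj_smul_eq_self_of_mem (A.inv_mem ha)] at h2
    · exact cj_eq_of_le h2
  intro s hs
  obtain ⟨a, ha', b, hb, rfl⟩ := hprod s hs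
  rw [← cj_eq_self_iff, cj_mul, Subgroup.conj_smul_eq_self_of_mem hb, ha a ha']

/-- dichotomy for elements normalizing `S` -/
lemma dichotomy (S A B : Subgroup G) (hAS : A ≤ S) (hBS : B ≤ S)
    (hnAB : ¬ A ≤ B)
    (hmax : ∀ C : Subgroup G, C ≤ S → Cfsg.IsElementaryAbelian 2 C → C ≤ A ∨ C ≤ B)
    (hA : Cfsg.IsElementaryAbelian 2 A) (hB : Cfsg.IsElementaryAbelian 2 B)
    (x : G) (hx : x ∈ Subgroup.normalizer (S : Set G)) :
    MulAut.conj x • A = A ∨ MulAut.conj x • A = B := by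
  have hxS : MulAut.conj x • S = S := cj_eq_self_iff.mpr hx
  have hxS' : MulAut.conj x⁻¹ • S = S := cj_eq_self_iff.mpr (inv_mem hx)
  have h1 : MulAut.conj x • A ≤ S := by
    calc MulAut.conj x • A ≤ MulAut.conj x • S := cj_le_iff.mpr hAS
      _ = S := hxS
  rcases hmax _ h1 (cj_elemAb x hA) with h2 | h2
  · left; exact cj_eq_of_le h2
  · right
    have h3 : MulAut.conj x⁻¹ • B ≤ S := by
      calc MulAut.conj x⁻¹ • B ≤ MulAut.conj x⁻¹ • S := cj_le_iff.mpr hBS
        _ = S := hxS'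
    have h4 : A ≤ MulAut.conj x⁻¹ • B := cj_le_iff'.mp h2
    rcases hmax _ h3 (cj_elemAb x⁻¹ hB) with h5 | h5
    · have h6 : A = MulAut.conj x⁻¹ • B := le_antisymm h4 h5
      rw [h6, cj_cj_inv]
    · exact absurd (h4.trans h5) hnAB

/-- Step 2: the normalizer of the Sylow subgroup `S` normalizes `A`. -/
lemma normalizer_le (S : Sylow 2 G) (A B : Subgroup G) (hAS : A ≤ S) (hBS : B ≤ S)
    (hnAB : ¬ A ≤ B) (hnBA : ¬ B ≤ A)
    (hmax : ∀ C : Subgroup G, C ≤ S → Cfsg.IsElementaryAbelian 2 C → C ≤ A ∨ C ≤ B)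
    (hA : Cfsg.IsElementaryAbelian 2 A) (hB : Cfsg.IsElementaryAbelian 2 B)
    (hSA : (S : Subgroup G) ≤ Subgroup.normalizer (A : Set G)) :
    Subgroup.normalizer ((S : Subgroup G) : Set G) ≤ Subgroup.normalizer (A : Set G) := by
  have : Fact (Nat.Prime 2) := ⟨Nat.prime_two⟩
  set N := Subgroup.normalizer ((S : Subgroup G) : Set G) with hN
  set N₀ := N ⊓ Subgroup.normalizer (A : Set G) with hN₀
  have hmax' : ∀ C : Subgroup G, C ≤ S → Cfsg.IsElementaryAbelian 2 C → C ≤ B ∨ C ≤ A :=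
    fun C h1 h2 => (hmax C h1 h2).symm
  have hdvd2 : N₀.relIndex N ∣ 2 := by
    rw [Subgroup.relIndex_dvd_two_iff]
    by_cases hex : ∃ a ∈ N, MulAut.conj a • A = B
    · obtain ⟨a, haN, ha⟩ := hex
      refine ⟨a, haN, ?_⟩
      intro b hbN
      rcases dichotomy S A B hAS hBS hnAB hmax hA hB b hbN with h1 | h1
      · right
        exact ⟨hbN, cj_eq_self_iff.mp h1⟩
      · left
        refine ⟨N.mul_mem hbN haN, ?_⟩
        show b * a ∈ Subgroup.normalizer (A : Set G)
        rw [← cj_eq_self_iff, cj_mul, ha]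
        rcases dichotomy S B A hBS hAS hnBA hmax' hB hA b hbN with h2 | h2
        · exfalso
          apply hnAB
          have : MulAut.conj b • A ≤ MulAut.conj b • B := by rw [h1, h2]
          exact cj_le_iff.mp this
        · exact h2
    · refine ⟨1, N.one_mem, ?_⟩
      intro b hbN
      right
      rcases dichotomy S A B hAS hBS hnAB hmax hA hB b hbN with h1 | h1
      · exact ⟨hbN, cj_eq_self_iff.mp h1⟩
      · exact absurd ⟨b, hbN, h1⟩ hex
  have hSN₀ : (S : Subgroup G) ≤ N₀ := le_inf Subgroup.le_normalizer hSA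
  have hodd : ¬ 2 ∣ N₀.relIndex N := by
    intro h
    have h1 : N₀.relIndex N ∣ (S : Subgroup G).relIndex N := Subgroup.relIndex_dvd_of_le_left N hSN₀
    have h2 : (S : Subgroup G).relIndex N ∣ (S : Subgroup G).index :=
      Subgroup.relIndex_dvd_index_of_le Subgroup.le_normalizer
    exact S.not_dvd_index (h.trans (h1.trans h2))
  have hone : N₀.relIndex N = 1 := by
    rcases (Nat.dvd_prime Nat.prime_two).mp hdvd2 with h | h
    · exact h
    · exact absurd (h ▸ dvd_refl _) hodd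
  rw [Subgroup.relIndex_eq_one] at hone
  exact hone.trans inf_le_right

/-- Step 3: `A` is weakly closed in `S`. -/
lemma weaklyClosed (S : Sylow 2 G) (A B : Subgroup G) (hAS : A ≤ S) (hBS : B ≤ S)
    (hnAB : ¬ A ≤ B) (hnBA : ¬ B ≤ A)
    (hmax : ∀ C : Subgroup G, C ≤ S → Cfsg.IsElementaryAbelian 2 C → C ≤ A ∨ C ≤ B)
    (hA : Cfsg.IsElementaryAbelian 2 A) (hB : Cfsg.IsElementaryAbelian 2 B)
    (hSA : (S : Subgroup G) ≤ Subgroup.normalizer (A : Set G))
    (hSB : (S : Subgroup G) ≤ Subgroup.normalizer (B : Set G)) :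
    Cfsg.IsWeaklyClosed A (S : Subgroup G) := by
  have : Fact (Nat.Prime 2) := ⟨Nat.prime_two⟩
  refine ⟨hAS, ?_⟩
  intro g hg
  rw [cj_def] at hg ⊢
  rcases hmax _ hg (cj_elemAb g hA) with h1 | h1
  · exact cj_eq_of_le h1
  · exfalso
    -- A₁ = g A g⁻¹ ≤ B
    have hS₁ : ((g • S : Sylow 2 G) : Subgroup G) = MulAut.conj g • (S : Subgroup G) :=
      Sylow.coe_subgroup_smul
    have hS₁N : ((g • S : Sylow 2 G) : Subgroup G) ≤
        Subgroup.normalizer ((MulAut.conj g • A : Subgroup G) : Set G) := by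
      rw [hS₁]; exact le_normalizer_cj g hSA
    have hBN : B ≤ Subgroup.normalizer ((MulAut.conj g • A : Subgroup G) : Set G) := by
      refine le_trans ?_ (Subgroup.centralizer_le_normalizer _)
      intro b hb
      rw [Subgroup.mem_centralizer_iff]
      intro x hx
      have := hB.1
      exact setLike_mul_comm (h1 hx) hb
    obtain ⟨n, hnM, hn⟩ := pgroup_le_conj_sylow_in (g • S) _ hS₁N B (S.2.to_le hBS) hBN
    rw [hS₁, ← cj_mul] at hn
    have hnA : MulAut.conj (n * g) • A = MulAut.conj g • A := by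
      rw [cj_mul]; exact cj_eq_self_iff.mpr hnM
    -- B ≤ (n g) S (n g)⁻¹ and (n g) A (n g)⁻¹ ≤ B
    set h := n * g with hh
    have h2 : MulAut.conj h⁻¹ • B ≤ S := by
      rw [cj_le_iff', inv_inv]; exact hn
    have hAB : MulAut.conj g • A = B := by
      rcases hmax _ h2 (cj_elemAb h⁻¹ hB) with h3 | h3
      · -- B ≤ h A h⁻¹ = A₁ ≤ B
        rw [cj_le_iff', inv_inv, hnA] at h3
        exact le_antisymm h1 h3
      · exfalso
        have h4 : MulAut.conj h⁻¹ • B = B := cj_eq_of_le h3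
        have h5 : MulAut.conj h • A ≤ B := by rw [hnA]; exact h1
        rw [cj_le_iff', h4] at h5
        exact hnAB h5
    -- now both S and g S g⁻¹ lie in N(B)
    have hS₁B : ((g • S : Sylow 2 G) : Subgroup G) ≤ Subgroup.normalizer (B : Set G) := by
      rw [← hAB]; exact hS₁N
    obtain ⟨m, hmM, hm⟩ := sylow_conj_in (g • S) S _ hS₁B hSB
    rw [hS₁, ← cj_mul] at hm
    have hmg : m * g ∈ Subgroup.normalizer ((S : Subgroup G) : Set G) := cj_eq_self_iff.mp hm
    have h6 := normalizer_le S A B hAS hBS hnAB hnBA hmax hA hB hSA hmg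
    rw [← cj_eq_self_iff, cj_mul, hAB, cj_eq_self_iff.mpr hmM] at h6
    exact hnAB h6.ge

omit [Finite G] in
/-- transport of elementary abelian-ness along the inclusion -/
lemma elemAb_map {S : Subgroup G} (C : Subgroup ↥S) (h : Cfsg.IsElementaryAbelian 2 C) :
    Cfsg.IsElementaryAbelian 2 (C.map S.subtype) := by
  obtain ⟨h1, h2⟩ := h
  refine ⟨inferInstance, ?_⟩
  rintro _ ⟨c, hc, rfl⟩
  have := h2 c hc
  simpa using congrArg Subtype.val this

omit [Finite G] in
lemma elemAb_subgroupOf {S : Subgroup G} (C : Subgroup G) (h : Cfsg.IsElementaryAbelian 2 C) :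
    Cfsg.IsElementaryAbelian 2 (C.subgroupOf S) := by
  obtain ⟨h1, h2⟩ := h
  refine ⟨inferInstance, ?_⟩
  intro c hc
  rw [Subgroup.mem_subgroupOf] at hc
  apply Subtype.ext
  simpa using h2 _ hc

/-- every elementary abelian subgroup lies in a maximal one -/
lemma exists_max_elemAb {H : Type*} [Group H] [Finite H] (C : Subgroup H)
    (hC : Cfsg.IsElementaryAbelian 2 C) :
    ∃ D : Subgroup H, C ≤ D ∧ Cfsg.IsElementaryAbelian 2 D ∧
      ∀ E : Subgroup H, Cfsg.IsElementaryAbelian 2 E → D ≤ E → E = D := by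
  have hfin : {D : Subgroup H | C ≤ D ∧ Cfsg.IsElementaryAbelian 2 D}.Finite := Set.toFinite _
  obtain ⟨D, hD, hDmax⟩ := hfin.exists_maximal ⟨C, le_refl C, hC⟩
  refine ⟨D, hD.1, hD.2, ?_⟩
  intro E hE hDE
  exact le_antisymm (hDmax ⟨hD.1.trans hDE, hE⟩ hDE) hDE

/-- Let S be a Sylow 2-subgroup of a finite group G having exactly two subgroups A ≠ B that are maximal among its elementary abelian subgroups, with S = AB. Then A and B are each weakly closed in S with respect to G, and the normalizer of S normalizes both A and B. -/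
theorem result {G : Type*} [Group G] [Finite G] (S : Sylow 2 G)
    (A B : Subgroup ↥(S : Subgroup G)) (hAB : A ≠ B)
    (hA : Cfsg.IsElementaryAbelian 2 A ∧ ∀ C : Subgroup ↥(S : Subgroup G), Cfsg.IsElementaryAbelian 2 C → A ≤ C → C = A)
    (hB : Cfsg.IsElementaryAbelian 2 B ∧ ∀ C : Subgroup ↥(S : Subgroup G), Cfsg.IsElementaryAbelian 2 C → B ≤ C → C = B)
    (honly : ∀ C : Subgroup ↥(S : Subgroup G), Cfsg.IsElementaryAbelian 2 C →
      (∀ D : Subgroup ↥(S : Subgroup G), Cfsg.IsElementaryAbelian 2 D → C ≤ D → D = C) → C = A ∨ C = B)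
    (hprod : ∀ s : ↥(S : Subgroup G), ∃ a ∈ A, ∃ b ∈ B, a * b = s)
    (A' B' : Subgroup G) (hA' : A' = A.map (S : Subgroup G).subtype) (hB' : B' = B.map (S : Subgroup G).subtype) :
    Cfsg.IsWeaklyClosed A' (S : Subgroup G) ∧ Cfsg.IsWeaklyClosed B' (S : Subgroup G) ∧
      Subgroup.normalizer ((S : Subgroup G) : Set G) ≤ Subgroup.normalizer (A' : Set G) ⊓ Subgroup.normalizer (B' : Set G) := by
  have hAS : A' ≤ S := by rw [hA']; exact Subgroup.map_subtype_le A
  have hBS : B' ≤ S := by rw [hB']; exact Subgroup.map_subtype_le B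
  have hinj : Function.Injective ((S : Subgroup G).subtype) := Subgroup.subtype_injective _
  have hnAB : ¬ A' ≤ B' := by
    intro h
    rw [hA', hB', Subgroup.map_le_map_iff_of_injective hinj] at h
    exact hAB (hA.2 B hB.1 h).symm
  have hnBA : ¬ B' ≤ A' := by
    intro h
    rw [hA', hB', Subgroup.map_le_map_iff_of_injective hinj] at h
    exact hAB (hB.2 A hA.1 h)
  have hEA : Cfsg.IsElementaryAbelian 2 A' := by rw [hA']; exact elemAb_map A hA.1
  have hEB : Cfsg.IsElementaryAbelian 2 B' := by rw [hB']; exact elemAb_map B hB.1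
  have hmax : ∀ C : Subgroup G, C ≤ S → Cfsg.IsElementaryAbelian 2 C → C ≤ A' ∨ C ≤ B' := by
    intro C hCS hC
    obtain ⟨D, hCD, hD, hDmax⟩ := exists_max_elemAb (C.subgroupOf S) (elemAb_subgroupOf C hC)
    have hC' : C = (C.subgroupOf S).map (S : Subgroup G).subtype := by
      rw [Subgroup.map_subgroupOf_eq_of_le hCS]
    rcases honly D hD hDmax with h | h
    · left
      rw [hC', hA', ← h]
      exact Subgroup.map_mono hCD
    · right
      rw [hC', hB', ← h]
      exact Subgroup.map_mono hCD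
  have hprod' : ∀ s ∈ (S : Subgroup G), ∃ a ∈ A', ∃ b ∈ B', a * b = s := by
    intro s hs
    obtain ⟨a, ha, b, hb, hab⟩ := hprod ⟨s, hs⟩
    refine ⟨a, ?_, b, ?_, ?_⟩
    · rw [hA']; exact ⟨a, ha, rfl⟩
    · rw [hB']; exact ⟨b, hb, rfl⟩
    · simpa using congrArg Subtype.val hab
  have hmax' : ∀ C : Subgroup G, C ≤ S → Cfsg.IsElementaryAbelian 2 C → C ≤ B' ∨ C ≤ A' :=
    fun C h1 h2 => (hmax C h1 h2).symm
  have hSA := S_le_normalizer (S : Subgroup G) A' B' hAS hBS hnAB hmax hEA hprod'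
  have hSB := S_le_normalizer' (S : Subgroup G) A' B' hAS hBS hnBA hmax hEB hprod'
  refine ⟨?_, ?_, ?_⟩
  · exact weaklyClosed S A' B' hAS hBS hnAB hnBA hmax hEA hEB hSA hSB
  · exact weaklyClosed S B' A' hBS hAS hnBA hnAB hmax' hEB hEA hSB hSA
  · exact le_inf (normalizer_le S A' B' hAS hBS hnAB hnBA hmax hEA hEB hSA)
      (normalizer_le S B' A' hBS hAS hnBA hnAB hmax' hEB hEA hSB)

end Cfsg.Agent.S3203
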