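import Mathlib
import Cfsg.Statements.S3208
import Cfsg.Agent.Helper53.Conj

set_option autoImplicit false
open Cfsg

namespace Cfsg.Agent.S3208

open Cfsg.Agent.Helper53

/-- Let j be an involution of a finite group G, H a subgroup of G, and T a Sylow 2-subgroup of H ∩ C_G(j) containing j such that ⟨j⟩ is a characteristic subgroup of T. Then T is a Sylow 2-subgroup of H. -/
theorem result {G : Type*} [Group G] [Finite G]
    (j : G) (hj : orderOf j = 2) (H T : Subgroup G) (hT : T ≤ H ⊓ Subgroup.centralizer ({j} : Set G)) (h2 : IsPGroup 2 ↥T)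
    (hSyl : ¬ 2 ∣ T.relIndex (H ⊓ Subgroup.centralizer ({j} : Set G))) (hjT : j ∈ T)
    (hchar : ((Subgroup.zpowers j).subgroupOf T).Characteristic) :
    ¬ 2 ∣ T.relIndex H := by
  haveI : Fact (Nat.Prime 2) := ⟨Nat.prime_two⟩
  intro hdvd
  have hTH : T ≤ H := le_trans hT inf_le_left
  obtain ⟨a, ha⟩ := (IsPGroup.iff_card (p := 2) (G := ↥T)).mp h2
  -- key claim: every element of G normalizing T centralizes j
  have key : ∀ x : G, x ∈ Subgroup.normalizer (T : Set G) → x ∈ Subgroup.centralizer ({j} : Set G) := by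
    intro x hx
    have hmem : (⟨j, hjT⟩ : ↥T) ∈ (Subgroup.zpowers j).subgroupOf T := by
      rw [Subgroup.mem_subgroupOf]
      exact Subgroup.mem_zpowers j
    have h1 := char_conj_mem T _ hchar x hx ⟨j, hjT⟩ hmem
    rw [Subgroup.mem_subgroupOf, conjEquiv_coe] at h1
    -- x * j * x⁻¹ ∈ zpowers j
    rw [Subgroup.mem_centralizer_iff]
    intro y hy
    rw [Set.mem_singleton_iff] at hy
    subst hy
    have hord : orderOf (x * y * x⁻¹) = 2 := by
      have : x * y * x⁻¹ = MulAut.conj x y := by simp [MulAut.conj_apply]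
      rw [this, MulEquiv.orderOf_eq, hj]
    obtain ⟨k, hk⟩ := (Subgroup.mem_zpowers_iff).mp h1
    have hk2 : y ^ (k % 2) = x * y * x⁻¹ := by
      rw [← hk]
      have := zpow_mod_orderOf y k
      rw [hj] at this
      exact_mod_cast this
    have hcases : k % 2 = 0 ∨ k % 2 = 1 := by omega
    rcases hcases with h0 | h0
    · rw [h0, zpow_zero] at hk2
      rw [← hk2, orderOf_one] at hord
      omega
    · rw [h0, zpow_one] at hk2
      -- y = x * y * x⁻¹
      calc y * x = (x * y * x⁻¹) * x := by rw [← hk2]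
        _ = x * y := by group
  -- work inside ↥H
  have hcardT' : Nat.card ↥(T.subgroupOf H) = 2 ^ a := by
    rw [← ha]
    exact Nat.card_congr (Subgroup.subgroupOfEquivOfLe hTH).toEquiv
  have hdvdH : 2 ^ (a + 1) ∣ Nat.card ↥H := by
    rw [← Subgroup.card_mul_index (T.subgroupOf H), hcardT', pow_succ]
    exact Nat.mul_dvd_mul_left _ hdvd
  have hN := Sylow.prime_pow_dvd_card_normalizer hdvdH hcardT'
  -- normalizer of T.subgroupOf H lies in the centralizer part
  have hle : Subgroup.normalizer ((T.subgroupOf H : Subgroup ↥H) : Set ↥H) ≤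
      (H ⊓ Subgroup.centralizer ({j} : Set G)).subgroupOf H := by
    intro x hx
    rw [Subgroup.mem_subgroupOf]
    refine ⟨x.2, key x ?_⟩
    rw [Subgroup.mem_normalizer_iff]
    intro t
    rw [Subgroup.mem_normalizer_iff] at hx
    constructor
    · intro ht
      have := (hx ⟨t, hTH ht⟩).mp (by rw [Subgroup.mem_subgroupOf]; exact ht)
      rw [Subgroup.mem_subgroupOf] at this
      simpa using this
    · intro ht
      have htH : t ∈ H := by
        have h3 : x.1 * t * x.1⁻¹ ∈ H := hTH ht
        have : t = x.1⁻¹ * (x.1 * t * x.1⁻¹) * x.1 := by group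
        rw [this]
        exact H.mul_mem (H.mul_mem (H.inv_mem x.2) h3) x.2
      have := (hx ⟨t, htH⟩).mpr (by rw [Subgroup.mem_subgroupOf]; simpa using ht)
      rw [Subgroup.mem_subgroupOf] at this
      exact this
  have h3 : 2 ^ (a + 1) ∣ Nat.card ↥((H ⊓ Subgroup.centralizer ({j} : Set G)).subgroupOf H) :=
    dvd_trans hN (Subgroup.card_dvd_of_le hle)
  have h4 : Nat.card ↥((H ⊓ Subgroup.centralizer ({j} : Set G)).subgroupOf H) =
      Nat.card ↥(H ⊓ Subgroup.centralizer ({j} : Set G)) :=
    Nat.card_congr (Subgroup.subgroupOfEquivOfLe inf_le_left).toEquiv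
  have h5 : Nat.card ↥(H ⊓ Subgroup.centralizer ({j} : Set G)) =
      2 ^ a * T.relIndex (H ⊓ Subgroup.centralizer ({j} : Set G)) := by
    rw [← Subgroup.card_mul_index (T.subgroupOf (H ⊓ Subgroup.centralizer ({j} : Set G)))]
    congr 1
    rw [← ha]
    exact Nat.card_congr (Subgroup.subgroupOfEquivOfLe hT).toEquiv
  rw [h4, h5, pow_succ] at h3
  exact hSyl ((Nat.mul_dvd_mul_iff_left (by positivity)).mp h3)

end Cfsg.Agent.S3208
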