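import Mathlib
import Cfsg.Statements.S3209
import Cfsg.Agent.Helper53.SL2

set_option autoImplicit false
open Cfsg

namespace Cfsg.Agent.S3209

open Cfsg.Agent.Helper53

variable {G : Type*} [Group G]

lemma mem_zpowers_order_two {j z : G} (hj : orderOf j = 2) (hz : z ∈ Subgroup.zpowers j) : z = 1 ∨ z = j := by
  obtain ⟨k, hk⟩ := Subgroup.mem_zpowers_iff.mp hz
  have hk2 : j ^ (k % 2) = z := by
    rw [← hk]
    have := zpow_mod_orderOf j k
    rw [hj] at this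
    exact_mod_cast this
  have hcases : k % 2 = 0 ∨ k % 2 = 1 := by omega
  rcases hcases with h0 | h0
  · left; rw [h0, zpow_zero] at hk2; exact hk2.symm
  · right; rw [h0, zpow_one] at hk2; exact hk2.symm

/-- products of commuting subgroups -/
lemma exists_mul_of_mem_sup (L₁ L₂ : Subgroup G) (hc : ∀ x ∈ L₁, ∀ y ∈ L₂, x * y = y * x)
    {y : G} (hy : y ∈ L₁ ⊔ L₂) : ∃ a ∈ L₁, ∃ b ∈ L₂, y = a * b := by
  let P : Subgroup G :=
    { carrier := {y | ∃ a ∈ L₁, ∃ b ∈ L₂, y = a * b}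
      one_mem' := ⟨1, L₁.one_mem, 1, L₂.one_mem, by simp⟩
      mul_mem' := by
        rintro _ _ ⟨a, ha, b, hb, rfl⟩ ⟨a', ha', b', hb', rfl⟩
        refine ⟨a * a', L₁.mul_mem ha ha', b * b', L₂.mul_mem hb hb', ?_⟩
        have := hc a' ha' b hb
        calc a * b * (a' * b') = a * (b * a') * b' := by group
          _ = a * (a' * b) * b' := by rw [this]
          _ = a * a' * (b * b') := by group
      inv_mem' := by
        rintro _ ⟨a, ha, b, hb, rfl⟩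
        refine ⟨a⁻¹, L₁.inv_mem ha, b⁻¹, L₂.inv_mem hb, ?_⟩
        have := hc a⁻¹ (L₁.inv_mem ha) b⁻¹ (L₂.inv_mem hb)
        rw [mul_inv_rev, this] }
  have h1 : L₁ ≤ P := fun a ha => ⟨a, ha, 1, L₂.one_mem, by simp⟩
  have h2 : L₂ ≤ P := fun b hb => ⟨1, L₁.one_mem, b, hb, by simp⟩
  exact (sup_le h1 h2) hy

/-- facts about a subgroup isomorphic to `SL₂(F)` whose involution is `j` -/
lemma sl2_facts {F : Type*} [Field F] [Fintype F] (hF : Odd (Fintype.card F)) (L : Subgroup G)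
    (e : ↥L ≃* Matrix.SpecialLinearGroup (Fin 2) F) (j : G) (hj : orderOf j = 2) (hjL : j ∈ L) :
    (∀ a ∈ L, a * a = 1 → a = 1 ∨ a = j) ∧ (∃ a₀ ∈ L, a₀ * a₀ = j) ∧
      (∀ a ∈ L, ∀ a' ∈ L, a * a = j → a' * a' = j → ∃ g ∈ L, g * a * g⁻¹ = a') := by
  have h2 : (2 : F) ≠ 0 := two_ne_zero_of_odd_card hF
  have hj1 : j ≠ 1 := by
    intro h; rw [h, orderOf_one] at hj; omega
  have hjj : j * j = 1 := by
    have := pow_orderOf_eq_one j
    rw [hj, sq] at this; exact this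
  have hej : e ⟨j, hjL⟩ = -1 := by
    have h1 : e ⟨j, hjL⟩ * e ⟨j, hjL⟩ = 1 := by
      rw [← map_mul]
      have : (⟨j, hjL⟩ : ↥L) * ⟨j, hjL⟩ = 1 := Subtype.ext hjj
      rw [this, map_one]
    rcases eq_one_or_neg_one_of_sq_eq_one h2 _ h1 with h | h
    · exfalso
      apply hj1
      have : (⟨j, hjL⟩ : ↥L) = 1 := by
        apply e.injective; rw [h, map_one]
      exact congrArg Subtype.val this
    · exact h
  refine ⟨?_, ?_, ?_⟩
  · intro a ha haa
    have h1 : e ⟨a, ha⟩ * e ⟨a, ha⟩ = 1 := by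
      rw [← map_mul]
      have : (⟨a, ha⟩ : ↥L) * ⟨a, ha⟩ = 1 := Subtype.ext haa
      rw [this, map_one]
    rcases eq_one_or_neg_one_of_sq_eq_one h2 _ h1 with h | h
    · left
      have : (⟨a, ha⟩ : ↥L) = 1 := by
        apply e.injective; rw [h, map_one]
      exact congrArg Subtype.val this
    · right
      have : (⟨a, ha⟩ : ↥L) = ⟨j, hjL⟩ := by
        apply e.injective; rw [h, hej]
      exact congrArg Subtype.val this
  · refine ⟨(e.symm wSL : ↥L), (e.symm wSL).2, ?_⟩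
    have : e.symm wSL * e.symm wSL = (⟨j, hjL⟩ : ↥L) := by
      apply e.injective
      rw [map_mul, MulEquiv.apply_symm_apply, wSL_sq, hej]
    exact congrArg Subtype.val this
  · intro a ha a' ha' haa haa'
    have h1 : e ⟨a, ha⟩ * e ⟨a, ha⟩ = -1 := by
      rw [← map_mul, ← hej]
      congr 1
      exact Subtype.ext haa
    have h1' : e ⟨a', ha'⟩ * e ⟨a', ha'⟩ = -1 := by
      rw [← map_mul, ← hej]
      congr 1
      exact Subtype.ext haa'
    obtain ⟨g, hg⟩ := conj_of_sq_eq_neg_one hF _ _ h1 h1'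
    refine ⟨(e.symm g : ↥L), (e.symm g).2, ?_⟩
    have : e.symm g * ⟨a, ha⟩ * (e.symm g)⁻¹ = (⟨a', ha'⟩ : ↥L) := by
      apply e.injective
      rw [map_mul, map_mul, map_inv, MulEquiv.apply_symm_apply, hg]
    exact congrArg Subtype.val this

/-- Let L₁ ≅ SL₂(q₁) and L₂ ≅ SL₂(q₂), q₁ and q₂ odd, be elementwise-commuting subgroups of a finite group meeting in ⟨j⟩ for an involution j. Then L₁L₂ has exactly two conjugacy classes of involutions: the central involution j, and one further class (there is an involution x ≠ j in L₁L₂, and every involution of L₁L₂ other than j is conjugate to x by an element of L₁L₂). -/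
theorem result {G : Type*} [Group G] [Finite G]
    {F₁ : Type*} [Field F₁] [Fintype F₁] {F₂ : Type*} [Field F₂] [Fintype F₂]
    (hF₁ : Odd (Fintype.card F₁)) (hF₂ : Odd (Fintype.card F₂)) (L₁ L₂ : Subgroup G)
    (e₁ : ↥L₁ ≃* Matrix.SpecialLinearGroup (Fin 2) F₁) (e₂ : ↥L₂ ≃* Matrix.SpecialLinearGroup (Fin 2) F₂)
    (hc : ∀ x ∈ L₁, ∀ y ∈ L₂, x * y = y * x) (j : G) (hj : orderOf j = 2) (hm : L₁ ⊓ L₂ = Subgroup.zpowers j) :
    ∃ x ∈ L₁ ⊔ L₂, orderOf x = 2 ∧ x ≠ j ∧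
      ∀ y ∈ L₁ ⊔ L₂, orderOf y = 2 → y = j ∨ ∃ g ∈ L₁ ⊔ L₂, g * x * g⁻¹ = y := by
  have hjmem : j ∈ L₁ ⊓ L₂ := by rw [hm]; exact Subgroup.mem_zpowers j
  have hj1 : j ≠ 1 := by
    intro h; rw [h, orderOf_one] at hj; omega
  have hjj : j * j = 1 := by
    have := pow_orderOf_eq_one j
    rw [hj, sq] at this; exact this
  have hjinv : j⁻¹ = j := by rw [inv_eq_iff_mul_eq_one]; exact hjj
  obtain ⟨inv₁, ⟨a₀, ha₀, ha₀j⟩, conj₁⟩ := sl2_facts hF₁ L₁ e₁ j hj hjmem.1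
  obtain ⟨inv₂, ⟨b₀, hb₀, hb₀j⟩, conj₂⟩ := sl2_facts hF₂ L₂ e₂ j hj hjmem.2
  have hinter : ∀ z, z ∈ L₁ → z ∈ L₂ → z = 1 ∨ z = j := by
    intro z h1 h2
    apply mem_zpowers_order_two hj
    rw [← hm]; exact ⟨h1, h2⟩
  -- b₀ is not in L₁
  have hb₀L₁ : b₀ ∉ L₁ := by
    intro h
    rcases hinter b₀ h hb₀ with h1 | h1
    · rw [h1, one_mul] at hb₀j; exact hj1 hb₀j.symm
    · rw [h1, hjj] at hb₀j; exact hj1 hb₀j.symm
  have hcomm : a₀ * b₀ = b₀ * a₀ := hc a₀ ha₀ b₀ hb₀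
  have hxx : (a₀ * b₀) * (a₀ * b₀) = 1 := by
    calc (a₀ * b₀) * (a₀ * b₀) = a₀ * (b₀ * a₀) * b₀ := by group
      _ = a₀ * (a₀ * b₀) * b₀ := by rw [hcomm]
      _ = (a₀ * a₀) * (b₀ * b₀) := by group
      _ = 1 := by rw [ha₀j, hb₀j, hjj]
  have hx1 : a₀ * b₀ ≠ 1 := by
    intro h
    apply hb₀L₁
    have : b₀ = a₀⁻¹ := by rw [eq_inv_iff_mul_eq_one, ← hcomm]; exact h
    rw [this]; exact L₁.inv_mem ha₀
  refine ⟨a₀ * b₀, Subgroup.mul_mem _ (Subgroup.mem_sup_left ha₀) (Subgroup.mem_sup_right hb₀), ?_, ?_, ?_⟩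
  · exact orderOf_eq_prime (by rw [sq]; exact hxx) hx1
  · intro h
    apply hb₀L₁
    have : b₀ = a₀⁻¹ * j := by rw [← h]; group
    rw [this]; exact L₁.mul_mem (L₁.inv_mem ha₀) hjmem.1
  · intro y hy hyo
    obtain ⟨a, ha, b, hb, rfl⟩ := exists_mul_of_mem_sup L₁ L₂ hc hy
    have hab : a * b = b * a := hc a ha b hb
    have hy2 : (a * b) * (a * b) = 1 := by
      have := pow_orderOf_eq_one (a * b)
      rw [hyo, sq] at this; exact this
    have hy1 : a * b ≠ 1 := by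
      intro h; rw [h, orderOf_one] at hyo; omega
    have haabb : (a * a) * (b * b) = 1 := by
      calc (a * a) * (b * b) = a * (a * b) * b := by group
        _ = a * (b * a) * b := by rw [hab]
        _ = (a * b) * (a * b) := by group
        _ = 1 := hy2
    have haa_eq : a * a = (b * b)⁻¹ := eq_inv_of_mul_eq_one_left haabb
    have haaL₂ : a * a ∈ L₂ := by rw [haa_eq]; exact L₂.inv_mem (L₂.mul_mem hb hb)
    rcases hinter (a * a) (L₁.mul_mem ha ha) haaL₂ with haa | haa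
    · -- a * a = 1
      left
      have hbb : b * b = 1 := by rw [haa, one_mul] at haabb; exact haabb
      rcases inv₁ a ha haa with h1 | h1 <;> rcases inv₂ b hb hbb with h2 | h2
      · exfalso; apply hy1; rw [h1, h2, one_mul]
      · rw [h1, h2, one_mul]
      · rw [h1, h2, mul_one]
      · exfalso; apply hy1; rw [h1, h2, hjj]
    · right
      have hbb : b * b = j := by
        rw [haa] at haabb
        have : b * b = j⁻¹ := eq_inv_of_mul_eq_one_right haabb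
        rw [this, hjinv]
      obtain ⟨g, hg, hga⟩ := conj₁ a₀ ha₀ a ha ha₀j haa
      obtain ⟨h, hh, hhb⟩ := conj₂ b₀ hb₀ b hb hb₀j hbb
      refine ⟨g * h, Subgroup.mul_mem _ (Subgroup.mem_sup_left hg) (Subgroup.mem_sup_right hh), ?_⟩
      have c1 : h * a₀ = a₀ * h := (hc a₀ ha₀ h hh).symm
      have c2 : (h * b₀ * h⁻¹) * g⁻¹ = g⁻¹ * (h * b₀ * h⁻¹) :=
        (hc g⁻¹ (L₁.inv_mem hg) _ (L₂.mul_mem (L₂.mul_mem hh hb₀) (L₂.inv_mem hh))).symm
      calc g * h * (a₀ * b₀) * (g * h)⁻¹ = g * (h * a₀) * b₀ * h⁻¹ * g⁻¹ := by group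
        _ = g * (a₀ * h) * b₀ * h⁻¹ * g⁻¹ := by rw [c1]
        _ = g * a₀ * ((h * b₀ * h⁻¹) * g⁻¹) := by group
        _ = g * a₀ * (g⁻¹ * (h * b₀ * h⁻¹)) := by rw [c2]
        _ = (g * a₀ * g⁻¹) * (h * b₀ * h⁻¹) := by group
        _ = a * b := by rw [hga, hhb]

end Cfsg.Agent.S3209
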