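import Cfsg.Statements.S3210
import Cfsg.Agent.Helper99.CentralProd
import Cfsg.Agent.Helper99.SL2Normal
import Cfsg.Agent.Helper99.SL2Pair

set_option autoImplicit false
open Cfsg

namespace Cfsg.Agent.S3210

/-- Let G be a finite group with subgroups L₁ ≅ SL₂(q₁) and L₂ ≅ SL₂(q₂), q₁ and q₂ odd prime powers, which commute elementwise and meet in ⟨j⟩ for an involution j, and suppose L₁L₂ has index 2 in C_G(j). Then every element n of C_G(j) outside L₁L₂ either normalizes both L₁ and L₂, or conjugates L₁ onto L₂; in the second case q₁ = q₂ and there is an element n′ of C_G(j) outside L₁L₂ conjugating L₁ onto L₂ with n′² ∈ ⟨j⟩. -/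
theorem result {G : Type*} [Group G] [Finite G]
    {F₁ : Type*} [Field F₁] [Fintype F₁] {F₂ : Type*} [Field F₂] [Fintype F₂]
    (hF₁ : Odd (Fintype.card F₁)) (hF₂ : Odd (Fintype.card F₂)) (L₁ L₂ : Subgroup G)
    (e₁ : ↥L₁ ≃* Matrix.SpecialLinearGroup (Fin 2) F₁) (e₂ : ↥L₂ ≃* Matrix.SpecialLinearGroup (Fin 2) F₂)
    (hc : ∀ x ∈ L₁, ∀ y ∈ L₂, x * y = y * x) (j : G) (hj : orderOf j = 2) (hm : L₁ ⊓ L₂ = Subgroup.zpowers j)
    (hle : L₁ ⊔ L₂ ≤ Subgroup.centralizer ({j} : Set G)) (hi : (L₁ ⊔ L₂).relIndex (Subgroup.centralizer ({j} : Set G)) = 2) (n : G) (hn : n ∈ Subgroup.centralizer ({j} : Set G)) (hn' : n ∉ L₁ ⊔ L₂) :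
    (L₁.map (MulAut.conj n).toMonoidHom = L₁ ∧ L₂.map (MulAut.conj n).toMonoidHom = L₂) ∨
      (L₁.map (MulAut.conj n).toMonoidHom = L₂ ∧ Fintype.card F₁ = Fintype.card F₂ ∧
        ∃ n' ∈ Subgroup.centralizer ({j} : Set G), n' ∉ L₁ ⊔ L₂ ∧ L₁.map (MulAut.conj n').toMonoidHom = L₂ ∧ n' ^ 2 ∈ Subgroup.zpowers j) := by
  classical
  have hjL : j ∈ L₁ ⊓ L₂ := by rw [hm]; exact Subgroup.mem_zpowers j
  have hj1 : j ∈ L₁ := (Subgroup.mem_inf.1 hjL).1
  have hj2 : j ∈ L₂ := (Subgroup.mem_inf.1 hjL).2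
  have hjc1 : ∀ x ∈ L₁, j * x = x * j := fun x hx => (hc x hx j hj2).symm
  have hjc2 : ∀ x ∈ L₂, j * x = x * j := fun x hx => hc j hj1 x hx
  -- `L₁ ⊔ L₂` is normal in the centralizer
  have hLn : ((L₁ ⊔ L₂).subgroupOf (Subgroup.centralizer ({j} : Set G))).Normal :=
    Subgroup.normal_of_index_eq_two hi
  have hconjL : ∀ g ∈ Subgroup.centralizer ({j} : Set G), ∀ x ∈ L₁ ⊔ L₂, g * x * g⁻¹ ∈ L₁ ⊔ L₂ := by
    intro g hg x hx
    have := hLn.conj_mem ⟨x, hle hx⟩ (by rw [Subgroup.mem_subgroupOf]; exact hx) ⟨g, hg⟩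
    rw [Subgroup.mem_subgroupOf] at this
    simpa using this
  have hnj : n * j * n⁻¹ = j := by
    have := (Subgroup.mem_centralizer_iff.1 hn) j (Set.mem_singleton j)
    rw [← this]; group
  set φ := (MulAut.conj n).toMonoidHom with hφ
  have hφinj : Function.Injective φ := (MulAut.conj n).injective
  have hφa : ∀ x, φ x = n * x * n⁻¹ := fun x => by simp [hφ, MulAut.conj_apply]
  have hMM : L₁.map φ ⊔ L₂.map φ = L₁ ⊔ L₂ := by
    rw [← Subgroup.map_sup]
    apply le_antisymm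
    · rintro _ ⟨x, hx, rfl⟩
      rw [hφa]
      exact hconjL n hn x hx
    · intro x hx
      refine ⟨n⁻¹ * x * n, ?_, ?_⟩
      · have := hconjL n⁻¹ (inv_mem hn) x hx
        simpa using this
      · rw [hφa]; group
  have hMZ : L₁.map φ ⊓ L₂.map φ = L₁ ⊓ L₂ := by
    rw [← Subgroup.map_inf_eq _ _ _ hφinj, hm, MonoidHom.map_zpowers, hφa, hnj]
  have hMc : ∀ x ∈ L₁.map φ, ∀ y ∈ L₂.map φ, x * y = y * x := by
    rintro _ ⟨x, hx, rfl⟩ _ ⟨y, hy, rfl⟩
    rw [← map_mul, ← map_mul, hc x hx y hy]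
  have hne₁ : ¬ L₁.map φ ≤ L₁ ⊓ L₂ := by
    intro hle'
    apply Cfsg.Agent.Helper99.sl2Emb_not_le_zpowers L₁ e₁ j
    intro x hx
    have h1 : φ x ∈ L₁ ⊓ L₂ := hle' ⟨x, hx, rfl⟩
    rw [hm] at h1
    obtain ⟨k, hk⟩ := h1
    refine ⟨k, ?_⟩
    apply hφinj
    rw [← hk]
    have : φ j = j := by rw [hφa, hnj]
    rw [map_zpow, this]
  have hne₂ : ¬ L₂.map φ ≤ L₁ ⊓ L₂ := by
    intro hle'
    apply Cfsg.Agent.Helper99.sl2Emb_not_le_zpowers L₂ e₂ j
    intro x hx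
    have h1 : φ x ∈ L₁ ⊓ L₂ := hle' ⟨x, hx, rfl⟩
    rw [hm] at h1
    obtain ⟨k, hk⟩ := h1
    refine ⟨k, ?_⟩
    apply hφinj
    rw [← hk]
    have : φ j = j := by rw [hφa, hnj]
    rw [map_zpow, this]
  have hperm := Cfsg.Agent.Helper99.central_product_perm L₁ L₂ (L₁.map φ) (L₂.map φ)
    (Cfsg.Agent.Helper99.sl2Emb L₁ e₁) (Cfsg.Agent.Helper99.sl2Emb L₂ e₂)
    (Cfsg.Agent.Helper99.sl2Emb_range L₁ e₁) (Cfsg.Agent.Helper99.sl2Emb_range L₂ e₂)
    hc hMc hMZ hMM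
    (fun A B hA hB hAB => by
      have := hA; have := hB
      exact Cfsg.Agent.Helper99.sl2_sup_normal hF₁ A B hAB)
    (fun A B hA hB hAB => by
      have := hA; have := hB
      exact Cfsg.Agent.Helper99.sl2_sup_normal hF₂ A B hAB)
    (fun x hx => by
      rw [hm] at hx ⊢
      exact Cfsg.Agent.Helper99.sl2Emb_second_center hF₁ L₁ e₁ j hj hj1 hjc1 x hx)
    (fun x hx => by
      rw [hm] at hx ⊢
      exact Cfsg.Agent.Helper99.sl2Emb_second_center hF₂ L₂ e₂ j hj hj2 hjc2 x hx)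
    hne₁ hne₂
  rcases hperm with ⟨h1, h2⟩ | ⟨h1, h2⟩
  · exact Or.inl ⟨h1, h2⟩
  · right
    refine ⟨h1, ?_, ?_⟩
    · -- cardinalities
      apply Cfsg.Agent.Helper99.card_field_eq_of_card_sl2_eq
      rw [← Nat.card_congr e₁.toEquiv, ← Nat.card_congr e₂.toEquiv, ← h1,
        Subgroup.card_map_of_injective hφinj]
    · -- the element `n'`
      have hn2 : n * n ∈ L₁ ⊔ L₂ := by
        have := Subgroup.mul_self_mem_of_index_two hi ⟨n, hn⟩
        rw [Subgroup.mem_subgroupOf] at this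
        simpa using this
      obtain ⟨a, ha, b, hb, hab⟩ :=
        Cfsg.Agent.Helper99.exists_mul_of_mem_sup_of_commute L₁ L₂ hc hn2
      have haC : a ∈ Subgroup.centralizer ({j} : Set G) := hle (Subgroup.mem_sup_left ha)
      -- conjugation by `n` swaps
      have hsw1 : ∀ x ∈ L₁, n * x * n⁻¹ ∈ L₂ := by
        intro x hx
        rw [← h1, ← hφa]; exact ⟨x, hx, rfl⟩
      have hsw2 : ∀ x ∈ L₂, n * x * n⁻¹ ∈ L₁ := by
        intro x hx
        rw [← h2, ← hφa]; exact ⟨x, hx, rfl⟩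
      have hsw1' : ∀ x ∈ L₁, n⁻¹ * x * n ∈ L₂ := by
        intro x hx
        rw [← h2] at hx
        obtain ⟨y, hy, rfl⟩ := hx
        rw [hφa]
        have : n⁻¹ * (n * y * n⁻¹) * n = y := by group
        rw [this]; exact hy
      have hsw2' : ∀ x ∈ L₂, n⁻¹ * x * n ∈ L₁ := by
        intro x hx
        rw [← h1] at hx
        obtain ⟨y, hy, rfl⟩ := hx
        rw [hφa]
        have : n⁻¹ * (n * y * n⁻¹) * n = y := by group
        rw [this]; exact hy
      refine ⟨n * a⁻¹, mul_mem hn (inv_mem haC), ?_, ?_, ?_⟩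
      · intro h
        apply hn'
        have : n = n * a⁻¹ * a := by group
        rw [this]
        exact mul_mem h (Subgroup.mem_sup_left ha)
      · -- conjugation by `n * a⁻¹` maps `L₁` onto `L₂`
        rw [← h1]
        ext x
        constructor
        · rintro ⟨y, hy, rfl⟩
          refine ⟨a⁻¹ * y * a, mul_mem (mul_mem (inv_mem ha) hy) ha, ?_⟩
          simp only [MulEquiv.coe_toMonoidHom, MulAut.conj_apply, hφ]
          group
        · rintro ⟨y, hy, rfl⟩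
          refine ⟨a * y * a⁻¹, mul_mem (mul_mem ha hy) (inv_mem ha), ?_⟩
          simp only [MulEquiv.coe_toMonoidHom, MulAut.conj_apply, hφ]
          group
      · -- the square
        rw [← hm]
        set c := n⁻¹ * a⁻¹ * n with hcdef
        have hcL₂ : c ∈ L₂ := hsw1' a⁻¹ (inv_mem ha)
        have hsq : (n * a⁻¹) ^ 2 = b * c := by
          have e1 : (n * a⁻¹) ^ 2 = (n * n) * (n⁻¹ * a⁻¹ * n) * a⁻¹ := by
            rw [pow_two]; group
          rw [e1, hab, ← hcdef]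
          have hcomm := hc a ha (b * c) (mul_mem hb hcL₂)
          calc a * b * c * a⁻¹ = a * (b * c) * a⁻¹ := by group
            _ = (b * c) * a * a⁻¹ := by rw [hcomm]
            _ = b * c := by group
        refine Subgroup.mem_inf.2 ⟨?_, ?_⟩
        · -- `(n a⁻¹)² = (n a⁻¹) (n a⁻¹)² (n a⁻¹)⁻¹ ∈ n L₂ n⁻¹ = L₁`
          have e2 : (n * a⁻¹) ^ 2 = n * (a⁻¹ * (n * a⁻¹) ^ 2 * a) * n⁻¹ := by
            rw [pow_two]; group
          rw [e2]
          apply hsw2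
          rw [hsq]
          have hcomm := hc a⁻¹ (inv_mem ha) (b * c) (mul_mem hb hcL₂)
          rw [hcomm]
          have : b * c * a⁻¹ * a = b * c := by group
          rw [this]
          exact mul_mem hb hcL₂
        · rw [hsq]; exact mul_mem hb hcL₂

end Cfsg.Agent.S3210
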