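import Cfsg.Statements.S3213
import Cfsg.Agent.Helper37.SL25A
import Cfsg.Agent.Helper37.SL25C

set_option autoImplicit false
open Cfsg

namespace Cfsg.Agent.S3213

/-- Let F be the field with 3 elements and K the field with 5 elements. For every injective homomorphism φ from SL₂(K) into the symplectic group Sp₄(F) (4 × 4 matrices g with g J gᵀ = J for the standard alternating matrix J) and every element x of order 3 of SL₂(K), the vectors of F⁴ fixed by φ(x) form a 2-dimensional subspace that is totally isotropic for the alternating form defined by J. -/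
theorem result {F : Type*} [Field F] [Fintype F] (hF : Fintype.card F = 3)
    {K : Type*} [Field K] [Fintype K] (hK : Fintype.card K = 5)
    (φ : Matrix.SpecialLinearGroup (Fin 2) K →* ↥(Matrix.symplecticGroup (Fin 2) F)) (hφ : Function.Injective φ)
    (x : Matrix.SpecialLinearGroup (Fin 2) K) (hx : orderOf x = 3) :
    Module.finrank F ↥(LinearMap.ker (Matrix.toLin' ((φ x : Matrix (Fin 2 ⊕ Fin 2) (Fin 2 ⊕ Fin 2) F)) - LinearMap.id)) = 2 ∧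
      ∀ v w : Fin 2 ⊕ Fin 2 → F, (φ x : Matrix (Fin 2 ⊕ Fin 2) (Fin 2 ⊕ Fin 2) F).mulVec v = v →
        (φ x : Matrix (Fin 2 ⊕ Fin 2) (Fin 2 ⊕ Fin 2) F).mulVec w = w →
          dotProduct v ((Matrix.J (Fin 2) F).mulVec w) = 0 := by
  classical
  have hx3 : x ^ 3 = 1 := by rw [← hx]; exact pow_orderOf_eq_one x
  have hx1 : x ≠ 1 := by
    intro h; rw [h, orderOf_one] at hx; omega
  obtain ⟨y, hyy, hxy⟩ := Cfsg.Agent.Helper37.SL25.exists_inverting hK x hx1 hx3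
  have hι : Fintype.card (Fin 2 ⊕ Fin 2) = 4 := by simp
  have hcoe_mul : ∀ a b : ↥(Matrix.symplecticGroup (Fin 2) F),
      ((a * b : ↥(Matrix.symplecticGroup (Fin 2) F)) : Matrix (Fin 2 ⊕ Fin 2) (Fin 2 ⊕ Fin 2) F) =
        (a : Matrix (Fin 2 ⊕ Fin 2) (Fin 2 ⊕ Fin 2) F) * b := fun _ _ => rfl
  have hcoe_one : ((1 : ↥(Matrix.symplecticGroup (Fin 2) F)) :
      Matrix (Fin 2 ⊕ Fin 2) (Fin 2 ⊕ Fin 2) F) = 1 := rfl
  have hcoe_pow : ∀ (a : ↥(Matrix.symplecticGroup (Fin 2) F)) (k : ℕ),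
      ((a ^ k : ↥(Matrix.symplecticGroup (Fin 2) F)) : Matrix (Fin 2 ⊕ Fin 2) (Fin 2 ⊕ Fin 2) F) =
        (a : Matrix (Fin 2 ⊕ Fin 2) (Fin 2 ⊕ Fin 2) F) ^ k := fun a k => SubmonoidClass.coe_pow a k
  have hne_one : ∀ g : Matrix.SpecialLinearGroup (Fin 2) K, g ≠ 1 →
      ((φ g : ↥(Matrix.symplecticGroup (Fin 2) F)) : Matrix (Fin 2 ⊕ Fin 2) (Fin 2 ⊕ Fin 2) F) ≠ 1 := by
    intro g hg h
    apply hg
    apply hφ
    rw [map_one]
    exact Subtype.ext h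
  -- the element of order five
  have hT5 : ((φ Cfsg.Agent.Helper37.SL25.tEl : ↥(Matrix.symplecticGroup (Fin 2) F)) :
      Matrix (Fin 2 ⊕ Fin 2) (Fin 2 ⊕ Fin 2) F) ^ 5 = 1 := by
    rw [← hcoe_pow, ← map_pow, Cfsg.Agent.Helper37.SL25.tEl_pow_five hK, map_one]
    rfl
  have hT1 := hne_one _ (Cfsg.Agent.Helper37.SL25.tEl_ne_one (K := K))
  -- the central involution
  have hZ2 : ((φ (Cfsg.Agent.Helper37.SL25.cEl hK) : ↥(Matrix.symplecticGroup (Fin 2) F)) :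
      Matrix (Fin 2 ⊕ Fin 2) (Fin 2 ⊕ Fin 2) F) * (φ (Cfsg.Agent.Helper37.SL25.cEl hK) :
        ↥(Matrix.symplecticGroup (Fin 2) F)) = 1 := by
    rw [← hcoe_mul, ← map_mul, Cfsg.Agent.Helper37.SL25.cEl_mul_self hK, map_one]
    rfl
  have hZ1 := hne_one _ (Cfsg.Agent.Helper37.SL25.cEl_ne_one hK)
  have hZT : ((φ (Cfsg.Agent.Helper37.SL25.cEl hK) : ↥(Matrix.symplecticGroup (Fin 2) F)) :
      Matrix (Fin 2 ⊕ Fin 2) (Fin 2 ⊕ Fin 2) F) * (φ Cfsg.Agent.Helper37.SL25.tEl :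
        ↥(Matrix.symplecticGroup (Fin 2) F)) =
      ((φ Cfsg.Agent.Helper37.SL25.tEl : ↥(Matrix.symplecticGroup (Fin 2) F)) :
        Matrix (Fin 2 ⊕ Fin 2) (Fin 2 ⊕ Fin 2) F) * (φ (Cfsg.Agent.Helper37.SL25.cEl hK) :
          ↥(Matrix.symplecticGroup (Fin 2) F)) := by
    rw [← hcoe_mul, ← hcoe_mul, ← map_mul, ← map_mul, Cfsg.Agent.Helper37.SL25.cEl_comm hK]
  have hZ := Cfsg.Agent.Helper37.SL25.eq_neg_one_of_commute hF hι _ hT5 hT1 _ hZ2 hZ1 hZT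
  -- the inverting element
  have hY : ((φ y : ↥(Matrix.symplecticGroup (Fin 2) F)) :
      Matrix (Fin 2 ⊕ Fin 2) (Fin 2 ⊕ Fin 2) F) * (φ y : ↥(Matrix.symplecticGroup (Fin 2) F)) =
        -1 := by
    rw [← hcoe_mul, ← map_mul, hyy, hZ]
  have hxinv : x⁻¹ = x * x := by
    apply inv_eq_of_mul_eq_one_right
    rw [← hx3, pow_succ, pow_succ, pow_one, mul_assoc]
  have hUY : ((φ x : ↥(Matrix.symplecticGroup (Fin 2) F)) :
      Matrix (Fin 2 ⊕ Fin 2) (Fin 2 ⊕ Fin 2) F) * (φ y : ↥(Matrix.symplecticGroup (Fin 2) F)) =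
      ((φ y : ↥(Matrix.symplecticGroup (Fin 2) F)) : Matrix (Fin 2 ⊕ Fin 2) (Fin 2 ⊕ Fin 2) F) *
        (((φ x : ↥(Matrix.symplecticGroup (Fin 2) F)) :
          Matrix (Fin 2 ⊕ Fin 2) (Fin 2 ⊕ Fin 2) F) * (φ x : ↥(Matrix.symplecticGroup (Fin 2) F))) := by
    rw [← hcoe_mul, ← hcoe_mul, ← hcoe_mul, ← map_mul, ← map_mul, ← map_mul, hxy, hxinv]
  have hU3 : ((φ x : ↥(Matrix.symplecticGroup (Fin 2) F)) :
      Matrix (Fin 2 ⊕ Fin 2) (Fin 2 ⊕ Fin 2) F) ^ 3 = 1 := by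
    rw [← hcoe_pow, ← map_pow, hx3, map_one]
    rfl
  have hU1 := hne_one x hx1
  obtain ⟨hd, hN2⟩ := Cfsg.Agent.Helper37.SL25.main_linear hF hι _ _ hU3 hU1 hY hUY
  refine ⟨?_, ?_⟩
  · have e : Matrix.toLin' ((φ x : ↥(Matrix.symplecticGroup (Fin 2) F)) :
        Matrix (Fin 2 ⊕ Fin 2) (Fin 2 ⊕ Fin 2) F) - LinearMap.id =
        Matrix.toLin' (((φ x : ↥(Matrix.symplecticGroup (Fin 2) F)) :
          Matrix (Fin 2 ⊕ Fin 2) (Fin 2 ⊕ Fin 2) F) - 1) := by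
      rw [map_sub, Matrix.toLin'_one]
    rw [e]
    exact hd
  · have hUJ := _root_.SymplecticGroup.mem_iff'.mp (φ x).2
    exact Cfsg.Agent.Helper37.SL25.isotropic_of_sq_zero hι _ _ hUJ hN2 hd

end Cfsg.Agent.S3213
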