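import Cfsg.Statements.S3215
import Cfsg.Agent.Helper71.OddHall
import Cfsg.Agent.Helper71.FpfZGroup
import Cfsg.Agent.Helper71.OddHallQuot
import Cfsg.Agent.Helper71.OddHallInvolution
import Cfsg.Agent.Helper62.PSolvDual

set_option autoImplicit false
open Cfsg

namespace Cfsg.Agent.S3215

open Cfsg.Agent.Helper71 in
/-- Let H be a finite solvable group with no nontrivial normal subgroup of odd order in which the centralizer of every involution has a normal 2-complement. Let X be a Hall 2'-subgroup of H (odd order, index a power of 2) and Y = O₂(H). Then no non-identity element of X commutes with a non-identity element of Y (so for X ≠ 1 the group XY is a Frobenius group with kernel Y), every Sylow subgroup of X is cyclic, XY is normal in H, and H/XY is a cyclic 2-group. -/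
theorem result {H : Type*} [Group H] [Finite H] (hsol : Group.IsSolvable H)
    (hO : Cfsg.oddCore H = ⊥)
    (hI : ∀ t : H, orderOf t = 2 → Cfsg.HasNormalPComplement 2 ↥(Subgroup.centralizer ({t} : Set H)))
    (X : Subgroup H) (hXodd : Odd (Nat.card X)) (hXidx : ∃ k : ℕ, X.index = 2 ^ k) :
    (∀ x ∈ X, x ≠ 1 → ∀ y ∈ Cfsg.pCore 2 H, y ≠ 1 → x * y ≠ y * x) ∧
      (∀ (p : ℕ) [Fact p.Prime] (P : Sylow p ↥X), IsCyclic ↥(P : Subgroup ↥X)) ∧
      (X ⊔ Cfsg.pCore 2 H).Normal ∧
      ∀ hN : (X ⊔ Cfsg.pCore 2 H).Normal, IsCyclic (H ⧸ (X ⊔ Cfsg.pCore 2 H)) ∧ IsPGroup 2 (H ⧸ (X ⊔ Cfsg.pCore 2 H)) := by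
  haveI := hsol
  haveI : Fact (Nat.Prime 2) := ⟨Nat.prime_two⟩
  have hO' : Cfsg.pPrimeCore 2 H = ⊥ := hO
  set Y := Cfsg.pCore 2 H with hYdef
  haveI hYn : Y.Normal := Cfsg.pCore_normal 2 H
  have hY : IsPGroup 2 Y := Cfsg.Agent.Lib.isPGroup_pCore 2
  have hXord : ∀ x ∈ X, Odd (orderOf x) := by
    intro x hx
    have h1 := orderOf_dvd_natCard (⟨x, hx⟩ : X)
    rw [Subgroup.orderOf_mk] at h1
    exact Odd.of_dvd_nat hXodd h1
  -- Step 1
  have step1 : ∀ x ∈ X, x ≠ 1 → ∀ y ∈ Y, y ≠ 1 → x * y ≠ y * x := by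
    intro x hx hx1 y hy hy1
    exact fpf_on_pCore_two hO' hI (hXord x hx) hx1 hy hy1
  -- Step 2
  haveI hZ : IsZGroup X := by
    by_cases hY1 : Y = ⊥
    · have hsub : ∀ g : H, g = 1 := by
        intro g
        have h1 := Cfsg.Agent.Helper55.centralizer_pCore_le (G := H) 2 hO'
        have h2 : g ∈ Subgroup.centralizer ((Cfsg.pCore 2 H : Subgroup H) : Set H) := by
          rw [← hYdef, hY1, Subgroup.mem_centralizer_iff]
          intro z hz
          rw [Subgroup.coe_bot, Set.mem_singleton_iff] at hz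
          rw [hz, one_mul, mul_one]
        have h3 := h1 h2
        rwa [← hYdef, hY1, Subgroup.mem_bot] at h3
      haveI : Subsingleton H := ⟨fun a b => (hsub a).trans (hsub b).symm⟩
      exact ⟨fun p _ P => isCyclic_of_subsingleton⟩
    · exact isZGroup_of_fpf_of_odd Y X hY1 hXodd step1
  -- the quotient by `Y`
  set π := QuotientGroup.mk' Y with hπ
  have hπs : Function.Surjective π := QuotientGroup.mk'_surjective Y
  have hker : π.ker = Y := QuotientGroup.ker_mk' Y
  set X' := X.map π with hX'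
  have hO2 : Cfsg.pCore 2 (H ⧸ Y) = ⊥ := Cfsg.Agent.Helper62.pCore_quotient_pCore_eq_bot 2
  have hodd' : Odd (Nat.card X') := Odd.of_dvd_nat hXodd (Subgroup.card_map_dvd X π)
  obtain ⟨k, hk⟩ := hXidx
  have hidx' : ∃ k' : ℕ, X'.index = 2 ^ k' := by
    have h1 : X'.index ∣ 2 ^ k := hk ▸ Subgroup.index_map_dvd X hπs
    obtain ⟨m, -, hm⟩ := (Nat.dvd_prime_pow Nat.prime_two).mp h1
    exact ⟨m, hm⟩
  haveI hZ' : IsZGroup X' :=
    IsZGroup.of_surjective (f := π.subgroupMap X) (π.subgroupMap_surjective X)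
  obtain ⟨hFX, -, hcomF⟩ := fitting_cyclic_of_oddHall_isZGroup hO2 X' hodd' hidx'
  have hinv : ∀ v : H ⧸ Y, orderOf v = 2 → ∀ x ∈ Cfsg.fittingSubgroup (H ⧸ Y), x ≠ 1 →
      v * x ≠ x * v := by
    intro v hv x' hx'F hx'1 hcomm
    obtain ⟨s, rfl⟩ := hπs v
    obtain ⟨x, hxX, rfl⟩ := Subgroup.mem_map.mp (hFX hx'F)
    have hs : s ∉ Y := by
      intro h
      have h1 : π s = 1 := (QuotientGroup.eq_one_iff s).mpr h
      rw [h1, orderOf_one] at hv
      omega
    have hs2 : s * s ∈ Y := by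
      apply (QuotientGroup.eq_one_iff (s * s)).mp
      have h1 := pow_orderOf_eq_one (π s)
      rw [hv, pow_two] at h1
      exact h1
    have hx1 : x ≠ 1 := by
      intro h
      apply hx'1
      rw [h, map_one]
    have hsx : ∀ j : ℕ, s * x ^ j * s⁻¹ * (x ^ j)⁻¹ ∈ Y := by
      intro j
      apply (QuotientGroup.eq_one_iff _).mp
      have h1 : Commute (π s) (π x) := hcomm
      have h2 : Commute (π s) (π x ^ j) := h1.pow_right j
      change π (s * x ^ j * s⁻¹ * (x ^ j)⁻¹) = 1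
      rw [map_mul, map_mul, map_mul, map_inv, map_inv, map_pow, h2.eq]
      group
    exact involution_mod_pCore_not_commute hO' hI hs hs2 (hXord x hxX) hx1 hsx
  obtain ⟨s', hs'⟩ := exists_generator_mod_oddHall hO2 X' hodd' hidx' hinv
  -- normality
  have hcomX : commutator (H ⧸ Y) ≤ X' := hcomF.trans hFX
  haveI hX'n : X'.Normal := by
    constructor
    intro x hx g
    have h1 : g * x * g⁻¹ * x⁻¹ ∈ X' := by
      apply hcomX
      rw [_root_.commutator_def]
      have := Subgroup.commutator_mem_commutator (H₁ := (⊤ : Subgroup (H ⧸ Y))) (H₂ := ⊤)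
        (Subgroup.mem_top g) (Subgroup.mem_top x)
      rwa [commutatorElement_def] at this
    have : g * x * g⁻¹ = (g * x * g⁻¹ * x⁻¹) * x := by group
    rw [this]
    exact X'.mul_mem h1 hx
  have hsup : X ⊔ Y = X'.comap π := by
    rw [hX', Subgroup.comap_map_eq, hker]
  have hN0 : (X ⊔ Y).Normal := by
    rw [hsup]
    infer_instance
  refine ⟨step1, fun p _ P => inferInstance, hN0, ?_⟩
  intro hN
  constructor
  · obtain ⟨s, rfl⟩ := hπs s'
    rw [isCyclic_iff_exists_zpowers_eq_top]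
    refine ⟨(QuotientGroup.mk s : H ⧸ (X ⊔ Y)), ?_⟩
    rw [Subgroup.eq_top_iff']
    intro q
    obtain ⟨g, rfl⟩ := QuotientGroup.mk_surjective q
    obtain ⟨n, x', hx', hg⟩ := hs' (π g)
    obtain ⟨x, hxX, rfl⟩ := Subgroup.mem_map.mp hx'
    rw [Subgroup.mem_zpowers_iff]
    refine ⟨n, ?_⟩
    rw [← QuotientGroup.mk_zpow]
    apply QuotientGroup.eq.mpr
    have h1 : π g = π (s ^ n * x) := by rw [hg, map_mul, map_zpow]
    have h2 : (s ^ n * x)⁻¹ * g ∈ Y := by
      have := QuotientGroup.eq.mp h1.symm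
      exact this
    have h3 : (s ^ n)⁻¹ * g = x * ((s ^ n * x)⁻¹ * g) := by group
    rw [h3]
    exact (X ⊔ Y).mul_mem (Subgroup.mem_sup_left hxX) (Subgroup.mem_sup_right h2)
  · have h1 : (X ⊔ Y).index ∣ 2 ^ k := hk ▸ Subgroup.index_dvd_of_le le_sup_left
    obtain ⟨m, -, hm⟩ := (Nat.dvd_prime_pow Nat.prime_two).mp h1
    exact IsPGroup.of_card (n := m) hm

end Cfsg.Agent.S3215
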