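import Cfsg.Statements.S3225
import Mathlib.GroupTheory.Transfer
import Mathlib.GroupTheory.IndexNormal
import Mathlib.GroupTheory.SpecificGroups.Cyclic

set_option autoImplicit false
set_option linter.style.haveILetI false
open Cfsg

namespace Cfsg.Agent.S3225

/-- In a group of order two, any two non-identity elements coincide. -/
theorem eq_of_ne_one_of_card_two {A : Type*} [Group A] (hA : Nat.card A = 2) {a b : A}
    (ha : a ≠ 1) (hb : b ≠ 1) : a = b := by
  obtain ⟨y, -, hy⟩ := (Nat.card_eq_two_iff' (1 : A)).mp hA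
  rw [hy a ha, hy b hb]

theorem sq_eq_one_of_card_two {A : Type*} [Group A] (hA : Nat.card A = 2) (a : A) : a ^ 2 = 1 := by
  haveI : Finite A := Nat.finite_of_card_ne_zero (by omega)
  rw [← hA]; exact pow_card_eq_one'

/-- Let G be a finite group of even order with no subgroup of index 2, S a Sylow 2-subgroup of G and M a subgroup of index 2 in S such that, for some n ≥ 1, every element of S outside M has order greater than 2^(n−1). Then every element of S of order 2ⁿ is conjugate in G to an element of M. -/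
theorem result {G : Type*} [Group G] [Finite G] (hev : Even (Nat.card G))
    (hG : ∀ H : Subgroup G, H.index ≠ 2) (S : Sylow 2 G) (M : Subgroup G) (hMS : M ≤ (S : Subgroup G)) (hM : M.relIndex (S : Subgroup G) = 2)
    (n : ℕ) (hn : 1 ≤ n) (hord : ∀ y ∈ (S : Subgroup G), y ∉ M → 2 ^ (n - 1) < orderOf y)
    (x : G) (hx : x ∈ (S : Subgroup G)) (hxn : orderOf x = 2 ^ n) :
    ∃ g : G, g * x * g⁻¹ ∈ M := by
  classical
  by_contra hcon
  push Not at hcon
  set M' : Subgroup ↥(S : Subgroup G) := M.subgroupOf (S : Subgroup G) with hM'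
  have hidx : M'.index = 2 := hM
  haveI : M'.Normal := Subgroup.normal_of_index_eq_two hidx
  have hcardA : Nat.card (↥(S : Subgroup G) ⧸ M') = 2 := by
    rw [← Subgroup.index_eq_card]; exact hidx
  haveI : Fact (Nat.Prime 2) := ⟨Nat.prime_two⟩
  haveI : IsCyclic (↥(S : Subgroup G) ⧸ M') := isCyclic_of_prime_card hcardA
  letI : CommGroup (↥(S : Subgroup G) ⧸ M') := IsCyclic.commGroup
  let φ : ↥(S : Subgroup G) →* (↥(S : Subgroup G) ⧸ M') := QuotientGroup.mk' M'
  have hφ1 : ∀ y : ↥(S : Subgroup G), φ y = 1 ↔ (y : G) ∈ M := by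
    intro y
    show (QuotientGroup.mk' M') y = 1 ↔ _
    rw [QuotientGroup.mk'_apply, QuotientGroup.eq_one_iff]
    rfl
  -- the non-identity element
  set c := φ ⟨x, hx⟩ with hc
  have hc1 : c ≠ 1 := by
    intro h
    rw [hφ1] at h
    have := hcon 1
    simp at this
    exact this h
  have hc2 : c ^ 2 = 1 := sq_eq_one_of_card_two hcardA c
  have hφc : ∀ y : ↥(S : Subgroup G), (y : G) ∉ M → φ y = c := by
    intro y hy
    apply eq_of_ne_one_of_card_two hcardA _ hc1
    rwa [Ne, hφ1]
  haveI : (S : Subgroup G).FiniteIndex := inferInstance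
  -- transfer
  haveI : Fintype (Quotient (MulAction.orbitRel (Subgroup.zpowers x) (G ⧸ (S : Subgroup G)))) :=
    Fintype.ofFinite _
  have hgen : ∀ (m : ℕ) (g₀ : G) (h : g₀⁻¹ * x ^ m * g₀ ∈ (S : Subgroup G)), m ∣ 2 ^ n →
      φ ⟨g₀⁻¹ * x ^ m * g₀, h⟩ = c ^ m := by
    intro m g₀ hyS hmdvd
    obtain ⟨j, hjn, hj⟩ := (Nat.dvd_prime_pow Nat.prime_two).mp hmdvd
    by_cases hj0 : j = 0
    · -- fixed point: the conjugate of x lies outside M
      have hm1 : m = 1 := by rw [hj, hj0, pow_zero]
      subst hm1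
      rw [pow_one (a := c)]
      apply hφc
      show g₀⁻¹ * x ^ 1 * g₀ ∉ M
      rw [pow_one]
      have := hcon g₀⁻¹
      rwa [inv_inv] at this
    · -- non-fixed: the element has small order, so lies in M
      obtain ⟨i, rfl⟩ : ∃ i, j = i + 1 := ⟨j - 1, by omega⟩
      have hcm : c ^ m = 1 := by
        rw [hj, pow_succ, pow_mul', hc2, one_pow]
      rw [hcm, hφ1]
      show g₀⁻¹ * x ^ m * g₀ ∈ M
      by_contra hnot
      have hlt := hord _ hyS hnot
      have hpow : (g₀⁻¹ * x ^ m * g₀) ^ 2 ^ (n - 1) = 1 := by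
        have h1 : (x ^ m) ^ 2 ^ (n - 1) = 1 := by
          rw [← pow_mul, hj]
          have : 2 ^ (i + 1) * 2 ^ (n - 1) = 2 ^ n * 2 ^ i := by
            rw [← pow_add, ← pow_add]; congr 1; omega
          rw [this, pow_mul, ← hxn, pow_orderOf_eq_one, one_pow]
        have h2 : (g₀⁻¹ * x ^ m * g₀) ^ 2 ^ (n - 1) = g₀⁻¹ * (x ^ m) ^ 2 ^ (n - 1) * g₀ := by
          have := conj_pow (a := g₀⁻¹) (b := x ^ m) (i := 2 ^ (n - 1))
          rwa [inv_inv] at this
        rw [h2, h1, mul_one, inv_mul_cancel]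
      have hle := Nat.le_of_dvd (by positivity) (orderOf_dvd_of_pow_eq_one hpow)
      omega
  have key : MonoidHom.transfer φ x = c := by
    rw [MonoidHom.transfer_eq_prod_quotient_orbitRel_zpowers_quot]
    have hfac : ∀ q : Quotient (MulAction.orbitRel (Subgroup.zpowers x) (G ⧸ (S : Subgroup G))),
        φ ⟨q.out.out⁻¹ * x ^ Function.minimalPeriod (x • ·) q.out * q.out.out,
            QuotientGroup.out_conj_pow_minimalPeriod_mem (S : Subgroup G) x q.out⟩ =
          c ^ Function.minimalPeriod (x • ·) q.out := by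
      intro q
      apply hgen
      rw [← MulAction.pow_smul_eq_iff_minimalPeriod_dvd, ← hxn, pow_orderOf_eq_one, one_smul]
    rw [Finset.prod_congr rfl (fun q _ => hfac q), Finset.prod_pow_eq_pow_sum,
      ← Subgroup.index_eq_sum_minimalPeriod]
    have hodd : ¬ 2 ∣ (S : Subgroup G).index := S.not_dvd_index
    obtain ⟨k, hk⟩ : ∃ k, (S : Subgroup G).index = 2 * k + 1 := ⟨(S : Subgroup G).index / 2, by omega⟩
    rw [hk, pow_succ, pow_mul, hc2, one_pow, one_mul]
  -- the kernel of the transfer has index two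
  have hker : (MonoidHom.transfer φ).ker.index = 2 := by
    rw [Subgroup.index_ker]
    have hdvd : Nat.card (MonoidHom.transfer φ).range ∣ 2 := by
      have h := Subgroup.card_subgroup_dvd_card (MonoidHom.transfer φ).range
      rwa [hcardA] at h
    rcases (Nat.dvd_prime Nat.prime_two).mp hdvd with h1 | h2
    · exfalso
      rw [Subgroup.card_eq_one] at h1
      have : c ∈ (MonoidHom.transfer φ).range := ⟨x, key⟩
      rw [h1, Subgroup.mem_bot] at this
      exact hc1 this
    · exact h2
  exact hG _ hker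

end Cfsg.Agent.S3225
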