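import Cfsg.Statements.S3246
import Cfsg.Agent.Helper54.CharTwo

set_option autoImplicit false
set_option linter.style.haveILetI false
set_option linter.unusedVariables false
open Cfsg

namespace Cfsg.Agent.S3246

open Cfsg.Agent.Helper49 Cfsg.Agent.Helper54 Cfsg.Agent.Helper54.CT

/-- Under either hypothesis, every involution centralizer has characteristic 2. -/
theorem charPIn_centralizer_involution {G : Type*} [Group G] [Finite G]
    (h : (∀ M : Subgroup G, Cfsg.IsMaximalTwoLocal M → Cfsg.IsPConstrained 2 ↥M ∧ Cfsg.oddCore ↥M = ⊥) ∨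
      (∀ t : G, orderOf t = 2 → Cfsg.IsPConstrained 2 ↥(Subgroup.centralizer ({t} : Set G)) ∧
        Cfsg.oddCore ↥(Subgroup.centralizer ({t} : Set G)) = ⊥)) :
    ∀ t : G, orderOf t = 2 → CharPIn 2 (Subgroup.centralizer ({t} : Set G)) := by
  rcases h with ha | hb
  · intro t ht
    obtain ⟨M, hM, hle⟩ := exists_isMaximalTwoLocal_ge (isTwoLocal_centralizer ht)
    have hMc : CharPIn 2 M := charPIn_of_isPConstrained M (ha M hM).1 (ha M hM).2
    have htp : IsPGroup 2 (Subgroup.zpowers t) := by
      apply IsPGroup.of_card (n := 1)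
      rw [Nat.card_zpowers, ht, pow_one]
    exact charPIn_centralizer_of_le hMc htp hle
  · intro t ht
    exact charPIn_of_isPConstrained _ (hb t ht).1 (hb t ht).2

/-- A nontrivial finite 2-subgroup has a central involution. -/
theorem exists_central_involution {G : Type*} [Group G] [Finite G] (T : Subgroup G)
    (hT : IsPGroup 2 ↥T) (hTne : T ≠ ⊥) :
    ∃ z : G, z ∈ T ∧ orderOf z = 2 ∧ ∀ t ∈ T, z * t = t * z := by
  haveI : Nontrivial ↥T := (Subgroup.nontrivial_iff_ne_bot T).mpr hTne
  haveI : Nontrivial ↥(Subgroup.center ↥T) := hT.center_nontrivial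
  have hZp : IsPGroup 2 ↥(Subgroup.center ↥T) := hT.to_subgroup _
  obtain ⟨n, hn0, hn⟩ := hZp.nontrivial_iff_card.mp inferInstance
  have hdvd : 2 ∣ Nat.card ↥(Subgroup.center ↥T) := hn.symm ▸ dvd_pow_self _ (ne_of_gt hn0)
  obtain ⟨x, hx⟩ := exists_prime_orderOf_dvd_card' 2 hdvd
  refine ⟨((x : ↥T) : G), (x : ↥T).2, ?_, ?_⟩
  · rw [Subgroup.orderOf_coe, Subgroup.orderOf_coe, hx]
  · intro t ht
    have := Subgroup.mem_center_iff.mp x.2 ⟨t, ht⟩
    have h2 := congrArg Subtype.val this
    exact h2.symm

/-- Let G be a finite group whose Sylow 2-subgroup S has a self-centralizing normal subgroup of rank at least 3. Suppose that either every maximal 2-local subgroup of G is 2-constrained with no nontrivial normal subgroup of odd order, or the centralizer of every involution of G is 2-constrained with no nontrivial normal subgroup of odd order. Then S normalizes no nontrivial subgroup of G of odd order and every 2-local subgroup of G is 2-constrained. -/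
theorem result {G : Type*} [Group G] [Finite G]
    (S : Sylow 2 G) (A : Subgroup G) (hA : Cfsg.IsSCN (S : Subgroup G) A) (hA3 : ¬ Cfsg.PRankLE 2 2 ↥A)
    (h : (∀ M : Subgroup G, Cfsg.IsMaximalTwoLocal M → Cfsg.IsPConstrained 2 ↥M ∧ Cfsg.oddCore ↥M = ⊥) ∨
      (∀ t : G, orderOf t = 2 → Cfsg.IsPConstrained 2 ↥(Subgroup.centralizer ({t} : Set G)) ∧
        Cfsg.oddCore ↥(Subgroup.centralizer ({t} : Set G)) = ⊥)) :
    (∀ X : Subgroup G, Odd (Nat.card ↥X) → (S : Subgroup G) ≤ Subgroup.normalizer (X : Set G) → X = ⊥) ∧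
      (∀ T : Subgroup G, IsPGroup 2 ↥T → T ≠ ⊥ → Cfsg.IsPConstrained 2 ↥(Subgroup.normalizer (T : Set G))) := by
  have hinv := charPIn_centralizer_involution h
  obtain ⟨hAS, hSA, hCA⟩ := hA
  constructor
  · intro X hXodd hSX
    -- `A` is abelian
    have hAab : ∀ a ∈ A, ∀ b ∈ A, a * b = b * a := by
      intro a ha b hb
      have hb' : b ∈ (S : Subgroup G) ⊓ Subgroup.centralizer (A : Set G) := by rw [hCA]; exact hb
      exact (Subgroup.mem_centralizer_iff.mp hb'.2) a ha
    -- `E = Ω₁(A)` as a subgroup of `S`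
    let E : Subgroup ↥(S : Subgroup G) :=
      { carrier := {s | (s : G) ∈ A ∧ (s : G) * (s : G) = 1}
        mul_mem' := by
          rintro a b ⟨ha, ha2⟩ ⟨hb, hb2⟩
          refine ⟨A.mul_mem ha hb, ?_⟩
          show ((a : G) * (b : G)) * ((a : G) * (b : G)) = 1
          calc ((a : G) * (b : G)) * ((a : G) * (b : G))
              = (a : G) * ((b : G) * (a : G)) * (b : G) := by group
            _ = (a : G) * ((a : G) * (b : G)) * (b : G) := by rw [hAab _ hb _ ha]
            _ = ((a : G) * (a : G)) * ((b : G) * (b : G)) := by group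
            _ = 1 := by rw [ha2, hb2, one_mul]
        one_mem' := ⟨A.one_mem, by simp⟩
        inv_mem' := by
          rintro a ⟨ha, ha2⟩
          refine ⟨A.inv_mem ha, ?_⟩
          show ((a : G))⁻¹ * ((a : G))⁻¹ = 1
          rw [← mul_inv_rev, ha2, inv_one] }
    have hEmem : ∀ s : ↥(S : Subgroup G), s ∈ E ↔ (s : G) ∈ A ∧ (s : G) * (s : G) = 1 := fun s => Iff.rfl
    have hEn : E.Normal := by
      constructor
      intro n hn g
      rw [hEmem] at hn ⊢
      refine ⟨conj_mem_of_le_normalizer hSA g.2 hn.1, ?_⟩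
      show ((g : G) * (n : G) * (g : G)⁻¹) * ((g : G) * (n : G) * (g : G)⁻¹) = 1
      calc ((g : G) * (n : G) * (g : G)⁻¹) * ((g : G) * (n : G) * (g : G)⁻¹)
          = (g : G) * ((n : G) * (n : G)) * (g : G)⁻¹ := by group
        _ = 1 := by rw [hn.2]; group
    have hE2 : ∀ e ∈ E, e * e = 1 := by
      intro e he
      exact Subtype.ext ((hEmem e).mp he).2
    have hEcard : 2 < Nat.card E := by
      unfold Cfsg.PRankLE at hA3
      push Not at hA3
      obtain ⟨B, hBc, hB2, hBcard⟩ := hA3
      let f : B → E := fun b => ⟨⟨((b : ↥A) : G), hAS (b : ↥A).2⟩, by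
        rw [hEmem]
        refine ⟨(b : ↥A).2, ?_⟩
        have := hB2 b b.2
        have h2 := congrArg Subtype.val this
        simpa [pow_two] using h2⟩
      have hf : Function.Injective f := by
        intro b b' hbb'
        have h1 : (((b : ↥A) : G)) = (((b' : ↥A) : G)) := by
          have := congrArg (fun e : E => ((e : ↥(S : Subgroup G)) : G)) hbb'
          exact this
        exact Subtype.ext (Subtype.ext h1)
      have := Nat.card_le_card_of_injective f hf
      omega
    obtain ⟨z, u, hzE, huE, hz1, hzc, hu1, huz, hconj⟩ :=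
      exists_central_and_almost_central S.isPGroup' E hE2 hEcard
    -- move to `G`
    obtain ⟨hzA, hzz⟩ := (hEmem z).mp hzE
    obtain ⟨huA, huu⟩ := (hEmem u).mp huE
    have hz1' : (z : G) ≠ 1 := fun h => hz1 (Subtype.ext h)
    have hu1' : (u : G) ≠ 1 := fun h => hu1 (Subtype.ext h)
    have huz' : (u : G) ≠ (z : G) := fun h => huz (Subtype.ext h)
    have hzc' : ∀ s ∈ (S : Subgroup G), s * (z : G) = (z : G) * s := by
      intro s hs
      exact congrArg Subtype.val (hzc ⟨s, hs⟩)
    have hconj' : ∀ s ∈ (S : Subgroup G), s * (u : G) * s⁻¹ = (u : G) ∨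
        s * (u : G) * s⁻¹ = (z : G) * (u : G) := by
      intro s hs
      rcases hconj ⟨s, hs⟩ with h | h
      · left; exact congrArg Subtype.val h
      · right; exact congrArg Subtype.val h
    have hzu_comm : (z : G) * (u : G) = (u : G) * (z : G) := hAab _ hzA _ huA
    -- orders
    have hord : ∀ g : G, g * g = 1 → g ≠ 1 → orderOf g = 2 := by
      intro g hgg hg1
      apply orderOf_eq_prime
      · rw [pow_two, hgg]
      · exact hg1
    have hzo : orderOf (z : G) = 2 := hord _ hzz hz1'
    have huo : orderOf (u : G) = 2 := hord _ huu hu1'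
    have hzuzu : ((z : G) * (u : G)) * ((z : G) * (u : G)) = 1 := by
      calc ((z : G) * (u : G)) * ((z : G) * (u : G))
          = (z : G) * ((u : G) * (z : G)) * (u : G) := by group
        _ = (z : G) * ((z : G) * (u : G)) * (u : G) := by rw [hzu_comm]
        _ = ((z : G) * (z : G)) * ((u : G) * (u : G)) := by group
        _ = 1 := by rw [hzz, huu, one_mul]
    have hzu1 : (z : G) * (u : G) ≠ 1 := by
      intro h
      apply huz'
      calc (u : G) = ((z : G) * (z : G)) * (u : G) := by rw [hzz, one_mul]
        _ = (z : G) * ((z : G) * (u : G)) := by group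
        _ = (z : G) := by rw [h, mul_one]
    have hzuo : orderOf ((z : G) * (u : G)) = 2 := hord _ hzuzu hzu1
    -- index conditions
    have hidx_z : Nat.card (S : Subgroup G) ≤
        2 * Nat.card ↥((S : Subgroup G) ⊓ Subgroup.centralizer ({(z : G)} : Set G)) := by
      have : (S : Subgroup G) ⊓ Subgroup.centralizer ({(z : G)} : Set G) = (S : Subgroup G) := by
        apply inf_eq_left.mpr
        intro s hs
        rw [Subgroup.mem_centralizer_singleton_iff]
        exact hzc' s hs
      rw [this]
      omega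
    have hidx_u : Nat.card (S : Subgroup G) ≤
        2 * Nat.card ↥((S : Subgroup G) ⊓ Subgroup.centralizer ({(u : G)} : Set G)) := by
      set S₀ : Subgroup G := (S : Subgroup G) ⊓ Subgroup.centralizer ({(u : G)} : Set G) with hS₀
      have hS₀mem : ∀ s ∈ (S : Subgroup G), s ∈ S₀ ↔ s * (u : G) * s⁻¹ = (u : G) := by
        intro s hs
        rw [hS₀, Subgroup.mem_inf, Subgroup.mem_centralizer_singleton_iff]
        constructor
        · rintro ⟨_, h2⟩
          rw [h2]; group
        · intro h2
          refine ⟨hs, ?_⟩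
          calc s * (u : G) = (s * (u : G) * s⁻¹) * s := by group
            _ = (u : G) * s := by rw [h2]
      have hcardeq : Nat.card (S₀.subgroupOf (S : Subgroup G)) = Nat.card S₀ :=
        Nat.card_congr (Subgroup.subgroupOfEquivOfLe inf_le_left).toEquiv
      have hmulidx := Subgroup.card_mul_index (S₀.subgroupOf (S : Subgroup G))
      by_cases hall : ∀ s ∈ (S : Subgroup G), s ∈ S₀
      · have : S₀ = (S : Subgroup G) := le_antisymm inf_le_left hall
        rw [this]; omega
      · push Not at hall
        obtain ⟨s₁, hs₁S, hs₁⟩ := hall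
        have hs₁u : s₁ * (u : G) * s₁⁻¹ = (z : G) * (u : G) := by
          rcases hconj' s₁ hs₁S with h | h
          · exact absurd ((hS₀mem s₁ hs₁S).mpr h) hs₁
          · exact h
        have hidx2 : (S₀.subgroupOf (S : Subgroup G)).index = 2 := by
          rw [Subgroup.index_eq_two_iff]
          refine ⟨⟨s₁, hs₁S⟩, ?_⟩
          intro b
          have hbS : (b : G) ∈ (S : Subgroup G) := b.2
          have hb1 : b * ⟨s₁, hs₁S⟩ ∈ S₀.subgroupOf (S : Subgroup G) ↔
              ((b : G) * s₁) * (u : G) * ((b : G) * s₁)⁻¹ = (u : G) := by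
            rw [Subgroup.mem_subgroupOf]
            exact hS₀mem _ ((S : Subgroup G).mul_mem hbS hs₁S)
          have hb2 : b ∈ S₀.subgroupOf (S : Subgroup G) ↔ (b : G) * (u : G) * (b : G)⁻¹ = (u : G) := by
            rw [Subgroup.mem_subgroupOf]
            exact hS₀mem _ hbS
          have hcalc : ((b : G) * s₁) * (u : G) * ((b : G) * s₁)⁻¹ =
              (z : G) * ((b : G) * (u : G) * (b : G)⁻¹) := by
            calc ((b : G) * s₁) * (u : G) * ((b : G) * s₁)⁻¹
                = (b : G) * (s₁ * (u : G) * s₁⁻¹) * (b : G)⁻¹ := by group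
              _ = (b : G) * ((z : G) * (u : G)) * (b : G)⁻¹ := by rw [hs₁u]
              _ = ((b : G) * (z : G)) * (u : G) * (b : G)⁻¹ := by group
              _ = ((z : G) * (b : G)) * (u : G) * (b : G)⁻¹ := by rw [hzc' _ hbS]
              _ = (z : G) * ((b : G) * (u : G) * (b : G)⁻¹) := by group
          rw [hb1, hb2, hcalc]
          rcases hconj' _ hbS with h | h
          · right
            refine ⟨h, ?_⟩
            rw [h]
            intro h'
            apply hz1'
            calc (z : G) = ((z : G) * (u : G)) * (u : G)⁻¹ := by group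
              _ = 1 := by rw [h']; group
          · left
            refine ⟨?_, ?_⟩
            · rw [h]
              calc (z : G) * ((z : G) * (u : G)) = ((z : G) * (z : G)) * (u : G) := by group
                _ = (u : G) := by rw [hzz, one_mul]
            · rw [h]
              intro h'
              apply hz1'
              calc (z : G) = ((z : G) * (u : G)) * (u : G)⁻¹ := by group
                _ = 1 := by rw [h']; group
        rw [hidx2, hcardeq] at hmulidx
        omega
    have hidx_zu : Nat.card (S : Subgroup G) ≤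
        2 * Nat.card ↥((S : Subgroup G) ⊓ Subgroup.centralizer ({(z : G) * (u : G)} : Set G)) := by
      have hle : (S : Subgroup G) ⊓ Subgroup.centralizer ({(u : G)} : Set G) ≤
          (S : Subgroup G) ⊓ Subgroup.centralizer ({(z : G) * (u : G)} : Set G) := by
        intro s hs
        refine Subgroup.mem_inf.mpr ⟨hs.1, ?_⟩
        have h1 := Subgroup.mem_centralizer_singleton_iff.mp hs.2
        rw [Subgroup.mem_centralizer_singleton_iff]
        calc s * ((z : G) * (u : G)) = (s * (z : G)) * (u : G) := by group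
          _ = ((z : G) * s) * (u : G) := by rw [hzc' s hs.1]
          _ = (z : G) * (s * (u : G)) := by group
          _ = (z : G) * ((u : G) * s) := by rw [h1]
          _ = (z : G) * (u : G) * s := by group
      have := Subgroup.card_le_of_le hle
      omega
    -- the three centralizers in `X` are trivial
    have hXz := inf_centralizer_eq_bot_of_card_le S hXodd hSX (hinv _ hzo) hidx_z
    have hXu := inf_centralizer_eq_bot_of_card_le S hXodd hSX (hinv _ huo) hidx_u
    have hXzu := inf_centralizer_eq_bot_of_card_le S hXodd hSX (hinv _ hzuo) hidx_zu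
    -- so `z` and `u` invert `X`, and `zu` centralizes it
    have hnz : ∀ x ∈ X, (z : G) * x * (z : G)⁻¹ ∈ X := fun x hx =>
      conj_mem_of_le_normalizer hSX z.2 hx
    have hnu : ∀ x ∈ X, (u : G) * x * (u : G)⁻¹ ∈ X := fun x hx =>
      conj_mem_of_le_normalizer hSX u.2 hx
    have hiz := conj_eq_inv_of_inf_centralizer_eq_bot hzz hnz hXz
    have hiu := conj_eq_inv_of_inf_centralizer_eq_bot huu hnu hXu
    rw [eq_bot_iff]
    intro x hx
    rw [← hXzu]
    refine Subgroup.mem_inf.mpr ⟨hx, ?_⟩
    rw [Subgroup.mem_centralizer_singleton_iff]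
    have h1 : ((z : G) * (u : G)) * x * ((z : G) * (u : G))⁻¹ = x := by
      calc ((z : G) * (u : G)) * x * ((z : G) * (u : G))⁻¹
          = (z : G) * ((u : G) * x * (u : G)⁻¹) * (z : G)⁻¹ := by group
        _ = (z : G) * x⁻¹ * (z : G)⁻¹ := by rw [hiu x hx]
        _ = x⁻¹⁻¹ := hiz _ (X.inv_mem hx)
        _ = x := inv_inv x
    calc x * ((z : G) * (u : G)) = (((z : G) * (u : G)) * x * ((z : G) * (u : G))⁻¹)⁻¹⁻¹ * ((z : G) * (u : G)) := by
          rw [h1, inv_inv]
      _ = ((z : G) * (u : G)) * x := by group
  · intro T hT hTne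
    obtain ⟨z, hzT, hzo, hzc⟩ := exists_central_involution T hT hTne
    exact (isPConstrained_of_charPIn (charPIn_normalizer T hT z hzT hzc (hinv z hzo))).1

end Cfsg.Agent.S3246
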