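import Cfsg.Statements.S3247
import Cfsg.Agent.Helper54.PConstrained2

set_option autoImplicit false
set_option linter.style.haveILetI false
set_option linter.unusedVariables false
open Cfsg

namespace Cfsg.Agent.S3247

/-- The two ways of viewing `A ⊓ B` as a subgroup of a subgroup are isomorphic. -/
def subgroupOfSwapEquiv {G : Type*} [Group G] (A B : Subgroup G) :
    ↥(A.subgroupOf B) ≃* ↥(B.subgroupOf A) where
  toFun d := ⟨⟨(d : G), Subgroup.mem_subgroupOf.mp d.2⟩, Subgroup.mem_subgroupOf.mpr d.1.2⟩
  invFun d := ⟨⟨(d : G), Subgroup.mem_subgroupOf.mp d.2⟩, Subgroup.mem_subgroupOf.mpr d.1.2⟩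
  left_inv d := rfl
  right_inv d := rfl
  map_mul' d d' := rfl

/-- A nontrivial finite `p`-group has a central element of order `p`. -/
theorem exists_central_orderOf_eq {S : Type*} [Group S] [Finite S] [Nontrivial S] {p : ℕ}
    [hp : Fact p.Prime] (hS : IsPGroup p S) : ∃ z : S, z ∈ Subgroup.center S ∧ orderOf z = p := by
  haveI := hS.center_nontrivial
  have hZ : IsPGroup p (Subgroup.center S) := hS.to_subgroup _
  obtain ⟨k, hk⟩ := IsPGroup.iff_card.mp hZ
  have hk0 : k ≠ 0 := by
    rintro rfl
    rw [pow_zero] at hk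
    have := Finite.one_lt_card (α := Subgroup.center S)
    omega
  have h2 : p ∣ Nat.card (Subgroup.center S) := by
    rw [hk]; exact dvd_pow_self p hk0
  obtain ⟨z, hz⟩ := exists_prime_orderOf_dvd_card' p h2
  refine ⟨z, z.2, ?_⟩
  rw [Subgroup.orderOf_coe]; exact hz

/-- Let G be a finite group and p a prime; here a p-local subgroup means the normalizer of a nontrivial p-subgroup, other than G itself. If every p-local subgroup of G that is maximal among p-local subgroups is p-constrained, or if the centralizer of every element of order p of G is p-constrained, then every p-local subgroup of G is p-constrained. -/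
theorem result {G : Type*} [Group G] [Finite G] (p : ℕ) [hp : Fact p.Prime]
    (h : (∀ M : Subgroup G, (∃ T : Subgroup G, IsPGroup p ↥T ∧ T ≠ ⊥ ∧ M = Subgroup.normalizer (T : Set G)) → M ≠ ⊤ →
        (∀ M' : Subgroup G, (∃ T' : Subgroup G, IsPGroup p ↥T' ∧ T' ≠ ⊥ ∧ M' = Subgroup.normalizer (T' : Set G)) → M' ≠ ⊤ → M ≤ M' → M = M') →
        Cfsg.IsPConstrained p ↥M) ∨
      (∀ x : G, orderOf x = p → Cfsg.IsPConstrained p ↥(Subgroup.centralizer ({x} : Set G))))
    (T : Subgroup G) (hT : IsPGroup p ↥T) (hT1 : T ≠ ⊥) (hTG : Subgroup.normalizer (T : Set G) ≠ ⊤) :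
    Cfsg.IsPConstrained p ↥(Subgroup.normalizer (T : Set G)) := by
  set N : Subgroup G := Subgroup.normalizer (T : Set G) with hN
  have hTN : T ≤ N := Subgroup.le_normalizer
  rcases h with h | h
  · -- a maximal `p`-local subgroup above `N`
    set 𝓛 : Set (Subgroup G) := {M | (∃ T : Subgroup G, IsPGroup p ↥T ∧ T ≠ ⊥ ∧
      M = Subgroup.normalizer (T : Set G)) ∧ M ≠ ⊤} with h𝓛
    have hN𝓛 : N ∈ 𝓛 := ⟨⟨T, hT, hT1, rfl⟩, hTG⟩
    obtain ⟨M, hNM, hMmax⟩ := (Set.toFinite 𝓛).exists_le_maximal hN𝓛
    have hMc : IsPConstrained p ↥M := by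
      apply h M hMmax.prop.1 hMmax.prop.2
      intro M' hM' hM'top hle
      exact le_antisymm hle (hMmax.le_of_ge ⟨hM', hM'top⟩ hle)
    -- `N` is the normalizer in `M` of `T`
    have hTM : T ≤ M := hTN.trans hNM
    have h1 : IsPConstrained p ↥(Subgroup.normalizer ((T.subgroupOf M : Subgroup ↥M) : Set ↥M)) :=
      Cfsg.Agent.Helper54.isPConstrained_normalizer hMc _ hT.comap_subtype
    rw [← Subgroup.subgroupOf_normalizer_eq hTM] at h1
    exact Cfsg.Agent.Helper54.IsPConstrained.of_equiv (Subgroup.subgroupOfEquivOfLe hNM) h1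
  · -- an element of order `p` in the centre of `T`
    haveI : Nontrivial ↥T := (Subgroup.nontrivial_iff_ne_bot T).mpr hT1
    obtain ⟨z, hzc, hz⟩ := exists_central_orderOf_eq hT
    have hx : orderOf (z : G) = p := by rw [Subgroup.orderOf_coe]; exact hz
    have hC := h (z : G) hx
    set C : Subgroup G := Subgroup.centralizer ({(z : G)} : Set G) with hCdef
    have hTC : T ≤ C := by
      intro t ht
      rw [hCdef, Subgroup.mem_centralizer_singleton_iff]
      have := (Subgroup.mem_center_iff.mp hzc) ⟨t, ht⟩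
      exact congrArg Subtype.val this
    -- `N ⊓ C` is `p`-constrained, as the normalizer of `T` in `C`
    have h1 : IsPConstrained p ↥(Subgroup.normalizer ((T.subgroupOf C : Subgroup ↥C) : Set ↥C)) :=
      Cfsg.Agent.Helper54.isPConstrained_normalizer hC _ hT.comap_subtype
    rw [← Subgroup.subgroupOf_normalizer_eq hTC] at h1
    have h2 : IsPConstrained p ↥(C.subgroupOf N) :=
      Cfsg.Agent.Helper54.IsPConstrained.of_equiv (subgroupOfSwapEquiv N C) h1
    -- apply the centralizer criterion inside `N`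
    haveI hTn : (T.subgroupOf N).Normal := Subgroup.normal_in_normalizer
    have hzN : (z : G) ∈ N := hTN z.2
    have h3 : Subgroup.centralizer ({(⟨(z : G), hzN⟩ : ↥N)} : Set ↥N) = C.subgroupOf N := by
      ext d
      rw [Subgroup.mem_centralizer_singleton_iff, Subgroup.mem_subgroupOf, hCdef,
        Subgroup.mem_centralizer_singleton_iff]
      constructor
      · intro hd; exact congrArg Subtype.val hd
      · intro hd; exact Subtype.ext hd
    apply Cfsg.Agent.Helper54.isPConstrained_of_centralizer (T.subgroupOf N) hT.comap_subtype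
      ⟨(z : G), hzN⟩ (Subgroup.mem_subgroupOf.mpr z.2)
    rw [h3]
    exact h2

end Cfsg.Agent.S3247
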