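import Cfsg.Statements.S3264
import Cfsg.Agent.Helper35.FlavellComm

set_option autoImplicit false
open Cfsg

namespace Cfsg.Agent.S3264

open Cfsg.Agent.Helper35.Flavell

section

variable {G : Type*} [Group G]

/-- Iterates of `b ↦ b t b⁻¹` for an involution `t`: `t · u^(2^j)` with `u` inverted by `t`. -/
theorem Tmap_iter (t : G) (ht : t * t = 1) (b : G) :
    ∃ u : G, t * u * t = u⁻¹ ∧ ∀ j : ℕ, (Tmap t)^[j + 1] b = t * u ^ (2 ^ j) := by
  have htinv : t⁻¹ = t := inv_eq_of_mul_eq_one_left ht
  refine ⟨t * (b * t * b⁻¹), ?_, ?_⟩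
  · have e : (t * (b * t * b⁻¹))⁻¹ = b * t * b⁻¹ * t := by
      rw [mul_inv_rev, mul_inv_rev, mul_inv_rev, inv_inv, htinv]; group
    rw [e]
    calc t * (t * (b * t * b⁻¹)) * t = (t * t) * (b * t * b⁻¹) * t := by group
      _ = b * t * b⁻¹ * t := by rw [ht, one_mul]
  · have hinv : ∀ w : G, t * w * t = w⁻¹ → Tmap t (t * w) = t * w ^ 2 := by
      intro w hw
      unfold Tmap
      have e1 : (t * w)⁻¹ = w⁻¹ * t := by rw [mul_inv_rev, htinv]
      rw [e1]
      calc t * w * t * (w⁻¹ * t) = t * (w * (t * w⁻¹ * t)) := by group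
        _ = t * (w * w) := by
          have : t * w⁻¹ * t = w := by
            have h2 : t * w⁻¹ * t = (t * w * t)⁻¹ := by
              rw [mul_inv_rev, mul_inv_rev, htinv]; group
            rw [h2, hw, inv_inv]
          rw [this]
        _ = t * w ^ 2 := by rw [pow_two]
    have hpow : ∀ (w : G) (m : ℕ), t * w * t = w⁻¹ → t * w ^ m * t = (w ^ m)⁻¹ := by
      intro w m hw
      induction m with
      | zero => simp [ht]
      | succ m ih =>
        calc t * w ^ (m + 1) * t = (t * w ^ m * t) * (t * w * t) := by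
              rw [pow_succ]
              calc t * (w ^ m * w) * t = t * w ^ m * (1 : G) * w * t := by group
                _ = t * w ^ m * (t * t) * w * t := by rw [ht]
                _ = (t * w ^ m * t) * (t * w * t) := by group
          _ = (w ^ m)⁻¹ * w⁻¹ := by rw [ih, hw]
          _ = (w ^ (m + 1))⁻¹ := by
              rw [pow_succ', mul_inv_rev]
    have hu : t * (t * (b * t * b⁻¹)) * t = (t * (b * t * b⁻¹))⁻¹ := by
      have e : (t * (b * t * b⁻¹))⁻¹ = b * t * b⁻¹ * t := by
        rw [mul_inv_rev, mul_inv_rev, mul_inv_rev, inv_inv, htinv]; group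
      rw [e]
      calc t * (t * (b * t * b⁻¹)) * t = (t * t) * (b * t * b⁻¹) * t := by group
        _ = b * t * b⁻¹ * t := by rw [ht, one_mul]
    intro j
    induction j with
    | zero =>
      show Tmap t b = t * (t * (b * t * b⁻¹)) ^ (2 ^ 0)
      rw [pow_zero, pow_one, ← mul_assoc, ht, one_mul]
      rfl
    | succ j ih =>
      rw [Function.iterate_succ_apply' (Tmap t) (j + 1), ih,
        hinv _ (hpow _ _ hu), ← pow_mul, ← pow_succ]

/-- High powers `u^(2^j)` have odd order. -/
theorem odd_orderOf_pow [Finite G] (u : G) : Odd (orderOf (u ^ (2 ^ (Nat.card G)))) := by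
  have hn : orderOf u ≠ 0 := (orderOf_pos u).ne'
  obtain ⟨e, m, hm, hnm⟩ := Nat.exists_eq_two_pow_mul_odd hn
  have he : e ≤ Nat.card G := by
    have h1 : 2 ^ e ≤ orderOf u := by
      rw [hnm]; exact Nat.le_mul_of_pos_right _ (Odd.pos hm)
    have h2 : orderOf u ≤ Nat.card G := orderOf_le_card
    have h3 : e < 2 ^ e := Nat.lt_two_pow_self
    omega
  have hdvd : orderOf (u ^ (2 ^ (Nat.card G))) ∣ m := by
    apply orderOf_dvd_of_pow_eq_one
    rw [← pow_mul]
    obtain ⟨d, hd⟩ := Nat.exists_eq_add_of_le he
    rw [hd, pow_add, mul_right_comm, ← hnm, pow_mul, pow_orderOf_eq_one, one_pow]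
  exact Odd.of_dvd_nat hm hdvd

end

/-- Let G be a non-abelian finite simple group and X a conjugacy class of involutions of G. Form the graph on X in which two distinct involutions are joined when their product has odd order. Then this graph is connected. (By the Baer–Suzuki Theorem the graph has at least one edge; connectedness is the stronger statement.) -/
theorem result {G : Type*} [Group G] [Finite G] [IsSimpleGroup G]
    (hG : ¬ IsMulCommutative G) (t : G) (ht : orderOf t = 2) :
    (SimpleGraph.fromRel fun x y : {x : G // IsConj t x} => Odd (orderOf (x.1 * y.1))).Connected := by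
  have htt : t * t = 1 := by
    have := pow_orderOf_eq_one t
    rwa [ht, pow_two] at this
  have htne : t ≠ 1 := by
    intro e
    rw [e, orderOf_one] at ht
    omega
  -- generation
  have hncl : Subgroup.normalClosure ((Subgroup.zpowers t : Subgroup G) : Set G) = ⊤ := by
    rcases (Subgroup.normalClosure_normal (s := ((Subgroup.zpowers t : Subgroup G) : Set G))).eq_bot_or_eq_top with h | h
    · exfalso
      have : t ∈ Subgroup.normalClosure ((Subgroup.zpowers t : Subgroup G) : Set G) :=
        Subgroup.subset_normalClosure (Subgroup.mem_zpowers t)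
      rw [h, Subgroup.mem_bot] at this
      exact htne this
    · exact h
  have hgen := T_gen t hncl (Nat.card G + 1)
  set Gr := SimpleGraph.fromRel fun x y : {x : G // IsConj t x} => Odd (orderOf (x.1 * y.1)) with hGr
  let t₀ : {x : G // IsConj t x} := ⟨t, IsConj.refl t⟩
  -- conjugation action on vertices
  let cj : G → {x : G // IsConj t x} → {x : G // IsConj t x} := fun g v =>
    ⟨g * v.1 * g⁻¹, v.2.trans (isConj_iff.2 ⟨g, rfl⟩)⟩
  have hcj_adj : ∀ (g : G) (a b : {x : G // IsConj t x}), Gr.Adj a b → Gr.Adj (cj g a) (cj g b) := by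
    intro g a b hab
    rw [hGr, SimpleGraph.fromRel_adj] at hab ⊢
    obtain ⟨hne, h⟩ := hab
    refine ⟨fun e => hne ?_, ?_⟩
    · have e' : g * a.1 * g⁻¹ = g * b.1 * g⁻¹ := congrArg Subtype.val e
      exact Subtype.ext (mul_left_cancel (mul_right_cancel e'))
    · have key : ∀ x y : G, orderOf (g * x * g⁻¹ * (g * y * g⁻¹)) = orderOf (x * y) := by
        intro x y
        have : g * x * g⁻¹ * (g * y * g⁻¹) = MulAut.conj g (x * y) := by
          rw [MulAut.conj_apply]; group
        rw [this, MulEquiv.orderOf_eq]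
      rcases h with h | h
      · left; show Odd (orderOf (g * a.1 * g⁻¹ * (g * b.1 * g⁻¹))); rw [key]; exact h
      · right; show Odd (orderOf (g * b.1 * g⁻¹ * (g * a.1 * g⁻¹))); rw [key]; exact h
  let cjHom : G → (Gr →g Gr) := fun g => ⟨cj g, fun {a b} h => hcj_adj g a b h⟩
  have hcj_reach : ∀ (g : G) (a b : {x : G // IsConj t x}), Gr.Reachable a b →
      Gr.Reachable (cj g a) (cj g b) := fun g a b h => h.map (cjHom g)
  have hcj_mul : ∀ (g h : G) (v : {x : G // IsConj t x}), cj (g * h) v = cj g (cj h v) := by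
    intro g h v
    apply Subtype.ext
    show g * h * v.1 * (g * h)⁻¹ = g * (h * v.1 * h⁻¹) * g⁻¹
    group
  have hcj_one : ∀ v : {x : G // IsConj t x}, cj 1 v = v := by
    intro v
    apply Subtype.ext
    show 1 * v.1 * 1⁻¹ = v.1
    group
  -- the invariance property
  have hP : ∀ g ∈ Subgroup.closure (Set.range ((Tmap t)^[Nat.card G + 1])),
      ∀ v : {x : G // IsConj t x}, Gr.Reachable t₀ v ↔ Gr.Reachable t₀ (cj g v) := by
    intro g hg
    induction hg using Subgroup.closure_induction with
    | mem x hx =>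
      obtain ⟨b, rfl⟩ := hx
      obtain ⟨u, -, hu⟩ := Tmap_iter t htt b
      set x := (Tmap t)^[Nat.card G + 1] b with hx
      have hxu : x = t * u ^ (2 ^ Nat.card G) := hu (Nat.card G)
      have hxconj : IsConj t x := by
        rw [hx, Function.iterate_succ_apply']
        exact isConj_iff.2 ⟨_, rfl⟩
      have hodd : Odd (orderOf (t * x)) := by
        rw [hxu, ← mul_assoc, htt, one_mul]
        exact odd_orderOf_pow u
      have hxx : x * x = 1 := by
        have h2 : orderOf x = 2 := by
          obtain ⟨c, hc⟩ := isConj_iff.1 hxconj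
          rw [← hc, ← MulAut.conj_apply, MulEquiv.orderOf_eq, ht]
        have := pow_orderOf_eq_one x
        rwa [h2, pow_two] at this
      have hxinv : x⁻¹ = x := inv_eq_of_mul_eq_one_left hxx
      let x₀ : {x : G // IsConj t x} := ⟨x, hxconj⟩
      have h1 : Gr.Reachable t₀ x₀ := by
        by_cases e : t₀ = x₀
        · rw [e]
        · exact SimpleGraph.Adj.reachable
            ((SimpleGraph.fromRel_adj _ _ _).2 ⟨e, Or.inl hodd⟩)
      have h2 : Gr.Reachable x₀ (cj x t₀) := by
        by_cases e : x₀ = cj x t₀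
        · rw [← e]
        · refine SimpleGraph.Adj.reachable ((SimpleGraph.fromRel_adj _ _ _).2 ⟨e, Or.inr ?_⟩)
          show Odd (orderOf (x * t * x⁻¹ * x))
          have : x * t * x⁻¹ * x = MulAut.conj x (t * x) := by
            rw [MulAut.conj_apply]; group
          rw [this, MulEquiv.orderOf_eq]
          exact hodd
      have h3 : Gr.Reachable t₀ (cj x t₀) := h1.trans h2
      have hinvol : ∀ v : {x : G // IsConj t x}, cj x (cj x v) = v := by
        intro v
        rw [← hcj_mul, hxx, hcj_one]
      intro v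
      constructor
      · intro hv
        exact h3.trans (hcj_reach x _ _ hv)
      · intro hv
        have h4 := hcj_reach x _ _ hv
        rw [hinvol] at h4
        exact h3.trans h4
    | one =>
      intro v
      rw [hcj_one]
    | mul g h _ _ hg hh =>
      intro v
      rw [hcj_mul]
      exact (hh v).trans (hg (cj h v))
    | inv g _ hg =>
      intro v
      have := hg (cj g⁻¹ v)
      rw [← hcj_mul, mul_inv_cancel, hcj_one] at this
      exact this.symm
  rw [SimpleGraph.connected_iff_exists_forall_reachable]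
  refine ⟨t₀, fun w => ?_⟩
  obtain ⟨c, hc⟩ := isConj_iff.1 w.2
  have hw : w = cj c t₀ := Subtype.ext hc.symm
  rw [hw]
  exact (hP c (hgen ▸ Subgroup.mem_top c) t₀).1 (SimpleGraph.Reachable.refl _)

end Cfsg.Agent.S3264
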