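import Cfsg.Statements.S3265
import Cfsg.Agent.Helper59.OddInv.Main

set_option autoImplicit false
open Cfsg

namespace Cfsg.Agent.S3265

open Equiv Equiv.Perm Cfsg.Agent.Helper59.OddInv

theorem conj_facts {n : ℕ} {t u : Perm (Fin n)} (ht : t * t = 1) (h : IsConj t u) :
    u * u = 1 ∧ u.support.card = t.support.card := by
  obtain ⟨c, rfl⟩ := isConj_iff.mp h
  constructor
  · calc c * t * c⁻¹ * (c * t * c⁻¹) = c * (t * t) * c⁻¹ := by group
      _ = 1 := by rw [ht]; group
  · exact card_support_conj

theorem isConj_of_invol {n : ℕ} {t z : Perm (Fin n)} (ht : orderOf t = 2) (hz : z * z = 1)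
    (hc : z.support.card = t.support.card) : IsConj t z := by
  rw [isConj_iff_cycleType_eq]
  have ht1 : t ≠ 1 := by
    rintro rfl
    simp at ht
  have hz1 : z ≠ 1 := by
    rintro rfl
    rw [Perm.support_one, Finset.card_empty] at hc
    exact ht1 (card_support_eq_zero.mp hc.symm)
  have hoz : orderOf z = 2 := orderOf_eq_prime (by rw [pow_two]; exact hz) hz1
  obtain ⟨k, hk⟩ := cycleType_prime_order (σ := t) (by rw [ht]; exact Nat.prime_two)
  obtain ⟨l, hl⟩ := cycleType_prime_order (σ := z) (by rw [hoz]; exact Nat.prime_two)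
  have s1 := sum_cycleType t
  have s2 := sum_cycleType z
  rw [hk, Multiset.sum_replicate, ht] at s1
  rw [hl, Multiset.sum_replicate, hoz] at s2
  have hkl : k = l := by
    simp only [smul_eq_mul] at s1 s2
    omega
  rw [hk, hl, ht, hoz, hkl]

theorem invol_of_orderOf {n : ℕ} {t : Perm (Fin n)} (ht : orderOf t = 2) : t * t = 1 := by
  rw [← pow_two, ← ht]; exact pow_orderOf_eq_one t

/-- Any two members of the class have a common odd neighbour (or coincide with it). -/
theorem exists_mid {n : ℕ} (hn : 5 ≤ n) {t : Perm (Fin n)} (ht : orderOf t = 2)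
    (u v : {x : Perm (Fin n) // IsConj t x}) :
    ∃ w : {x : Perm (Fin n) // IsConj t x},
      Odd (orderOf (u.1 * w.1)) ∧ Odd (orderOf (w.1 * v.1)) := by
  have ht2 := invol_of_orderOf ht
  obtain ⟨hu, hcu⟩ := conj_facts ht2 u.2
  obtain ⟨hv, hcv⟩ := conj_facts ht2 v.2
  have hnb : ¬ Bad (Finset.univ : Finset (Fin n)) u.1 v.1 := by
    intro hb
    have := hb.1
    rw [Finset.card_univ, Fintype.card_fin] at this
    omega
  obtain ⟨z, hz, -, hzc, h1, h2⟩ := good_of_not_bad n Finset.univ u.1 v.1
    (by rw [Finset.card_univ, Fintype.card_fin]) hu hv (Finset.subset_univ _)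
    (Finset.subset_univ _) (hcu.trans hcv.symm) hnb
  exact ⟨⟨z, isConj_of_invol ht hz (hzc.trans hcv)⟩, h1, h2⟩

/-- A conjugate `v ≠ t` with `t * v` of order two. -/
theorem exists_far {n : ℕ} (hn : 5 ≤ n) {t : Perm (Fin n)} (ht : orderOf t = 2) :
    ∃ v : Perm (Fin n), IsConj t v ∧ orderOf (t * v) = 2 := by
  have ht2 := invol_of_orderOf ht
  have htinv : t⁻¹ = t := invol_inv ht2
  have ht1 : t ≠ 1 := by
    rintro rfl
    simp at ht
  obtain ⟨a, hta⟩ : ∃ a, t a ≠ a := by
    by_contra h
    apply ht1
    ext a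
    by_contra h2
    exact h ⟨a, fun h3 => h2 (by rw [h3]; rfl)⟩
  have htb : t (t a) = a := invol_apply ht2 a
  -- order of a lifted element
  have horder : ∀ (ι : Fin 4 ↪ Fin n) (e : Perm (Fin 4)), e ^ 2 = 1 → e ≠ 1 →
      orderOf (lift ι e) = 2 := by
    intro ι e he1 he2
    apply orderOf_eq_prime
    · rw [← lift_pow, he1, lift_one]
    · intro h
      apply he2
      apply viaEmbeddingHom_injective ι
      rw [map_one]
      exact h
  by_cases hcase : ∃ c, c ≠ a ∧ c ≠ t a ∧ t c ≠ c
  · obtain ⟨c, hca, hcb, htc⟩ := hcase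
    have htd : t (t c) = c := invol_apply ht2 c
    have hda : t c ≠ a := by
      intro h
      apply hcb
      rw [← h, htd]
    have hdb : t c ≠ t a := fun h => hca (t.injective h)
    have hnd : [a, t a, c, t c].Nodup := by
      simp [hta.symm, hca.symm, hda.symm, hcb.symm, hdb.symm, htc.symm]
    have hinj : Function.Injective ![a, t a, c, t c] := List.nodup_ofFn.mp hnd
    refine ⟨swap (t a) c * t * (swap (t a) c)⁻¹, isConj_iff.mpr ⟨_, rfl⟩, ?_⟩
    have e1 : t * (swap (t a) c * t * (swap (t a) c)⁻¹) =
        lift (embOfVec _ hinj) (swap 0 3 * swap 1 2) := by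
      rw [lift_mul, lift_swap, lift_swap]
      have h1 : t * swap (t a) c * t⁻¹ = swap a (t c) := by
        rw [← swap_apply_apply, htb]
      rw [htinv] at h1
      calc t * (swap (t a) c * t * (swap (t a) c)⁻¹)
          = (t * swap (t a) c * t) * (swap (t a) c)⁻¹ := by simp only [mul_assoc]
        _ = swap a (t c) * swap (t a) c := by rw [h1, swap_inv]
    rw [e1]
    exact horder _ _ (by decide) (by decide)
  · have hfix : ∀ c, c ≠ a → c ≠ t a → t c = c := by
      intro c h1 h2
      by_contra h3
      exact hcase ⟨c, h1, h2, h3⟩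
    -- two further points
    have hcard : 1 < (({a, t a} : Finset (Fin n))ᶜ).card := by
      rw [Finset.card_compl, Fintype.card_fin]
      have : ({a, t a} : Finset (Fin n)).card ≤ 2 := Finset.card_le_two
      omega
    obtain ⟨c, hc, d, hd, hcd⟩ := Finset.one_lt_card.mp hcard
    simp only [Finset.mem_compl, Finset.mem_insert, Finset.mem_singleton, not_or] at hc hd
    have htc : t c = c := hfix c hc.1 hc.2
    have htd : t d = d := hfix d hd.1 hd.2
    have hnd : [a, t a, c, d].Nodup := by
      simp [hta.symm, Ne.symm hc.1, Ne.symm hd.1, Ne.symm hc.2, Ne.symm hd.2, hcd]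
    have hinj : Function.Injective ![a, t a, c, d] := List.nodup_ofFn.mp hnd
    refine ⟨(swap a c * swap (t a) d) * t * (swap a c * swap (t a) d)⁻¹,
      isConj_iff.mpr ⟨_, rfl⟩, ?_⟩
    have e1 : t * ((swap a c * swap (t a) d) * t * (swap a c * swap (t a) d)⁻¹) =
        lift (embOfVec _ hinj) (swap 1 2 * swap 0 3 * (swap 0 2 * swap 1 3)⁻¹) := by
      rw [lift_mul, lift_mul, lift_swap, lift_swap, lift_eq_hom, map_inv, ← lift_eq_hom, lift_mul,
        lift_swap, lift_swap]
      have h1 : t * swap a c * t⁻¹ = swap (t a) c := by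
        rw [← swap_apply_apply, htc]
      have h2 : t * swap (t a) d * t⁻¹ = swap a d := by
        rw [← swap_apply_apply, htb, htd]
      rw [htinv] at h1 h2
      calc t * ((swap a c * swap (t a) d) * t * (swap a c * swap (t a) d)⁻¹)
          = (t * swap a c * t) * (t * swap (t a) d * t) * (swap a c * swap (t a) d)⁻¹ := by
            have : t * swap a c * t * (t * swap (t a) d * t) =
                t * swap a c * (t * t) * swap (t a) d * t := by simp only [mul_assoc]
            rw [this, ht2]
            simp only [mul_assoc, mul_one]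
        _ = swap (t a) c * swap a d * (swap a c * swap (t a) d)⁻¹ := by rw [h1, h2]
    rw [e1]
    exact horder _ _ (by decide) (by decide)

/-- Let n ≥ 5 and let X be a conjugacy class of involutions of the symmetric group of degree n. The graph on X joining two distinct involutions whose product has odd order is connected and has diameter exactly 2. -/
theorem result (n : ℕ) (hn : 5 ≤ n) (t : Equiv.Perm (Fin n)) (ht : orderOf t = 2) :
    (SimpleGraph.fromRel fun x y : {x : Equiv.Perm (Fin n) // IsConj t x} =>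
        Odd (orderOf (x.1 * y.1))).Connected ∧
      (SimpleGraph.fromRel fun x y : {x : Equiv.Perm (Fin n) // IsConj t x} =>
        Odd (orderOf (x.1 * y.1))).diam = 2 := by
  set G := SimpleGraph.fromRel fun x y : {x : Equiv.Perm (Fin n) // IsConj t x} =>
        Odd (orderOf (x.1 * y.1)) with hG
  have ht2 := invol_of_orderOf ht
  haveI : Nonempty {x : Equiv.Perm (Fin n) // IsConj t x} := ⟨⟨t, IsConj.refl t⟩⟩
  -- a walk of length at most two between any two vertices
  have hwalk : ∀ u v : {x : Equiv.Perm (Fin n) // IsConj t x}, ∃ p : G.Walk u v, p.length ≤ 2 := by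
    intro u v
    obtain ⟨w, h1, h2⟩ := exists_mid hn ht u v
    by_cases huw : u = w
    · by_cases hwv : w = v
      · subst huw; subst hwv
        exact ⟨SimpleGraph.Walk.nil, by simp⟩
      · subst huw
        have hadj : G.Adj u v := by
          rw [hG, SimpleGraph.fromRel_adj]
          exact ⟨hwv, Or.inl h2⟩
        exact ⟨SimpleGraph.Walk.cons hadj SimpleGraph.Walk.nil, by simp⟩
    · have hadj1 : G.Adj u w := by
        rw [hG, SimpleGraph.fromRel_adj]
        exact ⟨huw, Or.inl h1⟩
      by_cases hwv : w = v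
      · subst hwv
        exact ⟨SimpleGraph.Walk.cons hadj1 SimpleGraph.Walk.nil, by simp⟩
      · have hadj2 : G.Adj w v := by
          rw [hG, SimpleGraph.fromRel_adj]
          exact ⟨hwv, Or.inl h2⟩
        exact ⟨SimpleGraph.Walk.cons hadj1 (SimpleGraph.Walk.cons hadj2 SimpleGraph.Walk.nil),
          by simp⟩
  have hconn : G.Connected := by
    refine ⟨fun u v => ?_⟩
    obtain ⟨p, -⟩ := hwalk u v
    exact ⟨p⟩
  refine ⟨hconn, ?_⟩
  have hne : G.ediam ≠ ⊤ := SimpleGraph.connected_iff_ediam_ne_top.mp hconn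
  apply le_antisymm
  · obtain ⟨u, v, huv⟩ := SimpleGraph.exists_dist_eq_diam (G := G)
    obtain ⟨p, hp⟩ := hwalk u v
    rw [← huv]
    exact (SimpleGraph.dist_le p).trans hp
  · obtain ⟨v, hv, hov⟩ := exists_far hn ht
    obtain ⟨hv2, -⟩ := conj_facts ht2 hv
    have hvt : v ≠ t := by
      rintro rfl
      rw [ht2] at hov
      simp at hov
    let T : {x : Equiv.Perm (Fin n) // IsConj t x} := ⟨t, IsConj.refl t⟩
    let V : {x : Equiv.Perm (Fin n) // IsConj t x} := ⟨v, hv⟩
    have hTV : T ≠ V := fun h => hvt (congrArg Subtype.val h).symm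
    have hnadj : ¬ G.Adj T V := by
      rw [hG, SimpleGraph.fromRel_adj]
      rintro ⟨-, h | h⟩
      · have h' : Odd (orderOf (t * v)) := h
        rw [hov] at h'
        exact absurd h' (by decide)
      · have h' : Odd (orderOf (v * t)) := h
        have : v * t = (t * v)⁻¹ := by
          rw [mul_inv_rev, invol_inv ht2, invol_inv hv2]
        rw [this, orderOf_inv, hov] at h'
        exact absurd h' (by decide)
    have h0 : 0 < G.dist T V := hconn.pos_dist_of_ne hTV
    have h1 : G.dist T V ≠ 1 := fun h => hnadj (SimpleGraph.dist_eq_one_iff_adj.mp h)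
    have h2 : G.dist T V ≤ G.diam := SimpleGraph.dist_le_diam hne
    omega

end Cfsg.Agent.S3265
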