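-- Statement S3266: the odd-product graph on the involutions of PSL_2(q) is connected of diameter 2.
import Cfsg.Statements.S3266
import Cfsg.Agent.Helper39.InvGraphE

set_option autoImplicit false
open Cfsg

namespace Cfsg.Agent.S3266

open Cfsg.Agent.Helper39

/-- Let F be a finite field with at least 4 elements and let X be a conjugacy class of involutions of PSL(2, F). The graph on X joining two distinct involutions whose product has odd order is connected and has diameter exactly 2. -/
theorem result {F : Type*} [Field F] [Fintype F] (hF : 4 ≤ Fintype.card F)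
    (t : Matrix.ProjectiveSpecialLinearGroup (Fin 2) F) (ht : orderOf t = 2) :
    (SimpleGraph.fromRel fun x y : {x : Matrix.ProjectiveSpecialLinearGroup (Fin 2) F // IsConj t x} =>
        Odd (orderOf (x.1 * y.1))).Connected ∧
      (SimpleGraph.fromRel fun x y : {x : Matrix.ProjectiveSpecialLinearGroup (Fin 2) F // IsConj t x} =>
        Odd (orderOf (x.1 * y.1))).diam = 2 := by
  apply connected_and_diam_eq_two
  · -- common neighbours
    rintro ⟨x, hx⟩ ⟨y, hy⟩ hxy hnadj
    have hox : orderOf x = 2 := by rw [orderOf_eq_of_isConj' hx, ht]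
    have hoy : orderOf y = 2 := by rw [orderOf_eq_of_isConj' hy, ht]
    obtain ⟨u, rfl⟩ := QuotientGroup.mk_surjective x
    obtain ⟨v, rfl⟩ := QuotientGroup.mk_surjective y
    obtain ⟨hu, huc⟩ := trace_eq_zero_of_orderOf_mk u hox
    obtain ⟨hv, hvc⟩ := trace_eq_zero_of_orderOf_mk v hoy
    have hne : (QuotientGroup.mk u : Matrix.ProjectiveSpecialLinearGroup (Fin 2) F) ≠
        QuotientGroup.mk v := by
      intro he
      apply hxy
      exact Subtype.ext he
    have hnodd : ¬ Odd (orderOf ((QuotientGroup.mk u :
        Matrix.ProjectiveSpecialLinearGroup (Fin 2) F) * QuotientGroup.mk v)) := by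
      intro hodd
      apply hnadj
      rw [SimpleGraph.fromRel_adj]
      exact ⟨hxy, Or.inl hodd⟩
    obtain ⟨w, hw, hwc, hwu, hwv, h1, h2⟩ := hasNbr_of_not_adj hF u v hu hv huc hvc hne hnodd
    refine ⟨⟨QuotientGroup.mk w, isConj_of_orderOf_eq_two t _ ht (orderOf_mk_eq_two w hw hwc)⟩,
      ?_, ?_⟩
    · rw [SimpleGraph.fromRel_adj]
      refine ⟨?_, Or.inl h1⟩
      intro he
      exact hwu (congrArg Subtype.val he).symm
    · rw [SimpleGraph.fromRel_adj]
      refine ⟨?_, Or.inl h2⟩
      intro he
      exact hwv (congrArg Subtype.val he)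
  · -- two non-adjacent vertices
    obtain ⟨u, v, hu, hv, huc, hvc, hne, hord⟩ := exists_commuting_involutions (F := F) hF
    refine ⟨⟨QuotientGroup.mk u, isConj_of_orderOf_eq_two t _ ht (orderOf_mk_eq_two u hu huc)⟩,
      ⟨QuotientGroup.mk v, isConj_of_orderOf_eq_two t _ ht (orderOf_mk_eq_two v hv hvc)⟩, ?_, ?_⟩
    · intro he
      exact hne (congrArg Subtype.val he)
    · rw [SimpleGraph.fromRel_adj]
      rintro ⟨-, h | h⟩
      · simp only at h
        rw [hord] at h
        exact absurd h (by decide)
      · simp only at h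
        rw [orderOf_mul_comm', hord] at h
        exact absurd h (by decide)

end Cfsg.Agent.S3266
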