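import Cfsg.Statements.S3276
-- import your own Cfsg.Agent.* helpers here

set_option autoImplicit false
open Cfsg

namespace Cfsg.Agent.S3276

/-- `s (st)^n s⁻¹ = ((st)^n)⁻¹` for involutions `s`, `t`. -/
theorem invert_pow {G : Type*} [Group G] (s t : G) (hs : s * s = 1) (ht : t * t = 1) (n : ℕ) :
    s * (s * t) ^ n * s⁻¹ = ((s * t) ^ n)⁻¹ := by
  have hsi : s⁻¹ = s := inv_eq_of_mul_eq_one_right hs
  have hti : t⁻¹ = t := inv_eq_of_mul_eq_one_right ht
  have h1 : s * (s * t) * s⁻¹ = (s * t)⁻¹ := by
    rw [hsi, mul_inv_rev, hsi, hti]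
    calc s * (s * t) * s = (s * s) * t * s := by group
      _ = t * s := by rw [hs, one_mul]
  induction n with
  | zero => simp
  | succ n ih =>
    rw [pow_succ, mul_inv_rev]
    calc s * ((s * t) ^ n * (s * t)) * s⁻¹
        = (s * (s * t) ^ n * s⁻¹) * (s * (s * t) * s⁻¹) := by group
      _ = ((s * t) ^ n)⁻¹ * (s * t)⁻¹ := by rw [ih, h1]
      _ = (s * t)⁻¹ * ((s * t) ^ n)⁻¹ := by
        rw [← mul_inv_rev, ← mul_inv_rev, ← pow_succ, ← pow_succ']

/-- the same with `t` in front. -/
theorem invert_pow' {G : Type*} [Group G] (s t : G) (hs : s * s = 1) (ht : t * t = 1) (n : ℕ) :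
    t * (s * t) ^ n * t⁻¹ = ((s * t) ^ n)⁻¹ := by
  have hsi : s⁻¹ = s := inv_eq_of_mul_eq_one_right hs
  have hti : t⁻¹ = t := inv_eq_of_mul_eq_one_right ht
  have h := invert_pow t s ht hs n
  -- (t s)^n = ((s t)^n)⁻¹
  have h2 : (t * s) ^ n = ((s * t) ^ n)⁻¹ := by
    rw [← inv_pow, mul_inv_rev, hsi, hti]
  rw [h2, inv_inv] at h
  calc t * (s * t) ^ n * t⁻¹ = (t * ((s * t) ^ n)⁻¹ * t⁻¹)⁻¹ := by group
    _ = ((s * t) ^ n)⁻¹ := by rw [h]

/-- In a group, two involutions `s`, `t` whose product has odd order are conjugate. -/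
theorem conj_of_odd {G : Type*} [Group G] (s t : G) (hs : s * s = 1) (ht : t * t = 1)
    (k : ℕ) (hk : (s * t) ^ (2 * k + 1) = 1) : IsConj s t := by
  rw [isConj_iff]
  have hsi : s⁻¹ = s := inv_eq_of_mul_eq_one_right hs
  have hti : t⁻¹ = t := inv_eq_of_mul_eq_one_right ht
  refine ⟨(s * t) ^ k, ?_⟩
  have h2 := invert_pow s t hs ht k
  set w := (s * t) ^ k with hw
  have h3 : s * w⁻¹ = w * s := by
    calc s * w⁻¹ = (s * w * s⁻¹)⁻¹ * s := by group
      _ = w * s := by rw [h2, inv_inv]
  have h4 : w * w * (s * t) = 1 := by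
    rw [hw, ← pow_add, ← pow_succ]
    rw [← two_mul]; exact hk
  have h5 : w * w = (s * t)⁻¹ := eq_inv_of_mul_eq_one_left h4
  calc w * s * w⁻¹ = w * (s * w⁻¹) := by group
    _ = w * (w * s) := by rw [h3]
    _ = (w * w) * s := by group
    _ = (s * t)⁻¹ * s := by rw [h5]
    _ = t := by rw [mul_inv_rev, hsi, hti, mul_assoc, hs, mul_one]

theorem result {G : Type*} [Group G] [Finite G] (x y : G) (hx : orderOf x = 2) (hy : orderOf y = 2)
    (hxy : Commute x y) (hnc : ¬ IsConj x y)
    (hstar : ∀ u : G, orderOf u = 2 → Commute u x → ∀ g : G, Commute (g * y * g⁻¹) u → Commute (g * y * g⁻¹) y) :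
    Subgroup.normalClosure ({y} : Set G) ≠ ⊤ ∧ Cfsg.IsElementaryAbelian 2 (Subgroup.normalClosure ({y} : Set G)) ∧
      ((∀ u ∈ Subgroup.normalClosure ({y} : Set G), orderOf u = 2 → Commute u x → u = y) →
        Nat.card ↥(Subgroup.normalClosure ({y} : Set G)) ≤ 4) := by
  have hxx : x * x = 1 := by rw [← pow_two, ← hx]; exact pow_orderOf_eq_one x
  have hyy : y * y = 1 := by rw [← pow_two, ← hy]; exact pow_orderOf_eq_one y
  have hx1 : x ≠ 1 := by
    intro h; rw [h, orderOf_one] at hx; norm_num at hx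
  have hy1 : y ≠ 1 := by
    intro h; rw [h, orderOf_one] at hy; norm_num at hy
  have hxi : x⁻¹ = x := inv_eq_of_mul_eq_one_right hxx
  have hyi : y⁻¹ = y := inv_eq_of_mul_eq_one_right hyy
  -- Step 1: every conjugate of y commutes with y
  have step1 : ∀ g : G, Commute (g * y * g⁻¹) y := by
    intro g
    set y' := g * y * g⁻¹ with hy'
    have hy'y' : y' * y' = 1 := by
      rw [hy']
      calc g * y * g⁻¹ * (g * y * g⁻¹) = g * (y * y) * g⁻¹ := by group
        _ = 1 := by rw [hyy]; group
    have hconj : IsConj y y' := isConj_iff.mpr ⟨g, rfl⟩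
    set n := orderOf (x * y') with hn
    have hnpos : 0 < n := orderOf_pos _
    rcases Nat.even_or_odd' n with ⟨k, hk | hk⟩
    · -- n = 2k
      have hkpos : 0 < k := by omega
      set u := (x * y') ^ k with hu
      have hu2 : orderOf u = 2 := by
        rw [hu, orderOf_pow, ← hn, hk]
        rw [Nat.gcd_eq_right (Dvd.intro_left 2 rfl)]
        exact Nat.mul_div_cancel _ hkpos
      have huinv : u⁻¹ = u := by
        have : u * u = 1 := by rw [← pow_two, ← hu2]; exact pow_orderOf_eq_one u
        exact inv_eq_of_mul_eq_one_right this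
      have hux : Commute u x := by
        have h := invert_pow x y' hxx hy'y' k
        rw [← hu, huinv, hxi] at h
        -- x u x = u
        show u * x = x * u
        calc u * x = (x * u * x) * x := by rw [h]
          _ = x * u * (x * x) := by group
          _ = x * u := by rw [hxx, mul_one]
      have huy' : Commute y' u := by
        have h := invert_pow' x y' hxx hy'y' k
        have hy'i : y'⁻¹ = y' := inv_eq_of_mul_eq_one_right hy'y'
        rw [← hu, huinv, hy'i] at h
        show y' * u = u * y'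
        calc y' * u = y' * u * (y' * y') := by rw [hy'y', mul_one]
          _ = (y' * u * y') * y' := by group
          _ = u * y' := by rw [h]
      exact hstar u hu2 hux g huy'
    · -- n odd: x ~ y' ~ y contradiction
      exfalso
      have h1 : (x * y') ^ (2 * k + 1) = 1 := by rw [← hk, hn]; exact pow_orderOf_eq_one _
      have h2 : IsConj x y' := conj_of_odd x y' hxx hy'y' k h1
      exact hnc (h2.trans hconj.symm)
  -- Step 2: all conjugates of y pairwise commute
  have step2 : ∀ a ∈ Group.conjugatesOfSet ({y} : Set G), ∀ b ∈ Group.conjugatesOfSet ({y} : Set G), a * b = b * a := by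
    intro a ha b hb
    rw [Group.mem_conjugatesOfSet_iff] at ha hb
    obtain ⟨y1, hy1m, ha⟩ := ha
    obtain ⟨y2, hy2m, hb⟩ := hb
    rw [Set.mem_singleton_iff] at hy1m hy2m
    rw [hy1m] at ha
    rw [hy2m] at hb
    rw [isConj_iff] at ha hb
    obtain ⟨g, rfl⟩ := ha
    obtain ⟨h, rfl⟩ := hb
    have := step1 (h⁻¹ * g)
    have e : (h⁻¹ * g) * y * (h⁻¹ * g)⁻¹ * y = y * ((h⁻¹ * g) * y * (h⁻¹ * g)⁻¹) := this
    calc g * y * g⁻¹ * (h * y * h⁻¹) = h * ((h⁻¹ * g) * y * (h⁻¹ * g)⁻¹ * y) * h⁻¹ := by group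
      _ = h * (y * ((h⁻¹ * g) * y * (h⁻¹ * g)⁻¹)) * h⁻¹ := by rw [e]
      _ = h * y * h⁻¹ * (g * y * g⁻¹) := by group
  have hcomm : IsMulCommutative ↥(Subgroup.normalClosure ({y} : Set G)) :=
    Subgroup.isMulCommutative_closure step2
  have hcomm' : ∀ a ∈ Subgroup.normalClosure ({y} : Set G), ∀ b ∈ Subgroup.normalClosure ({y} : Set G),
      a * b = b * a := by
    intro a ha b hb
    have := hcomm.is_comm.comm (⟨a, ha⟩ : ↥(Subgroup.normalClosure ({y} : Set G))) ⟨b, hb⟩
    exact congrArg Subtype.val this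
  -- every element of the normal closure squares to one
  have hsq : ∀ a ∈ Subgroup.normalClosure ({y} : Set G), a ^ 2 = 1 := by
    intro a ha
    unfold Subgroup.normalClosure at ha
    induction ha using Subgroup.closure_induction with
    | mem a ha =>
      rw [Group.mem_conjugatesOfSet_iff] at ha
      obtain ⟨y1, hy1m, ha⟩ := ha
      rw [Set.mem_singleton_iff] at hy1m
      rw [hy1m] at ha
      rw [isConj_iff] at ha
      obtain ⟨g, rfl⟩ := ha
      rw [pow_two]
      calc g * y * g⁻¹ * (g * y * g⁻¹) = g * (y * y) * g⁻¹ := by group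
        _ = 1 := by rw [hyy]; group
    | one => simp
    | mul a b ha hb iha ihb =>
      have := hcomm' a ha b hb
      rw [pow_two] at *
      calc a * b * (a * b) = a * (b * a) * b := by group
        _ = a * (a * b) * b := by rw [this]
        _ = (a * a) * (b * b) := by group
        _ = 1 := by rw [iha, ihb, one_mul]
    | inv a ha iha =>
      rw [inv_pow, iha, inv_one]
  have hyN : y ∈ Subgroup.normalClosure ({y} : Set G) :=
    Subgroup.subset_normalClosure (Set.mem_singleton y)
  refine ⟨?_, ⟨hcomm, hsq⟩, ?_⟩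
  · -- proper
    intro htop
    have hall : ∀ a b : G, a * b = b * a := by
      intro a b
      exact hcomm' a (htop ▸ Subgroup.mem_top a) b (htop ▸ Subgroup.mem_top b)
    -- then the normal closure is zpowers y
    have hle : Subgroup.normalClosure ({y} : Set G) ≤ Subgroup.zpowers y := by
      have : (Subgroup.zpowers y).Normal := ⟨fun n hn g => by
        have : g * n * g⁻¹ = n := by rw [hall g n, mul_assoc, mul_inv_cancel, mul_one]
        rw [this]; exact hn⟩
      apply Subgroup.normalClosure_le_normal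
      rw [Set.singleton_subset_iff]
      exact Subgroup.mem_zpowers y
    have hxz : x ∈ Subgroup.zpowers y := hle (htop ▸ Subgroup.mem_top x)
    rw [Subgroup.mem_zpowers_iff] at hxz
    obtain ⟨k, hk⟩ := hxz
    rcases Int.even_or_odd' k with ⟨j, hj | hj⟩
    · rw [hj, zpow_mul, zpow_two, hyy, one_zpow] at hk
      exact hx1 hk.symm
    · rw [hj, zpow_add, zpow_mul, zpow_two, hyy, one_zpow, one_mul, zpow_one] at hk
      exact hnc (hk ▸ IsConj.refl y)
  · -- cardinality bound
    intro huniq
    set N := Subgroup.normalClosure ({y} : Set G) with hN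
    have hNn : N.Normal := Subgroup.normalClosure_normal
    -- the homomorphism n ↦ n * (x n x⁻¹)
    let φ : ↥N →* ↥N :=
      { toFun := fun n => ⟨(n : G) * (x * n * x⁻¹), N.mul_mem n.2 (hNn.conj_mem n n.2 x)⟩
        map_one' := by
          apply Subtype.ext
          simp
        map_mul' := by
          intro a b
          apply Subtype.ext
          show (a : G) * b * (x * (a * b) * x⁻¹) = (a : G) * (x * a * x⁻¹) * (b * (x * b * x⁻¹))
          have h := hcomm' (b : G) b.2 (x * a * x⁻¹) (hNn.conj_mem a a.2 x)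
          calc (a : G) * b * (x * (a * b) * x⁻¹) = a * (b * (x * a * x⁻¹)) * (x * b * x⁻¹) := by group
            _ = a * ((x * a * x⁻¹) * b) * (x * b * x⁻¹) := by rw [h]
            _ = (a : G) * (x * a * x⁻¹) * (b * (x * b * x⁻¹)) := by group }
    let y' : ↥N := ⟨y, hyN⟩
    have hcardz : Nat.card ↥(Subgroup.zpowers y') = 2 := by
      rw [Nat.card_zpowers]
      have : orderOf y' = orderOf (y' : G) := (Subgroup.orderOf_coe y').symm
      rw [this]; exact hy
    -- key: any element of N commuting with x is 1 or y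
    have hkey : ∀ a ∈ N, x * a * x⁻¹ = a → a = 1 ∨ a = y := by
      intro a ha hxa
      by_cases h1 : a = 1
      · exact Or.inl h1
      · right
        apply huniq a ha
        · exact orderOf_eq_prime (hsq a ha) h1
        · show a * x = x * a
          calc a * x = (x * a * x⁻¹) * x := by rw [hxa]
            _ = x * a := by group
    have hmemz : ∀ a : ↥N, (a : G) = 1 ∨ (a : G) = y → a ∈ Subgroup.zpowers y' := by
      intro a ha
      rcases ha with ha | ha
      · have : a = 1 := Subtype.ext ha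
        rw [this]; exact Subgroup.one_mem _
      · have : a = y' := Subtype.ext ha
        rw [this]; exact Subgroup.mem_zpowers y'
    have hker : φ.ker ≤ Subgroup.zpowers y' := by
      intro a ha
      rw [MonoidHom.mem_ker] at ha
      have ha' : (a : G) * (x * a * x⁻¹) = 1 := congrArg Subtype.val ha
      apply hmemz
      apply hkey a a.2
      have hai : (a : G)⁻¹ = a := by
        have := hsq a a.2
        rw [pow_two] at this
        exact inv_eq_of_mul_eq_one_right this
      calc x * a * x⁻¹ = (a : G)⁻¹ * ((a : G) * (x * a * x⁻¹)) := by group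
        _ = a := by rw [ha', mul_one, hai]
    have hrange : φ.range ≤ Subgroup.zpowers y' := by
      intro b hb
      obtain ⟨a, rfl⟩ := hb
      apply hmemz
      apply hkey _ (φ a).2
      show x * ((a : G) * (x * a * x⁻¹)) * x⁻¹ = (a : G) * (x * a * x⁻¹)
      have h := hcomm' (a : G) a.2 (x * a * x⁻¹) (hNn.conj_mem a a.2 x)
      calc x * ((a : G) * (x * a * x⁻¹)) * x⁻¹ = (x * a * x⁻¹) * ((x * x) * a * (x * x)⁻¹) := by group
        _ = (x * a * x⁻¹) * a := by rw [hxx]; group
        _ = (a : G) * (x * a * x⁻¹) := h.symm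
    have h1 : Nat.card ↥φ.ker ≤ 2 := hcardz ▸ Subgroup.card_le_of_le hker
    have h2 : Nat.card ↥φ.range ≤ 2 := hcardz ▸ Subgroup.card_le_of_le hrange
    have h3 : Nat.card ↥φ.ker * φ.ker.index = Nat.card ↥N := Subgroup.card_mul_index _
    rw [Subgroup.index_ker] at h3
    calc Nat.card ↥N = Nat.card ↥φ.ker * Nat.card ↥φ.range := h3.symm
      _ ≤ 2 * 2 := Nat.mul_le_mul h1 h2
      _ = 4 := rfl

end Cfsg.Agent.S3276
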