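-- Statement S3294: a finite solvable group with generalized quaternion Sylow 2-subgroups of order >= 32 has a
-- normal 2-complement.
import Cfsg.Statements.S3294
import Cfsg.Agent.Helper55.CyclicInf

set_option autoImplicit false
open Cfsg

namespace Cfsg.Agent.S3294

open Cfsg.Agent.Lib Cfsg.Agent.Helper55

/-- Lemma X: in a finite solvable group `K` with `O(K) = 1`, if `O_2(K)` has a cyclic subgroup `Q₀`, normal in
`K`, modulo which every element acts trivially on `O_2(K)`, then `K` is a 2-group. -/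
theorem isPGroup_two_of_cyclic_section {K : Type*} [Group K] [Finite K] [Group.IsSolvable K]
    (hcore : Cfsg.pPrimeCore 2 K = ⊥) (Q₀ : Subgroup K) (hQ₀n : Q₀.Normal) (hQ₀c : IsCyclic Q₀)
    (hQ₀Q : Q₀ ≤ Cfsg.pCore 2 K)
    (hact : ∀ g q : K, q ∈ Cfsg.pCore 2 K → g * q * g⁻¹ * q⁻¹ ∈ Q₀) : IsPGroup 2 K := by
  have : Fact (Nat.Prime 2) := ⟨Nat.prime_two⟩
  have hQ2 : IsPGroup 2 (Cfsg.pCore 2 K) := isPGroup_pCore 2
  have hQ₀2 : IsPGroup 2 Q₀ := hQ2.to_le hQ₀Q
  apply isPGroup_of_forall_coprime_eq_one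
  intro a ha
  have hcen := mem_centralizer_of_odd_of_cyclic_two_group Q₀ hQ₀c hQ₀2 a ha
  -- a centralizes all of O_2(K)
  have hcenQ : a ∈ Subgroup.centralizer (Cfsg.pCore 2 K : Set K) := by
    rw [Subgroup.mem_centralizer_iff]
    intro q hq
    set c := a * q * a⁻¹ * q⁻¹ with hc
    have hcQ₀ : c ∈ Q₀ := hact a q hq
    have hac : c * a = a * c := (Subgroup.mem_centralizer_iff.mp hcen) c hcQ₀
    have hpow : ∀ j : ℕ, a ^ j * q * (a ^ j)⁻¹ = c ^ j * q := by
      intro j
      induction j with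
      | zero => simp
      | succ j ih =>
        have e1 : a ^ (j + 1) * q * (a ^ (j + 1))⁻¹ = a * (a ^ j * q * (a ^ j)⁻¹) * a⁻¹ := by
          rw [pow_succ']; group
        have hacj : a * c ^ j = c ^ j * a := by
          have : Commute a c := hac.symm
          exact (this.pow_right j)
        rw [e1, ih]
        calc a * (c ^ j * q) * a⁻¹ = (a * c ^ j) * q * a⁻¹ := by group
          _ = c ^ j * a * q * a⁻¹ := by rw [hacj]
          _ = c ^ j * (a * q * a⁻¹ * q⁻¹) * q := by group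
          _ = c ^ (j + 1) * q := by rw [← hc, pow_succ]
    have h1 := hpow (orderOf a)
    rw [pow_orderOf_eq_one] at h1
    have h2 : c ^ orderOf a = 1 := by
      have : q = c ^ orderOf a * q := by simpa using h1
      exact (mul_eq_right.mp this.symm)
    have hc1 : c = 1 := by
      obtain ⟨k, hk⟩ := (IsPGroup.iff_orderOf.mp hQ₀2) ⟨c, hcQ₀⟩
      rw [Subgroup.orderOf_mk] at hk
      have hdvd : orderOf c ∣ orderOf a := orderOf_dvd_of_pow_eq_one h2
      have hco : (orderOf c).Coprime 2 := Nat.Coprime.coprime_dvd_left hdvd ha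
      rw [hk] at hco
      have hk0 : k = 0 := by
        by_contra h0
        have := (Nat.coprime_pow_left_iff (Nat.pos_of_ne_zero h0) 2 2).mp hco
        norm_num at this
      rw [hk0, pow_zero] at hk
      exact orderOf_eq_one_iff.mp hk
    -- a q a⁻¹ q⁻¹ = 1
    have : a * q * a⁻¹ * q⁻¹ = 1 := hc ▸ hc1
    calc q * a = (a * q * a⁻¹ * q⁻¹)⁻¹ * (a * q) := by group
      _ = a * q := by rw [this, inv_one, one_mul]
  have haQ : a ∈ Cfsg.pCore 2 K := centralizer_pCore_le 2 hcore hcenQ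
  obtain ⟨j, hj⟩ := (IsPGroup.iff_orderOf.mp hQ2) ⟨a, haQ⟩
  rw [Subgroup.orderOf_mk] at hj
  rw [hj] at ha
  have hj0 : j = 0 := by
    by_contra h0
    have := (Nat.coprime_pow_left_iff (Nat.pos_of_ne_zero h0) 2 2).mp ha
    norm_num at this
  rw [hj0, pow_zero] at hj
  exact orderOf_eq_one_iff.mp hj

open QuaternionGroup in
theorem a_one_inv {N : ℕ} : (a 1 : QuaternionGroup N)⁻¹ = a (-1) := by
  rw [inv_eq_iff_mul_eq_one, a_mul_a, add_neg_cancel]; exact a_zero

open QuaternionGroup in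
theorem two_N_eq_zero {N : ℕ} : ((N : ZMod (2 * N)) + N) = 0 := by
  have : ((2 * N : ℕ) : ZMod (2 * N)) = 0 := ZMod.natCast_self _
  rw [← this]; push_cast; ring

open QuaternionGroup in
theorem xa_inv' {N : ℕ} (i : ZMod (2 * N)) : (xa i : QuaternionGroup N)⁻¹ = xa ((N : ZMod (2 * N)) + i) := by
  rw [inv_eq_iff_mul_eq_one, xa_mul_xa]
  have : (N : ZMod (2 * N)) + ((N : ZMod (2 * N)) + i) - i = 0 := by
    linear_combination (two_N_eq_zero (N := N))
  rw [this]; exact a_zero

open QuaternionGroup in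
/-- elements outside the cyclic subgroup `⟨a 1⟩` are the `xa i`. -/
theorem not_mem_zpowers_iff {N : ℕ} [NeZero N] (x : QuaternionGroup N) :
    x ∉ Subgroup.zpowers (a 1 : QuaternionGroup N) ↔ ∃ i, x = xa i := by
  constructor
  · intro hx
    cases x with
    | a i =>
      exfalso
      apply hx
      rw [Subgroup.mem_zpowers_iff]
      refine ⟨(i.val : ℤ), ?_⟩
      rw [zpow_natCast, a_one_pow, ZMod.natCast_zmod_val]
    | xa i => exact ⟨i, rfl⟩
  · rintro ⟨i, rfl⟩ hx
    rw [Subgroup.mem_zpowers_iff] at hx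
    obtain ⟨k, hk⟩ := hx
    have : ∀ k : ℤ, ∃ j, (a 1 : QuaternionGroup N) ^ k = a j := by
      intro k
      induction k using Int.induction_on with
      | zero => exact ⟨0, by rw [zpow_zero]; exact a_zero.symm⟩
      | succ k ih =>
        obtain ⟨j, hj⟩ := ih
        exact ⟨j + 1, by rw [zpow_add_one, hj, a_mul_a]⟩
      | pred k ih =>
        obtain ⟨j, hj⟩ := ih
        refine ⟨j - 1, ?_⟩
        rw [zpow_sub_one, hj]
        rw [a_one_inv, a_mul_a, sub_eq_add_neg]
    obtain ⟨j, hj⟩ := this k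
    rw [hj] at hk
    cases hk

open QuaternionGroup in
/-- The main lemma: a finite solvable group `K` with `O(K) = 1` whose Sylow 2-subgroup is generalized
quaternion `QuaternionGroup N`, `N ≥ 8`, is a 2-group. -/
theorem isPGroup_two_of_quaternion_sylow {K : Type*} [Group K] [Finite K] [Group.IsSolvable K]
    (hcore : Cfsg.pPrimeCore 2 K = ⊥) (N : ℕ) (hN : 8 ≤ N) (ψ : QuaternionGroup N →* K)
    (hψ : Function.Injective ψ) (P : Sylow 2 K) (hP : ψ.range = (P : Subgroup K)) : IsPGroup 2 K := by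
  have : Fact (Nat.Prime 2) := ⟨Nat.prime_two⟩
  have : NeZero N := ⟨by omega⟩
  set Q := Cfsg.pCore 2 K with hQ
  have hQn : Q.Normal := Cfsg.pCore_normal 2 K
  have hQ2 : IsPGroup 2 Q := isPGroup_pCore 2
  have hQP : Q ≤ ψ.range := by rw [hP]; exact pCore_le_sylow P
  set A : Subgroup (QuaternionGroup N) := Subgroup.zpowers (a 1) with hA
  set A' : Subgroup K := A.map ψ with hA'
  have hA'c : IsCyclic A' := by
    rw [hA', hA, MonoidHom.map_zpowers]
    infer_instance
  by_cases hQA : Q ≤ A'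
  · -- Q is cyclic
    have hQc : IsCyclic Q := by
      have h1 : IsCyclic ↥(Q.subgroupOf A') := inferInstance
      exact isCyclic_of_surjective (Subgroup.subgroupOfEquivOfLe hQA).toMonoidHom
        (Subgroup.subgroupOfEquivOfLe hQA).surjective
    refine isPGroup_two_of_cyclic_section hcore Q hQn hQc le_rfl ?_
    intro g q hq
    exact Q.mul_mem (hQn.conj_mem q hq g) (Q.inv_mem hq)
  · -- Q contains some ψ (xa i)
    rw [SetLike.not_le_iff_exists] at hQA
    obtain ⟨q₁, hq₁Q, hq₁A⟩ := hQA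
    obtain ⟨x₁, rfl⟩ := hQP hq₁Q
    have hx₁ : x₁ ∉ A := fun h => hq₁A (Subgroup.mem_map_of_mem ψ h)
    obtain ⟨i, rfl⟩ := (not_mem_zpowers_iff x₁).mp hx₁
    -- ψ (a 2) ∈ Q
    have ha2Q : ψ (a 2) ∈ Q := by
      have h1 : ψ (a 1) * ψ (xa i) * (ψ (a 1))⁻¹ ∈ Q := hQn.conj_mem _ hq₁Q _
      have h2 := Q.mul_mem h1 (Q.inv_mem hq₁Q)
      have e : ψ (a 1) * ψ (xa i) * (ψ (a 1))⁻¹ * (ψ (xa i))⁻¹ = ψ (a 2) := by
        rw [← map_inv, ← map_inv, ← map_mul, ← map_mul, ← map_mul]
        congr 1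
        rw [a_one_inv, xa_inv', a_mul_xa, xa_mul_a, xa_mul_xa]
        congr 1
        linear_combination (two_N_eq_zero (N := N))
      rw [e] at h2
      exact h2
    set Q₀ := Q ⊓ A' with hQ₀
    have hQ₀c : IsCyclic Q₀ := by
      have h1 : IsCyclic ↥(Q₀.subgroupOf A') := inferInstance
      exact isCyclic_of_surjective (Subgroup.subgroupOfEquivOfLe (inf_le_right : Q₀ ≤ A')).toMonoidHom
        (Subgroup.subgroupOfEquivOfLe inf_le_right).surjective
    -- order of ψ (a 2)
    have hord2 : orderOf (ψ (a 2)) = N := by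
      rw [orderOf_injective ψ hψ, orderOf_a]
      have hval : (2 : ZMod (2 * N)).val = 2 := by
        have : (2 : ZMod (2 * N)) = ((2 : ℕ) : ZMod (2 * N)) := by norm_cast
        rw [this, ZMod.val_natCast]
        exact Nat.mod_eq_of_lt (by omega)
      rw [hval, Nat.gcd_eq_right (Dvd.intro _ rfl)]
      exact Nat.mul_div_cancel_left _ (by norm_num)
    have ha2Q₀ : ψ (a 2) ∈ Q₀ := by
      refine ⟨ha2Q, Subgroup.mem_map_of_mem ψ ?_⟩
      rw [hA, Subgroup.mem_zpowers_iff]
      exact ⟨2, by rw [zpow_ofNat, a_one_pow]; norm_cast⟩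
    -- elements of ψ.range of order ≥ 8 lie in A'
    have hbig : ∀ y ∈ ψ.range, 8 ≤ orderOf y → y ∈ A' := by
      intro y hy h8
      obtain ⟨w, rfl⟩ := hy
      by_contra hw
      have hwA : w ∉ A := fun h => hw (Subgroup.mem_map_of_mem ψ h)
      obtain ⟨j, rfl⟩ := (not_mem_zpowers_iff w).mp hwA
      rw [orderOf_injective ψ hψ, orderOf_xa] at h8
      omega
    -- Q₀ is normal in K
    have hQ₀n : Q₀.Normal := by
      obtain ⟨q₀, hq₀⟩ := hQ₀c.exists_generator
      have hq₀ord : orderOf (q₀ : K) = Nat.card Q₀ := by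
        rw [Subgroup.orderOf_coe]
        exact orderOf_eq_card_of_forall_mem_zpowers hq₀
      have hcard8 : 8 ≤ Nat.card Q₀ := by
        have hdvd : orderOf (ψ (a 2)) ∣ Nat.card Q₀ := by
          have := orderOf_dvd_natCard (⟨ψ (a 2), ha2Q₀⟩ : Q₀)
          rwa [Subgroup.orderOf_mk] at this
        rw [hord2] at hdvd
        exact le_trans hN (Nat.le_of_dvd Nat.card_pos hdvd)
      constructor
      intro y hy g
      obtain ⟨k, hk⟩ := Subgroup.mem_zpowers_iff.mp (hq₀ ⟨y, hy⟩)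
      have hyk : y = (q₀ : K) ^ k := by
        have := congrArg Subtype.val hk
        simpa using this.symm
      have hgq : g * (q₀ : K) * g⁻¹ ∈ Q₀ := by
        have h1 : g * (q₀ : K) * g⁻¹ ∈ Q := hQn.conj_mem _ q₀.2.1 g
        refine ⟨h1, hbig _ (hQP h1) ?_⟩
        have : orderOf (g * (q₀ : K) * g⁻¹) = orderOf (q₀ : K) := by
          have := orderOf_injective (MulAut.conj g).toMonoidHom (MulAut.conj g).injective (q₀ : K)
          simpa using this
        rw [this, hq₀ord]; exact hcard8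
      have : g * y * g⁻¹ = (g * (q₀ : K) * g⁻¹) ^ k := by
        rw [hyk]
        exact (conj_zpow (a := g) (i := k) (b := (q₀ : K))).symm
      rw [this]
      exact Q₀.zpow_mem hgq k
    refine isPGroup_two_of_cyclic_section hcore Q₀ hQ₀n hQ₀c inf_le_left ?_
    intro g q hq
    obtain ⟨x, rfl⟩ := hQP hq
    have hgq : g * ψ x * g⁻¹ ∈ Q := hQn.conj_mem _ hq g
    by_cases hqA : ψ x ∈ A'
    · have : ψ x ∈ Q₀ := ⟨hq, hqA⟩
      exact Q₀.mul_mem (hQ₀n.conj_mem _ this g) (Q₀.inv_mem this)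
    · have hgqA : g * ψ x * g⁻¹ ∉ A' := by
        intro h
        have h1 : g * ψ x * g⁻¹ ∈ Q₀ := ⟨hgq, h⟩
        have h2 := hQ₀n.conj_mem _ h1 g⁻¹
        have e : g⁻¹ * (g * ψ x * g⁻¹) * g⁻¹⁻¹ = ψ x := by group
        rw [e] at h2
        exact hqA h2.2
      refine ⟨Q.mul_mem hgq (Q.inv_mem hq), ?_⟩
      obtain ⟨y, hy⟩ := hQP hgq
      have hxA : x ∉ A := fun h => hqA (Subgroup.mem_map_of_mem ψ h)
      have hyA : y ∉ A := fun h => hgqA (hy ▸ Subgroup.mem_map_of_mem ψ h)
      obtain ⟨i', rfl⟩ := (not_mem_zpowers_iff x).mp hxA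
      obtain ⟨j', rfl⟩ := (not_mem_zpowers_iff y).mp hyA
      rw [← hy, ← map_inv, ← map_mul]
      apply Subgroup.mem_map_of_mem
      rw [xa_inv', xa_mul_xa, hA, Subgroup.mem_zpowers_iff]
      refine ⟨(((N : ZMod (2 * N)) + ((N : ZMod (2 * N)) + i') - j').val : ℤ), ?_⟩
      rw [zpow_natCast, a_one_pow, ZMod.natCast_zmod_val]

/-- A finite solvable group whose Sylow 2-subgroups are generalized quaternion of order at least 32 has a normal 2-complement. -/
theorem result {G : Type*} [Group G] [Finite G] (hsol : Group.IsSolvable G) (T : Sylow 2 G) (n : ℕ) (hn : 3 ≤ n) (hT : Nonempty ((T : Subgroup G) ≃* QuaternionGroup (2 ^ n))) : Cfsg.HasNormalPComplement 2 G := by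
  have : Fact (Nat.Prime 2) := ⟨Nat.prime_two⟩
  obtain ⟨e⟩ := hT
  set O := Cfsg.oddCore G with hO
  have hOn : O.Normal := Cfsg.pPrimeCore_normal 2 G
  have hOodd : Odd (Nat.card O) := odd_card_oddCore
  have hsolK : Group.IsSolvable (G ⧸ O) :=
    Group.isSolvable_of_surjective (QuotientGroup.mk'_surjective O)
  have hcore : Cfsg.pPrimeCore 2 (G ⧸ O) = ⊥ := pPrimeCore_quotient_pPrimeCore 2
  -- T ∩ O = 1
  have hTcard : ∃ k, Nat.card (T : Subgroup G) = 2 ^ k := IsPGroup.iff_card.mp T.isPGroup'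
  have hdisj : Disjoint (T : Subgroup G) O := by
    apply Subgroup.disjoint_of_coprime_natCard
    obtain ⟨k, hk⟩ := hTcard
    rw [hk]
    exact Nat.Coprime.pow_left k (Nat.coprime_two_left.mpr hOodd)
  -- the embedding of the quaternion group into the quotient
  let ψ₀ : QuaternionGroup (2 ^ n) →* G := (T : Subgroup G).subtype.comp e.symm.toMonoidHom
  have hψ₀inj : Function.Injective ψ₀ := Subtype.val_injective.comp e.symm.injective
  have hψ₀range : ψ₀.range = (T : Subgroup G) := by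
    rw [MonoidHom.range_comp, MonoidHom.range_eq_top.mpr e.symm.surjective, ← MonoidHom.range_eq_map,
      Subgroup.range_subtype]
  let ψ : QuaternionGroup (2 ^ n) →* G ⧸ O := (QuotientGroup.mk' O).comp ψ₀
  have hψinj : Function.Injective ψ := by
    rw [injective_iff_map_eq_one]
    intro x hx
    have h1 : ψ₀ x ∈ O := by
      have : ((ψ₀ x : G) : G ⧸ O) = 1 := hx
      exact (QuotientGroup.eq_one_iff _).mp this
    have h2 : ψ₀ x ∈ (T : Subgroup G) := by rw [← hψ₀range]; exact ⟨x, rfl⟩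
    have h3 : ψ₀ x = 1 := by
      have := hdisj.le_bot (Subgroup.mem_inf.mpr ⟨h2, h1⟩)
      exact Subgroup.mem_bot.mp this
    exact hψ₀inj (h3.trans (map_one ψ₀).symm)
  set P : Sylow 2 (G ⧸ O) := T.mapSurjective (QuotientGroup.mk'_surjective O) with hPdef
  have hP : ψ.range = (P : Subgroup (G ⧸ O)) := by
    rw [hPdef, Sylow.coe_mapSurjective, MonoidHom.range_comp, hψ₀range]
  have h8 : 8 ≤ 2 ^ n := by
    calc 8 = 2 ^ 3 := by norm_num
      _ ≤ 2 ^ n := Nat.pow_le_pow_right (by norm_num) hn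
  have hK2 : IsPGroup 2 (G ⧸ O) :=
    isPGroup_two_of_quaternion_sylow hcore (2 ^ n) h8 ψ hψinj P hP
  -- cardinalities
  have hPtop : (P : Subgroup (G ⧸ O)) = ⊤ := sylow_eq_top_of_isPGroup hK2 P
  have hcardK : Nat.card (G ⧸ O) = Nat.card (T : Subgroup G) := by
    have h1 : Nat.card (ψ.range) = Nat.card (QuaternionGroup (2 ^ n)) :=
      Nat.card_range_of_injective hψinj
    rw [hP, hPtop, Subgroup.card_top] at h1
    rw [h1]
    exact (Nat.card_congr e.toEquiv).symm
  have hcardG : Nat.card O * Nat.card (T : Subgroup G) = Nat.card G := by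
    rw [Subgroup.card_eq_card_quotient_mul_card_subgroup O, hcardK, mul_comm]
  refine ⟨T, O, hOn, ?_⟩
  exact Subgroup.isComplement'_of_card_mul_and_disjoint hcardG hdisj.symm

end Cfsg.Agent.S3294
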