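import Cfsg.Statements.S3299
import Cfsg.Agent.Helper90.SignTransfer
import Cfsg.Agent.Helper90.EsTransfer2

set_option autoImplicit false
open Cfsg

namespace Cfsg.Agent.S3299

/-- Let G be a finite group with no nontrivial 2-group quotient (O^2(G) = G), z an involution of G with H = C_G(z), and suppose E = O_2(H) is extraspecial with C_G(E) ≤ E and of order 2^(2n+1) with n ≥ 2. Then E is contained in every normal subgroup of H of index 2. -/
theorem result {G : Type*} [Group G] [Finite G] (hres : Cfsg.pResidual 2 G = ⊤) (z : G) (hz : orderOf z = 2)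
    (E : Subgroup G) (hE : E = (Cfsg.pCore 2 ↥(Subgroup.centralizer ({z} : Set G))).map (Subgroup.centralizer ({z} : Set G)).subtype)
    (hext : Cfsg.IsExtraspecial 2 ↥E) (hcent : Subgroup.centralizer (E : Set G) ≤ E) (n : ℕ) (hn : 2 ≤ n) (hcard : Nat.card ↥E = 2 ^ (2 * n + 1))
    (K : Subgroup G) (hKH : K ≤ Subgroup.centralizer ({z} : Set G))
    (hKn : ∀ h ∈ Subgroup.centralizer ({z} : Set G), K.map (MulAut.conj h).toMonoidHom = K)
    (hKi : K.relIndex (Subgroup.centralizer ({z} : Set G)) = 2) : E ≤ K := by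
  classical
  have : Fact (Nat.Prime 2) := ⟨Nat.prime_two⟩
  obtain ⟨hED, hEH, hHN, hC, hodd⟩ := Cfsg.Agent.Helper90.es_setup z hz E hE hext hcent
  have hcard32 : 32 ≤ Nat.card ↥E := by
    rw [hcard]
    calc 32 = 2 ^ 5 := by norm_num
      _ ≤ 2 ^ (2 * n + 1) := Nat.pow_le_pow_right (by norm_num) (by omega)
  have hidxH := Cfsg.Agent.Helper90.mul_mem_iff_of_relIndex_two hKi
  have hcommK := Cfsg.Agent.Helper90.comm_mem_of_relIndex_two hKi
  have hidx : ∀ a ∈ E, ∀ b ∈ E, (a * b ∈ K ↔ (a ∈ K ↔ b ∈ K)) :=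
    fun a ha b hb => hidxH a (hEH ha) b (hEH hb)
  have htriv : ∀ (φ : G →* ℤˣ) (g : G), φ g = 1 :=
    fun φ g => Cfsg.Agent.Helper90.hom_units_trivial_of_pResidual hres φ g
  have hz1 : z ≠ 1 := hED.z1
  have hzH : z ∈ Subgroup.centralizer ({z} : Set G) :=
    Subgroup.mem_centralizer_singleton_iff.mpr rfl
  -- `z ∈ K`, being a commutator of elements of `E`
  have hzK : z ∈ K := by
    obtain ⟨q, hqE, hq1, hqz⟩ : ∃ q ∈ E, q ≠ 1 ∧ q ≠ z := by
      by_contra hcon
      push Not at hcon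
      have h8 : Nat.card ↥E ≤ 8 := by
        apply Cfsg.Agent.Helper90.card_le_eight_of_forall E 1 1 z
        intro q hq
        left
        by_cases h1 : q = 1
        · exact Or.inl h1
        · exact Or.inr (Or.inl (hcon q hq h1))
      omega
    obtain ⟨y, hyE, hyq⟩ := hED.exists_conj_inv hqE hq1 hqz
    have h1 : y * q * y⁻¹ * q⁻¹ = z := by rw [hyq]; group
    rw [← h1]
    exact hcommK y (hEH hyE) q (hEH hqE)
  intro e heE
  by_contra heK
  obtain ⟨u, huE, huK, huu⟩ := hED.exists_invol_not_mem hcard32 K hidx e heE heK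
  have hu1 : u ≠ 1 := fun h => huK (h ▸ K.one_mem)
  have huz : u ≠ z := fun h => huK (h ▸ hzK)
  have huinv : u⁻¹ = u := inv_eq_of_mul_eq_one_left huu
  have hX2 : IsPGroup 2 ↥(E ⊓ Subgroup.centralizer ({u} : Set G)) :=
    (Cfsg.Agent.Helper90.isPGroup_of_isExtraspecial hext).to_le inf_le_left
  have hXH : E ⊓ Subgroup.centralizer ({u} : Set G) ≤ Subgroup.centralizer ({z} : Set G) :=
    inf_le_left.trans hEH
  have hXu : ∀ x ∈ E ⊓ Subgroup.centralizer ({u} : Set G), x * u = u * x := by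
    intro x hx
    exact (Subgroup.mem_centralizer_singleton_iff.mp (Subgroup.mem_inf.mp hx).2)
  obtain ⟨g, hgH, hgK, hgX⟩ := Cfsg.Agent.Helper90.exists_conj_fixed
    (Subgroup.centralizer ({z} : Set G)) K hKH hKi hodd u huu huK (fun φ => htriv φ u)
    (E ⊓ Subgroup.centralizer ({u} : Set G)) hX2 hXH hXu
  -- `w = g z g⁻¹` commutes with `X`
  have hw : ∀ x ∈ E ⊓ Subgroup.centralizer ({u} : Set G), x * (g * z * g⁻¹) = (g * z * g⁻¹) * x := by
    intro x hx
    have h1 := Subgroup.mem_centralizer_singleton_iff.mp (hgX x hx)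
    calc x * (g * z * g⁻¹) = g * ((g⁻¹ * x * g) * z) * g⁻¹ := by group
      _ = g * (z * (g⁻¹ * x * g)) * g⁻¹ := by rw [h1]
      _ = (g * z * g⁻¹) * x := by group
  rcases hED.centralizer_fix_subset hHN hC huE huu hu1 huz _ hw with h | h | h | h
  · apply hz1
    calc z = g⁻¹ * (g * z * g⁻¹) * g := by group
      _ = 1 := by rw [h]; group
  · apply hgH
    rw [Subgroup.mem_centralizer_singleton_iff]
    calc g * z = (g * z * g⁻¹) * g := by group
      _ = z * g := by rw [h]
  · apply hgK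
    have : g⁻¹ * u * g = z := by
      rw [← h]; group
    rw [this]
    exact hzK
  · apply hgK
    obtain ⟨a, ha, b, hb, hab⟩ := hED.exists_comm_eq_z huE hu1 huz hcard32
    have h1 : g⁻¹ * z * g ∈ K := by
      have h2 : g⁻¹ * z * g = (g⁻¹ * a * g) * (g⁻¹ * b * g) * (g⁻¹ * a * g)⁻¹ * (g⁻¹ * b * g)⁻¹ := by
        rw [← hab]; group
      rw [h2]
      exact hcommK _ (hgX a ha) _ (hgX b hb)
    have h3 : g⁻¹ * u * g = z * (g⁻¹ * z * g) := by
      have hu : u = z * (g * z * g⁻¹) := by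
        rw [h, ← mul_assoc, hED.zz, one_mul]
      calc g⁻¹ * u * g = g⁻¹ * (z * (g * z * g⁻¹)) * g := by rw [← hu]
        _ = (g⁻¹ * z * g) * z := by group
        _ = z * (g⁻¹ * z * g) := by
          have h4 : g⁻¹ * z * g ∈ Subgroup.centralizer ({z} : Set G) := hKH h1
          exact (Subgroup.mem_centralizer_singleton_iff.mp h4)
    rw [h3]
    exact K.mul_mem hzK h1

end Cfsg.Agent.S3299
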