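-- Statement S3303: solvable groups with cyclic Sylow 2-intersections.
import Cfsg.Statements.S3303
import Cfsg.Agent.Helper55.CyclicInf

set_option autoImplicit false
open Cfsg

namespace Cfsg.Agent.S3303

/-- Let G be a finite solvable group in which the intersection of any two distinct Sylow 2-subgroups is cyclic. Then G/O(G) has a normal Sylow 2-subgroup, where O(G) is the largest normal subgroup of odd order. -/
theorem result {G : Type*} [Group G] [Finite G] (hs : Group.IsSolvable G)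
    (hC : ∀ S T : Sylow 2 G, S ≠ T → IsCyclic ↥((S : Subgroup G) ⊓ (T : Subgroup G))) :
    ∃ P : Sylow 2 (G ⧸ Cfsg.oddCore G), (P : Subgroup (G ⧸ Cfsg.oddCore G)).Normal := by
  have : Fact (Nat.Prime 2) := ⟨Nat.prime_two⟩
  have hsol : Group.IsSolvable (G ⧸ Cfsg.oddCore G) :=
    Group.isSolvable_of_surjective (QuotientGroup.mk'_surjective (Cfsg.oddCore G))
  have hcore : Cfsg.pPrimeCore 2 (G ⧸ Cfsg.oddCore G) = ⊥ :=
    Cfsg.Agent.Helper55.pPrimeCore_quotient_pPrimeCore 2
  have hC' : ∀ S T : Sylow 2 (G ⧸ Cfsg.oddCore G), S ≠ T →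
      IsCyclic ↥((S : Subgroup (G ⧸ Cfsg.oddCore G)) ⊓ (T : Subgroup (G ⧸ Cfsg.oddCore G))) :=
    fun S T hne => Cfsg.Agent.Helper55.isCyclic_sylow_inf_of_surjective
      (QuotientGroup.mk' (Cfsg.oddCore G)) (QuotientGroup.mk'_surjective _) hC S T hne
  exact Cfsg.Agent.Helper55.exists_normal_sylow_two_of_cyclic_inf hcore hC'

end Cfsg.Agent.S3303
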