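import Cfsg.Statements.S3304
import Cfsg.Agent.Helper57.Q8G

set_option autoImplicit false
open Cfsg

namespace Cfsg.Agent.S3304

/-- Let G be a finite solvable group in which the intersection of any two distinct Sylow 2-subgroups has 2-rank at most 1 (contains no Klein four-group). Write Q = G/O(G), O(G) the largest normal subgroup of odd order. Then Q has a normal Sylow 2-subgroup; or Q is isomorphic to GL(2,3); or Q has order 48, centre of order 2 with central quotient isomorphic to the symmetric group of degree 4, and generalized quaternion Sylow 2-subgroups of order 16 (the binary octahedral group). The last two are the two representation groups of the symmetric group of degree 4. -/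
theorem result {G : Type*} [Group G] [Finite G] (hs : Group.IsSolvable G)
    (hI : ∀ S T : Sylow 2 G, S ≠ T → Cfsg.PRankLE 2 1 ↥((S : Subgroup G) ⊓ (T : Subgroup G))) :
    (∃ P : Sylow 2 (G ⧸ Cfsg.oddCore G), (P : Subgroup (G ⧸ Cfsg.oddCore G)).Normal) ∨
    Nonempty ((G ⧸ Cfsg.oddCore G) ≃* GL (Fin 2) (ZMod 3)) ∨
    (Nat.card (G ⧸ Cfsg.oddCore G) = 48 ∧ Nat.card ↥(Subgroup.center (G ⧸ Cfsg.oddCore G)) = 2 ∧
      Nonempty ((G ⧸ Cfsg.oddCore G) ⧸ Subgroup.center (G ⧸ Cfsg.oddCore G) ≃* Equiv.Perm (Fin 4)) ∧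
      ∀ P : Sylow 2 (G ⧸ Cfsg.oddCore G), Nonempty (↥(P : Subgroup (G ⧸ Cfsg.oddCore G)) ≃* QuaternionGroup 4)) := by
  have : Fact (Nat.Prime 2) := ⟨Nat.prime_two⟩
  haveI : Group.IsSolvable G := hs
  have hcore : Cfsg.pPrimeCore 2 (G ⧸ Cfsg.oddCore G) = ⊥ :=
    Helper55.pPrimeCore_quotient_pPrimeCore 2
  have hV : ∀ S T : Sylow 2 (G ⧸ Cfsg.oddCore G), S ≠ T →
      Helper57.Q8.NoV4 ((S : Subgroup (G ⧸ Cfsg.oddCore G)) ⊓ (T : Subgroup (G ⧸ Cfsg.oddCore G))) := by
    apply Helper57.Q8.noV4_sylow_inf_of_surjective (QuotientGroup.mk' (Cfsg.oddCore G))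
      (QuotientGroup.mk'_surjective _)
    · rw [QuotientGroup.ker_mk']
      exact Lib.odd_card_oddCore
    · intro S T hne
      exact Helper57.Q8.noV4_of_pRankLE _ (hI S T hne)
  by_cases hns : ∃ P : Sylow 2 (G ⧸ Cfsg.oddCore G), (P : Subgroup (G ⧸ Cfsg.oddCore G)).Normal
  · left; exact hns
  · right
    obtain ⟨x, y, z, g, h⟩ := Helper57.Q8.q8_data hcore hV hns
    have hQn : (Cfsg.pCore 2 (G ⧸ Cfsg.oddCore G)).Normal := Cfsg.pCore_normal 2 _
    obtain ⟨v, hvx, hvy⟩ := h.exists_swap hQn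
    rcases h.swap_sq hvx hvy with hv2 | hv2
    · left
      exact h.gl23 hQn hvx hvy hv2
    · right
      exact ⟨h.hcard, h.card_center hQn, h.quot_center hQn,
        fun P => h.sylow_quat hQn (fun P => Lib.pCore_le_sylow P) hvx hvy hv2 P⟩

end Cfsg.Agent.S3304
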