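-- Statement S3305: cyclic Sylow 2-intersections pass to quotients.
import Cfsg.Statements.S3305
import Cfsg.Agent.Helper55.SylowQuot

set_option autoImplicit false
open Cfsg

namespace Cfsg.Agent.S3305

/-- If any two distinct Sylow 2-subgroups of the finite group G intersect in a cyclic group, then the same holds in every quotient group G/H, H a normal subgroup of G. -/
theorem result {G : Type*} [Group G] [Finite G]
    (hC : ∀ S T : Sylow 2 G, S ≠ T → IsCyclic ↥((S : Subgroup G) ⊓ (T : Subgroup G))) (H : Subgroup G) [H.Normal] :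
    ∀ S T : Sylow 2 (G ⧸ H), S ≠ T → IsCyclic ↥((S : Subgroup (G ⧸ H)) ⊓ (T : Subgroup (G ⧸ H))) := by
  intro S T hne
  have : Fact (Nat.Prime 2) := ⟨Nat.prime_two⟩
  exact Cfsg.Agent.Helper55.isCyclic_sylow_inf_of_surjective (QuotientGroup.mk' H)
    (QuotientGroup.mk'_surjective H) hC S T hne

end Cfsg.Agent.S3305
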