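import Cfsg.Statements.S3315
import Cfsg.Agent.Helper19.SU3.Sylow
import Cfsg.Agent.Helper19.SU3.AutCenter

set_option autoImplicit false
open Cfsg

namespace Cfsg.Agent.S3315

/-- Let S be a Sylow 2-subgroup of SU₃(2ⁿ), n ≥ 2 (realised over the field with 4ⁿ elements). If a finite 2-group R contains a subgroup S' of index 2 isomorphic to S, then the centre of S' is contained in the centre of R. -/
theorem result {R : Type*} [Group R] [Finite R]
    (hR : IsPGroup 2 R) (n : ℕ) (hn : 2 ≤ n) {F : Type*} [Field F] [Fintype F] (hF : Fintype.card F = 4 ^ n)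
    (P : Sylow 2 ↥(Cfsg.SU 3 F (2 ^ n))) (S' : Subgroup R) (hS : Nonempty (↥S' ≃* ↥(P : Subgroup ↥(Cfsg.SU 3 F (2 ^ n)))))
    (hidx : S'.index = 2) :
    (Subgroup.center ↥S').map S'.subtype ≤ Subgroup.center R := by
  classical
  have hn1 : 1 ≤ n := by omega
  have hF' : Fintype.card F = (2 ^ n) ^ 2 := by
    rw [hF, ← pow_mul, mul_comm, pow_mul]; norm_num
  have hq1 : 1 < 2 ^ n := Nat.one_lt_two_pow (by omega)
  have hqe : Even (2 ^ n) := (Nat.even_pow.mpr ⟨even_two, by omega⟩)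
  obtain ⟨bar, hbar⟩ := Cfsg.Agent.Helper45.GU.exists_bar hF'
  have : Cfsg.Agent.Helper19.SU3.BarField F bar :=
    Cfsg.Agent.Helper19.SU3.barField bar hF' hqe hbar
  have hTr := Cfsg.Agent.Helper19.SU3.hTr bar hF' hq1 hbar
  have hω := Cfsg.Agent.Helper19.SU3.hω bar hF' hq1 hbar
  obtain ⟨e₁⟩ := Cfsg.Agent.Helper19.SU3.exists_equiv_sylow_SU hn1 hF' bar hbar P
  obtain ⟨e₂⟩ := hS
  let e : ↥S' ≃* Cfsg.Agent.Helper19.SU3.Heis bar := e₂.trans e₁.symm
  have hnorm : S'.Normal := Subgroup.normal_of_index_eq_two hidx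
  rintro _ ⟨z, hz, rfl⟩
  rw [Subgroup.mem_center_iff]
  intro r
  by_cases hr : r ∈ S'
  · have := Subgroup.mem_center_iff.mp hz ⟨r, hr⟩
    exact congrArg Subtype.val this
  · have hrr : r * r ∈ S' := Subgroup.mul_self_mem_of_index_two hidx r
    let φ : ↥S' ≃* ↥S' := MulAut.conjNormal r
    let ψ : Cfsg.Agent.Helper19.SU3.Heis bar ≃* Cfsg.Agent.Helper19.SU3.Heis bar :=
      e.symm.trans (φ.trans e)
    have hψ : ∀ x, ψ (ψ x) = e ⟨r * r, hrr⟩ * x * (e ⟨r * r, hrr⟩)⁻¹ := by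
      intro x
      show e (φ (e.symm (e (φ (e.symm x))))) = _
      rw [MulEquiv.symm_apply_apply]
      have h1 : φ (φ (e.symm x)) = ⟨r * r, hrr⟩ * e.symm x * (⟨r * r, hrr⟩ : ↥S')⁻¹ := by
        apply Subtype.ext
        show r * (r * (e.symm x : R) * r⁻¹) * r⁻¹ = r * r * (e.symm x : R) * (r * r)⁻¹
        group
      rw [h1, map_mul, map_mul, map_inv, MulEquiv.apply_symm_apply]
    have hez : e z ∈ Subgroup.center (Cfsg.Agent.Helper19.SU3.Heis bar) :=
      (Cfsg.Agent.Helper19.SU3.HeisLike.mem_center_congr e z).mpr hz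
    have h2 := Cfsg.Agent.Helper19.SU3.Heis.aut_center hω hTr ψ _ hψ (e z) hez
    have h3 : e (φ (e.symm (e z))) = e z := h2
    rw [MulEquiv.symm_apply_apply] at h3
    have h4 : φ z = z := e.injective h3
    have h5 : r * (z : R) * r⁻¹ = z := congrArg Subtype.val h4
    calc r * (z : R) = r * (z : R) * r⁻¹ * r := by group
      _ = (z : R) * r := by rw [h5]

end Cfsg.Agent.S3315
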