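import Cfsg.Statements.S3335
import Cfsg.Agent.Helper56.CarmichaelB

set_option autoImplicit false
open Cfsg
open Cfsg.Agent.Helper56.Carmichael

namespace Cfsg.Agent.S3335

/-- Carmichael's relators on `k` generators. -/
def rels (k : ℕ) : Set (FreeGroup (Fin k)) :=
  {g : FreeGroup (Fin k) | ∃ i : Fin k, i.val = 0 ∧ g = FreeGroup.of i ^ 3} ∪
   {g | ∃ i : Fin k, 1 ≤ i.val ∧ g = FreeGroup.of i ^ 2} ∪
   {g | ∃ i j : Fin k, j.val = i.val + 1 ∧ g = (FreeGroup.of i * FreeGroup.of j) ^ 3} ∪
   {g | ∃ i j : Fin k, i.val + 1 < j.val ∧ g = (FreeGroup.of i * FreeGroup.of j) ^ 2}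

theorem main (k : ℕ) : Nonempty (PresentedGroup (rels k) ≃* alternatingGroup (Fin (k + 2))) := by
  classical
  have hC := carRel_y k
  have hrel : ∀ r ∈ rels k, FreeGroup.lift (fun i : Fin k => y k i.val) r = 1 := by
    rintro r (((⟨i, hi, rfl⟩ | ⟨i, hi, rfl⟩) | ⟨i, j, hij, rfl⟩) | ⟨i, j, hij, rfl⟩)
    · simp only [map_pow, FreeGroup.lift_apply_of]
      rw [hi]
      exact hC.r0 (by have := i.isLt; omega)
    · simp only [map_pow, FreeGroup.lift_apply_of]
      exact hC.r1 _ hi i.isLt
    · simp only [map_pow, map_mul, FreeGroup.lift_apply_of]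
      rw [hij]
      exact hC.r2 _ (by have := j.isLt; omega)
    · simp only [map_pow, map_mul, FreeGroup.lift_apply_of]
      exact hC.r3 _ _ hij j.isLt
  let φ : PresentedGroup (rels k) →* Equiv.Perm (Fin (k + 2)) := PresentedGroup.toGroup hrel
  let X : ℕ → PresentedGroup (rels k) :=
    fun i => if h : i < k then PresentedGroup.of ⟨i, h⟩ else 1
  have hXi : ∀ i : Fin k, X i.val = PresentedGroup.of i := fun i => by
    simp only [X, dif_pos i.isLt]
  have hXlt : ∀ i (h : i < k), X i = PresentedGroup.of ⟨i, h⟩ := fun i h => by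
    simp only [X, dif_pos h]
  have hX : CarRel k X := by
    refine ⟨?_, ?_, ?_, ?_⟩
    · intro hk
      rw [hXlt 0 hk]
      exact PresentedGroup.one_of_mem (rels := rels k)
        (Or.inl (Or.inl (Or.inl ⟨⟨0, hk⟩, rfl, rfl⟩)))
    · intro i h1 hi
      rw [hXlt i hi]
      exact PresentedGroup.one_of_mem (rels := rels k)
        (Or.inl (Or.inl (Or.inr ⟨⟨i, hi⟩, h1, rfl⟩)))
    · intro i hi
      rw [hXlt i (by omega), hXlt (i + 1) hi]
      exact PresentedGroup.one_of_mem (rels := rels k)
        (Or.inl (Or.inr ⟨⟨i, by omega⟩, ⟨i + 1, hi⟩, rfl, rfl⟩))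
    · intro i j hij hj
      rw [hXlt i (by omega), hXlt j hj]
      exact PresentedGroup.one_of_mem (rels := rels k)
        (Or.inr ⟨⟨i, by omega⟩, ⟨j, hj⟩, hij, rfl⟩)
  have hXtop : Hm X k = ⊤ := by
    unfold Hm
    rw [eq_top_iff, ← PresentedGroup.closure_range_of]
    apply Subgroup.closure_mono
    rintro _ ⟨i, rfl⟩
    exact ⟨i.val, i.isLt, hXi i⟩
  obtain ⟨hfin, hub⟩ := card_bound X k hX
  rw [hXtop] at hfin hub
  have hfinP : Finite (PresentedGroup (rels k)) := by
    rw [Subgroup.coe_top] at hfin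
    exact Set.finite_univ_iff.mp hfin
  rw [Subgroup.card_top] at hub
  have hφ : ∀ i, i < k → φ (X i) = y k i := fun i hi => by
    rw [hXlt i hi]
    exact PresentedGroup.toGroup.of hrel
  have hrange : φ.range = Hm (y k) k := by
    rw [MonoidHom.range_eq_map, ← hXtop]
    unfold Hm
    rw [MonoidHom.map_closure, ← Set.image_comp]
    congr 1
    apply Set.image_congr
    intro i hi
    exact hφ i hi
  have hlow := lower_bound k k le_rfl
  have hle : Hm (y k) k ≤ alternatingGroup (Fin (k + 2)) := by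
    unfold Hm
    rw [Subgroup.closure_le]
    rintro _ ⟨i, hi, rfl⟩
    exact y_mem_alt hi
  have hA : 2 * Nat.card (alternatingGroup (Fin (k + 2))) = (k + 2).factorial := by
    rw [two_mul_nat_card_alternatingGroup, Nat.card_eq_fintype_card, Fintype.card_perm,
      Fintype.card_fin]
  have hHA : Hm (y k) k = alternatingGroup (Fin (k + 2)) := by
    apply Subgroup.eq_of_le_of_card_ge hle
    omega
  let φ' : PresentedGroup (rels k) →* alternatingGroup (Fin (k + 2)) :=
    φ.codRestrict _ (fun g => by rw [← hHA, ← hrange]; exact ⟨g, rfl⟩)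
  have hsurj : Function.Surjective φ' := by
    rintro ⟨a, ha⟩
    rw [← hHA, ← hrange] at ha
    obtain ⟨g, rfl⟩ := ha
    exact ⟨g, rfl⟩
  have hcard : Nat.card (PresentedGroup (rels k)) = Nat.card (alternatingGroup (Fin (k + 2))) := by
    have := Nat.card_le_card_of_surjective φ' hsurj
    omega
  exact ⟨MulEquiv.ofBijective φ' ((Nat.bijective_iff_surjective_and_card φ').2 ⟨hsurj, hcard⟩)⟩

/-- A presentation of the alternating group of degree n ≥ 3 on generators x_1, …, x_{n−2} (indexed here by 0, …, n−3): the first generator cubes to 1, every other generator squares to 1, the product of two consecutive generators has order dividing 3, and the product of two generators at distance at least 2 has order dividing 2. The group so presented is isomorphic to the alternating group of degree n. -/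
theorem result (n : ℕ) (hn : 3 ≤ n) :
    Nonempty (PresentedGroup
      ({g : FreeGroup (Fin (n - 2)) | ∃ i : Fin (n - 2), i.val = 0 ∧ g = FreeGroup.of i ^ 3} ∪
       {g | ∃ i : Fin (n - 2), 1 ≤ i.val ∧ g = FreeGroup.of i ^ 2} ∪
       {g | ∃ i j : Fin (n - 2), j.val = i.val + 1 ∧ g = (FreeGroup.of i * FreeGroup.of j) ^ 3} ∪
       {g | ∃ i j : Fin (n - 2), i.val + 1 < j.val ∧ g = (FreeGroup.of i * FreeGroup.of j) ^ 2})
      ≃* alternatingGroup (Fin n)) := by
  obtain ⟨k, rfl⟩ : ∃ k, n = k + 2 := ⟨n - 2, by omega⟩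
  exact main k

end Cfsg.Agent.S3335
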