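import Cfsg.Statements.S3349

set_option autoImplicit false
open Cfsg
open scoped commutatorElement

namespace Cfsg.Agent.S3349

/-- Let Q be a finite extraspecial p-group and α an automorphism of Q fixing every element of some maximal abelian subgroup of Q. Then the order of α is a power of p. -/
theorem result {Q : Type*} [Group Q] [Finite Q]
    (p : ℕ) [Fact p.Prime] (hQ : Cfsg.IsExtraspecial p Q) (α : MulAut Q)
    (A : Subgroup Q) (hA : IsMulCommutative A) (hmax : ∀ B : Subgroup Q, A ≤ B → IsMulCommutative B → B = A)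
    (hfix : ∀ a ∈ A, α a = a) :
    ∃ k : ℕ, orderOf α = p ^ k := by
  obtain ⟨⟨hp, _, hcomm⟩, _⟩ := hQ
  -- the centralizer of A is contained in A
  have hcent : ∀ x : Q, (∀ a ∈ A, a * x = x * a) → x ∈ A := by
    intro x hx
    have hB : IsMulCommutative (Subgroup.closure ((A : Set Q) ∪ {x})) := by
      apply Subgroup.isMulCommutative_closure
      rintro y (hy | hy) z (hz | hz)
      · exact setLike_mul_comm hy hz
      · rw [Set.mem_singleton_iff] at hz; subst hz; exact hx y hy
      · rw [Set.mem_singleton_iff] at hy; subst hy; exact (hx z hz).symm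
      · rw [Set.mem_singleton_iff] at hy hz; subst hy; subst hz; rfl
    have hle : A ≤ Subgroup.closure ((A : Set Q) ∪ {x}) := fun a ha =>
      Subgroup.subset_closure (Or.inl ha)
    have := hmax _ hle hB
    rw [← this]
    exact Subgroup.subset_closure (Or.inr rfl)
  -- the centre is contained in A
  have hZ : Subgroup.center Q ≤ A := fun z hz => hcent z (fun a _ => (Subgroup.mem_center_iff.mp hz a))
  -- q⁻¹ * α q ∈ A for all q
  have hkey : ∀ q : Q, q⁻¹ * α q ∈ A := by
    intro q
    apply hcent
    intro a ha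
    have h1 : q * a * q⁻¹ * a⁻¹ ∈ A := by
      apply hZ
      rw [← hcomm]
      have : q * a * q⁻¹ * a⁻¹ = ⁅q, a⁆ := rfl
      rw [this]
      exact Subgroup.commutator_mem_commutator (Subgroup.mem_top q) (Subgroup.mem_top a)
    have h2 := hfix _ h1
    simp only [map_mul, map_inv, hfix a ha] at h2
    have h3 : α q * a * (α q)⁻¹ = q * a * q⁻¹ := by
      have := congrArg (· * a) h2
      simpa using this
    calc a * (q⁻¹ * α q) = q⁻¹ * (q * a * q⁻¹) * α q := by group
      _ = q⁻¹ * (α q * a * (α q)⁻¹) * α q := by rw [h3]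
      _ = q⁻¹ * α q * a := by group
  -- α^n q = q * (q⁻¹ * α q)^n
  have hpow : ∀ (n : ℕ) (q : Q), (α ^ n) q = q * (q⁻¹ * α q) ^ n := by
    intro n q
    induction n with
    | zero => simp
    | succ n ih =>
      rw [pow_succ', MulAut.mul_apply, ih, map_mul, map_pow, hfix _ (hkey q), pow_succ' _ n]
      simp only [mul_assoc, mul_inv_cancel_left]
  have hone : α ^ Nat.card Q = 1 := by
    ext q
    rw [hpow, pow_card_eq_one', mul_one]
    rfl
  obtain ⟨n, hn⟩ := IsPGroup.iff_card.mp hp
  have hdvd : orderOf α ∣ p ^ n := by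
    rw [← hn]
    exact orderOf_dvd_of_pow_eq_one hone
  obtain ⟨k, _, hk⟩ := (Nat.dvd_prime_pow (Fact.out : p.Prime)).mp hdvd
  exact ⟨k, hk⟩

end Cfsg.Agent.S3349
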