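import Cfsg.Statements.S3356
import Cfsg.Agent.Helper58.HalfTrans

set_option autoImplicit false
open Cfsg

namespace Cfsg.Agent.S3356

open Cfsg.Agent.Helper58

/-- Let G be a finite 3/2-transitive permutation group: G acts faithfully and transitively on a finite set, the point stabilizers are non-trivial, and for each point a all orbits of G_a on the remaining points have the same size. Suppose G has a regular normal subgroup N and G is not a Frobenius group (some two-point stabilizer is non-trivial). Then N is an elementary abelian p-group for some prime p, and every non-trivial normal subgroup of G contains N (so N is the unique minimal normal subgroup). -/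
theorem result {G Ω : Type*} [Group G] [Finite G]
    [MulAction G Ω] [FaithfulSMul G Ω] [Finite Ω] (htrans : MulAction.IsPretransitive G Ω)
    (hne : ∀ a : Ω, MulAction.stabilizer G a ≠ ⊥)
    (hhalf : ∀ a b c : Ω, b ≠ a → c ≠ a →
      Nat.card (MulAction.orbit (MulAction.stabilizer G a) b) = Nat.card (MulAction.orbit (MulAction.stabilizer G a) c))
    (N : Subgroup G) [hN : N.Normal] (hNt : MulAction.IsPretransitive N Ω) (hNr : ∀ a : Ω, MulAction.stabilizer N a = ⊥)
    (hnotF : ∃ a b : Ω, a ≠ b ∧ MulAction.stabilizer G a ⊓ MulAction.stabilizer G b ≠ ⊥) :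
    (∃ p : ℕ, p.Prime ∧ IsMulCommutative N ∧ ∀ x ∈ N, x ^ p = 1) ∧
    (∀ M : Subgroup G, M.Normal → M ≠ ⊥ → N ≤ M) := by
  classical
  obtain ⟨a, b, hab, hGab⟩ := hnotF
  set K : Subgroup G := MulAction.stabilizer G a with hKdef
  letI inst : MulDistribMulAction K N := conjMDMA K N
  have hsmul : ∀ (g : K) (n : N), ((g • n : N) : G) = (g : G) * n * (g : G)⁻¹ := fun g n => rfl
  -- regularity
  have hreg : ∀ n n' : N, (n : G) • a = (n' : G) • a → n = n' := by
    intro n n' h
    have hmem : n'⁻¹ * n ∈ MulAction.stabilizer N a := by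
      rw [MulAction.mem_stabilizer_iff]
      show ((n'⁻¹ * n : N) : G) • a = a
      rw [Subgroup.coe_mul, mul_smul, h, Subgroup.coe_inv, inv_smul_smul]
    rw [hNr a, Subgroup.mem_bot] at hmem
    exact (inv_mul_eq_one.mp hmem).symm
  have hsurj : ∀ c : Ω, ∃ n : N, (n : G) • a = c := by
    intro c
    obtain ⟨n, hn⟩ := MulAction.exists_smul_eq N a c
    exact ⟨n, hn⟩
  have hKa : ∀ g : K, (g : G) • a = a := fun g => g.2
  have hact : ∀ (g : K) (n : N), (g : G) • ((n : G) • a) = (((g • n : N) : N) : G) • a := by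
    intro g n
    rw [hsmul, mul_smul, mul_smul, inv_smul_eq_iff.mpr (hKa g).symm]
  have hstab : ∀ n : N, MulAction.stabilizer K n = MulAction.stabilizer K ((n : G) • a) := by
    intro n
    ext g
    rw [MulAction.mem_stabilizer_iff, MulAction.mem_stabilizer_iff]
    constructor
    · intro h
      show (g : G) • ((n : G) • a) = (n : G) • a
      rw [hact, h]
    · intro h
      have h' : (g : G) • ((n : G) • a) = (n : G) • a := h
      rw [hact] at h'
      exact hreg _ _ h'
  haveI hfaith : FaithfulSMul K N := by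
    refine ⟨fun {g g'} h => ?_⟩
    apply Subtype.ext
    apply eq_of_smul_eq_smul (α := Ω)
    intro c
    obtain ⟨n, rfl⟩ := hsurj c
    rw [hact, hact, h n]
  have hne_a : ∀ n : N, n ≠ 1 → (n : G) • a ≠ a := by
    intro n hn h
    apply hn
    apply hreg
    rw [h, Subgroup.coe_one, one_smul]
  have hk : ∀ x y : N, x ≠ 1 → y ≠ 1 →
      Nat.card (MulAction.orbit K x) = Nat.card (MulAction.orbit K y) := by
    intro x y hx hy
    have h1 := MulAction.index_stabilizer K x
    have h2 := MulAction.index_stabilizer K y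
    have h3 := MulAction.index_stabilizer K ((x : G) • a)
    have h4 := MulAction.index_stabilizer K ((y : G) • a)
    rw [Nat.card_coe_set_eq, Nat.card_coe_set_eq, ← h1, ← h2, hstab, hstab, h3, h4,
      ← Nat.card_coe_set_eq, ← Nat.card_coe_set_eq]
    exact hhalf a _ _ (hne_a x hx) (hne_a y hy)
  have hnF : ∃ x : N, x ≠ 1 ∧ MulAction.stabilizer K x ≠ ⊥ := by
    obtain ⟨n, hn⟩ := hsurj b
    refine ⟨n, ?_, ?_⟩
    · rintro rfl
      rw [Subgroup.coe_one, one_smul] at hn
      exact hab hn
    · rw [hstab, hn]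
      obtain ⟨g, hg, hg1⟩ := (Subgroup.ne_bot_iff_exists_ne_one).mp hGab |> fun ⟨g, h⟩ =>
        (⟨(g : G), g.2, fun h' => h (Subtype.ext h')⟩ :
          ∃ g : G, g ∈ MulAction.stabilizer G a ⊓ MulAction.stabilizer G b ∧ g ≠ 1)
      rw [Subgroup.mem_inf] at hg
      intro hbot
      have : (⟨g, hg.1⟩ : K) ∈ MulAction.stabilizer K b := by
        rw [MulAction.mem_stabilizer_iff]
        exact hg.2
      rw [hbot, Subgroup.mem_bot] at this
      exact hg1 (congrArg Subtype.val this)
  obtain ⟨hcomm, ⟨p, hp, hexp⟩, hirr⟩ := half_transitive_main (K := K) (N := N) hk hnF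
  refine ⟨⟨p, hp, ⟨⟨fun x y => hcomm x y⟩⟩, ?_⟩, ?_⟩
  · intro x hx
    have := hexp ⟨x, hx⟩
    exact congrArg Subtype.val this
  · intro M hMn hM1
    have hL : ∀ g : K, ∀ x ∈ M.subgroupOf N, g • x ∈ M.subgroupOf N := by
      intro g x hx
      rw [Subgroup.mem_subgroupOf] at hx ⊢
      rw [hsmul]
      exact hMn.conj_mem _ hx _
    rcases hirr (M.subgroupOf N) hL with h | h
    · exfalso
      rw [Subgroup.subgroupOf_eq_bot] at h
      obtain ⟨m, hm, hm1⟩ := (Subgroup.ne_bot_iff_exists_ne_one).mp hM1 |> fun ⟨g, h⟩ =>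
        (⟨(g : G), g.2, fun h' => h (Subtype.ext h')⟩ : ∃ g : G, g ∈ M ∧ g ≠ 1)
      -- m commutes with N
      have hcomN : ∀ n : N, m * (n : G) = (n : G) * m := by
        intro n
        have h1 : m * (n : G) * m⁻¹ * (n : G)⁻¹ ∈ M := by
          have : m * ((n : G) * m⁻¹ * (n : G)⁻¹) ∈ M :=
            M.mul_mem hm (hMn.conj_mem _ (M.inv_mem hm) _)
          have e : m * (n : G) * m⁻¹ * (n : G)⁻¹ = m * ((n : G) * m⁻¹ * (n : G)⁻¹) := by group
          rw [e]; exact this
        have h2 : m * (n : G) * m⁻¹ * (n : G)⁻¹ ∈ N :=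
          N.mul_mem (hN.conj_mem _ n.2 _) (N.inv_mem n.2)
        have h3 : m * (n : G) * m⁻¹ * (n : G)⁻¹ = 1 := by
          have := h.le_bot (show m * (n : G) * m⁻¹ * (n : G)⁻¹ ∈ M ⊓ N from ⟨h1, h2⟩)
          exact this
        have : m * (n : G) = (m * (n : G) * m⁻¹ * (n : G)⁻¹) * ((n : G) * m) := by group
        rw [this, h3, one_mul]
      obtain ⟨n₀, hn₀⟩ := hsurj (m • a)
      -- c = n₀⁻¹ m fixes everything
      have hc : (n₀ : G)⁻¹ * m = 1 := by
        apply eq_of_smul_eq_smul (α := Ω)
        intro c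
        obtain ⟨n, rfl⟩ := hsurj c
        rw [one_smul, ← mul_smul, mul_assoc, hcomN n, ← mul_assoc]
        have : (n₀ : G)⁻¹ * (n : G) = (n : G) * (n₀ : G)⁻¹ := by
          have := congrArg Subtype.val (hcomm n₀⁻¹ n)
          simpa using this
        rw [this, mul_assoc, mul_smul, mul_smul, ← hn₀, inv_smul_smul]
      have hmn : m = n₀ := by
        rw [inv_mul_eq_one] at hc; exact hc.symm
      have : m ∈ M ⊓ N := ⟨hm, by rw [hmn]; exact n₀.2⟩
      exact hm1 (h.le_bot this)
    · rw [Subgroup.subgroupOf_eq_top] at h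
      exact h

end Cfsg.Agent.S3356
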