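-- Statement S3358: structure of solvable Frobenius complements (Zassenhaus).
import Cfsg.Statements.S3358
import Cfsg.Agent.Helper71.FrobSolvStruct
import Cfsg.Agent.Helper71.ZPres
import Cfsg.Agent.Helper71.FrobSylow
import Cfsg.Agent.Helper71.FrobMeta

set_option autoImplicit false
open Cfsg

namespace Cfsg.Agent.S3358

open Cfsg.Agent.Helper71

/-- an element of `⟨w⟩` with `w ^ 2 = 1` is `1` or `w`. -/
theorem eq_one_or_eq_of_mem_zpowers_sq {S : Type*} [Group S] {w x : S} (hw : w ^ 2 = 1)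
    (hx : x ∈ Subgroup.zpowers w) : x = 1 ∨ x = w := by
  obtain ⟨k, rfl⟩ := Subgroup.mem_zpowers_iff.mp hx
  have hk : k = 2 * (k / 2) + k % 2 := (Int.mul_ediv_add_emod k 2).symm
  have h2 : w ^ (2 * (k / 2)) = 1 := by
    rw [zpow_mul, zpow_ofNat, hw, one_zpow]
  rcases Int.emod_two_eq_zero_or_one k with h | h
  · left
    rw [hk, h, add_zero, h2]
  · right
    rw [hk, h, zpow_add, h2, one_mul, zpow_one]

/-- in a Frobenius complement, every `2`-subgroup has at most one involution. -/
theorem frob_twoRankOne {L : Type*} [Group L] [Finite L] {H : Subgroup L}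
    (hF : Cfsg.IsFrobeniusComplement H) : TwoRankOne H := by
  have : Fact (Nat.Prime 2) := ⟨Nat.prime_two⟩
  intro S hS u hu v hv hu1 hv1 hu2 hv2
  obtain ⟨P, hSP⟩ := hS.exists_le_sylow
  have hnt : Nontrivial (P : Subgroup H) :=
    ⟨⟨⟨u, hSP hu⟩, 1, fun h => hu1 (congrArg Subtype.val h)⟩⟩
  obtain ⟨w, hw1, hw2, hw⟩ := frob_sylow_uniqueOrderP hF P hnt
  have key : ∀ x : H, ∀ hx : x ∈ (P : Subgroup H), x ≠ 1 → x ^ 2 = 1 → x = (w : H) := by
    intro x hx hx1 hx2
    have h1 : (⟨x, hx⟩ : (P : Subgroup H)) ^ 2 = 1 := Subtype.ext (by simpa using hx2)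
    rcases eq_one_or_eq_of_mem_zpowers_sq hw2 (hw _ h1) with h | h
    · exact absurd (congrArg Subtype.val h) hx1
    · exact congrArg Subtype.val h
  rw [key u (hSP hu) hu1 hu2, key v (hSP hv) hv1 hv2]

/-- in a Frobenius complement, subgroups of odd prime power order are cyclic. -/
theorem frob_odd_cyclic {L : Type*} [Group L] [Finite L] {H : Subgroup L}
    (hF : Cfsg.IsFrobeniusComplement H) (p : ℕ) (hp : p.Prime) (hp2 : p ≠ 2) (S : Subgroup H)
    (hS : IsPGroup p S) : IsCyclic S := by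
  have : Fact p.Prime := ⟨hp⟩
  obtain ⟨P, hSP⟩ := hS.exists_le_sylow
  rcases frob_sylow_cyclic_or_quat hF P with h | ⟨h, -⟩
  · have h1 : IsCyclic ↥(S.subgroupOf (P : Subgroup H)) := inferInstance
    exact isCyclic_of_surjective (Subgroup.subgroupOfEquivOfLe hSP).toMonoidHom
      (Subgroup.subgroupOfEquivOfLe hSP).surjective
  · exact absurd h hp2

/-- Structure of solvable Frobenius complements. Let G be a finite solvable group that occurs as a Frobenius complement. Then G has a normal subgroup G₀ such that G/G₀ is isomorphic to a subgroup of Sym(4) (G₀ is the kernel of a homomorphism to Sym(4)), all Sylow subgroups of G₀ are cyclic, and G₀ has a presentation ⟨x, y | x^n = 1, y^m = 1, x⁻¹ y x = y^r⟩ with n, m ≥ 1, gcd(r − 1, m) = gcd(n, m) = 1 and r^(n/n′) ≡ 1 (mod m), where n′ is the product of the distinct primes dividing n. -/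
theorem result {G : Type*} [Group G] [Finite G] (hsol : Group.IsSolvable G)
    (hFC : ∃ (L : Type) (_ : Group L) (_ : Finite L) (H : Subgroup L), Cfsg.IsFrobeniusComplement H ∧ Nonempty (G ≃* H)) :
    ∃ G₀ : Subgroup G, G₀.Normal ∧
      (∃ f : G →* Equiv.Perm (Fin 4), f.ker = G₀) ∧
      (∀ (p : ℕ) [Fact p.Prime] (P : Sylow p G₀), IsCyclic P) ∧
      ∃ n m r : ℕ, 0 < n ∧ 0 < m ∧ Nat.Coprime (r - 1) m ∧ Nat.Coprime n m ∧ 1 ≤ r ∧
        r ^ (n / ∏ p ∈ n.primeFactors, p) % m = 1 % m ∧
        Nonempty (G₀ ≃* PresentedGroup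
          ({FreeGroup.of (0 : Fin 2) ^ n, FreeGroup.of (1 : Fin 2) ^ m,
            (FreeGroup.of (0 : Fin 2))⁻¹ * FreeGroup.of 1 * FreeGroup.of 0 * (FreeGroup.of (1 : Fin 2) ^ r)⁻¹} :
            Set (FreeGroup (Fin 2)))) := by
  obtain ⟨L, instL, finL, H, hF, ⟨e⟩⟩ := hFC
  have hsolH : Group.IsSolvable H := Group.isSolvable_of_surjective (f := e.toMonoidHom) e.surjective
  -- transport the two properties from `H` to `G`
  have hR : TwoRankOne G := by
    intro S hS u hu v hv hu1 hv1 hu2 hv2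
    apply e.injective
    apply frob_twoRankOne hF (S.map e.toMonoidHom) (hS.map _) (e u)
      (Subgroup.mem_map_of_mem e.toMonoidHom hu) (e v) (Subgroup.mem_map_of_mem e.toMonoidHom hv)
    · intro h; exact hu1 (e.injective (h.trans (map_one e).symm))
    · intro h; exact hv1 (e.injective (h.trans (map_one e).symm))
    · rw [← map_pow, hu2, map_one]
    · rw [← map_pow, hv2, map_one]
  have hodd : ∀ p : ℕ, p.Prime → p ≠ 2 → ∀ P : Subgroup G, IsPGroup p P → IsCyclic P := by
    intro p hp hp2 P hP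
    have h1 := frob_odd_cyclic hF p hp hp2 (P.map e.toMonoidHom) (hP.map _)
    exact isCyclic_of_injective (P.equivMapOfInjective e.toMonoidHom e.injective).toMonoidHom
      (MulEquiv.injective _)
  obtain ⟨f, hf⟩ := exists_perm_hom_ker_sylow_cyclic hR hodd
  refine ⟨f.ker, MonoidHom.normal_ker f, ⟨f, rfl⟩, hf, ?_⟩
  have hZ : IsZGroup f.ker := ⟨fun p hp P => by
    have : Fact p.Prime := ⟨hp⟩
    exact hf p P⟩
  apply zgroup_presentation
  intro y s q hq hsq hnorm
  -- transport to `L`
  have hy : ((e (y : G) : H) : L) ∈ H := (e (y : G)).2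
  have hs : ((e (s : G) : H) : L) ∈ H := (e (s : G)).2
  have hsq' : ((e (s : G) : H) : L) ^ q = 1 := by
    have h1 : (s : G) ^ q = 1 := by
      have := congrArg Subtype.val hsq
      simpa using this
    have h2 : (e (s : G)) ^ q = 1 := by rw [← map_pow, h1, map_one]
    have := congrArg Subtype.val h2
    simpa using this
  have hnorm' : ((e (s : G) : H) : L) * ((e (y : G) : H) : L) * ((e (s : G) : H) : L)⁻¹ ∈
      Subgroup.zpowers ((e (y : G) : H) : L) := by
    obtain ⟨k, hk⟩ := Subgroup.mem_zpowers_iff.mp hnorm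
    rw [Subgroup.mem_zpowers_iff]
    refine ⟨k, ?_⟩
    have h1 : (y : G) ^ k = (s : G) * (y : G) * (s : G)⁻¹ := by
      have := congrArg Subtype.val hk
      simpa using this
    have h2 : (e (y : G)) ^ k = e (s : G) * e (y : G) * (e (s : G))⁻¹ := by
      rw [← map_zpow, h1, map_mul, map_mul, map_inv]
    have := congrArg Subtype.val h2
    simpa using this
  have hcomm := frob_commute_of_normalizes hF hsolH hy hs hq hsq' hnorm'
  -- back to `f.ker`
  apply Subtype.ext
  apply e.injective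
  apply Subtype.ext
  simpa using hcomm

end Cfsg.Agent.S3358
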