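import Cfsg.Statements.S3361
import Cfsg.Agent.Helper58.SLField
import Cfsg.Agent.Helper58.SLCore
import Cfsg.Agent.Helper58.SLGrp1
import Cfsg.Agent.Helper58.SLGrp5
import Cfsg.Agent.Helper58.SLNum
import Cfsg.Agent.Helper58.SLCase

set_option autoImplicit false
open Cfsg

namespace Cfsg.Agent.S3361

open Cfsg.Agent.Helper58.SL

theorem card_mult_zmod_five : Nat.card (Multiplicative (ZMod 5)) = 5 := by
  rw [Nat.card_congr (Multiplicative.toAdd (α := ZMod 5)), Nat.card_zmod]

/-- Let q be a prime and V a non-trivial finite vector space over the field with q elements, and let G be a finite solvable group acting faithfully and linearly on V and regularly on the non-zero vectors (transitively, with only the identity fixing a non-zero vector). Then either V can be identified with the additive group of a finite field F so that every element of G acts as x ↦ a·σ(x) (a ∈ F, σ a field automorphism), or V has 5^2, 7^2, 11^2 or 23^2 elements. Moreover, if q ≠ 2 then G has a normal subgroup of index 2, except that when V has 25 elements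 G may be isomorphic to SL(2,3) and when V has 121 elements G may be isomorphic to SL(2,3) × C₅. -/
theorem result
    (q : ℕ) [Fact q.Prime] {V : Type*} [AddCommGroup V] [Module (ZMod q) V] [Finite V] [Nontrivial V]
    {G : Type*} [Group G] [Finite G] (hsol : Group.IsSolvable G)
    (ρ : G →* (V ≃ₗ[ZMod q] V)) (hρ : Function.Injective ρ)
    (htrans : ∀ v w : V, v ≠ 0 → w ≠ 0 → ∃ g : G, ρ g v = w)
    (hreg : ∀ v : V, v ≠ 0 → ∀ g : G, ρ g v = v → g = 1) :
    ((∃ (F : Type) (_ : Field F) (_ : Fintype F) (e : V ≃+ F),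
        ∀ g : G, ∃ (a : F) (σ : F ≃+* F), ∀ v : V, e (ρ g v) = a * σ (e v)) ∨
      Nat.card V ∈ ({25, 49, 121, 529} : Set ℕ)) ∧
    (q ≠ 2 → (∃ N : Subgroup G, N.Normal ∧ N.index = 2) ∨
      (Nat.card V = 25 ∧ Nonempty (G ≃* Matrix.SpecialLinearGroup (Fin 2) (ZMod 3))) ∨
      (Nat.card V = 121 ∧ Nonempty (G ≃* Matrix.SpecialLinearGroup (Fin 2) (ZMod 3) × Multiplicative (ZMod 5)))) := by
  classical
  have hqp : q.Prime := Fact.out
  obtain ⟨A, hAn, hAc, hmax⟩ := exists_max_abelian_normal G
  haveI := hAn
  obtain ⟨K, fK, finK, modK, Φ, ι, d, hd, hK, hscal, hsl, hΦι, hker, hιmul, hι1, hιinj⟩ :=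
    exists_field ρ A hAc htrans
  have hcardG := card_of_regular ρ htrans hreg
  have hkerC := ker_eq_centralizer ρ A Φ hρ hker
  obtain ⟨hidx, hcyc⟩ := index_ker_dvd q d hK Φ
  obtain ⟨hAdvd, hAcyc⟩ := card_dvd_of_embedding ρ A ι d hK hρ hιmul hι1 hιinj
  have hU : ∀ (p : ℕ) [Fact p.Prime] (P : Subgroup G), IsPGroup p P →
      Cfsg.Agent.Helper73.UniqueOrderP p P :=
    fun p _ P hP => uniqueOrderP_of_regular ρ hreg p P hP
  have hVK : Nat.card V = Nat.card K ^ Module.finrank K V := Module.natCard_eq_pow_finrank
  obtain ⟨k, hk⟩ : ∃ k, k = Module.finrank K V := ⟨_, rfl⟩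
  rw [← hk, hK, ← pow_mul] at hVK
  have hV1 : 1 < Nat.card V := Finite.one_lt_card
  have hk0 : k ≠ 0 := by
    rintro rfl
    rw [mul_zero, pow_zero] at hVK; omega
  have hq2 : 2 ≤ q := hqp.two_le
  have hGC := Subgroup.card_mul_index Φ.ker
  have hAC : A ≤ Subgroup.centralizer (A : Set G) := by
    intro a ha; rw [Subgroup.mem_centralizer_iff]; intro b hb; exact hAc b hb a ha
  by_cases hCA : Subgroup.centralizer (A : Set G) = A
  · -- Case I: `A` is self-centralizing
    have hkerA : Φ.ker = A := by rw [hkerC, hCA]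
    have hk1 : k = 1 := by
      by_contra hk1
      have hk2 : 2 ≤ k := by omega
      apply num_case_one hd hq2 hk2
      rw [← hVK, ← hcardG, ← hGC, mul_comm]
      apply Nat.mul_dvd_mul hidx
      rw [hkerA]; exact hAdvd
    have hVcard : Nat.card V = Nat.card K := by rw [hVK, hk1, mul_one, hK]
    refine ⟨Or.inl (semilinear_of_card_eq ρ Φ d hK hsl hVcard), ?_⟩
    intro hq2'
    left
    have hGeven : 2 ∣ Nat.card G := by
      have hodd : Odd (q ^ (d * k)) := (hqp.odd_of_ne_two hq2').pow
      obtain ⟨m, hm⟩ := hodd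
      rw [hcardG, hVK, hm]
      exact ⟨m, by omega⟩
    by_cases h2 : 2 ∣ Nat.card Φ.range
    · exact exists_index_two_of_hom Φ hcyc h2
    · obtain ⟨P⟩ : Nonempty (Sylow 2 G) := inferInstance
      have hcycker : IsCyclic Φ.ker := by rw [hkerA]; exact hAcyc
      exact exists_index_two_of_cyclic_sylow P (sylow_two_cyclic_of_odd Φ h2 hcycker P) hGeven
  · -- Case II: the quaternion case
    obtain ⟨R, hRn, hRC, ⟨φ⟩, hinf, hCcard⟩ := case_two_structure hsol hU A hAc hmax hCA
    haveI := hRn
    have hR8 : Nat.card R = 8 := card_of_q8 φ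
    have h8G : 8 ∣ Nat.card G := by rw [← hR8]; exact Subgroup.card_subgroup_dvd_card R
    have hqodd : q % 2 = 1 := by
      rcases hqp.eq_two_or_odd with h | h
      · exfalso
        rw [hcardG, hVK, h] at h8G
        have hdk : d * k ≠ 0 := Nat.mul_ne_zero (by omega) hk0
        have h2 : 2 ∣ 2 ^ (d * k) := dvd_pow_self 2 hdk
        have h1 : 0 < 2 ^ (d * k) := by positivity
        omega
      · exact h
    have hq3 : 3 ≤ q := by omega
    have hk2 : 2 ≤ k := by
      by_contra hlt
      have hk1 : k = 1 := by omega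
      apply hCA
      have hcomm := ker_comm_of_finrank_one ρ Φ hreg hsl (by rw [← hk, hk1])
      rw [hkerC] at hcomm
      exact hmax _ inferInstance hcomm hAC
    have hdvd : (q ^ (d * k) - 1) ∣ 24 * d * (q ^ d - 1) := by
      rw [← hVK, ← hcardG, ← hGC]
      have h1 : Nat.card Φ.ker * Φ.ker.index ∣ (24 * Nat.card A) * d := by
        apply Nat.mul_dvd_mul _ hidx
        rw [hkerC]; exact hCcard
      have h2 : 24 * Nat.card A * d ∣ 24 * d * (q ^ d - 1) := by
        rw [mul_right_comm]
        exact Nat.mul_dvd_mul_left _ hAdvd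
      exact h1.trans h2
    obtain ⟨hd1, hk2', hqcases⟩ := num_main hd hq3 hk2 hqodd hdvd
    subst hd1
    subst hk2'
    have hCtop : Subgroup.centralizer (A : Set G) = ⊤ := by
      rw [← hkerC]; exact Subgroup.index_eq_one.1 (Nat.dvd_one.1 hidx)
    have hAZ : ∀ a ∈ A, ∀ g : G, a * g = g * a := by
      intro a ha g
      have : g ∈ Subgroup.centralizer (A : Set G) := by rw [hCtop]; trivial
      rw [Subgroup.mem_centralizer_iff] at this
      exact this a ha
    have hcent : Subgroup.centralizer (R : Set G) = A := by rw [← hinf, hCtop, top_inf_eq]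
    have hGA : Nat.card G ∣ 24 * Nat.card A := by
      rw [hCtop, Subgroup.card_top] at hCcard; exact hCcard
    have hVq : Nat.card V = q ^ 2 := by rw [hVK]
    have hA1 : Nat.card A ∣ q - 1 := by rw [pow_one] at hAdvd; exact hAdvd
    have hBdisj := index_two_or_twelve A hAZ R φ hcent hGA
    have hGAidx := Subgroup.card_mul_index A
    rw [hVq] at hcardG
    rcases hqcases with rfl | rfl | rfl | rfl | rfl
    · -- q = 3
      exfalso
      exact q3_impossible A hAZ hmax R φ (by rw [hcardG]; norm_num)
    · -- q = 5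
      have hV25 : Nat.card V = 25 := by rw [hVq]; norm_num
      refine ⟨Or.inr (by rw [hV25]; simp), ?_⟩
      intro _
      rcases hBdisj with h | h
      · exact Or.inl h
      · right; left
        refine ⟨hV25, ?_⟩
        have hG24 : Nat.card G = 24 := by rw [hcardG]; norm_num
        have hA2 : Nat.card A = 2 := by rw [h, hG24] at hGAidx; omega
        obtain ⟨S, ⟨e⟩⟩ := exists_sl23 A R φ hcent (by rw [hG24]; norm_num)
          (by rw [hA2]; norm_num)
        have hS24 : Nat.card S = 24 := by rw [Nat.card_congr e.toEquiv, card_sl23]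
        have hStop : S = ⊤ := Subgroup.eq_top_of_card_eq S (by rw [hS24, hG24])
        subst hStop
        exact ⟨Subgroup.topEquiv.symm.trans e⟩
    · -- q = 7
      have hV49 : Nat.card V = 49 := by rw [hVq]; norm_num
      refine ⟨Or.inr (by rw [hV49]; simp), ?_⟩
      intro _
      rcases hBdisj with h | h
      · exact Or.inl h
      · exfalso
        have hG48 : Nat.card G = 48 := by rw [hcardG]; norm_num
        have hA4 : Nat.card A = 4 := by rw [h, hG48] at hGAidx; omega
        rw [hA4] at hA1
        omega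
    · -- q = 11
      have hV121 : Nat.card V = 121 := by rw [hVq]; norm_num
      refine ⟨Or.inr (by rw [hV121]; simp), ?_⟩
      intro _
      rcases hBdisj with h | h
      · exact Or.inl h
      · right; right
        refine ⟨hV121, ?_⟩
        have hG120 : Nat.card G = 120 := by rw [hcardG]; norm_num
        have hA10 : Nat.card A = 10 := by rw [h, hG120] at hGAidx; omega
        obtain ⟨S, ⟨e⟩⟩ := exists_sl23 A R φ hcent (by rw [hG120]; norm_num)
          (by rw [hA10]; norm_num)
        have hS24 : Nat.card S = 24 := by rw [Nat.card_congr e.toEquiv, card_sl23]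
        haveI : Fact (Nat.Prime 5) := ⟨by norm_num⟩
        obtain ⟨z, hz⟩ := exists_prime_orderOf_dvd_card' (G := A) 5 (by rw [hA10]; norm_num)
        have hz5 : orderOf (z : G) = 5 := by rw [Subgroup.orderOf_coe]; exact hz
        obtain ⟨e2⟩ := nonempty_mulEquiv_prod_of_central S (z : G) (hAZ z z.2)
          (by rw [hG120, hS24, hz5]) (by rw [hS24, hz5]; norm_num)
        have e5 : Subgroup.zpowers (z : G) ≃* Multiplicative (ZMod 5) :=
          mulEquivOfPrimeCardEq (p := 5) (by rw [Nat.card_zpowers, hz5]) card_mult_zmod_five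
        exact ⟨e2.trans (MulEquiv.prodCongr e e5)⟩
    · -- q = 23
      have hV529 : Nat.card V = 529 := by rw [hVq]; norm_num
      refine ⟨Or.inr (by rw [hV529]; simp), ?_⟩
      intro _
      rcases hBdisj with h | h
      · exact Or.inl h
      · exfalso
        have hG528 : Nat.card G = 528 := by rw [hcardG]; norm_num
        have hA44 : Nat.card A = 44 := by rw [h, hG528] at hGAidx; omega
        rw [hA44] at hA1
        omega

end Cfsg.Agent.S3361
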