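import Cfsg.Statements.S3362
import Cfsg.Agent.Helper56.M12Chain

set_option autoImplicit false
open Cfsg
open Cfsg.Agent.Helper56
open Cfsg.Agent.Helper56.M12

namespace Cfsg.Agent.S3362

theorem image8 : gen '' Set.Iio 8 = {gs, gt, gu, gv, gw, gx1, gx2, gx3} := by
  ext x
  simp only [Set.mem_image, Set.mem_Iio, Set.mem_insert_iff, Set.mem_singleton_iff]
  constructor
  · rintro ⟨j, hj, rfl⟩
    interval_cases j <;> simp [gen]
  · rintro (rfl | rfl | rfl | rfl | rfl | rfl | rfl | rfl)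
    exacts [⟨3, by norm_num, rfl⟩, ⟨4, by norm_num, rfl⟩, ⟨0, by norm_num, rfl⟩,
      ⟨1, by norm_num, rfl⟩, ⟨2, by norm_num, rfl⟩, ⟨5, by norm_num, rfl⟩,
      ⟨6, by norm_num, rfl⟩, ⟨7, by norm_num, rfl⟩]

theorem image7 : gen '' Set.Iio 7 = {gs, gt, gu, gv, gw, gx1, gx2} := by
  ext x
  simp only [Set.mem_image, Set.mem_Iio, Set.mem_insert_iff, Set.mem_singleton_iff]
  constructor
  · rintro ⟨j, hj, rfl⟩
    interval_cases j <;> simp [gen]
  · rintro (rfl | rfl | rfl | rfl | rfl | rfl | rfl)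
    exacts [⟨3, by norm_num, rfl⟩, ⟨4, by norm_num, rfl⟩, ⟨0, by norm_num, rfl⟩,
      ⟨1, by norm_num, rfl⟩, ⟨2, by norm_num, rfl⟩, ⟨5, by norm_num, rfl⟩,
      ⟨6, by norm_num, rfl⟩]

theorem card_sub (pre : List (Fin 12)) (m : ℕ)
    (h : (Finset.univ.filter (fun δ : Fin 12 => δ ∉ pre)).card = m) :
    Nat.card {δ : Fin 12 // δ ∉ pre} = m := by
  rw [Nat.card_eq_fintype_card, Fintype.card_subtype, h]

theorem card0 : Nat.card (genGroup gen 0) = 1 := by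
  rw [genGroup_zero]; exact Subgroup.card_bot

theorem card3 : Nat.card (genGroup gen 3) = 8 := by
  rw [level_sound_card gen 3 0 4 pre5 uw5 cert5 check5 (by norm_num), card0,
    card_sub pre5 8 (by decide)]

theorem card5 : Nat.card (genGroup gen 5) = 72 := by
  rw [level_sound_card gen 5 3 3 pre4 uw4 cert4 check4 (by norm_num), card3,
    card_sub pre4 9 (by decide)]

theorem card6 : Nat.card (genGroup gen 6) = 720 := by
  rw [level_sound_card gen 6 5 0 pre3 uw3 cert3 check3 (by norm_num), card5,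
    card_sub pre3 10 (by decide)]

theorem card7 : Nat.card (genGroup gen 7) = 7920 := by
  rw [level_sound_card gen 7 6 1 pre2 uw2 cert2 check2 (by norm_num), card6,
    card_sub pre2 11 (by decide)]

theorem card8 : Nat.card (genGroup gen 8) = 95040 := by
  rw [level_sound_card gen 8 7 2 pre1 uw1 cert1 check1 (by norm_num), card7,
    card_sub pre1 12 (by decide)]

/-- the base tuple `(2,1,0,3,4)` -/
def x0 : Fin 5 ↪ Fin 12 :=
  ⟨fun i => match i with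
    | 0 => 2 | 1 => 1 | 2 => 0 | 3 => 3 | 4 => 4, by decide⟩

theorem fix_base_trivial (g : Equiv.Perm (Fin 12)) (hg : g ∈ genGroup gen 8)
    (h2 : g 2 = 2) (h1 : g 1 = 1) (h0 : g 0 = 0) (h3 : g 3 = 3) (h4 : g 4 = 4) : g = 1 := by
  have a7 : g ∈ genGroup gen 7 := by
    rw [← level_sound_stabilizer gen 8 7 2 pre1 uw1 cert1 check1 (by norm_num)]
    exact ⟨hg, h2⟩
  have a6 : g ∈ genGroup gen 6 := by
    rw [← level_sound_stabilizer gen 7 6 1 pre2 uw2 cert2 check2 (by norm_num)]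
    exact ⟨a7, h1⟩
  have a5 : g ∈ genGroup gen 5 := by
    rw [← level_sound_stabilizer gen 6 5 0 pre3 uw3 cert3 check3 (by norm_num)]
    exact ⟨a6, h0⟩
  have a3 : g ∈ genGroup gen 3 := by
    rw [← level_sound_stabilizer gen 5 3 3 pre4 uw4 cert4 check4 (by norm_num)]
    exact ⟨a5, h3⟩
  have a0 : g ∈ genGroup gen 0 := by
    rw [← level_sound_stabilizer gen 3 0 4 pre5 uw5 cert5 check5 (by norm_num)]
    exact ⟨a3, h4⟩
  rw [genGroup_zero] at a0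
  exact Subgroup.mem_bot.mp a0

theorem card_emb : Nat.card (Fin 5 ↪ Fin 12) = 95040 := by
  rw [Nat.card_eq_fintype_card, Fintype.card_embedding_eq]
  simp [Nat.descFactorial]

theorem pinv_apply_self (g : Equiv.Perm (Fin 12)) (a : Fin 12) : g⁻¹ (g a) = a := by
  rw [Equiv.Perm.inv_def, Equiv.symm_apply_apply]

/-- sharp 5-transitivity of `genGroup gen 8`, stated pointwise -/
theorem sharp :
    (∀ y : Fin 5 ↪ Fin 12, ∃ g ∈ genGroup gen 8, ∀ i, g (x0 i) = y i) ∧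
    (∀ g ∈ genGroup gen 8, (∀ i, g (x0 i) = x0 i) → g = 1) := by
  have hstab : ∀ g ∈ genGroup gen 8, (∀ i, g (x0 i) = x0 i) → g = 1 := by
    intro g hg hh
    exact fix_base_trivial g hg (hh 0) (hh 1) (hh 2) (hh 3) (hh 4)
  refine ⟨?_, hstab⟩
  let f : genGroup gen 8 → (Fin 5 ↪ Fin 12) := fun g => x0.trans (g : Equiv.Perm (Fin 12)).toEmbedding
  have hinj : Function.Injective f := by
    intro g h hgh
    have h1 : ∀ i, (g : Equiv.Perm (Fin 12)) (x0 i) = (h : Equiv.Perm (Fin 12)) (x0 i) := fun i =>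
      DFunLike.congr_fun hgh i
    have h2 : ((h : Equiv.Perm (Fin 12))⁻¹ * g) = 1 := by
      apply hstab _ ((genGroup gen 8).mul_mem ((genGroup gen 8).inv_mem h.2) g.2)
      intro i
      rw [Equiv.Perm.mul_apply, h1 i, pinv_apply_self]
    apply Subtype.ext
    rw [inv_mul_eq_one] at h2
    exact h2.symm
  have hbij := (Nat.bijective_iff_injective_and_card f).mpr ⟨hinj, by rw [card8, card_emb]⟩
  intro y
  obtain ⟨g, hg⟩ := hbij.2 y
  exact ⟨g, g.2, fun i => DFunLike.congr_fun hg i⟩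

theorem result
    (s t u v w x₁ x₂ x₃ : Equiv.Perm (Fin 12))
    (hs : s = Equiv.swap (3 : Fin 12) 5 * Equiv.swap (3 : Fin 12) 4 * Equiv.swap (6 : Fin 12) 8 * Equiv.swap (6 : Fin 12) 7 * Equiv.swap (9 : Fin 12) 11 * Equiv.swap (9 : Fin 12) 10) (ht : t = Equiv.swap (3 : Fin 12) 9 * Equiv.swap (3 : Fin 12) 6 * Equiv.swap (4 : Fin 12) 10 * Equiv.swap (4 : Fin 12) 7 * Equiv.swap (5 : Fin 12) 11 * Equiv.swap (5 : Fin 12) 8)
    (hu : u = Equiv.swap (4 : Fin 12) 9 * Equiv.swap (4 : Fin 12) 5 * Equiv.swap (4 : Fin 12) 6 * Equiv.swap (7 : Fin 12) 10 * Equiv.swap (7 : Fin 12) 11 * Equiv.swap (7 : Fin 12) 8) (hv : v = Equiv.swap (4 : Fin 12) 11 * Equiv.swap (4 : Fin 12) 5 * Equiv.swap (4 : Fin 12) 7 * Equiv.swap (6 : Fin 12) 8 * Equiv.swap (6 : Fin 12) 9 * Equiv.swap (6 : Fin 12) 10) (hw : w = Equiv.swap (4 : Fin 12) 8 * Equiv.swap (4 : Fin 12) 5 * Equiv.swap (4 : Fin 12) 10 * Equiv.swap (6 : Fin 12) 7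 * Equiv.swap (6 : Fin 12) 9 * Equiv.swap (6 : Fin 12) 11)
    (hx₁ : x₁ = Equiv.swap (0 : Fin 12) 3 * Equiv.swap (6 : Fin 12) 7 * Equiv.swap (8 : Fin 12) 10 * Equiv.swap (9 : Fin 12) 11) (hx₂ : x₂ = Equiv.swap (0 : Fin 12) 1 * Equiv.swap (6 : Fin 12) 9 * Equiv.swap (7 : Fin 12) 10 * Equiv.swap (8 : Fin 12) 11)
    (hx₃ : x₃ = Equiv.swap (1 : Fin 12) 2 * Equiv.swap (6 : Fin 12) 11 * Equiv.swap (7 : Fin 12) 9 * Equiv.swap (8 : Fin 12) 10)
    (M₁₂ M₁₁ : Subgroup (Equiv.Perm (Fin 12))) (hM₁₂ : M₁₂ = Subgroup.closure {s, t, u, v, w, x₁, x₂, x₃})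
    (hM₁₁ : M₁₁ = Subgroup.closure {s, t, u, v, w, x₁, x₂}) :
    MulAction.IsMultiplyPretransitive M₁₂ (Fin 12) 5 ∧ (∀ y : Fin 5 ↪ Fin 12, MulAction.stabilizer M₁₂ y = ⊥) ∧
    Nat.card M₁₂ = 95040 ∧ Nat.card M₁₁ = 7920 ∧
    M₁₁ = M₁₂ ⊓ MulAction.stabilizer (Equiv.Perm (Fin 12)) (2 : Fin 12) := by
  have e12 : M₁₂ = genGroup gen 8 := by
    rw [hM₁₂, hs, ht, hu, hv, hw, hx₁, hx₂, hx₃]
    show _ = Subgroup.closure (gen '' Set.Iio 8)
    rw [image8]; rfl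
  have e11 : M₁₁ = genGroup gen 7 := by
    rw [hM₁₁, hs, ht, hu, hv, hw, hx₁, hx₂]
    show _ = Subgroup.closure (gen '' Set.Iio 7)
    rw [image7]; rfl
  obtain ⟨htr, hst⟩ := sharp
  rw [← e12] at htr hst
  refine ⟨?_, ?_, ?_, ?_, ?_⟩
  · rw [MulAction.isMultiplyPretransitive_iff]
    intro x y
    obtain ⟨g, hg, hgx⟩ := htr x
    obtain ⟨h, hh, hhy⟩ := htr y
    refine ⟨⟨h * g⁻¹, M₁₂.mul_mem hh (M₁₂.inv_mem hg)⟩, ?_⟩
    apply Function.Embedding.ext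
    intro i
    show ((h * g⁻¹) (x i) : Fin 12) = y i
    rw [← hgx i, ← hhy i, Equiv.Perm.mul_apply, pinv_apply_self]
  · intro y
    obtain ⟨g, hg, hgy⟩ := htr y
    rw [eq_bot_iff]
    rintro ⟨h, hh⟩ hhs
    rw [MulAction.mem_stabilizer_iff] at hhs
    have h1 : ∀ i, h (y i) = y i := fun i => DFunLike.congr_fun hhs i
    have h2 : g⁻¹ * h * g = 1 := by
      apply hst _ (M₁₂.mul_mem (M₁₂.mul_mem (M₁₂.inv_mem hg) hh) hg)
      intro i
      rw [Equiv.Perm.mul_apply, Equiv.Perm.mul_apply, hgy i, h1 i, ← hgy i,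
        pinv_apply_self]
    rw [Subgroup.mem_bot]
    apply Subtype.ext
    show h = 1
    calc h = g * (g⁻¹ * h * g) * g⁻¹ := by group
      _ = 1 := by rw [h2]; group
  · rw [e12, card8]
  · rw [e11, card7]
  · rw [e12, e11]
    exact (level_sound_stabilizer gen 8 7 2 pre1 uw1 cert1 check1 (by norm_num)).symm

end Cfsg.Agent.S3362
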