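import Cfsg.Statements.S3370
import Cfsg.Agent.Helper56.PrimePowers
import Cfsg.Agent.Helper73.PGroupCyclic
import Cfsg.Agent.Helper56.GL23

set_option autoImplicit false
open Cfsg
open Cfsg.Agent.Helper56

namespace Cfsg.Agent.S3370

section setup

variable {q : ℕ} [Fact q.Prime] {V : Type*} [AddCommGroup V] [Module (ZMod q) V] [Finite V]
  {G : Type*} [Group G] [Finite G] (ρ : G →* (V ≃ₗ[ZMod q] V))

/-- the stabilizer of a vector -/
def stab (v : V) : Subgroup G where
  carrier := {g | ρ g v = v}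
  one_mem' := by simp
  mul_mem' := by
    intro a b ha hb
    simp only [Set.mem_setOf_eq] at ha hb ⊢
    rw [map_mul, LinearEquiv.mul_apply, hb, ha]
  inv_mem' := by
    intro a ha
    simp only [Set.mem_setOf_eq] at ha ⊢
    rw [map_inv]
    nth_rewrite 1 [← ha]
    exact (ρ a).symm_apply_apply v

theorem mem_stab {v : V} {g : G} : g ∈ stab ρ v ↔ ρ g v = v := Iff.rfl

theorem card_nonzero : Nat.card {w : V // w ≠ 0} = Nat.card V - 1 := by
  classical
  have := Fintype.ofFinite V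
  rw [Nat.card_eq_fintype_card, Nat.card_eq_fintype_card, Fintype.card_subtype_compl, Fintype.card_subtype_eq]

/-- orbit-stabilizer, by hand -/
theorem card_eq (v₀ : V) (hv₀ : v₀ ≠ 0)
    (htrans : ∀ v w : V, v ≠ 0 → w ≠ 0 → ∃ g : G, ρ g v = w) :
    Nat.card G = (Nat.card V - 1) * Nat.card (stab ρ v₀) := by
  letI : MulAction G V := MulAction.compHom V ρ
  have hsm : ∀ (g : G) (v : V), g • v = ρ g v := fun g v => rfl
  have hst : MulAction.stabilizer G v₀ = stab ρ v₀ := by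
    ext g; rfl
  have horb : MulAction.orbit G v₀ = {w : V | w ≠ 0} := by
    ext w
    constructor
    · rintro ⟨g, rfl⟩
      show ρ g v₀ ≠ 0
      intro h
      exact hv₀ ((ρ g).map_eq_zero_iff.1 h)
    · intro hw
      obtain ⟨g, hg⟩ := htrans v₀ w hv₀ hw
      exact ⟨g, hg⟩
  rw [Subgroup.card_eq_card_quotient_mul_card_subgroup (MulAction.stabilizer G v₀),
    ← Nat.card_congr (MulAction.orbitEquivQuotientStabilizer G v₀), hst, horb]
  congr 1
  exact card_nonzero

/-- the number of nonzero vectors is a power of `p` -/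
theorem card_pow {p : ℕ} [Fact p.Prime] (hG : IsPGroup p G) (v₀ : V) (hv₀ : v₀ ≠ 0)
    (htrans : ∀ v w : V, v ≠ 0 → w ≠ 0 → ∃ g : G, ρ g v = w) :
    ∃ b : ℕ, Nat.card V - 1 = p ^ b := by
  letI : MulAction G V := MulAction.compHom V ρ
  have horb : MulAction.orbit G v₀ = {w : V | w ≠ 0} := by
    ext w
    constructor
    · rintro ⟨g, rfl⟩
      show ρ g v₀ ≠ 0
      intro h
      exact hv₀ ((ρ g).map_eq_zero_iff.1 h)
    · intro hw
      obtain ⟨g, hg⟩ := htrans v₀ w hv₀ hw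
      exact ⟨g, hg⟩
  obtain ⟨b, hb⟩ := hG.card_orbit v₀
  refine ⟨b, ?_⟩
  rw [← hb, horb]
  exact card_nonzero.symm

/-- if there are at most `p` nonzero vectors, a vector stabilizer is trivial -/
theorem stab_trivial_of_small {p : ℕ} [Fact p.Prime] (hG : IsPGroup p G)
    (hρ : Function.Injective ρ) (v₀ : V) (hv₀ : v₀ ≠ 0) (hsmall : Nat.card V - 1 ≤ p) :
    stab ρ v₀ = ⊥ := by
  classical
  let _ : MulAction G V := MulAction.compHom V ρ
  rw [eq_bot_iff]
  intro s hs
  rw [Subgroup.mem_bot]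
  apply hρ
  rw [map_one]
  ext w
  show ρ s w = w
  by_cases hw0 : w = 0
  · rw [hw0, map_zero]
  by_cases hwv : w = v₀
  · rw [hwv]; exact hs
  -- the orbit of `w` under the stabilizer
  obtain ⟨k, hk⟩ := (hG.to_subgroup (stab ρ v₀)).card_orbit w
  have hsub : MulAction.orbit (stab ρ v₀) w ⊂ {x : V | x ≠ 0} := by
    constructor
    · rintro _ ⟨t, rfl⟩
      show ρ (t : G) w ≠ 0
      intro h
      exact hw0 ((ρ (t : G)).map_eq_zero_iff.1 h)
    · intro hcon
      obtain ⟨t, ht⟩ := hcon (show v₀ ∈ {x : V | x ≠ 0} from hv₀)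
      have ht' : ρ (t : G) w = v₀ := ht
      have h2 : ρ (t : G) v₀ = v₀ := t.2
      have : ρ (t : G) w = ρ (t : G) v₀ := by rw [ht', h2]
      exact hwv ((ρ (t : G)).injective this)
  have hlt : (MulAction.orbit (stab ρ v₀) w).ncard < ({x : V | x ≠ 0} : Set V).ncard :=
    Set.ncard_lt_ncard hsub (Set.toFinite _)
  rw [← Nat.card_coe_set_eq, ← Nat.card_coe_set_eq, hk] at hlt
  have hnz : Nat.card ({x : V | x ≠ 0} : Set V) = Nat.card V - 1 := card_nonzero
  rw [hnz] at hlt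
  have hk0 : k = 0 := by
    by_contra hne
    have : p ^ 1 ≤ p ^ k := Nat.pow_le_pow_right (Fact.out : p.Prime).pos (by omega)
    rw [pow_one] at this
    omega
  rw [hk0, pow_zero, Nat.card_coe_set_eq, Set.ncard_eq_one] at hk
  obtain ⟨a, ha⟩ := hk
  have h1 : w ∈ MulAction.orbit (stab ρ v₀) w := MulAction.mem_orbit_self w
  have h2 : ρ s w ∈ MulAction.orbit (stab ρ v₀) w := ⟨⟨s, hs⟩, rfl⟩
  rw [ha] at h1 h2
  rw [Set.mem_singleton_iff] at h1 h2
  exact h2.trans h1.symm

/-- an involution acting freely on nonzero vectors acts as `-1` -/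
theorem involution_neg (hstab : ∀ v : V, v ≠ 0 → stab ρ v = ⊥) (t : G) (ht : orderOf t = 2) (v : V) :
    ρ t v = -v := by
  have htt : t * t = 1 := by rw [← pow_two, ← ht, pow_orderOf_eq_one]
  have h1 : ρ t (ρ t v) = v := by
    rw [← LinearEquiv.mul_apply, ← map_mul, htt, map_one]; rfl
  by_contra hne
  have hw : ρ t v + v ≠ 0 := fun h => hne (eq_neg_of_add_eq_zero_left h)
  have hfix : ρ t (ρ t v + v) = ρ t v + v := by rw [map_add, h1, add_comm]
  have hmem : t ∈ stab ρ (ρ t v + v) := hfix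
  rw [hstab _ hw, Subgroup.mem_bot] at hmem
  rw [hmem, orderOf_one] at ht
  omega

theorem uniqueOrderP_of_free (hρ : Function.Injective ρ) (hstab : ∀ v : V, v ≠ 0 → stab ρ v = ⊥) :
    Cfsg.Agent.Helper73.UniqueOrderP 2 G := by
  intro x y hx hy
  have : x = y := by
    apply hρ
    ext v
    rw [involution_neg ρ hstab x hx, involution_neg ρ hstab y hy]
  rw [← this]
  exact Subgroup.mem_zpowers x

theorem cyclic_or_q8_of_card8 (hG : IsPGroup 2 G) (hρ : Function.Injective ρ)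
    (hcard : Nat.card G = 8) (hstab : ∀ v : V, v ≠ 0 → stab ρ v = ⊥) :
    (IsCyclic G ∧ Nat.card G = 8) ∨ Nonempty (G ≃* QuaternionGroup 2) := by
  rcases Cfsg.Agent.Helper73.cyclic_or_quaternion hG (uniqueOrderP_of_free ρ hρ hstab) with h | ⟨_, n, hn, ⟨e⟩⟩
  · exact Or.inl ⟨h, hcard⟩
  · right
    have h1 : Nat.card G = 4 * 2 ^ n := by
      rw [Nat.card_congr e.toEquiv, Nat.card_eq_fintype_card, QuaternionGroup.card]
    rw [hcard] at h1
    have h2 : 2 ^ n = 2 ^ 1 := by omega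
    have h3 : n = 1 := Nat.pow_right_injective (le_refl 2) h2
    subst h3
    exact ⟨e⟩

end setup

section rankone

variable {q : ℕ} [Fact q.Prime] {V : Type*} [AddCommGroup V] [Module (ZMod q) V]
  {G : Type*} [Group G] (ρ : G →* (V ≃ₗ[ZMod q] V)) (e : ZMod q ≃ₗ[ZMod q] V)

theorem chi_aux (g : G) (x : ZMod q) : ρ g (e x) = e (x * e.symm (ρ g (e 1))) := by
  have h1 : e x = x • e 1 := by rw [← map_smul, smul_eq_mul, mul_one]
  rw [h1, map_smul, ← smul_eq_mul, map_smul, LinearEquiv.apply_symm_apply]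

/-- the character of a one-dimensional representation -/
noncomputable def chi : G →* ZMod q where
  toFun g := e.symm (ρ g (e 1))
  map_one' := by simp
  map_mul' g h := by
    show e.symm (ρ (g * h) (e 1)) = e.symm (ρ g (e 1)) * e.symm (ρ h (e 1))
    have h1 : ρ (g * h) (e 1) = ρ g (e (1 * e.symm (ρ h (e 1)))) := by
      rw [map_mul, LinearEquiv.mul_apply, ← chi_aux ρ e h 1]
    rw [h1, chi_aux ρ e g, LinearEquiv.symm_apply_apply, one_mul, mul_comm]

theorem chi_spec (g : G) (x : ZMod q) : ρ g (e x) = e (x * chi ρ e g) := chi_aux ρ e g x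

theorem chi_injective (hρ : Function.Injective ρ) : Function.Injective (chi ρ e) := by
  intro g h hgh
  apply hρ
  ext v
  obtain ⟨x, rfl⟩ := e.surjective v
  rw [chi_spec, chi_spec, hgh]

include e in
theorem stab_trivial_rankone (hρ : Function.Injective ρ) (v₀ : V) (hv₀ : v₀ ≠ 0) :
    stab ρ v₀ = ⊥ := by
  rw [eq_bot_iff]
  intro g hg
  rw [Subgroup.mem_bot]
  apply chi_injective ρ e hρ
  rw [map_one]
  obtain ⟨x, rfl⟩ := e.surjective v₀
  have hx : x ≠ 0 := by
    rintro rfl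
    exact hv₀ (map_zero e)
  have h1 : ρ g (e x) = e x := hg
  rw [chi_spec] at h1
  have h2 := e.injective h1
  have h3 : x * chi ρ e g = x * 1 := by rw [h2, mul_one]
  exact mul_left_cancel₀ hx h3

include e in
theorem cyclic_rankone [Finite G] (hρ : Function.Injective ρ) : IsCyclic G :=
  isCyclic_of_injective_ringHom (chi ρ e) (chi_injective ρ e hρ)

end rankone

section dim2

open Cfsg.Agent.Helper56.GL23

/-- an element of order 8 -/
def X₀ : GL (Fin 2) (ZMod 3) := ⟨!![0, 1; 1, 1], !![2, 1; 1, 0], by decide, by decide⟩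

theorem X₀_pow8 : X₀ ^ 8 = 1 := by
  apply Units.ext
  apply ofMat_injective
  rw [Units.val_pow_eq_pow_val, ofMat_pow, Units.val_one, ofMat_one]
  decide

theorem X₀_pow4 : X₀ ^ 4 ≠ 1 := by
  intro h
  have := congrArg (fun u : GL (Fin 2) (ZMod 3) => ofMat u.val) h
  simp only [Units.val_pow_eq_pow_val, ofMat_pow, Units.val_one, ofMat_one] at this
  revert this
  decide

theorem orderOf_X₀ : orderOf X₀ = 8 :=
  orderOf_eq_prime_pow (p := 2) (n := 2) X₀_pow4 X₀_pow8

variable [Fact (Nat.Prime 3)] {V : Type*} [AddCommGroup V] [Module (ZMod 3) V] [Finite V]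
  {G : Type*} [Group G] [Finite G] (ρ : G →* (V ≃ₗ[ZMod 3] V))

/-- matrix embedding -/
theorem exists_matrix_hom (hfin : Module.finrank (ZMod 3) V = 2) (hρ : Function.Injective ρ) :
    ∃ φ : G →* GL (Fin 2) (ZMod 3), Function.Injective φ := by
  let b := Module.finBasisOfFinrankEq (ZMod 3) V hfin
  let e1 : (V ≃ₗ[ZMod 3] V) ≃* (V →ₗ[ZMod 3] V)ˣ :=
    (LinearMap.GeneralLinearGroup.generalLinearEquiv (ZMod 3) V).symm
  let e2 : (V →ₗ[ZMod 3] V)ˣ ≃* (Matrix (Fin 2) (Fin 2) (ZMod 3))ˣ :=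
    Units.mapEquiv (LinearMap.toMatrixAlgEquiv b).toMulEquiv
  exact ⟨e2.toMonoidHom.comp (e1.toMonoidHom.comp ρ), e2.injective.comp (e1.injective.comp hρ)⟩

theorem card_GL23 : Nat.card (GL (Fin 2) (ZMod 3)) = 48 := by
  rw [Matrix.card_GL_field, ZMod.card, Fin.prod_univ_two]
  norm_num

variable (φ : G →* GL (Fin 2) (ZMod 3))

/-- quadruple of a group element -/
def psi (g : G) : Q3 := ofMat (φ g).val

theorem psi_mul (g h : G) : psi φ (g * h) = qmul (psi φ g) (psi φ h) := by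
  unfold psi
  rw [map_mul, Units.val_mul, ofMat_mul]

theorem psi_one : psi φ 1 = qone := by
  unfold psi
  rw [map_one, Units.val_one, ofMat_one]

theorem psi_pow (g : G) (k : ℕ) : psi φ (g ^ k) = qpow (psi φ g) k := by
  unfold psi
  rw [map_pow, Units.val_pow_eq_pow_val, ofMat_pow]

theorem psi_injective (hφ : Function.Injective φ) : Function.Injective (psi φ) := by
  intro g h hgh
  apply hφ
  apply Units.ext
  exact ofMat_injective hgh

theorem exists_order8 (hφ : Function.Injective φ) (hcard : Nat.card G = 16) :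
    ∃ x : G, orderOf x = 8 := by
  have hH : Nat.card φ.range = 16 := by
    rw [← hcard]; exact (Nat.card_congr (MonoidHom.ofInjective hφ).toEquiv).symm
  have hidx : φ.range.index = 3 := by
    have := φ.range.card_mul_index
    rw [hH, card_GL23] at this
    omega
  have hP : IsPGroup 2 φ.range := IsPGroup.of_card (n := 4) (by rw [hH]; norm_num)
  let P : Sylow 2 (GL (Fin 2) (ZMod 3)) := hP.toSylow (by rw [hidx]; norm_num)
  have hX : IsPGroup 2 (Subgroup.zpowers X₀) :=
    IsPGroup.of_card (n := 3) (by rw [Nat.card_zpowers, orderOf_X₀]; norm_num)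
  obtain ⟨Q, hQ⟩ := hX.exists_le_sylow
  obtain ⟨g, hg⟩ := MulAction.exists_smul_eq (GL (Fin 2) (ZMod 3)) Q P
  have hmem : g * X₀ * g⁻¹ ∈ (P : Subgroup (GL (Fin 2) (ZMod 3))) := by
    rw [← hg, Sylow.coe_subgroup_smul]
    have : X₀ ∈ (Q : Subgroup (GL (Fin 2) (ZMod 3))) := hQ (Subgroup.mem_zpowers X₀)
    have := Subgroup.smul_mem_pointwise_smul X₀ (MulAut.conj g) _ this
    rwa [MulAut.smul_def, MulAut.conj_apply] at this
  obtain ⟨x, hx⟩ : ∃ x : G, φ x = g * X₀ * g⁻¹ := hmem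
  refine ⟨x, ?_⟩
  rw [← orderOf_injective φ hφ x, hx, ← orderOf_X₀]
  exact orderOf_injective (MulAut.conj g).toMonoidHom (MulAut.conj g).injective X₀

theorem qd_of_card16 (hφ : Function.Injective φ) (hcard : Nat.card G = 16) :
    Cfsg.IsQuasiDihedral G := by
  obtain ⟨x, hx⟩ := exists_order8 φ hφ hcard
  have hinj := psi_injective φ hφ
  have hcz : Nat.card (Subgroup.zpowers x) = 8 := by rw [Nat.card_zpowers, hx]
  have hidx : (Subgroup.zpowers x).index = 2 := by
    have := (Subgroup.zpowers x).card_mul_index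
    rw [hcz, hcard] at this
    omega
  have hnorm : (Subgroup.zpowers x).Normal := Subgroup.normal_of_index_eq_two hidx
  obtain ⟨h, hh⟩ : ∃ h : G, h ∉ Subgroup.zpowers x := by
    by_contra hcon
    push_neg at hcon
    have : Subgroup.zpowers x = ⊤ := (Subgroup.eq_top_iff' _).2 hcon
    rw [this, Subgroup.index_top] at hidx
    omega
  have hconj : h * x * h⁻¹ ∈ Subgroup.zpowers x := hnorm.conj_mem x (Subgroup.mem_zpowers x) h
  have hfo : IsOfFinOrder x := isOfFinOrder_of_finite x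
  obtain ⟨k, hk8, hk⟩ : ∃ k < 8, x ^ k = h * x * h⁻¹ := by
    rw [← mem_powers_iff_mem_zpowers] at hconj
    obtain ⟨m, hm⟩ := hconj
    refine ⟨m % 8, Nat.mod_lt _ (by norm_num), ?_⟩
    rw [← hx, pow_mod_orderOf]
    exact hm
  have c1 : qpow (psi φ x) 8 = qone := by
    rw [← psi_pow, ← hx, pow_orderOf_eq_one, psi_one]
  have c2 : qpow (psi φ x) 4 ≠ qone := by
    intro hcon
    rw [← psi_pow, ← psi_one φ] at hcon
    have h4 : x ^ 4 = 1 := hinj hcon
    have := orderOf_dvd_of_pow_eq_one h4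
    rw [hx] at this
    omega
  have c3 : ∃ H' : Q3, qmul (psi φ h) H' = qone :=
    ⟨psi φ h⁻¹, by rw [← psi_mul, mul_inv_cancel, psi_one]⟩
  have c4 : ∃ k : Fin 8, qmul (psi φ h) (psi φ x) = qmul (qpow (psi φ x) k) (psi φ h) := by
    refine ⟨⟨k, hk8⟩, ?_⟩
    rw [← psi_pow, ← psi_mul, ← psi_mul]
    congr 1
    show h * x = x ^ k * h
    rw [hk]
    group
  have c5 : ∀ i : Fin 8, psi φ h ≠ qpow (psi φ x) i := by
    intro i hcon
    rw [← psi_pow] at hcon
    have := hinj hcon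
    exact hh (this ▸ Subgroup.pow_mem _ (Subgroup.mem_zpowers x) _)
  obtain ⟨kA, ⟨i, kB⟩⟩ := sd16_key (psi φ x) c1 c2 (psi φ h) c3 c4 c5
  rw [← psi_pow, ← psi_mul, ← psi_mul] at kA
  have hA : h * x = x ^ 3 * h := hinj kA
  rw [← psi_pow, ← psi_mul, ← psi_mul, ← psi_one φ] at kB
  have hB : h * x ^ (i : ℕ) * (h * x ^ (i : ℕ)) = 1 := hinj kB
  set y := h * x ^ (i : ℕ) with hy
  have hy1 : y ≠ 1 := by
    intro hcon
    apply hh
    have : h = (x ^ (i : ℕ))⁻¹ := eq_inv_of_mul_eq_one_left hcon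
    rw [this]
    exact Subgroup.inv_mem _ (Subgroup.pow_mem _ (Subgroup.mem_zpowers x) _)
  have hy2 : orderOf y = 2 := orderOf_eq_prime (by rw [pow_two]; exact hB) hy1
  refine ⟨3, le_refl 3, by rw [hcard]; norm_num, x, y, by rw [hx]; norm_num, hy2, ?_⟩
  have : (2 : ℕ) ^ (3 - 1) - 1 = 3 := by norm_num
  rw [this, hy]
  have hxh : h * x * h⁻¹ = x ^ 3 := by rw [hA]; group
  calc h * x ^ (i : ℕ) * x * (h * x ^ (i : ℕ))⁻¹ = h * x * h⁻¹ := by group
    _ = x ^ 3 := hxh

end dim2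

theorem result (q : ℕ) [Fact q.Prime] {V : Type*} [AddCommGroup V] [Module (ZMod q) V] [Finite V] [Nontrivial V]
    {G : Type*} [Group G] [Finite G] [Nontrivial G] (p : ℕ) [Fact p.Prime] (hG : IsPGroup p G)
    (ρ : G →* (V ≃ₗ[ZMod q] V)) (hρ : Function.Injective ρ)
    (htrans : ∀ v w : V, v ≠ 0 → w ≠ 0 → ∃ g : G, ρ g v = w) :
    (q = 2 ∧ p = Nat.card V - 1 ∧ Nat.card G = p) ∨
    (p = 2 ∧ Nat.card V = q ∧ (∃ m : ℕ, q = 2 ^ m + 1 ∧ Nat.card G = 2 ^ m) ∧ IsCyclic G) ∨
    (p = 2 ∧ q = 3 ∧ Nat.card V = 9 ∧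
      ((IsCyclic G ∧ Nat.card G = 8) ∨ Nonempty (G ≃* QuaternionGroup 2) ∨ (Cfsg.IsQuasiDihedral G ∧ Nat.card G = 16))) := by
  classical
  have hqp : q.Prime := Fact.out
  have hpp : p.Prime := Fact.out
  obtain ⟨v₀, hv₀⟩ := exists_ne (0 : V)
  have hcardV : Nat.card V = q ^ Module.finrank (ZMod q) V := by
    rw [Module.natCard_eq_pow_finrank (K := ZMod q), Nat.card_zmod]
  have hV2 : 2 ≤ Nat.card V := Finite.one_lt_card
  have hn1 : 1 ≤ Module.finrank (ZMod q) V := by
    by_contra hcon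
    have : Module.finrank (ZMod q) V = 0 := by omega
    rw [this, pow_zero] at hcardV
    omega
  obtain ⟨b, hb⟩ := card_pow ρ hG v₀ hv₀ htrans
  have heq : q ^ Module.finrank (ZMod q) V = p ^ b + 1 := by
    rw [← hcardV, ← hb]; omega
  have hGcard := card_eq ρ v₀ hv₀ htrans
  have hG1 : 1 < Nat.card G := Finite.one_lt_card
  rcases prime_pow_sub_one_cases hpp hqp hn1 heq with ⟨hq2, hb1⟩ | ⟨hq2, hp2, hfin⟩ | ⟨hp2, hq3, hfin⟩
  · -- q = 2
    left
    have hsmall : Nat.card V - 1 ≤ p := by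
      rw [hb]
      calc p ^ b ≤ p ^ 1 := Nat.pow_le_pow_right hpp.pos hb1
        _ = p := pow_one p
    rw [stab_trivial_of_small ρ hG hρ v₀ hv₀ hsmall, Subgroup.card_bot, mul_one] at hGcard
    have hb' : b = 1 := by
      by_contra hne
      have : b = 0 := by omega
      rw [hGcard, hb, this, pow_zero] at hG1
      omega
    rw [hb', pow_one] at hb
    exact ⟨hq2, hb.symm, by rw [hGcard, hb]⟩
  · -- dimension one
    right; left
    obtain ⟨e⟩ := Module.nonempty_linearEquiv_of_finrank_eq_one hfin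
    rw [stab_trivial_rankone ρ e hρ v₀ hv₀, Subgroup.card_bot, mul_one] at hGcard
    rw [hfin, pow_one] at hcardV
    refine ⟨hp2, hcardV, ⟨b, ?_, ?_⟩, cyclic_rankone ρ e hρ⟩
    · rw [← hp2, ← hb, hcardV]
      have := hqp.two_le
      omega
    · rw [hGcard, hb, hp2]
  · -- q = 3, dimension two
    right; right
    subst hq3
    subst hp2
    rw [hfin] at hcardV
    have hV9 : Nat.card V = 9 := by rw [hcardV]; norm_num
    refine ⟨rfl, rfl, hV9, ?_⟩
    rw [hV9] at hGcard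
    obtain ⟨φ, hφ⟩ := exists_matrix_hom ρ hfin hρ
    have hdvd : Nat.card G ∣ 48 := by
      rw [← card_GL23, Nat.card_congr (MonoidHom.ofInjective hφ).toEquiv]
      exact Subgroup.card_subgroup_dvd_card _
    obtain ⟨a, ha⟩ := hG.exists_card_eq
    have ha4 : a ≤ 4 := by
      by_contra hcon
      have h5 : 2 ^ 5 ∣ 2 ^ a := Nat.pow_dvd_pow 2 (by omega)
      rw [← ha] at h5
      have := dvd_trans h5 hdvd
      omega
    have hs1 : 1 ≤ Nat.card (stab ρ v₀) := Nat.card_pos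
    have ha3 : 3 ≤ a := by
      by_contra hcon
      have : 2 ^ a ≤ 2 ^ 2 := Nat.pow_le_pow_right (by norm_num) (by omega)
      rw [← ha, hGcard] at this
      omega
    have hcases : a = 3 ∨ a = 4 := by omega
    rcases hcases with rfl | rfl
    · have h8 : Nat.card G = 8 := by rw [ha]; norm_num
      have hstab : ∀ v : V, v ≠ 0 → stab ρ v = ⊥ := by
        intro v hv
        have := card_eq ρ v hv htrans
        rw [hV9, h8] at this
        apply Subgroup.eq_bot_of_card_eq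
        omega
      rcases cyclic_or_q8_of_card8 ρ hG hρ h8 hstab with h | h
      · exact Or.inl h
      · exact Or.inr (Or.inl h)
    · have h16 : Nat.card G = 16 := by rw [ha]; norm_num
      exact Or.inr (Or.inr ⟨qd_of_card16 φ hφ h16, h16⟩)

end Cfsg.Agent.S3370
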