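import Cfsg.Statements.S3380
import Cfsg.Agent.Helper58.PImprim
import Cfsg.Agent.Helper58.PImprimGrp

set_option autoImplicit false
open Cfsg

namespace Cfsg.Agent.S3380

open Cfsg.Agent.Helper58

theorem char_ne (q : ℕ) [Fact q.Prime] {V : Type*} [AddCommGroup V] [Module (ZMod q) V] [Finite V] [Nontrivial V]
    {G : Type*} [Group G] [Finite G] (p : ℕ) [hp : Fact p.Prime] (hG : IsPGroup p G)
    (ρ : G →* (V ≃ₗ[ZMod q] V)) (hρ : Function.Injective ρ)
    (hirr : ∀ W : Submodule (ZMod q) V, (∀ g : G, ∀ w ∈ W, ρ g w ∈ W) → W = ⊥ ∨ W = ⊤)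
    (hnc : ¬ IsCyclic G) : q ≠ p := by
  intro hqp
  subst hqp
  letI : MulAction G V := MulAction.compHom V ρ
  have hsm : ∀ (g : G) (v : V), g • v = ρ g v := fun g v => rfl
  have h1 := hG.card_modEq_card_fixedPoints V
  -- q divides card V
  obtain ⟨v₀, hv₀⟩ := exists_ne (0 : V)
  have hq0 : q • v₀ = 0 := by
    rw [← Nat.cast_smul_eq_nsmul (ZMod q), ZMod.natCast_self, zero_smul]
  have hord : addOrderOf v₀ = q := by
    have hd := addOrderOf_dvd_of_nsmul_eq_zero hq0
    rcases (Nat.dvd_prime hp.out).mp hd with h | h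
    · rw [AddMonoid.addOrderOf_eq_one_iff] at h
      exact absurd h hv₀
    · exact h
  have hdvd : q ∣ Nat.card V := by
    rw [← hord]; exact addOrderOf_dvd_natCard v₀
  have h2 : q ∣ Nat.card (MulAction.fixedPoints G V) := by
    rw [← Nat.modEq_zero_iff_dvd]
    exact h1.symm.trans ((Nat.modEq_zero_iff_dvd).mpr hdvd)
  -- a nonzero fixed vector
  have h3 : ∃ v : V, v ≠ 0 ∧ ∀ g : G, ρ g v = v := by
    by_contra hcon
    push Not at hcon
    have hsub : Subsingleton (MulAction.fixedPoints G V) := by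
      constructor
      intro a b
      apply Subtype.ext
      have ha : (a : V) = 0 := by
        by_contra h
        obtain ⟨g, hg⟩ := hcon a h
        exact hg (a.2 g)
      have hb : (b : V) = 0 := by
        by_contra h
        obtain ⟨g, hg⟩ := hcon b h
        exact hg (b.2 g)
      rw [ha, hb]
    have hne : Nonempty (MulAction.fixedPoints G V) := ⟨⟨0, fun g => by rw [hsm, map_zero]⟩⟩
    have : Nat.card (MulAction.fixedPoints G V) = 1 := Nat.card_eq_one_iff_unique.mpr ⟨hsub, hne⟩
    rw [this] at h2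
    exact hp.out.one_lt.ne' (Nat.dvd_one.mp h2)
  obtain ⟨v, hv, hfix⟩ := h3
  let W : Submodule (ZMod q) V := ⨅ g : G, fixSub ρ g
  have hWinv : ∀ g : G, ∀ w ∈ W, ρ g w ∈ W := by
    intro g w hw
    have : ρ g w = w := by
      have := (Submodule.mem_iInf _).mp hw g
      exact this
    rw [this]; exact hw
  have hvW : v ∈ W := (Submodule.mem_iInf _).mpr (fun g => hfix g)
  rcases hirr W hWinv with h | h
  · rw [h, Submodule.mem_bot] at hvW
    exact hv hvW
  · apply hnc
    have : Subsingleton G := by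
      constructor
      intro a b
      apply hρ
      ext w
      have hw : w ∈ W := by rw [h]; exact Submodule.mem_top
      have ha := (Submodule.mem_iInf _).mp hw a
      have hb := (Submodule.mem_iInf _).mp hw b
      rw [(mem_fixSub ρ).mp ha, (mem_fixSub ρ).mp hb]
    exact isCyclic_of_subsingleton

/-- Let a finite p-group G act faithfully and irreducibly on a non-trivial finite vector space V over the field with q elements (q prime), and suppose G is not cyclic, generalized quaternion, dihedral or semidihedral. Then G has a subgroup H of index p and V is the direct sum of p subspaces, each invariant under H, on none of which H acts faithfully, and which every element of G outside H permutes in a single p-cycle. -/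
theorem result
    (q : ℕ) [Fact q.Prime] {V : Type*} [AddCommGroup V] [Module (ZMod q) V] [Finite V] [Nontrivial V]
    {G : Type*} [Group G] [Finite G] (p : ℕ) [Fact p.Prime] (hG : IsPGroup p G)
    (ρ : G →* (V ≃ₗ[ZMod q] V)) (hρ : Function.Injective ρ)
    (hirr : ∀ W : Submodule (ZMod q) V, (∀ g : G, ∀ w ∈ W, ρ g w ∈ W) → W = ⊥ ∨ W = ⊤)
    (hnc : ¬ IsCyclic G) (hnq : ∀ n : ℕ, ¬ Nonempty (G ≃* QuaternionGroup n))
    (hnd : ∀ n : ℕ, ¬ Nonempty (G ≃* DihedralGroup n)) (hnsd : ¬ Cfsg.IsQuasiDihedral G) :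
    ∃ (H : Subgroup G) (W : Fin p → Submodule (ZMod q) V), H.index = p ∧
      iSup W = ⊤ ∧ iSupIndep W ∧
      (∀ h ∈ H, ∀ i, ∀ w ∈ W i, ρ h w ∈ W i) ∧
      (∀ i, ∃ h ∈ H, h ≠ 1 ∧ ∀ w ∈ W i, ρ h w = w) ∧
      ∀ g : G, g ∉ H → ∃ σ : Equiv.Perm (Fin p), orderOf σ = p ∧ ∀ i, (W i).map (ρ g : V →ₗ[ZMod q] V) = W (σ i) := by
  have hqp := char_ne q p hG ρ hρ hirr hnc
  obtain ⟨A, hAn, hAc, hAnc⟩ := exists_normal_abelian_noncyclic p hG hnc hnq hnd hnsd
  obtain ⟨z, y, hzc, hzo, hy, hyz, hcomm⟩ := exists_central_pair_of_abelian p hG A hAn hAc hAnc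
  exact pimprim_module ρ p hqp hρ hirr z y hzc hzo hy hyz hcomm

end Cfsg.Agent.S3380
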