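import Cfsg.Statements.S3371
import Cfsg.Agent.S3380
import Cfsg.Agent.Helper58.HTBasic
import Cfsg.Agent.Helper58.HTDS2
import Cfsg.Agent.Helper58.HTImp1
import Cfsg.Agent.Helper58.HTImp3
import Cfsg.Agent.Helper73.PGroupCyclic

set_option autoImplicit false
open Cfsg

namespace Cfsg.Agent.S3371

open Cfsg.Agent.Helper58 Cfsg.Agent.Helper58.HT

/-- involutions of a (finite) generalized quaternion group are central -/
theorem quaternion_invol_central {n : ℕ} (hn : n ≠ 0) (g : QuaternionGroup n) (hg : g * g = 1)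
    (h : QuaternionGroup n) : h * g = g * h := by
  cases g with
  | a i =>
    rw [QuaternionGroup.a_mul_a, QuaternionGroup.one_def] at hg
    have hi : i + i = 0 := QuaternionGroup.a.inj hg
    have hi' : i = -i := eq_neg_of_add_eq_zero_left hi
    cases h with
    | a j => rw [QuaternionGroup.a_mul_a, QuaternionGroup.a_mul_a, add_comm]
    | xa j =>
      rw [QuaternionGroup.xa_mul_a, QuaternionGroup.a_mul_xa]
      congr 1
      rw [sub_eq_add_neg, ← hi']
  | xa i =>
    exfalso
    rw [QuaternionGroup.xa_mul_xa, QuaternionGroup.one_def] at hg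
    have h0 : (n : ZMod (2 * n)) + i - i = 0 := QuaternionGroup.a.inj hg
    rw [add_sub_cancel_right, ZMod.natCast_eq_zero_iff] at h0
    have := Nat.le_of_dvd (Nat.pos_of_ne_zero hn) h0
    omega

/-- a `p`-group with an element of even order has `p = 2` -/
theorem p_eq_two_of_even {G : Type*} [Group G] [Finite G] {p : ℕ} [hp : Fact p.Prime]
    (hG : IsPGroup p G) (x : G) (hx : 2 ∣ orderOf x) : p = 2 := by
  obtain ⟨k, hk⟩ := hG x
  have h1 : orderOf x ∣ p ^ k := orderOf_dvd_of_pow_eq_one hk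
  have h2 : 2 ∣ p := Nat.Prime.dvd_of_dvd_pow Nat.prime_two (hx.trans h1)
  exact ((Nat.prime_dvd_prime_iff_eq Nat.prime_two hp.out).1 h2).symm

/-- a nontrivial element of a `p`-group has a power of order `p` -/
theorem exists_pow_orderOf_eq {G : Type*} [Group G] [Finite G] {p : ℕ} [hp : Fact p.Prime]
    (hG : IsPGroup p G) (g : G) (hg : g ≠ 1) : ∃ m : ℕ, orderOf (g ^ m) = p := by
  obtain ⟨k, hk⟩ := hG g
  have h1 : orderOf g ∣ p ^ k := orderOf_dvd_of_pow_eq_one hk
  obtain ⟨j, _, hj⟩ := (Nat.dvd_prime_pow hp.out).1 h1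
  have hj0 : j ≠ 0 := by
    rintro rfl
    rw [pow_zero, orderOf_eq_one_iff] at hj
    exact hg hj
  have hdvd : p ∣ orderOf g := by rw [hj]; exact dvd_pow_self p hj0
  exact ⟨orderOf g / p, orderOf_pow_orderOf_div (orderOf_pos g).ne' hdvd⟩

/-- Let q be a prime, V a non-trivial finite vector space over the field with q elements, and G a finite p-group (p prime) acting faithfully and linearly on V such that all G-orbits on the non-zero vectors have the same size. Then one of the following holds: G is cyclic or generalized quaternion and acts semiregularly on the non-zero vectors; or V has q² elements with q = 2^m − 1 and G is dihedral of order 2^(m+1) or semidihedral of order 2^(m+2); or V has q² elements with q = 2^m + 1 and, in suitable coordinates V = F_q², G is exactly the group of maps (x, y) ↦ (a x, ± a⁻¹ y) and (x, y) ↦ (± a⁻¹ y, a x) with a ≠ 0; or V has 81 elements (q = 3) and G is a 2-group. -/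
theorem result (q : ℕ) [Fact q.Prime] {V : Type*} [AddCommGroup V] [Module (ZMod q) V] [Finite V] [Nontrivial V]
    {G : Type*} [Group G] [Finite G] (p : ℕ) [Fact p.Prime] (hG : IsPGroup p G)
    (ρ : G →* (V ≃ₗ[ZMod q] V)) (hρ : Function.Injective ρ)
    (hhalf : ∀ v w : V, v ≠ 0 → w ≠ 0 → Nat.card {u : V | ∃ g : G, ρ g v = u} = Nat.card {u : V | ∃ g : G, ρ g w = u}) :
    ((IsCyclic G ∨ ∃ n : ℕ, Nonempty (G ≃* QuaternionGroup n)) ∧ ∀ v : V, v ≠ 0 → ∀ g : G, ρ g v = v → g = 1) ∨
    (Nat.card V = q ^ 2 ∧ ∃ m : ℕ, q = 2 ^ m - 1 ∧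
      (Nonempty (G ≃* DihedralGroup (2 ^ m)) ∨ (Cfsg.IsQuasiDihedral G ∧ Nat.card G = 2 ^ (m + 2)))) ∨
    (Nat.card V = q ^ 2 ∧ (∃ m : ℕ, q = 2 ^ m + 1) ∧
      ∃ e : V ≃ₗ[ZMod q] (Fin 2 → ZMod q), ∀ f : (Fin 2 → ZMod q) ≃ₗ[ZMod q] (Fin 2 → ZMod q),
        (∃ g : G, f = e.symm.trans ((ρ g).trans e)) ↔
        ∃ a s : ZMod q, a ≠ 0 ∧ (s = 1 ∨ s = -1) ∧
          ((∀ v, f v = ![a * v 0, s * a⁻¹ * v 1]) ∨ (∀ v, f v = ![s * a⁻¹ * v 1, a * v 0]))) ∨
    (Nat.card V = 81 ∧ q = 3 ∧ p = 2) := by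
  have hhalf' : ∀ v w : V, v ≠ 0 → w ≠ 0 → Nat.card (orb ρ v) = Nat.card (orb ρ w) := hhalf
  by_cases hsr : ∀ v : V, v ≠ 0 → ∀ g : G, ρ g v = v → g = 1
  · -- the semiregular case
    left
    refine ⟨?_, hsr⟩
    by_cases hqp : q = p
    · subst hqp
      left
      have : Subsingleton G := ⟨fun a b => by
        rw [trivial_of_char ρ hG hρ hhalf' a, trivial_of_char ρ hG hρ hhalf' b]⟩
      exact isCyclic_of_subsingleton
    · have hu := uniqueOrderP_of_semiregular ρ p hqp hG hsr
      rcases Cfsg.Agent.Helper73.cyclic_or_quaternion hG hu with h | ⟨_, n, _, hn⟩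
      · exact Or.inl h
      · exact Or.inr ⟨2 ^ n, hn⟩
  · -- the non-semiregular case
    right
    have hns : ∃ v : V, v ≠ 0 ∧ ∃ g : G, g ≠ 1 ∧ ρ g v = v := by
      push Not at hsr
      obtain ⟨v, hv, g, hgv, hg⟩ := hsr
      exact ⟨v, hv, g, hg, hgv⟩
    have hqp : q ≠ p := by
      intro hqp
      subst hqp
      obtain ⟨v, _, g, hg, _⟩ := hns
      exact hg (trivial_of_char ρ hG hρ hhalf' g)
    have hirr : ∀ W : Submodule (ZMod q) V, (∀ g : G, ∀ w ∈ W, ρ g w ∈ W) → W = ⊥ ∨ W = ⊤ :=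
      fun W hW => irred_of_not_semiregular ρ hρ hhalf' hns W hW
    have hs : ∀ v w : V, v ≠ 0 → w ≠ 0 → Nat.card (vecStab ρ v) = Nat.card (vecStab ρ w) :=
      fun v w hv hw => stab_const ρ hhalf' hv hw
    -- `G` is not cyclic
    have hnc : ¬ IsCyclic G := by
      intro hcyc
      obtain ⟨v, hv, g, hg, hgv⟩ := hns
      have hcomm : ∀ a b : G, a * b = b * a := fun a b => (IsCyclic.commGroup (α := G)).mul_comm a b
      exact hg (semireg_of_comm ρ hρ hirr hcomm hv hgv)
    -- `G` is not generalized quaternion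
    have hnq : ∀ n : ℕ, ¬ Nonempty (G ≃* QuaternionGroup n) := by
      rintro n ⟨φ⟩
      have hn : n ≠ 0 := by
        rintro rfl
        have h1 : orderOf (φ.symm (QuaternionGroup.a 1)) = 2 * 0 := by
          rw [MulEquiv.orderOf_eq, QuaternionGroup.orderOf_a_one]
        have h2 := orderOf_pos (φ.symm (QuaternionGroup.a 1))
        omega
      have : NeZero n := ⟨hn⟩
      have hp2 : p = 2 := by
        apply p_eq_two_of_even hG (φ.symm (QuaternionGroup.xa 0))
        rw [MulEquiv.orderOf_eq, QuaternionGroup.orderOf_xa]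
        norm_num
      obtain ⟨v, hv, g, hg, hgv⟩ := hns
      obtain ⟨m, hm⟩ := exists_pow_orderOf_eq hG g hg
      set z := g ^ m with hz
      have hzv : ρ z v = v := by
        have : z ∈ vecStab ρ v := (vecStab ρ v).pow_mem hgv m
        exact this
      have hz1 : z ≠ 1 := by
        intro h
        rw [h, orderOf_one] at hm
        exact (Fact.out : p.Prime).ne_one hm.symm
      have hzz : z * z = 1 := by
        rw [← sq, ← hp2, ← hm, pow_orderOf_eq_one]
      have hzc : z ∈ Subgroup.center G := by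
        rw [Subgroup.mem_center_iff]
        intro h
        apply φ.injective
        rw [map_mul, map_mul]
        apply quaternion_invol_central hn
        rw [← map_mul, hzz, map_one]
      have hfix := fixSub_central_eq_bot ρ hρ hirr z hzc hz1
      have hvm : v ∈ fixSub ρ z := hzv
      rw [hfix, Submodule.mem_bot] at hvm
      exact hv hvm
    by_cases hd : ∃ n : ℕ, Nonempty (G ≃* DihedralGroup n)
    · -- dihedral
      left
      obtain ⟨n, ⟨φ⟩⟩ := hd
      have hp2 : p = 2 := by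
        apply p_eq_two_of_even hG (φ.symm (DihedralGroup.sr 0))
        rw [MulEquiv.orderOf_eq, DihedralGroup.orderOf_sr]
      subst hp2
      have hq2 : q ≠ 2 := hqp
      obtain ⟨hV, m, hm, hiso⟩ := dihedral_case ρ hq2 hG hρ hirr hs hns n φ
      exact ⟨hV, m, hm, Or.inl hiso⟩
    by_cases hsd : Cfsg.IsQuasiDihedral G
    · left
      have hp2 : p = 2 := by
        obtain ⟨n, hn, hcard, x, y, hxo, hyo, hconj⟩ := hsd
        apply p_eq_two_of_even hG y
        rw [hyo]
      subst hp2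
      have hq2 : q ≠ 2 := hqp
      obtain ⟨hV, m, hm, hcard⟩ := quasidihedral_case ρ hq2 hρ hirr hs hns hsd
      exact ⟨hV, m, hm, Or.inr ⟨hsd, hcard⟩⟩
    · right
      have hd' : ∀ n : ℕ, ¬ Nonempty (G ≃* DihedralGroup n) := fun n hn => hd ⟨n, hn⟩
      obtain ⟨H, W, hidx, hsup, hind, hinv, hnf, hperm⟩ :=
        Cfsg.Agent.S3380.result q p hG ρ hρ hirr hnc hnq hd' hsd
      have hp2 : p = 2 := imp_p_eq_two ρ hρ hs H hidx W hsup hind hinv hnf hperm
      subst hp2
      have hq2 : q ≠ 2 := hqp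
      rcases two_blocks ρ hq2 hG hρ hs H hidx W hsup hind hinv hnf hperm with h | ⟨h81, h3⟩
      · exact Or.inl h
      · exact Or.inr ⟨h81, h3, rfl⟩

end Cfsg.Agent.S3371
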