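import Cfsg.Statements.S3374
import Cfsg.Agent.Helper71.FrobConstruct
import Cfsg.Agent.Helper56.SL25Table

set_option autoImplicit false
open Cfsg
open Cfsg.Agent.Helper56.SL25

namespace Cfsg.Agent.S3374

def toMat (x : Q11) : Matrix (Fin 2) (Fin 2) (ZMod 11) := !![x.1, x.2.1; x.2.2.1, x.2.2.2]

theorem toMat_qmul (x y : Q11) : toMat (qmul x y) = toMat x * toMat y := by
  unfold toMat qmul
  rw [Matrix.mul_fin_two]

/-- the embedding as a function on matrices -/
def F (A : Matrix.SpecialLinearGroup (Fin 2) (ZMod 5)) : Matrix (Fin 2) (Fin 2) (ZMod 11) :=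
  toMat (look (A.1 0 0) (A.1 0 1) (A.1 1 0) (A.1 1 1))

theorem det_eq (A : Matrix.SpecialLinearGroup (Fin 2) (ZMod 5)) :
    A.1 0 0 * A.1 1 1 - A.1 0 1 * A.1 1 0 = 1 := by
  have := A.2
  rwa [Matrix.det_fin_two] at this

theorem F_one : F 1 = 1 := by
  unfold F
  have : look ((1 : Matrix.SpecialLinearGroup (Fin 2) (ZMod 5)).1 0 0) ((1 : Matrix.SpecialLinearGroup (Fin 2) (ZMod 5)).1 0 1)
      ((1 : Matrix.SpecialLinearGroup (Fin 2) (ZMod 5)).1 1 0) ((1 : Matrix.SpecialLinearGroup (Fin 2) (ZMod 5)).1 1 1) = look 1 0 0 1 := by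
    simp
  rw [this, one_check]
  unfold toMat
  exact Matrix.one_fin_two.symm

theorem F_mul (A B : Matrix.SpecialLinearGroup (Fin 2) (ZMod 5)) : F (A * B) = F A * F B := by
  unfold F
  rw [← toMat_qmul, ← hom_check _ _ _ _ (det_eq A) _ _ _ _ (det_eq B)]
  have h : (A * B).1 = A.1 * B.1 := rfl
  rw [h, Matrix.mul_apply, Matrix.mul_apply, Matrix.mul_apply, Matrix.mul_apply]
  simp only [Fin.sum_univ_two]

def Fhom : Matrix.SpecialLinearGroup (Fin 2) (ZMod 5) →* Matrix (Fin 2) (Fin 2) (ZMod 11) where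
  toFun := F
  map_one' := F_one
  map_mul' := F_mul

theorem result :
    ∃ (L : Type) (_ : Group L) (_ : Finite L) (H : Subgroup L),
      Cfsg.IsFrobeniusComplement H ∧ Nonempty (H ≃* Matrix.SpecialLinearGroup (Fin 2) (ZMod 5)) := by
  have : Nontrivial (Matrix.SpecialLinearGroup (Fin 2) (ZMod 5)) := by
    refine ⟨⟨1, -1, ?_⟩⟩
    intro h
    have := congrArg (fun A : Matrix.SpecialLinearGroup (Fin 2) (ZMod 5) => A.1 0 0) h
    revert this
    simp only [Matrix.SpecialLinearGroup.coe_one, Matrix.SpecialLinearGroup.coe_neg, Matrix.one_apply_eq,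
      Matrix.neg_apply]
    decide
  have : Fact (Nat.Prime 11) := ⟨by norm_num⟩
  obtain ⟨L, i1, i2, C, hC, ⟨e⟩⟩ := Cfsg.Agent.Helper71.exists_frobenius_of_ring_hom
    (R := Matrix (Fin 2) (Fin 2) (ZMod 11)) Fhom.toHomUnits (by
      intro A hA
      rw [MonoidHom.coe_toHomUnits, Matrix.isUnit_iff_isUnit_det, isUnit_iff_ne_zero]
      show (F A - 1).det ≠ 0
      have hne : ¬ (A.1 0 0 = 1 ∧ A.1 0 1 = 0 ∧ A.1 1 0 = 0 ∧ A.1 1 1 = 1) := by
        rintro ⟨h1, h2, h3, h4⟩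
        apply hA
        apply Subtype.ext
        rw [Matrix.SpecialLinearGroup.coe_one, Matrix.eta_fin_two A.1, h1, h2, h3, h4]
        exact Matrix.one_fin_two.symm
      have := fpf_check _ _ _ _ (det_eq A) hne
      unfold F toMat
      rw [Matrix.one_fin_two, Matrix.det_fin_two]
      simpa using this)
  exact ⟨L, i1, i2, C, hC, ⟨e.symm⟩⟩

end Cfsg.Agent.S3374
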