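import Cfsg.Statements.S3379

set_option autoImplicit false
open Cfsg

namespace Cfsg.Agent.S3379

/-- a subgroup of a normal cyclic subgroup generated by a power of the generator is normal -/
theorem zpowers_pow_normal {G : Type*} [Group G] (y : G) (hn : (Subgroup.zpowers y).Normal) (d : ℕ) :
    (Subgroup.zpowers (y ^ d)).Normal := by
  constructor
  intro n hnN g
  obtain ⟨i, rfl⟩ := Subgroup.mem_zpowers_iff.mp hnN
  have h1 : g * y * g⁻¹ ∈ Subgroup.zpowers y := hn.conj_mem y (Subgroup.mem_zpowers y) g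
  obtain ⟨j, hj⟩ := Subgroup.mem_zpowers_iff.mp h1
  have h2 : g * (y ^ d) ^ i * g⁻¹ = ((y ^ d) ^ j) ^ i := by
    have e1 : g * (y ^ d) ^ i * g⁻¹ = MulAut.conj g ((y ^ d) ^ i) := rfl
    have e2 : (g * y * g⁻¹) ^ d = (y ^ d) ^ j := by
      rw [← hj, ← zpow_natCast, ← zpow_mul, mul_comm, zpow_mul, zpow_natCast]
    rw [e1, map_zpow, map_pow, MulAut.conj_apply, e2]
  rw [h2]
  exact Subgroup.zpow_mem _ (Subgroup.zpow_mem _ (Subgroup.mem_zpowers _) j) i

/-- the commutator subgroup of a metacyclic-type group `⟨x, y⟩` with `x⁻¹ y x = y ^ r` is generated by `y^(r-1)` -/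
theorem commutator_le_zpowers {G : Type*} [Group G] (x y : G) (hgen : Subgroup.closure {x, y} = ⊤)
    (hn : (Subgroup.zpowers y).Normal) (r : ℕ) (hr : 1 ≤ r) (hconj : x⁻¹ * y * x = y ^ r) :
    commutator G ≤ Subgroup.zpowers (y ^ (r - 1)) := by
  have hN : (Subgroup.zpowers (y ^ (r - 1))).Normal := zpowers_pow_normal y hn (r - 1)
  set N := Subgroup.zpowers (y ^ (r - 1)) with hNdef
  let π := QuotientGroup.mk' N
  have hπ : Function.Surjective π := QuotientGroup.mk'_surjective N
  have hcomm : π x * π y = π y * π x := by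
    rw [← map_mul, ← map_mul]
    apply (QuotientGroup.eq).mpr
    have : (x * y)⁻¹ * (y * x) = y ^ (r - 1) := by
      have h1 : (x * y)⁻¹ * (y * x) = y⁻¹ * (x⁻¹ * y * x) := by group
      rw [h1, hconj]
      obtain ⟨k, rfl⟩ : ∃ k, r = k + 1 := ⟨r - 1, by omega⟩
      rw [Nat.add_sub_cancel, pow_succ']
      group
    rw [this]
    exact Subgroup.mem_zpowers _
  have hclos : Subgroup.closure ({π x, π y} : Set (G ⧸ N)) = ⊤ := by
    have h1 : ({π x, π y} : Set (G ⧸ N)) = π '' {x, y} := by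
      rw [Set.image_insert_eq, Set.image_singleton]
    rw [h1, ← MonoidHom.map_closure, hgen, Subgroup.map_top_of_surjective π hπ]
  have hcommQ : ∀ a b : G ⧸ N, a * b = b * a := by
    have hc : IsMulCommutative (Subgroup.closure ({π x, π y} : Set (G ⧸ N))) := by
      apply Subgroup.isMulCommutative_closure
      rintro a (rfl | ha) b (rfl | hb)
      · rfl
      · rw [Set.mem_singleton_iff] at hb; rw [hb]; exact hcomm
      · rw [Set.mem_singleton_iff] at ha; rw [ha]; exact hcomm.symm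
      · rw [Set.mem_singleton_iff] at ha hb; rw [ha, hb]
    intro a b
    have ha : a ∈ Subgroup.closure ({π x, π y} : Set (G ⧸ N)) := by rw [hclos]; exact Subgroup.mem_top a
    have hb : b ∈ Subgroup.closure ({π x, π y} : Set (G ⧸ N)) := by rw [hclos]; exact Subgroup.mem_top b
    exact setLike_mul_comm ha hb
  rw [commutator_def, Subgroup.commutator_le]
  intro g _ h _
  rw [← QuotientGroup.eq_one_iff]
  show π (g * h * g⁻¹ * h⁻¹) = 1
  rw [map_mul, map_mul, map_mul, map_inv, map_inv, hcommQ (π g) (π h)]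
  group

/-- Let G be a finite group all of whose Sylow subgroups are cyclic. Then G is generated by two elements x and y of coprime orders n and m with x⁻¹yx = y^r, where gcd(r − 1, m) = 1 and r^n ≡ 1 (mod m). -/
theorem result {G : Type*} [Group G] [Finite G]
    (hZ : ∀ (p : ℕ) [Fact p.Prime] (P : Sylow p G), IsCyclic (P : Subgroup G)) :
    ∃ (x y : G) (n m r : ℕ), Subgroup.closure {x, y} = ⊤ ∧ orderOf x = n ∧ orderOf y = m ∧
      x⁻¹ * y * x = y ^ r ∧ Nat.Coprime (r - 1) m ∧ Nat.Coprime n m ∧ 1 ≤ r ∧ r ^ n % m = 1 % m := by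
  have hZG : IsZGroup G := ⟨fun p hp P => @hZ p ⟨hp⟩ P⟩
  have hcyc : IsCyclic (commutator G) := IsZGroup.isCyclic_commutator G
  have hcop := IsZGroup.coprime_commutator_index G
  obtain ⟨H, hH⟩ := Subgroup.exists_right_complement'_of_coprime hcop
  have e : G ⧸ commutator G ≃* H := hH.symm.QuotientMulEquiv
  have hAb : IsCyclic (G ⧸ commutator G) := IsZGroup.isCyclic_abelianization
  have hHcyc : IsCyclic H := isCyclic_of_surjective _ e.surjective
  obtain ⟨⟨y, hyC⟩, hy⟩ := hcyc.exists_generator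
  obtain ⟨⟨x, hxH⟩, hx⟩ := hHcyc.exists_generator
  have hCy : commutator G = Subgroup.zpowers y := by
    apply le_antisymm
    · intro z hz
      obtain ⟨k, hk⟩ := Subgroup.mem_zpowers_iff.mp (hy ⟨z, hz⟩)
      rw [Subgroup.mem_zpowers_iff]
      exact ⟨k, by simpa using congrArg Subtype.val hk⟩
    · rw [Subgroup.zpowers_le]; exact hyC
  have hHx : H = Subgroup.zpowers x := by
    apply le_antisymm
    · intro z hz
      obtain ⟨k, hk⟩ := Subgroup.mem_zpowers_iff.mp (hx ⟨z, hz⟩)
      rw [Subgroup.mem_zpowers_iff]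
      exact ⟨k, by simpa using congrArg Subtype.val hk⟩
    · rw [Subgroup.zpowers_le]; exact hxH
  have hgen : Subgroup.closure ({x, y} : Set G) = ⊤ := by
    have h1 : ({x, y} : Set G) = {x} ∪ {y} := by rw [Set.union_singleton, Set.pair_comm]
    rw [h1, Subgroup.closure_union, ← Subgroup.zpowers_eq_closure, ← Subgroup.zpowers_eq_closure,
      ← hHx, ← hCy, sup_comm]
    exact hH.sup_eq_top
  have hn : (Subgroup.zpowers y).Normal := by rw [← hCy]; infer_instance
  have hm : 0 < orderOf y := orderOf_pos y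
  -- the exponent r
  have hconjmem : x⁻¹ * y * x ∈ Subgroup.zpowers y := by
    have := hn.conj_mem y (Subgroup.mem_zpowers y) x⁻¹
    rwa [inv_inv] at this
  obtain ⟨k, hk⟩ := Subgroup.mem_zpowers_iff.mp hconjmem
  set r := (k % (orderOf y : ℤ)).toNat + orderOf y with hrdef
  have hr1 : 1 ≤ r := by omega
  have hconj : x⁻¹ * y * x = y ^ r := by
    rw [← hk, hrdef, pow_add, pow_orderOf_eq_one, mul_one, ← zpow_natCast,
      Int.toNat_of_nonneg (Int.emod_nonneg _ (by exact_mod_cast hm.ne')), zpow_mod_orderOf]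
  refine ⟨x, y, orderOf x, orderOf y, r, hgen, rfl, rfl, hconj, ?_, ?_, hr1, ?_⟩
  · -- gcd(r-1, m) = 1
    have hle := commutator_le_zpowers x y hgen hn r hr1 hconj
    have hymem : y ∈ Subgroup.zpowers (y ^ (r - 1)) := hle hyC
    obtain ⟨j, hj⟩ := Subgroup.mem_zpowers_iff.mp hymem
    have h1 : y ^ (((r - 1 : ℕ) : ℤ) * j - 1) = 1 := by
      rw [zpow_sub, zpow_mul, zpow_natCast, hj, zpow_one, mul_inv_cancel]
    rw [← orderOf_dvd_iff_zpow_eq_one] at h1
    obtain ⟨t, ht⟩ := h1
    rw [← Nat.isCoprime_iff_coprime]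
    refine ⟨j, -t, ?_⟩
    have : ((r - 1 : ℕ) : ℤ) * j = (orderOf y : ℤ) * t + 1 := by linarith
    rw [mul_comm j, this]; ring
  · -- gcd(n, m) = 1
    have h1 : Nat.card H = orderOf x := by rw [hHx, Nat.card_zpowers]
    have h2 : Nat.card (commutator G) = orderOf y := by rw [hCy, Nat.card_zpowers]
    have h3 : (commutator G).index = Nat.card H := hH.symm.index_eq_card
    rw [h2, h3, h1] at hcop
    exact hcop.symm
  · -- r^n ≡ 1 mod m
    have hpow : ∀ k : ℕ, (x ^ k)⁻¹ * y * x ^ k = y ^ (r ^ k) := by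
      intro k
      induction k with
      | zero => simp
      | succ k ih =>
        have e1 : (x ^ (k + 1))⁻¹ * y * x ^ (k + 1) = x⁻¹ * ((x ^ k)⁻¹ * y * x ^ k) * x := by
          rw [pow_succ]; group
        rw [e1, ih]
        have e2 : x⁻¹ * y ^ (r ^ k) * x = (x⁻¹ * y * x) ^ (r ^ k) := by
          have : x⁻¹ * y ^ (r ^ k) * x = MulAut.conj x⁻¹ (y ^ (r ^ k)) := by
            rw [MulAut.conj_apply, inv_inv]
          rw [this, map_pow, MulAut.conj_apply, inv_inv]
        rw [e2, hconj, ← pow_mul, ← pow_succ']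
    have h1 := hpow (orderOf x)
    rw [pow_orderOf_eq_one, inv_one, one_mul, mul_one] at h1
    have h2 : y ^ (r ^ orderOf x) = y ^ 1 := by rw [← h1, pow_one]
    rw [pow_eq_pow_iff_modEq] at h2
    exact h2

end Cfsg.Agent.S3379
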