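import Cfsg.Statements.S3381

set_option autoImplicit false
open Cfsg

namespace Cfsg.Agent.S3381

section
variable {q : ℕ} [Fact q.Prime] {V : Type*} [AddCommGroup V] [Module (ZMod q) V]
  {G : Type*} [Group G] (ρ : G →* (V ≃ₗ[ZMod q] V))

/-- S1: the stabilizer of a nonzero vector is `{1, t}` -/
theorem stab_struct
    (hstab : ∀ v : V, v ≠ 0 → Nat.card {g : G // ρ g v = v} = 2) (v : V) (hv : v ≠ 0) :
    ∃ t : G, t ≠ 1 ∧ ρ t v = v ∧ ∀ g : G, ρ g v = v → g = 1 ∨ g = t := by
  have h2 := hstab v hv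
  rw [Nat.card_eq_two_iff] at h2
  obtain ⟨⟨x, hx⟩, ⟨y, hy⟩, hxy, huniv⟩ := h2
  have hall : ∀ g : G, ρ g v = v → g = x ∨ g = y := by
    intro g hg
    have : (⟨g, hg⟩ : {g : G // ρ g v = v}) ∈ ({⟨x, hx⟩, ⟨y, hy⟩} : Set _) := by
      rw [huniv]; exact Set.mem_univ _
    rcases this with h | h
    · left; exact congrArg Subtype.val h
    · right; exact congrArg Subtype.val h
  have h1 : ρ (1 : G) v = v := by simp
  have hxy' : x ≠ y := fun h => hxy (Subtype.ext h)
  rcases hall 1 h1 with h | h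
  · refine ⟨y, ?_, hy, ?_⟩
    · rw [h]; exact hxy'.symm
    · intro g hg
      rcases hall g hg with h' | h'
      · left; rw [h', h]
      · right; exact h'
  · refine ⟨x, ?_, hx, ?_⟩
    · rw [h]; exact hxy'
    · intro g hg
      rcases hall g hg with h' | h'
      · right; exact h'
      · left; rw [h', h]

/-- two nonidentity elements fixing a common nonzero vector are equal -/
theorem stab_unique
    (hstab : ∀ v : V, v ≠ 0 → Nat.card {g : G // ρ g v = v} = 2) (v : V) (hv : v ≠ 0)
    (s t : G) (hs : s ≠ 1) (ht : t ≠ 1) (hsv : ρ s v = v) (htv : ρ t v = v) : s = t := by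
  obtain ⟨t', _, _, hall⟩ := stab_struct ρ hstab v hv
  rcases hall s hsv with h | h
  · exact absurd h hs
  rcases hall t htv with h' | h'
  · exact absurd h' ht
  rw [h, h']

/-- a nonidentity element fixing a nonzero vector is an involution -/
theorem stab_sq
    (hstab : ∀ v : V, v ≠ 0 → Nat.card {g : G // ρ g v = v} = 2) (v : V) (hv : v ≠ 0)
    (t : G) (ht : t ≠ 1) (htv : ρ t v = v) : t * t = 1 := by
  by_contra hne
  have h1 : ρ (t * t) v = v := by rw [map_mul, LinearEquiv.mul_apply, htv, htv]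
  have := stab_unique ρ hstab v hv (t * t) t hne ht h1 htv
  apply ht
  have h2 : t * t = t * 1 := by rw [mul_one]; exact this
  exact mul_left_cancel h2

/-- a central involution negates every vector -/
theorem central_neg (hρ : Function.Injective ρ)
    (hstab : ∀ v : V, v ≠ 0 → Nat.card {g : G // ρ g v = v} = 2)
    (z : G) (hz1 : z ≠ 1) (hz2 : z * z = 1) (hzc : z ∈ Subgroup.center G) :
    ∀ w : V, ρ z w = -w := by
  have hzz : ∀ w : V, ρ z (ρ z w) = w := by
    intro w
    rw [← LinearEquiv.mul_apply, ← map_mul, hz2, map_one]; rfl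
  -- every vector is fixed or negated
  have hor : ∀ w : V, ρ z w = w ∨ ρ z w = -w := by
    intro w
    by_cases hw : ρ z w = w
    · left; exact hw
    right
    have hw0 : w ≠ 0 := by
      intro h; apply hw; rw [h, map_zero]
    obtain ⟨t, ht1, htw, _⟩ := stab_struct ρ hstab w hw0
    have htz : t ≠ z := by
      intro h; rw [h] at htw; exact hw htw
    have hcomm : ∀ u : V, ρ t (ρ z u) = ρ z (ρ t u) := by
      intro u
      rw [← LinearEquiv.mul_apply, ← LinearEquiv.mul_apply, ← map_mul, ← map_mul,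
        Subgroup.mem_center_iff.mp hzc t]
    by_contra hneg
    have hw' : w + ρ z w ≠ 0 := by
      intro h; apply hneg
      exact (eq_neg_of_add_eq_zero_right h)
    have hzfix : ρ z (w + ρ z w) = w + ρ z w := by
      rw [map_add, hzz, add_comm]
    have htfix : ρ t (w + ρ z w) = w + ρ z w := by
      rw [map_add, hcomm, htw]
    exact htz (stab_unique ρ hstab _ hw' t z ht1 hz1 htfix hzfix)
  -- not all fixed
  by_contra hcon
  push_neg at hcon
  obtain ⟨a, ha⟩ := hcon
  have ha' : ρ z a = a := (hor a).resolve_right ha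
  by_cases hall : ∀ w : V, ρ z w = w
  · apply hz1
    apply hρ
    ext w
    rw [hall w, map_one]; rfl
  push_neg at hall
  obtain ⟨b, hb⟩ := hall
  have hb' : ρ z b = -b := (hor b).resolve_left hb
  rcases hor (a + b) with h | h
  · rw [map_add, ha', hb'] at h
    have : -b = b := add_left_cancel h
    exact hb (hb'.trans this)
  · rw [map_add, ha', hb', neg_add] at h
    have : a = -a := add_right_cancel h
    exact ha (ha'.trans this)

/-- the fixed space of an element -/
def fixSp (t : G) : Submodule (ZMod q) V :=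
  LinearMap.eqLocus ((ρ t : V ≃ₗ[ZMod q] V) : V →ₗ[ZMod q] V) LinearMap.id

theorem mem_fixSp (t : G) (v : V) : v ∈ fixSp ρ t ↔ ρ t v = v := by
  unfold fixSp
  rw [LinearMap.mem_eqLocus]
  rfl

/-- `2 ≠ 0` in the field -/
theorem two_ne_zero' (hρ : Function.Injective ρ)
    (z : G) (hz1 : z ≠ 1) (hneg : ∀ w : V, ρ z w = -w) : (2 : ZMod q) ≠ 0 := by
  intro h2
  apply hz1
  apply hρ
  ext w
  rw [hneg, map_one]
  have : (2 : ZMod q) • w = 0 := by rw [h2, zero_smul]
  rw [two_smul] at this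
  show -w = w
  exact neg_eq_of_add_eq_zero_left this

theorem ne_neg_self (h2 : (2 : ZMod q) ≠ 0) (v : V) (hv : v ≠ 0) : v ≠ -v := by
  intro h
  have h3 : (2 : ZMod q) • v = 0 := by
    rw [two_smul]
    nth_rewrite 1 [h]
    exact neg_add_cancel v
  rcases smul_eq_zero.mp h3 with h4 | h4
  · exact h2 h4
  · exact hv h4

/-- T1 -/
theorem nci_of_fix (hρ : Function.Injective ρ)
    (hstab : ∀ v : V, v ≠ 0 → Nat.card {g : G // ρ g v = v} = 2) (v : V) (hv : v ≠ 0)
    (t : G) (ht : t ≠ 1) (htv : ρ t v = v) : orderOf t = 2 ∧ t ∉ Subgroup.center G := by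
  have hsq := stab_sq ρ hstab v hv t ht htv
  refine ⟨orderOf_eq_prime (by rw [pow_two]; exact hsq) ht, ?_⟩
  intro hc
  have hneg := central_neg ρ hρ hstab t ht hsq hc
  have h2 := two_ne_zero' ρ hρ t ht hneg
  apply ne_neg_self h2 v hv
  rw [← hneg v, htv]

theorem sq_of_order_two (t : G) (ht : orderOf t = 2) : t * t = 1 := by
  have := pow_orderOf_eq_one t
  rwa [ht, pow_two] at this

theorem ne_one_of_order_two (t : G) (ht : orderOf t = 2) : t ≠ 1 := by
  intro h; rw [h, orderOf_one] at ht; omega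

theorem apply_apply_of_sq (t : G) (ht : t * t = 1) (w : V) : ρ t (ρ t w) = w := by
  rw [← LinearEquiv.mul_apply, ← map_mul, ht, map_one]; rfl

/-- T2 -/
theorem fixSp_ne_bot (hρ : Function.Injective ρ)
    (z : G) (hneg : ∀ w : V, ρ z w = -w) (t : G) (ht : t * t = 1) (htz : t ≠ z) :
    fixSp ρ t ≠ ⊥ := by
  have hex : ∃ w : V, ρ t w ≠ -w := by
    by_contra hcon
    push_neg at hcon
    apply htz
    apply hρ
    ext w
    rw [hcon w, hneg w]
  obtain ⟨w, hw⟩ := hex
  intro hbot
  have hmem : w + ρ t w ∈ fixSp ρ t := by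
    rw [mem_fixSp, map_add, apply_apply_of_sq ρ t ht, add_comm]
  rw [hbot, Submodule.mem_bot] at hmem
  apply hw
  exact (eq_neg_of_add_eq_zero_right hmem)

/-- T3 -/
theorem nci_mul (z : G) (hz : orderOf z = 2) (hzc : z ∈ Subgroup.center G)
    (t : G) (ht : orderOf t = 2 ∧ t ∉ Subgroup.center G) :
    orderOf (t * z) = 2 ∧ t * z ∉ Subgroup.center G := by
  have hzz := sq_of_order_two z hz
  have htt := sq_of_order_two t ht.1
  have hcomm : z * t = t * z := (Subgroup.mem_center_iff.mp hzc t).symm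
  constructor
  · apply orderOf_eq_prime
    · rw [pow_two]
      calc t * z * (t * z) = t * (z * t) * z := by group
        _ = t * (t * z) * z := by rw [hcomm]
        _ = (t * t) * (z * z) := by group
        _ = 1 := by rw [htt, hzz, mul_one]
    · intro h
      apply ht.2
      have : t = z := by
        have h2 : t * z = z * z := by rw [h, hzz]
        exact mul_right_cancel h2
      rw [this]; exact hzc
  · intro hc
    apply ht.2
    have : t = (t * z) * z := by rw [mul_assoc, hzz, mul_one]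
    rw [this]
    exact Subgroup.mul_mem _ hc hzc

/-- T4 -/
theorem mem_fixSp_mul (z : G) (hneg : ∀ w : V, ρ z w = -w) (t : G) (v : V) :
    v ∈ fixSp ρ (t * z) ↔ ρ t v = -v := by
  rw [mem_fixSp, map_mul, LinearEquiv.mul_apply, hneg, map_neg, neg_eq_iff_eq_neg]

/-- T5 -/
theorem isCompl_fixSp (h2 : (2 : ZMod q) ≠ 0) (z : G) (hneg : ∀ w : V, ρ z w = -w)
    (t : G) (ht : t * t = 1) : IsCompl (fixSp ρ t) (fixSp ρ (t * z)) := by
  constructor
  · rw [Submodule.disjoint_def]
    intro v hv1 hv2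
    rw [mem_fixSp] at hv1
    rw [mem_fixSp_mul ρ z hneg] at hv2
    by_contra hv0
    exact ne_neg_self h2 v hv0 (hv1.symm.trans hv2)
  · rw [codisjoint_iff, Submodule.eq_top_iff']
    intro v
    rw [Submodule.mem_sup]
    refine ⟨(2 : ZMod q)⁻¹ • (v + ρ t v), ?_, (2 : ZMod q)⁻¹ • (v - ρ t v), ?_, ?_⟩
    · rw [mem_fixSp, map_smul, map_add, apply_apply_of_sq ρ t ht, add_comm]
    · rw [mem_fixSp_mul ρ z hneg, map_smul, map_sub, apply_apply_of_sq ρ t ht, ← smul_neg, neg_sub]
    · rw [← smul_add, add_add_sub_cancel, ← two_smul (ZMod q) v, smul_smul, inv_mul_cancel₀ h2, one_smul]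

/-- T6 -/
theorem disjoint_fixSp
    (hstab : ∀ v : V, v ≠ 0 → Nat.card {g : G // ρ g v = v} = 2)
    (s t : G) (hs : s ≠ 1) (ht : t ≠ 1) (hst : s ≠ t) : Disjoint (fixSp ρ s) (fixSp ρ t) := by
  rw [Submodule.disjoint_def]
  intro v hv1 hv2
  rw [mem_fixSp] at hv1 hv2
  by_contra hv0
  exact hst (stab_unique ρ hstab v hv0 s t hs ht hv1 hv2)

theorem card_ne_add_one {α : Type*} [Finite α] (a : α) : Nat.card {b : α // b ≠ a} + 1 = Nat.card α := by
  classical
  rw [← Finite.card_option, Nat.card_congr (Equiv.optionSubtypeNe a)]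

end

/-- Let G be a finite group acting faithfully and linearly on a non-trivial finite vector space V over the field with q elements (q prime) so that every non-zero vector has a stabilizer of order 2, and suppose G has a central involution. Then V has q^(2r) elements for some r and G contains exactly q^r + 1 non-central involutions. -/
theorem result
    (q : ℕ) [Fact q.Prime] {V : Type*} [AddCommGroup V] [Module (ZMod q) V] [Finite V] [Nontrivial V]
    {G : Type*} [Group G] [Finite G] (ρ : G →* (V ≃ₗ[ZMod q] V)) (hρ : Function.Injective ρ)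
    (hstab : ∀ v : V, v ≠ 0 → Nat.card {g : G // ρ g v = v} = 2)
    (z : G) (hz : orderOf z = 2) (hzc : z ∈ Subgroup.center G) :
    ∃ r : ℕ, Nat.card V = q ^ (2 * r) ∧
      Nat.card {g : G // orderOf g = 2 ∧ g ∉ Subgroup.center G} = q ^ r + 1 := by
  classical
  have hz1 : z ≠ 1 := ne_one_of_order_two z hz
  have hzz := sq_of_order_two z hz
  have hneg := central_neg ρ hρ hstab z hz1 hzz hzc
  have h2 := two_ne_zero' ρ hρ z hz1 hneg
  have hsum : ∀ t : G, t * t = 1 →
      Module.finrank (ZMod q) (fixSp ρ t) + Module.finrank (ZMod q) (fixSp ρ (t * z))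
        = Module.finrank (ZMod q) V :=
    fun t ht => Submodule.finrank_add_eq_of_isCompl (isCompl_fixSp ρ h2 z hneg t ht)
  have hle : ∀ s t : G, s ≠ 1 → t ≠ 1 → s ≠ t →
      Module.finrank (ZMod q) (fixSp ρ s) + Module.finrank (ZMod q) (fixSp ρ t)
        ≤ Module.finrank (ZMod q) V :=
    fun s t hs ht hst => Submodule.finrank_add_finrank_le_of_disjoint (disjoint_fixSp ρ hstab s t hs ht hst)
  have hpos : ∀ t : G, t * t = 1 → t ≠ z → 0 < Module.finrank (ZMod q) (fixSp ρ t) := by
    intro t ht htz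
    have := fixSp_ne_bot ρ hρ z hneg t ht htz
    rw [Module.finrank_pos_iff]
    exact Submodule.nontrivial_iff_ne_bot.mpr this
  have hno : ∀ t : G, (orderOf t = 2 ∧ t ∉ Subgroup.center G) →
      ¬ (Module.finrank (ZMod q) V < 2 * Module.finrank (ZMod q) (fixSp ρ t)) := by
    intro t ht hgt
    have htt := sq_of_order_two t ht.1
    have ht1 := ne_one_of_order_two t ht.1
    have htz := nci_mul z hz hzc t ht
    have honly : ∀ s : G, (orderOf s = 2 ∧ s ∉ Subgroup.center G) → s = t ∨ s = t * z := by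
      intro s hs
      by_contra hcon
      push_neg at hcon
      have hss := sq_of_order_two s hs.1
      have hs1 := ne_one_of_order_two s hs.1
      have hsz := nci_mul z hz hzc s hs
      have h1 := hle s t hs1 ht1 hcon.1
      have hszt : s * z ≠ t := by
        intro h; apply hcon.2; rw [← h, mul_assoc, hzz, mul_one]
      have h3 := hle (s * z) t (ne_one_of_order_two _ hsz.1) ht1 hszt
      have h4 := hsum s hss
      omega
    have hunion : ∀ v : V, v ∈ fixSp ρ t ∨ v ∈ fixSp ρ (t * z) := by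
      intro v
      by_cases hv : v = 0
      · left; rw [hv]; exact Submodule.zero_mem _
      obtain ⟨s, hs1, hsv, _⟩ := stab_struct ρ hstab v hv
      have hs := nci_of_fix ρ hρ hstab v hv s hs1 hsv
      rcases honly s hs with h | h
      · left; rw [mem_fixSp, ← h]; exact hsv
      · right; rw [mem_fixSp, ← h]; exact hsv
    have hc := isCompl_fixSp ρ h2 z hneg t htt
    have hpos1 : fixSp ρ t ≠ ⊥ :=
      fixSp_ne_bot ρ hρ z hneg t htt (by intro h; apply ht.2; rw [h]; exact hzc)
    have hpos2 : fixSp ρ (t * z) ≠ ⊥ :=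
      fixSp_ne_bot ρ hρ z hneg (t * z) (sq_of_order_two _ htz.1)
        (by intro h; apply htz.2; rw [h]; exact hzc)
    obtain ⟨b, hb, hb0⟩ := Submodule.exists_mem_ne_zero_of_ne_bot hpos1
    obtain ⟨c, hc', hc0⟩ := Submodule.exists_mem_ne_zero_of_ne_bot hpos2
    have hb' : b ∉ fixSp ρ (t * z) := fun h => hb0 (Submodule.disjoint_def.mp hc.disjoint b hb h)
    have hc'' : c ∉ fixSp ρ t := fun h => hc0 (Submodule.disjoint_def.mp hc.disjoint c h hc')
    rcases hunion (b + c) with h | h
    · exact hc'' ((Submodule.add_mem_iff_right _ hb).mp h)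
    · exact hb' ((Submodule.add_mem_iff_left _ hc').mp h)
  have hkey : ∀ t : G, (orderOf t = 2 ∧ t ∉ Subgroup.center G) →
      Module.finrank (ZMod q) V = 2 * Module.finrank (ZMod q) (fixSp ρ t) := by
    intro t ht
    have h1 := hno t ht
    have h2' := hno (t * z) (nci_mul z hz hzc t ht)
    have h3 := hsum t (sq_of_order_two t ht.1)
    omega
  obtain ⟨v0, hv0⟩ := exists_ne (0 : V)
  obtain ⟨t0, ht01, ht0v, _⟩ := stab_struct ρ hstab v0 hv0
  have ht0 := nci_of_fix ρ hρ hstab v0 hv0 t0 ht01 ht0v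
  have hq2 : 2 ≤ q := (Fact.out : q.Prime).two_le
  have hcardV : Nat.card V = q ^ (2 * Module.finrank (ZMod q) (fixSp ρ t0)) := by
    rw [Module.natCard_eq_pow_finrank (K := ZMod q), Nat.card_zmod, hkey t0 ht0]
  refine ⟨Module.finrank (ZMod q) (fixSp ρ t0), hcardV, ?_⟩
  have hcardfix : ∀ t : G, (orderOf t = 2 ∧ t ∉ Subgroup.center G) →
      Nat.card (fixSp ρ t) = q ^ Module.finrank (ZMod q) (fixSp ρ t0) := by
    intro t ht
    rw [Module.natCard_eq_pow_finrank (K := ZMod q), Nat.card_zmod]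
    congr 1
    have h1 := hkey t ht
    have h2' := hkey t0 ht0
    omega
  set m := q ^ Module.finrank (ZMod q) (fixSp ρ t0) with hm
  let Φ : (Σ t : {g : G // orderOf g = 2 ∧ g ∉ Subgroup.center G}, {v : fixSp ρ t.1 // v ≠ 0}) →
      {v : V // v ≠ 0} :=
    fun x => ⟨x.2.1.1, fun h => x.2.2 (Subtype.ext h)⟩
  have hΦinj : Function.Injective Φ := by
    rintro ⟨t, ⟨⟨v, hv⟩, hne⟩⟩ ⟨t', ⟨⟨v', hv'⟩, hne'⟩⟩ h
    have hvv : v = v' := congrArg Subtype.val h
    subst hvv
    have hv0 : v ≠ 0 := fun h0 => hne (Subtype.ext h0)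
    have htt' : t = t' := by
      apply Subtype.ext
      exact stab_unique ρ hstab v hv0 t.1 t'.1 (ne_one_of_order_two _ t.2.1)
        (ne_one_of_order_two _ t'.2.1) ((mem_fixSp ρ _ _).mp hv) ((mem_fixSp ρ _ _).mp hv')
    subst htt'
    rfl
  have hΦsurj : Function.Surjective Φ := by
    rintro ⟨v, hv⟩
    obtain ⟨s, hs1, hsv, _⟩ := stab_struct ρ hstab v hv
    have hs := nci_of_fix ρ hρ hstab v hv s hs1 hsv
    exact ⟨⟨⟨s, hs⟩, ⟨⟨v, (mem_fixSp ρ s v).mpr hsv⟩, fun h => hv (congrArg Subtype.val h)⟩⟩, rfl⟩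
  have hcard := Nat.card_eq_of_bijective Φ ⟨hΦinj, hΦsurj⟩
  haveI : Fintype {g : G // orderOf g = 2 ∧ g ∉ Subgroup.center G} := Fintype.ofFinite _
  rw [Nat.card_sigma] at hcard
  have hterm : ∀ t : {g : G // orderOf g = 2 ∧ g ∉ Subgroup.center G},
      Nat.card {v : fixSp ρ t.1 // v ≠ 0} = m - 1 := by
    intro t
    have := card_ne_add_one (0 : fixSp ρ t.1)
    rw [hcardfix t.1 t.2] at this
    omega
  rw [Finset.sum_congr rfl (fun t _ => hterm t), Finset.sum_const, Finset.card_univ, smul_eq_mul,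
    ← Nat.card_eq_fintype_card] at hcard
  have hV1 := card_ne_add_one (0 : V)
  rw [hcardV, pow_mul', ← hm] at hV1
  have hm2 : 2 ≤ m := by
    have hr : 0 < Module.finrank (ZMod q) (fixSp ρ t0) :=
      hpos t0 (sq_of_order_two t0 ht0.1) (by intro h; apply ht0.2; rw [h]; exact hzc)
    calc 2 ≤ q := hq2
      _ = q ^ 1 := (pow_one q).symm
      _ ≤ m := Nat.pow_le_pow_right (by omega) hr
  -- card T * (m - 1) + 1 = m ^ 2
  have h5 : Nat.card {g : G // orderOf g = 2 ∧ g ∉ Subgroup.center G} * (m - 1) + 1 = m ^ 2 := by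
    rw [hcard]; exact hV1
  have h6' : ∀ m' : ℕ, 2 ≤ m' → (m' + 1) * (m' - 1) + 1 = m' ^ 2 := by
    intro m' hm'
    obtain ⟨k, rfl⟩ : ∃ k, m' = k + 1 := ⟨m' - 1, by omega⟩
    simp only [Nat.add_sub_cancel]
    ring
  have h6 := h6' m hm2
  have h7 : Nat.card {g : G // orderOf g = 2 ∧ g ∉ Subgroup.center G} * (m - 1) = (m + 1) * (m - 1) := by
    omega
  exact Nat.eq_of_mul_eq_mul_right (by omega) h7

end Cfsg.Agent.S3381
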