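import Cfsg.Statements.S3382
import Cfsg.Agent.Helper56.AutChain
import Cfsg.Agent.Helper56.Monomial2

set_option autoImplicit false
open Cfsg
open Cfsg.Agent.Helper56
open Cfsg.Agent.Helper56.Mono

namespace Cfsg.Agent.S3382

section concrete

variable {q : ℕ} [hqf : Fact q.Prime]
  (T : Subgroup ((Fin 2 → ZMod q) ≃ₗ[ZMod q] (Fin 2 → ZMod q)))
  (hT : ∀ f, f ∈ T ↔ ∃ a s : ZMod q, a ≠ 0 ∧ (s = 1 ∨ s = -1) ∧
      ((∀ v, f v = ![a * v 0, s * a⁻¹ * v 1]) ∨ (∀ v, f v = ![s * a⁻¹ * v 1, a * v 0])))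

include hT

theorem T_cases {f : E q} (hf : f ∈ T) :
    ∃ a b : (ZMod q)ˣ, (a * b = 1 ∨ a * b = -1) ∧ (f = Dg a b ∨ f = Nn a b) := by
  obtain ⟨a, s, ha, hs, hform⟩ := (hT f).1 hf
  obtain ⟨us, hus, hus'⟩ : ∃ us : (ZMod q)ˣ, (us : ZMod q) = s ∧ (us = 1 ∨ us = -1) := by
    rcases hs with rfl | rfl
    · exact ⟨1, rfl, Or.inl rfl⟩
    · exact ⟨-1, by simp, Or.inr rfl⟩
  refine ⟨Units.mk0 a ha, us * (Units.mk0 a ha)⁻¹, ?_, ?_⟩
  · rw [mul_comm us, ← mul_assoc, mul_inv_cancel, one_mul]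
    exact hus'
  · have hb : ((us * (Units.mk0 a ha)⁻¹ : (ZMod q)ˣ) : ZMod q) = s * a⁻¹ := by
      rw [Units.val_mul, hus, Units.val_inv_eq_inv_val, Units.val_mk0]
    rcases hform with h | h
    · left
      ext v i
      rw [h, Dg_apply, hb, Units.val_mk0]
    · right
      ext v i
      rw [h, Nn_apply, hb, Units.val_mk0]

theorem memT_of {a b : (ZMod q)ˣ} (hab : a * b = 1 ∨ a * b = -1) : Dg a b ∈ T ∧ Nn a b ∈ T := by
  have hs : ((a * b : (ZMod q)ˣ) : ZMod q) = 1 ∨ ((a * b : (ZMod q)ˣ) : ZMod q) = -1 := by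
    rcases hab with h | h
    · left; rw [h]; rfl
    · right; rw [h]; simp
  have hb : ((a * b : (ZMod q)ˣ) : ZMod q) * (a : ZMod q)⁻¹ = b := by
    rw [Units.val_mul, mul_comm, ← mul_assoc, inv_mul_cancel₀ a.ne_zero, one_mul]
  constructor
  · rw [hT]
    refine ⟨a, ((a * b : (ZMod q)ˣ) : ZMod q), a.ne_zero, hs, Or.inl ?_⟩
    intro v
    rw [Dg_apply, hb]
  · rw [hT]
    refine ⟨a, ((a * b : (ZMod q)ˣ) : ZMod q), a.ne_zero, hs, Or.inr ?_⟩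
    intro v
    rw [Nn_apply, hb]

theorem Dg_memT_iff {a b : (ZMod q)ˣ} : Dg a b ∈ T ↔ (a * b = 1 ∨ a * b = -1) := by
  have : Fact (1 < q) := ⟨hqf.out.one_lt⟩
  constructor
  · intro h
    obtain ⟨c, d, hcd, h1 | h1⟩ := T_cases T hT h
    · obtain ⟨rfl, rfl⟩ := Dg_injective h1
      exact hcd
    · exact absurd h1 (Dg_ne_Nn _ _ _ _)
  · intro h
    exact (memT_of T hT h).1

theorem Nn_memT_iff {a b : (ZMod q)ˣ} : Nn a b ∈ T ↔ (a * b = 1 ∨ a * b = -1) := by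
  have : Fact (1 < q) := ⟨hqf.out.one_lt⟩
  constructor
  · intro h
    obtain ⟨c, d, hcd, h1 | h1⟩ := T_cases T hT h
    · exact absurd h1.symm (Dg_ne_Nn _ _ _ _)
    · obtain ⟨rfl, rfl⟩ := Nn_injective h1
      exact hcd
  · intro h
    exact (memT_of T hT h).2

omit hT in
theorem finite_E : Finite (E q) :=
  Finite.of_injective (fun f : E q => (f : Vec q → Vec q)) DFunLike.coe_injective

omit hT in
theorem units_sq_eq_one {u : (ZMod q)ˣ} (h : u ^ 2 = 1) : u = 1 ∨ u = -1 := by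
  have h1 : (u : ZMod q) * (u : ZMod q) = 1 := by
    rw [← Units.val_mul, ← pow_two, h]; rfl
  rcases mul_self_eq_one_iff.1 h1 with h2 | h2
  · left; exact Units.ext h2
  · right; exact Units.ext (by rw [h2]; simp)

/-- coercion helpers -/
theorem coe_cases (x : T) :
    ∃ a b : (ZMod q)ˣ, (a * b = 1 ∨ a * b = -1) ∧ ((x : E q) = Dg a b ∨ (x : E q) = Nn a b) :=
  T_cases T hT x.2

end concrete

section arith

variable {q : ℕ} [hqf : Fact q.Prime] (m : ℕ) (hq : q = 2 ^ m + 1)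

include hq

theorem two_h (hm : 1 ≤ m) : 2 * 2 ^ (m - 1) = q - 1 := by
  obtain ⟨k, rfl⟩ : ∃ k, m = k + 1 := ⟨m - 1, by omega⟩
  rw [hq, Nat.add_sub_cancel, Nat.add_sub_cancel, pow_succ]
  ring

theorem q_half (hm : 1 ≤ m) : q / 2 = 2 ^ (m - 1) := by
  have := two_h m hq hm
  have hq1 : 1 ≤ q := hqf.out.pos
  omega

omit hq hqf in
theorem h_even (hm : 2 ≤ m) : Even (2 ^ (m - 1)) := by
  obtain ⟨k, rfl⟩ : ∃ k, m = k + 2 := ⟨m - 2, by omega⟩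
  have : k + 2 - 1 = k + 1 := by omega
  rw [this, pow_succ]
  exact even_two.mul_left _

theorem pow_h_sq (hm : 1 ≤ m) (a : (ZMod q)ˣ) : (a ^ 2 ^ (m - 1)) ^ 2 = 1 := by
  rw [← pow_mul, mul_comm, two_h m hq hm, ZMod.units_pow_card_sub_one_eq_one]

theorem pow_h_cases (hm : 1 ≤ m) (a : (ZMod q)ˣ) : a ^ 2 ^ (m - 1) = 1 ∨ a ^ 2 ^ (m - 1) = -1 :=
  units_sq_eq_one (pow_h_sq m hq hm a)

omit hq in
theorem sign_pow_h (hm : 2 ≤ m) {s : (ZMod q)ˣ} (hs : s = 1 ∨ s = -1) : s ^ 2 ^ (m - 1) = 1 := by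
  rcases hs with rfl | rfl
  · exact one_pow _
  · exact (h_even m hm).neg_one_pow

theorem exists_sqrt (hm : 1 ≤ m) {c : (ZMod q)ˣ} (hc : c ^ 2 ^ (m - 1) = 1) : ∃ e : (ZMod q)ˣ, e ^ 2 = c := by
  rw [ZMod.euler_criterion_units, q_half m hq hm]
  exact hc

theorem exists_noninvolution (hm : 3 ≤ m) : ∃ c : (ZMod q)ˣ, c ^ 2 ^ (m - 1) = 1 ∧ c ≠ c⁻¹ := by
  obtain ⟨g, hg⟩ := IsCyclic.exists_generator (α := (ZMod q)ˣ)
  have hord : orderOf g = q - 1 := by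
    rw [orderOf_eq_card_of_forall_mem_zpowers hg, Nat.card_eq_fintype_card, ZMod.card_units]
  refine ⟨g ^ 2, ?_, ?_⟩
  · rw [← pow_mul, two_h m hq (by omega), ZMod.units_pow_card_sub_one_eq_one]
  · intro hcon
    have h4 : g ^ 4 = 1 := by
      have : g ^ 2 * g ^ 2 = 1 := by
        nth_rewrite 2 [hcon]
        exact mul_inv_cancel _
      rw [← this, ← pow_add]
    have hdvd := orderOf_dvd_of_pow_eq_one h4
    rw [hord, ← two_h m hq (by omega)] at hdvd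
    have h8 : 8 ≤ 2 * 2 ^ (m - 1) := by
      obtain ⟨k, rfl⟩ : ∃ k, m = k + 3 := ⟨m - 3, by omega⟩
      have : k + 3 - 1 = k + 2 := by omega
      rw [this, pow_add]
      have : 1 ≤ 2 ^ k := Nat.one_le_two_pow
      omega
    have := Nat.le_of_dvd (by norm_num) hdvd
    omega

end arith

section big

variable {q : ℕ} [hqf : Fact q.Prime] (m : ℕ) (hq : q = 2 ^ m + 1)
  (T : Subgroup (E q))
  (hT : ∀ f, f ∈ T ↔ ∃ a s : ZMod q, a ≠ 0 ∧ (s = 1 ∨ s = -1) ∧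
      ((∀ v, f v = ![a * v 0, s * a⁻¹ * v 1]) ∨ (∀ v, f v = ![s * a⁻¹ * v 1, a * v 0])))

/-- the subgroup of squares -/
def K1 : Subgroup T where
  carrier := {x | ∃ c : (ZMod q)ˣ, c ^ 2 ^ (m - 1) = 1 ∧ (x : E q) = Dg c c⁻¹}
  one_mem' := ⟨1, one_pow _, by rw [Subgroup.coe_one, inv_one, Dg_one]⟩
  mul_mem' := by
    rintro x y ⟨c, hc, hx⟩ ⟨d, hd, hy⟩
    exact ⟨c * d, by rw [mul_pow, hc, hd, one_mul], by rw [Subgroup.coe_mul, hx, hy, Dg_mul_Dg, mul_inv]⟩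
  inv_mem' := by
    rintro x ⟨c, hc, hx⟩
    exact ⟨c⁻¹, by rw [inv_pow, hc, inv_one], by rw [Subgroup.coe_inv, hx, Dg_inv]⟩

theorem mem_K1 {x : T} : x ∈ K1 m T ↔ ∃ c : (ZMod q)ˣ, c ^ 2 ^ (m - 1) = 1 ∧ (x : E q) = Dg c c⁻¹ :=
  Iff.rfl

include hq hT

theorem mem_K1_iff_sq (hm : 2 ≤ m) (x : T) : x ∈ K1 m T ↔ ∃ y : T, x = y ^ 2 := by
  constructor
  · rintro ⟨c, hc, hx⟩
    obtain ⟨e, rfl⟩ := exists_sqrt m hq (by omega) hc
    have he : Dg e e⁻¹ ∈ T := (memT_of T hT (Or.inl (mul_inv_cancel e))).1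
    refine ⟨⟨Dg e e⁻¹, he⟩, ?_⟩
    apply Subtype.ext
    rw [hx, Subgroup.coe_pow, Dg_pow, inv_pow]
  · rintro ⟨y, rfl⟩
    obtain ⟨a, b, hab, hy | hy⟩ := coe_cases T hT y
    · refine ⟨a ^ 2, ?_, ?_⟩
      · rw [← pow_mul, two_h m hq (by omega), ZMod.units_pow_card_sub_one_eq_one]
      · rw [Subgroup.coe_pow, hy, Dg_pow]
        congr 1
        have : a ^ 2 * b ^ 2 = 1 := by
          rw [← mul_pow]
          rcases hab with h | h <;> rw [h] <;> simp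
        exact eq_inv_of_mul_eq_one_right this
    · refine ⟨a * b, sign_pow_h m (by omega) hab, ?_⟩
      rw [Subgroup.coe_pow, hy, pow_two, Nn_mul_Nn, mul_comm b a]
      congr 1
      rcases hab with h | h <;> rw [h] <;> simp

theorem autInv_K1 (hm : 2 ≤ m) : AutInv (K1 m T) := by
  intro α x hx
  rw [mem_K1_iff_sq m hq T hT hm] at hx ⊢
  obtain ⟨y, rfl⟩ := hx
  exact ⟨α y, map_pow α y 2⟩

theorem mem_centralizer_K1 (hm : 3 ≤ m) (x : T) :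
    x ∈ Subgroup.centralizer (K1 m T : Set T) ↔ ∃ a b : (ZMod q)ˣ, (x : E q) = Dg a b := by
  constructor
  · intro hx
    obtain ⟨a, b, hab, h | h⟩ := coe_cases T hT x
    · exact ⟨a, b, h⟩
    · exfalso
      obtain ⟨c, hc, hcc⟩ := exists_noninvolution m hq hm
      have hk : Dg c c⁻¹ ∈ T := (memT_of T hT (Or.inl (mul_inv_cancel c))).1
      have hk1 : (⟨Dg c c⁻¹, hk⟩ : T) ∈ K1 m T := ⟨c, hc, rfl⟩
      have := Subgroup.mem_centralizer_iff.1 hx _ hk1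
      have h2 := congrArg (fun t : T => (t : E q)) this
      simp only [Subgroup.coe_mul, h, Dg_mul_Nn, Nn_mul_Dg] at h2
      obtain ⟨h3, _⟩ := Nn_injective h2
      apply hcc
      rw [mul_comm] at h3
      exact (mul_left_cancel h3).symm
  · rintro ⟨a, b, h⟩
    rw [Subgroup.mem_centralizer_iff]
    rintro y ⟨c, _, hy⟩
    apply Subtype.ext
    rw [Subgroup.coe_mul, Subgroup.coe_mul, h, hy, Dg_mul_Dg, Dg_mul_Dg, mul_comm c a, mul_comm c⁻¹ b]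

/-- exponent bound -/
theorem exp_bound (hm : 1 ≤ m) (x : T) : x ^ 2 ^ (m + 1) = 1 := by
  have h2 : 2 ^ (m + 1) = 2 * (q - 1) := by
    rw [← two_h m hq hm]
    obtain ⟨k, rfl⟩ : ∃ k, m = k + 1 := ⟨m - 1, by omega⟩
    rw [Nat.add_sub_cancel]; ring
  apply Subtype.ext
  rw [Subgroup.coe_pow, Subgroup.coe_one, h2]
  obtain ⟨a, b, hab, h | h⟩ := coe_cases T hT x
  · rw [h, pow_mul', Dg_pow, ZMod.units_pow_card_sub_one_eq_one, ZMod.units_pow_card_sub_one_eq_one,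
      Dg_one, one_pow]
  · rw [h, pow_mul, pow_two, Nn_mul_Nn, Dg_pow, ZMod.units_pow_card_sub_one_eq_one,
      ZMod.units_pow_card_sub_one_eq_one, Dg_one]

theorem isPGroup_T (hm : 1 ≤ m) : IsPGroup 2 T := fun x => ⟨m + 1, exp_bound m hq T hT hm x⟩

omit hq hT in
/-- `K1` is cyclic -/
theorem isCyclic_K1 : IsCyclic (K1 m T) := by
  let f : K1 m T →* ZMod q :=
    { toFun := fun x => (((x : T) : E q) ![1, 0]) 0
      map_one' := by simp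
      map_mul' := by
        rintro ⟨x, c, hc, hx⟩ ⟨y, d, hd, hy⟩
        show (((x * y : T) : E q) ![1, 0]) 0 = ((x : E q) ![1, 0]) 0 * ((y : E q) ![1, 0]) 0
        rw [Subgroup.coe_mul, hx, hy, Dg_mul_Dg, Dg_apply, Dg_apply, Dg_apply]
        show ((c * d : (ZMod q)ˣ) : ZMod q) * 1 = ((c : ZMod q) * 1) * ((d : ZMod q) * 1)
        rw [Units.val_mul]; ring }
  have : Finite (K1 m T) := by
    have := finite_E (q := q)
    infer_instance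
  apply isCyclic_of_injective_ringHom f
  rintro ⟨x, c, hc, hx⟩ ⟨y, d, hd, hy⟩ hxy
  have h1 : ((x : E q) ![1, 0]) 0 = ((y : E q) ![1, 0]) 0 := hxy
  rw [hx, hy, Dg_apply, Dg_apply] at h1
  have h1' : (c : ZMod q) * 1 = (d : ZMod q) * 1 := h1
  rw [mul_one, mul_one] at h1'
  have hcd : c = d := Units.ext h1'
  apply Subtype.ext
  apply Subtype.ext
  show (x : E q) = y
  rw [hx, hy, hcd]

/-- the diagonal elements of exponent `2^(m-1)` -/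
def K2 : Subgroup T where
  carrier := {x | ∃ a b : (ZMod q)ˣ, a ^ 2 ^ (m - 1) = 1 ∧ b ^ 2 ^ (m - 1) = 1 ∧ (x : E q) = Dg a b}
  one_mem' := ⟨1, 1, one_pow _, one_pow _, by rw [Subgroup.coe_one, Dg_one]⟩
  mul_mem' := by
    rintro x y ⟨a, b, ha, hb, hx⟩ ⟨c, d, hc, hd, hy⟩
    exact ⟨a * c, b * d, by rw [mul_pow, ha, hc, one_mul], by rw [mul_pow, hb, hd, one_mul],
      by rw [Subgroup.coe_mul, hx, hy, Dg_mul_Dg]⟩
  inv_mem' := by
    rintro x ⟨a, b, ha, hb, hx⟩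
    exact ⟨a⁻¹, b⁻¹, by rw [inv_pow, ha, inv_one], by rw [inv_pow, hb, inv_one],
      by rw [Subgroup.coe_inv, hx, Dg_inv]⟩

theorem mem_K2_iff (hm : 3 ≤ m) (x : T) :
    x ∈ K2 m T ↔ x ∈ Subgroup.centralizer (K1 m T : Set T) ∧ x ^ 2 ^ (m - 1) = 1 := by
  rw [mem_centralizer_K1 m hq T hT hm]
  constructor
  · rintro ⟨a, b, ha, hb, hx⟩
    refine ⟨⟨a, b, hx⟩, ?_⟩
    apply Subtype.ext
    rw [Subgroup.coe_pow, hx, Dg_pow, ha, hb, Dg_one, Subgroup.coe_one]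
  · rintro ⟨⟨a, b, hx⟩, hpow⟩
    have h1 := congrArg (fun t : T => (t : E q)) hpow
    simp only [Subgroup.coe_pow, Subgroup.coe_one, hx, Dg_pow] at h1
    rw [← Dg_one] at h1
    obtain ⟨ha, hb⟩ := Dg_injective h1
    exact ⟨a, b, ha, hb, hx⟩

theorem autInv_K2 (hm : 3 ≤ m) : AutInv (K2 m T) := by
  intro α x hx
  rw [mem_K2_iff m hq T hT hm] at hx ⊢
  refine ⟨autInv_centralizer (autInv_K1 m hq T hT (by omega)) α x hx.1, ?_⟩
  rw [← map_pow, hx.2, map_one]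

theorem coe_Dg_prod {x : T} {a b : (ZMod q)ˣ} (hx : (x : E q) = Dg a b) : a * b = 1 ∨ a * b = -1 := by
  have := x.2
  rw [hx] at this
  exact (Dg_memT_iff T hT).1 this

theorem step1 (hm : 3 ≤ m) : ∀ x ∈ K2 m T, ∀ y ∈ K2 m T, x ∉ K1 m T → y ∉ K1 m T → x⁻¹ * y ∈ K1 m T := by
  rintro x ⟨a, b, ha, hb, hx⟩ y ⟨c, d, hc, hd, hy⟩ hxK hyK
  have hab : a * b = -1 := by
    rcases coe_Dg_prod m hq T hT hx with h | h
    · exfalso
      apply hxK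
      refine ⟨a, ha, ?_⟩
      rw [hx, eq_inv_of_mul_eq_one_right h]
    · exact h
  have hcd : c * d = -1 := by
    rcases coe_Dg_prod m hq T hT hy with h | h
    · exfalso
      apply hyK
      refine ⟨c, hc, ?_⟩
      rw [hy, eq_inv_of_mul_eq_one_right h]
    · exact h
  refine ⟨a⁻¹ * c, by rw [mul_pow, inv_pow, ha, hc, inv_one, one_mul], ?_⟩
  rw [Subgroup.coe_mul, Subgroup.coe_inv, hx, hy, Dg_inv, Dg_mul_Dg]
  congr 1
  apply eq_inv_of_mul_eq_one_right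
  rw [mul_mul_mul_comm, ← mul_inv, hab, hcd]
  simp

theorem pow_h_pair (hm : 2 ≤ m) {a b : (ZMod q)ˣ} (hab : a * b = 1 ∨ a * b = -1)
    (hne : ¬ (a ^ 2 ^ (m - 1) = 1 ∧ b ^ 2 ^ (m - 1) = 1)) :
    a ^ 2 ^ (m - 1) = -1 ∧ b ^ 2 ^ (m - 1) = -1 := by
  have hprod : a ^ 2 ^ (m - 1) * b ^ 2 ^ (m - 1) = 1 := by
    rw [← mul_pow]; exact sign_pow_h m hm hab
  rcases pow_h_cases m hq (by omega) a with h | h
  · exfalso
    apply hne
    refine ⟨h, ?_⟩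
    rw [h, one_mul] at hprod
    exact hprod
  · refine ⟨h, ?_⟩
    rw [h] at hprod
    have : b ^ 2 ^ (m - 1) = (-1 : (ZMod q)ˣ)⁻¹ := eq_inv_of_mul_eq_one_right hprod
    rw [this]; simp

theorem step2 (hm : 3 ≤ m) : ∀ x ∈ Subgroup.centralizer (K1 m T : Set T),
    ∀ y ∈ Subgroup.centralizer (K1 m T : Set T), x ∉ K2 m T → y ∉ K2 m T → x⁻¹ * y ∈ K2 m T := by
  intro x hx y hy hxK hyK
  rw [mem_centralizer_K1 m hq T hT hm] at hx hy
  obtain ⟨a, b, hx⟩ := hx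
  obtain ⟨c, d, hy⟩ := hy
  obtain ⟨ha, hb⟩ := pow_h_pair m hq T hT (by omega) (coe_Dg_prod m hq T hT hx)
    (fun h => hxK ⟨a, b, h.1, h.2, hx⟩)
  obtain ⟨hc, hd⟩ := pow_h_pair m hq T hT (by omega) (coe_Dg_prod m hq T hT hy)
    (fun h => hyK ⟨c, d, h.1, h.2, hy⟩)
  refine ⟨a⁻¹ * c, b⁻¹ * d, ?_, ?_, ?_⟩
  · rw [mul_pow, inv_pow, ha, hc]; simp
  · rw [mul_pow, inv_pow, hb, hd]; simp
  · rw [Subgroup.coe_mul, Subgroup.coe_inv, hx, hy, Dg_inv, Dg_mul_Dg]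

theorem step3 (hm : 3 ≤ m) : ∀ x ∈ (⊤ : Subgroup T), ∀ y ∈ (⊤ : Subgroup T),
    x ∉ Subgroup.centralizer (K1 m T : Set T) → y ∉ Subgroup.centralizer (K1 m T : Set T) →
    x⁻¹ * y ∈ Subgroup.centralizer (K1 m T : Set T) := by
  intro x _ y _ hxD hyD
  rw [mem_centralizer_K1 m hq T hT hm] at hxD hyD ⊢
  obtain ⟨a, b, _, hx | hx⟩ := coe_cases T hT x
  · exact absurd ⟨a, b, hx⟩ hxD
  obtain ⟨c, d, _, hy | hy⟩ := coe_cases T hT y
  · exact absurd ⟨c, d, hy⟩ hyD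
  exact ⟨a⁻¹ * c, b⁻¹ * d, by rw [Subgroup.coe_mul, Subgroup.coe_inv, hx, hy, Nn_inv, Nn_mul_Nn]⟩

theorem big_case (hm : 3 ≤ m) : IsPGroup 2 (MulAut T) := by
  have hfin : Finite (K1 m T) := by
    have := finite_E (q := q)
    infer_instance
  have hexp := exp_bound m hq T hT (by omega)
  have i1 := autInv_K1 m hq T hT (by omega)
  have i2 := autInv_K2 m hq T hT hm
  have i3 := autInv_centralizer i1
  have i4 : AutInv (⊤ : Subgroup T) := fun _ _ _ => Subgroup.mem_top _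
  have g1 : AutGood (K1 m T) :=
    autGood_of_cyclic i1 (isCyclic_K1 m T) ((isPGroup_T m hq T hT (by omega)).to_subgroup _)
  have g2 := autGood_step hexp i1 i2 (step1 m hq T hT hm) g1
  have g3 := autGood_step hexp i2 i3 (step2 m hq T hT hm) g2
  have g4 := autGood_step hexp i3 i4 (step3 m hq T hT hm) g3
  exact isPGroup_mulAut_of_autGood_top g4

end big

section three

variable (T : Subgroup (E 3))
  (hT : ∀ f, f ∈ T ↔ ∃ a s : ZMod 3, a ≠ 0 ∧ (s = 1 ∨ s = -1) ∧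
      ((∀ v, f v = ![a * v 0, s * a⁻¹ * v 1]) ∨ (∀ v, f v = ![s * a⁻¹ * v 1, a * v 0])))

theorem u3_cases : ∀ u : (ZMod 3)ˣ, u = 1 ∨ u = -1 := by decide
theorem u3_sq : ∀ u : (ZMod 3)ˣ, u * u = 1 := by decide
theorem u3_neg_one_ne : (-1 : (ZMod 3)ˣ) ≠ 1 := by decide
theorem u3_of_mul_one : ∀ a b : (ZMod 3)ˣ, a * b = 1 → b = a := by decide
theorem u3_of_mul_neg : ∀ a b : (ZMod 3)ˣ, a * b = -1 → b = -a := by decide

/-- the cyclic subgroup of order 4 -/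
def C4 : Subgroup T where
  carrier := {x | ∃ a b : (ZMod 3)ˣ, (a * b = 1 ∧ (x : E 3) = Dg a b) ∨ (a * b = -1 ∧ (x : E 3) = Nn a b)}
  one_mem' := ⟨1, 1, Or.inl ⟨mul_one 1, by rw [Subgroup.coe_one, Dg_one]⟩⟩
  mul_mem' := by
    rintro x y ⟨a, b, h1⟩ ⟨c, d, h2⟩
    rcases h1 with ⟨hab, hx⟩ | ⟨hab, hx⟩ <;> rcases h2 with ⟨hcd, hy⟩ | ⟨hcd, hy⟩
    · exact ⟨a * c, b * d, Or.inl ⟨by rw [mul_mul_mul_comm, hab, hcd, mul_one],
        by rw [Subgroup.coe_mul, hx, hy, Dg_mul_Dg]⟩⟩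
    · exact ⟨b * c, a * d, Or.inr ⟨by rw [mul_mul_mul_comm, mul_comm b a, hab, hcd, one_mul],
        by rw [Subgroup.coe_mul, hx, hy, Dg_mul_Nn]⟩⟩
    · exact ⟨a * c, b * d, Or.inr ⟨by rw [mul_mul_mul_comm, hab, hcd, mul_one],
        by rw [Subgroup.coe_mul, hx, hy, Nn_mul_Dg]⟩⟩
    · exact ⟨b * c, a * d, Or.inl ⟨by rw [mul_mul_mul_comm, mul_comm b a, hab, hcd]; simp,
        by rw [Subgroup.coe_mul, hx, hy, Nn_mul_Nn]⟩⟩
  inv_mem' := by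
    rintro x ⟨a, b, h1⟩
    rcases h1 with ⟨hab, hx⟩ | ⟨hab, hx⟩
    · exact ⟨a⁻¹, b⁻¹, Or.inl ⟨by rw [← mul_inv, hab, inv_one], by rw [Subgroup.coe_inv, hx, Dg_inv]⟩⟩
    · exact ⟨b⁻¹, a⁻¹, Or.inr ⟨by rw [← mul_inv, mul_comm b a, hab]; simp,
        by rw [Subgroup.coe_inv, hx, Nn_inv]⟩⟩

include hT

theorem not_mem_C4 {x : T} (hx : x ∉ C4 T) :
    ∃ a b : (ZMod 3)ˣ, (a * b = -1 ∧ (x : E 3) = Dg a b) ∨ (a * b = 1 ∧ (x : E 3) = Nn a b) := by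
  have : Fact (Nat.Prime 3) := ⟨Nat.prime_three⟩
  obtain ⟨a, b, hab, h | h⟩ := coe_cases T hT x
  · rcases hab with hab | hab
    · exact absurd ⟨a, b, Or.inl ⟨hab, h⟩⟩ hx
    · exact ⟨a, b, Or.inl ⟨hab, h⟩⟩
  · rcases hab with hab | hab
    · exact ⟨a, b, Or.inr ⟨hab, h⟩⟩
    · exact absurd ⟨a, b, Or.inr ⟨hab, h⟩⟩ hx

theorem step_C4 : ∀ x ∈ (⊤ : Subgroup T), ∀ y ∈ (⊤ : Subgroup T), x ∉ C4 T → y ∉ C4 T → x⁻¹ * y ∈ C4 T := by
  intro x _ y _ hx hy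
  obtain ⟨a, b, h1⟩ := not_mem_C4 T hT hx
  obtain ⟨c, d, h2⟩ := not_mem_C4 T hT hy
  rcases h1 with ⟨hab, hx⟩ | ⟨hab, hx⟩ <;> rcases h2 with ⟨hcd, hy⟩ | ⟨hcd, hy⟩
  · refine ⟨a⁻¹ * c, b⁻¹ * d, Or.inl ⟨?_, by rw [Subgroup.coe_mul, Subgroup.coe_inv, hx, hy, Dg_inv, Dg_mul_Dg]⟩⟩
    rw [mul_mul_mul_comm, ← mul_inv, hab, hcd]; simp
  · refine ⟨b⁻¹ * c, a⁻¹ * d, Or.inr ⟨?_, by rw [Subgroup.coe_mul, Subgroup.coe_inv, hx, hy, Dg_inv, Dg_mul_Nn]⟩⟩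
    rw [mul_mul_mul_comm, ← mul_inv, mul_comm b a, hab, hcd]; simp
  · refine ⟨b⁻¹ * c, a⁻¹ * d, Or.inr ⟨?_, by rw [Subgroup.coe_mul, Subgroup.coe_inv, hx, hy, Nn_inv, Nn_mul_Dg]⟩⟩
    rw [mul_mul_mul_comm, ← mul_inv, mul_comm b a, hab, hcd]; simp
  · refine ⟨a⁻¹ * c, b⁻¹ * d, Or.inl ⟨?_, by rw [Subgroup.coe_mul, Subgroup.coe_inv, hx, hy, Nn_inv, Nn_mul_Nn]⟩⟩
    rw [mul_mul_mul_comm, ← mul_inv, hab, hcd]; simp

theorem mem_C4_iff (x : T) : x ∈ C4 T ↔ (x ^ 2 ≠ 1 ∨ ∃ y : T, x = y ^ 2) := by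
  have : Fact (Nat.Prime 3) := ⟨Nat.prime_three⟩
  constructor
  · rintro ⟨a, b, ⟨hab, hx⟩ | ⟨hab, hx⟩⟩
    · right
      have hb := u3_of_mul_one a b hab
      subst hb
      rcases u3_cases b with rfl | rfl
      · exact ⟨1, by apply Subtype.ext; rw [hx, Dg_one, one_pow, Subgroup.coe_one]⟩
      · have hy : Nn (1 : (ZMod 3)ˣ) (-1) ∈ T := (memT_of T hT (Or.inr (one_mul _))).2
        refine ⟨⟨_, hy⟩, ?_⟩
        apply Subtype.ext
        rw [hx, Subgroup.coe_pow, pow_two, Nn_mul_Nn, mul_one, one_mul]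
    · left
      intro hcon
      have h2 : (x : E 3) ^ 2 = 1 := by rw [← Subgroup.coe_pow, hcon, Subgroup.coe_one]
      rw [hx, pow_two, Nn_mul_Nn, ← Dg_one] at h2
      obtain ⟨_, h3⟩ := Dg_injective h2
      rw [hab] at h3
      exact u3_neg_one_ne h3
  · rintro (hne | ⟨y, rfl⟩)
    · obtain ⟨a, b, hab, h | h⟩ := coe_cases T hT x
      · exfalso
        apply hne
        apply Subtype.ext
        rw [Subgroup.coe_pow, h, pow_two, Dg_mul_Dg, u3_sq, u3_sq, Dg_one, Subgroup.coe_one]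
      · rcases hab with hab | hab
        · exfalso
          apply hne
          apply Subtype.ext
          rw [Subgroup.coe_pow, h, pow_two, Nn_mul_Nn, mul_comm b a, hab, Dg_one, Subgroup.coe_one]
        · exact ⟨a, b, Or.inr ⟨hab, h⟩⟩
    · obtain ⟨a, b, hab, h | h⟩ := coe_cases T hT y
      · refine ⟨1, 1, Or.inl ⟨mul_one 1, ?_⟩⟩
        rw [Subgroup.coe_pow, h, pow_two, Dg_mul_Dg, u3_sq, u3_sq]
      · refine ⟨b * a, a * b, Or.inl ⟨?_, ?_⟩⟩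
        · rw [mul_comm b a, u3_sq]
        · rw [Subgroup.coe_pow, h, pow_two, Nn_mul_Nn]

theorem autInv_C4 : AutInv (C4 T) := by
  intro α x hx
  rw [mem_C4_iff T hT] at hx ⊢
  rcases hx with h | ⟨y, rfl⟩
  · left
    intro hcon
    apply h
    apply α.injective
    rw [map_pow, hcon, map_one]
  · right
    exact ⟨α y, map_pow α y 2⟩

theorem isCyclic_C4 : IsCyclic (C4 T) := by
  have : Fact (Nat.Prime 3) := ⟨Nat.prime_three⟩
  have hr : Nn (1 : (ZMod 3)ˣ) (-1) ∈ T := (memT_of T hT (Or.inr (one_mul _))).2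
  have hr4 : (⟨_, hr⟩ : T) ∈ C4 T := ⟨1, -1, Or.inr ⟨one_mul _, rfl⟩⟩
  refine ⟨⟨⟨⟨_, hr⟩, hr4⟩, ?_⟩⟩
  intro y
  have key : ∀ k : ℕ, ((y : T) : E 3) = (Nn (1 : (ZMod 3)ˣ) (-1)) ^ k →
      (⟨⟨_, hr⟩, hr4⟩ : C4 T) ^ (k : ℤ) = y := by
    intro k hk
    rw [zpow_natCast]
    apply Subtype.ext
    apply Subtype.ext
    rw [hk]
    rfl
  obtain ⟨a, b, hx⟩ := y.2
  rcases hx with ⟨hab, hx⟩ | ⟨hab, hx⟩
  · have hb := u3_of_mul_one a b hab
    subst hb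
    rcases u3_cases b with rfl | rfl
    · exact ⟨0, key 0 (by rw [hx, Dg_one, pow_zero])⟩
    · exact ⟨2, key 2 (by rw [hx, pow_two, Nn_mul_Nn, mul_one, one_mul])⟩
  · have hb := u3_of_mul_neg a b hab
    subst hb
    rcases u3_cases a with rfl | rfl
    · exact ⟨1, key 1 (by rw [hx, pow_one])⟩
    · refine ⟨3, key 3 ?_⟩
      rw [hx, pow_succ, pow_two, Nn_mul_Nn, Dg_mul_Nn]
      congr 1

theorem case_three : IsPGroup 2 (MulAut T) := by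
  have hqf : Fact (Nat.Prime 3) := ⟨Nat.prime_three⟩
  have hq : 3 = 2 ^ 1 + 1 := by norm_num
  have hfin : Finite (C4 T) := by
    have := finite_E (q := 3)
    infer_instance
  have hexp := exp_bound 1 hq T hT (le_refl 1)
  have i4 : AutInv (⊤ : Subgroup T) := fun _ _ _ => Subgroup.mem_top _
  have g1 : AutGood (C4 T) :=
    autGood_of_cyclic (autInv_C4 T hT) (isCyclic_C4 T hT) ((isPGroup_T 1 hq T hT (le_refl 1)).to_subgroup _)
  have g2 := autGood_step hexp (autInv_C4 T hT) i4 (step_C4 T hT) g1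
  exact isPGroup_mulAut_of_autGood_top g2

end three

section two

variable (T : Subgroup (E 2))
  (hT : ∀ f, f ∈ T ↔ ∃ a s : ZMod 2, a ≠ 0 ∧ (s = 1 ∨ s = -1) ∧
      ((∀ v, f v = ![a * v 0, s * a⁻¹ * v 1]) ∨ (∀ v, f v = ![s * a⁻¹ * v 1, a * v 0])))

include hT

theorem case_two : IsPGroup 2 (MulAut T) := by
  have : Fact (Nat.Prime 2) := ⟨Nat.prime_two⟩
  have : Fact (1 < 2) := ⟨by norm_num⟩
  have hel : ∀ x : T, (x : E 2) = 1 ∨ (x : E 2) = Nn 1 1 := by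
    intro x
    obtain ⟨a, b, _, h | h⟩ := coe_cases T hT x
    · left; rw [h, Subsingleton.elim a 1, Subsingleton.elim b 1, Dg_one]
    · right; rw [h, Subsingleton.elim a 1, Subsingleton.elim b 1]
  intro α
  refine ⟨0, ?_⟩
  rw [pow_zero, pow_one]
  apply MulEquiv.ext
  intro x
  rw [MulAut.one_apply]
  rcases hel x with h | h
  · have hx : x = 1 := Subtype.ext (by rw [h, Subgroup.coe_one])
    rw [hx, map_one]
  · rcases hel (α x) with h2 | h2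
    · exfalso
      have h3 : α x = 1 := Subtype.ext (by rw [h2, Subgroup.coe_one])
      have h4 : x = 1 := α.injective (by rw [h3, map_one])
      rw [h4, Subgroup.coe_one, ← Dg_one] at h
      exact Dg_ne_Nn _ _ _ _ h
    · exact Subtype.ext (by rw [h2, h])

end two

/-- Let q = 2^m + 1 be a prime other than 5. Then the automorphism group of the group of linear maps of F_q² of the forms (x, y) ↦ (a x, ± a⁻¹ y) and (x, y) ↦ (± a⁻¹ y, a x) with a ≠ 0 is itself a 2-group. -/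
theorem result (q m : ℕ) [Fact q.Prime] (hq : q = 2 ^ m + 1) (hq5 : q ≠ 5)
    (T : Subgroup ((Fin 2 → ZMod q) ≃ₗ[ZMod q] (Fin 2 → ZMod q)))
    (hT : ∀ f, f ∈ T ↔ ∃ a s : ZMod q, a ≠ 0 ∧ (s = 1 ∨ s = -1) ∧
      ((∀ v, f v = ![a * v 0, s * a⁻¹ * v 1]) ∨ (∀ v, f v = ![s * a⁻¹ * v 1, a * v 0]))) :
    IsPGroup 2 (MulAut T) := by
  rcases Nat.lt_or_ge m 3 with hm | hm
  · interval_cases m
    · have h2 : q = 2 := by rw [hq]; norm_num
      subst h2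
      exact case_two T hT
    · have h3 : q = 3 := by rw [hq]; norm_num
      subst h3
      exact case_three T hT
    · exact absurd (by rw [hq]; norm_num) hq5
  · exact big_case m hq T hT hm

end Cfsg.Agent.S3382
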