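import Cfsg.Statements.S3389

set_option autoImplicit false
open Cfsg

namespace Cfsg.Agent.S3389

/-- a p-group preserving a set with fewer than p elements fixes it pointwise -/
theorem pgroup_fixes_small {G Ω : Type*} [Group G] [MulAction G Ω] (p : ℕ) [Fact p.Prime]
    (P : Subgroup G) (hP : IsPGroup p P) (X : Set Ω) (hXfin : X.Finite) (hXcard : X.ncard < p)
    (hinv : ∀ y ∈ P, ∀ ω ∈ X, y • ω ∈ X) : ∀ y ∈ P, ∀ ω ∈ X, y • ω = ω := by
  intro y hy ω hω
  have hsub : MulAction.orbit P ω ⊆ X := by
    rintro _ ⟨⟨y', hy'⟩, rfl⟩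
    exact hinv y' hy' ω hω
  have hfin : (MulAction.orbit P ω).Finite := hXfin.subset hsub
  have : Finite (MulAction.orbit P ω) := hfin
  obtain ⟨n, hn⟩ := hP.card_orbit ω
  have h1 : (MulAction.orbit P ω).ncard ≤ X.ncard := Set.ncard_le_ncard hsub hXfin
  rw [Nat.card_coe_set_eq] at hn
  have hn0 : n = 0 := by
    by_contra hne
    have : p ≤ p ^ n := by
      calc p = p ^ 1 := (pow_one p).symm
        _ ≤ p ^ n := Nat.pow_le_pow_right (Fact.out : p.Prime).pos (Nat.one_le_iff_ne_zero.mpr hne)
    omega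
  rw [hn0, pow_zero, Set.ncard_eq_one] at hn
  obtain ⟨a, ha⟩ := hn
  have h2 : ω ∈ MulAction.orbit P ω := MulAction.mem_orbit_self ω
  have h3 : y • ω ∈ MulAction.orbit P ω := ⟨⟨y, hy⟩, rfl⟩
  rw [ha, Set.mem_singleton_iff] at h2 h3
  exact h3.trans h2.symm

/-- commuting elements preserve each other's fixed point sets -/
theorem smul_mem_fixedBy_of_commute {G Ω : Type*} [Group G] [MulAction G Ω] {w x : G} (hc : w * x = x * w)
    {ω : Ω} (hω : ω ∈ MulAction.fixedBy Ω x) : w • ω ∈ MulAction.fixedBy Ω x := by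
  rw [MulAction.mem_fixedBy] at hω ⊢
  rw [← mul_smul, ← hc, mul_smul, hω]

/-- part three -/
theorem part_three {G : Type*} [Group G] [Finite G] {Ω : Type*} [Fintype Ω] [MulAction G Ω]
    (k : ℕ)
    (hfix : ∀ g : G, g ≠ 1 → Nat.card (MulAction.fixedBy Ω g) ≤ k)
    (p : ℕ) (hp : p.Prime) (hkp : k < p) (α : Ω)
    (h1 : p ∣ Nat.card (MulAction.stabilizer G α)) : ¬ p ∣ (MulAction.stabilizer G α).index := by
  have : Fact p.Prime := ⟨hp⟩
  obtain ⟨⟨x, hxα⟩, hxord⟩ := exists_prime_orderOf_dvd_card' (G := MulAction.stabilizer G α) p h1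
  have hxord' : orderOf x = p := by
    rw [← hxord]; exact (Subgroup.orderOf_mk x hxα).symm
  have hx1 : x ≠ 1 := by
    intro h; rw [h, orderOf_one] at hxord'; exact hp.one_lt.ne hxord'
  have hxp : IsPGroup p (Subgroup.zpowers x) := by
    rw [IsPGroup.iff_card]
    exact ⟨1, by rw [Nat.card_zpowers, hxord', pow_one]⟩
  obtain ⟨P, hxP⟩ := hxp.exists_le_sylow
  have hxP' : x ∈ (P : Subgroup G) := hxP (Subgroup.mem_zpowers x)
  have : Nontrivial (P : Subgroup G) := ⟨⟨⟨x, hxP'⟩, 1, fun h => hx1 (congrArg Subtype.val h)⟩⟩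
  have : Nontrivial (Subgroup.center (P : Subgroup G)) := P.isPGroup'.center_nontrivial
  obtain ⟨⟨⟨z, hzP⟩, hzc⟩, hz1⟩ := exists_ne (1 : Subgroup.center (P : Subgroup G))
  have hz1' : z ≠ 1 := by
    intro h; apply hz1; apply Subtype.ext; apply Subtype.ext; exact h
  have hzcomm : ∀ y ∈ (P : Subgroup G), y * z = z * y := by
    intro y hy
    have := Subgroup.mem_center_iff.mp hzc ⟨y, hy⟩
    exact congrArg Subtype.val this
  -- z fixes α
  have hzα : z • α = α := by
    have hzpow : IsPGroup p (Subgroup.zpowers z) := P.isPGroup'.to_le (by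
      rw [Subgroup.zpowers_le]; exact hzP)
    have hX : (MulAction.fixedBy Ω x).ncard < p := by
      have := hfix x hx1
      rw [Nat.card_coe_set_eq] at this
      omega
    have hinv : ∀ y ∈ Subgroup.zpowers z, ∀ ω ∈ MulAction.fixedBy Ω x, y • ω ∈ MulAction.fixedBy Ω x := by
      intro y hy ω hω
      apply smul_mem_fixedBy_of_commute _ hω
      obtain ⟨n, rfl⟩ := Subgroup.mem_zpowers_iff.mp hy
      have : Commute z x := (hzcomm x hxP').symm
      exact (this.zpow_left n).eq
    exact pgroup_fixes_small p _ hzpow _ (Set.toFinite _) hX hinv z (Subgroup.mem_zpowers z) α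
      (by rw [MulAction.mem_fixedBy]; exact hxα)
  -- P fixes α
  have hPα : (P : Subgroup G) ≤ MulAction.stabilizer G α := by
    have hX : (MulAction.fixedBy Ω z).ncard < p := by
      have := hfix z hz1'
      rw [Nat.card_coe_set_eq] at this
      omega
    have hinv : ∀ y ∈ (P : Subgroup G), ∀ ω ∈ MulAction.fixedBy Ω z, y • ω ∈ MulAction.fixedBy Ω z := by
      intro y hy ω hω
      exact smul_mem_fixedBy_of_commute (hzcomm y hy) hω
    intro y hy
    rw [MulAction.mem_stabilizer_iff]
    exact pgroup_fixes_small p _ P.isPGroup' _ (Set.toFinite _) hX hinv y hy α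
      (by rw [MulAction.mem_fixedBy]; exact hzα)
  intro hdvd
  exact P.not_dvd_index (dvd_trans hdvd (Subgroup.index_dvd_of_le hPα))

/-- part one -/
theorem part_one {G : Type*} [Group G] [Finite G] {Ω : Type*} [Fintype Ω] [MulAction G Ω] [FaithfulSMul G Ω]
    (htr : MulAction.IsPretransitive G Ω) (g : G) :
    Nat.card (Subgroup.center G) ∣ Nat.card (MulAction.fixedBy Ω g) := by
  let Y : SubMulAction (Subgroup.center G) Ω :=
    { carrier := MulAction.fixedBy Ω g
      smul_mem' := fun z ω hω => by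
        have hc : (z : G) * g = g * (z : G) := (Subgroup.mem_center_iff.mp z.2 g).symm
        exact smul_mem_fixedBy_of_commute hc hω }
  have hfree : ∀ y : Y, MulAction.stabilizer (Subgroup.center G) y = ⊥ := by
    intro y
    rw [eq_bot_iff]
    intro z hz
    rw [MulAction.mem_stabilizer_iff] at hz
    have hz' : (z : G) • (y : Ω) = (y : Ω) := congrArg Subtype.val hz
    rw [Subgroup.mem_bot]
    apply Subtype.ext
    apply FaithfulSMul.eq_of_smul_eq_smul (α := Ω)
    intro ω
    obtain ⟨x, rfl⟩ := MulAction.exists_smul_eq G (y : Ω) ω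
    rw [Subgroup.coe_one, one_smul, ← mul_smul, ← Subgroup.mem_center_iff.mp z.2 x, mul_smul, hz']
  have e := MulAction.selfEquivOrbitsQuotientProd hfree
  have h1 : Nat.card Y = Nat.card (MulAction.fixedBy Ω g) := rfl
  rw [← h1, Nat.card_congr e, Nat.card_prod]
  exact Dvd.intro_left _ rfl

/-- an element of odd order whose square fixes a point fixes the point -/
theorem fixes_of_sq_fixes {G Ω : Type*} [Group G] [MulAction G Ω] (w : G) (hw : Odd (orderOf w)) (a : Ω)
    (h : w • w • a = a) : w • a = a := by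
  obtain ⟨m, hm⟩ := hw
  have h2 : ∀ n : ℕ, (w ^ 2) ^ n • a = a := by
    intro n
    induction n with
    | zero => simp
    | succ n ih =>
      have hww : w ^ 2 • a = a := by rw [pow_two, mul_smul, h]
      rw [pow_succ, mul_smul, hww, ih]
  have h3 : (w ^ 2) ^ (m + 1) = w := by
    rw [← pow_mul, show 2 * (m + 1) = orderOf w + 1 by omega, pow_succ, pow_orderOf_eq_one, one_mul]
  have := h2 (m + 1)
  rwa [h3] at this

/-- an element of odd order preserving a two-element set fixes both points -/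
theorem fixes_pair {G Ω : Type*} [Group G] [MulAction G Ω] (w : G) (hw : Odd (orderOf w)) (a b : Ω)
    (ha : w • a = a ∨ w • a = b) (hb : w • b = a ∨ w • b = b) : w • a = a := by
  rcases ha with ha | ha
  · exact ha
  rcases hb with hb | hb
  · apply fixes_of_sq_fixes w hw
    rw [ha, hb]
  · have : w • a = w • b := by rw [ha, hb]
    have hab : a = b := MulAction.injective w this
    rw [ha, hab]

/-- part two -/
theorem part_two {G : Type*} [Group G] [Finite G] {Ω : Type*} [Fintype Ω] [MulAction G Ω]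
    (htr : MulAction.IsPretransitive G Ω)
    (hfix : ∀ g : G, g ≠ 1 → Nat.card (MulAction.fixedBy Ω g) ≤ 2)
    (hex : ∃ g : G, g ≠ 1 ∧ Nat.card (MulAction.fixedBy Ω g) = 2) : 2 ∣ Nat.card G := by
  by_contra hodd
  have hoddord : ∀ w : G, Odd (orderOf w) := by
    intro w
    rw [← Nat.not_even_iff_odd, even_iff_two_dvd]
    intro h
    exact hodd (dvd_trans h (orderOf_dvd_natCard w))
  obtain ⟨g, hg1, hg2⟩ := hex
  rw [Nat.card_coe_set_eq, Set.ncard_eq_two] at hg2
  obtain ⟨α, β, hαβ, hFg⟩ := hg2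
  have hpair : ∀ x : G, x ≠ 1 → x • α = α → x • β = β → MulAction.fixedBy Ω x = {α, β} := by
    intro x hx1 hxα hxβ
    symm
    apply Set.eq_of_subset_of_ncard_le
    · intro ω hω
      rcases hω with rfl | rfl
      · exact hxα
      · exact hxβ
    · have := hfix x hx1
      rw [Nat.card_coe_set_eq] at this
      rw [Set.ncard_pair hαβ]; exact this
    · exact Set.toFinite _
  have hcomm_fix : ∀ x w : G, MulAction.fixedBy Ω x = {α, β} → w * x = x * w → w • α = α ∧ w • β = β := by
    intro x w hFx hc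
    have hα : w • α ∈ ({α, β} : Set Ω) := by
      rw [← hFx]; apply smul_mem_fixedBy_of_commute hc; rw [hFx]; simp
    have hβ : w • β ∈ ({α, β} : Set Ω) := by
      rw [← hFx]; apply smul_mem_fixedBy_of_commute hc; rw [hFx]; simp
    simp only [Set.mem_insert_iff, Set.mem_singleton_iff] at hα hβ
    exact ⟨fixes_pair w (hoddord w) α β hα hβ, fixes_pair w (hoddord w) β α hβ.symm hα.symm⟩
  have hgo : orderOf g ≠ 1 := by rwa [Ne, orderOf_eq_one_iff]
  obtain ⟨p, hp, hpg⟩ := Nat.exists_prime_and_dvd hgo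
  have : Fact p.Prime := ⟨hp⟩
  set x := g ^ (orderOf g / p) with hx
  have hxord : orderOf x = p := orderOf_pow_orderOf_div (orderOf_pos g).ne' hpg
  have hx1 : x ≠ 1 := by
    intro h; rw [h, orderOf_one] at hxord; exact hp.one_lt.ne hxord
  have hgα : g • α = α := by
    have : α ∈ MulAction.fixedBy Ω g := by rw [hFg]; simp
    exact this
  have hgβ : g • β = β := by
    have : β ∈ MulAction.fixedBy Ω g := by rw [hFg]; simp
    exact this
  have hpowfix : ∀ (ω : Ω), g • ω = ω → ∀ n : ℕ, g ^ n • ω = ω := by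
    intro ω hω n
    induction n with
    | zero => simp
    | succ n ih => rw [pow_succ, mul_smul, hω, ih]
  have hFx := hpair x hx1 (hpowfix α hgα _) (hpowfix β hgβ _)
  have hxp : IsPGroup p (Subgroup.zpowers x) := by
    rw [IsPGroup.iff_card]
    exact ⟨1, by rw [Nat.card_zpowers, hxord, pow_one]⟩
  obtain ⟨P, hxP⟩ := hxp.exists_le_sylow
  have hxP' : x ∈ (P : Subgroup G) := hxP (Subgroup.mem_zpowers x)
  have : Nontrivial (P : Subgroup G) := ⟨⟨⟨x, hxP'⟩, 1, fun h => hx1 (congrArg Subtype.val h)⟩⟩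
  have : Nontrivial (Subgroup.center (P : Subgroup G)) := P.isPGroup'.center_nontrivial
  obtain ⟨⟨⟨z, hzP⟩, hzc⟩, hz1⟩ := exists_ne (1 : Subgroup.center (P : Subgroup G))
  have hz1' : z ≠ 1 := by
    intro h; apply hz1; apply Subtype.ext; apply Subtype.ext; exact h
  have hzcomm : ∀ y ∈ (P : Subgroup G), y * z = z * y := by
    intro y hy
    have := Subgroup.mem_center_iff.mp hzc ⟨y, hy⟩
    exact congrArg Subtype.val this
  have hzfix := hcomm_fix x z hFx (hzcomm x hxP').symm
  have hFz := hpair z hz1' hzfix.1 hzfix.2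
  have hPfix : ∀ y ∈ (P : Subgroup G), y • α = α ∧ y • β = β :=
    fun y hy => hcomm_fix z y hFz (hzcomm y hy)
  obtain ⟨y0, hy0⟩ := MulAction.exists_smul_eq G α β
  have hPβ : (P : Subgroup G) ≤ MulAction.stabilizer G β := fun y hy => (hPfix y hy).2
  have hQβ : ((y0 • P : Sylow p G) : Subgroup G) ≤ MulAction.stabilizer G β := by
    intro q hq
    rw [Sylow.coe_subgroup_smul, Subgroup.mem_pointwise_smul_iff_inv_smul_mem, MulAut.smul_def,
      MulAut.conj_inv_apply] at hq
    rw [MulAction.mem_stabilizer_iff]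
    have h1 := (hPfix _ hq).1
    rw [mul_smul, mul_smul, hy0] at h1
    have h2 := congrArg (fun t => y0 • t) h1
    simp only [smul_inv_smul] at h2
    rw [h2, hy0]
  obtain ⟨c, hc⟩ := MulAction.exists_smul_eq (MulAction.stabilizer G β)
    ((y0 • P : Sylow p G).subtype hQβ) (P.subtype hPβ)
  rw [Sylow.smul_subtype] at hc
  have hc' : c • (y0 • P : Sylow p G) = P := Sylow.subtype_injective hc
  have hc'' : ((c : G) * y0) • P = P := by rw [mul_smul]; exact hc'
  rw [Sylow.smul_eq_iff_mem_normalizer] at hc''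
  set w := (c : G) * y0 with hw
  have hwα : w • α = β := by
    rw [hw, mul_smul, hy0]; exact c.2
  have hwβ : w • β = α ∨ w • β = β := by
    have : w • β ∈ MulAction.fixedBy Ω z := by
      rw [MulAction.mem_fixedBy]
      have h1 : w⁻¹ * z * w ∈ (P : Subgroup G) := (Subgroup.mem_normalizer_iff''.mp hc'' z).mp hzP
      have h2 := (hPfix _ h1).2
      rw [mul_smul, mul_smul] at h2
      have h3 := congrArg (fun t => w • t) h2
      simp only [smul_inv_smul] at h3
      exact h3
    rw [hFz] at this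
    simpa using this
  have := fixes_pair w (hoddord w) α β (Or.inr hwα) hwβ
  rw [hwα] at this
  exact hαβ this.symm

/-- Let G be a finite group acting faithfully and transitively on a finite set Ω with fixity k ≥ 1: every non-identity element fixes at most k points and some non-identity element fixes exactly k points. Then |Z(G)| divides k; if k = 2 then |G| is even; and for every prime p > k dividing |G| and every point α, either p does not divide |G_α| or G_α contains a Sylow p-subgroup of G. -/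
theorem result {G : Type*} [Group G] [Finite G] {Ω : Type*} [Fintype Ω] [MulAction G Ω] [FaithfulSMul G Ω]
    (htr : MulAction.IsPretransitive G Ω) (k : ℕ) (hk : 1 ≤ k)
    (hfix : ∀ g : G, g ≠ 1 → Nat.card (MulAction.fixedBy Ω g) ≤ k) (hex : ∃ g : G, g ≠ 1 ∧ Nat.card (MulAction.fixedBy Ω g) = k) :
    Nat.card (Subgroup.center G) ∣ k ∧ (k = 2 → 2 ∣ Nat.card G) ∧
      ∀ (p : ℕ), p.Prime → k < p → p ∣ Nat.card G → ∀ α : Ω,
        ¬ p ∣ Nat.card (MulAction.stabilizer G α) ∨ ¬ p ∣ (MulAction.stabilizer G α).index := by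
  refine ⟨?_, ?_, ?_⟩
  · obtain ⟨g, _, hg⟩ := hex
    rw [← hg]
    exact part_one htr g
  · intro h2
    subst h2
    exact part_two htr hfix hex
  · intro p hp hkp _ α
    by_cases h1 : p ∣ Nat.card (MulAction.stabilizer G α)
    · right
      exact part_three k hfix p hp hkp α h1
    · left; exact h1

end Cfsg.Agent.S3389
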