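import Cfsg.Statements.S3391
import Cfsg.Agent.Helper6.Fix5

set_option autoImplicit false
open Cfsg

namespace Cfsg.Agent.S3391

/-- Let q = 2^{2m+1} ≥ 8 and let G be isomorphic to the Suzuki group Sz(q). If G acts faithfully and transitively on a finite set Ω with fixity 2 (every non-identity element fixes at most two points, and some fixes exactly two), then either |Ω| = q² + 1 and the action is 2-transitive, or |Ω| = q²(q² + 1) and the point stabilizers have order q − 1. -/
theorem result {G : Type*} [Group G] [Finite G] (F : Type) [Field F] [Fintype F] (m : ℕ) (hm : 1 ≤ m) (hF : Fintype.card F = 2 ^ (2 * m + 1))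
    (e : G ≃* ↥(Cfsg.Lie.Sz F (2 ^ (m + 1)))) {Ω : Type*} [Fintype Ω] [MulAction G Ω] [FaithfulSMul G Ω] (htr : MulAction.IsPretransitive G Ω)
    (hfix : ∀ g : G, g ≠ 1 → Nat.card (MulAction.fixedBy Ω g) ≤ 2) (hex : ∃ g : G, g ≠ 1 ∧ Nat.card (MulAction.fixedBy Ω g) = 2) :
    (Fintype.card Ω = Fintype.card F ^ 2 + 1 ∧ MulAction.IsMultiplyPretransitive G Ω 2) ∨
    (Fintype.card Ω = Fintype.card F ^ 2 * (Fintype.card F ^ 2 + 1) ∧ ∀ α : Ω, Nat.card (MulAction.stabilizer G α) = Fintype.card F - 1) := by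
  classical
  let ε : G ≃* Cfsg.Sz F m := e.trans (Cfsg.Agent.Helper6.lieSzEquiv hm hF).symm
  letI act : MulAction (Cfsg.Sz F m) Ω := MulAction.compHom Ω (ε.symm : Cfsg.Sz F m →* G)
  have hsmul : ∀ (s : Cfsg.Sz F m) (ω : Ω), s • ω = ε.symm s • ω := fun s ω => rfl
  have htr' : MulAction.IsPretransitive (Cfsg.Sz F m) Ω := by
    constructor
    intro a b
    obtain ⟨g, hg⟩ := MulAction.exists_smul_eq G a b
    exact ⟨ε g, by rw [hsmul, MulEquiv.symm_apply_apply, hg]⟩
  have hfixeq : ∀ s : Cfsg.Sz F m, MulAction.fixedBy Ω s = MulAction.fixedBy Ω (ε.symm s) :=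
    fun s => rfl
  have hfix' : ∀ s : Cfsg.Sz F m, s ≠ 1 → Nat.card (MulAction.fixedBy Ω s) ≤ 2 := by
    intro s hs
    rw [hfixeq]
    apply hfix
    intro h
    apply hs
    have := congrArg ε h
    rwa [MulEquiv.apply_symm_apply, map_one] at this
  have hex' : ∃ s : Cfsg.Sz F m, s ≠ 1 ∧ Nat.card (MulAction.fixedBy Ω s) = 2 := by
    obtain ⟨g, hg1, hg⟩ := hex
    refine ⟨ε g, ?_, ?_⟩
    · intro h
      apply hg1
      have := congrArg ε.symm h
      rwa [MulEquiv.symm_apply_apply, map_one] at this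
    · rw [hfixeq, MulEquiv.symm_apply_apply]
      exact hg
  rcases Cfsg.Agent.Helper6.fixity_two_core hm hF htr' hfix' hex' with ⟨hc, h2⟩ | ⟨hc, hst⟩
  · left
    refine ⟨by rw [← Nat.card_eq_fintype_card]; exact hc, ?_⟩
    rw [MulAction.is_two_pretransitive_iff]
    intro a b c d hab hcd
    obtain ⟨s, hs1, hs2⟩ := h2 a b c d hab hcd
    exact ⟨ε.symm s, hs1, hs2⟩
  · right
    refine ⟨by rw [← Nat.card_eq_fintype_card]; exact hc, ?_⟩
    intro α
    rw [← hst α]
    apply Nat.card_congr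
    exact
      { toFun := fun g => ⟨ε g.1, by
          rw [MulAction.mem_stabilizer_iff, hsmul, MulEquiv.symm_apply_apply]
          exact g.2⟩
        invFun := fun s => ⟨ε.symm s.1, s.2⟩
        left_inv := fun g => Subtype.ext (ε.symm_apply_apply g.1)
        right_inv := fun s => Subtype.ext (ε.apply_symm_apply s.1) }

end Cfsg.Agent.S3391
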