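import Cfsg.Statements.S3419
import Cfsg.Agent.Helper57.TwoPrimes
import Cfsg.Agent.Helper41.AltOrders
import Cfsg.Agent.Lib.Hall

set_option autoImplicit false
open Cfsg

namespace Cfsg.Agent.S3419

/-- In a group of order `p^a q^b` in which Sylow counting forces a unique Sylow `p`-subgroup,
there is only one Sylow `p`-subgroup. -/
theorem sylow_subsingleton_of_card {H : Type*} [Group H] [Finite H] (p q a b : ℕ) [Fact p.Prime]
    (hq : q.Prime) (hcard : Nat.card H = p ^ a * q ^ b)
    (h1 : ∀ i, i ≤ b → q ^ i % p = 1 → i = 0) : Subsingleton (Sylow p H) := by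
  have hp : p.Prime := Fact.out
  let P : Sylow p H := default
  have hdvd : Nat.card (Sylow p H) ∣ P.index := P.card_dvd_index
  have hidx : P.index ∣ q ^ b := by
    have h2 : P.index ∣ p ^ a * q ^ b := hcard ▸ Subgroup.index_dvd_card (P : Subgroup H)
    have hcop : Nat.Coprime P.index (p ^ a) :=
      Nat.Coprime.pow_right a ((Nat.Prime.coprime_iff_not_dvd hp).2 P.not_dvd_index).symm
    exact hcop.dvd_of_dvd_mul_left h2
  obtain ⟨i, hi, hni⟩ := (Nat.dvd_prime_pow hq).1 (hdvd.trans hidx)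
  have hmod : Nat.card (Sylow p H) ≡ 1 [MOD p] := card_sylow_modEq_one p H
  rw [hni] at hmod
  have h1p : 1 % p = 1 := Nat.one_mod_eq_one.2 hp.one_lt.ne'
  have hi0 : i = 0 := h1 i hi (by rw [← h1p]; exact hmod)
  rw [hi0, pow_zero] at hni
  exact (Nat.card_eq_one_iff_unique.1 hni).1

/-- A group of order `p^a q^b` with both Sylow subgroups forced to be normal by Sylow counting
has an element of order `p q`. -/
theorem exists_orderOf_eq_mul {H : Type*} [Group H] [Finite H] (p q a b : ℕ)
    (hp : p.Prime) (hq : q.Prime) (hpq : p ≠ q) (ha : 0 < a) (hb : 0 < b)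
    (hcard : Nat.card H = p ^ a * q ^ b)
    (h1 : ∀ i, i ≤ b → q ^ i % p = 1 → i = 0) (h2 : ∀ j, j ≤ a → p ^ j % q = 1 → j = 0) :
    ∃ x : H, orderOf x = p * q := by
  have : Fact p.Prime := ⟨hp⟩
  have : Fact q.Prime := ⟨hq⟩
  have hsp : Subsingleton (Sylow p H) := sylow_subsingleton_of_card p q a b hq hcard h1
  have hsq : Subsingleton (Sylow q H) :=
    sylow_subsingleton_of_card q p b a hp (by rw [hcard, mul_comm]) h2
  let P : Sylow p H := default
  let Q : Sylow q H := default
  have hPn : (P : Subgroup H).Normal := Sylow.normal_of_subsingleton P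
  have hQn : (Q : Subgroup H).Normal := Sylow.normal_of_subsingleton Q
  have hpH : p ∣ Nat.card H := by rw [hcard]; exact Dvd.dvd.mul_right (dvd_pow_self p ha.ne') _
  have hqH : q ∣ Nat.card H := by rw [hcard]; exact Dvd.dvd.mul_left (dvd_pow_self q hb.ne') _
  obtain ⟨x, hx⟩ := exists_prime_orderOf_dvd_card' (G := (P : Subgroup H)) p (P.dvd_card_of_dvd_card hpH)
  obtain ⟨y, hy⟩ := exists_prime_orderOf_dvd_card' (G := (Q : Subgroup H)) q (Q.dvd_card_of_dvd_card hqH)
  have hdis : Disjoint (P : Subgroup H) (Q : Subgroup H) :=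
    IsPGroup.disjoint_of_ne p q hpq _ _ P.isPGroup' Q.isPGroup'
  have hcomm : Commute (x : H) (y : H) :=
    Subgroup.commute_of_normal_of_disjoint _ _ hPn hQn hdis _ _ x.2 y.2
  have hx' : orderOf (x : H) = p := by rw [Subgroup.orderOf_coe]; exact hx
  have hy' : orderOf (y : H) = q := by rw [Subgroup.orderOf_coe]; exact hy
  refine ⟨(x : H) * (y : H), ?_⟩
  rw [hcomm.orderOf_mul_eq_mul_orderOf_of_coprime (by rw [hx', hy']; exact (Nat.coprime_primes hp hq).2 hpq),
    hx', hy']

/-- In a solvable group of order `p^a q^b r` with `r` prime to `p q` and Sylow counting as above,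
there is an element of order `p q`. -/
theorem exists_orderOf_eq_mul_of_solvable {G : Type*} [Group G] [Finite G] [Group.IsSolvable G]
    (p q a b r : ℕ) (hp : p.Prime) (hq : q.Prime) (hpq : p ≠ q) (ha : 0 < a) (hb : 0 < b)
    (hcard : Nat.card G = (p ^ a * q ^ b) * r) (hcop : (p ^ a * q ^ b).Coprime r)
    (h1 : ∀ i, i ≤ b → q ^ i % p = 1 → i = 0) (h2 : ∀ j, j ≤ a → p ^ j % q = 1 → j = 0) :
    ∃ x : G, orderOf x = p * q := by
  obtain ⟨H, hH⟩ := Cfsg.Agent.Lib.hall_exists (p ^ a * q ^ b) r hcard hcop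
  obtain ⟨x, hx⟩ := exists_orderOf_eq_mul (H := H) p q a b hp hq hpq ha hb hH h1 h2
  exact ⟨(x : G), by rw [Subgroup.orderOf_coe]; exact hx⟩

/-- `p q` is not an element order of `A_n` when `p + q > n`. -/
theorem mul_not_mem_spectrum (n p q : ℕ) (hp : p.Prime) (hq : q.Prime) (hpq : p ≠ q)
    (hsum : n < p + q) :
    p * q ∉ Set.range (orderOf : alternatingGroup (Fin n) → ℕ) := by
  rw [Cfsg.Agent.Helper41.mem_range_orderOf_alternatingGroup_iff]
  rintro ⟨s, hs, h2, -, hlcm⟩
  obtain ⟨a, has, hpa⟩ := Cfsg.Agent.Helper41.exists_dvd_of_prime_dvd_multiset_lcm hp s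
    (hlcm ▸ dvd_mul_right p q)
  obtain ⟨a', has', hqa'⟩ := Cfsg.Agent.Helper41.exists_dvd_of_prime_dvd_multiset_lcm hq s
    (hlcm ▸ dvd_mul_left q p)
  have ha0 : 0 < a := by have := h2 a has; omega
  have ha'0 : 0 < a' := by have := h2 a' has'; omega
  have hp2 := hp.two_le
  have hq2 := hq.two_le
  by_cases haa : a = a'
  · subst haa
    have hpq_dvd : p * q ∣ a := ((Nat.coprime_primes hp hq).2 hpq).mul_dvd_of_dvd_of_dvd hpa hqa'
    have h3 : p * q ≤ a := Nat.le_of_dvd ha0 hpq_dvd
    have h4 : a ≤ s.sum := Multiset.le_sum_of_mem has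
    have h5 : p + q ≤ p * q := by nlinarith
    omega
  · obtain ⟨t, rfl⟩ := Multiset.exists_cons_of_mem has
    have hmem : a' ∈ t := by
      rcases Multiset.mem_cons.1 has' with h | h
      · exact absurd h.symm haa
      · exact h
    have h4 : a' ≤ t.sum := Multiset.le_sum_of_mem hmem
    rw [Multiset.sum_cons] at hs
    have h6 : p ≤ a := Nat.le_of_dvd ha0 hpa
    have h7 : q ≤ a' := Nat.le_of_dvd ha'0 hqa'
    omega

/-- A prime `p ≥ 3` with `n < 2p` divides `n!` at most once. -/
theorem prime_sq_not_dvd_factorial {p n : ℕ} (hp : p.Prime) (hn0 : n ≠ 0) (h1 : n < 2 * p) (h3 : 3 ≤ p) :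
    ¬ p ^ 2 ∣ n.factorial := by
  have hlog : Nat.log p n < 2 := by
    apply Nat.log_lt_of_lt_pow hn0
    nlinarith
  rw [hp.pow_dvd_factorial_iff hlog]
  have : ∑ i ∈ Finset.Ico 1 2, n / p ^ i = n / p := by
    simp
  rw [this]
  have : n / p < 2 := Nat.div_lt_of_lt_mul (by omega)
  omega

/-- Two primes in `(n/2, n]` unless `n = 6` or `n = 10`. -/
theorem two_primes_half (n : ℕ) (hn : 5 ≤ n) (h6 : n ≠ 6) (h10 : n ≠ 10) :
    ∃ p q : ℕ, p.Prime ∧ q.Prime ∧ q < p ∧ p ≤ n ∧ n < 2 * q := by
  by_cases h12 : 12 ≤ n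
  · obtain ⟨p, q, hp, hq, h1, h2, h3⟩ := Cfsg.Agent.Helper57.exists_two_primes (n / 2) (by omega)
    exact ⟨p, q, hp, hq, h2, by omega, by omega⟩
  · have : n = 5 ∨ n = 7 ∨ n = 8 ∨ n = 9 ∨ n = 11 := by omega
    rcases this with rfl | rfl | rfl | rfl | rfl
    · exact ⟨5, 3, by norm_num, by norm_num, by norm_num, by norm_num, by norm_num⟩
    · exact ⟨7, 5, by norm_num, by norm_num, by norm_num, by norm_num, by norm_num⟩
    · exact ⟨7, 5, by norm_num, by norm_num, by norm_num, by norm_num, by norm_num⟩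
    · exact ⟨7, 5, by norm_num, by norm_num, by norm_num, by norm_num, by norm_num⟩
    · exact ⟨11, 7, by norm_num, by norm_num, by norm_num, by norm_num, by norm_num⟩

/-- Let n ≥ 5 and let G be a finite group with the same order and the same set of element orders as the alternating group of degree n. Then G is not solvable. -/
theorem result {G : Type*} [Group G] [Finite G] (n : ℕ) (hn : 5 ≤ n)
    (hcard : Nat.card G = Nat.card ↥(alternatingGroup (Fin n)))
    (hspec : Set.range (orderOf : G → ℕ) = Set.range (orderOf : ↥(alternatingGroup (Fin n)) → ℕ)) :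
    ¬ Group.IsSolvable G := by
  intro hsol
  have : Nontrivial (Fin n) := Fin.nontrivial_iff_two_le.2 (by omega)
  have hfact : 2 * Nat.card G = n.factorial := by
    rw [hcard, two_mul_nat_card_alternatingGroup, Nat.card_perm, Nat.card_eq_fintype_card,
      Fintype.card_fin]
  -- it suffices to produce suitable `p`, `q`
  suffices key : ∃ p q a b r : ℕ, p.Prime ∧ q.Prime ∧ p ≠ q ∧ 0 < a ∧ 0 < b ∧
      Nat.card G = (p ^ a * q ^ b) * r ∧ (p ^ a * q ^ b).Coprime r ∧
      (∀ i, i ≤ b → q ^ i % p = 1 → i = 0) ∧ (∀ j, j ≤ a → p ^ j % q = 1 → j = 0) ∧ n < p + q by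
    obtain ⟨p, q, a, b, r, hp, hq, hpq, ha, hb, hc, hcop, h1, h2, hsum⟩ := key
    obtain ⟨x, hx⟩ := exists_orderOf_eq_mul_of_solvable p q a b r hp hq hpq ha hb hc hcop h1 h2
    have hmem : p * q ∈ Set.range (orderOf : G → ℕ) := ⟨x, hx⟩
    rw [hspec] at hmem
    exact mul_not_mem_spectrum n p q hp hq hpq hsum hmem
  by_cases h6 : n = 6
  · subst h6
    have hG : Nat.card G = 360 := by
      have : (6 : ℕ).factorial = 720 := by decide
      omega
    refine ⟨5, 3, 1, 2, 8, by norm_num, by norm_num, by norm_num, by norm_num, by norm_num,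
      by rw [hG]; norm_num, by norm_num, ?_, ?_, by norm_num⟩
    · intro i hi h
      interval_cases i <;> simp_all
    · intro j hj h
      interval_cases j <;> simp_all
  by_cases h10 : n = 10
  · subst h10
    have hG : Nat.card G = 1814400 := by
      have : (10 : ℕ).factorial = 3628800 := by decide
      omega
    refine ⟨7, 5, 1, 2, 10368, by norm_num, by norm_num, by norm_num, by norm_num, by norm_num,
      by rw [hG]; norm_num, by norm_num, ?_, ?_, by norm_num⟩
    · intro i hi h
      interval_cases i <;> simp_all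
    · intro j hj h
      interval_cases j <;> simp_all
  -- generic case: two primes in `(n/2, n]`
  obtain ⟨p, q, hp, hq, hqp, hpn, hnq⟩ := two_primes_half n hn h6 h10
  have hq3 : 3 ≤ q := by
    have := hq.two_le
    by_contra h
    have : q = 2 := by omega
    omega
  have hp3 : 3 ≤ p := by omega
  have hpodd : ¬ p ∣ 2 := fun h => by have := Nat.le_of_dvd (by norm_num) h; omega
  have hqodd : ¬ q ∣ 2 := fun h => by have := Nat.le_of_dvd (by norm_num) h; omega
  have hpG : p ∣ Nat.card G := by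
    have : p ∣ 2 * Nat.card G := hfact ▸ (hp.dvd_factorial.2 hpn)
    exact (hp.dvd_mul.1 this).resolve_left hpodd
  have hqG : q ∣ Nat.card G := by
    have : q ∣ 2 * Nat.card G := hfact ▸ (hq.dvd_factorial.2 (by omega))
    exact (hq.dvd_mul.1 this).resolve_left hqodd
  have hpq_cop : Nat.Coprime p q := (Nat.coprime_primes hp hq).2 (by omega)
  have hpqG : p * q ∣ Nat.card G := hpq_cop.mul_dvd_of_dvd_of_dvd hpG hqG
  obtain ⟨r, hr⟩ := hpqG
  have hp2 : ¬ p ^ 2 ∣ n.factorial := prime_sq_not_dvd_factorial hp (by omega) (by omega) hp3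
  have hq2 : ¬ q ^ 2 ∣ n.factorial := prime_sq_not_dvd_factorial hq (by omega) (by omega) hq3
  have hpr : ¬ p ∣ r := by
    intro h
    obtain ⟨k, rfl⟩ := h
    apply hp2
    rw [← hfact, hr]
    exact ⟨2 * q * k, by ring⟩
  have hqr : ¬ q ∣ r := by
    intro h
    obtain ⟨k, rfl⟩ := h
    apply hq2
    rw [← hfact, hr]
    exact ⟨2 * p * k, by ring⟩
  refine ⟨p, q, 1, 1, r, hp, hq, by omega, by norm_num, by norm_num, by simpa using hr, ?_, ?_, ?_,
    by omega⟩
  · simp only [pow_one]
    exact Nat.Coprime.mul_left ((Nat.Prime.coprime_iff_not_dvd hp).2 hpr)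
      ((Nat.Prime.coprime_iff_not_dvd hq).2 hqr)
  · intro i hi h
    interval_cases i
    · rfl
    · exfalso
      rw [pow_one, Nat.mod_eq_of_lt hqp] at h
      omega
  · intro j hj h
    interval_cases j
    · rfl
    · exfalso
      rw [pow_one] at h
      have h5 : p % q = p - q := by
        rw [Nat.mod_eq_sub_mod (by omega), Nat.mod_eq_of_lt (by omega)]
      rw [h5] at h
      -- p = q + 1 is impossible for primes ≥ 3
      have hpe : p = q + 1 := by omega
      rcases Nat.Prime.eq_one_or_self_of_dvd hp 2 (by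
        rcases Nat.Prime.eq_two_or_odd' hq with h2 | hodd
        · omega
        · obtain ⟨k, hk⟩ := hodd
          exact ⟨k + 1, by omega⟩) with h | h <;> omega

end Cfsg.Agent.S3419
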