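import Cfsg.Statements.S3420
import Cfsg.Agent.S3419
import Cfsg.Agent.Helper57.Frattini
import Cfsg.Agent.Helper57.ChiefP

set_option autoImplicit false
open Cfsg

namespace Cfsg.Agent.S3420

/-- For distinct odd numbers `r, t` in `(n/2, n]`, `t` does not divide `r - 1`. -/
theorem not_dvd_sub_one {n r t : ℕ} (hr : Odd r) (ht : Odd t) (hrn : r ≤ n) (hnt : n < 2 * t)
    (hr1 : 1 < r) : ¬ t ∣ r - 1 := by
  rintro ⟨k, hk⟩
  obtain ⟨a, ha⟩ := hr
  obtain ⟨b, hb⟩ := ht
  rcases Nat.lt_or_ge k 2 with h | h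
  · interval_cases k
    · omega
    · omega
  · have : 2 * t ≤ t * k := by nlinarith
    omega

/-- Let n ≥ 11 and let G be a finite group with the same order and the same set of element orders as the alternating group of degree n. Then G has normal subgroups N < H such that H/N is a non-abelian simple group whose order is divisible by every prime p with n/2 < p ≤ n. -/
theorem result {G : Type*} [Group G] [Finite G] (n : ℕ) (hn : 11 ≤ n)
    (hcard : Nat.card G = Nat.card ↥(alternatingGroup (Fin n)))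
    (hspec : Set.range (orderOf : G → ℕ) = Set.range (orderOf : ↥(alternatingGroup (Fin n)) → ℕ)) :
    ∃ (N H : Subgroup G) (_ : N.Normal), H.Normal ∧ N < H ∧
      IsSimpleGroup (↥H ⧸ N.subgroupOf H) ∧ ¬ IsMulCommutative (↥H ⧸ N.subgroupOf H) ∧
      ∀ p : ℕ, p.Prime → n < 2 * p → p ≤ n → p ∣ Nat.card (↥H ⧸ N.subgroupOf H) := by
  have : Nontrivial (Fin n) := Fin.nontrivial_iff_two_le.2 (by omega)
  have hfact : 2 * Nat.card G = n.factorial := by
    rw [hcard, two_mul_nat_card_alternatingGroup, Nat.card_perm, Nat.card_eq_fintype_card,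
      Fintype.card_fin]
  -- facts about primes in `(n/2, n]`
  have hfacts : ∀ s : ℕ, s.Prime → n < 2 * s → s ≤ n →
      Odd s ∧ s ∣ Nat.card G ∧ ¬ s ^ 2 ∣ Nat.card G := by
    intro s hs h1 h2
    have hs3 : 3 ≤ s := by
      have := hs.two_le
      omega
    have hodd : Odd s := hs.odd_of_ne_two (by omega)
    have hs2 : ¬ s ∣ 2 := fun h => by have := Nat.le_of_dvd (by norm_num) h; omega
    refine ⟨hodd, ?_, ?_⟩
    · have : s ∣ 2 * Nat.card G := hfact ▸ (hs.dvd_factorial.2 h2)
      exact (hs.dvd_mul.1 this).resolve_left hs2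
    · intro h
      have h3 : ¬ s ^ 2 ∣ n.factorial :=
        Cfsg.Agent.S3419.prime_sq_not_dvd_factorial hs (by omega) h1 hs3
      exact h3 (hfact ▸ Dvd.dvd.mul_left h 2)
  have hnoelt : ∀ r t : ℕ, r.Prime → t.Prime → r ≠ t → n < r + t → ¬ ∃ g : G, orderOf g = r * t := by
    rintro r t hr ht hrt hsum ⟨g, hg⟩
    have hmem : r * t ∈ Set.range (orderOf : G → ℕ) := ⟨g, hg⟩
    rw [hspec] at hmem
    exact Cfsg.Agent.S3419.mul_not_mem_spectrum n r t hr ht hrt hsum hmem
  obtain ⟨p, q, hp, hq, hqp, hpn, hnq⟩ := Cfsg.Agent.S3419.two_primes_half n (by omega) (by omega)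
    (by omega)
  obtain ⟨hpodd, hpG, hp2⟩ := hfacts p hp (by omega) hpn
  obtain ⟨N, H, hNn, hHn, hNH, hsimple, hpH, hpN⟩ :=
    Cfsg.Agent.Helper57.exists_simple_section_of_prime_dvd_once hp hpG hp2
  have hcardsub : Nat.card (N.subgroupOf H) = Nat.card N :=
    Nat.card_congr (Subgroup.subgroupOfEquivOfLe hNH.le).toEquiv
  have hcardH : Nat.card H = Nat.card (↥H ⧸ N.subgroupOf H) * Nat.card N := by
    rw [← hcardsub]
    exact Subgroup.card_eq_card_quotient_mul_card_subgroup _
  -- each prime of `(n/2, n]` divides `|H/N|`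
  have hprimes : ∀ s : ℕ, s.Prime → n < 2 * s → s ≤ n →
      s ∣ Nat.card (↥H ⧸ N.subgroupOf H) := by
    intro s hs h1 h2
    obtain ⟨hsodd, hsG, hs2⟩ := hfacts s hs h1 h2
    by_cases hsp : s = p
    · subst hsp
      have : s ∣ Nat.card (↥H ⧸ N.subgroupOf H) * Nat.card N := hcardH ▸ hpH
      exact (hs.dvd_mul.1 this).resolve_right hpN
    · have hsN : ¬ s ∣ Nat.card N := by
        intro hsN
        apply hnoelt s p hs hp hsp (by omega)
        exact Cfsg.Agent.Helper57.exists_orderOf_mul_of_frattini N s p hs hp hsN hs2 hpG hpN hsp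
          (not_dvd_sub_one hsodd hpodd h2 (by omega) hs.one_lt)
      have hsH : s ∣ Nat.card H := by
        by_contra hsH
        apply hnoelt p s hp hs (Ne.symm hsp) (by omega)
        exact Cfsg.Agent.Helper57.exists_orderOf_mul_of_frattini H p s hp hs hpH hp2 hsG hsH
          (Ne.symm hsp) (not_dvd_sub_one hpodd hsodd hpn h1 hp.one_lt)
      have : s ∣ Nat.card (↥H ⧸ N.subgroupOf H) * Nat.card N := hcardH ▸ hsH
      exact (hs.dvd_mul.1 this).resolve_right hsN
  refine ⟨N, H, hNn, hHn, hNH, hsimple, ?_, hprimes⟩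
  -- non-commutativity: a commutative simple group has prime order
  intro hcomm
  have hprime : (Nat.card (↥H ⧸ N.subgroupOf H)).Prime :=
    @IsSimpleGroup.prime_card (↥H ⧸ N.subgroupOf H)
      { (QuotientGroup.Quotient.group (N.subgroupOf H)) with mul_comm := hcomm.is_comm.comm } hsimple
  have h1 := hprimes p hp (by omega) hpn
  have h2 := hprimes q hq hnq (by omega)
  have e1 := (Nat.prime_dvd_prime_iff_eq hp hprime).1 h1
  have e2 := (Nat.prime_dvd_prime_iff_eq hq hprime).1 h2
  omega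

end Cfsg.Agent.S3420
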