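import Cfsg.Statements.S3430
import Cfsg.Agent.Helper57.ZsigMain

set_option autoImplicit false
open Cfsg

namespace Cfsg.Agent.S3430

open Cfsg.Agent.Helper57.Zsig

theorem sq_sub_one (q : ℕ) (hq : 1 ≤ q) : q ^ 2 - 1 = (q + 1) * (q - 1) := by
  obtain ⟨b, rfl⟩ : ∃ b, q = b + 1 := ⟨q - 1, by omega⟩
  have : (b + 1) ^ 2 = (b + 1 + 1) * b + 1 := by ring
  rw [Nat.add_sub_cancel]
  omega

/-- The case `n = 2`. -/
theorem case_two (q : ℕ) (hq : 2 ≤ q)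
    (h1 : ¬ ∃ s t : ℕ, t ≤ 1 ∧ q + 1 = 2 ^ s * 3 ^ t) :
    ∃ p : ℕ, p.Prime ∧ p ∣ q ^ 2 - 1 ∧ (∀ i : ℕ, 1 ≤ i → i < 2 → ¬ p ∣ q ^ i - 1) ∧
      (2 + 1 < p ∨ p ^ 2 ∣ q ^ 2 - 1) := by
  have hsq := sq_sub_one q (by omega)
  have hN0 : q + 1 ≠ 0 := by omega
  -- a prime `p ≠ 2` dividing `q + 1` does not divide `q - 1`
  have hnd : ∀ p : ℕ, p.Prime → p ≠ 2 → p ∣ q + 1 → ∀ i : ℕ, 1 ≤ i → i < 2 → ¬ p ∣ q ^ i - 1 := by
    intro p hp hp2 hpd i hi hi2 hdvd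
    have hi1 : i = 1 := by omega
    subst hi1
    rw [pow_one] at hdvd
    have h3 : p ∣ (q + 1) - (q - 1) := Nat.dvd_sub hpd hdvd
    have h4 : (q + 1) - (q - 1) = 2 := by omega
    rw [h4] at h3
    exact hp2 ((Nat.prime_dvd_prime_iff_eq hp Nat.prime_two).1 h3)
  obtain ⟨s, r, hr2, hNr⟩ := Nat.exists_eq_pow_mul_and_not_dvd hN0 2 (by norm_num)
  have hr0 : r ≠ 0 := by
    rintro rfl
    rw [mul_zero] at hNr
    omega
  obtain ⟨t, r', hr3, hrr⟩ := Nat.exists_eq_pow_mul_and_not_dvd hr0 3 (by norm_num)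
  by_cases hr1 : r' = 1
  · -- `q + 1 = 2^s 3^t` with `t ≥ 2`
    subst hr1
    rw [mul_one] at hrr
    subst hrr
    have ht : 2 ≤ t := by
      by_contra hcon
      exact h1 ⟨s, t, by omega, hNr⟩
    have h9 : 3 ^ 2 ∣ q + 1 := by
      rw [hNr]
      exact Dvd.dvd.mul_left (pow_dvd_pow 3 ht) _
    have h3d : 3 ∣ q + 1 := Dvd.dvd.trans (by norm_num) h9
    refine ⟨3, Nat.prime_three, ?_, hnd 3 Nat.prime_three (by norm_num) h3d, Or.inr ?_⟩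
    · rw [hsq]; exact Dvd.dvd.mul_right h3d _
    · rw [hsq]; exact Dvd.dvd.mul_right h9 _
  · obtain ⟨p, hp, hpr⟩ := Nat.exists_prime_and_dvd hr1
    have hpr2 : p ∣ r := hrr ▸ Dvd.dvd.mul_left hpr _
    have hpN : p ∣ q + 1 := hNr ▸ Dvd.dvd.mul_left hpr2 _
    have hp2 : p ≠ 2 := by
      rintro rfl
      exact hr2 hpr2
    have hp3 : p ≠ 3 := by
      rintro rfl
      exact hr3 hpr
    have hp5 : 2 + 1 < p := by
      by_contra hcon
      have h2 := hp.two_le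
      have hp4 : p = 4 := by omega
      subst hp4
      norm_num at hp
    refine ⟨p, hp, ?_, hnd p hp hp2 hpN, Or.inl hp5⟩
    rw [hsq]; exact Dvd.dvd.mul_right hpN _

/-- Let q, n ≥ 2 be integers. Unless (n = 2 and q + 1 = 2^s·3^t for some s ≥ 0 and t ≤ 1), or (q = 2 and n ∈ {4, 6, 10, 12, 18}), or (q = 3 and n ∈ {4, 6}), or (q, n) = (5, 6), there is a prime p dividing q^n − 1 but no q^i − 1 with 1 ≤ i < n (a primitive prime divisor), such that p > n + 1 or p² divides q^n − 1. -/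
theorem result (q n : ℕ) (hq : 2 ≤ q) (hn : 2 ≤ n)
    (h1 : ¬ (n = 2 ∧ ∃ s t : ℕ, t ≤ 1 ∧ q + 1 = 2 ^ s * 3 ^ t))
    (h2 : ¬ (q = 2 ∧ (n = 4 ∨ n = 6 ∨ n = 10 ∨ n = 12 ∨ n = 18)))
    (h3 : ¬ (q = 3 ∧ (n = 4 ∨ n = 6))) (h4 : ¬ (q = 5 ∧ n = 6)) :
    ∃ p : ℕ, p.Prime ∧ p ∣ q ^ n - 1 ∧ (∀ i : ℕ, 1 ≤ i → i < n → ¬ p ∣ q ^ i - 1) ∧ (n + 1 < p ∨ p ^ 2 ∣ q ^ n - 1) := by
  rcases Nat.lt_or_ge n 3 with hn3 | hn3
  · have hn2 : n = 2 := by omega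
    subst hn2
    exact case_two q hq (fun h => h1 ⟨rfl, h⟩)
  · by_cases hex : (q, n) ∈ exc
    · unfold exc at hex
      simp only [List.mem_cons, Prod.mk.injEq, List.mem_nil_iff, or_false] at hex
      rcases hex with ⟨rfl, rfl⟩ | ⟨rfl, rfl⟩ | ⟨rfl, rfl⟩ | ⟨rfl, rfl⟩ | ⟨rfl, rfl⟩ | ⟨rfl, rfl⟩ |
        ⟨rfl, rfl⟩ | ⟨rfl, rfl⟩ | ⟨rfl, rfl⟩ | ⟨rfl, rfl⟩ | ⟨rfl, rfl⟩ | ⟨rfl, rfl⟩ | ⟨rfl, rfl⟩
      · exact absurd ⟨rfl, by norm_num⟩ h2
      · exact absurd ⟨rfl, by norm_num⟩ h2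
      · exact absurd ⟨rfl, by norm_num⟩ h2
      · exact absurd ⟨rfl, by norm_num⟩ h2
      · exact absurd ⟨rfl, by norm_num⟩ h2
      · exact absurd ⟨rfl, by norm_num⟩ h3
      · exact absurd ⟨rfl, by norm_num⟩ h3
      · exact absurd ⟨rfl, rfl⟩ h4
      · -- (2, 3)
        refine ⟨7, by norm_num, by norm_num, ?_, Or.inl (by norm_num)⟩
        intro i hi hin
        interval_cases i <;> norm_num
      · -- (2, 8)
        refine ⟨17, by norm_num, by norm_num, ?_, Or.inl (by norm_num)⟩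
        intro i hi hin
        interval_cases i <;> norm_num
      · -- (2, 20)
        refine ⟨41, by norm_num, by norm_num, ?_, Or.inl (by norm_num)⟩
        intro i hi hin
        interval_cases i <;> norm_num
      · -- (4, 3)
        refine ⟨7, by norm_num, by norm_num, ?_, Or.inl (by norm_num)⟩
        intro i hi hin
        interval_cases i <;> norm_num
      · -- (4, 6)
        refine ⟨13, by norm_num, by norm_num, ?_, Or.inl (by norm_num)⟩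
        intro i hi hin
        interval_cases i <;> norm_num
    · have hpp := le_ppart_of_not_exc hq hn3 hex
      exact exists_large_of_lt_ppart hn3 hq (by omega)

end Cfsg.Agent.S3430
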