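import Cfsg.Statements.S3431
import Cfsg.Agent.Helper39.Nse.Alt
import Cfsg.Agent.Helper39.Nse.Check
import Cfsg.Agent.Helper39.Nse.Simple
import Cfsg.Agent.S0228
import Cfsg.Agent.S0494
import Cfsg.Agent.S0497

set_option autoImplicit false
open Cfsg

namespace Cfsg.Agent.S3431

open Cfsg.Agent.Helper39.Nse Cfsg.Agent.Helper66

/-- Let n be 4, 5 or 6 and let G be a finite group whose set of sizes of same-order classes (the set of numbers #{g : o(g) = m} over the element orders m of G) equals that of the alternating group of degree n. Then G is isomorphic to that alternating group. -/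
theorem result {G : Type*} [Group G] [Finite G] (n : ℕ) (hn : n = 4 ∨ n = 5 ∨ n = 6)
    (h : ((fun m : ℕ => Nat.card {g : G // orderOf g = m}) '' Set.range (orderOf : G → ℕ)) = ((fun m : ℕ => Nat.card {g : ↥(alternatingGroup (Fin n)) // orderOf g = m}) '' Set.range (orderOf : ↥(alternatingGroup (Fin n)) → ℕ))) :
    Nonempty (G ≃* ↥(alternatingGroup (Fin n))) := by
  rw [image_eq G, image_eq (alternatingGroup (Fin n))] at h
  have h' : ∀ v, (v ≠ 0 ∧ ∃ m, cnt G m = v) ↔
      (v ≠ 0 ∧ ∃ m, cnt (alternatingGroup (Fin n)) m = v) := fun v => Set.ext_iff.mp h v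
  rcases hn with rfl | rfl | rfl
  · -- `n = 4`
    have hc : ∀ v, (v ≠ 0 ∧ ∃ m, cnt G m = v) ↔ (v = 1 ∨ v ∈ [3, 8]) :=
      fun v => (h' v).trans (alt_counts4 v)
    have P := profile_of_counts (G := G) (v0 := 3) (by decide) (by simp) (by simp) hc
    obtain ⟨hN, hA⟩ := P.solve (vmax := 8) (by decide) primes_4 bounds_4 check_4
    have hord : ∀ x : G, orderOf x ≤ 3 := fun x =>
      key_le_of_assign (by norm_num) hA (by decide)
        (by rw [← hN]; exact orderOf_dvd_natCard x) (cnt_pos_of_orderOf x).ne'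
    exact Cfsg.Agent.S0228.result hN (no_central_involution hN hord)
  · -- `n = 5`
    have hc : ∀ v, (v ≠ 0 ∧ ∃ m, cnt G m = v) ↔ (v = 1 ∨ v ∈ [15, 20, 24]) :=
      fun v => (h' v).trans (alt_counts5 v)
    have P := profile_of_counts (G := G) (v0 := 15) (by decide) (by simp) (by simp) hc
    obtain ⟨hN, hA⟩ := P.solve (vmax := 24) (by decide) primes_5 bounds_5 check_5
    have hord : ∀ x : G, orderOf x ≤ 5 := fun x =>
      key_le_of_assign (by norm_num) hA (by decide)
        (by rw [← hN]; exact orderOf_dvd_natCard x) (cnt_pos_of_orderOf x).ne'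
    have h3 : cnt G 3 = 20 := value_of_assign hA (k := 3) (v := 20) (by decide)
    have h5 : cnt G 5 = 24 := value_of_assign hA (k := 5) (v := 24) (by decide)
    have := simple_of_profile5 hN hord h3 h5
    exact Cfsg.Agent.S0494.result hN
  · -- `n = 6`
    have hc : ∀ v, (v ≠ 0 ∧ ∃ m, cnt G m = v) ↔ (v = 1 ∨ v ∈ [45, 80, 90, 144]) :=
      fun v => (h' v).trans (alt_counts6 v)
    have P := profile_of_counts (G := G) (v0 := 45) (by decide) (by simp) (by simp) hc
    obtain ⟨hN, hA⟩ := P.solve (vmax := 144) (by decide) primes_6 bounds_6 check_6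
    have hord : ∀ x : G, orderOf x ≤ 5 := fun x =>
      key_le_of_assign (by norm_num) hA (by decide)
        (by rw [← hN]; exact orderOf_dvd_natCard x) (cnt_pos_of_orderOf x).ne'
    have h3 : cnt G 3 = 80 := value_of_assign hA (k := 3) (v := 80) (by decide)
    have h5 : cnt G 5 = 144 := value_of_assign hA (k := 5) (v := 144) (by decide)
    have := simple_of_profile6 hN hord h3 h5
    exact Cfsg.Agent.S0497.result hN

end Cfsg.Agent.S3431
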