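import Cfsg.Statements.S3437
import Cfsg.Agent.Helper98.Fro13
import Cfsg.Agent.Helper98.SL33
import Cfsg.Agent.Helper96.PSLTwoElt

set_option autoImplicit false
open Cfsg

namespace Cfsg.Agent.S3437

/-- There is a finite solvable group with exactly the same set of element orders as the simple group PSL(3,3). -/
theorem result {F : Type*} [Field F] [Fintype F] (hF : Fintype.card F = 3) :
    ∃ (H : Type) (_ : Group H) (_ : Fintype H), Group.IsSolvable H ∧
      Set.range (orderOf : H → ℕ) = Set.range (orderOf : Matrix.ProjectiveSpecialLinearGroup (Fin 3) F → ℕ) := by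
  classical
  have hcen : Subgroup.center (Matrix.SpecialLinearGroup (Fin 3) F) = ⊥ := by
    rw [eq_bot_iff]
    intro A hA
    rw [Subgroup.mem_bot]
    rw [Matrix.SpecialLinearGroup.mem_center_iff] at hA
    obtain ⟨r, hr, hA⟩ := hA
    have hr1 : r = 1 := by
      have h3 : r ^ Fintype.card F = r := FiniteField.pow_card r
      rw [hF] at h3
      simp only [Fintype.card_fin] at hr
      rw [← h3, hr]
    apply Subtype.ext
    rw [← hA, hr1]
    simp
  have : Fact (Nat.Prime 3) := ⟨Nat.prime_three⟩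
  let e : Matrix.ProjectiveSpecialLinearGroup (Fin 3) F ≃* Cfsg.Agent.Helper98.SL33.SL3 :=
    ((QuotientGroup.quotientMulEquivOfEq hcen).trans QuotientGroup.quotientBot).trans
      (Cfsg.Agent.Helper96.slMapEquiv (ZMod.ringEquivOfPrime F Nat.prime_three hF).symm)
  refine ⟨Cfsg.Agent.Helper98.Fro13.H13, inferInstance, Fintype.ofFinite _,
    Cfsg.Agent.Helper98.Fro13.isSolvable_H13, ?_⟩
  rw [Cfsg.Agent.Helper98.Fro13.range_orderOf_H13, ← Cfsg.Agent.Helper98.SL33.range_orderOf]
  ext k
  constructor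
  · rintro ⟨A, rfl⟩
    exact ⟨e.symm A, e.symm.orderOf_eq A⟩
  · rintro ⟨A, rfl⟩
    exact ⟨e A, e.orderOf_eq A⟩

end Cfsg.Agent.S3437
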