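import Cfsg.Statements.S3449
import Cfsg.Agent.Helper57.A5Spec

set_option autoImplicit false
open Cfsg

namespace Cfsg.Agent.S3449

theorem zmod30_spectrum :
    Set.range (orderOf : Multiplicative (ZMod 30) → ℕ) = {1, 2, 3, 5, 6, 10, 15, 30} := by
  ext n
  simp only [Set.mem_range, Set.mem_insert_iff, Set.mem_singleton_iff]
  constructor
  · rintro ⟨g, rfl⟩
    have h : orderOf g ∣ 30 := by
      have := orderOf_dvd_card (x := g)
      simpa using this
    have hmem : orderOf g ∈ Nat.divisors 30 := Nat.mem_divisors.2 ⟨h, by norm_num⟩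
    have hd : Nat.divisors 30 = {1, 2, 3, 5, 6, 10, 15, 30} := by decide
    rw [hd] at hmem
    simpa using hmem
  · intro h
    have key : ∀ k : ℕ, orderOf (Multiplicative.ofAdd ((k : ℕ) : ZMod 30)) = 30 / Nat.gcd 30 k := by
      intro k
      rw [orderOf_ofAdd_eq_addOrderOf, ZMod.addOrderOf_coe k (by norm_num)]
    rcases h with rfl | rfl | rfl | rfl | rfl | rfl | rfl | rfl
    · exact ⟨_, (key 0).trans (by norm_num)⟩
    · exact ⟨_, (key 15).trans (by norm_num)⟩
    · exact ⟨_, (key 10).trans (by norm_num)⟩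
    · exact ⟨_, (key 6).trans (by norm_num)⟩
    · exact ⟨_, (key 5).trans (by norm_num)⟩
    · exact ⟨_, (key 3).trans (by norm_num)⟩
    · exact ⟨_, (key 2).trans (by norm_num)⟩
    · exact ⟨_, (key 1).trans (by norm_num)⟩

/-- The direct product of three copies of the alternating group of degree 5 has exactly the same set of element orders as the cyclic group of order 30, namely the divisors of 30; in particular a direct power of a non-abelian simple group need not be determined by its element orders. -/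
theorem result : Set.range (orderOf : alternatingGroup (Fin 5) × alternatingGroup (Fin 5) × alternatingGroup (Fin 5) → ℕ) =
      Set.range (orderOf : Multiplicative (ZMod 30) → ℕ) := by
  rw [zmod30_spectrum]
  obtain ⟨g2, h2⟩ := Cfsg.Agent.Helper57.a5_exists_order_two
  obtain ⟨g3, h3⟩ := Cfsg.Agent.Helper57.a5_exists_order_three
  obtain ⟨g5, h5⟩ := Cfsg.Agent.Helper57.a5_exists_order_five
  ext n
  simp only [Set.mem_range, Set.mem_insert_iff, Set.mem_singleton_iff]
  constructor
  · rintro ⟨⟨a, b, c⟩, rfl⟩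
    rw [Prod.orderOf_mk, Prod.orderOf_mk]
    rcases Cfsg.Agent.Helper57.a5_orderOf_mem a with ha | ha | ha | ha <;>
    rcases Cfsg.Agent.Helper57.a5_orderOf_mem b with hb | hb | hb | hb <;>
    rcases Cfsg.Agent.Helper57.a5_orderOf_mem c with hc | hc | hc | hc <;>
    rw [ha, hb, hc] <;> decide
  · rintro (rfl | rfl | rfl | rfl | rfl | rfl | rfl | rfl)
    · exact ⟨1, orderOf_one⟩
    · exact ⟨(g2, 1, 1), by rw [Prod.orderOf_mk, Prod.orderOf_mk, h2, orderOf_one]; rfl⟩
    · exact ⟨(g3, 1, 1), by rw [Prod.orderOf_mk, Prod.orderOf_mk, h3, orderOf_one]; rfl⟩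
    · exact ⟨(g5, 1, 1), by rw [Prod.orderOf_mk, Prod.orderOf_mk, h5, orderOf_one]; rfl⟩
    · exact ⟨(g2, g3, 1), by rw [Prod.orderOf_mk, Prod.orderOf_mk, h2, h3, orderOf_one]; rfl⟩
    · exact ⟨(g2, g5, 1), by rw [Prod.orderOf_mk, Prod.orderOf_mk, h2, h5, orderOf_one]; rfl⟩
    · exact ⟨(g3, g5, 1), by rw [Prod.orderOf_mk, Prod.orderOf_mk, h3, h5, orderOf_one]; rfl⟩
    · exact ⟨(g2, g3, g5), by rw [Prod.orderOf_mk, Prod.orderOf_mk, h2, h3, h5]; rfl⟩

end Cfsg.Agent.S3449
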