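import Cfsg.Statements.S3452
import Cfsg.Agent.S3444
import Cfsg.Agent.Helper9.PGL2Spec
import Cfsg.Agent.Helper9.PGL2Two
import Cfsg.Agent.Helper58.GroupNine

set_option autoImplicit false
open Cfsg

namespace Cfsg.Agent.S3452

/-- For F a finite field whose number of elements is a prime or equals 9, the group PGL(2,F) = GL(2,F)/Z(GL(2,F)) is not determined by its set of element orders: for every bound N there is a finite group of order greater than N with exactly the same set of element orders as PGL(2,F). -/
theorem result {F : Type*} [Field F] [Fintype F] (hF : (Fintype.card F).Prime ∨ Fintype.card F = 9) (N : ℕ) :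
    ∃ (H : Type) (_ : Group H) (_ : Fintype H), N < Fintype.card H ∧
      Set.range (orderOf : H → ℕ) = Set.range (orderOf : Matrix.GeneralLinearGroup (Fin 2) F ⧸ Subgroup.center (Matrix.GeneralLinearGroup (Fin 2) F) → ℕ) := by
  classical
  by_cases hodd : Fintype.card F % 2 = 1
  · have hspec := Cfsg.Agent.Helper9.Weil.range_orderOf_pgl2 (F := F) hodd
    rcases hF with hp | h9
    · -- `|F| = p` an odd prime: `V ⋊ PSL₂(p)` for the characteristic-two Weil module `V`
      obtain ⟨G, hG, hfin, K, hKn, hK, hsol, hrange⟩ :=
        Cfsg.Agent.Helper9.Weil.exists_weil_group (F := F) hp hodd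
      obtain ⟨H, hH1, hH2, hcard, hHspec⟩ := Cfsg.Agent.S3444.result K hK hsol N
      exact ⟨H, hH1, hH2, hcard, by rw [hHspec, hrange, hspec]⟩
    · -- `|F| = 9`: the Frobenius group `3^4 : (5 : 8)` (helper58)
      obtain ⟨G, hG, hfin, K, hKn, hK, hsol, hrange⟩ := Cfsg.Agent.Helper58.exists_group_nine
      obtain ⟨H, hH1, hH2, hcard, hHspec⟩ := Cfsg.Agent.S3444.result K hK hsol N
      refine ⟨H, hH1, hH2, hcard, ?_⟩
      have hchar : ringChar F = 3 := by
        obtain ⟨n, hprime, hcardF⟩ := FiniteField.card F (ringChar F)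
        rw [h9] at hcardF
        have h1 : ringChar F ∣ 3 ^ 2 := by
          rw [show (3 : ℕ) ^ 2 = 9 by norm_num, hcardF]
          exact dvd_pow_self _ n.ne_zero
        exact (Nat.prime_dvd_prime_iff_eq hprime Nat.prime_three).mp (hprime.dvd_of_dvd_pow h1)
      rw [hHspec, hrange, hspec, h9, hchar]
  · -- `|F| = 2`: `PGL₂(2)` itself has a normal subgroup of order three
    have h2 : Fintype.card F = 2 := by
      rcases hF with hp | h9
      · rcases hp.eq_two_or_odd with h | h
        · exact h
        · exact absurd h hodd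
      · rw [h9] at hodd; exact absurd (by norm_num) hodd
    obtain ⟨K, hKn, hK, hsol⟩ := Cfsg.Agent.Helper9.Weil.exists_normal_solvable_pgl2_two h2
    exact Cfsg.Agent.S3444.result K hK hsol N

end Cfsg.Agent.S3452
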