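import Cfsg.Statements.S3488
import Cfsg.Agent.Helper58.SpecA6

set_option autoImplicit false
open Cfsg

namespace Cfsg.Agent.S3488
open Cfsg.Agent.Helper58

/-- Let F be the field with four elements. The affine group F² ⋊ SL(2,F), realised as the subgroup of SL(3,F) of matrices with last row (0, 0, 1), has exactly the same set of element orders as the alternating group of degree 6 (namely {1, 2, 3, 4, 5}); so the alternating group of degree 6 is not determined by its element orders. -/
theorem result {F : Type*} [Field F] [Fintype F] (hF : Fintype.card F = 4) :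
    Set.range (orderOf : Subgroup.closure {M : Matrix.SpecialLinearGroup (Fin 3) F |
        (M : Matrix (Fin 3) (Fin 3) F) 2 0 = 0 ∧ (M : Matrix (Fin 3) (Fin 3) F) 2 1 = 0 ∧ (M : Matrix (Fin 3) (Fin 3) F) 2 2 = 1} → ℕ) =
      Set.range (orderOf : alternatingGroup (Fin 6) → ℕ) := by
  rw [spec_A6]
  have hle : Subgroup.closure {M : Matrix.SpecialLinearGroup (Fin 3) F |
        (M : Matrix (Fin 3) (Fin 3) F) 2 0 = 0 ∧ (M : Matrix (Fin 3) (Fin 3) F) 2 1 = 0 ∧ (M : Matrix (Fin 3) (Fin 3) F) 2 2 = 1} ≤ affSubgroup F := by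
    rw [Subgroup.closure_le]
    intro g hg
    exact hg
  apply Set.Subset.antisymm
  · rintro _ ⟨⟨g, hg⟩, rfl⟩
    rw [Subgroup.orderOf_mk]
    exact orderOf_mem_of_pow_cases g (sl3_affine_pow_cases hF g (hle hg))
  · intro n hn
    obtain ⟨g, hg, hgn⟩ := exists_affine_orderOf hF hn
    exact ⟨⟨g, Subgroup.subset_closure hg⟩, by rw [Subgroup.orderOf_mk, hgn]⟩

end Cfsg.Agent.S3488
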