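import Cfsg.Statements.S3491
import Cfsg.Agent.Helper58.SpecA6

set_option autoImplicit false
open Cfsg

namespace Cfsg.Agent.S3491
open Cfsg.Agent.Helper58

/-- The alternating group of degree 6 is not determined by its set of element orders, not even up to finitely many groups: for every bound N there is a finite group of order greater than N with exactly the same set of element orders as the alternating group of degree 6. -/
theorem result (N : ℕ) : ∃ (H : Type) (_ : Group H) (_ : Fintype H), N < Fintype.card H ∧ Set.range (orderOf : H → ℕ) = Set.range (orderOf : alternatingGroup (Fin 6) → ℕ) := by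
  let _ : Fintype (GaloisField 2 2) := Fintype.ofFinite _
  have hF : Fintype.card (GaloisField 2 2) = 4 := by
    rw [← Nat.card_eq_fintype_card, GaloisField.card 2 2 (by norm_num)]; norm_num
  have hfin : Finite (fiberPow (GaloisField 2 2) (N + 1)) := inferInstance
  refine ⟨fiberPow (GaloisField 2 2) (N + 1), inferInstance, Fintype.ofFinite _, ?_, ?_⟩
  · have h1 := @Fintype.card_le_of_injective _ _ _ (Fintype.ofFinite _) _
      (boolEmb_injective (F := GaloisField 2 2) (N + 1))
    rw [Fintype.card_fun, Fintype.card_fin, Fintype.card_bool] at h1
    have h2 : N < 2 ^ (N + 1) := (Nat.lt_succ_self N).trans (Nat.lt_two_pow_self)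
    exact lt_of_lt_of_le h2 h1
  · rw [spec_A6]
    exact spec_fiberPow hF (Nat.succ_pos N)

end Cfsg.Agent.S3491
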