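import Cfsg.Statements.S3493
import Cfsg.Agent.Helper58.EPRed
import Cfsg.Agent.Helper58.EPTw
import Cfsg.Agent.Helper58.PrimNormal

set_option autoImplicit false
open Cfsg

namespace Cfsg.Agent.S3493

open MulAction Cfsg.Agent.Helper58 Cfsg.Agent.Helper58.UDer Cfsg.Agent.Helper58.EP

/-- An extremely primitive permutation group is of affine type or almost simple. Let a finite group G act faithfully and primitively on a finite set Ω with at least two points, in such a way that every point stabilizer acts primitively on each of its own orbits in Ω (an orbit of size one counts as primitive). Then either G has a non-trivial abelian normal subgroup whose elements other than the identity fix no point (affine type), or G has a non-abelian simple normal subgroup with trivial centralizer (almost simple). -/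
theorem result {G : Type*} [Group G] [Finite G] {Ω : Type*} [Fintype Ω] [MulAction G Ω] [FaithfulSMul G Ω] (hΩ : 2 ≤ Fintype.card Ω) (hprim : MulAction.IsPreprimitive G Ω) (hep : ∀ (α : Ω) (ω : Ω), MulAction.IsPreprimitive (MulAction.stabilizer G α) (MulAction.orbit (MulAction.stabilizer G α) ω)) :
    (∃ N : Subgroup G, N.Normal ∧ N ≠ ⊥ ∧ IsMulCommutative N ∧ ∀ ω : Ω, MulAction.stabilizer N ω = ⊥) ∨ (∃ T : Subgroup G, T.Normal ∧ IsSimpleGroup T ∧ ¬ IsMulCommutative T ∧ Subgroup.centralizer (T : Set G) = ⊥) := by
  obtain ⟨a, b, hab⟩ : ∃ a b : Ω, a ≠ b := Fintype.exists_pair_of_one_lt_card (by omega)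
  have : Nontrivial G := by
    obtain ⟨g, hg⟩ := hprim.toIsPretransitive.exists_smul_eq a b
    refine ⟨⟨g, 1, ?_⟩⟩
    rintro rfl
    rw [one_smul] at hg
    exact hab hg
  obtain ⟨N, hNn, hN1, hminN⟩ := exists_minNormal (G := G)
  have := hNn
  have htr := normal_trans hprim N hN1
  by_cases hcomm : ∀ a ∈ N, ∀ b ∈ N, a * b = b * a
  · left
    refine ⟨N, hNn, hN1, ⟨⟨fun x y => Subtype.ext (hcomm x x.2 y y.2)⟩⟩, fun ω => ?_⟩
    rw [Subgroup.eq_bot_iff_forall]
    intro x hx
    apply Subtype.ext
    rw [mem_stabilizer_iff] at hx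
    exact abelian_normal_free hprim N hN1 hcomm x.2 hx
  · right
    by_contra hcon
    obtain ⟨T, hctx⟩ := exists_ctx N hN1
    by_cases hall : ∀ g : G, cj g T = T
    · have hTnorm : T.Normal := ⟨fun t ht g => by
        have := conj_mem_cj (g := g) ht
        rwa [hall g] at this⟩
      have hTN : T = N := by
        rcases hminN T hTnorm hctx.hTN with h0 | h0
        · exact absurd h0 hctx.hT1
        · exact h0
      subst hTN
      have hnc : ¬ IsMulCommutative T := by
        intro hc
        apply hcomm
        intro a ha b hb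
        have := hc.is_comm.comm (⟨a, ha⟩ : T) ⟨b, hb⟩
        exact congrArg Subtype.val this
      by_cases hC : Subgroup.centralizer (T : Set G) = ⊥
      · exact hcon ⟨T, hNn, hctx.isSimpleGroup, hnc, hC⟩
      · exact hctx.hs_false hcomm hprim hep a hC
    · push Not at hall
      obtain ⟨g₀, hg₀⟩ := hall
      by_cases hB : ∃ ω : Ω, T ⊓ stabilizer G ω ≠ ⊥
      · obtain ⟨ω, hω⟩ := hB
        exact hctx.caseB_false hminN hprim hep htr ω hω hg₀
      · push Not at hB
        obtain ⟨k, hk, hkT⟩ := hctx.exists_stab_move htr a hg₀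
        by_cases hU : N ⊓ stabilizer G a = ⊥
        · exact hctx.tw_false hminN hcomm hprim hep htr a hU hk hkT
        · exact hctx.diag_false hminN hcomm hprim hep htr a hB hU hk hkT

end Cfsg.Agent.S3493
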