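import Cfsg.Statements.S3494
-- import your own Cfsg.Agent.* helpers here

set_option autoImplicit false
open Cfsg

namespace Cfsg.Agent.S3494
open scoped Pointwise

lemma const_of_fiber {M X Y : Type*} [Group M] [MulAction M X] [MulAction M Y]
    (hprim : MulAction.IsPreprimitive M X)
    (f : X → Y) (hf : ∀ (g : M) (x : X), f (g • x) = g • f x) {a b : X} (hab : a ≠ b)
    (h : f a = f b) (c d : X) : f c = f d := by
  let F : X →[M] Y := ⟨f, hf⟩
  have hB : MulAction.IsBlock M (F ⁻¹' {f a}) :=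
    MulAction.IsBlock.preimage F MulAction.IsBlock.singleton
  rcases hprim.isTrivialBlock_of_isBlock hB with hs | hu
  · exact absurd (hs (show a ∈ F ⁻¹' {f a} from rfl) (show b ∈ F ⁻¹' {f a} from h.symm)) hab
  · have hc : c ∈ F ⁻¹' {f a} := hu ▸ Set.mem_univ c
    have hd : d ∈ F ⁻¹' {f a} := hu ▸ Set.mem_univ d
    exact Eq.trans hc (Eq.symm hd)

section defs
variable (G : Type*) [Group G] {Ω : Type*} [MulAction G Ω] (α ω : Ω)

/-- out-neighbours of `δ` in the orbital digraph of `(α, ω)` -/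
def Gam (δ : Ω) : Set Ω := {ε | ∃ g : G, g • α = δ ∧ g • ω = ε}

/-- in-neighbours of `ε` -/
def GamS (ε : Ω) : Set Ω := {δ | ∃ g : G, g • α = δ ∧ g • ω = ε}

/-- elements fixing `δ` and all its out-neighbours -/
def Kset (δ : Ω) : Set G := {k | k • δ = δ ∧ ∀ ε ∈ Gam G α ω δ, k • ε = ε}

/-- common fixed points of `Kset δ` -/
def Phi (δ : Ω) : Set Ω := {x | ∀ k ∈ Kset G α ω δ, k • x = x}

variable {G α ω}

lemma Gam_smul (g : G) (δ : Ω) : Gam G α ω (g • δ) = g • Gam G α ω δ := by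
  ext ε
  rw [Set.mem_smul_set_iff_inv_smul_mem]
  constructor
  · rintro ⟨x, hx1, hx2⟩
    refine ⟨g⁻¹ * x, ?_, ?_⟩
    · rw [mul_smul, hx1, inv_smul_smul]
    · rw [mul_smul, hx2]
  · rintro ⟨x, hx1, hx2⟩
    refine ⟨g * x, ?_, ?_⟩
    · rw [mul_smul, hx1]
    · rw [mul_smul, hx2, smul_inv_smul]

lemma GamS_smul (g : G) (ε : Ω) : GamS G α ω (g • ε) = g • GamS G α ω ε := by
  ext δ
  rw [Set.mem_smul_set_iff_inv_smul_mem]
  constructor
  · rintro ⟨x, hx1, hx2⟩
    refine ⟨g⁻¹ * x, ?_, ?_⟩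
    · rw [mul_smul, hx1]
    · rw [mul_smul, hx2, inv_smul_smul]
  · rintro ⟨x, hx1, hx2⟩
    refine ⟨g * x, ?_, ?_⟩
    · rw [mul_smul, hx1, smul_inv_smul]
    · rw [mul_smul, hx2]

lemma Kset_conj (g : G) (δ : Ω) {k : G} (hk : k ∈ Kset G α ω δ) :
    g * k * g⁻¹ ∈ Kset G α ω (g • δ) := by
  obtain ⟨hk1, hk2⟩ := hk
  refine ⟨?_, ?_⟩
  · rw [mul_smul, inv_smul_smul, mul_smul, hk1]
  · intro ε hε
    rw [Gam_smul, Set.mem_smul_set_iff_inv_smul_mem] at hε
    rw [mul_smul, mul_smul, hk2 _ hε, smul_inv_smul]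

lemma Phi_smul (g : G) (δ : Ω) : Phi G α ω (g • δ) = g • Phi G α ω δ := by
  ext x
  rw [Set.mem_smul_set_iff_inv_smul_mem]
  constructor
  · intro hx k hk
    have := hx _ (Kset_conj g δ hk)
    rw [mul_smul, mul_smul] at this
    rw [eq_inv_smul_iff]
    exact this
  · intro hx k hk
    have hk' := Kset_conj g⁻¹ (g • δ) hk
    rw [inv_smul_smul, inv_inv] at hk'
    have := hx _ hk'
    rw [mul_smul, mul_smul, smul_inv_smul] at this
    exact smul_left_cancel _ this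

lemma ncard_Gam [MulAction.IsPretransitive G Ω] (δ δ' : Ω) :
    (Gam G α ω δ).ncard = (Gam G α ω δ').ncard := by
  obtain ⟨g, rfl⟩ := MulAction.exists_smul_eq G δ δ'
  rw [Gam_smul, Set.ncard_smul_set]

lemma ncard_GamS [MulAction.IsPretransitive G Ω] (ε ε' : Ω) :
    (GamS G α ω ε).ncard = (GamS G α ω ε').ncard := by
  obtain ⟨g, rfl⟩ := MulAction.exists_smul_eq G ε ε'
  rw [GamS_smul, Set.ncard_smul_set]

lemma ncard_GamS_eq_Gam [Fintype Ω] [MulAction.IsPretransitive G Ω] (ε δ : Ω) :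
    (GamS G α ω ε).ncard = (Gam G α ω δ).ncard := by
  classical
  have key := Finset.sum_card_bipartiteAbove_eq_sum_card_bipartiteBelow
    (s := (Finset.univ : Finset Ω)) (t := (Finset.univ : Finset Ω))
    (fun d e => e ∈ Gam G α ω d)
  have h1 : ∀ d : Ω, (Finset.bipartiteAbove (fun d e => e ∈ Gam G α ω d) Finset.univ d).card
      = (Gam G α ω δ).ncard := by
    intro d
    rw [ncard_Gam δ d, ← Set.ncard_coe_finset]
    congr 1
    ext e
    simp [Finset.bipartiteAbove]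
  have h2 : ∀ e : Ω, (Finset.bipartiteBelow (fun d e => e ∈ Gam G α ω d) Finset.univ e).card
      = (GamS G α ω ε).ncard := by
    intro e
    rw [ncard_GamS ε e, ← Set.ncard_coe_finset]
    congr 1
    ext d
    rw [Finset.bipartiteBelow, Finset.coe_filter]
    simp only [Finset.mem_univ, true_and]
    rfl
  rw [Finset.sum_congr rfl (fun d _ => h1 d), Finset.sum_congr rfl (fun e _ => h2 e)] at key
  simp only [Finset.sum_const, smul_eq_mul] at key
  have hpos : 0 < (Finset.univ : Finset Ω).card := Finset.card_pos.mpr ⟨δ, Finset.mem_univ _⟩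
  exact (Nat.eq_of_mul_eq_mul_left hpos key).symm

lemma mem_Gam_self : ω ∈ Gam G α ω α := ⟨1, one_smul _ _, one_smul _ _⟩

lemma not_mem_Gam_self (hω : ω ≠ α) : α ∉ Gam G α ω α := by
  rintro ⟨g, hg1, hg2⟩
  exact hω (smul_left_cancel g (hg2.trans hg1.symm))

lemma Gam_eq_of_fix {x : G} {δ : Ω} (hx : x • δ = δ) : x • Gam G α ω δ = Gam G α ω δ := by
  rw [← Gam_smul, hx]

lemma claim [Fintype Ω] (hprim : MulAction.IsPreprimitive G Ω)
    (hep : ∀ (ω' : Ω), MulAction.IsPreprimitive (MulAction.stabilizer G α)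
      (MulAction.orbit (MulAction.stabilizer G α) ω'))
    (hω : ω ≠ α) {k : G} (hk : k ∈ Kset G α ω α) {β γ : Ω} (hβ : β ∈ Gam G α ω α)
    (hγ : γ ∈ Gam G α ω β) : k • γ = γ := by
  by_contra hne
  have : MulAction.IsPretransitive G Ω := hprim.toIsPretransitive
  have hkS : k ∈ MulAction.stabilizer G α := hk.1
  let f : MulAction.orbit (MulAction.stabilizer G α) γ → Set Ω :=
    fun σ => {β' | β' ∈ Gam G α ω α ∧ (σ : Ω) ∈ Gam G α ω β'}
  have hf : ∀ (x : MulAction.stabilizer G α) (σ : MulAction.orbit (MulAction.stabilizer G α) γ),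
      f (x • σ) = x • f σ := by
    intro x σ
    ext β'
    rw [Set.mem_smul_set_iff_inv_smul_mem]
    have hxα : (x : G) • α = α := x.2
    have hxα' : (x : G)⁻¹ • α = α := by rw [inv_smul_eq_iff, hxα]
    have e1 : (x : G)⁻¹ • Gam G α ω α = Gam G α ω α := Gam_eq_of_fix hxα'
    show (β' ∈ Gam G α ω α ∧ (x : G) • (σ : Ω) ∈ Gam G α ω β') ↔
      ((x : G)⁻¹ • β' ∈ Gam G α ω α ∧ (σ : Ω) ∈ Gam G α ω ((x : G)⁻¹ • β'))
    rw [Gam_smul, Set.mem_inv_smul_set_iff]
    nth_rewrite 2 [← e1]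
    rw [Set.smul_mem_smul_set_iff]
  let a : MulAction.orbit (MulAction.stabilizer G α) γ := ⟨γ, MulAction.mem_orbit_self γ⟩
  let b : MulAction.orbit (MulAction.stabilizer G α) γ := ⟨k • γ, ⟨⟨k, hkS⟩, rfl⟩⟩
  have hab : a ≠ b := fun h => hne (congrArg Subtype.val h).symm
  have hfab : f a = f b := by
    ext β'
    show (β' ∈ Gam G α ω α ∧ γ ∈ Gam G α ω β') ↔ (β' ∈ Gam G α ω α ∧ k • γ ∈ Gam G α ω β')
    constructor
    · rintro ⟨h1, h2⟩
      refine ⟨h1, ?_⟩
      rw [← Gam_eq_of_fix (hk.2 β' h1), Set.smul_mem_smul_set_iff]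
      exact h2
    · rintro ⟨h1, h2⟩
      refine ⟨h1, ?_⟩
      rw [← Gam_eq_of_fix (hk.2 β' h1), Set.smul_mem_smul_set_iff] at h2
      exact h2
  have hconst := const_of_fiber (hep γ) f hf hab hfab
  -- f a is S-invariant and contains β, hence contains all of Gam α
  have hall : ∀ c : MulAction.orbit (MulAction.stabilizer G α) γ, ∀ β' ∈ Gam G α ω α, β' ∈ f c := by
    intro c β' hβ'
    obtain ⟨g1, hg1α, hg1ω⟩ := hβ
    obtain ⟨g2, hg2α, hg2ω⟩ := hβ'
    have hxS : g2 * g1⁻¹ ∈ MulAction.stabilizer G α := by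
      rw [MulAction.mem_stabilizer_iff, mul_smul, inv_smul_eq_iff.mpr hg1α.symm, hg2α]
    have hxβ : (g2 * g1⁻¹) • β = β' := by
      rw [mul_smul, ← hg1ω, inv_smul_smul, hg2ω]
    have hβa : β ∈ f a := ⟨⟨g1, hg1α, hg1ω⟩, hγ⟩
    have : f c = (⟨g2 * g1⁻¹, hxS⟩ : MulAction.stabilizer G α) • f a := by
      rw [← hf]; exact hconst _ _
    rw [this, ← hxβ]
    exact Set.smul_mem_smul_set (a := (⟨g2 * g1⁻¹, hxS⟩ : MulAction.stabilizer G α)) hβa
  have hsubγ : Gam G α ω α ⊆ GamS G α ω γ := by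
    intro β' hβ'
    obtain ⟨_, g, hg1, hg2⟩ := hall a β' hβ'
    exact ⟨g, hg1, hg2⟩
  have hsubkγ : Gam G α ω α ⊆ GamS G α ω (k • γ) := by
    intro β' hβ'
    obtain ⟨_, g, hg1, hg2⟩ := hall b β' hβ'
    exact ⟨g, hg1, hg2⟩
  have heq1 : Gam G α ω α = GamS G α ω γ :=
    Set.eq_of_subset_of_ncard_le hsubγ (ncard_GamS_eq_Gam γ α).le (Set.toFinite _)
  have heq2 : Gam G α ω α = GamS G α ω (k • γ) :=
    Set.eq_of_subset_of_ncard_le hsubkγ (ncard_GamS_eq_Gam (k • γ) α).le (Set.toFinite _)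
  have hconst2 := const_of_fiber hprim (GamS G α ω) (fun g x => GamS_smul g x) (Ne.symm hne)
    (heq1.symm.trans heq2)
  have h1 : α ∈ GamS G α ω ω := ⟨1, one_smul _ _, one_smul _ _⟩
  rw [hconst2 ω γ, ← heq1] at h1
  exact not_mem_Gam_self hω h1

end defs

/-- Manning's Theorem on extremely primitive groups. Let a finite group G act faithfully and primitively on a finite set Ω with non-trivial point stabilizers, and suppose every point stabilizer G_α acts primitively on each of its orbits. Then G_α acts faithfully on each of its orbits other than {α}: an element of G_α fixing every point of one such orbit is the identity. -/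
theorem result {G : Type*} [Group G] [Finite G] {Ω : Type*} [Fintype Ω] [MulAction G Ω] [FaithfulSMul G Ω] (hprim : MulAction.IsPreprimitive G Ω) (hH : ∀ α : Ω, MulAction.stabilizer G α ≠ ⊥) (hep : ∀ (α : Ω) (ω : Ω), MulAction.IsPreprimitive (MulAction.stabilizer G α) (MulAction.orbit (MulAction.stabilizer G α) ω))
    (α ω : Ω) (hω : ω ≠ α) (h : MulAction.stabilizer G α) (hfix : ∀ x ∈ MulAction.orbit (MulAction.stabilizer G α) ω, h • x = x) : h = 1 := by
  have hK : (h : G) ∈ Kset G α ω α := by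
    refine ⟨h.2, ?_⟩
    rintro ε ⟨g, hg1, hg2⟩
    exact hfix ε ⟨⟨g, hg1⟩, hg2⟩
  have hsub : ∀ β ∈ Gam G α ω α, Kset G α ω α ⊆ Kset G α ω β := by
    intro β hβ k hk
    exact ⟨hk.2 β hβ, fun γ hγ => claim hprim (hep α) hω hk hβ hγ⟩
  have hΦ : ∀ β ∈ Gam G α ω α, Phi G α ω β = Phi G α ω α := by
    intro β hβ
    have h1 : Phi G α ω β ⊆ Phi G α ω α := fun x hx k hk => hx k (hsub β hβ hk)
    have : MulAction.IsPretransitive G Ω := hprim.toIsPretransitive
    obtain ⟨g, hg⟩ := MulAction.exists_smul_eq G α β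
    have h2 : (Phi G α ω α).ncard ≤ (Phi G α ω β).ncard := by
      rw [← hg, Phi_smul, Set.ncard_smul_set]
    exact Set.eq_of_subset_of_ncard_le h1 h2 (Set.toFinite _)
  have hconst := const_of_fiber hprim (Phi G α ω) (fun g x => Phi_smul g x) hω (hΦ ω mem_Gam_self)
  have hall : ∀ x : Ω, (h : G) • x = x := by
    intro x
    have hx : x ∈ Phi G α ω x := fun k hk => hk.1
    rw [hconst x α] at hx
    exact hx _ hK
  have : (h : G) = 1 := FaithfulSMul.eq_of_smul_eq_smul (α := Ω) (fun x => by rw [hall x, one_smul])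
  exact Subtype.ext this

end Cfsg.Agent.S3494
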