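import Cfsg.Statements.S3495
import Cfsg.Agent.S3494

set_option autoImplicit false
open Cfsg

namespace Cfsg.Agent.S3495

lemma normal_trivial_or_trans {M X : Type*} [Group M] [MulAction M X] (hprim : MulAction.IsPreprimitive M X)
    (N : Subgroup M) [N.Normal] : (∀ n ∈ N, ∀ x : X, n • x = x) ∨ MulAction.IsPretransitive N X := by
  by_cases h : MulAction.fixedPoints N X = Set.univ
  · left
    intro n hn x
    have hx : x ∈ MulAction.fixedPoints N X := h ▸ Set.mem_univ x
    exact hx ⟨n, hn⟩
  · right
    exact MulAction.IsQuasiPreprimitive.isPretransitive_of_normal h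

/-- Let a finite group G act faithfully and primitively on a finite set Ω with non-trivial point stabilizers, each acting primitively on every one of its orbits (an extremely primitive group), and suppose G has an elementary abelian normal p-subgroup N acting regularly on Ω (affine type). Then every non-trivial subgroup M of a point stabilizer G_α that is normal in G_α has the same orbits on Ω as G_α, and normalizes no subgroup of N other than 1 and N. -/
theorem result {G : Type*} [Group G] [Finite G] {Ω : Type*} [Fintype Ω] [MulAction G Ω] [FaithfulSMul G Ω] (hprim : MulAction.IsPreprimitive G Ω) (hH : ∀ α : Ω, MulAction.stabilizer G α ≠ ⊥) (hep : ∀ (α : Ω) (ω : Ω), MulAction.IsPreprimitive (MulAction.stabilizer G α) (MulAction.orbit (MulAction.stabilizer G α) ω))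
    (N : Subgroup G) [N.Normal] (hNc : IsMulCommutative N) (p : ℕ) (hp : p.Prime) (hNp : ∀ n ∈ N, n ^ p = 1)
    (hNtr : MulAction.IsPretransitive N Ω) (hNreg : ∀ ω : Ω, MulAction.stabilizer N ω = ⊥) (α : Ω) (M : Subgroup G) (hM : M ≠ ⊥) (hMle : M ≤ MulAction.stabilizer G α)
    (hMn : MulAction.stabilizer G α ≤ Subgroup.normalizer (M : Set G)) :
    (∀ ω : Ω, MulAction.orbit M ω = MulAction.orbit (MulAction.stabilizer G α) ω) ∧
    (∀ L : Subgroup G, L ≤ N → M ≤ Subgroup.normalizer (L : Set G) → L = ⊥ ∨ L = N) := by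
  -- part 1
  have part1 : ∀ ω : Ω, MulAction.orbit M ω = MulAction.orbit (MulAction.stabilizer G α) ω := by
    intro ω
    apply Set.Subset.antisymm
    · rintro _ ⟨⟨m, hm⟩, rfl⟩
      exact ⟨⟨m, hMle hm⟩, rfl⟩
    · by_cases hω : ω = α
      · rintro _ ⟨⟨s, hs⟩, rfl⟩
        subst hω
        have : s • ω = ω := hs
        show (⟨s, hs⟩ : MulAction.stabilizer G ω) • ω ∈ _
        rw [Subgroup.mk_smul, this]
        exact MulAction.mem_orbit_self ω
      · have : (M.subgroupOf (MulAction.stabilizer G α)).Normal :=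
          (Subgroup.normal_subgroupOf_iff_le_normalizer hMle).mpr hMn
        rcases normal_trivial_or_trans (hep α ω) (M.subgroupOf (MulAction.stabilizer G α)) with h | h
        · exfalso
          apply hM
          rw [Subgroup.eq_bot_iff_forall]
          intro m hm
          have := Cfsg.Agent.S3494.result hprim hH hep α ω hω ⟨m, hMle hm⟩ (by
            intro x hx
            have := h ⟨m, hMle hm⟩ (Subgroup.mem_subgroupOf.mpr hm) ⟨x, hx⟩
            exact congrArg Subtype.val this)
          exact congrArg Subtype.val this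
        · rintro y hy
          obtain ⟨⟨⟨m, hmS⟩, hm⟩, hmy⟩ := h.exists_smul_eq
            (⟨ω, MulAction.mem_orbit_self ω⟩ : MulAction.orbit (MulAction.stabilizer G α) ω) ⟨y, hy⟩
          refine ⟨⟨m, Subgroup.mem_subgroupOf.mp hm⟩, ?_⟩
          exact congrArg Subtype.val hmy
  refine ⟨part1, ?_⟩
  intro L hLN hML
  -- regularity of N: an element of N fixing α is trivial
  have hreg : ∀ y ∈ N, y • α = α → y = 1 := by
    intro y hy hyα
    have : (⟨y, hy⟩ : N) ∈ MulAction.stabilizer N α := by
      rw [MulAction.mem_stabilizer_iff]; exact hyα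
    rw [hNreg α, Subgroup.mem_bot] at this
    exact congrArg Subtype.val this
  -- L • α is M-invariant
  have hMinv : ∀ l ∈ L, ∀ y ∈ MulAction.orbit M (l • α), ∃ l' ∈ L, y = l' • α := by
    rintro l hl _ ⟨⟨m, hm⟩, rfl⟩
    refine ⟨m * l * m⁻¹, (Subgroup.mem_normalizer_iff.mp (hML hm) l).mp hl, ?_⟩
    have hmα : m • α = α := hMle hm
    have hmα' : m⁻¹ • α = α := by rw [inv_smul_eq_iff, hmα]
    show m • l • α = _
    rw [mul_smul, mul_smul, hmα']
  -- Step 1: S normalizes L
  have hS : ∀ x ∈ MulAction.stabilizer G α, ∀ l ∈ L, x * l * x⁻¹ ∈ L := by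
    intro x hx l hl
    have hxα : x • α = α := hx
    have hxα' : x⁻¹ • α = α := by rw [inv_smul_eq_iff, hxα]
    have hmem : x • l • α ∈ MulAction.orbit M (l • α) := by
      rw [part1]
      exact ⟨⟨x, hx⟩, rfl⟩
    obtain ⟨l', hl', hl'eq⟩ := hMinv l hl _ hmem
    have h1 : (x * l * x⁻¹) • α = l' • α := by
      rw [mul_smul, mul_smul, hxα', hl'eq]
    have h2 : l'⁻¹ * (x * l * x⁻¹) = 1 := by
      apply hreg
      · exact N.mul_mem (N.inv_mem (hLN hl')) (Subgroup.Normal.conj_mem inferInstance l (hLN hl) x)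
      · rw [mul_smul, h1, inv_smul_smul]
    have h3 : x * l * x⁻¹ = l' := by
      have := congrArg (fun z => l' * z) h2
      simpa [mul_assoc] using this
    rw [h3]; exact hl'
  -- Step 2: L is normal in G
  have hLnormal : L.Normal := by
    constructor
    intro l hl g
    obtain ⟨⟨n, hn⟩, hnα⟩ := hNtr.exists_smul_eq α (g • α)
    have hnα' : n • α = g • α := hnα
    have hx : n⁻¹ * g ∈ MulAction.stabilizer G α := by
      rw [MulAction.mem_stabilizer_iff, mul_smul, ← hnα', inv_smul_smul]
    have h1 := hS _ hx l hl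
    have h2 : g * l * g⁻¹ = n * ((n⁻¹ * g) * l * (n⁻¹ * g)⁻¹) * n⁻¹ := by group
    have h3 := isMulCommutative_iff.mp hNc ⟨n, hn⟩ ⟨_, hLN h1⟩
    have h4 : n * ((n⁻¹ * g) * l * (n⁻¹ * g)⁻¹) = ((n⁻¹ * g) * l * (n⁻¹ * g)⁻¹) * n :=
      congrArg Subtype.val h3
    rw [h2, h4, mul_inv_cancel_right]
    exact h1
  rcases normal_trivial_or_trans hprim L with h | h
  · left
    rw [Subgroup.eq_bot_iff_forall]
    intro l hl
    exact FaithfulSMul.eq_of_smul_eq_smul (α := Ω) (fun x => by rw [h l hl x, one_smul])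
  · right
    apply le_antisymm hLN
    intro n hn
    obtain ⟨⟨l, hl⟩, hlα⟩ := h.exists_smul_eq α (n • α)
    have hlα' : l • α = n • α := hlα
    have : l⁻¹ * n = 1 := by
      apply hreg _ (N.mul_mem (N.inv_mem (hLN hl)) hn)
      rw [mul_smul, ← hlα', inv_smul_smul]
    have hnl : n = l := by
      have := congrArg (fun z => l * z) this
      simpa [mul_assoc] using this
    rw [hnl]; exact hl

end Cfsg.Agent.S3495
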