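import Cfsg.Statements.S3496
import Cfsg.Agent.S3494
import Cfsg.Agent.Helper58.PrimStruct
import Cfsg.Agent.Helper58.SolvPrim

set_option autoImplicit false
open Cfsg

namespace Cfsg.Agent.S3496

open Cfsg.Agent.Helper58

/-- The soluble extremely primitive groups. Let a finite solvable group G act faithfully and primitively on a finite set Ω with p ^ d points (p prime), with non-trivial point stabilizers each acting primitively on every one of its orbits. Then there is a prime q such that every orbit of a point stabilizer G_α other than {α} has exactly q points, q divides p ^ d − 1 but no p ^ i − 1 with 0 < i < d, and G_α has a normal subgroup T of order q with G_α generated by T and one further element and the order of G_α dividing q·d (so G_α is cyclic of order q, or an extension of T by a cyclic group of order dividing d). -/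
theorem result {G : Type*} [Group G] [Finite G] {Ω : Type*} [Fintype Ω] [MulAction G Ω] [FaithfulSMul G Ω] [Group.IsSolvable G] (p d : ℕ) (hp : p.Prime) (hcard : Fintype.card Ω = p ^ d)
    (hprim : MulAction.IsPreprimitive G Ω) (hH : ∀ α : Ω, MulAction.stabilizer G α ≠ ⊥) (hep : ∀ (α : Ω) (ω : Ω), MulAction.IsPreprimitive (MulAction.stabilizer G α) (MulAction.orbit (MulAction.stabilizer G α) ω)) (α : Ω) :
    ∃ q : ℕ, q.Prime ∧ (∀ ω : Ω, ω ≠ α → Nat.card (MulAction.orbit (MulAction.stabilizer G α) ω) = q) ∧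
      q ∣ p ^ d - 1 ∧ (∀ i : ℕ, 0 < i → i < d → ¬ q ∣ p ^ i - 1) ∧
      ∃ T : Subgroup G, T ≤ MulAction.stabilizer G α ∧ MulAction.stabilizer G α ≤ Subgroup.normalizer (T : Set G) ∧ Nat.card T = q ∧
        (∃ h : G, MulAction.stabilizer G α = T ⊔ Subgroup.zpowers h) ∧ Nat.card (MulAction.stabilizer G α) ∣ q * d := by
  classical
  have hpF := Fact.mk hp
  have hneΩ : Nonempty Ω := ⟨α⟩
  have hHnt : Nontrivial (MulAction.stabilizer G α) := (Subgroup.nontrivial_iff_ne_bot _).mpr (hH α)
  have hGnt : Nontrivial G := by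
    obtain ⟨a, b, hab⟩ := hHnt
    exact ⟨a.1, b.1, fun h => hab (Subtype.ext h)⟩
  -- the regular normal subgroup `N`
  obtain ⟨N, hNn, hNne, hNc⟩ := exists_abelian_normal_of_solvable G
  have hNtrans : ∀ x y : Ω, ∃ n ∈ N, n • x = y := fun x y => normal_trans hprim N hNne x y
  have hNfree : ∀ n ∈ N, ∀ x : Ω, n • x = x → n = 1 :=
    fun n hn x hx => abelian_normal_free hprim N hNne hNc hn hx
  have hNinj : ∀ a ∈ N, ∀ b ∈ N, a • α = b • α → a = b := by
    intro a ha b hb hab
    have h1 : b⁻¹ * a = 1 := by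
      apply hNfree _ (N.mul_mem (N.inv_mem hb) ha) α
      rw [mul_smul, hab, inv_smul_smul]
    have := congrArg (fun z => b * z) h1
    simpa using this
  have hNcard : Nat.card N = p ^ d := by
    have hbij : Function.Bijective (fun n : N => (n : G) • α) := by
      constructor
      · intro a b hab
        exact Subtype.ext (hNinj a a.2 b b.2 hab)
      · intro x
        obtain ⟨n, hn, hnx⟩ := hNtrans α x
        exact ⟨⟨n, hn⟩, hnx⟩
    rw [Nat.card_congr (Equiv.ofBijective _ hbij), Nat.card_eq_fintype_card, hcard]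
  have hNnt : Nontrivial N := (Subgroup.nontrivial_iff_ne_bot N).mpr hNne
  -- faithfulness of the stabilizer on its nontrivial orbits (Manning)
  have hfaith : ∀ ω : Ω, ω ≠ α →
      FaithfulSMul (MulAction.stabilizer G α) (MulAction.orbit (MulAction.stabilizer G α) ω) := by
    intro ω hω
    constructor
    intro h₁ h₂ hh
    have h1 : h₁⁻¹ * h₂ = 1 := by
      apply Cfsg.Agent.S3494.result hprim hH hep α ω hω
      intro x hx
      have := hh ⟨x, hx⟩
      have h2 : h₂ • x = h₁ • x := (congrArg Subtype.val this).symm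
      rw [mul_smul, h2, inv_smul_smul]
    have := congrArg (fun z => h₁ * z) h1
    simpa using this.symm
  have hne : ∀ ω : Ω, Nonempty (MulAction.orbit (MulAction.stabilizer G α) ω) :=
    fun ω => ⟨⟨ω, MulAction.mem_orbit_self ω⟩⟩
  obtain ⟨ω₀, hω₀⟩ : ∃ ω : Ω, ω ≠ α := by
    by_contra hno
    push Not at hno
    apply hH α
    rw [Subgroup.eq_bot_iff_forall]
    intro g _
    apply FaithfulSMul.eq_of_smul_eq_smul (α := Ω)
    intro x
    rw [hno x, hno (g • α), one_smul]
  -- the Fitting subgroup of the stabilizer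
  have hHsolv : Group.IsSolvable (MulAction.stabilizer G α) := inferInstance
  obtain ⟨B, hBn, hBne, hBc⟩ := exists_abelian_normal_of_solvable (MulAction.stabilizer G α)
  have hFn : (Cfsg.fittingSubgroup (MulAction.stabilizer G α)).Normal := Subgroup.sSup_normal _ (fun _ h => h.1)
  have hFne : Cfsg.fittingSubgroup (MulAction.stabilizer G α) ≠ ⊥ := by
    intro h
    apply hBne
    have : B ≤ Cfsg.fittingSubgroup (MulAction.stabilizer G α) := le_sSup ⟨hBn, isNilpotent_of_comm B hBc⟩
    exact le_bot_iff.mp (h ▸ this)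
  have hF0 := hfaith ω₀ hω₀
  have hX0 := hne ω₀
  obtain ⟨hFc, hFx, r, e, hr, -, hFexp⟩ := fitting_struct (hep α ω₀)
  obtain ⟨-, hFcent⟩ := hFx hFne
  have hFfree : ∀ ω : Ω, ω ≠ α → ∀ b ∈ Cfsg.fittingSubgroup (MulAction.stabilizer G α),
      ∀ x : MulAction.orbit (MulAction.stabilizer G α) ω, b • x = x → b = 1 := by
    intro ω hω
    have := hfaith ω hω
    have := hne ω
    exact ((fitting_struct (hep α ω)).2.1 hFne).1
  have hFtrans : ∀ ω : Ω, ω ≠ α → ∀ x y : MulAction.orbit (MulAction.stabilizer G α) ω,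
      ∃ b ∈ Cfsg.fittingSubgroup (MulAction.stabilizer G α), b • x = y := by
    intro ω hω
    have := hfaith ω hω
    exact normal_trans (hep α ω) _ hFne
  -- the conjugation action on `N`
  let ρ : (MulAction.stabilizer G α) →* MulAut N := (MulAut.conjNormal (H := N)).comp (Subgroup.subtype _)
  have hρ : ∀ (h : (MulAction.stabilizer G α)) (v : N), ((ρ h v : N) : G) = (h : G) * v * (h : G)⁻¹ := fun h v => rfl
  have hvα : ∀ v : N, v ≠ 1 → (v : G) • α ≠ α := by
    intro v hv h
    exact hv (Subtype.ext (hNfree v v.2 α h))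
  have hconjα : ∀ (h : (MulAction.stabilizer G α)) (v : N), ((ρ h v : N) : G) • α = (h : G) • (v : G) • α := by
    intro h v
    have h1 : (h : G)⁻¹ • α = α := by
      have : (h : G) • α = α := h.2
      rw [inv_smul_eq_iff, this]
    rw [hρ, mul_smul, mul_smul, h1]
  have hsemi : ∀ t ∈ Cfsg.fittingSubgroup (MulAction.stabilizer G α), ∀ v : N, v ≠ 1 → ρ t v = v → t = 1 := by
    intro t ht v hv htv
    have hω := hvα v hv
    apply hFfree _ hω t ht ⟨(v : G) • α, MulAction.mem_orbit_self _⟩
    apply Subtype.ext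
    show (t : G) • (v : G) • α = (v : G) • α
    rw [← hconjα, htv]
  have horb : ∀ (h : (MulAction.stabilizer G α)) (v : N), ∃ t ∈ Cfsg.fittingSubgroup (MulAction.stabilizer G α), ρ h v = ρ t v := by
    intro h v
    by_cases hv : v = 1
    · exact ⟨1, Subgroup.one_mem _, by rw [hv, map_one, map_one]⟩
    · have hω := hvα v hv
      obtain ⟨t, ht, htx⟩ := hFtrans _ hω ⟨(v : G) • α, MulAction.mem_orbit_self _⟩
        (h • ⟨(v : G) • α, MulAction.mem_orbit_self _⟩)
      refine ⟨t, ht, ?_⟩
      have h2 : (t : G) • (v : G) • α = (h : G) • (v : G) • α := congrArg Subtype.val htx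
      apply Subtype.ext
      apply hNinj _ (ρ h v).2 _ (ρ t v).2
      rw [hconjα, hconjα, h2]
  have hgen : ∀ w : N, w ≠ 1 → ∀ P : N → Prop, P 1 → (∀ x y, P x → P y → P (x * y)) →
      (∀ x, P x → P x⁻¹) → (∀ h : (MulAction.stabilizer G α), P (ρ h w)) → ∀ v, P v := by
    intro w hw P h1 hmul hinv hρP v
    set gens : Set G := {x | ∃ h : (MulAction.stabilizer G α), x = (h : G) * w * (h : G)⁻¹} with hgens
    have hMleN : Subgroup.closure gens ≤ N := by
      rw [Subgroup.closure_le]
      rintro _ ⟨h, rfl⟩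
      exact hNn.conj_mem _ w.2 _
    have hMc : ∀ a ∈ Subgroup.closure gens, ∀ b ∈ Subgroup.closure gens, a * b = b * a :=
      fun a ha b hb => hNc a (hMleN ha) b (hMleN hb)
    have hMne : Subgroup.closure gens ≠ ⊥ := by
      intro h
      apply hw
      have : (w : G) ∈ Subgroup.closure gens :=
        Subgroup.subset_closure ⟨1, by simp⟩
      rw [h, Subgroup.mem_bot] at this
      exact Subtype.ext this
    have hMH : ∀ h : (MulAction.stabilizer G α), ∀ m ∈ Subgroup.closure gens,
        (h : G) * m * (h : G)⁻¹ ∈ Subgroup.closure gens := by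
      intro h m hm
      have hle : Subgroup.closure gens ≤
          (Subgroup.closure gens).comap (MulAut.conj (h : G)).toMonoidHom := by
        rw [Subgroup.closure_le]
        rintro _ ⟨k, rfl⟩
        show (h : G) * ((k : G) * w * (k : G)⁻¹) * (h : G)⁻¹ ∈ Subgroup.closure gens
        apply Subgroup.subset_closure
        refine ⟨h * k, ?_⟩
        rw [Subgroup.coe_mul, mul_inv_rev]
        simp only [mul_assoc]
      exact hle hm
    have hMn : (Subgroup.closure gens).Normal := by
      constructor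
      intro m hm g
      obtain ⟨n, hn, hng⟩ := hNtrans α (g • α)
      have hk : n⁻¹ * g ∈ (MulAction.stabilizer G α) := by
        rw [MulAction.mem_stabilizer_iff, mul_smul, ← hng, inv_smul_smul]
      have hg : g = n * (n⁻¹ * g) := by group
      have h3 := hMH ⟨n⁻¹ * g, hk⟩ m hm
      have h4 : g * m * g⁻¹ = n * ((n⁻¹ * g) * m * (n⁻¹ * g)⁻¹) * n⁻¹ := by group
      rw [h4]
      have h5 : n * ((n⁻¹ * g) * m * (n⁻¹ * g)⁻¹) * n⁻¹ = (n⁻¹ * g) * m * (n⁻¹ * g)⁻¹ := by
        rw [hNc n hn _ (hMleN h3), mul_assoc, mul_inv_cancel, mul_one]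
      rw [h5]
      exact h3
    have hMN : Subgroup.closure gens = N :=
      abelian_normal_unique hprim _ N hMne hNne hMc hNc
    have key : ∀ x (hx : x ∈ Subgroup.closure gens), ∀ hxN : x ∈ N, P ⟨x, hxN⟩ := by
      intro x hx
      refine Subgroup.closure_induction (p := fun x _ => ∀ hxN : x ∈ N, P ⟨x, hxN⟩)
        ?_ ?_ ?_ ?_ hx
      · intro x hx hxN
        obtain ⟨h, rfl⟩ := hx
        have : ρ h w = ⟨(h : G) * w * (h : G)⁻¹, hxN⟩ := Subtype.ext (hρ h w)
        rw [← this]
        exact hρP h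
      · intro _; exact h1
      · intro x y hx hy hPx hPy _
        exact hmul _ _ (hPx (hMleN hx)) (hPy (hMleN hy))
      · intro x hx hPx _
        exact hinv _ (hPx (hMleN hx))
    have hvM : (v : G) ∈ Subgroup.closure gens := by
      rw [hMN]; exact v.2
    exact key v.1 hvM v.2
  obtain ⟨hTcard, hdiv, hppd, ⟨h₀, hh₀⟩, hHcard⟩ := mul_core (A := N)
    (fun a b => Subtype.ext (hNc a a.2 b b.2)) p d hNcard ρ (Cfsg.fittingSubgroup (MulAction.stabilizer G α))
    hFc hFne r hr hFexp hFcent hsemi horb hgen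
  refine ⟨r, hr, ?_, hdiv, hppd, (Cfsg.fittingSubgroup (MulAction.stabilizer G α)).map (Subgroup.subtype _), ?_, ?_, ?_, ?_,
    hHcard⟩
  · -- orbit sizes
    intro ω hω
    rw [← hTcard]
    symm
    have hbij : Function.Bijective (fun b : Cfsg.fittingSubgroup (MulAction.stabilizer G α) =>
        ((b : (MulAction.stabilizer G α)) • (⟨ω, MulAction.mem_orbit_self ω⟩ : MulAction.orbit (MulAction.stabilizer G α) ω))) := by
      constructor
      · intro a b hab
        have hab' : (a : (MulAction.stabilizer G α)) • (⟨ω, MulAction.mem_orbit_self ω⟩ : MulAction.orbit (MulAction.stabilizer G α) ω)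
            = (b : (MulAction.stabilizer G α)) • ⟨ω, MulAction.mem_orbit_self ω⟩ := hab
        have h1 : (b : (MulAction.stabilizer G α))⁻¹ * (a : (MulAction.stabilizer G α)) = 1 := by
          apply hFfree ω hω _ (Subgroup.mul_mem _ (Subgroup.inv_mem _ b.2) a.2)
            ⟨ω, MulAction.mem_orbit_self ω⟩
          rw [mul_smul, hab', inv_smul_smul]
        have := congrArg (fun z => (b : (MulAction.stabilizer G α)) * z) h1
        apply Subtype.ext
        simpa using this
      · intro y
        obtain ⟨b, hb, hby⟩ := hFtrans ω hω ⟨ω, MulAction.mem_orbit_self ω⟩ y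
        exact ⟨⟨b, hb⟩, hby⟩
    exact Nat.card_congr (Equiv.ofBijective _ hbij)
  · exact Subgroup.map_subtype_le _
  · intro g hg
    rw [Subgroup.mem_normalizer_iff]
    intro x
    constructor
    · rintro ⟨f, hf, rfl⟩
      exact ⟨⟨g, hg⟩ * f * ⟨g, hg⟩⁻¹, hFn.conj_mem f hf ⟨g, hg⟩, rfl⟩
    · rintro ⟨f, hf, hfx⟩
      refine ⟨⟨g, hg⟩⁻¹ * f * ⟨g, hg⟩, ?_, ?_⟩
      · have := hFn.conj_mem f hf ⟨g, hg⟩⁻¹
        rwa [inv_inv] at this
      · show g⁻¹ * (f : G) * g = x
        have hfx' : (f : G) = g * x * g⁻¹ := hfx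
        rw [hfx']
        group
  · rw [← hTcard]
    exact Nat.card_congr (Subgroup.equivMapOfInjective _ _ (Subgroup.subtype_injective _)).symm.toEquiv
  · refine ⟨(h₀ : G), le_antisymm ?_ ?_⟩
    · intro x hx
      obtain ⟨n, hn⟩ := hh₀ ⟨x, hx⟩
      have h1 : x = ((⟨x, hx⟩ * h₀ ^ n : (MulAction.stabilizer G α)) : G) * ((h₀ : G) ^ n)⁻¹ := by
        rw [Subgroup.coe_mul, Subgroup.coe_zpow]
        group
      rw [h1]
      apply Subgroup.mul_mem
      · exact Subgroup.mem_sup_left ⟨_, hn, rfl⟩
      · exact Subgroup.mem_sup_right (Subgroup.inv_mem _ (Subgroup.zpow_mem_zpowers _ _))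
    · rw [sup_le_iff]
      exact ⟨Subgroup.map_subtype_le _, by rw [Subgroup.zpowers_le]; exact h₀.2⟩

end Cfsg.Agent.S3496
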