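import Cfsg.Statements.S3497
import Cfsg.Agent.S3494
import Cfsg.Agent.Helper58.PrimStruct
import Cfsg.Agent.Helper58.AutGL

set_option autoImplicit false
open Cfsg

namespace Cfsg.Agent.S3497

/-- all point stabilizers of a transitive group are nontrivial as soon as one is -/
lemma stab_ne_bot {G : Type*} [Group G] {Ω : Type*} [MulAction G Ω] [MulAction.IsPretransitive G Ω]
    (α : Ω) (hH1 : MulAction.stabilizer G α ≠ ⊥) (β : Ω) : MulAction.stabilizer G β ≠ ⊥ := by
  obtain ⟨g, rfl⟩ := MulAction.exists_smul_eq G α β
  rw [MulAction.stabilizer_smul_eq_stabilizer_map_conj]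
  intro h
  apply hH1
  exact (Subgroup.map_eq_bot_iff_of_injective _ (MulAut.conj g).injective).mp h

/-- free action: the order of the group divides the size of the set -/
lemma card_dvd_of_free {F Y : Type*} [Group F] [MulAction F Y]
    (h : ∀ y : Y, MulAction.stabilizer F y = ⊥) : Nat.card F ∣ Nat.card Y := by
  rw [Nat.card_congr (MulAction.selfEquivOrbitsQuotientProd h), Nat.card_prod]
  exact dvd_mul_left _ _

/-- Restrictions on the point stabilizer of an extremely primitive group. Let a finite group G act faithfully and primitively on a finite set Ω with point stabilizers H = G_α whose order is neither 1 nor a prime, each acting primitively on every one of its orbits. Then H has trivial center, the Fitting subgroup F(H) is an elementary abelian p-group for some prime p, and if F(H) ≠ 1 has order p ^ e then p ^ e divides the number of points minus one and H / F(H) embeds in GL_e(p) (there is a homomorphism from H to GL_e(p) with kernel exactly F(H)). -/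
theorem result {G : Type*} [Group G] [Finite G] {Ω : Type*} [Fintype Ω] [MulAction G Ω] [FaithfulSMul G Ω] (hprim : MulAction.IsPreprimitive G Ω) (hep : ∀ (α : Ω) (ω : Ω), MulAction.IsPreprimitive (MulAction.stabilizer G α) (MulAction.orbit (MulAction.stabilizer G α) ω)) (α : Ω)
    (hH1 : MulAction.stabilizer G α ≠ ⊥) (hHp : ¬ (Nat.card (MulAction.stabilizer G α)).Prime) :
    Subgroup.center (MulAction.stabilizer G α) = ⊥ ∧
    IsMulCommutative (Cfsg.fittingSubgroup (MulAction.stabilizer G α)) ∧
    ∃ p e : ℕ, p.Prime ∧ Nat.card (Cfsg.fittingSubgroup (MulAction.stabilizer G α)) = p ^ e ∧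
      (∀ x ∈ Cfsg.fittingSubgroup (MulAction.stabilizer G α), x ^ p = 1) ∧
      (Cfsg.fittingSubgroup (MulAction.stabilizer G α) ≠ ⊥ →
        p ^ e ∣ Fintype.card Ω - 1 ∧
        ∃ φ : MulAction.stabilizer G α →* GL (Fin e) (ZMod p), φ.ker = Cfsg.fittingSubgroup (MulAction.stabilizer G α)) := by
  classical
  have htr : MulAction.IsPretransitive G Ω := hprim.toIsPretransitive
  have hH : ∀ β : Ω, MulAction.stabilizer G β ≠ ⊥ := stab_ne_bot α hH1
  -- faithfulness on every nontrivial suborbit (Manning)
  have hfaith : ∀ ω : Ω, ω ≠ α →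
      FaithfulSMul (MulAction.stabilizer G α) (MulAction.orbit (MulAction.stabilizer G α) ω) := by
    intro ω hω
    constructor
    intro h₁ h₂ hh
    have h1 : h₁⁻¹ * h₂ = 1 := by
      apply Cfsg.Agent.S3494.result hprim hH hep α ω hω
      intro x hx
      have := hh ⟨x, hx⟩
      have h2 : h₂ • x = h₁ • x := (congrArg Subtype.val this).symm
      rw [mul_smul, h2, inv_smul_smul]
    have := congrArg (fun z => h₁ * z) h1
    simpa using this.symm
  -- there is a point other than α
  obtain ⟨ω₀, hω₀⟩ : ∃ ω : Ω, ω ≠ α := by
    by_contra hno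
    push Not at hno
    apply hH1
    rw [Subgroup.eq_bot_iff_forall]
    intro g _
    apply FaithfulSMul.eq_of_smul_eq_smul (α := Ω)
    intro x
    rw [hno x, hno (g • α), one_smul]
  have hne : ∀ ω : Ω, Nonempty (MulAction.orbit (MulAction.stabilizer G α) ω) :=
    fun ω => ⟨⟨ω, MulAction.mem_orbit_self ω⟩⟩
  have hfin : Finite (MulAction.stabilizer G α) := inferInstance
  have hF0 := hfaith ω₀ hω₀
  have hX0 := hne ω₀
  refine ⟨?_, ?_, ?_⟩
  · by_contra hZ
    exact hHp (Cfsg.Agent.Helper58.card_prime_of_center_ne_bot (hep α ω₀) hZ)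
  · obtain ⟨hc, -, -⟩ := Cfsg.Agent.Helper58.fitting_struct (hep α ω₀)
    exact ⟨⟨fun a b => Subtype.ext (hc a a.2 b b.2)⟩⟩
  · obtain ⟨hc, hfc, p, e, hp, hcard, hexp⟩ := Cfsg.Agent.Helper58.fitting_struct (hep α ω₀)
    refine ⟨p, e, hp, hcard, hexp, fun hFne => ⟨?_, ?_⟩⟩
    · -- p^e ∣ |Ω| - 1 : the Fitting subgroup acts freely on Ω \ {α}
      set F := Cfsg.fittingSubgroup (MulAction.stabilizer G α) with hFdef
      let Y : SubMulAction F Ω :=
        { carrier := {ω | ω ≠ α}
          smul_mem' := by
            intro b ω hω h
            apply hω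
            have hb : (b : MulAction.stabilizer G α) • α = α := (b : MulAction.stabilizer G α).2
            have h' : (b : MulAction.stabilizer G α) • ω = (b : MulAction.stabilizer G α) • α :=
              h.trans hb.symm
            exact smul_left_cancel _ h' }
      have hfree : ∀ y : Y, MulAction.stabilizer F y = ⊥ := by
        intro y
        rw [Subgroup.eq_bot_iff_forall]
        intro b hb
        have hy : (y : Ω) ≠ α := y.2
        have := hfaith y hy
        have := hne (y : Ω)
        obtain ⟨-, hfc', -⟩ := Cfsg.Agent.Helper58.fitting_struct (hep α (y : Ω))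
        have hbF : (b : MulAction.stabilizer G α) ∈ F := b.2
        have hfix : (b : MulAction.stabilizer G α) •
            (⟨(y : Ω), MulAction.mem_orbit_self _⟩ : MulAction.orbit (MulAction.stabilizer G α) (y : Ω))
            = ⟨(y : Ω), MulAction.mem_orbit_self _⟩ := by
          apply Subtype.ext
          have := congrArg Subtype.val (MulAction.mem_stabilizer_iff.mp hb)
          exact this
        exact Subtype.ext ((hfc' hFne).1 _ hbF _ hfix)
      have hdvd := card_dvd_of_free hfree
      rw [hcard] at hdvd
      have hY : Nat.card Y = Fintype.card Ω - 1 := by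
        have : Nat.card Y = Nat.card {ω : Ω // ω ≠ α} := rfl
        rw [this, Nat.card_eq_fintype_card, Fintype.card_subtype_compl, Fintype.card_subtype_eq]
      rw [hY] at hdvd
      exact hdvd
    · -- the conjugation action on F
      have hFn : (Cfsg.fittingSubgroup (MulAction.stabilizer G α)).Normal :=
        Subgroup.sSup_normal _ (fun _ h => h.1)
      have := Fact.mk hp
      obtain ⟨Θ, hΘ⟩ := Cfsg.Agent.Helper58.exists_embedding_GL
        (A := Cfsg.fittingSubgroup (MulAction.stabilizer G α)) p e
        (fun a b => Subtype.ext (hc a a.2 b b.2))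
        (fun a => Subtype.ext (hexp a a.2)) hcard
      refine ⟨Θ.comp (MulAut.conjNormal (H := Cfsg.fittingSubgroup (MulAction.stabilizer G α))), ?_⟩
      ext h
      rw [MonoidHom.mem_ker, MonoidHom.comp_apply, ← map_one Θ, hΘ.eq_iff]
      constructor
      · intro h1
        apply (hfc hFne).2
        intro b hb
        have := congrArg (fun f : MulAut (Cfsg.fittingSubgroup (MulAction.stabilizer G α)) =>
          ((f ⟨b, hb⟩ : Cfsg.fittingSubgroup (MulAction.stabilizer G α)) : MulAction.stabilizer G α)) h1
        simp only [MulAut.conjNormal_apply, MulAut.one_apply] at this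
        -- this : h * b * h⁻¹ = b
        have h2 := congrArg (fun z => z * h) this
        simpa using h2.symm
      · intro hh
        ext b
        rw [MulAut.conjNormal_apply, MulAut.one_apply]
        have := hc h hh b b.2
        rw [this, mul_assoc, mul_inv_cancel, mul_one]

end Cfsg.Agent.S3497
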