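import Cfsg.Statements.S3498
-- import your own Cfsg.Agent.* helpers here

set_option autoImplicit false
open Cfsg

namespace Cfsg.Agent.S3498

/-- a finite simple `r`-group is commutative -/
lemma comm_of_simple_pgroup {T : Type*} [Group T] [Finite T] (hT : IsSimpleGroup T) (r : ℕ)
    [Fact r.Prime] (h : IsPGroup r T) : IsMulCommutative T := by
  have := hT
  have : Nontrivial T := IsSimpleGroup.toNontrivial
  have hc : Nontrivial (Subgroup.center T) := h.center_nontrivial
  have hne : Subgroup.center T ≠ ⊥ := by
    intro hbot
    rw [hbot] at hc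
    exact not_nontrivial (⊥ : Subgroup T) hc
  have htop : Subgroup.center T = ⊤ :=
    ((Subgroup.center T).normal_of_characteristic.eq_bot_or_eq_top).resolve_left hne
  refine ⟨⟨fun a b => ?_⟩⟩
  have ha : a ∈ Subgroup.center T := htop ▸ Subgroup.mem_top a
  exact ((Subgroup.mem_center_iff.mp ha) b).symm

/-- a group of prime order is commutative -/
lemma comm_of_prime_card {T : Type*} [Group T] (h : (Nat.card T).Prime) : IsMulCommutative T := by
  have : Fact (Nat.card T).Prime := ⟨h⟩
  have : IsCyclic T := isCyclic_of_prime_card rfl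
  exact ⟨⟨fun a b => IsCyclic.commGroup.mul_comm a b⟩⟩

/-- Case A: a finite simple group with a maximal subgroup of prime order is commutative. -/
lemma comm_of_simple_of_maximal_prime {G : Type*} [Group G] [Finite G] (hG : IsSimpleGroup G)
    (H : Subgroup G) (hmax : IsCoatom H) (hp : (Nat.card H).Prime) : IsMulCommutative G := by
  have := hG
  set p := Nat.card H with hpdef
  have : Fact p.Prime := ⟨hp⟩
  have hHp : IsPGroup p H := IsPGroup.of_card (n := 1) (by rw [pow_one])
  obtain ⟨P, hHP⟩ := hHp.exists_le_sylow
  rcases hmax.le_iff.mp hHP with hPtop | hPH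
  · -- G is a p-group
    have hG' : IsPGroup p G := by
      have := P.2
      rw [hPtop] at this
      exact this.of_equiv Subgroup.topEquiv
    exact comm_of_simple_pgroup hG p hG'
  · -- P = H is Sylow
    have hHne_top : H ≠ ⊤ := hmax.1
    have hHne_bot : H ≠ ⊥ := by
      intro h
      have : Nat.card H = 1 := by rw [h]; exact Subgroup.card_bot
      rw [← hpdef] at this
      exact hp.one_lt.ne' this
    have hnorm : Subgroup.normalizer ((P : Subgroup G) : Set G) = P := by
      rcases hmax.le_iff.mp (hPH ▸ Subgroup.le_normalizer : H ≤ Subgroup.normalizer ((P : Subgroup G) : Set G)) with h | h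
      · exfalso
        have hn : (P : Subgroup G).Normal := Subgroup.normalizer_eq_top_iff.mp h
        rcases hn.eq_bot_or_eq_top with h1 | h1
        · exact hHne_bot (hPH ▸ h1)
        · exact hHne_top (hPH ▸ h1)
      · rw [h, hPH]
    have hcomm : IsMulCommutative H := comm_of_prime_card hp
    have hP : Subgroup.normalizer ((P : Subgroup G) : Set G) ≤ Subgroup.centralizer (P : Set G) := by
      rw [hnorm, hPH]
      intro x hx y hy
      have hy' : y ∈ H := hPH ▸ hy
      have := isMulCommutative_iff.mp hcomm ⟨y, hy'⟩ ⟨x, hx⟩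
      exact congrArg Subtype.val this
    have hcompl := MonoidHom.ker_transferSylow_isComplement' P hP
    set K := (MonoidHom.transferSylow P hP).ker with hK
    have hKn : K.Normal := MonoidHom.normal_ker _
    have hcard := hcompl.card_mul_card
    rcases hKn.eq_bot_or_eq_top with h1 | h1
    · -- G = P has prime order
      rw [h1, Subgroup.card_bot, one_mul, hPH] at hcard
      exact comm_of_prime_card (hcard ▸ hp)
    · exfalso
      rw [h1, Subgroup.card_top, hPH] at hcard
      have hpos : 0 < Nat.card G := Nat.card_pos
      have : Nat.card H = 1 := by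
        have := Nat.eq_of_mul_eq_mul_left hpos (hcard.trans (mul_one _).symm)
        exact this
      rw [← hpdef] at this
      exact hp.one_lt.ne' this


open scoped Pointwise in
/-- Case B: `T ⊓ H = ⊥`. -/
lemma comm_of_trivial_inter {G : Type*} [Group G] [Finite G] (T : Subgroup G) [T.Normal]
    (hT : IsSimpleGroup T) (hC : Subgroup.centralizer (T : Set G) = ⊥) (H : Subgroup G)
    (hmax : IsCoatom H) (hp : (Nat.card H).Prime) (hTH : T ⊓ H = ⊥) : IsMulCommutative T := by
  have := hT
  set p := Nat.card H with hpdef
  have : Fact p.Prime := ⟨hp⟩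
  have hHp : IsPGroup p H := IsPGroup.of_card (n := 1) (by rw [pow_one])
  have hHne_bot : H ≠ ⊥ := by
    intro h
    have : Nat.card H = 1 := by rw [h]; exact Subgroup.card_bot
    rw [← hpdef] at this
    exact hp.one_lt.ne' this
  -- (*) H-invariant subgroups of T
  have star : ∀ K : Subgroup G, K ≤ T → H ≤ Subgroup.normalizer (K : Set G) → K = ⊥ ∨ K = T := by
    intro K hKT hHK
    rcases hmax.le_iff.mp (le_sup_right : H ≤ K ⊔ H) with h | h
    · right
      apply le_antisymm hKT
      intro t ht
      have htop : t ∈ ((K ⊔ H : Subgroup G) : Set G) := by rw [h]; exact Set.mem_univ t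
      rw [Subgroup.coe_mul_of_right_le_normalizer_left K H hHK] at htop
      obtain ⟨k, hk, x, hx, rfl⟩ := htop
      have hxT : x ∈ T := by
        have : x = k⁻¹ * (k * x) := by group
        rw [this]
        exact T.mul_mem (T.inv_mem (hKT hk)) ht
      have : x ∈ T ⊓ H := ⟨hxT, hx⟩
      rw [hTH, Subgroup.mem_bot] at this
      show k * x ∈ K
      rw [this, mul_one]
      exact hk
    · left
      have hKH : K ≤ H := by rw [← h]; exact le_sup_left
      exact le_bot_iff.mp (hTH ▸ le_inf hKT hKH)
  -- fixed points of H on T are trivial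
  have hfix : T ⊓ Subgroup.centralizer (H : Set G) = ⊥ := by
    rcases star (T ⊓ Subgroup.centralizer (H : Set G)) inf_le_left (by
      intro h hh
      rw [Subgroup.mem_normalizer_iff]
      intro c
      have key : ∀ c : G, c ∈ T ⊓ Subgroup.centralizer (H : Set G) → h * c * h⁻¹ = c := by
        intro c hc
        have := hc.2 h hh
        rw [this, mul_inv_cancel_right]
      constructor
      · intro hc
        rw [key c hc]; exact hc
      · intro hc
        have h2 : h⁻¹ * (h * c * h⁻¹) * h⁻¹⁻¹ = c := by group
        have hinv : h⁻¹ ∈ H := H.inv_mem hh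
        have key' : ∀ c : G, c ∈ T ⊓ Subgroup.centralizer (H : Set G) → h⁻¹ * c * h⁻¹⁻¹ = c := by
          intro c hc
          have := hc.2 h⁻¹ hinv
          rw [this, mul_inv_cancel_right]
        rw [← h2, key' _ hc]; exact hc) with h | h
    · exact h
    · exfalso
      apply hHne_bot
      have hTle : T ≤ Subgroup.centralizer (H : Set G) := by
        rw [← h]; exact inf_le_right
      have : H ≤ Subgroup.centralizer (T : Set G) := Subgroup.le_centralizer_iff.mp hTle
      rw [hC] at this
      exact le_bot_iff.mp this
  -- the action of H on T by conjugation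
  let φ : H →* MulAut T := (MulAut.conjNormal (H := T)).comp H.subtype
  let actT : MulAction H T := MulAction.compHom T φ
  have hsmul : ∀ (h : H) (t : T), ((h • t : T) : G) = (h : G) * t * (h : G)⁻¹ := by
    intro h t
    exact MulAut.conjNormal_apply (h : G) t
  have hfixed : MulAction.fixedPoints H T = {1} := by
    ext t
    simp only [MulAction.mem_fixedPoints, Set.mem_singleton_iff]
    constructor
    · intro ht
      have : (t : G) ∈ T ⊓ Subgroup.centralizer (H : Set G) := by
        refine ⟨t.2, ?_⟩
        intro h hh
        have := congrArg Subtype.val (ht ⟨h, hh⟩)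
        rw [hsmul] at this
        simp only at this
        calc h * (t : G) = (h * t * h⁻¹) * h := by group
          _ = t * h := by rw [this]
      rw [hfix, Subgroup.mem_bot] at this
      exact Subtype.ext this
    · rintro rfl h
      apply Subtype.ext
      rw [hsmul]
      simp
  have hpT : ¬ p ∣ Nat.card T := by
    intro hdvd
    have hmod := hHp.card_modEq_card_fixedPoints T
    rw [hfixed] at hmod
    have h1 : Nat.card ({1} : Set T) = 1 := by simp
    rw [h1] at hmod
    have := (Nat.modEq_zero_iff_dvd.mpr hdvd).symm.trans hmod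
    have h01 : 0 % p = 1 % p := this
    rw [Nat.zero_mod, Nat.mod_eq_of_lt hp.one_lt] at h01
    exact zero_ne_one h01
  -- a prime r dividing |T| and an H-invariant Sylow r-subgroup
  have hTnt : Nontrivial T := IsSimpleGroup.toNontrivial
  have hcardT : Nat.card T ≠ 1 := by
    intro h1
    have := (Nat.card_eq_one_iff_unique.mp h1).1
    exact not_subsingleton T this
  obtain ⟨r, hr, hrT⟩ := Nat.exists_prime_and_dvd hcardT
  have : Fact r.Prime := ⟨hr⟩
  let actS : MulAction H (Sylow r T) := MulAction.compHom (Sylow r T) φ
  have hcardS : ¬ p ∣ Nat.card (Sylow r T) := by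
    intro h
    apply hpT
    obtain ⟨S⟩ : Nonempty (Sylow r T) := inferInstance
    exact h.trans ((Sylow.card_dvd_index S).trans (Subgroup.index_dvd_card _))
  obtain ⟨S, hS⟩ := hHp.nonempty_fixed_point_of_prime_not_dvd_card (Sylow r T) hcardS
  -- R := S as a subgroup of G
  set R : Subgroup G := (S : Subgroup T).map T.subtype with hR
  have hRT : R ≤ T := by
    rintro _ ⟨s, _, rfl⟩
    exact s.2
  have hHR : H ≤ Subgroup.normalizer (R : Set G) := by
    have key : ∀ h ∈ H, ∀ x ∈ R, h * x * h⁻¹ ∈ R := by
      rintro h hh _ ⟨s, hs, rfl⟩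
      have h1 : (⟨h, hh⟩ : H) • S = S := hS ⟨h, hh⟩
      have h2 : φ ⟨h, hh⟩ s ∈ ((φ ⟨h, hh⟩) • (S : Subgroup T) : Subgroup T) :=
        Subgroup.smul_mem_pointwise_smul s (φ ⟨h, hh⟩) (S : Subgroup T) hs
      have h3 : ((φ ⟨h, hh⟩) • (S : Subgroup T) : Subgroup T) = (S : Subgroup T) :=
        congrArg (fun P : Sylow r T => (P : Subgroup T)) h1
      rw [h3] at h2
      refine ⟨φ ⟨h, hh⟩ s, h2, ?_⟩
      exact MulAut.conjNormal_apply h s
    intro h hh
    rw [Subgroup.mem_normalizer_iff]
    intro x
    constructor
    · exact key h hh x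
    · intro hx
      have := key h⁻¹ (H.inv_mem hh) _ hx
      have e : h⁻¹ * (h * x * h⁻¹) * h⁻¹⁻¹ = x := by group
      rwa [e] at this
  rcases star R hRT hHR with h | h
  · exfalso
    -- S = ⊥ contradicts r ∣ |T|
    have hSbot : (S : Subgroup T) = ⊥ := by
      rw [hR] at h
      exact (Subgroup.map_eq_bot_iff_of_injective _ T.subtype_injective).mp h
    have hcard1 : Nat.card (S : Subgroup T) = 1 := by rw [hSbot]; exact Subgroup.card_bot
    have hdvd : r ∣ Nat.card (S : Subgroup T) := by
      have hS' := S.card_eq_multiplicity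
      rw [hS']
      have hpos : 0 < (Nat.card T).factorization r :=
        (hr.factorization_pos_of_dvd Nat.card_pos.ne' hrT)
      exact dvd_pow_self r hpos.ne'
    rw [hcard1] at hdvd
    exact hr.one_lt.ne' (Nat.dvd_one.mp hdvd)
  · -- S = ⊤, T is an r-group
    have hStop : (S : Subgroup T) = ⊤ := by
      rw [eq_top_iff]
      intro t _
      have : (t : G) ∈ R := by rw [h]; exact t.2
      obtain ⟨s, hs, hst⟩ := this
      have : s = t := Subtype.ext hst
      rw [← this]; exact hs
    have hTr : IsPGroup r T := by
      have := S.2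
      rw [hStop] at this
      exact this.of_equiv Subgroup.topEquiv
    exact comm_of_simple_pgroup hT r hTr

/-- A maximal subgroup of a finite almost simple group does not have prime order. Here G is almost simple in the sense that it has a non-abelian simple normal subgroup T with trivial centralizer. -/
theorem result {G : Type*} [Group G] [Finite G] (T : Subgroup G) [T.Normal] (hT : IsSimpleGroup T) (hTc : ¬ IsMulCommutative T)
    (hC : Subgroup.centralizer (T : Set G) = ⊥) (H : Subgroup G) (hmax : IsCoatom H) : ¬ (Nat.card H).Prime := by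
  intro hp
  have := hT
  by_cases hHT : H ≤ T
  · rcases hmax.le_iff.mp hHT with h | h
    · -- T = ⊤
      have hTnt : Nontrivial T := IsSimpleGroup.toNontrivial
      have hGnt : Nontrivial G := by
        obtain ⟨a, b, hab⟩ := hTnt
        exact ⟨a, b, fun h' => hab (Subtype.ext h')⟩
      have hsurj : Function.Surjective T.subtype := by
        intro g
        exact ⟨⟨g, h ▸ Subgroup.mem_top g⟩, rfl⟩
      have hG : IsSimpleGroup G := IsSimpleGroup.isSimpleGroup_of_surjective T.subtype hsurj
      have hcomm := comm_of_simple_of_maximal_prime hG H hmax hp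
      apply hTc
      exact ⟨⟨fun a b => Subtype.ext (isMulCommutative_iff.mp hcomm a b)⟩⟩
    · -- T = H
      apply hTc
      exact comm_of_prime_card (h ▸ hp)
  · have hTH : T ⊓ H = ⊥ := by
      rw [Subgroup.eq_bot_iff_forall]
      rintro x ⟨hxT, hxH⟩
      by_contra hx1
      apply hHT
      intro y hy
      have : Fact (Nat.card H).Prime := ⟨hp⟩
      have hmem : (⟨y, hy⟩ : H) ∈ Subgroup.zpowers (⟨x, hxH⟩ : H) :=
        mem_zpowers_of_prime_card rfl (fun h1 => hx1 (congrArg Subtype.val h1))
      obtain ⟨k, hk⟩ := hmem
      have : y = x ^ k := by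
        have := congrArg Subtype.val hk
        simpa using this.symm
      rw [this]
      exact T.zpow_mem hxT k
    exact hTc (comm_of_trivial_inter T hT hC H hmax hp hTH)

end Cfsg.Agent.S3498
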