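import Cfsg.Statements.S3501
import Cfsg.Agent.Helper58.UniqueDer

set_option autoImplicit false
open Cfsg

namespace Cfsg.Agent.S3501

open Cfsg.Agent.Helper58.UDer Cfsg.Agent.Helper58 MulAction

/-- Let a finite group G act faithfully and primitively on a finite set Ω with at least two points, and suppose G is not almost simple (it has no non-abelian simple normal subgroup with trivial centralizer). Then the derangements of G form a single conjugacy class if and only if G is sharply 2-transitive (2-transitive, and no non-identity element fixes two points). -/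
theorem result {G : Type*} [Group G] [Finite G] {Ω : Type*} [Fintype Ω] [MulAction G Ω] [FaithfulSMul G Ω] (hΩ : 2 ≤ Fintype.card Ω) (hprim : MulAction.IsPreprimitive G Ω) (hnas : ¬ ∃ T : Subgroup G, T.Normal ∧ IsSimpleGroup T ∧ ¬ IsMulCommutative T ∧ Subgroup.centralizer (T : Set G) = ⊥) :
    Nat.card {c : ConjClasses G // ∃ g : G, ConjClasses.mk g = c ∧ ∀ ω : Ω, g • ω ≠ ω} = 1 ↔ (MulAction.IsMultiplyPretransitive G Ω 2 ∧ ∀ g : G, g ≠ 1 → ∀ a b : Ω, a ≠ b → g • a = a → g • b ≠ b) := by
  classical
  rw [card_classes_eq_one_iff, two_trans_iff]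
  obtain ⟨a, b, hab⟩ : ∃ a b : Ω, a ≠ b := Fintype.exists_pair_of_one_lt_card (by omega)
  haveI : Nonempty Ω := ⟨a⟩
  constructor
  · rintro ⟨⟨d₀, hd₀⟩, hconj⟩
    haveI : Nontrivial G := ⟨⟨d₀, 1, hd₀.ne_one⟩⟩
    obtain ⟨N, hNn, hN1, hminN⟩ := exists_minNormal (G := G)
    haveI := hNn
    by_cases hc : ∀ a ∈ N, ∀ b ∈ N, a * b = b * a
    · exact abelian_case hprim N hN1 hc hconj
    · exfalso
      obtain ⟨T, hT⟩ := exists_ctx N hN1
      have htr := normal_trans hprim N hN1
      by_cases hall : ∀ g : G, cj g T = T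
      · exact simple_case hprim hT hminN hc hall hab hnas hconj
      · push Not at hall
        obtain ⟨g₀, hg₀⟩ := hall
        have hZ : ∀ z ∈ T, (∀ t ∈ T, z * t = t * z) → z = 1 :=
          fun z hz hzc => hT.center_trivial hminN hc hz hzc
        by_cases hsr : ∀ ω : Ω, T ⊓ stabilizer G ω = ⊥
        · obtain ⟨x, y, hx, hy, hxy⟩ := case_A (Ω := Ω) T hT.hT1 hZ hsr
          exact hxy (hconj x y hx hy)
        · push Not at hsr
          obtain ⟨α, hα⟩ := hsr
          obtain ⟨x, y, hx, hy, hxy⟩ := case_B hT hminN hc htr α hα hg₀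
          exact hxy (hconj x y hx hy)
  · rintro ⟨h2, hs⟩
    haveI : Fintype G := Fintype.ofFinite G
    exact sharp_der_conj h2 hs hΩ

end Cfsg.Agent.S3501
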