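import Cfsg.Statements.S3504
-- import your own Cfsg.Agent.* helpers here

set_option autoImplicit false
open Cfsg

namespace Cfsg.Agent.S3504

lemma lcm_replicate_succ (k p : ℕ) : (Multiset.replicate (k + 1) p).lcm = p := by
  induction k with
  | zero => simp
  | succ k ih =>
    rw [Multiset.replicate_succ, Multiset.lcm_cons, ih]
    simp

/-- cycle type of a prime-order derangement -/
lemma cycleType_of_prime_derangement {n : ℕ} (g : Equiv.Perm (Fin n)) (hg : (orderOf g).Prime)
    (hfix : ∀ i : Fin n, g i ≠ i) :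
    g.cycleType = Multiset.replicate (n / orderOf g) (orderOf g) ∧ orderOf g ∣ n := by
  obtain ⟨m, hm⟩ := Equiv.Perm.cycleType_prime_order hg
  have hsupp : g.support = Finset.univ := by
    ext i
    simp [Equiv.Perm.mem_support, hfix i]
  have hsum : g.cycleType.sum = n := by
    rw [Equiv.Perm.sum_cycleType, hsupp, Finset.card_univ, Fintype.card_fin]
  rw [hm, Multiset.sum_replicate, smul_eq_mul] at hsum
  have hdiv : n / orderOf g = m + 1 := Nat.div_eq_of_eq_mul_left hg.pos hsum.symm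
  exact ⟨by rw [hm, hdiv], Dvd.intro_left (m + 1) hsum⟩

lemma exists_perm {n p : ℕ} (hp : p.Prime) (hpn : p ∣ n) :
    ∃ σ : Equiv.Perm (Fin n), σ.cycleType = Multiset.replicate (n / p) p := by
  rw [Equiv.Perm.exists_with_cycleType_iff]
  constructor
  · rw [Multiset.sum_replicate, smul_eq_mul, Fintype.card_fin, Nat.div_mul_cancel hpn]
  · intro a ha
    rw [Multiset.eq_of_mem_replicate ha]
    exact hp.two_le

lemma props_of_cycleType {n p : ℕ} (hn : 0 < n) (hp : p.Prime) (hpn : p ∣ n) (σ : Equiv.Perm (Fin n))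
    (hσ : σ.cycleType = Multiset.replicate (n / p) p) : orderOf σ = p ∧ ∀ i : Fin n, σ i ≠ i := by
  have hk : 0 < n / p := Nat.div_pos (Nat.le_of_dvd hn hpn) hp.pos
  obtain ⟨k, hk'⟩ : ∃ k, n / p = k + 1 := ⟨n / p - 1, by omega⟩
  constructor
  · rw [← Equiv.Perm.lcm_cycleType, hσ, hk', lcm_replicate_succ]
  · have hsum : σ.cycleType.sum = n := by
      rw [hσ, Multiset.sum_replicate, smul_eq_mul, Nat.div_mul_cancel hpn]
    rw [Equiv.Perm.sum_cycleType] at hsum
    have hsupp : σ.support = Finset.univ := by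
      rw [← Finset.card_eq_iff_eq_univ, hsum, Fintype.card_fin]
    intro i
    have : i ∈ σ.support := hsupp ▸ Finset.mem_univ i
    exact Equiv.Perm.mem_support.mp this

/-- For n ≥ 5, the fixed-point-free permutations of prime order in the symmetric group of degree n form a single conjugacy class if and only if n is a prime power. -/
theorem result (n : ℕ) (hn : 5 ≤ n) :
    Nat.card {c : ConjClasses (Equiv.Perm (Fin n)) // ∃ g : Equiv.Perm (Fin n), ConjClasses.mk g = c ∧ (orderOf g).Prime ∧ ∀ i : Fin n, g i ≠ i} = 1 ↔ IsPrimePow n := by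
  have hn0 : 0 < n := by omega
  rw [Nat.card_eq_one_iff_unique]
  constructor
  · rintro ⟨hsub, _⟩
    rw [isPrimePow_iff_card_primeFactors_eq_one, Finset.card_eq_one]
    obtain ⟨p, hp, hpn⟩ := Nat.exists_prime_and_dvd (show n ≠ 1 by omega)
    refine ⟨p, ?_⟩
    ext q
    rw [Finset.mem_singleton, Nat.mem_primeFactors]
    constructor
    · rintro ⟨hq, hqn, _⟩
      obtain ⟨σp, hσp⟩ := exists_perm hp hpn
      obtain ⟨σq, hσq⟩ := exists_perm hq hqn
      obtain ⟨hop, hfp⟩ := props_of_cycleType hn0 hp hpn σp hσp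
      obtain ⟨hoq, hfq⟩ := props_of_cycleType hn0 hq hqn σq hσq
      have h1 := @Subsingleton.elim _ hsub
        ⟨ConjClasses.mk σp, σp, rfl, hop ▸ hp, hfp⟩ ⟨ConjClasses.mk σq, σq, rfl, hoq ▸ hq, hfq⟩
      have h2 : ConjClasses.mk σp = ConjClasses.mk σq := congrArg Subtype.val h1
      rw [ConjClasses.mk_eq_mk_iff_isConj, Equiv.Perm.isConj_iff_cycleType_eq] at h2
      have h3 : orderOf σp = orderOf σq := by
        rw [← Equiv.Perm.lcm_cycleType, ← Equiv.Perm.lcm_cycleType, h2]
      rw [← hop, ← hoq, h3]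
    · rintro rfl
      exact ⟨hp, hpn, by omega⟩
  · intro hpp
    rw [isPrimePow_nat_iff] at hpp
    obtain ⟨q, k, hq, hk, hqk⟩ := hpp
    have hqn : q ∣ n := hqk ▸ dvd_pow_self q hk.ne'
    constructor
    · constructor
      rintro ⟨c, g, rfl, hg, hgf⟩ ⟨c', g', rfl, hg', hgf'⟩
      apply Subtype.ext
      show ConjClasses.mk g = ConjClasses.mk g'
      rw [ConjClasses.mk_eq_mk_iff_isConj, Equiv.Perm.isConj_iff_cycleType_eq]
      obtain ⟨h1, h1d⟩ := cycleType_of_prime_derangement g hg hgf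
      obtain ⟨h2, h2d⟩ := cycleType_of_prime_derangement g' hg' hgf'
      have e1 : orderOf g = q := by
        have h1d' : orderOf g ∣ q ^ k := by rw [hqk]; exact h1d
        exact (Nat.prime_dvd_prime_iff_eq hg hq).mp (hg.dvd_of_dvd_pow h1d')
      have e2 : orderOf g' = q := by
        have h2d' : orderOf g' ∣ q ^ k := by rw [hqk]; exact h2d
        exact (Nat.prime_dvd_prime_iff_eq hg' hq).mp (hg'.dvd_of_dvd_pow h2d')
      rw [h1, h2, e1, e2]
    · obtain ⟨σ, hσ⟩ := exists_perm hq hqn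
      obtain ⟨ho, hf⟩ := props_of_cycleType hn0 hq hqn σ hσ
      exact ⟨⟨ConjClasses.mk σ, σ, rfl, ho ▸ hq, hf⟩⟩

end Cfsg.Agent.S3504
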