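import Cfsg.Statements.S3508
-- import your own Cfsg.Agent.* helpers here

set_option autoImplicit false
open Cfsg
open Polynomial

namespace Cfsg.Agent.S3508

lemma iterate_affine {V : Type*} [AddCommGroup V] {R : Type*} [CommRing R] [Module R V]
    (c : Module.End R V) (w : V) (k : ℕ) (v : V) :
    (fun v => c v + w)^[k] v = (c ^ k) v + (∑ i ∈ Finset.range k, c ^ i) w := by
  induction k with
  | zero => simp
  | succ k ih =>
    rw [Function.iterate_succ_apply', ih, Finset.sum_range_succ', pow_succ']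
    simp only [map_add, Module.End.mul_apply, LinearMap.add_apply, pow_zero, Module.End.one_apply,
      LinearMap.sum_apply, map_sum, pow_succ']
    rw [add_assoc]

lemma poly_id1 (p : ℕ) [Fact p.Prime] (j : ℕ) :
    ((X : (ZMod p)[X]) - 1) ^ (p ^ j) = X ^ (p ^ j) - 1 := by
  rw [sub_pow_char_pow, one_pow]

lemma poly_id2 (p : ℕ) [Fact p.Prime] (j : ℕ) :
    (∑ i ∈ Finset.range (p ^ j), (X : (ZMod p)[X]) ^ i) = (X - 1) ^ (p ^ j - 1) := by
  have h1 : ((X : (ZMod p)[X]) - 1) * (∑ i ∈ Finset.range (p ^ j), (X : (ZMod p)[X]) ^ i)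
      = (X - 1) * (X - 1) ^ (p ^ j - 1) := by
    rw [mul_geom_sum, ← pow_succ', Nat.sub_add_cancel (Nat.one_le_pow _ _ (Fact.out : p.Prime).pos),
      poly_id1]
  have hne : ((X : (ZMod p)[X]) - 1) ≠ 0 := by
    have := X_sub_C_ne_zero (1 : ZMod p)
    simpa using this
  exact mul_left_cancel₀ hne h1

lemma affine_iterate {V : Type*} [AddCommGroup V] (p : ℕ) [Fact p.Prime] [Module (ZMod p) V]
    [Module.Finite (ZMod p) V]
    (c : Module.End (ZMod p) V) (r : ℕ) (hc : c ^ (p ^ r) = 1) (w : V) (j : ℕ)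
    (hj : Module.finrank (ZMod p) V < p ^ j) (v : V) :
    (fun v => c v + w)^[p ^ j] v = v := by
  have hD : (c - 1) ^ (p ^ r) = 0 := by
    have := congrArg (aeval c) (poly_id1 p r)
    simp only [map_pow, map_sub, aeval_X, map_one] at this
    rw [this, hc, sub_self]
  have hnil : IsNilpotent (c - 1) := ⟨p ^ r, hD⟩
  have hDm : (c - 1) ^ (Module.finrank (ZMod p) V) = 0 := by
    have h1 := LinearMap.aeval_self_charpoly (c - 1)
    rw [hnil.charpoly_eq_X_pow_finrank] at h1
    simpa using h1
  have hpow : ∀ n, Module.finrank (ZMod p) V ≤ n → (c - 1) ^ n = 0 := by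
    intro n hn
    rw [← Nat.sub_add_cancel hn, pow_add, hDm, mul_zero]
  have h1 : c ^ (p ^ j) = 1 := by
    have := congrArg (aeval c) (poly_id1 p j)
    simp only [map_pow, map_sub, aeval_X, map_one] at this
    rw [hpow _ hj.le] at this
    exact (sub_eq_zero.mp this.symm)
  have h2 : (∑ i ∈ Finset.range (p ^ j), c ^ i) = 0 := by
    have := congrArg (aeval c) (poly_id2 p j)
    simp only [map_pow, map_sub, aeval_X, map_one, map_sum] at this
    rw [this]
    exact hpow _ (by omega)
  rw [iterate_affine, h1, h2]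
  simp


/-- the action of automorphisms on the additive version, as linear maps -/
def autEnd (A : Type*) [CommGroup A] (p : ℕ) [Fact p.Prime] [Module (ZMod p) (Additive A)] :
    MulAut A →* Module.End (ZMod p) (Additive A) where
  toFun := fun α => (MulEquiv.toAdditive α : Additive A ≃+ Additive A).toAddMonoidHom.toZModLinearMap p
  map_one' := LinearMap.ext fun _ => rfl
  map_mul' := fun _ _ => LinearMap.ext fun _ => rfl

/-- version with the module structure given as an instance -/
lemma mul_affine_iterate_aux {A : Type*} [CommGroup A] [Finite A] (p m : ℕ) [hp : Fact p.Prime]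
    [Module (ZMod p) (Additive A)] (hcard : Nat.card A = p ^ m)
    (α : MulAut A) (r : ℕ) (hα : α ^ (p ^ r) = 1) (w : A) (j : ℕ) (hj : m < p ^ j) (a : A) :
    (fun a => α a * w)^[p ^ j] a = a := by
  have : Finite (Additive A) := inferInstanceAs (Finite A)
  have : Module.Finite (ZMod p) (Additive A) := Module.Finite.of_finite
  have hfin : Module.finrank (ZMod p) (Additive A) = m := by
    have h1 : Nat.card (Additive A) = Nat.card (ZMod p) ^ Module.finrank (ZMod p) (Additive A) :=
      Module.natCard_eq_pow_finrank (K := ZMod p) (V := Additive A)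
    have h2 : Nat.card (Additive A) = p ^ m := hcard
    rw [h2, Nat.card_eq_fintype_card, ZMod.card] at h1
    exact (Nat.pow_right_injective hp.out.two_le h1).symm
  have hc : (autEnd A p α) ^ (p ^ r) = 1 := by
    rw [← map_pow, hα, map_one]
  exact affine_iterate (V := Additive A) p (autEnd A p α) r hc (Additive.ofMul w) j
    (by rw [hfin]; exact hj) (Additive.ofMul a)

lemma mul_affine_iterate_comm {A : Type*} [CommGroup A] [Finite A] (p m : ℕ) [hp : Fact p.Prime]
    (hexp : ∀ a : A, a ^ p = 1) (hcard : Nat.card A = p ^ m)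
    (α : MulAut A) (r : ℕ) (hα : α ^ (p ^ r) = 1) (w : A) (j : ℕ) (hj : m < p ^ j) (a : A) :
    (fun a => α a * w)^[p ^ j] a = a := by
  have hV : ∀ x : Additive A, p • x = 0 := fun x => hexp (Additive.toMul x)
  exact @mul_affine_iterate_aux A _ _ p m hp (AddCommGroup.zmodModule hV) hcard α r hα w j hj a

lemma mul_affine_iterate {A : Type*} [Group A] [Finite A] (p m : ℕ) [hp : Fact p.Prime]
    (hcomm : ∀ a b : A, a * b = b * a)
    (hexp : ∀ a : A, a ^ p = 1) (hcard : Nat.card A = p ^ m)
    (α : MulAut A) (r : ℕ) (hα : α ^ (p ^ r) = 1) (w : A) (j : ℕ) (hj : m < p ^ j) (a : A) :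
    (fun a => α a * w)^[p ^ j] a = a := by
  let _ : CommGroup A := { (inferInstance : Group A) with mul_comm := hcomm }
  exact mul_affine_iterate_comm p m hexp hcard α r hα w j hj a

lemma pow_eq_one_of_affine {G : Type*} [Group G] [Finite G] {Ω : Type*} [Fintype Ω] [MulAction G Ω]
    [FaithfulSMul G Ω] (p m : ℕ) [hpF : Fact p.Prime] (hcard : Fintype.card Ω = p ^ m)
    (N : Subgroup G) [N.Normal] (hNc : IsMulCommutative N) (hNp : ∀ n ∈ N, n ^ p = 1)
    (hNtr : MulAction.IsPretransitive N Ω) (hNreg : ∀ ω : Ω, MulAction.stabilizer N ω = ⊥)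
    (g : G) (r : ℕ) (hg : g ^ (p ^ r) = 1) (j : ℕ) (hj : m < p ^ j) : g ^ (p ^ j) = 1 := by
  classical
  have hne : Nonempty Ω := by
    have : 0 < Fintype.card Ω := by rw [hcard]; exact pow_pos hpF.out.pos _
    exact Fintype.card_pos_iff.mp this
  obtain ⟨ω₀⟩ := hne
  -- the bijection N ≃ Ω
  have hbij : Function.Bijective (fun n : N => n • ω₀) := by
    constructor
    · intro a b hab
      have hab' : a • ω₀ = b • ω₀ := hab
      have : a⁻¹ * b ∈ MulAction.stabilizer N ω₀ := by
        rw [MulAction.mem_stabilizer_iff, mul_smul, ← hab', inv_smul_smul]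
      rw [hNreg, Subgroup.mem_bot] at this
      have h2 := congrArg (fun z => a * z) this
      simpa using h2.symm
    · intro x
      exact hNtr.exists_smul_eq ω₀ x
  have hNcard : Nat.card N = p ^ m := by
    rw [Nat.card_congr (Equiv.ofBijective _ hbij), Nat.card_eq_fintype_card, hcard]
  obtain ⟨n₁, hn₁⟩ := hbij.2 (g • ω₀)
  have hstep : ∀ n : N, g • (n • ω₀) = ((MulAut.conjNormal g n) * n₁) • ω₀ := by
    intro n
    show g • (n : G) • ω₀ = (((MulAut.conjNormal g n) * n₁ : N) : G) • ω₀
    rw [Subgroup.coe_mul, MulAut.conjNormal_apply, mul_smul]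
    have : (n₁ : G) • ω₀ = g • ω₀ := hn₁
    rw [this, ← mul_smul, ← mul_smul]
    congr 1
    group
  have hiter : ∀ (k : ℕ) (n : N),
      g ^ k • (n • ω₀) = ((fun n => (MulAut.conjNormal g n) * n₁)^[k] n) • ω₀ := by
    intro k
    induction k with
    | zero => intro v; simp
    | succ k ih =>
      intro v
      rw [pow_succ', mul_smul, ih, hstep, Function.iterate_succ_apply']
  have hc : (MulAut.conjNormal g : MulAut N) ^ (p ^ r) = 1 := by
    rw [← map_pow, hg, map_one]
  apply FaithfulSMul.eq_of_smul_eq_smul (α := Ω)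
  intro x
  obtain ⟨n, rfl⟩ := hbij.2 x
  have := hiter (p ^ j) n
  rw [mul_affine_iterate p m (fun a b => hNc.is_comm.comm a b)
    (fun a => Subtype.ext (hNp a a.2)) hNcard _ r hc n₁ j hj] at this
  rw [one_smul]
  exact this

lemma aux2 : ∀ s : ℕ, 2 ≤ s → s + 1 < 2 ^ s := by
  intro s hs
  induction s, hs using Nat.le_induction with
  | base => norm_num
  | succ n hn ih => rw [pow_succ]; omega

lemma aux3 : ∀ s : ℕ, 1 ≤ s → s + 1 < 3 ^ s := by
  intro s hs
  induction s, hs using Nat.le_induction with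
  | base => norm_num
  | succ n hn ih => rw [pow_succ]; omega

/-- Let a finite group G act faithfully on a set Ω with p ^ m points (p prime) and have an elementary abelian normal p-subgroup N acting regularly on Ω (so G is a group of affine transformations of an m-dimensional space over the field with p elements). If G contains an element of order p ^ r with r ≥ 1, then p ^ (r − 1) ≤ m. In particular an element of order p ^ m forces m ≤ 2, and m ≤ 1 when p is odd. -/
theorem result {G : Type*} [Group G] [Finite G] {Ω : Type*} [Fintype Ω] [MulAction G Ω] [FaithfulSMul G Ω] (p m : ℕ) (hp : p.Prime) (hcard : Fintype.card Ω = p ^ m)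
    (N : Subgroup G) [N.Normal] (hNc : IsMulCommutative N) (hNp : ∀ n ∈ N, n ^ p = 1)
    (hNtr : MulAction.IsPretransitive N Ω) (hNreg : ∀ ω : Ω, MulAction.stabilizer N ω = ⊥)
    (g : G) (r : ℕ) (hr : 1 ≤ r) (hg : orderOf g = p ^ r) :
    p ^ (r - 1) ≤ m ∧ (r = m → m ≤ 2 ∧ (2 < p → m ≤ 1)) := by
  have hpF := Fact.mk hp
  have key : p ^ (r - 1) ≤ m := by
    by_contra hlt
    push Not at hlt
    have hgr : g ^ (p ^ r) = 1 := by rw [← hg]; exact pow_orderOf_eq_one g
    have hgk : g ^ (p ^ (r - 1)) = 1 :=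
      pow_eq_one_of_affine p m hcard N hNc hNp hNtr hNreg g r hgr (r - 1) hlt
    have hd := orderOf_dvd_of_pow_eq_one hgk
    rw [hg] at hd
    have := (Nat.pow_dvd_pow_iff_le_right hp.one_lt).mp hd
    omega
  refine ⟨key, ?_⟩
  intro hrm
  rw [← hrm]
  rw [← hrm] at key
  constructor
  · by_contra h
    push Not at h
    have h1 : 2 ^ (r - 1) ≤ p ^ (r - 1) := Nat.pow_le_pow_left hp.two_le _
    have h2 := aux2 (r - 1) (by omega)
    omega
  · intro hp2
    by_contra h
    push Not at h
    have h1 : 3 ^ (r - 1) ≤ p ^ (r - 1) := Nat.pow_le_pow_left hp2 _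
    have h2 := aux3 (r - 1) (by omega)
    omega

end Cfsg.Agent.S3508
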