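import Cfsg.Statements.S3511
-- import your own Cfsg.Agent.* helpers here

set_option autoImplicit false
open Cfsg

namespace Cfsg.Agent.S3511

/-- Let a finite group G act faithfully on a set Ω. If every element of G of square-free order has a regular cycle (an orbit of the cyclic group it generates with trivial stabilizer), then every element of G has a regular cycle. -/
theorem result {G : Type*} [Group G] [Finite G] {Ω : Type*} [MulAction G Ω] [FaithfulSMul G Ω]
    (h : ∀ g : G, Squarefree (orderOf g) → ∃ ω : Ω, MulAction.stabilizer (Subgroup.zpowers g) ω = ⊥) (g : G) :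
    ∃ ω : Ω, MulAction.stabilizer (Subgroup.zpowers g) ω = ⊥ := by
  classical
  set n := orderOf g with hn
  have hn0 : 0 < n := orderOf_pos g
  set r := ∏ p ∈ n.primeFactors, p with hr
  have hrn : r ∣ n := Nat.prod_primeFactors_dvd n
  have hr0 : 0 < r := Nat.pos_of_dvd_of_pos hrn hn0
  obtain ⟨k, hk⟩ := hrn
  have hk0 : 0 < k := by
    rcases Nat.eq_zero_or_pos k with h0 | h0
    · rw [h0, mul_zero] at hk; omega
    · exact h0
  have hord : orderOf (g ^ k) = r := by
    rw [orderOf_pow_of_dvd hk0.ne' ⟨r, by rw [← hn, hk, mul_comm]⟩, ← hn, hk, Nat.mul_div_cancel _ hk0]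
  have hsq : Squarefree r := by
    rw [hr, ← Nat.radical_eq_prod_primeFactors]
    exact UniqueFactorizationMonoid.squarefree_radical
  obtain ⟨ω, hω⟩ := h (g ^ k) (hord ▸ hsq)
  refine ⟨ω, ?_⟩
  rw [Subgroup.eq_bot_iff_forall]
  rintro ⟨x, hx⟩ hxω
  by_contra hne
  have hx1 : x ≠ 1 := fun h1 => hne (Subtype.ext h1)
  have hxfix : x • ω = ω := by
    have := MulAction.mem_stabilizer_iff.mp hxω
    exact this
  set m := orderOf x with hm
  have hm0 : 0 < m := orderOf_pos x
  have hm1 : m ≠ 1 := fun h1 => hx1 (orderOf_eq_one_iff.mp h1)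
  set p := m.minFac with hp
  have hpp : p.Prime := Nat.minFac_prime hm1
  have hpm : p ∣ m := Nat.minFac_dvd m
  have hmn : m ∣ n := orderOf_dvd_of_mem_zpowers hx
  set y := x ^ (m / p) with hy
  have hyord : orderOf y = p := orderOf_pow_orderOf_div hm0.ne' hpm
  obtain ⟨j, hj⟩ := (mem_powers_iff_mem_zpowers.mpr hx)
  have hj' : g ^ j = x := hj
  have hyg : y = g ^ (j * (m / p)) := by rw [hy, ← hj', pow_mul]
  have hyp : y ^ p = 1 := by rw [← hyord]; exact pow_orderOf_eq_one y
  have hdvd : n ∣ j * (m / p) * p := by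
    rw [hn]; apply orderOf_dvd_of_pow_eq_one; rw [pow_mul, ← hyg]; exact hyp
  have hpr : p ∣ r := by
    rw [hr]
    apply Finset.dvd_prod_of_mem
    rw [Nat.mem_primeFactors]
    exact ⟨hpp, hpm.trans hmn, hn0.ne'⟩
  obtain ⟨r', hr'⟩ := hpr
  have hkJ : k ∣ j * (m / p) := by
    have h1 : (k * r') * p ∣ (j * (m / p)) * p := by
      have : k * r' * p = n := by rw [hk, hr']; ring
      rw [this]; exact hdvd
    have h2 := Nat.dvd_of_mul_dvd_mul_right hpp.pos h1
    exact (Dvd.intro _ rfl).trans h2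
  obtain ⟨c, hc⟩ := hkJ
  have hymem : y ∈ Subgroup.zpowers (g ^ k) := by
    rw [hyg, hc, pow_mul]
    exact Subgroup.npow_mem_zpowers _ _
  have hyfix : y • ω = ω := by
    rw [hy]
    exact MulAction.mem_stabilizer_iff.mp (Subgroup.pow_mem _ (MulAction.mem_stabilizer_iff.mpr hxfix) _)
  have hy1 : (⟨y, hymem⟩ : Subgroup.zpowers (g ^ k)) ∈ MulAction.stabilizer (Subgroup.zpowers (g ^ k)) ω := by
    rw [MulAction.mem_stabilizer_iff]
    exact hyfix
  rw [hω, Subgroup.mem_bot] at hy1
  have : y = 1 := congrArg Subtype.val hy1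
  rw [this, orderOf_one] at hyord
  exact hpp.one_lt.ne hyord

end Cfsg.Agent.S3511
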