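import Cfsg.Statements.S3514
-- import your own Cfsg.Agent.* helpers here

set_option autoImplicit false
open Cfsg

namespace Cfsg.Agent.S3514

section
variable {G : Type*} [Group G] [Finite G]

omit [Finite G] in
lemma card_inf_mul_relIndex (T L : Subgroup G) : Nat.card (T ⊓ L : Subgroup G) * T.relIndex L = Nat.card L := by
  have h := Subgroup.relIndex_mul_relIndex (⊥ : Subgroup G) (T ⊓ L) L bot_le inf_le_right
  rw [Subgroup.relIndex_bot_left, Subgroup.relIndex_bot_left, Subgroup.inf_relIndex_right] at h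
  exact h

lemma relIndex_sup_of_normal (T K : Subgroup G) [K.Normal] : T.relIndex (T ⊔ K) = T.relIndex K := by
  have h1 := card_inf_mul_relIndex T K
  have h2 := card_inf_mul_relIndex K T
  have h3 := card_inf_mul_relIndex K (T ⊔ K)
  have h4 := card_inf_mul_relIndex T (T ⊔ K)
  rw [Subgroup.relIndex_sup_right] at h3
  rw [inf_of_le_left (le_sup_right : K ≤ T ⊔ K)] at h3
  rw [inf_of_le_left (le_sup_left : T ≤ T ⊔ K)] at h4
  rw [inf_comm] at h2
  have ha : 0 < Nat.card (T ⊓ K : Subgroup G) := Nat.card_pos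
  have hb : 0 < K.relIndex T := by
    rcases Nat.eq_zero_or_pos (K.relIndex T) with h0 | h0
    · rw [h0, mul_zero] at h2
      have : 0 < Nat.card T := Nat.card_pos
      omega
    · exact h0
  have : Nat.card (T ⊓ K : Subgroup G) * K.relIndex T * T.relIndex (T ⊔ K)
      = Nat.card (T ⊓ K : Subgroup G) * K.relIndex T * T.relIndex K := by
    calc Nat.card (T ⊓ K : Subgroup G) * K.relIndex T * T.relIndex (T ⊔ K)
        = Nat.card T * T.relIndex (T ⊔ K) := by rw [h2]
      _ = Nat.card K * K.relIndex T := by rw [h4, h3]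
      _ = Nat.card (T ⊓ K : Subgroup G) * T.relIndex K * K.relIndex T := by rw [h1]
      _ = Nat.card (T ⊓ K : Subgroup G) * K.relIndex T * T.relIndex K := by ring
  exact Nat.eq_of_mul_eq_mul_left (Nat.mul_pos ha hb) this

lemma relIndex_dvd_index_of_normal' (T K : Subgroup G) [K.Normal] : T.relIndex K ∣ T.index := by
  rw [← relIndex_sup_of_normal T K]
  exact Subgroup.relIndex_dvd_index_of_le le_sup_left

lemma relIndex_dvd_relIndex_of_le_normalizer (T K H : Subgroup G) (hKH : K ≤ H)
    (hn : H ≤ Subgroup.normalizer (K : Set G)) : T.relIndex K ∣ T.relIndex H := by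
  have : (K.subgroupOf H).Normal := (Subgroup.normal_subgroupOf_iff_le_normalizer hKH).mpr hn
  have h := relIndex_dvd_index_of_normal' (T.subgroupOf H) (K.subgroupOf H)
  rwa [Subgroup.relIndex_subgroupOf hKH] at h

lemma relIndex_sup_dvd_card (N H : Subgroup G) (hn : H ≤ Subgroup.normalizer (N : Set G)) :
    H.relIndex (N ⊔ H) ∣ Nat.card N := by
  have hNL : N ≤ N ⊔ H := le_sup_left
  have hHL : H ≤ N ⊔ H := le_sup_right
  have : (N.subgroupOf (N ⊔ H)).Normal := by
    rw [Subgroup.normal_subgroupOf_iff_le_normalizer hNL]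
    exact sup_le Subgroup.le_normalizer hn
  have h := relIndex_sup_of_normal (H.subgroupOf (N ⊔ H)) (N.subgroupOf (N ⊔ H))
  have htop : H.subgroupOf (N ⊔ H) ⊔ N.subgroupOf (N ⊔ H) = ⊤ := by
    rw [← Subgroup.subgroupOf_sup hHL hNL, sup_comm, Subgroup.subgroupOf_self]
  rw [htop, Subgroup.relIndex_top_right, Subgroup.relIndex_subgroupOf hNL] at h
  change H.relIndex (N ⊔ H) = _ at h
  rw [h]
  exact Subgroup.relIndex_dvd_card H N

end

section
variable {A : Type*} [Group A] {V : Type*} [MulAction A V]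

lemma card_orbit_eq_relIndex (S : Subgroup A) (v : V) :
    Nat.card {u : V | ∃ s ∈ S, s • v = u} = (MulAction.stabilizer A v).relIndex S := by
  have h1 : {u : V | ∃ s ∈ S, s • v = u} = MulAction.orbit S v := by
    ext u; constructor
    · rintro ⟨s, hs, rfl⟩; exact ⟨⟨s, hs⟩, rfl⟩
    · rintro ⟨⟨s, hs⟩, rfl⟩; exact ⟨s, hs, rfl⟩
  have h2 : MulAction.stabilizer S v = (MulAction.stabilizer A v).subgroupOf S := by
    ext ⟨s, hs⟩
    simp [Subgroup.mem_subgroupOf, MulAction.mem_stabilizer_iff, Subgroup.mk_smul]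
  rw [h1, Subgroup.relIndex, ← h2, MulAction.index_stabilizer, Nat.card_coe_set_eq]

end

/-- Let p be a prime, V a finite vector space over the field with p elements, and H a group of linear transformations of V all of whose orbits on V have size coprime to p. (i) Every normal subgroup K of H has all its orbits on V of size coprime to p. (ii) If N is a group of linear transformations of V of order coprime to p that is normalized by H, then the group generated by N and H has all its orbits on V of size coprime to p. -/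
theorem result (p : ℕ) [Fact p.Prime] {V : Type*} [AddCommGroup V] [Module (ZMod p) V] [Finite V]
    (H : Subgroup (V ≃ₗ[ZMod p] V)) (hH : ∀ v : V, ¬ p ∣ Nat.card {u : V | ∃ h ∈ H, h v = u}) :
    (∀ K : Subgroup (V ≃ₗ[ZMod p] V), K ≤ H → H ≤ Subgroup.normalizer (K : Set (V ≃ₗ[ZMod p] V)) →
        ∀ v : V, ¬ p ∣ Nat.card {u : V | ∃ k ∈ K, k v = u}) ∧
    (∀ N : Subgroup (V ≃ₗ[ZMod p] V), ¬ p ∣ Nat.card N → H ≤ Subgroup.normalizer (N : Set (V ≃ₗ[ZMod p] V)) →
        ∀ v : V, ¬ p ∣ Nat.card {u : V | ∃ x ∈ N ⊔ H, x v = u}) := by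
  have hp : p.Prime := Fact.out
  have : Finite (V ≃ₗ[ZMod p] V) := Finite.of_injective (fun f => (f : V → V)) DFunLike.coe_injective
  have key : ∀ (S : Subgroup (V ≃ₗ[ZMod p] V)) (v : V),
      Nat.card {u : V | ∃ s ∈ S, s v = u} = (MulAction.stabilizer (V ≃ₗ[ZMod p] V) v).relIndex S := by
    intro S v
    exact card_orbit_eq_relIndex S v
  constructor
  · intro K hKH hn v hdiv
    apply hH v
    rw [key] at hdiv ⊢
    exact hdiv.trans (relIndex_dvd_relIndex_of_le_normalizer _ K H hKH hn)
  · intro N hN hn v hdiv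
    rw [key] at hdiv
    set T := MulAction.stabilizer (V ≃ₗ[ZMod p] V) v with hT
    have h1 : T.relIndex (N ⊔ H) ∣ (T ⊓ H).relIndex (N ⊔ H) :=
      Subgroup.relIndex_dvd_of_le_left (N ⊔ H) inf_le_left
    have h2 : (T ⊓ H).relIndex H * H.relIndex (N ⊔ H) = (T ⊓ H).relIndex (N ⊔ H) :=
      Subgroup.relIndex_mul_relIndex _ _ _ inf_le_right le_sup_right
    rw [Subgroup.inf_relIndex_right] at h2
    have h3 : p ∣ T.relIndex H * H.relIndex (N ⊔ H) := by
      rw [h2]; exact hdiv.trans h1
    rcases hp.dvd_mul.mp h3 with h4 | h4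
    · apply hH v
      rw [key]; exact h4
    · exact hN (h4.trans (relIndex_sup_dvd_card N H hn))

end Cfsg.Agent.S3514
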