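import Cfsg.Statements.S3515
import Cfsg.Agent.Helper58.AffClosure

set_option autoImplicit false
open Cfsg

namespace Cfsg.Agent.S3515
open Cfsg.Agent.Helper58

lemma points_zmod2 : ∀ v : Fin 2 → ZMod 2, v = 0 ∨ v = ![1, 0] ∨ v = ![0, 1] ∨ v = ![1, 1] := by
  decide

lemma ne0 : (0 : Fin 2 → ZMod 2) ≠ ![1, 1] := by decide
lemma ne1 : (![1, 0] : Fin 2 → ZMod 2) ≠ ![1, 1] := by decide
lemma ne2 : (![0, 1] : Fin 2 → ZMod 2) ≠ ![1, 1] := by decide

/-- Every primitive affine permutation group of degree p² is 3-closed. Let p be a prime and G a group of permutations of the plane V = F_p² consisting of affine maps x ↦ Ax + b, containing all translations, and acting primitively on V. Then any permutation σ of V that agrees on every triple of points with some element of G (σ preserves every G-orbit on ordered triples) already lies in G. -/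
theorem result (p : ℕ) [Fact p.Prime] (G : Subgroup (Equiv.Perm (Fin 2 → ZMod p)))
    (haff : (G : Set (Equiv.Perm (Fin 2 → ZMod p))) ⊆ {τ : Equiv.Perm (Fin 2 → ZMod p) | ∃ (A : (Fin 2 → ZMod p) ≃ₗ[ZMod p] (Fin 2 → ZMod p)) (b : Fin 2 → ZMod p), ∀ x, τ x = A x + b})
    (htrans : ∀ b : Fin 2 → ZMod p, ∃ g ∈ G, ∀ x, g x = x + b) (hprim : MulAction.IsPreprimitive G (Fin 2 → ZMod p))
    (σ : Equiv.Perm (Fin 2 → ZMod p)) (hσ : (∀ t : Fin 3 → (Fin 2 → ZMod p), ∃ g ∈ G, ∀ i, σ (t i) = g (t i))) : σ ∈ G := by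
  by_cases hp : p = 2
  · subst hp
    obtain ⟨g, hgG, hg⟩ := hσ ![0, ![1, 0], ![0, 1]]
    have h0 : σ 0 = g 0 := hg 0
    have h1 : σ ![1, 0] = g ![1, 0] := hg 1
    have h2 : σ ![0, 1] = g ![0, 1] := hg 2
    have h3 : σ ![1, 1] = g ![1, 1] := by
      have hy := points_zmod2 (g.symm (σ ![1, 1]))
      have key : ∀ v : Fin 2 → ZMod 2, σ v = g v → v ≠ ![1, 1] → g.symm (σ ![1, 1]) ≠ v := by
        intro v hv hne h
        apply hne
        have : σ ![1, 1] = g v := by rw [← h, Equiv.apply_symm_apply]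
        rw [← hv] at this
        exact (σ.injective this).symm
      rcases hy with h | h | h | h
      · exact absurd h (key 0 h0 ne0)
      · exact absurd h (key _ h1 ne1)
      · exact absurd h (key _ h2 ne2)
      · have := congrArg g h
        rwa [Equiv.apply_symm_apply] at this
    have : σ = g := by
      ext1 x
      rcases points_zmod2 x with rfl | rfl | rfl | rfl
      · exact h0
      · exact h1
      · exact h2
      · exact h3
    rw [this]; exact hgG
  · have h3 : ∀ t : Fin 3 → (Fin 2 → ZMod p), ∃ (A : (Fin 2 → ZMod p) ≃ₗ[ZMod p] (Fin 2 → ZMod p))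
        (b : Fin 2 → ZMod p), ∀ i, σ (t i) = A (t i) + b := by
      intro t
      obtain ⟨g, hgG, hg⟩ := hσ t
      obtain ⟨A, b, hAb⟩ := haff hgG
      exact ⟨A, b, fun i => by rw [hg i, hAb]⟩
    obtain ⟨A, b, hAb⟩ := affine_of_three_closed p hp 2 σ h3
    obtain ⟨g, hgG, hg⟩ := hσ ![0, Pi.single 0 1, Pi.single 1 1]
    obtain ⟨A', b', hg'⟩ := haff hgG
    have h0 : σ 0 = g 0 := hg 0
    have h1 : σ (Pi.single 0 1) = g (Pi.single 0 1) := hg 1
    have h2 : σ (Pi.single 1 1) = g (Pi.single 1 1) := hg 2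
    rw [hAb, hg', map_zero, map_zero, zero_add, zero_add] at h0
    rw [hAb, hg', h0, add_left_inj] at h1 h2
    have hAA : (A : (Fin 2 → ZMod p) →ₗ[ZMod p] (Fin 2 → ZMod p)) = A' := by
      apply (Pi.basisFun (ZMod p) (Fin 2)).ext
      intro i
      fin_cases i
      · simpa using h1
      · simpa using h2
    have : σ = g := by
      ext1 x
      rw [hAb, hg', h0]
      congr 1
      exact congrArg (fun L : (Fin 2 → ZMod p) →ₗ[ZMod p] (Fin 2 → ZMod p) => L x) hAA
    rw [this]; exact hgG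

end Cfsg.Agent.S3515
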