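import Cfsg.Statements.S3516
import Cfsg.Agent.Helper58.AffClosure

set_option autoImplicit false
open Cfsg

namespace Cfsg.Agent.S3516
open Cfsg.Agent.Helper58

/-- adjust a linear automorphism on a complement of a small subspace to have determinant one -/
lemma exists_det_one_agree {K V : Type*} [Field K] [AddCommGroup V] [Module K V] [FiniteDimensional K V]
    (A : V ≃ₗ[K] V) (u1 u2 : V) (hdim : 2 < Module.finrank K V) :
    ∃ C : V ≃ₗ[K] V, LinearMap.det (C : V →ₗ[K] V) = 1 ∧ C u1 = A u1 ∧ C u2 = A u2 := by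
  classical
  set W : Submodule K V := Submodule.span K {u1, u2} with hW
  have hWlt : W < ⊤ := by
    rw [lt_top_iff_ne_top]
    intro htop
    have h1 : Module.finrank K W ≤ 2 := by
      have := finrank_span_le_card (R := K) ({u1, u2} : Set V)
      calc Module.finrank K W ≤ ({u1, u2} : Set V).toFinset.card := this
        _ ≤ 2 := by
          rw [Set.toFinset_insert, Set.toFinset_singleton]
          exact Finset.card_le_two
    rw [htop, finrank_top] at h1
    omega
  obtain ⟨f, hf0, hfW⟩ := Submodule.exists_le_ker_of_lt_top W hWlt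
  have : ∃ v, f v ≠ 0 := by
    by_contra hcon
    push Not at hcon
    exact hf0 (LinearMap.ext hcon)
  obtain ⟨v', hv'⟩ := this
  set v₀ : V := (f v')⁻¹ • v' with hv₀
  have hfv₀ : f v₀ = 1 := by rw [hv₀, map_smul, smul_eq_mul, inv_mul_cancel₀ hv']
  have hdetA : LinearMap.det (A : V →ₗ[K] V) ≠ 0 := (LinearEquiv.isUnit_det' A).ne_zero
  set μ : K := (LinearMap.det (A : V →ₗ[K] V))⁻¹ with hμ
  have hμ0 : μ ≠ 0 := inv_ne_zero hdetA
  have hunit : IsUnit (1 + ((μ - 1) • f) v₀) := by
    rw [LinearMap.smul_apply, hfv₀, smul_eq_mul, mul_one, add_sub_cancel]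
    exact isUnit_iff_ne_zero.mpr hμ0
  set E : V ≃ₗ[K] V := LinearEquiv.dilatransvection hunit with hE
  have hEW : ∀ x ∈ W, E x = x := by
    intro x hx
    have hfx : f x = 0 := hfW hx
    rw [hE, LinearEquiv.dilatransvection.apply, LinearMap.smul_apply, hfx, smul_zero, zero_smul,
      add_zero]
  have hdetE : LinearMap.det (E : V →ₗ[K] V) = μ := by
    rw [hE, LinearEquiv.dilatransvection.coe_toLinearMap, LinearMap.transvection.det,
      LinearMap.smul_apply, hfv₀, smul_eq_mul, mul_one, add_sub_cancel]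
  refine ⟨E.trans A, ?_, ?_, ?_⟩
  · rw [LinearEquiv.coe_trans, LinearMap.det_comp, hdetE, hμ, mul_inv_cancel₀ hdetA]
  · rw [LinearEquiv.trans_apply, hEW u1 (Submodule.subset_span (by simp))]
  · rw [LinearEquiv.trans_apply, hEW u2 (Submodule.subset_span (by simp))]

/-- Let p be an odd prime, d ≥ 3, and G a group of affine permutations x ↦ Ax + b of V = F_p^d containing all translations and all maps x ↦ Ax with A of determinant 1. Then the 3-closure of G is the full affine group: a permutation σ of V agrees on every triple of points with some element of G if and only if σ is an affine map. -/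
theorem result (p : ℕ) [Fact p.Prime] (hp : p ≠ 2) (d : ℕ) (hd : 3 ≤ d) (G : Subgroup (Equiv.Perm (Fin d → ZMod p)))
    (haff : (G : Set (Equiv.Perm (Fin d → ZMod p))) ⊆ {τ : Equiv.Perm (Fin d → ZMod p) | ∃ (A : (Fin d → ZMod p) ≃ₗ[ZMod p] (Fin d → ZMod p)) (b : Fin d → ZMod p), ∀ x, τ x = A x + b})
    (htrans : ∀ b : Fin d → ZMod p, ∃ g ∈ G, ∀ x, g x = x + b)
    (hsl : ∀ A : (Fin d → ZMod p) ≃ₗ[ZMod p] (Fin d → ZMod p), LinearMap.det (A : (Fin d → ZMod p) →ₗ[ZMod p] (Fin d → ZMod p)) = 1 → ∃ g ∈ G, ∀ x, g x = A x)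
    (σ : Equiv.Perm (Fin d → ZMod p)) :
    (∀ t : Fin 3 → (Fin d → ZMod p), ∃ g ∈ G, ∀ i, σ (t i) = g (t i)) ↔ σ ∈ {τ : Equiv.Perm (Fin d → ZMod p) | ∃ (A : (Fin d → ZMod p) ≃ₗ[ZMod p] (Fin d → ZMod p)) (b : Fin d → ZMod p), ∀ x, τ x = A x + b} := by
  constructor
  · intro hσ
    apply affine_of_three_closed p hp d σ
    intro t
    obtain ⟨g, hgG, hg⟩ := hσ t
    obtain ⟨A, b, hAb⟩ := haff hgG
    exact ⟨A, b, fun i => by rw [hg i, hAb]⟩
  · rintro ⟨A, b, hAb⟩ t
    have hdim : 2 < Module.finrank (ZMod p) (Fin d → ZMod p) := by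
      rw [Module.finrank_fin_fun]; omega
    obtain ⟨C, hdet, hC1, hC2⟩ := exists_det_one_agree A (t 1 - t 0) (t 2 - t 0) hdim
    obtain ⟨g1, hg1G, hg1⟩ := hsl C hdet
    obtain ⟨g2, hg2G, hg2⟩ := htrans (σ (t 0) - C (t 0))
    refine ⟨g2 * g1, G.mul_mem hg2G hg1G, fun i => ?_⟩
    have hCi : C (t i - t 0) = A (t i - t 0) := by
      fin_cases i
      · simp
      · exact hC1
      · exact hC2
    rw [Equiv.Perm.mul_apply, hg1, hg2, hAb, hAb]
    rw [map_sub, map_sub] at hCi
    have : C (t i) = A (t i) - A (t 0) + C (t 0) := by rw [← hCi]; abel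
    rw [this]; abel

end Cfsg.Agent.S3516
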