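import Cfsg.Statements.S3517
-- import your own Cfsg.Agent.* helpers here

set_option autoImplicit false
open Cfsg

namespace Cfsg.Agent.S3517

lemma exists_equiv_of_li {K V ι : Type*} [Field K] [AddCommGroup V] [Module K V] [FiniteDimensional K V]
    (u w : ι → V) (hu : LinearIndependent K u) (hw : LinearIndependent K w) :
    ∃ g : V ≃ₗ[K] V, ∀ i, g (u i) = w i := by
  let b1 := Module.Basis.span hu
  let b2 := Module.Basis.span hw
  let f := b1.equiv b2 (Equiv.refl ι)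
  obtain ⟨g, hg⟩ := Submodule.exists_linearEquiv_restrict_eq f
  refine ⟨g, fun i => ?_⟩
  have h := hg (b1 i)
  have h1 : ((b1 i : Submodule.span K (Set.range u)) : V) = u i :=
    congrArg Subtype.val (Module.Basis.span_apply hu i)
  have h2 : ((b2 i : Submodule.span K (Set.range w)) : V) = w i :=
    congrArg Subtype.val (Module.Basis.span_apply hw i)
  rw [h1] at h
  rw [← h, ← h2]
  simp [f]

lemma exists_equiv_single {K V : Type*} [Field K] [AddCommGroup V] [Module K V] [FiniteDimensional K V]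
    (x y : V) (h : x = 0 ↔ y = 0) : ∃ g : V ≃ₗ[K] V, g x = y := by
  by_cases hx : x = 0
  · refine ⟨LinearEquiv.refl K V, ?_⟩
    rw [hx, h.mp hx]; simp
  · have hy : y ≠ 0 := fun hy => hx (h.mpr hy)
    obtain ⟨g, hg⟩ := exists_equiv_of_li (K := K) (ι := Unit) (fun _ => x) (fun _ => y)
      (LinearIndependent.of_subsingleton () hx) (LinearIndependent.of_subsingleton () hy)
    exact ⟨g, hg ()⟩

lemma add_self_zmod2 {V : Type*} [AddCommGroup V] [Module (ZMod 2) V] (y : V) : y + y = 0 := by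
  rw [← two_smul (ZMod 2) y]
  have : (2 : ZMod 2) = 0 := rfl
  rw [this, zero_smul]

lemma li_pair {V : Type*} [AddCommGroup V] [Module (ZMod 2) V] (x y : V) (hx : x ≠ 0) (hy : y ≠ 0)
    (hxy : x ≠ y) : LinearIndependent (ZMod 2) ![x, y] := by
  rw [LinearIndependent.pair_iff]
  intro s t hst
  have h01 : ∀ s : ZMod 2, s = 0 ∨ s = 1 := by decide
  rcases h01 s with rfl | rfl <;> rcases h01 t with rfl | rfl
  · exact ⟨rfl, rfl⟩
  · rw [zero_smul, one_smul, zero_add] at hst; exact absurd hst hy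
  · rw [zero_smul, one_smul, add_zero] at hst; exact absurd hst hx
  · exfalso
    rw [one_smul, one_smul] at hst
    apply hxy
    have := add_self_zmod2 y
    exact add_right_cancel (hst.trans this.symm)

lemma exists_equiv_pair {V : Type*} [AddCommGroup V] [Module (ZMod 2) V] [FiniteDimensional (ZMod 2) V]
    (x1 x2 y1 y2 : V) (h1 : x1 = 0 ↔ y1 = 0) (h2 : x2 = 0 ↔ y2 = 0) (h12 : x1 = x2 ↔ y1 = y2) :
    ∃ A : V ≃ₗ[ZMod 2] V, A x1 = y1 ∧ A x2 = y2 := by
  by_cases hx1 : x1 = 0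
  · obtain ⟨g, hg⟩ := exists_equiv_single (K := ZMod 2) x2 y2 h2
    refine ⟨g, ?_, hg⟩
    rw [hx1, h1.mp hx1]; simp
  by_cases hx2 : x2 = 0
  · obtain ⟨g, hg⟩ := exists_equiv_single (K := ZMod 2) x1 y1 h1
    refine ⟨g, hg, ?_⟩
    rw [hx2, h2.mp hx2]; simp
  by_cases hx12 : x1 = x2
  · obtain ⟨g, hg⟩ := exists_equiv_single (K := ZMod 2) x1 y1 h1
    refine ⟨g, hg, ?_⟩
    rw [← hx12, hg]; exact h12.mp hx12
  · have hy1 : y1 ≠ 0 := fun h => hx1 (h1.mpr h)
    have hy2 : y2 ≠ 0 := fun h => hx2 (h2.mpr h)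
    have hy12 : y1 ≠ y2 := fun h => hx12 (h12.mpr h)
    obtain ⟨g, hg⟩ := exists_equiv_of_li (K := ZMod 2) ![x1, x2] ![y1, y2]
      (li_pair x1 x2 hx1 hx2 hx12) (li_pair y1 y2 hy1 hy2 hy12)
    exact ⟨g, hg 0, hg 1⟩

/-- For d ≥ 3, the 3-closure of the affine group AGL_d(2) acting on F_2^d is the full symmetric group: every permutation of F_2^d agrees on every ordered triple of points with some affine map (AGL_d(2) is 3-transitive). -/
theorem result (d : ℕ) (hd : 3 ≤ d) (σ : Equiv.Perm (Fin d → ZMod 2)) (t : Fin 3 → (Fin d → ZMod 2)) :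
    ∃ (A : (Fin d → ZMod 2) ≃ₗ[ZMod 2] (Fin d → ZMod 2)) (b : Fin d → ZMod 2), ∀ i, σ (t i) = A (t i) + b := by
  obtain ⟨A, h1, h2⟩ := exists_equiv_pair (t 1 - t 0) (t 2 - t 0) (σ (t 1) - σ (t 0)) (σ (t 2) - σ (t 0))
    (by rw [sub_eq_zero, sub_eq_zero, σ.apply_eq_iff_eq])
    (by rw [sub_eq_zero, sub_eq_zero, σ.apply_eq_iff_eq])
    (by rw [sub_left_inj, sub_left_inj, σ.apply_eq_iff_eq])
  refine ⟨A, σ (t 0) - A (t 0), fun i => ?_⟩
  rw [map_sub] at h1 h2
  fin_cases i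
  · simp
  · have : σ (t 1) = A (t 1) - A (t 0) + σ (t 0) := by rw [h1]; abel
    simp only [Fin.mk_one, Fin.isValue]
    rw [this]; abel
  · have : σ (t 2) = A (t 2) - A (t 0) + σ (t 0) := by rw [h2]; abel
    simp only [Fin.reduceFinMk, Fin.isValue]
    rw [this]; abel

end Cfsg.Agent.S3517
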