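import Cfsg.Statements.S3518
-- import your own Cfsg.Agent.* helpers here

set_option autoImplicit false
open Cfsg
open Polynomial

namespace Cfsg.Agent.S3518

lemma sum_pow_of_ne_zero {K : Type*} [Field K] [Fintype K] (i : ℕ) (hi : i ≠ 0) :
    ∑ x : K, x ^ i = if Fintype.card K - 1 ∣ i then -1 else 0 := by
  classical
  let φ : Kˣ ↪ K := ⟨fun x ↦ x, Units.val_injective⟩
  have : Finset.univ.map φ = Finset.univ \ {0} := by
    ext x
    simpa only [Finset.mem_map, Finset.mem_univ, Function.Embedding.coeFn_mk, true_and,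
      Finset.mem_sdiff, Finset.mem_singleton, φ] using! isUnit_iff_ne_zero
  calc
    ∑ x : K, x ^ i = ∑ x ∈ Finset.univ \ {(0 : K)}, x ^ i := by
      rw [← Finset.sum_sdiff ({0} : Finset K).subset_univ, Finset.sum_singleton, zero_pow hi,
        add_zero]
    _ = ∑ x : Kˣ, (x ^ i : K) := by simp [φ, ← this, Finset.univ.sum_map φ]
    _ = _ := FiniteField.sum_pow_units K i

/-- the key power-sum evaluation -/
lemma key_sum (p : ℕ) [Fact p.Prime] (n j₀ : ℕ) (hj : j₀ ≤ n) (hn : 2 * n ≤ p - 1) (hn1 : 1 ≤ n)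
    (w : ZMod p) :
    ∑ z : ZMod p, z ^ (j₀ + (p - 1 - n)) * (w - z) ^ n
      = -((-1) ^ (n - j₀) * (n.choose j₀ : ZMod p)) * w ^ j₀ := by
  have hp : p.Prime := Fact.out
  have hp2 : 2 ≤ p := hp.two_le
  have expand : ∀ z : ZMod p, z ^ (j₀ + (p - 1 - n)) * (w - z) ^ n =
      ∑ m ∈ Finset.range (n + 1),
        (w ^ m * (n.choose m : ZMod p) * (-1) ^ (n - m)) * z ^ (j₀ + (p - 1 - n) + (n - m)) := by
    intro z
    rw [sub_eq_add_neg, add_pow, Finset.mul_sum]
    apply Finset.sum_congr rfl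
    intro m _
    rw [neg_pow z, pow_add]
    ring
  simp_rw [expand]
  rw [Finset.sum_comm]
  simp_rw [← Finset.mul_sum]
  have hsum : ∀ m ∈ Finset.range (n + 1),
      ∑ z : ZMod p, z ^ (j₀ + (p - 1 - n) + (n - m)) = if m = j₀ then -1 else 0 := by
    intro m hm
    rw [Finset.mem_range] at hm
    rw [sum_pow_of_ne_zero _ (by omega), ZMod.card]
    by_cases hmj : m = j₀
    · subst hmj
      rw [if_pos rfl, if_pos]
      have : m + (p - 1 - n) + (n - m) = p - 1 := by omega
      rw [this]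
    · rw [if_neg hmj, if_neg]
      rintro ⟨c, hc⟩
      have hlt : j₀ + (p - 1 - n) + (n - m) < 2 * (p - 1) := by omega
      have hpos : 0 < j₀ + (p - 1 - n) + (n - m) := by omega
      have hc1 : c = 1 := by
        rcases Nat.lt_or_ge c 1 with h | h
        · interval_cases c; omega
        · rcases Nat.lt_or_ge c 2 with h2 | h2
          · omega
          · exfalso
            have : (p - 1) * 2 ≤ (p - 1) * c := Nat.mul_le_mul_left _ h2
            omega
      subst hc1
      omega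
  rw [Finset.sum_congr rfl (fun m hm => by rw [hsum m hm])]
  simp only [mul_ite, mul_neg, mul_one, mul_zero]
  rw [Finset.sum_ite_eq' (Finset.range (n + 1)) j₀, if_pos (Finset.mem_range.mpr (by omega))]
  ring

lemma choose_ne_zero_zmod (p : ℕ) [Fact p.Prime] (n j : ℕ) (hj : j ≤ n) (hn : n < p) :
    ((n.choose j : ℕ) : ZMod p) ≠ 0 := by
  have hp : p.Prime := Fact.out
  rw [Ne, ZMod.natCast_eq_zero_iff]
  intro hdvd
  have h1 : n.choose j ∣ n.factorial := by
    rw [← Nat.choose_mul_factorial_mul_factorial hj, mul_assoc]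
    exact Dvd.intro _ rfl
  have := (hp.dvd_factorial).mp (hdvd.trans h1)
  omega

/-- powers of `f` are low-degree polynomial functions -/
lemma pow_eq_poly (p : ℕ) [Fact p.Prime] (n : ℕ) (hn : 2 * n ≤ p - 1) (hn1 : 1 ≤ n)
    (f : ZMod p → ZMod p) (hf : Function.Bijective f)
    (H : ∀ x y, (f x - f y) ^ n = (x - y) ^ n) (j₀ : ℕ) (hj : j₀ ≤ n) :
    ∃ Q : (ZMod p)[X], Q.natDegree ≤ n ∧ ∀ x, (f x) ^ j₀ = Q.eval x := by
  have hp : p.Prime := Fact.out
  have hp2 : 2 ≤ p := hp.two_le
  set k := j₀ + (p - 1 - n) with hk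
  set c : ZMod p := -((-1) ^ (n - j₀) * (n.choose j₀ : ZMod p)) with hc
  have hc0 : c ≠ 0 := by
    rw [hc, neg_ne_zero]
    apply mul_ne_zero
    · exact pow_ne_zero _ (neg_ne_zero.mpr one_ne_zero)
    · exact choose_ne_zero_zmod p n j₀ hj (by omega)
  let R : (ZMod p)[X] := ∑ y : ZMod p, C ((f y) ^ k) * (X - C y) ^ n
  have hRdeg : R.natDegree ≤ n := by
    apply Polynomial.natDegree_sum_le_of_forall_le
    intro y _
    calc (C ((f y) ^ k) * (X - C y) ^ n).natDegree ≤ ((X - C y) ^ n).natDegree :=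
          Polynomial.natDegree_C_mul_le _ _
      _ ≤ n * (X - C y).natDegree := Polynomial.natDegree_pow_le
      _ = n := by rw [Polynomial.natDegree_X_sub_C, mul_one]
  have hReval : ∀ x, R.eval x = c * (f x) ^ j₀ := by
    intro x
    have h1 : R.eval x = ∑ y : ZMod p, (f y) ^ k * (x - y) ^ n := by
      simp only [R, Polynomial.eval_finsetSum, eval_mul, eval_C, eval_pow, eval_sub, eval_X]
    rw [h1]
    have h2 : ∑ y : ZMod p, (f y) ^ k * (x - y) ^ n = ∑ y : ZMod p, (f y) ^ k * (f x - f y) ^ n := by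
      apply Finset.sum_congr rfl
      intro y _
      rw [H x y]
    rw [h2]
    have h3 : ∑ y : ZMod p, (f y) ^ k * (f x - f y) ^ n = ∑ z : ZMod p, z ^ k * (f x - z) ^ n :=
      Equiv.sum_comp (Equiv.ofBijective f hf) (fun z => z ^ k * (f x - z) ^ n)
    rw [h3, key_sum p n j₀ hj hn hn1 (f x)]
  refine ⟨C c⁻¹ * R, (Polynomial.natDegree_C_mul_le _ _).trans hRdeg, fun x => ?_⟩
  rw [eval_mul, eval_C, hReval x, ← mul_assoc, inv_mul_cancel₀ hc0, one_mul]

lemma exists_mult (d n q : ℕ) (hd : 2 ≤ d) (hdn : d ≤ n) (hn : 2 * n ≤ q) :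
    ∃ j, 1 ≤ j ∧ j ≤ n ∧ n < j * d ∧ j * d ≤ q := by
  by_cases h : n * d ≤ q
  · refine ⟨n, by omega, le_refl _, ?_, h⟩
    nlinarith
  · push Not at h
    refine ⟨q / d, ?_, ?_, ?_, Nat.div_mul_le_self q d⟩
    · exact Nat.div_pos (by omega) (by omega)
    · by_contra hcon
      push Not at hcon
      have : (n + 1) * d ≤ (q / d) * d := Nat.mul_le_mul_right d hcon
      have := Nat.div_mul_le_self q d
      nlinarith
    · have := Nat.lt_div_mul_add (a := q) (b := d) (by omega)
      omega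

/-- McConnel's theorem for prime fields -/
lemma mcconnel (p : ℕ) [Fact p.Prime] (n : ℕ) (hn : 2 * n ≤ p - 1) (hn1 : 1 ≤ n)
    (f : ZMod p → ZMod p) (hf : Function.Bijective f)
    (H : ∀ x y, (f x - f y) ^ n = (x - y) ^ n) :
    ∃ a b : ZMod p, ∀ x, f x = a * x + b := by
  have hp : p.Prime := Fact.out
  have hp2 : 2 ≤ p := hp.two_le
  obtain ⟨P, hPdeg, hP⟩ := pow_eq_poly p n hn hn1 f hf H 1 hn1
  simp only [pow_one] at hP
  by_cases hd : P.natDegree ≤ 1
  · refine ⟨P.coeff 1, P.coeff 0, fun x => ?_⟩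
    rw [hP x]
    conv_lhs => rw [Polynomial.eq_X_add_C_of_natDegree_le_one hd]
    simp
  · exfalso
    push Not at hd
    obtain ⟨j, hj1, hjn, hjd1, hjd2⟩ := exists_mult P.natDegree n (p - 1) hd hPdeg hn
    obtain ⟨Q, hQdeg, hQ⟩ := pow_eq_poly p n hn hn1 f hf H j hjn
    have hPj : (P ^ j).natDegree = j * P.natDegree := Polynomial.natDegree_pow P j
    have hzero : P ^ j - Q = 0 := by
      apply Polynomial.eq_zero_of_natDegree_lt_card_of_eval_eq_zero (P ^ j - Q)
        (f := (id : ZMod p → ZMod p)) Function.injective_id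
      · intro x
        simp only [id, eval_sub, eval_pow, ← hP x, hQ x, sub_self]
      · rw [ZMod.card]
        calc (P ^ j - Q).natDegree ≤ max (P ^ j).natDegree Q.natDegree := Polynomial.natDegree_sub_le _ _
          _ ≤ p - 1 := by rw [hPj]; exact max_le hjd2 (by omega)
          _ < p := by omega
    have : P ^ j = Q := sub_eq_zero.mp hzero
    rw [this] at hPj
    omega


/-- the affine permutation `x ↦ a x + b` -/
def affPerm {p : ℕ} [Fact p.Prime] (a : (ZMod p)ˣ) (b : ZMod p) : Equiv.Perm (ZMod p) where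
  toFun x := (a : ZMod p) * x + b
  invFun y := ((a⁻¹ : (ZMod p)ˣ) : ZMod p) * (y - b)
  left_inv x := by
    show ((a⁻¹ : (ZMod p)ˣ) : ZMod p) * ((a : ZMod p) * x + b - b) = x
    rw [add_sub_cancel_right, ← mul_assoc, Units.inv_mul, one_mul]
  right_inv y := by
    show (a : ZMod p) * (((a⁻¹ : (ZMod p)ˣ) : ZMod p) * (y - b)) + b = y
    rw [← mul_assoc, Units.mul_inv, one_mul, sub_add_cancel]

lemma affPerm_apply {p : ℕ} [Fact p.Prime] (a : (ZMod p)ˣ) (b x : ZMod p) :
    affPerm a b x = (a : ZMod p) * x + b := rfl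

lemma affPerm_mem {p : ℕ} [Fact p.Prime] (a : (ZMod p)ˣ) (b : ZMod p) :
    affPerm a b ∈ Cfsg.affineGroup (ZMod p) := ⟨a, b, fun _ => rfl⟩

/-- Closures of subgroups of the one-dimensional affine group. Let p be a prime and G a group of permutations of F_p lying in the affine group AGL₁(p) = {x ↦ ax + b, a ≠ 0} and containing all translations. (1) If G is a proper subgroup of AGL₁(p), then G is 2-closed: a permutation of F_p agreeing on every ordered pair of points with some element of G lies in G. (2) Every permutation of F_p agrees on every ordered pair with some element of AGL₁(p) (the 2-closure of AGL₁(p) is the symmetric group). (3) AGL₁(p) is 3-closed: a permutation agreeing on every ordered triple with some affine map is affine. -/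
theorem result (p : ℕ) [Fact p.Prime] (G : Subgroup (Equiv.Perm (ZMod p))) (hG : G ≤ Cfsg.affineGroup (ZMod p))
    (htrans : ∀ b : ZMod p, ∃ g ∈ G, ∀ x, g x = x + b) :
    (G ≠ Cfsg.affineGroup (ZMod p) → ∀ σ : Equiv.Perm (ZMod p), (∀ t : Fin 2 → ZMod p, ∃ g ∈ G, ∀ i, σ (t i) = g (t i)) → σ ∈ G) ∧
    (∀ σ : Equiv.Perm (ZMod p), (∀ t : Fin 2 → ZMod p, ∃ g ∈ Cfsg.affineGroup (ZMod p), ∀ i, σ (t i) = g (t i))) ∧
    (∀ σ : Equiv.Perm (ZMod p), (∀ t : Fin 3 → ZMod p, ∃ g ∈ Cfsg.affineGroup (ZMod p), ∀ i, σ (t i) = g (t i)) → σ ∈ Cfsg.affineGroup (ZMod p)) := by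
  have hp : p.Prime := Fact.out
  refine ⟨?_, ?_, ?_⟩
  · -- part 1
    intro hne σ hσ
    -- the slope group
    let A : Subgroup (ZMod p)ˣ := G.comap (MulAction.toPermHom (ZMod p)ˣ (ZMod p))
    have hA_mem : ∀ a : (ZMod p)ˣ, a ∈ A ↔ affPerm a 0 ∈ G := by
      intro a
      have : MulAction.toPermHom (ZMod p)ˣ (ZMod p) a = affPerm a 0 := by
        ext x
        simp [affPerm_apply, Units.smul_def]
      show MulAction.toPermHom (ZMod p)ˣ (ZMod p) a ∈ G ↔ _
      rw [this]
    -- F2: slopes in A give elements of G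
    have F2 : ∀ (π : Equiv.Perm (ZMod p)) (a : (ZMod p)ˣ) (b : ZMod p), a ∈ A →
        (∀ x, π x = (a : ZMod p) * x + b) → π ∈ G := by
      intro π a b ha hπ
      obtain ⟨t, htG, ht⟩ := htrans b
      have : π = t * affPerm a 0 := by
        ext x
        simp [affPerm_apply, ht, hπ]
      rw [this]
      exact G.mul_mem htG ((hA_mem a).mp ha)
    -- F1: slopes of elements of G lie in A
    have F1 : ∀ g ∈ G, ∀ (a : (ZMod p)ˣ) (b : ZMod p), (∀ x, g x = (a : ZMod p) * x + b) → a ∈ A := by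
      intro g hg a b hgab
      obtain ⟨t, htG, ht⟩ := htrans (-b)
      rw [hA_mem]
      have : affPerm a 0 = t * g := by
        ext x
        simp [affPerm_apply, ht, hgab]
      rw [this]
      exact G.mul_mem htG hg
    have hAtop : A ≠ ⊤ := by
      intro htop
      apply hne
      apply le_antisymm hG
      rintro π ⟨a, b, hπ⟩
      exact F2 π a b (htop ▸ Subgroup.mem_top a) hπ
    set n := Nat.card A with hn
    have hn1 : 1 ≤ n := Nat.card_pos
    have hcardU : Nat.card (ZMod p)ˣ = p - 1 := by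
      rw [Nat.card_eq_fintype_card, ZMod.card_units]
    have hdvd : n ∣ p - 1 := hcardU ▸ Subgroup.card_subgroup_dvd_card A
    have hlt : n ≠ p - 1 := by
      intro h
      apply hAtop
      exact Subgroup.eq_top_of_card_eq A (by rw [← hn, h, hcardU])
    have h2n : 2 * n ≤ p - 1 := by
      obtain ⟨c, hc⟩ := hdvd
      have hp2 := hp.two_le
      rcases Nat.lt_or_ge c 2 with h | h
      · interval_cases c
        · omega
        · omega
      · calc 2 * n ≤ c * n := Nat.mul_le_mul_right n h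
          _ = p - 1 := by rw [hc, mul_comm]
    have hApow : ∀ a ∈ A, ((a : (ZMod p)ˣ) : ZMod p) ^ n = 1 := by
      intro a ha
      have h1 : (⟨a, ha⟩ : A) ^ n = 1 := pow_card_eq_one'
      have h2 : a ^ n = 1 := by
        have := congrArg Subtype.val h1
        simpa using this
      rw [← Units.val_pow_eq_pow_val, h2, Units.val_one]
    -- F5
    have F5 : ∀ x y : ZMod p, (σ x - σ y) ^ n = (x - y) ^ n := by
      intro x y
      obtain ⟨g, hgG, hg⟩ := hσ ![x, y]
      obtain ⟨a, b, hgab⟩ := hG hgG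
      have hx : σ x = g x := hg 0
      have hy : σ y = g y := hg 1
      rw [hx, hy, hgab x, hgab y]
      have : (a : ZMod p) * x + b - ((a : ZMod p) * y + b) = (a : ZMod p) * (x - y) := by ring
      rw [this, mul_pow, hApow a (F1 g hgG a b hgab), one_mul]
    obtain ⟨a, b, hab⟩ := mcconnel p n h2n hn1 σ σ.bijective F5
    -- the slope is in A
    obtain ⟨g, hgG, hg⟩ := hσ ![0, 1]
    obtain ⟨a', b', hgab⟩ := hG hgG
    have h0 : σ 0 = g 0 := hg 0
    have h1 : σ 1 = g 1 := hg 1
    rw [hab, hgab] at h0 h1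
    have hb : b = b' := by simpa using h0
    have ha : a = (a' : ZMod p) := by
      rw [hb] at h1
      simpa using h1
    exact F2 σ a' b (F1 g hgG a' b' hgab) (fun x => by rw [hab x, ha])
  · -- part 2
    intro σ t
    by_cases h : t 0 = t 1
    · refine ⟨affPerm 1 (σ (t 0) - t 0), affPerm_mem _ _, fun i => ?_⟩
      fin_cases i
      · simp [affPerm_apply]
      · simp [affPerm_apply, ← h]
    · have hne : t 1 - t 0 ≠ 0 := sub_ne_zero.mpr (Ne.symm h)
      have hσne : σ (t 1) - σ (t 0) ≠ 0 := by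
        rw [sub_ne_zero]
        exact fun h' => h (σ.injective h').symm
      have ha0 : (σ (t 1) - σ (t 0)) / (t 1 - t 0) ≠ 0 := div_ne_zero hσne hne
      refine ⟨affPerm (Units.mk0 _ ha0) (σ (t 0) - (σ (t 1) - σ (t 0)) / (t 1 - t 0) * t 0),
        affPerm_mem _ _, fun i => ?_⟩
      fin_cases i
      · simp [affPerm_apply]
      · simp only [affPerm_apply, Units.val_mk0, Fin.mk_one, Fin.isValue]
        field_simp
        ring
  · -- part 3
    intro σ hσ
    have h10 : σ 1 - σ 0 ≠ 0 := by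
      rw [sub_ne_zero]
      intro h
      exact one_ne_zero (σ.injective h)
    refine ⟨Units.mk0 _ h10, σ 0, fun x => ?_⟩
    obtain ⟨g, ⟨a, b, hgab⟩, hg⟩ := hσ ![0, 1, x]
    have h0 : σ 0 = g 0 := hg 0
    have h1 : σ 1 = g 1 := hg 1
    have h2 : σ x = g x := hg 2
    rw [hgab] at h0 h1 h2
    rw [Units.val_mk0, h2, h0, h1]
    ring

end Cfsg.Agent.S3518
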