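import Cfsg.Statements.S3520
import Cfsg.Agent.Helper58.TwoDer
import Cfsg.Agent.Helper58.PrimNormal

set_option autoImplicit false
open Cfsg

namespace Cfsg.Agent.S3520

open MulAction Cfsg.Agent.Helper58 Cfsg.Agent.Helper58.UDer Cfsg.Agent.Helper58.EP

theorem card_classes_eq_two {G Ω : Type*} [Group G] [MulAction G Ω]
    (hκ : Nat.card {c : ConjClasses G // ∃ g : G, ConjClasses.mk g = c ∧ ∀ ω : Ω, g • ω ≠ ω} = 2) :
    ∃ d₁ d₂ : G, IsDer Ω d₁ ∧ IsDer Ω d₂ ∧ ¬ IsConj d₁ d₂ ∧
      ∀ x : G, IsDer Ω x → IsConj x d₁ ∨ IsConj x d₂ := by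
  obtain ⟨⟨c₁, g₁, h₁, hd₁⟩, ⟨c₂, g₂, h₂, hd₂⟩, hne, huniv⟩ := Nat.card_eq_two_iff.1 hκ
  refine ⟨g₁, g₂, hd₁, hd₂, ?_, ?_⟩
  · intro hconj
    apply hne
    apply Subtype.ext
    show c₁ = c₂
    rw [← h₁, ← h₂, ConjClasses.mk_eq_mk_iff_isConj]
    exact hconj
  · intro x hx
    have hmem : (⟨ConjClasses.mk x, x, rfl, hx⟩ :
        {c : ConjClasses G // ∃ g : G, ConjClasses.mk g = c ∧ ∀ ω : Ω, g • ω ≠ ω}) ∈
        (Set.univ : Set _) := Set.mem_univ _
    rw [← huniv] at hmem
    rcases hmem with h | h
    · left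
      have : ConjClasses.mk x = c₁ := congrArg Subtype.val h
      rw [← h₁, ConjClasses.mk_eq_mk_iff_isConj] at this
      exact this
    · right
      have : ConjClasses.mk x = c₂ := congrArg Subtype.val h
      rw [← h₂, ConjClasses.mk_eq_mk_iff_isConj] at this
      exact this

theorem not_isConj_of_orderOf_ne {G : Type*} [Group G] {x y : G} (h : orderOf x ≠ orderOf y) :
    ¬ IsConj x y := by
  intro hc
  obtain ⟨g, rfl⟩ := isConj_iff.1 hc
  apply h
  have := (MulAut.conj g).orderOf_eq x
  rw [MulAut.conj_apply] at this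
  exact this.symm

/-- Let a finite group G act faithfully and primitively on a finite set Ω with at least two points, suppose G is not almost simple (no non-abelian simple normal subgroup with trivial centralizer), and suppose the derangements of G form exactly two conjugacy classes. Then either Ω has 3 points and G has order 3; or G has a non-trivial abelian normal subgroup N acting regularly, every non-identity element of G fixes at most one point (so, when n > 3, G is a Frobenius group with kernel N), the number n of points is odd and a point stabilizer has order (n − 1)/2; or G is 2-transitive with a non-trivial abelian regular normal subgroup and some non-identity element fixes at least two points (a non-Frobenius 2-transitive affine group). -/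
theorem result {G : Type*} [Group G] [Finite G] {Ω : Type*} [Fintype Ω] [MulAction G Ω] [FaithfulSMul G Ω] (hΩ : 2 ≤ Fintype.card Ω) (hprim : MulAction.IsPreprimitive G Ω) (hnas : ¬ ∃ T : Subgroup G, T.Normal ∧ IsSimpleGroup T ∧ ¬ IsMulCommutative T ∧ Subgroup.centralizer (T : Set G) = ⊥)
    (hκ : Nat.card {c : ConjClasses G // ∃ g : G, ConjClasses.mk g = c ∧ ∀ ω : Ω, g • ω ≠ ω} = 2) (α : Ω) :
    (Fintype.card Ω = 3 ∧ Nat.card G = 3) ∨
    ((∃ N : Subgroup G, N.Normal ∧ N ≠ ⊥ ∧ IsMulCommutative N ∧ ∀ ω : Ω, MulAction.stabilizer N ω = ⊥) ∧ (∀ g : G, g ≠ 1 → Nat.card (MulAction.fixedBy Ω g) ≤ 1) ∧ ¬ 2 ∣ Fintype.card Ω ∧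
        2 * Nat.card (MulAction.stabilizer G α) = Fintype.card Ω - 1) ∨
    ((∃ N : Subgroup G, N.Normal ∧ N ≠ ⊥ ∧ IsMulCommutative N ∧ ∀ ω : Ω, MulAction.stabilizer N ω = ⊥) ∧ MulAction.IsMultiplyPretransitive G Ω 2 ∧ ∃ g : G, g ≠ 1 ∧ 2 ≤ Nat.card (MulAction.fixedBy Ω g)) := by
  classical
  have : Nonempty Ω := ⟨α⟩
  obtain ⟨d₁, d₂, hd₁, hd₂, hnc, hall⟩ := card_classes_eq_two hκ
  have : Nontrivial G := ⟨⟨d₁, 1, hd₁.ne_one⟩⟩
  obtain ⟨N, hNn, hN1, hminN⟩ := exists_minNormal (G := G)
  have := hNn
  have htr := normal_trans hprim N hN1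
  -- no three pairwise non-conjugate derangements
  have hno3 : ∀ a b d : G, IsDer Ω a → IsDer Ω b → IsDer Ω d →
      IsConj a b ∨ IsConj a d ∨ IsConj b d := by
    intro a b d ha hb hd
    rcases hall a ha with h1 | h1 <;> rcases hall b hb with h2 | h2 <;> rcases hall d hd with h3 | h3
    · exact Or.inl (h1.trans h2.symm)
    · exact Or.inl (h1.trans h2.symm)
    · exact Or.inr (Or.inl (h1.trans h3.symm))
    · exact Or.inr (Or.inr (h2.trans h3.symm))
    · exact Or.inr (Or.inr (h2.trans h3.symm))
    · exact Or.inr (Or.inl (h1.trans h3.symm))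
    · exact Or.inl (h1.trans h2.symm)
    · exact Or.inl (h1.trans h2.symm)
  by_cases hc : ∀ a ∈ N, ∀ b ∈ N, a * b = b * a
  · -- affine case
    have hfree : ∀ n ∈ N, ∀ ω : Ω, n • ω = ω → n = 1 := fun n hn ω hω =>
      abelian_normal_free hprim N hN1 hc hn hω
    have haff : ∃ N : Subgroup G, N.Normal ∧ N ≠ ⊥ ∧ IsMulCommutative N ∧
        ∀ ω : Ω, MulAction.stabilizer N ω = ⊥ := by
      refine ⟨N, hNn, hN1, ⟨⟨fun x y => Subtype.ext (hc x x.2 y y.2)⟩⟩, fun ω => ?_⟩
      rw [Subgroup.eq_bot_iff_forall]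
      intro x hx
      apply Subtype.ext
      rw [mem_stabilizer_iff] at hx
      exact hfree x x.2 ω hx
    have hderN : ∀ n ∈ N, n ≠ 1 → IsDer Ω n := fun n hn hn1 ω hω => hn1 (hfree n hn ω hω)
    by_cases hsr : ∀ h ∈ stabilizer G α, h ≠ 1 → ∀ β : Ω, β ≠ α → h • β ≠ β
    · right; left
      have hd₁N : d₁ ∈ N := aff_der_mem N hc hfree htr α hsr hd₁
      have hd₂N : d₂ ∈ N := aff_der_mem N hc hfree htr α hsr hd₂
      refine ⟨haff, ?_, ?_⟩
      · intro g hg1
        rw [Finite.card_le_one_iff_subsingleton]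
        refine ⟨?_⟩
        rintro ⟨β, hβ⟩ ⟨γ, hγ⟩
        rw [mem_fixedBy] at hβ hγ
        by_contra hne
        have hne' : β ≠ γ := fun h => hne (Subtype.ext h)
        obtain ⟨k, -, rfl⟩ := htr α β
        have h1 : k⁻¹ * g * k ∈ stabilizer G α := by
          rw [mem_stabilizer_iff, mul_smul, mul_smul, hβ, inv_smul_smul]
        have h2 : k⁻¹ * g * k ≠ 1 := by
          intro h
          apply hg1
          have : g = k * (k⁻¹ * g * k) * k⁻¹ := by group
          rw [this, h]; group
        have h3 : k⁻¹ • γ ≠ α := by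
          intro h
          apply hne'
          rw [← h, smul_inv_smul]
        apply hsr _ h1 h2 _ h3
        rw [mul_smul, mul_smul, smul_inv_smul, hγ]
      · -- counting
        have hd₁1 : d₁ ≠ 1 := hd₁.ne_one
        have hd₂1 : d₂ ≠ 1 := hd₂.ne_one
        let f : Option (stabilizer G α ⊕ stabilizer G α) → N := fun o =>
          match o with
          | none => 1
          | some (Sum.inl h) => ⟨(h : G) * d₁ * (h : G)⁻¹, hNn.conj_mem d₁ hd₁N h⟩
          | some (Sum.inr h) => ⟨(h : G) * d₂ * (h : G)⁻¹, hNn.conj_mem d₂ hd₂N h⟩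
        -- injectivity on a single orbit
        have hinj1 : ∀ (d : G), d ∈ N → d ≠ 1 → ∀ h h' : stabilizer G α,
            (h : G) * d * (h : G)⁻¹ = (h' : G) * d * (h' : G)⁻¹ → h = h' := by
          intro d hdN hd1 h h' he
          have h1 : (h' : G)⁻¹ * h ∈ stabilizer G α :=
            Subgroup.mul_mem _ (Subgroup.inv_mem _ h'.2) h.2
          have h2 : ((h' : G)⁻¹ * h) * d * ((h' : G)⁻¹ * h)⁻¹ = d := by
            calc ((h' : G)⁻¹ * h) * d * ((h' : G)⁻¹ * h)⁻¹
                = (h' : G)⁻¹ * ((h : G) * d * (h : G)⁻¹) * h' := by group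
              _ = (h' : G)⁻¹ * ((h' : G) * d * (h' : G)⁻¹) * h' := by rw [he]
              _ = d := by group
          have h3 := (aff_fix_iff N hfree α h1 hdN).2 h2
          have h4 : d • α ≠ α := fun h => hd1 (hfree d hdN α h)
          by_contra hne
          have h5 : (h' : G)⁻¹ * h ≠ 1 := by
            intro h6
            apply hne
            apply Subtype.ext
            exact (inv_mul_eq_one.1 h6).symm
          exact hsr _ h1 h5 _ h4 h3
        have hcross : ∀ h h' : stabilizer G α,
            (h : G) * d₁ * (h : G)⁻¹ ≠ (h' : G) * d₂ * (h' : G)⁻¹ := by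
          intro h h' he
          apply hnc
          rw [isConj_iff]
          refine ⟨(h' : G)⁻¹ * h, ?_⟩
          calc ((h' : G)⁻¹ * h) * d₁ * ((h' : G)⁻¹ * h)⁻¹
              = (h' : G)⁻¹ * ((h : G) * d₁ * (h : G)⁻¹) * h' := by group
            _ = (h' : G)⁻¹ * ((h' : G) * d₂ * (h' : G)⁻¹) * h' := by rw [he]
            _ = d₂ := by group
        have hconj1 : ∀ (d : G) (h : stabilizer G α), d ≠ 1 → (h : G) * d * (h : G)⁻¹ ≠ 1 := by
          intro d h hd1 he
          apply hd1
          have : d = (h : G)⁻¹ * ((h : G) * d * (h : G)⁻¹) * h := by group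
          rw [this, he]; group
        have hfinj : Function.Injective f := by
          rintro (_ | (h | h)) (_ | (h' | h')) he
          · rfl
          · exact absurd (congrArg Subtype.val he).symm (hconj1 d₁ h' hd₁1)
          · exact absurd (congrArg Subtype.val he).symm (hconj1 d₂ h' hd₂1)
          · exact absurd (congrArg Subtype.val he) (hconj1 d₁ h hd₁1)
          · rw [hinj1 d₁ hd₁N hd₁1 h h' (congrArg Subtype.val he)]
          · exact absurd (congrArg Subtype.val he) (hcross h h')
          · exact absurd (congrArg Subtype.val he) (hconj1 d₂ h hd₂1)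
          · exact absurd (congrArg Subtype.val he).symm (hcross h' h)
          · rw [hinj1 d₂ hd₂N hd₂1 h h' (congrArg Subtype.val he)]
        have hfsurj : Function.Surjective f := by
          intro n
          by_cases hn1 : (n : G) = 1
          · exact ⟨none, Subtype.ext hn1.symm⟩
          · rcases hall n (hderN n n.2 hn1) with h1 | h1
            · obtain ⟨g, hg⟩ := isConj_iff.1 h1.symm
              obtain ⟨h, hh, hgh⟩ := aff_conj_stab N hc htr α hd₁N g
              refine ⟨some (Sum.inl ⟨h, hh⟩), Subtype.ext ?_⟩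
              show h * d₁ * h⁻¹ = n
              rw [← hgh, hg]
            · obtain ⟨g, hg⟩ := isConj_iff.1 h1.symm
              obtain ⟨h, hh, hgh⟩ := aff_conj_stab N hc htr α hd₂N g
              refine ⟨some (Sum.inr ⟨h, hh⟩), Subtype.ext ?_⟩
              show h * d₂ * h⁻¹ = n
              rw [← hgh, hg]
        have hcardN : Nat.card N = 2 * Nat.card (stabilizer G α) + 1 := by
          rw [← Nat.card_congr (Equiv.ofBijective f ⟨hfinj, hfsurj⟩), Finite.card_option,
            Nat.card_sum]
          ring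
        have hcardΩ : Fintype.card Ω = Nat.card N := by
          rw [← Nat.card_eq_fintype_card]
          symm
          apply Nat.card_congr
          refine Equiv.ofBijective (fun n : N => (n : G) • α) ⟨?_, ?_⟩
          · intro m n hmn
            have hmn' : (m : G) • α = (n : G) • α := hmn
            have h1 : ((n : G)⁻¹ * m) • α = α := by
              rw [mul_smul, hmn', inv_smul_smul]
            have h2 := hfree _ (N.mul_mem (N.inv_mem n.2) m.2) α h1
            apply Subtype.ext
            exact (inv_mul_eq_one.1 h2).symm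
          · intro ω
            obtain ⟨n, hn, hnω⟩ := htr α ω
            exact ⟨⟨n, hn⟩, hnω⟩
        rw [hcardΩ, hcardN]
        refine ⟨?_, by omega⟩
        omega
    · right; right
      push Not at hsr
      obtain ⟨h, hh, hh1, β, hβ, hfix⟩ := hsr
      obtain ⟨d, hd, hdN⟩ := aff_exists_der_not_mem N hc hfree htr α hh hh1 hβ hfix
      -- all nonidentity elements of N are conjugate
      have hNconj : ∀ n ∈ N, ∀ n' ∈ N, n ≠ 1 → n' ≠ 1 → IsConj n n' := by
        intro n hn n' hn' hn1 hn'1
        rcases hno3 n n' d (hderN n hn hn1) (hderN n' hn' hn'1) hd with h1 | h1 | h1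
        · exact h1
        · exfalso
          obtain ⟨g, hg⟩ := isConj_iff.1 h1
          exact hdN (hg ▸ hNn.conj_mem n hn g)
        · exfalso
          obtain ⟨g, hg⟩ := isConj_iff.1 h1
          exact hdN (hg ▸ hNn.conj_mem n' hn' g)
      refine ⟨haff, ?_, h, hh1, ?_⟩
      · rw [two_trans_iff]
        intro a b c e hab hce
        obtain ⟨k₁, -, hk₁⟩ := htr a α
        obtain ⟨k₂, -, hk₂⟩ := htr c α
        obtain ⟨n, hn, hnb⟩ := htr α (k₁ • b)
        obtain ⟨n', hn', hne⟩ := htr α (k₂ • e)
        have hn1 : n ≠ 1 := by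
          rintro rfl
          rw [one_smul] at hnb
          apply hab
          apply smul_left_cancel k₁
          rw [hk₁, ← hnb]
        have hn'1 : n' ≠ 1 := by
          rintro rfl
          rw [one_smul] at hne
          apply hce
          apply smul_left_cancel k₂
          rw [hk₂, ← hne]
        obtain ⟨g, hg⟩ := isConj_iff.1 (hNconj n hn n' hn' hn1 hn'1)
        obtain ⟨s, hs, hgs⟩ := aff_conj_stab N hc htr α hn g
        have hsα : s • α = α := hs
        have hsinv : s⁻¹ • α = α := by rw [inv_smul_eq_iff, hsα]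
        refine ⟨k₂⁻¹ * s * k₁, ?_, ?_⟩
        · rw [mul_smul, mul_smul, hk₁, hsα, ← hk₂, inv_smul_smul]
        · rw [mul_smul, mul_smul, ← hnb]
          have : s • n • α = n' • α := by
            rw [← hg, hgs, mul_smul, mul_smul, hsinv]
          rw [this, hne, inv_smul_smul]
      · rw [Nat.succ_le_iff, Finite.one_lt_card_iff_nontrivial]
        exact ⟨⟨⟨α, hh⟩, ⟨β, hfix⟩, fun he => hβ (congrArg Subtype.val he).symm⟩⟩
  · exfalso
    obtain ⟨T, hT⟩ := exists_ctx N hN1
    have hcontra : ∀ a b d : G, IsDer Ω a → IsDer Ω b → IsDer Ω d → orderOf a ≠ orderOf b →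
        orderOf a ≠ orderOf d → orderOf b ≠ orderOf d → False := by
      intro a b d ha hb hd h1 h2 h3
      rcases hno3 a b d ha hb hd with h | h | h
      · exact not_isConj_of_orderOf_ne h1 h
      · exact not_isConj_of_orderOf_ne h2 h
      · exact not_isConj_of_orderOf_ne h3 h
    by_cases hall' : ∀ g : G, cj g T = T
    · have hTnorm : T.Normal := ⟨fun t ht g => by
        have := conj_mem_cj (g := g) ht
        rwa [hall' g] at this⟩
      have hTN : T = N := by
        rcases hminN T hTnorm hT.hTN with h0 | h0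
        · exact absurd h0 hT.hT1
        · exact h0
      subst hTN
      have hncomm : ¬ IsMulCommutative T := by
        intro hcm
        apply hc
        intro a ha b hb
        have := hcm.is_comm.comm (⟨a, ha⟩ : T) ⟨b, hb⟩
        exact congrArg Subtype.val this
      have hC : Subgroup.centralizer (T : Set G) ≠ ⊥ :=
        fun hC => hnas ⟨T, hNn, hT.isSimpleGroup, hncomm, hC⟩
      have htrC := normal_trans hprim (Subgroup.centralizer (T : Set G)) hC
      have hD : ∀ t ∈ T, t ≠ 1 → IsDer Ω t := by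
        intro t ht ht1 ω hω
        apply ht1
        apply FaithfulSMul.eq_of_smul_eq_smul (α := Ω)
        intro ω'
        obtain ⟨c, hcc, rfl⟩ := htrC ω ω'
        have hct := Subgroup.mem_centralizer_iff.1 hcc t ht
        rw [one_smul, ← mul_smul, hct, mul_smul, hω]
      obtain ⟨p, q, hp, hq, hpq, x, hx, y, hy, hxo, hyo⟩ := exists_two_primes T hT.hT1
        (fun z hz hzc => hT.center_trivial hminN hc hz hzc)
      have hCnt : Nontrivial (Subgroup.centralizer (T : Set G)) :=
        (Subgroup.nontrivial_iff_ne_bot _).2 hC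
      have hcardC : 1 < Nat.card (Subgroup.centralizer (T : Set G)) := Finite.one_lt_card
      obtain ⟨r, hr, hrd⟩ := Nat.exists_prime_and_dvd
        (show Nat.card (Subgroup.centralizer (T : Set G)) ≠ 1 by omega)
      have : Fact r.Prime := ⟨hr⟩
      obtain ⟨c, hco⟩ := exists_prime_orderOf_dvd_card'
        (G := Subgroup.centralizer (T : Set G)) r hrd
      have hco' : orderOf (c : G) = r := by rw [Subgroup.orderOf_coe, hco]
      have hxc : Commute x (c : G) := Subgroup.mem_centralizer_iff.1 c.2 x hx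
      have hyc : Commute y (c : G) := Subgroup.mem_centralizer_iff.1 c.2 y hy
      obtain ⟨a, b, d, ha, hb, hd, h1, h2, h3⟩ :=
        three_orders (Ω := Ω) T hD hp hq hr hpq hx hy hxo hyo hco' hxc hyc
      exact hcontra a b d ha hb hd h1 h2 h3
    · push Not at hall'
      obtain ⟨g₀, hg₀⟩ := hall'
      by_cases hsr : ∀ ω : Ω, T ⊓ stabilizer G ω = ⊥
      · have hD : ∀ t ∈ T, t ≠ 1 → IsDer Ω t := by
          intro t ht ht1 ω hω
          apply ht1
          have : t ∈ T ⊓ stabilizer G ω := Subgroup.mem_inf.2 ⟨ht, hω⟩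
          rwa [hsr ω, Subgroup.mem_bot] at this
        obtain ⟨p, q, hp, hq, hpq, x, hx, y, hy, hxo, hyo⟩ := exists_two_primes T hT.hT1
          (fun z hz hzc => hT.center_trivial hminN hc hz hzc)
        have hcC : g₀ * x * g₀⁻¹ ∈ cen N T := hT.cj_le_cen hg₀ (conj_mem_cj hx)
        have hco : orderOf (g₀ * x * g₀⁻¹) = p := by
          have := (MulAut.conj g₀).orderOf_eq x
          rw [MulAut.conj_apply] at this
          rw [this, hxo]
        have hxc : Commute x (g₀ * x * g₀⁻¹) := (mem_cen.1 hcC).2 x hx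
        have hyc : Commute y (g₀ * x * g₀⁻¹) := (mem_cen.1 hcC).2 y hy
        obtain ⟨a, b, d, ha, hb, hd, h1, h2, h3⟩ :=
          three_orders (Ω := Ω) T hD hp hq hp hpq hx hy hxo hyo hco hxc hyc
        exact hcontra a b d ha hb hd h1 h2 h3
      · push Not at hsr
        obtain ⟨ω, hω⟩ := hsr
        obtain ⟨a, b, d, ha, hb, hd, h1, h2, h3⟩ := hT.caseB_three hminN hc htr ω hω hg₀
        rcases hno3 a b d ha hb hd with h | h | h
        · exact h1 (isConj_iff.1 h)
        · exact h2 (isConj_iff.1 h)
        · exact h3 (isConj_iff.1 h)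

end Cfsg.Agent.S3520
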