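import Cfsg.Statements.S3524

set_option autoImplicit false
open Cfsg

namespace Cfsg.Agent.S3524

/-- A permutation group with a base is closed at one level above the base size. -/
theorem result {Ω : Type*} (G : Subgroup (Equiv.Perm Ω)) (k : ℕ) (α : Fin k → Ω)
    (hbase : ∀ g ∈ G, (∀ i, g (α i) = α i) → g = 1) (σ : Equiv.Perm Ω)
    (hσ : ∀ t : Fin (k + 1) → Ω, ∃ g ∈ G, ∀ i, σ (t i) = g (t i)) : σ ∈ G := by
  classical
  rcases isEmpty_or_nonempty Ω with hΩ | ⟨⟨ω₀⟩⟩
  · have : σ = 1 := Subsingleton.elim _ _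
    rw [this]; exact G.one_mem
  · -- the tuple (α, ω)
    obtain ⟨g₀, hg₀, h₀⟩ := hσ (Fin.snoc α ω₀)
    have key : ∀ ω, σ ω = g₀ ω := by
      intro ω
      obtain ⟨g, hg, h⟩ := hσ (Fin.snoc α ω)
      have hfix : ∀ i, (g₀⁻¹ * g) (α i) = α i := by
        intro i
        have h1 := h (Fin.castSucc i)
        have h2 := h₀ (Fin.castSucc i)
        simp only [Fin.snoc_castSucc] at h1 h2
        rw [Equiv.Perm.mul_apply, ← h1, h2]
        simp
      have := hbase (g₀⁻¹ * g) (G.mul_mem (G.inv_mem hg₀) hg) hfix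
      have hgg : g = g₀ := by
        have := inv_mul_eq_one.mp this
        exact this.symm
      have h3 := h (Fin.last k)
      simp only [Fin.snoc_last] at h3
      rw [h3, hgg]
    have : σ = g₀ := Equiv.ext key
    rw [this]; exact hg₀

end Cfsg.Agent.S3524
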