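-- Statement S3532 (row 3532).
import Cfsg.Statements.S3532
import Cfsg.Agent.S2475
import Cfsg.Agent.Helper61.PrimeGraph
import Cfsg.Agent.Helper61.Frobenius

set_option autoImplicit false
open Cfsg

namespace Cfsg.Agent.S3532

open Cfsg.Agent.Helper61

/-- The combinatorial heart: lcm-closure of `D p ∪ D a ∪ D b` equals lcms of `D p ∪ D a` with `D p ∪ D b`. -/
theorem image2_lcm_eq (p a b : ℕ) :
    Set.image2 Nat.lcm ({m | m ∣ p} ∪ {m | m ∣ a}) ({m | m ∣ p} ∪ {m | m ∣ b}) =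
      Set.image2 Nat.lcm {m | m ∣ p ∨ m ∣ a ∨ m ∣ b} {m | m ∣ p ∨ m ∣ a ∨ m ∣ b} := by
  ext x
  simp only [Set.mem_image2, Set.mem_union, Set.mem_ofPred_eq]
  constructor
  · rintro ⟨u, hu, v, hv, rfl⟩
    refine ⟨u, ?_, v, ?_, rfl⟩
    · rcases hu with h | h
      · exact Or.inl h
      · exact Or.inr (Or.inl h)
    · rcases hv with h | h
      · exact Or.inl h
      · exact Or.inr (Or.inr h)
  · rintro ⟨u, hu, v, hv, rfl⟩
    rcases hu with hu | hu | hu <;> rcases hv with hv | hv | hv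
    · exact ⟨u, Or.inl hu, v, Or.inl hv, rfl⟩
    · exact ⟨v, Or.inr hv, u, Or.inl hu, Nat.lcm_comm _ _⟩
    · exact ⟨u, Or.inl hu, v, Or.inr hv, rfl⟩
    · exact ⟨u, Or.inr hu, v, Or.inl hv, rfl⟩
    · exact ⟨Nat.lcm u v, Or.inr (Nat.lcm_dvd hu hv), 1, Or.inl (one_dvd _), by simp⟩
    · exact ⟨u, Or.inr hu, v, Or.inr hv, rfl⟩
    · exact ⟨v, Or.inl hv, u, Or.inr hu, Nat.lcm_comm _ _⟩
    · exact ⟨v, Or.inr hv, u, Or.inr hu, Nat.lcm_comm _ _⟩
    · exact ⟨1, Or.inl (one_dvd _), Nat.lcm u v, Or.inr (Nat.lcm_dvd hu hv), by simp⟩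

/-- Let q ≥ 4 be a prime power and L = PSL(2,q). There is a finite solvable group with the same set of element orders as L × L (so L × L is not determined by its spectrum). -/
theorem result {F : Type*} [Field F] [Fintype F] (hF : 4 ≤ Fintype.card F) :
    ∃ (H : Type) (_ : Group H) (_ : Finite H), Group.IsSolvable H ∧
      Set.range (orderOf : H → ℕ) = Set.range (orderOf : Matrix.ProjectiveSpecialLinearGroup (Fin 2) F × Matrix.ProjectiveSpecialLinearGroup (Fin 2) F → ℕ) := by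
  classical
  obtain ⟨p, hchar, n, hpp, hcard⟩ := FiniteField.card' F
  haveI : CharP F p := hchar
  haveI : Fact p.Prime := ⟨hpp⟩
  set q := Fintype.card F with hq
  set d := Nat.gcd 2 (q - 1) with hd
  -- the field with `q ^ 2` elements
  have hn0 : 2 * (n : ℕ) ≠ 0 := by
    have := n.pos
    omega
  letI : Fintype (GaloisField p (2 * (n : ℕ))) := Fintype.ofFinite _
  have hK : Fintype.card (GaloisField p (2 * (n : ℕ))) = q ^ 2 := by
    rw [← Nat.card_eq_fintype_card, GaloisField.card p _ hn0, hcard, ← pow_mul, mul_comm]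
  -- divisibility facts
  have hd1 : d ∣ q - 1 := Nat.gcd_dvd_right _ _
  have hd2 : d ∣ 2 := Nat.gcd_dvd_left _ _
  have hdq : d ∣ q + 1 := by
    have : q + 1 = (q - 1) + 2 := by omega
    rw [this]
    exact dvd_add hd1 hd2
  have hm1 : (q - 1) / d ∣ q - 1 := Nat.div_dvd_of_dvd hd1
  have hm2 : (q + 1) / d ∣ q ^ 2 - 1 := by
    have h1 : (q + 1) / d ∣ q + 1 := Nat.div_dvd_of_dvd hdq
    have h2 : q ^ 2 - 1 = (q + 1) * (q - 1) := by
      have : q ^ 2 - 1 = q ^ 2 - 1 ^ 2 := by norm_num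
      rw [this, Nat.sq_sub_sq]
    rw [h2]
    exact Dvd.dvd.mul_right h1 _
  obtain ⟨z1, hz1⟩ := exists_unit_orderOf_eq F ((q - 1) / d) hm1
  obtain ⟨z2, hz2⟩ := exists_unit_orderOf_eq (GaloisField p (2 * (n : ℕ))) ((q + 1) / d)
    (by rw [hK]; exact hm2)
  have hA := range_orderOf_frobGroup F p z1 (orderOf_pos z1)
  have hB := range_orderOf_frobGroup (GaloisField p (2 * (n : ℕ))) p z2 (orderOf_pos z2)
  rw [hz1] at hA
  rw [hz2] at hB
  haveI := finite_frobGroup F z1
  haveI := finite_frobGroup (GaloisField p (2 * (n : ℕ))) z2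
  haveI := isSolvable_frobGroup F z1
  haveI := isSolvable_frobGroup (GaloisField p (2 * (n : ℕ))) z2
  obtain ⟨H, hG, hfin, ⟨em⟩⟩ := exists_type0_copy
    (frobGroup F z1 × frobGroup (GaloisField p (2 * (n : ℕ))) z2)
  refine ⟨H, hG, hfin, ?_, ?_⟩
  · exact Group.isSolvable_of_surjective (f := em.symm.toMonoidHom) em.symm.surjective
  · have hcongr : Set.range (orderOf : H → ℕ) =
        Set.range (orderOf : frobGroup F z1 × frobGroup (GaloisField p (2 * (n : ℕ))) z2 → ℕ) := by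
      ext m
      simp only [Set.mem_range]
      exact (primeGraph_congr em).2 m
    rw [hcongr, range_orderOf_prod, range_orderOf_prod, hA, hB,
      Cfsg.Agent.S2475.result p hF]
    exact image2_lcm_eq p _ _

end Cfsg.Agent.S3532
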