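import Cfsg.Statements.S3546
import Cfsg.Agent.Helper59.Derangement

set_option autoImplicit false
open Cfsg

namespace Cfsg.Agent.S3546

/-- In a finite transitive permutation group the derangements generate a transitive subgroup
containing every element whose fixed-point count is not 1. -/
theorem result {G Ω : Type*} [Group G] [Finite G] [MulAction G Ω] [FaithfulSMul G Ω] [Finite Ω]
    (htrans : MulAction.IsPretransitive G Ω) :
    MulAction.IsPretransitive ↥(Subgroup.closure {g : G | ∀ ω : Ω, g • ω ≠ ω}) Ω ∧
    ∀ g : G, Nat.card (MulAction.fixedBy Ω g) ≠ 1 → g ∈ Subgroup.closure {g : G | ∀ ω : Ω, g • ω ≠ ω} :=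
  ⟨Cfsg.Agent.Helper59.derSub_isPretransitive,
    fun g hg => Cfsg.Agent.Helper59.mem_derSub_of_card_fixedBy_ne_one g hg⟩

end Cfsg.Agent.S3546
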