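import Cfsg.Statements.S3547
import Cfsg.Agent.Helper59.Derangement

set_option autoImplicit false
open Cfsg

namespace Cfsg.Agent.S3547

open MulAction Cfsg.Agent.Helper59

theorem card_fixedBy_prod {G Ω : Type*} [Group G] [MulAction G Ω] [Finite Ω] (g : G) :
    Nat.card (fixedBy (Ω × Ω) g) = Nat.card (fixedBy Ω g) * Nat.card (fixedBy Ω g) := by
  rw [← Nat.card_prod]
  apply Nat.card_congr
  refine ⟨fun x => (⟨x.1.1, congrArg Prod.fst x.2⟩, ⟨x.1.2, congrArg Prod.snd x.2⟩),
    fun y => ⟨(y.1.1, y.2.1), Prod.ext y.1.2 y.2.2⟩, ?_, ?_⟩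
  · intro x; rfl
  · intro y; rfl

/-- rank formula -/
theorem result {G Ω : Type*} [Group G] [Finite G] [MulAction G Ω] [FaithfulSMul G Ω] [Finite Ω]
    (htrans : MulAction.IsPretransitive G Ω) :
    Nat.card (MulAction.orbitRel.Quotient ↥(Subgroup.closure {g : G | ∀ ω : Ω, g • ω ≠ ω}) (Ω × Ω)) - 1 =
      (Nat.card (MulAction.orbitRel.Quotient G (Ω × Ω)) - 1) * (Subgroup.closure {g : G | ∀ ω : Ω, g • ω ≠ ω}).index := by
  classical
  rcases isEmpty_or_nonempty Ω with hΩ | hΩ
  · have h1 : IsEmpty (orbitRel.Quotient (derSub G Ω) (Ω × Ω)) := by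
      constructor; intro q
      induction q using Quotient.inductionOn with | _ a => exact hΩ.false a.1
    have h2 : IsEmpty (orbitRel.Quotient G (Ω × Ω)) := by
      constructor; intro q
      induction q using Quotient.inductionOn with | _ a => exact hΩ.false a.1
    simp [Nat.card_of_isEmpty]
  let _ : Fintype G := Fintype.ofFinite G
  change Nat.card (orbitRel.Quotient (derSub G Ω) (Ω × Ω)) - 1 =
    (Nat.card (orbitRel.Quotient G (Ω × Ω)) - 1) * (derSub G Ω).index
  set D := derSub G Ω with hD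
  set rG := Nat.card (orbitRel.Quotient G (Ω × Ω)) with hrG
  set rD := Nat.card (orbitRel.Quotient D (Ω × Ω)) with hrD
  have hcount := (derSub_count (G := G) (Ω := Ω)).2
  have hG : ∑ g : G, Nat.card (fixedBy Ω g) * Nat.card (fixedBy Ω g) = rG * Nat.card G := by
    rw [← burnside_natCard G (Ω × Ω)]
    exact Finset.sum_congr rfl (fun g _ => (card_fixedBy_prod g).symm)
  have hDsum : ∑ d : D, Nat.card (fixedBy Ω (d : G)) * Nat.card (fixedBy Ω (d : G)) =
      rD * Nat.card D := by
    rw [← burnside_natCard D (Ω × Ω)]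
    exact Finset.sum_congr rfl (fun d _ => (card_fixedBy_prod (G := D) d).symm)
  have hDsum' : ∑ d : D, Nat.card (fixedBy Ω (d : G)) * Nat.card (fixedBy Ω (d : G)) =
      ∑ g ∈ Finset.univ.filter (· ∈ D), Nat.card (fixedBy Ω g) * Nat.card (fixedBy Ω g) :=
    sum_subgroup_eq D (fun g => Nat.card (fixedBy Ω g) * Nat.card (fixedBy Ω g))
  have hsplit : ∑ g : G, Nat.card (fixedBy Ω g) * Nat.card (fixedBy Ω g) =
      ∑ g ∈ Finset.univ.filter (· ∈ D), Nat.card (fixedBy Ω g) * Nat.card (fixedBy Ω g) +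
      ∑ g ∈ Finset.univ.filter (¬ · ∈ D), Nat.card (fixedBy Ω g) * Nat.card (fixedBy Ω g) :=
    (Finset.sum_filter_add_sum_filter_not _ _ _).symm
  have hout : ∑ g ∈ Finset.univ.filter (fun g : G => ¬ g ∈ D),
      Nat.card (fixedBy Ω g) * Nat.card (fixedBy Ω g) =
      (Finset.univ.filter (fun g : G => ¬ g ∈ D)).card := by
    rw [Finset.card_eq_sum_ones]
    apply Finset.sum_congr rfl
    intro g hg
    simp only [Finset.mem_filter, Finset.mem_univ, true_and] at hg
    rw [hcount g hg]
  have hcards : (Finset.univ.filter (fun g : G => g ∈ D)).card +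
      (Finset.univ.filter (fun g : G => ¬ g ∈ D)).card = Nat.card G := by
    rw [Finset.card_filter_add_card_filter_not, Finset.card_univ, Nat.card_eq_fintype_card]
  have hDcard : (Finset.univ.filter (fun g : G => g ∈ D)).card = Nat.card D := by
    rw [Nat.card_eq_fintype_card, Fintype.card_subtype]
  have hDpos : 0 < Nat.card D := Nat.card_pos
  have hidx : Nat.card D * D.index = Nat.card G := D.card_mul_index
  set k := D.index with hk
  set d := Nat.card D with hd
  have hrGpos : 0 < rG := by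
    have : Nonempty (orbitRel.Quotient G (Ω × Ω)) := (nonempty_quotient_iff _).mpr inferInstance
    exact Nat.card_pos
  -- main equation: rG * (d * k) + d = rD * d + d * k
  have hmain : rG * (d * k) + d = rD * d + d * k := by
    rw [hidx, ← hG, hsplit, ← hDsum', hDsum, hout]
    omega
  have hmain' : (rG * k + 1) * d = (rD + k) * d := by
    calc (rG * k + 1) * d = rG * (d * k) + d := by ring
      _ = rD * d + d * k := hmain
      _ = (rD + k) * d := by ring
  have hmain'' : rG * k + 1 = rD + k := Nat.eq_of_mul_eq_mul_right hDpos hmain'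
  obtain ⟨r', hr'⟩ : ∃ r', rG = r' + 1 := ⟨rG - 1, by omega⟩
  rw [hr'] at hmain'' ⊢
  have : r' * k + 1 = rD := by
    have : (r' + 1) * k = r' * k + k := by ring
    omega
  rw [← this]
  simp

end Cfsg.Agent.S3547
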