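import Cfsg.Statements.S3548
import Cfsg.Agent.Helper59.DerangementIndex

set_option autoImplicit false
open Cfsg

namespace Cfsg.Agent.S3548

open MulAction Cfsg.Agent.Helper59

/-- If the index equals `n - 1` then `n` is a prime power. -/
theorem isPrimePow_of_index_eq {G Ω : Type*} [Group G] [Finite G] [MulAction G Ω] [FaithfulSMul G Ω]
    [Finite Ω] [IsPretransitive G Ω] (hΩ : 2 ≤ Nat.card Ω)
    (hidx : (derSub G Ω).index = Nat.card Ω - 1) : IsPrimePow (Nat.card Ω) := by
  classical
  have hne : Nonempty Ω := by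
    by_contra h
    rw [not_nonempty_iff] at h
    simp [Nat.card_of_isEmpty] at hΩ
  obtain ⟨ω⟩ := hne
  set D := derSub G Ω with hD
  set H := stabilizer G ω with hH
  set n := Nat.card Ω with hn
  have hDn : D.Normal := derSub_normal
  have hDt : IsPretransitive D Ω := derSub_isPretransitive
  -- every orbit of H off ω is everything off ω
  have horb : ∀ β : Ω, β ≠ ω → ∀ γ : Ω, γ ≠ ω → γ ∈ orbit H β := by
    intro β hβ
    have hdvd := index_dvd_card_orbit_stabilizer (G := G) ω β hβ
    rw [← hD, hidx] at hdvd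
    have hsub : orbit H β ⊆ ({ω}ᶜ : Set Ω) := by
      rintro x ⟨h, rfl⟩
      intro hx
      apply hβ
      have h2 : (h : G) • β = ω := hx
      have h3 : (h : G) • ω = ω := h.2
      have : (h : G) • β = (h : G) • ω := by rw [h2, h3]
      exact smul_left_cancel _ this
    have hcardc : ({ω}ᶜ : Set Ω).ncard = n - 1 := by
      rw [Set.ncard_compl, Set.ncard_singleton]
    have hpos : 0 < (orbit H β).ncard := by
      rw [Set.ncard_pos]
      exact ⟨β, mem_orbit_self β⟩
    have hle : (orbit H β).ncard ≤ n - 1 := by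
      rw [← hcardc]; exact Set.ncard_le_ncard hsub
    rw [Nat.card_coe_set_eq] at hdvd
    have hge : n - 1 ≤ (orbit H β).ncard := Nat.le_of_dvd hpos hdvd
    have heq : orbit H β = ({ω}ᶜ : Set Ω) := by
      apply Set.eq_of_subset_of_ncard_le hsub
      rw [hcardc]; exact hge
    intro γ hγ
    rw [heq]; exact hγ
  -- D ⊓ H is trivial
  have hDH : ∀ g : G, g ∈ D → g • ω = ω → g = 1 := by
    intro g hgD hgω
    apply FaithfulSMul.eq_of_smul_eq_smul (α := Ω)
    intro β
    rw [one_smul]
    by_cases hβ : β = ω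
    · rw [hβ]; exact hgω
    -- stabilizer of β in H equals D ⊓ H by index comparison
    have key : (stabilizer G β).subgroupOf H = stabilizer H β := by ext; rfl
    have h1 : (stabilizer G β).relIndex H = n - 1 := by
      rw [Subgroup.relIndex, key, index_stabilizer]
      have hsub : orbit H β ⊆ ({ω}ᶜ : Set Ω) := by
        rintro x ⟨h, rfl⟩
        intro hx
        apply hβ
        have h2 : (h : G) • β = ω := hx
        have h3 : (h : G) • ω = ω := h.2
        have : (h : G) • β = (h : G) • ω := by rw [h2, h3]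
        exact smul_left_cancel _ this
      have : orbit H β = ({ω}ᶜ : Set Ω) := by
        apply Set.Subset.antisymm hsub
        intro γ hγ
        exact horb β hβ γ hγ
      rw [this, Set.ncard_compl, Set.ncard_singleton]
    have h2 : D.relIndex H = n - 1 := by
      rw [derSub_relIndex_stabilizer ω, ← hD, hidx]
    have hle : stabilizer G β ⊓ H ≤ D ⊓ H := by
      intro x hx
      rw [Subgroup.mem_inf] at hx ⊢
      refine ⟨?_, hx.2⟩
      exact mem_derSub_of_fix_two hβ hx.1 hx.2
    have hrel : (stabilizer G β ⊓ H).relIndex (D ⊓ H) = 1 := by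
      have hmul := Subgroup.relIndex_mul_relIndex (stabilizer G β ⊓ H) (D ⊓ H) H hle inf_le_right
      rw [Subgroup.inf_relIndex_right, Subgroup.inf_relIndex_right, h1, h2] at hmul
      have hpos : 0 < n - 1 := by omega
      exact Nat.eq_of_mul_eq_mul_right hpos (by rw [one_mul]; exact hmul)
    have hle' : D ⊓ H ≤ stabilizer G β ⊓ H := Subgroup.relIndex_eq_one.mp hrel
    have : g ∈ stabilizer G β ⊓ H := hle' (Subgroup.mem_inf.mpr ⟨hgD, hgω⟩)
    exact (Subgroup.mem_inf.mp this).1
  -- |D| = n
  have hstabD : stabilizer D ω = ⊥ := by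
    rw [Subgroup.eq_bot_iff_forall]
    intro d hd
    have : (d : G) = 1 := hDH d d.2 hd
    exact Subtype.ext this
  have hcardD : Nat.card D = n := by
    have := index_stabilizer_of_transitive D ω
    rw [hstabD, Subgroup.index_bot] at this
    exact this
  -- all nonidentity elements of D are conjugate under H
  have hconj : ∀ d d' : G, d ∈ D → d' ∈ D → d ≠ 1 → d' ≠ 1 → orderOf d = orderOf d' := by
    intro d d' hd hd' hd1 hd1'
    have hdω : d • ω ≠ ω := fun h => hd1 (hDH d hd h)
    have hdω' : d' • ω ≠ ω := fun h => hd1' (hDH d' hd' h)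
    obtain ⟨h, hh⟩ := horb (d • ω) hdω (d' • ω) hdω'
    have hh' : (h : G) • d • ω = d' • ω := hh
    have hhω : (h : G) • ω = ω := h.2
    have hconjD : (h : G) * d * (h : G)⁻¹ ∈ D := hDn.conj_mem d hd h
    have : ((d')⁻¹ * ((h : G) * d * (h : G)⁻¹)) • ω = ω := by
      have hinv : (h : G)⁻¹ • ω = ω := by
        rw [inv_smul_eq_iff, hhω]
      rw [mul_smul, mul_smul, mul_smul, hinv, hh', inv_smul_smul]
    have h1 := hDH _ (D.mul_mem (D.inv_mem hd') hconjD) this
    have heq : (h : G) * d * (h : G)⁻¹ = d' := by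
      have := inv_mul_eq_one.mp h1
      exact this.symm
    rw [← heq]
    have : (h : G) * d * (h : G)⁻¹ = MulAut.conj (h : G) d := by simp [MulAut.conj_apply]
    rw [this, MulEquiv.orderOf_eq]
  -- pick a prime p dividing n
  obtain ⟨p, hp, hpn⟩ := Nat.exists_prime_and_dvd (show n ≠ 1 by omega)
  have : Fact p.Prime := ⟨hp⟩
  obtain ⟨d₀, hd₀⟩ := exists_prime_orderOf_dvd_card' (G := D) p (by rw [hcardD]; exact hpn)
  have hd₀1 : (d₀ : G) ≠ 1 := by
    intro h
    have : d₀ = 1 := Subtype.ext h
    rw [this, orderOf_one] at hd₀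
    exact hp.ne_one hd₀.symm
  have hd₀' : orderOf (d₀ : G) = p := by rw [Subgroup.orderOf_coe]; exact hd₀
  have hpg : IsPGroup p D := by
    intro d
    by_cases hd1 : (d : G) = 1
    · have hd1' : d = 1 := Subtype.ext hd1
      exact ⟨0, by simp [hd1']⟩
    · refine ⟨1, ?_⟩
      have ho : orderOf (d : G) = p := by
        rw [hconj d d₀ d.2 d₀.2 hd1 hd₀1, hd₀']
      rw [pow_one]
      apply Subtype.ext
      rw [Subgroup.coe_pow, Subgroup.coe_one, ← ho, pow_orderOf_eq_one]
  obtain ⟨e, he⟩ := hpg.exists_card_eq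
  rw [hcardD] at he
  rw [he]
  have he0 : e ≠ 0 := by
    intro h0
    rw [h0, pow_zero] at he
    omega
  exact hp.isPrimePow.pow he0

/-- For a transitive group of degree `n ≥ 2` the derangements generate a subgroup of index dividing
`n − 1`, with equality only when `n` is a prime power. -/
theorem result {G Ω : Type*} [Group G] [Finite G] [MulAction G Ω] [FaithfulSMul G Ω] [Finite Ω]
    (htrans : MulAction.IsPretransitive G Ω) (hΩ : 2 ≤ Nat.card Ω) :
    (Subgroup.closure {g : G | ∀ ω : Ω, g • ω ≠ ω}).index ∣ Nat.card Ω - 1 ∧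
    ((Subgroup.closure {g : G | ∀ ω : Ω, g • ω ≠ ω}).index = Nat.card Ω - 1 → IsPrimePow (Nat.card Ω)) := by
  have hne : Nonempty Ω := by
    by_contra h
    rw [not_nonempty_iff] at h
    simp [Nat.card_of_isEmpty] at hΩ
  exact ⟨index_dvd_card_sub_one, fun h => isPrimePow_of_index_eq hΩ h⟩

end Cfsg.Agent.S3548
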