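import Cfsg.Statements.S3549
import Cfsg.Agent.Helper59.DerangementIndex

set_option autoImplicit false
open Cfsg

namespace Cfsg.Agent.S3549

open MulAction Cfsg.Agent.Helper59
open scoped Pointwise

/-- In an imprimitive transitive group of degree n the derangements generate a subgroup of index at
most √n − 1. -/
theorem result {G Ω : Type*} [Group G] [Finite G] [MulAction G Ω] [FaithfulSMul G Ω] [Finite Ω]
    (htrans : MulAction.IsPretransitive G Ω) (himp : ¬ MulAction.IsPreprimitive G Ω) :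
    ((Subgroup.closure {g : G | ∀ ω : Ω, g • ω ≠ ω}).index : ℝ) ≤ Real.sqrt (Nat.card Ω) - 1 := by
  classical
  change ((derSub G Ω).index : ℝ) ≤ Real.sqrt (Nat.card Ω) - 1
  -- a nontrivial block
  have hex : ∃ B : Set Ω, IsBlock G B ∧ ¬ IsTrivialBlock B := by
    by_contra hcon
    push Not at hcon
    exact himp { htrans with isTrivialBlock_of_isBlock := fun {B} hB => hcon B hB }
  obtain ⟨B, hB, hBt⟩ := hex
  rw [IsTrivialBlock, not_or] at hBt
  obtain ⟨hBs, hBu⟩ := hBt
  rw [Set.not_subsingleton_iff] at hBs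
  obtain ⟨ω, hω⟩ := hBs.nonempty
  have hne : Nonempty Ω := ⟨ω⟩
  set k := (derSub G Ω).index with hk
  set n := Nat.card Ω with hn
  set b := B.ncard with hb
  set m := (orbit G B).ncard with hm
  have hbm : b * m = n := hB.ncard_block_mul_ncard_orbit_eq ⟨ω, hω⟩
  have hb2 : 2 ≤ b := by
    rw [hb]
    exact Set.one_lt_ncard_iff_nontrivial.mpr hBs
  have hbn : b < n := by
    rw [hb, hn, ← Set.ncard_univ]
    apply Set.ncard_lt_ncard _ (Set.toFinite _)
    exact Set.ssubset_univ_iff.mpr hBu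
  have hm2 : 2 ≤ m := by
    by_contra hcon
    have : m = 0 ∨ m = 1 := by omega
    rcases this with h | h
    · rw [h, mul_zero] at hbm; omega
    · rw [h, mul_one] at hbm; omega
  -- divisibilities
  have hk1 : k ∣ b - 1 := by
    have := index_dvd_card_sub_one_of_invariant (G := G) ω B hω (by
      intro g hg x hx
      have hgB : g • B = B := hB.smul_eq_of_mem hω (by rw [mem_stabilizer_iff.mp hg]; exact hω)
      rw [← hgB]
      exact Set.smul_mem_smul_set hx)
    rwa [Nat.card_coe_set_eq] at this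
  have hk2 : k ∣ n - 1 := index_dvd_card_sub_one
  have hk3 : k ∣ m - 1 := by
    have h1 : n - 1 = m * (b - 1) + (m - 1) := by
      have aux : ∀ b m n : ℕ, b * m = n → 2 ≤ b → 2 ≤ m → n - 1 = m * (b - 1) + (m - 1) := by
        intro b m n hbm hb2 hm2
        obtain ⟨b', rfl⟩ : ∃ b', b = b' + 1 := ⟨b - 1, by omega⟩
        obtain ⟨m', rfl⟩ : ∃ m', m = m' + 1 := ⟨m - 1, by omega⟩
        rw [← hbm]
        simp only [Nat.add_sub_cancel]
        have : (b' + 1) * (m' + 1) = (m' + 1) * b' + m' + 1 := by ring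
        omega
      exact aux b m n hbm hb2 hm2
    rw [h1] at hk2
    exact (Nat.dvd_add_right (Dvd.dvd.mul_left hk1 m)).mp hk2
  have hkb : k + 1 ≤ b := by
    have := Nat.le_of_dvd (by omega) hk1
    omega
  have hkm : k + 1 ≤ m := by
    have := Nat.le_of_dvd (by omega) hk3
    omega
  have hsq : (k + 1) * (k + 1) ≤ n := by
    rw [← hbm]
    exact Nat.mul_le_mul hkb hkm
  have hreal : ((k : ℝ) + 1) ≤ Real.sqrt (n : ℝ) := by
    apply Real.le_sqrt_of_sq_le
    have : (((k + 1) * (k + 1) : ℕ) : ℝ) ≤ (n : ℝ) := by exact_mod_cast hsq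
    calc ((k : ℝ) + 1) ^ 2 = (((k + 1) * (k + 1) : ℕ) : ℝ) := by push_cast; ring
      _ ≤ n := this
  linarith

end Cfsg.Agent.S3549
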