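import Cfsg.Statements.S3554

set_option autoImplicit false
open Cfsg

namespace Cfsg.Agent.S3554

/-- A transitive permutation group with a non-trivial cyclic normal subgroup has a fixed-point-free
element of prime order. -/
theorem result {G Ω : Type*} [Group G] [Finite G] [MulAction G Ω] [FaithfulSMul G Ω] [Finite Ω]
    (htrans : MulAction.IsPretransitive G Ω) (C : Subgroup G) (hC : C.Normal) (hC1 : C ≠ ⊥) (hcyc : IsCyclic ↥C) :
    ∃ g : G, (orderOf g).Prime ∧ ∀ ω : Ω, g • ω ≠ ω := by
  classical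
  obtain ⟨c, hc⟩ := hcyc.exists_generator
  -- order of c
  set m := orderOf (c : G) with hm
  have hmpos : 0 < m := orderOf_pos _
  have hm1 : m ≠ 1 := by
    intro h1
    have hc1 : (c : G) = 1 := orderOf_eq_one_iff.mp h1
    apply hC1
    rw [Subgroup.eq_bot_iff_forall]
    intro x hx
    obtain ⟨k, hk⟩ := Subgroup.mem_zpowers_iff.mp (hc ⟨x, hx⟩)
    have : (x : G) = (c : G) ^ k := by
      have := congrArg (fun y : C => (y : G)) hk
      simpa using this.symm
    rw [this, hc1, one_zpow]
  set p := m.minFac with hp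
  have hpp : p.Prime := Nat.minFac_prime hm1
  have hpm : p ∣ m := Nat.minFac_dvd m
  obtain ⟨d, hd⟩ := hpm
  have hdpos : 0 < d := by
    rcases Nat.eq_zero_or_pos d with h | h
    · rw [h, mul_zero] at hd; omega
    · exact h
  set g : G := (c : G) ^ d with hg
  have hgord : orderOf g = p := by
    rw [hg, orderOf_pow_of_dvd hdpos.ne' ⟨p, by rw [← hm, hd, mul_comm]⟩, ← hm, hd]
    exact Nat.mul_div_cancel _ hdpos
  refine ⟨g, by rw [hgord]; exact hpp, ?_⟩
  intro ω hω
  -- g fixes every point
  have hall : ∀ ω' : Ω, g • ω' = ω' := by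
    intro ω'
    obtain ⟨h, rfl⟩ := MulAction.exists_smul_eq G ω ω'
    -- h⁻¹ g h ∈ C
    have hgC : g ∈ C := by rw [hg]; exact C.pow_mem c.2 d
    have hconjC : h⁻¹ * g * h ∈ C := by
      have := hC.conj_mem g hgC h⁻¹
      simpa using this
    obtain ⟨i, hi⟩ := Subgroup.mem_zpowers_iff.mp (hc ⟨_, hconjC⟩)
    have hi' : (c : G) ^ i = h⁻¹ * g * h := by
      have := congrArg (fun y : C => (y : G)) hi
      simpa using this
    -- (h⁻¹ g h)^p = 1
    have hpow : (h⁻¹ * g * h) ^ p = 1 := by
      have : (h⁻¹ * g * h) ^ p = h⁻¹ * g ^ p * h := by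
        have := conj_pow (a := h⁻¹) (b := g) (i := p)
        simpa using this
      rw [this, ← hgord, pow_orderOf_eq_one]; simp
    have hdiv : (m : ℤ) ∣ i * p := by
      rw [hm]
      apply orderOf_dvd_iff_zpow_eq_one.mpr
      rw [zpow_mul, hi', zpow_natCast, hpow]
    have hdi : (d : ℤ) ∣ i := by
      rw [hd] at hdiv
      push_cast at hdiv
      have hp0 : (p : ℤ) ≠ 0 := by exact_mod_cast hpp.ne_zero
      rw [mul_comm i] at hdiv
      exact (mul_dvd_mul_iff_left hp0).mp hdiv
    obtain ⟨j, hj⟩ := hdi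
    have hconj : h⁻¹ * g * h = g ^ j := by
      rw [← hi', hj, zpow_mul, zpow_natCast]
    have hfix : (h⁻¹ * g * h) • ω = ω := by
      rw [hconj]
      have : g ∈ MulAction.stabilizer G ω := hω
      exact (MulAction.stabilizer G ω).zpow_mem this j
    calc g • h • ω = h • (h⁻¹ * g * h) • ω := by
          simp [mul_smul]
      _ = h • ω := by rw [hfix]
  have hg1 : g = 1 := by
    apply FaithfulSMul.eq_of_smul_eq_smul (α := Ω)
    intro a
    rw [hall a, one_smul]
  rw [hg1, orderOf_one] at hgord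
  exact hpp.ne_one hgord.symm

end Cfsg.Agent.S3554
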