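import Cfsg.Statements.S3555
import Cfsg.Agent.Helper59.Derangement

set_option autoImplicit false
open Cfsg
set_option linter.unusedSectionVars false

namespace Cfsg.Agent.S3555

open MulAction Cfsg.Agent.Helper59

section Count

variable {G Ω : Type*} [Group G] [Fintype G] [DecidableEq G] [MulAction G Ω] [Fintype Ω]
  [DecidableEq Ω]

/-- number of fixed points as a finset cardinality -/
def fixc (g : G) : ℕ := (Finset.univ.filter (fun ω : Ω => g • ω = ω)).card

theorem fixc_eq_natCard (g : G) : fixc (Ω := Ω) g = Nat.card (fixedBy Ω g) := by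
  unfold fixc
  rw [Nat.card_eq_fintype_card, ← Fintype.card_subtype]
  rfl

/-- (I_α): the number of derangements is at most `∑_{g ∈ G_α} (fix g - 1)` when all derangements are
involutions. -/
theorem card_der_le (hinv : ∀ g : G, (∀ ω : Ω, g • ω ≠ ω) → g * g = 1) (α : Ω) :
    (Finset.univ.filter (fun g : G => ∀ ω : Ω, g • ω ≠ ω)).card ≤
      ∑ g : G, if g • α = α then fixc (Ω := Ω) g - 1 else 0 := by
  set D := Finset.univ.filter (fun g : G => ∀ ω : Ω, g • ω ≠ ω) with hD
  -- partition by the image of α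
  have h1 : D.card = ∑ β : Ω, (D.filter (fun t => t • α = β)).card :=
    Finset.card_eq_sum_card_fiberwise (f := fun t : G => t • α) (t := Finset.univ)
      (fun _ _ => Finset.mem_univ _)
  -- bound each fibre
  have h2 : ∀ β : Ω, (D.filter (fun t => t • α = β)).card ≤
      if β = α then 0 else (Finset.univ.filter (fun g : G => g • α = α ∧ g • β = β)).card := by
    intro β
    split_ifs with hβ
    · subst hβ
      rw [Nat.le_zero, Finset.card_eq_zero, Finset.filter_eq_empty_iff]
      intro t ht
      rw [hD, Finset.mem_filter] at ht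
      exact ht.2 β
    · rcases Finset.eq_empty_or_nonempty (D.filter (fun t => t • α = β)) with he | ⟨t₀, ht₀⟩
      · rw [he]; simp
      · rw [Finset.mem_filter, hD, Finset.mem_filter] at ht₀
        obtain ⟨⟨_, ht₀D⟩, ht₀α⟩ := ht₀
        have ht₀2 : t₀ * t₀ = 1 := hinv t₀ ht₀D
        have ht₀β : t₀ • β = α := by
          rw [← ht₀α, ← mul_smul, ht₀2, one_smul]
        apply Finset.card_le_card_of_injOn (fun t => t₀⁻¹ * t)
        · intro t ht
          rw [Finset.mem_coe, Finset.mem_filter, Finset.mem_filter] at ht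
          obtain ⟨⟨_, htD⟩, htα⟩ := ht
          have ht2 : t * t = 1 := hinv t htD
          have htβ : t • β = α := by rw [← htα, ← mul_smul, ht2, one_smul]
          rw [Finset.mem_coe, Finset.mem_filter]
          refine ⟨Finset.mem_univ _, ?_, ?_⟩
          · rw [mul_smul, htα, inv_smul_eq_iff, ht₀α]
          · rw [mul_smul, htβ, inv_smul_eq_iff, ht₀β]
        · intro t _ t' _ h
          exact mul_left_cancel h
  -- double counting
  have h3 : ∑ β : Ω, (if β = α then 0 else
      (Finset.univ.filter (fun g : G => g • α = α ∧ g • β = β)).card) =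
      ∑ g : G, if g • α = α then fixc (Ω := Ω) g - 1 else 0 := by
    have hl : ∀ β : Ω, (if β = α then 0 else
        (Finset.univ.filter (fun g : G => g • α = α ∧ g • β = β)).card) =
        ∑ g : G, if (β ≠ α ∧ g • α = α ∧ g • β = β) then 1 else 0 := by
      intro β
      split_ifs with hβ
      · simp [hβ]
      · rw [Finset.card_filter]
        apply Finset.sum_congr rfl
        intro g _
        simp [hβ]
    have hr : ∀ g : G, (if g • α = α then fixc (Ω := Ω) g - 1 else 0) =
        ∑ β : Ω, if (β ≠ α ∧ g • α = α ∧ g • β = β) then 1 else 0 := by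
      intro g
      split_ifs with hg
      · unfold fixc
        rw [← Finset.card_filter]
        have : Finset.univ.filter (fun β : Ω => β ≠ α ∧ g • α = α ∧ g • β = β) =
            (Finset.univ.filter (fun ω : Ω => g • ω = ω)).erase α := by
          ext β
          simp only [Finset.mem_filter, Finset.mem_univ, true_and, Finset.mem_erase]
          tauto
        rw [this, Finset.card_erase_of_mem]
        simp [hg]
      · symm
        apply Finset.sum_eq_zero
        intro β _
        simp [hg]
    rw [Finset.sum_congr rfl (fun β _ => hl β), Finset.sum_congr rfl (fun g _ => hr g)]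
    exact Finset.sum_comm
  calc D.card = ∑ β : Ω, (D.filter (fun t => t • α = β)).card := h1
    _ ≤ ∑ β : Ω, (if β = α then 0 else
          (Finset.univ.filter (fun g : G => g • α = α ∧ g • β = β)).card) :=
        Finset.sum_le_sum (fun β _ => h2 β)
    _ = _ := h3


/-- (I): `n * #Δ ≤ ∑_g fix g * (fix g - 1)`. -/
theorem card_mul_card_der_le (hinv : ∀ g : G, (∀ ω : Ω, g • ω ≠ ω) → g * g = 1) :
    Fintype.card Ω * (Finset.univ.filter (fun g : G => ∀ ω : Ω, g • ω ≠ ω)).card ≤
      ∑ g : G, fixc (Ω := Ω) g * (fixc (Ω := Ω) g - 1) := by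
  set D := Finset.univ.filter (fun g : G => ∀ ω : Ω, g • ω ≠ ω) with hD
  calc Fintype.card Ω * D.card = ∑ _α : Ω, D.card := by
        rw [Finset.sum_const, Finset.card_univ, smul_eq_mul]
    _ ≤ ∑ α : Ω, ∑ g : G, (if g • α = α then fixc (Ω := Ω) g - 1 else 0) :=
        Finset.sum_le_sum (fun α _ => card_der_le hinv α)
    _ = ∑ g : G, ∑ α : Ω, (if g • α = α then fixc (Ω := Ω) g - 1 else 0) := Finset.sum_comm
    _ = ∑ g : G, fixc (Ω := Ω) g * (fixc (Ω := Ω) g - 1) := by
        apply Finset.sum_congr rfl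
        intro g _
        rw [← Finset.sum_filter, Finset.sum_const, smul_eq_mul]
        rfl

/-- The Frobenius property from "all derangements are involutions". -/
theorem frobenius_property [FaithfulSMul G Ω] [IsPretransitive G Ω]
    (hinv : ∀ g : G, (∀ ω : Ω, g • ω ≠ ω) → g * g = 1) :
    ∀ g : G, g ≠ 1 → ∀ α β : Ω, g • α = α → g • β = β → α = β := by
  intro g hg α β hα hβ
  have hne : Nonempty Ω := ⟨α⟩
  set D := Finset.univ.filter (fun g : G => ∀ ω : Ω, g • ω ≠ ω) with hD
  set n := Fintype.card Ω with hn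
  -- Burnside
  have hB : ∑ g : G, fixc (Ω := Ω) g = Fintype.card G := by
    have := burnside_natCard G Ω
    have h1 : Nat.card (orbitRel.Quotient G Ω) = 1 := by
      have h := (pretransitive_iff_unique_quotient_of_nonempty G Ω).mp inferInstance
      obtain ⟨u⟩ := h
      exact Nat.card_unique
    rw [h1, one_mul, Nat.card_eq_fintype_card] at this
    rw [← this]
    exact Finset.sum_congr rfl (fun g _ => fixc_eq_natCard g)
  have hI := card_mul_card_der_le (G := G) (Ω := Ω) hinv
  rw [← hD, ← hn] at hI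
  -- facts on fixc
  have hfD : ∀ g ∈ D, fixc (Ω := Ω) g = 0 := by
    intro g hg
    rw [hD, Finset.mem_filter] at hg
    unfold fixc
    rw [Finset.card_eq_zero, Finset.filter_eq_empty_iff]
    intro ω _
    exact hg.2 ω
  have hfnD : ∀ g ∉ D, 1 ≤ fixc (Ω := Ω) g := by
    intro g hg
    rw [hD, Finset.mem_filter] at hg
    push Not at hg
    obtain ⟨ω, hω⟩ := hg (Finset.mem_univ _)
    unfold fixc
    exact Finset.card_pos.mpr ⟨ω, by simp [hω]⟩
  have hfle : ∀ g : G, fixc (Ω := Ω) g ≤ n := by
    intro g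
    unfold fixc
    exact Finset.card_le_univ _
  -- split sums
  have hsplit1 : ∑ g : G, fixc (Ω := Ω) g = ∑ g ∈ Dᶜ, fixc (Ω := Ω) g := by
    rw [← Finset.sum_add_sum_compl D, Finset.sum_eq_zero hfD, zero_add]
  have hsplit2 : ∑ g : G, fixc (Ω := Ω) g * (fixc (Ω := Ω) g - 1) =
      ∑ g ∈ Dᶜ, fixc (Ω := Ω) g * (fixc (Ω := Ω) g - 1) := by
    rw [← Finset.sum_add_sum_compl D, Finset.sum_eq_zero (fun g hg => by rw [hfD g hg, zero_mul]),
      zero_add]
  -- #Δ = ∑_{g ∉ Δ} (fix g - 1)
  have hcardD : D.card = ∑ g ∈ Dᶜ, (fixc (Ω := Ω) g - 1) := by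
    have h1 : ∑ g ∈ Dᶜ, fixc (Ω := Ω) g = ∑ g ∈ Dᶜ, (fixc (Ω := Ω) g - 1) + Dᶜ.card := by
      rw [Finset.card_eq_sum_ones, ← Finset.sum_add_distrib]
      apply Finset.sum_congr rfl
      intro g hg
      have := hfnD g (Finset.mem_compl.mp hg)
      omega
    have h2 : D.card + Dᶜ.card = Fintype.card G := by
      rw [Finset.card_add_card_compl]
    omega
  -- termwise comparison
  have hle : ∀ g ∈ Dᶜ, fixc (Ω := Ω) g * (fixc (Ω := Ω) g - 1) ≤ n * (fixc (Ω := Ω) g - 1) :=
    fun g _ => Nat.mul_le_mul_right _ (hfle g)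
  have hsum : ∑ g ∈ Dᶜ, n * (fixc (Ω := Ω) g - 1) ≤
      ∑ g ∈ Dᶜ, fixc (Ω := Ω) g * (fixc (Ω := Ω) g - 1) := by
    rw [← Finset.mul_sum, ← hcardD, ← hsplit2]
    exact hI
  have heq : ∑ g ∈ Dᶜ, fixc (Ω := Ω) g * (fixc (Ω := Ω) g - 1) =
      ∑ g ∈ Dᶜ, n * (fixc (Ω := Ω) g - 1) :=
    le_antisymm (Finset.sum_le_sum hle) hsum
  have hall := (Finset.sum_eq_sum_iff_of_le hle).mp heq
  -- apply to g
  have hgD : g ∈ Dᶜ := by
    rw [Finset.mem_compl, hD, Finset.mem_filter]
    push Not
    intro _
    exact ⟨α, hα⟩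
  have hg' := hall g hgD
  by_contra hαβ
  have h2 : 2 ≤ fixc (Ω := Ω) g := by
    unfold fixc
    have : ({α, β} : Finset Ω) ⊆ Finset.univ.filter (fun ω : Ω => g • ω = ω) := by
      intro x hx
      rw [Finset.mem_insert, Finset.mem_singleton] at hx
      rcases hx with rfl | rfl <;> simp [hα, hβ]
    calc 2 = ({α, β} : Finset Ω).card := (Finset.card_pair hαβ).symm
      _ ≤ _ := Finset.card_le_card this
  have hfn : fixc (Ω := Ω) g = n := by
    have hpos : 0 < fixc (Ω := Ω) g - 1 := by omega
    exact Nat.eq_of_mul_eq_mul_right hpos hg'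
  -- g fixes everything
  apply hg
  apply FaithfulSMul.eq_of_smul_eq_smul (α := Ω)
  intro ω
  rw [one_smul]
  have : Finset.univ.filter (fun ω : Ω => g • ω = ω) = Finset.univ := by
    apply Finset.eq_univ_of_card
    exact hfn
  have hω : ω ∈ Finset.univ.filter (fun ω : Ω => g • ω = ω) := by rw [this]; exact Finset.mem_univ _
  exact (Finset.mem_filter.mp hω).2

end Count


open scoped Pointwise

theorem mem_conj_smul_stabilizer {G Ω : Type*} [Group G] [MulAction G Ω] (g x : G) (ω : Ω) :
    x ∈ MulAut.conj g • stabilizer G ω ↔ x • g • ω = g • ω := by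
  rw [Subgroup.mem_pointwise_smul_iff_inv_smul_mem, mem_stabilizer_iff]
  have : (MulAut.conj g)⁻¹ • x = g⁻¹ * x * g := by
    simp [MulAut.smul_def, MulAut.conj_inv_apply]
  rw [this, mul_smul, mul_smul, inv_smul_eq_iff]

/-- A transitive permutation group all of whose derangements are involutions is an elementary
abelian 2-group or a Frobenius group with elementary abelian 2-group kernel. -/
theorem result {G Ω : Type*} [Group G] [Finite G] [MulAction G Ω] [FaithfulSMul G Ω] [Finite Ω]
    (htrans : MulAction.IsPretransitive G Ω) (hinv : ∀ g : G, (∀ ω : Ω, g • ω ≠ ω) → orderOf g = 2) :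
    (IsMulCommutative G ∧ ∀ g : G, g ^ 2 = 1) ∨
    (∃ H : Subgroup G, Cfsg.IsFrobeniusComplement H ∧
      (∀ x ∈ Cfsg.frobeniusKernel H, x ^ 2 = 1) ∧
      ∀ x ∈ Cfsg.frobeniusKernel H, ∀ y ∈ Cfsg.frobeniusKernel H, x * y = y * x) := by
  classical
  let _ : Fintype G := Fintype.ofFinite G
  let _ : Fintype Ω := Fintype.ofFinite Ω
  have hsq : ∀ g : G, (∀ ω : Ω, g • ω ≠ ω) → g ^ 2 = 1 := by
    intro g hg
    rw [← hinv g hg]; exact pow_orderOf_eq_one g
  have hinv' : ∀ g : G, (∀ ω : Ω, g • ω ≠ ω) → g * g = 1 := by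
    intro g hg
    rw [← pow_two]; exact hsq g hg
  have hF := frobenius_property (G := G) (Ω := Ω) hinv'
  rcases isEmpty_or_nonempty Ω with hΩ | ⟨⟨ω⟩⟩
  · exfalso
    have := hinv 1 (fun ω => (hΩ.false ω).elim)
    rw [orderOf_one] at this
    omega
  -- commutativity from squares
  have hcomm_of_sq : ∀ x y : G, x ^ 2 = 1 → y ^ 2 = 1 → (x * y) ^ 2 = 1 → x * y = y * x := by
    intro x y hx hy hxy
    have hx' : x⁻¹ = x := by
      rw [inv_eq_iff_mul_eq_one, ← pow_two]; exact hx
    have hy' : y⁻¹ = y := by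
      rw [inv_eq_iff_mul_eq_one, ← pow_two]; exact hy
    have : (x * y)⁻¹ = x * y := by
      rw [inv_eq_iff_mul_eq_one, ← pow_two]; exact hxy
    rw [mul_inv_rev, hx', hy'] at this
    exact this.symm
  set H := stabilizer G ω with hH
  by_cases hbot : H = ⊥
  · left
    have hall : ∀ g : G, g ^ 2 = 1 := by
      intro g
      by_cases hg1 : g = 1
      · rw [hg1, one_pow]
      · apply hsq
        intro α hα
        obtain ⟨x, rfl⟩ := MulAction.exists_smul_eq G ω α
        have : x⁻¹ * g * x ∈ H := by
          rw [hH, mem_stabilizer_iff, mul_smul, mul_smul, hα, inv_smul_smul]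
        rw [hbot, Subgroup.mem_bot] at this
        apply hg1
        have h2 : g = x * (x⁻¹ * g * x) * x⁻¹ := by group
        rw [h2, this]; group
    refine ⟨⟨⟨fun a b => ?_⟩⟩, hall⟩
    exact hcomm_of_sq a b (hall a) (hall b) (hall (a * b))
  · right
    refine ⟨H, ⟨hbot, ?_, ?_⟩, ?_, ?_⟩
    · intro htop
      apply hbot
      rw [Subgroup.eq_bot_iff_forall]
      intro g _
      apply FaithfulSMul.eq_of_smul_eq_smul (α := Ω)
      intro α
      rw [one_smul]
      obtain ⟨x, rfl⟩ := MulAction.exists_smul_eq G ω α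
      have : x⁻¹ * g * x ∈ H := by rw [htop]; exact Subgroup.mem_top _
      rw [hH, mem_stabilizer_iff, mul_smul, mul_smul, inv_smul_eq_iff] at this
      exact this
    · intro g hg
      rw [Subgroup.eq_bot_iff_forall]
      intro x hx
      rw [Subgroup.mem_inf] at hx
      obtain ⟨hx1, hx2⟩ := hx
      rw [hH, mem_conj_smul_stabilizer] at hx2
      by_contra hx1'
      have := hF x hx1' ω (g • ω) hx1 hx2
      apply hg
      rw [hH, mem_stabilizer_iff]
      exact this.symm
    · -- kernel elements square to one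
      intro x hx
      rcases hx with rfl | hx
      · exact one_pow 2
      · apply hsq
        intro α hα
        obtain ⟨g, rfl⟩ := MulAction.exists_smul_eq G ω α
        exact hx g ((mem_conj_smul_stabilizer g x ω).mpr hα)
    · intro x hx y hy
      have hder : ∀ x ∈ Cfsg.frobeniusKernel H, x = 1 ∨ ∀ α : Ω, x • α ≠ α := by
        intro x hx
        rcases hx with rfl | hx
        · exact Or.inl rfl
        · right
          intro α hα
          obtain ⟨g, rfl⟩ := MulAction.exists_smul_eq G ω α
          exact hx g ((mem_conj_smul_stabilizer g x ω).mpr hα)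
      rcases hder x hx with rfl | hxd
      · simp
      rcases hder y hy with rfl | hyd
      · simp
      have hx2 := hsq x hxd
      have hy2 := hsq y hyd
      apply hcomm_of_sq x y hx2 hy2
      by_cases hxy1 : x * y = 1
      · rw [hxy1, one_pow]
      apply hsq
      intro α hα
      -- x y α = α, so y α = x α
      have hx' : x * x = 1 := by rw [← pow_two]; exact hx2
      have hy' : y * y = 1 := by rw [← pow_two]; exact hy2
      have h1 : y • α = x • α := by
        have : x • (x * y) • α = x • α := by rw [hα]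
        rw [← mul_smul, ← mul_assoc, hx', one_mul] at this
        exact this
      have h2 : (x * y) • (y • α) = y • α := by
        rw [← mul_smul, mul_assoc, hy', mul_one, ← h1]
      have := hF (x * y) hxy1 α (y • α) hα h2
      exact hyd α this.symm

end Cfsg.Agent.S3555
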