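import Cfsg.Statements.S3556
import Cfsg.Agent.Helper58.EPDer
import Cfsg.Agent.Helper58.EPBasic
import Cfsg.Agent.Helper58.PrimNormal

set_option autoImplicit false
open Cfsg

namespace Cfsg.Agent.S3556

open MulAction Cfsg.Agent.Helper58 Cfsg.Agent.Helper58.UDer Cfsg.Agent.Helper58.EP

theorem prime_eq_of_eq_pow {p q k : ℕ} (hp : p.Prime) (hq : q.Prime) (h : q = p ^ k) : q = p := by
  have hk : k ≠ 0 := by
    rintro rfl
    rw [pow_zero] at h
    exact hq.one_lt.ne' h
  have hd : p ∣ q := by rw [h]; exact dvd_pow_self p hk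
  exact ((Nat.prime_dvd_prime_iff_eq hp hq).1 hd).symm

/-- a subgroup all of whose elements have `p`-power order, inside a `Ctx`, is impossible -/
theorem pgroup_false {G : Type*} [Group G] [Finite G] {N T : Subgroup G} [N.Normal] (h : Ctx N T)
    (hminN : ∀ M : Subgroup G, M.Normal → M ≤ N → M = ⊥ ∨ M = N)
    (hna : ¬ ∀ a ∈ N, ∀ b ∈ N, a * b = b * a) (p : ℕ) (hp : p.Prime)
    (hpg : ∀ t ∈ T, t ≠ 1 → ∃ k : ℕ, orderOf t = p ^ k) : False := by
  obtain ⟨y, hy, q, hq, hqp, hyo⟩ := h.not_pgroup hminN hna p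
  have hy1 : y ≠ 1 := by
    rintro rfl; rw [orderOf_one] at hyo; exact hq.one_lt.ne hyo
  obtain ⟨k, hk⟩ := hpg y hy hy1
  rw [hyo] at hk
  exact hqp (prime_eq_of_eq_pow hp hq hk)

/-- Let G act faithfully and primitively on a finite set with at least two points, and suppose that for some fixed prime p every element of G fixing no point has order a power of p. Then G is of affine type (it has a regular normal subgroup that is an elementary abelian r-group for some prime r) or almost simple (it has a non-abelian simple normal subgroup with trivial centralizer). -/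
theorem result {G Ω : Type*} [Group G] [Finite G] [MulAction G Ω] [FaithfulSMul G Ω] [Finite Ω]
    (hprim : MulAction.IsPreprimitive G Ω) (hΩ : 2 ≤ Nat.card Ω) (p : ℕ) (hp : p.Prime)
    (hder : ∀ g : G, (∀ ω : Ω, g • ω ≠ ω) → ∃ k : ℕ, orderOf g = p ^ k) :
    (∃ (N : Subgroup G) (r : ℕ), r.Prime ∧ N.Normal ∧ Cfsg.IsElementaryAbelian r N ∧
      MulAction.IsPretransitive N Ω ∧ ∀ a : Ω, MulAction.stabilizer N a = ⊥) ∨
    (∃ T : Subgroup G, T.Normal ∧ IsSimpleGroup ↥T ∧ ¬ IsMulCommutative ↥T ∧
      Subgroup.centralizer (T : Set G) = ⊥) := by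
  have hnt : Nontrivial Ω := by
    rw [← Finite.one_lt_card_iff_nontrivial]; omega
  obtain ⟨a, b, hab⟩ := exists_pair_ne Ω
  have : Nontrivial G := by
    obtain ⟨g, hg⟩ := hprim.toIsPretransitive.exists_smul_eq a b
    refine ⟨⟨g, 1, ?_⟩⟩
    rintro rfl
    rw [one_smul] at hg
    exact hab hg
  obtain ⟨N, hNn, hN1, hminN⟩ := exists_minNormal (G := G)
  have := hNn
  have htr := normal_trans hprim N hN1
  by_cases hcomm : ∀ a ∈ N, ∀ b ∈ N, a * b = b * a
  · left
    -- a prime dividing the order of N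
    have hNnt : Nontrivial N := (Subgroup.nontrivial_iff_ne_bot N).2 hN1
    have hcard : 1 < Nat.card N := Finite.one_lt_card
    obtain ⟨r, hr, hrd⟩ := Nat.exists_prime_and_dvd (show Nat.card N ≠ 1 by omega)
    have : Fact r.Prime := ⟨hr⟩
    obtain ⟨x, hx⟩ := exists_prime_orderOf_dvd_card' (G := N) r hrd
    let E : Subgroup G :=
      { carrier := {a | a ∈ N ∧ a ^ r = 1}
        one_mem' := ⟨N.one_mem, one_pow r⟩
        mul_mem' := by
          rintro a b ⟨ha, har⟩ ⟨hb, hbr⟩
          exact ⟨N.mul_mem ha hb, by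
            rw [(show Commute a b from hcomm a ha b hb).mul_pow, har, hbr, one_mul]⟩
        inv_mem' := by
          rintro a ⟨ha, har⟩
          exact ⟨N.inv_mem ha, by rw [inv_pow, har, inv_one]⟩ }
    have hEn : E.Normal := ⟨fun a ha g => ⟨hNn.conj_mem a ha.1 g, by
      rw [conj_pow, ha.2]; group⟩⟩
    have hEN : E ≤ N := fun a ha => ha.1
    have hE1 : E ≠ ⊥ := by
      intro hb
      have hxE : (x : G) ∈ E := by
        refine ⟨x.2, ?_⟩
        rw [← hx, ← Subgroup.orderOf_coe]
        exact pow_orderOf_eq_one _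
      rw [hb, Subgroup.mem_bot] at hxE
      have : x = 1 := Subtype.ext hxE
      rw [this, orderOf_one] at hx
      exact hr.one_lt.ne hx
    have hEeq : E = N := by
      rcases hminN E hEn hEN with h0 | h0
      · exact absurd h0 hE1
      · exact h0
    refine ⟨N, r, hr, hNn, ⟨⟨⟨fun x y => Subtype.ext (hcomm x x.2 y y.2)⟩⟩, fun a ha => ?_⟩,
      ⟨fun x y => ?_⟩, fun ω => ?_⟩
    · have : a ∈ E := hEeq ▸ ha
      exact this.2
    · obtain ⟨n, hn, hnx⟩ := htr x y
      exact ⟨⟨n, hn⟩, hnx⟩
    · rw [Subgroup.eq_bot_iff_forall]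
      intro x hx
      apply Subtype.ext
      rw [mem_stabilizer_iff] at hx
      exact abelian_normal_free hprim N hN1 hcomm x.2 hx
  · right
    by_contra hcon
    obtain ⟨T, hctx⟩ := exists_ctx N hN1
    by_cases hall : ∀ g : G, cj g T = T
    · have hTnorm : T.Normal := ⟨fun t ht g => by
        have := conj_mem_cj (g := g) ht
        rwa [hall g] at this⟩
      have hTN : T = N := by
        rcases hminN T hTnorm hctx.hTN with h0 | h0
        · exact absurd h0 hctx.hT1
        · exact h0
      subst hTN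
      have hnc : ¬ IsMulCommutative T := by
        intro hc
        apply hcomm
        intro a ha b hb
        have := hc.is_comm.comm (⟨a, ha⟩ : T) ⟨b, hb⟩
        exact congrArg Subtype.val this
      have hC : Subgroup.centralizer (T : Set G) ≠ ⊥ :=
        fun hC => hcon ⟨T, hNn, hctx.isSimpleGroup, hnc, hC⟩
      have htrC := normal_trans hprim (Subgroup.centralizer (T : Set G)) hC
      apply pgroup_false hctx hminN hcomm p hp
      intro t ht ht1
      apply hder
      intro ω hω
      apply ht1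
      apply FaithfulSMul.eq_of_smul_eq_smul (α := Ω)
      intro ω'
      obtain ⟨c, hc, rfl⟩ := htrC ω ω'
      have hct := Subgroup.mem_centralizer_iff.1 hc t ht
      rw [one_smul, ← mul_smul, hct, mul_smul, hω]
    · push Not at hall
      obtain ⟨g₀, hg₀⟩ := hall
      by_cases hB : ∃ ω : Ω, T ⊓ stabilizer G ω ≠ ⊥
      · obtain ⟨α, hα⟩ := hB
        obtain ⟨x, hxT, hxd⟩ := hctx.exists_der_coset hminN htr α hα
        obtain ⟨y, hy, q, hq, hqp, hyo⟩ := hctx.not_pgroup hminN hcomm p
        have hcC : g₀ * y * g₀⁻¹ ∈ cen N T := hctx.cj_le_cen hg₀ (conj_mem_cj hy)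
        obtain ⟨k, hk⟩ := hder _ (hxd _ hcC)
        have hco : orderOf (g₀ * y * g₀⁻¹) = q := by
          have := (MulAut.conj g₀).orderOf_eq y
          rw [MulAut.conj_apply] at this
          rw [this, hyo]
        have hcomm' : Commute x (g₀ * y * g₀⁻¹) := (mem_cen.1 hcC).2 x hxT
        have h1 : (x * (g₀ * y * g₀⁻¹)) ^ (p ^ k) = 1 := by
          rw [← hk]; exact pow_orderOf_eq_one _
        rw [hcomm'.mul_pow] at h1
        have h2 : (g₀ * y * g₀⁻¹) ^ (p ^ k) ∈ T := by
          have : (g₀ * y * g₀⁻¹) ^ (p ^ k) = (x ^ (p ^ k))⁻¹ := eq_inv_of_mul_eq_one_right h1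
          rw [this]
          exact T.inv_mem (T.pow_mem hxT _)
        have h3 := hctx.inf_cen hminN hcomm h2 ((cen N T).pow_mem hcC _)
        have h4 : q ∣ p ^ k := by
          rw [← hco]; exact orderOf_dvd_of_pow_eq_one h3
        have h5 := (Nat.prime_dvd_prime_iff_eq hq hp).1 (hq.dvd_of_dvd_pow h4)
        exact hqp h5
      · push Not at hB
        apply pgroup_false hctx hminN hcomm p hp
        intro t ht ht1
        apply hder
        intro ω hω
        apply ht1
        have : t ∈ T ⊓ stabilizer G ω := Subgroup.mem_inf.2 ⟨ht, hω⟩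
        rwa [hB ω, Subgroup.mem_bot] at this

end Cfsg.Agent.S3556
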