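import Cfsg.Statements.S3557
import Cfsg.Agent.Helper59.PolyTwoA

set_option autoImplicit false
open Cfsg

namespace Cfsg.Agent.S3557

open MulAction

/-- Orbits of a Sylow `p`-subgroup of a transitive group have size divisible by the `p`-part of the
degree. -/
theorem sylow_orbit_dvd {G Ω : Type*} [Group G] [Finite G] [MulAction G Ω]
    [MulAction.IsPretransitive G Ω] [Finite Ω] {p : ℕ} [Fact p.Prime] (P : Sylow p G) (k : ℕ)
    (hk : p ^ k ∣ Nat.card Ω) (ω : Ω) : p ^ k ∣ (orbit P ω).ncard := by
  have hp : p.Prime := Fact.out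
  have hG0 : Nat.card G ≠ 0 := Nat.card_pos.ne'
  set n := (Nat.card G).factorization p with hn
  have hPcard : Nat.card P = p ^ n := P.card_eq_multiplicity
  have h1 : Nat.card (stabilizer P ω) * (orbit P ω).ncard = p ^ n := by
    rw [← index_stabilizer, Subgroup.card_mul_index, hPcard]
  have h2 : Nat.card (stabilizer G ω) * Nat.card Ω = Nat.card G := by
    rw [← index_stabilizer_of_transitive G ω, Subgroup.card_mul_index]
  -- the stabilizer in `P` embeds in the stabilizer in `G`
  have h3 : Nat.card (stabilizer P ω) ∣ Nat.card (stabilizer G ω) := by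
    let f : stabilizer P ω →* stabilizer G ω :=
      { toFun := fun g => ⟨((g : P) : G), by
          have := g.2
          rw [mem_stabilizer_iff] at this ⊢
          exact this⟩
        map_one' := rfl
        map_mul' := fun _ _ => rfl }
    apply Subgroup.card_dvd_of_injective f
    intro g h hgh
    have := congrArg (fun x : stabilizer G ω => (x : G)) hgh
    exact Subtype.ext (Subtype.ext this)
  obtain ⟨j, hjn, hj⟩ := (Nat.dvd_prime_pow hp).mp (Dvd.intro _ h1)
  have h4 : p ^ (j + k) ∣ Nat.card G := by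
    rw [pow_add, ← h2]
    exact Nat.mul_dvd_mul (hj ▸ h3) hk
  have h5 : j + k ≤ n := (hp.pow_dvd_iff_le_factorization hG0).mp h4
  rw [hj] at h1
  have h6 : (orbit P ω).ncard = p ^ (n - j) := by
    have : p ^ j * (orbit P ω).ncard = p ^ j * p ^ (n - j) := by
      rw [h1, ← pow_add]
      congr 1
      omega
    exact Nat.eq_of_mul_eq_mul_left (pow_pos hp.pos j) this
  rw [h6]
  exact pow_dvd_pow p (by omega)

/-- Let G act faithfully and transitively on a finite set with 2p² points, p a prime, and suppose G is 2-closed: every permutation of the set which, on each ordered pair of points, agrees with some element of G, is itself induced by an element of G. Then some element of G of prime order fixes no point. -/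
theorem result {G Ω : Type*} [Group G] [Finite G] [MulAction G Ω] [FaithfulSMul G Ω] [Finite Ω]
    (htrans : MulAction.IsPretransitive G Ω) (p : ℕ) (hp : p.Prime) (hcard : Nat.card Ω = 2 * p ^ 2)
    (hcl : ∀ σ : Equiv.Perm Ω, (∀ a b : Ω, ∃ g : G, σ a = g • a ∧ σ b = g • b) → ∃ g : G, ∀ a : Ω, σ a = g • a) :
    ∃ g : G, (orderOf g).Prime ∧ ∀ ω : Ω, g • ω ≠ ω := by
  classical
  haveI : Fact p.Prime := ⟨hp⟩
  have hp2 : 0 < p ^ 2 := pow_pos hp.pos 2
  haveI : Nonempty Ω := by
    apply Nat.card_pos_iff.mp (by rw [hcard]; positivity) |>.1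
  obtain ⟨P⟩ : Nonempty (Sylow p G) := inferInstance
  have hPg : IsPGroup p P := P.isPGroup'
  have hdvd : ∀ ω : Ω, p ^ 2 ∣ (orbit P ω).ncard :=
    sylow_orbit_dvd P 2 (by rw [hcard]; exact Dvd.intro_left 2 rfl)
  have hpos : ∀ ω : Ω, 0 < (orbit P ω).ncard := fun ω =>
    (Set.ncard_pos (Set.toFinite _)).mpr ⟨ω, mem_orbit_self ω⟩
  -- `P` is nontrivial
  haveI : Nontrivial P := by
    by_contra hnt
    rw [not_nontrivial_iff_subsingleton] at hnt
    obtain ⟨ω⟩ := ‹Nonempty Ω›
    have h1 : orbit P ω = {ω} := by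
      ext x
      constructor
      · rintro ⟨g, rfl⟩
        show g • ω ∈ ({ω} : Set Ω)
        rw [Subsingleton.elim g 1, one_smul]; rfl
      · rintro rfl; exact mem_orbit_self _
    have := hdvd ω
    rw [h1, Set.ncard_singleton] at this
    have := Nat.le_of_dvd one_pos this
    have : 1 < p ^ 2 := Nat.one_lt_pow (by norm_num) hp.one_lt
    omega
  -- a central element of order `p`
  haveI : Nontrivial (Subgroup.center P) := hPg.center_nontrivial
  have hcz : p ∣ Nat.card (Subgroup.center P) := by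
    rcases (hPg.to_subgroup (Subgroup.center P)).card_eq_or_dvd with h | h
    · exfalso
      have := (Nat.card_eq_one_iff_unique.mp h).1
      exact not_subsingleton _ this
    · exact h
  obtain ⟨z', hz'⟩ := exists_prime_orderOf_dvd_card' p hcz
  set z : P := (z' : P) with hz
  have hzord : orderOf z = p := by rw [hz, Subgroup.orderOf_coe, hz']
  have hzc : ∀ g : P, g * z = z * g := fun g => (Subgroup.mem_center_iff.mp z'.2) g
  have hzp : z ^ p = 1 := by
    have := pow_orderOf_eq_one z
    rwa [hzord] at this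
  by_cases hfix : ∀ ω : Ω, z • ω ≠ ω
  · refine ⟨(z : G), ?_, ?_⟩
    · rw [Subgroup.orderOf_coe, hzord]; exact hp
    · intro ω
      exact hfix ω
  · push Not at hfix
    obtain ⟨a₀, ha₀⟩ := hfix
    have hz1 : ∀ a ∈ orbit P a₀, z • a = a := by
      rintro a ⟨g, rfl⟩
      show z • g • a₀ = g • a₀
      rw [← mul_smul, ← hzc, mul_smul, ha₀]
    obtain ⟨b₀, hb₀⟩ : ∃ b₀ : Ω, z • b₀ ≠ b₀ := by
      by_contra hcon
      push Not at hcon
      have h1 : (z : G) = 1 := by
        apply eq_of_smul_eq_smul (α := Ω)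
        intro ω
        rw [one_smul]
        exact hcon ω
      have h2 : z = 1 := Subtype.ext h1
      rw [h2, orderOf_one] at hzord
      exact hp.one_lt.ne hzord
    have hz2 : ∀ b ∈ orbit P b₀, z • b ≠ b := by
      rintro b ⟨g, rfl⟩ h
      apply hb₀
      have h' : z • g • b₀ = g • b₀ := h
      rw [← mul_smul, ← hzc, mul_smul] at h'
      exact smul_left_cancel g h'
    have hdisj : Disjoint (orbit P a₀) (orbit P b₀) := by
      rw [Set.disjoint_left]
      intro x h1 h2
      exact hz2 x h2 (hz1 x h1)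
    have hunion : (orbit P a₀ ∪ orbit P b₀).ncard = (orbit P a₀).ncard + (orbit P b₀).ncard :=
      Set.ncard_union_eq hdisj (Set.toFinite _) (Set.toFinite _)
    have hle : (orbit P a₀ ∪ orbit P b₀).ncard ≤ 2 * p ^ 2 := by
      rw [← hcard]
      exact Set.ncard_le_card _
    obtain ⟨c₁, hc₁⟩ := hdvd a₀
    obtain ⟨c₂, hc₂⟩ := hdvd b₀
    have hc₁pos : 0 < c₁ := by
      rcases Nat.eq_zero_or_pos c₁ with h | h
      · have := hpos a₀; rw [hc₁, h, mul_zero] at this; omega
      · exact h
    have hc₂pos : 0 < c₂ := by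
      rcases Nat.eq_zero_or_pos c₂ with h | h
      · have := hpos b₀; rw [hc₂, h, mul_zero] at this; omega
      · exact h
    have hsum : p ^ 2 * (c₁ + c₂) ≤ p ^ 2 * 2 := by
      rw [mul_add, ← hc₁, ← hc₂, ← hunion, mul_comm (p ^ 2) 2]
      exact hle
    have hc12 : c₁ + c₂ ≤ 2 := Nat.le_of_mul_le_mul_left hsum hp2
    have hc₁1 : c₁ = 1 := by omega
    have hc₂1 : c₂ = 1 := by omega
    have h1 : (orbit P a₀).ncard = p ^ 2 := by rw [hc₁, hc₁1, mul_one]
    have h2 : (orbit P b₀).ncard = p ^ 2 := by rw [hc₂, hc₂1, mul_one]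
    have huniv : orbit P a₀ ∪ orbit P b₀ = Set.univ := by
      apply Set.eq_of_subset_of_ncard_le (Set.subset_univ _) _ (Set.toFinite _)
      rw [Set.ncard_univ, hcard, hunion, h1, h2]
      omega
    have hcover : ∀ ω, ω ∈ orbit P a₀ ∨ ω ∈ orbit P b₀ := by
      intro ω
      have : ω ∈ orbit P a₀ ∪ orbit P b₀ := by rw [huniv]; trivial
      exact this
    obtain ⟨σ, hσp, hσfix, hσloc⟩ :=
      Cfsg.Agent.Helper59.PolyTwo.exists_local_derangement hPg a₀ b₀ hcover h1 h2 z hzc hzp hz1 hz2
    obtain ⟨g, hg⟩ := hcl σ (by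
      intro a b
      obtain ⟨g', h1', h2'⟩ := hσloc a b
      exact ⟨(g' : G), h1', h2'⟩)
    have hgpow : ∀ (i : ℕ) (ω : Ω), (g ^ i) • ω = (σ ^ i) ω := by
      intro i
      induction i with
      | zero => intro ω; simp
      | succ i ih =>
        intro ω
        rw [pow_succ', mul_smul, ih, ← hg, pow_succ', Equiv.Perm.mul_apply]
    have hgp : g ^ p = 1 := by
      apply eq_of_smul_eq_smul (α := Ω)
      intro ω
      rw [hgpow, hσp, one_smul, Equiv.Perm.one_apply]
    have hg1 : g ≠ 1 := by
      rintro rfl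
      obtain ⟨ω⟩ := ‹Nonempty Ω›
      have := hg ω
      rw [one_smul] at this
      exact hσfix ω this
    refine ⟨g, ?_, ?_⟩
    · rw [orderOf_eq_prime hgp hg1]; exact hp
    · intro ω
      rw [← hg]
      exact hσfix ω

end Cfsg.Agent.S3557
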