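import Cfsg.Statements.S3560

set_option autoImplicit false
open Cfsg
set_option linter.unusedSectionVars false

namespace Cfsg.Agent.S3560

open MulAction
open scoped Pointwise

section Iso

variable {ι : Type*} [Fintype ι] {m : ℕ}

/-- Hamming isometries of `ι → Fin m`. -/
def IsIso (τ : Equiv.Perm (ι → Fin m)) : Prop :=
  ∀ x y, hammingDist (τ x) (τ y) = hammingDist x y

/-- coordinatewise permutation by a family -/
def piPerm (τ : ι → Equiv.Perm (Fin m)) : Equiv.Perm (ι → Fin m) := Equiv.piCongrRight τ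

@[simp] theorem piPerm_apply (τ : ι → Equiv.Perm (Fin m)) (x : ι → Fin m) (i : ι) :
    piPerm τ x i = τ i (x i) := rfl

theorem piPerm_isIso (τ : ι → Equiv.Perm (Fin m)) : IsIso (piPerm τ) := by
  intro x y
  exact hammingDist_comp (fun i => (τ i : Fin m → Fin m)) (fun i => (τ i).injective)

/-- permutation of coordinates -/
def reindex (π : Equiv.Perm ι) : Equiv.Perm (ι → Fin m) := Equiv.arrowCongr π (Equiv.refl _)

@[simp] theorem reindex_apply (π : Equiv.Perm ι) (x : ι → Fin m) (i : ι) :
    reindex π x i = x (π.symm i) := rfl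

theorem reindex_isIso (π : Equiv.Perm ι) : IsIso (reindex (m := m) π) := by
  intro x y
  unfold hammingDist
  apply Finset.card_bij (fun i _ => π.symm i)
  · intro i hi
    rw [Finset.mem_filter] at hi ⊢
    exact ⟨Finset.mem_univ _, by simpa using hi.2⟩
  · intro i _ j _ h
    exact π.symm.injective h
  · intro j hj
    rw [Finset.mem_filter] at hj
    refine ⟨π j, ?_, by simp⟩
    rw [Finset.mem_filter]
    exact ⟨Finset.mem_univ _, by simpa using hj.2⟩

theorem IsIso.mul {σ τ : Equiv.Perm (ι → Fin m)} (hσ : IsIso σ) (hτ : IsIso τ) : IsIso (σ * τ) := by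
  intro x y
  rw [Equiv.Perm.mul_apply, Equiv.Perm.mul_apply, hσ, hτ]

end Iso

section Key

variable {ι : Type*} [Fintype ι] [DecidableEq ι] {m : ℕ}

/-- The combinatorial heart: a set of points of `ι → Fin (m+3)` which contains the zero vector and
another point, and which is mapped into itself by every isometry that maps one of its points
into it, is everything. -/
theorem key (S : Set (ι → Fin (m + 3)))
    (hS : ∀ τ : Equiv.Perm (ι → Fin (m + 3)), IsIso τ → ∀ y ∈ S, τ y ∈ S → ∀ z ∈ S, τ z ∈ S)
    (h0 : (fun _ => 0) ∈ S) (b : ι → Fin (m + 3)) (hb : b ∈ S) (hb0 : b ≠ fun _ => 0) :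
    S = Set.univ := by
  classical
  set z : ι → Fin (m + 3) := fun _ => 0 with hz
  -- a coordinate where b is nonzero
  obtain ⟨i₀, hi₀⟩ : ∃ i₀, b i₀ ≠ 0 := by
    by_contra hcon
    push Not at hcon
    exact hb0 (funext hcon)
  -- a value c different from 0 and b i₀
  obtain ⟨c, hc0, hcb⟩ : ∃ c : Fin (m + 3), c ≠ 0 ∧ c ≠ b i₀ := by
    have h10 : (⟨1, by omega⟩ : Fin (m + 3)) ≠ 0 := by
      intro h; have := congrArg Fin.val h; simp at this
    have h20 : (⟨2, by omega⟩ : Fin (m + 3)) ≠ 0 := by
      intro h; have := congrArg Fin.val h; simp at this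
    have h21 : (⟨2, by omega⟩ : Fin (m + 3)) ≠ ⟨1, by omega⟩ := by
      intro h; have := congrArg Fin.val h; simp at this
    by_cases h1 : b i₀ = ⟨1, by omega⟩
    · exact ⟨⟨2, by omega⟩, h20, by rw [h1]; exact h21⟩
    · exact ⟨⟨1, by omega⟩, h10, fun h => h1 h.symm⟩
  -- Step 1: b' = update b i₀ c ∈ S
  have hb' : Function.update b i₀ c ∈ S := by
    have := hS (piPerm (fun j => if j = i₀ then Equiv.swap (b i₀) c else 1)) (piPerm_isIso _) z h0
      (by
        have : piPerm (fun j => if j = i₀ then Equiv.swap (b i₀) c else 1) z = z := by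
          funext j
          simp only [piPerm_apply, hz]
          split_ifs with h
          · exact Equiv.swap_apply_of_ne_of_ne (Ne.symm hi₀) (Ne.symm hc0)
          · rfl
        rw [this]; exact h0) b hb
    have heq : piPerm (fun j => if j = i₀ then Equiv.swap (b i₀) c else 1) b =
        Function.update b i₀ c := by
      funext j
      simp only [piPerm_apply]
      by_cases h : j = i₀
      · subst h; simp
      · simp [h]
    rwa [heq] at this
  -- Step 1b: e₁ = update z i₀ c ∈ S
  have he₁ : Function.update z i₀ c ∈ S := by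
    have := hS (piPerm (fun j => Equiv.swap (b j) 0)) (piPerm_isIso _) b hb
      (by
        have : piPerm (fun j => Equiv.swap (b j) 0) b = z := by
          funext j; simp [hz]
        rw [this]; exact h0) _ hb'
    have heq : piPerm (fun j => Equiv.swap (b j) 0) (Function.update b i₀ c) =
        Function.update z i₀ c := by
      funext j
      simp only [piPerm_apply]
      by_cases h : j = i₀
      · subst h
        simp only [Function.update_self]
        exact Equiv.swap_apply_of_ne_of_ne hcb hc0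
      · simp [h, hz]
    rwa [heq] at this
  -- Step 2: all unit-type vectors are in S
  have hunit : ∀ (i : ι) (c' : Fin (m + 3)), c' ≠ 0 → Function.update z i c' ∈ S := by
    intro i c' hc'
    set T : Equiv.Perm (ι → Fin (m + 3)) :=
      piPerm (fun j => if j = i then Equiv.swap c c' else 1) * reindex (Equiv.swap i₀ i) with hT
    have hiso : IsIso T := (piPerm_isIso _).mul (reindex_isIso _)
    have hz' : T z = z := by
      funext j
      simp only [hT, Equiv.Perm.mul_apply, piPerm_apply, reindex_apply, hz]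
      split_ifs with h
      · exact Equiv.swap_apply_of_ne_of_ne (Ne.symm hc0) (Ne.symm hc')
      · rfl
    have := hS _ hiso z h0 (by rw [hz']; exact h0) _ he₁
    have heq : T (Function.update z i₀ c) = Function.update z i c' := by
      funext j
      simp only [hT, Equiv.Perm.mul_apply, piPerm_apply, reindex_apply, Equiv.symm_swap]
      by_cases h : j = i
      · subst h
        simp
      · simp only [h, if_false, Equiv.Perm.one_apply, Function.update_of_ne, ne_eq,
          not_false_eq_true]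
        by_cases h2 : j = i₀
        · subst h2
          rw [Equiv.swap_apply_left, Function.update_of_ne (Ne.symm h)]
        · rw [Equiv.swap_apply_of_ne_of_ne h2 h, Function.update_of_ne h2]
    rwa [heq] at this
  -- Step 3: closed under single coordinate changes
  have hstep : ∀ x ∈ S, ∀ (i : ι) (c' : Fin (m + 3)), Function.update x i c' ∈ S := by
    intro x hx i c'
    by_cases hc' : c' = x i
    · rw [hc', Function.update_eq_self]; exact hx
    have hz' : piPerm (fun j => Equiv.swap 0 (x j)) z = x := by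
      funext j; simp [hz]
    have hne : Equiv.swap 0 (x i) c' ≠ 0 := by
      intro h
      have h2 : Equiv.swap 0 (x i) (Equiv.swap 0 (x i) c') = c' := Equiv.swap_apply_self _ _ _
      rw [h, Equiv.swap_apply_left] at h2
      exact hc' h2.symm
    have := hS (piPerm (fun j => Equiv.swap 0 (x j))) (piPerm_isIso _) z h0 (by rw [hz']; exact hx)
      _ (hunit i _ hne)
    have heq : piPerm (fun j => Equiv.swap 0 (x j)) (Function.update z i (Equiv.swap 0 (x i) c')) =
        Function.update x i c' := by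
      funext j
      simp only [piPerm_apply]
      by_cases h : j = i
      · subst h; simp
      · simp [h, hz]
    rwa [heq] at this
  -- Step 4: everything is in S
  rw [Set.eq_univ_iff_forall]
  intro y
  have hind : ∀ s : Finset ι, (fun j => if j ∈ s then y j else 0) ∈ S := by
    intro s
    induction s using Finset.induction_on with
    | empty => simpa [hz] using h0
    | insert i s hi ih =>
      have := hstep _ ih i (y i)
      have heq : Function.update (fun j => if j ∈ s then y j else 0) i (y i) =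
          (fun j => if j ∈ insert i s then y j else 0) := by
        funext j
        by_cases h : j = i
        · subst h; simp
        · simp [h, Finset.mem_insert]
      rwa [heq] at this
  have := hind Finset.univ
  simpa using this

end Key


section Group

variable {ι : Type*} [Fintype ι] {m : ℕ} {Ω : Type*}

/-- The group of permutations of `Ω` that are Hamming isometries through `Φ`. -/
def isoGroup (Φ : Ω ≃ (ι → Fin m)) : Subgroup (Equiv.Perm Ω) where
  carrier := {σ | ∀ a b, hammingDist (Φ (σ a)) (Φ (σ b)) = hammingDist (Φ a) (Φ b)}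
  mul_mem' := by
    intro σ τ hσ hτ a b
    rw [Equiv.Perm.mul_apply, Equiv.Perm.mul_apply, hσ, hτ]
  one_mem' := by intro a b; rfl
  inv_mem' := by
    intro σ hσ a b
    have := hσ (σ⁻¹ a) (σ⁻¹ b)
    rw [show σ (σ⁻¹ a) = a from by simp, show σ (σ⁻¹ b) = b from by simp] at this
    exact this.symm

theorem mem_isoGroup (Φ : Ω ≃ (ι → Fin m)) (σ : Equiv.Perm Ω) :
    σ ∈ isoGroup Φ ↔ ∀ a b, hammingDist (Φ (σ a)) (Φ (σ b)) = hammingDist (Φ a) (Φ b) := Iff.rfl

/-- transport a permutation of `ι → Fin m` to `Ω`. -/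
def liftPerm (Φ : Ω ≃ (ι → Fin m)) (τ : Equiv.Perm (ι → Fin m)) : Equiv.Perm Ω :=
  Φ.trans (τ.trans Φ.symm)

@[simp] theorem liftPerm_apply (Φ : Ω ≃ (ι → Fin m)) (τ : Equiv.Perm (ι → Fin m)) (a : Ω) :
    liftPerm Φ τ a = Φ.symm (τ (Φ a)) := rfl

theorem liftPerm_mem (Φ : Ω ≃ (ι → Fin m)) {τ : Equiv.Perm (ι → Fin m)} (hτ : IsIso τ) :
    liftPerm Φ τ ∈ isoGroup Φ := by
  intro a b
  simp only [liftPerm_apply, Equiv.apply_symm_apply]
  exact hτ _ _

end Group

section Prim

variable {ι : Type*} [Fintype ι] [DecidableEq ι] {m : ℕ} {Ω : Type*}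

theorem isoGroup_isPretransitive (Φ : Ω ≃ (ι → Fin m)) : IsPretransitive (isoGroup Φ) Ω := by
  constructor
  intro a b
  refine ⟨⟨liftPerm Φ (piPerm (fun i => Equiv.swap (Φ a i) (Φ b i))), liftPerm_mem Φ (piPerm_isIso _)⟩, ?_⟩
  change liftPerm Φ (piPerm (fun i => Equiv.swap (Φ a i) (Φ b i))) a = b
  rw [liftPerm_apply, Equiv.symm_apply_eq]
  funext i
  simp

theorem isoGroup_isPreprimitive (Φ : Ω ≃ (ι → Fin (m + 3))) : IsPreprimitive (isoGroup Φ) Ω := by
  have := isoGroup_isPretransitive Φ
  apply IsPreprimitive.of_isTrivialBlock_base (Φ.symm (fun _ => 0))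
  intro B ha hB
  by_cases hsub : B.Subsingleton
  · exact Or.inl hsub
  right
  rw [Set.not_subsingleton_iff] at hsub
  obtain ⟨b, hb, hba⟩ := hsub.exists_ne (Φ.symm (fun _ => 0))
  have hkey := key (Φ '' B) (by
      intro τ hτ y hy hτy z hz
      obtain ⟨a', ha', rfl⟩ := hy
      obtain ⟨c', hc', rfl⟩ := hz
      obtain ⟨d', hd', hd⟩ := hτy
      set g : isoGroup Φ := ⟨liftPerm Φ τ, liftPerm_mem Φ hτ⟩ with hg
      have hga : g • a' ∈ B := by
        change liftPerm Φ τ a' ∈ B
        rw [liftPerm_apply, ← hd, Equiv.symm_apply_apply]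
        exact hd'
      have hgB : g • B = B := hB.smul_eq_of_mem ha' hga
      have : g • c' ∈ B := by
        rw [← hgB]; exact Set.smul_mem_smul_set hc'
      refine ⟨g • c', this, ?_⟩
      change Φ (liftPerm Φ τ c') = _
      rw [liftPerm_apply, Equiv.apply_symm_apply])
    ⟨_, ha, by simp⟩ (Φ b) ⟨b, hb, rfl⟩ (by
      intro h
      apply hba
      rw [← h, Equiv.symm_apply_apply])
  rw [Set.eq_univ_iff_forall]
  intro x
  have : Φ x ∈ Φ '' B := by rw [hkey]; exact Set.mem_univ _
  obtain ⟨x', hx', hxx⟩ := this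
  rwa [← Φ.injective hxx]

theorem isoGroup_not_two_transitive (Φ : Ω ≃ (ι → Fin (m + 3))) (hr : 2 ≤ Fintype.card ι) :
    ¬ IsMultiplyPretransitive (isoGroup Φ) Ω 2 := by
  intro h2
  rw [is_two_pretransitive_iff] at h2
  -- two distinct coordinates
  obtain ⟨i, j, hij⟩ := Fintype.exists_pair_of_one_lt_card (α := ι) (by omega)
  have h10 : (⟨1, by omega⟩ : Fin (m + 3)) ≠ 0 := by
    intro h; have := congrArg Fin.val h; simp at this
  set z : ι → Fin (m + 3) := fun _ => 0 with hz
  set x₁ : ι → Fin (m + 3) := Function.update z i ⟨1, by omega⟩ with hx₁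
  set x₂ : ι → Fin (m + 3) := Function.update x₁ j ⟨1, by omega⟩ with hx₂
  have hzx₁ : z ≠ x₁ := by
    intro h
    have := congrFun h i
    simp [hz, hx₁] at this
  have hzx₂ : z ≠ x₂ := by
    intro h
    have := congrFun h j
    simp [hz, hx₂] at this
  have hd₁ : hammingDist z x₁ = 1 := by
    unfold hammingDist
    rw [Finset.card_eq_one]
    refine ⟨i, ?_⟩
    ext k
    simp only [Finset.mem_filter, Finset.mem_univ, true_and, Finset.mem_singleton]
    constructor
    · intro hk
      by_contra hne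
      apply hk
      simp [hx₁, hz, Function.update_of_ne hne]
    · rintro rfl
      simp [hx₁, hz]
  have hd₂ : hammingDist z x₂ = 2 := by
    unfold hammingDist
    rw [Finset.card_eq_two]
    refine ⟨i, j, hij, ?_⟩
    ext k
    simp only [Finset.mem_filter, Finset.mem_univ, true_and, Finset.mem_insert,
      Finset.mem_singleton]
    constructor
    · intro hk
      by_contra hne
      push Not at hne
      apply hk
      simp [hx₂, hx₁, hz, Function.update_of_ne hne.1, Function.update_of_ne hne.2]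
    · rintro (rfl | rfl)
      · simp [hx₂, hx₁, hz, Function.update_of_ne hij]
      · simp [hx₂, hz]
  obtain ⟨g, hg1, hg2⟩ := h2 (a := Φ.symm z) (b := Φ.symm x₁) (c := Φ.symm z) (d := Φ.symm x₂)
    (fun h => hzx₁ (Φ.symm.injective h)) (fun h => hzx₂ (Φ.symm.injective h))
  have := g.2 (Φ.symm z) (Φ.symm x₁)
  have hg1' : (g : Equiv.Perm Ω) (Φ.symm z) = Φ.symm z := hg1
  have hg2' : (g : Equiv.Perm Ω) (Φ.symm x₁) = Φ.symm x₂ := hg2
  rw [hg1', hg2'] at this
  simp only [Equiv.apply_symm_apply] at this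
  rw [hd₁, hd₂] at this
  omega

end Prim


section Reg

variable {ι : Type*} [Fintype ι] {m : ℕ} {Ω : Type*} (F : ι → Type*) [∀ i, Group (F i)]

/-- translation family -/
def transFam (ψ : ∀ i, F i ≃ Fin m) (p : ∀ i, F i) : ι → Equiv.Perm (Fin m) :=
  fun i => (ψ i).symm.trans ((Equiv.mulLeft (p i)).trans (ψ i))

@[simp] theorem transFam_apply (ψ : ∀ i, F i ≃ Fin m) (p : ∀ i, F i) (i : ι) (x : Fin m) :
    transFam F ψ p i x = ψ i (p i * (ψ i).symm x) := rfl

/-- the regular representation of the product, transported to `Ω`. -/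
def rho (Φ : Ω ≃ (ι → Fin m)) (ψ : ∀ i, F i ≃ Fin m) : (∀ i, F i) →* Equiv.Perm Ω where
  toFun p := liftPerm Φ (piPerm (transFam F ψ p))
  map_one' := by
    ext a
    simp only [liftPerm_apply, Equiv.Perm.coe_one, id_eq]
    rw [Equiv.symm_apply_eq]
    funext i
    simp
  map_mul' := by
    intro p q
    ext a
    simp only [liftPerm_apply, Equiv.Perm.coe_mul, Function.comp_apply, Equiv.apply_symm_apply]
    congr 1
    funext i
    simp [mul_assoc]

/-- coordinates of a point of `Ω` in the product group -/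
def coords (Φ : Ω ≃ (ι → Fin m)) (ψ : ∀ i, F i ≃ Fin m) (a : Ω) : ∀ i, F i :=
  fun i => (ψ i).symm (Φ a i)

theorem coords_injective (Φ : Ω ≃ (ι → Fin m)) (ψ : ∀ i, F i ≃ Fin m) :
    Function.Injective (coords F Φ ψ) := by
  intro a b h
  apply Φ.injective
  funext i
  have := congrFun h i
  exact (ψ i).symm.injective this

theorem coords_surjective (Φ : Ω ≃ (ι → Fin m)) (ψ : ∀ i, F i ≃ Fin m) :
    Function.Surjective (coords F Φ ψ) := by
  intro p
  refine ⟨Φ.symm (fun i => ψ i (p i)), ?_⟩
  funext i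
  simp [coords]

theorem coords_rho (Φ : Ω ≃ (ι → Fin m)) (ψ : ∀ i, F i ≃ Fin m) (p : ∀ i, F i) (a : Ω) :
    coords F Φ ψ (rho F Φ ψ p a) = p * coords F Φ ψ a := by
  funext i
  simp [coords, rho]

theorem rho_eq_self_iff (Φ : Ω ≃ (ι → Fin m)) (ψ : ∀ i, F i ≃ Fin m) (p : ∀ i, F i) (a : Ω) :
    rho F Φ ψ p a = a ↔ p = 1 := by
  constructor
  · intro h
    have := coords_rho F Φ ψ p a
    rw [h] at this
    exact mul_eq_right.mp this.symm
  · rintro rfl
    simp

theorem rho_mem_isoGroup (Φ : Ω ≃ (ι → Fin m)) (ψ : ∀ i, F i ≃ Fin m) (p : ∀ i, F i) :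
    rho F Φ ψ p ∈ isoGroup Φ :=
  liftPerm_mem Φ (piPerm_isIso _)

end Reg

/-- A direct product of r ≥ 2 groups of equal order m ≥ 3 is a regular subgroup of some primitive,
not 2-transitive group. -/
theorem result {K : Type*} [Group K] [Finite K] {ι : Type*} [Fintype ι] (F : ι → Type*) [∀ i, Group (F i)]
    (hr : 2 ≤ Fintype.card ι) (m : ℕ) (hm : 3 ≤ m) (hcard : ∀ i, Nat.card (F i) = m) (e : K ≃* (∀ i, F i)) :
    ∃ (n : ℕ) (G R : Subgroup (Equiv.Perm (Fin n))), R ≤ G ∧ Nonempty (↥R ≃* K) ∧
      MulAction.IsPretransitive ↥R (Fin n) ∧ (∀ a : Fin n, MulAction.stabilizer ↥R a = ⊥) ∧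
      MulAction.IsPreprimitive ↥G (Fin n) ∧ ¬ MulAction.IsMultiplyPretransitive ↥G (Fin n) 2 := by
  classical
  obtain ⟨m', rfl⟩ : ∃ m', m = m' + 3 := ⟨m - 3, by omega⟩
  have hfin : ∀ i, Finite (F i) := fun i =>
    Nat.finite_of_card_ne_zero (by rw [hcard i]; omega)
  have ψ : ∀ i, F i ≃ Fin (m' + 3) := fun i => Finite.equivFinOfCardEq (hcard i)
  have hcardY : Fintype.card (ι → Fin (m' + 3)) = (m' + 3) ^ Fintype.card ι := by simp
  have Φ : Fin ((m' + 3) ^ Fintype.card ι) ≃ (ι → Fin (m' + 3)) :=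
    (Fintype.equivFinOfCardEq hcardY).symm
  have hinj : Function.Injective (rho F Φ ψ) := by
    intro p q hpq
    have h1 : rho F Φ ψ (q⁻¹ * p) = 1 := by
      rw [map_mul, map_inv, hpq]; simp
    have := (rho_eq_self_iff F Φ ψ (q⁻¹ * p) (Φ.symm (fun _ => 0))).mp (by rw [h1]; rfl)
    exact (inv_mul_eq_one.mp this).symm
  refine ⟨(m' + 3) ^ Fintype.card ι, isoGroup Φ, (rho F Φ ψ).range, ?_, ?_, ?_, ?_, ?_, ?_⟩
  · rintro σ ⟨p, rfl⟩
    exact rho_mem_isoGroup F Φ ψ p
  · exact ⟨((MonoidHom.ofInjective hinj).symm).trans e.symm⟩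
  · constructor
    intro a b
    obtain ⟨c, hc⟩ := coords_surjective F Φ ψ (coords F Φ ψ b * (coords F Φ ψ a)⁻¹ * coords F Φ ψ a)
    refine ⟨⟨rho F Φ ψ (coords F Φ ψ b * (coords F Φ ψ a)⁻¹), ⟨_, rfl⟩⟩, ?_⟩
    change rho F Φ ψ (coords F Φ ψ b * (coords F Φ ψ a)⁻¹) a = b
    apply coords_injective F Φ ψ
    rw [coords_rho]
    simp
  · intro a
    rw [Subgroup.eq_bot_iff_forall]
    rintro ⟨σ, p, rfl⟩ hp
    have hp' : rho F Φ ψ p a = a := hp
    have := (rho_eq_self_iff F Φ ψ p a).mp hp'
    apply Subtype.ext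
    simp [this]
  · exact isoGroup_isPreprimitive Φ
  · exact isoGroup_not_two_transitive Φ hr

end Cfsg.Agent.S3560
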