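import Cfsg.Statements.S3573

set_option autoImplicit false
open Cfsg

namespace Cfsg.Agent.S3573

open Equiv Equiv.Perm


section
variable {α : Type*} [DecidableEq α]

/-- An invariant set of a permutation with `σ ^ r = 1`: its size is congruent mod `r` to the number
of fixed points it contains. -/
theorem card_modEq_of_invariant {r : ℕ} [hr : Fact r.Prime] (σ : Perm α) (hσ : σ ^ r = 1)
    (s : Finset α) (hs : s.image σ = s) :
    s.card ≡ (s.filter (fun x => σ x = x)).card [MOD r] := by
  have hmem : ∀ x, σ x ∈ s ↔ x ∈ s := by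
    intro x
    constructor
    · intro hx
      rw [← hs, Finset.mem_image] at hx
      obtain ⟨y, hy, hyx⟩ := hx
      rwa [← σ.injective hyx]
    · intro hx
      rw [← hs]; exact Finset.mem_image_of_mem _ hx
  let τ : Perm {x // x ∈ s} := σ.subtypePerm hmem
  have hτ : τ ^ r ^ 1 = 1 := by
    rw [pow_one]
    ext x
    simp only [τ, subtypePerm_pow, subtypePerm_apply, hσ, Perm.coe_one, id_eq]
  have h := card_compl_support_modEq (p := r) (n := 1) hτ
  have h1 : Fintype.card {x // x ∈ s} = s.card := Fintype.card_coe s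
  have h2 : τ.supportᶜ.card = (s.filter (fun x => σ x = x)).card := by
    apply Finset.card_bij (fun (x : {x // x ∈ s}) _ => (x : α))
    · intro x hx
      simp only [Finset.mem_compl, mem_support, not_not] at hx
      simp only [Finset.mem_filter]
      refine ⟨x.2, ?_⟩
      have := congrArg Subtype.val hx
      simpa [τ] using this
    · intro x _ y _ hxy
      exact Subtype.ext hxy
    · intro y hy
      simp only [Finset.mem_filter] at hy
      refine ⟨⟨y, hy.1⟩, ?_, rfl⟩
      simp only [Finset.mem_compl, mem_support, not_not]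
      apply Subtype.ext
      simpa [τ] using hy.2
  rw [h1, h2] at h
  exact h.symm

end

variable {α : Type*} [Fintype α] [DecidableEq α]

/-- Necessity: the permutation with the maximal number of `r`-cycles. -/
theorem necessity {r : ℕ} [hr : Fact r.Prime] (k : ℕ) (hrn : r ≤ Fintype.card α)
    (h : ∀ σ : Perm α, orderOf σ = r → ∃ s : Finset α, s.card = k ∧ s.image σ = s) :
    k % r ≤ Fintype.card α % r := by
  set n := Fintype.card α with hn
  have hrpos : 0 < r := hr.out.pos
  have hq : 1 ≤ n / r := (Nat.one_le_div_iff hrpos).mpr hrn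
  obtain ⟨σ, hσ⟩ := (exists_with_cycleType_iff α (m := Multiset.replicate (n / r) r)).mpr
    ⟨by rw [Multiset.sum_replicate, smul_eq_mul]; exact Nat.div_mul_le_self n r,
     fun a ha => by rw [Multiset.eq_of_mem_replicate ha]; exact hr.out.two_le⟩
  have hord : orderOf σ = r := by
    rw [← lcm_cycleType, hσ]
    apply Nat.dvd_antisymm
    · apply Multiset.lcm_dvd.mpr
      intro a ha
      rw [Multiset.eq_of_mem_replicate ha]
    · apply Multiset.dvd_lcm
      rw [Multiset.mem_replicate]
      exact ⟨by omega, rfl⟩
  obtain ⟨s, hsk, hs⟩ := h σ hord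
  have hσr : σ ^ r = 1 := by rw [← hord]; exact pow_orderOf_eq_one σ
  have hmod := card_modEq_of_invariant σ hσr s hs
  have hsupp : σ.support.card = n / r * r := by
    rw [← sum_cycleType, hσ, Multiset.sum_replicate, smul_eq_mul]
  have hfix : (s.filter (fun x => σ x = x)).card ≤ n % r := by
    have hsub : s.filter (fun x => σ x = x) ⊆ σ.supportᶜ := by
      intro x hx
      simp only [Finset.mem_filter] at hx
      simp only [Finset.mem_compl, mem_support, not_not]
      exact hx.2
    have hc : σ.supportᶜ.card = n % r := by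
      rw [Finset.card_compl, hsupp, ← hn]
      have := Nat.div_add_mod n r
      have h2 : n / r * r = r * (n / r) := mul_comm _ _
      omega
    calc _ ≤ σ.supportᶜ.card := Finset.card_le_card hsub
      _ = n % r := hc
  rw [hsk] at hmod
  have hlt : (s.filter (fun x => σ x = x)).card < r := lt_of_le_of_lt hfix (Nat.mod_lt _ hrpos)
  have : k % r = (s.filter (fun x => σ x = x)).card := by
    rw [hmod, Nat.mod_eq_of_lt hlt]
  rw [this]; exact hfix




/-- Sufficiency: build an invariant `k`-set from cycles and fixed points. -/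
theorem sufficiency {r : ℕ} [hr : Fact r.Prime] (k : ℕ) (hk : k ≤ Fintype.card α)
    (hmod : k % r ≤ Fintype.card α % r) (σ : Perm α) (hσ : orderOf σ = r) :
    ∃ s : Finset α, s.card = k ∧ s.image σ = s := by
  set n := Fintype.card α with hn
  have hrpos : 0 < r := hr.out.pos
  obtain ⟨j, hj⟩ := cycleType_prime_order (σ := σ) (by rw [hσ]; exact hr.out)
  rw [hσ] at hj
  set c := j + 1 with hc
  set F := σ.cycleFactorsFinset with hF
  have hFcard : F.card = c := by
    have := congrArg Multiset.card (cycleType_def σ)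
    rw [hj, Multiset.card_replicate, Multiset.card_map] at this
    exact this.symm
  have hsuppF : ∀ τ ∈ F, τ.support.card = r := by
    intro τ hτ
    have : τ.support.card ∈ σ.cycleType := by
      rw [cycleType_def, Multiset.mem_map]
      exact ⟨τ, hτ, rfl⟩
    rw [hj] at this
    exact Multiset.eq_of_mem_replicate this
  have hsupp : σ.support.card = c * r := by
    rw [← sum_cycleType, hj, Multiset.sum_replicate, smul_eq_mul]
  have hcr : c * r ≤ n := by rw [← hsupp, hn]; exact Finset.card_le_univ _
  have hcompl : σ.supportᶜ.card = n - c * r := by rw [Finset.card_compl, hsupp]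
  -- choose i, f
  set i := min c (k / r) with hi
  have hic : i ≤ c := min_le_left _ _
  have hik : i ≤ k / r := min_le_right _ _
  have hirk : i * r ≤ k := by
    calc i * r ≤ k / r * r := Nat.mul_le_mul_right _ hik
      _ ≤ k := Nat.div_mul_le_self k r
  set f := k - i * r with hf
  have hfle : f ≤ n - c * r := by
    rcases le_total c (k / r) with hck | hck
    · -- i = c
      have : i = c := min_eq_left hck
      rw [hf, this]
      omega
    · have : i = k / r := min_eq_right hck
      have hfm : f = k % r := by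
        rw [hf, this]
        have := Nat.div_add_mod k r
        have h2 : k / r * r = r * (k / r) := mul_comm _ _
        omega
      rw [hfm]
      -- n - c*r ≥ n % r
      have hcn : c ≤ n / r := (Nat.le_div_iff_mul_le hrpos).mpr hcr
      have h1 := Nat.div_add_mod n r
      have h3 : c * r ≤ n / r * r := Nat.mul_le_mul_right _ hcn
      have h2 : n / r * r = r * (n / r) := mul_comm _ _
      omega
  obtain ⟨C, hCF, hCcard⟩ := Finset.exists_subset_card_eq (s := F) (n := i) (by rw [hFcard]; exact hic)
  obtain ⟨s₂, hs₂sub, hs₂card⟩ := Finset.exists_subset_card_eq (s := σ.supportᶜ) (n := f)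
    (by rw [hcompl]; exact hfle)
  set s₁ := C.biUnion (fun τ => τ.support) with hs₁
  have hs₁card : s₁.card = i * r := by
    rw [hs₁, Finset.card_biUnion]
    · rw [Finset.sum_congr rfl (fun τ hτ => hsuppF τ (hCF hτ)), Finset.sum_const, smul_eq_mul, hCcard]
    · intro τ hτ τ' hτ' hne
      exact (cycleFactorsFinset_pairwise_disjoint σ (hCF hτ) (hCF hτ') hne).disjoint_support
  have hs₁sub : s₁ ⊆ σ.support := by
    intro x hx
    rw [hs₁, Finset.mem_biUnion] at hx
    obtain ⟨τ, hτ, hxτ⟩ := hx
    exact mem_cycleFactorsFinset_support_le (hCF hτ) hxτ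
  have hdisj : Disjoint s₁ s₂ := by
    rw [Finset.disjoint_left]
    intro x hx1 hx2
    have := hs₂sub hx2
    rw [Finset.mem_compl] at this
    exact this (hs₁sub hx1)
  refine ⟨s₁ ∪ s₂, ?_, ?_⟩
  · rw [Finset.card_union_of_disjoint hdisj, hs₁card, hs₂card, hf]
    omega
  · apply Finset.eq_of_subset_of_card_le
    · intro y hy
      rw [Finset.mem_image] at hy
      obtain ⟨x, hx, rfl⟩ := hy
      rw [Finset.mem_union] at hx ⊢
      rcases hx with hx | hx
      · left
        rw [hs₁, Finset.mem_biUnion] at hx ⊢
        obtain ⟨τ, hτ, hxτ⟩ := hx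
        refine ⟨τ, hτ, ?_⟩
        have h1 := (mem_cycleFactorsFinset_iff.mp (hCF hτ)).2 x hxτ
        rw [← h1]
        exact apply_mem_support.mpr hxτ
      · right
        have := hs₂sub hx
        rw [Finset.mem_compl, mem_support, not_not] at this
        rw [this]; exact hx
    · rw [Finset.card_image_of_injective _ σ.injective]


theorem prime_le_of_dvd_choose {n k r : ℕ} (hr : r.Prime) (hkn : k ≤ n) (hrd : r ∣ Nat.choose n k) :
    r ≤ n := by
  have h := Nat.choose_mul_factorial_mul_factorial hkn
  have : r ∣ n.factorial := by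
    rw [← h]
    exact Dvd.dvd.mul_right (Dvd.dvd.mul_right hrd _) _
  exact (hr.dvd_factorial).mp this

theorem core_iff {n k r : ℕ} (hr : r.Prime) (hkn : k ≤ n) (hrn : r ≤ n) :
    (∀ σ : Equiv.Perm (Fin n), orderOf σ = r → ∃ s : Finset (Fin n), s.card = k ∧ s.image σ = s) ↔
      k % r ≤ n % r := by
  have : Fact r.Prime := ⟨hr⟩
  constructor
  · intro h
    have := necessity (α := Fin n) (r := r) k (by simpa using hrn) h
    simpa using this
  · intro h σ hσ
    exact sufficiency (α := Fin n) (r := r) k (by simpa using hkn) (by simpa using h) σ hσ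

theorem le_of_mod_le {n k r : ℕ} (hr : r.Prime) (hrd : r ∣ Nat.choose n k) (h : k % r ≤ n % r) :
    r ≤ k := by
  by_contra hlt
  push Not at hlt
  have : Fact r.Prime := ⟨hr⟩
  have hl := Choose.choose_modEq_choose_mod_mul_choose_div_nat (n := n) (k := k) (p := r)
  rw [Nat.mod_eq_of_lt hlt, Nat.div_eq_of_lt hlt, Nat.choose_zero_right, mul_one] at hl
  rw [Nat.mod_eq_of_lt hlt] at h
  have hdvd : r ∣ Nat.choose (n % r) k := by
    rw [Nat.dvd_iff_mod_eq_zero]
    have := hl.symm
    unfold Nat.ModEq at this
    rw [this]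
    exact Nat.dvd_iff_mod_eq_zero.mp hrd
  have := prime_le_of_dvd_choose hr h hdvd
  have := Nat.mod_lt n hr.pos
  omega

/-- `S_n` on `k`-subsets: criterion for all elements of prime order `r` to fix a `k`-subset. -/
theorem result (n k : ℕ) (hk : 1 ≤ k) (hkn : 2 * k < n) (r : ℕ) (hr : r.Prime) (hrd : r ∣ Nat.choose n k) :
    (r ≠ 2 → ((∀ σ : Equiv.Perm (Fin n), orderOf σ = r → ∃ s : Finset (Fin n), s.card = k ∧ s.image σ = s) ↔
      (r ≤ k ∧ k % r ≤ n % r))) ∧
    (r = 2 → ((∀ σ : Equiv.Perm (Fin n), orderOf σ = 2 → ∃ s : Finset (Fin n), s.card = k ∧ s.image σ = s) ↔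
      (Even k ∨ Odd n))) := by
  have hkn' : k ≤ n := by omega
  have hrn : r ≤ n := prime_le_of_dvd_choose hr hkn' hrd
  constructor
  · intro _
    rw [core_iff hr hkn' hrn]
    constructor
    · intro h
      exact ⟨le_of_mod_le hr hrd h, h⟩
    · intro h
      exact h.2
  · intro h2
    subst h2
    rw [core_iff hr hkn' hrn]
    rw [Nat.even_iff, Nat.odd_iff]
    have h1 := Nat.mod_lt k (show 0 < 2 by norm_num)
    have h2 := Nat.mod_lt n (show 0 < 2 by norm_num)
    omega

end Cfsg.Agent.S3573
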