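import Cfsg.Statements.S3592
import Cfsg.Agent.Helper54.M11NseE
import Cfsg.Agent.Helper20.U11.Final

set_option autoImplicit false
open Cfsg

namespace Cfsg.Agent.S3592

/-- Let M be the Mathieu group M₁₁ (order 7920). If a finite group G has the same order as M and the same set of values of the function 'number of elements of order n' (taken over the element orders n that occur), then G is isomorphic to M. -/
theorem result {G : Type*} [Group G] [Finite G]
    (hcard : Nat.card G = Nat.card ↥Cfsg.Spor.M11)
    (hnse : {c : ℕ | 0 < c ∧ ∃ n : ℕ, c = Nat.card {g : G // orderOf g = n}} =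
      {c : ℕ | 0 < c ∧ ∃ n : ℕ, c = Nat.card {g : ↥Cfsg.Spor.M11 // orderOf g = n}}) :
    Nonempty (G ≃* ↥Cfsg.Spor.M11) := by
  -- the number of elements of order 11 of `G` is a same-order count of `M₁₁`, none of which is
  -- 10, 120 or 450: so `G` has 144 Sylow 11-subgroups, hence is simple
  obtain ⟨hs, hG⟩ := Cfsg.Agent.Helper54.M11Nse.isM11_of_nse hcard hnse
  have : IsSimpleGroup G := hs
  -- simple groups of order 7920 are the concrete `M₁₁`
  rw [Cfsg.Agent.Helper7.sporM11_eq]
  exact Cfsg.Agent.Helper20.U11.nonempty_mulEquiv_fixG hG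

end Cfsg.Agent.S3592
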