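import Cfsg.Statements.S3614
import Cfsg.Agent.S3613
import Cfsg.Agent.Helper58.N4Glue

set_option autoImplicit false
open Cfsg

namespace Cfsg.Agent.S3614

/-- Let G be an insoluble group acting faithfully and transitively on a finite set of prime size p, and suppose the normalizer of a Sylow p-subgroup of G has order p(p-1)/2. If p = q + 2 = 2r + 3 > 9 or p = q + 2 = 3r + 4 > 13 with q and r prime, then G is isomorphic to the alternating group of degree p. -/
theorem result {G Ω : Type*} [Group G] [Finite G] [MulAction G Ω] [FaithfulSMul G Ω] [Finite Ω]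
    (p : ℕ) (hp : p.Prime) (hΩ : Nat.card Ω = p) (htrans : MulAction.IsPretransitive G Ω)
    (hins : ¬ Group.IsSolvable G) (P : Sylow p G)
    (hN : 2 * Nat.card ↥(Subgroup.normalizer ((P : Subgroup G) : Set G)) = p * (p - 1))
    (q r : ℕ) (hq : q.Prime) (hr : r.Prime)
    (hcases : (p = q + 2 ∧ p = 2 * r + 3 ∧ 9 < p) ∨ (p = q + 2 ∧ p = 3 * r + 4 ∧ 13 < p)) :
    Nonempty (G ≃* alternatingGroup (Fin p)) := by
  classical
  haveI : Fintype Ω := Fintype.ofFinite Ω
  haveI : Fact p.Prime := ⟨hp⟩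
  haveI := htrans
  have hΩ' : Fintype.card Ω = p := by rw [← Nat.card_eq_fintype_card]; exact hΩ
  have hpq : p = q + 2 := by rcases hcases with ⟨h, _, _⟩ | ⟨h, _, _⟩ <;> exact h
  have hq5 : 5 < q := by rcases hcases with ⟨h, _, h9⟩ | ⟨h, _, h9⟩ <;> omega
  have h5 := Cfsg.Agent.S3613.result p hp hΩ htrans hins P hN q hq hq5 hpq
  refine Cfsg.Agent.Helper58.N4.iso_alt_main hΩ' P hN r hr ?_ h5
  rcases hcases with ⟨_, h2, h3⟩ | ⟨_, h2, h3⟩
  · exact Or.inl ⟨h2, h3⟩
  · exact Or.inr ⟨h2, h3⟩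

end Cfsg.Agent.S3614
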