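import Cfsg.Statements.S3616
import Cfsg.Agent.Helper61.PslMain

set_option autoImplicit false
open Cfsg

namespace Cfsg.Agent.S3616

/-- Let p > 7 be prime and let X be a finite group acting faithfully on a set of p + 1 points by even permutations. Suppose X has a proper subgroup isomorphic to PSL(2, p) that acts doubly transitively on the set (such an action is necessarily the natural one on the projective line). Then X is 4-fold transitive. -/
theorem result {X Ω : Type*} [Group X] [Finite X] [MulAction X Ω] [FaithfulSMul X Ω] [Fintype Ω] [DecidableEq Ω]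
    (p : ℕ) (hp : p.Prime) (hp7 : 7 < p) (hΩ : Fintype.card Ω = p + 1)
    (heven : ∀ x : X, Equiv.Perm.sign (MulAction.toPerm x : Equiv.Perm Ω) = 1)
    (L : Subgroup X) (hL : Nonempty (↥L ≃* Matrix.ProjectiveSpecialLinearGroup (Fin 2) (ZMod p)))
    (hLt : MulAction.IsMultiplyPretransitive ↥L Ω 2) (hLX : L ≠ ⊤) :
    MulAction.IsMultiplyPretransitive X Ω 4 := by
  haveI : Fact p.Prime := ⟨hp⟩
  have hLtr : MulAction.IsPretransitive ↥L Ω := MulAction.isPretransitive_of_is_two_pretransitive
  obtain ⟨f, 𝔛, Γ, hover, hf⟩ :=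
    Cfsg.Agent.Helper61.Psl.exists_over (by omega) hΩ heven L hL hLtr hLX
  have h4 := Cfsg.Agent.Helper61.Psl.conc hp7 hover
  rw [MulAction.isMultiplyPretransitive_iff] at h4 ⊢
  intro a b
  obtain ⟨g, hg⟩ := h4 (a.trans f.toEmbedding) (b.trans f.toEmbedding)
  obtain ⟨x, hx⟩ := hf g.1 g.2
  refine ⟨x, ?_⟩
  ext i
  apply f.injective
  have h1 := congrArg (fun e : Fin 4 ↪ Option (ZMod p) => e i) hg
  simp only [Function.Embedding.smul_apply, Function.Embedding.trans_apply, Equiv.coe_toEmbedding] at h1
  rw [Function.Embedding.smul_apply, ← hx]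
  exact h1

end Cfsg.Agent.S3616
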