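-- Statement S3619 (row 3619).
import Cfsg.Statements.S3619

set_option autoImplicit false
open Cfsg

namespace Cfsg.Agent.S3619

open scoped Pointwise
open MulAction

/-- A quasiprimitive group with a Jordan set on which the pointwise stabilizer of the complement
acts primitively is primitive. -/
theorem isPreprimitive_of_quasi {G Ω : Type*} [Group G] [MulAction G Ω]
    (hqp : ∀ N : Subgroup G, N.Normal → N ≠ ⊥ → MulAction.IsPretransitive ↥N Ω)
    (Γ : Set Ω) (hΓ1 : 1 < Γ.ncard)
    (hJp : MulAction.IsPreprimitive ↥(fixingSubgroup G Γᶜ) ↥(SubMulAction.ofFixingSubgroup G Γᶜ)) :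
    MulAction.IsPreprimitive G Ω := by
  classical
  set H := fixingSubgroup G Γᶜ with hH
  obtain ⟨γ₁, γ₂, hγ₁, hγ₂, hne⟩ := (Set.one_lt_ncard_iff (Set.finite_of_ncard_pos (by omega))).mp hΓ1
  have hmemΓ : ∀ γ, γ ∈ Γ → γ ∈ SubMulAction.ofFixingSubgroup G Γᶜ := by
    intro γ hγ
    rw [SubMulAction.mem_ofFixingSubgroup_iff]
    exact fun h => h hγ
  -- H is nontrivial
  have hHne : H ≠ ⊥ := by
    intro hbot
    have htr : MulAction.IsPretransitive ↥H ↥(SubMulAction.ofFixingSubgroup G Γᶜ) :=
      hJp.toIsPretransitive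
    obtain ⟨h, hh⟩ := htr.exists_smul_eq ⟨γ₁, hmemΓ γ₁ hγ₁⟩ ⟨γ₂, hmemΓ γ₂ hγ₂⟩
    have h1 : (h : G) = 1 := by
      have h2 : (h : G) ∈ H := h.2
      have h3 : (h : G) ∈ (⊥ : Subgroup G) := hbot ▸ h2
      exact Subgroup.mem_bot.mp h3
    have : (h : G) • γ₁ = γ₂ := congrArg Subtype.val hh
    rw [h1, one_smul] at this
    exact hne this
  -- G is transitive
  have htop : (⊤ : Subgroup G) ≠ ⊥ := by
    intro h
    apply hHne
    rw [eq_bot_iff, ← h]
    exact le_top
  have htrans : MulAction.IsPretransitive G Ω := by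
    have := hqp ⊤ inferInstance htop
    constructor
    intro x y
    obtain ⟨g, hg⟩ := this.exists_smul_eq x y
    exact ⟨(g : G), hg⟩
  refine { htrans with isTrivialBlock_of_isBlock := ?_ }
  intro B hB
  by_contra hnt
  unfold IsTrivialBlock at hnt
  push Not at hnt
  obtain ⟨hBns, hBne⟩ := hnt
  obtain ⟨b₁, hb₁, b₂, hb₂, hb12⟩ := hBns
  obtain ⟨c, hc⟩ : ∃ c, c ∉ B := by
    by_contra h
    push Not at h
    exact hBne (Set.eq_univ_of_forall h)
  -- the normal core of the set stabilizer of B
  set N := (MulAction.stabilizer G B).normalCore with hN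
  have hNbot : N = ⊥ := by
    by_contra hNne
    have := hqp N inferInstance hNne
    obtain ⟨n, hn⟩ := this.exists_smul_eq b₁ c
    have hnB : (n : G) ∈ MulAction.stabilizer G B := Subgroup.normalCore_le _ n.2
    rw [MulAction.mem_stabilizer_iff] at hnB
    apply hc
    rw [← hnB]
    exact ⟨b₁, hb₁, hn⟩
  -- H ≤ N
  apply hHne
  rw [eq_bot_iff, ← hNbot]
  intro h hh g
  rw [MulAction.mem_stabilizer_iff]
  -- suffices: h fixes the block g⁻¹ • B
  set B' := g⁻¹ • B with hB'
  have hB'blk : IsBlock G B' := hB.translate g⁻¹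
  have key : h • B' = B' := by
    apply (isBlock_iff_smul_eq_of_mem.mp hB'blk)
    · exact Set.smul_mem_smul_set hb₁
    · by_cases hsub : B' ⊆ Γ
      · -- the preimage block
        let j := SubMulAction.ofFixingSubgroup_equivariantMap G Γᶜ
        have hblk'' : IsBlock ↥H (j ⁻¹' B') := hB'blk.preimage j
        have htriv := hJp.isTrivialBlock_of_isBlock hblk''
        rcases htriv with hss | huniv
        · exfalso
          have hx₁ : g⁻¹ • b₁ ∈ B' := Set.smul_mem_smul_set hb₁
          have hx₂ : g⁻¹ • b₂ ∈ B' := Set.smul_mem_smul_set hb₂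
          have e := hss (x := ⟨g⁻¹ • b₁, hmemΓ _ (hsub hx₁)⟩) hx₁
            (y := ⟨g⁻¹ • b₂, hmemΓ _ (hsub hx₂)⟩) hx₂
          have e' : g⁻¹ • b₁ = g⁻¹ • b₂ := congrArg Subtype.val e
          exact hb12 (MulAction.injective g⁻¹ e')
        · -- Γ ⊆ B'
          have hΓB' : Γ ⊆ B' := by
            intro γ hγ
            have : (⟨γ, hmemΓ γ hγ⟩ : SubMulAction.ofFixingSubgroup G Γᶜ) ∈ j ⁻¹' B' := by
              rw [huniv]; trivial
            exact this
          apply hΓB'
          -- h • (g⁻¹ • b₁) ∈ Γ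
          have hx₁ : g⁻¹ • b₁ ∈ B' := Set.smul_mem_smul_set hb₁
          have hmem := ((⟨h, hh⟩ : H) • (⟨g⁻¹ • b₁, hmemΓ _ (hsub hx₁)⟩ :
            SubMulAction.ofFixingSubgroup G Γᶜ)).2
          rw [SubMulAction.mem_ofFixingSubgroup_iff] at hmem
          have : h • g⁻¹ • b₁ ∈ Γ := by
            by_contra hcon
            exact hmem hcon
          exact this
      · rw [Set.not_subset] at hsub
        obtain ⟨ω, hωB', hωΓ⟩ := hsub
        -- h fixes ω
        have hfix : h • ω = ω := (mem_fixingSubgroup_iff G).mp hh ω hωΓ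
        -- so B' is fixed, hence contains h • (g⁻¹ • b₁)
        have : h • B' = B' := by
          apply (isBlock_iff_smul_eq_of_mem.mp hB'blk) hωB'
          rw [hfix]; exact hωB'
        rw [← this]
        exact Set.smul_mem_smul_set (Set.smul_mem_smul_set hb₁)
  calc (g * h * g⁻¹) • B = g • h • g⁻¹ • B := by rw [mul_smul, mul_smul]
    _ = g • g⁻¹ • B := by rw [key]
    _ = B := by rw [smul_inv_smul]

/-- Let G act faithfully on a finite set in such a way that every non-trivial normal subgroup of G is transitive (G is quasiprimitive). Let Γ be a subset with more than one point and not the whole set, such that the pointwise stabilizer of the complement of Γ acts transitively on Γ (a Jordan set). If that pointwise stabilizer acts primitively on Γ, then G is k-fold transitive where k is one more than the number of points outside Γ (the Jordan set is a trivial one). -/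
theorem result {G Ω : Type*} [Group G] [Finite G] [MulAction G Ω] [FaithfulSMul G Ω] [Finite Ω]
    (hqp : ∀ N : Subgroup G, N.Normal → N ≠ ⊥ → MulAction.IsPretransitive ↥N Ω)
    (Γ : Set Ω) (hΓ1 : 1 < Γ.ncard) (hΓ2 : Γ.ncard < Nat.card Ω)
    (hJ : MulAction.IsPretransitive ↥(fixingSubgroup G Γᶜ) ↥(SubMulAction.ofFixingSubgroup G Γᶜ))
    (hJp : MulAction.IsPreprimitive ↥(fixingSubgroup G Γᶜ) ↥(SubMulAction.ofFixingSubgroup G Γᶜ)) :
    MulAction.IsMultiplyPretransitive G Ω (Nat.card Ω - Γ.ncard + 1) := by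
  have hprim : MulAction.IsPreprimitive G Ω := isPreprimitive_of_quasi hqp Γ hΓ1 hJp
  have hcompl : (Γᶜ).ncard = (Nat.card Ω - Γ.ncard - 1) + 1 := by
    have := Set.ncard_add_ncard_compl Γ
    omega
  have hlt : (Nat.card Ω - Γ.ncard - 1) + 2 < Nat.card Ω := by omega
  have := hprim.isMultiplyPreprimitive hcompl hlt hJp
  have h2 : MulAction.IsMultiplyPretransitive G Ω ((Nat.card Ω - Γ.ncard - 1) + 2) :=
    inferInstance
  have e : (Nat.card Ω - Γ.ncard - 1) + 2 = Nat.card Ω - Γ.ncard + 1 := by omega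
  rwa [e] at h2

end Cfsg.Agent.S3619
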