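import Cfsg.Statements.S3626
import Cfsg.Agent.Helper9.ReeSpecC

set_option autoImplicit false
open Cfsg

namespace Cfsg.Agent.S3626

/-- Let R be the small Ree group over the field with q = 3^(2m+1) ≥ 27 elements. Then there are finite groups of arbitrarily large order with exactly the same set of element orders as R × R × R. -/
theorem result {K : Type*} [Field K] [Fintype K] {m : ℕ} (hm : 1 ≤ m) (hK : Fintype.card K = 3 ^ (2 * m + 1)) (N : ℕ) :
    ∃ (H : Type) (_ : Group H) (_ : Fintype H), N < Fintype.card H ∧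
      Set.range (orderOf : H → ℕ) = Set.range (orderOf : ↥(Cfsg.Lie.twistedG2 K (3 ^ m)) × ↥(Cfsg.Lie.twistedG2 K (3 ^ m)) × ↥(Cfsg.Lie.twistedG2 K (3 ^ m)) → ℕ) := by
  haveI : Fact (Nat.Prime 3) := ⟨Nat.prime_three⟩
  let F : Type := GaloisField 3 (2 * m + 1)
  haveI : Fintype F := Fintype.ofFinite F
  have hq : Fintype.card F = 3 ^ (2 * m + 1) := by
    rw [← Nat.card_eq_fintype_card]
    exact GaloisField.card 3 (2 * m + 1) (by omega)
  have hq8 : 3 ^ (2 * m + 1) % 8 = 3 := by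
    rw [pow_succ, pow_mul, Nat.mul_mod, Nat.pow_mod]
    norm_num
  refine Cfsg.Agent.Helper9.ReeSpec.exists_large_same_spectrum hm hK N
    (Cfsg.Agent.Helper9.ReeSpec.HHk F (N + 1)) ?_ ?_
  · exact lt_trans (Nat.lt_succ_self N) (Cfsg.Agent.Helper9.ReeSpec.lt_card_hhk (F := F) (N + 1))
  · intro d
    exact Cfsg.Agent.Helper9.ReeSpec.hhk_spectrum hq hq8 (N + 1) (Nat.succ_pos N) d

end Cfsg.Agent.S3626
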