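import Cfsg.Statements.S3627
import Cfsg.Agent.Helper91.J1SpecWit
import Cfsg.Agent.Helper91.J1SpecM

set_option autoImplicit false
open Cfsg

namespace Cfsg.Agent.S3627

open Cfsg.Agent.Helper91.J1Spec

/-- fourfold least common multiples, with the last entry ranging over `W` -/
def lcm4 (W : Finset ℕ) : Finset ℕ :=
  Finset.image₂ Nat.lcm specJ1 (Finset.image₂ Nat.lcm specJ1 (Finset.image₂ Nat.lcm specJ1 W))

theorem lcm4_eq : lcm4 specM = lcm4 specJ1 := by decide +kernel

theorem coe_specJ1 : (↑specJ1 : Set ℕ) = {1, 2, 3, 5, 6, 7, 10, 11, 15, 19} := by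
  simp [specJ1]

theorem range_four (B : Type) [Monoid B] (W : Finset ℕ)
    (hB : Set.range (orderOf : B → ℕ) = ↑W) :
    Set.range (orderOf : ↥Cfsg.Spor.J1 × ↥Cfsg.Spor.J1 × ↥Cfsg.Spor.J1 × B → ℕ) = ↑(lcm4 W) := by
  rw [range_orderOf_prod, range_orderOf_prod, range_orderOf_prod, hB, range_orderOf_J1,
    ← coe_specJ1, lcm4, Finset.coe_image₂, Finset.coe_image₂, Finset.coe_image₂]

/-- Let J be the first Janko group. Then there are finite groups of arbitrarily large order with exactly the same set of element orders as J × J × J × J. -/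
theorem result (N : ℕ) : ∃ (H : Type) (_ : Group H) (_ : Fintype H), N < Fintype.card H ∧
      Set.range (orderOf : H → ℕ) = Set.range (orderOf : ↥Cfsg.Spor.J1 × ↥Cfsg.Spor.J1 × ↥Cfsg.Spor.J1 × ↥Cfsg.Spor.J1 → ℕ) := by
  haveI : Finite ↥Cfsg.Spor.J1 := inferInstance
  refine ⟨↥Cfsg.Spor.J1 × ↥Cfsg.Spor.J1 × ↥Cfsg.Spor.J1 × MM N, inferInstance,
    Fintype.ofFinite _, ?_, ?_⟩
  · -- the order is large
    let ι : Fin (N + 1) → ↥Cfsg.Spor.J1 × ↥Cfsg.Spor.J1 × ↥Cfsg.Spor.J1 × MM N :=
      fun i => (1, 1, 1, (gsingle N i, 1))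
    have hι : Function.Injective ι := by
      intro i j hij
      have h1 : gsingle N i = gsingle N j := by
        have := congrArg (fun z => z.2.2.2.1) hij
        exact this
      exact gsingle_injective N h1
    have := @Fintype.card_le_of_injective _ _ _ (Fintype.ofFinite _) ι hι
    rw [Fintype.card_fin] at this
    omega
  · rw [range_four (MM N) specM (range_orderOf_MM N),
      range_four ↥Cfsg.Spor.J1 specJ1 (by rw [range_orderOf_J1, ← coe_specJ1]), lcm4_eq]

end Cfsg.Agent.S3627
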