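-- Statement S3633 (row 3633).
import Cfsg.Statements.S3633
import Cfsg.Agent.Helper60.SolvGraph

set_option autoImplicit false
open Cfsg

namespace Cfsg.Agent.S3633

open Cfsg.Agent.Helper60 in
theorem aux {G : Type*} [Group G] [Finite G] (ρ : Finset ℕ) (hρ : 3 ≤ ρ.card) (hc : ((∀ r ∈ ρ, r.Prime ∧ r ∣ Nat.card G) ∧ (∀ r ∈ ρ, ∀ s ∈ ρ, r ≠ s → ¬ ∃ x : G, orderOf x = r * s)))
    (K : Subgroup G) [K.Normal] (hK : Group.IsSolvable ↥K) :
    ∀ r ∈ ρ, ∀ s ∈ ρ, r ∣ Nat.card ↥K → s ∣ Nat.card ↥K → r = s := by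
  intro r hr s hs hrK hsK
  by_contra hrs
  obtain ⟨a, b, c, ha, hb, hc', hab, hac, hbc⟩ := Finset.two_lt_card_iff.mp hρ
  obtain ⟨t, ht, htr, hts⟩ : ∃ t ∈ ρ, t ≠ r ∧ t ≠ s := by
    by_cases h1 : a ≠ r ∧ a ≠ s
    · exact ⟨a, ha, h1⟩
    · by_cases h2 : b ≠ r ∧ b ≠ s
      · exact ⟨b, hb, h2⟩
      · refine ⟨c, hc', ?_⟩
        omega
  have h := hasEdge_of_solvable_normal K r s t (hc.1 r hr).1 (hc.1 s hs).1 (hc.1 t ht).1 hrs
    (Ne.symm htr) (Ne.symm hts) hrK hsK (hc.1 t ht).2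
  rcases h with h | h | h
  · exact hc.2 r hr s hs hrs h
  · exact hc.2 r hr t ht (Ne.symm htr) h
  · exact hc.2 s hs t ht (Ne.symm hts) h

/-- Let G be a finite group and ρ a set of at least three prime divisors of the order of G that are pairwise non-adjacent in the prime graph (no element of order rs for distinct r, s ∈ ρ). Then at most one prime of ρ divides the order of any given solvable normal subgroup of G; in particular G is not solvable. -/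
theorem result {G : Type*} [Group G] [Finite G] (ρ : Finset ℕ) (hρ : 3 ≤ ρ.card) (hc : ((∀ r ∈ ρ, r.Prime ∧ r ∣ Nat.card G) ∧ (∀ r ∈ ρ, ∀ s ∈ ρ, r ≠ s → ¬ ∃ x : G, orderOf x = r * s)))
    (K : Subgroup G) [K.Normal] (hK : Group.IsSolvable ↥K) :
    (∀ r ∈ ρ, ∀ s ∈ ρ, r ∣ Nat.card ↥K → s ∣ Nat.card ↥K → r = s) ∧ ¬ Group.IsSolvable G := by
  refine ⟨aux ρ hρ hc K hK, ?_⟩
  intro hG
  have hTop : Group.IsSolvable (⊤ : Subgroup G) := inferInstance
  have h := aux ρ hρ hc (⊤ : Subgroup G) hTop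
  obtain ⟨a, b, c, ha, hb, hc', hab, hac, hbc⟩ := Finset.two_lt_card_iff.mp hρ
  apply hab
  apply h a ha b hb
  · rw [Subgroup.card_top]; exact (hc.1 a ha).2
  · rw [Subgroup.card_top]; exact (hc.1 b hb).2

end Cfsg.Agent.S3633
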