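-- Statement S3660 (row 3660).
import Cfsg.Statements.S3660
import Cfsg.Agent.Helper61.PrimeGraph
import Cfsg.Agent.Helper61.SL2Char2

set_option autoImplicit false
open Cfsg

namespace Cfsg.Agent.S3660

open Cfsg.Agent.Helper61

/-- The prime graph of a finite group has the prime divisors of its order as vertices, two distinct primes p, q being joined when the group has an element of order pq; two groups have the same prime graph when they have the same prime divisors and the same joined pairs. Let F be a finite field of characteristic 2 with at least 4 elements. Then there are finite groups of arbitrarily large order with the same prime graph as PSL(2,F); in particular PSL(2,F) is not determined by its prime graph. -/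
theorem result {F : Type*} [Field F] [Fintype F] [CharP F 2] (hF : 4 ≤ Fintype.card F) (N : ℕ) :
    ∃ (H : Type) (_ : Group H) (_ : Finite H), N < Nat.card H ∧
      ((∀ p : ℕ, p.Prime → (p ∣ Nat.card (Matrix.ProjectiveSpecialLinearGroup (Fin 2) F) ↔ p ∣ Nat.card H)) ∧
      (∀ p q : ℕ, p.Prime → q.Prime → p ≠ q → ((∃ g : (Matrix.ProjectiveSpecialLinearGroup (Fin 2) F), orderOf g = p * q) ↔ (∃ g : H, orderOf g = p * q)))) := by
  classical
  have : Finite (Matrix.ProjectiveSpecialLinearGroup (Fin 2) F) := inferInstance
  have : Finite (natMod N F) := inferInstance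
  have : Finite (natMod N F ⋊[natModActPSL N F] Matrix.ProjectiveSpecialLinearGroup (Fin 2) F) :=
    Finite.of_equiv _ SemidirectProduct.equivProd.symm
  obtain ⟨h1, h2⟩ := primeGraph_semidirect (natModActPSL N F) (natMod_sq N F)
    (natModActPSL_fix N F) (two_dvd_card_PSL2 F)
  -- transport to `Type`
  obtain ⟨H, hG, hfin, ⟨em⟩⟩ := exists_type0_copy
    (natMod N F ⋊[natModActPSL N F] Matrix.ProjectiveSpecialLinearGroup (Fin 2) F)
  obtain ⟨h3, h4⟩ := primeGraph_congr em
  refine ⟨H, hG, hfin, ?_, ?_, ?_⟩
  · rw [Nat.card_congr em.toEquiv, SemidirectProduct.card]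
    have hcN : Nat.card (natMod N F) = (Nat.card F ^ 2) ^ N := by
      rw [Nat.card_congr (Multiplicative.toAdd : natMod N F ≃ (Fin N → Fin 2 → F)), Nat.card_fun,
        Nat.card_fun, Nat.card_fin, Nat.card_fin]
    have hcF : 2 ≤ Nat.card F ^ 2 := by
      rw [Nat.card_eq_fintype_card]
      nlinarith
    have hpos : 0 < Nat.card (Matrix.ProjectiveSpecialLinearGroup (Fin 2) F) := Nat.card_pos
    calc N < 2 ^ N := Nat.lt_two_pow_self
      _ ≤ (Nat.card F ^ 2) ^ N := Nat.pow_le_pow_left hcF N
      _ = Nat.card (natMod N F) := hcN.symm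
      _ ≤ Nat.card (natMod N F) * Nat.card (Matrix.ProjectiveSpecialLinearGroup (Fin 2) F) :=
        Nat.le_mul_of_pos_right _ hpos
  · intro p hp
    rw [h1 p hp, h3 p]
  · intro p q hp hq hpq
    rw [h2 p q hp hq hpq, h4 (p * q)]

end Cfsg.Agent.S3660
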