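import Cfsg.Statements.S3669
import Cfsg.Agent.Helper61.A5Degrees
import Cfsg.Agent.Lib.Hall
import Cfsg.Agent.S0144
import Cfsg.Agent.S0178
import Cfsg.Agent.S0493
import Cfsg.Agent.S0494
import Cfsg.Agent.Helper17.SylowKit

set_option autoImplicit false
open Cfsg

namespace Cfsg.Agent.S3669

universe u

/-- A group of order `15` is commutative. -/
theorem comm_of_card_fifteen {K : Type*} [Group K] [Finite K] (h : Nat.card K = 15) (a b : K) :
    a * b = b * a := by
  haveI : Fact (Nat.Prime 5) := ⟨by norm_num⟩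
  haveI : Fact (Nat.Prime 3) := ⟨by norm_num⟩
  obtain ⟨P⟩ : Nonempty (Sylow 5 K) := inferInstance
  obtain ⟨Q⟩ : Nonempty (Sylow 3 K) := inferInstance
  have h5 : Nat.card K = 5 ^ 1 * 3 := by rw [h]; norm_num
  have h3 : Nat.card K = 3 ^ 1 * 5 := by rw [h]; norm_num
  have hP : Nat.card (P : Subgroup K) = 5 := by
    simpa using Helper17.card_sylow_subgroup_of_card_eq h5 (by norm_num) P
  have hQ : Nat.card (Q : Subgroup K) = 3 := by
    simpa using Helper17.card_sylow_subgroup_of_card_eq h3 (by norm_num) Q
  have hn5 : Nat.card (Sylow 5 K) = 1 := by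
    have h1 : Nat.card (Sylow 5 K) ∣ 3 := Helper17.card_sylow_dvd_of_card_eq h5 (by norm_num)
    have h2 : Nat.card (Sylow 5 K) ≡ 1 [MOD 5] := card_sylow_modEq_one 5 K
    have h4 : Nat.card (Sylow 5 K) ≤ 3 := Nat.le_of_dvd (by norm_num) h1
    unfold Nat.ModEq at h2
    interval_cases (Nat.card (Sylow 5 K)) <;> simp_all
  have hn3 : Nat.card (Sylow 3 K) = 1 := by
    have h1 : Nat.card (Sylow 3 K) ∣ 5 := Helper17.card_sylow_dvd_of_card_eq h3 (by norm_num)
    have h2 : Nat.card (Sylow 3 K) ≡ 1 [MOD 3] := card_sylow_modEq_one 3 K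
    have h4 : Nat.card (Sylow 3 K) ≤ 5 := Nat.le_of_dvd (by norm_num) h1
    unfold Nat.ModEq at h2
    interval_cases (Nat.card (Sylow 3 K)) <;> simp_all
  haveI : Subsingleton (Sylow 5 K) := (Nat.card_eq_one_iff_unique.1 hn5).1
  haveI : Subsingleton (Sylow 3 K) := (Nat.card_eq_one_iff_unique.1 hn3).1
  have hPn : (P : Subgroup K).Normal := Sylow.normal_of_subsingleton P
  have hQn : (Q : Subgroup K).Normal := Sylow.normal_of_subsingleton Q
  have hdisj : Disjoint (P : Subgroup K) (Q : Subgroup K) := by
    rw [disjoint_iff]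
    apply Subgroup.inf_eq_bot_of_coprime
    rw [hP, hQ]; norm_num
  have hcomm : ∀ x ∈ (P : Subgroup K), ∀ y ∈ (Q : Subgroup K), x * y = y * x := fun x hx y hy =>
    Subgroup.commute_of_normal_of_disjoint _ _ hPn hQn hdisj x y hx hy
  -- `P` and `Q` are commutative
  have hPc : ∀ x ∈ (P : Subgroup K), ∀ y ∈ (P : Subgroup K), x * y = y * x := by
    haveI : Fact (Nat.card (P : Subgroup K)).Prime := ⟨by rw [hP]; norm_num⟩
    haveI : IsCyclic (P : Subgroup K) := isCyclic_of_prime_card rfl
    intro x hx y hy
    have := (IsCyclic.commGroup (α := (P : Subgroup K))).mul_comm ⟨x, hx⟩ ⟨y, hy⟩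
    exact congrArg Subtype.val this
  have hQc : ∀ x ∈ (Q : Subgroup K), ∀ y ∈ (Q : Subgroup K), x * y = y * x := by
    haveI : Fact (Nat.card (Q : Subgroup K)).Prime := ⟨by rw [hQ]; norm_num⟩
    haveI : IsCyclic (Q : Subgroup K) := isCyclic_of_prime_card rfl
    intro x hx y hy
    have := (IsCyclic.commGroup (α := (Q : Subgroup K))).mul_comm ⟨x, hx⟩ ⟨y, hy⟩
    exact congrArg Subtype.val this
  -- the centre contains `P` and `Q`, hence is everything
  have hPZ : (P : Subgroup K) ≤ Subgroup.center K ⊔ (⊥ : Subgroup K) ∨ True := Or.inr trivial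
  have htop : (P : Subgroup K) ⊔ (Q : Subgroup K) = ⊤ := by
    apply Subgroup.eq_top_of_card_eq
    have h1 : Nat.card (P : Subgroup K) ∣ Nat.card ((P : Subgroup K) ⊔ (Q : Subgroup K) : Subgroup K) :=
      Subgroup.card_dvd_of_le le_sup_left
    have h2 : Nat.card (Q : Subgroup K) ∣ Nat.card ((P : Subgroup K) ⊔ (Q : Subgroup K) : Subgroup K) :=
      Subgroup.card_dvd_of_le le_sup_right
    rw [hP] at h1
    rw [hQ] at h2
    have h3' : 15 ∣ Nat.card ((P : Subgroup K) ⊔ (Q : Subgroup K) : Subgroup K) :=
      Nat.Coprime.mul_dvd_of_dvd_of_dvd (by norm_num : Nat.Coprime 5 3) h1 h2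
    have h4 : Nat.card ((P : Subgroup K) ⊔ (Q : Subgroup K) : Subgroup K) ∣ Nat.card K :=
      Subgroup.card_subgroup_dvd_card _
    rw [h] at h4 ⊢
    exact Nat.dvd_antisymm h4 h3'
  -- the centralizer of everything
  have hcent : ∀ z : K, z ∈ (P : Subgroup K) ∨ z ∈ (Q : Subgroup K) → z ∈ Subgroup.center K := by
    intro z hz
    rw [Subgroup.mem_center_iff]
    intro g
    have hg : g ∈ (P : Subgroup K) ⊔ (Q : Subgroup K) := by rw [htop]; trivial
    rw [← SetLike.mem_coe, Subgroup.mul_normal] at hg
    obtain ⟨x, hx, y, hy, rfl⟩ := hg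
    have ex : x * z = z * x := by
      rcases hz with hz | hz
      · exact hPc x hx z hz
      · exact hcomm x hx z hz
    have ey : y * z = z * y := by
      rcases hz with hz | hz
      · exact (hcomm z hz y hy).symm
      · exact hQc y hy z hz
    rw [mul_assoc, ey, ← mul_assoc, ex, mul_assoc]
  have hZ : Subgroup.center K = ⊤ := by
    rw [eq_top_iff, ← htop]
    exact sup_le (fun z hz => hcent z (Or.inl hz)) (fun z hz => hcent z (Or.inr hz))
  have ha : a ∈ Subgroup.center K := by rw [hZ]; trivial
  exact (Subgroup.mem_center_iff.1 ha b).symm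

/-- If all groups whose order properly divides `n` are solvable, a non-solvable group of order `n`
is simple. -/
theorem isSimpleGroup_of_not_isSolvable (n : ℕ)
    (hsolv : ∀ (H : Type u) [Group H] [Finite H], Nat.card H ∣ n → Nat.card H < n → Group.IsSolvable H)
    (G : Type u) [Group G] [Finite G] (hG : Nat.card G = n) (hns : ¬ Group.IsSolvable G) :
    IsSimpleGroup G := by
  haveI : Nontrivial G := by
    by_contra hnt
    rw [not_nontrivial_iff_subsingleton] at hnt
    exact hns inferInstance
  refine ⟨fun N hN => ?_⟩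
  by_contra hcon
  push Not at hcon
  obtain ⟨hN0, hN1⟩ := hcon
  apply hns
  have hNcard : Nat.card N * N.index = n := by rw [← hG]; exact N.card_mul_index
  have hcG : 0 < n := by rw [← hG]; exact Nat.card_pos
  have hidx1 : N.index ≠ 1 := fun h => hN1 (Subgroup.index_eq_one.1 h)
  have hcard1 : Nat.card N ≠ 1 := fun h => hN0 (Subgroup.card_eq_one.1 h)
  have hNpos : 0 < Nat.card N := Nat.card_pos
  have hipos : 0 < N.index := Nat.pos_of_ne_zero (fun h => by rw [h, mul_zero] at hNcard; omega)
  have h1 : Group.IsSolvable N := by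
    apply hsolv N ⟨N.index, hNcard.symm⟩
    have : 2 ≤ N.index := by omega
    nlinarith
  have h2 : Group.IsSolvable (G ⧸ N) := by
    have hq : Nat.card (G ⧸ N) = N.index := rfl
    apply hsolv (G ⧸ N) ⟨Nat.card N, by rw [hq, mul_comm]; exact hNcard.symm⟩
    rw [hq]
    have : 2 ≤ Nat.card N := by omega
    nlinarith
  exact Group.isSolvable_of_ker_le_range N.subtype (QuotientGroup.mk' N)
    (by rw [QuotientGroup.ker_mk', Subgroup.range_subtype])

/-- Groups of order properly dividing `60` are solvable. -/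
theorem isSolvable_of_card_dvd_sixty (H : Type u) [Group H] [Finite H] (hd : Nat.card H ∣ 60)
    (hlt : Nat.card H < 60) : Group.IsSolvable H := by
  have hpos : 0 < Nat.card H := Nat.card_pos
  -- orders of the form `p^a q^b`
  have hpq : ∀ (K : Type u) [Group K] [Finite K],
      Nat.card K ∈ ({1, 2, 3, 4, 5, 6, 10, 12, 15, 20} : Finset ℕ) → Group.IsSolvable K := by
    intro K _ _ hK
    simp only [Finset.mem_insert, Finset.mem_singleton] at hK
    rcases hK with h | h | h | h | h | h | h | h | h | h
    · exact Cfsg.Agent.S0144.result 2 3 0 0 Nat.prime_two Nat.prime_three (by rw [h]; norm_num)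
    · exact Cfsg.Agent.S0144.result 2 3 1 0 Nat.prime_two Nat.prime_three (by rw [h]; norm_num)
    · exact Cfsg.Agent.S0144.result 2 3 0 1 Nat.prime_two Nat.prime_three (by rw [h]; norm_num)
    · exact Cfsg.Agent.S0144.result 2 3 2 0 Nat.prime_two Nat.prime_three (by rw [h]; norm_num)
    · exact Cfsg.Agent.S0144.result 2 5 0 1 Nat.prime_two Nat.prime_five (by rw [h]; norm_num)
    · exact Cfsg.Agent.S0144.result 2 3 1 1 Nat.prime_two Nat.prime_three (by rw [h]; norm_num)
    · exact Cfsg.Agent.S0144.result 2 5 1 1 Nat.prime_two Nat.prime_five (by rw [h]; norm_num)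
    · exact Cfsg.Agent.S0144.result 2 3 2 1 Nat.prime_two Nat.prime_three (by rw [h]; norm_num)
    · exact Cfsg.Agent.S0144.result 3 5 1 1 Nat.prime_three Nat.prime_five (by rw [h]; norm_num)
    · exact Cfsg.Agent.S0144.result 2 5 2 1 Nat.prime_two Nat.prime_five (by rw [h]; norm_num)
  have hmem : Nat.card H ∈ ({1, 2, 3, 4, 5, 6, 10, 12, 15, 20} : Finset ℕ) ∨ Nat.card H = 30 := by
    have : Nat.card H ∈ Nat.divisors 60 := Nat.mem_divisors.2 ⟨hd, by norm_num⟩
    have hdiv : Nat.divisors 60 = {1, 2, 3, 4, 5, 6, 10, 12, 15, 20, 30, 60} := by decide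
    rw [hdiv] at this
    simp only [Finset.mem_insert, Finset.mem_singleton] at this ⊢
    omega
  rcases hmem with h | h
  · exact hpq H h
  · -- order 30
    by_contra hns
    have hsimple : IsSimpleGroup H := by
      apply isSimpleGroup_of_not_isSolvable 30 ?_ H h hns
      intro K _ _ hKd hKlt
      have hKpos : 0 < Nat.card K := Nat.card_pos
      apply hpq K
      have : Nat.card K ∈ Nat.divisors 30 := Nat.mem_divisors.2 ⟨hKd, by norm_num⟩
      have hdiv : Nat.divisors 30 = {1, 2, 3, 5, 6, 10, 15, 30} := by decide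
      rw [hdiv] at this
      simp only [Finset.mem_insert, Finset.mem_singleton] at this ⊢
      omega
    have hnc : ¬ IsCyclic H := by
      intro hc
      apply hns
      haveI := hc
      letI : CommGroup H := IsCyclic.commGroup
      infer_instance
    have := Cfsg.Agent.S0493.result (G := H) hnc (by rw [h]; norm_num)
    omega

/-- The character degree graph of a finite group has as vertices the primes dividing some irreducible complex character degree, two distinct primes being joined when their product divides some irreducible character degree; two groups have the same character degree graph when they have the same vertices and the same joined pairs. A finite group of order 60 with the same character degree graph as the alternating group A₅ (whose character degrees are 1, 3, 4, 5, so the graph has vertices 2, 3, 5 and no edges) is isomorphic to A₅. -/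
theorem result {G : Type*} [Group G] [Finite G] (hcard : Nat.card G = 60)
    (hΓ : Cfsg.degreePrimes G = Cfsg.degreePrimes (alternatingGroup (Fin 5)) ∧ Cfsg.degreeGraph G = Cfsg.degreeGraph (alternatingGroup (Fin 5))) : Nonempty (G ≃* alternatingGroup (Fin 5)) := by
  have h5 : 5 ∈ Cfsg.degreePrimes G := by
    rw [hΓ.1]
    exact Cfsg.Agent.Helper61.A5Degrees.five_mem_degreePrimes
  obtain ⟨-, d, ⟨χ, rfl⟩, hd⟩ := h5
  have hdpos : 0 < charDegree (χ : G → ℂ) := Cfsg.Agent.Helper79.irr_charDegree_pos χ
  have hns : ¬ Group.IsSolvable G := by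
    intro hsol
    haveI := hsol
    obtain ⟨K, hK⟩ := Cfsg.Agent.Lib.hall_exists (G := G) 15 4 (by rw [hcard]) (by norm_num)
    have hKc : ∀ a ∈ K, ∀ b ∈ K, a * b = b * a := by
      intro a ha b hb
      have := comm_of_card_fifteen hK (⟨a, ha⟩ : K) ⟨b, hb⟩
      exact congrArg Subtype.val this
    have hidx : K.index = 4 := by
      have := K.card_mul_index
      rw [hK, hcard] at this
      omega
    obtain ⟨χ, n, ρ, hirr, rfl⟩ := χ
    haveI := hirr
    have hle := Cfsg.Agent.S0178.result ρ K hKc
    rw [hidx] at hle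
    have hdeg : charDegree ρ.character = Module.finrank ℂ (Fin n → ℂ) :=
      Cfsg.Agent.Helper79.charDegree_character ρ
    change 5 ∣ charDegree ρ.character at hd
    change 0 < charDegree ρ.character at hdpos
    rw [hdeg] at hd hdpos
    have := Nat.le_of_dvd hdpos hd
    omega
  haveI : IsSimpleGroup G :=
    isSimpleGroup_of_not_isSolvable 60 (fun H _ _ h1 h2 => isSolvable_of_card_dvd_sixty H h1 h2)
      G hcard hns
  exact Cfsg.Agent.S0494.result hcard

end Cfsg.Agent.S3669
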