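-- Statement S3678 (row 3678).
import Cfsg.Statements.S3678
import Cfsg.Agent.S3660
import Cfsg.Agent.Helper61.F8
import Cfsg.Agent.Helper61.F7

set_option autoImplicit false
open Cfsg

namespace Cfsg.Agent.S3678

open Cfsg.Agent.Helper61

theorem card_F8 : Fintype.card F8 = 8 := by decide

/-- The prime graph of a finite group has the prime divisors of its order as vertices, two distinct primes p, q being joined when the group has an element of order pq; two groups have the same prime graph when they have the same prime divisors and the same joined pairs. Let F be the field with 7 elements. There are finite groups of arbitrarily large order with the same prime graph as PSL(2,F) (the graph on {2, 3, 7} with no edges, which is also the prime graph of PSL(2,8)). -/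
theorem result {F : Type*} [Field F] [Fintype F] (hF : Fintype.card F = 7) (N : ℕ) :
    ∃ (H : Type) (_ : Group H) (_ : Finite H), N < Nat.card H ∧
      ((∀ p : ℕ, p.Prime → (p ∣ Nat.card (Matrix.ProjectiveSpecialLinearGroup (Fin 2) F) ↔ p ∣ Nat.card H)) ∧
      (∀ p q : ℕ, p.Prime → q.Prime → p ≠ q → ((∃ g : (Matrix.ProjectiveSpecialLinearGroup (Fin 2) F), orderOf g = p * q) ↔ (∃ g : H, orderOf g = p * q)))) := by
  obtain ⟨H, hG, hfin, hN, h1, h2⟩ :=
    Cfsg.Agent.S3660.result (F := F8) (by rw [card_F8]; norm_num) N
  obtain ⟨a7, b7⟩ := isGraph237_of_cert (cert237_of_card_seven F hF)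
  obtain ⟨a8, b8⟩ := isGraph237_of_cert F8.cert237
  refine ⟨H, hG, hfin, hN, ?_, ?_⟩
  · intro p hp
    rw [a7 p hp, ← h1 p hp, a8 p hp]
  · intro p q hp hq hpq
    rw [← h2 p q hp hq hpq]
    constructor
    · intro h
      exact absurd h (b7 p q hp hq hpq)
    · intro h
      exact absurd h (b8 p q hp hq hpq)

end Cfsg.Agent.S3678
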