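-- Statement S3680 (row 3680).
import Cfsg.Statements.S3680
import Cfsg.Agent.S0704
import Cfsg.Agent.Helper61.MinNormal
import Cfsg.Agent.Helper61.PermSocle

set_option autoImplicit false
open Cfsg

namespace Cfsg.Agent.S3680

open Cfsg.Agent.Helper61

/-- `((A ⊕ B) → T) ≃* (A → T) × (B → T)` -/
def sumArrowMulEquiv (A B T : Type*) [Mul T] : ((A ⊕ B) → T) ≃* (A → T) × (B → T) where
  toEquiv := Equiv.sumArrowEquivProdArrow A B T
  map_mul' := fun _ _ => rfl

/-- `(Fin a → T) × (Fin b → T) ≃* (Fin (a + b) → T)` -/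
def prodPiFinMulEquiv (a b : ℕ) (T : Type*) [Mul T] :
    (Fin a → T) × (Fin b → T) ≃* (Fin (a + b) → T) :=
  (sumArrowMulEquiv (Fin a) (Fin b) T).symm.trans (MulEquiv.arrowCongr finSumFinEquiv (MulEquiv.refl T))

/-- A non-trivial normal subgroup of a faithful primitive group is transitive. -/
theorem isPretransitive_of_normal_ne_bot {G Ω : Type*} [Group G] [MulAction G Ω] [FaithfulSMul G Ω]
    [hprim : MulAction.IsPreprimitive G Ω] (M : Subgroup G) [M.Normal] (hM : M ≠ ⊥) :
    MulAction.IsPretransitive M Ω := by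
  apply MulAction.IsQuasiPreprimitive.isPretransitive_of_normal (G := G)
  intro hfix
  apply hM
  rw [Subgroup.eq_bot_iff_forall]
  intro m hm
  apply FaithfulSMul.eq_of_smul_eq_smul (α := Ω)
  intro ω
  have : ω ∈ MulAction.fixedPoints M Ω := by rw [hfix]; trivial
  rw [one_smul]
  exact this ⟨m, hm⟩

/-- The socle of a finite primitive permutation group. -/
theorem result {G Ω : Type*} [Group G] [Finite G] [MulAction G Ω] [FaithfulSMul G Ω] [Finite Ω]
    (hprim : MulAction.IsPreprimitive G Ω) (N : Subgroup G)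
    (hN : N = sSup {V : Subgroup G | V.Normal ∧ V ≠ ⊥ ∧ ∀ M : Subgroup G, M.Normal → M ≤ V → M = ⊥ ∨ M = V}) :
    (∃ p : ℕ, p.Prime ∧ IsMulCommutative N ∧ (∀ x : N, x ^ p = 1) ∧
      MulAction.IsPretransitive N Ω ∧ ∀ ω : Ω, MulAction.stabilizer N ω = ⊥) ∨
    (∃ (T : Type) (_ : Group T) (m : ℕ), 1 ≤ m ∧ IsSimpleGroup T ∧ ¬ IsMulCommutative T ∧ Nonempty (N ≃* (Fin m → T))) := by
  classical
  haveI := hprim
  by_cases hG : Subsingleton G
  · -- trivial group
    left
    have hsubN : Subsingleton N := inferInstance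
    refine ⟨2, Nat.prime_two, ⟨⟨fun a b => Subsingleton.elim _ _⟩⟩, fun x => Subsingleton.elim _ _, ?_, ?_⟩
    · refine ⟨fun a b => ?_⟩
      obtain ⟨g, hg⟩ := MulAction.exists_smul_eq G a b
      refine ⟨1, ?_⟩
      rw [one_smul]
      rw [Subsingleton.elim g 1, one_smul] at hg
      exact hg
    · intro ω
      exact Subsingleton.elim _ _
  rw [not_subsingleton_iff_nontrivial] at hG
  -- a minimal normal subgroup exists
  set 𝓜 : Set (Subgroup G) :=
    {V : Subgroup G | V.Normal ∧ V ≠ ⊥ ∧ ∀ M : Subgroup G, M.Normal → M ≤ V → M = ⊥ ∨ M = V} with h𝓜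
  have hwf : WellFounded ((· < ·) : Subgroup G → Subgroup G → Prop) := wellFounded_lt
  have hS : ({V : Subgroup G | V.Normal ∧ V ≠ ⊥}).Nonempty :=
    ⟨⊤, inferInstance, top_ne_bot⟩
  obtain ⟨M, ⟨hMn, hM0⟩, hMmin'⟩ := hwf.has_min _ hS
  have hMmin : ∀ L : Subgroup G, L.Normal → L ≤ M → L = ⊥ ∨ L = M := by
    intro L hLn hLM
    by_cases hL0 : L = ⊥
    · exact Or.inl hL0
    · right
      by_contra hne
      exact hMmin' L ⟨hLn, hL0⟩ (lt_of_le_of_ne hLM hne)
  have hM𝓜 : M ∈ 𝓜 := ⟨hMn, hM0, hMmin⟩
  haveI := hMn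
  haveI hMt : MulAction.IsPretransitive M Ω := isPretransitive_of_normal_ne_bot M hM0
  haveI : Nonempty Ω := by
    by_contra hemp
    rw [not_nonempty_iff] at hemp
    apply hM0
    rw [Subgroup.eq_bot_iff_forall]
    intro m _
    apply FaithfulSMul.eq_of_smul_eq_smul (α := Ω)
    intro a
    exact (hemp.false a).elim
  have hinj : Function.Injective (MulAction.toPermHom G Ω) := MulAction.toPerm_injective
  -- any other minimal normal subgroup lies in the centralizer of `M`
  have hother : ∀ (C : Subgroup G), [MulAction.IsPretransitive C Ω] →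
      (∀ m ∈ M, ∀ c ∈ C, m * c = c * m) → ∀ L ∈ 𝓜, L ≠ M → L ≤ C := by
    intro C _ hcomm L hL hLM
    obtain ⟨hLn, hL0, hLmin⟩ := hL
    haveI := hLn
    have hcommL := Cfsg.Agent.S0704.commute_of_minimal L M hL0 hLmin hMmin hLM
    have hcM := centralizer_map_toPermHom_eq (α := Ω) M C hcomm
    have hle : L.map (MulAction.toPermHom G Ω) ≤ C.map (MulAction.toPermHom G Ω) := by
      rw [← hcM]
      rintro _ ⟨l, hl, rfl⟩
      rw [Subgroup.mem_centralizer_iff]
      rintro _ ⟨m, hm, rfl⟩
      rw [← map_mul, ← map_mul, hcommL l hl m hm]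
    exact (Subgroup.map_le_map_iff_of_injective hinj).1 hle
  by_cases hMab : ∀ a ∈ M, ∀ b ∈ M, a * b = b * a
  · -- abelian case
    left
    have huniq : ∀ L ∈ 𝓜, L = M := by
      intro L hL
      by_contra hLM
      have hle := hother M hMab L hL hLM
      rcases hMmin L hL.1 hle with h | h
      · exact hL.2.1 h
      · exact hLM h
    have hNM : N = M := by
      rw [hN]
      apply le_antisymm
      · apply sSup_le
        intro L hL
        rw [huniq L hL]
      · exact le_sSup hM𝓜
    subst hNM
    obtain ⟨p, hp, hpx⟩ := exists_prime_exponent_of_minimal_abelian N hM0 hMmin hMab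
    refine ⟨p, hp, ⟨⟨fun a b => Subtype.ext (hMab a a.2 b b.2)⟩⟩, ?_, hMt, ?_⟩
    · intro x
      apply Subtype.ext
      simpa using hpx x x.2
    · intro ω
      exact stabilizer_eq_bot_of_commute N N hMab ω
  · -- non-abelian case
    right
    obtain ⟨T, k, hTM, hTsimple, ⟨e⟩⟩ := exists_simple_pow_equiv M hM0 hMmin
    have hTna : ¬ IsMulCommutative T := by
      intro hT
      apply hMab
      intro a ha b hb
      have h1 : e ⟨a, ha⟩ * e ⟨b, hb⟩ = e ⟨b, hb⟩ * e ⟨a, ha⟩ := by
        funext i
        simp only [Pi.mul_apply]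
        exact mul_comm' _ _
      rw [← map_mul, ← map_mul] at h1
      have := e.injective h1
      exact congrArg Subtype.val this
    have hsmall : Small.{0} T := inferInstance
    have eT : Shrink.{0} T ≃* T := Shrink.mulEquiv
    have hSsimple : IsSimpleGroup (Shrink.{0} T) := eT.isSimpleGroup
    have hSna : ¬ IsMulCommutative (Shrink.{0} T) := by
      intro hS
      apply hTna
      refine ⟨⟨fun a b => ?_⟩⟩
      have := mul_comm' (eT.symm a) (eT.symm b)
      rw [← map_mul, ← map_mul] at this
      exact eT.symm.injective this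
    have eM : M ≃* (Fin (k + 1) → Shrink.{0} T) :=
      e.trans (MulEquiv.piCongrRight (fun _ => eT.symm))
    by_cases huniq : ∀ L ∈ 𝓜, L = M
    · have hNM : N = M := by
        rw [hN]
        apply le_antisymm
        · apply sSup_le
          intro L hL
          rw [huniq L hL]
        · exact le_sSup hM𝓜
      subst hNM
      exact ⟨Shrink.{0} T, inferInstance, k + 1, Nat.succ_pos k, hSsimple, hSna, ⟨eM⟩⟩
    · push Not at huniq
      obtain ⟨L, hL, hLM⟩ := huniq
      obtain ⟨hLn, hL0, hLmin⟩ := hL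
      haveI := hLn
      haveI hLt : MulAction.IsPretransitive L Ω := isPretransitive_of_normal_ne_bot L hL0
      have hcommML := Cfsg.Agent.S0704.commute_of_minimal M L hM0 hMmin hLmin (Ne.symm hLM)
      have hall : ∀ L' ∈ 𝓜, L' = M ∨ L' = L := by
        intro L' hL'
        by_cases h1 : L' = M
        · exact Or.inl h1
        · right
          have hle := hother L hcommML L' hL' h1
          rcases hLmin L' hL'.1 hle with h | h
          · exact absurd h hL'.2.1
          · exact h
      have hNML : N = M ⊔ L := by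
        rw [hN]
        apply le_antisymm
        · apply sSup_le
          intro L' hL'
          rcases hall L' hL' with h | h
          · rw [h]; exact le_sup_left
          · rw [h]; exact le_sup_right
        · exact sup_le (le_sSup hM𝓜) (le_sSup ⟨hLn, hL0, hLmin⟩)
      have hdisj : M ⊓ L = ⊥ := by
        rcases hMmin (M ⊓ L) inferInstance inf_le_left with h | h
        · exact h
        · exfalso
          have hle : M ≤ L := by rw [← h]; exact inf_le_right
          rcases hLmin M hMn hle with h' | h'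
          · exact hM0 h'
          · exact hLM h'.symm
      obtain ⟨eML⟩ := nonempty_mulEquiv_of_regular_commute (α := Ω) M L hcommML
      have eN : N ≃* (Fin (k + 1 + (k + 1)) → Shrink.{0} T) :=
        (MulEquiv.subgroupCongr hNML).trans
          ((supEquivProd hcommML hdisj).trans
            ((MulEquiv.prodCongr eM (eML.symm.trans eM)).trans
              (prodPiFinMulEquiv (k + 1) (k + 1) (Shrink.{0} T))))
      exact ⟨Shrink.{0} T, inferInstance, k + 1 + (k + 1), by omega, hSsimple, hSna, ⟨eN⟩⟩

end Cfsg.Agent.S3680
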