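import Cfsg.Statements.S3682
import Cfsg.Agent.Helper13.TWG

set_option autoImplicit false
open Cfsg

namespace Cfsg.Agent.S3682

/-- Wielandt's bound toward the Sims conjecture. Let a finite group G act faithfully and primitively on a set Ω, let a and b be points, and suppose the orbit of b under the stabilizer of a has length d ≥ 2. Then there are a prime p and a normal p-subgroup P of the stabilizer of a, all of whose elements fix b, such that the index of P in the stabilizer of a divides d! · ((d - 1)!)^d. -/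
theorem result {G Ω : Type*} [Group G] [Finite G] [MulAction G Ω] [FaithfulSMul G Ω] [Finite Ω]
    (hprim : MulAction.IsPreprimitive G Ω) (a b : Ω) (d : ℕ) (hd : Nat.card (MulAction.orbit (MulAction.stabilizer G a) b) = d) (h2 : 2 ≤ d) :
    ∃ p : ℕ, p.Prime ∧ ∃ P : Subgroup (MulAction.stabilizer G a), P.Normal ∧ IsPGroup p P ∧ (∀ g : P, ((g : MulAction.stabilizer G a) : G) • b = b) ∧
      P.index ∣ Nat.factorial d * (Nat.factorial (d - 1)) ^ d := by
  classical
  have := hprim
  have h2' : 2 ≤ Nat.card (MulAction.orbit (MulAction.stabilizer G a) b) := by rw [hd]; exact h2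
  have hmove := Cfsg.Agent.Helper13.TW.exists_move_of_two_le h2'
  have : Nontrivial Ω := Cfsg.Agent.Helper13.TW.nontrivial_of_move hmove
  rcases Cfsg.Agent.Helper13.TW.card_dvd_or_ne_bot (G := G) a b d hd with hdvd | ⟨hP, hP'⟩
  · refine ⟨2, Nat.prime_two, ⊥, inferInstance, IsPGroup.of_bot, ?_, ?_⟩
    · rintro ⟨g, hg⟩
      rw [Subgroup.mem_bot] at hg
      subst hg
      simp
    · rw [Subgroup.index_bot]
      exact hdvd
  · obtain ⟨p, hp, hOp⟩ := Cfsg.Agent.Helper13.TW.exists_prime_Op_ne_bot hP hP' hmove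
    have : Fact p.Prime := ⟨hp⟩
    have hpg := Cfsg.Agent.Helper13.TW.PK_isPGroup hOp hmove
    refine ⟨p, hp, (Cfsg.Agent.Helper13.TW.PK G a b).subgroupOf (MulAction.stabilizer G a), ?_, ?_, ?_, ?_⟩
    · rw [Subgroup.normal_subgroupOf_iff_le_normalizer (Cfsg.Agent.Helper13.TW.PK_le_left a b)]
      exact Cfsg.Agent.Helper13.TW.stabilizer_le_normalizer_PK a b
    · exact hpg.comap_subtype
    · rintro ⟨g, hg⟩
      rw [Subgroup.mem_subgroupOf] at hg
      exact Cfsg.Agent.Helper13.TW.PK_le_right a b hg
    · have hc : ∀ β ∈ MulAction.orbit (MulAction.stabilizer G a) b,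
          Nat.card (MulAction.stabilizer G β) = Nat.card (MulAction.stabilizer G a) :=
        fun β _ => Cfsg.Agent.Helper13.TW.card_stabilizer_eq β a
      exact Cfsg.Agent.Helper13.TW.relIndex_PK_stabilizer_dvd a b d hd hc

end Cfsg.Agent.S3682
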