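import Cfsg.Statements.S3683
-- import your own Cfsg.Agent.* helpers here

set_option autoImplicit false
open Cfsg

namespace Cfsg.Agent.S3683

/-- Let a finite group G act faithfully and primitively on a set Ω, and suppose the stabilizer of a point a fixes a second point b ≠ a (a suborbit of length 1 other than {a}). Then the stabilizer of a is trivial and G is cyclic of prime order. -/
theorem result {G Ω : Type*} [Group G] [Finite G] [MulAction G Ω] [FaithfulSMul G Ω] [Finite Ω]
    (hprim : MulAction.IsPreprimitive G Ω) (a b : Ω) (hab : a ≠ b) (hfix : ∀ g : G, g • a = a → g • b = b) :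
    MulAction.stabilizer G a = ⊥ ∧ IsCyclic G ∧ (Nat.card G).Prime := by
  classical
  haveI : Nontrivial Ω := ⟨⟨a, b, hab⟩⟩
  haveI := hprim
  have hcoa : IsCoatom (MulAction.stabilizer G a) :=
    MulAction.IsPreprimitive.isCoatom_stabilizer_of_isPreprimitive G a
  have hcob : IsCoatom (MulAction.stabilizer G b) :=
    MulAction.IsPreprimitive.isCoatom_stabilizer_of_isPreprimitive G b
  have hle : MulAction.stabilizer G a ≤ MulAction.stabilizer G b := by
    intro g hg
    rw [MulAction.mem_stabilizer_iff] at hg ⊢
    exact hfix g hg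
  have heq : MulAction.stabilizer G b = MulAction.stabilizer G a :=
    (hcoa.le_iff_eq hcob.1).1 hle
  -- every element of the stabilizer of `a` fixes every point
  obtain ⟨g, hg⟩ := MulAction.exists_smul_eq G a b
  have hgnot : g ∉ MulAction.stabilizer G a := by
    intro h
    rw [MulAction.mem_stabilizer_iff] at h
    exact hab (h.symm.trans hg)
  have hgnorm : g ∈ Subgroup.normalizer (MulAction.stabilizer G a : Set G) := by
    rw [Subgroup.mem_normalizer_iff]
    intro h
    have h1 : MulAction.stabilizer G (g • a) = MulAction.stabilizer G a := by rw [hg, heq]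
    constructor
    · intro hh
      rw [← h1, MulAction.mem_stabilizer_iff, mul_smul, mul_smul, inv_smul_smul]
      rw [MulAction.mem_stabilizer_iff] at hh
      rw [hh]
    · intro hh
      rw [← h1, MulAction.mem_stabilizer_iff, mul_smul, mul_smul, inv_smul_smul] at hh
      rw [MulAction.mem_stabilizer_iff]
      exact smul_left_cancel g hh
  have hnormtop : Subgroup.normalizer (MulAction.stabilizer G a : Set G) = ⊤ := by
    by_contra hne
    have : Subgroup.normalizer (MulAction.stabilizer G a : Set G) = MulAction.stabilizer G a :=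
      ((hcoa.le_iff_eq hne).1 Subgroup.le_normalizer)
    exact hgnot (this ▸ hgnorm)
  have hnormal : (MulAction.stabilizer G a).Normal := Subgroup.normalizer_eq_top_iff.1 hnormtop
  have hbot : MulAction.stabilizer G a = ⊥ := by
    rw [Subgroup.eq_bot_iff_forall]
    intro x hx
    apply FaithfulSMul.eq_of_smul_eq_smul (α := Ω)
    intro c
    obtain ⟨k, hk⟩ := MulAction.exists_smul_eq G a c
    have hx' : k⁻¹ * x * k ∈ MulAction.stabilizer G a := by
      have := hnormal.conj_mem x hx k⁻¹
      simpa using this
    rw [MulAction.mem_stabilizer_iff, mul_smul, mul_smul, hk] at hx'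
    rw [one_smul]
    have := congrArg (fun z => k • z) hx'
    simpa [hk] using this
  refine ⟨hbot, ?_⟩
  rw [hbot] at hcoa
  haveI : Nontrivial G := by
    by_contra hnt
    rw [not_nontrivial_iff_subsingleton] at hnt
    exact hcoa.1 (Subsingleton.elim _ _)
  have hcard : 1 < Nat.card G := Finite.one_lt_card
  have hp : (Nat.card G).minFac.Prime := Nat.minFac_prime (by omega)
  haveI : Fact (Nat.card G).minFac.Prime := ⟨hp⟩
  obtain ⟨x, hx⟩ := exists_prime_orderOf_dvd_card' (G := G) (Nat.card G).minFac (Nat.minFac_dvd _)
  have hxne : x ≠ 1 := by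
    intro h
    rw [h, orderOf_one] at hx
    exact hp.one_lt.ne hx
  have hz : Subgroup.zpowers x = ⊤ := by
    by_contra hne
    have h2 : Subgroup.zpowers x = ⊥ := (hcoa.le_iff_eq hne).1 bot_le
    rw [Subgroup.zpowers_eq_bot] at h2
    exact hxne h2
  have hcardp : Nat.card G = (Nat.card G).minFac := by
    rw [← hx, ← Nat.card_zpowers, hz, Subgroup.card_top]
  have hprime : (Nat.card G).Prime := hcardp ▸ hp
  haveI : Fact (Nat.card G).Prime := ⟨hprime⟩
  exact ⟨isCyclic_of_prime_card rfl, hprime⟩

end Cfsg.Agent.S3683
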