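-- Statement S3684 (row 3684).
import Cfsg.Statements.S3684
import Cfsg.Agent.S0206

set_option autoImplicit false
open Cfsg

namespace Cfsg.Agent.S3684

open MulAction

/-- A normal subgroup contained in a point stabilizer of a transitive faithful action is trivial. -/
theorem eq_bot_of_normal_of_le_stabilizer {G Ω : Type*} [Group G] [MulAction G Ω] [FaithfulSMul G Ω]
    [IsPretransitive G Ω] (K : Subgroup G) [hK : K.Normal] (a : Ω) (hKa : K ≤ stabilizer G a) :
    K = ⊥ := by
  rw [Subgroup.eq_bot_iff_forall]
  intro x hx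
  apply FaithfulSMul.eq_of_smul_eq_smul (α := Ω)
  intro c
  obtain ⟨k, hk⟩ := MulAction.exists_smul_eq G a c
  have hx' : k⁻¹ * x * k ∈ K := by
    have := hK.conj_mem x hx k⁻¹
    simpa using this
  have h1 := hKa hx'
  rw [MulAction.mem_stabilizer_iff, mul_smul, mul_smul, hk] at h1
  rw [one_smul]
  have := congrArg (fun z => k • z) h1
  simpa [hk] using this

/-- A non-trivial normal subgroup of a faithful primitive group is transitive. -/
theorem isPretransitive_of_normal_ne_bot {G Ω : Type*} [Group G] [MulAction G Ω] [FaithfulSMul G Ω]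
    [hprim : MulAction.IsPreprimitive G Ω] (M : Subgroup G) [M.Normal] (hM : M ≠ ⊥) :
    MulAction.IsPretransitive M Ω := by
  apply MulAction.IsQuasiPreprimitive.isPretransitive_of_normal (G := G)
  intro hfix
  apply hM
  rw [Subgroup.eq_bot_iff_forall]
  intro m hm
  apply FaithfulSMul.eq_of_smul_eq_smul (α := Ω)
  intro ω
  have : ω ∈ MulAction.fixedPoints M Ω := by rw [hfix]; trivial
  rw [one_smul]
  exact this ⟨m, hm⟩

/-- card of a subgroup from relIndex -/
theorem card_eq_card_mul_relIndex {G : Type*} [Group G] (K H : Subgroup G) (hKH : K ≤ H) :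
    Nat.card K * K.relIndex H = Nat.card H := by
  have h1 := Subgroup.card_mul_index (K.subgroupOf H)
  rw [Nat.card_congr (Subgroup.subgroupOfEquivOfLe hKH).toEquiv] at h1
  exact h1

/-- Let a finite group G act faithfully and primitively on a set Ω, and suppose the stabilizer of a point a has an orbit of length 2. Then the stabilizer of a has order 2 and G is isomorphic to the dihedral group of order 2p for some prime p. -/
theorem result {G Ω : Type*} [Group G] [Finite G] [MulAction G Ω] [FaithfulSMul G Ω] [Finite Ω]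
    (hprim : MulAction.IsPreprimitive G Ω) (a b : Ω) (h2 : Nat.card (MulAction.orbit (MulAction.stabilizer G a) b) = 2) :
    Nat.card (MulAction.stabilizer G a) = 2 ∧ ∃ p : ℕ, p.Prime ∧ Nonempty (G ≃* DihedralGroup p) := by
  classical
  haveI := hprim
  -- `G_a` does not fix `b`
  have hnle : ¬ stabilizer G a ≤ stabilizer G b := by
    intro hle
    have hsub : Subsingleton (orbit (stabilizer G a) b) := by
      refine ⟨?_⟩
      rintro ⟨x, ⟨g, rfl⟩⟩ ⟨y, ⟨g', rfl⟩⟩
      apply Subtype.ext
      have h1 : g • b = b := by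
        have := hle g.2
        rwa [MulAction.mem_stabilizer_iff] at this
      have h2 : g' • b = b := by
        have := hle g'.2
        rwa [MulAction.mem_stabilizer_iff] at this
      show g • b = g' • b
      rw [h1, h2]
    have := Finite.card_le_one_iff_subsingleton.2 hsub
    omega
  have hab : a ≠ b := by
    intro h
    apply hnle
    rw [h]
  haveI : Nontrivial Ω := ⟨⟨a, b, hab⟩⟩
  have hcoa : IsCoatom (stabilizer G a) :=
    MulAction.IsPreprimitive.isCoatom_stabilizer_of_isPreprimitive G a
  have hcob : IsCoatom (stabilizer G b) :=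
    MulAction.IsPreprimitive.isCoatom_stabilizer_of_isPreprimitive G b
  have hne : stabilizer G a ≠ stabilizer G b := fun h => hnle h.le
  -- K = G_a ⊓ G_b
  set K : Subgroup G := stabilizer G a ⊓ stabilizer G b with hKdef
  have hKa : K ≤ stabilizer G a := inf_le_left
  have hKb : K ≤ stabilizer G b := inf_le_right
  have hstab : stabilizer (stabilizer G a) b = K.subgroupOf (stabilizer G a) := by
    ext x
    rw [MulAction.mem_stabilizer_iff, Subgroup.mem_subgroupOf, hKdef, Subgroup.mem_inf,
      MulAction.mem_stabilizer_iff, Subgroup.smul_def]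
    constructor
    · intro h
      exact ⟨x.2, h⟩
    · intro h
      exact h.2
  have hrelA : K.relIndex (stabilizer G a) = 2 := by
    rw [Subgroup.relIndex, ← hstab, MulAction.index_stabilizer, ← Nat.card_coe_set_eq]
    exact h2
  -- cards of the two stabilizers agree
  obtain ⟨g, hg⟩ := MulAction.exists_smul_eq G a b
  have hcardab : Nat.card (stabilizer G b) = Nat.card (stabilizer G a) := by
    rw [← hg, MulAction.stabilizer_smul_eq_stabilizer_map_conj]
    exact Subgroup.card_map_of_injective (MulAut.conj g).injective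
  have hKpos : 0 < Nat.card K := Nat.card_pos
  have hcA := card_eq_card_mul_relIndex K _ hKa
  have hcB := card_eq_card_mul_relIndex K _ hKb
  have hrelB : K.relIndex (stabilizer G b) = 2 := by
    rw [hrelA] at hcA
    rw [hcardab, ← hcA] at hcB
    exact Nat.eq_of_mul_eq_mul_left hKpos hcB
  -- K is normal in G
  have hnA : (K.subgroupOf (stabilizer G a)).Normal := Subgroup.normal_of_index_eq_two hrelA
  have hnB : (K.subgroupOf (stabilizer G b)).Normal := Subgroup.normal_of_index_eq_two hrelB
  have hleA : stabilizer G a ≤ Subgroup.normalizer (K : Set G) :=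
    (Subgroup.normal_subgroupOf_iff_le_normalizer hKa).1 hnA
  have hleB : stabilizer G b ≤ Subgroup.normalizer (K : Set G) :=
    (Subgroup.normal_subgroupOf_iff_le_normalizer hKb).1 hnB
  have hsup : stabilizer G a ⊔ stabilizer G b = ⊤ := by
    by_contra hnt
    have h1 : stabilizer G a ⊔ stabilizer G b = stabilizer G a :=
      (hcoa.le_iff_eq hnt).1 le_sup_left
    have h2 : stabilizer G b ≤ stabilizer G a := by
      rw [← h1]; exact le_sup_right
    exact hne ((hcob.le_iff_eq hcoa.1).1 h2)
  have hKn : K.Normal := by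
    rw [← Subgroup.normalizer_eq_top_iff, eq_top_iff, ← hsup]
    exact sup_le hleA hleB
  have hK : K = ⊥ := eq_bot_of_normal_of_le_stabilizer K a hKa
  have hcardA : Nat.card (stabilizer G a) = 2 := by
    rw [← hcA, hrelA, hK, Subgroup.card_bot]
  have hcardB : Nat.card (stabilizer G b) = 2 := by rw [hcardab, hcardA]
  refine ⟨hcardA, ?_⟩
  -- involutions `t ∈ G_a`, `s ∈ G_b`
  have hexA : ∃ t ∈ stabilizer G a, orderOf t = 2 := by
    haveI : Nontrivial (stabilizer G a) := Finite.one_lt_card_iff_nontrivial.1 (by omega)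
    obtain ⟨t, ht⟩ := exists_ne (1 : stabilizer G a)
    refine ⟨t, t.2, ?_⟩
    rw [Subgroup.orderOf_coe]
    have hd : orderOf t ∣ 2 := hcardA ▸ orderOf_dvd_natCard t
    rcases (Nat.dvd_prime Nat.prime_two).1 hd with h | h
    · exact absurd (orderOf_eq_one_iff.1 h) ht
    · exact h
  have hexB : ∃ s ∈ stabilizer G b, orderOf s = 2 := by
    haveI : Nontrivial (stabilizer G b) := Finite.one_lt_card_iff_nontrivial.1 (by omega)
    obtain ⟨t, ht⟩ := exists_ne (1 : stabilizer G b)
    refine ⟨t, t.2, ?_⟩
    rw [Subgroup.orderOf_coe]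
    have hd : orderOf t ∣ 2 := hcardB ▸ orderOf_dvd_natCard t
    rcases (Nat.dvd_prime Nat.prime_two).1 hd with h | h
    · exact absurd (orderOf_eq_one_iff.1 h) ht
    · exact h
  obtain ⟨t, htA, hto⟩ := hexA
  obtain ⟨s, hsB, hso⟩ := hexB
  have ht1 : t ≠ 1 := by
    intro h; rw [h, orderOf_one] at hto; omega
  have hs1 : s ≠ 1 := by
    intro h; rw [h, orderOf_one] at hso; omega
  have hsA : s ∉ stabilizer G a := by
    intro h
    have : s ∈ K := ⟨h, hsB⟩
    rw [hK, Subgroup.mem_bot] at this
    exact hs1 this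
  have hts : t ≠ s := by
    intro h
    apply hsA
    rw [← h]
    exact htA
  -- `G_a = ⟨t⟩`
  have hzt : Subgroup.zpowers t = stabilizer G a := by
    apply Subgroup.eq_of_le_of_card_ge
    · rw [Subgroup.zpowers_le]; exact htA
    · rw [Nat.card_zpowers, hto, hcardA]
  have hclos : Subgroup.closure ({t, s} : Set G) = ⊤ := by
    by_contra hnt
    have hle : stabilizer G a ≤ Subgroup.closure ({t, s} : Set G) := by
      rw [← hzt, Subgroup.zpowers_le]
      exact Subgroup.subset_closure (by simp)
    have h1 := (hcoa.le_iff_eq hnt).1 hle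
    apply hsA
    rw [← h1]
    exact Subgroup.subset_closure (by simp)
  obtain ⟨e0⟩ := Cfsg.Agent.S0206.result t s hto hso hts
  have e : G ≃* DihedralGroup (orderOf (t * s)) :=
    (Subgroup.topEquiv.symm.trans (MulEquiv.subgroupCongr hclos.symm)).trans e0
  set n := orderOf (t * s) with hn
  refine ⟨n, ?_, ⟨e⟩⟩
  -- `n` is prime
  have hcardG : Nat.card G = 2 * n := by
    rw [Nat.card_congr e.toEquiv, DihedralGroup.nat_card]
  have hcardΩ : Nat.card Ω = n := by
    have h1 := Subgroup.card_mul_index (stabilizer G a)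
    rw [MulAction.index_stabilizer_of_transitive, hcardA, hcardG] at h1
    omega
  have hn1 : n ≠ 1 := by
    intro h
    have : Nat.card (stabilizer G a) = Nat.card G := by rw [hcardA, hcardG, h]
    exact hcoa.1 ((Subgroup.card_eq_iff_eq_top _).1 this)
  have hp : (Nat.minFac n).Prime := Nat.minFac_prime hn1
  have hpn : Nat.minFac n ∣ n := Nat.minFac_dvd n
  have hnpos : 0 < n := orderOf_pos _
  set r := t * s with hr
  set x := r ^ (n / Nat.minFac n) with hx
  have hxo : orderOf x = Nat.minFac n := by
    rw [hx, hn]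
    exact orderOf_pow_orderOf_div (by rw [← hn]; exact hnpos.ne') (by rw [← hn]; exact hpn)
  -- conjugation by `t` and `s` inverts `r`
  have ht2 : t * t = 1 := by
    have := pow_orderOf_eq_one t
    rwa [hto, pow_two] at this
  have hs2 : s * s = 1 := by
    have := pow_orderOf_eq_one s
    rwa [hso, pow_two] at this
  have htinv : t⁻¹ = t := inv_eq_of_mul_eq_one_left ht2
  have hsinv : s⁻¹ = s := inv_eq_of_mul_eq_one_left hs2
  have hrinv : r⁻¹ = s * t := by rw [hr, mul_inv_rev, htinv, hsinv]
  have hconjt : t * r * t⁻¹ = r⁻¹ := by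
    rw [hrinv, hr, htinv]
    calc t * (t * s) * t = (t * t) * s * t := by group
      _ = s * t := by rw [ht2, one_mul]
  have hconjs : s * r * s⁻¹ = r⁻¹ := by
    rw [hrinv, hr, hsinv]
    calc s * (t * s) * s = s * t * (s * s) := by group
      _ = s * t := by rw [hs2, mul_one]
  have hnorm : Subgroup.normalizer ((Subgroup.zpowers x : Subgroup G) : Set G) = ⊤ := by
    rw [eq_top_iff, ← hclos, Subgroup.closure_le]
    have key : ∀ u : G, u * r * u⁻¹ = r⁻¹ → u⁻¹ * r * u = r⁻¹ →
        u ∈ Subgroup.normalizer ((Subgroup.zpowers x : Subgroup G) : Set G) := by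
      intro u hu hu'
      rw [Subgroup.mem_normalizer_iff]
      intro y
      have hux : ∀ k : ℤ, u * x ^ k * u⁻¹ = (x ^ k)⁻¹ := by
        intro k
        have h1 : u * x * u⁻¹ = x⁻¹ := by
          rw [hx]
          have : u * r ^ (n / Nat.minFac n) * u⁻¹ = (u * r * u⁻¹) ^ (n / Nat.minFac n) := by
            rw [conj_pow]
          rw [this, hu, inv_pow]
        have : u * x ^ k * u⁻¹ = (u * x * u⁻¹) ^ k := by
          rw [conj_zpow]
        rw [this, h1, inv_zpow]
      have hux' : ∀ k : ℤ, u⁻¹ * x ^ k * u = (x ^ k)⁻¹ := by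
        intro k
        have h1 : u⁻¹ * x * u = x⁻¹ := by
          rw [hx]
          have : u⁻¹ * r ^ (n / Nat.minFac n) * u = (u⁻¹ * r * u) ^ (n / Nat.minFac n) := by
            have := conj_pow (a := u⁻¹) (b := r) (i := n / Nat.minFac n)
            simpa using this.symm
          rw [this, hu', inv_pow]
        have : u⁻¹ * x ^ k * u = (u⁻¹ * x * u) ^ k := by
          have := conj_zpow (a := u⁻¹) (b := x) (i := k)
          simpa using this.symm
        rw [this, h1, inv_zpow]
      constructor
      · rintro ⟨k, rfl⟩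
        rw [hux k]
        exact Subgroup.inv_mem _ (Subgroup.zpow_mem_zpowers x k)
      · rintro ⟨k, hk⟩
        have : y = u⁻¹ * (u * y * u⁻¹) * u := by group
        rw [this, ← hk, hux' k]
        exact Subgroup.inv_mem _ (Subgroup.zpow_mem_zpowers x k)
    intro u hu
    rcases hu with rfl | hu
    · apply key _ hconjt
      rw [htinv] at hconjt ⊢
      exact hconjt
    · rw [Set.mem_singleton_iff] at hu
      subst hu
      apply key _ hconjs
      rw [hsinv] at hconjs ⊢
      exact hconjs
  haveI hxn : (Subgroup.zpowers x).Normal := Subgroup.normalizer_eq_top_iff.1 hnorm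
  have hx0 : Subgroup.zpowers x ≠ ⊥ := by
    intro h
    rw [Subgroup.zpowers_eq_bot] at h
    rw [h, orderOf_one] at hxo
    exact hp.one_lt.ne hxo
  haveI : IsPretransitive (Subgroup.zpowers x) Ω := isPretransitive_of_normal_ne_bot _ hx0
  have hdvd : n ∣ Nat.minFac n := by
    have h1 := Subgroup.card_mul_index (stabilizer (Subgroup.zpowers x) a)
    rw [MulAction.index_stabilizer_of_transitive, hcardΩ, Nat.card_zpowers, hxo] at h1
    exact Dvd.intro_left _ h1
  rcases (Nat.dvd_prime hp).1 hdvd with h | h
  · exact absurd h hn1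
  · rw [h]; exact hp

end Cfsg.Agent.S3684
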