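import Mathlib
import Cfsg.Statements.S3696

set_option autoImplicit false
set_option linter.unusedSectionVars false
open Cfsg

namespace Cfsg.Agent.S3696


theorem amgm_list (l : List ℕ) : l.prod * l.length ^ l.length ≤ l.sum ^ l.length := by
  rcases Nat.eq_zero_or_pos l.length with h0 | hpos
  · rw [h0]; have : l = [] := List.length_eq_zero_iff.mp h0
    subst this; simp
  · have hk : (0:ℝ) < (l.length : ℝ) := by exact_mod_cast hpos
    have h := Real.geom_mean_le_arith_mean_weighted (Finset.univ : Finset (Fin l.length))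
      (fun _ => (1:ℝ) / l.length) (fun i => (l.get i : ℝ)) (fun _ _ => by positivity)
      (by simp [Finset.sum_const, hk.ne']) (fun _ _ => by positivity)
    have hprod : (∏ i : Fin l.length, (l.get i : ℝ)) = (l.prod : ℝ) := by
      have : l.prod = ∏ i : Fin l.length, l.get i := by
        rw [← List.prod_ofFn, List.ofFn_get]
      rw [this]; push_cast; rfl
    have hsum : (∑ i : Fin l.length, (l.get i : ℝ)) = (l.sum : ℝ) := by
      have : l.sum = ∑ i : Fin l.length, l.get i := by
        rw [← List.sum_ofFn, List.ofFn_get]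
      rw [this]; push_cast; rfl
    have h2 : (∏ i : Fin l.length, ((l.get i : ℝ)) ^ ((1:ℝ) / l.length)) ^ l.length
        = (l.prod : ℝ) := by
      rw [← Finset.prod_pow, ← hprod]
      apply Finset.prod_congr rfl
      intro i _
      rw [← Real.rpow_natCast, ← Real.rpow_mul (by positivity)]
      rw [one_div, inv_mul_cancel₀ hk.ne', Real.rpow_one]
    have h3 : (∑ i : Fin l.length, (1:ℝ) / l.length * (l.get i : ℝ)) = (l.sum : ℝ) / l.length := by
      rw [← Finset.mul_sum, hsum]; ring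
    rw [h3] at h
    have h4 : (l.prod : ℝ) ≤ ((l.sum : ℝ) / l.length) ^ l.length := by
      rw [← h2]
      exact pow_le_pow_left₀ (Finset.prod_nonneg (fun i _ => by positivity)) h _
    rw [div_pow, le_div_iff₀ (by positivity)] at h4
    exact_mod_cast h4

theorem amgm_multiset (s : Multiset ℕ) :
    s.prod * Multiset.card s ^ Multiset.card s ≤ s.sum ^ Multiset.card s := by
  induction s using Quotient.inductionOn with
  | _ l => simpa using amgm_list l

theorem prod_map_pow (p : ℕ) (s : Multiset ℕ) : (s.map (fun a => p ^ a)).prod = p ^ s.sum := by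
  induction s using Multiset.induction_on with
  | empty => simp
  | cons a s ih => simp [ih, pow_add]

theorem numeric (p : ℕ) (hp : 2 ≤ p) : ∀ (d : ℕ) (s : Multiset ℕ) (k : ℕ),
    k = Multiset.card s + d → (∀ a ∈ s, 1 ≤ a) → k ≤ s.sum →
    p ^ s.sum * k ^ k ≤ ((s.map (fun a => p ^ a)).sum) ^ k := by
  intro d
  induction d with
  | zero =>
    intro s k hk _ _
    have h := amgm_multiset (s.map (fun a => p ^ a))
    rw [prod_map_pow, Multiset.card_map] at h
    rw [add_zero] at hk
    rw [hk]; exact h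
  | succ d ih =>
    intro s k hk h1 hsum
    -- some element is at least 2
    have hex : ∃ a ∈ s, 2 ≤ a := by
      by_contra hcon
      push Not at hcon
      have hall : ∀ a ∈ s, a = 1 := fun a ha => le_antisymm (Nat.lt_succ_iff.mp (hcon a ha)) (h1 a ha)
      have : s.sum = Multiset.card s := by
        rw [Multiset.eq_replicate_card.mpr hall]; simp
      omega
    obtain ⟨a, has, ha2⟩ := hex
    obtain ⟨t, rfl⟩ := Multiset.exists_cons_of_mem has
    have hnew := ih (1 ::ₘ (a - 1) ::ₘ t) k (by simp at hk ⊢; omega)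
      (by
        intro b hb
        simp only [Multiset.mem_cons] at hb
        rcases hb with rfl | rfl | hb
        · exact le_refl _
        · omega
        · exact h1 b (Multiset.mem_cons_of_mem hb))
      (by simp at hsum ⊢; omega)
    have hs : (1 ::ₘ (a - 1) ::ₘ t).sum = (a ::ₘ t).sum := by simp; omega
    rw [hs] at hnew
    refine hnew.trans (Nat.pow_le_pow_left ?_ k)
    simp only [Multiset.map_cons, Multiset.sum_cons, pow_one]
    have : p + p ^ (a - 1) ≤ p ^ a := by
      obtain ⟨b, rfl⟩ : ∃ b, a = b + 2 := ⟨a - 2, by omega⟩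
      have e : b + 2 - 1 = b + 1 := by omega
      rw [e]
      have hb1 : p ≤ p ^ (b + 1) := by
        calc p = p ^ 1 := (pow_one p).symm
          _ ≤ p ^ (b + 1) := Nat.pow_le_pow_right (by omega) (by omega)
      calc p + p ^ (b + 1) ≤ p ^ (b + 1) + p ^ (b + 1) := by omega
        _ = 2 * p ^ (b + 1) := by ring
        _ ≤ p * p ^ (b + 1) := Nat.mul_le_mul_right _ hp
        _ = p ^ (b + 2) := by ring
    omega

section grp
variable {Ω : Type*} [Fintype Ω] [DecidableEq Ω]

def Om (p : ℕ) (A : Subgroup (Equiv.Perm Ω)) (hc : ∀ a ∈ A, ∀ b ∈ A, a * b = b * a)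
    (T : Finset Ω) : Subgroup (Equiv.Perm Ω) where
  carrier := {g | g ∈ A ∧ (∀ x ∈ T, g x = x) ∧ g ^ p = 1}
  one_mem' := ⟨A.one_mem, fun _ _ => rfl, one_pow _⟩
  mul_mem' := by
    rintro a b ⟨ha, hax, hap⟩ ⟨hb, hbx, hbp⟩
    refine ⟨A.mul_mem ha hb, fun x hx => ?_, ?_⟩
    · simp [Equiv.Perm.mul_apply, hbx x hx, hax x hx]
    · rw [Commute.mul_pow (show Commute a b from hc a ha b hb), hap, hbp, one_mul]
  inv_mem' := by
    rintro a ⟨ha, hax, hap⟩
    refine ⟨A.inv_mem ha, fun x hx => ?_, ?_⟩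
    · rw [Equiv.Perm.inv_eq_iff_eq]; exact (hax x hx).symm
    · rw [inv_pow, hap, inv_one]

theorem mem_Om {p : ℕ} {A : Subgroup (Equiv.Perm Ω)} {hc : ∀ a ∈ A, ∀ b ∈ A, a * b = b * a}
    {T : Finset Ω} {g : Equiv.Perm Ω} :
    g ∈ Om p A hc T ↔ g ∈ A ∧ (∀ x ∈ T, g x = x) ∧ g ^ p = 1 := Iff.rfl

def Good (A : Subgroup (Equiv.Perm Ω)) (T : Finset Ω) : Prop :=
  (∀ x ∈ T, ∀ y ∈ T, ∀ a ∈ A, a x = y → x = y) ∧ (∀ x ∈ T, ∃ a ∈ A, a x ≠ x)

theorem greedy (p : ℕ) [hp : Fact p.Prime] (A : Subgroup (Equiv.Perm Ω)) (hA : IsPGroup p A)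
    (hc : ∀ a ∈ A, ∀ b ∈ A, a * b = b * a) :
    ∀ (c : ℕ) (T : Finset Ω), Good A T → Nat.card (Om p A hc T) = c →
    ∃ T' : Finset Ω, Good A T' ∧ p ^ T'.card ≤ p ^ T.card * c ∧
      (∀ g ∈ A, (∀ x ∈ T', g x = x) → g = 1) := by
  intro c
  induction c using Nat.strong_induction_on with
  | _ c ih =>
  intro T hT hcard
  by_cases htriv : ∀ g ∈ A, (∀ x ∈ T, g x = x) → g = 1
  · refine ⟨T, hT, ?_, htriv⟩
    have : 0 < c := hcard ▸ Nat.card_pos
    exact Nat.le_mul_of_pos_right _ this
  · push Not at htriv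
    obtain ⟨g, hgA, hgT, hg1⟩ := htriv
    -- element of order p
    obtain ⟨n, hn⟩ := hA ⟨g, hgA⟩
    have hn' : g ^ (p ^ n) = 1 := by
      have := congrArg Subtype.val hn
      simpa using this
    obtain ⟨m, hmn, hm⟩ := (Nat.dvd_prime_pow hp.out).mp (orderOf_dvd_of_pow_eq_one hn')
    have hm0 : m ≠ 0 := by
      rintro rfl
      rw [pow_zero, orderOf_eq_one_iff] at hm
      exact hg1 hm
    obtain ⟨m', rfl⟩ : ∃ m', m = m' + 1 := ⟨m - 1, by omega⟩
    obtain ⟨h, hh⟩ : ∃ h, h = g ^ (p ^ m') := ⟨_, rfl⟩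
    have hhA : h ∈ A := hh ▸ A.pow_mem hgA _
    have hhT : ∀ x ∈ T, h x = x := by
      intro x hx; rw [hh]
      exact Equiv.Perm.pow_apply_eq_self_of_apply_eq_self (hgT x hx) _
    have hhp : h ^ p = 1 := by
      rw [hh, ← pow_mul, ← pow_succ, ← hm, pow_orderOf_eq_one]
    have hh1 : h ≠ 1 := by
      rw [hh]
      intro h1
      have := orderOf_dvd_of_pow_eq_one h1
      rw [hm] at this
      have := (Nat.pow_dvd_pow_iff_le_right hp.out.one_lt).mp this
      omega
    obtain ⟨x, hx⟩ : ∃ x, h x ≠ x := by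
      by_contra hcon
      push Not at hcon
      exact hh1 (Equiv.Perm.ext hcon)
    have hxT : x ∉ T := fun hxT => hx (hhT x hxT)
    have hcomm : ∀ a ∈ A, ∀ y, h (a y) = a (h y) := by
      intro a ha y
      have := hc h hhA a ha
      calc h (a y) = (h * a) y := rfl
        _ = (a * h) y := by rw [this]
        _ = a (h y) := rfl
    have hGood : Good A (insert x T) := by
      refine ⟨?_, ?_⟩
      · intro u hu v hv a ha hauv
        rw [Finset.mem_insert] at hu hv
        rcases hu with rfl | hu <;> rcases hv with rfl | hv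
        · rfl
        · exfalso
          apply hx
          have : u = a⁻¹ v := by rw [← hauv]; simp
          rw [this, hcomm _ (A.inv_mem ha), hhT v hv]
        · exfalso
          apply hx
          rw [← hauv, hcomm a ha, hhT u hu]
        · exact hT.1 u hu v hv a ha hauv
      · intro u hu
        rw [Finset.mem_insert] at hu
        rcases hu with rfl | hu
        · exact ⟨h, hhA, hx⟩
        · exact hT.2 u hu
    have hle : Om p A hc (insert x T) ≤ Om p A hc T := by
      intro g hg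
      rw [mem_Om] at hg ⊢
      exact ⟨hg.1, fun y hy => hg.2.1 y (Finset.mem_insert_of_mem hy), hg.2.2⟩
    have hlt : Om p A hc (insert x T) < Om p A hc T := by
      refine lt_of_le_of_ne hle ?_
      intro heq
      have : h ∈ Om p A hc (insert x T) := by
        rw [heq]; exact ⟨hhA, hhT, hhp⟩
      exact hx (this.2.1 x (Finset.mem_insert_self _ _))
    have hOmA : Om p A hc T ≤ A := fun g hg => hg.1
    obtain ⟨j, hj⟩ := (hA.to_le hOmA).exists_card_eq
    have hdvd : Nat.card (Om p A hc (insert x T)) ∣ c := hcard ▸ Subgroup.card_dvd_of_le hle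
    have hclt : Nat.card (Om p A hc (insert x T)) < c := by
      rw [← hcard]
      have : (Om p A hc (insert x T) : Set (Equiv.Perm Ω)) ⊂ Om p A hc T := hlt
      have h2 := Set.ncard_lt_ncard this (Set.toFinite _)
      rw [← Nat.card_coe_set_eq, ← Nat.card_coe_set_eq] at h2
      exact h2
    rw [hcard] at hj
    obtain ⟨i, hij, hi⟩ := (Nat.dvd_prime_pow hp.out).mp (hj ▸ hdvd)
    obtain ⟨T', hT'G, hT'c, hT't⟩ := ih _ hclt (insert x T) hGood rfl
    refine ⟨T', hT'G, ?_, hT't⟩
    rw [Finset.card_insert_of_notMem hxT, hi] at hT'c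
    rw [hi, hj] at hclt
    have hilt : i < j := (Nat.pow_lt_pow_iff_right hp.out.one_lt).mp hclt
    calc p ^ T'.card ≤ p ^ (T.card + 1) * p ^ i := hT'c
      _ = p ^ T.card * p ^ (i + 1) := by ring
      _ ≤ p ^ T.card * p ^ j := Nat.mul_le_mul_left _ (Nat.pow_le_pow_right hp.out.pos hilt)
      _ = p ^ T.card * c := by rw [hj]


end grp

/-- Let p be a prime, Ω a finite set with n ≥ p elements, and A an abelian p-subgroup of the symmetric group on Ω whose elements of order dividing p number p^k (so k is the rank of A). Then |A| · k^k ≤ n^k, that is, |A| ≤ (n/k)^k. -/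
theorem result {Ω : Type*} [Fintype Ω] [DecidableEq Ω]
    (p : ℕ) (hp : p.Prime) (hn : p ≤ Fintype.card Ω) (A : Subgroup (Equiv.Perm Ω)) (hA : IsPGroup p A) (hab : IsMulCommutative A)
    (k : ℕ) (hk : Nat.card {x : A // x ^ p = 1} = p ^ k) :
    Nat.card A * k ^ k ≤ Fintype.card Ω ^ k := by
  have : Fact p.Prime := ⟨hp⟩
  have hc : ∀ a ∈ A, ∀ b ∈ A, a * b = b * a := by
    intro a ha b hb
    have := hab.is_comm.comm ⟨a, ha⟩ ⟨b, hb⟩
    exact congrArg Subtype.val this
  have hGood0 : Good A (∅ : Finset Ω) := ⟨by simp, by simp⟩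
  have hcard0 : Nat.card (Om p A hc ∅) = p ^ k := by
    rw [← hk]
    refine Nat.card_congr ?_
    exact
      { toFun := fun g => ⟨⟨g.1, g.2.1⟩, Subtype.ext g.2.2.2⟩
        invFun := fun x => ⟨x.1.1, x.1.2, by simp, congrArg Subtype.val x.2⟩
        left_inv := fun g => rfl
        right_inv := fun x => rfl }
  obtain ⟨T, hTG, hTc, hTt⟩ := greedy p A hA hc _ ∅ hGood0 hcard0
  simp only [Finset.card_empty, pow_zero, one_mul] at hTc
  have hTk : T.card ≤ k := (Nat.pow_le_pow_iff_right hp.one_lt).mp hTc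
  -- orbit sizes
  have horb : ∀ x : Ω, ∃ n : ℕ, Nat.card (MulAction.orbit A x) = p ^ n := fun x => hA.card_orbit x
  choose e he using horb
  have he1 : ∀ x ∈ T, 1 ≤ e x := by
    intro x hx
    by_contra hcon
    have h0 : e x = 0 := by omega
    have h1 := he x
    rw [h0, pow_zero] at h1
    obtain ⟨a, haA, hax⟩ := hTG.2 x hx
    have hsub : Subsingleton (MulAction.orbit A x) := (Nat.card_eq_one_iff_unique.mp h1).1
    have := hsub.elim ⟨x, MulAction.mem_orbit_self x⟩ ⟨a x, ⟨⟨a, haA⟩, rfl⟩⟩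
    exact hax (congrArg Subtype.val this).symm
  -- |A| ≤ ∏ orbit sizes
  have hAle : Nat.card A ≤ ∏ x ∈ T, p ^ e x := by
    let f : A → (∀ x : T, MulAction.orbit A (x : Ω)) := fun a x => ⟨a • (x : Ω), MulAction.mem_orbit _ _⟩
    have hf : Function.Injective f := by
      intro a b hab'
      have h1 : ∀ x ∈ T, (a : Equiv.Perm Ω) x = (b : Equiv.Perm Ω) x := by
        intro x hx
        have := congrFun hab' ⟨x, hx⟩
        exact congrArg Subtype.val this
      have h2 : ((b : Equiv.Perm Ω)⁻¹ * (a : Equiv.Perm Ω)) = 1 := by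
        apply hTt _ (A.mul_mem (A.inv_mem b.2) a.2)
        intro x hx
        rw [Equiv.Perm.mul_apply, h1 x hx]; simp
      apply Subtype.ext
      exact (inv_mul_eq_one.mp h2).symm
    have := Nat.card_le_card_of_injective f hf
    rw [Nat.card_pi] at this
    refine this.trans (le_of_eq ?_)
    rw [← Finset.prod_coe_sort T (fun x => p ^ e x)]
    exact Finset.prod_congr rfl (fun x _ => he x)
  -- sum of orbit sizes ≤ n
  have hsum : ∑ x ∈ T, p ^ e x ≤ Fintype.card Ω := by
    let g : (Σ x : T, MulAction.orbit A (x : Ω)) → Ω := fun z => z.2.1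
    have hg : Function.Injective g := by
      rintro ⟨⟨x, hx⟩, ⟨y, hy⟩⟩ ⟨⟨x', hx'⟩, ⟨y', hy'⟩⟩ hyy
      change y = y' at hyy
      subst hyy
      obtain ⟨a, ha⟩ := hy
      obtain ⟨b, hb⟩ := hy'
      have hxx : x = x' := by
        apply hTG.1 x hx x' hx' ((b : Equiv.Perm Ω)⁻¹ * (a : Equiv.Perm Ω)) (A.mul_mem (A.inv_mem b.2) a.2)
        rw [Equiv.Perm.mul_apply]
        have h1 : (a : Equiv.Perm Ω) x = y := ha
        have h2 : (b : Equiv.Perm Ω) x' = y := hb
        rw [h1, ← h2]; simp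
      subst hxx
      rfl
    have := Nat.card_le_card_of_injective g hg
    rw [Nat.card_sigma, Nat.card_eq_fintype_card] at this
    refine le_trans (le_of_eq ?_) this
    rw [← Finset.sum_coe_sort T (fun x => p ^ e x)]
    exact Finset.sum_congr rfl (fun x _ => (he x).symm)
  -- numeric
  set M : Multiset ℕ := T.val.map e with hM
  have hMcard : Multiset.card M = T.card := by simp [hM]
  have hMsum : M.sum = ∑ x ∈ T, e x := rfl
  have hMpsum : (M.map (fun a => p ^ a)).sum = ∑ x ∈ T, p ^ e x := by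
    rw [hM, Multiset.map_map]; rfl
  have hpS : p ^ M.sum = ∏ x ∈ T, p ^ e x := by
    rw [hMsum, Finset.prod_pow_eq_pow_sum]
  have hkA : p ^ k ≤ Nat.card A := by
    rw [← hk]
    exact Nat.card_le_card_of_injective (fun x => x.1) (fun x y h => Subtype.ext h)
  have hkS : k ≤ M.sum := by
    apply (Nat.pow_le_pow_iff_right hp.one_lt).mp
    rw [hpS]; exact hkA.trans hAle
  have hM1 : ∀ a ∈ M, 1 ≤ a := by
    intro a ha
    rw [hM, Multiset.mem_map] at ha
    obtain ⟨x, hx, rfl⟩ := ha
    exact he1 x hx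
  have hnum := numeric p hp.two_le (k - T.card) M k (by rw [hMcard]; omega) hM1 hkS
  rw [hMpsum, hpS] at hnum
  calc Nat.card A * k ^ k ≤ (∏ x ∈ T, p ^ e x) * k ^ k := Nat.mul_le_mul_right _ hAle
    _ ≤ (∑ x ∈ T, p ^ e x) ^ k := hnum
    _ ≤ Fintype.card Ω ^ k := Nat.pow_le_pow_left hsum k


end Cfsg.Agent.S3696
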