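-- S3703: Mazurov's lemma: G/N Frobenius with kernel F and cyclic complement H, (|F|,|N|) = 1,
-- F not inside the image of C_G(N)  ==>  G has an element of order p·|H| for a prime p | |N|.  (helper52)
import Cfsg.Statements.S3703
import Cfsg.Agent.S0027
import Cfsg.Agent.Helper1.CoprimeSylow
import Cfsg.Agent.Helper1.Frobenius
import Cfsg.Agent.Helper52.TraceLemma

set_option autoImplicit false
open Cfsg

namespace Cfsg.Agent.S3703

open scoped Pointwise commutatorElement
open Cfsg.Agent.Helper1 Cfsg.Agent.Helper52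

/-! ### Part I: facts about a Frobenius group -/

section Frob

variable {Q : Type*} [Group Q] (F H : Subgroup Q) [hFn : F.Normal]

/-- a nontrivial element of a conjugate of the complement has no fixed points on the kernel -/
theorem fpf_of_mem_conj (hH : Cfsg.IsFrobeniusComplement H) (hker : Cfsg.frobeniusKernel H = (F : Set Q))
    {z g c : Q} (hz : g⁻¹ * z * g ∈ H) (hz1 : z ≠ 1) (hc : c ∈ F) (hcz : c * z = z * c) : c = 1 := by
  set z' := g⁻¹ * z * g with hz'
  set c' := g⁻¹ * c * g with hc'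
  have hc'F : c' ∈ F := by
    have := hFn.conj_mem c hc g⁻¹
    rwa [inv_inv] at this
  have hcomm : c' * z' * c'⁻¹ = z' := by
    have : c' * z' * c'⁻¹ = g⁻¹ * (c * z * c⁻¹) * g := by rw [hc', hz']; group
    rw [this, hcz]; rw [hz']; group
  have hz'1 : z' ≠ 1 := by
    intro h
    apply hz1
    have : z = g * z' * g⁻¹ := by rw [hz']; group
    rw [this, h]; group
  have hc'H : c' ∈ H := by
    by_contra hn
    have h1 := hH.2.2 c' hn
    have h2 : z' ∈ H ⊓ (MulAut.conj c' • H) := by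
      refine ⟨hz, ?_⟩
      rw [← hcomm]
      exact conj_mem_conj_smul hz
    rw [h1, Subgroup.mem_bot] at h2
    exact hz'1 h2
  have hc'1 : c' = 1 := by
    apply eq_one_of_mem_of_mem_frobeniusKernel H hc'H
    rw [hker]; exact hc'F
  have : c = g * c' * g⁻¹ := by rw [hc']; group
  rw [this, hc'1]; group

variable {F H}

/-- powers of an element congruent to a generator of the complement modulo the kernel -/
theorem pow_mem_kernel_iff (hker : Cfsg.frobeniusKernel H = (F : Set Q))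
    {y x : Q} (hy : y ∈ H) (hxy : y⁻¹ * x ∈ F) (j : ℕ) : x ^ j ∈ F ↔ orderOf y ∣ j := by
  have h1 : ((x : Q) : Q ⧸ F) = ((y : Q) : Q ⧸ F) := by
    rw [eq_comm, QuotientGroup.eq]; exact hxy
  have h2 : x ^ j ∈ F ↔ y ^ j ∈ F := by
    rw [← QuotientGroup.eq_one_iff, ← QuotientGroup.eq_one_iff, QuotientGroup.mk_pow,
      QuotientGroup.mk_pow, h1]
  rw [h2, orderOf_dvd_iff_pow_eq_one]
  constructor
  · intro h
    apply eq_one_of_mem_of_mem_frobeniusKernel H (H.pow_mem hy j)
    rw [hker]; exact h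
  · intro h
    rw [h]; exact F.one_mem

theorem pow_orderOf_eq_one_of_congr
    (hker : Cfsg.frobeniusKernel H = (F : Set Q))
    {y x : Q} (hy : y ∈ H) (hy1 : orderOf y ≠ 1) (hxy : y⁻¹ * x ∈ F) : x ^ orderOf y = 1 := by
  have hxF : x ∉ F := by
    intro h
    have := (pow_mem_kernel_iff hker hy hxy 1).mp (by rwa [pow_one])
    exact hy1 (Nat.dvd_one.mp this)
  have hxk : x ∉ Cfsg.frobeniusKernel H := by rw [hker]; exact hxF
  rw [Cfsg.Agent.Helper63.not_mem_frobeniusKernel_iff] at hxk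
  obtain ⟨-, g, hg⟩ := hxk
  have h1 : (g⁻¹ * x * g) ^ orderOf y ∈ H := H.pow_mem hg _
  have h2 : (g⁻¹ * x * g) ^ orderOf y ∈ F := by
    have e : (g⁻¹ * x * g) ^ orderOf y = g⁻¹ * x ^ orderOf y * g⁻¹⁻¹ := by
      have : g⁻¹ * x * g = g⁻¹ * x * g⁻¹⁻¹ := by rw [inv_inv]
      rw [this, conj_pow]
    rw [e]
    exact hFn.conj_mem _ ((pow_mem_kernel_iff hker hy hxy _).mpr dvd_rfl) g⁻¹
  have h3 : (g⁻¹ * x * g) ^ orderOf y = 1 := by
    apply eq_one_of_mem_of_mem_frobeniusKernel H h1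
    rw [hker]; exact h2
  have e : x ^ orderOf y = g * (g⁻¹ * x * g) ^ orderOf y * g⁻¹ := by
    rw [← conj_pow]; congr 1; group
  rw [e, h3]; group

end Frob

/-! ### Part II: general lemmas -/

/-- A subgroup containing a Sylow `r`-subgroup for every prime `r` is everything. -/
theorem eq_top_of_forall_exists_sylow_le {K : Type*} [Group K] [Finite K] (D : Subgroup K)
    (h : ∀ (r : ℕ) [Fact r.Prime], ∃ P : Sylow r K, (P : Subgroup K) ≤ D) : D = ⊤ := by
  apply Subgroup.eq_top_of_card_eq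
  apply le_antisymm (Subgroup.card_le_card_group D)
  apply Nat.le_of_dvd Nat.card_pos
  rw [← Nat.factorization_prime_le_iff_dvd Nat.card_pos.ne' Nat.card_pos.ne']
  intro r hr
  haveI : Fact r.Prime := ⟨hr⟩
  obtain ⟨P, hP⟩ := h r
  have h1 : Nat.card P ∣ Nat.card D := Subgroup.card_dvd_of_le hP
  rw [P.card_eq_multiplicity] at h1
  exact (hr.pow_dvd_iff_le_factorization Nat.card_pos.ne').mp h1

/-- An element normalizing `A` and `B` normalizes `⁅A, B⁆`. -/
theorem normalizes_commutator {G : Type*} [Group G] {A B : Subgroup G} {g : G}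
    (hA : g ∈ Subgroup.normalizer (A : Set G)) (hB : g ∈ Subgroup.normalizer (B : Set G)) :
    g ∈ Subgroup.normalizer ((⁅A, B⁆ : Subgroup G) : Set G) := by
  apply mem_normalizer_of_conj_smul_eq
  have h : MulAut.conj g • ⁅A, B⁆ = ⁅MulAut.conj g • A, MulAut.conj g • B⁆ := by
    simp only [Subgroup.pointwise_smul_def]
    exact Subgroup.map_commutator _ _ _
  rw [h, conj_smul_eq_of_mem_normalizer hA, conj_smul_eq_of_mem_normalizer hB]

/-! ### Part III: the statement -/

/-- Let N be a normal subgroup of the finite group G such that G/N is a Frobenius group with kernel F and cyclic complement H, where the order of F is coprime to that of N and F is not contained in the image of C_G(N) in G/N. Then G has an element of order p·#H for some prime p dividing the order of N. (A standard tool in recognising groups by their element orders.) -/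
theorem result {G : Type*} [Group G] [Finite G] (N : Subgroup G) [N.Normal]
    (Fb Hb : Subgroup (G ⧸ N)) [Fb.Normal] (hHb : Cfsg.IsFrobeniusComplement Hb) (hker : Cfsg.frobeniusKernel Hb = (Fb : Set (G ⧸ N)))
    (hcyc : IsCyclic Hb) (hcop : (Nat.card Fb).Coprime (Nat.card N))
    (hnot : ¬ Fb ≤ (Subgroup.centralizer (N : Set G)).map (QuotientGroup.mk' N)) :
    ∃ p : ℕ, p.Prime ∧ p ∣ Nat.card N ∧ ∃ g : G, orderOf g = p * Nat.card Hb := by
  classical
  set π := QuotientGroup.mk' N with hπ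
  have hπs : Function.Surjective π := QuotientGroup.mk'_surjective N
  have hπ1 : ∀ n : G, π n = 1 ↔ n ∈ N := fun n => QuotientGroup.eq_one_iff n
  -- generator of Hb
  obtain ⟨y₀, hy₀⟩ := hcyc.exists_generator
  set y : G ⧸ N := (y₀ : G ⧸ N) with hy
  have hyH : y ∈ Hb := y₀.2
  set m := Nat.card Hb with hm
  have hym : orderOf y = m := by
    rw [hy, Subgroup.orderOf_coe]
    exact orderOf_eq_card_of_forall_mem_zpowers hy₀
  have hm1 : m ≠ 1 := by
    intro h
    exact hHb.1 (Subgroup.card_eq_one.mp h)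
  have hm0 : 0 < m := Nat.card_pos
  -- the preimage of the kernel
  set Fh : Subgroup G := Fb.comap π with hFh
  haveI hFhn : Fh.Normal := Subgroup.Normal.comap inferInstance π
  set C := Subgroup.centralizer (N : Set G) with hC
  -- Step 1: a prime r and a Sylow r-subgroup of Fh outside C N
  have hstep1 : ∃ (r : ℕ) (_ : Fact r.Prime) (R : Sylow r Fh),
      ¬ ((R : Subgroup Fh).map Fh.subtype ≤ C ⊔ N) := by
    by_contra hcon
    push Not at hcon
    have hD : (C ⊔ N).subgroupOf Fh = ⊤ := by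
      apply eq_top_of_forall_exists_sylow_le
      intro r _
      obtain ⟨R⟩ : Nonempty (Sylow r Fh) := inferInstance
      refine ⟨R, ?_⟩
      intro x hx
      rw [Subgroup.mem_subgroupOf]
      exact hcon r inferInstance R ⟨x, hx, rfl⟩
    apply hnot
    intro q hq
    obtain ⟨g, rfl⟩ := hπs q
    have hgF : g ∈ Fh := hq
    have hmem : (⟨g, hgF⟩ : Fh) ∈ (C ⊔ N).subgroupOf Fh := by rw [hD]; trivial
    rw [Subgroup.mem_subgroupOf] at hmem
    have hmem' : g ∈ ((C ⊔ N : Subgroup G) : Set G) := hmem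
    rw [Subgroup.mul_normal] at hmem'
    obtain ⟨c, hc, n, hn, rfl⟩ := hmem'
    refine ⟨c, hc, ?_⟩
    rw [map_mul, (hπ1 n).mpr hn, mul_one]
  obtain ⟨r, hr, R, hRnot⟩ := hstep1
  haveI := hr
  set Rg : Subgroup G := (R : Subgroup Fh).map Fh.subtype with hRg
  have hRgF : Rg ≤ Fh := Subgroup.map_subtype_le _
  have hRgp : IsPGroup r Rg := R.2.map _
  -- r ∤ |N|
  have hrN : ¬ r ∣ Nat.card N := by
    intro hdvd
    have hrF : ¬ r ∣ Nat.card Fb := by
      intro h
      have h1 : r ∣ Nat.gcd (Nat.card Fb) (Nat.card N) := Nat.dvd_gcd h hdvd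
      rw [hcop.gcd_eq_one] at h1
      exact hr.1.one_lt.ne' (Nat.dvd_one.mp h1)
    apply hRnot
    intro x hx
    apply Subgroup.mem_sup_right
    rw [← hπ1]
    obtain ⟨k, hk⟩ := (IsPGroup.iff_orderOf.mp hRgp) ⟨x, hx⟩
    have hk' : orderOf x = r ^ k := by
      rw [← hk]; exact (Subgroup.orderOf_mk x hx).symm
    have h1 : orderOf (π x) ∣ r ^ k := hk' ▸ orderOf_map_dvd π x
    have h2 : orderOf (π x) ∣ Nat.card Fb := Subgroup.orderOf_dvd_natCard Fb (hRgF hx)
    have h3 : Nat.Coprime (r ^ k) (Nat.card Fb) :=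
      Nat.Coprime.pow_left k ((Nat.Prime.coprime_iff_not_dvd hr.1).mpr hrF)
    exact orderOf_eq_one_iff.mp (Nat.eq_one_of_dvd_coprimes h3 h1 h2)
  have hcopRN : (Nat.card Rg).Coprime (Nat.card N) := by
    obtain ⟨k, hk⟩ := IsPGroup.iff_card.mp hRgp
    rw [hk]
    exact Nat.Coprime.pow_left k ((Nat.Prime.coprime_iff_not_dvd hr.1).mpr hrN)
  have hRN : ∀ c ∈ Rg, c ∈ N → c = 1 := by
    intro c hc hcN
    exact Subgroup.mem_bot.mp ((Subgroup.disjoint_of_coprime_natCard hcopRN).le_bot ⟨hc, hcN⟩)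
  -- Step 2: Frattini
  have hfrat : Subgroup.normalizer (Rg : Set G) ⊔ Fh = ⊤ := Sylow.normalizer_sup_eq_top R
  obtain ⟨yh, hyh⟩ := hπs y
  have hyh_mem : yh ∈ ((Subgroup.normalizer (Rg : Set G) ⊔ Fh : Subgroup G) : Set G) := by
    rw [hfrat]; trivial
  rw [Subgroup.mul_normal] at hyh_mem
  obtain ⟨a, ha, f, hf, rfl⟩ := hyh_mem
  have hfF : π f ∈ Fb := hf
  have haF : y⁻¹ * π a ∈ Fb := by
    have h1 : π a = y * (π f)⁻¹ := by rw [← hyh, map_mul]; group
    rw [h1]
    have h2 : y⁻¹ * (y * (π f)⁻¹) = (π f)⁻¹ := by group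
    rw [h2]; exact Fb.inv_mem hfF
  -- Step 3: an invariant Sylow subgroup of N on which Rg acts nontrivially
  have hAK : Rg ≤ Subgroup.normalizer (N : Set G) := by
    rw [Subgroup.normalizer_eq_top]; exact le_top
  have hsolvR : Group.IsSolvable Rg := by
    haveI := hRgp.isNilpotent
    infer_instance
  have hstep3 : ∃ (p : ℕ) (_ : Fact p.Prime) (P : Sylow p N),
      Rg ≤ Subgroup.normalizer (((P : Subgroup N).map N.subtype : Subgroup G) : Set G) ∧
        ⁅(P : Subgroup N).map N.subtype, Rg⁆ ≠ ⊥ := by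
    by_contra hcon
    push Not at hcon
    have hD : (Subgroup.centralizer (Rg : Set G)).subgroupOf N = ⊤ := by
      apply eq_top_of_forall_exists_sylow_le
      intro p _
      obtain ⟨P, hP⟩ := exists_invariant_sylow Rg N hAK hcopRN (Or.inl hsolvR) p
      refine ⟨P, ?_⟩
      have h0 := hcon p inferInstance P hP
      rw [Subgroup.commutator_eq_bot_iff_le_centralizer] at h0
      intro x hx
      rw [Subgroup.mem_subgroupOf]
      exact h0 ⟨x, hx, rfl⟩
    apply hRnot
    intro c hc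
    apply Subgroup.mem_sup_left
    rw [hC, Subgroup.mem_centralizer_iff]
    intro n hn
    have hmem : (⟨n, hn⟩ : N) ∈ (Subgroup.centralizer (Rg : Set G)).subgroupOf N := by
      rw [hD]; trivial
    rw [Subgroup.mem_subgroupOf, Subgroup.mem_centralizer_iff] at hmem
    exact (hmem c hc).symm
  obtain ⟨p, hp, P, hRP, hPR⟩ := hstep3
  haveI := hp
  set Pg : Subgroup G := (P : Subgroup N).map N.subtype with hPg
  have haN : a ∈ Subgroup.normalizer (N : Set G) := by
    rw [Subgroup.normalizer_eq_top]; trivial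
  obtain ⟨Q, hQ⟩ := conj_mem_sylowSet (p := p) haN (S := Pg) ⟨P, rfl⟩
  have hRQ : Rg ≤ Subgroup.normalizer (((Q : Subgroup N).map N.subtype : Subgroup G) : Set G) := by
    rw [← hQ]
    intro f hf
    apply mem_normalizer_of_conj_smul_eq
    have hf' : a⁻¹ * f * a ∈ Rg := by
      have := (Subgroup.mem_normalizer_iff.mp (Subgroup.inv_mem _ ha) f).mp hf
      simpa using this
    have h1 := conj_smul_eq_of_mem_normalizer (hRP hf')
    calc MulAut.conj f • MulAut.conj a • Pg
        = MulAut.conj a • (MulAut.conj (a⁻¹ * f * a) • Pg) := by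
          rw [← mul_smul, ← mul_smul, ← map_mul, ← map_mul]
          congr 2
          group
      _ = MulAut.conj a • Pg := by rw [h1]
  obtain ⟨c, hc, hcPQ⟩ := invariant_sylow_conj Rg N hAK hcopRN (Or.inl hsolvR) p P Q hRP hRQ
  set x := c⁻¹ * a with hx
  have hxP : x ∈ Subgroup.normalizer (Pg : Set G) := by
    apply mem_normalizer_of_conj_smul_eq
    rw [hx, map_mul, mul_smul, hQ, ← hcPQ, ← mul_smul, ← map_mul, inv_mul_cancel, map_one, one_smul]
  have hxR : x ∈ Subgroup.normalizer (Rg : Set G) :=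
    Subgroup.mul_mem _ (Subgroup.inv_mem _ (Subgroup.centralizer_le_normalizer _ hc.2)) ha
  have hπx : π x = π a := by
    rw [hx, map_mul, map_inv, (hπ1 c).mpr hc.1, inv_one, one_mul]
  have hxF : y⁻¹ * π x ∈ Fb := by rw [hπx]; exact haF
  -- Step 4: a minimal invariant subgroup with nontrivial action
  let 𝒮 : Set (Subgroup G) := {U | U ≤ Pg ∧ Rg ≤ Subgroup.normalizer (U : Set G) ∧
    x ∈ Subgroup.normalizer (U : Set G) ∧ ⁅U, Rg⁆ ≠ ⊥}
  have h𝒮 : 𝒮.Nonempty := ⟨Pg, le_rfl, hRP, hxP, hPR⟩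
  obtain ⟨P₁, hP₁, hP₁min⟩ := Set.exists_min_image 𝒮 (fun U => Nat.card U) (Set.toFinite 𝒮) h𝒮
  obtain ⟨hP₁P, hRP₁, hxP₁, hP₁R⟩ := hP₁
  have hP₁N : P₁ ≤ N := hP₁P.trans (Subgroup.map_subtype_le _)
  have hP₁p : IsPGroup p P₁ := (P.2.map N.subtype).to_le hP₁P
  have hcopRP₁ : (Nat.card Rg).Coprime (Nat.card P₁) :=
    Nat.Coprime.coprime_dvd_right (Subgroup.card_dvd_of_le hP₁N) hcopRN
  have hle : ⁅P₁, Rg⁆ ≤ P₁ := Subgroup.le_normalizer_iff_commutator_le_left.mp hRP₁
  have hP₁eq : ⁅P₁, Rg⁆ = P₁ := by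
    by_contra hne
    have h27 := Cfsg.Agent.S0027.result Rg P₁ hRP₁ hcopRP₁ (Or.inl hsolvR)
    have hmem : ⁅P₁, Rg⁆ ∈ 𝒮 := by
      refine ⟨hle.trans hP₁P, ?_, ?_, ?_⟩
      · intro f hf
        exact normalizes_commutator (hRP₁ hf) (Subgroup.le_normalizer hf)
      · exact normalizes_commutator hxP₁ hxR
      · rw [h27]; exact hP₁R
    have h1 : Nat.card P₁ ≤ Nat.card ↥⁅P₁, Rg⁆ := hP₁min _ hmem
    exact hne (Subgroup.eq_of_le_of_card_ge hle h1)
  -- Step 5: the trace argument on P₁ / P₁'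
  set Nm : Subgroup G := Subgroup.normalizer (P₁ : Set G) with hNm
  let ρ : Nm →* MulAut (Abelianization P₁) := (abHom P₁).comp P₁.normalizerMonoidHom
  have hρ : ∀ (g : Nm) (v : P₁), ρ g (Abelianization.of v) =
      Abelianization.of (⟨g * v * (g : G)⁻¹, (g.2 v).mp v.2⟩ : P₁) := fun g v => rfl
  set R₀ : Subgroup Nm := Rg.subgroupOf Nm with hR₀
  haveI : Fintype R₀ := Fintype.ofFinite _
  set x₀ : Nm := ⟨x, hxP₁⟩ with hx₀
  have hx₀pow : ∀ i : ℕ, ((x₀ ^ i : Nm) : G) = x ^ i := fun i => by simp [hx₀]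
  have hx₀R : ∀ f ∈ R₀, x₀ * f * x₀⁻¹ ∈ R₀ := by
    intro f hf
    rw [hR₀, Subgroup.mem_subgroupOf] at hf ⊢
    exact (Subgroup.mem_normalizer_iff.mp hxR _).mp hf
  have hfpf : ∀ i, 0 < i → i < m → ∀ c ∈ R₀, c * x₀ ^ i = x₀ ^ i * c → c = 1 := by
    intro i hi0 him c hc hcomm
    rw [hR₀, Subgroup.mem_subgroupOf] at hc
    have hcomm' : (c : G) * x ^ i = x ^ i * (c : G) := by
      have := congrArg Subtype.val hcomm
      simpa [hx₀] using this
    have hcF : π (c : G) ∈ Fb := hRgF hc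
    have hxi : (π x) ^ i ∉ Fb := by
      rw [pow_mem_kernel_iff hker hyH hxF, hym]
      exact Nat.not_dvd_of_pos_of_lt hi0 him
    have hxik : (π x) ^ i ∉ Cfsg.frobeniusKernel Hb := by rw [hker]; exact hxi
    rw [Cfsg.Agent.Helper63.not_mem_frobeniusKernel_iff] at hxik
    obtain ⟨hz1, g, hg⟩ := hxik
    have h1 := fpf_of_mem_conj Fb Hb hHb hker hg hz1 hcF
      (by rw [← map_pow, ← map_mul, ← map_mul, hcomm'])
    have h2 : (c : G) ∈ N := (hπ1 _).mp h1
    exact Subtype.ext (hRN _ hc h2)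
  have hR₀card : Fintype.card R₀ = Nat.card Rg := by
    rw [← Nat.card_eq_fintype_card, hR₀]
    exact Nat.card_congr (Subgroup.subgroupOfEquivOfLe hRP₁).toEquiv
  have hcopV : ∀ v : Abelianization P₁, v ^ Fintype.card R₀ = 1 → v = 1 := by
    intro v hv
    have h1 : orderOf v ∣ Nat.card Rg := hR₀card ▸ orderOf_dvd_of_pow_eq_one hv
    have h2 : orderOf v ∣ Nat.card P₁ :=
      (orderOf_dvd_natCard v).trans (Subgroup.card_quotient_dvd_card _)
    exact orderOf_eq_one_iff.mp (Nat.eq_one_of_dvd_coprimes hcopRP₁ h1 h2)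
  have htr : ∃ v : Abelianization P₁, ∏ i ∈ Finset.range m, ρ (x₀ ^ i) v ≠ 1 := by
    by_contra hcon
    push Not at hcon
    have htriv := apply_eq_self_of_trace ρ R₀ x₀ m hm0 hx₀R hfpf hcon hcopV
    have h1 : ⁅P₁, Rg⁆ ≤ ⁅P₁, P₁⁆ := by
      rw [Subgroup.commutator_le]
      intro v hv f hf
      have hfN : f ∈ Nm := hRP₁ hf
      have h2 := htriv ⟨f, hfN⟩ (by rw [hR₀, Subgroup.mem_subgroupOf]; exact hf)
        (Abelianization.of ⟨v⁻¹, P₁.inv_mem hv⟩)
      rw [hρ] at h2
      have h3 : Abelianization.of ((⟨v⁻¹, P₁.inv_mem hv⟩ : P₁)⁻¹ *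
          (⟨f * v⁻¹ * f⁻¹, (hfN v⁻¹).mp (P₁.inv_mem hv)⟩ : P₁)) = 1 := by
        rw [map_mul, map_inv]
        exact inv_mul_eq_one.mpr h2.symm
      rw [← MonoidHom.mem_ker, Abelianization.ker_of] at h3
      rw [← Subgroup.map_subtype_commutator]
      refine ⟨_, h3, ?_⟩
      simp [commutatorElement_def, mul_assoc]
    rw [hP₁eq] at h1
    have hP₁bot : P₁ = ⊥ := by
      by_contra hne
      haveI : Nontrivial P₁ := (Subgroup.nontrivial_iff_ne_bot P₁).mpr hne
      haveI := hP₁p.isNilpotent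
      have hlt := Group.IsSolvable.commutator_lt_top_of_nontrivial P₁
      obtain ⟨z, -, hz⟩ := SetLike.exists_of_lt hlt
      apply hz
      have h4 := h1 z.2
      rw [← Subgroup.map_subtype_commutator] at h4
      obtain ⟨z', hz', hzz'⟩ := h4
      have : z' = z := Subtype.ext hzz'
      rwa [this] at hz'
    apply hP₁R
    rw [hP₁bot]
    exact Subgroup.commutator_bot_left Rg
  obtain ⟨vb, hvb⟩ := htr
  obtain ⟨v, hv⟩ : ∃ v : P₁, Abelianization.of v = vb := QuotientGroup.mk_surjective vb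
  -- the key element
  have hgoal : ∃ g : G, π g = π x ∧ g ^ m ≠ 1 := by
    by_cases hxm : x ^ m = 1
    · refine ⟨(v : G) * x, ?_, ?_⟩
      · rw [map_mul, (hπ1 _).mpr (hP₁N v.2), one_mul]
      · rw [mul_pow_eq_conjProd, hxm, mul_one]
        have key : ∀ n : ℕ, ∃ w : P₁, (w : G) = conjProd x (v : G) n ∧
            Abelianization.of w = ∏ i ∈ Finset.range n, ρ (x₀ ^ i) (Abelianization.of v) := by
          intro n
          induction n with
          | zero => exact ⟨1, by simp [conjProd], by simp⟩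
          | succ n ih =>
            obtain ⟨w, hw1, hw2⟩ := ih
            refine ⟨w * (⟨((x₀ ^ n : Nm) : G) * v * ((x₀ ^ n : Nm) : G)⁻¹,
              ((x₀ ^ n).2 v).mp v.2⟩ : P₁), ?_, ?_⟩
            · rw [Subgroup.coe_mul, hw1, conjProd]
              show conjProd x (v : G) n * (((x₀ ^ n : Nm) : G) * v * ((x₀ ^ n : Nm) : G)⁻¹) = _
              rw [hx₀pow]
            · rw [map_mul, hw2, Finset.prod_range_succ, hρ]
        obtain ⟨w, hw1, hw2⟩ := key m
        intro h
        rw [← hw1] at h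
        have hw : w = 1 := Subtype.ext h
        rw [hw, map_one, hv] at hw2
        exact hvb hw2.symm
    · exact ⟨x, rfl, hxm⟩
  obtain ⟨g, hgπ, hgm⟩ := hgoal
  have h1 : m ∣ orderOf g := by
    have h0 : (π x) ^ orderOf g ∈ Fb := by
      rw [← hgπ, ← map_pow, pow_orderOf_eq_one, map_one]; exact Fb.one_mem
    rw [pow_mem_kernel_iff hker hyH hxF, hym] at h0
    exact h0
  have h2 : g ^ m ∈ N := by
    rw [← hπ1, map_pow, hgπ, ← hym]
    exact pow_orderOf_eq_one_of_congr hker hyH (by rw [hym]; exact hm1) hxF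
  have h3 : orderOf (g ^ m) ≠ 1 := fun h => hgm (orderOf_eq_one_iff.mp h)
  obtain ⟨q, hq, hqd⟩ := Nat.exists_prime_and_dvd h3
  have h4 : orderOf (g ^ m) ∣ Nat.card N := Subgroup.orderOf_dvd_natCard N h2
  obtain ⟨z, hz⟩ := exists_orderOf_eq_mul g m q hm0 h1 hqd
  exact ⟨q, hq, hqd.trans h4, z, hz⟩

end Cfsg.Agent.S3703
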