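-- Statement S3704: an index-n subgroup of a 2-transitive group of degree n, intransitive: two orbits.
import Mathlib
import Cfsg.Statements.S3704

set_option autoImplicit false
set_option linter.unusedSectionVars false
open Cfsg

namespace Cfsg.Agent.S3704

open MulAction
open scoped Pointwise

universe u v

variable {G : Type u} {Ω : Type v} [Group G] [MulAction G Ω]

/-- orbits of `G` on `Ω × G/H` correspond to orbits of `H` on `Ω` -/
theorem card_orbits_prod_quotient (H : Subgroup G) :
    Nat.card (orbitRel.Quotient G (Ω × (G ⧸ H))) = Nat.card (orbitRel.Quotient H Ω) := by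
  symm
  apply Nat.card_congr
  refine Equiv.ofBijective (Quotient.map' (fun a => (a, ((1 : G) : G ⧸ H))) ?_) ⟨?_, ?_⟩
  · intro a b hab
    obtain ⟨h, rfl⟩ := hab
    refine ⟨(h : G), ?_⟩
    show ((h : G) • b, (h : G) • ((1 : G) : G ⧸ H)) = (h • b, ((1 : G) : G ⧸ H))
    congr 1
    rw [MulAction.Quotient.smul_mk, QuotientGroup.eq]
    simp
  · intro x y
    induction x using Quotient.inductionOn' with | h a => ?_
    induction y using Quotient.inductionOn' with | h b => ?_
    intro hxy
    simp only [Quotient.map'_mk''] at hxy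
    rw [Quotient.eq''] at hxy ⊢
    obtain ⟨g, hg⟩ := hxy
    have h1 : g • b = a := congrArg Prod.fst hg
    have h2 : g • ((1 : G) : G ⧸ H) = ((1 : G) : G ⧸ H) := congrArg Prod.snd hg
    have hgH : g ∈ H := by
      rw [MulAction.Quotient.smul_mk, QuotientGroup.eq] at h2
      simpa using H.inv_mem h2
    exact ⟨⟨g, hgH⟩, h1⟩
  · intro y
    induction y using Quotient.inductionOn' with | h z => ?_
    obtain ⟨a, q⟩ := z
    induction q using QuotientGroup.induction_on with | H x => ?_
    refine ⟨Quotient.mk'' (x⁻¹ • a), ?_⟩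
    simp only [Quotient.map'_mk'']
    rw [Quotient.eq'']
    refine ⟨x⁻¹, ?_⟩
    show (x⁻¹ • a, x⁻¹ • ((x : G) : G ⧸ H)) = (x⁻¹ • a, ((1 : G) : G ⧸ H))
    congr 1
    rw [MulAction.Quotient.smul_mk]
    simp

/-- Burnside's lemma with `Nat.card` -/
theorem burnside (K : Type*) (X : Type*) [Group K] [Fintype K] [MulAction K X] [Finite X] :
    ∑ g : K, Nat.card (fixedBy X g) = Nat.card (orbitRel.Quotient K X) * Nat.card K := by
  classical
  haveI := Fintype.ofFinite X
  haveI : Fintype (orbitRel.Quotient K X) := Fintype.ofFinite _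
  have := MulAction.sum_card_fixedBy_eq_card_orbits_mul_card_group K X
  simp only [Nat.card_eq_fintype_card]
  convert this

theorem card_fixedBy_prod (X Y : Type*) [MulAction G X] [MulAction G Y] [Finite X] [Finite Y]
    (g : G) : Nat.card (fixedBy (X × Y) g) = Nat.card (fixedBy X g) * Nat.card (fixedBy Y g) := by
  rw [← Nat.card_prod]
  apply Nat.card_congr
  exact
    { toFun := fun z => (⟨z.1.1, congrArg Prod.fst z.2⟩, ⟨z.1.2, congrArg Prod.snd z.2⟩)
      invFun := fun w => ⟨(w.1.1, w.2.1), Prod.ext w.1.2 w.2.2⟩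
      left_inv := fun z => rfl
      right_inv := fun w => rfl }

/-- a 2-transitive group on at least two points has exactly two orbits on ordered pairs -/
theorem card_orbits_prod_self (h2 : IsMultiplyPretransitive G Ω 2) {a b : Ω} (hab : a ≠ b) :
    Nat.card (orbitRel.Quotient G (Ω × Ω)) = 2 := by
  haveI : IsPretransitive G Ω := isPretransitive_of_is_two_pretransitive (h2 := h2)
  rw [is_two_pretransitive_iff] at h2
  rw [Nat.card_eq_two_iff]
  refine ⟨Quotient.mk'' (a, a), Quotient.mk'' (a, b), ?_, ?_⟩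
  · intro h
    rw [Quotient.eq''] at h
    obtain ⟨g, hg⟩ := h
    have h1 : g • a = a := congrArg Prod.fst hg
    have h2 : g • b = a := congrArg Prod.snd hg
    exact hab (MulAction.injective g (h1.trans h2.symm))
  · rw [Set.eq_univ_iff_forall]
    intro z
    induction z using Quotient.inductionOn' with | h w => ?_
    obtain ⟨x, y⟩ := w
    by_cases hxy : x = y
    · left
      subst hxy
      rw [Quotient.eq'']
      obtain ⟨g, hg⟩ := exists_smul_eq G a x
      exact ⟨g, by show g • (a, a) = (x, x); rw [Prod.smul_mk, hg]⟩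
    · right
      show Quotient.mk'' (x, y) = Quotient.mk'' (a, b)
      rw [Quotient.eq'']
      obtain ⟨g, hg1, hg2⟩ := h2 hab hxy
      exact ⟨g, by show g • (a, b) = (x, y); rw [Prod.smul_mk, hg1, hg2]⟩

section design

/-- the block attached to a coset -/
def blk (H : Subgroup G) (O : Set Ω) (q : G ⧸ H) : Set Ω := q.out • O

variable {H : Subgroup G} {O : Set Ω}

theorem blk_mk (hO : ∀ h ∈ H, h • O = O) (x : G) : blk H O (x : G ⧸ H) = x • O := by
  obtain ⟨h, hh⟩ := QuotientGroup.mk_out_eq_mul H x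
  unfold blk
  rw [hh, mul_smul, hO h h.2]

theorem blk_smul (hO : ∀ h ∈ H, h • O = O) (g : G) (q : G ⧸ H) :
    blk H O (g • q) = g • blk H O q := by
  induction q using QuotientGroup.induction_on with | H x => ?_
  rw [MulAction.Quotient.smul_mk, blk_mk hO, blk_mk hO, smul_eq_mul, mul_smul]

theorem smul_mem_blk_smul (hO : ∀ h ∈ H, h • O = O) (g : G) (q : G ⧸ H) (a : Ω) :
    g • a ∈ blk H O (g • q) ↔ a ∈ blk H O q := by
  rw [blk_smul hO, Set.smul_mem_smul_set_iff]

open Classical in
/-- incidence matrix -/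
noncomputable def inc (H : Subgroup G) (O : Set Ω) : Matrix (G ⧸ H) Ω ℚ :=
  fun q a => if a ∈ blk H O q then 1 else 0

open Classical in
theorem inc_apply (q : G ⧸ H) (a : Ω) : inc H O q a = if a ∈ blk H O q then 1 else 0 := rfl

open Classical in
/-- number of blocks through two points -/
noncomputable def cnt (H : Subgroup G) [Fintype (G ⧸ H)] (O : Set Ω) (a b : Ω) : ℕ :=
  (Finset.univ.filter fun q : G ⧸ H => a ∈ blk H O q ∧ b ∈ blk H O q).card

theorem cnt_smul [Fintype (G ⧸ H)] (hO : ∀ h ∈ H, h • O = O) (g : G) (a b : Ω) :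
    cnt H O (g • a) (g • b) = cnt H O a b := by
  classical
  unfold cnt
  symm
  apply Finset.card_bij (fun q _ => g • q)
  · intro q hq
    simp only [Finset.mem_filter, Finset.mem_univ, true_and] at hq ⊢
    rw [smul_mem_blk_smul hO, smul_mem_blk_smul hO]
    exact hq
  · intro q _ q' _ h
    exact MulAction.injective g h
  · intro q hq
    simp only [Finset.mem_filter, Finset.mem_univ, true_and] at hq
    refine ⟨g⁻¹ • q, ?_, by simp⟩
    simp only [Finset.mem_filter, Finset.mem_univ, true_and]
    have h1 := smul_mem_blk_smul hO g (g⁻¹ • q) a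
    have h2 := smul_mem_blk_smul hO g (g⁻¹ • q) b
    rw [smul_inv_smul] at h1 h2
    exact ⟨h1.mp hq.1, h2.mp hq.2⟩

theorem transpose_inc_mul_inc [Fintype (G ⧸ H)] (a b : Ω) :
    ((inc H O).transpose * inc H O) a b = (cnt H O a b : ℚ) := by
  classical
  rw [Matrix.mul_apply]
  unfold cnt
  simp only [Matrix.transpose_apply, inc_apply]
  rw [Finset.card_filter, Nat.cast_sum]
  apply Finset.sum_congr rfl
  intro q _
  by_cases h1 : a ∈ blk H O q <;> by_cases h2 : b ∈ blk H O q <;> simp [h1, h2]

end design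

section main

variable [Fintype Ω] [DecidableEq Ω] {H : Subgroup G} [Fintype (G ⧸ H)] [DecidableEq (G ⧸ H)]
  {O : Set Ω}

theorem inc_mulVec_eq_zero (h2 : IsMultiplyPretransitive G Ω 2) (hO : ∀ h ∈ H, h • O = O)
    (hne : O.Nonempty) (huniv : O ≠ Set.univ) (v : Ω → ℚ) (hv : (inc H O).mulVec v = 0) :
    v = 0 := by
  classical
  haveI : IsPretransitive G Ω := isPretransitive_of_is_two_pretransitive (h2 := h2)
  rw [is_two_pretransitive_iff] at h2
  obtain ⟨a₀, ha₀⟩ := hne
  obtain ⟨b₀, hb₀⟩ : ∃ b, b ∉ O := by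
    by_contra h
    push Not at h
    exact huniv (Set.eq_univ_of_forall h)
  have hab₀ : a₀ ≠ b₀ := fun h => hb₀ (h ▸ ha₀)
  set r := cnt H O a₀ a₀ with hr_def
  set l := cnt H O a₀ b₀ with hl_def
  have hr : ∀ a, cnt H O a a = r := fun a => by
    obtain ⟨g, rfl⟩ := exists_smul_eq G a₀ a
    exact cnt_smul hO g a₀ a₀
  have hl : ∀ a b, a ≠ b → cnt H O a b = l := fun a b hab => by
    obtain ⟨g, rfl, rfl⟩ := h2 hab₀ hab
    exact cnt_smul hO g a₀ b₀
  have hsub : ∀ b, (Finset.univ.filter fun q : G ⧸ H => a₀ ∈ blk H O q ∧ b ∈ blk H O q) ⊆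
      (Finset.univ.filter fun q : G ⧸ H => a₀ ∈ blk H O q ∧ a₀ ∈ blk H O q) := by
    intro b q hq
    simp only [Finset.mem_filter, Finset.mem_univ, true_and] at hq ⊢
    exact ⟨hq.1, hq.1⟩
  have hle : l ≤ r := Finset.card_le_card (hsub b₀)
  have hlr : l < r := by
    refine lt_of_le_of_ne hle ?_
    intro heq
    apply huniv
    rw [Set.eq_univ_iff_forall]
    intro b
    have hcard : (Finset.univ.filter fun q : G ⧸ H => a₀ ∈ blk H O q ∧ a₀ ∈ blk H O q).card ≤
        (Finset.univ.filter fun q : G ⧸ H => a₀ ∈ blk H O q ∧ b ∈ blk H O q).card := by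
      by_cases hb : a₀ = b
      · subst hb; exact le_rfl
      · have h1 : cnt H O a₀ b = l := hl a₀ b hb
        have h2 : cnt H O a₀ a₀ = r := rfl
        unfold cnt at h1 h2
        rw [h1, h2, heq]
    have heq' := Finset.eq_of_subset_of_card_le (hsub b) hcard
    have hmem : ((1 : G) : G ⧸ H) ∈
        (Finset.univ.filter fun q : G ⧸ H => a₀ ∈ blk H O q ∧ a₀ ∈ blk H O q) := by
      simp only [Finset.mem_filter, Finset.mem_univ, true_and]
      rw [blk_mk hO, one_smul]
      exact ⟨ha₀, ha₀⟩
    rw [← heq'] at hmem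
    simp only [Finset.mem_filter, Finset.mem_univ, true_and] at hmem
    have := hmem.2
    rwa [blk_mk hO, one_smul] at this
  -- `AᵀA v = 0`
  have h1 : ((inc H O).transpose * inc H O).mulVec v = 0 := by
    rw [← Matrix.mulVec_mulVec, hv, Matrix.mulVec_zero]
  have hrow : ∀ a, ((r : ℚ) - l) * v a + l * ∑ b, v b = 0 := by
    intro a
    have h3 := congrFun h1 a
    rw [Matrix.mulVec, dotProduct] at h3
    simp only [transpose_inc_mul_inc, Pi.zero_apply] at h3
    rw [← h3]
    have h4 : ∀ b ∈ Finset.univ, (cnt H O a b : ℚ) * v b =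
        (l : ℚ) * v b + (if b = a then ((r : ℚ) - l) * v b else 0) := by
      intro b _
      by_cases hb : b = a
      · subst hb
        rw [hr b, if_pos rfl]; ring
      · rw [hl a b (Ne.symm hb), if_neg hb]; ring
    rw [Finset.sum_congr rfl h4, Finset.sum_add_distrib, Finset.sum_ite_eq' Finset.univ a,
      if_pos (Finset.mem_univ a), ← Finset.mul_sum]
    ring
  have hrl : (0 : ℚ) < (r : ℚ) - l := by
    have : (l : ℚ) < r := by exact_mod_cast hlr
    linarith
  have hl0 : (0 : ℚ) ≤ l := by positivity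
  have hs : ∑ b, v b = 0 := by
    have hsum : ∑ a, (((r : ℚ) - l) * v a + l * ∑ b, v b) = 0 :=
      Finset.sum_eq_zero (fun a _ => hrow a)
    rw [Finset.sum_add_distrib, ← Finset.mul_sum, Finset.sum_const, Finset.card_univ,
      nsmul_eq_mul] at hsum
    have hfac : (((r : ℚ) - l) + (Fintype.card Ω : ℚ) * l) * ∑ b, v b = 0 := by
      rw [← hsum]; ring
    have hpos : (0 : ℚ) < ((r : ℚ) - l) + (Fintype.card Ω : ℚ) * l := by positivity
    rcases mul_eq_zero.mp hfac with h | h
    · exact absurd h hpos.ne'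
    · exact h
  funext a
  have h5 := hrow a
  rw [hs, mul_zero, add_zero] at h5
  rcases mul_eq_zero.mp h5 with h | h
  · exact absurd h hrl.ne'
  · exact h

open Classical in
/-- permutation-type matrices -/
noncomputable def pmat (X : Type*) [MulAction G X] (g : G) : Matrix X X ℚ :=
  fun a b => if g • b = a then 1 else 0

open Classical in
theorem pmat_apply (X : Type*) [MulAction G X] (g : G) (a b : X) :
    pmat X g a b = if g • b = a then 1 else 0 := rfl

theorem trace_pmat (X : Type*) [MulAction G X] [Fintype X] (g : G) :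
    (pmat X g).trace = (Nat.card (fixedBy X g) : ℚ) := by
  classical
  simp only [Matrix.trace, Matrix.diag_apply, pmat_apply]
  rw [Finset.sum_boole, Nat.card_eq_fintype_card, Fintype.card_subtype]
  congr 2

theorem pmat_mul_inc (hO : ∀ h ∈ H, h • O = O) (g : G) :
    pmat (G ⧸ H) g * inc H O = inc H O * pmat Ω g := by
  classical
  ext q a
  rw [Matrix.mul_apply, Matrix.mul_apply]
  simp only [pmat_apply]
  rw [Finset.sum_eq_single (g⁻¹ • q), Finset.sum_eq_single (g • a)]
  · rw [if_pos (smul_inv_smul g q), if_pos rfl, one_mul, mul_one, inc_apply, inc_apply]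
    have h1 := smul_mem_blk_smul hO g (g⁻¹ • q) a
    rw [smul_inv_smul] at h1
    simp only [h1]
  · intro b _ hb
    rw [if_neg (Ne.symm hb), mul_zero]
  · intro h; exact absurd (Finset.mem_univ _) h
  · intro q' _ hq'
    have : g • q' ≠ q := by
      intro h
      apply hq'
      rw [← h, inv_smul_smul]
    rw [if_neg this, zero_mul]
  · intro h; exact absurd (Finset.mem_univ _) h

theorem card_fixedBy_eq (h2 : IsMultiplyPretransitive G Ω 2) (hO : ∀ h ∈ H, h • O = O)
    (hne : O.Nonempty) (huniv : O ≠ Set.univ)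
    (hcard : Fintype.card (G ⧸ H) = Fintype.card Ω) (g : G) :
    Nat.card (fixedBy (G ⧸ H) g) = Nat.card (fixedBy Ω g) := by
  classical
  let e : (G ⧸ H) ≃ Ω := Fintype.equivOfCardEq hcard
  set A : Matrix (G ⧸ H) Ω ℚ := inc H O with hA
  set A' : Matrix Ω Ω ℚ := A.submatrix e.symm (Equiv.refl Ω) with hA'
  have hAA' : A = A'.submatrix e (Equiv.refl Ω) := by
    ext q a
    simp [hA']
  have hinj : Function.Injective A'.mulVec := by
    intro v w hvw
    have h0 : A'.mulVec (v - w) = 0 := by rw [Matrix.mulVec_sub, hvw, sub_self]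
    have h1 : A.mulVec (v - w) = 0 := by
      funext q
      have := congrFun h0 (e q)
      simp only [hA', Matrix.mulVec, dotProduct, Matrix.submatrix_apply, Equiv.symm_apply_apply,
        Equiv.refl_apply, Pi.zero_apply] at this ⊢
      exact this
    have := inc_mulVec_eq_zero h2 hO hne huniv (v - w) h1
    exact sub_eq_zero.mp this
  have hunit : IsUnit A' := Matrix.mulVec_injective_iff_isUnit.mp hinj
  have hdet : IsUnit A'.det := (Matrix.isUnit_iff_isUnit_det A').mp hunit
  set C : Matrix Ω (G ⧸ H) ℚ := A'⁻¹.submatrix (Equiv.refl Ω) e with hC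
  have hCA : C * A = 1 := by
    rw [hAA', hC, Matrix.submatrix_mul_equiv, Matrix.nonsing_inv_mul _ hdet]
    simp
  have hAC : A * C = 1 := by
    rw [hAA', hC, Matrix.submatrix_mul_equiv, Matrix.mul_nonsing_inv _ hdet]
    simp
  have hcomm := pmat_mul_inc (H := H) (O := O) hO g
  have htr : (pmat (G ⧸ H) g).trace = (pmat Ω g).trace := by
    calc (pmat (G ⧸ H) g).trace = (pmat (G ⧸ H) g * (A * C)).trace := by rw [hAC, Matrix.mul_one]
      _ = ((pmat (G ⧸ H) g * A) * C).trace := by rw [Matrix.mul_assoc]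
      _ = ((A * pmat Ω g) * C).trace := by rw [hA, hcomm]
      _ = (A * (pmat Ω g * C)).trace := by rw [Matrix.mul_assoc]
      _ = ((pmat Ω g * C) * A).trace := Matrix.trace_mul_comm _ _
      _ = (pmat Ω g * (C * A)).trace := by rw [Matrix.mul_assoc]
      _ = (pmat Ω g).trace := by rw [hCA, Matrix.mul_one]
  rw [trace_pmat, trace_pmat] at htr
  exact_mod_cast htr

end main

/-- Let G be a finite group acting faithfully and 2-transitively on a finite set Ω of size n, and let H be a subgroup of index n in G which is not transitive on Ω and fixes no point of Ω. Then H has exactly two orbits on Ω. -/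
theorem result {G Ω : Type*} [Group G] [Finite G] [MulAction G Ω] [FaithfulSMul G Ω] [Finite Ω] (h2 : MulAction.IsMultiplyPretransitive G Ω 2) (H : Subgroup G) (hidx : H.index = Nat.card Ω) (hnt : ¬ MulAction.IsPretransitive H Ω) (hfix : ∀ a : Ω, ∃ h : H, h • a ≠ a) : Nat.card (MulAction.orbitRel.Quotient H Ω) = 2 := by
  classical
  haveI := Fintype.ofFinite G
  haveI := Fintype.ofFinite Ω
  haveI : Fintype (G ⧸ H) := Fintype.ofFinite _
  obtain ⟨a₀, ha₀⟩ : ∃ a₀ : Ω, (MulAction.orbit H a₀ : Set Ω) ≠ Set.univ := by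
    by_contra h
    push Not at h
    apply hnt
    constructor
    intro x y
    have hy : y ∈ MulAction.orbit H x := by rw [h x]; trivial
    obtain ⟨g, hg⟩ := hy
    exact ⟨g, hg⟩
  set O : Set Ω := MulAction.orbit H a₀ with hOdef
  have hO : ∀ h ∈ H, h • O = O := by
    intro h hh
    have h1 := MulAction.smul_orbit (⟨h, hh⟩ : H) a₀
    rw [← hOdef] at h1
    exact (show h • O = (⟨h, hh⟩ : H) • O from rfl).trans h1
  have hne : O.Nonempty := ⟨a₀, MulAction.mem_orbit_self a₀⟩
  have hcard : Fintype.card (G ⧸ H) = Fintype.card Ω := by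
    rw [← Nat.card_eq_fintype_card, ← Nat.card_eq_fintype_card, ← hidx]
    rfl
  have hπ := fun g => card_fixedBy_eq h2 hO hne ha₀ hcard g
  obtain ⟨b₀, hb₀⟩ : ∃ b, b ∉ O := by
    by_contra h
    push Not at h
    exact ha₀ (Set.eq_univ_of_forall h)
  have hab : a₀ ≠ b₀ := fun h => hb₀ (h ▸ MulAction.mem_orbit_self a₀)
  have hE := card_orbits_prod_self h2 hab
  have hB1 := burnside G (Ω × (G ⧸ H))
  have hB2 := burnside G (Ω × Ω)
  rw [card_orbits_prod_quotient] at hB1
  rw [hE] at hB2
  have hsum : ∑ g : G, Nat.card (MulAction.fixedBy (Ω × (G ⧸ H)) g) =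
      ∑ g : G, Nat.card (MulAction.fixedBy (Ω × Ω) g) := by
    apply Finset.sum_congr rfl
    intro g _
    rw [card_fixedBy_prod, card_fixedBy_prod, hπ g]
  rw [hsum, hB2] at hB1
  exact (Nat.eq_of_mul_eq_mul_right Nat.card_pos hB1).symm

end Cfsg.Agent.S3704
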