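import Cfsg.Statements.S3733
import Mathlib

set_option autoImplicit false
open Cfsg

namespace Cfsg.Agent.S3733

variable {G : Type*} [Group G]

/-- Conjugation by `g` on the subgroup `V`, when `g` normalises `V` (and the trivial map otherwise). -/
noncomputable def conjV (V : Subgroup G) (g : G) (v : V) : V := by
  classical
  exact if h : g ∈ Subgroup.normalizer (V : Set G) then
    ⟨g * v * g⁻¹, (Subgroup.mem_normalizer_iff.mp h v).mp v.2⟩ else 1

theorem conjV_val (V : Subgroup G) {g : G} (h : g ∈ Subgroup.normalizer (V : Set G)) (v : V) :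
    ((conjV V g v : V) : G) = g * v * g⁻¹ := by
  unfold conjV
  rw [dif_pos h]

theorem conjV_conjV (V : Subgroup G) {g h : G} (hg : g ∈ Subgroup.normalizer (V : Set G))
    (hh : h ∈ Subgroup.normalizer (V : Set G)) (v : V) :
    conjV V g (conjV V h v) = conjV V (g * h) v := by
  apply Subtype.ext
  rw [conjV_val V hg, conjV_val V hh, conjV_val V (Subgroup.mul_mem _ hg hh)]
  group

theorem conjV_one (V : Subgroup G) (v : V) : conjV V 1 v = v := by
  apply Subtype.ext
  rw [conjV_val V (Subgroup.one_mem _)]
  group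

/-- Conjugation by a normalising element as an endomorphism of `V`. -/
noncomputable def conjHom (V : Subgroup G) {g : G} (hg : g ∈ Subgroup.normalizer (V : Set G)) :
    V →* V where
  toFun := conjV V g
  map_one' := by
    apply Subtype.ext
    rw [conjV_val V hg]
    simp
  map_mul' v w := by
    apply Subtype.ext
    rw [Subgroup.coe_mul, conjV_val V hg, conjV_val V hg, conjV_val V hg, Subgroup.coe_mul]
    group

/-- Let A and V be subgroups of a finite group with V abelian and nontrivial and A normalizing V. Suppose a nonempty finite family of proper subgroups of A partitions A: every non-identity element of A lies in exactly one member. If the number of members minus one is coprime to the order of V, then some member B of the family has a non-identity fixed point on V, that is V ∩ C(B) ≠ 1. -/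
theorem result {G : Type*} [Group G] [Finite G] (A V : Subgroup G) (hVab : IsMulCommutative V) (hV : V ≠ ⊥) (hAV : A ≤ Subgroup.normalizer (V : Set G)) (𝒜 : Finset (Subgroup G)) (hne : 𝒜.Nonempty) (hprop : ∀ B ∈ 𝒜, B < A) (hpart : ∀ a ∈ A, a ≠ 1 → ∃! B, B ∈ 𝒜 ∧ a ∈ B) (hk : (𝒜.card - 1).Coprime (Nat.card V)) : ∃ B ∈ 𝒜, V ⊓ Subgroup.centralizer (B : Set G) ≠ ⊥ := by
  classical
  have : Fintype G := Fintype.ofFinite G
  by_contra hcon
  push Not at hcon
  let _ : CommGroup V := { (inferInstance : Group V) with mul_comm := fun a b => mul_comm' a b }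
  -- the set of elements of a subgroup, as a finset
  let F : Subgroup G → Finset G := fun B => Finset.univ.filter (· ∈ B)
  have hF : ∀ (B : Subgroup G) (g : G), g ∈ F B ↔ g ∈ B := by
    intro B g; simp [F]
  -- the norm
  let nrm : Subgroup G → V → V := fun B v => ∏ g ∈ F B, conjV V g v
  -- the norm is fixed by B
  have hfix : ∀ B : Subgroup G, B ≤ Subgroup.normalizer (V : Set G) → ∀ v : V, ∀ b ∈ B,
      conjV V b (nrm B v) = nrm B v := by
    intro B hB v b hb
    show conjHom V (hB hb) (∏ g ∈ F B, conjV V g v) = ∏ g ∈ F B, conjV V g v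
    rw [map_prod]
    refine Finset.prod_bij (fun g _ => b * g) ?_ ?_ ?_ ?_
    · intro g hg
      rw [hF] at hg ⊢
      exact Subgroup.mul_mem _ hb hg
    · intro g _ g' _ h
      exact mul_left_cancel h
    · intro g hg
      rw [hF] at hg
      refine ⟨b⁻¹ * g, ?_, by group⟩
      rw [hF]
      exact Subgroup.mul_mem _ (Subgroup.inv_mem _ hb) hg
    · intro g hg
      rw [hF] at hg
      exact conjV_conjV V (hB hb) (hB hg) v
  -- hence it lies in the centraliser
  have hcent : ∀ B : Subgroup G, B ≤ Subgroup.normalizer (V : Set G) → ∀ v : V,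
      ((nrm B v : V) : G) ∈ V ⊓ Subgroup.centralizer (B : Set G) := by
    intro B hB v
    refine Subgroup.mem_inf.mpr ⟨(nrm B v).2, ?_⟩
    rw [Subgroup.mem_centralizer_iff]
    intro b hb
    have h1 := congrArg (fun x : V => (x : G)) (hfix B hB v b hb)
    rw [conjV_val V (hB hb)] at h1
    calc b * ((nrm B v : V) : G) = (b * ((nrm B v : V) : G) * b⁻¹) * b := by group
      _ = ((nrm B v : V) : G) * b := by rw [h1]
  have hBA : ∀ B ∈ 𝒜, B ≤ A := fun B hB => (hprop B hB).le
  have hnrmB : ∀ B ∈ 𝒜, ∀ v : V, nrm B v = 1 := by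
    intro B hB v
    have := hcent B ((hBA B hB).trans hAV) v
    rw [hcon B hB, Subgroup.mem_bot] at this
    exact Subtype.ext this
  have hnrmA : ∀ v : V, nrm A v = 1 := by
    intro v
    obtain ⟨B₀, hB₀⟩ := hne
    have h1 := hcent A hAV v
    have h2 : V ⊓ Subgroup.centralizer (A : Set G) ≤ V ⊓ Subgroup.centralizer (B₀ : Set G) :=
      inf_le_inf_left _ (Subgroup.centralizer_le (hBA B₀ hB₀))
    have h3 := h2 h1
    rw [hcon B₀ hB₀, Subgroup.mem_bot] at h3
    exact Subtype.ext h3
  -- the main identity
  have hmain : ∀ v : V, ∏ B ∈ 𝒜, nrm B v = nrm A v * v ^ (𝒜.card - 1) := by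
    intro v
    show ∏ B ∈ 𝒜, ∏ g ∈ F B, conjV V g v = (∏ g ∈ F A, conjV V g v) * v ^ (𝒜.card - 1)
    rw [Finset.prod_comm' (t' := F A) (s' := fun g => 𝒜.filter (fun B => g ∈ B))]
    · have hterm : ∀ g ∈ F A, ∏ _B ∈ 𝒜.filter (fun B => g ∈ B), conjV V g v
          = conjV V g v * (if g = 1 then v ^ (𝒜.card - 1) else 1) := by
        intro g hg
        rw [hF] at hg
        rw [Finset.prod_const]
        by_cases h1 : g = 1
        · subst h1
          rw [if_pos rfl, conjV_one]
          have : 𝒜.filter (fun B => (1 : G) ∈ B) = 𝒜 := by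
            apply Finset.filter_true_of_mem
            intro B _; exact Subgroup.one_mem B
          rw [this, ← pow_succ']
          congr 1
          have := Finset.card_pos.mpr hne
          omega
        · rw [if_neg h1, mul_one]
          obtain ⟨B₀, ⟨hB₀, hgB₀⟩, huniq⟩ := hpart g hg h1
          have : 𝒜.filter (fun B => g ∈ B) = {B₀} := by
            ext B
            simp only [Finset.mem_filter, Finset.mem_singleton]
            constructor
            · intro h; exact huniq B h
            · rintro rfl; exact ⟨hB₀, hgB₀⟩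
          rw [this, Finset.card_singleton, pow_one]
      rw [Finset.prod_congr rfl hterm, Finset.prod_mul_distrib, Finset.prod_ite_eq' ]
      rw [if_pos ((hF A 1).mpr (Subgroup.one_mem A))]
    · intro B g
      simp only [Finset.mem_filter, hF]
      constructor
      · rintro ⟨hB, hg⟩
        exact ⟨⟨hB, hg⟩, hBA B hB hg⟩
      · rintro ⟨⟨hB, hg⟩, _⟩
        exact ⟨hB, hg⟩
  -- conclusion
  apply hV
  rw [Subgroup.eq_bot_iff_forall]
  intro x hx
  have h1 := hmain ⟨x, hx⟩
  rw [hnrmA, one_mul, Finset.prod_eq_one (fun B hB => hnrmB B hB ⟨x, hx⟩)] at h1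
  have h2 : orderOf (⟨x, hx⟩ : V) ∣ 𝒜.card - 1 := orderOf_dvd_of_pow_eq_one h1.symm
  have h3 : orderOf (⟨x, hx⟩ : V) ∣ Nat.card V := orderOf_dvd_natCard _
  have h4 : orderOf (⟨x, hx⟩ : V) = 1 := Nat.eq_one_of_dvd_coprimes hk h2 h3
  rw [orderOf_eq_one_iff] at h4
  exact congrArg Subtype.val h4

end Cfsg.Agent.S3733
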