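import Cfsg.Statements.S3735
import Cfsg.Agent.Helper62.Radical

set_option autoImplicit false
open Cfsg
open Cfsg.Agent.Helper62

namespace Cfsg.Agent.S3735

variable {G : Type*} [Group G]

/-- `X`-invariant subgroups of `V`. -/
def Inv (V X : Subgroup G) (U : Subgroup G) : Prop :=
  U ≤ V ∧ X ≤ Subgroup.normalizer (U : Set G)

theorem Inv.sup {V X U W : Subgroup G} (hU : Inv V X U) (hW : Inv V X W) : Inv V X (U ⊔ W) :=
  ⟨sup_le hU.1 hW.1, le_normalizer_sup hU.2 hW.2⟩

theorem Inv.inf {V X U W : Subgroup G} (hU : Inv V X U) (hW : Inv V X W) : Inv V X (U ⊓ W) := by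
  refine ⟨inf_le_left.trans hU.1, ?_⟩
  intro x hx
  rw [mem_normalizer_iff_cj_eq_self]
  have h1 := cj_eq_self_of_mem_normalizer (hU.2 hx)
  have h2 := cj_eq_self_of_mem_normalizer (hW.2 hx)
  have h3 : cj x (U ⊓ W) ≤ U ⊓ W :=
    le_inf ((cj_mono x inf_le_left).trans h1.le) ((cj_mono x inf_le_right).trans h2.le)
  have hxi : x⁻¹ ∈ X := Subgroup.inv_mem _ hx
  have h1' := cj_eq_self_of_mem_normalizer (hU.2 hxi)
  have h2' := cj_eq_self_of_mem_normalizer (hW.2 hxi)
  have h3' : cj x⁻¹ (U ⊓ W) ≤ U ⊓ W :=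
    le_inf ((cj_mono x⁻¹ inf_le_left).trans h1'.le) ((cj_mono x⁻¹ inf_le_right).trans h2'.le)
  apply le_antisymm h3
  have := cj_mono x h3'
  rwa [cj_mul, mul_inv_cancel, cj_one] at this

theorem Inv.bot (V X : Subgroup G) : Inv V X ⊥ := by
  refine ⟨bot_le, ?_⟩
  intro x _
  rw [mem_normalizer_iff_cj_eq_self]
  exact Subgroup.map_bot _

/-- conjugating an `A`-invariant subgroup by an element normalising `A` and `V` -/
theorem Inv.cj {V A U : Subgroup G} (hU : Inv V A U) {h : G}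
    (hV : h ∈ Subgroup.normalizer (V : Set G)) (hA : h ∈ Subgroup.normalizer (A : Set G)) :
    Inv V A (Helper62.cj h U) := by
  refine ⟨?_, ?_⟩
  · have := cj_mono h hU.1
    rwa [cj_eq_self_of_mem_normalizer hV] at this
  · intro a ha
    rw [mem_normalizer_iff_cj_eq_self, cj_mul]
    -- a * h = h * (h⁻¹ a h)
    have ha' : h⁻¹ * a * h ∈ A := by
      have hAi : h⁻¹ ∈ Subgroup.normalizer (A : Set G) := Subgroup.inv_mem _ hA
      have := (Subgroup.mem_normalizer_iff.mp hAi a).mp ha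
      simpa using this
    have e : a * h = h * (h⁻¹ * a * h) := by group
    rw [e, ← cj_mul, cj_eq_self_of_mem_normalizer (hU.2 ha')]

/-- minimal nontrivial `A`-invariant subgroups -/
def IsAtomInv (V A : Subgroup G) (T : Subgroup G) : Prop :=
  Inv V A T ∧ T ≠ ⊥ ∧ ∀ T' : Subgroup G, Inv V A T' → T' ≤ T → T' = ⊥ ∨ T' = T

theorem cj_eq_bot_iff (h : G) (T : Subgroup G) : Helper62.cj h T = ⊥ ↔ T = ⊥ := by
  constructor
  · intro e
    have := congrArg (Helper62.cj h⁻¹) e
    rw [cj_mul, inv_mul_cancel, cj_one] at this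
    rw [this]
    exact Subgroup.map_bot _
  · rintro rfl
    exact Subgroup.map_bot _

theorem IsAtomInv.cj {V A T : Subgroup G} (hT : IsAtomInv V A T) {h : G}
    (hV : h ∈ Subgroup.normalizer (V : Set G)) (hA : h ∈ Subgroup.normalizer (A : Set G)) :
    IsAtomInv V A (Helper62.cj h T) := by
  refine ⟨hT.1.cj hV hA, ?_, ?_⟩
  · rw [Ne, cj_eq_bot_iff]; exact hT.2.1
  · intro T' hT' hle
    have hVi : h⁻¹ ∈ Subgroup.normalizer (V : Set G) := Subgroup.inv_mem _ hV
    have hAi : h⁻¹ ∈ Subgroup.normalizer (A : Set G) := Subgroup.inv_mem _ hA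
    have h1 : Helper62.cj h⁻¹ T' ≤ T := by
      have := cj_mono h⁻¹ hle
      rwa [cj_mul, inv_mul_cancel, cj_one] at this
    rcases hT.2.2 _ (hT'.cj hVi hAi) h1 with h2 | h2
    · left
      exact (cj_eq_bot_iff _ _).mp h2
    · right
      have := congrArg (Helper62.cj h) h2
      rwa [cj_mul, mul_inv_cancel, cj_one] at this

theorem exists_atom_le [Finite G] {V A W : Subgroup G} (hW : Inv V A W) (hne : W ≠ ⊥) :
    ∃ T, IsAtomInv V A T ∧ T ≤ W := by
  obtain ⟨T, hTW, hTmin⟩ := Finite.exists_le_minimal (p := fun T => Inv V A T ∧ T ≠ ⊥)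
    (a := W) ⟨hW, hne⟩
  refine ⟨T, ⟨hTmin.1.1, hTmin.1.2, ?_⟩, hTW⟩
  intro T' hT' hle
  by_cases h : T' = ⊥
  · left; exact h
  · right
    exact le_antisymm hle (hTmin.2 ⟨hT', h⟩ hle)

/-- elements of the join of two commuting subgroups -/
theorem mem_sup_of_commute {W T : Subgroup G} (hc : ∀ w ∈ W, ∀ t ∈ T, w * t = t * w) {x : G}
    (hx : x ∈ W ⊔ T) : ∃ w ∈ W, ∃ t ∈ T, x = w * t := by
  have hle : W ≤ Subgroup.normalizer (T : Set G) := by
    intro w hw
    rw [Subgroup.mem_normalizer_iff]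
    intro t
    constructor
    · intro ht
      have : w * t * w⁻¹ = t := by rw [hc w hw t ht]; group
      rw [this]; exact ht
    · intro ht
      have h2 := hc w hw _ ht
      have : t = w * t * w⁻¹ := by
        have h3 : w * t * w⁻¹ * w = w * (w * t * w⁻¹) := by rw [h2]
        have h4 : w * t = w * (w * t * w⁻¹) := by
          calc w * t = w * t * w⁻¹ * w := by group
            _ = w * (w * t * w⁻¹) := h3
        exact mul_left_cancel h4
      rw [this]; exact ht
  have := Subgroup.coe_mul_of_left_le_normalizer_right W T hle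
  have hx' : x ∈ ((W ⊔ T : Subgroup G) : Set G) := hx
  rw [this] at hx'
  obtain ⟨w, hw, t, ht, rfl⟩ := Set.mem_mul.mp hx'
  exact ⟨w, hw, t, ht, rfl⟩

/-- Clifford's Theorem for actions on finite abelian groups, first part. Let H and V be subgroups of a finite group with V abelian and H normalizing V, and let A be a normal subgroup of H. If every H-invariant subgroup of V has an H-invariant complement in V, then every A-invariant subgroup of V has an A-invariant complement in V. -/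
theorem result {G : Type*} [Group G] [Finite G] (H A V : Subgroup G) (hVab : IsMulCommutative V) (hHV : H ≤ Subgroup.normalizer (V : Set G)) (hAH : A ≤ H) (hAn : H ≤ Subgroup.normalizer (A : Set G)) (hss : ∀ U : Subgroup G, U ≤ V → H ≤ Subgroup.normalizer (U : Set G) → ∃ W : Subgroup G, W ≤ V ∧ H ≤ Subgroup.normalizer (W : Set G) ∧ U ⊓ W = ⊥ ∧ U ⊔ W = V) (U : Subgroup G) (hUV : U ≤ V) (hAU : A ≤ Subgroup.normalizer (U : Set G)) : ∃ W : Subgroup G, W ≤ V ∧ A ≤ Subgroup.normalizer (W : Set G) ∧ U ⊓ W = ⊥ ∧ U ⊔ W = V := by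
  have hVcomm : ∀ x ∈ V, ∀ y ∈ V, x * y = y * x := by
    intro x hx y hy
    exact congrArg Subtype.val (mul_comm' (⟨x, hx⟩ : V) ⟨y, hy⟩)
  -- the socle
  set S : Subgroup G := sSup {T | IsAtomInv V A T} with hS
  have hSV : S ≤ V := sSup_le fun T hT => hT.1.1
  have hSH : H ≤ Subgroup.normalizer (S : Set G) := by
    have key : ∀ h ∈ H, cj h S ≤ S := by
      intro h hh
      rw [hS]
      unfold Helper62.cj
      rw [Subgroup.map_le_iff_le_comap]
      refine sSup_le fun T hT => ?_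
      rw [← Subgroup.map_le_iff_le_comap]
      exact le_sSup (hT.cj (hHV hh) (hAn hh))
    intro h hh
    rw [mem_normalizer_iff_cj_eq_self]
    apply le_antisymm (key h hh)
    have := cj_mono h (key h⁻¹ (Subgroup.inv_mem _ hh))
    rwa [cj_mul, mul_inv_cancel, cj_one] at this
  -- V is the socle
  have hSeq : S = V := by
    obtain ⟨W, hWV, hWH, hSW, hSWV⟩ := hss S hSV hSH
    have hWbot : W = ⊥ := by
      by_contra hne
      obtain ⟨T, hT, hTW⟩ := exists_atom_le (V := V) (A := A) ⟨hWV, hAH.trans hWH⟩ hne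
      have hTS : T ≤ S := le_sSup hT
      have : T ≤ ⊥ := by rw [← hSW]; exact le_inf hTS hTW
      exact hT.2.1 (le_bot_iff.mp this)
    rw [hWbot, sup_bot_eq] at hSWV
    exact hSWV
  -- a maximal invariant subgroup meeting U trivially
  obtain ⟨W, -, hWmax⟩ := Finite.exists_le_maximal (p := fun W => Inv V A W ∧ U ⊓ W = ⊥)
    (a := ⊥) ⟨Inv.bot V A, inf_bot_eq U⟩
  refine ⟨W, hWmax.1.1.1, hWmax.1.1.2, hWmax.1.2, ?_⟩
  by_contra hne
  have hUinv : Inv V A U := ⟨hUV, hAU⟩
  have hUW : Inv V A (U ⊔ W) := hUinv.sup hWmax.1.1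
  -- some atom is not contained in U ⊔ W
  have : ∃ T, IsAtomInv V A T ∧ ¬ T ≤ U ⊔ W := by
    by_contra hall
    push Not at hall
    apply hne
    apply le_antisymm hUW.1
    rw [← hSeq, hS]
    exact sSup_le fun T hT => hall T hT
  obtain ⟨T, hT, hTnle⟩ := this
  have hTint : T ⊓ (U ⊔ W) = ⊥ := by
    rcases hT.2.2 _ (hT.1.inf hUW) inf_le_left with h | h
    · exact h
    · exfalso; apply hTnle; rw [← h]; exact inf_le_right
  have hW' : Inv V A (W ⊔ T) := hWmax.1.1.sup hT.1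
  have hUW' : U ⊓ (W ⊔ T) = ⊥ := by
    rw [eq_bot_iff]
    intro x hx
    obtain ⟨hxU, hxWT⟩ := Subgroup.mem_inf.mp hx
    obtain ⟨w, hw, t, ht, rfl⟩ := mem_sup_of_commute
      (fun w hw t ht => hVcomm w (hWmax.1.1.1 hw) t (hT.1.1 ht)) hxWT
    have ht' : t ∈ T ⊓ (U ⊔ W) := by
      refine Subgroup.mem_inf.mpr ⟨ht, ?_⟩
      have : t = w⁻¹ * (w * t) := by group
      rw [this]
      have h1 : w⁻¹ ∈ U ⊔ W := Subgroup.mem_sup_right (Subgroup.inv_mem _ hw)
      have h2 : w * t ∈ U ⊔ W := Subgroup.mem_sup_left hxU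
      -- careful with order: w⁻¹ * (w * t)
      exact Subgroup.mul_mem _ h1 h2
    rw [hTint, Subgroup.mem_bot] at ht'
    subst ht'
    rw [mul_one] at hxU ⊢
    have : w ∈ U ⊓ W := Subgroup.mem_inf.mpr ⟨hxU, hw⟩
    rw [hWmax.1.2] at this
    exact this
  have hle : W ⊔ T ≤ W := hWmax.2 ⟨hW', hUW'⟩ le_sup_left
  exact hTnle ((le_sup_right.trans hle).trans le_sup_right)

end Cfsg.Agent.S3735
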