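import Cfsg.Statements.S3738
import Cfsg.Agent.Helper24.CritSub
import Cfsg.Agent.Helper67.CW2

set_option autoImplicit false
open Cfsg
open scoped commutatorElement

namespace Cfsg.Agent.S3738

open Cfsg.Agent.Helper24

theorem sq_mul_central {X : Type*} [Group X] (a z : X) (hza : z * a = a * z) (hz2 : z * z = 1) :
    (a * z) * (a * z) = a * a := by
  calc a * z * (a * z) = a * (z * a) * z := by group
    _ = a * (a * z) * z := by rw [hza]
    _ = a * a * (z * z) := by group
    _ = a * a := by rw [hz2, mul_one]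

theorem inv_comm_of_comm {X : Type*} [Group X] (z x : X) (h : z * x = x * z) : z * x⁻¹ = x⁻¹ * z := by
  calc z * x⁻¹ = x⁻¹ * (x * z) * x⁻¹ := by group
    _ = x⁻¹ * (z * x) * x⁻¹ := by rw [h]
    _ = x⁻¹ * z := by group

theorem comm_mul_central {X : Type*} [Group X] (x a z w : X) (hzx : z * x = x * z)
    (hwa : w * a = a * w) (hwz : w * z = z * w) :
    ⁅x * w, a * z⁆ = ⁅x, a⁆ := by
  rw [commutatorElement_def, commutatorElement_def]
  have hzx' := inv_comm_of_comm z x hzx
  calc x * w * (a * z) * (x * w)⁻¹ * (a * z)⁻¹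
      = x * (w * a) * z * w⁻¹ * x⁻¹ * z⁻¹ * a⁻¹ := by group
    _ = x * (a * w) * z * w⁻¹ * x⁻¹ * z⁻¹ * a⁻¹ := by rw [hwa]
    _ = x * a * (w * z) * w⁻¹ * x⁻¹ * z⁻¹ * a⁻¹ := by group
    _ = x * a * (z * w) * w⁻¹ * x⁻¹ * z⁻¹ * a⁻¹ := by rw [hwz]
    _ = x * a * (z * x⁻¹) * z⁻¹ * a⁻¹ := by group
    _ = x * a * (x⁻¹ * z) * z⁻¹ * a⁻¹ := by rw [hzx']
    _ = x * a * x⁻¹ * a⁻¹ := by group

/-- Chevalley–Warning step: a group `D` with a central elementary abelian subgroup `Z` of order `4`
containing all squares, all commutators and all involutions of `D` has order at most `64`. -/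
theorem card_le_of_anisotropic {X : Type*} [Group X] [Finite X] (D Z : Subgroup X) (hZD : Z ≤ D)
    (hZ4 : Nat.card Z = 4) (hZc : ∀ z ∈ Z, ∀ x ∈ D, z * x = x * z) (hZ2 : ∀ z ∈ Z, z * z = 1)
    (hsq : ∀ x ∈ D, x * x ∈ Z) (hcomm : ∀ x ∈ D, ∀ y ∈ D, ⁅x, y⁆ ∈ Z)
    (hinv : ∀ x ∈ D, x * x = 1 → x ∈ Z) : Nat.card D ≤ 64 := by
  classical
  set N : Subgroup ↥D := Z.subgroupOf D with hN
  have hNn : N.Normal := by
    refine ⟨fun n hn g => ?_⟩
    rw [hN, Subgroup.mem_subgroupOf] at hn ⊢
    have h1 := hZc _ hn g g.2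
    have : ((g * n * g⁻¹ : ↥D) : X) = (n : X) := by
      push_cast
      rw [← h1, mul_inv_cancel_right]
    rw [this]; exact hn
  -- the quadratic map and its polar form
  have hrel : ∀ a b : ↥D, (QuotientGroup.leftRel N) a b → (a : X)⁻¹ * (b : X) ∈ Z := by
    intro a b hab
    rw [QuotientGroup.leftRel_apply, hN, Subgroup.mem_subgroupOf] at hab
    have : ((a⁻¹ * b : ↥D) : X) = (a : X)⁻¹ * (b : X) := by push_cast; rfl
    rwa [this] at hab
  let s : (↥D ⧸ N) → ↥Z := fun q => Quotient.liftOn' q (fun x : ↥D => (⟨(x : X) * x, hsq x x.2⟩ : ↥Z))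
    (by
      intro a b hab
      have hz := hrel a b hab
      apply Subtype.ext
      show (a : X) * a = (b : X) * b
      have hb : (b : X) = a * ((a : X)⁻¹ * (b : X)) := by group
      rw [hb]
      exact (sq_mul_central (a : X) _ (hZc _ hz a a.2) (hZ2 _ hz)).symm)
  let β : (↥D ⧸ N) → (↥D ⧸ N) → ↥Z := fun q r => Quotient.liftOn₂' q r
    (fun a x : ↥D => (⟨⁅(x : X), (a : X)⁆, hcomm x x.2 a a.2⟩ : ↥Z))
    (by
      intro a x b y hab hxy
      have hz := hrel a b hab
      have hw := hrel x y hxy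
      apply Subtype.ext
      show ⁅(x : X), (a : X)⁆ = ⁅(y : X), (b : X)⁆
      have hb : (b : X) = a * ((a : X)⁻¹ * (b : X)) := by group
      have hy : (y : X) = x * ((x : X)⁻¹ * (y : X)) := by group
      rw [hb, hy]
      exact (comm_mul_central (x : X) (a : X) _ _ (hZc _ hz x x.2)
        (hZc _ hw a a.2) (hZc _ hw _ (hZD hz))).symm)
  have hs_mk : ∀ x : ↥D, s (x : ↥D ⧸ N) = ⟨(x : X) * x, hsq x x.2⟩ := fun x => rfl
  have hβ_mk : ∀ a x : ↥D, β (a : ↥D ⧸ N) (x : ↥D ⧸ N) = ⟨⁅(x : X), (a : X)⁆, hcomm x x.2 a a.2⟩ :=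
    fun a x => rfl
  -- commutators are central
  have hcc : ∀ x ∈ D, ∀ y ∈ D, ∀ u ∈ D, ⁅x, y⁆ * u = u * ⁅x, y⁆ :=
    fun x hx y hy u hu => hZc _ (hcomm x hx y hy) u hu
  by_contra hcon
  push Not at hcon
  have hcardV : 2 ^ (2 * 2) < Nat.card (↥D ⧸ N) := by
    have h1 := Subgroup.card_eq_card_quotient_mul_card_subgroup N
    have h2 : Nat.card N = 4 := by
      rw [hN, ← hZ4]
      exact Nat.card_congr (Subgroup.subgroupOfEquivOfLe hZD).toEquiv
    rw [h2] at h1
    have : 64 < Nat.card (↥D ⧸ N) * 4 := by rw [← h1]; exact hcon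
    norm_num
    omega
  have hcommV : ∀ a b : ↥D ⧸ N, a * b = b * a := by
    intro a b
    induction a using QuotientGroup.induction_on with
    | H x =>
    induction b using QuotientGroup.induction_on with
    | H y =>
    rw [← QuotientGroup.mk_mul, ← QuotientGroup.mk_mul, QuotientGroup.eq, hN, Subgroup.mem_subgroupOf]
    have : (((x * y)⁻¹ * (y * x) : ↥D) : X) = ⁅(y : X)⁻¹, (x : X)⁻¹⁆ := by
      push_cast; rw [commutatorElement_def]; group
    rw [this]
    exact hcomm _ (D.inv_mem y.2) _ (D.inv_mem x.2)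
  have hexpV : ∀ a : ↥D ⧸ N, a * a = 1 := by
    intro a
    induction a using QuotientGroup.induction_on with
    | H x =>
    rw [← QuotientGroup.mk_mul, QuotientGroup.eq_one_iff, hN, Subgroup.mem_subgroupOf]
    exact hsq x x.2
  have hcommW : ∀ a b : ↥Z, a * b = b * a := by
    intro a b
    apply Subtype.ext
    exact hZc a a.2 b (hZD b.2)
  have hexpW : ∀ a : ↥Z, a * a = 1 := by
    intro a
    apply Subtype.ext
    exact hZ2 a a.2
  have hβ : ∀ a x y : ↥D ⧸ N, β a (x * y) = β a x * β a y := by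
    intro a x y
    induction a using QuotientGroup.induction_on with
    | H a =>
    induction x using QuotientGroup.induction_on with
    | H x =>
    induction y using QuotientGroup.induction_on with
    | H y =>
    rw [← QuotientGroup.mk_mul, hβ_mk, hβ_mk, hβ_mk]
    apply Subtype.ext
    show ⁅((x * y : ↥D) : X), (a : X)⁆ = ⁅(x : X), (a : X)⁆ * ⁅(y : X), (a : X)⁆
    push_cast
    rw [commutatorElement_mul_left_eq_conj_mul]
    have h1 := hcc y y.2 a a.2 (x : X)⁻¹ (D.inv_mem x.2)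
    have h2 := hcc y y.2 a a.2 (⁅(x : X), (a : X)⁆) (hZD (hcomm x x.2 a a.2))
    calc (x : X) * ⁅(y : X), (a : X)⁆ * (x : X)⁻¹ * ⁅(x : X), (a : X)⁆
        = (x : X) * (⁅(y : X), (a : X)⁆ * (x : X)⁻¹) * ⁅(x : X), (a : X)⁆ := by group
      _ = (x : X) * ((x : X)⁻¹ * ⁅(y : X), (a : X)⁆) * ⁅(x : X), (a : X)⁆ := by rw [h1]
      _ = ⁅(y : X), (a : X)⁆ * ⁅(x : X), (a : X)⁆ := by group
      _ = ⁅(x : X), (a : X)⁆ * ⁅(y : X), (a : X)⁆ := h2
  have hs : ∀ a x : ↥D ⧸ N, s (a * x) = s a * s x * β a x := by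
    intro a x
    induction a using QuotientGroup.induction_on with
    | H a =>
    induction x using QuotientGroup.induction_on with
    | H x =>
    rw [← QuotientGroup.mk_mul, hs_mk, hs_mk, hs_mk, hβ_mk]
    apply Subtype.ext
    show ((a * x : ↥D) : X) * ((a * x : ↥D) : X) = (a : X) * a * ((x : X) * x) * ⁅(x : X), (a : X)⁆
    push_cast
    have h1 : (x : X) * a = ⁅(x : X), (a : X)⁆ * a * x := by rw [commutatorElement_def]; group
    have h2 := hcc x x.2 a a.2 (a : X) a.2
    have h3 := hcc x x.2 a a.2 ((a : X) * a * ((x : X) * x))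
      (D.mul_mem (D.mul_mem a.2 a.2) (D.mul_mem x.2 x.2))
    calc (a : X) * x * (a * x) = a * (x * a) * x := by group
      _ = a * (⁅(x : X), (a : X)⁆ * a * x) * x := by rw [h1]
      _ = a * (⁅(x : X), (a : X)⁆ * a) * x * x := by group
      _ = a * (a * ⁅(x : X), (a : X)⁆) * x * x := by rw [h2]
      _ = a * a * (⁅(x : X), (a : X)⁆ * (x * x)) := by group
      _ = a * a * ((x * x) * ⁅(x : X), (a : X)⁆) := by
          rw [hcc x x.2 a a.2 ((x : X) * x) (D.mul_mem x.2 x.2)]
      _ = (a : X) * a * ((x : X) * x) * ⁅(x : X), (a : X)⁆ := by group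
  obtain ⟨u, hu1, hsu⟩ := Cfsg.Agent.Helper67.exists_singular hcommV hexpV hcommW hexpW 2
    (by rw [hZ4]; norm_num) s β hβ hs hcardV
  induction u using QuotientGroup.induction_on with
  | H x =>
  rw [hs_mk] at hsu
  have hx1 : (x : X) * x = 1 := congrArg Subtype.val hsu
  apply hu1
  rw [QuotientGroup.eq_one_iff, hN, Subgroup.mem_subgroupOf]
  exact hinv x x.2 hx1

/-- A free action of a finite group on a finite set: the order of the group divides the size of
the set (Burnside's lemma). -/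
theorem free_action_dvd {G S : Type*} [Group G] [MulAction G S] [Finite G] [Finite S]
    (hfree : ∀ a : G, a ≠ 1 → ∀ s : S, a • s ≠ s) : Nat.card G ∣ Nat.card S := by
  classical
  have _ : Fintype G := Fintype.ofFinite _
  have _ : Fintype S := Fintype.ofFinite _
  have hB := MulAction.sum_card_fixedBy_eq_card_orbits_mul_card_group G S
  rw [Finset.sum_eq_single (1 : G)] at hB
  · rw [Nat.card_eq_fintype_card, Nat.card_eq_fintype_card]
    refine ⟨Fintype.card (Quotient (MulAction.orbitRel G S)), ?_⟩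
    rw [mul_comm, ← hB]
    rw [Fintype.card_congr (Equiv.subtypeUnivEquiv (fun s => ?_))]
    simp
  · intro a _ ha
    rw [Fintype.card_eq_zero_iff]
    refine ⟨fun ⟨s, hs⟩ => ?_⟩
    exact hfree a ha s hs
  · intro h; exact absurd (Finset.mem_univ _) h

/-- Conjugation action of a subgroup `A` on a subset `S` stable under `A`-conjugation. -/
@[reducible] def conjActionOn {G : Type*} [Group G] (A : Subgroup G) (S : Set G)
    (hS : ∀ a ∈ A, ∀ s ∈ S, a * s * a⁻¹ ∈ S) : MulAction A S where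
  smul a s := ⟨a * s * a⁻¹, hS a a.2 s s.2⟩
  one_smul s := Subtype.ext (by show ((1 : A) : G) * s * ((1 : A) : G)⁻¹ = s; simp)
  mul_smul a b s := Subtype.ext (by
    show ((a * b : A) : G) * s * ((a * b : A) : G)⁻¹ = (a : G) * ((b : G) * s * (b : G)⁻¹) * (a : G)⁻¹
    simp [mul_assoc])

/-- If `g` has order `9` and normalizes `D`, then `|D| ≡ |C_D(g ^ 3)|` modulo `9`. -/
theorem card_eq_card_centralizer_add {X : Type*} [Group X] [Finite X] (D : Subgroup X) (g : X)
    (hg9 : g ^ 9 = 1) (hg3 : g ^ 3 ≠ 1) (hgD : ∀ x ∈ D, g * x * g⁻¹ ∈ D) :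
    ∃ k : ℕ, Nat.card D = Nat.card ↥(D ⊓ Subgroup.centralizer {g ^ 3}) + 9 * k := by
  classical
  have hord : orderOf g = 9 := by
    have h1 : orderOf g ∣ 9 := orderOf_dvd_of_pow_eq_one hg9
    have h2 : ¬ orderOf g ∣ 3 := fun h => hg3 (orderOf_dvd_iff_pow_eq_one.mp h)
    have h3 : orderOf g ≤ 9 := Nat.le_of_dvd (by norm_num) h1
    interval_cases h : orderOf g
    · exact absurd h1 (by norm_num)
    · exact absurd (one_dvd 3) h2
    · exact absurd h1 (by norm_num)
    · exact absurd dvd_rfl h2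
    · exact absurd h1 (by norm_num)
    · exact absurd h1 (by norm_num)
    · exact absurd h1 (by norm_num)
    · exact absurd h1 (by norm_num)
    · exact absurd h1 (by norm_num)
    · rfl
  have hcard : Nat.card (Subgroup.zpowers g) = 9 := by rw [Nat.card_zpowers, hord]
  set e := g ^ 3 with he
  set S : Set X := {x | x ∈ D ∧ e * x ≠ x * e} with hS
  have hgN : g ∈ Subgroup.normalizer (D : Set X) := Subgroup.mem_normalizer_fintype hgD
  have hzN : Subgroup.zpowers g ≤ Subgroup.normalizer (D : Set X) := by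
    rw [Subgroup.zpowers_le]; exact hgN
  have hcomm_e : ∀ a ∈ Subgroup.zpowers g, a * e = e * a := by
    intro a ha
    obtain ⟨k, rfl⟩ := Subgroup.mem_zpowers_iff.mp ha
    exact (((Commute.refl g).zpow_left k).pow_right 3).eq
  have hSstab : ∀ a ∈ Subgroup.zpowers g, ∀ s ∈ S, a * s * a⁻¹ ∈ S := by
    intro a ha s hs
    refine ⟨conj_mem_of_mem_normalizer (hzN ha) hs.1, ?_⟩
    intro h
    apply hs.2
    have h1 := hcomm_e a ha
    calc e * s = a⁻¹ * (a * e) * s := by group
      _ = a⁻¹ * (e * a) * s := by rw [h1]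
      _ = a⁻¹ * (e * (a * s * a⁻¹)) * a := by group
      _ = a⁻¹ * ((a * s * a⁻¹) * e) * a := by rw [h]
      _ = s * a⁻¹ * (e * a) := by group
      _ = s * a⁻¹ * (a * e) := by rw [h1]
      _ = s * e := by group
  let _ : MulAction (Subgroup.zpowers g) S := conjActionOn (Subgroup.zpowers g) S hSstab
  have hfree : ∀ a : Subgroup.zpowers g, a ≠ 1 → ∀ s : S, a • s ≠ s := by
    intro a ha s hfix
    have hfix' : (a : X) * s * (a : X)⁻¹ = s := congrArg Subtype.val hfix
    have hcomm : Commute (a : X) (s : X) := by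
      show (a : X) * s = s * a
      calc (a : X) * s = ((a : X) * s * (a : X)⁻¹) * a := by group
        _ = s * a := by rw [hfix']
    obtain ⟨k, hk, hka⟩ := Finset.mem_image.mp (mem_zpowers_iff_mem_range_orderOf.mp a.2)
    rw [hord, Finset.mem_range] at hk
    have hk0 : k ≠ 0 := by
      rintro rfl
      apply ha
      apply Subtype.ext
      rw [← hka]; simp
    have key : ∃ r : ℕ, (a : X) ^ r = e := by
      have hpow : ∀ r q : ℕ, k * r = 3 + 9 * q → (a : X) ^ r = e := by
        intro r q hrq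
        rw [← hka, ← pow_mul, hrq, pow_add, pow_mul, hg9, one_pow, mul_one]
      interval_cases k
      · exact absurd rfl hk0
      · exact ⟨3, hpow 3 0 (by norm_num)⟩
      · exact ⟨6, hpow 6 1 (by norm_num)⟩
      · exact ⟨1, hpow 1 0 (by norm_num)⟩
      · exact ⟨3, hpow 3 1 (by norm_num)⟩
      · exact ⟨6, hpow 6 3 (by norm_num)⟩
      · exact ⟨2, hpow 2 1 (by norm_num)⟩
      · exact ⟨3, hpow 3 2 (by norm_num)⟩
      · exact ⟨6, hpow 6 5 (by norm_num)⟩
    obtain ⟨r, hr⟩ := key
    have := (hcomm.pow_left r).eq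
    rw [hr] at this
    exact s.2.2 this
  have hdvd := free_action_dvd hfree
  rw [hcard] at hdvd
  obtain ⟨k, hk⟩ := hdvd
  refine ⟨k, ?_⟩
  have hsub : ((D ⊓ Subgroup.centralizer {e} : Subgroup X) : Set X) ⊆ (D : Set X) := by
    intro x hx; exact (Subgroup.mem_inf.mp hx).1
  have hSeq : S = (D : Set X) \ ((D ⊓ Subgroup.centralizer {e} : Subgroup X) : Set X) := by
    ext x
    simp only [hS, Set.mem_ofPred_eq, Set.mem_sdiff, SetLike.mem_coe, Subgroup.mem_inf,
      Subgroup.mem_centralizer_iff, Set.mem_singleton_iff, forall_eq]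
    constructor
    · rintro ⟨h1, h2⟩
      exact ⟨h1, fun h => h2 h.2⟩
    · rintro ⟨h1, h2⟩
      exact ⟨h1, fun h => h2 ⟨h1, h⟩⟩
  have h1 := Set.ncard_sdiff_add_ncard_of_subset hsub (Set.toFinite _)
  rw [← hSeq] at h1
  have h0 : Nat.card ↑S = S.ncard := Nat.card_coe_set_eq S
  have h2 : Nat.card ↥D = (D : Set X).ncard := Nat.card_coe_set_eq _
  have h3 : Nat.card ↥(D ⊓ Subgroup.centralizer {e}) =
      ((D ⊓ Subgroup.centralizer {e} : Subgroup X) : Set X).ncard := Nat.card_coe_set_eq _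
  rw [h2, h3]
  omega

end Cfsg.Agent.S3738

namespace Cfsg.Agent.S3738

open Cfsg.Agent.Helper24 in
/-- Let d be a non-identity 3-element of a finite group and P a 2-subgroup normalized by d on which ⟨d⟩ acts faithfully (no non-identity power of d centralizes P) and without non-identity fixed points (C_P(d) = 1). If every abelian subgroup of P has 2-rank at most 2, then d has order 3. -/
theorem result {X : Type*} [Group X] [Finite X] (d : X) (n : ℕ) (hn : 1 ≤ n) (hd : orderOf d = 3 ^ n) (P : Subgroup X) (hP : IsPGroup 2 P) (hdP : d ∈ Subgroup.normalizer (P : Set X)) (hfaith : Subgroup.zpowers d ⊓ Subgroup.centralizer (P : Set X) = ⊥) (hfpf : P ⊓ Subgroup.centralizer {d} = ⊥) (hrank : ∀ V : Subgroup X, V ≤ P → IsMulCommutative V → Cfsg.PRankLE 2 2 V) : orderOf d = 3 := by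
  classical
  by_contra hne
  have hn2 : 2 ≤ n := by
    by_contra h
    have : n = 1 := by omega
    rw [this, pow_one] at hd
    exact hne hd
  obtain ⟨m, rfl⟩ : ∃ m, n = m + 2 := ⟨n - 2, by omega⟩
  have _ : Fact (Nat.Prime 2) := ⟨Nat.prime_two⟩
  -- elementary abelian subgroups of `P` have order at most `4`
  have hE : ∀ E : Subgroup X, E ≤ P → (∀ a ∈ E, ∀ b ∈ E, a * b = b * a) → (∀ a ∈ E, a * a = 1) →
      Nat.card E ≤ 4 := by
    intro E hEP hEc hE2
    have hEcomm : IsMulCommutative ↥E := ⟨⟨fun a b => Subtype.ext (hEc a a.2 b b.2)⟩⟩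
    have h := hrank E hEP hEcomm ⊤ inferInstance (fun a _ => by
      apply Subtype.ext
      rw [pow_two]
      exact hE2 a a.2)
    rw [Subgroup.card_top] at h
    norm_num at h
    exact h
  obtain ⟨D, hDP, hDinv, hDexp, hDcomm, hDfaith⟩ := exists_small_exponent_crit (p := 2) P hP
  have hD4 : ∀ x ∈ D, x ^ 4 = 1 := by
    intro x hx
    rcases hDexp x hx with h | ⟨-, h⟩
    · rw [show (4 : ℕ) = 2 * 2 from rfl, pow_mul, h, one_pow]
    · exact h
  -- the elements `d'` of order `9` and `e` of order `3`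
  set d' := d ^ (3 ^ m) with hd'
  set e := d ^ (3 ^ (m + 1)) with he
  have hed' : d' ^ 3 = e := by rw [hd', he, ← pow_mul, ← pow_succ]
  have hd'9 : d' ^ 9 = 1 := by
    rw [hd', ← pow_mul]
    have : 3 ^ m * 9 = 3 ^ (m + 2) := by ring
    rw [this, ← hd]
    exact pow_orderOf_eq_one d
  have he1 : e ≠ 1 := by
    apply pow_ne_one_of_lt_orderOf (by positivity)
    rw [hd]
    exact Nat.pow_lt_pow_right (by norm_num) (by omega)
  have he3 : e ^ 3 = 1 := by rw [← hed', ← pow_mul]; exact hd'9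
  have hpowN : ∀ k : ℕ, d ^ k ∈ Subgroup.normalizer (P : Set X) := fun k => Subgroup.pow_mem _ hdP k
  -- `e` does not centralize `D`
  have hnotD : ¬ ∀ x ∈ D, e * x = x * e := by
    intro h
    have hcop : (orderOf e).Coprime 2 := by
      have : orderOf e ∣ 3 := orderOf_dvd_of_pow_eq_one he3
      exact Nat.Coprime.coprime_dvd_left this (by norm_num)
    have h2 := hDfaith e (hpowN _) hcop h
    have : e ∈ Subgroup.zpowers d ⊓ Subgroup.centralizer (P : Set X) := by
      refine Subgroup.mem_inf.mpr ⟨Subgroup.pow_mem _ (Subgroup.mem_zpowers d) _, ?_⟩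
      rw [Subgroup.mem_centralizer_iff]
      intro x hx
      exact (h2 x hx).symm
    rw [hfaith, Subgroup.mem_bot] at this
    exact he1 this
  -- `Z = Ω₁(Z(D))`
  let Z : Subgroup X :=
    { carrier := {x | x ∈ D ∧ (∀ y ∈ D, x * y = y * x) ∧ x * x = 1}
      one_mem' := ⟨D.one_mem, fun y _ => by rw [one_mul, mul_one], one_mul 1⟩
      mul_mem' := by
        rintro x y ⟨hx, hxc, hx2⟩ ⟨hy, hyc, hy2⟩
        refine ⟨D.mul_mem hx hy, fun z hz => ?_, ?_⟩
        · rw [mul_assoc, hyc z hz, ← mul_assoc, hxc z hz, mul_assoc]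
        · calc x * y * (x * y) = x * (y * x) * y := by group
            _ = x * (x * y) * y := by rw [hyc x hx]
            _ = (x * x) * (y * y) := by group
            _ = 1 := by rw [hx2, hy2, one_mul]
      inv_mem' := by
        rintro x ⟨hx, hxc, hx2⟩
        refine ⟨D.inv_mem hx, fun z hz => ?_, ?_⟩
        · exact (inv_comm_of_comm z x (hxc z hz).symm).symm
        · calc x⁻¹ * x⁻¹ = (x * x)⁻¹ := by group
            _ = 1 := by rw [hx2, inv_one] }
  have hZmem : ∀ x, x ∈ Z ↔ x ∈ D ∧ (∀ y ∈ D, x * y = y * x) ∧ x * x = 1 := fun x => Iff.rfl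
  have hZD : Z ≤ D := fun x hx => ((hZmem x).mp hx).1
  have hZc : ∀ z ∈ Z, ∀ x ∈ D, z * x = x * z := fun z hz x hx => ((hZmem z).mp hz).2.1 x hx
  have hZ2 : ∀ z ∈ Z, z * z = 1 := fun z hz => ((hZmem z).mp hz).2.2
  have hZle : Nat.card Z ≤ 4 :=
    hE Z (hZD.trans hDP) (fun a ha b hb => hZc a ha b (hZD hb)) hZ2
  -- `d` normalizes `Z`
  have hdinvN : d⁻¹ ∈ Subgroup.normalizer (P : Set X) := Subgroup.inv_mem _ hdP
  have hdZ : ∀ x ∈ Z, d * x * d⁻¹ ∈ Z := by
    intro x hx
    rw [hZmem] at hx ⊢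
    obtain ⟨hxD, hxc, hx2⟩ := hx
    refine ⟨hDinv d hdP x hxD, fun y hy => ?_, ?_⟩
    · have hy' : d⁻¹ * y * d ∈ D := by
        have := hDinv d⁻¹ hdinvN y hy
        rwa [inv_inv] at this
      have h1 := hxc _ hy'
      calc d * x * d⁻¹ * y = d * (x * (d⁻¹ * y * d)) * d⁻¹ := by group
        _ = d * ((d⁻¹ * y * d) * x) * d⁻¹ := by rw [h1]
        _ = y * (d * x * d⁻¹) := by group
    · calc d * x * d⁻¹ * (d * x * d⁻¹) = d * (x * x) * d⁻¹ := by group
        _ = 1 := by rw [hx2]; group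
  -- `D` is nontrivial, so `Z` is nontrivial
  have hDne : D ≠ ⊥ := by
    intro h
    apply hnotD
    intro x hx
    rw [h, Subgroup.mem_bot] at hx
    rw [hx, mul_one, one_mul]
  have hD2 : IsPGroup 2 ↥D := hP.to_le hDP
  have hZne : Z ≠ ⊥ := by
    have : Nontrivial ↥D := (Subgroup.nontrivial_iff_ne_bot D).mpr hDne
    have hcn : Nontrivial ↥(Subgroup.center ↥D) := hD2.center_nontrivial
    have hc2 : IsPGroup 2 ↥(Subgroup.center ↥D) := hD2.to_subgroup _
    obtain ⟨j, hj⟩ := (IsPGroup.iff_card).mp hc2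
    have hj0 : j ≠ 0 := by
      rintro rfl
      have := Finite.one_lt_card (α := ↥(Subgroup.center ↥D))
      omega
    have _ : Fintype ↥(Subgroup.center ↥D) := Fintype.ofFinite _
    have hdvd : 2 ∣ Fintype.card ↥(Subgroup.center ↥D) := by
      rw [← Nat.card_eq_fintype_card, hj]
      exact dvd_pow_self 2 hj0
    obtain ⟨c, hc⟩ := exists_prime_orderOf_dvd_card 2 hdvd
    intro hbot
    have hcZ : ((c : ↥D) : X) ∈ Z := by
      rw [hZmem]
      refine ⟨(c : ↥D).2, fun y hy => ?_, ?_⟩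
      · have := Subgroup.mem_center_iff.mp c.2 ⟨y, hy⟩
        have := congrArg (Subtype.val) this
        simpa using this.symm
      · have h2 : c ^ 2 = 1 := by rw [← hc]; exact pow_orderOf_eq_one c
        have := congrArg (fun t : ↥(Subgroup.center ↥D) => ((t : ↥D) : X)) h2
        simpa [pow_two] using this
    rw [hbot, Subgroup.mem_bot] at hcZ
    have hc1 : c = 1 := by
      apply Subtype.ext
      apply Subtype.ext
      simpa using hcZ
    rw [hc1, orderOf_one] at hc
    norm_num at hc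
  have hZ2g : IsPGroup 2 ↥Z := hP.to_le (hZD.trans hDP)
  have hZ4 : Nat.card Z = 4 := by
    obtain ⟨j, hj⟩ := (IsPGroup.iff_card).mp hZ2g
    have hj2 : j ≤ 2 := by
      by_contra h
      push Not at h
      have : 2 ^ 3 ≤ 2 ^ j := Nat.pow_le_pow_right (by norm_num) h
      omega
    interval_cases j
    · exfalso
      apply hZne
      exact Subgroup.card_eq_one.mp (by simpa using hj)
    · exfalso
      -- `|Z| = 2`: the involution is fixed by `d`
      obtain ⟨z, hz1, hzu⟩ := (Nat.card_eq_two_iff' (1 : ↥Z)).mp (by simpa using hj)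
      have hdz : (⟨d * z * d⁻¹, hdZ z z.2⟩ : ↥Z) ≠ 1 := by
        intro h
        apply hz1
        have h' : d * (z : X) * d⁻¹ = 1 := congrArg Subtype.val h
        apply Subtype.ext
        show (z : X) = 1
        calc (z : X) = d⁻¹ * (d * z * d⁻¹) * d := by group
          _ = 1 := by rw [h']; group
      have := hzu _ hdz
      have h' : d * (z : X) * d⁻¹ = z := congrArg Subtype.val this
      have hzmem : (z : X) ∈ P ⊓ Subgroup.centralizer {d} := by
        refine Subgroup.mem_inf.mpr ⟨hDP (hZD z.2), ?_⟩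
        rw [Subgroup.mem_centralizer_iff]
        intro h hh
        rw [Set.mem_singleton_iff.mp hh]
        calc d * (z : X) = (d * z * d⁻¹) * d := by group
          _ = z * d := by rw [h']
      rw [hfpf, Subgroup.mem_bot] at hzmem
      exact hz1 (Subtype.ext hzmem)
    · simpa using hj
  -- every involution of `D` lies in `Z`
  have hinv : ∀ t ∈ D, t * t = 1 → t ∈ Z := by
    intro t ht ht2
    set T : Set X := (Z : Set X) ∪ {t} with hT
    have hTD : T ⊆ (D : Set X) := by
      intro x hx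
      rcases hx with hx | hx
      · exact hZD hx
      · rw [Set.mem_singleton_iff.mp hx]; exact ht
    have hTcomm : ∀ a ∈ T, ∀ b ∈ T, a * b = b * a := by
      intro a ha b hb
      rcases ha with ha | ha
      · exact hZc a ha b (hTD hb)
      · rcases hb with hb | hb
        · exact (hZc b hb a (hTD (Or.inr ha))).symm
        · rw [Set.mem_singleton_iff.mp ha, Set.mem_singleton_iff.mp hb]
    have hEc := Cfsg.Agent.S1949.commute_of_mem_closure hTcomm
    have hE2 : ∀ a ∈ Subgroup.closure T, a * a = 1 := by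
      intro a ha
      induction ha using Subgroup.closure_induction with
      | mem x hx =>
        rcases hx with hx | hx
        · exact hZ2 x hx
        · rw [Set.mem_singleton_iff.mp hx]; exact ht2
      | one => exact one_mul 1
      | mul x y hx hy hx2 hy2 =>
        calc x * y * (x * y) = x * (y * x) * y := by group
          _ = x * (x * y) * y := by rw [hEc y hy x hx]
          _ = (x * x) * (y * y) := by group
          _ = 1 := by rw [hx2, hy2, one_mul]
      | inv x hx hx2 =>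
        calc x⁻¹ * x⁻¹ = (x * x)⁻¹ := by group
          _ = 1 := by rw [hx2, inv_one]
    have hEP : Subgroup.closure T ≤ P := by
      rw [Subgroup.closure_le]
      exact fun x hx => hDP (hTD hx)
    have hEle := hE _ hEP hEc hE2
    have hZE : Z ≤ Subgroup.closure T := fun x hx => Subgroup.subset_closure (Or.inl hx)
    have hEq : Z = Subgroup.closure T := Subgroup.eq_of_le_of_card_ge hZE (by rw [hZ4]; exact hEle)
    rw [hEq]
    exact Subgroup.subset_closure (Or.inr rfl)
  have hsq : ∀ x ∈ D, x * x ∈ Z := by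
    intro x hx
    apply hinv _ (D.mul_mem hx hx)
    have := hD4 x hx
    rw [show (4 : ℕ) = 2 + 2 from rfl, pow_add, pow_two] at this
    exact this
  have hcommZ : ∀ x ∈ D, ∀ y ∈ D, ⁅x, y⁆ ∈ Z := by
    intro x hx y hy
    obtain ⟨hcD, hcc⟩ := hDcomm x hx y (hDP hy)
    apply hinv _ hcD
    have h1 : Commute ⁅x, y⁆ x := hcc x hx
    have h2 : x ^ 2 * y = y * x ^ 2 := by
      rw [pow_two]
      exact hZc _ (hsq x hx) y hy
    have := Cfsg.Agent.S1949.comm_pow_eq_one 2 h1 h2
    rwa [pow_two] at this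
  have hD64 : Nat.card D ≤ 64 := card_le_of_anisotropic D Z hZD hZ4 hZc hZ2 hsq hcommZ hinv
  -- `e` centralizes `Z`
  have hdNZ : d ∈ Subgroup.normalizer (Z : Set X) := Subgroup.mem_normalizer_fintype hdZ
  have heZ : ∀ z ∈ Z, e * z = z * e := by
    set σ : MulAut ↥Z := Z.normalizerMonoidHom ⟨d, hdNZ⟩ with hσ
    have h1 : orderOf σ ∣ 3 ^ (m + 2) := by
      have := orderOf_map_dvd Z.normalizerMonoidHom (⟨d, hdNZ⟩ : ↥(Subgroup.normalizer (Z : Set X)))
      rwa [Subgroup.orderOf_mk, hd] at this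
    have h2 : orderOf σ ∣ 24 := by
      have hinj : Function.Injective (MulAut.toPerm ↥Z) := by
        intro a b h
        ext x
        exact congrArg (fun f : Equiv.Perm ↥Z => ((f x : ↥Z) : X)) h
      rw [← orderOf_injective (MulAut.toPerm ↥Z) hinj σ]
      have := orderOf_dvd_natCard (MulAut.toPerm ↥Z σ)
      rwa [Nat.card_perm, hZ4] at this
    have h3 : orderOf σ ∣ 3 := by
      have hcop : (orderOf σ).Coprime 8 :=
        Nat.Coprime.coprime_dvd_left h1 (by
          apply Nat.Coprime.pow_left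
          norm_num)
      have : orderOf σ ∣ 8 * 3 := h2
      exact hcop.dvd_of_dvd_mul_left this
    have hσ3 : σ ^ 3 = 1 := orderOf_dvd_iff_pow_eq_one.mp h3
    have hd3 : ∀ z ∈ Z, d ^ 3 * z = z * d ^ 3 := by
      intro z hz
      have h := congrArg (fun β : MulAut ↥Z => ((β ⟨z, hz⟩ : ↥Z) : X)) hσ3
      rw [hσ, ← map_pow] at h
      simp only [Subgroup.normalizerMonoidHom_apply_apply_coe, MulAut.one_apply] at h
      have h' : d ^ 3 * z * (d ^ 3)⁻¹ = z := by simpa using h
      calc d ^ 3 * z = (d ^ 3 * z * (d ^ 3)⁻¹) * d ^ 3 := by group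
        _ = z * d ^ 3 := by rw [h']
    intro z hz
    have hcomm : Commute (d ^ 3) z := hd3 z hz
    have : e = (d ^ 3) ^ (3 ^ m) := by rw [he, ← pow_mul, ← pow_succ']
    rw [this]
    exact (hcomm.pow_left _).eq
  -- counting
  obtain ⟨k, hk⟩ := card_eq_card_centralizer_add D d' hd'9 (by rw [hed']; exact he1)
    (hDinv d' (hpowN _))
  rw [hed'] at hk
  set C : Subgroup X := D ⊓ Subgroup.centralizer {e} with hC
  have hZC : Z ≤ C := by
    intro z hz
    refine Subgroup.mem_inf.mpr ⟨hZD hz, ?_⟩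
    rw [Subgroup.mem_centralizer_iff]
    intro h hh
    rw [Set.mem_singleton_iff.mp hh]
    exact heZ z hz
  have hCD : C < D := by
    refine lt_of_le_of_ne inf_le_left ?_
    intro h
    apply hnotD
    intro x hx
    have : x ∈ C := by rw [h]; exact hx
    exact Subgroup.mem_centralizer_iff.mp (Subgroup.mem_inf.mp this).2 e rfl
  have hlt : Nat.card C < Nat.card D := card_lt_of_lt hCD
  have h4 : 4 ∣ Nat.card C := hZ4 ▸ Subgroup.card_dvd_of_le hZC
  obtain ⟨a, ha⟩ := (IsPGroup.iff_card).mp hD2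
  obtain ⟨i, hi⟩ := (IsPGroup.iff_card).mp (hD2.to_le (le_of_lt hCD) : IsPGroup 2 ↥C)
  rw [ha, hi] at hk hlt
  rw [hi] at h4
  rw [ha] at hD64
  have ha6 : a ≤ 6 := by
    by_contra h
    push Not at h
    have : 2 ^ 7 ≤ 2 ^ a := Nat.pow_le_pow_right (by norm_num) h
    omega
  have hia : i < a := (Nat.pow_lt_pow_iff_right (by norm_num)).mp hlt
  have hi2 : 2 ≤ i := by
    by_contra h
    push Not at h
    interval_cases i <;> omega
  interval_cases a <;> interval_cases i <;> omega

end Cfsg.Agent.S3738
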