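import Cfsg.Statements.S3739
import Cfsg.Agent.S3738
import Cfsg.Agent.Lib.Cores

set_option autoImplicit false
open Cfsg
open scoped commutatorElement

namespace Cfsg.Agent.S3739

open Cfsg.Agent.Helper24 Cfsg.Agent.S3738

variable {X : Type*} [Group X]

/-- The closure of a set of pairwise commuting elements of order at most `2` is elementary abelian. -/
theorem elemAb_closure {T : Set X} (hTc : ∀ a ∈ T, ∀ b ∈ T, a * b = b * a) (hT2 : ∀ a ∈ T, a * a = 1) :
    (∀ a ∈ Subgroup.closure T, ∀ b ∈ Subgroup.closure T, a * b = b * a) ∧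
      ∀ a ∈ Subgroup.closure T, a * a = 1 := by
  have hEc := Cfsg.Agent.S1949.commute_of_mem_closure hTc
  refine ⟨hEc, ?_⟩
  intro a ha
  induction ha using Subgroup.closure_induction with
  | mem x hx => exact hT2 x hx
  | one => exact one_mul 1
  | mul x y hx hy hx2 hy2 =>
    calc x * y * (x * y) = x * (y * x) * y := by group
      _ = x * (x * y) * y := by rw [hEc y hy x hx]
      _ = (x * x) * (y * y) := by group
      _ = 1 := by rw [hx2, hy2, one_mul]
  | inv x hx hx2 =>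
    calc x⁻¹ * x⁻¹ = (x * x)⁻¹ := by group
      _ = 1 := by rw [hx2, inv_one]

/-- A nontrivial finite `2`-subgroup has a central involution. -/
theorem exists_central_involution [Finite X] (D : Subgroup X) (hD2 : IsPGroup 2 ↥D) (hDne : D ≠ ⊥) :
    ∃ c ∈ D, c ≠ 1 ∧ c * c = 1 ∧ ∀ y ∈ D, c * y = y * c := by
  have _ : Fact (Nat.Prime 2) := ⟨Nat.prime_two⟩
  have : Nontrivial ↥D := (Subgroup.nontrivial_iff_ne_bot D).mpr hDne
  have hcn : Nontrivial ↥(Subgroup.center ↥D) := hD2.center_nontrivial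
  have hc2 : IsPGroup 2 ↥(Subgroup.center ↥D) := hD2.to_subgroup _
  obtain ⟨j, hj⟩ := (IsPGroup.iff_card).mp hc2
  have hj0 : j ≠ 0 := by
    rintro rfl
    have := Finite.one_lt_card (α := ↥(Subgroup.center ↥D))
    omega
  have _ : Fintype ↥(Subgroup.center ↥D) := Fintype.ofFinite _
  have hdvd : 2 ∣ Fintype.card ↥(Subgroup.center ↥D) := by
    rw [← Nat.card_eq_fintype_card, hj]
    exact dvd_pow_self 2 hj0
  obtain ⟨c, hc⟩ := exists_prime_orderOf_dvd_card 2 hdvd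
  refine ⟨((c : ↥D) : X), (c : ↥D).2, ?_, ?_, ?_⟩
  · intro h
    have hc1 : c = 1 := by
      apply Subtype.ext
      apply Subtype.ext
      simpa using h
    rw [hc1, orderOf_one] at hc
    norm_num at hc
  · have h2 : c ^ 2 = 1 := by rw [← hc]; exact pow_orderOf_eq_one c
    have := congrArg (fun t : ↥(Subgroup.center ↥D) => ((t : ↥D) : X)) h2
    simpa [pow_two] using this
  · intro y hy
    have := Subgroup.mem_center_iff.mp c.2 ⟨y, hy⟩
    have := congrArg (Subtype.val) this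
    simpa using this.symm

/-- Fixed-point congruence for a `p`-subgroup acting by conjugation on a stable finite set. -/
theorem card_modEq_card_fixed_conj [Finite X] {p : ℕ} [Fact p.Prime] (A : Subgroup X) (hA : IsPGroup p ↥A)
    (S : Set X) (hS : ∀ a ∈ A, ∀ s ∈ S, a * s * a⁻¹ ∈ S) :
    Nat.card S ≡ Nat.card {x : X // x ∈ S ∧ ∀ a ∈ A, a * x = x * a} [MOD p] := by
  let _ : MulAction A S := conjActionOn A S hS
  have h := hA.card_modEq_card_fixedPoints S
  have e : MulAction.fixedPoints A S ≃ {x : X // x ∈ S ∧ ∀ a ∈ A, a * x = x * a} :=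
    { toFun := fun y => ⟨y.1.1, y.1.2, fun a ha => by
        have h1 := y.2 ⟨a, ha⟩
        have h2 : a * (y.1 : X) * a⁻¹ = y.1 := congrArg Subtype.val h1
        calc a * (y.1 : X) = (a * (y.1 : X) * a⁻¹) * a := by group
          _ = y.1 * a := by rw [h2]⟩
      invFun := fun x => ⟨⟨x.1, x.2.1⟩, fun a => by
        apply Subtype.ext
        show (a : X) * x.1 * (a : X)⁻¹ = x.1
        rw [x.2.2 a a.2, mul_inv_cancel_right]⟩
      left_inv := fun y => rfl
      right_inv := fun x => rfl }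
  rwa [Nat.card_congr e] at h

/-- A `p`-subgroup normalizing a nontrivial `p`-subgroup centralizes a non-identity element of it. -/
theorem exists_fixed_ne_one [Finite X] {p : ℕ} [Fact p.Prime] (A V : Subgroup X) (hA : IsPGroup p ↥A)
    (hV : IsPGroup p ↥V) (hV1 : V ≠ ⊥) (hAV : ∀ a ∈ A, ∀ v ∈ V, a * v * a⁻¹ ∈ V) :
    ∃ v ∈ V, v ≠ 1 ∧ ∀ a ∈ A, a * v = v * a := by
  have hp : p.Prime := Fact.out
  have h := card_modEq_card_fixed_conj A hA (V : Set X) hAV
  have hVcard : p ∣ Nat.card (V : Set X) := by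
    rcases hV.card_eq_or_dvd with h2 | h2
    · exact absurd (Subgroup.card_eq_one.mp h2) hV1
    · exact h2
  have hfix : p ∣ Nat.card {x : X // x ∈ (V : Set X) ∧ ∀ a ∈ A, a * x = x * a} :=
    (Nat.modEq_zero_iff_dvd.mp ((h.symm.trans (Nat.modEq_zero_iff_dvd.mpr hVcard))))
  have hone : (1 : X) ∈ (V : Set X) ∧ ∀ a ∈ A, a * (1 : X) = 1 * a :=
    ⟨V.one_mem, fun a _ => by rw [mul_one, one_mul]⟩
  have hlt : 1 < Nat.card {x : X // x ∈ (V : Set X) ∧ ∀ a ∈ A, a * x = x * a} := by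
    have hpos : 0 < Nat.card {x : X // x ∈ (V : Set X) ∧ ∀ a ∈ A, a * x = x * a} :=
      Nat.card_pos_iff.mpr ⟨⟨⟨1, hone⟩⟩, inferInstance⟩
    have := Nat.le_of_dvd hpos hfix
    have := hp.two_le
    omega
  obtain ⟨x, y, hxy⟩ := Finite.one_lt_card_iff_nontrivial.mp hlt |>.exists_pair_ne
  by_cases hx : x.1 = 1
  · refine ⟨y.1, y.2.1, ?_, y.2.2⟩
    intro hy
    apply hxy
    apply Subtype.ext
    rw [hx, hy]
  · exact ⟨x.1, x.2.1, hx, x.2.2⟩

/-- A nontrivial `d`-invariant subgroup of a group `W` of order `4` on which `d` has no non-identity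
fixed points is `W`. -/
theorem eq_of_invariant_of_fpf [Finite X] (W U : Subgroup X) (d : X) (hW4 : Nat.card W = 4)
    (hfpf : W ⊓ Subgroup.centralizer {d} = ⊥) (hUW : U ≤ W) (hU1 : U ≠ ⊥)
    (hdU : ∀ u ∈ U, d * u * d⁻¹ ∈ U) : U = W := by
  have hdvd : Nat.card U ∣ 4 := hW4 ▸ Subgroup.card_dvd_of_le hUW
  have hle : Nat.card U ≤ 4 := Nat.le_of_dvd (by norm_num) hdvd
  have hpos : 0 < Nat.card U := Nat.card_pos
  have h1 : Nat.card U ≠ 1 := fun h => hU1 (Subgroup.card_eq_one.mp h)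
  interval_cases hc : Nat.card U
  · exact absurd rfl h1
  · exfalso
    obtain ⟨z, hz1, hzu⟩ := (Nat.card_eq_two_iff' (1 : ↥U)).mp hc
    have hdz : (⟨d * z * d⁻¹, hdU z z.2⟩ : ↥U) ≠ 1 := by
      intro h
      apply hz1
      have h' : d * (z : X) * d⁻¹ = 1 := congrArg Subtype.val h
      apply Subtype.ext
      show (z : X) = 1
      calc (z : X) = d⁻¹ * (d * z * d⁻¹) * d := by group
        _ = 1 := by rw [h']; group
    have := hzu _ hdz
    have h' : d * (z : X) * d⁻¹ = z := congrArg Subtype.val this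
    have hzmem : (z : X) ∈ W ⊓ Subgroup.centralizer {d} := by
      refine Subgroup.mem_inf.mpr ⟨hUW z.2, ?_⟩
      rw [Subgroup.mem_centralizer_iff]
      intro h hh
      rw [Set.mem_singleton_iff.mp hh]
      calc d * (z : X) = (d * z * d⁻¹) * d := by group
        _ = z * d := by rw [h']
    rw [hfpf, Subgroup.mem_bot] at hzmem
    exact hz1 (Subtype.ext hzmem)
  · exact absurd hdvd (by norm_num)
  · exact Subgroup.eq_of_le_of_card_ge hUW (by rw [hW4, hc])

/-- An elementary abelian `2`-subgroup of order more than `4` contains one of order `8`. -/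
theorem exists_elemAb_card_eight [Finite X] (E : Subgroup X) (hEc : ∀ a ∈ E, ∀ b ∈ E, a * b = b * a)
    (hE2 : ∀ a ∈ E, a * a = 1) (hcard : 4 < Nat.card E) :
    ∃ E' : Subgroup X, Cfsg.IsElementaryAbelian 2 E' ∧ Nat.card E' = 8 := by
  have _ : Fact (Nat.Prime 2) := ⟨Nat.prime_two⟩
  have hEp : IsPGroup 2 ↥E := by
    intro x
    refine ⟨1, ?_⟩
    apply Subtype.ext
    rw [pow_one, pow_two]
    exact hE2 x x.2
  obtain ⟨j, hj⟩ := (IsPGroup.iff_card).mp hEp
  have hj3 : 3 ≤ j := by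
    by_contra h
    push Not at h
    have : 2 ^ j ≤ 2 ^ 2 := Nat.pow_le_pow_right (by norm_num) (by omega)
    omega
  have hdvd : 2 ^ 3 ∣ Nat.card ↥E := by rw [hj]; exact pow_dvd_pow 2 hj3
  obtain ⟨K, hK⟩ := Sylow.exists_subgroup_card_pow_prime 2 hdvd
  refine ⟨K.map E.subtype, ⟨⟨⟨fun a b => ?_⟩⟩, fun a ha => ?_⟩, ?_⟩
  · apply Subtype.ext
    exact hEc a (Subgroup.map_subtype_le K a.2) b (Subgroup.map_subtype_le K b.2)
  · rw [pow_two]
    exact hE2 a (Subgroup.map_subtype_le K ha)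
  · rw [Nat.card_congr (Subgroup.equivMapOfInjective K E.subtype E.subtype_injective).symm.toEquiv, hK]
    norm_num

/-- Splitting a finite subtype along the four possible values of a function. -/
theorem card_fiber4 {α β : Type*} [Finite α] (P : α → Prop) (f : α → β) (b₀ b₁ b₂ b₃ : β)
    (h01 : b₀ ≠ b₁) (h02 : b₀ ≠ b₂) (h03 : b₀ ≠ b₃) (h12 : b₁ ≠ b₂) (h13 : b₁ ≠ b₃) (h23 : b₂ ≠ b₃)
    (hf : ∀ x, P x → f x = b₀ ∨ f x = b₁ ∨ f x = b₂ ∨ f x = b₃) :
    Nat.card {x // P x} = Nat.card {x // P x ∧ f x = b₀} + Nat.card {x // P x ∧ f x = b₁} +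
      Nat.card {x // P x ∧ f x = b₂} + Nat.card {x // P x ∧ f x = b₃} := by
  classical
  have _ : Fintype α := Fintype.ofFinite α
  simp only [Nat.card_eq_fintype_card, Fintype.card_subtype]
  have h := Finset.card_eq_sum_card_fiberwise (f := f) (s := Finset.univ.filter P)
    (t := {b₀, b₁, b₂, b₃}) (by
      intro x hx
      have hx' : P x := by simpa using hx
      rcases hf x hx' with h | h | h | h <;> simp [h])
  rw [h, Finset.sum_insert (by simp [h01, h02, h03]), Finset.sum_insert (by simp [h12, h13]),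
    Finset.sum_insert (by simp [h23]), Finset.sum_singleton]
  simp only [Finset.filter_filter]
  ring

/-- If elementary abelian `2`-subgroups have order at most `4` and `W` is one of order `4`, then any set of
pairwise commuting involutions centralizing `W` lies in `W`. -/
theorem subset_of_elemAb_max [Finite X]
    (hE : ∀ E : Subgroup X, (∀ a ∈ E, ∀ b ∈ E, a * b = b * a) → (∀ a ∈ E, a * a = 1) → Nat.card E ≤ 4)
    (W : Subgroup X) (hW4 : Nat.card W = 4) (hWc : ∀ a ∈ W, ∀ b ∈ W, a * b = b * a)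
    (hW2 : ∀ a ∈ W, a * a = 1) (T : Set X) (hTc : ∀ a ∈ T, ∀ b ∈ T, a * b = b * a)
    (hT2 : ∀ a ∈ T, a * a = 1) (hTW : ∀ a ∈ T, ∀ w ∈ W, a * w = w * a) : T ⊆ (W : Set X) := by
  set U : Set X := (W : Set X) ∪ T with hU
  have hUc : ∀ a ∈ U, ∀ b ∈ U, a * b = b * a := by
    intro a ha b hb
    rcases ha with ha | ha <;> rcases hb with hb | hb
    · exact hWc a ha b hb
    · exact (hTW b hb a ha).symm
    · exact hTW a ha b hb
    · exact hTc a ha b hb
  have hU2 : ∀ a ∈ U, a * a = 1 := by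
    intro a ha
    rcases ha with ha | ha
    · exact hW2 a ha
    · exact hT2 a ha
  obtain ⟨hc, h2⟩ := elemAb_closure hUc hU2
  have hle := hE _ hc h2
  have hWE : W ≤ Subgroup.closure U := fun x hx => Subgroup.subset_closure (Or.inl hx)
  have hEq : W = Subgroup.closure U := Subgroup.eq_of_le_of_card_ge hWE (by rw [hW4]; exact hle)
  intro t ht
  show t ∈ W
  rw [hEq]
  exact Subgroup.subset_closure (Or.inr ht)

/-- Enumeration of a four-group with a fixed-point-free automorphism. -/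
theorem enum_four [Finite X] (W : Subgroup X) (d : X) (hW4 : Nat.card W = 4)
    (hWc : ∀ a ∈ W, ∀ b ∈ W, a * b = b * a) (hW2 : ∀ z ∈ W, z * z = 1)
    (hdW : ∀ z ∈ W, d * z * d⁻¹ ∈ W) (hfpf : W ⊓ Subgroup.centralizer {d} = ⊥) :
    ∃ w₁ ∈ W, (1 : X) ≠ w₁ ∧ 1 ≠ d * w₁ * d⁻¹ ∧ 1 ≠ d * (d * w₁ * d⁻¹) * d⁻¹ ∧
      w₁ ≠ d * w₁ * d⁻¹ ∧ w₁ ≠ d * (d * w₁ * d⁻¹) * d⁻¹ ∧
      d * w₁ * d⁻¹ ≠ d * (d * w₁ * d⁻¹) * d⁻¹ ∧
      ∀ z ∈ W, z = 1 ∨ z = w₁ ∨ z = d * w₁ * d⁻¹ ∨ z = d * (d * w₁ * d⁻¹) * d⁻¹ := by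
  classical
  have hWne : W ≠ ⊥ := by
    intro h
    rw [h, Subgroup.card_bot] at hW4
    omega
  obtain ⟨⟨w₁, hw₁W⟩, hw₁⟩ := (Subgroup.ne_bot_iff_exists_ne_one).mp hWne
  have hw₁1 : w₁ ≠ 1 := fun h => hw₁ (Subtype.ext h)
  have hnofix : ∀ z ∈ W, d * z * d⁻¹ = z → z = 1 := by
    intro z hz h
    have hzmem : z ∈ W ⊓ Subgroup.centralizer {d} := by
      refine Subgroup.mem_inf.mpr ⟨hz, ?_⟩
      rw [Subgroup.mem_centralizer_iff]
      intro y hy
      rw [Set.mem_singleton_iff.mp hy]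
      calc d * z = (d * z * d⁻¹) * d := by group
        _ = z * d := by rw [h]
    rw [hfpf, Subgroup.mem_bot] at hzmem
    exact hzmem
  have hconj1 : ∀ z : X, d * z * d⁻¹ = 1 → z = 1 := by
    intro z h
    calc z = d⁻¹ * (d * z * d⁻¹) * d := by group
      _ = 1 := by rw [h]; group
  set w₂ := d * w₁ * d⁻¹ with hw₂
  set w₃ := d * w₂ * d⁻¹ with hw₃
  have hw₂W : w₂ ∈ W := hdW w₁ hw₁W
  have hw₃W : w₃ ∈ W := hdW w₂ hw₂W
  have hw₂1 : w₂ ≠ 1 := fun h => hw₁1 (hconj1 w₁ h)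
  have hw₃1 : w₃ ≠ 1 := fun h => hw₂1 (hconj1 w₂ h)
  have h12 : w₁ ≠ w₂ := fun h => hw₁1 (hnofix w₁ hw₁W h.symm)
  have h23 : w₂ ≠ w₃ := fun h => hw₂1 (hnofix w₂ hw₂W h.symm)
  have h13 : w₁ ≠ w₃ := by
    intro h
    have hz : d * (w₁ * w₂) * d⁻¹ = w₁ * w₂ := by
      calc d * (w₁ * w₂) * d⁻¹ = (d * w₁ * d⁻¹) * (d * w₂ * d⁻¹) := by group
        _ = w₂ * w₁ := by rw [← hw₂, ← hw₃, ← h]
        _ = w₁ * w₂ := hWc w₂ hw₂W w₁ hw₁W
    have h1 := hnofix _ (W.mul_mem hw₁W hw₂W) hz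
    have h2 : w₁ * w₂ = w₁ * w₁ := by rw [h1, hW2 w₁ hw₁W]
    exact h12 (mul_left_cancel h2).symm
  refine ⟨w₁, hw₁W, hw₁1.symm, hw₂1.symm, hw₃1.symm, h12, h13, h23, ?_⟩
  intro z hz
  by_contra hcon
  push Not at hcon
  obtain ⟨hz0, hz1, hz2', hz3'⟩ := hcon
  have hz2 : z ≠ w₂ := hz2'
  have hz3 : z ≠ w₃ := hz3'
  have hsub : (({z, 1, w₁, w₂, w₃} : Finset X) : Set X) ⊆ (W : Set X) := by
    intro y hy
    simp only [Finset.coe_insert, Finset.coe_singleton, Set.mem_insert_iff,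
      Set.mem_singleton_iff] at hy
    rcases hy with rfl | rfl | rfl | rfl | rfl
    · exact hz
    · exact W.one_mem
    · exact hw₁W
    · exact hw₂W
    · exact hw₃W
  have hcard5 : ({z, 1, w₁, w₂, w₃} : Finset X).card = 5 := by
    rw [Finset.card_insert_of_notMem (by simp [hz0, hz1, hz2, hz3]),
      Finset.card_insert_of_notMem (by simp [hw₁1.symm, hw₂1.symm, hw₃1.symm]),
      Finset.card_insert_of_notMem (by simp [h12, h13]),
      Finset.card_insert_of_notMem (by simp [h23]), Finset.card_singleton]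
  have hle := Set.ncard_le_ncard hsub (Set.toFinite _)
  rw [Set.ncard_coe_finset, hcard5] at hle
  have h4 : Nat.card ↥W = (W : Set X).ncard := Nat.card_coe_set_eq _
  omega

/-- Conjugation by a normalizing element preserves the number of solutions of `x * x = w`. -/
theorem card_sq_fiber_conj (D : Subgroup X) (d : X) (hdD : d ∈ Subgroup.normalizer (D : Set X)) (w : X) :
    Nat.card {x : X // x ∈ D ∧ x * x = w} = Nat.card {x : X // x ∈ D ∧ x * x = d * w * d⁻¹} := by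
  have h1 : ∀ x ∈ D, d * x * d⁻¹ ∈ D := fun x hx => (Subgroup.mem_normalizer_iff.mp hdD x).mp hx
  have h2 : ∀ x ∈ D, d⁻¹ * x * d ∈ D := fun x hx =>
    (Subgroup.mem_normalizer_iff.mp hdD _).mpr (by
      have : d * (d⁻¹ * x * d) * d⁻¹ = x := by group
      rw [this]; exact hx)
  refine Nat.card_congr
    { toFun := fun x => ⟨d * x.1 * d⁻¹, h1 _ x.2.1, ?_⟩
      invFun := fun y => ⟨d⁻¹ * y.1 * d, h2 _ y.2.1, ?_⟩
      left_inv := fun x => Subtype.ext ?_
      right_inv := fun y => Subtype.ext ?_ }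
  · calc d * x.1 * d⁻¹ * (d * x.1 * d⁻¹) = d * (x.1 * x.1) * d⁻¹ := by group
      _ = d * w * d⁻¹ := by rw [x.2.2]
  · calc d⁻¹ * y.1 * d * (d⁻¹ * y.1 * d) = d⁻¹ * (y.1 * y.1) * d := by group
      _ = w := by rw [y.2.2]; group
  · show d⁻¹ * (d * x.1 * d⁻¹) * d = x.1
    group
  · show d * (d⁻¹ * y.1 * d) * d⁻¹ = y.1
    group

/-- The arithmetic at the end of the counting argument. -/
theorem arith_count (a c M m₁ m₂ m₃ k₁ k₂ k₃ : ℕ) (ha : 4 + M + M + M = 2 ^ a)
    (hc : 4 + m₁ + m₂ + m₃ = 2 ^ c) (ha6 : a ≤ 6) (hc6 : c ≤ 6)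
    (h1 : M % 3 = m₁ % 3) (h2 : M % 3 = m₂ % 3) (h3 : M % 3 = m₃ % 3)
    (hk₁ : m₁ = 4 * k₁) (hk₂ : m₂ = 4 * k₂) (hk₃ : m₃ = 4 * k₃)
    (hle1 : m₁ ≤ M) (hle2 : m₂ ≤ M) (hle3 : m₃ ≤ M) : 2 ^ c = 2 ^ a := by
  rw [← hc, ← ha]
  interval_cases a
  · omega
  · omega
  · omega
  · omega
  · have hM : M = 4 := by omega
    subst hM
    have e1 : m₁ = 4 := by omega
    have e2 : m₂ = 4 := by omega
    have e3 : m₃ = 4 := by omega
    omega
  · omega
  · have hM : M = 20 := by omega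
    subst hM
    have e1 : m₁ = 8 ∨ m₁ = 20 := by omega
    have e2 : m₂ = 8 ∨ m₂ = 20 := by omega
    have e3 : m₃ = 8 ∨ m₃ = 20 := by omega
    rcases e1 with rfl | rfl <;> rcases e2 with rfl | rfl <;> rcases e3 with rfl | rfl <;>
      interval_cases c <;> omega

/-- The counting lemma: an element `s` of order dividing `3` normalizing `D` and centralizing the
central four-group `W = Ω₁(D)` centralizes `D`, if a `3`-element `d` acts on `D` without fixed
points on `W`, and `|D| ≤ 64`. -/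
theorem centralizes_of_counting [Finite X] (D W : Subgroup X) (d s : X)
    (hWD : W ≤ D) (hW4 : Nat.card W = 4) (hWc : ∀ z ∈ W, ∀ x ∈ D, z * x = x * z)
    (hW2 : ∀ z ∈ W, z * z = 1) (hsq : ∀ x ∈ D, x * x ∈ W) (hinv : ∀ x ∈ D, x * x = 1 → x ∈ W)
    (hD2 : IsPGroup 2 ↥D) (hD64 : Nat.card D ≤ 64)
    (hdD : d ∈ Subgroup.normalizer (D : Set X)) (hdW : ∀ z ∈ W, d * z * d⁻¹ ∈ W)
    (hfpf : W ⊓ Subgroup.centralizer {d} = ⊥)
    (hs3 : s ^ 3 = 1) (hsD : s ∈ Subgroup.normalizer (D : Set X)) (hsW : ∀ z ∈ W, s * z = z * s) :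
    ∀ x ∈ D, s * x = x * s := by
  classical
  have _ : Fact (Nat.Prime 3) := ⟨Nat.prime_three⟩
  obtain ⟨w₁, hw₁W, h01, h02, h03, h12, h13, h23, henum⟩ :=
    enum_four W d hW4 (fun a ha b hb => hWc a ha b (hWD hb)) hW2 hdW hfpf
  set w₂ := d * w₁ * d⁻¹ with hw₂
  set w₃ := d * w₂ * d⁻¹ with hw₃
  have hw₂W : w₂ ∈ W := hdW w₁ hw₁W
  have hw₃W : w₃ ∈ W := hdW w₂ hw₂W
  -- the numbers `n w`
  have hn12 := card_sq_fiber_conj D d hdD w₁
  have hn23 := card_sq_fiber_conj D d hdD w₂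
  rw [← hw₂] at hn12
  rw [← hw₃] at hn23
  have hpartD := card_fiber4 (fun x : X => x ∈ D) (fun x => x * x) 1 w₁ w₂ w₃ h01 h02 h03 h12 h13 h23
    (fun x hx => henum _ (hsq x hx))
  have hn1 : Nat.card {x : X // x ∈ D ∧ x * x = 1} = 4 := by
    rw [← hW4]
    exact Nat.card_congr (Equiv.subtypeEquivRight (fun x =>
      ⟨fun h => hinv x h.1 h.2, fun h => ⟨hWD h, hW2 x h⟩⟩))
  -- the `s`-fixed parts
  have hpartC := card_fiber4 (fun x : X => x ∈ D ∧ s * x = x * s) (fun x => x * x) 1 w₁ w₂ w₃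
    h01 h02 h03 h12 h13 h23 (fun x hx => henum _ (hsq x hx.1))
  have hm1 : Nat.card {x : X // (x ∈ D ∧ s * x = x * s) ∧ x * x = 1} = 4 := by
    rw [← hW4]
    exact Nat.card_congr (Equiv.subtypeEquivRight (fun x =>
      ⟨fun h => hinv x h.1.1 h.2, fun h => ⟨⟨hWD h, hsW x h⟩, hW2 x h⟩⟩))
  -- powers of `s` normalize `D` and centralize `W`
  have hzs : ∀ a ∈ Subgroup.zpowers s, (∀ x ∈ D, a * x * a⁻¹ ∈ D) ∧ ∀ z ∈ W, a * z = z * a := by
    have hle : Subgroup.zpowers s ≤ Subgroup.normalizer (D : Set X) ⊓ Subgroup.centralizer (W : Set X) := by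
      rw [Subgroup.zpowers_le]
      refine Subgroup.mem_inf.mpr ⟨hsD, ?_⟩
      rw [Subgroup.mem_centralizer_iff]
      intro z hz
      exact (hsW z hz).symm
    intro a ha
    have ha' := Subgroup.mem_inf.mp (hle ha)
    refine ⟨fun x hx => (Subgroup.mem_normalizer_iff.mp ha'.1 x).mp hx, fun z hz => ?_⟩
    exact (Subgroup.mem_centralizer_iff.mp ha'.2 z hz).symm
  have hs3g : IsPGroup 3 ↥(Subgroup.zpowers s) := by
    rintro ⟨a, ha⟩
    refine ⟨1, ?_⟩
    obtain ⟨k, rfl⟩ := Subgroup.mem_zpowers_iff.mp ha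
    apply Subtype.ext
    show (s ^ k) ^ 3 ^ 1 = 1
    rw [pow_one, ← zpow_natCast, ← zpow_mul, mul_comm, zpow_mul, zpow_natCast, hs3, one_zpow]
  have hmod : ∀ w ∈ W, Nat.card {x : X // x ∈ D ∧ x * x = w} ≡
      Nat.card {x : X // (x ∈ D ∧ s * x = x * s) ∧ x * x = w} [MOD 3] := by
    intro w hw
    have h := card_modEq_card_fixed_conj (Subgroup.zpowers s) hs3g {x : X | x ∈ D ∧ x * x = w} (by
      intro a ha x hx
      obtain ⟨ha1, ha2⟩ := hzs a ha
      refine ⟨ha1 x hx.1, ?_⟩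
      calc a * x * a⁻¹ * (a * x * a⁻¹) = a * (x * x) * a⁻¹ := by group
        _ = a * w * a⁻¹ := by rw [hx.2]
        _ = w := by rw [ha2 w hw]; group)
    have e : {x : X // x ∈ {x : X | x ∈ D ∧ x * x = w} ∧ ∀ a ∈ Subgroup.zpowers s, a * x = x * a} ≃
        {x : X // (x ∈ D ∧ s * x = x * s) ∧ x * x = w} :=
      Equiv.subtypeEquivRight (fun x => by
        constructor
        · rintro ⟨⟨h1, h2⟩, h3⟩
          exact ⟨⟨h1, h3 s (Subgroup.mem_zpowers s)⟩, h2⟩
        · rintro ⟨⟨h1, h3⟩, h2⟩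
          refine ⟨⟨h1, h2⟩, fun a ha => ?_⟩
          have hle : Subgroup.zpowers s ≤ Subgroup.centralizer {x} := by
            rw [Subgroup.zpowers_le, Subgroup.mem_centralizer_iff]
            intro y hy
            rw [Set.mem_singleton_iff.mp hy]
            exact h3.symm
          exact (Subgroup.mem_centralizer_iff.mp (hle ha) x rfl).symm)
    rw [Nat.card_congr e] at h
    exact h
  have hfree : ∀ w : X, 4 ∣ Nat.card {x : X // (x ∈ D ∧ s * x = x * s) ∧ x * x = w} := by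
    intro w
    let _ : MulAction ↥W {x : X // (x ∈ D ∧ s * x = x * s) ∧ x * x = w} :=
      { smul := fun z x => ⟨z.1 * x.1, ⟨D.mul_mem (hWD z.2) x.2.1.1, by
            calc s * (z.1 * x.1) = (s * z.1) * x.1 := by group
              _ = z.1 * (s * x.1) := by rw [hsW z.1 z.2]; group
              _ = z.1 * x.1 * s := by rw [x.2.1.2]; group⟩, by
            calc z.1 * x.1 * (z.1 * x.1) = z.1 * (x.1 * z.1) * x.1 := by group
              _ = z.1 * (z.1 * x.1) * x.1 := by rw [hWc z.1 z.2 x.1 x.2.1.1]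
              _ = (z.1 * z.1) * (x.1 * x.1) := by group
              _ = w := by rw [hW2 z.1 z.2, x.2.2, one_mul]⟩
        one_smul := fun x => Subtype.ext (one_mul x.1)
        mul_smul := fun a b x => Subtype.ext (mul_assoc a.1 b.1 x.1) }
    have h := free_action_dvd (G := ↥W) (S := {x : X // (x ∈ D ∧ s * x = x * s) ∧ x * x = w}) (by
      intro a ha x hx
      apply ha
      have h1 : a.1 * x.1 = x.1 := congrArg Subtype.val hx
      apply Subtype.ext
      show a.1 = 1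
      exact mul_eq_right.mp h1 |> fun h => h)
    rwa [hW4] at h
  have hle : ∀ w : X, Nat.card {x : X // (x ∈ D ∧ s * x = x * s) ∧ x * x = w} ≤
      Nat.card {x : X // x ∈ D ∧ x * x = w} := by
    intro w
    exact Nat.card_le_card_of_injective
      (fun x => (⟨x.1, x.2.1.1, x.2.2⟩ : {x : X // x ∈ D ∧ x * x = w}))
      (fun a b h => Subtype.ext (by have h' := congrArg Subtype.val h; exact h'))
  -- group orders
  set C : Subgroup X := D ⊓ Subgroup.centralizer {s} with hC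
  have hCcard : Nat.card ↥C = Nat.card {x : X // x ∈ D ∧ s * x = x * s} := by
    refine Nat.card_congr (Equiv.subtypeEquivRight (fun x => ?_))
    rw [hC, Subgroup.mem_inf, Subgroup.mem_centralizer_iff]
    constructor
    · rintro ⟨h1, h2⟩
      exact ⟨h1, h2 s rfl⟩
    · rintro ⟨h1, h2⟩
      refine ⟨h1, fun y hy => ?_⟩
      rw [Set.mem_singleton_iff.mp hy]
      exact h2
  have hDcard : Nat.card ↥D = Nat.card {x : X // x ∈ D} := rfl
  obtain ⟨a, ha⟩ := (IsPGroup.iff_card).mp hD2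
  obtain ⟨c, hc⟩ := (IsPGroup.iff_card).mp (hD2.to_le inf_le_left : IsPGroup 2 ↥C)
  have hCD : Nat.card ↥C ≤ Nat.card ↥D := Nat.le_of_dvd Nat.card_pos (Subgroup.card_dvd_of_le inf_le_left)
  have ha6 : a ≤ 6 := by
    by_contra h
    push Not at h
    have : 2 ^ 7 ≤ 2 ^ a := Nat.pow_le_pow_right (by norm_num) h
    omega
  have hc6 : c ≤ 6 := by
    by_contra h
    push Not at h
    have : 2 ^ 7 ≤ 2 ^ c := Nat.pow_le_pow_right (by norm_num) h
    omega
  have hmod1 : _ % 3 = _ % 3 := hmod w₁ hw₁W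
  have hmod2 : _ % 3 = _ % 3 := hmod w₂ hw₂W
  have hmod3 : _ % 3 = _ % 3 := hmod w₃ hw₃W
  obtain ⟨k₁, hk₁⟩ := hfree w₁
  obtain ⟨k₂, hk₂⟩ := hfree w₂
  obtain ⟨k₃, hk₃⟩ := hfree w₃
  have hle1 := hle w₁
  have hle2 := hle w₂
  have hle3 := hle w₃
  rw [← hn23, ← hn12] at hmod3 hle3
  rw [← hn12] at hmod2 hle2
  have hEq : Nat.card ↥C = Nat.card ↥D := by
    rw [hc, ha]
    rw [hCcard, hpartC, hm1] at hc
    rw [hDcard, hpartD, hn1, ← hn23, ← hn12] at ha
    exact arith_count a c _ _ _ _ k₁ k₂ k₃ ha hc ha6 hc6 hmod1 hmod2 hmod3 hk₁ hk₂ hk₃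
      hle1 hle2 hle3
  have hCeq : C = D := Subgroup.eq_of_le_of_card_ge inf_le_left (le_of_eq hEq.symm)
  intro x hx
  have hxC : x ∈ C := by rw [hCeq]; exact hx
  exact Subgroup.mem_centralizer_iff.mp (Subgroup.mem_inf.mp hxC).2 s rfl

/-- The powers of an element of order dividing the prime `p` form a `p`-group. -/
theorem isPGroup_zpowers_of_pow_eq_one {p : ℕ} (s : X) (hs : s ^ p = 1) :
    IsPGroup p ↥(Subgroup.zpowers s) := by
  rintro ⟨a, ha⟩
  refine ⟨1, ?_⟩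
  obtain ⟨k, rfl⟩ := Subgroup.mem_zpowers_iff.mp ha
  apply Subtype.ext
  show (s ^ k) ^ p ^ 1 = 1
  rw [pow_one, ← zpow_natCast, ← zpow_mul, mul_comm, zpow_mul, zpow_natCast, hs, one_zpow]

/-- A subgroup of order `2` has no fixed-point-free normalizing element. -/
theorem card_ne_two_of_fpf [Finite X] (W : Subgroup X) (d : X)
    (hfpf : W ⊓ Subgroup.centralizer {d} = ⊥) (hdW : ∀ u ∈ W, d * u * d⁻¹ ∈ W) : Nat.card W ≠ 2 := by
  intro hc
  obtain ⟨z, hz1, hzu⟩ := (Nat.card_eq_two_iff' (1 : ↥W)).mp hc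
  have hdz : (⟨d * z * d⁻¹, hdW z z.2⟩ : ↥W) ≠ 1 := by
    intro h
    apply hz1
    have h' : d * (z : X) * d⁻¹ = 1 := congrArg Subtype.val h
    apply Subtype.ext
    show (z : X) = 1
    calc (z : X) = d⁻¹ * (d * z * d⁻¹) * d := by group
      _ = 1 := by rw [h']; group
  have := hzu _ hdz
  have h' : d * (z : X) * d⁻¹ = z := congrArg Subtype.val this
  have hzmem : (z : X) ∈ W ⊓ Subgroup.centralizer {d} := by
    refine Subgroup.mem_inf.mpr ⟨z.2, ?_⟩
    rw [Subgroup.mem_centralizer_iff]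
    intro h hh
    rw [Set.mem_singleton_iff.mp hh]
    calc d * (z : X) = (d * z * d⁻¹) * d := by group
      _ = z * d := by rw [h']
  rw [hfpf, Subgroup.mem_bot] at hzmem
  exact hz1 (Subtype.ext hzmem)

/-- If `g` has order `6` and normalizes a self-centralizing (among involutions) four-group `W`,
then `g ^ 2` centralizes `W`. -/
theorem sq_centralizes_four [Finite X] (W : Subgroup X) (hW4 : Nat.card W = 4)
    (hmax : ∀ t : X, t * t = 1 → (∀ w ∈ W, t * w = w * t) → t ∈ W)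
    (g : X) (hg : orderOf g = 6) (hgW : g ∈ Subgroup.normalizer (W : Set X)) :
    ∀ z ∈ W, g ^ 2 * z = z * g ^ 2 := by
  classical
  have _ : Fact (Nat.Prime 2) := ⟨Nat.prime_two⟩
  have _ : Fact (Nat.Prime 3) := ⟨Nat.prime_three⟩
  set s := g ^ 2 with hs
  set t := g ^ 3 with ht
  have hg6 : g ^ 6 = 1 := by rw [← hg]; exact pow_orderOf_eq_one g
  have hs3 : s ^ 3 = 1 := by rw [hs, ← pow_mul]; exact hg6
  have ht2 : t * t = 1 := by rw [ht, ← pow_add]; exact hg6
  have ht1 : t ≠ 1 := pow_ne_one_of_lt_orderOf (by norm_num) (by rw [hg]; norm_num)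
  have hst : s * t = t * s := (Commute.pow_pow (Commute.refl g) 2 3).eq
  have hsN : s ∈ Subgroup.normalizer (W : Set X) := Subgroup.pow_mem _ hgW 2
  have htN : t ∈ Subgroup.normalizer (W : Set X) := Subgroup.pow_mem _ hgW 3
  have hconj : ∀ a ∈ Subgroup.normalizer (W : Set X), ∀ x ∈ W, a * x * a⁻¹ ∈ W :=
    fun a ha x hx => (Subgroup.mem_normalizer_iff.mp ha x).mp hx
  by_contra hnot
  -- `s` has no fixed points on `W`
  have hC : W ⊓ Subgroup.centralizer {s} = ⊥ := by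
    have h := card_modEq_card_fixed_conj (Subgroup.zpowers s) (isPGroup_zpowers_of_pow_eq_one s hs3)
      (W : Set X) (fun a ha x hx => hconj a ((Subgroup.zpowers_le.mpr hsN) ha) x hx)
    have e : {x : X // x ∈ (W : Set X) ∧ ∀ a ∈ Subgroup.zpowers s, a * x = x * a} ≃
        ↥(W ⊓ Subgroup.centralizer {s}) :=
      Equiv.subtypeEquivRight (fun x => by
        rw [Subgroup.mem_inf, Subgroup.mem_centralizer_iff]
        constructor
        · rintro ⟨h1, h2⟩
          refine ⟨h1, fun y hy => ?_⟩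
          rw [Set.mem_singleton_iff.mp hy]
          exact h2 s (Subgroup.mem_zpowers s)
        · rintro ⟨h1, h2⟩
          refine ⟨h1, fun a ha => ?_⟩
          have hle : Subgroup.zpowers s ≤ Subgroup.centralizer {x} := by
            rw [Subgroup.zpowers_le, Subgroup.mem_centralizer_iff]
            intro y hy
            rw [Set.mem_singleton_iff.mp hy]
            exact (h2 s rfl).symm
          exact (Subgroup.mem_centralizer_iff.mp (hle ha) x rfl).symm)
    rw [Nat.card_congr e] at h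
    have h1 : Nat.card (W : Set X) = 4 := hW4
    rw [h1] at h
    have hdvd : Nat.card ↥(W ⊓ Subgroup.centralizer {s}) ∣ 4 :=
      hW4 ▸ Subgroup.card_dvd_of_le inf_le_left
    have hle : Nat.card ↥(W ⊓ Subgroup.centralizer {s}) ≤ 4 := Nat.le_of_dvd (by norm_num) hdvd
    have hpos : 0 < Nat.card ↥(W ⊓ Subgroup.centralizer {s}) := Nat.card_pos
    have hmod : 4 % 3 = Nat.card ↥(W ⊓ Subgroup.centralizer {s}) % 3 := h
    interval_cases hc : Nat.card ↥(W ⊓ Subgroup.centralizer {s})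
    · exact Subgroup.card_eq_one.mp hc
    · omega
    · omega
    · exfalso
      have hEq : W ⊓ Subgroup.centralizer {s} = W :=
        Subgroup.eq_of_le_of_card_ge inf_le_left (by rw [hW4, hc])
      apply hnot
      intro z hz
      have hz' : z ∈ W ⊓ Subgroup.centralizer {s} := by rw [hEq]; exact hz
      exact Subgroup.mem_centralizer_iff.mp (Subgroup.mem_inf.mp hz').2 s rfl
  -- `t` fixes a non-identity element of `W`
  have hW2g : IsPGroup 2 ↥W := IsPGroup.of_card (n := 2) (by rw [hW4]; norm_num)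
  have hWne : W ≠ ⊥ := by
    intro h
    rw [h, Subgroup.card_bot] at hW4
    omega
  obtain ⟨v, hvW, hv1, hvt⟩ := exists_fixed_ne_one (Subgroup.zpowers t) W
    (isPGroup_zpowers_of_pow_eq_one t (by rw [pow_two]; exact ht2)) hW2g hWne
    (fun a ha x hx => hconj a ((Subgroup.zpowers_le.mpr htN) ha) x hx)
  set U : Subgroup X := W ⊓ Subgroup.centralizer {t} with hU
  have hvU : v ∈ U := by
    refine Subgroup.mem_inf.mpr ⟨hvW, ?_⟩
    rw [Subgroup.mem_centralizer_iff]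
    intro y hy
    rw [Set.mem_singleton_iff.mp hy]
    exact hvt t (Subgroup.mem_zpowers t)
  have hU1 : U ≠ ⊥ := by
    intro h
    rw [h, Subgroup.mem_bot] at hvU
    exact hv1 hvU
  have hsU : ∀ u ∈ U, s * u * s⁻¹ ∈ U := by
    intro u hu
    obtain ⟨hu1, hu2⟩ := Subgroup.mem_inf.mp hu
    refine Subgroup.mem_inf.mpr ⟨hconj s hsN u hu1, ?_⟩
    rw [Subgroup.mem_centralizer_iff] at hu2 ⊢
    intro y hy
    rw [Set.mem_singleton_iff.mp hy]
    have h1 : t * u = u * t := hu2 t rfl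
    have h2 : t * s⁻¹ = s⁻¹ * t := inv_comm_of_comm t s hst.symm
    calc t * (s * u * s⁻¹) = (t * s) * u * s⁻¹ := by group
      _ = s * (t * u) * s⁻¹ := by rw [← hst]; group
      _ = s * u * (t * s⁻¹) := by rw [h1]; group
      _ = s * u * s⁻¹ * t := by rw [h2]; group
  have hUW : U = W := eq_of_invariant_of_fpf W U s hW4 hC inf_le_left hU1 hsU
  have htW : t ∈ W := by
    apply hmax t ht2
    intro w hw
    have hw' : w ∈ U := by rw [hUW]; exact hw
    exact Subgroup.mem_centralizer_iff.mp (Subgroup.mem_inf.mp hw').2 t rfl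
  have : t ∈ W ⊓ Subgroup.centralizer {s} := by
    refine Subgroup.mem_inf.mpr ⟨htW, ?_⟩
    rw [Subgroup.mem_centralizer_iff]
    intro y hy
    rw [Set.mem_singleton_iff.mp hy]
    exact hst
  rw [hC, Subgroup.mem_bot] at this
  exact ht1 this

end Cfsg.Agent.S3739

namespace Cfsg.Agent.S3739

open Cfsg.Agent.Helper24 Cfsg.Agent.S3738 in
/-- Let G be a finite group with C_G(O₂(G)) ≤ O₂(G) containing an element of order 6, and let d be a non-identity 3-element of G normalizing a nontrivial elementary abelian 2-subgroup W with C_W(d) = 1. Then G has an elementary abelian subgroup of order 8. -/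
theorem result {G : Type*} [Group G] [Finite G] (hchar : Subgroup.centralizer (Cfsg.pCore 2 G : Set G) ≤ Cfsg.pCore 2 G) (hsix : ∃ g : G, orderOf g = 6) (d : G) (hd1 : d ≠ 1) (hd : IsPGroup 3 ↥(Subgroup.zpowers d)) (W : Subgroup G) (hW : Cfsg.IsElementaryAbelian 2 W) (hW1 : W ≠ ⊥) (hdW : d ∈ Subgroup.normalizer (W : Set G)) (hfpf : W ⊓ Subgroup.centralizer {d} = ⊥) : ∃ E : Subgroup G, Cfsg.IsElementaryAbelian 2 E ∧ Nat.card E = 8 := by
  classical
  by_contra hno
  have _ : Fact (Nat.Prime 2) := ⟨Nat.prime_two⟩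
  -- all elementary abelian `2`-subgroups have order at most `4`
  have hE : ∀ E : Subgroup G, (∀ a ∈ E, ∀ b ∈ E, a * b = b * a) → (∀ a ∈ E, a * a = 1) →
      Nat.card E ≤ 4 := by
    intro E hEc hE2
    by_contra h
    push Not at h
    exact hno (exists_elemAb_card_eight E hEc hE2 h)
  obtain ⟨hWcomm, hWexp⟩ := hW
  have hWc : ∀ a ∈ W, ∀ b ∈ W, a * b = b * a := by
    intro a ha b hb
    have := hWcomm.is_comm.comm (⟨a, ha⟩ : ↥W) ⟨b, hb⟩
    exact congrArg Subtype.val this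
  have hW2 : ∀ a ∈ W, a * a = 1 := fun a ha => by rw [← pow_two]; exact hWexp a ha
  have hdWc : ∀ u ∈ W, d * u * d⁻¹ ∈ W := fun u hu => (Subgroup.mem_normalizer_iff.mp hdW u).mp hu
  have hW2g : IsPGroup 2 ↥W := by
    intro x
    refine ⟨1, ?_⟩
    apply Subtype.ext
    rw [pow_one]
    exact hWexp x x.2
  have hW4 : Nat.card W = 4 := by
    obtain ⟨j, hj⟩ := (IsPGroup.iff_card).mp hW2g
    have hle := hE W hWc hW2
    have hj2 : j ≤ 2 := by
      by_contra h
      push Not at h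
      have : 2 ^ 3 ≤ 2 ^ j := Nat.pow_le_pow_right (by norm_num) h
      omega
    interval_cases j
    · exfalso
      exact hW1 (Subgroup.card_eq_one.mp (by simpa using hj))
    · exfalso
      exact card_ne_two_of_fpf W d hfpf hdWc (by simpa using hj)
    · simpa using hj
  -- `Q = O₂(G)`
  obtain ⟨g, hg⟩ := hsix
  set Q : Subgroup G := Cfsg.pCore 2 G with hQ
  have hQchar : Q.Characteristic := Cfsg.Agent.Lib.pCore_characteristic 2
  have hQn : Q.Normal := inferInstance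
  have hQ2 : IsPGroup 2 ↥Q := Cfsg.Agent.Lib.isPGroup_pCore 2
  have hQconj : ∀ a : G, ∀ x ∈ Q, a * x * a⁻¹ ∈ Q := fun a x hx => hQn.conj_mem x hx a
  have hNQ : ∀ a : G, a ∈ Subgroup.normalizer (Q : Set G) := fun a =>
    Subgroup.mem_normalizer_fintype (hQconj a)
  have hg1 : g ≠ 1 := by
    intro h
    rw [h, orderOf_one] at hg
    omega
  have hQne : Q ≠ ⊥ := by
    intro h
    have hgc : g ∈ Subgroup.centralizer (Q : Set G) := by
      rw [Subgroup.mem_centralizer_iff]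
      intro x hx
      have hx' : x ∈ Q := hx
      rw [h, Subgroup.mem_bot] at hx'
      rw [hx', one_mul, mul_one]
    have := hchar hgc
    rw [h, Subgroup.mem_bot] at this
    exact hg1 this
  -- `Z_Q = Ω₁(Z(Q))`
  let ZQ : Subgroup G :=
    { carrier := {x | x ∈ Q ∧ (∀ y ∈ Q, x * y = y * x) ∧ x * x = 1}
      one_mem' := ⟨Q.one_mem, fun y _ => by rw [one_mul, mul_one], one_mul 1⟩
      mul_mem' := by
        rintro x y ⟨hx, hxc, hx2⟩ ⟨hy, hyc, hy2⟩
        refine ⟨Q.mul_mem hx hy, fun z hz => ?_, ?_⟩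
        · rw [mul_assoc, hyc z hz, ← mul_assoc, hxc z hz, mul_assoc]
        · calc x * y * (x * y) = x * (y * x) * y := by group
            _ = x * (x * y) * y := by rw [hyc x hx]
            _ = (x * x) * (y * y) := by group
            _ = 1 := by rw [hx2, hy2, one_mul]
      inv_mem' := by
        rintro x ⟨hx, hxc, hx2⟩
        refine ⟨Q.inv_mem hx, fun z hz => ?_, ?_⟩
        · exact (inv_comm_of_comm z x (hxc z hz).symm).symm
        · calc x⁻¹ * x⁻¹ = (x * x)⁻¹ := by group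
            _ = 1 := by rw [hx2, inv_one] }
  have hZQmem : ∀ x, x ∈ ZQ ↔ x ∈ Q ∧ (∀ y ∈ Q, x * y = y * x) ∧ x * x = 1 := fun x => Iff.rfl
  have hZQQ : ZQ ≤ Q := fun x hx => ((hZQmem x).mp hx).1
  have hZQconj : ∀ a : G, ∀ x ∈ ZQ, a * x * a⁻¹ ∈ ZQ := by
    intro a x hx
    rw [hZQmem] at hx ⊢
    obtain ⟨hxQ, hxc, hx2⟩ := hx
    refine ⟨hQconj a x hxQ, fun y hy => ?_, ?_⟩
    · have hy' : a⁻¹ * y * a ∈ Q := by
        have := hQconj a⁻¹ y hy
        rwa [inv_inv] at this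
      have h1 := hxc _ hy'
      calc a * x * a⁻¹ * y = a * (x * (a⁻¹ * y * a)) * a⁻¹ := by group
        _ = a * ((a⁻¹ * y * a) * x) * a⁻¹ := by rw [h1]
        _ = y * (a * x * a⁻¹) := by group
    · calc a * x * a⁻¹ * (a * x * a⁻¹) = a * (x * x) * a⁻¹ := by group
        _ = 1 := by rw [hx2]; group
  have hZQne : ZQ ≠ ⊥ := by
    obtain ⟨c, hcQ, hc1, hc2, hcc⟩ := exists_central_involution Q hQ2 hQne
    intro h
    have hcZ : c ∈ ZQ := (hZQmem c).mpr ⟨hcQ, hcc, hc2⟩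
    rw [h, Subgroup.mem_bot] at hcZ
    exact hc1 hcZ
  have hZQ2 : IsPGroup 2 ↥ZQ := hQ2.to_le hZQQ
  -- maximality of `W`
  have hmax : ∀ t : G, t * t = 1 → (∀ w ∈ W, t * w = w * t) → t ∈ W := by
    intro t ht2 htW
    have := subset_of_elemAb_max hE W hW4 hWc hW2 {t}
      (fun a ha b hb => by rw [Set.mem_singleton_iff.mp ha, Set.mem_singleton_iff.mp hb])
      (fun a ha => by rw [Set.mem_singleton_iff.mp ha]; exact ht2)
      (fun a ha w hw => by rw [Set.mem_singleton_iff.mp ha]; exact htW w hw)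
    exact this rfl
  -- `W ≤ Q`
  have hWQ : W ≤ Q := by
    obtain ⟨v, hvZ, hv1, hvW⟩ := exists_fixed_ne_one W ZQ hW2g hZQ2 hZQne
      (fun a _ v hv => hZQconj a v hv)
    have hvW' : v ∈ W := hmax v ((hZQmem v).mp hvZ).2.2 (fun w hw => (hvW w hw).symm)
    set U : Subgroup G := W ⊓ Q with hU
    have hvU : v ∈ U := Subgroup.mem_inf.mpr ⟨hvW', hZQQ hvZ⟩
    have hU1 : U ≠ ⊥ := by
      intro h
      rw [h, Subgroup.mem_bot] at hvU
      exact hv1 hvU
    have hdU : ∀ u ∈ U, d * u * d⁻¹ ∈ U := by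
      intro u hu
      obtain ⟨hu1, hu2⟩ := Subgroup.mem_inf.mp hu
      exact Subgroup.mem_inf.mpr ⟨hdWc u hu1, hQconj d u hu2⟩
    have hUW : U = W := eq_of_invariant_of_fpf W U d hW4 hfpf inf_le_left hU1 hdU
    intro w hw
    have hw' : w ∈ U := by rw [hUW]; exact hw
    exact (Subgroup.mem_inf.mp hw').2
  -- `Z_Q = W`
  have hZQW : ZQ = W := by
    have hsub : (ZQ : Set G) ⊆ (W : Set G) := subset_of_elemAb_max hE W hW4 hWc hW2 (ZQ : Set G)
      (fun a ha b hb => ((hZQmem a).mp ha).2.1 b (hZQQ hb))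
      (fun a ha => ((hZQmem a).mp ha).2.2)
      (fun a ha w hw => ((hZQmem a).mp ha).2.1 w (hWQ hw))
    exact eq_of_invariant_of_fpf W ZQ d hW4 hfpf hsub hZQne (fun u hu => hZQconj d u hu)
  have hWQc : ∀ z ∈ W, ∀ x ∈ Q, z * x = x * z := by
    intro z hz x hx
    have hz' : z ∈ ZQ := by rw [hZQW]; exact hz
    exact ((hZQmem z).mp hz').2.1 x hx
  have hWconj : ∀ a : G, ∀ z ∈ W, a * z * a⁻¹ ∈ W := by
    intro a z hz
    have hz' : z ∈ ZQ := by rw [hZQW]; exact hz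
    have := hZQconj a z hz'
    rwa [hZQW] at this
  have hNW : ∀ a : G, a ∈ Subgroup.normalizer (W : Set G) := fun a =>
    Subgroup.mem_normalizer_fintype (hWconj a)
  have hinvQ : ∀ t ∈ Q, t * t = 1 → t ∈ W := fun t ht ht2 =>
    hmax t ht2 (fun w hw => (hWQc w hw t ht).symm)
  -- `s = g ^ 2` centralizes `W`
  set s := g ^ 2 with hs
  have hsW : ∀ z ∈ W, s * z = z * s := sq_centralizes_four W hW4 hmax g hg (hNW g)
  have hg6 : g ^ 6 = 1 := by rw [← hg]; exact pow_orderOf_eq_one g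
  have hs3 : s ^ 3 = 1 := by rw [hs, ← pow_mul]; exact hg6
  have hs1 : s ≠ 1 := pow_ne_one_of_lt_orderOf (by norm_num) (by rw [hg]; norm_num)
  have hsnotQ : s ∉ Q := by
    intro hsQ
    obtain ⟨k, hk⟩ := hQ2 ⟨s, hsQ⟩
    have hk' : s ^ 2 ^ k = 1 := by
      have := congrArg Subtype.val hk
      simpa using this
    have h1 : orderOf s ∣ 2 ^ k := orderOf_dvd_of_pow_eq_one hk'
    have h2 : orderOf s ∣ 3 := orderOf_dvd_of_pow_eq_one hs3
    have hcop : Nat.Coprime (2 ^ k) 3 := Nat.Coprime.pow_left k (by norm_num)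
    have h3 : orderOf s ∣ 1 := by
      have := Nat.dvd_gcd h1 h2
      rwa [hcop.gcd_eq_one] at this
    exact hs1 (orderOf_eq_one_iff.mp (Nat.dvd_one.mp h3))
  -- the critical subgroup `D`
  obtain ⟨D, hDQ, hDinv, hDexp, hDcomm, hDfaith⟩ := exists_small_exponent_crit (p := 2) Q hQ2
  have hD4 : ∀ x ∈ D, x ^ 4 = 1 := by
    intro x hx
    rcases hDexp x hx with h | ⟨-, h⟩
    · rw [show (4 : ℕ) = 2 * 2 from rfl, pow_mul, h, one_pow]
    · exact h
  have hnotD : ¬ ∀ x ∈ D, s * x = x * s := by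
    intro h
    have hcop : (orderOf s).Coprime 2 := by
      have : orderOf s ∣ 3 := orderOf_dvd_of_pow_eq_one hs3
      exact Nat.Coprime.coprime_dvd_left this (by norm_num)
    have h2 := hDfaith s (hNQ s) hcop h
    apply hsnotQ
    apply hchar
    rw [Subgroup.mem_centralizer_iff]
    intro x hx
    exact (h2 x hx).symm
  have hDne : D ≠ ⊥ := by
    intro h
    apply hnotD
    intro x hx
    rw [h, Subgroup.mem_bot] at hx
    rw [hx, mul_one, one_mul]
  have hD2 : IsPGroup 2 ↥D := hQ2.to_le hDQ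
  have hDconj : ∀ a : G, ∀ x ∈ D, a * x * a⁻¹ ∈ D := fun a x hx => hDinv a (hNQ a) x hx
  have hND : ∀ a : G, a ∈ Subgroup.normalizer (D : Set G) := fun a =>
    Subgroup.mem_normalizer_fintype (hDconj a)
  have hWD : W ≤ D := by
    obtain ⟨c, hcD, hc1, hc2, -⟩ := exists_central_involution D hD2 hDne
    have hcW : c ∈ W := hinvQ c (hDQ hcD) hc2
    set U : Subgroup G := W ⊓ D with hU
    have hcU : c ∈ U := Subgroup.mem_inf.mpr ⟨hcW, hcD⟩
    have hU1 : U ≠ ⊥ := by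
      intro h
      rw [h, Subgroup.mem_bot] at hcU
      exact hc1 hcU
    have hdU : ∀ u ∈ U, d * u * d⁻¹ ∈ U := by
      intro u hu
      obtain ⟨hu1, hu2⟩ := Subgroup.mem_inf.mp hu
      exact Subgroup.mem_inf.mpr ⟨hdWc u hu1, hDconj d u hu2⟩
    have hUW : U = W := eq_of_invariant_of_fpf W U d hW4 hfpf inf_le_left hU1 hdU
    intro w hw
    have hw' : w ∈ U := by rw [hUW]; exact hw
    exact (Subgroup.mem_inf.mp hw').2
  have hWcD : ∀ z ∈ W, ∀ x ∈ D, z * x = x * z := fun z hz x hx => hWQc z hz x (hDQ hx)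
  have hinvD : ∀ x ∈ D, x * x = 1 → x ∈ W := fun x hx => hinvQ x (hDQ hx)
  have hsq : ∀ x ∈ D, x * x ∈ W := by
    intro x hx
    apply hinvD _ (D.mul_mem hx hx)
    have := hD4 x hx
    rw [show (4 : ℕ) = 2 + 2 from rfl, pow_add, pow_two] at this
    exact this
  have hcommW : ∀ x ∈ D, ∀ y ∈ D, ⁅x, y⁆ ∈ W := by
    intro x hx y hy
    obtain ⟨hcD, hcc⟩ := hDcomm x hx y (hDQ hy)
    apply hinvD _ hcD
    have h1 : Commute ⁅x, y⁆ x := hcc x hx
    have h2 : x ^ 2 * y = y * x ^ 2 := by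
      rw [pow_two]
      exact hWcD _ (hsq x hx) y hy
    have := Cfsg.Agent.S1949.comm_pow_eq_one 2 h1 h2
    rwa [pow_two] at this
  have hD64 : Nat.card D ≤ 64 := card_le_of_anisotropic D W hWD hW4 hWcD hW2 hsq hcommW hinvD
  exact hnotD (centralizes_of_counting D W d s hWD hW4 hWcD hW2 hsq hinvD hD2 hD64 (hND d) hdWc hfpf
    hs3 (hND s) hsW)

end Cfsg.Agent.S3739
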