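import Cfsg.Statements.S3741
import Mathlib

set_option autoImplicit false
open Cfsg
open scoped commutatorElement

namespace Cfsg.Agent.S3741

variable {G : Type*} [Group G]

theorem key_index [Finite G] {p : ℕ} [hp : Fact p.Prime] (hG : IsPGroup p G) (A B : Subgroup G)
    (hcard : Nat.card ↥⁅A, B⁆ ≤ p) (a : G) (ha : a ∈ A)
    (hna : a ∉ Subgroup.centralizer (B : Set G)) :
    p * Nat.card ↥(B ⊓ Subgroup.centralizer ({a} : Set G)) = Nat.card B := by
  set C : Subgroup B := (B ⊓ Subgroup.centralizer ({a} : Set G)).subgroupOf B with hC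
  have hmemC : ∀ b : B, b ∈ C ↔ a * (b : G) = b * a := by
    intro b
    rw [hC, Subgroup.mem_subgroupOf, Subgroup.mem_inf, Subgroup.mem_centralizer_iff]
    constructor
    · intro h; exact h.2 a (Set.mem_singleton a)
    · intro h
      refine ⟨b.2, ?_⟩
      intro x hx
      rw [Set.mem_singleton_iff] at hx
      subst hx
      exact h
  have hwd : ∀ b b' : B, b⁻¹ * b' ∈ C ↔ ⁅(b : G), a⁆ = ⁅(b' : G), a⁆ := by
    intro b b'
    rw [hmemC]
    simp only [commutatorElement_def, Subgroup.coe_mul, Subgroup.coe_inv]
    constructor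
    · intro h
      have : (b' : G) * a * (b' : G)⁻¹ = b * a * (b : G)⁻¹ := by
        have h2 : a * (b : G)⁻¹ * b' = (b : G)⁻¹ * b' * a := by rw [← h]; group
        calc (b' : G) * a * (b' : G)⁻¹ = b * ((b : G)⁻¹ * b' * a) * (b' : G)⁻¹ := by group
          _ = b * (a * (b : G)⁻¹ * b') * (b' : G)⁻¹ := by rw [h2]
          _ = b * a * (b : G)⁻¹ := by group
      rw [this]
    · intro h
      have h2 : (b : G) * a * (b : G)⁻¹ = b' * a * (b' : G)⁻¹ := by
        have := congrArg (fun t => t * a) h
        simpa using this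
      calc a * ((b : G)⁻¹ * b') = (b : G)⁻¹ * (b * a * (b : G)⁻¹) * b' := by group
        _ = (b : G)⁻¹ * (b' * a * (b' : G)⁻¹) * b' := by rw [h2]
        _ = (b : G)⁻¹ * b' * a := by group
  -- injection from the cosets to the commutator subgroup
  let f : B ⧸ C → ↥⁅A, B⁆ := fun q => Quotient.liftOn' q
    (fun b => (⟨⁅(b : G), a⁆, by
      rw [Subgroup.commutator_comm]
      exact Subgroup.commutator_mem_commutator b.2 ha⟩ : ↥⁅A, B⁆))
    (by
      intro b b' h
      rw [QuotientGroup.leftRel_apply] at h
      exact Subtype.ext ((hwd b b').mp h))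
  have hf : Function.Injective f := by
    intro q q'
    induction q using Quotient.inductionOn' with | _ b => ?_
    induction q' using Quotient.inductionOn' with | _ b' => ?_
    intro h
    have h1 : ⁅(b : G), a⁆ = ⁅(b' : G), a⁆ := congrArg Subtype.val h
    apply Quotient.sound'
    rw [QuotientGroup.leftRel_apply]
    exact (hwd b b').mpr h1
  have hle : Nat.card (B ⧸ C) ≤ p := (Nat.card_le_card_of_injective f hf).trans hcard
  have hidx : C.index ≤ p := by rwa [Subgroup.index_eq_card]
  obtain ⟨n, hn⟩ := (hG.to_subgroup B).index C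
  have hne : C.index ≠ 1 := by
    rw [Ne, Subgroup.index_eq_one]
    intro htop
    apply hna
    rw [Subgroup.mem_centralizer_iff]
    intro b hb
    have : (⟨b, hb⟩ : B) ∈ C := by rw [htop]; trivial
    rw [hmemC] at this
    exact this.symm
  have hn1 : n = 1 := by
    rcases n with _ | _ | n
    · rw [pow_zero] at hn; exact absurd hn hne
    · rfl
    · exfalso
      rw [hn] at hidx
      have : p ^ (n + 1 + 1) = p * p ^ (n+1) := by ring
      rw [this] at hidx
      have h1 : 1 < p ^ (n + 1) := Nat.one_lt_pow (by omega) hp.out.one_lt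
      have := hp.out.pos
      nlinarith
  rw [hn1, pow_one] at hn
  have h1 := Subgroup.card_mul_index C
  rw [hn] at h1
  have h2 : Nat.card C = Nat.card ↥(B ⊓ Subgroup.centralizer ({a} : Set G)) :=
    Nat.card_congr (Subgroup.subgroupOfEquivOfLe (inf_le_left)).toEquiv
  rw [← h2, mul_comm]; exact h1

theorem count_lemma {α β : Type*} [Fintype α] [Fintype β] [DecidableEq α] [DecidableEq β]
    (R : α → β → Prop) [DecidableRel R] (p : ℕ) (hp : 1 < p)
    (SA : Finset α) (SB : Finset β)
    (hA1 : ∀ a ∈ SA, (Finset.univ.filter (R a)).card = Fintype.card β)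
    (hA2 : ∀ a ∉ SA, p * (Finset.univ.filter (R a)).card = Fintype.card β)
    (hB1 : ∀ b ∈ SB, (Finset.univ.filter (fun a => R a b)).card = Fintype.card α)
    (hB2 : ∀ b ∉ SB, p * (Finset.univ.filter (fun a => R a b)).card = Fintype.card α) :
    SA.card * Fintype.card β = SB.card * Fintype.card α := by
  have hdc : ∑ a, (Finset.univ.filter (R a)).card = ∑ b, (Finset.univ.filter (fun a => R a b)).card :=
    Finset.sum_card_bipartiteAbove_eq_sum_card_bipartiteBelow R (s := Finset.univ) (t := Finset.univ)
  have hL : ∑ a, p * (Finset.univ.filter (R a)).card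
      = SA.card * (p * Fintype.card β) + (Fintype.card α - SA.card) * Fintype.card β := by
    have : ∀ a ∈ (Finset.univ : Finset α), p * (Finset.univ.filter (R a)).card
        = if a ∈ SA then p * Fintype.card β else Fintype.card β := by
      intro a _
      split_ifs with h
      · rw [hA1 a h]
      · rw [hA2 a h]
    rw [Finset.sum_congr rfl this, Finset.sum_ite, Finset.sum_const, Finset.sum_const,
      Finset.filter_mem_eq_inter, Finset.univ_inter, smul_eq_mul, smul_eq_mul]
    congr 2
    rw [← Finset.card_compl]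
    congr 1
    ext a
    simp
  have hR : ∑ b, p * (Finset.univ.filter (fun a => R a b)).card
      = SB.card * (p * Fintype.card α) + (Fintype.card β - SB.card) * Fintype.card α := by
    have : ∀ b ∈ (Finset.univ : Finset β), p * (Finset.univ.filter (fun a => R a b)).card
        = if b ∈ SB then p * Fintype.card α else Fintype.card α := by
      intro b _
      split_ifs with h
      · rw [hB1 b h]
      · rw [hB2 b h]
    rw [Finset.sum_congr rfl this, Finset.sum_ite, Finset.sum_const, Finset.sum_const,
      Finset.filter_mem_eq_inter, Finset.univ_inter, smul_eq_mul, smul_eq_mul]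
    congr 2
    rw [← Finset.card_compl]
    congr 1
    ext a
    simp
  have hmain : SA.card * (p * Fintype.card β) + (Fintype.card α - SA.card) * Fintype.card β
      = SB.card * (p * Fintype.card α) + (Fintype.card β - SB.card) * Fintype.card α := by
    rw [← hL, ← hR, ← Finset.mul_sum, ← Finset.mul_sum, hdc]
  obtain ⟨d, hd⟩ := Nat.exists_eq_add_of_le (Finset.card_le_univ SA)
  obtain ⟨e, he⟩ := Nat.exists_eq_add_of_le (Finset.card_le_univ SB)
  obtain ⟨q, hq⟩ := Nat.exists_eq_add_of_lt hp
  rw [hd, he] at hmain ⊢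
  simp only [Nat.add_sub_cancel_left] at hmain
  have hq0 : 0 < q + 1 := Nat.succ_pos q
  have key : (q + 1) * (SA.card * (SB.card + e)) = (q + 1) * (SB.card * (SA.card + d)) := by
    subst hq
    zify at hmain ⊢
    linear_combination hmain
  exact Nat.eq_of_mul_eq_mul_left hq0 key

theorem card_filter_comm_right (B : Subgroup G) (a : G) [Fintype B]
    [DecidablePred fun b : B => a * (b : G) = b * a] :
    (Finset.univ.filter (fun b : B => a * (b : G) = b * a)).card
      = Nat.card ↥(B ⊓ Subgroup.centralizer ({a} : Set G)) := by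
  rw [← Fintype.card_subtype, ← Nat.card_eq_fintype_card]
  refine Nat.card_congr
    { toFun := fun x => ⟨x.1.1, Subgroup.mem_inf.mpr ⟨x.1.2, ?_⟩⟩
      invFun := fun y => ⟨⟨y.1, (Subgroup.mem_inf.mp y.2).1⟩, ?_⟩
      left_inv := fun _ => rfl
      right_inv := fun _ => rfl }
  · rw [Subgroup.mem_centralizer_iff]
    intro y hy
    rw [Set.mem_singleton_iff.mp hy]
    exact x.2
  · have := (Subgroup.mem_inf.mp y.2).2
    rw [Subgroup.mem_centralizer_iff] at this
    exact this a rfl

theorem card_filter_mem_centralizer (A B : Subgroup G) [Fintype A]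
    [DecidablePred fun a : A => (a : G) ∈ Subgroup.centralizer (B : Set G)] :
    (Finset.univ.filter (fun a : A => (a : G) ∈ Subgroup.centralizer (B : Set G))).card
      = Nat.card ↥(A ⊓ Subgroup.centralizer (B : Set G)) := by
  rw [← Fintype.card_subtype, ← Nat.card_eq_fintype_card]
  exact Nat.card_congr
    { toFun := fun x => ⟨x.1.1, Subgroup.mem_inf.mpr ⟨x.1.2, x.2⟩⟩
      invFun := fun y => ⟨⟨y.1, (Subgroup.mem_inf.mp y.2).1⟩, (Subgroup.mem_inf.mp y.2).2⟩
      left_inv := fun _ => rfl
      right_inv := fun _ => rfl }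

theorem relIndex_mul_card_inf [Finite G] (A C : Subgroup G) :
    (A ⊓ C).relIndex A * Nat.card ↥(A ⊓ C) = Nat.card A := by
  have h1 := Subgroup.card_mul_index ((A ⊓ C).subgroupOf A)
  have h2 : Nat.card ((A ⊓ C).subgroupOf A) = Nat.card ↥(A ⊓ C) :=
    Nat.card_congr (Subgroup.subgroupOfEquivOfLe (inf_le_left)).toEquiv
  rw [h2, mul_comm] at h1
  exact h1

/-- Let A and B be subgroups of a finite p-group with [A, B] ≤ A ∩ B and [A, B] of order at most p. Then |A : C_A(B)| = |B : C_B(A)|. -/
theorem result {G : Type*} [Group G] [Finite G] {p : ℕ} [Fact p.Prime] (hG : IsPGroup p G) (A B : Subgroup G) (hAB : ⁅A, B⁆ ≤ A ⊓ B) (hcard : Nat.card ↥⁅A, B⁆ ≤ p) : (A ⊓ Subgroup.centralizer (B : Set G)).relIndex A = (B ⊓ Subgroup.centralizer (A : Set G)).relIndex B := by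
  classical
  have : Fintype G := Fintype.ofFinite G
  have hcard' : Nat.card ↥⁅B, A⁆ ≤ p := by rw [Subgroup.commutator_comm]; exact hcard
  have hcount := count_lemma (α := A) (β := B) (fun a b => (a : G) * (b : G) = b * a) p
    (Fact.out : p.Prime).one_lt
    (Finset.univ.filter (fun a : A => (a : G) ∈ Subgroup.centralizer (B : Set G)))
    (Finset.univ.filter (fun b : B => (b : G) ∈ Subgroup.centralizer (A : Set G)))
    ?_ ?_ ?_ ?_
  · rw [card_filter_mem_centralizer, card_filter_mem_centralizer, ← Nat.card_eq_fintype_card,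
      ← Nat.card_eq_fintype_card] at hcount
    have h1 := relIndex_mul_card_inf A (Subgroup.centralizer (B : Set G))
    have h2 := relIndex_mul_card_inf B (Subgroup.centralizer (A : Set G))
    have hposA : 0 < Nat.card ↥(A ⊓ Subgroup.centralizer (B : Set G)) := Nat.card_pos
    have hposB : 0 < Nat.card ↥(B ⊓ Subgroup.centralizer (A : Set G)) := Nat.card_pos
    rw [← h1, ← h2] at hcount
    have : (Nat.card ↥(A ⊓ Subgroup.centralizer (B : Set G)) * Nat.card ↥(B ⊓ Subgroup.centralizer (A : Set G)))
        * (B ⊓ Subgroup.centralizer (A : Set G)).relIndex B =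
        (Nat.card ↥(A ⊓ Subgroup.centralizer (B : Set G)) * Nat.card ↥(B ⊓ Subgroup.centralizer (A : Set G)))
        * (A ⊓ Subgroup.centralizer (B : Set G)).relIndex A := by
      calc _ = Nat.card ↥(A ⊓ Subgroup.centralizer (B : Set G)) * ((B ⊓ Subgroup.centralizer (A : Set G)).relIndex B * Nat.card ↥(B ⊓ Subgroup.centralizer (A : Set G))) := by ring
        _ = Nat.card ↥(B ⊓ Subgroup.centralizer (A : Set G)) * ((A ⊓ Subgroup.centralizer (B : Set G)).relIndex A * Nat.card ↥(A ⊓ Subgroup.centralizer (B : Set G))) := hcount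
        _ = _ := by ring
    exact (Nat.eq_of_mul_eq_mul_left (Nat.mul_pos hposA hposB) this).symm
  · intro a ha
    rw [Finset.mem_filter] at ha
    rw [card_filter_comm_right, ← Nat.card_eq_fintype_card]
    congr 1
    have : B ⊓ Subgroup.centralizer ({(a : G)} : Set G) = B := by
      rw [inf_eq_left]
      intro b hb
      rw [Subgroup.mem_centralizer_iff]
      intro y hy
      rw [Set.mem_singleton_iff.mp hy]
      exact ((Subgroup.mem_centralizer_iff.mp ha.2) b hb).symm
    rw [this]
  · intro a ha
    rw [Finset.mem_filter] at ha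
    rw [card_filter_comm_right, ← Nat.card_eq_fintype_card]
    exact key_index hG A B hcard a a.2 (fun h => ha ⟨Finset.mem_univ _, h⟩)
  · intro b hb
    rw [Finset.mem_filter] at hb
    have e : (Finset.univ.filter (fun a : A => (a : G) * (b : G) = b * a))
        = (Finset.univ.filter (fun a : A => (b : G) * (a : G) = a * b)) := by
      ext a; simp only [Finset.mem_filter, Finset.mem_univ, true_and]; exact eq_comm
    rw [e, card_filter_comm_right, ← Nat.card_eq_fintype_card]
    congr 1
    have : A ⊓ Subgroup.centralizer ({(b : G)} : Set G) = A := by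
      rw [inf_eq_left]
      intro a ha
      rw [Subgroup.mem_centralizer_iff]
      intro y hy
      rw [Set.mem_singleton_iff.mp hy]
      exact ((Subgroup.mem_centralizer_iff.mp hb.2) a ha).symm
    rw [this]
  · intro b hb
    rw [Finset.mem_filter] at hb
    have e : (Finset.univ.filter (fun a : A => (a : G) * (b : G) = b * a))
        = (Finset.univ.filter (fun a : A => (b : G) * (a : G) = a * b)) := by
      ext a; simp only [Finset.mem_filter, Finset.mem_univ, true_and]; exact eq_comm
    rw [e, card_filter_comm_right, ← Nat.card_eq_fintype_card]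
    exact key_index hG B A hcard' b b.2 (fun h => hb ⟨Finset.mem_univ _, h⟩)

end Cfsg.Agent.S3741
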