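import Cfsg.Statements.S3746
import Mathlib

set_option autoImplicit false
open Cfsg
open scoped commutatorElement

namespace Cfsg.Agent.S3746

variable {G : Type*} [Group G]

/-- commutators do not see central factors -/
theorem commutatorElement_mul_central {Z : Subgroup G} (hZ : Z ≤ Subgroup.center G)
    {d d' z z' : G} (hz : z ∈ Z) (hz' : z' ∈ Z) : ⁅d * z, d' * z'⁆ = ⁅d, d'⁆ := by
  have h1 : ∀ g : G, g * z = z * g := fun g => (Subgroup.mem_center_iff.mp (hZ hz) g)
  have h2 : ∀ g : G, g * z' = z' * g := fun g => (Subgroup.mem_center_iff.mp (hZ hz') g)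
  simp only [commutatorElement_def, mul_inv_rev]
  calc d * z * (d' * z') * (z⁻¹ * d⁻¹) * (z'⁻¹ * d'⁻¹)
      = d * (z * (d' * z')) * (z⁻¹ * d⁻¹) * (z'⁻¹ * d'⁻¹) := by group
    _ = d * ((d' * z') * z) * (z⁻¹ * d⁻¹) * (z'⁻¹ * d'⁻¹) := by rw [← h1 (d' * z')]
    _ = d * d' * (z' * d⁻¹) * (z'⁻¹ * d'⁻¹) := by group
    _ = d * d' * (d⁻¹ * z') * (z'⁻¹ * d'⁻¹) := by rw [h2 d⁻¹]
    _ = d * d' * d⁻¹ * d'⁻¹ := by group

/-- Let Z ≤ Z(G) be a central subgroup of a finite group G and E a subgroup of G containing Z whose image E/Z is a component of G/Z (subnormal and quasisimple). Then the derived subgroup [E, E] is a component of G. -/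
theorem result {G : Type*} [Group G] [Finite G] (Z : Subgroup G) (hZ : Z ≤ Subgroup.center G) [Z.Normal] (E : Subgroup G) (hZE : Z ≤ E) (hE : Cfsg.IsComponent (E.map (QuotientGroup.mk' Z))) : Cfsg.IsComponent ⁅E, E⁆ := by
  obtain ⟨hsn, hperf, hsimple⟩ := hE
  set π := QuotientGroup.mk' Z with hπ
  set Eb : Subgroup (G ⧸ Z) := E.map π with hEb
  set D : Subgroup G := ⁅E, E⁆ with hD
  have hDE : D ≤ E := Subgroup.commutator_le_self E
  have hker : π.ker = Z := QuotientGroup.ker_mk' Z
  -- (1) subnormality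
  have hEsn : E.IsSubnormal := by
    have h1 : Subgroup.comap π Eb = E := by
      rw [hEb]
      exact Subgroup.comap_map_eq_self (by rw [hker]; exact hZE)
    rw [← h1]
    exact hsn.comap π
  have hDsn : D.IsSubnormal := by
    have h1 : (commutator E).map E.subtype = D := Subgroup.map_subtype_commutator E
    rw [← h1]
    exact (Subgroup.Normal.isSubnormal inferInstance).trans' hEsn
  -- (2) E = D Z
  have hEbperf : ⁅Eb, Eb⁆ = Eb := Subgroup.isPerfect_iff.mp hperf
  have hmapD : D.map π = Eb := by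
    rw [hD, Subgroup.map_commutator, hEbperf]
  have hEDZ : ∀ e ∈ E, ∃ d ∈ D, ∃ z ∈ Z, e = d * z := by
    intro e he
    have h1 : π e ∈ D.map π := by rw [hmapD]; exact Subgroup.mem_map_of_mem π he
    obtain ⟨d, hd, hde⟩ := h1
    refine ⟨d, hd, d⁻¹ * e, ?_, by group⟩
    rw [← hker, MonoidHom.mem_ker, map_mul, map_inv, hde, inv_mul_cancel]
  -- D is perfect
  have hDperf : ⁅D, D⁆ = D := by
    apply le_antisymm (Subgroup.commutator_le_self D)
    rw [hD, Subgroup.commutator_le]
    intro g₁ h₁ g₂ h₂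
    obtain ⟨d₁, hd₁, z₁, hz₁, rfl⟩ := hEDZ g₁ h₁
    obtain ⟨d₂, hd₂, z₂, hz₂, rfl⟩ := hEDZ g₂ h₂
    rw [commutatorElement_mul_central hZ hz₁ hz₂]
    exact Subgroup.commutator_mem_commutator hd₁ hd₂
  refine ⟨hDsn, Subgroup.isPerfect_iff.mpr hDperf, ?_⟩
  -- (3) the central quotient
  let ρ : D →* Eb := (π.comp D.subtype).codRestrict Eb
    (fun d => Subgroup.mem_map_of_mem π (hDE d.2))
  have hρ : Function.Surjective ρ := by
    rintro ⟨y, hy⟩
    rw [← hmapD] at hy
    obtain ⟨d, hd, rfl⟩ := hy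
    exact ⟨⟨d, hd⟩, rfl⟩
  let ψ : D →* (Eb ⧸ Subgroup.center Eb) := (QuotientGroup.mk' (Subgroup.center Eb)).comp ρ
  have hψ : Function.Surjective ψ :=
    (QuotientGroup.mk'_surjective _).comp hρ
  have hψker : ψ.ker = Subgroup.center D := by
    ext d
    rw [MonoidHom.mem_ker]
    show QuotientGroup.mk' (Subgroup.center Eb) (ρ d) = 1 ↔ _
    rw [QuotientGroup.mk'_apply, QuotientGroup.eq_one_iff, Subgroup.mem_center_iff,
      Subgroup.mem_center_iff]
    constructor
    · intro h
      -- d commutes with all of E modulo Z, hence centralises all commutators of E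
      have hcomm : ∀ e ∈ E, ∃ z ∈ Z, (d : G) * e * (d : G)⁻¹ = e * z := by
        intro e he
        have h1 := h ⟨π e, Subgroup.mem_map_of_mem π he⟩
        have h2 : π e * π d = π d * π e := congrArg Subtype.val h1
        refine ⟨e⁻¹ * ((d : G) * e * (d : G)⁻¹), ?_, by group⟩
        rw [← hker, MonoidHom.mem_ker]
        simp only [map_mul, map_inv]
        rw [← h2]
        group
      have hcent : ∀ x ∈ Subgroup.closure {g | ∃ g₁ ∈ E, ∃ g₂ ∈ E, ⁅g₁, g₂⁆ = g},
          (d : G) * x * (d : G)⁻¹ = x := by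
        intro x hxc
        induction hxc using Subgroup.closure_induction with
        | mem y hy =>
          obtain ⟨g₁, h₁, g₂, h₂, rfl⟩ := hy
          obtain ⟨z₁, hz₁, e₁⟩ := hcomm g₁ h₁
          obtain ⟨z₂, hz₂, e₂⟩ := hcomm g₂ h₂
          have : (d : G) * ⁅g₁, g₂⁆ * (d : G)⁻¹
              = ⁅(d : G) * g₁ * (d : G)⁻¹, (d : G) * g₂ * (d : G)⁻¹⁆ := by
            simp only [commutatorElement_def]; group
          rw [this, e₁, e₂, commutatorElement_mul_central hZ hz₁ hz₂]
        | one => group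
        | mul y y' _ _ hy hy' =>
          calc (d : G) * (y * y') * (d : G)⁻¹
              = ((d : G) * y * (d : G)⁻¹) * ((d : G) * y' * (d : G)⁻¹) := by group
            _ = y * y' := by rw [hy, hy']
        | inv y _ hy =>
          calc (d : G) * y⁻¹ * (d : G)⁻¹ = ((d : G) * y * (d : G)⁻¹)⁻¹ := by group
            _ = y⁻¹ := by rw [hy]
      intro x
      apply Subtype.ext
      have := hcent x x.2
      rw [Subgroup.coe_mul, Subgroup.coe_mul]
      calc (x : G) * d = ((d : G) * x * (d : G)⁻¹) * d := by rw [this]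
        _ = d * x := by group
    · intro h y
      obtain ⟨y, e, he, rfl⟩ := y
      obtain ⟨d', hd', z, hz, rfl⟩ := hEDZ e he
      apply Subtype.ext
      show π (d' * z) * π (d : G) = π (d : G) * π (d' * z)
      rw [← map_mul, ← map_mul]
      congr 1
      have h1 : (d' : G) * d = d * d' := congrArg Subtype.val (h ⟨d', hd'⟩)
      have h2 : ∀ g : G, g * z = z * g := fun g => (Subgroup.mem_center_iff.mp (hZ hz) g)
      calc d' * z * (d : G) = d' * (z * d) := by group
        _ = d' * (d * z) := by rw [h2]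
        _ = (d' * d) * z := by group
        _ = (d * d') * z := by rw [h1]
        _ = d * (d' * z) := by group
  have e1 : D ⧸ ψ.ker ≃* (Eb ⧸ Subgroup.center Eb) :=
    QuotientGroup.quotientKerEquivOfSurjective ψ hψ
  have e2 : D ⧸ ψ.ker ≃* D ⧸ Subgroup.center D := QuotientGroup.quotientMulEquivOfEq hψker
  exact (e2.symm.trans e1).isSimpleGroup

end Cfsg.Agent.S3746
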