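import Cfsg.Statements.S3747
import Cfsg.Agent.Helper62.Basic
import Cfsg.Agent.Helper22.SubLayer
import Cfsg.Agent.Helper21.Radical

set_option autoImplicit false
open Cfsg
open Cfsg.Agent.Helper62

namespace Cfsg.Agent.S3747

variable {G : Type*} [Group G]

/-- a normal subgroup is fixed by every conjugation -/
theorem cj_normal (g : G) (N : Subgroup G) [hN : N.Normal] : cj g N = N := by
  apply cj_eq_self_of_mem_normalizer
  rw [Subgroup.normalizer_eq_top_iff.mpr hN]
  trivial

/-- elements of a centre-free subgroup `K`: if `g k g⁻¹` commutes with all of `g K g⁻¹` then it is trivial -/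
theorem eq_one_of_commute_cj {K : Subgroup G} (hK : Subgroup.center ↥K = ⊥) (g : G) {y : G}
    (hy : y ∈ cj g K) (hc : ∀ l ∈ cj g K, l * y = y * l) : y = 1 := by
  obtain ⟨k, hk, rfl⟩ := mem_cj.mp hy
  have hkc : (⟨k, hk⟩ : K) ∈ Subgroup.center ↥K := by
    rw [Subgroup.mem_center_iff]
    intro k'
    apply Subtype.ext
    have h1 := hc (g * k' * g⁻¹) (mem_cj.mpr ⟨k', k'.2, rfl⟩)
    have h2 : g * (k' * k) * g⁻¹ = g * (k * k') * g⁻¹ := by
      calc g * (k' * k) * g⁻¹ = (g * k' * g⁻¹) * (g * k * g⁻¹) := by group
        _ = (g * k * g⁻¹) * (g * k' * g⁻¹) := h1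
        _ = g * (k * k') * g⁻¹ := by group
    have h3 : (k' : G) * k = k * k' := by
      have := congrArg (fun t => g⁻¹ * t * g) h2
      simpa [mul_assoc] using this
    exact h3
  rw [hK, Subgroup.mem_bot] at hkc
  have : k = 1 := congrArg Subtype.val hkc
  rw [this]; group

/-- the key step: a normal subgroup centralising all conjugates of a centre-free component `K`
and contained in the join of finitely many of them is trivial. -/
theorem eq_bot_of_le_sup_conjugates [Finite G] {K : Subgroup G} (hK : Cfsg.IsComponent K)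
    (hZ : Subgroup.center ↥K = ⊥) (N : Subgroup G)
    (hcomm : ∀ g : G, ⁅cj g K, N⁆ = ⊥) :
    ∀ (n : ℕ) (S : Finset (Subgroup G)), S.card = n → (∀ L ∈ S, ∃ g, L = cj g K) →
      N ≤ S.sup id → N = ⊥ := by
  classical
  intro n
  induction n with
  | zero =>
    intro S hS _ hN
    rw [Finset.card_eq_zero.mp hS, Finset.sup_empty] at hN
    exact le_bot_iff.mp hN
  | succ n ih =>
    intro S hS hconj hN
    obtain ⟨L₀, hL₀⟩ : S.Nonempty := Finset.card_pos.mp (by omega)
    apply ih (S.erase L₀) (by rw [Finset.card_erase_of_mem hL₀, hS]; rfl)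
      (fun L hL => hconj L (Finset.mem_of_mem_erase hL))
    obtain ⟨g₀, rfl⟩ := hconj L₀ hL₀
    set R : Subgroup G := (S.erase (cj g₀ K)).sup id with hR
    have hsplit : S.sup id = cj g₀ K ⊔ R := by
      conv_lhs => rw [← Finset.insert_erase hL₀]
      rw [Finset.sup_insert]
      rfl
    have hL₀comp : Cfsg.IsComponent (cj g₀ K) := Cfsg.Agent.Helper21.IsComponent.map_conj hK g₀
    -- R commutes with L₀
    have hRc : ∀ l ∈ cj g₀ K, ∀ r ∈ R, l * r = r * l := by
      have : R ≤ Subgroup.centralizer ((cj g₀ K : Subgroup G) : Set G) := by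
        rw [hR]
        apply Finset.sup_le
        intro L hL
        obtain ⟨g, rfl⟩ := hconj L (Finset.mem_of_mem_erase hL)
        have hne : cj g K ≠ cj g₀ K := Finset.ne_of_mem_erase hL
        have hLcomp : Cfsg.IsComponent (cj g K) := Cfsg.Agent.Helper21.IsComponent.map_conj hK g
        intro x hx
        rw [Subgroup.mem_centralizer_iff]
        intro l hl
        exact ((Cfsg.Agent.Helper21.IsComponent.commute_of_ne hLcomp hL₀comp hne hx hl).eq).symm
      intro l hl r hr
      exact ((Subgroup.mem_centralizer_iff.mp (this hr)) l hl)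
    have hNc : ∀ l ∈ cj g₀ K, ∀ x ∈ N, l * x = x * l :=
      commute_of_commutator_eq_bot (hcomm g₀)
    intro x hx
    have hx' : x ∈ cj g₀ K ⊔ R := by rw [← hsplit]; exact hN hx
    obtain ⟨l, hl, r, hr, rfl⟩ := mem_sup_of_commute hRc hx'
    have hl1 : l = 1 := by
      apply eq_one_of_commute_cj hZ g₀ hl
      intro l' hl'
      have h1 := hNc l' hl' _ hx
      have h2 := hRc l' hl' r hr
      -- l' * (l * r) = (l * r) * l', l' * r = r * l'  ⟹  l' * l = l * l'
      have h3 : l' * l * r = l * l' * r := by
        calc l' * l * r = l' * (l * r) := by group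
          _ = (l * r) * l' := h1
          _ = l * (r * l') := by group
          _ = l * (l' * r) := by rw [h2]
          _ = l * l' * r := by group
      exact mul_right_cancel h3
    rw [hl1, one_mul]
    exact hr

/-- the set of conjugates of `K` -/
theorem normalClosure_le_sup_conjugates [Finite G] (K : Subgroup G) :
    ∃ S : Finset (Subgroup G), (∀ L ∈ S, ∃ g, L = cj g K) ∧ Subgroup.normalClosure (K : Set G) ≤ S.sup id := by
  classical
  have hfin : {L : Subgroup G | ∃ g, L = cj g K}.Finite := Set.toFinite _
  refine ⟨hfin.toFinset, fun L hL => by simpa using hL, ?_⟩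
  have hnormal : (hfin.toFinset.sup id).Normal := by
    constructor
    intro n hn g
    have key : cj g (hfin.toFinset.sup id) ≤ hfin.toFinset.sup id := by
      unfold cj
      rw [Subgroup.map_le_iff_le_comap]
      apply Finset.sup_le
      intro L hL
      rw [Set.Finite.mem_toFinset] at hL
      obtain ⟨g', rfl⟩ := hL
      rw [id, ← Subgroup.map_le_iff_le_comap]
      have : cj g (cj g' K) ∈ hfin.toFinset := by
        rw [Set.Finite.mem_toFinset]
        exact ⟨g * g', (cj_mul g g' K)⟩
      exact Finset.le_sup (f := id) this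
    exact key (mem_cj.mpr ⟨n, hn, rfl⟩)
  apply Subgroup.normalClosure_le_normal
  have : K ∈ hfin.toFinset := by
    rw [Set.Finite.mem_toFinset]
    exact ⟨1, (cj_one K).symm⟩
  exact Finset.le_sup (f := id) this

/-- part (a) -/
theorem partA [Finite G] (K : Subgroup G) (hK : Cfsg.IsComponent K) (hZ : Subgroup.center ↥K = ⊥) :
    Subgroup.normalClosure (K : Set G) ≠ ⊥ ∧ ∀ N : Subgroup G, N.Normal →
      N ≤ Subgroup.normalClosure (K : Set G) → N = ⊥ ∨ N = Subgroup.normalClosure (K : Set G) := by
  have hKne : K ≠ ⊥ := Cfsg.Agent.Helper22.IsComponent.ne_bot hK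
  have hKC : K ≤ Subgroup.normalClosure (K : Set G) := Subgroup.le_normalClosure
  refine ⟨fun h => hKne (le_bot_iff.mp (h ▸ hKC)), ?_⟩
  intro N hN hNC
  by_cases hcase : ∃ g : G, cj g K ≤ N
  · right
    obtain ⟨g, hg⟩ := hcase
    have hKN : K ≤ N := by
      have := cj_mono g⁻¹ hg
      rwa [cj_mul, inv_mul_cancel, cj_one, cj_normal] at this
    exact le_antisymm hNC (Subgroup.normalClosure_le_normal hKN)
  · left
    push Not at hcase
    have hcomm : ∀ g : G, ⁅cj g K, N⁆ = ⊥ := by
      intro g
      have hcomp : Cfsg.IsComponent (cj g K) := Cfsg.Agent.Helper21.IsComponent.map_conj hK g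
      rcases Cfsg.Agent.Helper21.IsComponent.le_or_commutator_eq_bot hcomp N
        (le_normalizer_of_normal' _ N) with h | h
      · exact absurd h (hcase g)
      · exact h
    obtain ⟨S, hS, hle⟩ := normalClosure_le_sup_conjugates K
    exact eq_bot_of_le_sup_conjugates hK hZ N hcomm S.card S rfl hS (hNC.trans hle)

/-- Let G be a finite group. (a) If K is a component of G with trivial centre, then the normal closure of K in G is a minimal normal subgroup of G. (b) If the Fitting subgroup of G is trivial, then the layer E(G) is generated by the minimal normal subgroups of G. -/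
theorem result {G : Type*} [Group G] [Finite G] : (∀ K : Subgroup G, Cfsg.IsComponent K → Subgroup.center ↥K = ⊥ → (Subgroup.normalClosure (K : Set G) ≠ ⊥ ∧ ∀ N : Subgroup G, N.Normal → N ≤ Subgroup.normalClosure (K : Set G) → N = ⊥ ∨ N = Subgroup.normalClosure (K : Set G))) ∧ (Cfsg.fittingSubgroup G = ⊥ → sSup {N : Subgroup G | N ≠ ⊥ ∧ N.Normal ∧ ∀ N' : Subgroup G, N'.Normal → N' ≤ N → N' = ⊥ ∨ N' = N} = Cfsg.layer G) := by
  refine ⟨fun K hK hZ => partA K hK hZ, ?_⟩
  intro hF
  apply le_antisymm
  · -- minimal normal subgroups lie in the layer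
    apply sSup_le
    rintro N ⟨hNne, hNn, hNmin⟩
    have hinf : (N ⊓ Cfsg.layer G).Normal := inferInstance
    rcases hNmin _ hinf inf_le_left with h | h
    · exfalso
      have h1 : ⁅N, Cfsg.layer G⁆ = ⊥ := by
        rw [eq_bot_iff, ← h]
        exact Subgroup.commutator_le_inf N (Cfsg.layer G)
      have h2 : N ≤ Subgroup.centralizer (Cfsg.generalizedFittingSubgroup G : Set G) := by
        unfold Cfsg.generalizedFittingSubgroup
        rw [hF, sup_bot_eq]
        exact Subgroup.commutator_eq_bot_iff_le_centralizer.mp h1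
      have h3 := h2.trans Cfsg.Agent.Helper21.centralizer_generalizedFittingSubgroup_le
      unfold Cfsg.generalizedFittingSubgroup at h3
      rw [hF, sup_bot_eq] at h3
      apply hNne
      rw [eq_bot_iff, ← h]
      exact le_inf le_rfl h3
    · exact inf_eq_left.mp h
  · -- each component lies in a minimal normal subgroup
    rw [Cfsg.Agent.Helper22.layer_le_iff]
    intro K hK
    have hZ : Subgroup.center ↥K = ⊥ := by
      -- the centre of K is a subnormal abelian subgroup of G
      have hsn : ((Subgroup.center ↥K).map K.subtype).IsSubnormal :=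
        (Subgroup.Normal.isSubnormal inferInstance).trans' hK.1
      have hnil : Group.IsNilpotent ((Subgroup.center ↥K).map K.subtype) := by
        have h1 : Group.IsNilpotent (Subgroup.center ↥K) :=
          Cfsg.Agent.Helper29.isNilpotent_of_isMulCommutative _
        exact (Group.isNilpotent_congr
          ((Subgroup.center ↥K).equivMapOfInjective K.subtype K.subtype_injective)).mp h1
      have hle := le_fittingSubgroup_of_isSubnormal hsn hnil
      rw [hF, le_bot_iff] at hle
      rw [eq_bot_iff]
      intro z hz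
      have : (z : G) ∈ (Subgroup.center ↥K).map K.subtype := ⟨z, hz, rfl⟩
      rw [hle, Subgroup.mem_bot] at this
      rw [Subgroup.mem_bot]
      exact Subtype.ext this
    obtain ⟨hne, hmin⟩ := partA K hK hZ
    exact (Subgroup.le_normalClosure).trans
      (le_sSup ⟨hne, Subgroup.normalClosure_normal, hmin⟩)

end Cfsg.Agent.S3747
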