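import Cfsg.Statements.S3748
import Cfsg.Agent.Helper62.Radical
import Cfsg.Agent.Helper91.Wielandt

set_option autoImplicit false
open Cfsg
open Cfsg.Agent.Helper62

namespace Cfsg.Agent.S3748

variable {G : Type*} [Group G]

/-- conjugates of subnormal subgroups are subnormal -/
theorem isSubnormal_cj {L : Subgroup G} (hL : L.IsSubnormal) (g : G) : (cj g L).IsSubnormal :=
  hL.map (MulAut.conj g).surjective

/-- In a finite group, a primitive subgroup contains no nontrivial subnormal subgroup of `G`. -/
theorem no_subnormal [Finite G] (M : Subgroup G) (hM : M ≠ ⊤)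
    (hprim : ∀ N : Subgroup G, N ≤ M → M ≤ Subgroup.normalizer (N : Set G) → N ≠ ⊥ →
      Subgroup.normalizer (N : Set G) = M) :
    ∀ L : Subgroup G, L.IsSubnormal → L ≤ M → L = ⊥ := by
  set 𝒮 : Set (Subgroup G) := {L | L.IsSubnormal ∧ L ≤ M} with h𝒮
  set S : Subgroup G := sSup 𝒮 with hS
  have hSsn : S.IsSubnormal := by
    rw [← Cfsg.Agent.Helper91.relSN_top_iff]
    apply Cfsg.Agent.Helper91.RelSN.sSup
    intro U hU
    rw [Cfsg.Agent.Helper91.relSN_top_iff]
    exact hU.1
  have hSM : S ≤ M := sSup_le fun L hL => hL.2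
  have hMS : M ≤ Subgroup.normalizer (S : Set G) := by
    have key : ∀ m ∈ M, cj m S ≤ S := by
      intro m hm
      rw [hS]
      unfold cj
      rw [Subgroup.map_le_iff_le_comap]
      refine sSup_le fun L hL => ?_
      rw [← Subgroup.map_le_iff_le_comap]
      refine le_sSup ⟨isSubnormal_cj hL.1 m, ?_⟩
      have := cj_mono m hL.2
      rwa [cj_eq_self_of_mem_normalizer (Subgroup.le_normalizer hm)] at this
    intro m hm
    rw [mem_normalizer_iff_cj_eq_self]
    apply le_antisymm (key m hm)
    have := cj_mono m (key m⁻¹ (Subgroup.inv_mem _ hm))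
    rwa [cj_mul, mul_inv_cancel, cj_one] at this
  have hSbot : S = ⊥ := by
    by_contra hne
    have hN := hprim S hSM hMS hne
    rcases Subgroup.IsSubnormal.iff_eq_top_or_exists.mp hSsn with htop | ⟨K, hSK, hKsn, hKn⟩
    · apply hM
      rw [eq_top_iff, ← htop]
      exact hSM
    · rw [Subgroup.normal_subgroupOf_iff_le_normalizer hSK.le, hN] at hKn
      have : K ≤ S := le_sSup ⟨hKsn, hKn⟩
      exact absurd hSK (not_lt_of_ge this)
  intro L hL hLM
  have : L ≤ S := le_sSup ⟨hL, hLM⟩
  rw [hSbot] at this
  exact le_bot_iff.mp this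

/-- every subgroup of a finite nilpotent group is subnormal -/
theorem isSubnormal_of_isNilpotent {F : Type*} [Group F] [Finite F] [hF : Group.IsNilpotent F]
    (D : Subgroup F) : D.IsSubnormal := by
  induction D using WellFoundedGT.induction with
  | ind D ih =>
    by_cases htop : D = ⊤
    · rw [htop]; exact Subgroup.IsSubnormal.top
    · have hlt : D < ⊤ := lt_top_iff_ne_top.mpr htop
      have hnc := Group.normalizerCondition_of_isNilpotent (G := F) D hlt
      exact Subgroup.IsSubnormal.step D _ hnc.le (ih _ hnc) Subgroup.normal_in_normalizer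

/-- Call a proper subgroup M of G primitive when M = N_G(N) for every non-trivial normal subgroup N of M. If M is a primitive subgroup of the finite group G, then no non-trivial subnormal subgroup of G is contained in M; in particular M ∩ F(G) = 1. -/
theorem result {G : Type*} [Group G] [Finite G] (M : Subgroup G) (hM : M ≠ ⊤) (hprim : ∀ N : Subgroup G, N ≤ M → M ≤ Subgroup.normalizer (N : Set G) → N ≠ ⊥ → Subgroup.normalizer (N : Set G) = M) : (∀ L : Subgroup G, L.IsSubnormal → L ≤ M → L = ⊥) ∧ M ⊓ Cfsg.fittingSubgroup G = ⊥ := by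
  have h1 := no_subnormal M hM hprim
  refine ⟨h1, ?_⟩
  apply h1 _ _ inf_le_left
  -- M ⊓ F(G) is subnormal in the nilpotent normal subgroup F(G)
  have hnil : Group.IsNilpotent (Cfsg.fittingSubgroup G) :=
    Cfsg.Agent.Lib.isNilpotent_fittingSubgroup
  have h2 : ((M ⊓ Cfsg.fittingSubgroup G).subgroupOf (Cfsg.fittingSubgroup G)).IsSubnormal :=
    isSubnormal_of_isNilpotent _
  have h3 : (Cfsg.fittingSubgroup G).IsSubnormal :=
    Subgroup.Normal.isSubnormal inferInstance
  exact Subgroup.IsSubnormal.trans inf_le_right h2 h3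

end Cfsg.Agent.S3748
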