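-- Statement S3749: primitive subgroup disjoint from a normal subgroup, with non-trivial p-core.
import Mathlib
import Cfsg.Statements.S3749
import Cfsg.Agent.Lib.Cores
import Cfsg.Agent.Helper1.CoprimeSylow
import Cfsg.Agent.Helper62.Radical
import Cfsg.Agent.Helper62.Basic

set_option autoImplicit false
open Cfsg

namespace Cfsg.Agent.S3749

open Cfsg.Agent.Helper62 Pointwise

/-- A `p`-group `P` whose only fixed point on the normal subgroup `N` is `1` forces `p ∤ |N|`. -/
theorem not_dvd_card_of_centralizer_trivial {G : Type*} [Group G] [Finite G] {p : ℕ}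
    [hp : Fact p.Prime] (P N : Subgroup G) [N.Normal] (hP : IsPGroup p P)
    (hc : N ⊓ Subgroup.centralizer (P : Set G) = ⊥) :
    ¬ p ∣ Nat.card N := by
  let _ : MulAction P N := MulAction.compHom N ((MulAut.conjNormal (H := N)).comp P.subtype)
  have hsmul : ∀ (x : P) (n : N), ((x • n : N) : G) = x * n * (x : G)⁻¹ := fun x n => rfl
  have hmod := hP.card_modEq_card_fixedPoints N
  have hfix : MulAction.fixedPoints P N = {1} := by
    ext n
    simp only [MulAction.mem_fixedPoints, Set.mem_singleton_iff]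
    constructor
    · intro h
      have hn : (n : G) ∈ N ⊓ Subgroup.centralizer (P : Set G) := by
        refine Subgroup.mem_inf.mpr ⟨n.2, ?_⟩
        rw [Subgroup.mem_centralizer_iff]
        intro x hx
        have h1 := congrArg (fun t : N => (t : G)) (h ⟨x, hx⟩)
        simp only [hsmul] at h1
        calc x * n = x * n * x⁻¹ * x := by group
          _ = n * x := by rw [h1]
      rw [hc, Subgroup.mem_bot] at hn
      exact Subtype.ext hn
    · rintro rfl x
      apply Subtype.ext
      rw [hsmul]; simp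
  rw [hfix] at hmod
  simp only [Nat.card_eq_fintype_card] at hmod
  intro hdvd
  have h0 : Nat.card N ≡ 0 [MOD p] := (Nat.modEq_zero_iff_dvd).mpr hdvd
  have h01 : 0 ≡ 1 [MOD p] := h0.symm.trans (by simpa using hmod)
  have := (Nat.modEq_zero_iff_dvd).mp h01.symm
  exact hp.out.one_lt.ne' (Nat.dvd_one.mp this)

/-- `|M| * |N| ≤ |G|` when `M ⊓ N = ⊥`. -/
theorem card_mul_card_le {G : Type*} [Group G] [Finite G] (M N : Subgroup G) (h : M ⊓ N = ⊥) :
    Nat.card M * Nat.card N ≤ Nat.card G := by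
  rw [← Nat.card_prod]
  refine Nat.card_le_card_of_injective (fun x : M × N => (x.1 : G) * x.2) ?_
  rintro ⟨m, n⟩ ⟨m', n'⟩ hmn
  simp only at hmn
  have h1 : (m' : G)⁻¹ * m = n' * (n : G)⁻¹ := by
    have : (m : G) = m' * n' * (n : G)⁻¹ := by rw [← hmn]; group
    rw [this]; group
  have h2 : (m' : G)⁻¹ * m ∈ M ⊓ N := by
    refine Subgroup.mem_inf.mpr ⟨M.mul_mem (M.inv_mem m'.2) m.2, ?_⟩
    rw [h1]; exact N.mul_mem n'.2 (N.inv_mem n.2)
  rw [h, Subgroup.mem_bot] at h2
  have h3 : (m : G) = m' := by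
    have := congrArg (fun t => (m' : G) * t) h2
    simpa using this
  have h4 : (n : G) = n' := by
    rw [h3] at hmn
    exact mul_left_cancel hmn
  exact Prod.ext (Subtype.ext h3) (Subtype.ext h4)

/-- Call a proper subgroup M of G primitive when M = N_G(N) for every non-trivial normal subgroup N of M. Let M be a primitive subgroup of the finite group G, p a prime with O_p(M) ≠ 1, and N a normal subgroup of G with M ∩ N = 1. Then p does not divide the order of N; for every prime q there is exactly one Sylow q-subgroup of N normalized by M; and if the order of N has at least two prime divisors then M is not a maximal subgroup of G. -/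
theorem result {G : Type*} [Group G] [Finite G] (M : Subgroup G) (hM : M ≠ ⊤) (hprim : ∀ N : Subgroup G, N ≤ M → M ≤ Subgroup.normalizer (N : Set G) → N ≠ ⊥ → Subgroup.normalizer (N : Set G) = M) {p : ℕ} [Fact p.Prime] (hOp : Cfsg.pCore p ↥M ≠ ⊥) (N : Subgroup G) [N.Normal] (hMN : M ⊓ N = ⊥) : ¬ p ∣ Nat.card N ∧ (∀ q : ℕ, [Fact q.Prime] → ∃! Q : Sylow q ↥N, M ≤ Subgroup.normalizer ((Q : Subgroup ↥N).map N.subtype : Set G)) ∧ ((∃ q r : ℕ, q.Prime ∧ r.Prime ∧ q ≠ r ∧ q ∣ Nat.card N ∧ r ∣ Nat.card N) → ¬ IsCoatom M) := by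
  classical
  have hp : p.Prime := Fact.out
  set P : Subgroup G := (Cfsg.pCore p ↥M).map M.subtype with hPdef
  have hPne : P ≠ ⊥ := by
    intro h
    apply hOp
    exact (Subgroup.map_eq_bot_iff_of_injective _ M.subtype_injective).mp h
  have hPM : P ≤ M := Subgroup.map_subtype_le _
  haveI hchar : (Cfsg.pCore p ↥M).Characteristic := Cfsg.Agent.Lib.pCore_characteristic p
  haveI hnorm : (Cfsg.pCore p ↥M).Normal := Subgroup.normal_of_characteristic _
  have hMP : M ≤ Subgroup.normalizer (P : Set G) := by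
    have h1 := Subgroup.le_normalizer_map (H := Cfsg.pCore p ↥M) M.subtype
    rw [Subgroup.normalizer_eq_top, ← MonoidHom.range_eq_map, Subgroup.range_subtype] at h1
    exact h1
  have hNP : Subgroup.normalizer (P : Set G) = M := hprim P hPM hMP hPne
  have hPp : IsPGroup p P := (Cfsg.Agent.Lib.isPGroup_pCore p).map M.subtype
  have hcent : N ⊓ Subgroup.centralizer (P : Set G) = ⊥ := by
    rw [eq_bot_iff, ← hMN]
    refine le_inf ?_ inf_le_left
    refine inf_le_right.trans ?_
    rw [← hNP]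
    exact Subgroup.centralizer_le_normalizer _
  have h1 : ¬ p ∣ Nat.card N := not_dvd_card_of_centralizer_trivial P N hPp hcent
  -- coprime data
  have hPN : P ≤ Subgroup.normalizer (N : Set G) := by
    rw [Subgroup.normalizer_eq_top]; exact le_top
  have hMNn : M ≤ Subgroup.normalizer (N : Set G) := by
    rw [Subgroup.normalizer_eq_top]; exact le_top
  have hcop : (Nat.card P).Coprime (Nat.card N) := by
    obtain ⟨k, hk⟩ := IsPGroup.iff_card.mp hPp
    rw [hk]
    exact Nat.Coprime.pow_left _ ((Nat.Prime.coprime_iff_not_dvd hp).mpr h1)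
  have hsolv : Group.IsSolvable P ∨ Group.IsSolvable N := by
    left
    haveI : Group.IsNilpotent P := hPp.isNilpotent
    infer_instance
  -- uniqueness of `P`-invariant Sylow subgroups of `N`
  have hU : ∀ (q : ℕ) [Fact q.Prime] (Q₁ Q₂ : Sylow q ↥N),
      P ≤ Subgroup.normalizer ((Q₁ : Subgroup ↥N).map N.subtype : Set G) →
      P ≤ Subgroup.normalizer ((Q₂ : Subgroup ↥N).map N.subtype : Set G) → Q₁ = Q₂ := by
    intro q _ Q₁ Q₂ h₁ h₂
    obtain ⟨c, hc, hcQ⟩ := Cfsg.Agent.Helper1.invariant_sylow_conj P N hPN hcop hsolv q Q₁ Q₂ h₁ h₂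
    rw [hcent, Subgroup.mem_bot] at hc
    rw [hc, map_one, one_smul] at hcQ
    apply Sylow.ext
    exact Subgroup.map_injective N.subtype_injective hcQ
  -- an `M`-invariant Sylow subgroup
  have hE : ∀ (q : ℕ) [Fact q.Prime], ∃ Q : Sylow q ↥N,
      M ≤ Subgroup.normalizer ((Q : Subgroup ↥N).map N.subtype : Set G) := by
    intro q _
    obtain ⟨Q, hQ⟩ := Cfsg.Agent.Helper1.exists_invariant_sylow P N hPN hcop hsolv q
    refine ⟨Q, ?_⟩
    intro m hm
    obtain ⟨Q₂, hQ₂⟩ := Cfsg.Agent.Helper1.conj_mem_sylowSet (p := q) (hMNn hm)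
      (S := (Q : Subgroup ↥N).map N.subtype) ⟨Q, rfl⟩
    have hP₂ : P ≤ Subgroup.normalizer ((Q₂ : Subgroup ↥N).map N.subtype : Set G) := by
      intro x hx
      apply Cfsg.Agent.Helper1.mem_normalizer_of_conj_smul_eq
      rw [← hQ₂, ← mul_smul, ← map_mul]
      have hx' : m⁻¹ * x * m ∈ P := by
        have := (Subgroup.mem_normalizer_iff.mp (hMP (M.inv_mem hm)) x).mp hx
        simpa using this
      have hx'' := Cfsg.Agent.Helper1.conj_smul_eq_of_mem_normalizer (hQ hx')
      have : x * m = m * (m⁻¹ * x * m) := by group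
      rw [this, map_mul, mul_smul, hx'']
    have := hU q Q₂ Q hP₂ hQ
    rw [this] at hQ₂
    exact Cfsg.Agent.Helper1.mem_normalizer_of_conj_smul_eq hQ₂
  refine ⟨h1, ?_, ?_⟩
  · intro q _
    obtain ⟨Q, hQ⟩ := hE q
    refine ⟨Q, hQ, ?_⟩
    intro Q₂ hQ₂
    exact hU q Q₂ Q (hPM.trans hQ₂) (hPM.trans hQ)
  · rintro ⟨q, r, hq, hr, hqr, hqN, hrN⟩ hco
    haveI : Fact q.Prime := ⟨hq⟩
    obtain ⟨Q, hQ⟩ := hE q
    set Q' : Subgroup G := (Q : Subgroup ↥N).map N.subtype with hQ'
    have hQ'N : Q' ≤ N := Subgroup.map_subtype_le _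
    have hQne : (Q : Subgroup ↥N) ≠ ⊥ := Q.ne_bot_of_dvd_card hqN
    have hQ'ne : Q' ≠ ⊥ := by
      intro h
      exact hQne ((Subgroup.map_eq_bot_iff_of_injective _ N.subtype_injective).mp h)
    have hcardQ' : Nat.card Q' = Nat.card (Q : Subgroup ↥N) :=
      (Nat.card_congr ((Q : Subgroup ↥N).equivMapOfInjective _ N.subtype_injective).toEquiv).symm
    rcases eq_or_lt_of_le (le_sup_left : M ≤ M ⊔ Q') with hEq | hLt
    · apply hQ'ne
      rw [eq_bot_iff, ← hMN]
      refine le_inf ?_ hQ'N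
      rw [hEq]; exact le_sup_right
    · have htop : M ⊔ Q' = ⊤ := hco.2 _ hLt
      have hdvd := card_sup_dvd_of_le_normalizer hQ
      rw [htop, Subgroup.card_top] at hdvd
      have hle1 : Nat.card G ≤ Nat.card M * Nat.card Q' :=
        Nat.le_of_dvd (Nat.mul_pos Nat.card_pos Nat.card_pos) hdvd
      have hle2 := card_mul_card_le M N hMN
      have hle3 : Nat.card N ≤ Nat.card Q' :=
        Nat.le_of_mul_le_mul_left (hle2.trans hle1) Nat.card_pos
      -- so `N` is a `q`-group
      have hQcard := Q.card_eq_multiplicity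
      have hNq : Nat.card N ∣ q ^ (Nat.card N).factorization q := by
        have h2 : Nat.card (Q : Subgroup ↥N) ∣ Nat.card N := Subgroup.card_subgroup_dvd_card _
        have h3 : Nat.card N = Nat.card (Q : Subgroup ↥N) :=
          le_antisymm (hcardQ' ▸ hle3) (Nat.le_of_dvd Nat.card_pos h2)
        rw [← hQcard, ← h3]
      have hrq : r ∣ q ^ (Nat.card N).factorization q := hrN.trans hNq
      have := (Nat.prime_dvd_prime_iff_eq hr hq).mp (hr.dvd_of_dvd_pow hrq)
      exact hqr this.symm

end Cfsg.Agent.S3749
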