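import Cfsg.Statements.S3750
import Cfsg.Agent.S3748
import Cfsg.Agent.Helper62.Basic
import Cfsg.Agent.Helper22.SubLayer

set_option autoImplicit false
open Cfsg
open Cfsg.Agent.Helper62
open scoped commutatorElement

namespace Cfsg.Agent.S3750

/-- Call a proper subgroup M of G primitive when M = N_G(N) for every non-trivial normal subgroup N of M. Let M be a primitive subgroup of the finite group G and N a normal subgroup of G with M ∩ F*(N) ≠ 1. Then F(G) = 1 and F*(N) = F*(G) = E(G); in particular every minimal normal subgroup of G is contained in N. -/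
theorem result {G : Type*} [Group G] [Finite G] (M : Subgroup G) (hM : M ≠ ⊤) (hprim : ∀ N : Subgroup G, N ≤ M → M ≤ Subgroup.normalizer (N : Set G) → N ≠ ⊥ → Subgroup.normalizer (N : Set G) = M) (N : Subgroup G) [N.Normal] (hMF : M ⊓ (Cfsg.generalizedFittingSubgroup ↥N).map N.subtype ≠ ⊥) : Cfsg.fittingSubgroup G = ⊥ ∧ (Cfsg.generalizedFittingSubgroup ↥N).map N.subtype = Cfsg.generalizedFittingSubgroup G ∧ Cfsg.generalizedFittingSubgroup G = Cfsg.layer G ∧ ∀ K : Subgroup G, K.Normal → K ≠ ⊥ → (∀ K' : Subgroup G, K'.Normal → K' ≤ K → K' = ⊥ ∨ K' = K) → K ≤ N := by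
  obtain ⟨hnosub, hMF0⟩ := Cfsg.Agent.S3748.result M hM hprim
  set F₁ : Subgroup G := (Cfsg.fittingSubgroup ↥N).map N.subtype with hF₁
  set E₁ : Subgroup G := (Cfsg.layer ↥N).map N.subtype with hE₁
  set X : Subgroup G := (Cfsg.generalizedFittingSubgroup ↥N).map N.subtype with hXdef
  have hX : X = E₁ ⊔ F₁ := by
    rw [hXdef, hE₁, hF₁]
    unfold Cfsg.generalizedFittingSubgroup
    exact Subgroup.map_sup _ _ _
  set D : Subgroup G := M ⊓ X with hD
  have hXn : X.Normal := ConjAct.normal_of_characteristic_of_normal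
  have hF₁n : F₁.Normal := ConjAct.normal_of_characteristic_of_normal
  have hNsn : N.IsSubnormal := Subgroup.Normal.isSubnormal inferInstance
  have hXN : X ≤ N := Subgroup.map_subtype_le _
  have hF₁nil : Group.IsNilpotent F₁ := by
    have h1 : Group.IsNilpotent (Cfsg.fittingSubgroup ↥N) :=
      Cfsg.Agent.Lib.isNilpotent_fittingSubgroup
    exact (Group.isNilpotent_congr
      ((Cfsg.fittingSubgroup ↥N).equivMapOfInjective N.subtype N.subtype_injective)).mp h1
  have hF₁F : F₁ ≤ Cfsg.fittingSubgroup G := Cfsg.Agent.Lib.le_fittingSubgroup hF₁n hF₁nil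
  have hE₁E : E₁ ≤ Cfsg.layer G := Cfsg.Agent.Helper22.map_layer_subtype_le hNsn
  have hEF : ⁅Cfsg.layer G, Cfsg.fittingSubgroup G⁆ = ⊥ :=
    Cfsg.Agent.Helper22.layer_commutator_fittingSubgroup
  have hcomm : ∀ e ∈ E₁, ∀ f ∈ F₁, e * f = f * e := by
    apply commute_of_commutator_eq_bot
    rw [eq_bot_iff, ← hEF]
    exact Subgroup.commutator_mono hE₁E hF₁F
  have hDM : D ≤ M := inf_le_left
  have hDX : D ≤ X := inf_le_right
  have hMD : M ≤ Subgroup.normalizer (D : Set G) :=
    le_normalizer_inf Subgroup.le_normalizer (le_normalizer_of_normal' M X)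
  have hND : Subgroup.normalizer (D : Set G) = M := hprim D hDM hMD hMF
  have hCD : Subgroup.centralizer (D : Set G) ≤ M := by
    rw [← hND]; exact Subgroup.centralizer_le_normalizer _
  -- the Fitting subgroup of N lies in D
  have hF₁D : F₁ ≤ D := by
    obtain ⟨c, hc⟩ := (Subgroup.isNilpotent_iff_lowerCentralSeries F₁).mp hF₁nil
    have hΓF : ∀ n, F₁.lowerCentralSeries n ≤ F₁ := by
      intro n
      have := Subgroup.lowerCentralSeries_antitone (S := F₁) (Nat.zero_le n)
      simpa using this
    have key : ∀ k, k ≤ c → F₁.lowerCentralSeries (c - k) ≤ D := by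
      intro k
      induction k with
      | zero => intro _; rw [Nat.sub_zero, hc]; exact bot_le
      | succ k ih =>
        intro hk
        have ih' := ih (by omega)
        have e : c - k = (c - (k + 1)) + 1 := by omega
        rw [e, Subgroup.lowerCentralSeries_succ] at ih'
        have hΓ := hΓF (c - (k + 1))
        have hnorm : F₁.lowerCentralSeries (c - (k + 1)) ≤ Subgroup.normalizer (D : Set G) := by
          rw [Subgroup.le_normalizer_iff_commutator_le_right]
          refine le_trans ?_ ih'
          rw [Subgroup.commutator_le]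
          intro x hx d hd
          have hdX : d ∈ E₁ ⊔ F₁ := by rw [← hX]; exact hDX hd
          obtain ⟨e', he', f, hf, rfl⟩ := mem_sup_of_commute hcomm hdX
          have hxF : x ∈ F₁ := hΓ hx
          have h1 : ⁅x, e' * f⁆ = ⁅x, f⁆ := by
            have c1 : e' * x = x * e' := hcomm e' he' x hxF
            have c2 : e' * ⁅x, f⁆ = ⁅x, f⁆ * e' :=
              hcomm e' he' _ (Subgroup.commutator_mem_commutator hxF hf |>
                fun h => (Subgroup.commutator_le_self F₁) h)
            simp only [commutatorElement_def] at c2 ⊢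
            calc x * (e' * f) * x⁻¹ * (e' * f)⁻¹
                = (x * e') * f * x⁻¹ * f⁻¹ * e'⁻¹ := by group
              _ = (e' * x) * f * x⁻¹ * f⁻¹ * e'⁻¹ := by rw [c1]
              _ = (e' * (x * f * x⁻¹ * f⁻¹)) * e'⁻¹ := by group
              _ = ((x * f * x⁻¹ * f⁻¹) * e') * e'⁻¹ := by rw [c2]
              _ = x * f * x⁻¹ * f⁻¹ := by group
          rw [h1]
          exact Subgroup.commutator_mem_commutator hx hf
        rw [hND] at hnorm
        exact le_inf hnorm (hΓ.trans (by rw [hX]; exact le_sup_right))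
    have := key c le_rfl
    rwa [Nat.sub_self, Subgroup.lowerCentralSeries_zero] at this
  have hF₁bot : F₁ = ⊥ := by
    rw [eq_bot_iff, ← hMF0]
    exact le_inf (hF₁D.trans hDM) hF₁F
  have hXE : X = E₁ := by rw [hX, hF₁bot, sup_bot_eq]
  -- F(G) = 1
  have hFG : Cfsg.fittingSubgroup G = ⊥ := by
    rw [eq_bot_iff, ← hMF0]
    refine le_inf ?_ le_rfl
    have h1 : Cfsg.fittingSubgroup G ≤ Subgroup.centralizer (Cfsg.layer G : Set G) := by
      rw [← Subgroup.commutator_eq_bot_iff_le_centralizer, Subgroup.commutator_comm]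
      exact hEF
    have h2 : Subgroup.centralizer (Cfsg.layer G : Set G) ≤ Subgroup.centralizer (D : Set G) := by
      apply Subgroup.centralizer_le
      exact (hDX.trans (hXE.le.trans hE₁E))
    exact (h1.trans h2).trans hCD
  have hDN : D ≤ N := hDX.trans hXN
  have hCN : Subgroup.centralizer (N : Set G) ≤ M :=
    (Subgroup.centralizer_le hDN).trans hCD
  -- components of G lie in N
  have hcomp : ∀ K : Subgroup G, Cfsg.IsComponent K → K ≤ N := by
    intro K hK
    rcases Cfsg.Agent.Helper21.IsComponent.le_or_commutator_eq_bot hK N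
      (le_normalizer_of_normal' K N) with h | h
    · exact h
    · exfalso
      have h1 : K ≤ Subgroup.centralizer (N : Set G) :=
        Subgroup.commutator_eq_bot_iff_le_centralizer.mp h
      exact Cfsg.Agent.Helper22.IsComponent.ne_bot hK (hnosub K hK.1 (h1.trans hCN))
  have hEle : Cfsg.layer G ≤ E₁ := by
    rw [Cfsg.Agent.Helper22.layer_le_iff]
    intro K hK
    calc K = (K.subgroupOf N).map N.subtype :=
          (Subgroup.map_subgroupOf_eq_of_le (hcomp K hK)).symm
      _ ≤ E₁ := Subgroup.map_mono (Cfsg.Agent.Helper22.IsComponent.le_layer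
          (Cfsg.Agent.Helper22.IsComponent.subgroupOf hK (hcomp K hK)))
  have hE₁eq : E₁ = Cfsg.layer G := le_antisymm hE₁E hEle
  have hgen : Cfsg.generalizedFittingSubgroup G = Cfsg.layer G := by
    unfold Cfsg.generalizedFittingSubgroup
    rw [hFG, sup_bot_eq]
  refine ⟨hFG, ?_, hgen, ?_⟩
  · rw [hgen, ← hE₁eq, ← hXE]
  · intro K hKn hKne hKmin
    have hinf : (K ⊓ N).Normal := inferInstance
    rcases hKmin (K ⊓ N) hinf inf_le_left with h | h
    · exfalso
      have h1 : ⁅K, N⁆ = ⊥ := by
        rw [eq_bot_iff, ← h]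
        exact Subgroup.commutator_le_inf K N
      have h2 : K ≤ Subgroup.centralizer (N : Set G) :=
        Subgroup.commutator_eq_bot_iff_le_centralizer.mp h1
      exact hKne (hnosub K (Subgroup.Normal.isSubnormal hKn) (h2.trans hCN))
    · exact inf_eq_left.mp h

end Cfsg.Agent.S3750
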