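-- Statement S3751: local characteristic p: primitive pair of characteristic p, or maximal p-locals are
-- strongly p-embedded.
import Mathlib
import Cfsg.Statements.S3751
import Cfsg.Agent.Lib.Cores
import Cfsg.Agent.Helper53.Conj
import Cfsg.Agent.Helper62.Radical
import Cfsg.Agent.Helper62.Basic

set_option autoImplicit false
open Cfsg

namespace Cfsg.Agent.S3751

open Cfsg.Agent.Helper62
open scoped commutatorElement

variable {G : Type*} [Group G]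

/-- `p`-local subgroups -/
def IsLoc (p : ℕ) (M : Subgroup G) : Prop :=
  ∃ T : Subgroup G, IsPGroup p T ∧ T ≠ ⊥ ∧ M = Subgroup.normalizer (T : Set G)

/-- maximal `p`-local subgroups -/
def IsMaxLoc (p : ℕ) (M : Subgroup G) : Prop :=
  IsLoc p M ∧ ∀ L : Subgroup G, IsLoc p L → M ≤ L → L = M

/-- `R` is a maximal `p`-subgroup of `N` (given `R ≤ N` a `p`-group) -/
def IsMaxP (p : ℕ) (R N : Subgroup G) : Prop :=
  ∀ S : Subgroup G, IsPGroup p S → S ≤ N → R ≤ S → S = R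

theorem normalizer_cj_eq (g : G) (N : Subgroup G) :
    Subgroup.normalizer ((cj g N : Subgroup G) : Set G) = cj g (Subgroup.normalizer (N : Set G)) := by
  apply le_antisymm _ (normalizer_cj g N)
  have h1 := normalizer_cj g⁻¹ (cj g N)
  rw [cj_mul, inv_mul_cancel, cj_one] at h1
  have h2 := cj_mono g h1
  rwa [cj_mul, mul_inv_cancel, cj_one] at h2

theorem cj_ne_bot {g : G} {N : Subgroup G} (h : N ≠ ⊥) : cj g N ≠ ⊥ := by
  intro h'
  apply h
  unfold cj at h'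
  exact (Subgroup.map_eq_bot_iff_of_injective _ (MulAut.conj g).injective).mp h'

theorem cj_inv_cj (g : G) (N : Subgroup G) : cj g⁻¹ (cj g N) = N := by
  rw [cj_mul, inv_mul_cancel, cj_one]

theorem cj_cj_inv (g : G) (N : Subgroup G) : cj g (cj g⁻¹ N) = N := by
  rw [cj_mul, mul_inv_cancel, cj_one]

theorem isPGroup_cj {p : ℕ} {g : G} {N : Subgroup G} (h : IsPGroup p N) : IsPGroup p (cj g N) :=
  h.map _

theorem IsLoc.cj {p : ℕ} {M : Subgroup G} (h : IsLoc p M) (g : G) : IsLoc p (cj g M) := by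
  obtain ⟨T, hT, hTne, rfl⟩ := h
  exact ⟨Helper62.cj g T, isPGroup_cj hT, cj_ne_bot hTne, (normalizer_cj_eq g T).symm⟩

theorem IsMaxLoc.cj {p : ℕ} {M : Subgroup G} (h : IsMaxLoc p M) (g : G) :
    IsMaxLoc p (cj g M) := by
  refine ⟨h.1.cj g, fun L hL hML => ?_⟩
  have h1 : M ≤ Helper62.cj g⁻¹ L := by
    have := cj_mono g⁻¹ hML
    rwa [cj_inv_cj] at this
  have h2 := h.2 _ (hL.cj g⁻¹) h1
  rw [← h2, cj_cj_inv]

theorem exists_maxLoc_ge [Finite G] {p : ℕ} {N : Subgroup G} (hN : IsLoc p N) :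
    ∃ K : Subgroup G, IsMaxLoc p K ∧ N ≤ K := by
  obtain ⟨K, hNK, hK⟩ := Finite.exists_le_maximal (p := fun K : Subgroup G => IsLoc p K) (a := N) hN
  exact ⟨K, ⟨hK.prop, fun L hL hKL => le_antisymm (hK.le_of_ge hL hKL) hKL⟩, hNK⟩

/-- normalizers grow in `p`-groups -/
theorem lt_inf_normalizer_of_lt [Finite G] {p : ℕ} [Fact p.Prime] {R S : Subgroup G}
    (hS : IsPGroup p S) (h : R < S) : R < S ⊓ Subgroup.normalizer (R : Set G) := by
  haveI : Group.IsNilpotent S := hS.isNilpotent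
  have hRS : R ≤ S := h.le
  have hne : R.subgroupOf S < ⊤ := by
    rw [lt_top_iff_ne_top]
    intro htop
    rw [Subgroup.subgroupOf_eq_top] at htop
    exact absurd (le_antisymm hRS htop) (ne_of_lt h)
  have hgrow := Group.normalizerCondition_of_isNilpotent (G := S) (R.subgroupOf S) hne
  obtain ⟨x, hxN, hxR⟩ := SetLike.exists_of_lt hgrow
  refine lt_of_le_of_ne (le_inf hRS Subgroup.le_normalizer) ?_
  intro heq
  apply hxR
  rw [Subgroup.mem_subgroupOf]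
  have hx : (x : G) ∈ S ⊓ Subgroup.normalizer (R : Set G) := by
    refine Subgroup.mem_inf.mpr ⟨x.2, ?_⟩
    rw [Subgroup.mem_normalizer_iff]
    intro y
    constructor
    · intro hy
      have := (Subgroup.mem_normalizer_iff.mp hxN ⟨y, hRS hy⟩).mp (Subgroup.mem_subgroupOf.mpr hy)
      exact Subgroup.mem_subgroupOf.mp this
    · intro hy
      have hyS : y ∈ S := by
        have h1 : (x : G) * y * (x : G)⁻¹ ∈ S := hRS hy
        have h2 := S.mul_mem (S.mul_mem (S.inv_mem x.2) h1) x.2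
        have : (x : G)⁻¹ * ((x : G) * y * (x : G)⁻¹) * (x : G) = y := by group
        rwa [this] at h2
      have := (Subgroup.mem_normalizer_iff.mp hxN ⟨y, hyS⟩).mpr (Subgroup.mem_subgroupOf.mpr hy)
      exact Subgroup.mem_subgroupOf.mp this
  rw [← heq] at hx
  exact hx

section main

variable [Finite G] {p : ℕ} [hp : Fact p.Prime]

/-- `O_p(M)` as a subgroup of `G` -/
abbrev Op (p : ℕ) (M : Subgroup G) : Subgroup G := (Cfsg.pCore p ↥M).map M.subtype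

theorem Op_le (M : Subgroup G) : Op p M ≤ M := Subgroup.map_subtype_le _

theorem isPGroup_Op (M : Subgroup G) : IsPGroup p (Op p M) :=
  (Cfsg.Agent.Lib.isPGroup_pCore p).map _

theorem le_normalizer_Op (M : Subgroup G) : M ≤ Subgroup.normalizer ((Op p M : Subgroup G) : Set G) := by
  haveI hchar : (Cfsg.pCore p ↥M).Characteristic := Cfsg.Agent.Lib.pCore_characteristic p
  exact Subgroup.le_normalizer.trans
    (Cfsg.Agent.Helper53.char_map_normalizer_le M (Cfsg.pCore p ↥M) hchar)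

/-- a normal `p`-subgroup of `M` lies in `O_p(M)` -/
theorem le_Op {M T : Subgroup G} (hT : IsPGroup p T) (hTM : T ≤ M)
    (hMT : M ≤ Subgroup.normalizer (T : Set G)) : T ≤ Op p M := by
  haveI : (T.subgroupOf M).Normal := (Subgroup.normal_subgroupOf_iff_le_normalizer hTM).mpr hMT
  have h1 : T.subgroupOf M ≤ Cfsg.pCore p ↥M :=
    Cfsg.Agent.Lib.le_pCore inferInstance (hT.comap_of_injective M.subtype M.subtype_injective)
  have h2 := Subgroup.map_mono (f := M.subtype) h1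
  rwa [Subgroup.subgroupOf_map_subtype, inf_eq_left.mpr hTM] at h2

/-- `O_p(M) ≤ R` for a maximal `p`-subgroup `R` of `M`. -/
theorem Op_le_of_isMaxP {M R : Subgroup G} (hR : IsPGroup p R) (hRM : R ≤ M)
    (hmax : IsMaxP p R M) : Op p M ≤ R := by
  have h1 : IsPGroup p (R ⊔ Op p M : Subgroup G) :=
    IsPGroup.to_sup_of_normal_right' hR (isPGroup_Op M) (hRM.trans (le_normalizer_Op M))
  have h2 := hmax _ h1 (sup_le hRM (Op_le M)) le_sup_left
  rw [← h2]; exact le_sup_right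

variable (hloc : Cfsg.IsOfLocalCharacteristic p G)

include hloc in
/-- characteristic `p` for a local subgroup -/
theorem char_p_of_isLoc {M : Subgroup G} (hM : IsLoc p M) :
    Subgroup.centralizer (Cfsg.pCore p ↥M : Set ↥M) ≤ Cfsg.pCore p ↥M := by
  obtain ⟨T, hT, hTne, rfl⟩ := hM
  exact hloc.2 T hT hTne

include hloc in
/-- in a maximal `p`-local `M`, every nontrivial normal subgroup has normalizer `M` -/
theorem IsMaxLoc.normalizer_eq {M A : Subgroup G} (hM : IsMaxLoc p M) (hA : A ≠ ⊥) (hAM : A ≤ M)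
    (hMA : M ≤ Subgroup.normalizer (A : Set G)) : Subgroup.normalizer (A : Set G) = M := by
  set A₁ : Subgroup G := Op p A with hA₁
  have hA₁p : IsPGroup p A₁ := isPGroup_Op A
  have hnorm : Subgroup.normalizer (A : Set G) ≤ Subgroup.normalizer (A₁ : Set G) := by
    haveI hchar : (Cfsg.pCore p ↥A).Characteristic := Cfsg.Agent.Lib.pCore_characteristic p
    exact Cfsg.Agent.Helper53.char_map_normalizer_le A (Cfsg.pCore p ↥A) hchar
  have hA₁ne : A₁ ≠ ⊥ := by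
    intro hbot
    -- `A ⊓ O_p(M) = ⊥`
    have hAQ : A ⊓ Op p M = ⊥ := by
      have h1 : A ⊓ Op p M ≤ A₁ := by
        apply le_Op ((isPGroup_Op M).to_le inf_le_right) inf_le_left
        exact le_normalizer_inf (hAM.trans hMA) (hAM.trans (le_normalizer_Op M))
      rw [eq_bot_iff, ← hbot]; exact h1
    -- so `A` centralizes `O_p(M)`
    have hcent : ∀ a ∈ A, ∀ q ∈ Op p M, q * a = a * q := by
      intro a ha q hq
      have h1 : ⁅a, q⁆ ∈ A ⊓ Op p M := by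
        refine Subgroup.mem_inf.mpr ⟨?_, ?_⟩
        · have h2 : q * a⁻¹ * q⁻¹ ∈ A :=
            (Subgroup.mem_normalizer_iff.mp (hMA (Op_le M hq)) a⁻¹).mp (A.inv_mem ha)
          have : ⁅a, q⁆ = a * (q * a⁻¹ * q⁻¹) := by rw [commutatorElement_def]; group
          rw [this]; exact A.mul_mem ha h2
        · have h2 : a * q * a⁻¹ ∈ Op p M :=
            (Subgroup.mem_normalizer_iff.mp (le_normalizer_Op M (hAM ha)) q).mp hq
          have : ⁅a, q⁆ = (a * q * a⁻¹) * q⁻¹ := by rw [commutatorElement_def]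
          rw [this]; exact Subgroup.mul_mem _ h2 (Subgroup.inv_mem _ hq)
      rw [hAQ, Subgroup.mem_bot] at h1
      have h3 := commutatorElement_eq_one_iff_mul_comm.mp h1
      exact h3.symm
    have hchar := char_p_of_isLoc hloc hM.1
    have hAQ' : A ≤ Op p M := by
      intro a ha
      have h1 : (⟨a, hAM ha⟩ : M) ∈ Subgroup.centralizer (Cfsg.pCore p ↥M : Set ↥M) := by
        rw [Subgroup.mem_centralizer_iff]
        intro q hq
        apply Subtype.ext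
        exact hcent a ha (q : G) ⟨q, hq, rfl⟩
      exact ⟨⟨a, hAM ha⟩, hchar h1, rfl⟩
    apply hA
    rw [eq_bot_iff, ← hAQ]
    exact le_inf le_rfl hAQ'
  have hlocal : IsLoc p (Subgroup.normalizer (A₁ : Set G)) := ⟨A₁, hA₁p, hA₁ne, rfl⟩
  have h1 := hM.2 _ hlocal (hMA.trans hnorm)
  exact le_antisymm (hnorm.trans h1.le) hMA

theorem IsLoc.ne_bot {M : Subgroup G} (hM : IsLoc p M) : M ≠ ⊥ := by
  obtain ⟨T, -, hTne, rfl⟩ := hM
  intro h
  apply hTne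
  rw [eq_bot_iff, ← h]; exact Subgroup.le_normalizer

include hloc in
theorem IsMaxLoc.normalizer_self {M : Subgroup G} (hM : IsMaxLoc p M) :
    Subgroup.normalizer (M : Set G) = M :=
  hM.normalizer_eq hloc hM.1.ne_bot le_rfl Subgroup.le_normalizer

include hloc in
/-- two distinct maximal `p`-locals sharing a `p`-subgroup maximal in both form a primitive pair of
characteristic `p`. -/
theorem pair_of_isMaxP {M₁ M₂ R : Subgroup G} (h₁ : IsMaxLoc p M₁) (h₂ : IsMaxLoc p M₂)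
    (hne : M₁ ≠ M₂) (hR : IsPGroup p R) (hR₁ : R ≤ M₁) (hR₂ : R ≤ M₂)
    (hm₁ : IsMaxP p R M₁) (hm₂ : IsMaxP p R M₂) :
    ∃ M₁ M₂ : Subgroup G, M₁ ≠ M₂ ∧ (∀ A : Subgroup G, A ≠ ⊥ → A ≤ M₁ ⊓ M₂ → (M₁ ≤ Subgroup.normalizer (A : Set G) → M₂ ⊓ Subgroup.normalizer (A : Set G) = M₁ ⊓ M₂) ∧ (M₂ ≤ Subgroup.normalizer (A : Set G) → M₁ ⊓ Subgroup.normalizer (A : Set G) = M₁ ⊓ M₂)) ∧ Subgroup.centralizer (Cfsg.pCore p ↥M₁ : Set ↥M₁) ≤ Cfsg.pCore p ↥M₁ ∧ Subgroup.centralizer (Cfsg.pCore p ↥M₂ : Set ↥M₂) ≤ Cfsg.pCore p ↥M₂ ∧ (Cfsg.pCore p ↥M₁).map M₁.subtype ⊔ (Cfsg.pCore p ↥M₂).map M₂.subtype ≤ M₁ ⊓ M₂ := by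
  refine ⟨M₁, M₂, hne, ?_, char_p_of_isLoc hloc h₁.1, char_p_of_isLoc hloc h₂.1, ?_⟩
  · intro A hA hAle
    constructor
    · intro hMA
      rw [h₁.normalizer_eq hloc hA (hAle.trans inf_le_left) hMA, inf_comm]
    · intro hMA
      rw [h₂.normalizer_eq hloc hA (hAle.trans inf_le_right) hMA]
  · exact sup_le ((Op_le_of_isMaxP hR hR₁ hm₁).trans (le_inf hR₁ hR₂))
      ((Op_le_of_isMaxP hR hR₂ hm₂).trans (le_inf hR₁ hR₂))

include hloc in
/-- `R` maximal in `L` but not in `M'`: conjugate `L` by an element of `N_{M'}(R)`. -/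
theorem pair_of_isMaxP_one {L M' R : Subgroup G} (hL : IsMaxLoc p L)
    (hR : IsPGroup p R) (hRL : R ≤ L) (hRM' : R ≤ M')
    (hmL : IsMaxP p R L) (hmM' : ¬ IsMaxP p R M') :
    ∃ M₁ M₂ : Subgroup G, M₁ ≠ M₂ ∧ (∀ A : Subgroup G, A ≠ ⊥ → A ≤ M₁ ⊓ M₂ → (M₁ ≤ Subgroup.normalizer (A : Set G) → M₂ ⊓ Subgroup.normalizer (A : Set G) = M₁ ⊓ M₂) ∧ (M₂ ≤ Subgroup.normalizer (A : Set G) → M₁ ⊓ Subgroup.normalizer (A : Set G) = M₁ ⊓ M₂)) ∧ Subgroup.centralizer (Cfsg.pCore p ↥M₁ : Set ↥M₁) ≤ Cfsg.pCore p ↥M₁ ∧ Subgroup.centralizer (Cfsg.pCore p ↥M₂ : Set ↥M₂) ≤ Cfsg.pCore p ↥M₂ ∧ (Cfsg.pCore p ↥M₁).map M₁.subtype ⊔ (Cfsg.pCore p ↥M₂).map M₂.subtype ≤ M₁ ⊓ M₂ := by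
  unfold IsMaxP at hmM'
  push Not at hmM'
  obtain ⟨S, hS, hSM', hRS, hSR⟩ := hmM'
  have hlt : R < S := lt_of_le_of_ne hRS (Ne.symm hSR)
  obtain ⟨g, hgN, hgR⟩ := SetLike.exists_of_lt (lt_inf_normalizer_of_lt hS hlt)
  have hgS : g ∈ S := (Subgroup.mem_inf.mp hgN).1
  have hgNR : g ∈ Subgroup.normalizer (R : Set G) := (Subgroup.mem_inf.mp hgN).2
  have hcjR : Helper62.cj g R = R := cj_eq_self_of_mem_normalizer hgNR
  have hL' : IsMaxLoc p (Helper62.cj g L) := hL.cj g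
  have hne : L ≠ Helper62.cj g L := by
    intro h
    have hgL : g ∈ L := by
      have := mem_normalizer_of_cj_eq_self h.symm
      rwa [hL.normalizer_self hloc] at this
    have h1 : IsPGroup p (R ⊔ Subgroup.zpowers g : Subgroup G) :=
      hS.to_le (sup_le hRS (by rw [Subgroup.zpowers_le]; exact hgS))
    have h2 := hmL _ h1 (sup_le hRL (by rw [Subgroup.zpowers_le]; exact hgL)) le_sup_left
    apply hgR
    rw [← h2]
    exact Subgroup.mem_sup_right (Subgroup.mem_zpowers g)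
  have hRL' : R ≤ Helper62.cj g L := by
    have := cj_mono g hRL
    rwa [hcjR] at this
  have hmL' : IsMaxP p R (Helper62.cj g L) := by
    intro S' hS' hS'L hRS'
    have h1 : Helper62.cj g⁻¹ S' ≤ L := by
      have := cj_mono g⁻¹ hS'L
      rwa [cj_inv_cj] at this
    have h2 : R ≤ Helper62.cj g⁻¹ S' := by
      have := cj_mono g⁻¹ hRS'
      have h3 : Helper62.cj g⁻¹ R = R := by
        conv_lhs => rw [← hcjR]
        exact cj_inv_cj g R
      rwa [h3] at this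
    have h4 := hmL _ (isPGroup_cj hS') h1 h2
    have h5 := congrArg (Helper62.cj g) h4
    rwa [cj_cj_inv, hcjR] at h5
  exact pair_of_isMaxP hloc hL hL' hne hR hRL hRL' hmL hmL'

include hloc in
/-- main step -/
theorem exists_pair {M : Subgroup G} (hM : IsMaxLoc p M) {g : G} (hg : g ∉ M)
    (hdvd : p ∣ Nat.card ↥(M ⊓ M.map (MulAut.conj g).toMonoidHom)) :
    ∃ M₁ M₂ : Subgroup G, M₁ ≠ M₂ ∧ (∀ A : Subgroup G, A ≠ ⊥ → A ≤ M₁ ⊓ M₂ → (M₁ ≤ Subgroup.normalizer (A : Set G) → M₂ ⊓ Subgroup.normalizer (A : Set G) = M₁ ⊓ M₂) ∧ (M₂ ≤ Subgroup.normalizer (A : Set G) → M₁ ⊓ Subgroup.normalizer (A : Set G) = M₁ ⊓ M₂)) ∧ Subgroup.centralizer (Cfsg.pCore p ↥M₁ : Set ↥M₁) ≤ Cfsg.pCore p ↥M₁ ∧ Subgroup.centralizer (Cfsg.pCore p ↥M₂ : Set ↥M₂) ≤ Cfsg.pCore p ↥M₂ ∧ (Cfsg.pCore p ↥M₁).map M₁.subtype ⊔ (Cfsg.pCore p ↥M₂).map M₂.subtype ≤ M₁ ⊓ M₂ := by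
  classical
  have hpp : p.Prime := hp.out
  set L₀ : Subgroup G := Helper62.cj g M with hL₀
  have hL₀max : IsMaxLoc p L₀ := hM.cj g
  have hne₀ : M ≠ L₀ := by
    intro h
    apply hg
    have := mem_normalizer_of_cj_eq_self h.symm
    rwa [hM.normalizer_self hloc] at this
  -- a subgroup of order `p` in `M ⊓ L₀`
  obtain ⟨x, hx⟩ := exists_prime_orderOf_dvd_card' (G := ↥(M ⊓ L₀)) p hdvd
  set R₀ : Subgroup G := Subgroup.zpowers (x : G) with hR₀
  have hxo : orderOf (x : G) = p := by rw [Subgroup.orderOf_coe, hx]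
  have hR₀p : IsPGroup p R₀ := by
    apply IsPGroup.of_card (n := 1)
    rw [pow_one, hR₀, Nat.card_zpowers, hxo]
  have hR₀ne : R₀ ≠ ⊥ := by
    intro h
    rw [hR₀, Subgroup.zpowers_eq_bot] at h
    rw [h, orderOf_one] at hxo
    exact hpp.one_lt.ne hxo
  have hR₀le : R₀ ≤ M ⊓ L₀ := by rw [hR₀, Subgroup.zpowers_le]; exact x.2
  -- a maximal shared `p`-subgroup
  let Shared : Subgroup G → Prop := fun R => IsPGroup p R ∧ R ≠ ⊥ ∧
    ∃ M₁ M₂ : Subgroup G, IsMaxLoc p M₁ ∧ IsMaxLoc p M₂ ∧ M₁ ≠ M₂ ∧ R ≤ M₁ ⊓ M₂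
  obtain ⟨R, -, hRmax⟩ := Finite.exists_le_maximal (p := Shared) (a := R₀)
    ⟨hR₀p, hR₀ne, M, L₀, hM, hL₀max, hne₀, hR₀le⟩
  obtain ⟨hRp, hRne, M₁, M₂, h₁, h₂, hne, hRle⟩ := hRmax.prop
  have hR₁ : R ≤ M₁ := hRle.trans inf_le_left
  have hR₂ : R ≤ M₂ := hRle.trans inf_le_right
  obtain ⟨K, hKmax, hNK⟩ := exists_maxLoc_ge (p := p)
    (N := Subgroup.normalizer (R : Set G)) ⟨R, hRp, hRne, rfl⟩
  -- key: if `K ≠ Mᵢ` then `R` is a maximal `p`-subgroup of `Mᵢ`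
  have key : ∀ N : Subgroup G, IsMaxLoc p N → R ≤ N → K ≠ N → IsMaxP p R N := by
    intro N hN hRN hKN S hS hSN hRS
    by_contra hSR
    have hlt : R < S := lt_of_le_of_ne hRS (Ne.symm hSR)
    have hgrow := lt_inf_normalizer_of_lt hS hlt
    have hP : Shared (S ⊓ Subgroup.normalizer (R : Set G)) := by
      refine ⟨hS.to_le inf_le_left, ?_, K, N, hKmax, hN, hKN, ?_⟩
      · intro h
        rw [h] at hgrow
        exact not_lt_bot hgrow
      · exact le_inf (inf_le_right.trans hNK) (inf_le_left.trans hSN)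
    exact absurd (hRmax.le_of_ge hP hgrow.le) (not_le_of_gt hgrow)
  by_cases hK₁ : K = M₁
  · have hK₂ : K ≠ M₂ := fun h => hne (hK₁.symm.trans h)
    have hm₂ := key M₂ h₂ hR₂ hK₂
    by_cases hm₁ : IsMaxP p R M₁
    · exact pair_of_isMaxP hloc h₁ h₂ hne hRp hR₁ hR₂ hm₁ hm₂
    · exact pair_of_isMaxP_one hloc h₂ hRp hR₂ hR₁ hm₂ hm₁
  · have hm₁ := key M₁ h₁ hR₁ hK₁
    by_cases hm₂ : IsMaxP p R M₂
    · exact pair_of_isMaxP hloc h₁ h₂ hne hRp hR₁ hR₂ hm₁ hm₂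
    · exact pair_of_isMaxP_one hloc h₁ hRp hR₁ hR₂ hm₁ hm₂

end main

/-- Two distinct subgroups M₁, M₂ of G form a primitive pair when, for {i, j} = {1, 2}, every non-trivial normal subgroup A of M_i contained in M₁ ∩ M₂ satisfies N_{M_j}(A) = M₁ ∩ M₂; the pair has characteristic p when moreover C_{M_i}(O_p(M_i)) ≤ O_p(M_i) for both i and O_p(M₁)O_p(M₂) ≤ M₁ ∩ M₂. Let G be a finite group, p a prime dividing its order, with O_p(G) = 1 and every p-local subgroup of characteristic p. Then either G has a primitive pair of characteristic p, or every maximal p-local subgroup M of G is strongly p-embedded in G: M is a proper subgroup, p divides its order, and for every g ∉ M the order of M ∩ gMg⁻¹ is prime to p. -/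
theorem result {G : Type*} [Group G] [Finite G] {p : ℕ} [Fact p.Prime] (hloc : Cfsg.IsOfLocalCharacteristic p G) (hOp : Cfsg.pCore p G = ⊥) : (∃ M₁ M₂ : Subgroup G, M₁ ≠ M₂ ∧ (∀ A : Subgroup G, A ≠ ⊥ → A ≤ M₁ ⊓ M₂ → (M₁ ≤ Subgroup.normalizer (A : Set G) → M₂ ⊓ Subgroup.normalizer (A : Set G) = M₁ ⊓ M₂) ∧ (M₂ ≤ Subgroup.normalizer (A : Set G) → M₁ ⊓ Subgroup.normalizer (A : Set G) = M₁ ⊓ M₂)) ∧ Subgroup.centralizer (Cfsg.pCore p ↥M₁ : Set ↥M₁) ≤ Cfsg.pCore p ↥M₁ ∧ Subgroup.centralizer (Cfsg.pCore p ↥M₂ : Set ↥M₂) ≤ Cfsg.pCore p ↥M₂ ∧ (Cfsg.pCore p ↥M₁).map M₁.subtype ⊔ (Cfsg.pCore p ↥M₂).map M₂.subtype ≤ M₁ ⊓ M₂) ∨ (∀ M : Subgroup G, (∃ T : Subgroup G, IsPGroup p T ∧ T ≠ ⊥ ∧ M = Subgroup.normalizer (T : Set G)) → (∀ L : Subgroup G, (∃ T : Subgroup G, IsPGroup p T ∧ T ≠ ⊥ ∧ L = Subgroup.normalizer (T : Set G)) → M ≤ L → L = M) → M ≠ ⊤ ∧ p ∣ Nat.card M ∧ ∀ g : G, g ∉ M → ¬ p ∣ Nat.card ↥(M ⊓ M.map (MulAut.conj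 g).toMonoidHom)) := by
  classical
  by_cases hpair : ∃ M₁ M₂ : Subgroup G, M₁ ≠ M₂ ∧ (∀ A : Subgroup G, A ≠ ⊥ → A ≤ M₁ ⊓ M₂ → (M₁ ≤ Subgroup.normalizer (A : Set G) → M₂ ⊓ Subgroup.normalizer (A : Set G) = M₁ ⊓ M₂) ∧ (M₂ ≤ Subgroup.normalizer (A : Set G) → M₁ ⊓ Subgroup.normalizer (A : Set G) = M₁ ⊓ M₂)) ∧ Subgroup.centralizer (Cfsg.pCore p ↥M₁ : Set ↥M₁) ≤ Cfsg.pCore p ↥M₁ ∧ Subgroup.centralizer (Cfsg.pCore p ↥M₂ : Set ↥M₂) ≤ Cfsg.pCore p ↥M₂ ∧ (Cfsg.pCore p ↥M₁).map M₁.subtype ⊔ (Cfsg.pCore p ↥M₂).map M₂.subtype ≤ M₁ ⊓ M₂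
  · exact Or.inl hpair
  · right
    intro M hMloc hMmax
    have hM : IsMaxLoc p M := ⟨hMloc, hMmax⟩
    obtain ⟨T, hT, hTne, hMT⟩ := hMloc
    have hTM : T ≤ M := by rw [hMT]; exact Subgroup.le_normalizer
    refine ⟨?_, ?_, ?_⟩
    · intro htop
      rw [htop] at hMT
      have hTn : T.Normal := Subgroup.normalizer_eq_top_iff.mp hMT.symm
      apply hTne
      rw [eq_bot_iff, ← hOp]
      exact Cfsg.Agent.Lib.le_pCore hTn hT
    · have h1 : p ∣ Nat.card T := by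
        obtain ⟨k, hk⟩ := IsPGroup.iff_card.mp hT
        rcases Nat.eq_zero_or_pos k with h0 | hpos
        · exfalso
          rw [h0, pow_zero] at hk
          exact hTne (Subgroup.card_eq_one.mp hk)
        · rw [hk]; exact dvd_pow_self p hpos.ne'
      exact h1.trans (Subgroup.card_dvd_of_le hTM)
    · intro g hg hdvd
      exact hpair (exists_pair hloc hM hg hdvd)

end Cfsg.Agent.S3751
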