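import Cfsg.Statements.S3753
import Cfsg.Agent.Helper31.KInfAbove2

set_option autoImplicit false
open Cfsg

namespace Cfsg.Agent.S3753

/-- A group `M` whose `O_p` is trivial and self-centralizing is trivial. -/
theorem eq_bot_of_pCore_eq_bot {G : Type*} [Group G] {p : ℕ} (M : Subgroup G)
    (hc : Subgroup.centralizer (Cfsg.pCore p ↥M : Set ↥M) ≤ Cfsg.pCore p ↥M)
    (h : Cfsg.pCore p ↥M = ⊥) : M = ⊥ := by
  rw [Subgroup.eq_bot_iff_forall]
  intro x hx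
  have h1 : (⟨x, hx⟩ : ↥M) ∈ Subgroup.centralizer (Cfsg.pCore p ↥M : Set ↥M) := by
    rw [Subgroup.mem_centralizer_iff]
    intro y hy
    rw [h] at hy
    have : y = 1 := Subgroup.mem_bot.mp hy
    rw [this, one_mul, mul_one]
  have h2 := hc h1
  rw [h, Subgroup.mem_bot] at h2
  exact congrArg Subtype.val h2

/-- The final contradiction: a nontrivial subgroup of `M₁ ∩ M₂` normalized by both `M₁` and `M₂`. -/
theorem false_of_common_normal {G : Type*} [Group G] (M₁ M₂ : Subgroup G) (hne : M₁ ≠ M₂)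
    (hP : ∀ A : Subgroup G, A ≠ ⊥ → A ≤ M₁ ⊓ M₂ → (M₁ ≤ Subgroup.normalizer (A : Set G) → M₂ ⊓ Subgroup.normalizer (A : Set G) = M₁ ⊓ M₂) ∧ (M₂ ≤ Subgroup.normalizer (A : Set G) → M₁ ⊓ Subgroup.normalizer (A : Set G) = M₁ ⊓ M₂))
    (K : Subgroup G) (hK : K ≠ ⊥) (hKD : K ≤ M₁ ⊓ M₂)
    (h1 : M₁ ≤ Subgroup.normalizer (K : Set G)) (h2 : M₂ ≤ Subgroup.normalizer (K : Set G)) :
    False := by
  obtain ⟨ha, hb⟩ := hP K hK hKD
  have e1 := ha h1
  have e2 := hb h2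
  rw [inf_eq_left.mpr h2] at e1
  rw [inf_eq_left.mpr h1] at e2
  apply hne
  apply le_antisymm
  · rw [e2]; exact inf_le_right
  · rw [e1]; exact inf_le_left

/-- A normal subgroup of `↥M`, mapped to `G`, is normalized by `M`. -/
theorem le_normalizer_map_of_normal {G : Type*} [Group G] (M : Subgroup G) (N : Subgroup ↥M)
    (hN : N.Normal) : M ≤ Subgroup.normalizer ((N.map M.subtype : Subgroup G) : Set G) := by
  intro m hm
  rw [Subgroup.mem_normalizer_iff]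
  intro x
  constructor
  · rintro ⟨y, hy, rfl⟩
    exact ⟨⟨m, hm⟩ * y * ⟨m, hm⟩⁻¹, hN.conj_mem y hy ⟨m, hm⟩, by simp⟩
  · rintro ⟨y, hy, hyx⟩
    have h1 := hN.conj_mem y hy ⟨m, hm⟩⁻¹
    refine ⟨⟨m, hm⟩⁻¹ * y * ⟨m, hm⟩⁻¹⁻¹, h1, ?_⟩
    have : (M.subtype y : G) = m * x * m⁻¹ := hyx
    simp only [map_mul, map_inv, Subgroup.subtype_apply, inv_inv]
    rw [Subgroup.subtype_apply] at this
    rw [this]; group

/-- Two distinct subgroups M₁, M₂ of G form a primitive pair when, for {i, j} = {1, 2}, every non-trivial normal subgroup A of M_i contained in M₁ ∩ M₂ satisfies N_{M_j}(A) = M₁ ∩ M₂; the pair has characteristic p when moreover C_{M_i}(O_p(M_i)) ≤ O_p(M_i) for both i and O_p(M₁)O_p(M₂) ≤ M₁ ∩ M₂. If the finite group G has a primitive pair (M₁, M₂) of characteristic p for some prime p, then M₁ or M₂ has non-abelian Sylow 2-subgroups. In particular no group of odd order has a primitive pair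 of characteristic p. -/
theorem result {G : Type*} [Group G] [Finite G] {p : ℕ} [Fact p.Prime] (M₁ M₂ : Subgroup G) (hne : M₁ ≠ M₂) (hP : ∀ A : Subgroup G, A ≠ ⊥ → A ≤ M₁ ⊓ M₂ → (M₁ ≤ Subgroup.normalizer (A : Set G) → M₂ ⊓ Subgroup.normalizer (A : Set G) = M₁ ⊓ M₂) ∧ (M₂ ≤ Subgroup.normalizer (A : Set G) → M₁ ⊓ Subgroup.normalizer (A : Set G) = M₁ ⊓ M₂)) (hc₁ : Subgroup.centralizer (Cfsg.pCore p ↥M₁ : Set ↥M₁) ≤ Cfsg.pCore p ↥M₁) (hc₂ : Subgroup.centralizer (Cfsg.pCore p ↥M₂ : Set ↥M₂) ≤ Cfsg.pCore p ↥M₂) (hO : (Cfsg.pCore p ↥M₁).map M₁.subtype ⊔ (Cfsg.pCore p ↥M₂).map M₂.subtype ≤ M₁ ⊓ M₂) : (∃ S : Sylow 2 ↥M₁, ¬ IsMulCommutative (S : Subgroup ↥M₁)) ∨ (∃ S : Sylow 2 ↥M₂, ¬ IsMulCommutative (S : Subgroup ↥M₂)) := by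
  by_contra hcon
  push Not at hcon
  obtain ⟨hab₁, hab₂⟩ := hcon
  have hQ₁D : (Cfsg.pCore p ↥M₁).map M₁.subtype ≤ M₁ ⊓ M₂ := le_sup_left.trans hO
  have hQ₂D : (Cfsg.pCore p ↥M₂).map M₂.subtype ≤ M₁ ⊓ M₂ := le_sup_right.trans hO
  haveI hn₁ : (Cfsg.pCore p ↥M₁).Normal := Cfsg.Agent.Helper33.pCore_normal p
  haveI hn₂ : (Cfsg.pCore p ↥M₂).Normal := Cfsg.Agent.Helper33.pCore_normal p
  have hp₁ : IsPGroup p (Cfsg.pCore p ↥M₁) := Cfsg.Agent.Helper33.pCore_isPGroup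
  have hp₂ : IsPGroup p (Cfsg.pCore p ↥M₂) := Cfsg.Agent.Helper33.pCore_isPGroup
  -- `O_p(M₁) ≠ 1`
  have hQ₁ne : (Cfsg.pCore p ↥M₁).map M₁.subtype ≠ ⊥ := by
    intro h
    rw [Subgroup.map_eq_bot_iff_of_injective _ M₁.subtype_injective] at h
    have hM₁ : M₁ = ⊥ := eq_bot_of_pCore_eq_bot M₁ hc₁ h
    have h2 : (Cfsg.pCore p ↥M₂).map M₂.subtype = ⊥ := by
      rw [eq_bot_iff]
      refine hQ₂D.trans ?_
      rw [hM₁]; exact inf_le_left
    rw [Subgroup.map_eq_bot_iff_of_injective _ M₂.subtype_injective] at h2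
    have hM₂ : M₂ = ⊥ := eq_bot_of_pCore_eq_bot M₂ hc₂ h2
    exact hne (hM₁.trans hM₂.symm)
  -- a Sylow `p`-subgroup of `M₁ ∩ M₂`
  obtain ⟨S₀⟩ : Nonempty (Sylow p ↥(M₁ ⊓ M₂)) := inferInstance
  obtain ⟨S, hS⟩ : ∃ S : Subgroup G, S = (S₀ : Subgroup ↥(M₁ ⊓ M₂)).map (M₁ ⊓ M₂).subtype :=
    ⟨_, rfl⟩
  have hSp : IsPGroup p S := hS ▸ S₀.2.map _
  have hSD : S ≤ M₁ ⊓ M₂ := hS ▸ Subgroup.map_subtype_le _
  -- normal `p`-subgroups of `M_i` inside `M₁ ∩ M₂` lie in `S`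
  have hle : ∀ (M : Subgroup G) (N : Subgroup ↥M), N.Normal → IsPGroup p N → M₁ ⊓ M₂ ≤ M →
      N.map M.subtype ≤ M₁ ⊓ M₂ → N.map M.subtype ≤ S := by
    intro M N hN hNp hDM hND
    haveI : ((N.map M.subtype).subgroupOf (M₁ ⊓ M₂)).Normal := by
      constructor
      intro x hx d
      rw [Subgroup.mem_subgroupOf] at hx ⊢
      have hd : (d : G) ∈ M := hDM d.2
      have := le_normalizer_map_of_normal M N hN hd
      rw [Subgroup.mem_normalizer_iff] at this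
      have h3 := (this (x : G)).mp hx
      simpa using h3
    have hp' : IsPGroup p ((N.map M.subtype).subgroupOf (M₁ ⊓ M₂)) :=
      (hNp.map M.subtype).comap_subtype
    have h4 := hp'.le_sylow_of_normal S₀
    intro x hx
    rw [hS]
    exact ⟨⟨x, hND hx⟩, h4 (Subgroup.mem_subgroupOf.mpr hx), rfl⟩
  have hQ₁S : (Cfsg.pCore p ↥M₁).map M₁.subtype ≤ S := hle M₁ _ hn₁ hp₁ inf_le_left hQ₁D
  have hQ₂S : (Cfsg.pCore p ↥M₂).map M₂.subtype ≤ S := hle M₂ _ hn₂ hp₂ inf_le_right hQ₂D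
  by_cases hp2 : p = 2
  · -- `p = 2`: the abelian Sylow `2`-subgroups are `O_2(M_i)`, hence equal
    subst hp2
    -- every `2`-subgroup `R` of `M` containing `O_2(M)` equals `O_2(M)`
    have key : ∀ (M : Subgroup G), (∀ T : Sylow 2 ↥M, IsMulCommutative (T : Subgroup ↥M)) →
        Subgroup.centralizer (Cfsg.pCore 2 ↥M : Set ↥M) ≤ Cfsg.pCore 2 ↥M →
        ∀ R : Subgroup G, IsPGroup 2 R → R ≤ M → R ≤ (Cfsg.pCore 2 ↥M).map M.subtype := by
      intro M hab hc R hRp hRM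
      obtain ⟨T, hT⟩ := (hRp.comap_subtype (K := M)).exists_le_sylow
      have hTQ : (T : Subgroup ↥M) ≤ Cfsg.pCore 2 ↥M := by
        refine le_trans ?_ hc
        intro t ht
        rw [Subgroup.mem_centralizer_iff]
        intro y hy
        have hyT : y ∈ (T : Subgroup ↥M) := Cfsg.Agent.Helper33.pCore_le_sylow T hy
        have := (hab T).is_comm.comm ⟨y, hyT⟩ ⟨t, ht⟩
        exact congrArg Subtype.val this
      intro x hx
      exact ⟨⟨x, hRM hx⟩, hTQ (hT (Subgroup.mem_subgroupOf.mpr hx)), rfl⟩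
    have e1 : (Cfsg.pCore 2 ↥M₁).map M₁.subtype ≤ (Cfsg.pCore 2 ↥M₂).map M₂.subtype :=
      key M₂ hab₂ hc₂ _ (hp₁.map _) (hQ₁D.trans inf_le_right)
    have e2 : (Cfsg.pCore 2 ↥M₂).map M₂.subtype ≤ (Cfsg.pCore 2 ↥M₁).map M₁.subtype :=
      key M₁ hab₁ hc₁ _ (hp₂.map _) (hQ₂D.trans inf_le_left)
    have e : (Cfsg.pCore 2 ↥M₁).map M₁.subtype = (Cfsg.pCore 2 ↥M₂).map M₂.subtype :=
      le_antisymm e1 e2
    refine false_of_common_normal M₁ M₂ hne hP _ hQ₁ne hQ₁D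
      (le_normalizer_map_of_normal M₁ _ hn₁) ?_
    rw [e]
    exact le_normalizer_map_of_normal M₂ _ hn₂
  · -- `p` odd: Glauberman's `K_∞(S)` is normal in both `M₁` and `M₂`
    have hW := Cfsg.Agent.Helper33.isCharPFunctor_kInfLower p
    have hnorm : ∀ (M : Subgroup G), (∀ T : Sylow 2 ↥M, IsMulCommutative (T : Subgroup ↥M)) →
        Subgroup.centralizer (Cfsg.pCore p ↥M : Set ↥M) ≤ Cfsg.pCore p ↥M → S ≤ M →
        (Cfsg.pCore p ↥M).map M.subtype ≤ S →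
        M ≤ Subgroup.normalizer ((Cfsg.inducedFunctor Cfsg.kInfLower S : Subgroup G) : Set G) := by
      intro M hab hc hSM hQS
      obtain ⟨T2⟩ : Nonempty (Sylow 2 ↥M) := inferInstance
      have hTR : Cfsg.pCore p ↥M ≤ S.subgroupOf M := by
        intro x hx
        rw [Subgroup.mem_subgroupOf]
        exact hQS ⟨x, hx, rfl⟩
      have hN := Cfsg.Agent.Helper31.KA.kInfLower_normal_of_pCore_le hp2 T2 (hab T2) hc
        (S.subgroupOf M) hSp.comap_subtype hTR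
      have := le_normalizer_map_of_normal M _ hN
      rwa [Cfsg.Agent.Helper31.KA.inducedFunctor_map_subtype hW M S hSM hSp] at this
    have hK₁ := hnorm M₁ hab₁ hc₁ (hSD.trans inf_le_left) hQ₁S
    have hK₂ := hnorm M₂ hab₂ hc₂ (hSD.trans inf_le_right) hQ₂S
    have hKS : Cfsg.inducedFunctor Cfsg.kInfLower S ≤ S := by
      unfold Cfsg.inducedFunctor
      exact Subgroup.map_subtype_le _
    have hSne : S ≠ ⊥ := by
      intro h
      apply hQ₁ne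
      rw [eq_bot_iff, ← h]
      exact hQ₁S
    have hKne : Cfsg.inducedFunctor Cfsg.kInfLower S ≠ ⊥ := by
      unfold Cfsg.inducedFunctor
      rw [Ne, Subgroup.map_eq_bot_iff_of_injective _ S.subtype_injective]
      haveI : Nontrivial ↥S := (Subgroup.nontrivial_iff_ne_bot S).mpr hSne
      exact hW.1 ↥S hSp inferInstance
    exact false_of_common_normal M₁ M₂ hne hP _ hKne (hKS.trans hSD) hK₁ hK₂

end Cfsg.Agent.S3753
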