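import Cfsg.Statements.S3760

set_option autoImplicit false
open Cfsg

namespace Cfsg.Agent.S3760

theorem conj_map_conj {G : Type*} [Group G] (K : Subgroup G) (g h : G) :
    (K.map (MulAut.conj h).toMonoidHom).map (MulAut.conj g).toMonoidHom
      = K.map (MulAut.conj (g * h)).toMonoidHom := by
  rw [Subgroup.map_map]
  congr 1
  ext x
  simp [mul_assoc]

theorem conj_map_eq_self_of_mem_normalizer {G : Type*} [Group G] (K : Subgroup G) (n : G)
    (hn : n ∈ Subgroup.normalizer (K : Set G)) :
    K.map (MulAut.conj n).toMonoidHom = K := by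
  ext y
  simp only [Subgroup.mem_map, MulEquiv.coe_toMonoidHom, MulAut.conj_apply]
  constructor
  · rintro ⟨k, hk, rfl⟩
    exact (Subgroup.mem_normalizer_iff.mp hn k).mp hk
  · intro hy
    refine ⟨n⁻¹ * y * n, ?_, by group⟩
    have := (Subgroup.mem_normalizer_iff.mp hn (n⁻¹ * y * n))
    rw [this]
    have e : n * (n⁻¹ * y * n) * n⁻¹ = y := by group
    rw [e]; exact hy

theorem mem_normalizer_of_conj_map_eq_self {G : Type*} [Group G] (K : Subgroup G) (n : G)
    (hn : K.map (MulAut.conj n).toMonoidHom = K) :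
    n ∈ Subgroup.normalizer (K : Set G) := by
  rw [Subgroup.mem_normalizer_iff]
  intro k
  constructor
  · intro hk
    rw [← hn]
    exact ⟨k, hk, rfl⟩
  · intro hk
    rw [← hn] at hk
    obtain ⟨k', hk', e⟩ := hk
    simp only [MulEquiv.coe_toMonoidHom, MulAut.conj_apply] at e
    have : k' = k := by
      have := congrArg (fun t => n⁻¹ * t * n) e
      simpa [mul_assoc] using this
    rw [← this]; exact hk'

/-- Let the group G act transitively on a set X, let x ∈ X with stabilizer H = G_x, and let K ≤ H. Then N_G(K) acts transitively on the set of fixed points of K if and only if every G-conjugate of K contained in H is already an H-conjugate of K. -/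
theorem result {G : Type*} [Group G] {X : Type*} [MulAction G X] (htrans : ∀ a b : X, ∃ g : G, g • a = b) (x : X) (K : Subgroup G) (hK : K ≤ MulAction.stabilizer G x) : (∀ a b : X, (∀ k ∈ K, k • a = a) → (∀ k ∈ K, k • b = b) → ∃ g ∈ Subgroup.normalizer (K : Set G), g • a = b) ↔ ∀ g : G, K.map (MulAut.conj g).toMonoidHom ≤ MulAction.stabilizer G x → ∃ h ∈ MulAction.stabilizer G x, K.map (MulAut.conj g).toMonoidHom = K.map (MulAut.conj h).toMonoidHom := by
  constructor
  · intro H g hg
    have hfix1 : ∀ k ∈ K, k • x = x := fun k hk => hK hk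
    have hfix2 : ∀ k ∈ K, k • (g⁻¹ • x) = g⁻¹ • x := by
      intro k hk
      have : (g * k * g⁻¹) ∈ MulAction.stabilizer G x := hg ⟨k, hk, rfl⟩
      rw [MulAction.mem_stabilizer_iff] at this
      calc k • (g⁻¹ • x) = g⁻¹ • ((g * k * g⁻¹) • x) := by
            simp only [smul_smul]
            congr 1
            group
        _ = g⁻¹ • x := by rw [this]
    obtain ⟨n, hn, hnx⟩ := H x (g⁻¹ • x) hfix1 hfix2
    refine ⟨g * n, ?_, ?_⟩
    · rw [MulAction.mem_stabilizer_iff, mul_smul, hnx, smul_smul]
      simp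
    · rw [← conj_map_conj, conj_map_eq_self_of_mem_normalizer K n hn]
  · intro H a b ha hb
    -- key: for any K-fixed point c, there is n ∈ N(K) with n • x = c
    have key : ∀ c : X, (∀ k ∈ K, k • c = c) → ∃ n ∈ Subgroup.normalizer (K : Set G), n • x = c := by
      intro c hc
      obtain ⟨u, hu⟩ := htrans x c
      have hle : K.map (MulAut.conj u⁻¹).toMonoidHom ≤ MulAction.stabilizer G x := by
        rintro y ⟨k, hk, rfl⟩
        simp only [MulEquiv.coe_toMonoidHom, MulAut.conj_apply, inv_inv]
        rw [MulAction.mem_stabilizer_iff, mul_smul, mul_smul, hu, hc k hk, ← hu, smul_smul]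
        simp
      obtain ⟨h, hh, he⟩ := H u⁻¹ hle
      refine ⟨u * h, ?_, ?_⟩
      · apply mem_normalizer_of_conj_map_eq_self
        rw [← conj_map_conj, ← he, conj_map_conj, mul_inv_cancel]
        ext y
        simp
      · rw [mul_smul, MulAction.mem_stabilizer_iff.mp hh, hu]
    obtain ⟨n₁, hn₁, e₁⟩ := key a ha
    obtain ⟨n₂, hn₂, e₂⟩ := key b hb
    refine ⟨n₂ * n₁⁻¹, Subgroup.mul_mem _ hn₂ (Subgroup.inv_mem _ hn₁), ?_⟩
    rw [← e₁, smul_smul]
    simp [e₂]

end Cfsg.Agent.S3760
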