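import Cfsg.Statements.S3768
import Mathlib
import Cfsg.Agent.Helper63.Frobenius

set_option autoImplicit false
open Cfsg

namespace Cfsg.Agent.S3768

open Cfsg.Agent.Helper63
open scoped Pointwise

/-- Let G be a finite Frobenius group with Frobenius complement R and Frobenius kernel K (the identity together with the elements in no conjugate of R), and let N be a normal subgroup of G not containing K. Then G/N is a Frobenius group with Frobenius complement RN/N whose Frobenius kernel is the image of K. -/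
theorem result {G : Type*} [Group G] [Finite G] (R : Subgroup G) (hR : Cfsg.IsFrobeniusComplement R) (N : Subgroup G) [N.Normal] (hKN : ¬ Cfsg.frobeniusKernel R ⊆ N) : Cfsg.IsFrobeniusComplement (R.map (QuotientGroup.mk' N)) ∧ Cfsg.frobeniusKernel (R.map (QuotientGroup.mk' N)) = QuotientGroup.mk' N '' Cfsg.frobeniusKernel R := by
  -- N ∩ R = 1
  have hNR : N ⊓ R = ⊥ := by
    by_contra h
    exact hKN (frob_kernel_subset_of_inf_ne_bot hR N h)
  have hNK : (N : Set G) ⊆ Cfsg.frobeniusKernel R := frob_subset_kernel_of_inf_eq_bot N hNR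
  have hπ1 : ∀ x : G, QuotientGroup.mk' N x = 1 ↔ x ∈ N := fun x => QuotientGroup.eq_one_iff x
  have hπeq : ∀ x y : G, QuotientGroup.mk' N x = QuotientGroup.mk' N y ↔ x⁻¹ * y ∈ N := by
    intro x y
    exact QuotientGroup.eq
  have hsurj := QuotientGroup.mk'_surjective N
  -- key: an element of (g r g⁻¹) N outside N lies in a conjugate of R
  have key : ∀ y : G, y ∉ N → (∃ r ∈ R, QuotientGroup.mk' N y = QuotientGroup.mk' N r) →
      ∃ n ∈ N, ∃ x ∈ R, y = n * x * n⁻¹ := by
    intro y hyN ⟨r, hr, hyr⟩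
    apply frob_exists_conj hR N hNR _ hyN
    have h1 : r⁻¹ * y ∈ N := (hπeq r y).mp hyr.symm
    have : y = r * (r⁻¹ * y) := by group
    rw [this]
    exact Subgroup.mul_mem _ (Subgroup.mem_sup_right hr) (Subgroup.mem_sup_left h1)
  refine ⟨⟨?_, ?_, ?_⟩, ?_⟩
  · -- R̄ ≠ ⊥
    intro h
    rw [Subgroup.map_eq_bot_iff, QuotientGroup.ker_mk'] at h
    apply hR.1
    rw [eq_bot_iff, ← hNR]
    exact le_inf h le_rfl
  · -- R̄ ≠ ⊤
    intro h
    apply hKN
    have htop : R ⊔ N = ⊤ := by
      have := congrArg (Subgroup.comap (QuotientGroup.mk' N)) h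
      rwa [Subgroup.comap_map_eq, QuotientGroup.ker_mk', Subgroup.comap_top] at this
    intro y hyK
    by_contra hyN
    have hy : y ∈ N ⊔ R := by rw [sup_comm, htop]; trivial
    obtain ⟨n, _, x, hx, rfl⟩ := frob_exists_conj hR N hNR hy hyN
    rw [mem_frobeniusKernel_iff] at hyK
    rcases hyK with h1 | h2
    · apply hyN; rw [h1]; exact N.one_mem
    · apply h2 n
      have : n⁻¹ * (n * x * n⁻¹) * n = x := by group
      rw [this]; exact hx
  · -- malnormality
    intro gbar hgbar
    obtain ⟨g, rfl⟩ := hsurj gbar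
    rw [eq_bot_iff]
    intro xbar hxbar
    rw [Subgroup.mem_bot]
    by_contra hx1
    obtain ⟨h1, h2⟩ := Subgroup.mem_inf.mp hxbar
    obtain ⟨r₁, hr₁, rfl⟩ := h1
    rw [mem_conj_smul] at h2
    obtain ⟨r₂, hr₂, h3⟩ := h2
    -- y := g r₂ g⁻¹ ≡ r₁ mod N
    set y := g * r₂ * g⁻¹ with hy
    have hyr : QuotientGroup.mk' N y = QuotientGroup.mk' N r₁ := by
      rw [hy, map_mul, map_mul, map_inv, h3]
      group
    have hyN : y ∉ N := by
      intro h
      apply hx1
      rw [← hyr]
      exact (hπ1 y).mpr h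
    obtain ⟨n, hn, x, hx, hyx⟩ := key y hyN ⟨r₁, hr₁, hyr⟩
    have hy1 : y ≠ 1 := fun h => hyN (h ▸ N.one_mem)
    have h4 : g⁻¹ * y * g ∈ R := by
      have : g⁻¹ * y * g = r₂ := by rw [hy]; group
      rw [this]; exact hr₂
    have h5 : n⁻¹ * y * n ∈ R := by
      have : n⁻¹ * y * n = x := by rw [hyx]; group
      rw [this]; exact hx
    have h6 := frob_conj_eq hR hy1 h5 h4
    -- g ∈ n R
    apply hgbar
    refine ⟨n⁻¹ * g, h6, ?_⟩
    rw [map_mul, map_inv, (hπ1 n).mpr hn, inv_one, one_mul]
  · -- the kernel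
    ext xbar
    obtain ⟨x, rfl⟩ := hsurj xbar
    rw [mem_frobeniusKernel_iff]
    constructor
    · rintro (h | h)
      · exact ⟨1, Or.inl rfl, by rw [map_one, h]⟩
      · refine ⟨x, ?_, rfl⟩
        rw [mem_frobeniusKernel_iff]
        right
        intro g hg
        apply h (QuotientGroup.mk' N g)
        refine ⟨g⁻¹ * x * g, hg, ?_⟩
        rw [map_mul, map_mul, map_inv]
    · rintro ⟨x', hx'K, hx'⟩
      by_cases hx'N : x' ∈ N
      · left
        rw [← hx']
        exact (hπ1 x').mpr hx'N
      · right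
        intro gbar hg
        obtain ⟨g, rfl⟩ := hsurj gbar
        obtain ⟨r, hr, hr'⟩ := hg
        -- y = g⁻¹ x' g ≡ r mod N
        set y := g⁻¹ * x' * g with hy
        have hyr : QuotientGroup.mk' N y = QuotientGroup.mk' N r := by
          rw [hr', hy, ← hx', map_mul, map_mul, map_inv]
        have hyN : y ∉ N := by
          intro h
          apply hx'N
          have : x' = g * y * g⁻¹ := by rw [hy]; group
          rw [this]
          exact Subgroup.Normal.conj_mem inferInstance y h g
        obtain ⟨n, _, z, hz, hyz⟩ := key y hyN ⟨r, hr, hyr⟩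
        rw [mem_frobeniusKernel_iff] at hx'K
        rcases hx'K with h1 | h2
        · apply hx'N; rw [h1]; exact N.one_mem
        · apply h2 (g * n)
          have : (g * n)⁻¹ * x' * (g * n) = n⁻¹ * y * n := by rw [hy]; group
          rw [this, hyz]
          have : n⁻¹ * (n * z * n⁻¹) * n = z := by group
          rw [this]; exact hz

end Cfsg.Agent.S3768
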