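import Cfsg.Statements.S3770
import Cfsg.Agent.Helper62.FrobActComm
import Cfsg.Agent.Helper75.FrobeniusKernel

set_option autoImplicit false
open Cfsg
open scoped Pointwise

namespace Cfsg.Agent.S3770

/-- Let G and V be subgroups of a finite group with G a Frobenius group with complement R of prime order and kernel K, G normalizing V, and V an elementary abelian ℓ-group for a prime ℓ not dividing the order of G. If C_V(R) has order ℓ, then the derived subgroup of K centralizes V. -/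
theorem result {X : Type*} [Group X] [Finite X] (G : Subgroup X) (V : Subgroup X) {ℓ : ℕ} (hℓ : ℓ.Prime) (hV : Cfsg.IsElementaryAbelian ℓ V) (hℓG : ¬ ℓ ∣ Nat.card G) (hGV : G ≤ Subgroup.normalizer (V : Set X)) (R : Subgroup ↥G) (hR : Cfsg.IsFrobeniusComplement R) (hRp : (Nat.card R).Prime) (hCV : Nat.card ↥(V ⊓ Subgroup.centralizer ((R.map G.subtype : Subgroup X) : Set X)) = ℓ) : ⁅Subgroup.closure (Subtype.val '' Cfsg.frobeniusKernel R), Subgroup.closure (Subtype.val '' Cfsg.frobeniusKernel R)⁆ ≤ Subgroup.centralizer (V : Set X) := by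
  haveI : Fact ℓ.Prime := ⟨hℓ⟩
  obtain ⟨N, hNset, hNn, hNc⟩ := Cfsg.Agent.Helper75.frobenius_kernel_theorem R hR
  haveI := hNn
  set U : Subgroup X := N.map G.subtype with hU
  set E : Subgroup X := R.map G.subtype with hE
  have hcl : Subgroup.closure (Subtype.val '' Cfsg.frobeniusKernel R) = U := by
    rw [← hNset]
    have : (Subtype.val '' (N : Set ↥G)) = ((N.map G.subtype : Subgroup X) : Set X) := by
      rw [Subgroup.coe_map]
      rfl
    rw [this, Subgroup.closure_eq]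
  rw [hcl]
  have hdisj : N ⊓ R = ⊥ := disjoint_iff.mp hNc.disjoint
  have hE1 : E ≠ ⊥ := by
    intro h
    apply hR.1
    rw [eq_bot_iff]
    intro r hr
    have : (r : X) ∈ E := ⟨r, hr, rfl⟩
    rw [h, Subgroup.mem_bot] at this
    exact Subgroup.mem_bot.mpr (Subtype.ext this)
  have hUn : ∀ e ∈ E, ∀ u ∈ U, e * u * e⁻¹ ∈ U := by
    rintro _ ⟨r, _, rfl⟩ _ ⟨n, hn, rfl⟩
    exact ⟨r * n * r⁻¹, hNn.conj_mem n hn r, by simp⟩
  have hfpf : ∀ e ∈ E, e ≠ 1 → ∀ u ∈ U, e * u = u * e → u = 1 := by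
    rintro _ ⟨r, hr, rfl⟩ hr1 _ ⟨n, hn, rfl⟩ hcomm
    have hr1' : r ≠ 1 := fun h => hr1 (by rw [h]; rfl)
    have hcomm' : r * n = n * r := Subtype.ext hcomm
    have hnR : n ∈ R := by
      by_contra hnot
      have h2 := hR.2.2 n hnot
      have h3 : r ∈ R ⊓ (MulAut.conj n • R) := by
        refine Subgroup.mem_inf.mpr ⟨hr, ?_⟩
        rw [Subgroup.mem_pointwise_smul_iff_inv_smul_mem]
        simp only [MulAut.smul_def, ← map_inv, MulAut.conj_apply, inv_inv]
        have : n⁻¹ * r * n = r := by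
          rw [mul_assoc, hcomm', inv_mul_cancel_left]
        rw [this]
        exact hr
      rw [h2, Subgroup.mem_bot] at h3
      exact hr1' h3
    have h4 : n ∈ N ⊓ R := Subgroup.mem_inf.mpr ⟨hn, hnR⟩
    rw [hdisj, Subgroup.mem_bot] at h4
    rw [h4]
    rfl
  have hUG : U ≤ G := by
    rintro _ ⟨n, _, rfl⟩
    exact n.2
  have hEG : E ≤ G := by
    rintro _ ⟨r, _, rfl⟩
    exact r.2
  have hSG : U ⊔ E ≤ G := sup_le hUG hEG
  have hVn : ∀ x ∈ U ⊔ E, ∀ m ∈ V, x * m * x⁻¹ ∈ V := by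
    intro x hx m hm
    exact (Subgroup.mem_normalizer_iff.mp (hGV (hSG hx)) m).mp hm
  have hsolv : Group.IsSolvable V :=
    Group.isSolvable_of_comm (fun a b => hV.1.is_comm.comm a b)
  have hpV : IsPGroup ℓ V := by
    intro g
    refine ⟨1, ?_⟩
    apply Subtype.ext
    rw [pow_one, Subgroup.coe_pow]
    exact hV.2 g g.2
  obtain ⟨k, hk⟩ := hpV.exists_card_eq
  have hcop : Nat.Coprime (Nat.card V) (Nat.card ↥(U ⊔ E)) := by
    rw [hk]
    apply Nat.Coprime.pow_left
    rw [Nat.Prime.coprime_iff_not_dvd hℓ]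
    intro hd
    exact hℓG (hd.trans (Subgroup.card_dvd_of_le hSG))
  have hcyc : IsCyclic ↥(V ⊓ Subgroup.centralizer (E : Set X)) :=
    isCyclic_of_prime_card hCV
  exact Cfsg.Agent.Helper62.FrobAct.frobenius_commutator_centralizes U E hE1 hUn hfpf _ V rfl
    hVn hsolv hcop hcyc

end Cfsg.Agent.S3770
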