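-- Statement S3772: the number of solutions of x^2 = 1 in a 2-group with |Φ(G)| = 2.
import Cfsg.Statements.S3772
import Cfsg.Agent.Helper63.InvCount
import Cfsg.Agent.Helper63.PGroup
import Cfsg.Agent.Helper63.Frattini

set_option autoImplicit false
open Cfsg

namespace Cfsg.Agent.S3772

open Cfsg.Agent.Helper63
open scoped commutatorElement

/-- If `m ^ 2 = 2 ^ k` then `k = 2 * i` and `m = 2 ^ i`. -/
theorem sq_eq_two_pow {m k : ℕ} (h : m ^ 2 = 2 ^ k) : ∃ i, k = 2 * i ∧ m = 2 ^ i := by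
  have hdvd : m ∣ 2 ^ k := by rw [← h]; exact dvd_pow_self m (by norm_num)
  obtain ⟨i, -, hi⟩ := (Nat.dvd_prime_pow Nat.prime_two).mp hdvd
  refine ⟨i, ?_, hi⟩
  rw [hi, ← pow_mul] at h
  have := Nat.pow_right_injective (le_refl 2) h
  omega

/-- Let G be a finite 2-group whose Frattini subgroup Φ(G) has order 2, with |G : Φ(G)| = 2^d, and let j be the number of elements x of G with x² = 1. Then j = 2^d, or j = 2^d + 2^(d−r) or j = 2^d − 2^(d−r) for some positive integer r with 2r ≤ d. Moreover if d = 2r and j is 2^d + 2^r or 2^d − 2^r, then G is extraspecial. -/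
theorem result {G : Type*} [Group G] [Finite G] (hG : IsPGroup 2 G) (hΦ : Nat.card (frattini G) = 2) (d : ℕ) (hd : (frattini G).index = 2 ^ d) : (Nat.card {x : G // x ^ 2 = 1} = 2 ^ d ∨ ∃ r : ℕ, 1 ≤ r ∧ 2 * r ≤ d ∧ (Nat.card {x : G // x ^ 2 = 1} = 2 ^ d + 2 ^ (d - r) ∨ Nat.card {x : G // x ^ 2 = 1} + 2 ^ (d - r) = 2 ^ d)) ∧ (∀ r : ℕ, d = 2 * r → (Nat.card {x : G // x ^ 2 = 1} = 2 ^ d + 2 ^ r ∨ Nat.card {x : G // x ^ 2 = 1} + 2 ^ r = 2 ^ d) → Cfsg.IsExtraspecial 2 G) := by
  classical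
  have hfin : Fintype G := Fintype.ofFinite G
  have hp2 : Fact (Nat.Prime 2) := ⟨Nat.prime_two⟩
  have hΦn : (frattini G).Normal := inferInstance
  have hΦc : frattini G ≤ Subgroup.center G :=
    le_center_of_normal_of_card_eq_prime hG (frattini G) hΦ
  have hsq : ∀ x : G, x ^ 2 ∈ frattini G := pow_prime_mem_frattini hG
  have hcomm : ∀ x y : G, ⁅x, y⁆ ∈ frattini G := by
    intro a b
    have h1 : ⁅a, b⁆ = (a * b) ^ 2 * (b⁻¹ * (a⁻¹) ^ 2 * b⁻¹⁻¹) * (b⁻¹) ^ 2 := by
      rw [commutatorElement_def]; simp only [pow_two]; group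
    rw [h1]
    exact mul_mem (mul_mem (hsq _) (hΦn.conj_mem _ (hsq a⁻¹) b⁻¹)) (hsq _)
  have hcard : Nat.card G = 2 ^ (d + 1) := by
    rw [← Subgroup.card_mul_index (frattini G), hΦ, hd, pow_succ, mul_comm]
  have hcardZ : (Fintype.card G : ℤ) = 2 ^ (d + 1) := by
    rw [← Nat.card_eq_fintype_card, hcard]; push_cast; rfl
  have hS := sum_sgnOne_sq_eq (G := G)
  have hSS := sq_sum_sgnOne hΦ hΦc hsq hcomm
  have hT := sum_center_sgnOne hΦ hsq
  -- exponent 2 is impossible
  have hexp : ¬ ∀ x : G, x ^ 2 = 1 := by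
    intro h
    have := frattini_eq_bot_of_sq_eq_one h
    rw [this, Subgroup.card_bot] at hΦ
    omega
  set j := Nat.card {x : G // x ^ 2 = 1} with hj
  rw [hS, hcardZ] at hSS
  set T := ∑ u : G, (if u ∈ Subgroup.center G then sgnOne (u ^ 2) else 0) with hTdef
  -- `4 (j - 2^d)^2 = 2^(d+1) T`
  have hmain : ((j : ℤ) - 2 ^ d) ^ 2 * 2 = 2 ^ d * T := by
    have h4 : (2 * (j : ℤ) - 2 ^ (d + 1)) ^ 2 = 4 * ((j : ℤ) - 2 ^ d) ^ 2 := by ring
    have h5 : (2 : ℤ) ^ (d + 1) * T = 2 * (2 ^ d * T) := by rw [pow_succ]; ring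
    rw [h4, h5] at hSS
    linarith
  -- the order of the centre
  obtain ⟨c, hc⟩ := (hG.to_subgroup (Subgroup.center G)).exists_card_eq
  have hc1 : 1 ≤ c := by
    have h1 : Nat.card (frattini G) ∣ Nat.card (Subgroup.center G) := Subgroup.card_dvd_of_le hΦc
    rw [hΦ, hc] at h1
    by_contra h0
    have : c = 0 := by omega
    rw [this, pow_zero] at h1
    exact absurd (Nat.le_of_dvd one_pos h1) (by norm_num)
  have hcd : c ≤ d + 1 := by
    have h1 : Nat.card (Subgroup.center G) ∣ Nat.card G := Subgroup.card_subgroup_dvd_card _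
    rw [hc, hcard] at h1
    exact (Nat.pow_dvd_pow_iff_le_right (le_refl 2)).mp h1
  -- second case analysis: `T = |Z|` with `Z` of exponent `2`
  have hcase2 : T = (Nat.card (Subgroup.center G) : ℤ) → (∀ u ∈ Subgroup.center G, u ^ 2 = 1) →
      ∃ i : ℕ, d + (c - 1) = 2 * i ∧ i < d ∧ ((j : ℤ) - 2 ^ d).natAbs = 2 ^ i := by
    intro hTZ hexpZ
    have h1 : ((j : ℤ) - 2 ^ d) ^ 2 = 2 ^ (d + (c - 1)) := by
      rw [hTZ, hc] at hmain
      have hc' : c = (c - 1) + 1 := by omega
      have : ((2 ^ c : ℕ) : ℤ) = 2 ^ (c - 1) * 2 := by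
        push_cast; rw [← pow_succ, ← hc']
      rw [this, ← mul_assoc] at hmain
      have h2 := mul_right_cancel₀ (by norm_num : (2 : ℤ) ≠ 0) hmain
      rw [h2, pow_add]
    have h2 : (((j : ℤ) - 2 ^ d).natAbs) ^ 2 = 2 ^ (d + (c - 1)) := by
      have : ((((j : ℤ) - 2 ^ d).natAbs ^ 2 : ℕ) : ℤ) = ((2 ^ (d + (c - 1)) : ℕ) : ℤ) := by
        push_cast
        rw [sq_abs, h1]
      exact_mod_cast this
    obtain ⟨i, hi1, hi2⟩ := sq_eq_two_pow h2
    refine ⟨i, hi1, ?_, hi2⟩
    -- `c < d + 1`, otherwise `G` has exponent 2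
    have hclt : c ≠ d + 1 := by
      intro hceq
      apply hexp
      have htop : Subgroup.center G = ⊤ := by
        apply Subgroup.eq_top_of_card_eq
        rw [hc, hceq, hcard]
      intro x
      exact hexpZ x (htop ▸ Subgroup.mem_top x)
    omega
  refine ⟨?_, ?_⟩
  · rcases hT with hT0 | ⟨hTZ, hexpZ⟩
    · left
      rw [hT0, mul_zero] at hmain
      have h1 : ((j : ℤ) - 2 ^ d) ^ 2 = 0 := by
        rcases mul_eq_zero.mp hmain with h | h
        · exact h
        · norm_num at h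
      have h2 : (j : ℤ) = 2 ^ d := by
        have := pow_eq_zero_iff (two_ne_zero) |>.mp h1
        linarith
      exact_mod_cast h2
    · right
      obtain ⟨i, hi1, hi2, hi3⟩ := hcase2 hTZ hexpZ
      refine ⟨d - i, by omega, by omega, ?_⟩
      have hdi : d - (d - i) = i := by omega
      rw [hdi]
      rcases Int.natAbs_eq ((j : ℤ) - 2 ^ d) with h | h
      · left
        rw [hi3] at h
        have : (j : ℤ) = 2 ^ d + 2 ^ i := by push_cast at h; linarith
        exact_mod_cast this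
      · right
        rw [hi3] at h
        have : (j : ℤ) + 2 ^ i = 2 ^ d := by push_cast at h; linarith
        exact_mod_cast this
  · intro r hdr hjr
    -- `(j - 2^d)^2 = 2^d`
    have h1 : ((j : ℤ) - 2 ^ d) ^ 2 = 2 ^ d := by
      have h2 : (2 : ℤ) ^ d = (2 ^ r) ^ 2 := by rw [hdr, pow_mul, ← pow_mul, ← pow_mul, mul_comm]
      rcases hjr with h | h
      · have : (j : ℤ) = 2 ^ d + 2 ^ r := by exact_mod_cast h
        rw [this, h2]; ring
      · have : (j : ℤ) + 2 ^ r = 2 ^ d := by exact_mod_cast h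
        have h3 : (j : ℤ) - 2 ^ d = - 2 ^ r := by linarith
        rw [h3, h2]; ring
    rw [h1] at hmain
    have hT2 : T = 2 := by
      have h2 : (2 : ℤ) ^ d ≠ 0 := pow_ne_zero _ two_ne_zero
      have : (2 : ℤ) ^ d * 2 = 2 ^ d * T := hmain
      exact (mul_left_cancel₀ h2 this).symm
    rcases hT with hT0 | ⟨hTZ, hexpZ⟩
    · rw [hT0] at hT2; norm_num at hT2
    · have hZ2 : Nat.card (Subgroup.center G) = 2 := by
        rw [hT2] at hTZ
        exact_mod_cast hTZ.symm
      have hΦZ : frattini G = Subgroup.center G :=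
        Subgroup.eq_of_le_of_card_ge hΦc (by rw [hZ2, hΦ])
      have hcomle : commutator G ≤ Subgroup.center G := by
        rw [commutator_eq_closure, Subgroup.closure_le]
        rintro _ ⟨a, b, rfl⟩
        exact hΦc (hcomm a b)
      have hcomne : commutator G ≠ ⊥ := by
        intro hbot
        have htop : Subgroup.center G = ⊤ := (_root_.commutator_eq_bot_iff_center_eq_top (G := G)).mp hbot
        have hG2 : Nat.card G = 2 := by
          rw [← hZ2, htop, Subgroup.card_top]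
        apply hexp
        intro x
        rw [← hG2]
        exact pow_card_eq_one'
      have hcomZ : commutator G = Subgroup.center G := by
        apply Subgroup.eq_of_le_of_card_ge hcomle
        rw [hZ2]
        have h3 : Nat.card (commutator G) ∣ 2 := by
          rw [← hZ2]; exact Subgroup.card_dvd_of_le hcomle
        rcases (Nat.dvd_prime Nat.prime_two).mp h3 with h4 | h4
        · exact absurd (Subgroup.card_eq_one.mp h4) hcomne
        · exact h4.ge
      exact ⟨⟨hG, hΦZ, hcomZ⟩, hZ2⟩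

end Cfsg.Agent.S3772
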