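-- Statement S3773: |G| ≤ |Ω₁(G)|³ for 2-groups of class ≤ 2, exponent ≤ 4 whose involutions form
-- a subgroup; equality forces G special.
import Cfsg.Statements.S3773
import Cfsg.Agent.Helper63.Class2Exp4

set_option autoImplicit false
open Cfsg

namespace Cfsg.Agent.S3773

open Cfsg.Agent.Helper63

/-- Let G be a finite 2-group of nilpotency class at most 2 and exponent dividing 4 in which the elements x with x² = 1 form a subgroup N. Then |G| ≤ |N|³, and |G| < |N|³ unless G is special. -/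
theorem result {G : Type*} [Group G] [Finite G] (hG : IsPGroup 2 G) (hcl : (⊤ : Subgroup G).lowerCentralSeries 2 = ⊥) (hexp : ∀ x : G, x ^ 4 = 1) (hN : ∀ x y : G, x ^ 2 = 1 → y ^ 2 = 1 → (x * y) ^ 2 = 1) : Nat.card G ≤ Nat.card {x : G // x ^ 2 = 1} ^ 3 ∧ (¬ Cfsg.IsSpecial 2 G → Nat.card G < Nat.card {x : G // x ^ 2 = 1} ^ 3) := by
  refine ⟨?_, ?_⟩
  · obtain ⟨g, n, z, z', hg, hn, hz, hz', hzn, hzz', hkey⟩ :=
      exists_data_of_class_two hG hcl hexp hN
    rw [hg, hn, ← pow_mul]
    exact Nat.pow_le_pow_right (by norm_num) (by omega)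
  · intro hns
    by_contra hlt
    push Not at hlt
    exact hns (isSpecial_of_card_ge hG hcl hexp hN hlt)

end Cfsg.Agent.S3773
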