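import Cfsg.Statements.S3774
import Mathlib

set_option autoImplicit false
open Cfsg

namespace Cfsg.Agent.S3774

/-- number theory: if `2 ^ n - 1 ∣ 2 ^ N - 1` with `n ≥ 1` then `n ∣ N`. -/
theorem dvd_of_two_pow_sub_one_dvd {n N : ℕ} (hn : 1 ≤ n) (h : 2 ^ n - 1 ∣ 2 ^ N - 1) : n ∣ N := by
  have hN : N = n * (N / n) + N % n := (Nat.div_add_mod N n).symm
  set k := N / n
  set r := N % n with hr
  have hrn : r < n := Nat.mod_lt _ (by omega)
  have h1 : 2 ^ n - 1 ∣ (2 ^ n) ^ k - 1 := Nat.sub_one_dvd_pow_sub_one (2 ^ n) k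
  have hpos : ∀ m : ℕ, 1 ≤ 2 ^ m := fun m => Nat.one_le_two_pow
  -- 2^N - 1 = 2^r * ((2^n)^k - 1) + (2^r - 1)
  have h2 : 2 ^ N - 1 = 2 ^ r * ((2 ^ n) ^ k - 1) + (2 ^ r - 1) := by
    have e : 2 ^ N = 2 ^ r * (2 ^ n) ^ k := by
      conv_lhs => rw [hN]
      rw [pow_add, pow_mul, mul_comm]
    have hk1 : 1 ≤ (2 ^ n) ^ k := Nat.one_le_pow _ _ (by positivity)
    have hr1 : 1 ≤ 2 ^ r := hpos r
    rw [e, Nat.mul_sub, mul_one]
    have : 2 ^ r ≤ 2 ^ r * (2 ^ n) ^ k := Nat.le_mul_of_pos_right _ (by omega)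
    omega
  have h3 : 2 ^ n - 1 ∣ 2 ^ r - 1 := by
    rw [h2] at h
    exact (Nat.dvd_add_right (Dvd.dvd.mul_left h1 _)).mp h
  have h4 : 2 ^ r - 1 < 2 ^ n - 1 := by
    have : 2 ^ r < 2 ^ n := Nat.pow_lt_pow_right (by norm_num) hrn
    have := hpos r
    omega
  have h5 : 2 ^ r - 1 = 0 := Nat.eq_zero_of_dvd_of_lt h3 h4
  have h6 : r = 0 := by
    by_contra hne
    have : 2 ^ 1 ≤ 2 ^ r := Nat.pow_le_pow_right (by norm_num) (by omega)
    simp at this
    omega
  rw [h6, add_zero] at hN
  exact Dvd.intro _ hN.symm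

/-- Let G be a nontrivial finite 2-group whose automorphism group permutes the involutions of G transitively. Then every involution of G is central, so that the involutions together with 1 form the subgroup Ω₁(Z(G)), and if this subgroup has order q then |G| is a power of q. -/
theorem result {G : Type*} [Group G] [Finite G] [Nontrivial G] (hG : IsPGroup 2 G) (htrans : ∀ x y : G, x ≠ 1 → x ^ 2 = 1 → y ≠ 1 → y ^ 2 = 1 → ∃ a : MulAut G, a x = y) : (∀ x : G, x ^ 2 = 1 → x ∈ Subgroup.center G) ∧ ∃ m : ℕ, Nat.card G = Nat.card {z : G // z ^ 2 = 1} ^ m := by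
  classical
  haveI : Fact (Nat.Prime 2) := ⟨Nat.prime_two⟩
  haveI : Fintype G := Fintype.ofFinite G
  -- a central involution
  have hZnt : Nontrivial (Subgroup.center G) := hG.center_nontrivial
  have hZp : IsPGroup 2 (Subgroup.center G) := hG.to_subgroup _
  have hdvd : 2 ∣ Nat.card (Subgroup.center G) := by
    rcases hZp.card_eq_or_dvd with h | h
    · exfalso
      have := (Finite.one_lt_card_iff_nontrivial (α := Subgroup.center G)).mpr hZnt
      omega
    · exact h
  obtain ⟨z', hz'⟩ := exists_prime_orderOf_dvd_card' 2 hdvd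
  set z : G := (z' : G) with hz
  have hzord : orderOf z = 2 := by rw [hz, Subgroup.orderOf_coe, hz']
  have hzc : z ∈ Subgroup.center G := z'.2
  have hz1 : z ≠ 1 := by
    intro h
    rw [h, orderOf_one] at hzord
    omega
  have hz2 : z ^ 2 = 1 := by rw [← hzord, pow_orderOf_eq_one]
  -- part 1
  have hcentral : ∀ x : G, x ^ 2 = 1 → x ∈ Subgroup.center G := by
    intro x hx
    by_cases hx1 : x = 1
    · rw [hx1]; exact Subgroup.one_mem _
    · obtain ⟨a, ha⟩ := htrans z x hz1 hz2 hx1 hx
      have hchar := (Subgroup.characteristic_iff_map_eq.mp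
        (Subgroup.centerCharacteristic (G := G))) a
      rw [← hchar, ← ha]
      exact Subgroup.mem_map_of_mem _ hzc
  refine ⟨hcentral, ?_⟩
  -- the subgroup Ω
  let Ω : Subgroup G :=
    { carrier := {x | x ^ 2 = 1}
      one_mem' := by simp
      mul_mem' := by
        intro x y hx hy
        have hxc := Subgroup.mem_center_iff.mp (hcentral x hx)
        show (x * y) ^ 2 = 1
        have : Commute x y := (hxc y).symm
        rw [this.mul_pow, hx, hy, one_mul]
      inv_mem' := by
        intro x hx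
        show (x⁻¹) ^ 2 = 1
        rw [inv_pow, hx, inv_one] }
  have hΩmem : ∀ x : G, x ∈ Ω ↔ x ^ 2 = 1 := fun x => Iff.rfl
  have hqcard : Nat.card {x : G // x ^ 2 = 1} = Nat.card Ω := rfl
  obtain ⟨n, hn⟩ := IsPGroup.iff_card.mp (hG.to_subgroup Ω)
  obtain ⟨N, hN⟩ := IsPGroup.iff_card.mp hG
  have hn1 : 1 ≤ n := by
    by_contra h
    have hn0 : n = 0 := by omega
    rw [hn0, pow_zero] at hn
    have hbot : Ω = ⊥ := Subgroup.card_eq_one.mp hn
    have : z ∈ Ω := hz2
    rw [hbot, Subgroup.mem_bot] at this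
    exact hz1 this
  -- the involution-valued function
  let f : G → G := fun x => x ^ (orderOf x / 2)
  have hf : ∀ x : G, x ≠ 1 → f x ≠ 1 ∧ (f x) ^ 2 = 1 := by
    intro x hx
    obtain ⟨k, hk⟩ := (IsPGroup.iff_orderOf.mp hG) x
    have hk1 : 1 ≤ k := by
      by_contra h
      have hk0 : k = 0 := by omega
      rw [hk0, pow_zero, orderOf_eq_one_iff] at hk
      exact hx hk
    have hhalf : orderOf x / 2 * 2 = orderOf x := by
      rw [hk]
      have : 2 ^ k = 2 ^ (k - 1) * 2 := by
        rw [← pow_succ]; congr 1; omega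
      rw [this]; simp
    have hpos : 0 < orderOf x := orderOf_pos x
    constructor
    · apply pow_ne_one_of_lt_orderOf
      · omega
      · omega
    · show (x ^ (orderOf x / 2)) ^ 2 = 1
      rw [← pow_mul, hhalf, pow_orderOf_eq_one]
  have hfa : ∀ (a : MulAut G) (x : G), f (a x) = a (f x) := by
    intro a x
    show (a x) ^ (orderOf (a x) / 2) = a (x ^ (orderOf x / 2))
    rw [MulEquiv.orderOf_eq, map_pow]
  -- counting
  set s : Finset G := Finset.univ.filter (fun x => x ≠ 1) with hs
  set t : Finset G := Finset.univ.filter (fun x => x ≠ 1 ∧ x ^ 2 = 1) with ht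
  have hmaps : Set.MapsTo f ↑s ↑t := by
    intro x hx
    have hx1 : x ≠ 1 := by simpa [hs] using hx
    have := hf x hx1
    simp only [ht, Finset.coe_filter, Finset.mem_univ, true_and, Set.mem_setOf_eq]
    exact this
  have hcount := Finset.card_eq_sum_card_fiberwise hmaps
  -- all fibres have the same size
  have hfib : ∀ b ∈ t, (s.filter fun x => f x = b).card = (s.filter fun x => f x = z).card := by
    intro b hb
    have hb' : b ≠ 1 ∧ b ^ 2 = 1 := by simpa [ht] using hb
    obtain ⟨a, ha⟩ := htrans z b hz1 hz2 hb'.1 hb'.2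
    symm
    apply Finset.card_nbij' (fun x => a x) (fun x => a.symm x)
    · intro x hx
      simp only [hs, Finset.coe_filter, Finset.mem_filter, Finset.mem_univ, true_and,
        Set.mem_setOf_eq] at hx ⊢
      refine ⟨?_, ?_⟩
      · intro h
        apply hx.1
        have : a x = a 1 := by rw [h, map_one]
        exact a.injective this
      · rw [hfa, hx.2, ha]
    · intro x hx
      simp only [hs, Finset.coe_filter, Finset.mem_filter, Finset.mem_univ, true_and,
        Set.mem_setOf_eq] at hx ⊢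
      refine ⟨?_, ?_⟩
      · intro h
        apply hx.1
        have : a.symm x = a.symm 1 := by rw [h, map_one]
        exact a.symm.injective this
      · rw [hfa, hx.2, ← ha]
        simp
    · intro x _
      simp
    · intro x _
      simp
  rw [Finset.sum_congr rfl hfib, Finset.sum_const, smul_eq_mul] at hcount
  -- cardinalities of s and t
  have hscard : s.card = Nat.card G - 1 := by
    rw [hs, Finset.filter_ne', Finset.card_erase_of_mem (Finset.mem_univ _), Finset.card_univ,
      Nat.card_eq_fintype_card]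
  have htcard : t.card = Nat.card Ω - 1 := by
    have h1 : t = (Finset.univ.filter (fun x : G => x ^ 2 = 1)).erase 1 := by
      ext x
      simp only [ht, Finset.mem_filter, Finset.mem_univ, true_and, Finset.mem_erase]
    rw [h1, Finset.card_erase_of_mem (by simp)]
    congr 1
    rw [Nat.card_eq_fintype_card]
    exact (Fintype.card_subtype (fun x : G => x ^ 2 = 1)).symm
  rw [hscard, htcard, hn, hN] at hcount
  have hdvd2 : 2 ^ n - 1 ∣ 2 ^ N - 1 := Dvd.intro _ hcount.symm
  obtain ⟨m, hm⟩ := dvd_of_two_pow_sub_one_dvd hn1 hdvd2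
  refine ⟨m, ?_⟩
  rw [hqcard, hn, hN, hm, pow_mul]

end Cfsg.Agent.S3774
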