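import Cfsg.Statements.S3775
import Cfsg.Agent.Helper97.AbelianIndecomp
-- import your own Cfsg.Agent.* helpers here

set_option autoImplicit false
open Cfsg

namespace Cfsg.Agent.S3775

/-- Let A be a finite abelian p-group and X a group of automorphisms of A of order prime to p. Call a subgroup of A invariant when every element of X maps it onto itself. Then the following are equivalent: (i) A is not the direct product of two nontrivial invariant subgroups; (ii) every invariant subgroup of A is one of the subgroups Ω_i(A) = {a : a^(p^i) = 1}; (iii) the subgroup Ω₁(A) of elements of order dividing p has no invariant subgroups other than 1 and itself. -/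
theorem result {A : Type*} [CommGroup A] [Finite A] {p : ℕ} [Fact p.Prime] (hA : IsPGroup p A) (X : Subgroup (MulAut A)) (hX : (Nat.card X).Coprime p) : ((¬ ∃ B C : Subgroup A, B ≠ ⊥ ∧ C ≠ ⊥ ∧ (∀ x ∈ X, B.map x.toMonoidHom = B) ∧ (∀ x ∈ X, C.map x.toMonoidHom = C) ∧ B ⊓ C = ⊥ ∧ B ⊔ C = ⊤) ↔ (∀ B : Subgroup A, (∀ x ∈ X, B.map x.toMonoidHom = B) → ∃ i : ℕ, ∀ a : A, a ∈ B ↔ a ^ p ^ i = 1)) ∧ ((∀ B : Subgroup A, (∀ x ∈ X, B.map x.toMonoidHom = B) → ∃ i : ℕ, ∀ a : A, a ∈ B ↔ a ^ p ^ i = 1) ↔ (∀ B : Subgroup A, (∀ x ∈ X, B.map x.toMonoidHom = B) → (∀ b ∈ B, b ^ p = 1) → B = ⊥ ∨ ∀ a : A, a ∈ B ↔ a ^ p = 1)) := by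
  classical
  have hinv : ∀ B : Subgroup A, (∀ x ∈ X, B.map x.toMonoidHom = B) ↔
      (∀ x : ↥X, ∀ a ∈ B, x • a ∈ B) := by
    intro B
    constructor
    · intro h x a ha
      have h1 := h x.1 x.2
      rw [← h1]
      exact ⟨a, ha, rfl⟩
    · intro h x hx
      apply le_antisymm
      · rintro _ ⟨a, ha, rfl⟩
        exact h ⟨x, hx⟩ a ha
      · intro b hb
        refine ⟨x⁻¹ b, h ⟨x⁻¹, X.inv_mem hx⟩ b hb, ?_⟩
        simp
  have h_II : (∀ B : Subgroup A, (∀ x ∈ X, B.map x.toMonoidHom = B) → (∀ b ∈ B, b ^ p = 1) →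
      B = ⊥ ∨ ∀ a : A, a ∈ B ↔ a ^ p = 1) →
      (∀ B : Subgroup A, (∀ x ∈ X, B.map x.toMonoidHom = B) →
        ∃ i : ℕ, ∀ a : A, a ∈ B ↔ a ^ p ^ i = 1) := by
    intro hirr B hB
    exact Cfsg.Agent.Helper97.eq_omega_of_irreducible_omega (X := ↥X) hA
      (fun B' hB' hB'p => hirr B' ((hinv B').2 hB') hB'p) B ((hinv B).1 hB)
  have h_I : (¬ ∃ B C : Subgroup A, B ≠ ⊥ ∧ C ≠ ⊥ ∧ (∀ x ∈ X, B.map x.toMonoidHom = B) ∧
      (∀ x ∈ X, C.map x.toMonoidHom = C) ∧ B ⊓ C = ⊥ ∧ B ⊔ C = ⊤) →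
      (∀ B : Subgroup A, (∀ x ∈ X, B.map x.toMonoidHom = B) → (∀ b ∈ B, b ^ p = 1) →
        B = ⊥ ∨ ∀ a : A, a ∈ B ↔ a ^ p = 1) := by
    intro hind B hB hBp
    refine Cfsg.Agent.Helper97.irreducible_omega_of_indecomposable (X := ↥X) hA hX ?_ B
      ((hinv B).1 hB) hBp
    intro B' C' hB' hC' h1 h2
    by_contra hne
    push Not at hne
    exact hind ⟨B', C', hne.1, hne.2, (hinv B').2 hB', (hinv C').2 hC', h1, h2⟩
  have h_III : (∀ B : Subgroup A, (∀ x ∈ X, B.map x.toMonoidHom = B) →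
      ∃ i : ℕ, ∀ a : A, a ∈ B ↔ a ^ p ^ i = 1) →
      (¬ ∃ B C : Subgroup A, B ≠ ⊥ ∧ C ≠ ⊥ ∧ (∀ x ∈ X, B.map x.toMonoidHom = B) ∧
        (∀ x ∈ X, C.map x.toMonoidHom = C) ∧ B ⊓ C = ⊥ ∧ B ⊔ C = ⊤) := by
    rintro hom ⟨B, C, hBne, hCne, hB, hC, h1, -⟩
    obtain ⟨i, hi⟩ := hom B hB
    obtain ⟨j, hj⟩ := hom C hC
    rcases le_total i j with hij | hij
    · apply hBne
      rw [eq_bot_iff, ← h1]
      intro a ha
      refine Subgroup.mem_inf.2 ⟨ha, ?_⟩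
      rw [hj]
      obtain ⟨d, rfl⟩ := Nat.exists_eq_add_of_le hij
      rw [pow_add, pow_mul, (hi a).1 ha, one_pow]
    · apply hCne
      rw [eq_bot_iff, ← h1]
      intro a ha
      refine Subgroup.mem_inf.2 ⟨?_, ha⟩
      rw [hi]
      obtain ⟨d, rfl⟩ := Nat.exists_eq_add_of_le hij
      rw [pow_add, pow_mul, (hj a).1 ha, one_pow]
  have h_IV : (∀ B : Subgroup A, (∀ x ∈ X, B.map x.toMonoidHom = B) →
      ∃ i : ℕ, ∀ a : A, a ∈ B ↔ a ^ p ^ i = 1) →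
      (∀ B : Subgroup A, (∀ x ∈ X, B.map x.toMonoidHom = B) → (∀ b ∈ B, b ^ p = 1) →
        B = ⊥ ∨ ∀ a : A, a ∈ B ↔ a ^ p = 1) := by
    intro hom B hB hBp
    obtain ⟨i, hi⟩ := hom B hB
    rcases Nat.eq_zero_or_pos i with h0 | hpos
    · left
      rw [eq_bot_iff]
      intro a ha
      have h1 := (hi a).1 ha
      rw [h0, pow_zero, pow_one] at h1
      rw [Subgroup.mem_bot]
      exact h1
    · right
      intro a
      refine ⟨hBp a, fun ha => (hi a).2 ?_⟩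
      obtain ⟨i', rfl⟩ := Nat.exists_eq_succ_of_ne_zero hpos.ne'
      rw [Nat.succ_eq_add_one, pow_succ', pow_mul, ha, one_pow]
  exact ⟨⟨fun h => h_II (h_I h), h_III⟩, ⟨h_IV, h_II⟩⟩

end Cfsg.Agent.S3775
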