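import Cfsg.Statements.S3778
import Cfsg.Agent.Helper65.Breadth2
-- import your own Cfsg.Agent.* helpers here

set_option autoImplicit false
open Cfsg

namespace Cfsg.Agent.S3778

/-- If G is a finite p-group in which every conjugacy class has at most p^b elements (every element has centralizer of index at most p^b), then G is abelian when b = 0, and when b ≥ 1 its nilpotency class c satisfies (c − 1)(p − 1) < bp, that is c < bp/(p − 1) + 1, and hence c ≤ 2b. -/
theorem result {G : Type*} [Group G] [Finite G] {p : ℕ} [Fact p.Prime] (hG : IsPGroup p G) (b : ℕ) (hb : ∀ x : G, (Subgroup.centralizer ({x} : Set G)).index ≤ p ^ b) : ∃ c : ℕ, (⊤ : Subgroup G).lowerCentralSeries c = ⊥ ∧ (b ≠ 0 → (c - 1) * (p - 1) < b * p ∧ c ≤ 2 * b) ∧ (b = 0 → c ≤ 1) := by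
  haveI : Group.IsNilpotent G := hG.isNilpotent
  refine ⟨Group.nilpotencyClass G, Subgroup.lowerCentralSeries_nilpotencyClass, ?_, ?_⟩
  · intro hb1
    have h1 := Cfsg.Agent.Helper65.IsPGroup.breadth_class_bound hG b hb1 hb
    refine ⟨h1, ?_⟩
    have hp : p.Prime := Fact.out
    obtain ⟨q, rfl⟩ : ∃ q, p = q + 2 := ⟨p - 2, by have := hp.two_le; omega⟩
    by_contra hcon
    push Not at hcon
    have h2 : 2 * b ≤ Group.nilpotencyClass G - 1 := by omega
    have h3 : 2 * b * (q + 2 - 1) ≤ (Group.nilpotencyClass G - 1) * (q + 2 - 1) :=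
      Nat.mul_le_mul_right _ h2
    have h4 : q + 2 - 1 = q + 1 := by omega
    rw [h4] at h3 h1
    nlinarith
  · rintro rfl
    rw [← Subgroup.lowerCentralSeries_eq_bot_iff_nilpotencyClass_le]
    have hcomm : ∀ x y : G, x * y = y * x := by
      intro x y
      have h1 : (Subgroup.centralizer ({x} : Set G)).index = 1 := by
        have h2 := hb x
        rw [pow_zero] at h2
        have h3 : (Subgroup.centralizer ({x} : Set G)).index ≠ 0 :=
          Subgroup.index_ne_zero_of_finite
        omega
      rw [Subgroup.index_eq_one] at h1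
      have h4 : y ∈ Subgroup.centralizer ({x} : Set G) := by rw [h1]; exact Subgroup.mem_top y
      rw [Subgroup.mem_centralizer_iff] at h4
      exact h4 x (Set.mem_singleton x)
    rw [eq_bot_iff]
    show ⁅(⊤ : Subgroup G).lowerCentralSeries 0, (⊤ : Subgroup G)⁆ ≤ ⊥
    rw [Subgroup.commutator_le]
    intro x _ y _
    rw [Subgroup.mem_bot, commutatorElement_def, hcomm x y]
    group

end Cfsg.Agent.S3778
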