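-- Statement S3780: an abelian p-group with an automorphism of order p having p^n fixed points
-- is generated by pn elements.
import Cfsg.Statements.S3780
import Cfsg.Agent.Helper63.AutGen

set_option autoImplicit false
open Cfsg

namespace Cfsg.Agent.S3780

/-- Let V be a finite abelian p-group and α an automorphism of V of order p whose fixed-point subgroup has order p^n. Then V can be generated by pn elements: some subset of V with at most pn elements generates V. -/
theorem result {V : Type*} [CommGroup V] [Finite V] {p : ℕ} [Fact p.Prime] (hV : IsPGroup p V) (α : MulAut V) (hα : orderOf α = p) (n : ℕ) (hfix : Nat.card {v : V // α v = v} = p ^ n) : ∃ S : Finset V, S.card ≤ p * n ∧ Subgroup.closure (S : Set V) = ⊤ :=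
  Cfsg.Agent.Helper63.exists_generators_of_aut hV α (by rw [← hα]; exact pow_orderOf_eq_one α) n hfix

end Cfsg.Agent.S3780
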