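import Cfsg.Statements.S3781
import Cfsg.Agent.Helper63.LcsIndex

set_option autoImplicit false
open Cfsg

namespace Cfsg.Agent.S3781

open Cfsg.Agent.Helper63

theorem lcs_normal {G : Type*} [Group G] (N : Subgroup G) [hN : N.Normal] (k : ℕ) :
    (N.lowerCentralSeries k).Normal := by
  induction k with
  | zero => exact hN
  | succ k ih =>
    rw [Subgroup.lowerCentralSeries_succ]
    have := ih
    exact Subgroup.commutator_normal _ _

/-- Let G be a finite p-group and n ≥ 1, and write γ_1(G) = G, γ_{k+1}(G) = [γ_k(G), G], and likewise γ_k(N) for a subgroup N. Let N be a normal subgroup of G contained in γ_n(G). If i > 1 and γ_{i+1}(N) ≠ 1, then |γ_i(N) : γ_{i+1}(N)| ≥ p^n. -/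
theorem result {G : Type*} [Group G] [Finite G] {p : ℕ} [Fact p.Prime] (hG : IsPGroup p G) (n : ℕ) (hn : 1 ≤ n) (N : Subgroup G) [N.Normal] (hN : N ≤ (⊤ : Subgroup G).lowerCentralSeries (n - 1)) (i : ℕ) (hi : 1 < i) (hne : N.lowerCentralSeries i ≠ ⊥) : p ^ n ≤ (N.lowerCentralSeries i).relIndex (N.lowerCentralSeries (i - 1)) := by
  have hp : p.Prime := Fact.out
  obtain ⟨m, rfl⟩ : ∃ m, i = m + 1 := ⟨i - 1, by omega⟩
  rw [Nat.add_sub_cancel]
  have hBn : (N.lowerCentralSeries m).Normal := lcs_normal N m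
  have hCn : (N.lowerCentralSeries (m + 1)).Normal := lcs_normal N (m + 1)
  have hCB : N.lowerCentralSeries (m + 1) ≤ N.lowerCentralSeries m :=
    Subgroup.lowerCentralSeries_antitone N (Nat.le_succ m)
  by_contra hlt
  push Not at hlt
  obtain ⟨j, hj⟩ := (hG.to_subgroup (N.lowerCentralSeries m)).index
    ((N.lowerCentralSeries (m + 1)).subgroupOf (N.lowerCentralSeries m))
  have hj' : (N.lowerCentralSeries (m + 1)).relIndex (N.lowerCentralSeries m) = p ^ j := hj
  have hjn : j ≤ n - 1 := by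
    rw [hj'] at hlt
    have := (Nat.pow_lt_pow_iff_right hp.one_lt).mp hlt
    omega
  have hidx : (N.lowerCentralSeries (m + 1)).relIndex (N.lowerCentralSeries m) ≤ p ^ (n - 1) := by
    rw [hj']
    exact Nat.pow_le_pow_right hp.pos hjn
  have h1 := iterComm_top_le_of_relIndex_le hG (n - 1) _ _ hBn hCn hCB hidx
  have h2 : iterComm ⊤ (N.lowerCentralSeries m) (n - 1 + 1) ≤
      ⁅N.lowerCentralSeries (m + 1), (⊤ : Subgroup G)⁆ := Subgroup.commutator_mono h1 le_rfl
  have h3 : ⁅N.lowerCentralSeries m, N⁆ ≤ iterComm ⊤ (N.lowerCentralSeries m) (n - 1 + 1) :=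
    (Subgroup.commutator_mono le_rfl hN).trans
      (commutator_lcs_le_iterComm (n - 1) (N.lowerCentralSeries m) hBn)
  have h4 : N.lowerCentralSeries (m + 1) ≤ ⁅N.lowerCentralSeries (m + 1), (⊤ : Subgroup G)⁆ :=
    h3.trans h2
  have : Group.IsNilpotent G := hG.isNilpotent
  exact hne (eq_bot_of_le_commutator_top h4)

end Cfsg.Agent.S3781
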