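import Cfsg.Statements.S3783
import Cfsg.Agent.Helper64.ExpBound
import Cfsg.Agent.Helper63.PSeriesTools
import Cfsg.Agent.Helper54.PLength
import Cfsg.Agent.Helper54.PConstrained

set_option autoImplicit false
open Cfsg

namespace Cfsg.Agent.S3783

open Subgroup Cfsg.Agent.Lib Cfsg.Agent.Helper63 Cfsg.Agent.Helper64

/-- a finite `p`-group has `p`-length at most one -/
theorem pLengthLE_one_of_isPGroup {R : Type*} [Group R] [Finite R] {p : ℕ} [hp : Fact p.Prime]
    (hR : IsPGroup p R) : PLengthLE p 1 R := by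
  unfold PLengthLE
  rw [eq_top_iff]
  have h2 : (⊤ : Subgroup R) ≤ (upperPSeries p R 2).1 := by
    apply le_upperPSeries_succ_of_pow_mem 1 ⊤
    intro t _
    obtain ⟨k, hk⟩ := hR t
    exact ⟨p ^ k, ⟨fun h => absurd h (by decide), fun _ => ⟨k, rfl⟩⟩,
      by rw [hk]; exact Subgroup.one_mem _⟩
  apply le_upperPSeries_succ_of_pow_mem 2 ⊤
  intro t _
  exact ⟨1, ⟨fun _ => Nat.coprime_one_left p, fun h => absurd (by decide : Even 2) h⟩,
    by rw [pow_one]; exact h2 (mem_top t)⟩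

/-- the induction on the exponent -/
theorem main.{u} {p : ℕ} [hp : Fact p.Prime] : ∀ (n : ℕ) (G : Type u) [Group G] [Finite G],
    IsPSolvable p G →
    (∀ (q : ℕ) [Fact q.Prime], q ≠ p → ∀ S : Subgroup G, IsPGroup q S →
      ∀ a ∈ S, ∀ b ∈ S, a * b = b * a) →
    (∀ g : G, (∃ k : ℕ, g ^ p ^ k = 1) → g ^ p ^ n = 1) → PLengthLE p n G := by
  intro n
  induction n with
  | zero =>
    intro G _ _ hG habel hexp
    have hcop : (Nat.card G).Coprime p := by
      rw [Nat.coprime_comm, hp.out.coprime_iff_not_dvd]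
      intro hdvd
      obtain ⟨x, hx⟩ := exists_prime_orderOf_dvd_card' p hdvd
      have h1 := hexp x ⟨1, by rw [pow_one, ← hx, pow_orderOf_eq_one]⟩
      rw [pow_zero, pow_one] at h1
      rw [h1, orderOf_one] at hx
      exact hp.out.one_lt.ne hx
    exact Cfsg.Agent.Helper11.upperPSeries_one_eq_top_of_coprime p hcop
  | succ n ih =>
    intro G _ _ hG habel hexp
    have hK1 : pPrimeCore p G ≤ (upperPSeries p G 1).1 := by
      rw [Cfsg.Agent.Helper54.upperPSeries_one]
    apply pLengthLE_of_quotient_pPrime (pPrimeCore p G) hK1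
    have hG1 : IsPSolvable p (G ⧸ pPrimeCore p G) := Cfsg.Agent.Helper11.isPSolvable_quotient _ hG
    have hO1 : pPrimeCore p (G ⧸ pPrimeCore p G) = ⊥ := Cfsg.Agent.Helper54.pPrimeCore_quotient_eq_bot
    have habel1 : ∀ (q : ℕ) [Fact q.Prime], q ≠ p → ∀ S : Subgroup (G ⧸ pPrimeCore p G),
        IsPGroup q S → ∀ a ∈ S, ∀ b ∈ S, a * b = b * a :=
      fun q _ hq => abelian_pSubgroups_of_surjective (QuotientGroup.mk' (pPrimeCore p G))
        (QuotientGroup.mk'_surjective _) (habel q hq)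
    have hexp1 : ∀ g : G ⧸ pPrimeCore p G, (∃ k : ℕ, g ^ p ^ k = 1) → g ^ p ^ (n + 1) = 1 := by
      intro g hg
      obtain ⟨x, rfl, hx⟩ := exists_pElement_lift (QuotientGroup.mk' (pPrimeCore p G))
        (QuotientGroup.mk'_surjective _) g hg
      rw [← map_pow, hexp x hx, map_one]
    rw [add_comm n 1]
    refine pLengthLE_add_of_normal (pCore p (G ⧸ pPrimeCore p G))
      (pLengthLE_one_of_isPGroup (isPGroup_pCore p)) ?_
    apply ih ((G ⧸ pPrimeCore p G) ⧸ pCore p (G ⧸ pPrimeCore p G))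
      (Cfsg.Agent.Helper11.isPSolvable_quotient _ hG1)
      (fun q _ hq => abelian_pSubgroups_of_surjective (QuotientGroup.mk' (pCore p (G ⧸ pPrimeCore p G)))
        (QuotientGroup.mk'_surjective _) (habel1 q hq))
    intro y hy
    exact pow_eq_one_quotient_pCore hG1 hO1 habel1 n hexp1 y hy

/-- Let G be a finite p-soluble group in which, for every prime q ≠ p, the Sylow q-subgroups are abelian. If the Sylow p-subgroups of G have exponent dividing p^n, then G has p-length at most n. -/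
theorem result {G : Type*} [Group G] [Finite G] {p : ℕ} [Fact p.Prime] (hG : Cfsg.IsPSolvable p G) (hab : ∀ (q : ℕ) [Fact q.Prime], q ≠ p → ∀ Q : Sylow q G, IsMulCommutative (Q : Subgroup G)) (n : ℕ) (hexp : ∀ (P : Sylow p G), ∀ x ∈ (P : Subgroup G), x ^ p ^ n = 1) : Cfsg.PLengthLE p n G := by
  refine main n G hG ?_ ?_
  · intro q _ hq S hS a ha b hb
    obtain ⟨Q, hQ⟩ := hS.exists_le_sylow
    haveI := hab q hq Q
    have h1 : (⟨a, hQ ha⟩ : (Q : Subgroup G)) * ⟨b, hQ hb⟩ = ⟨b, hQ hb⟩ * ⟨a, hQ ha⟩ :=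
      mul_comm' _ _
    exact congrArg Subtype.val h1
  · intro g hg
    have hz : IsPGroup p (zpowers g) := by
      obtain ⟨k, hk⟩ := hg
      rintro ⟨x, hx⟩
      refine ⟨k, ?_⟩
      obtain ⟨j, rfl⟩ := mem_zpowers_iff.mp hx
      apply Subtype.ext
      show (g ^ j) ^ p ^ k = 1
      rw [← zpow_natCast, ← zpow_mul, mul_comm, zpow_mul, zpow_natCast, hk, one_zpow]
    obtain ⟨P, hP⟩ := hz.exists_le_sylow
    exact hexp P g (hP (mem_zpowers g))

end Cfsg.Agent.S3783
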