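import Cfsg.Statements.S3789
import Cfsg.Agent.Helper64.HHCKey
import Cfsg.Agent.Helper63.PSeriesTools
import Cfsg.Agent.Helper54.PLength
import Cfsg.Agent.Helper54.PConstrained
import Cfsg.Agent.Helper11.PLength

set_option autoImplicit false
open Cfsg

namespace Cfsg.Agent.S3789

open Subgroup Cfsg.Agent.Lib Cfsg.Agent.Helper63 Cfsg.Agent.Helper64
open scoped commutatorElement

/-- the derived series of the image of a subgroup under a homomorphism -/
theorem derivedSeries_map_eq_bot {G G' : Type*} [Group G] [Group G'] (f : G →* G')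
    (P : Subgroup G) (n : ℕ) (h : derivedSeries ↥P n = ⊥) : derivedSeries ↥(P.map f) n = ⊥ := by
  rw [← map_derivedSeries_eq (f := f.subgroupMap P) (f.subgroupMap_surjective P) n, h,
    Subgroup.map_bot]

/-- **Key claim.** If `O_{p'}(G) = 1` and a Sylow `p`-subgroup `P` has derived length at most
`d + 1`, then `P^{(d)} ≤ O_p(G)`. -/
theorem derivedSeries_le_pCore {G : Type*} [Group G] [Finite G] {p : ℕ} [hp : Fact p.Prime]
    (hp2 : p ≠ 2) (hG : IsPSolvable p G) (hO : pPrimeCore p G = ⊥) (P : Sylow p G) (d : ℕ)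
    (hd : derivedSeries ↥(P : Subgroup G) (d + 1) = ⊥) :
    (derivedSeries ↥(P : Subgroup G) d).map (P : Subgroup G).subtype ≤ pCore p G := by
  have hRP : pCore p G ≤ P := pCore_le_sylow P
  rcases Nat.eq_zero_or_pos d with hd0 | hdpos
  · -- `P` is abelian
    rw [hd0] at hd ⊢
    rw [derivedSeries_zero, ← MonoidHom.range_eq_map, Subgroup.range_subtype]
    rw [zero_add, derivedSeries_one] at hd
    have hC : Subgroup.centralizer (pCore p G : Set G) ≤ pCore p G :=
      Cfsg.Agent.Helper11.centralizer_pCore_le_of_isPSolvable hG hO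
    intro x hx
    apply hC
    rw [Subgroup.mem_centralizer_iff]
    intro r hr
    have h1 : ⁅(⟨r, hRP hr⟩ : (P : Subgroup G)), (⟨x, hx⟩ : (P : Subgroup G))⁆
        ∈ commutator (P : Subgroup G) := by
      rw [_root_.commutator_def]
      exact Subgroup.commutator_mem_commutator (Subgroup.mem_top _) (Subgroup.mem_top _)
    rw [hd, Subgroup.mem_bot, commutatorElement_eq_one_iff_mul_comm] at h1
    exact congrArg Subtype.val h1
  obtain ⟨d', rfl⟩ : ∃ d', d = d' + 1 := ⟨d - 1, by omega⟩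
  obtain ⟨B, hB⟩ : ∃ B : Subgroup G,
      B = (derivedSeries ↥(P : Subgroup G) d').map (P : Subgroup G).subtype := ⟨_, rfl⟩
  have hBB : ⁅B, B⁆ = (derivedSeries ↥(P : Subgroup G) (d' + 1)).map (P : Subgroup G).subtype := by
    rw [hB, ← Subgroup.map_commutator, derivedSeries_succ]
  have hBBBB : ⁅⁅B, B⁆, ⁅B, B⁆⁆ = ⊥ := by
    rw [hBB, ← Subgroup.map_commutator, ← derivedSeries_succ, hd, Subgroup.map_bot]
  have hBp : IsPGroup p B := by
    rw [hB]
    exact (P.isPGroup'.to_subgroup _).map _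
  have hnorm : ∀ r ∈ pCore p G, ∀ b ∈ B, r * b * r⁻¹ ∈ B := by
    intro r hr b hb
    rw [hB] at hb ⊢
    obtain ⟨b₀, hb₀, rfl⟩ := hb
    have hn : (derivedSeries ↥(P : Subgroup G) d').Normal := derivedSeries_normal _ d'
    exact ⟨(⟨r, hRP hr⟩ : (P : Subgroup G)) * b₀ * (⟨r, hRP hr⟩ : (P : Subgroup G))⁻¹,
      hn.conj_mem b₀ hb₀ _, rfl⟩
  have hab : ∀ a ∈ ⁅B, B⁆, ∀ a' ∈ ⁅B, B⁆, a * a' = a' * a := by
    intro a ha a' ha'
    have h1 : ⁅a, a'⁆ ∈ ⁅⁅B, B⁆, ⁅B, B⁆⁆ := Subgroup.commutator_mem_commutator ha ha'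
    rw [hBBBB, Subgroup.mem_bot, commutatorElement_eq_one_iff_mul_comm] at h1
    exact h1
  have := comm_le_pCore hp2 hG hO B hBp hnorm hab
  rwa [hBB] at this

/-- the induction on the derived length -/
theorem main.{u} {p : ℕ} [hp : Fact p.Prime] (hp2 : p ≠ 2) :
    ∀ (d : ℕ) (G : Type u) [Group G] [Finite G], IsPSolvable p G →
    (∀ P : Sylow p G, derivedSeries ↥(P : Subgroup G) d = ⊥) → PLengthLE p d G := by
  intro d
  induction d with
  | zero =>
    intro G _ _ hG hd
    have hcop : (Nat.card G).Coprime p := by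
      rw [Nat.coprime_comm, hp.out.coprime_iff_not_dvd]
      intro hdvd
      obtain ⟨x, hx⟩ := exists_prime_orderOf_dvd_card' p hdvd
      have hz : IsPGroup p (zpowers x) := by
        rintro ⟨y, hy⟩
        refine ⟨1, ?_⟩
        obtain ⟨j, rfl⟩ := mem_zpowers_iff.mp hy
        apply Subtype.ext
        show (x ^ j) ^ p ^ 1 = 1
        rw [pow_one, ← zpow_natCast, ← zpow_mul, mul_comm, zpow_mul, zpow_natCast, ← hx,
          pow_orderOf_eq_one, one_zpow]
      obtain ⟨P, hP⟩ := hz.exists_le_sylow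
      have h1 := hd P
      rw [derivedSeries_zero] at h1
      have h2 : (⟨x, hP (mem_zpowers x)⟩ : (P : Subgroup G)) ∈ (⊤ : Subgroup (P : Subgroup G)) :=
        Subgroup.mem_top _
      rw [h1, Subgroup.mem_bot] at h2
      have h3 : x = 1 := congrArg Subtype.val h2
      rw [h3, orderOf_one] at hx
      exact hp.out.one_lt.ne hx
    exact Cfsg.Agent.Helper11.upperPSeries_one_eq_top_of_coprime p hcop
  | succ d ih =>
    intro G _ _ hG hd
    have hK1 : pPrimeCore p G ≤ (upperPSeries p G 1).1 := by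
      rw [Cfsg.Agent.Helper54.upperPSeries_one]
    apply pLengthLE_of_quotient_pPrime (pPrimeCore p G) hK1
    have hG1 : IsPSolvable p (G ⧸ pPrimeCore p G) := Cfsg.Agent.Helper11.isPSolvable_quotient _ hG
    have hO1 : pPrimeCore p (G ⧸ pPrimeCore p G) = ⊥ := Cfsg.Agent.Helper54.pPrimeCore_quotient_eq_bot
    have hd1 : ∀ P : Sylow p (G ⧸ pPrimeCore p G),
        derivedSeries ↥(P : Subgroup (G ⧸ pPrimeCore p G)) (d + 1) = ⊥ := by
      intro P
      obtain ⟨P₀, rfl⟩ := Sylow.mapSurjective_surjective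
        (QuotientGroup.mk'_surjective (pPrimeCore p G)) p P
      exact derivedSeries_map_eq_bot _ _ _ (hd P₀)
    rw [add_comm d 1]
    refine pLengthLE_add_of_normal (pCore p (G ⧸ pPrimeCore p G))
      (Cfsg.Agent.Helper57.WrSec.pLengthLE_one_of_pGroup (isPGroup_pCore p)) ?_
    apply ih ((G ⧸ pPrimeCore p G) ⧸ pCore p (G ⧸ pPrimeCore p G))
      (Cfsg.Agent.Helper11.isPSolvable_quotient _ hG1)
    intro P
    obtain ⟨P₁, rfl⟩ := Sylow.mapSurjective_surjective
      (QuotientGroup.mk'_surjective (pCore p (G ⧸ pPrimeCore p G))) p P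
    have hkey := derivedSeries_le_pCore hp2 hG1 hO1 P₁ d (hd1 P₁)
    show derivedSeries ↥((P₁ : Subgroup (G ⧸ pPrimeCore p G)).map
      (QuotientGroup.mk' (pCore p (G ⧸ pPrimeCore p G)))) d = ⊥
    rw [← map_derivedSeries_eq
      (f := (QuotientGroup.mk' (pCore p (G ⧸ pPrimeCore p G))).subgroupMap
        (P₁ : Subgroup (G ⧸ pPrimeCore p G)))
      (MonoidHom.subgroupMap_surjective _ _) d, eq_bot_iff]
    rintro _ ⟨x, hx, rfl⟩
    rw [Subgroup.mem_bot]
    apply Subtype.ext
    show (QuotientGroup.mk' (pCore p (G ⧸ pPrimeCore p G))) (x : G ⧸ pPrimeCore p G) = 1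
    rw [QuotientGroup.mk'_apply, QuotientGroup.eq_one_iff]
    exact hkey ⟨x, hx, rfl⟩

/-- Let p be an odd prime and G a finite p-soluble group whose Sylow p-subgroups have derived length at most d. Then G has p-length at most d. -/
theorem result {G : Type*} [Group G] [Finite G] {p : ℕ} [Fact p.Prime] (hp : p ≠ 2) (hG : Cfsg.IsPSolvable p G) (d : ℕ) (hd : ∀ P : Sylow p G, derivedSeries ↥(P : Subgroup G) d = ⊥) : Cfsg.PLengthLE p d G :=
  main hp d G hG hd

end Cfsg.Agent.S3789
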