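import Cfsg.Statements.S3790
import Cfsg.Agent.Helper63.PSeriesTools

set_option autoImplicit false
open Cfsg

namespace Cfsg.Agent.S3790

open Cfsg.Agent.Lib Cfsg.Agent.Helper11 Cfsg.Agent.Helper63

universe u

/-- A `p`-group has `p`-length at most `1`. -/
theorem pLengthLE_one_of_isPGroup {G : Type*} [Group G] [Finite G] {p : ℕ} (h : IsPGroup p G) :
    PLengthLE p 1 G := by
  unfold PLengthLE
  rw [eq_top_iff]
  refine le_trans ?_ (upperPSeries_le_succ p 2)
  rw [show (2 : ℕ) = 1 + 1 from rfl, upperPSeries_succ_odd p 1 (by decide)]
  have : IsPGroup p (G ⧸ (upperPSeries p G 1).1) := h.to_quotient _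
  rw [pCore_eq_top_of_isPGroup this, Subgroup.comap_top]

/-- The trivial group has `p`-length `0`. -/
theorem pLengthLE_zero_of_subsingleton {G : Type*} [Group G] [Subsingleton G] (p : ℕ) :
    PLengthLE p 0 G := by
  unfold PLengthLE
  exact Subsingleton.elim _ _

/-- One step of the induction along the upper `s`-series. -/
theorem step {G : Type*} [Group G] [Finite G] {p : ℕ} [Fact p.Prime] (V W : Subgroup G)
    [V.Normal] [W.Normal] (K : Subgroup (G ⧸ V)) [K.Normal]
    (hW : K.comap (QuotientGroup.mk' V) = W) {a b : ℕ}
    (hK : PLengthLE p a K) (hQ : PLengthLE p b (G ⧸ W)) : PLengthLE p (a + b) (G ⧸ V) := by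
  refine pLengthLE_add_of_normal K hK ?_
  exact pLengthLE_of_surjective
    (quotientComapEquiv (QuotientGroup.mk' V) (QuotientGroup.mk'_surjective V) K W hW).toMonoidHom
    (MulEquiv.surjective _) hQ

theorem main (p : ℕ) [hp : Fact p.Prime] : ∀ (r : ℕ) (G : Type u) [Group G] [Finite G]
    (q : Fin r → ℕ) (_ : ∀ i, (q i).Prime ∧ q i ≠ p)
    (_ : ∀ s : ℕ, s.Prime → s ∣ Nat.card G → s ≠ p → ∃ i, q i = s) (l : Fin r → ℕ)
    (_ : ∀ i, PLengthLE (q i) (l i) G),
    PLengthLE p (Finset.univ.prod fun i => 1 + l i) G := by
  intro r
  induction r with
  | zero =>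
    intro G _ _ q hq hcover l hl
    have hG : IsPGroup p G := by
      have hcard : Nat.card G = p ^ (Nat.card G).primeFactorsList.length := by
        apply Nat.eq_prime_pow_of_unique_prime_dvd Nat.card_pos.ne'
        intro d hd hdvd
        by_contra hne
        obtain ⟨i, _⟩ := hcover d hd hdvd hne
        exact i.elim0
      exact IsPGroup.of_card hcard
    simpa using pLengthLE_one_of_isPGroup hG
  | succ r ih =>
    intro G _ _ q hq hcover l hl
    have hsp : (q (Fin.last r)).Prime := (hq _).1
    have hsne : q (Fin.last r) ≠ p := (hq _).2
    have htop : (upperPSeries (q (Fin.last r)) G (2 * l (Fin.last r) + 1)).1 = ⊤ :=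
      hl (Fin.last r)
    have key : ∀ d j : ℕ, d + j = 2 * l (Fin.last r) + 1 →
        PLengthLE p ((Finset.univ.prod fun i : Fin r => 1 + l i.castSucc) * ((d + 1) / 2))
          (G ⧸ (upperPSeries (q (Fin.last r)) G j).1) := by
      intro d
      induction d with
      | zero =>
        intro j hj
        have hj' : j = 2 * l (Fin.last r) + 1 := by omega
        subst hj'
        have : Subsingleton (G ⧸ (upperPSeries (q (Fin.last r)) G (2 * l (Fin.last r) + 1)).1) := by
          rw [htop]; exact QuotientGroup.subsingleton_quotient_top
        simpa using pLengthLE_zero_of_subsingleton p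
      | succ d ihd =>
        intro j hj
        have ih1 := ihd (j + 1) (by omega)
        by_cases hje : Even j
        · have hW := (upperPSeries_succ_even (q (Fin.last r)) (G := G) j hje).symm
          have hK : PLengthLE p (Finset.univ.prod fun i : Fin r => 1 + l i.castSucc)
              (pPrimeCore (q (Fin.last r)) (G ⧸ (upperPSeries (q (Fin.last r)) G j).1)) := by
            apply ih _ (fun i => q i.castSucc) (fun i => hq _) ?_ (fun i => l i.castSucc) ?_
            · intro t ht hdvd htp
              have hdvdG : t ∣ Nat.card G :=
                hdvd.trans ((Subgroup.card_subgroup_dvd_card _).trans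
                  (Subgroup.card_quotient_dvd_card _))
              obtain ⟨i, hi⟩ := hcover t ht hdvdG htp
              induction i using Fin.lastCases with
              | last =>
                exfalso
                subst hi
                have hc := card_pPrimeCore_coprime
                  (G := G ⧸ (upperPSeries (q (Fin.last r)) G j).1) (q (Fin.last r))
                have h1 : q (Fin.last r) ∣ 1 := by
                  have := Nat.dvd_gcd hdvd (dvd_refl (q (Fin.last r)))
                  rwa [hc] at this
                exact ht.one_lt.ne' (Nat.dvd_one.mp h1)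
              | cast i => exact ⟨i, hi⟩
            · intro i
              have : Fact (q i.castSucc).Prime := ⟨(hq _).1⟩
              exact pLengthLE_subgroup _ (pLengthLE_quotient _ (hl i.castSucc))
          have h2 := step _ _ _ hW hK ih1
          have hd : (d + 1 + 1) / 2 = (d + 1) / 2 + 1 := by
            rw [Nat.even_iff] at hje
            omega
          rw [hd, Nat.mul_add, Nat.mul_one, Nat.add_comm]
          exact h2
        · have hW := (upperPSeries_succ_odd (q (Fin.last r)) (G := G) j hje).symm
          have hK : PLengthLE p 0
              (pCore (q (Fin.last r)) (G ⧸ (upperPSeries (q (Fin.last r)) G j).1)) := by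
            apply upperPSeries_one_eq_top_of_coprime
            have : Fact (q (Fin.last r)).Prime := ⟨hsp⟩
            obtain ⟨k, hk⟩ := (IsPGroup.iff_card).mp
              (isPGroup_pCore (G := G ⧸ (upperPSeries (q (Fin.last r)) G j).1) (q (Fin.last r)))
            rw [hk]
            exact Nat.Coprime.pow_left k ((Nat.coprime_primes hsp hp.out).mpr hsne)
          have h2 := step _ _ _ hW hK ih1
          have hd : (d + 1 + 1) / 2 = (d + 1) / 2 := by
            rw [Nat.even_iff] at hje
            omega
          rw [hd]
          rw [Nat.zero_add] at h2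
          exact h2
    have h0 := key (2 * l (Fin.last r) + 1) 0 (by omega)
    have h1 : PLengthLE p ((Finset.univ.prod fun i : Fin r => 1 + l i.castSucc) *
        (1 + l (Fin.last r))) G := by
      refine pLengthLE_of_quotient_pPrime (upperPSeries (q (Fin.last r)) G 0).1 ?_ ?_
      · rw [upperPSeries_zero]; exact bot_le
      · have hd : (2 * l (Fin.last r) + 1 + 1) / 2 = 1 + l (Fin.last r) := by omega
        rw [hd] at h0
        exact h0
    rw [Fin.prod_univ_castSucc]
    exact h1

/-- Let G be a finite solvable group and p a prime. Suppose p₁, …, p_r are distinct primes, all different from p, that include every prime dividing the order of G other than p, and that G has p_i-length at most l_i for each i. Then G has p-length at most the product of the numbers 1 + l_i. -/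
theorem result {G : Type*} [Group G] [Finite G] (hG : Group.IsSolvable G) (p : ℕ) [Fact p.Prime] (r : ℕ) (q : Fin r → ℕ) (hq : ∀ i, (q i).Prime ∧ q i ≠ p) (hinj : Function.Injective q) (hcover : ∀ s : ℕ, s.Prime → s ∣ Nat.card G → s ≠ p → ∃ i, q i = s) (l : Fin r → ℕ) (hl : ∀ i, Cfsg.PLengthLE (q i) (l i) G) : Cfsg.PLengthLE p (Finset.univ.prod fun i => 1 + l i) G :=
  main p r G q hq hcover l hl

end Cfsg.Agent.S3790
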