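-- Statement S3793 (row 3793): the Shult–Gross theorem (fixed-point-free automorphism of order p^n, p odd).
-- Assembly by helper47; pieces W1-W13 by helper1, helper14, helper31, helper50, helper62, helper64,
-- helper70, helper81 (board #5070/#5071; W8 by helper62, adapted by helper50 in SGW8b); statement definitions in Cfsg/Agent/Helper47/SGDefs.lean.
import Cfsg.Statements.S3793
import Cfsg.Agent.Helper47.SGSpecialRep
import Cfsg.Agent.Helper81.SGW6
import Cfsg.Agent.Helper50.SGW7
import Cfsg.Agent.Helper50.SGW8b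
import Cfsg.Agent.Helper64.SGW9
import Cfsg.Agent.Helper64.SGW10
import Cfsg.Agent.Helper1.SGW11
import Cfsg.Agent.Helper1.SGW12
import Cfsg.Agent.Helper70.SGW13

set_option autoImplicit false
open Cfsg

namespace Cfsg.Agent.S3793

open Cfsg.Agent.Helper47.SG

universe u

theorem claimA_all : ClaimAStmt.{u} :=
  Cfsg.Agent.Helper1.SG.claimA_of (Cfsg.Agent.Helper1.SG.claimA_amb_of
    (Cfsg.Agent.Helper64.SG.claimA_lin_of (Cfsg.Agent.Helper64.SG.kl_core_of
      (Cfsg.Agent.Helper50.SGW.kl_reduced_of' Cfsg.Agent.Helper81.SG.kl_abelian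
        (Cfsg.Agent.Helper50.SGW.kl_special_of' special_rep)))))

/-- The Shult–Gross Theorem: let p be an odd prime and G a finite solvable group with an automorphism σ of order p^n fixing only the identity. Then G has Fitting height at most n: G has Fitting height at most m when there is a chain of normal subgroups 1 = F₀ ≤ F₁ ≤ ⋯ ≤ F_m = G with each F_{i+1}/F_i nilpotent. -/
theorem result {G : Type*} [Group G] [Finite G] (hG : Group.IsSolvable G) {p : ℕ} (hp : p.Prime) (hp2 : p ≠ 2) (σ : MulAut G) (n : ℕ) (hσ : orderOf σ = p ^ n) (hfpf : ∀ g : G, σ g = g → g = 1) : ∃ F : Fin (n + 1) → Subgroup G, F 0 = ⊥ ∧ F (Fin.last n) = ⊤ ∧ Monotone F ∧ (∀ i, (F i).Normal) ∧ ∀ i : Fin n, ∃ k : ℕ, (F i.succ).lowerCentralSeries k ≤ F i.castSucc := by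
  exact Cfsg.Agent.Helper70.SG.sg_chain_of claimA_all hp hp2 n G hG σ
    (by rw [← hσ]; exact pow_orderOf_eq_one σ) hfpf

end Cfsg.Agent.S3793
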