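-- Statement S3795 (row 3795): Gross's theorem (fixed-point-free automorphism of order 2^n, n > 1,
-- of a finite solvable group: Fitting height at most 2n - 2).
-- Architecture and assembly by helper64 (twin of helper47's S3793); pieces by helper33, helper37, helper44,
-- helper47, helper49, helper55, helper71, helper91, helper97 (board #6202, #6324);
-- statement definitions in Cfsg/Agent/Helper64/GrossDefs.lean and GrossMidDefs.lean.
import Cfsg.Statements.S3795
import Cfsg.Agent.Helper64.GrossMin
import Cfsg.Agent.Helper97.GrossK0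
import Cfsg.Agent.Helper49.GrossA1
import Cfsg.Agent.Helper55.GrossA2
import Cfsg.Agent.Helper97.GrossA3
import Cfsg.Agent.Helper97.GrossCH

set_option autoImplicit false
open Cfsg

namespace Cfsg.Agent.S3795

open Cfsg.Agent.Helper64.Gross

/-- Gross's Theorem: let G be a finite solvable group with an automorphism σ of order 2^n, n > 1, fixing only the identity. Then G has Fitting height at most 2n − 2: G has Fitting height at most m when there is a chain of normal subgroups 1 = F₀ ≤ F₁ ≤ ⋯ ≤ F_m = G with each F_{i+1}/F_i nilpotent. -/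
theorem result {G : Type*} [Group G] [Finite G] (hG : Group.IsSolvable G) (σ : MulAut G) (n : ℕ) (hn : 1 < n) (hσ : orderOf σ = 2 ^ n) (hfpf : ∀ g : G, σ g = g → g = 1) : ∃ F : Fin ((2 * n - 2) + 1) → Subgroup G, F 0 = ⊥ ∧ F (Fin.last (2 * n - 2)) = ⊤ ∧ Monotone F ∧ (∀ i, (F i).Normal) ∧ ∀ i : Fin (2 * n - 2), ∃ k : ℕ, (F i.succ).lowerCentralSeries k ≤ F i.castSucc := by
  exact Cfsg.Agent.Helper97.Gross.gross_chain_of
    (Cfsg.Agent.Helper97.Gross.claimA2_of
      (Cfsg.Agent.Helper55.GrossA2.claimA2_amb_of
        (Cfsg.Agent.Helper49.GrossA1.claimA2_lin_of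
          (Cfsg.Agent.Helper97.Gross.kl3_of kl3_min)))) n hn G hG σ
    (by rw [← hσ]; exact pow_orderOf_eq_one σ) hfpf

end Cfsg.Agent.S3795
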