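import Cfsg.Statements.S3798
import Cfsg.Agent.Helper21.GYCore
import Cfsg.Agent.Helper21.GYQuot
import Cfsg.Agent.Helper54.PConstrained
import Cfsg.Agent.Helper54.BG36Plumb
import Cfsg.Agent.Helper54.PLength
import Cfsg.Agent.Helper63.PSeriesTools

set_option autoImplicit false
open Cfsg

namespace Cfsg.Agent.S3798

/-- The Gaschütz–Yen Theorem: let G be a finite p-soluble group, p an odd prime dividing its order, such that the automorphism group of G permutes the subgroups of G of order p transitively. Then G has p-length at most 1. -/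
theorem result {G : Type*} [Group G] [Finite G] {p : ℕ} [Fact p.Prime] (hp : p ≠ 2) (hdvd : p ∣ Nat.card G) (hG : Cfsg.IsPSolvable p G) (htrans : ∀ U V : Subgroup G, Nat.card U = p → Nat.card V = p → ∃ a : MulAut G, U.map a.toMonoidHom = V) : Cfsg.PLengthLE p 1 G := by
  have hQsol : Cfsg.IsPSolvable p (G ⧸ Cfsg.pPrimeCore p G) :=
    Cfsg.Agent.Helper11.isPSolvable_quotient _ hG
  have hQO : Cfsg.pPrimeCore p (G ⧸ Cfsg.pPrimeCore p G) = ⊥ :=
    Cfsg.Agent.Helper54.pPrimeCore_quotient_eq_bot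
  have hQtrans := Cfsg.Agent.Helper21.GY.trans_quotient htrans
  have hidx := Cfsg.Agent.Helper21.GY.not_dvd_index_pCore hp hQsol hQO hQtrans
  have hQ : Cfsg.PLengthLE p 1 (G ⧸ Cfsg.pPrimeCore p G) :=
    Cfsg.Agent.Helper54.BG36P.pLengthLE_one_of_normal_pGroup (Cfsg.pCore p (G ⧸ Cfsg.pPrimeCore p G))
      (Cfsg.Agent.Lib.isPGroup_pCore p) hidx
  exact Cfsg.Agent.Helper63.pLengthLE_of_quotient_pPrime (Cfsg.pPrimeCore p G)
    (by rw [Cfsg.Agent.Helper54.upperPSeries_one]) hQ

end Cfsg.Agent.S3798
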