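import Mathlib
import Cfsg.Statements.S3799
import Cfsg.Agent.Helper53.Heis

set_option autoImplicit false
open Cfsg

namespace Cfsg.Agent.S3799

open Cfsg.Agent.Helper53

/-- The natural module of the Heisenberg group. -/
abbrev HV (n p : ℕ) : Type := ZMod p × (Fin n → ZMod p) × ZMod p

/-- The action of an element of the Heisenberg group on the natural module. -/
def actLin {n p : ℕ} (h : Heis n p) : HV n p →ₗ[ZMod p] HV n p where
  toFun v := (v.1 + h.a ⬝ᵥ v.2.1 + h.c * v.2.2, v.2.1 + v.2.2 • h.b, v.2.2)
  map_add' v w := by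
    refine Prod.ext ?_ (Prod.ext ?_ ?_)
    · simp only [Prod.fst_add, Prod.snd_add, dotProduct_add]
      ring
    · funext i
      simp only [Prod.fst_add, Prod.snd_add, Pi.add_apply, Pi.smul_apply, smul_eq_mul]
      ring
    · rfl
  map_smul' r v := by
    refine Prod.ext ?_ (Prod.ext ?_ ?_)
    · simp only [Prod.smul_fst, Prod.smul_snd, dotProduct_smul, smul_eq_mul, RingHom.id_apply]
      ring
    · funext i
      simp only [Prod.smul_fst, Prod.smul_snd, Pi.add_apply, Pi.smul_apply, smul_eq_mul,
        RingHom.id_apply]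
      ring
    · rfl

theorem actLin_apply {n p : ℕ} (h : Heis n p) (v : HV n p) :
    actLin h v = (v.1 + h.a ⬝ᵥ v.2.1 + h.c * v.2.2, v.2.1 + v.2.2 • h.b, v.2.2) := rfl

/-- The action as a monoid homomorphism. -/
def actHom (n p : ℕ) : Heis n p →* Module.End (ZMod p) (HV n p) where
  toFun := actLin
  map_one' := by
    apply LinearMap.ext
    intro v
    rw [actLin_apply]
    refine Prod.ext ?_ (Prod.ext ?_ ?_)
    · simp
    · funext i; simp
    · rfl
  map_mul' x y := by
    apply LinearMap.ext
    intro v
    rw [Module.End.mul_apply, actLin_apply, actLin_apply, actLin_apply]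
    refine Prod.ext ?_ (Prod.ext ?_ ?_)
    · simp only [Heis.mul_a, Heis.mul_c, add_dotProduct, dotProduct_add,
        dotProduct_smul, smul_eq_mul]
      ring
    · funext i
      simp only [Heis.mul_b, Pi.add_apply, Pi.smul_apply, smul_eq_mul]
      ring
    · rfl

theorem actHom_apply {n p : ℕ} (h : Heis n p) (v : HV n p) :
    actHom n p h v = (v.1 + h.a ⬝ᵥ v.2.1 + h.c * v.2.2, v.2.1 + v.2.2 • h.b, v.2.2) := rfl

theorem actHom_injective (n p : ℕ) : Function.Injective (actHom n p) := by
  rw [injective_iff_map_eq_one]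
  intro x hx
  have h1 : actHom n p x (0, 0, 1) = (0, 0, 1) := by rw [hx]; rfl
  rw [actHom_apply] at h1
  have hc : x.c = 0 := by
    have := congrArg Prod.fst h1
    simpa using this
  have hb : x.b = 0 := by
    have := congrArg (fun t => t.2.1) h1
    simpa using this
  have ha : x.a = 0 := by
    funext i
    have h2 : actHom n p x (0, Pi.single i 1, 0) = (0, Pi.single i 1, 0) := by rw [hx]; rfl
    rw [actHom_apply] at h2
    have := congrArg Prod.fst h2
    simpa using this
  apply Heis.ext
  · exact ha
  · exact hb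
  · exact hc

/-- For every odd prime p and every n ≥ 1 there is an extraspecial p-group of order p^(1+2n) and exponent p; concretely, the general linear group of degree n + 2 over the field with p elements contains such a subgroup. -/
theorem result (p : ℕ) [Fact p.Prime] (hp : p ≠ 2) (n : ℕ) (hn : 1 ≤ n) : ∃ E : Subgroup (Matrix.GeneralLinearGroup (Fin (n + 2)) (ZMod p)), Cfsg.IsExtraspecial p ↥E ∧ Nat.card E = p ^ (1 + 2 * n) ∧ ∀ x ∈ E, x ^ p = 1 := by
  have hne : NeZero p := ⟨(Fact.out : p.Prime).ne_zero⟩
  have hfr : Module.finrank (ZMod p) (HV n p) = n + 2 := by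
    simp [HV, Module.finrank_prod]
    ring
  let b := Module.finBasisOfFinrankEq (ZMod p) (HV n p) hfr
  let Θ : (Module.End (ZMod p) (HV n p))ˣ ≃* Matrix.GeneralLinearGroup (Fin (n + 2)) (ZMod p) :=
    Units.mapEquiv (LinearMap.toMatrixAlgEquiv b).toMulEquiv
  let φ : Heis n p →* Matrix.GeneralLinearGroup (Fin (n + 2)) (ZMod p) :=
    Θ.toMonoidHom.comp (actHom n p).toHomUnits
  have hφ : Function.Injective φ := by
    intro x y hxy
    have h1 : (actHom n p).toHomUnits x = (actHom n p).toHomUnits y := Θ.injective hxy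
    have h2 : actHom n p x = actHom n p y := by
      have := congrArg Units.val h1
      simpa using this
    exact actHom_injective n p h2
  let e : Heis n p ≃* φ.range := MonoidHom.ofInjective hφ
  refine ⟨φ.range, isExtraspecial_of_mulEquiv e (Heis.isExtraspecial hp hn), ?_, ?_⟩
  · rw [← Nat.card_congr e.toEquiv, Heis.card_eq]
  · rintro _ ⟨h, rfl⟩
    rw [← map_pow, Heis.pow_prime_eq_one hp, map_one]

end Cfsg.Agent.S3799
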