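import Cfsg.Statements.S3800
import Mathlib
import Cfsg.Agent.Helper63.SylowLocal

set_option autoImplicit false
open Cfsg

namespace Cfsg.Agent.S3800

open Cfsg.Agent.Helper63

theorem map_conj_mul {G : Type*} [Group G] (H : Subgroup G) (a b : G) :
    H.map (MulAut.conj (a * b)).toMonoidHom
      = (H.map (MulAut.conj b).toMonoidHom).map (MulAut.conj a).toMonoidHom := by
  rw [Subgroup.map_map]
  congr 1
  ext x
  simp [MulAut.conj_apply, mul_assoc]

theorem card_mul_relIndex {G : Type*} [Group G] (H K : Subgroup G) (h : H ≤ K) :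
    Nat.card H * H.relIndex K = Nat.card K := by
  rw [← Subgroup.relIndex_bot_left, ← Subgroup.relIndex_bot_left]
  exact Subgroup.relIndex_mul_relIndex _ _ _ bot_le h

/-- The key step: an element of `G` whose image normalizes the image of `P` can be corrected by an element of `N`
to normalize `P`. -/
theorem key {G : Type*} [Group G] [Finite G] {p : ℕ} [Fact p.Prime] (N : Subgroup G) [N.Normal]
    (hN : (Nat.card N).Coprime p) (P : Subgroup G) (hP : IsPGroup p P) (g : G)
    (hg : QuotientGroup.mk' N g ∈ Subgroup.normalizer ((P.map (QuotientGroup.mk' N)) : Set (G ⧸ N))) :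
    ∃ n ∈ N, n⁻¹ * g ∈ Subgroup.normalizer (P : Set G) := by
  have hp : p.Prime := Fact.out
  set M : Subgroup G := N ⊔ P with hM
  have hPM : P ≤ M := le_sup_right
  have hNM : N ≤ M := le_sup_left
  obtain ⟨k, hk⟩ := IsPGroup.iff_card.mp hP
  have hcop : (Nat.card N).Coprime (Nat.card P) := by
    rw [hk]; exact Nat.Coprime.pow_right k hN
  have hdisj : N ⊓ P = ⊥ := (Subgroup.disjoint_of_coprime_natCard hcop).eq_bot
  -- card M = card N * card P
  have hNrel : N.relIndex M = Nat.card P := by
    rw [hM, Subgroup.relIndex_sup_left, ← Subgroup.inf_relIndex_right, hdisj,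
      Subgroup.relIndex_bot_left]
  have hcardM : Nat.card M = Nat.card N * Nat.card P := by
    rw [← card_mul_relIndex N M hNM, hNrel]
  have hrel : ∀ P' : Subgroup G, P' ≤ M → Nat.card P' = Nat.card P → ¬ p ∣ P'.relIndex M := by
    intro P' hP'M hcard hdvd
    have h1 := card_mul_relIndex P' M hP'M
    rw [hcardM, hcard, mul_comm] at h1
    have hpos : 0 < Nat.card P := Nat.card_pos
    have h2 : P'.relIndex M = Nat.card N := Nat.eq_of_mul_eq_mul_right hpos h1
    rw [h2] at hdvd
    have := Nat.Coprime.eq_one_of_dvd hN.symm hdvd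
    exact hp.one_lt.ne' this
  -- the conjugate of P by g
  set P₂ : Subgroup G := P.map (MulAut.conj g).toMonoidHom with hP₂
  have hP₂M : P₂ ≤ M := by
    rintro _ ⟨y, hy, rfl⟩
    have h1 : QuotientGroup.mk' N ((MulAut.conj g) y) ∈ P.map (QuotientGroup.mk' N) := by
      rw [MulAut.conj_apply, map_mul, map_mul, map_inv]
      have h2 := (Subgroup.mem_normalizer_iff.mp hg (QuotientGroup.mk' N y)).mp
        (Subgroup.mem_map_of_mem _ hy)
      exact h2
    have h3 : (MulAut.conj g) y ∈ (P.map (QuotientGroup.mk' N)).comap (QuotientGroup.mk' N) := h1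
    rw [Subgroup.comap_map_eq, QuotientGroup.ker_mk', sup_comm] at h3
    exact h3
  have hP₂card : Nat.card P₂ = Nat.card P := by
    rw [hP₂]
    exact Subgroup.card_map_of_injective (MulAut.conj g).injective
  have hP₂p : IsPGroup p P₂ := hP.map _
  obtain ⟨m, hmM, hm⟩ := exists_conj_eq_of_relIndex M P P₂ hPM hP₂M hP hP₂p
    (hrel P hPM rfl) (hrel P₂ hP₂M hP₂card)
  have hmM' : m ∈ (↑(N ⊔ P) : Set G) := hmM
  rw [Subgroup.normal_mul] at hmM'
  obtain ⟨n, hn, y, hy, rfl⟩ := hmM'
  refine ⟨n, hn, ?_⟩
  have hyP : P.map (MulAut.conj y).toMonoidHom = P :=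
    Subgroup.mem_normalizer_iff_map_conj_eq.mp (Subgroup.le_normalizer hy)
  have h1 : P.map (MulAut.conj (n⁻¹ * g)).toMonoidHom = P := by
    rw [map_conj_mul, ← hP₂, hm, map_conj_mul, hyP, ← map_conj_mul]
    ext z
    simp
  exact Subgroup.mem_normalizer_iff_map_conj_eq.mpr h1

/-- Let G be a finite group, N a normal subgroup of G whose order is prime to p, and P a p-subgroup of G. Then in G/N the normalizer of the image of P is the image of N_G(P), and the centralizer of the image of P is the image of C_G(P). -/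
theorem result {G : Type*} [Group G] [Finite G] {p : ℕ} [Fact p.Prime] (N : Subgroup G) [N.Normal] (hN : (Nat.card N).Coprime p) (P : Subgroup G) (hP : IsPGroup p P) : Subgroup.normalizer ((P.map (QuotientGroup.mk' N)) : Set (G ⧸ N)) = (Subgroup.normalizer (P : Set G)).map (QuotientGroup.mk' N) ∧ Subgroup.centralizer ((P.map (QuotientGroup.mk' N)) : Set (G ⧸ N)) = (Subgroup.centralizer (P : Set G)).map (QuotientGroup.mk' N) := by
  obtain ⟨k, hk⟩ := IsPGroup.iff_card.mp hP
  have hcop : (Nat.card N).Coprime (Nat.card P) := by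
    rw [hk]; exact Nat.Coprime.pow_right k hN
  have hdisj : N ⊓ P = ⊥ := (Subgroup.disjoint_of_coprime_natCard hcop).eq_bot
  constructor
  · apply le_antisymm
    · intro x hx
      obtain ⟨g, rfl⟩ := QuotientGroup.mk'_surjective N x
      obtain ⟨n, hn, hng⟩ := key N hN P hP g hx
      refine ⟨n⁻¹ * g, hng, ?_⟩
      rw [map_mul, map_inv]
      have : QuotientGroup.mk' N n = 1 := (QuotientGroup.eq_one_iff n).mpr hn
      rw [this, inv_one, one_mul]
    · exact Subgroup.le_normalizer_map _
  · apply le_antisymm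
    · intro x hx
      obtain ⟨g, rfl⟩ := QuotientGroup.mk'_surjective N x
      have hxn : QuotientGroup.mk' N g ∈ Subgroup.normalizer ((P.map (QuotientGroup.mk' N)) : Set (G ⧸ N)) :=
        Subgroup.centralizer_le_normalizer _ hx
      obtain ⟨n, hn, hng⟩ := key N hN P hP g hxn
      have hπ : QuotientGroup.mk' N (n⁻¹ * g) = QuotientGroup.mk' N g := by
        rw [map_mul, map_inv]
        have : QuotientGroup.mk' N n = 1 := (QuotientGroup.eq_one_iff n).mpr hn
        rw [this, inv_one, one_mul]
      refine ⟨n⁻¹ * g, ?_, hπ⟩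
      rw [SetLike.mem_coe, Subgroup.mem_centralizer_iff]
      intro y hy
      set g' := n⁻¹ * g with hg'
      -- commutator lies in P ⊓ N
      have hc1 : g' * y * g'⁻¹ * y⁻¹ ∈ P := by
        have := (Subgroup.mem_normalizer_iff.mp hng y).mp hy
        exact P.mul_mem this (P.inv_mem hy)
      have hc2 : g' * y * g'⁻¹ * y⁻¹ ∈ N := by
        rw [← QuotientGroup.eq_one_iff, ← QuotientGroup.mk'_apply]
        rw [map_mul, map_mul, map_mul, map_inv, map_inv, hπ]
        have hy' : QuotientGroup.mk' N y ∈ ((P.map (QuotientGroup.mk' N) : Subgroup (G ⧸ N)) : Set (G ⧸ N)) :=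
          Subgroup.mem_map_of_mem _ hy
        have := Subgroup.mem_centralizer_iff.mp hx _ hy'
        rw [← this]
        group
      have hc3 : g' * y * g'⁻¹ * y⁻¹ ∈ N ⊓ P := Subgroup.mem_inf.mpr ⟨hc2, hc1⟩
      rw [hdisj, Subgroup.mem_bot] at hc3
      calc y * g' = (g' * y * g'⁻¹ * y⁻¹)⁻¹ * (g' * y) := by group
        _ = g' * y := by rw [hc3, inv_one, one_mul]
    · have := Subgroup.map_centralizer_le_centralizer_image (P : Set G) (QuotientGroup.mk' N)
      rwa [← Subgroup.coe_map] at this

end Cfsg.Agent.S3800
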