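import Cfsg.Statements.S3802
import Mathlib
import Cfsg.Agent.Helper63.Subnormal

set_option autoImplicit false
open Cfsg

namespace Cfsg.Agent.S3802

open Cfsg.Agent.Helper63

universe u

theorem core_induction : ∀ n : ℕ, ∀ (G : Type u) [Group G] [Finite G], Nat.card G = n →
    ∀ M N : Subgroup G, IsCoatom M → N.IsSubnormal → N ≤ M → N ≤ M.normalCore := by
  intro n
  induction' n using Nat.strong_induction_on with n ih
  intro G _ _ hn M N hM hN hNM
  have hMtop : M ≠ ⊤ := hM.1
  have htopbot : (⊤ : Subgroup G) ≠ ⊥ := by
    intro h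
    apply hMtop
    rw [h]
    exact le_bot_iff.mp (h ▸ le_top)
  obtain ⟨L, -, hLn, hLbot, hLmin⟩ := exists_minNormal (⊤ : Subgroup G) Subgroup.normal_top htopbot
  by_cases hLM : L ≤ M
  · -- pass to the quotient G ⧸ L
    have := hLn
    have hcardL : 1 < Nat.card L := by
      rcases Nat.lt_or_ge 1 (Nat.card L) with h | h
      · exact h
      · exfalso
        have hpos : 0 < Nat.card L := Nat.card_pos
        have : Nat.card L = 1 := by omega
        exact hLbot (Subgroup.card_eq_one.mp this)
    have hcardQ : Nat.card (G ⧸ L) < n := by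
      have h1 := Subgroup.card_eq_card_quotient_mul_card_subgroup L
      rw [hn] at h1
      have hpos : 0 < Nat.card (G ⧸ L) := Nat.card_pos
      nlinarith
    have hsurj := QuotientGroup.mk'_surjective L
    have hcomap : ∀ X : Subgroup G, L ≤ X → (X.map (QuotientGroup.mk' L)).comap (QuotientGroup.mk' L) = X := by
      intro X hX
      rw [Subgroup.comap_map_eq, QuotientGroup.ker_mk', sup_eq_left.mpr hX]
    have hM' : IsCoatom (M.map (QuotientGroup.mk' L)) := by
      constructor
      · intro h
        apply hMtop
        have := congrArg (Subgroup.comap (QuotientGroup.mk' L)) h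
        rwa [hcomap M hLM, Subgroup.comap_top] at this
      · intro X hX
        have h1 : M ≤ X.comap (QuotientGroup.mk' L) := by
          rw [← hcomap M hLM]
          exact Subgroup.comap_mono hX.le
        have h2 : M ≠ X.comap (QuotientGroup.mk' L) := by
          intro h
          have := congrArg (Subgroup.map (QuotientGroup.mk' L)) h
          rw [Subgroup.map_comap_eq_self_of_surjective hsurj] at this
          exact hX.ne this
        have h3 := hM.2 _ (lt_of_le_of_ne h1 h2)
        have := congrArg (Subgroup.map (QuotientGroup.mk' L)) h3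
        rwa [Subgroup.map_comap_eq_self_of_surjective hsurj, Subgroup.map_top_of_surjective _ hsurj] at this
    have hN' : (N.map (QuotientGroup.mk' L)).IsSubnormal := hN.map hsurj
    have hle := ih _ hcardQ (G ⧸ L) rfl _ _ hM' hN' (Subgroup.map_mono hNM)
    intro x hx g
    have h1 : QuotientGroup.mk' L x ∈ (M.map (QuotientGroup.mk' L)).normalCore :=
      hle (Subgroup.mem_map_of_mem _ hx)
    have h2 := h1 (QuotientGroup.mk' L g)
    rw [← map_inv, ← map_mul, ← map_mul] at h2
    have h3 : g * x * g⁻¹ ∈ (M.map (QuotientGroup.mk' L)).comap (QuotientGroup.mk' L) := h2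
    rwa [hcomap M hLM] at h3
  · -- L ≰ M : M ⊔ L = ⊤ and L normalizes N
    have hsup : M ⊔ L = ⊤ := by
      apply hM.2
      exact lt_of_le_of_ne le_sup_left (fun h => hLM (h ▸ le_sup_right))
    have hLnorm := minNormal_le_normalizer_of_isSubnormal N L hN hLn hLbot hLmin
    intro x hx g
    have hg : g ∈ ((M ⊔ L : Subgroup G) : Set G) := by rw [hsup]; trivial
    have := hLn
    rw [Subgroup.mul_normal] at hg
    obtain ⟨m, hm, l, hl, rfl⟩ := hg
    have h1 : l * x * l⁻¹ ∈ N := (Subgroup.mem_normalizer_iff.mp (hLnorm hl) x).mp hx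
    have : m * l * x * (m * l)⁻¹ = m * (l * x * l⁻¹) * m⁻¹ := by group
    rw [this]
    exact M.mul_mem (M.mul_mem hm (hNM h1)) (M.inv_mem hm)

/-- Let G be a finite group, M a maximal subgroup of G and N a subnormal subgroup of G contained in M. Then N is contained in every conjugate of M, that is, N lies in the core of M in G. -/
theorem result {G : Type*} [Group G] [Finite G] (M N : Subgroup G) (hM : IsCoatom M) (hN : N.IsSubnormal) (hNM : N ≤ M) :
    N ≤ Subgroup.normalCore M :=
  core_induction _ G rfl M N hM hN hNM

end Cfsg.Agent.S3802
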