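import Cfsg.Statements.S3803
import Cfsg.Agent.Helper50.MaxInv

set_option autoImplicit false
open Cfsg

namespace Cfsg.Agent.S3803

/-- Let P be a 2-subgroup and A a subgroup of odd order of a finite group, with A normalizing P. Let D ≤ P with 1 < |D| < |P|. If every subgroup of P of order |D|, and also every subgroup of P of order 4 in case |D| = 2, is normalized by A, then A centralizes P. -/
theorem result {X : Type*} [Group X] [Finite X] (P A D : Subgroup X) (hP : IsPGroup 2 P) (hA : Odd (Nat.card A))
    (hAP : A ≤ Subgroup.normalizer (P : Set X)) (hDP : D ≤ P) (hD1 : 1 < Nat.card D) (hD2 : Nat.card D < Nat.card P)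
    (hinv : ∀ E : Subgroup X, E ≤ P → (Nat.card E = Nat.card D ∨ (Nat.card D = 2 ∧ Nat.card E = 4)) → A ≤ Subgroup.normalizer (E : Set X)) :
    A ≤ Subgroup.centralizer (P : Set X) := by
  classical
  have : Fact (Nat.Prime 2) := ⟨Nat.prime_two⟩
  intro a ha
  have haodd : (orderOf a).Coprime 2 := by
    have h1 : orderOf a ∣ Nat.card A := Cfsg.Agent.Helper24.orderOf_dvd_card_of_mem ha
    have h2 : Odd (orderOf a) := hA.of_dvd_nat h1
    exact (Nat.coprime_two_left.mpr h2).symm
  have haP : a ∈ Subgroup.normalizer (P : Set X) := hAP ha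
  obtain ⟨d, hd⟩ := Cfsg.Agent.Helper50.exists_card_eq_pow_of_le hP hDP
  obtain ⟨k, hk⟩ := (IsPGroup.iff_card).mp hP
  have hd1 : 1 ≤ d := by
    rcases Nat.eq_zero_or_pos d with h | h
    · rw [h, pow_zero] at hd; omega
    · exact h
  have hdk : d < k := by
    rw [hd, hk] at hD2
    exact (Nat.pow_lt_pow_iff_right (by norm_num)).mp hD2
  have hinv' : ∀ E : Subgroup X, E ≤ P → (Nat.card E = 2 ^ d ∨ (d = 1 ∧ Nat.card E = 4)) →
      a ∈ Subgroup.normalizer (E : Set X) := by
    intro E hEP h
    apply hinv E hEP _ ha
    rcases h with h | ⟨h1, h2⟩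
    · left; rw [h, hd]
    · right; exact ⟨by rw [hd, h1]; norm_num, h2⟩
  have main : ∀ x ∈ P, a * x = x * a := by
    apply Cfsg.Agent.Helper50.commute_of_commute_omega_sq haodd P hP haP
    intro x hx hx4
    set C : Subgroup X := Subgroup.zpowers x with hCdef
    have hCP : C ≤ P := Subgroup.zpowers_le.mpr hx
    have hCcyc : IsCyclic C := inferInstance
    have hxC : x ∈ C := Subgroup.mem_zpowers x
    obtain ⟨j, hj⟩ := Cfsg.Agent.Helper50.exists_card_eq_pow_of_le hP hCP
    have hj2 : j ≤ 2 := by
      have h1 : Nat.card C = orderOf x := Nat.card_zpowers x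
      have h2 : orderOf x ∣ 2 ^ 2 := orderOf_dvd_of_pow_eq_one hx4
      rw [← h1, hj] at h2
      exact (Nat.pow_dvd_pow_iff_le_right (by norm_num)).mp h2
    by_cases hd2 : d = 1
    · have haC : a ∈ Subgroup.normalizer (C : Set X) := by
        interval_cases j
        · have hbot : C = ⊥ := Subgroup.card_eq_one.mp (by rw [hj]; norm_num)
          rw [hbot, Subgroup.mem_normalizer_iff]
          intro y
          simp only [Subgroup.mem_bot]
          constructor
          · rintro rfl; group
          · intro h
            have : y = a⁻¹ * (a * y * a⁻¹) * a := by group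
            rw [this, h]; group
        · exact hinv' C hCP (Or.inl (by rw [hj, hd2]))
        · exact hinv' C hCP (Or.inr ⟨hd2, by rw [hj]; norm_num⟩)
      exact Cfsg.Agent.Helper50.commute_of_normalizes_cyclic_two (hP.to_le hCP) hCcyc haC haodd x hxC
    · have hd2' : 2 ≤ d := by omega
      obtain ⟨E, hCE, hEP, hEcard⟩ := Cfsg.Agent.Helper50.exists_between_card_pow hCP hj
        (le_trans hj2 hd2') (hk ▸ pow_dvd_pow 2 hdk.le)
      have haE := hinv' E hEP (Or.inl hEcard)
      by_cases hEcyc : IsCyclic E
      · exact Cfsg.Agent.Helper50.commute_of_normalizes_cyclic_two (hP.to_le hEP) hEcyc haE haodd x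
          (hCE hxC)
      · obtain ⟨Q, hEQ, hQP, hQcard⟩ := Cfsg.Agent.Helper50.exists_between_card_pow hEP hEcard
          (Nat.le_succ d) (hk ▸ pow_dvd_pow 2 (Nat.succ_le_of_lt hdk))
        have hEneQ : E ≠ Q := by
          intro h
          rw [h, hQcard] at hEcard
          have := Nat.pow_right_injective (le_refl 2) hEcard
          omega
        obtain ⟨g, hgQ, hgE⟩ := SetLike.exists_of_lt (lt_of_le_of_ne hEQ hEneQ)
        have hgle : Subgroup.zpowers g ≤ Q := Subgroup.zpowers_le.mpr hgQ
        have hgne : Subgroup.zpowers g ≠ Q := by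
          intro h
          apply hEcyc
          have hEg : E ≤ Subgroup.zpowers g := h ▸ hEQ
          exact Subgroup.isCyclic_of_le hEg
        obtain ⟨i, hi⟩ := Cfsg.Agent.Helper50.exists_card_eq_pow_of_le hP (le_trans hgle hQP)
        have hid : i ≤ d := by
          have hlt : Nat.card (Subgroup.zpowers g) < Nat.card Q :=
            Cfsg.Agent.Helper24.card_lt_of_lt (lt_of_le_of_ne hgle hgne)
          rw [hi, hQcard] at hlt
          have := (Nat.pow_lt_pow_iff_right (by norm_num)).mp hlt
          omega
        obtain ⟨M', hgM', hM'Q, hM'card⟩ := Cfsg.Agent.Helper50.exists_between_card_pow hgle hi hid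
          (hQcard ▸ pow_dvd_pow 2 (Nat.le_succ d))
        have haM' := hinv' M' (le_trans hM'Q hQP) (Or.inl hM'card)
        have hsup : E ⊔ M' = Q := by
          have hle : E ⊔ M' ≤ Q := sup_le hEQ hM'Q
          have hEne : E ≠ E ⊔ M' := by
            intro h
            apply hgE
            rw [h]
            exact (le_sup_right : M' ≤ E ⊔ M') (hgM' (Subgroup.mem_zpowers g))
          obtain ⟨t, ht⟩ := Cfsg.Agent.Helper50.exists_card_eq_pow_of_le hP (le_trans hle hQP)
          have h1 : Nat.card E < Nat.card ↥(E ⊔ M') :=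
            Cfsg.Agent.Helper24.card_lt_of_lt (lt_of_le_of_ne le_sup_left hEne)
          rw [hEcard, ht] at h1
          have h2 := (Nat.pow_lt_pow_iff_right (by norm_num)).mp h1
          by_contra hne
          have h3 : Nat.card ↥(E ⊔ M') < Nat.card Q :=
            Cfsg.Agent.Helper24.card_lt_of_lt (lt_of_le_of_ne hle hne)
          rw [ht, hQcard] at h3
          have h4 := (Nat.pow_lt_pow_iff_right (by norm_num)).mp h3
          omega
        have haQ : a ∈ Subgroup.normalizer (Q : Set X) := by
          have h1 := Cfsg.Agent.Helper50.mem_normalizer_sup_of_mem haE haM'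
          rwa [hsup] at h1
        have hcentQ := Cfsg.Agent.Helper50.commute_of_normalizes_index_two (hP.to_le hQP) haQ haodd
          (fun M hMQ hMcard => hinv' M (le_trans hMQ hQP) (Or.inl (by
            rw [hQcard, pow_succ'] at hMcard
            exact Nat.eq_of_mul_eq_mul_left (by norm_num) hMcard)))
        exact hcentQ x (hEQ (hCE hxC))
  rw [Subgroup.mem_centralizer_iff]
  intro v hv
  exact (main v hv).symm

end Cfsg.Agent.S3803
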