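import Cfsg.Statements.S3804
import Mathlib
import Cfsg.Agent.Helper63.ProdCard

set_option autoImplicit false
open Cfsg

namespace Cfsg.Agent.S3804

open Cfsg.Agent.Helper63
open scoped Pointwise

/-- pure real-number core of the measuring argument -/
theorem real_core {α s j i t ci cj M mJ mI : ℝ} (hα : 0 < α) (hs : 0 < s) (hsj : s ≤ j) (hi : 0 < i)
    (ht : 0 < t) (htci : t ≤ ci) (hcj : 0 < cj) (hM : 0 < M)
    (hMM : M * M = s ^ α * i ^ α * (t * cj)) (hmJ : mJ = j ^ α * cj) (hmI : mI = i ^ α * ci)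
    (hJle : mJ ≤ M) (hIle : mI ≤ M) :
    s = j ∧ t = ci ∧ mJ = M ∧ mI = M := by
  have hj : 0 < j := lt_of_lt_of_le hs hsj
  have hci : 0 < ci := lt_of_lt_of_le ht htci
  have hsα : 0 < s ^ α := Real.rpow_pos_of_pos hs α
  have hjα : 0 < j ^ α := Real.rpow_pos_of_pos hj α
  have hiα : 0 < i ^ α := Real.rpow_pos_of_pos hi α
  have hsjα : s ^ α ≤ j ^ α := Real.rpow_le_rpow hs.le hsj hα.le
  have hmJpos : 0 < mJ := by rw [hmJ]; positivity
  have hmIpos : 0 < mI := by rw [hmI]; positivity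
  -- M*M ≤ mJ * mI
  have h1 : M * M ≤ mJ * mI := by
    rw [hMM, hmJ, hmI]
    have : s ^ α * i ^ α * (t * cj) ≤ j ^ α * i ^ α * (ci * cj) := by
      apply mul_le_mul
      · exact mul_le_mul_of_nonneg_right hsjα hiα.le
      · exact mul_le_mul_of_nonneg_right htci hcj.le
      · positivity
      · positivity
    linarith [this]
  have h2 : mJ * mI ≤ M * M := mul_le_mul hJle hIle hmIpos.le hM.le
  have hJ : mJ = M := by
    apply le_antisymm hJle
    by_contra hlt
    rw [not_le] at hlt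
    have : mJ * mI < M * M := by
      calc mJ * mI < M * mI := mul_lt_mul_of_pos_right hlt hmIpos
        _ ≤ M * M := mul_le_mul_of_nonneg_left hIle hM.le
    linarith
  have hI : mI = M := by
    apply le_antisymm hIle
    by_contra hlt
    rw [not_le] at hlt
    have : mJ * mI < M * M := by
      calc mJ * mI ≤ M * mI := mul_le_mul_of_nonneg_right hJle hmIpos.le
        _ < M * M := mul_lt_mul_of_pos_left hlt hM
    linarith
  -- equality: s^α * t = j^α * ci
  have h3 : s ^ α * i ^ α * (t * cj) = j ^ α * cj * (i ^ α * ci) := by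
    rw [← hMM, ← hmJ, ← hmI, hJ, hI]
  have h4 : s ^ α * t = j ^ α * ci := by
    have hpos : 0 < i ^ α * cj := by positivity
    have : (s ^ α * t) * (i ^ α * cj) = (j ^ α * ci) * (i ^ α * cj) := by
      linarith [h3]
    exact mul_right_cancel₀ hpos.ne' this
  have hs_eq : s = j := by
    apply le_antisymm hsj
    by_contra hlt
    rw [not_le] at hlt
    have h5 : s ^ α < j ^ α := Real.rpow_lt_rpow hs.le hlt hα
    have : s ^ α * t < j ^ α * ci := by
      calc s ^ α * t < j ^ α * t := mul_lt_mul_of_pos_right h5 ht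
        _ ≤ j ^ α * ci := mul_le_mul_of_nonneg_left htci hjα.le
    linarith
  have ht_eq : t = ci := by
    apply le_antisymm htci
    by_contra hlt
    rw [not_le] at hlt
    have : s ^ α * t < j ^ α * ci := by
      calc s ^ α * t < s ^ α * ci := mul_lt_mul_of_pos_left hlt hsα
        _ ≤ j ^ α * ci := mul_le_mul_of_nonneg_right hsjα hci.le
    linarith
  exact ⟨hs_eq, ht_eq, hJ, hI⟩

theorem centralizer_sup_eq {X : Type*} [Group X] (A B : Subgroup X) :
    Subgroup.centralizer ((A ⊔ B : Subgroup X) : Set X)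
      = Subgroup.centralizer (A : Set X) ⊓ Subgroup.centralizer (B : Set X) := by
  apply le_antisymm
  · apply le_inf
    · exact Subgroup.centralizer_le (show (A : Set X) ⊆ ((A ⊔ B : Subgroup X) : Set X) from
        fun x hx => Subgroup.mem_sup_left hx)
    · exact Subgroup.centralizer_le (show (B : Set X) ⊆ ((A ⊔ B : Subgroup X) : Set X) from
        fun x hx => Subgroup.mem_sup_right hx)
  · rw [Subgroup.le_centralizer_iff]
    apply sup_le
    · rw [← Subgroup.le_centralizer_iff]; exact inf_le_left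
    · rw [← Subgroup.le_centralizer_iff]; exact inf_le_right

/-- Let G and H be subgroups of a finite group with G normalizing H, fix a real number α > 0, and for a subgroup A of G put m(A) = |A|^α · |C_H(A)|. Let A and B be nontrivial subgroups of G at which m attains its maximum over all nontrivial subgroups of G, and assume that A ∩ B ≠ 1 or that this maximum is at least |H|. Then AB = BA is a subgroup at which m is again maximal, C_H(A ∩ B) = C_H(A) C_H(B), and if A ∩ B ≠ 1 then m is maximal at A ∩ B as well. -/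
theorem result {X : Type*} [Group X] [Finite X] (G H : Subgroup X) (hGH : G ≤ Subgroup.normalizer (H : Set X)) (α : ℝ) (hα : 0 < α)
    (A B : Subgroup X) (hA : A ≤ G) (hB : B ≤ G) (hA1 : A ≠ ⊥) (hB1 : B ≠ ⊥)
    (hAmax : ∀ A' : Subgroup X, A' ≤ G → A' ≠ ⊥ → (fun A : Subgroup X => ((Nat.card A : ℝ) ^ α) * (Nat.card ↥(H ⊓ Subgroup.centralizer (A : Set X)) : ℝ)) A' ≤ (fun A : Subgroup X => ((Nat.card A : ℝ) ^ α) * (Nat.card ↥(H ⊓ Subgroup.centralizer (A : Set X)) : ℝ)) A)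
    (hBmax : ∀ A' : Subgroup X, A' ≤ G → A' ≠ ⊥ → (fun A : Subgroup X => ((Nat.card A : ℝ) ^ α) * (Nat.card ↥(H ⊓ Subgroup.centralizer (A : Set X)) : ℝ)) A' ≤ (fun A : Subgroup X => ((Nat.card A : ℝ) ^ α) * (Nat.card ↥(H ⊓ Subgroup.centralizer (A : Set X)) : ℝ)) B)
    (hcase : A ⊓ B ≠ ⊥ ∨ (Nat.card H : ℝ) ≤ (fun A : Subgroup X => ((Nat.card A : ℝ) ^ α) * (Nat.card ↥(H ⊓ Subgroup.centralizer (A : Set X)) : ℝ)) A) :
    (∀ a ∈ A, ∀ b ∈ B, ∃ b' ∈ B, ∃ a' ∈ A, a * b = b' * a') ∧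
    (∀ A' : Subgroup X, A' ≤ G → A' ≠ ⊥ → (fun A : Subgroup X => ((Nat.card A : ℝ) ^ α) * (Nat.card ↥(H ⊓ Subgroup.centralizer (A : Set X)) : ℝ)) A' ≤ (fun A : Subgroup X => ((Nat.card A : ℝ) ^ α) * (Nat.card ↥(H ⊓ Subgroup.centralizer (A : Set X)) : ℝ)) (A ⊔ B)) ∧
    (∀ h ∈ H ⊓ Subgroup.centralizer ((A ⊓ B : Subgroup X) : Set X), ∃ u ∈ H ⊓ Subgroup.centralizer (A : Set X), ∃ v ∈ H ⊓ Subgroup.centralizer (B : Set X), h = u * v) ∧
    (A ⊓ B ≠ ⊥ → ∀ A' : Subgroup X, A' ≤ G → A' ≠ ⊥ → (fun A : Subgroup X => ((Nat.card A : ℝ) ^ α) * (Nat.card ↥(H ⊓ Subgroup.centralizer (A : Set X)) : ℝ)) A' ≤ (fun A : Subgroup X => ((Nat.card A : ℝ) ^ α) * (Nat.card ↥(H ⊓ Subgroup.centralizer (A : Set X)) : ℝ)) (A ⊓ B)) := by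
  beta_reduce at hAmax hBmax hcase ⊢
  -- notation
  set cA : Subgroup X := H ⊓ Subgroup.centralizer (A : Set X) with hcA
  set cB : Subgroup X := H ⊓ Subgroup.centralizer (B : Set X) with hcB
  set cI : Subgroup X := H ⊓ Subgroup.centralizer ((A ⊓ B : Subgroup X) : Set X) with hcI
  set cJ : Subgroup X := H ⊓ Subgroup.centralizer ((A ⊔ B : Subgroup X) : Set X) with hcJ
  have hcJeq : cJ = cA ⊓ cB := by
    rw [hcJ, hcA, hcB, centralizer_sup_eq]
    ext x
    simp only [Subgroup.mem_inf]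
    tauto
  -- the products
  have hAB := card_mul_card_inf A B
  have hcAB := card_mul_card_inf cA cB
  rw [← hcJeq] at hcAB
  have hABsub := mul_subset_sup A B
  have hcABsub : (cA : Set X) * (cB : Set X) ⊆ (cI : Set X) := by
    rintro _ ⟨u, hu, v, hv, rfl⟩
    have hu' := Subgroup.mem_inf.mp hu
    have hv' := Subgroup.mem_inf.mp hv
    refine Subgroup.mem_inf.mpr ⟨H.mul_mem hu'.1 hv'.1, ?_⟩
    apply Subgroup.mul_mem
    · exact Subgroup.centralizer_le (show ((A ⊓ B : Subgroup X) : Set X) ⊆ (A : Set X) from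
        fun x hx => (Subgroup.mem_inf.mp hx).1) hu'.2
    · exact Subgroup.centralizer_le (show ((A ⊓ B : Subgroup X) : Set X) ⊆ (B : Set X) from
        fun x hx => (Subgroup.mem_inf.mp hx).2) hv'.2
  have hs_le : Nat.card ((A : Set X) * (B : Set X) : Set X) ≤ Nat.card ↥(A ⊔ B) :=
    Nat.card_mono (Set.toFinite _) hABsub
  have ht_le : Nat.card ((cA : Set X) * (cB : Set X) : Set X) ≤ Nat.card ↥cI :=
    Nat.card_mono (Set.toFinite _) hcABsub
  have hs_pos : 0 < Nat.card ((A : Set X) * (B : Set X) : Set X) := by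
    have : Nonempty ((A : Set X) * (B : Set X) : Set X) := ⟨⟨1 * 1, Set.mul_mem_mul A.one_mem B.one_mem⟩⟩
    exact Nat.card_pos
  have ht_pos : 0 < Nat.card ((cA : Set X) * (cB : Set X) : Set X) := by
    have : Nonempty ((cA : Set X) * (cB : Set X) : Set X) := ⟨⟨1 * 1, Set.mul_mem_mul cA.one_mem cB.one_mem⟩⟩
    exact Nat.card_pos
  -- M
  set M : ℝ := (Nat.card A : ℝ) ^ α * (Nat.card cA : ℝ) with hM
  have hMB : (Nat.card B : ℝ) ^ α * (Nat.card cB : ℝ) = M :=
    le_antisymm (hAmax B hB hB1) (hBmax A hA hA1)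
  have hApos : (0:ℝ) < Nat.card A := by exact_mod_cast Nat.card_pos
  have hBpos : (0:ℝ) < Nat.card B := by exact_mod_cast Nat.card_pos
  have hIpos : (0:ℝ) < Nat.card ↥(A ⊓ B) := by exact_mod_cast Nat.card_pos
  have hcApos : (0:ℝ) < Nat.card cA := by exact_mod_cast Nat.card_pos
  have hcJpos : (0:ℝ) < Nat.card cJ := by exact_mod_cast Nat.card_pos
  have hMpos : 0 < M := by rw [hM]; positivity
  have hMM : M * M = (Nat.card ((A : Set X) * (B : Set X) : Set X) : ℝ) ^ α * (Nat.card ↥(A ⊓ B) : ℝ) ^ α *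
      ((Nat.card ((cA : Set X) * (cB : Set X) : Set X) : ℝ) * (Nat.card cJ : ℝ)) := by
    have hMM0 : M * M = ((Nat.card A : ℝ) ^ α * (Nat.card cA : ℝ)) * ((Nat.card B : ℝ) ^ α * (Nat.card cB : ℝ)) := by
      rw [hMB]
    rw [hMM0]
    rw [← Real.mul_rpow (Nat.cast_nonneg _) (Nat.cast_nonneg _)]
    have e1 : (Nat.card ((A : Set X) * (B : Set X) : Set X) : ℝ) * (Nat.card ↥(A ⊓ B) : ℝ)
        = (Nat.card A : ℝ) * (Nat.card B : ℝ) := by exact_mod_cast hAB
    have e2 : (Nat.card ((cA : Set X) * (cB : Set X) : Set X) : ℝ) * (Nat.card cJ : ℝ)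
        = (Nat.card cA : ℝ) * (Nat.card cB : ℝ) := by exact_mod_cast hcAB
    rw [e1, e2, Real.mul_rpow (Nat.cast_nonneg _) (Nat.cast_nonneg _)]
    ring
  have hJne : A ⊔ B ≠ ⊥ := fun h => hA1 (le_bot_iff.mp (h ▸ le_sup_left))
  have hJle : (Nat.card ↥(A ⊔ B) : ℝ) ^ α * (Nat.card cJ : ℝ) ≤ M := hAmax _ (sup_le hA hB) hJne
  have hIle : (Nat.card ↥(A ⊓ B) : ℝ) ^ α * (Nat.card cI : ℝ) ≤ M := by
    by_cases hI : A ⊓ B = ⊥
    · rcases hcase with h | h
      · exact absurd hI h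
      · have h1 : Nat.card ↥(A ⊓ B) = 1 := by rw [hI]; exact Subgroup.card_bot
        have h2 : cI = H := by
          rw [hcI, hI]
          have : Subgroup.centralizer (((⊥ : Subgroup X)) : Set X) = ⊤ := by
            rw [Subgroup.centralizer_eq_top_iff_subset]
            intro x hx
            rw [SetLike.mem_coe, Subgroup.mem_bot] at hx
            rw [hx]; exact Subgroup.one_mem _
          rw [this, inf_top_eq]
        rw [h1, h2]
        simpa using h
    · exact hAmax _ (le_trans inf_le_left hA) hI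
  obtain ⟨hsj, htci, hmJ, hmI⟩ := real_core (s := (Nat.card ((A : Set X) * (B : Set X) : Set X) : ℝ))
    (j := (Nat.card ↥(A ⊔ B) : ℝ)) (i := (Nat.card ↥(A ⊓ B) : ℝ))
    (t := (Nat.card ((cA : Set X) * (cB : Set X) : Set X) : ℝ)) (ci := (Nat.card cI : ℝ))
    (cj := (Nat.card cJ : ℝ)) (M := M) hα (by exact_mod_cast hs_pos) (by exact_mod_cast hs_le) hIpos
    (by exact_mod_cast ht_pos) (by exact_mod_cast ht_le) hcJpos hMpos hMM rfl rfl hJle hIle
  have hsj' : Nat.card ((A : Set X) * (B : Set X) : Set X) = Nat.card ↥(A ⊔ B) := by exact_mod_cast hsj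
  have htci' : Nat.card ((cA : Set X) * (cB : Set X) : Set X) = Nat.card ↥cI := by exact_mod_cast htci
  have hABeq : (A : Set X) * (B : Set X) = ((A ⊔ B : Subgroup X) : Set X) := by
    apply Set.eq_of_subset_of_ncard_le hABsub _ (Set.toFinite _)
    rw [← Nat.card_coe_set_eq, ← Nat.card_coe_set_eq]
    exact hsj'.symm.le
  have hcABeq : (cA : Set X) * (cB : Set X) = (cI : Set X) := by
    apply Set.eq_of_subset_of_ncard_le hcABsub _ (Set.toFinite _)
    rw [← Nat.card_coe_set_eq, ← Nat.card_coe_set_eq]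
    exact htci'.symm.le
  refine ⟨?_, ?_, ?_, ?_⟩
  · intro a ha b hb
    have h1 : (a * b)⁻¹ ∈ ((A ⊔ B : Subgroup X) : Set X) :=
      Subgroup.inv_mem _ (Subgroup.mul_mem _ (Subgroup.mem_sup_left ha) (Subgroup.mem_sup_right hb))
    rw [← hABeq] at h1
    obtain ⟨a₁, ha₁, b₁, hb₁, h2⟩ := h1
    refine ⟨b₁⁻¹, B.inv_mem hb₁, a₁⁻¹, A.inv_mem ha₁, ?_⟩
    have h2' : a₁ * b₁ = (a * b)⁻¹ := h2
    have : a * b = (a₁ * b₁)⁻¹ := by rw [h2', inv_inv]
    rw [this, mul_inv_rev]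
  · intro A' hA' hA'1
    rw [hmJ]
    exact hAmax A' hA' hA'1
  · intro h hh
    have h1 : h ∈ (cI : Set X) := hh
    rw [← hcABeq] at h1
    obtain ⟨u, hu, v, hv, h2⟩ := h1
    exact ⟨u, hu, v, hv, h2.symm⟩
  · intro _ A' hA' hA'1
    rw [hmI]
    exact hAmax A' hA' hA'1

end Cfsg.Agent.S3804
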