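import Cfsg.Statements.S3807
import Cfsg.Agent.Helper63.AbelIndexP

set_option autoImplicit false
open Cfsg

namespace Cfsg.Agent.S3807

open Cfsg.Agent.Helper63
open scoped commutatorElement

/-- The abelian subgroups of index `p` correspond to the subgroups of order `p` of `S / Z(S)` when
`[S : Z(S)] = p ^ 2`. -/
noncomputable def subEquiv {S : Type*} [Group S] [Finite S] {p : ℕ} (hp : p.Prime)
    (hna : ¬ IsMulCommutative S) (hcardQ : Nat.card (S ⧸ Subgroup.center S) = p ^ 2) :
    {B : Subgroup S // IsMulCommutative ↥B ∧ B.index = p} ≃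
      {D : Subgroup (S ⧸ Subgroup.center S) // Nat.card D = p} where
  toFun B := ⟨B.1.map (QuotientGroup.mk' (Subgroup.center S)), by
    have hZB : Subgroup.center S ≤ B.1 := center_le_of_abelian_index_prime B.2.1 hp B.2.2 hna
    have h1 : (B.1.map (QuotientGroup.mk' (Subgroup.center S))).index = p := by
      rw [Subgroup.index_map_eq B.1 (QuotientGroup.mk'_surjective _)
        (by rw [QuotientGroup.ker_mk']; exact hZB), B.2.2]
    have h2 := Subgroup.card_mul_index (B.1.map (QuotientGroup.mk' (Subgroup.center S)))
    rw [h1, hcardQ, sq] at h2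
    exact Nat.eq_of_mul_eq_mul_right hp.pos h2⟩
  invFun D := ⟨D.1.comap (QuotientGroup.mk' (Subgroup.center S)), by
    constructor
    · -- abelian
      have hfact : Fact p.Prime := ⟨hp⟩
      have hcyc : IsCyclic D.1 := isCyclic_of_prime_card D.2
      obtain ⟨dbar, hdbar⟩ := hcyc.exists_generator
      obtain ⟨d, hd⟩ := QuotientGroup.mk'_surjective (Subgroup.center S) dbar.1
      have key : ∀ x ∈ D.1.comap (QuotientGroup.mk' (Subgroup.center S)),
          ∃ k : ℤ, ∃ z ∈ Subgroup.center S, x = d ^ k * z := by
        intro x hx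
        rw [Subgroup.mem_comap] at hx
        obtain ⟨k, hk⟩ := Subgroup.mem_zpowers_iff.mp (hdbar ⟨_, hx⟩)
        refine ⟨k, (d ^ k)⁻¹ * x, ?_, by group⟩
        rw [← QuotientGroup.ker_mk' (Subgroup.center S), MonoidHom.mem_ker, map_mul, map_inv,
          map_zpow, hd]
        have : (dbar : S ⧸ Subgroup.center S) ^ k = QuotientGroup.mk' (Subgroup.center S) x := by
          have := congrArg Subtype.val hk
          simpa using this
        rw [this]
        group
      refine ⟨⟨fun x y => Subtype.ext ?_⟩⟩
      obtain ⟨k, z, hz, hxz⟩ := key x.1 x.2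
      obtain ⟨m, z', hz', hyz⟩ := key y.1 y.2
      have hzc : ∀ g : S, Commute g z := fun g => Subgroup.mem_center_iff.mp hz g
      have hzc' : ∀ g : S, Commute g z' := fun g => Subgroup.mem_center_iff.mp hz' g
      have h1 : Commute (d ^ k) (d ^ m * z') :=
        (Commute.zpow_zpow_self d k m).mul_right (hzc' _)
      have h2 : Commute z (d ^ m * z') := (hzc _).symm
      have h3 : Commute (d ^ k * z) (d ^ m * z') := h1.mul_left h2
      show (x : S) * (y : S) = (y : S) * (x : S)
      rw [hxz, hyz]
      exact h3
    · rw [Subgroup.index_comap_of_surjective _ (QuotientGroup.mk'_surjective _)]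
      have h2 := Subgroup.card_mul_index D.1
      rw [D.2, hcardQ, sq] at h2
      exact Nat.eq_of_mul_eq_mul_left hp.pos h2⟩
  left_inv B := by
    apply Subtype.ext
    have hZB : Subgroup.center S ≤ B.1 := center_le_of_abelian_index_prime B.2.1 hp B.2.2 hna
    show (B.1.map (QuotientGroup.mk' (Subgroup.center S))).comap
      (QuotientGroup.mk' (Subgroup.center S)) = B.1
    rw [Subgroup.comap_map_eq, QuotientGroup.ker_mk']
    exact sup_eq_left.mpr hZB
  right_inv D := by
    apply Subtype.ext
    show (D.1.comap (QuotientGroup.mk' (Subgroup.center S))).map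
      (QuotientGroup.mk' (Subgroup.center S)) = D.1
    exact Subgroup.map_comap_eq_self_of_surjective (QuotientGroup.mk'_surjective _) _

/-- Let S be a non-abelian finite p-group with an abelian subgroup A of index p. Then [S : Z(S)] = p·#[S,S], and either [S,S] has order p, S/Z(S) is elementary abelian of order p², and S has exactly p + 1 abelian subgroups of index p; or [S,S] has order at least p² and A is the only abelian subgroup of index p in S. -/
theorem result {S : Type*} [Group S] [Finite S] (p : ℕ) [Fact p.Prime] (hS : IsPGroup p S) (hna : ¬ IsMulCommutative S)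
    (A : Subgroup S) (hA : IsMulCommutative ↥A) (hAi : A.index = p) :
    (Subgroup.center S).index = p * Nat.card (commutator S) ∧
      ((Nat.card (commutator S) = p ∧ Cfsg.IsElementaryAbelian p (⊤ : Subgroup (S ⧸ Subgroup.center S)) ∧
          Nat.card (S ⧸ Subgroup.center S) = p ^ 2 ∧
          Nat.card {B : Subgroup S // IsMulCommutative ↥B ∧ B.index = p} = p + 1) ∨
        (p ^ 2 ≤ Nat.card (commutator S) ∧ ∀ B : Subgroup S, IsMulCommutative ↥B → B.index = p → B = A)) := by
  have hp : p.Prime := Fact.out
  have hAn : A.Normal := normal_of_index_eq_prime hS A hAi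
  have hidx := index_center_eq A hA hp hAi hna
  refine ⟨hidx, ?_⟩
  obtain ⟨j, hj⟩ := IsPGroup.iff_card.mp (hS.to_subgroup (commutator S))
  have hj0 : j ≠ 0 := by
    rintro rfl
    rw [pow_zero, Subgroup.card_eq_one] at hj
    apply hna
    refine ⟨⟨fun a b => ?_⟩⟩
    have h1 : ⁅a, b⁆ ∈ commutator S := by
      rw [commutator_def]
      exact Subgroup.commutator_mem_commutator (Subgroup.mem_top a) (Subgroup.mem_top b)
    rw [hj, Subgroup.mem_bot, commutatorElement_eq_one_iff_mul_comm] at h1
    exact h1
  by_cases hj1 : j = 1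
  · left
    subst hj1
    rw [pow_one] at hj
    have hZidx : (Subgroup.center S).index = p ^ 2 := by rw [hidx, hj, sq]
    have hcardQ : Nat.card (S ⧸ Subgroup.center S) = p ^ 2 := by
      rw [← Subgroup.index_eq_card, hZidx]
    have hexp : ∀ x : S ⧸ Subgroup.center S, x ^ p = 1 := by
      intro x
      have hdvd : orderOf x ∣ p ^ 2 := hcardQ ▸ orderOf_dvd_natCard x
      obtain ⟨i, hi, hox⟩ := (Nat.dvd_prime_pow hp).mp hdvd
      have hi2 : i ≠ 2 := by
        rintro rfl
        have hcyc : IsCyclic (S ⧸ Subgroup.center S) :=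
          isCyclic_of_orderOf_eq_card x (by rw [hox, hcardQ])
        apply hna
        exact MonoidHom.isMulCommutative_of_isCyclic_of_ker_le_center
          (QuotientGroup.mk' (Subgroup.center S)) (by rw [QuotientGroup.ker_mk'])
      have hi1 : i ≤ 1 := by omega
      apply orderOf_dvd_iff_pow_eq_one.mp
      rw [hox]
      calc p ^ i ∣ p ^ 1 := pow_dvd_pow p hi1
        _ = p := pow_one p
    refine ⟨hj, ⟨?_, fun a _ => hexp a⟩, hcardQ, ?_⟩
    · exact ⟨⟨fun a b => Subtype.ext
        ((IsPGroup.isMulCommutative_of_card_eq_prime_sq hcardQ).is_comm.comm a.1 b.1)⟩⟩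
    · rw [← card_subgroups_card_eq_prime hcardQ hexp]
      exact Nat.card_congr (subEquiv hp hna hcardQ)
  · right
    have hj2 : 2 ≤ j := by omega
    refine ⟨?_, ?_⟩
    · rw [hj]; exact Nat.pow_le_pow_right hp.pos hj2
    · intro B hB hBi
      by_contra hBA
      have hBleA : ¬ B ≤ A := by
        intro hle
        apply hBA
        have hmul := Subgroup.relIndex_mul_index hle
        rw [hAi, hBi] at hmul
        have h1 : B.relIndex A = 1 := Nat.eq_of_mul_eq_mul_right hp.pos (by rw [hmul, one_mul])
        exact le_antisymm hle (Subgroup.relIndex_eq_one.mp h1)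
      have htop : A ⊔ B = ⊤ :=
        eq_top_of_index_prime_of_not_le hp hAi le_sup_left (fun h => hBleA (le_sup_right.trans h))
      have hinf : A ⊓ B ≤ Subgroup.center S := by
        intro x hx
        have hcz : A ⊔ B ≤ Subgroup.centralizer ({x} : Set S) := by
          refine sup_le ?_ ?_
          · intro a ha
            rw [Subgroup.mem_centralizer_iff]
            intro y hy
            rw [Set.mem_singleton_iff] at hy
            subst hy
            exact comm_of_mem_of_isMulCommutative hA hx.1 ha
          · intro b hb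
            rw [Subgroup.mem_centralizer_iff]
            intro y hy
            rw [Set.mem_singleton_iff] at hy
            subst hy
            exact comm_of_mem_of_isMulCommutative hB hx.2 hb
        rw [htop] at hcz
        rw [Subgroup.mem_center_iff]
        intro g
        have hg := hcz (Subgroup.mem_top g)
        rw [Subgroup.mem_centralizer_iff] at hg
        exact (hg x rfl).symm
      have h1 : (A ⊓ B).index ≤ p * p := by
        have := Subgroup.index_inf_le (H := A) (K := B)
        rwa [hAi, hBi] at this
      have h2 : (Subgroup.center S).index ≤ (A ⊓ B).index :=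
        Nat.le_of_dvd (Nat.pos_of_ne_zero Subgroup.index_ne_zero_of_finite)
          (Subgroup.index_dvd_of_le hinf)
      rw [hidx, hj] at h2
      have h3 : p * p ^ 2 ≤ p * p ^ j :=
        Nat.mul_le_mul_left p (Nat.pow_le_pow_right hp.pos hj2)
      have h4 : p * p ^ 2 ≤ p * p := h3.trans (h2.trans h1)
      have h5 : p ^ 2 ≤ p := Nat.le_of_mul_le_mul_left h4 hp.pos
      have h6 : p < p ^ 2 := by
        calc p = p ^ 1 := (pow_one p).symm
          _ < p ^ 2 := Nat.pow_lt_pow_right hp.one_lt (by norm_num)
      omega

end Cfsg.Agent.S3807
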