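import Cfsg.Statements.S3808
import Mathlib
import Cfsg.Agent.Helper63.PGroup

set_option autoImplicit false
open Cfsg

namespace Cfsg.Agent.S3808

open Cfsg.Agent.Helper63

/-- Let S be a finite p-group with an extraspecial subgroup Q of index p. Then either Z(S) = Z(Q), or S = Q·Z(S) and Z(S) has order p². -/
theorem result {S : Type*} [Group S] [Finite S] (p : ℕ) [Fact p.Prime] (hS : IsPGroup p S) (Q : Subgroup S) (hQ : Cfsg.IsExtraspecial p ↥Q) (hQi : Q.index = p) :
    Subgroup.center S = (Subgroup.center ↥Q).map Q.subtype ∨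
      (Q ⊔ Subgroup.center S = ⊤ ∧ Nat.card (Subgroup.center S) = p ^ 2) := by
  have hp : p.Prime := Fact.out
  have hQn : Q.Normal := normal_of_index_eq_prime hS Q hQi
  set Z0 : Subgroup S := (Subgroup.center ↥Q).map Q.subtype with hZ0
  have hZ0n : Z0.Normal := ConjAct.normal_of_characteristic_of_normal
  have hZ0card : Nat.card Z0 = p := by
    rw [hZ0, Subgroup.card_map_of_injective (Subgroup.subtype_injective Q)]
    exact hQ.2
  have hZ0le : Z0 ≤ Subgroup.center S := le_center_of_normal_of_card_eq_prime hS Z0 hZ0card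
  have hinf : Subgroup.center S ⊓ Q = Z0 := by
    apply le_antisymm
    · intro x hx
      obtain ⟨hxc, hxQ⟩ := Subgroup.mem_inf.mp hx
      refine ⟨⟨x, hxQ⟩, ?_, rfl⟩
      rw [SetLike.mem_coe, Subgroup.mem_center_iff]
      intro q
      apply Subtype.ext
      exact (Subgroup.mem_center_iff.mp hxc (q : S))
    · exact le_inf hZ0le (Subgroup.map_subtype_le _)
  by_cases hle : Subgroup.center S ≤ Q
  · left
    rw [← hinf]
    exact (inf_eq_left.mpr hle).symm
  · right
    have htop : Q ⊔ Subgroup.center S = ⊤ := by
      have h1 : Q.relIndex (Q ⊔ Subgroup.center S) * (Q ⊔ Subgroup.center S).index = p := by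
        rw [Subgroup.relIndex_mul_index le_sup_left, hQi]
      have h2 : (Q ⊔ Subgroup.center S).index ∣ p := Dvd.intro_left _ h1
      rw [Nat.dvd_prime hp] at h2
      rcases h2 with h2 | h2
      · exact Subgroup.index_eq_one.mp h2
      · exfalso
        rw [h2] at h1
        have h3 : Q.relIndex (Q ⊔ Subgroup.center S) = 1 := by
          have hp0 : 0 < p := hp.pos
          exact Nat.eq_of_mul_eq_mul_right hp0 (by rw [h1, one_mul])
        rw [Subgroup.relIndex_eq_one] at h3
        exact hle (le_trans le_sup_right h3)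
    refine ⟨htop, ?_⟩
    have h4 : Q.relIndex (Subgroup.center S) = p := by
      rw [← Subgroup.relIndex_sup_left (Subgroup.center S) Q, htop, Subgroup.relIndex_top_right, hQi]
    have h5 : (Subgroup.center S ⊓ Q).relIndex (Subgroup.center S) = p := by
      rw [inf_comm, Subgroup.inf_relIndex_right, h4]
    have h6 : Nat.card ↥(Subgroup.center S ⊓ Q) * (Subgroup.center S ⊓ Q).relIndex (Subgroup.center S)
        = Nat.card (Subgroup.center S) := by
      rw [← Subgroup.relIndex_bot_left, ← Subgroup.relIndex_bot_left]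
      exact Subgroup.relIndex_mul_relIndex _ _ _ bot_le inf_le_left
    rw [← h6, h5, hinf, hZ0card, sq]

end Cfsg.Agent.S3808
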