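import Cfsg.Statements.S3809
import Mathlib
import Cfsg.Agent.Helper63.PGroup
import Cfsg.Agent.Helper63.Extraspecial
import Cfsg.Agent.Helper63.Frattini
import Cfsg.Agent.S0095

set_option autoImplicit false
open Cfsg

namespace Cfsg.Agent.S3809

open Cfsg.Agent.Helper63

/-- Let S be a finite p-group with an extraspecial subgroup of index p. Then S has order p^(2+2n) for some n ≥ 1, derived length at most 3, and exponent dividing p³. -/
theorem result {S : Type*} [Group S] [Finite S] (p : ℕ) [Fact p.Prime] (hS : IsPGroup p S) (Q : Subgroup S) (hQ : Cfsg.IsExtraspecial p ↥Q) (hQi : Q.index = p) :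
    (∃ n : ℕ, 1 ≤ n ∧ Nat.card S = p ^ (2 + 2 * n)) ∧ derivedSeries S 3 = ⊥ ∧ ∀ x : S, x ^ (p ^ 3) = 1 := by
  have hp : p.Prime := Fact.out
  have hcardS : Nat.card S = Nat.card Q * p := by rw [← hQi, Subgroup.card_mul_index]
  have hQn : Q.Normal := normal_of_index_eq_prime hS Q hQi
  set Z₀ : Subgroup S := (Subgroup.center ↥Q).map Q.subtype with hZ₀
  refine ⟨?_, ?_, ?_⟩
  · obtain ⟨n, hn1, hn⟩ := Cfsg.Agent.S0095.result hQ
    refine ⟨n, hn1, ?_⟩
    rw [hcardS, hn]
    ring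
  · -- derived series
    have hcycl : IsCyclic (S ⧸ Q) := by
      have : Nat.card (S ⧸ Q) = p := by rw [← Subgroup.index_eq_card, hQi]
      exact isCyclic_of_prime_card this
    have h1 : derivedSeries S 1 ≤ Q := by
      rw [derivedSeries_succ, derivedSeries_zero, Subgroup.commutator_le]
      intro x _ y _
      rw [← QuotientGroup.eq_one_iff, commutatorElement_def]
      have hcomm := (IsCyclic.isMulCommutative (α := S ⧸ Q)).is_comm.comm (x : S ⧸ Q) (y : S ⧸ Q)
      have : ((x * y * x⁻¹ * y⁻¹ : S) : S ⧸ Q) = (x : S ⧸ Q) * (y : S ⧸ Q) * (x : S ⧸ Q)⁻¹ * (y : S ⧸ Q)⁻¹ := by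
        simp
      rw [this, hcomm]
      group
    have h2 : derivedSeries S 2 ≤ Z₀ := by
      rw [derivedSeries_succ]
      refine le_trans (Subgroup.commutator_mono h1 h1) ?_
      rw [Subgroup.commutator_le]
      intro x hx y hy
      rw [commutatorElement_def]
      exact ⟨⟨x, hx⟩ * ⟨y, hy⟩ * ⟨x, hx⟩⁻¹ * ⟨y, hy⟩⁻¹, es_comm_mem_center hQ ⟨x, hx⟩ ⟨y, hy⟩, rfl⟩
    rw [derivedSeries_succ, eq_bot_iff]
    refine le_trans (Subgroup.commutator_mono h2 h2) ?_
    rw [Subgroup.commutator_le]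
    intro x hx y hy
    obtain ⟨x', hx', rfl⟩ := hx
    obtain ⟨y', hy', rfl⟩ := hy
    rw [Subgroup.mem_bot, commutatorElement_eq_one_iff_mul_comm]
    have := Subgroup.mem_center_iff.mp hx' y'
    have h' : (y' : S) * (x' : S) = (x' : S) * (y' : S) := congrArg Subtype.val this
    exact h'.symm
  · intro x
    have h1 : x ^ p ∈ Q := hQi ▸ Subgroup.pow_index_mem Q x
    have h2 : (⟨x ^ p, h1⟩ : Q) ^ p ∈ Subgroup.center Q := by
      rw [← es_frattini_eq hQ]
      exact pow_prime_mem_frattini (es_isPGroup hQ) _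
    have h3 : ((⟨(⟨x ^ p, h1⟩ : Q) ^ p, h2⟩ : Subgroup.center Q)) ^ p = 1 := by
      have := pow_card_eq_one' (G := Subgroup.center Q) (x := ⟨(⟨x ^ p, h1⟩ : Q) ^ p, h2⟩)
      rwa [es_card_center hQ] at this
    have h4 : ((x ^ p) ^ p) ^ p = 1 := by
      have := congrArg (fun z : Subgroup.center Q => ((z : Q) : S)) h3
      simpa using this
    rw [← h4, ← pow_mul, ← pow_mul]
    congr 1
    ring

end Cfsg.Agent.S3809
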