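import Cfsg.Statements.S3810
import Mathlib
import Cfsg.Agent.Helper63.PGroup
import Cfsg.Agent.Helper63.AbelianSub
import Cfsg.Agent.Helper63.CommHom
import Cfsg.Agent.Helper63.Extraspecial

set_option autoImplicit false
open Cfsg

namespace Cfsg.Agent.S3810

open Cfsg.Agent.Helper63

/-- Let S be a finite p-group with an extraspecial subgroup of index p. Then S has an abelian subgroup of index p if and only if S has order p⁴. -/
theorem result {S : Type*} [Group S] [Finite S] (p : ℕ) [Fact p.Prime] (hS : IsPGroup p S) (Q : Subgroup S) (hQ : Cfsg.IsExtraspecial p ↥Q) (hQi : Q.index = p) :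
    (∃ A : Subgroup S, IsMulCommutative ↥A ∧ A.index = p) ↔ Nat.card S = p ^ 4 := by
  have hp : p.Prime := Fact.out
  have hcardS : Nat.card S = Nat.card Q * p := by rw [← hQi, Subgroup.card_mul_index]
  have hQ3 : p ^ 3 ≤ Nat.card Q := es_pow_three_le_card hQ
  obtain ⟨x₀, y₀, hxy₀⟩ := es_exists_not_commute hQ
  constructor
  · rintro ⟨A, hA, hAi⟩
    have hAn : A.Normal := normal_of_index_eq_prime hS A hAi
    have hQA : ¬ Q ≤ A := by
      intro hle
      apply hxy₀
      apply Subtype.ext
      have := hA.is_comm.comm (⟨x₀, hle x₀.2⟩ : A) ⟨y₀, hle y₀.2⟩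
      have h' : ((x₀ : S) * (y₀ : S)) = (y₀ : S) * (x₀ : S) := congrArg Subtype.val this
      exact h'
    have hrel : A.relIndex Q = p := by
      have h1 : A.relIndex Q ∣ p := hAi ▸ Subgroup.relIndex_dvd_index_of_normal A Q
      rw [Nat.dvd_prime hp] at h1
      rcases h1 with h1 | h1
      · exact absurd (Subgroup.relIndex_eq_one.mp h1) hQA
      · exact h1
    -- work inside Q
    set B : Subgroup Q := A.subgroupOf Q with hB
    have hBi : B.index = p := hrel
    have hBcomm : ∀ a b : Q, a ∈ B → b ∈ B → a * b = b * a := by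
      intro a b ha hb
      apply Subtype.ext
      have := hA.is_comm.comm (⟨a, ha⟩ : A) ⟨b, hb⟩
      have h' : ((a : S) * (b : S)) = (b : S) * (a : S) := congrArg Subtype.val this
      exact h'
    have hBtop : B ≠ ⊤ := by
      intro h
      rw [h, Subgroup.index_top] at hBi
      exact hp.one_lt.ne hBi
    obtain ⟨x, hx⟩ : ∃ x : Q, x ∉ B := by
      by_contra hcon
      push Not at hcon
      exact hBtop ((Subgroup.eq_top_iff' B).mpr hcon)
    have hsup : B ⊔ Subgroup.zpowers x = ⊤ := by
      apply eq_top_of_lt_of_index_prime hp B _ hBi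
      apply lt_of_le_of_ne le_sup_left
      intro h
      apply hx
      rw [h]
      exact Subgroup.mem_sup_right (Subgroup.mem_zpowers x)
    have hK : B ⊓ Subgroup.centralizer {x} ≤ Subgroup.center Q := by
      intro b hb
      obtain ⟨hbB, hbx⟩ := Subgroup.mem_inf.mp hb
      have h1 : (⊤ : Subgroup Q) ≤ Subgroup.centralizer {b} := by
        rw [← hsup]
        apply sup_le
        · intro c hc
          rw [Subgroup.mem_centralizer_iff]
          intro d hd
          rw [Set.mem_singleton_iff] at hd
          subst hd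
          exact hBcomm _ _ hbB hc
        · rw [Subgroup.zpowers_le, Subgroup.mem_centralizer_iff]
          intro d hd
          rw [Set.mem_singleton_iff] at hd
          subst hd
          exact (Subgroup.mem_centralizer_iff.mp hbx x rfl).symm
      rw [Subgroup.mem_center_iff]
      intro g
      exact (Subgroup.mem_centralizer_iff.mp (h1 (Subgroup.mem_top g)) b rfl).symm
    have hcardB : Nat.card B ≤ p * p := by
      have h1 := card_le_of_commutator_central B x (fun b _ => es_comm_mem_center hQ b x)
      have h2 : Nat.card ↥(B ⊓ Subgroup.centralizer {x}) ≤ p := by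
        rw [← es_card_center hQ]
        exact Subgroup.card_le_of_le hK
      rw [es_card_center hQ] at h1
      calc Nat.card B ≤ Nat.card ↥(B ⊓ Subgroup.centralizer {x}) * p := h1
        _ ≤ p * p := Nat.mul_le_mul_right _ h2
    have hcardQ : Nat.card Q = Nat.card B * p := by rw [← hBi, Subgroup.card_mul_index]
    have hQle : Nat.card Q ≤ p ^ 3 := by
      rw [hcardQ]
      calc Nat.card B * p ≤ (p * p) * p := Nat.mul_le_mul_right _ hcardB
        _ = p ^ 3 := by ring
    rw [hcardS, le_antisymm hQle hQ3]
    ring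
  · intro hcard
    obtain ⟨A, hA, hAcard⟩ := exists_abelian_card_ge hS (by rw [hcard])
    refine ⟨A, hA, ?_⟩
    have hAtop : A ≠ ⊤ := by
      intro h
      apply hxy₀
      apply Subtype.ext
      have hx : (x₀ : S) ∈ A := by rw [h]; trivial
      have hy : (y₀ : S) ∈ A := by rw [h]; trivial
      have := hA.is_comm.comm (⟨x₀, hx⟩ : A) ⟨y₀, hy⟩
      have h' : ((x₀ : S) * (y₀ : S)) = (y₀ : S) * (x₀ : S) := congrArg Subtype.val this
      exact h'
    obtain ⟨j, hj⟩ := IsPGroup.iff_card.mp (hS.to_subgroup A)
    have h1 := Subgroup.card_mul_index A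
    rw [hcard, hj] at h1
    have hj3 : 3 ≤ j := by
      rw [hj] at hAcard
      exact (Nat.pow_le_pow_iff_right hp.one_lt).mp hAcard
    have hj4 : j < 4 := by
      by_contra hge
      rw [not_lt] at hge
      have h2 : p ^ 4 ≤ p ^ j := Nat.pow_le_pow_right hp.pos hge
      have h3 : 0 < A.index := Nat.pos_of_ne_zero (fun h => by rw [h] at h1; simp at h1; exact absurd h1 (pow_ne_zero _ hp.ne_zero).symm)
      have h4 : A.index = 1 := by
        have : p ^ j * A.index ≤ p ^ j * 1 := by rw [h1, mul_one]; exact h2
        have := Nat.le_of_mul_le_mul_left this (pow_pos hp.pos j)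
        omega
      exact hAtop (Subgroup.index_eq_one.mp h4)
    have hj' : j = 3 := by omega
    subst hj'
    have h5 : p ^ 3 * A.index = p ^ 3 * p := by rw [h1]; ring
    exact Nat.eq_of_mul_eq_mul_left (pow_pos hp.pos 3) h5

end Cfsg.Agent.S3810
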