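import Cfsg.Statements.S3811
import Cfsg.Agent.Helper65.Soft3

set_option autoImplicit false
open Cfsg

namespace Cfsg.Agent.S3811

/-- Let P be a finite p-group and E an abelian subgroup of P that contains its centralizer, has index p in its normalizer, and has index at least p² in P. Then the subgroups of P containing E are totally ordered by inclusion, each proper one has index p in its normalizer (so they form the normalizer tower of E, with all steps of index p), and the i-th member of the tower above E has nilpotency class i + 1 whenever it is a proper subgroup of P. -/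
theorem result {P : Type*} [Group P] [Finite P] (p : ℕ) [Fact p.Prime] (hP : IsPGroup p P)
    (E : Subgroup P) (hEab : IsMulCommutative ↥E) (hC : Subgroup.centralizer (E : Set P) ≤ E)
    (hN : (E.subgroupOf (Subgroup.normalizer (E : Set P))).index = p) (hidx : p ^ 2 ≤ E.index) :
    (∀ K L : Subgroup P, E ≤ K → E ≤ L → K ≤ L ∨ L ≤ K) ∧
      (∀ K : Subgroup P, E ≤ K → K ≠ ⊤ → (K.subgroupOf (Subgroup.normalizer (K : Set P))).index = p) ∧
      ∀ (i : ℕ) (K : Subgroup P) [Group.IsNilpotent ↥K], E ≤ K → K ≠ ⊤ → K.index * p ^ i = E.index →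
        Group.nilpotencyClass ↥K = i + 1 := by
  have hpp : p.Prime := Fact.out
  have hsoft : Cfsg.Agent.Helper65.IsSoft p E := by
    refine ⟨fun a ha b hb => ?_, hC, hN⟩
    have := hEab.is_comm.comm (⟨a, ha⟩ : E) ⟨b, hb⟩
    exact congrArg Subtype.val this
  have hstar : ∀ K : Subgroup P, E ≤ K → K ≠ ⊤ →
      K.relIndex (Subgroup.normalizer (K : Set P)) = p := fun K hK hKtop =>
    Cfsg.Agent.Helper65.IsSoft.relIndex_normalizer_of_le (p := p) _ P rfl hP E hsoft K hK hKtop
  refine ⟨fun K L hK hL => hsoft.le_total hP K L hK hL, fun K hK hKtop => hstar K hK hKtop, ?_⟩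
  intro i K _ hEK hKtop hi
  have hrel : E.relIndex K = p ^ i := by
    have h1 := Subgroup.relIndex_mul_index hEK
    rw [← hi, mul_comm] at h1
    have hK0 : 0 < K.index := Nat.pos_of_ne_zero Subgroup.index_ne_zero_of_finite
    exact Nat.eq_of_mul_eq_mul_left hK0 h1
  apply le_antisymm
  · -- upper bound, inside `T = N_P(K)`
    set T : Subgroup P := Subgroup.normalizer (K : Set P) with hT
    have hKT : K ≤ T := Subgroup.le_normalizer
    have hNT : Subgroup.normalizer (E : Set P) ≤ T := by
      by_cases hKE : K = E
      · rw [hT, hKE]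
      · exact (hsoft.normalizer_le hP (lt_of_le_of_ne hEK (Ne.symm hKE))).trans hKT
    have hsoft' := hsoft.subgroupOf T hNT
    haveI hKn : (K.subgroupOf T).Normal := Subgroup.normal_in_normalizer
    have hK'top : K.subgroupOf T ≠ ⊤ := by
      intro hh
      have h1 : T ≤ K := Subgroup.subgroupOf_eq_top.mp hh
      have h2 : K.relIndex T = 1 := Subgroup.relIndex_eq_one.mpr h1
      rw [hstar K hEK hKtop] at h2
      exact hpp.one_lt.ne' h2
    have hE'K' : E.subgroupOf T ≤ K.subgroupOf T := by
      intro x hx
      rw [Subgroup.mem_subgroupOf] at hx ⊢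
      exact hEK hx
    have hrel' : (E.subgroupOf T).relIndex (K.subgroupOf T) = p ^ i := by
      rw [Subgroup.relIndex_subgroupOf hKT]; exact hrel
    have hPT : IsPGroup p T := hP.to_subgroup T
    haveI : Group.IsNilpotent (K.subgroupOf T) := (hPT.to_subgroup _).isNilpotent
    have hcl := Cfsg.Agent.Helper65.IsSoft.nilpotencyClass_le_of_normal (p := p) i T hPT
      (E.subgroupOf T) (K.subgroupOf T) hsoft' hKn hE'K' hK'top hrel'
    have e := Subgroup.subgroupOfEquivOfLe hKT
    have h2 := Group.nilpotencyClass_le_of_surjective e.toMonoidHom e.surjective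
    exact h2.trans hcl
  · exact hsoft.le_nilpotencyClass hP K hEK hKtop i hrel

end Cfsg.Agent.S3811
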