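import Cfsg.Statements.S3815
import Mathlib

set_option autoImplicit false
open Cfsg

namespace Cfsg.Agent.S3815

/-- Let G be a finite group, p a prime and d ∈ G an element of order prime to p. If dg has order prime to p for every element g ∈ G of order prime to p, then d ∈ O_{p'}(G). -/
theorem result {G : Type*} [Group G] [Finite G] {p : ℕ} [Fact p.Prime]
    (d : G) (hd : (orderOf d).Coprime p)
    (h : ∀ g : G, (orderOf g).Coprime p → (orderOf (d * g)).Coprime p) :
    d ∈ Cfsg.pPrimeCore p G := by
  classical
  -- the submonoid of all elements with the property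
  let M : Submonoid G :=
    { carrier := {x | ∀ g : G, (orderOf g).Coprime p → (orderOf (x * g)).Coprime p}
      one_mem' := by intro g hg; simpa using hg
      mul_mem' := by
        intro x y hx hy g hg
        rw [mul_assoc]
        exact hx _ (hy g hg) }
  -- it is a subgroup since G is finite
  let D : Subgroup G :=
    { M with
      inv_mem' := by
        intro x hx
        have hxM : x ∈ M := hx
        have : x⁻¹ = x ^ (orderOf x - 1) := by
          have hpos : 0 < orderOf x := orderOf_pos x
          rw [inv_eq_iff_mul_eq_one, ← pow_succ', Nat.sub_add_cancel hpos, pow_orderOf_eq_one]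
        show x⁻¹ ∈ M
        rw [this]
        exact M.pow_mem hxM _ }
  have hmemD : ∀ x : G, x ∈ D ↔ ∀ g : G, (orderOf g).Coprime p → (orderOf (x * g)).Coprime p :=
    fun x => Iff.rfl
  have hDn : D.Normal := by
    constructor
    intro x hx c
    rw [hmemD] at hx ⊢
    intro g hg
    have h1 : (orderOf (c⁻¹ * g * c)).Coprime p := by
      have : orderOf (c⁻¹ * g * c) = orderOf g := by
        have := (MulAut.conj c⁻¹).orderOf_eq g
        simpa [MulAut.conj_apply] using this
      rwa [this]
    have h2 := hx _ h1
    have : c * x * c⁻¹ * g = c * (x * (c⁻¹ * g * c)) * c⁻¹ := by group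
    rw [this]
    have h3 : orderOf (c * (x * (c⁻¹ * g * c)) * c⁻¹) = orderOf (x * (c⁻¹ * g * c)) := by
      simpa [MulAut.conj_apply] using (MulAut.conj c).orderOf_eq (x * (c⁻¹ * g * c))
    rwa [h3]
  have hDcop : (Nat.card D).Coprime p := by
    rw [Nat.coprime_comm, Nat.Prime.coprime_iff_not_dvd (Fact.out)]
    intro hdvd
    obtain ⟨x, hx⟩ := exists_prime_orderOf_dvd_card' p hdvd
    have hxD : (x : G) ∈ D := x.2
    have := (hmemD _).1 hxD 1 (by simp)
    rw [mul_one, Subgroup.orderOf_coe, hx] at this
    exact (Nat.Prime.one_lt (Fact.out : p.Prime)).ne' (Nat.coprime_self p |>.1 this)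
  have hdD : d ∈ D := (hmemD d).2 h
  have hle : D ≤ Cfsg.pPrimeCore p G := le_sSup ⟨hDn, hDcop⟩
  exact hle hdD

end Cfsg.Agent.S3815
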