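import Cfsg.Statements.S3819
import Cfsg.Agent.Helper31.CoreControl

set_option autoImplicit false
open Cfsg

namespace Cfsg.Agent.S3819

/-- Let G be a finite group with Sylow p-subgroup P and H = O_{p'}(G), and suppose G = PH and the commutator subgroup [H, P] is solvable. Let q be a prime and z an element of q-power order of C_H(P). Then (O_{q'}(C_H(z)) ∩ O_{q'}(C_H(P))) · [O_{q'}(C_H(z)), P] ≤ O_{q'}(H). -/
theorem result {G : Type*} [Group G] [Finite G] {p : ℕ} [Fact p.Prime]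
    (P : Sylow p G) (hPH : Cfsg.pPrimeCore p G ⊔ (P : Subgroup G) = ⊤)
    (hsol : Group.IsSolvable ↥⁅Cfsg.pPrimeCore p G, (P : Subgroup G)⁆)
    {q : ℕ} [Fact q.Prime] (z : G) (hzH : z ∈ Cfsg.pPrimeCore p G) (hzP : z ∈ Subgroup.centralizer ((P : Subgroup G) : Set G))
    (hz : ∃ k : ℕ, orderOf z = q ^ k) :
    ((Cfsg.pPrimeCore q ↥(Cfsg.pPrimeCore p G ⊓ Subgroup.centralizer ({z} : Set G))).map
        (Cfsg.pPrimeCore p G ⊓ Subgroup.centralizer ({z} : Set G)).subtype ⊓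
      (Cfsg.pPrimeCore q ↥(Cfsg.pPrimeCore p G ⊓ Subgroup.centralizer ((P : Subgroup G) : Set G))).map
        (Cfsg.pPrimeCore p G ⊓ Subgroup.centralizer ((P : Subgroup G) : Set G)).subtype) ⊔
    ⁅(Cfsg.pPrimeCore q ↥(Cfsg.pPrimeCore p G ⊓ Subgroup.centralizer ({z} : Set G))).map
        (Cfsg.pPrimeCore p G ⊓ Subgroup.centralizer ({z} : Set G)).subtype, (P : Subgroup G)⁆ ≤
    (Cfsg.pPrimeCore q ↥(Cfsg.pPrimeCore p G)).map (Cfsg.pPrimeCore p G).subtype := by
  have hq : q.Prime := Fact.out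
  have hchar : (Cfsg.pPrimeCore p G).Characteristic := Cfsg.Agent.Lib.pPrimeCore_characteristic p
  have hn : (Cfsg.pPrimeCore p G).Normal := inferInstance
  have hcop : (Nat.card (P : Subgroup G)).Coprime (Nat.card (Cfsg.pPrimeCore p G)) := by
    obtain ⟨n, hn'⟩ := IsPGroup.iff_card.mp P.2
    rw [hn']
    exact Nat.Coprime.pow_left n (Cfsg.Agent.Lib.card_pPrimeCore_coprime p).symm
  have hPsol : Group.IsSolvable ↥(P : Subgroup G) := by
    have := P.2.isNilpotent
    infer_instance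
  rw [Cfsg.Agent.Helper31.map_pPrimeCore_eq_piCoreOf hq,
    Cfsg.Agent.Helper31.map_pPrimeCore_eq_piCoreOf hq,
    Cfsg.Agent.Helper31.map_pPrimeCore_eq_piCoreOf hq]
  exact Cfsg.Agent.Helper31.core_control (Cfsg.pPrimeCore p G) (P : Subgroup G) hPH hcop
    (Or.inl hPsol) hsol z hzH hzP hz

end Cfsg.Agent.S3819
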