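import Cfsg.Statements.S3821
import Mathlib

set_option autoImplicit false
open Cfsg

namespace Cfsg.Agent.S3821

theorem map_conj_mul {G : Type*} [Group G] (H : Subgroup G) (a b : G) :
    H.map (MulAut.conj (a * b)).toMonoidHom
      = (H.map (MulAut.conj b).toMonoidHom).map (MulAut.conj a).toMonoidHom := by
  rw [Subgroup.map_map]
  congr 1
  ext x
  simp [MulAut.conj_apply, mul_assoc]

theorem map_conj_le_of_mem {G : Type*} [Group G] (K J : Subgroup G) (x : G) (hx : x ∈ J) (hK : K ≤ J) :
    K.map (MulAut.conj x).toMonoidHom ≤ J := by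
  rintro _ ⟨k, hk, rfl⟩
  show (MulAut.conj x) k ∈ J
  rw [MulAut.conj_apply]
  exact J.mul_mem (J.mul_mem hx (hK hk)) (J.inv_mem hx)

theorem map_conj_subtype {G : Type*} [Group G] (A : Subgroup G) (K : Subgroup A) (a : A) :
    (K.map (MulAut.conj a).toMonoidHom).map A.subtype
      = (K.map A.subtype).map (MulAut.conj (a : G)).toMonoidHom := by
  rw [Subgroup.map_map, Subgroup.map_map]
  congr 1

theorem map_conj_le_normal {G : Type*} [Group G] (A H : Subgroup G) [A.Normal] (hHA : H ≤ A) (g : G) :
    H.map (MulAut.conj g).toMonoidHom ≤ A := by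
  rintro _ ⟨k, hk, rfl⟩
  show (MulAut.conj g) k ∈ A
  rw [MulAut.conj_apply]
  exact Subgroup.Normal.conj_mem inferInstance k (hHA hk) g

/-- Let A be a normal subgroup of the finite group G and H a subgroup of A. Then H is pronormal in G (H and gHg⁻¹ conjugate inside ⟨H, gHg⁻¹⟩ for every g ∈ G) if and only if H is pronormal in A and G = A · N_G(H). -/
theorem result {G : Type*} [Group G] [Finite G] (A H : Subgroup G) [A.Normal] (hHA : H ≤ A) :
    Cfsg.IsPronormal H ↔ (Cfsg.IsPronormal (H.subgroupOf A) ∧ A ⊔ Subgroup.normalizer (H : Set G) = ⊤) := by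
  have hmapH : (H.subgroupOf A).map A.subtype = H := by
    rw [Subgroup.subgroupOf_map_subtype]
    exact inf_eq_left.mpr hHA
  constructor
  · intro h
    refine ⟨?_, ?_⟩
    · intro a
      obtain ⟨y, hy, hHy⟩ := h (a : G)
      have hyA : y ∈ A := by
        have : H ⊔ H.map (MulAut.conj (a : G)).toMonoidHom ≤ A :=
          sup_le hHA (map_conj_le_normal A H hHA _)
        exact this hy
      refine ⟨⟨y, hyA⟩, ?_, ?_⟩
      · rw [← Subgroup.mem_map_iff_mem (Subgroup.subtype_injective A), Subgroup.map_sup,
          map_conj_subtype, hmapH]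
        exact hy
      · apply Subgroup.map_injective (Subgroup.subtype_injective A)
        rw [map_conj_subtype, map_conj_subtype, hmapH]
        exact hHy
    · rw [eq_top_iff]
      intro g _
      obtain ⟨y, hy, hHy⟩ := h g
      have hyA : y ∈ A := by
        have : H ⊔ H.map (MulAut.conj g).toMonoidHom ≤ A :=
          sup_le hHA (map_conj_le_normal A H hHA _)
        exact this hy
      have hn : y⁻¹ * g ∈ Subgroup.normalizer (H : Set G) := by
        have h1 : H.map (MulAut.conj (y⁻¹ * g)).toMonoidHom = H := by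
          rw [map_conj_mul, hHy, ← map_conj_mul]
          ext z
          simp
        exact Subgroup.mem_normalizer_iff_map_conj_eq.mpr h1
      have : g = y * (y⁻¹ * g) := by group
      rw [this]
      exact Subgroup.mul_mem _ (Subgroup.mem_sup_left hyA) (Subgroup.mem_sup_right hn)
  · rintro ⟨hA, htop⟩ g
    have hg : g ∈ A ⊔ Subgroup.normalizer (H : Set G) := by rw [htop]; trivial
    rw [← SetLike.mem_coe, Subgroup.normal_mul] at hg
    obtain ⟨a, ha, n, hn, rfl⟩ := hg
    have hnH : H.map (MulAut.conj n).toMonoidHom = H :=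
      Subgroup.mem_normalizer_iff_map_conj_eq.mp hn
    have hgH : H.map (MulAut.conj (a * n)).toMonoidHom = H.map (MulAut.conj a).toMonoidHom := by
      rw [map_conj_mul, hnH]
    rw [hgH]
    obtain ⟨x, hx, hHx⟩ := hA ⟨a, ha⟩
    refine ⟨(x : G), ?_, ?_⟩
    · rw [← Subgroup.mem_map_iff_mem (Subgroup.subtype_injective A), Subgroup.map_sup,
        map_conj_subtype, hmapH] at hx
      exact hx
    · have := congrArg (Subgroup.map A.subtype) hHx
      rw [map_conj_subtype, map_conj_subtype, hmapH] at this
      exact this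

end Cfsg.Agent.S3821
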