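-- Statement S3824: a finite group with an abelian subgroup of 2-power index is solvable.
import Cfsg.Statements.S3824
import Cfsg.Agent.Lib.BurnsidePQ
import Cfsg.Agent.Helper10.Card

set_option autoImplicit false
open Cfsg

namespace Cfsg.Agent.S3824

open Subgroup

universe u

theorem relIndex_dvd_index_of_normal_right {G : Type*} [Group G] [Finite G] (A K : Subgroup G)
    [K.Normal] : A.relIndex K ∣ A.index := by
  have h0 := Cfsg.Agent.Helper10.card_sup_mul_card_inf A K
    (by rw [Subgroup.normalizer_eq_top K]; exact le_top)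
  have h1 : Nat.card (A ⊓ K : Subgroup G) * A.relIndex K = Nat.card K := by
    rw [← Subgroup.inf_relIndex_right, ← Subgroup.relIndex_bot_left, ← Subgroup.relIndex_bot_left,
      Subgroup.relIndex_mul_relIndex _ _ _ bot_le inf_le_right]
  have h2 : Nat.card A * A.relIndex (A ⊔ K) = Nat.card (A ⊔ K : Subgroup G) := by
    rw [← Subgroup.relIndex_bot_left, ← Subgroup.relIndex_bot_left,
      Subgroup.relIndex_mul_relIndex _ _ _ bot_le le_sup_left]
  have h3 : A.relIndex K = A.relIndex (A ⊔ K) := by
    apply Nat.eq_of_mul_eq_mul_left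
      (Nat.mul_pos (Nat.card_pos (α := A)) (Nat.card_pos (α := (A ⊓ K : Subgroup G))))
    calc Nat.card A * Nat.card (A ⊓ K : Subgroup G) * A.relIndex K
        = Nat.card A * (Nat.card (A ⊓ K : Subgroup G) * A.relIndex K) := by ring
      _ = Nat.card A * Nat.card K := by rw [h1]
      _ = Nat.card (A ⊔ K : Subgroup G) * Nat.card (A ⊓ K : Subgroup G) := h0.symm
      _ = Nat.card A * A.relIndex (A ⊔ K) * Nat.card (A ⊓ K : Subgroup G) := by rw [h2]
      _ = Nat.card A * Nat.card (A ⊓ K : Subgroup G) * A.relIndex (A ⊔ K) := by ring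
  rw [h3]
  exact Subgroup.relIndex_dvd_index_of_le le_sup_left

theorem main : ∀ n : ℕ, ∀ (G : Type u) [Group G] [Finite G], Nat.card G = n →
    ∀ A : Subgroup G, IsMulCommutative A → (∃ k : ℕ, A.index = 2 ^ k) → Group.IsSolvable G := by
  intro n
  induction n using Nat.strong_induction_on with
  | _ n ih =>
  intro G _ _ hcard A hA hidx
  obtain ⟨k, hk⟩ := hidx
  by_cases htriv : Subsingleton G
  · infer_instance
  rw [not_subsingleton_iff_nontrivial] at htriv
  by_cases hsimple : IsSimpleGroup G
  · -- simple case
    by_cases hAbot : A = ⊥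
    · -- `G` is a 2-group
      rw [hAbot, Subgroup.index_bot] at hk
      haveI : Fact (Nat.Prime 2) := ⟨Nat.prime_two⟩
      have hG : IsPGroup 2 G := IsPGroup.of_card hk
      have : Group.IsNilpotent G := hG.isNilpotent
      infer_instance
    · obtain ⟨a, haA, ha1⟩ : ∃ a ∈ A, a ≠ 1 := by
        obtain ⟨a, h⟩ := (Subgroup.ne_bot_iff_exists_ne_one (H := A)).mp hAbot
        exact ⟨a.1, a.2, fun h1 => h (Subtype.ext h1)⟩
      have hAle : A ≤ centralizer ({a} : Set G) := by
        intro x hx
        rw [Subgroup.mem_centralizer_singleton_iff]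
        have := hA.is_comm.comm (⟨x, hx⟩ : A) ⟨a, haA⟩
        exact (congrArg Subtype.val this)
      have hdvd : (centralizer ({a} : Set G)).index ∣ 2 ^ k := by
        rw [← hk]; exact Subgroup.index_dvd_of_le hAle
      obtain ⟨j, -, hj⟩ := (Nat.dvd_prime_pow Nat.prime_two).mp hdvd
      by_cases hj0 : j = 0
      · -- `a` is central
        rw [hj0, pow_zero, Subgroup.index_eq_one] at hj
        have hac : a ∈ center G := by
          rw [Subgroup.mem_center_iff]
          intro g
          have : g ∈ centralizer ({a} : Set G) := by rw [hj]; exact Subgroup.mem_top g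
          rw [Subgroup.mem_centralizer_singleton_iff] at this
          exact this
        have hcne : center G ≠ ⊥ := by
          intro h
          rw [h, Subgroup.mem_bot] at hac
          exact ha1 hac
        have hctop : center G = ⊤ :=
          (hsimple.eq_bot_or_eq_top_of_normal (center G) inferInstance).resolve_left hcne
        have hcomm : ∀ x y : G, x * y = y * x := by
          intro x y
          have : y ∈ center G := by rw [hctop]; exact Subgroup.mem_top y
          exact (Subgroup.mem_center_iff.mp this x)
        exact Group.isSolvable_of_comm hcomm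
      · exact absurd hsimple
          (Cfsg.Agent.Lib.not_isSimpleGroup_of_index_centralizer_eq_prime_pow Nat.prime_two hj0 a hj)
  -- non-simple case
  obtain ⟨K, hKn, hKbot, hKtop⟩ : ∃ K : Subgroup G, K.Normal ∧ K ≠ ⊥ ∧ K ≠ ⊤ := by
    by_contra hcon
    push Not at hcon
    apply hsimple
    exact ⟨fun H hH => by
      by_cases h : H = ⊥
      · exact Or.inl h
      · exact Or.inr (hcon H hH h)⟩
  haveI := hKn
  have hK1 : 1 < Nat.card K := by
    rcases Nat.lt_or_ge 1 (Nat.card K) with h | h
    · exact h
    · exfalso
      have : Nat.card K = 1 := le_antisymm h Nat.card_pos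
      exact hKbot (Subgroup.card_eq_one.mp this)
  have hltQ : Nat.card (G ⧸ K) < n := by
    rw [← hcard, ← Subgroup.index_eq_card, ← Subgroup.index_mul_card K]
    have h2 : 0 < K.index := Nat.pos_of_ne_zero Subgroup.index_ne_zero_of_finite
    nlinarith
  have hltK : Nat.card K < n := by
    rw [← hcard]
    by_contra hcon
    push Not at hcon
    exact hKtop (Subgroup.card_eq_iff_eq_top K |>.mp (le_antisymm (Subgroup.card_le_card_group K) hcon))
  have hsolQ : Group.IsSolvable (G ⧸ K) := by
    refine ih _ hltQ (G ⧸ K) rfl (A.map (QuotientGroup.mk' K)) ?_ ?_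
    · exact Subgroup.map_isMulCommutative A (QuotientGroup.mk' K)
    · have hd : (A.map (QuotientGroup.mk' K)).index ∣ 2 ^ k := by
        rw [← hk]; exact Subgroup.index_map_dvd A (QuotientGroup.mk'_surjective K)
      obtain ⟨j, -, hj⟩ := (Nat.dvd_prime_pow Nat.prime_two).mp hd
      exact ⟨j, hj⟩
  have hsolK : Group.IsSolvable K := by
    refine ih _ hltK K rfl (A.subgroupOf K) ?_ ?_
    · exact Subgroup.subgroupOf_isMulCommutative K A
    · have hd : (A.subgroupOf K).index ∣ 2 ^ k := by
        rw [← hk]; exact relIndex_dvd_index_of_normal_right A K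
      obtain ⟨j, -, hj⟩ := (Nat.dvd_prime_pow Nat.prime_two).mp hd
      exact ⟨j, hj⟩
  exact Group.isSolvable_of_ker_le_range K.subtype (QuotientGroup.mk' K)
    (by rw [QuotientGroup.ker_mk', Subgroup.range_subtype])

/-- Every finite group having an abelian subgroup whose index is a power of 2 is solvable. -/
theorem result {G : Type*} [Group G] [Finite G]
    (A : Subgroup G) (hA : IsMulCommutative A) (hidx : ∃ k : ℕ, A.index = 2 ^ k) : Group.IsSolvable G :=
  main _ G rfl A hA hidx

end Cfsg.Agent.S3824
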