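import Cfsg.Statements.S3825
import Mathlib

set_option autoImplicit false
open Cfsg
open scoped commutatorElement

namespace Cfsg.Agent.S3825

theorem result {H : Type*} [Group H] [Finite H] (U : Subgroup H) (w : H) (hw : orderOf w = 2)
    (hwU : w ∈ Subgroup.normalizer (U : Set H)) (y : H) (hy : y ≠ 1) (hyU : y ∈ U)
    (hfix : ∀ u ∈ U, w * u * w⁻¹ = u ↔ (u = 1 ∨ u = y))
    (V : Subgroup H) (hVU : V ≤ U) (hVn : (V.subgroupOf U).Normal) (hVw : ∀ v ∈ V, w * v * w⁻¹ ∈ V)
    (hVe : Cfsg.IsElementaryAbelian 2 V) (hVc : ¬ IsCyclic ↥V) (hyV : y ∈ V) :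
    ¬ 2 ∣ V.relIndex U ∧ Nat.card ↥V = 4 ∧ ⁅U, U⁆ ≤ V := by
  classical
  have hw2 : w * w = 1 := by rw [← pow_two, ← hw, pow_orderOf_eq_one]
  have hwinv : w⁻¹ = w := inv_eq_of_mul_eq_one_right hw2
  have hUw : ∀ u ∈ U, w * u * w⁻¹ ∈ U := fun u hu => (Subgroup.mem_normalizer_iff.mp hwU u).mp hu
  have hVcomm : ∀ a ∈ V, ∀ b ∈ V, a * b = b * a := by
    intro a ha b hb
    have := isMulCommutative_iff.mp hVe.1 (⟨a, ha⟩ : V) ⟨b, hb⟩
    exact congrArg Subtype.val this
  have hVinv : ∀ a ∈ V, a⁻¹ = a := by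
    intro a ha
    have := hVe.2 a ha
    rw [pow_two] at this
    exact inv_eq_of_mul_eq_one_right this
  -- double conjugation
  have hww : ∀ a : H, w * (w * a * w⁻¹) * w⁻¹ = a := by
    intro a
    rw [hwinv]
    calc w * (w * a * w) * w = (w * w) * a * (w * w) := by simp only [mul_assoc]
      _ = a := by rw [hw2]; simp
  -- τ
  let τ : V →* V :=
    { toFun := fun v => ⟨v * (w * v * w⁻¹), V.mul_mem v.2 (hVw v v.2)⟩
      map_one' := by apply Subtype.ext; simp
      map_mul' := by
        intro a b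
        apply Subtype.ext
        simp only [Subgroup.coe_mul]
        have h1 : (b : H) * (w * a * w⁻¹) = (w * a * w⁻¹) * b := hVcomm _ b.2 _ (hVw a a.2)
        calc (a : H) * b * (w * (a * b) * w⁻¹) = a * (b * (w * a * w⁻¹)) * (w * b * w⁻¹) := by
              simp only [mul_assoc, inv_mul_cancel_left]
          _ = a * ((w * a * w⁻¹) * b) * (w * b * w⁻¹) := by rw [h1]
          _ = a * (w * a * w⁻¹) * (b * (w * b * w⁻¹)) := by simp only [mul_assoc] }
  have hτ : ∀ v : V, ((τ v : V) : H) = v * (w * v * w⁻¹) := fun v => rfl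
  let y' : V := ⟨y, hyV⟩
  have hy'1 : (1 : V) ≠ y' := by
    intro h
    apply hy
    have := congrArg Subtype.val h
    simpa [y'] using this.symm
  -- τ v is fixed by w
  have hτfix : ∀ v : V, τ v = 1 ∨ τ v = y' := by
    intro v
    have hmem : ((τ v : V) : H) ∈ U := hVU (τ v).2
    have hfx : w * ((τ v : V) : H) * w⁻¹ = ((τ v : V) : H) := by
      rw [hτ]
      calc w * ((v : H) * (w * v * w⁻¹)) * w⁻¹ = (w * v * w⁻¹) * (w * (w * v * w⁻¹) * w⁻¹) := by
            simp only [mul_assoc, inv_mul_cancel_left]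
        _ = (w * v * w⁻¹) * v := by rw [hww]
        _ = v * (w * v * w⁻¹) := hVcomm _ (hVw v v.2) _ v.2
    rcases (hfix _ hmem).mp hfx with h | h
    · left; apply Subtype.ext; simpa using h
    · right; apply Subtype.ext; simpa [y'] using h
  -- kernel
  have hker : (τ.ker : Set V) = {1, y'} := by
    ext v
    simp only [SetLike.mem_coe, MonoidHom.mem_ker, Set.mem_insert_iff, Set.mem_singleton_iff]
    constructor
    · intro h
      have h1 : ((τ v : V) : H) = 1 := by rw [h]; rfl
      rw [hτ] at h1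
      have h2 : w * v * w⁻¹ = (v : H) := by
        have : w * v * w⁻¹ = (v : H)⁻¹ := (inv_eq_of_mul_eq_one_right h1).symm
        rw [this, hVinv v v.2]
      rcases (hfix _ (hVU v.2)).mp h2 with h3 | h3
      · left; apply Subtype.ext; simpa using h3
      · right; apply Subtype.ext; simpa [y'] using h3
    · intro h
      have h2 : w * v * w⁻¹ = (v : H) := by
        apply (hfix _ (hVU v.2)).mpr
        rcases h with h | h
        · left; rw [h]; rfl
        · right; rw [h]
      apply Subtype.ext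
      rw [hτ, h2]
      have := hVe.2 v v.2
      rw [pow_two] at this
      simpa using this
  have hrange : (τ.range : Set V) ⊆ {1, y'} := by
    rintro _ ⟨v, rfl⟩
    simp only [Set.mem_insert_iff, Set.mem_singleton_iff]
    exact hτfix v
  have hcardker : Nat.card τ.ker = 2 := by
    rw [← SetLike.coe_sort_coe, Nat.card_coe_set_eq, hker, Set.ncard_pair hy'1]
  have hcardrange : Nat.card τ.range ≤ 2 := by
    rw [← SetLike.coe_sort_coe, Nat.card_coe_set_eq, ← Set.ncard_pair hy'1]
    exact Set.ncard_le_ncard hrange (Set.toFinite _)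
  have hcardV : Nat.card V = 2 * Nat.card τ.range := by
    rw [← Subgroup.card_mul_index τ.ker, hcardker, Subgroup.index_ker]
  have hrpos : 0 < Nat.card τ.range := Nat.card_pos
  have hr2 : Nat.card τ.range = 2 := by
    by_contra hne
    have h1 : Nat.card τ.range = 1 := by omega
    rw [h1] at hcardV
    have : Fact (Nat.Prime 2) := ⟨Nat.prime_two⟩
    exact hVc (isCyclic_of_prime_card (p := 2) (by simpa using hcardV))
  have hV4 : Nat.card V = 4 := by rw [hcardV, hr2]
  have hrangeeq : (τ.range : Set V) = {1, y'} := by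
    apply Set.eq_of_subset_of_ncard_le hrange _ (Set.toFinite _)
    rw [Set.ncard_pair hy'1, ← Nat.card_coe_set_eq, SetLike.coe_sort_coe, hr2]
  -- conjugation on U
  let c : U →* U := ((MulAut.conj w).toMonoidHom.comp U.subtype).codRestrict U (fun u => by
    simpa using hUw u u.2)
  have hc : ∀ u : U, ((c u : U) : H) = w * u * w⁻¹ := fun u => by simp [c]
  have hcc : ∀ u : U, c (c u) = u := by
    intro u
    apply Subtype.ext
    rw [hc, hc, hww]
  have hVc' : V.subgroupOf U ≤ (V.subgroupOf U).comap c := by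
    intro u hu
    rw [Subgroup.mem_comap, Subgroup.mem_subgroupOf, hc]
    exact hVw _ (Subgroup.mem_subgroupOf.mp hu)
  let φ := QuotientGroup.map (V.subgroupOf U) (V.subgroupOf U) c hVc'
  have hφ : ∀ u : U, φ (QuotientGroup.mk u) = QuotientGroup.mk (c u) := fun u => rfl
  have hφinv : Function.Involutive φ := by
    intro q
    obtain ⟨u, rfl⟩ := QuotientGroup.mk_surjective q
    rw [hφ, hφ, hcc]
  have hφfpf : MonoidHom.FixedPointFree φ := by
    intro q hq
    obtain ⟨u, rfl⟩ := QuotientGroup.mk_surjective q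
    rw [hφ, QuotientGroup.eq, Subgroup.mem_subgroupOf] at hq
    simp only [Subgroup.coe_mul, Subgroup.coe_inv] at hq
    rw [hc] at hq
    -- v₀ := (w u w⁻¹)⁻¹ * u ∈ V
    set v₀ : H := (w * u * w⁻¹)⁻¹ * u with hv₀
    have hwu : w * u * w⁻¹ = u * v₀⁻¹ := by rw [hv₀]; simp
    have hv₀inv : v₀⁻¹ = v₀ := hVinv v₀ hq
    rw [hv₀inv] at hwu
    -- τ ⟨v₀⟩ = 1
    have hτv₀ : τ ⟨v₀, hq⟩ = 1 := by
      apply Subtype.ext
      rw [hτ]
      simp only [Subgroup.coe_one]
      have h1 : (u : H) = (w * u * w⁻¹) * (w * v₀ * w⁻¹) := by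
        calc (u : H) = w * (w * u * w⁻¹) * w⁻¹ := (hww _).symm
          _ = w * (u * v₀) * w⁻¹ := by rw [hwu]
          _ = (w * u * w⁻¹) * (w * v₀ * w⁻¹) := by simp only [mul_assoc, inv_mul_cancel_left]
      rw [hwu] at h1
      have h2 : (u : H) * 1 = u * (v₀ * (w * v₀ * w⁻¹)) := by
        rw [mul_one, ← mul_assoc]; exact h1
      exact (mul_left_cancel h2).symm
    have hv₀mem : (⟨v₀, hq⟩ : V) ∈ (τ.range : Set V) := by
      rw [hrangeeq, ← hker]
      exact hτv₀
    obtain ⟨v, hv⟩ := hv₀mem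
    have hv' : (v : H) * (w * v * w⁻¹) = v₀ := by
      have := congrArg Subtype.val hv
      rwa [hτ] at this
    -- u * v is fixed by w
    have hfx : w * ((u : H) * v) * w⁻¹ = u * v := by
      calc w * ((u : H) * v) * w⁻¹ = (w * u * w⁻¹) * (w * v * w⁻¹) := by
            simp only [mul_assoc, inv_mul_cancel_left]
        _ = u * (v₀ * (w * v * w⁻¹)) := by rw [hwu, mul_assoc]
        _ = u * v := by
            rw [← hv']
            have h3 : (w * (v : H) * w⁻¹) * (w * v * w⁻¹) = 1 := by
              have := hVe.2 _ (hVw v v.2)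
              rwa [pow_two] at this
            rw [mul_assoc, h3, mul_one]
    have huvU : (u : H) * v ∈ U := U.mul_mem u.2 (hVU v.2)
    have huvV : (u : H) * v ∈ V := by
      rcases (hfix _ huvU).mp hfx with h | h
      · rw [h]; exact V.one_mem
      · rw [h]; exact hyV
    have huV : (u : H) ∈ V := by
      have := V.mul_mem huvV (V.inv_mem v.2)
      simpa using this
    rw [QuotientGroup.eq_one_iff, Subgroup.mem_subgroupOf]
    exact huV
  refine ⟨?_, hV4, ?_⟩
  · have hodd := hφfpf.odd_card_of_involutive hφinv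
    rw [← Subgroup.index_eq_card] at hodd
    intro h2
    exact (Nat.not_even_iff_odd.mpr hodd) (even_iff_two_dvd.mpr h2)
  · rw [Subgroup.commutator_le]
    intro a ha b hb
    have hcomm := hφfpf.commute_all_of_involutive hφinv (QuotientGroup.mk (⟨a, ha⟩ : U)) (QuotientGroup.mk (⟨b, hb⟩ : U))
    have h1 : (QuotientGroup.mk (⁅(⟨a, ha⟩ : U), ⟨b, hb⟩⁆) : U ⧸ V.subgroupOf U) = 1 := by
      rw [commutatorElement_def, QuotientGroup.mk_mul, QuotientGroup.mk_mul, QuotientGroup.mk_mul,
        QuotientGroup.mk_inv, QuotientGroup.mk_inv, hcomm.eq]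
      simp
    rw [QuotientGroup.eq_one_iff, Subgroup.mem_subgroupOf] at h1
    simpa [commutatorElement_def] using h1

end Cfsg.Agent.S3825
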