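-- S3835: A_n contains Qd(p) iff n ≥ p², and Qd(p) is not involved in A_n for n < p² (helper42).
import Cfsg.Statements.S3835
import Cfsg.Agent.Helper42.QdAlt

set_option autoImplicit false
open Cfsg

namespace Cfsg.Agent.S3835

open Cfsg.Agent.Helper42

/-- Let p be an odd prime and n a natural number. The alternating group of degree n has a subgroup isomorphic to Qd(p) (the natural semidirect product of an elementary abelian group of order p² by SL₂(p)) if and only if n ≥ p²; and if n < p² then Qd(p) is not even involved in it. -/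
theorem result {p : ℕ} [Fact p.Prime] (hp : p ≠ 2) (n : ℕ) : ((∃ H : Subgroup (alternatingGroup (Fin n)), Nonempty (↥H ≃* ↥(Cfsg.qd p))) ↔ p ^ 2 ≤ n) ∧ (n < p ^ 2 → ¬ Cfsg.Involves ↥(Cfsg.qd p) ↥(alternatingGroup (Fin n))) := by
  refine ⟨⟨?_, ?_⟩, not_involves_qd hp n⟩
  · rintro ⟨H, ⟨e⟩⟩
    by_contra hlt
    push Not at hlt
    apply not_involves_qd hp n hlt
    have hN : ((⊥ : Subgroup (alternatingGroup (Fin n))).subgroupOf H).Normal := by
      rw [Subgroup.bot_subgroupOf]; infer_instance
    refine ⟨H, ⊥, hN, ⟨?_⟩⟩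
    have hbot : (⊥ : Subgroup (alternatingGroup (Fin n))).subgroupOf H = ⊥ := Subgroup.bot_subgroupOf H
    exact ((QuotientGroup.quotientMulEquivOfEq hbot).trans QuotientGroup.quotientBot).trans e
  · intro hn
    obtain ⟨f, hf⟩ := exists_qd_embedding hp n hn
    exact ⟨f.range, ⟨(MonoidHom.ofInjective hf).symm⟩⟩

end Cfsg.Agent.S3835
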