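import Cfsg.Statements.S3836
import Cfsg.Agent.Lib.Cores

set_option autoImplicit false
open Cfsg

namespace Cfsg.Agent.S3836

theorem result {G : Type*} [Group G] [Finite G] {p : ℕ} [Fact p.Prime] (hst : Cfsg.IsNormalizerPStable p G) (H : Subgroup G) : Cfsg.IsNormalizerPStable p ↥H := by
  intro P hP g hg hquad
  set P' : Subgroup G := P.map H.subtype with hP'
  have hP'p : IsPGroup p P' := hP.map _
  have hnorm : ∀ x : H, x ∈ Subgroup.normalizer (P : Set H) → (x : G) ∈ Subgroup.normalizer (P' : Set G) := by
    intro x hx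
    have := Subgroup.le_normalizer_map H.subtype (Subgroup.mem_map_of_mem H.subtype hx)
    exact this
  have hg' : (g : G) ∈ Subgroup.normalizer (P' : Set G) := hnorm g hg
  have hquad' : ⁅⁅P', Subgroup.zpowers (g : G)⁆, Subgroup.zpowers (g : G)⁆ = ⊥ := by
    have : Subgroup.zpowers (g : G) = (Subgroup.zpowers g).map H.subtype := (MonoidHom.map_zpowers H.subtype g).symm
    rw [this, hP', ← Subgroup.map_commutator, ← Subgroup.map_commutator, hquad, Subgroup.map_bot]
  have hmem := hst P' hP'p g hg' hquad'
  -- the hom N_H(P) → N_G(P')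
  let ι : ↥(Subgroup.normalizer (P : Set H)) →* ↥(Subgroup.normalizer (P' : Set G)) :=
    MonoidHom.codRestrict (H.subtype.comp (Subgroup.normalizer (P : Set H)).subtype) _
      (fun x => hnorm x x.2)
  have hι : ∀ x : ↥(Subgroup.normalizer (P : Set H)), ((ι x : ↥(Subgroup.normalizer (P' : Set G))) : G) = ((x : H) : G) :=
    fun x => rfl
  have hcent : ∀ x : ↥(Subgroup.normalizer (P : Set H)),
      x ∈ (Subgroup.centralizer (P : Set H)).subgroupOf (Subgroup.normalizer (P : Set H)) ↔
      ι x ∈ (Subgroup.centralizer (P' : Set G)).subgroupOf (Subgroup.normalizer (P' : Set G)) := by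
    intro x
    rw [Subgroup.mem_subgroupOf, Subgroup.mem_subgroupOf, Subgroup.mem_centralizer_iff, Subgroup.mem_centralizer_iff]
    constructor
    · rintro h _ ⟨y, hy, rfl⟩
      have := h y hy
      have := congrArg (H.subtype) this
      rw [hι]
      simpa using this
    · intro h y hy
      have := h (y : G) ⟨y, hy, rfl⟩
      apply Subtype.ext
      rw [hι] at this
      simpa using this
  let ψ := QuotientGroup.map ((Subgroup.centralizer (P : Set H)).subgroupOf (Subgroup.normalizer (P : Set H)))
      ((Subgroup.centralizer (P' : Set G)).subgroupOf (Subgroup.normalizer (P' : Set G))) ι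
      (fun x hx => (hcent x).mp hx)
  have hψ : ∀ x : ↥(Subgroup.normalizer (P : Set H)), ψ (QuotientGroup.mk x) = QuotientGroup.mk (ι x) :=
    fun x => rfl
  have hψinj : Function.Injective ψ := by
    rw [← MonoidHom.ker_eq_bot_iff, eq_bot_iff]
    intro q hq
    obtain ⟨x, rfl⟩ := QuotientGroup.mk_surjective q
    rw [MonoidHom.mem_ker, hψ, QuotientGroup.eq_one_iff] at hq
    rw [Subgroup.mem_bot, QuotientGroup.eq_one_iff]
    exact (hcent x).mpr hq
  have hcomap_p : IsPGroup p ((pCore p _).comap ψ) :=
    (Cfsg.Agent.Lib.isPGroup_pCore p).comap_of_injective ψ hψinj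
  have hcomap_n : ((pCore p _).comap ψ).Normal := by
    have : (pCore p (↥(Subgroup.normalizer (P' : Set G)) ⧸
          (Subgroup.centralizer (P' : Set G)).subgroupOf (Subgroup.normalizer (P' : Set G)))).Normal := by
      have := Cfsg.Agent.Lib.pCore_characteristic (G := (↥(Subgroup.normalizer (P' : Set G)) ⧸
          (Subgroup.centralizer (P' : Set G)).subgroupOf (Subgroup.normalizer (P' : Set G)))) p
      infer_instance
    infer_instance
  apply Cfsg.Agent.Lib.le_pCore hcomap_n hcomap_p
  rw [Subgroup.mem_comap, hψ]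
  exact hmem

end Cfsg.Agent.S3836
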