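import Cfsg.Statements.S3838
import Cfsg.Agent.Helper64.TateSpecial

set_option autoImplicit false
open Cfsg

namespace Cfsg.Agent.S3838

open Subgroup
open scoped commutatorElement

/-- Let G be a finite group with Sylow p-subgroup P such that N_G(P) has a normal p-complement. Then N_G(Q) has a normal p-complement for every subgroup Q with [P, P] ≤ Q ≤ Φ(P). -/
theorem result {G : Type*} [Group G] [Finite G] {p : ℕ} [Fact p.Prime] (P : Sylow p G) (hN : Cfsg.HasNormalPComplement p ↥(Subgroup.normalizer ((P : Subgroup G) : Set G))) (Q : Subgroup G) (h1 : (commutator ↥(P : Subgroup G)).map (P : Subgroup G).subtype ≤ Q) (h2 : Q ≤ (frattini ↥(P : Subgroup G)).map (P : Subgroup G).subtype) : Cfsg.HasNormalPComplement p ↥(Subgroup.normalizer (Q : Set G)) := by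
  have hQP : Q ≤ (P : Subgroup G) := h2.trans (by rintro _ ⟨y, _, rfl⟩; exact y.2)
  have hcomm : ∀ r ∈ (P : Subgroup G), ∀ x ∈ (P : Subgroup G), r * x * r⁻¹ * x⁻¹ ∈ Q := by
    intro r hr x hx
    apply h1
    refine ⟨⁅(⟨r, hr⟩ : (P : Subgroup G)), ⟨x, hx⟩⁆, ?_, ?_⟩
    · rw [commutator_def]
      exact Subgroup.commutator_mem_commutator (mem_top _) (mem_top _)
    · simp [commutatorElement_def]
  set H := normalizer (Q : Set G) with hH
  have hPH : (P : Subgroup G) ≤ H := by
    intro u hu
    rw [mem_normalizer_iff]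
    intro q
    constructor
    · intro hq
      have := hcomm u hu q (hQP hq)
      have h3 : u * q * u⁻¹ = (u * q * u⁻¹ * q⁻¹) * q := by group
      rw [h3]; exact mul_mem this hq
    · intro hq
      have := hcomm u⁻¹ (inv_mem hu) (u * q * u⁻¹) (hQP hq)
      have h3 : q = (u⁻¹ * (u * q * u⁻¹) * u⁻¹⁻¹ * (u * q * u⁻¹)⁻¹) * (u * q * u⁻¹) := by group
      rw [h3]; exact mul_mem this hq
  set PH : Sylow p H := P.subtype hPH with hPHdef
  set QH : Subgroup H := Q.subgroupOf H with hQH
  have hQHn : QH.Normal := Subgroup.normal_in_normalizer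
  have hQPH : QH ≤ (PH : Subgroup H) := by
    intro q hq
    exact Subgroup.mem_subgroupOf.mpr (hQP (Subgroup.mem_subgroupOf.mp hq))
  apply Helper64.hasNormalPComplement_of_quotient_frattini PH QH hQPH
  · intro q hq
    have hqQ : (q : G) ∈ Q := Subgroup.mem_subgroupOf.mp hq
    obtain ⟨f, hf, hfq⟩ := h2 hqQ
    let e := Subgroup.subgroupOfEquivOfLe hPH
    have h3 := frattini_le_comap_frattini_of_surjective (φ := e.symm.toMonoidHom)
      e.symm.surjective hf
    rw [Subgroup.mem_comap] at h3
    have h4 : (⟨q, hQPH hq⟩ : ((P : Subgroup G).subgroupOf H)) = e.symm.toMonoidHom f := by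
      apply Subtype.ext
      apply Subtype.ext
      simp [e, ← hfq]
    change (⟨q, hQPH hq⟩ : ((P : Subgroup G).subgroupOf H)) ∈
      frattini ↥((P : Subgroup G).subgroupOf H)
    rw [h4]
    exact h3
  · apply Helper64.hasNormalPComplement_quotient_of_inner PH QH hQPH
    · intro r hr x hx
      refine Subgroup.mem_subgroupOf.mpr ?_
      have := hcomm r (Subgroup.mem_subgroupOf.mp hr) x (Subgroup.mem_subgroupOf.mp hx)
      simpa using this
    · intro n hn x hx
      have hn' : (n : G) ∈ normalizer ((P : Subgroup G) : Set G) := by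
        rw [mem_normalizer_iff] at hn ⊢
        intro y
        constructor
        · intro hy
          have := (hn ⟨y, hPH hy⟩).mp (Subgroup.mem_subgroupOf.mpr hy)
          simpa using Subgroup.mem_subgroupOf.mp this
        · intro hy
          have hyH : y ∈ H := by
            have := mul_mem (mul_mem (inv_mem n.2) (hPH hy)) n.2
            simpa [mul_assoc] using this
          have := (hn ⟨y, hyH⟩).mpr (Subgroup.mem_subgroupOf.mpr (by simpa using hy))
          exact Subgroup.mem_subgroupOf.mp this
      obtain ⟨r, hr, hnr⟩ := Helper64.conj_eq_conj_of_hasNormalPComplement_normalizer P hN hn'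
        (Subgroup.mem_subgroupOf.mp hx)
      refine ⟨⟨r, hPH hr⟩, Subgroup.mem_subgroupOf.mpr hr, ?_⟩
      apply Subtype.ext
      simpa using hnr

end Cfsg.Agent.S3838
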