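import Cfsg.Statements.S3839
import Cfsg.Agent.Helper78.PNilpotent
import Cfsg.Agent.Helper64.Basic

set_option autoImplicit false

namespace Cfsg.Agent.S3839

open Subgroup Cfsg.Agent.Helper64

variable {G : Type*} [Group G]

/-- `a u a⁻¹ = u` for `a` centralizing `U ∋ u`. -/
theorem conj_eq_of_mem_centralizer {U : Subgroup G} {a u : G} (ha : a ∈ centralizer (U : Set G))
    (hu : u ∈ U) : a * u * a⁻¹ = u := by
  have := mem_centralizer_iff.mp ha u hu
  rw [← this, mul_inv_cancel_right]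

/-- The stabiliser in `N_G(Q)` of the chain `1 ≤ U ≤ Q`. -/
def chainStab (Q U : Subgroup G) : Subgroup G where
  carrier := {n | n ∈ normalizer (Q : Set G) ∧ n ∈ centralizer (U : Set G) ∧
    ∀ x ∈ Q, n * x * n⁻¹ * x⁻¹ ∈ U}
  one_mem' := ⟨one_mem _, one_mem _, fun x _ => by simp⟩
  mul_mem' := by
    rintro a b ⟨ha1, ha2, ha3⟩ ⟨hb1, hb2, hb3⟩
    refine ⟨mul_mem ha1 hb1, mul_mem ha2 hb2, fun x hx => ?_⟩
    have h1 : b * x * b⁻¹ * x⁻¹ ∈ U := hb3 x hx
    have h2 : a * (b * x * b⁻¹ * x⁻¹) * a⁻¹ = b * x * b⁻¹ * x⁻¹ :=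
      conj_eq_of_mem_centralizer ha2 h1
    have h3 : a * b * x * (a * b)⁻¹ * x⁻¹ =
        (a * (b * x * b⁻¹ * x⁻¹) * a⁻¹) * (a * x * a⁻¹ * x⁻¹) := by group
    rw [h3, h2]
    exact mul_mem h1 (ha3 x hx)
  inv_mem' := by
    rintro a ⟨ha1, ha2, ha3⟩
    refine ⟨inv_mem ha1, inv_mem ha2, fun x hx => ?_⟩
    have hx' : a⁻¹ * x * a ∈ Q := by
      have := (mem_normalizer_iff.mp (inv_mem ha1) x).mp hx
      simpa using this
    have h1 := ha3 _ hx'
    have h3 : a⁻¹ * x * a⁻¹⁻¹ * x⁻¹ = (a * (a⁻¹ * x * a) * a⁻¹ * (a⁻¹ * x * a)⁻¹)⁻¹ := by group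
    rw [h3]
    exact inv_mem h1

theorem mem_chainStab {Q U : Subgroup G} {n : G} : n ∈ chainStab Q U ↔
    n ∈ normalizer (Q : Set G) ∧ n ∈ centralizer (U : Set G) ∧ ∀ x ∈ Q, n * x * n⁻¹ * x⁻¹ ∈ U :=
  Iff.rfl

theorem chainStab_le_normalizer (Q U : Subgroup G) : chainStab Q U ≤ normalizer (Q : Set G) :=
  fun _ h => h.1

theorem centralizer_le_chainStab {Q U : Subgroup G} (hUQ : U ≤ Q) :
    centralizer (Q : Set G) ≤ chainStab Q U := by
  intro c hc
  refine ⟨?_, centralizer_le (by exact_mod_cast hUQ) hc, fun x hx => ?_⟩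
  · rw [mem_normalizer_iff]
    intro h
    constructor
    · intro hh
      rwa [conj_eq_of_mem_centralizer hc hh]
    · intro hh
      have h1 : c⁻¹ * (c * h * c⁻¹) * c⁻¹⁻¹ = c * h * c⁻¹ :=
        conj_eq_of_mem_centralizer (inv_mem hc) hh
      have h2 : c⁻¹ * (c * h * c⁻¹) * c⁻¹⁻¹ = h := by group
      rw [h2] at h1
      rw [h1]; exact hh
  · rw [conj_eq_of_mem_centralizer hc hx, mul_inv_cancel]
    exact one_mem _

/-- The chain stabiliser acts on `Q` as a group of exponent dividing `|U|`. -/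
theorem chainStab_pow_mem_centralizer [Finite G] (Q U : Subgroup G) {y : G}
    (hy : y ∈ chainStab Q U) : y ^ Nat.card U ∈ centralizer (Q : Set G) := by
  obtain ⟨_, hy2, hy3⟩ := hy
  rw [mem_centralizer_iff]
  intro v hv
  have hrU : y * v * y⁻¹ * v⁻¹ ∈ U := hy3 v hv
  set r := y * v * y⁻¹ * v⁻¹ with hr
  have hpow : ∀ j : ℕ, y ^ j * v * (y ^ j)⁻¹ = r ^ j * v := by
    intro j
    induction j with
    | zero => simp
    | succ j ih =>
      have hrj : y * r ^ j * y⁻¹ = r ^ j := conj_eq_of_mem_centralizer hy2 (pow_mem hrU j)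
      calc y ^ (j + 1) * v * (y ^ (j + 1))⁻¹
          = y * (y ^ j * v * (y ^ j)⁻¹) * y⁻¹ := by rw [pow_succ']; group
        _ = y * (r ^ j * v) * y⁻¹ := by rw [ih]
        _ = (y * r ^ j * y⁻¹) * (y * v * y⁻¹ * v⁻¹) * v := by group
        _ = r ^ j * r * v := by rw [hrj]
        _ = r ^ (j + 1) * v := by rw [pow_succ]
  have h1 := hpow (Nat.card U)
  have h2 : r ^ Nat.card U = 1 := by
    have := pow_card_eq_one' (G := U) (x := ⟨r, hrU⟩)
    exact congrArg Subtype.val this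
  rw [h2, one_mul] at h1
  calc v * y ^ Nat.card U = (y ^ Nat.card U * v * (y ^ Nat.card U)⁻¹) * y ^ Nat.card U := by
        rw [h1]
    _ = y ^ Nat.card U * v := by group

/-- `N_G(Q) ∩ N_G(U)` normalizes the chain stabiliser. -/
theorem conj_mem_chainStab {Q U : Subgroup G} {n y : G} (hnQ : n ∈ normalizer (Q : Set G))
    (hnU : n ∈ normalizer (U : Set G)) (hy : y ∈ chainStab Q U) : n * y * n⁻¹ ∈ chainStab Q U := by
  obtain ⟨hy1, hy2, hy3⟩ := hy
  refine ⟨mul_mem (mul_mem hnQ hy1) (inv_mem hnQ), ?_, fun x hx => ?_⟩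
  · rw [mem_centralizer_iff]
    intro u hu
    have hu' : n⁻¹ * u * n ∈ U := by
      have := (mem_normalizer_iff.mp (inv_mem hnU) u).mp hu
      simpa using this
    have h1 : y * (n⁻¹ * u * n) * y⁻¹ = n⁻¹ * u * n := conj_eq_of_mem_centralizer hy2 hu'
    calc u * (n * y * n⁻¹) = n * ((n⁻¹ * u * n) * y) * n⁻¹ := by group
      _ = n * ((y * (n⁻¹ * u * n) * y⁻¹) * y) * n⁻¹ := by rw [h1]
      _ = n * y * n⁻¹ * u := by group
  · have hx' : n⁻¹ * x * n ∈ Q := by
      have := (mem_normalizer_iff.mp (inv_mem hnQ) x).mp hx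
      simpa using this
    have h1 := hy3 _ hx'
    have h2 := (mem_normalizer_iff.mp hnU _).mp h1
    have h3 : n * y * n⁻¹ * x * (n * y * n⁻¹)⁻¹ * x⁻¹ =
        n * (y * (n⁻¹ * x * n) * y⁻¹ * (n⁻¹ * x * n)⁻¹) * n⁻¹ := by group
    rw [h3]; exact h2

theorem le_normalizer_chainStab {Q U : Subgroup G} :
    normalizer (Q : Set G) ⊓ normalizer (U : Set G) ≤ normalizer (chainStab Q U : Set G) := by
  rintro n ⟨hnQ, hnU⟩
  rw [mem_normalizer_iff]
  intro y
  constructor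
  · exact conj_mem_chainStab hnQ hnU
  · intro h
    have := conj_mem_chainStab (inv_mem hnQ) (inv_mem hnU) h
    have h2 : n⁻¹ * (n * y * n⁻¹) * n⁻¹⁻¹ = y := by group
    rwa [h2] at this


/-- `N_G(Q)/C_G(Q)` is a `p`-group. -/
def PAut (p : ℕ) (Q : Subgroup G) : Prop :=
  ∀ g ∈ normalizer (Q : Set G), ∃ k : ℕ, g ^ (p ^ k) ∈ centralizer (Q : Set G)

theorem PAut.of_map_conj {p : ℕ} {Q : Subgroup G} (x : G)
    (h : PAut p (Q.map (MulAut.conj x).toMonoidHom)) : PAut p Q := by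
  intro g hg
  set f : G ≃* G := MulAut.conj x with hf
  have hy : f g ∈ normalizer ((Q.map f.toMonoidHom : Subgroup G) : Set G) := by
    rw [← Subgroup.map_equiv_normalizer_eq]
    exact ⟨g, hg, rfl⟩
  obtain ⟨k, hk⟩ := h (f g) hy
  refine ⟨k, ?_⟩
  rw [mem_centralizer_iff] at hk ⊢
  intro q hq
  have := hk (f q) ⟨q, hq, rfl⟩
  rw [← map_pow, ← map_mul, ← map_mul] at this
  exact f.injective this

/-- A strongly closed subgroup of `S` is normalized by `S`. -/
theorem conj_mem_of_isStronglyClosed {D S : Subgroup G} (hD : Cfsg.IsStronglyClosed D S)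
    {s d : G} (hs : s ∈ S) (hd : d ∈ D) : s * d * s⁻¹ ∈ D :=
  hD.2 d hd s (mul_mem (mul_mem hs (hD.1 hd)) (inv_mem hs))

/-- `N_G(Q) ≤ N_G(Q ∩ D)` for `Q ≤ S` and `D` strongly closed in `S`. -/
theorem normalizer_le_normalizer_inf {D S : Subgroup G} (hD : Cfsg.IsStronglyClosed D S)
    {Q : Subgroup G} (hQS : Q ≤ S) :
    normalizer (Q : Set G) ≤ normalizer ((Q ⊓ D : Subgroup G) : Set G) := by
  intro n hn
  rw [mem_normalizer_iff]
  intro h
  constructor
  · rintro ⟨hhQ, hhD⟩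
    have h1 : n * h * n⁻¹ ∈ Q := (mem_normalizer_iff.mp hn h).mp hhQ
    exact ⟨h1, hD.2 h hhD n (hQS h1)⟩
  · rintro ⟨h1, h2⟩
    have hhQ : h ∈ Q := (mem_normalizer_iff.mp hn h).mpr h1
    refine ⟨hhQ, ?_⟩
    have := hD.2 _ h2 n⁻¹
    have h3 : n⁻¹ * (n * h * n⁻¹) * n⁻¹⁻¹ = h := by group
    rw [h3] at this
    exact this (hQS hhQ)

/-- Case 1: `N_G(Q ∩ D)` has a normal `p`-complement. -/
theorem pAut_of_hasNormalPComplement [Finite G] {p : ℕ} [Fact p.Prime] {D S : Subgroup G}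
    (hS : IsPGroup p S) (hD : Cfsg.IsStronglyClosed D S) {Q : Subgroup G} (hQS : Q ≤ S)
    (hN : Cfsg.HasNormalPComplement p ↥(normalizer ((Q ⊓ D : Subgroup G) : Set G))) :
    PAut p Q := by
  intro g hg
  have hF := Helper78.hasNormalPComplement_iff_frobHyp.mp hN
  have hle := normalizer_le_normalizer_inf hD hQS
  set K := normalizer ((Q ⊓ D : Subgroup G) : Set G) with hK
  have hQK : Q ≤ K := le_normalizer.trans hle
  have hQp : IsPGroup p (Q.subgroupOf K) := (hS.to_le hQS).comap_subtype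
  have hn : (⟨g, hle hg⟩ : K) ∈ normalizer ((Q.subgroupOf K : Subgroup K) : Set K) := by
    rw [mem_normalizer_iff]
    intro y
    rw [Subgroup.mem_subgroupOf, Subgroup.mem_subgroupOf]
    exact mem_normalizer_iff.mp hg y
  obtain ⟨k, hk⟩ := hF.pow_mem_centralizer _ hQp hn
  refine ⟨k, ?_⟩
  rw [mem_centralizer_iff] at hk ⊢
  intro q hq
  have := hk ⟨q, hQK hq⟩ (Subgroup.mem_subgroupOf.mpr hq)
  exact congrArg Subtype.val this


theorem conj_mem_inf_centralizer {D S : Subgroup G} (hD : Cfsg.IsStronglyClosed D S)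
    {Q : Subgroup G} (hQS : Q ≤ S) {q h : G} (hq : q ∈ Q)
    (hh : h ∈ D ⊓ centralizer ((Q ⊓ D : Subgroup G) : Set G)) :
    q * h * q⁻¹ ∈ D ⊓ centralizer ((Q ⊓ D : Subgroup G) : Set G) := by
  obtain ⟨hhD, hhC⟩ := Subgroup.mem_inf.mp hh
  refine Subgroup.mem_inf.mpr ⟨conj_mem_of_isStronglyClosed hD (hQS hq) hhD, ?_⟩
  rw [mem_centralizer_iff]
  intro u hu
  have hu0 := Subgroup.mem_inf.mp hu
  have hu' : q⁻¹ * u * q ∈ Q ⊓ D := by
    refine Subgroup.mem_inf.mpr ⟨mul_mem (mul_mem (inv_mem hq) hu0.1) hq, ?_⟩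
    have := conj_mem_of_isStronglyClosed hD (inv_mem (hQS hq)) hu0.2
    simpa using this
  have h1 : h * (q⁻¹ * u * q) * h⁻¹ = q⁻¹ * u * q := conj_eq_of_mem_centralizer hhC hu'
  calc u * (q * h * q⁻¹) = q * ((q⁻¹ * u * q) * h) * q⁻¹ := by group
    _ = q * ((h * (q⁻¹ * u * q) * h⁻¹) * h) * q⁻¹ := by rw [h1]
    _ = q * h * q⁻¹ * u := by group

/-- Case 2 preparation: an element of `C_D(Q ∩ D)` normalizing `Q` but outside `Q`. -/
theorem exists_mem_not_mem [Finite G] {p : ℕ} [Fact p.Prime] {D S : Subgroup G}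
    (hS : IsPGroup p S) (hD : Cfsg.IsStronglyClosed D S) {Q : Subgroup G} (hQS : Q ≤ S)
    (hnot : ¬ D ⊓ centralizer ((Q ⊓ D : Subgroup G) : Set G) ≤ Q ⊓ D) :
    ∃ w ∈ D ⊓ centralizer ((Q ⊓ D : Subgroup G) : Set G),
      w ∈ normalizer (Q : Set G) ∧ w ∉ Q := by
  set W := D ⊓ centralizer ((Q ⊓ D : Subgroup G) : Set G) with hW
  have hWQ : ¬ W ≤ Q := fun h => hnot (le_inf h inf_le_left)
  have hQW : Q ≤ normalizer (W : Set G) := by
    intro q hq
    rw [mem_normalizer_iff]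
    intro h
    constructor
    · exact conj_mem_inf_centralizer hD hQS hq
    · intro hh
      have := conj_mem_inf_centralizer hD hQS (inv_mem hq) hh
      have h2 : q⁻¹ * (q * h * q⁻¹) * q⁻¹⁻¹ = h := by group
      rwa [h2] at this
  have hlt : Q < Q ⊔ W := lt_of_le_of_ne le_sup_left (fun h => hWQ (h ▸ le_sup_right))
  have hp : IsPGroup p (Q ⊔ W : Subgroup G) := hS.to_le (sup_le hQS (inf_le_left.trans hD.1))
  obtain ⟨s, hs, hsQ, hsN⟩ := Helper78.exists_mem_normalizer_not_mem _ hp Q hlt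
  have hs' : s ∈ ((Q ⊔ W : Subgroup G) : Set G) := hs
  rw [coe_mul_of_left_le_normalizer_right Q W hQW] at hs'
  obtain ⟨q, hq, w, hw, rfl⟩ := hs'
  refine ⟨w, hw, ?_, ?_⟩
  · have := mul_mem (inv_mem (le_normalizer hq)) hsN
    simpa using this
  · intro hwQ
    exact hsQ (mul_mem hq hwQ)


theorem conj_mem_sup {H K : Subgroup G} {a : G} (hH : a ∈ normalizer (H : Set G))
    (hK : a ∈ normalizer (K : Set G)) {x : G} (hx : x ∈ H ⊔ K) : a * x * a⁻¹ ∈ H ⊔ K := by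
  have h1 : (H ⊔ K).map (MulAut.conj a).toMonoidHom ≤ H ⊔ K := by
    rw [Subgroup.map_sup]
    apply sup_le_sup
    · rintro _ ⟨h, hh, rfl⟩
      exact (mem_normalizer_iff.mp hH h).mp hh
    · rintro _ ⟨h, hh, rfl⟩
      exact (mem_normalizer_iff.mp hK h).mp hh
  exact h1 ⟨x, hx, rfl⟩

theorem mem_normalizer_sup {H K : Subgroup G} {a : G} (hH : a ∈ normalizer (H : Set G))
    (hK : a ∈ normalizer (K : Set G)) : a ∈ normalizer ((H ⊔ K : Subgroup G) : Set G) := by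
  rw [mem_normalizer_iff]
  intro x
  constructor
  · exact conj_mem_sup hH hK
  · intro h
    have := conj_mem_sup (inv_mem hH) (inv_mem hK) h
    have h2 : a⁻¹ * (a * x * a⁻¹) * a⁻¹⁻¹ = x := by group
    rwa [h2] at this


/-- Case 2: `C_D(Q ∩ D) ≰ Q ∩ D`; enlarge `Q` by a Frattini argument. -/
theorem pAut_case2 [Finite G] {p : ℕ} [Fact p.Prime] (S : Sylow p G) {D : Subgroup G}
    (hD : Cfsg.IsStronglyClosed D (S : Subgroup G)) {Q : Subgroup G} (hQS : Q ≤ (S : Subgroup G))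
    (hnot : ¬ D ⊓ centralizer ((Q ⊓ D : Subgroup G) : Set G) ≤ Q ⊓ D)
    (ih : ∀ Q' : Subgroup G, Q' ≤ (S : Subgroup G) →
      Nat.card (Q ⊓ D : Subgroup G) < Nat.card (Q' ⊓ D : Subgroup G) → PAut p Q') :
    PAut p Q := by
  obtain ⟨w, hwW, hwN, hwQ⟩ := exists_mem_not_mem S.2 hD hQS hnot
  have hwD : w ∈ D := (Subgroup.mem_inf.mp hwW).1
  have hwC : w ∈ centralizer ((Q ⊓ D : Subgroup G) : Set G) := (Subgroup.mem_inf.mp hwW).2
  set U := Q ⊓ D with hU
  set N := normalizer (Q : Set G) with hN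
  set Y := chainStab Q U with hY
  have hYN : Y ≤ N := chainStab_le_normalizer Q U
  have hNU : N ≤ normalizer (U : Set G) := normalizer_le_normalizer_inf hD hQS
  have hNY : N ≤ normalizer (Y : Set G) := fun n hn => le_normalizer_chainStab ⟨hn, hNU hn⟩
  have hwY : w ∈ Y := by
    refine ⟨hwN, hwC, fun x hx => ?_⟩
    refine Subgroup.mem_inf.mpr
      ⟨mul_mem ((mem_normalizer_iff.mp hwN x).mp hx) (inv_mem hx), ?_⟩
    have h1 : x * w⁻¹ * x⁻¹ ∈ D := conj_mem_of_isStronglyClosed hD (hQS hx) (inv_mem hwD)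
    have h2 : w * x * w⁻¹ * x⁻¹ = w * (x * w⁻¹ * x⁻¹) := by group
    rw [h2]; exact mul_mem hwD h1
  have : (Y.subgroupOf N).Normal := normal_subgroupOf_of_le_normalizer hNY
  have hQw : Q ⊔ zpowers w ≤ (S : Subgroup G) := sup_le hQS ((zpowers_le).mpr (hD.1 hwD))
  have hQwp : IsPGroup p ((Q ⊔ zpowers w).subgroupOf N) := (S.2.to_le hQw).comap_subtype
  obtain ⟨R, hR⟩ := hQwp.exists_le_sylow
  have hfr := normalizer_inf_sup_eq_top R (Y.subgroupOf N)
  set P := ((R : Subgroup N) ⊓ Y.subgroupOf N).map N.subtype with hP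
  set Q₁ := Q ⊔ P with hQ₁
  have hQR : Q ≤ (R : Subgroup N).map N.subtype := by
    intro q hq
    exact ⟨⟨q, le_normalizer hq⟩, hR (Subgroup.mem_subgroupOf.mpr (mem_sup_left hq)), rfl⟩
  have hPR : P ≤ (R : Subgroup N).map N.subtype := Subgroup.map_mono inf_le_left
  have hQ₁p : IsPGroup p Q₁ := (R.2.map N.subtype).to_le (sup_le hQR hPR)
  have hwP : w ∈ P := by
    refine ⟨⟨w, hwN⟩, Subgroup.mem_inf.mpr
      ⟨hR (Subgroup.mem_subgroupOf.mpr (mem_sup_right (mem_zpowers w))),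
        Subgroup.mem_subgroupOf.mpr hwY⟩, rfl⟩
  have hwQ₁ : w ∈ Q₁ := mem_sup_right hwP
  obtain ⟨x, hx⟩ := exists_le_map_conj_of_not_dvd_index Q₁ hQ₁p (S : Subgroup G) S.not_dvd_index
  set Q' := Q₁.map (MulAut.conj x⁻¹).toMonoidHom with hQ'
  have hQ'S : Q' ≤ (S : Subgroup G) := by
    rintro _ ⟨y, hy, rfl⟩
    have := (mem_map_conj _ _ _).mp (hx hy)
    simpa [MulAut.conj_apply] using this
  have hUw : U ⊔ zpowers w ≤ Q₁ :=
    sup_le (inf_le_left.trans le_sup_left) ((zpowers_le).mpr hwQ₁)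
  have hmeas : Nat.card U < Nat.card (Q' ⊓ D : Subgroup G) := by
    have h1 : (U ⊔ zpowers w).map (MulAut.conj x⁻¹).toMonoidHom ≤ Q' ⊓ D := by
      apply le_inf
      · exact Subgroup.map_mono hUw
      · rintro _ ⟨y, hy, rfl⟩
        have hyD : y ∈ D := (sup_le inf_le_right ((zpowers_le).mpr hwD) : U ⊔ zpowers w ≤ D) hy
        have hyS : (MulAut.conj x⁻¹) y ∈ (S : Subgroup G) := hQ'S ⟨y, hUw hy, rfl⟩
        exact hD.2 y hyD x⁻¹ hyS
    have h2 : Nat.card ((U ⊔ zpowers w).map (MulAut.conj x⁻¹).toMonoidHom) =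
        Nat.card (U ⊔ zpowers w : Subgroup G) :=
      Subgroup.card_map_of_injective (MulAut.conj x⁻¹).injective
    have h3 : Nat.card U < Nat.card (U ⊔ zpowers w : Subgroup G) := by
      by_contra hcon
      push Not at hcon
      have := Subgroup.eq_of_le_of_card_ge (le_sup_left : U ≤ U ⊔ zpowers w) hcon
      have hw' : w ∈ U := this ▸ (mem_sup_right (mem_zpowers w))
      exact hwQ (Subgroup.mem_inf.mp hw').1
    calc Nat.card U < Nat.card (U ⊔ zpowers w : Subgroup G) := h3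
      _ = Nat.card ((U ⊔ zpowers w).map (MulAut.conj x⁻¹).toMonoidHom) := h2.symm
      _ ≤ Nat.card (Q' ⊓ D : Subgroup G) := Subgroup.card_le_of_le h1
  have hPA' : PAut p Q' := ih Q' hQ'S hmeas
  have hPA₁ : PAut p Q₁ := PAut.of_map_conj x⁻¹ hPA'
  intro g hg
  have hgtop : (⟨g, hg⟩ : N) ∈ (⊤ : Subgroup N) := mem_top _
  rw [← hfr] at hgtop
  obtain ⟨a, ha, t, ht, hat⟩ := Subgroup.mem_sup_of_normal_right.mp hgtop
  have haP : (a : G) ∈ normalizer (P : Set G) :=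
    Subgroup.le_normalizer_map N.subtype ⟨a, ha, rfl⟩
  have haQ₁ : (a : G) ∈ normalizer (Q₁ : Set G) := mem_normalizer_sup a.2 haP
  obtain ⟨k, hk⟩ := hPA₁ a haQ₁
  have hkQ : (a : G) ^ (p ^ k) ∈ centralizer (Q : Set G) :=
    centralizer_le (by exact_mod_cast (le_sup_left : Q ≤ Q₁)) hk
  have hkY : (a : G) ^ (p ^ k) ∈ Y := centralizer_le_chainStab inf_le_left hkQ
  have hgY : g ^ (p ^ k) ∈ Y := by
    have h1 : (QuotientGroup.mk (⟨g, hg⟩ : N) : N ⧸ Y.subgroupOf N) = QuotientGroup.mk a := by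
      rw [← hat, QuotientGroup.mk_mul, (QuotientGroup.eq_one_iff t).mpr ht, mul_one]
    have h2 : (QuotientGroup.mk ((⟨g, hg⟩ : N) ^ (p ^ k)) : N ⧸ Y.subgroupOf N) = 1 := by
      rw [QuotientGroup.mk_pow, h1, ← QuotientGroup.mk_pow, QuotientGroup.eq_one_iff]
      exact Subgroup.mem_subgroupOf.mpr (by simpa using hkY)
    rw [QuotientGroup.eq_one_iff] at h2
    have := Subgroup.mem_subgroupOf.mp h2
    simpa using this
  have hfin := chainStab_pow_mem_centralizer Q U hgY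
  obtain ⟨e, he⟩ := IsPGroup.iff_card.mp (S.2.to_le (inf_le_left.trans hQS : U ≤ S))
  refine ⟨k + e, ?_⟩
  rw [pow_add, pow_mul, ← he]
  exact hfin


theorem pAut_of_le [Finite G] {p : ℕ} [Fact p.Prime] (S : Sylow p G) {D : Subgroup G}
    (hD : Cfsg.IsStronglyClosed D (S : Subgroup G))
    (hH : ∀ U : Subgroup G, U ≤ D → D ⊓ centralizer (U : Set G) ≤ U →
      Cfsg.HasNormalPComplement p ↥(normalizer (U : Set G))) :
    ∀ m : ℕ, ∀ Q : Subgroup G, Q ≤ (S : Subgroup G) →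
      Nat.card D ≤ m + Nat.card (Q ⊓ D : Subgroup G) → PAut p Q := by
  intro m
  induction m with
  | zero =>
    intro Q hQS hm
    have hQD : Q ⊓ D = D := Subgroup.eq_of_le_of_card_ge inf_le_right (by simpa using hm)
    apply pAut_of_hasNormalPComplement S.2 hD hQS
    apply hH _ inf_le_right
    rw [hQD]; exact inf_le_left
  | succ m ih =>
    intro Q hQS hm
    by_cases hc : D ⊓ centralizer ((Q ⊓ D : Subgroup G) : Set G) ≤ Q ⊓ D
    · exact pAut_of_hasNormalPComplement S.2 hD hQS (hH _ inf_le_right hc)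
    · apply pAut_case2 S hD hQS hc
      intro Q' hQ'S hlt
      apply ih Q' hQ'S
      omega

/-- A Frobenius normal p-complement criterion relative to a strongly closed subgroup. Let G be a finite group, S a Sylow p-subgroup and D a subgroup of S strongly closed in S with respect to G. Then G has a normal p-complement if and only if N_G(U) has a normal p-complement for every subgroup U of D with C_D(U) ≤ U. -/
theorem result {G : Type*} [Group G] [Finite G] {p : ℕ} [Fact p.Prime] (S : Sylow p G) (D : Subgroup G) (hD : Cfsg.IsStronglyClosed D (S : Subgroup G)) : Cfsg.HasNormalPComplement p G ↔ ∀ U : Subgroup G, U ≤ D → D ⊓ Subgroup.centralizer (U : Set G) ≤ U → Cfsg.HasNormalPComplement p ↥(Subgroup.normalizer (U : Set G)) := by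
  constructor
  · intro h U _ _
    exact Helper78.hasNormalPComplement_subgroup h _
  · intro hH
    rw [Helper78.hasNormalPComplement_iff_frobHyp]
    apply Helper78.FrobHyp.of_sylow S
    intro Q hQS g hg hcop
    obtain ⟨k, hk⟩ := pAut_of_le S hD hH (Nat.card D) Q hQS (Nat.le_add_right _ _) g hg
    obtain ⟨m, hm⟩ := exists_pow_eq_self_of_coprime (x := g) (n := p ^ k)
      (Nat.Coprime.pow_left k hcop.symm)
    rw [← hm]
    exact pow_mem hk m

end Cfsg.Agent.S3839
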