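import Cfsg.Statements.S3857
import Cfsg.Agent.Helper57.PGMain

set_option autoImplicit false
open Cfsg

namespace Cfsg.Agent.S3857

open Cfsg.Agent.Helper57.PG

/-- A finite solvable group whose prime graph (prime divisors of the order, two distinct primes joined when there is an element of order their product) is disconnected is a Frobenius group or a 2-Frobenius group (it has normal subgroups H < K with K a Frobenius group with kernel H and G/H a Frobenius group with kernel K/H). -/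
theorem result {G : Type*} [Group G] [Finite G] (hsol : Group.IsSolvable G)
    (hdisc : (∃ A : Set ℕ, (∃ a ∈ A, a.Prime ∧ a ∣ Nat.card G) ∧ (∃ b ∉ A, b.Prime ∧ b ∣ Nat.card G) ∧
      ∀ a ∈ A, ∀ b ∉ A, a.Prime → b.Prime → a ∣ Nat.card G → b ∣ Nat.card G → ¬ ∃ g : G, orderOf g = a * b)) :
    (∃ C : Subgroup G, Cfsg.IsFrobeniusComplement C) ∨
    (∃ (H K : Subgroup G) (_ : H.Normal), K.Normal ∧ H < K ∧
      (∃ C : Subgroup ↥K, Cfsg.IsFrobeniusComplement C ∧ Cfsg.frobeniusKernel C = (H.subgroupOf K : Set ↥K)) ∧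
      (∃ C : Subgroup (G ⧸ H), Cfsg.IsFrobeniusComplement C ∧ Cfsg.frobeniusKernel C = (K.map (QuotientGroup.mk' H) : Set (G ⧸ H)))) := by
  obtain ⟨A, ⟨a, haA, ha, haG⟩, ⟨b, hbA, hb, hbG⟩, hno⟩ := hdisc
  have hne : NoEdge A G := by
    rintro a' ha' b' hb' hap hbp ⟨g, hg⟩
    have h1 : a' * b' ∣ Nat.card G := hg ▸ orderOf_dvd_natCard g
    exact hno a' ha' b' hb' hap hbp ((Dvd.intro _ rfl).trans h1) ((Dvd.intro_left _ rfl).trans h1)
      ⟨g, hg⟩
  have hnt : Nontrivial G := by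
    rw [← Finite.one_lt_card_iff_nontrivial]
    have := Nat.le_of_dvd Nat.card_pos haG
    have := ha.two_le
    omega
  obtain ⟨p, N₀, hp, hN₀n, hN₀, hN₀p⟩ :=
    Cfsg.Agent.Helper70.exists_normal_pGroup_of_isSolvable (G := G) hnt
  have hfp : Fact p.Prime := ⟨hp⟩
  obtain ⟨j, hj⟩ := IsPGroup.iff_card.mp hN₀p
  by_cases hpA : p ∈ A
  · exact frobenius_or_two_frobenius hne N₀ hN₀n hN₀ (hj ▸ IsPi.pow_prime hp hpA j) hb hbA hbG
  · exact frobenius_or_two_frobenius hne.compl N₀ hN₀n hN₀ (hj ▸ IsPi.pow_prime hp hpA j) ha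
      (fun h => h haA) haG

end Cfsg.Agent.S3857
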