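import Cfsg.Statements.S3858
import Cfsg.Agent.Helper64.Basic

set_option autoImplicit false
open Cfsg

namespace Cfsg.Agent.S3858

open Cfsg.Agent.Helper64 in
theorem result {G : Type*} [Group G] [Finite G] (T : Subgroup G) [T.Normal] (hT : IsSimpleGroup T) (hna : ¬ IsMulCommutative T)
    (hC : Subgroup.centralizer (T : Set G) = ⊥) {r : ℕ} [Fact r.Prime] (R : Sylow r G) (hR0 : (R : Subgroup G) ⊓ T ≠ ⊥) :
    (∃! M : Subgroup G, IsCoatom M ∧ (R : Subgroup G) ≤ M) ↔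
      ((∃ M : Subgroup G, IsCoatom M ∧ ¬ r ∣ M.index) ∧
        ∀ M₁ M₂ : Subgroup G, IsCoatom M₁ → ¬ r ∣ M₁.index → IsCoatom M₂ → ¬ r ∣ M₂.index → ∃ g : G, M₂ = M₁.map (MulAut.conj g).toMonoidHom) := by
  have hidx : ∀ M : Subgroup G, (R : Subgroup G) ≤ M → ¬ r ∣ M.index := by
    intro M hRM h
    exact R.not_dvd_index (dvd_trans h (Subgroup.index_dvd_of_le hRM))
  constructor
  · rintro ⟨M, ⟨hMco, hRM⟩, hMuniq⟩
    refine ⟨⟨M, hMco, hidx M hRM⟩, ?_⟩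
    have key : ∀ M₁ : Subgroup G, IsCoatom M₁ → ¬ r ∣ M₁.index → ∃ g : G, M₁.map (MulAut.conj g).toMonoidHom = M := by
      intro M₁ h1 h2
      obtain ⟨g, hg⟩ := exists_le_map_conj_of_not_dvd_index (R : Subgroup G) R.2 M₁ h2
      exact ⟨g, hMuniq _ ⟨isCoatom_map_conj M₁ h1 g, hg⟩⟩
    intro M₁ M₂ h1 h1' h2 h2'
    obtain ⟨g₁, hg₁⟩ := key M₁ h1 h1'
    obtain ⟨g₂, hg₂⟩ := key M₂ h2 h2'
    refine ⟨g₂⁻¹ * g₁, ?_⟩
    ext x
    rw [mem_map_conj]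
    have e1 : x ∈ M₂ ↔ g₂ * x * g₂⁻¹ ∈ M := by
      rw [← hg₂, mem_map_conj]
      simp [mul_assoc]
    have e2 : g₂ * x * g₂⁻¹ ∈ M ↔ g₁⁻¹ * (g₂ * x * g₂⁻¹) * g₁ ∈ M₁ := by
      rw [← hg₁, mem_map_conj]
    rw [e1, e2]
    simp [mul_assoc]
  · rintro ⟨⟨M₀, hM₀co, hM₀idx⟩, hconj⟩
    have hRn : ¬ (R : Subgroup G).Normal :=
      not_normal_of_isPGroup_of_inf_ne_bot T hT hna (R : Subgroup G) R.2 hR0
    have hNtop : Subgroup.normalizer ((R : Subgroup G) : Set G) ≠ ⊤ := by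
      intro h
      exact hRn (Subgroup.normalizer_eq_top_iff.mp h)
    obtain ⟨M, hMco, hNM⟩ := exists_coatom_ge _ hNtop
    have hRM : (R : Subgroup G) ≤ M := Subgroup.le_normalizer.trans hNM
    refine ⟨M, ⟨hMco, hRM⟩, ?_⟩
    rintro M' ⟨hM'co, hRM'⟩
    obtain ⟨g, hg⟩ := hconj M M' hMco (hidx M hRM) hM'co (hidx M' hRM')
    have hgM : g ∈ M := by
      apply mem_of_sylow_conj_le R M hNM g
      intro x hx
      have := hRM' hx
      rwa [hg, mem_map_conj] at this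
    rw [hg, map_conj_eq_self_of_mem M g hgM]

end Cfsg.Agent.S3858
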