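import Cfsg.Statements.S3859
import Cfsg.Agent.Helper64.Basic

set_option autoImplicit false
open Cfsg

namespace Cfsg.Agent.S3859

open Cfsg.Agent.Helper64 in
theorem result {G : Type*} [Group G] [Finite G] (T : Subgroup G) [T.Normal] (hT : IsSimpleGroup T) (hna : ¬ IsMulCommutative T)
    (hC : Subgroup.centralizer (T : Set G) = ⊥) {r : ℕ} [Fact r.Prime] (R : Sylow r G) (hR0 : (R : Subgroup G) ⊓ T ≠ ⊥)
    (huniq : ∃! M : Subgroup G, IsCoatom M ∧ (R : Subgroup G) ≤ M) : IsPGroup r (G ⧸ T) := by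
  obtain ⟨M, ⟨hMco, hRM⟩, hMuniq⟩ := huniq
  -- the normalizer of R ⊓ T
  set N := Subgroup.normalizer ((((R : Subgroup G) ⊓ T : Subgroup G)) : Set G) with hN
  have hRN : (R : Subgroup G) ≤ N := by
    intro x hx
    rw [hN, Subgroup.mem_normalizer_iff]
    intro y
    rw [Subgroup.mem_inf, Subgroup.mem_inf]
    constructor
    · rintro ⟨h1, h2⟩
      exact ⟨(R : Subgroup G).mul_mem ((R : Subgroup G).mul_mem hx h1) ((R : Subgroup G).inv_mem hx),
        Subgroup.Normal.conj_mem inferInstance y h2 x⟩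
    · rintro ⟨h1, h2⟩
      constructor
      · have := (R : Subgroup G).mul_mem ((R : Subgroup G).mul_mem ((R : Subgroup G).inv_mem hx) h1) hx
        simpa [mul_assoc] using this
      · have := Subgroup.Normal.conj_mem (inferInstance : T.Normal) _ h2 x⁻¹
        simpa [mul_assoc] using this
  have hNtop : N ≠ ⊤ := by
    intro h
    have hn : ((R : Subgroup G) ⊓ T).Normal := Subgroup.normalizer_eq_top_iff.mp h
    have hp : IsPGroup r ((R : Subgroup G) ⊓ T : Subgroup G) := R.2.to_le inf_le_left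
    refine not_normal_of_isPGroup_of_inf_ne_bot T hT hna _ hp ?_ hn
    rwa [inf_assoc, inf_idem]
  obtain ⟨M', hM'co, hNM'⟩ := exists_coatom_ge N hNtop
  have hM'M : M' = M := hMuniq M' ⟨hM'co, hRN.trans hNM'⟩
  rw [hM'M] at hNM'
  have hfrat : N ⊔ T = ⊤ := normalizer_inf_sup_eq_top R T
  have hTM : ¬ T ≤ M := by
    intro h
    have : (⊤ : Subgroup G) ≤ M := by rw [← hfrat]; exact sup_le hNM' h
    exact hMco.1 (top_le_iff.mp this)
  have hRT : (R : Subgroup G) ⊔ T = ⊤ := by
    by_contra h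
    obtain ⟨M'', hM''co, hle⟩ := exists_coatom_ge _ h
    have : M'' = M := hMuniq M'' ⟨hM''co, le_sup_left.trans hle⟩
    rw [this] at hle
    exact hTM (le_sup_right.trans hle)
  intro q
  obtain ⟨g, rfl⟩ := QuotientGroup.mk_surjective q
  have hg : g ∈ (R : Subgroup G) ⊔ T := by rw [hRT]; trivial
  have hmap : ((R : Subgroup G) ⊔ T).map (QuotientGroup.mk' T) = (R : Subgroup G).map (QuotientGroup.mk' T) := by
    rw [Subgroup.map_sup, QuotientGroup.map_mk'_self, sup_bot_eq]
  have hg' : (QuotientGroup.mk' T g) ∈ (R : Subgroup G).map (QuotientGroup.mk' T) := by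
    rw [← hmap]; exact Subgroup.mem_map_of_mem _ hg
  obtain ⟨x, hx, hxg⟩ := hg'
  obtain ⟨k, hk⟩ := R.2 ⟨x, hx⟩
  refine ⟨k, ?_⟩
  have hk' : x ^ r ^ k = 1 := by
    have := congrArg Subtype.val hk
    simpa using this
  change (QuotientGroup.mk' T g) ^ r ^ k = 1
  rw [← hxg, ← map_pow, hk', map_one]

end Cfsg.Agent.S3859
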