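import Mathlib
import Cfsg.Statements.S3861
import Cfsg.Agent.S0200

set_option autoImplicit false
open Cfsg
open scoped Pointwise

namespace Cfsg.Agent.S3861

/-- Lifting real elements of odd order through a normal 2-subgroup. -/
theorem lifting {G : Type*} [Group G] [Finite G] (N : Subgroup G) [N.Normal] (hN : IsPGroup 2 N)
    (tbar hbar : G ⧸ N) (hne : hbar ≠ 1) (hodd : Odd (orderOf hbar))
    (hinv : tbar * hbar * tbar⁻¹ = hbar⁻¹) :
    ∃ w : G, w ≠ 1 ∧ Odd (orderOf w) ∧ IsConj w w⁻¹ := by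
  classical
  set π := QuotientGroup.mk' N with hπ
  obtain ⟨t, ht⟩ := QuotientGroup.mk'_surjective N tbar
  obtain ⟨u, hu⟩ := QuotientGroup.mk'_surjective N hbar
  set A : Subgroup G := (Subgroup.zpowers hbar).comap π with hA
  have hinvz : ∀ z ∈ Subgroup.zpowers hbar, tbar * z * tbar⁻¹ = z⁻¹ := by
    rintro _ ⟨i, rfl⟩
    show tbar * hbar ^ i * tbar⁻¹ = (hbar ^ i)⁻¹
    rw [← conj_zpow, hinv, inv_zpow]
  have hinvz' : ∀ z ∈ Subgroup.zpowers hbar, tbar⁻¹ * z * tbar = z⁻¹ := by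
    intro z hz
    have h1 := hinvz z⁻¹ (Subgroup.inv_mem _ hz)
    rw [inv_inv] at h1
    calc tbar⁻¹ * z * tbar = tbar⁻¹ * (tbar * z⁻¹ * tbar⁻¹) * tbar := by rw [h1]
      _ = z⁻¹ := by group
  have htA : ∀ a ∈ A, t * a * t⁻¹ ∈ A := by
    intro a ha
    rw [hA, Subgroup.mem_comap] at ha ⊢
    rw [map_mul, map_mul, map_inv, ht, hinvz _ ha]
    exact Subgroup.inv_mem _ ha
  have htA' : ∀ a ∈ A, t⁻¹ * a * t ∈ A := by
    intro a ha
    rw [hA, Subgroup.mem_comap] at ha ⊢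
    rw [map_mul, map_mul, map_inv, ht, hinvz' _ ha]
    exact Subgroup.inv_mem _ ha
  let φ : MulAut ↥A :=
    { toFun := fun a => ⟨t * a * t⁻¹, htA a a.2⟩
      invFun := fun a => ⟨t⁻¹ * a * t, htA' a a.2⟩
      left_inv := fun a => by
        apply Subtype.ext
        show t⁻¹ * (t * (a : G) * t⁻¹) * t = a
        group
      right_inv := fun a => by
        apply Subtype.ext
        show t * (t⁻¹ * (a : G) * t) * t⁻¹ = a
        group
      map_mul' := fun a b => by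
        apply Subtype.ext
        show t * ((a : G) * (b : G)) * t⁻¹ = (t * (a : G) * t⁻¹) * (t * (b : G) * t⁻¹)
        group }
  have hord1 : orderOf hbar ≠ 1 := by
    rw [Ne, orderOf_eq_one_iff]; exact hne
  obtain ⟨q, hq, hqm⟩ := Nat.exists_prime_and_dvd hord1
  have hq2 : q ≠ 2 := by
    rintro rfl
    exact (Nat.not_even_iff_odd.2 hodd) (even_iff_two_dvd.2 hqm)
  have : Fact q.Prime := ⟨hq⟩
  have huA : u ∈ A := by
    rw [hA, Subgroup.mem_comap, hu]; exact Subgroup.mem_zpowers _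
  have hqA : q ∣ Nat.card ↥A := by
    have h1 : orderOf hbar ∣ orderOf u := hu ▸ orderOf_map_dvd π u
    have h2 : orderOf (⟨u, huA⟩ : ↥A) ∣ Nat.card ↥A := orderOf_dvd_natCard _
    rw [Subgroup.orderOf_mk] at h2
    exact hqm.trans (h1.trans h2)
  let Q : Sylow q ↥A := default
  have hQne : (Q : Subgroup ↥A) ≠ ⊥ := Q.ne_bot_of_dvd_card hqA
  obtain ⟨⟨w, hwQ⟩, hw1⟩ := (Subgroup.ne_bot_iff_exists_ne_one).1 hQne
  have hw1' : w ≠ 1 := fun h => hw1 (Subtype.ext h)
  obtain ⟨a, ha⟩ := MulAction.exists_smul_eq ↥A Q (φ • Q)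
  have h1 : φ • w ∈ ((φ • Q : Sylow q ↥A) : Subgroup ↥A) := by
    rw [Sylow.pointwise_smul_def]; exact Subgroup.smul_mem_pointwise_smul _ _ _ hwQ
  rw [← ha, Sylow.smul_def, Sylow.pointwise_smul_def,
    Subgroup.mem_pointwise_smul_iff_inv_smul_mem] at h1
  set w₂ : ↥A := (MulAut.conj a)⁻¹ • φ • w with hw₂
  have hw₂G : (w₂ : G) = (a : G)⁻¹ * (t * (w : G) * t⁻¹) * (a : G) := by
    rw [hw₂, ← map_inv, MulAut.smul_def, MulAut.conj_apply, MulAut.smul_def]
    simp [φ]
  -- images in the quotient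
  have hπw : π (w : G) ∈ Subgroup.zpowers hbar := w.2
  have hπa : π (a : G) ∈ Subgroup.zpowers hbar := a.2
  have hπw₂ : π (w₂ : G) = (π (w : G))⁻¹ := by
    rw [hw₂G, map_mul, map_mul, map_inv, map_mul, map_mul, map_inv, ht, hinvz _ hπw]
    obtain ⟨i, hi⟩ := hπw
    obtain ⟨j, hj⟩ := hπa
    rw [← hi, ← hj, ← zpow_neg, ← zpow_neg, ← zpow_add, ← zpow_add]
    congr 1
    ring
  have hprodN : ((w₂ * w : ↥A) : G) ∈ N := by
    rw [← QuotientGroup.eq_one_iff]
    show π ((w₂ : G) * (w : G)) = 1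
    rw [map_mul, hπw₂, inv_mul_cancel]
  have hprodQ : w₂ * w ∈ (Q : Subgroup ↥A) := Subgroup.mul_mem _ h1 hwQ
  have hprod1 : w₂ * w = 1 := by
    obtain ⟨k, hk⟩ := Q.2 ⟨w₂ * w, hprodQ⟩
    obtain ⟨k', hk'⟩ := hN ⟨((w₂ * w : ↥A) : G), hprodN⟩
    have hk1 : ((w₂ * w : ↥A) : G) ^ (q ^ k) = 1 := by
      have := congrArg (fun x : ↥(Q : Subgroup ↥A) => ((x : ↥A) : G)) hk
      simpa using this
    have hk2 : ((w₂ * w : ↥A) : G) ^ (2 ^ k') = 1 := by
      have := congrArg (fun x : ↥N => (x : G)) hk'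
      simpa using this
    have hcop : Nat.Coprime (q ^ k) (2 ^ k') :=
      Nat.Coprime.pow _ _ ((Nat.coprime_primes hq Nat.prime_two).2 hq2)
    have h3 : orderOf ((w₂ * w : ↥A) : G) ∣ Nat.gcd (q ^ k) (2 ^ k') :=
      Nat.dvd_gcd (orderOf_dvd_of_pow_eq_one hk1) (orderOf_dvd_of_pow_eq_one hk2)
    rw [hcop.gcd_eq_one, Nat.dvd_one, orderOf_eq_one_iff] at h3
    exact Subtype.ext h3
  have hfinal : ((a : G)⁻¹ * t) * (w : G) * ((a : G)⁻¹ * t)⁻¹ = (w : G)⁻¹ := by
    have h4 : (w₂ : G) * (w : G) = 1 := by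
      have := congrArg (fun x : ↥A => (x : G)) hprod1
      simpa using this
    rw [hw₂G] at h4
    rw [eq_inv_iff_mul_eq_one, ← h4]
    group
  refine ⟨(w : G), ?_, ?_, isConj_iff.2 ⟨_, hfinal⟩⟩
  · intro h; exact hw1' (Subtype.ext h)
  · obtain ⟨k, hk⟩ := (IsPGroup.iff_orderOf.1 Q.2) ⟨w, hwQ⟩
    rw [Subgroup.orderOf_mk] at hk
    rw [Subgroup.orderOf_coe, hk]
    exact (hq.odd_of_ne_two hq2).pow


/-- A finite group G has no non-identity element of odd order that is conjugate to its inverse if and only if the Sylow 2-subgroups of G are normal. -/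
theorem result {G : Type*} [Group G] [Finite G] (P : Sylow 2 G) : (∀ x : G, x ≠ 1 → Odd (orderOf x) → ¬ IsConj x x⁻¹) ↔ (P : Subgroup G).Normal := by
  have : Fact (Nat.Prime 2) := ⟨Nat.prime_two⟩
  constructor
  · intro hreal
    set N := (P : Subgroup G).normalCore with hNdef
    have hNn : N.Normal := Subgroup.normalCore_normal _
    have hNP : N ≤ P := Subgroup.normalCore_le _
    have hN2 : IsPGroup 2 N := P.2.to_le hNP
    by_contra hPn
    have hne : ¬ ((P : Subgroup G) ≤ N) := by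
      intro h
      have : (P : Subgroup G) = N := le_antisymm h hNP
      exact hPn (this ▸ hNn)
    obtain ⟨x, hxP, hxN⟩ := SetLike.not_le_iff_exists.1 hne
    set xbar : G ⧸ N := QuotientGroup.mk' N x with hxbardef
    have hxbar : xbar ≠ 1 := by
      rw [Ne, hxbardef, QuotientGroup.mk'_apply, QuotientGroup.eq_one_iff]; exact hxN
    obtain ⟨k, hk⟩ : ∃ k, orderOf xbar = 2 ^ k := by
      obtain ⟨k', hk'⟩ := (IsPGroup.iff_orderOf.1 P.2) ⟨x, hxP⟩
      rw [Subgroup.orderOf_mk] at hk'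
      have : orderOf xbar ∣ 2 ^ k' := hk' ▸ orderOf_map_dvd (QuotientGroup.mk' N) x
      obtain ⟨i, _, hi⟩ := (Nat.dvd_prime_pow Nat.prime_two).1 this
      exact ⟨i, hi⟩
    have hk0 : k ≠ 0 := by
      rintro rfl
      rw [pow_zero, orderOf_eq_one_iff] at hk; exact hxbar hk
    obtain ⟨j, rfl⟩ := Nat.exists_eq_succ_of_ne_zero hk0
    set tbar := xbar ^ (2 ^ j) with htbar
    have htord : orderOf tbar = 2 := by
      rw [htbar, orderOf_pow_of_dvd (by positivity) (by rw [hk]; exact ⟨2, by rw [pow_succ]⟩), hk,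
        pow_succ]
      exact Nat.mul_div_cancel_left 2 (by positivity)
    have hO : ∀ M : Subgroup (G ⧸ N), M.Normal → IsPGroup 2 M → tbar ∉ M := by
      intro M hMn hM2 htM
      set M' := M.comap (QuotientGroup.mk' N) with hM'
      have hM'n : M'.Normal := hMn.comap _
      have hM'2 : IsPGroup 2 M' :=
        hM2.comap_of_ker_isPGroup _ (by rw [QuotientGroup.ker_mk']; exact hN2)
      have hM'P : M' ≤ P := by
        obtain ⟨Q, hQ⟩ := hM'2.exists_le_sylow
        obtain ⟨g, rfl⟩ := MulAction.exists_smul_eq G Q P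
        rw [Sylow.smul_def, Sylow.pointwise_smul_def]
        have h1 := (Subgroup.pointwise_smul_le_pointwise_smul_iff (a := MulAut.conj g)).2 hQ
        rwa [Subgroup.Normal.conj_smul_eq_self g M'] at h1
      have hM'N : M' ≤ N := Subgroup.normal_le_normalCore.2 hM'P
      have h1 : x ^ (2 ^ j) ∈ M' := by
        rw [hM', Subgroup.mem_comap, map_pow]; exact htM
      have h2 : tbar = 1 := by
        rw [htbar, hxbardef, ← map_pow, QuotientGroup.mk'_apply, QuotientGroup.eq_one_iff]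
        exact hM'N h1
      rw [h2, orderOf_one] at htord; omega
    obtain ⟨hbar, hh1, hhodd, hhinv⟩ := Cfsg.Agent.S0200.result tbar htord hO
    obtain ⟨w, hw1, hwodd, hwconj⟩ := lifting N hN2 tbar hbar hh1 hhodd hhinv
    exact hreal w hw1 hwodd hwconj
  · intro hPn x hx1 hxodd hconj
    obtain ⟨g, hg⟩ := isConj_iff.1 hconj
    set m := (P : Subgroup G).index with hm
    have hmodd : Odd m := by
      rw [← Nat.not_even_iff_odd, even_iff_two_dvd]; exact P.not_dvd_index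
    have hgm : g ^ m ∈ (P : Subgroup G) := by
      rw [← QuotientGroup.eq_one_iff (N := (P : Subgroup G)), QuotientGroup.mk_pow]
      have : Nat.card (G ⧸ (P : Subgroup G)) = m := (Subgroup.index_eq_card _).symm
      rw [← this]; exact pow_card_eq_one'
    have hinv : ∀ j : ℕ, g ^ (2 * j + 1) * x * (g ^ (2 * j + 1))⁻¹ = x⁻¹ := by
      intro j
      induction j with
      | zero => simpa using hg
      | succ j ih =>
        have e : g ^ (2 * (j + 1) + 1) = g * g * g ^ (2 * j + 1) := by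
          rw [show 2 * (j + 1) + 1 = 2 + (2 * j + 1) by ring, pow_add, pow_two]
        rw [e]
        calc g * g * g ^ (2 * j + 1) * x * (g * g * g ^ (2 * j + 1))⁻¹
            = g * (g * (g ^ (2 * j + 1) * x * (g ^ (2 * j + 1))⁻¹) * g⁻¹) * g⁻¹ := by group
          _ = g * (g * x⁻¹ * g⁻¹) * g⁻¹ := by rw [ih]
          _ = g * (g * x * g⁻¹)⁻¹ * g⁻¹ := by group
          _ = g * (x⁻¹)⁻¹ * g⁻¹ := by rw [hg]
          _ = x⁻¹ := by rw [inv_inv, hg]
    obtain ⟨j, hj⟩ := hmodd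
    have hgx := hinv j
    rw [← hj] at hgx
    have h2 : x⁻¹ * x⁻¹ ∈ (P : Subgroup G) := by
      have h3 : g ^ m * (x * (g ^ m)⁻¹ * x⁻¹) ∈ (P : Subgroup G) :=
        Subgroup.mul_mem _ hgm (hPn.conj_mem _ (Subgroup.inv_mem _ hgm) x)
      have e : g ^ m * (x * (g ^ m)⁻¹ * x⁻¹) = (g ^ m * x * (g ^ m)⁻¹) * x⁻¹ := by group
      rwa [e, hgx] at h3
    have h4 : x ^ 2 ∈ (P : Subgroup G) := by
      have := Subgroup.inv_mem _ h2
      simpa [pow_two] using this
    obtain ⟨k, hk⟩ := (IsPGroup.iff_orderOf.1 P.2) ⟨x ^ 2, h4⟩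
    rw [Subgroup.orderOf_mk] at hk
    have h5 : orderOf (x ^ 2) ∣ orderOf x := orderOf_pow_dvd 2
    have h6 : orderOf (x ^ 2) = 1 := by
      rcases Nat.eq_zero_or_pos k with rfl | hkpos
      · simpa using hk
      · exfalso
        have : 2 ∣ orderOf x := (dvd_pow_self 2 hkpos.ne').trans (hk ▸ h5)
        exact (Nat.not_even_iff_odd.2 hxodd) (even_iff_two_dvd.2 this)
    rw [orderOf_eq_one_iff] at h6
    have h7 : orderOf x ∣ 2 := orderOf_dvd_of_pow_eq_one h6
    have h8 : orderOf x = 1 := by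
      rcases (Nat.dvd_prime Nat.prime_two).1 h7 with h | h
      · exact h
      · exfalso; rw [h] at hxodd; exact absurd hxodd (by decide)
    exact hx1 (orderOf_eq_one_iff.1 h8)

end Cfsg.Agent.S3861
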