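import Cfsg.Statements.S3862
import Cfsg.Agent.Helper78.PNilpotent

set_option autoImplicit false

namespace Cfsg.Agent.S3862

open Subgroup

/-- If `y² = x²` then `x` inverts `x⁻¹ y`. -/
theorem conj_inv_mul_of_sq_eq {G : Type*} [Group G] {x y : G} (hxy : y ^ 2 = x ^ 2) :
    x * (x⁻¹ * y) * x⁻¹ = (x⁻¹ * y)⁻¹ := by
  have h1 : y * y = x * x := by simpa [pow_two] using hxy
  have h2 : y = y⁻¹ * x * x := by
    rw [mul_assoc, ← h1]; group
  calc x * (x⁻¹ * y) * x⁻¹ = y * x⁻¹ := by group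
    _ = (y⁻¹ * x * x) * x⁻¹ := by rw [← h2]
    _ = (x⁻¹ * y)⁻¹ := by group

/-- Key step: an odd-order element normalizing a `2`-subgroup `Q` centralizes it, when all real
`2`-elements are central. -/
theorem conj_eq_self {G : Type*} [Group G] [Finite G]
    (h : ∀ x : G, (∃ j : ℕ, orderOf x = 2 ^ j) → IsConj x x⁻¹ → x ∈ Subgroup.center G)
    (Q : Subgroup G) (hQ : IsPGroup 2 Q) (g : G) (hg : g ∈ normalizer (Q : Set G))
    (hcop : (orderOf g).Coprime 2) :
    ∀ n : ℕ, ∀ x ∈ Q, x ^ (2 ^ n) = 1 → g * x * g⁻¹ = x := by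
  intro n
  induction n with
  | zero =>
    intro x _ hx
    simp only [pow_zero, pow_one] at hx
    subst hx
    simp
  | succ n ih =>
    intro x hxQ hx
    have hx2 : g * x ^ 2 * g⁻¹ = x ^ 2 :=
      ih (x ^ 2) (pow_mem hxQ 2) (by rw [← pow_mul, ← pow_succ']; exact hx)
    have hyQ : g * x * g⁻¹ ∈ Q := (mem_normalizer_iff.mp hg x).mp hxQ
    have hy2 : (g * x * g⁻¹) ^ 2 = x ^ 2 := by rw [conj_pow]; exact hx2
    have hzQ : x⁻¹ * (g * x * g⁻¹) ∈ Q := mul_mem (inv_mem hxQ) hyQ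
    have hinv := conj_inv_mul_of_sq_eq hy2
    obtain ⟨j, hj⟩ := IsPGroup.iff_orderOf.mp hQ ⟨_, hzQ⟩
    rw [Subgroup.orderOf_mk] at hj
    have hzc : x⁻¹ * (g * x * g⁻¹) ∈ center G := h _ ⟨j, hj⟩ (isConj_iff.mpr ⟨x, hinv⟩)
    set z := x⁻¹ * (g * x * g⁻¹) with hz
    have hy : g * x * g⁻¹ = x * z := by rw [hz]; group
    have hzcomm : ∀ a : G, a * z = z * a := fun a => (mem_center_iff.mp hzc a)
    have hpow : ∀ k : ℕ, g ^ k * x * (g ^ k)⁻¹ = x * z ^ k := by
      intro k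
      induction k with
      | zero => simp
      | succ k ihk =>
        have hzk : g * z ^ k * g⁻¹ = z ^ k := by
          have : z ^ k ∈ center G := pow_mem hzc k
          rw [(mem_center_iff.mp this g), mul_inv_cancel_right]
        calc g ^ (k + 1) * x * (g ^ (k + 1))⁻¹
            = g * (g ^ k * x * (g ^ k)⁻¹) * g⁻¹ := by rw [pow_succ']; group
          _ = g * (x * z ^ k) * g⁻¹ := by rw [ihk]
          _ = (g * x * g⁻¹) * (g * z ^ k * g⁻¹) := by group
          _ = x * z * z ^ k := by rw [hy, hzk]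
          _ = x * z ^ (k + 1) := by rw [pow_succ', mul_assoc]
    have hk := hpow (orderOf g)
    rw [pow_orderOf_eq_one] at hk
    simp only [one_mul, inv_one, mul_one] at hk
    have hzk : z ^ orderOf g = 1 := by
      have := hk.symm
      rwa [mul_eq_left] at this
    have hd1 : orderOf z ∣ orderOf g := orderOf_dvd_of_pow_eq_one hzk
    have hd2 : orderOf z ∣ 2 ^ j := hj ▸ dvd_rfl
    have hone : orderOf z = 1 :=
      Nat.eq_one_of_dvd_coprimes (hcop.pow_right j) hd1 hd2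
    rw [orderOf_eq_one_iff] at hone
    rw [hy, hone, mul_one]

theorem result {G : Type*} [Group G] [Finite G] (h : ∀ x : G, (∃ j : ℕ, orderOf x = 2 ^ j) → IsConj x x⁻¹ → x ∈ Subgroup.center G) : Cfsg.HasNormalPComplement 2 G := by
  have : Fact (Nat.Prime 2) := ⟨Nat.prime_two⟩
  rw [Helper78.hasNormalPComplement_iff_frobHyp]
  intro Q hQ g hg hcop
  rw [mem_centralizer_iff]
  intro x hx
  obtain ⟨n, hn⟩ := hQ ⟨x, hx⟩
  have hxn : x ^ (2 ^ n) = 1 := by simpa using congrArg Subtype.val hn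
  have := conj_eq_self h Q hQ g hg hcop n x hx hxn
  calc x * g = (g * x * g⁻¹) * g := by rw [this]
    _ = g * x := by group

end Cfsg.Agent.S3862
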