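import Cfsg.Statements.S3863
import Mathlib

set_option autoImplicit false
open Cfsg

namespace Cfsg.Agent.S3863

lemma conj_pow_odd {G : Type*} [Group G] (g x : G) (h : g * x * g⁻¹ = x⁻¹) (m : ℕ) (hm : Odd m) :
    g ^ m * x * (g ^ m)⁻¹ = x⁻¹ := by
  obtain ⟨k, rfl⟩ := hm
  have h2 : g ^ 2 * x⁻¹ * (g ^ 2)⁻¹ = x⁻¹ := by
    have h' : g * x⁻¹ * g⁻¹ = x := by
      have := congrArg Inv.inv h
      simpa [mul_assoc] using this
    calc g ^ 2 * x⁻¹ * (g ^ 2)⁻¹ = g * (g * x⁻¹ * g⁻¹) * g⁻¹ := by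
          simp [pow_two, mul_assoc]
      _ = x⁻¹ := by rw [h', h]
  have h3 : ∀ k : ℕ, (g ^ 2) ^ k * x⁻¹ * ((g ^ 2) ^ k)⁻¹ = x⁻¹ := by
    intro k
    induction k with
    | zero => simp
    | succ n ih =>
      calc (g ^ 2) ^ (n + 1) * x⁻¹ * ((g ^ 2) ^ (n + 1))⁻¹
          = g ^ 2 * ((g ^ 2) ^ n * x⁻¹ * ((g ^ 2) ^ n)⁻¹) * (g ^ 2)⁻¹ := by
            rw [pow_succ']; simp [mul_assoc]
        _ = x⁻¹ := by rw [ih, h2]
  calc g ^ (2 * k + 1) * x * (g ^ (2 * k + 1))⁻¹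
      = (g ^ 2) ^ k * (g * x * g⁻¹) * ((g ^ 2) ^ k)⁻¹ := by
        rw [pow_succ, pow_mul]; simp [mul_assoc]
    _ = x⁻¹ := by rw [h, h3]

lemma exists_two_elt {G : Type*} [Group G] [Finite G] (x g : G) (h : g * x * g⁻¹ = x⁻¹) :
    ∃ t : G, (∃ j : ℕ, orderOf t = 2 ^ j) ∧ t * x * t⁻¹ = x⁻¹ := by
  have hpos : orderOf g ≠ 0 := (orderOf_pos g).ne'
  obtain ⟨j, m, hm, hjm⟩ := Nat.exists_eq_two_pow_mul_odd hpos
  refine ⟨g ^ m, ⟨j, ?_⟩, conj_pow_odd g x h m hm⟩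
  rw [orderOf_pow' g hm.pos.ne', hjm, Nat.gcd_eq_right (Dvd.intro_left _ rfl)]
  exact Nat.mul_div_cancel _ hm.pos

lemma real_odd {Q : Type*} [Group Q] [Finite Q] (hodd : Odd (Nat.card Q)) (y g : Q)
    (h : g * y * g⁻¹ = y⁻¹) : y = 1 := by
  obtain ⟨t, ⟨j, hj⟩, ht⟩ := exists_two_elt y g h
  have ht1 : t = 1 := by
    have hdvd : orderOf t ∣ Nat.card Q := orderOf_dvd_natCard t
    rw [hj] at hdvd
    have : j = 0 := by
      by_contra hj0
      have h2 : 2 ∣ Nat.card Q := dvd_trans (dvd_pow_self 2 hj0) hdvd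
      exact (Nat.not_even_iff_odd.mpr hodd) (even_iff_two_dvd.mpr h2)
    rw [this, pow_zero] at hj
    exact orderOf_eq_one_iff.mp hj
  rw [ht1] at ht
  simp at ht
  have hy2 : y ^ 2 = 1 := by
    rw [pow_two]
    calc y * y = y * y⁻¹ := by rw [← ht]
      _ = 1 := mul_inv_cancel y
  have hdvd2 : orderOf y ∣ 2 := orderOf_dvd_of_pow_eq_one hy2
  have hdvd : orderOf y ∣ Nat.card Q := orderOf_dvd_natCard y
  have hcop : Nat.Coprime (Nat.card Q) 2 := Nat.Coprime.symm (Nat.coprime_two_left.mpr hodd)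
  have : orderOf y ∣ 1 := by
    have := Nat.dvd_gcd hdvd hdvd2
    rwa [hcop] at this
  exact orderOf_eq_one_iff.mp (Nat.dvd_one.mp this)

theorem result {G : Type*} [Group G] [Finite G] (x : G) (hx : IsConj x x⁻¹) : (∃ t : G, (∃ j : ℕ, orderOf t = 2 ^ j) ∧ t * x * t⁻¹ = x⁻¹) ∧ (Odd (Subgroup.centralizer ({x} : Set G)).index → x ^ 2 = 1) ∧ ∀ (N : Subgroup G) [N.Normal], Odd N.index → ∃ hxN : x ∈ N, IsConj (⟨x, hxN⟩ : N) (⟨x, hxN⟩ : N)⁻¹ := by
  obtain ⟨g, hg⟩ := isConj_iff.mp hx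
  obtain ⟨t, ⟨j, hj⟩, ht⟩ := exists_two_elt x g hg
  refine ⟨⟨t, ⟨j, hj⟩, ht⟩, ?_, ?_⟩
  · intro hodd
    classical
    have hcard : Nat.card (MulAction.orbit (ConjAct G) x) = (Subgroup.centralizer ({x} : Set G)).index := by
      rw [Nat.card_coe_set_eq, ← MulAction.index_stabilizer, Subgroup.centralizer_eq_comap_stabilizer]
      exact (Subgroup.index_comap_of_surjective _ (ConjAct.toConjAct.surjective)).symm
    have hmem : ∀ y : G, y ∈ MulAction.orbit (ConjAct G) x → y⁻¹ ∈ MulAction.orbit (ConjAct G) x := by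
      intro y hy
      rw [ConjAct.mem_orbit_conjAct] at hy ⊢
      have h1 : IsConj y⁻¹ x⁻¹ := by
        obtain ⟨c, hc⟩ := isConj_iff.mp hy
        exact isConj_iff.mpr ⟨c, by rw [← hc]; simp [mul_assoc]⟩
      exact h1.trans hx.symm
    let f : MulAction.orbit (ConjAct G) x → MulAction.orbit (ConjAct G) x := fun y => ⟨(y : G)⁻¹, hmem y y.2⟩
    have hf : Function.Involutive f := by
      intro y
      apply Subtype.ext
      simp [f]
    have : Fintype (MulAction.orbit (ConjAct G) x) := Fintype.ofFinite _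
    have hnd : ¬ 2 ∣ Fintype.card (MulAction.orbit (ConjAct G) x) := by
      rw [← Nat.card_eq_fintype_card, hcard]
      exact fun h => (Nat.not_even_iff_odd.mpr hodd) (even_iff_two_dvd.mpr h)
    have : Fact (Nat.Prime 2) := ⟨Nat.prime_two⟩
    obtain ⟨a, ha⟩ := Equiv.Perm.exists_fixed_point_of_prime (p := 2) (n := 1) hnd (σ := hf.toPerm) (by
      ext y
      simp [pow_two, hf y])
    have ha' : (a : G)⁻¹ = a := by
      have := congrArg Subtype.val ha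
      simpa [f] using this
    have ha2 : (a : G) ^ 2 = 1 := by
      rw [pow_two]
      calc (a : G) * a = (a : G) * (a : G)⁻¹ := by rw [ha']
        _ = 1 := mul_inv_cancel _
    have hax : IsConj (a : G) x := ConjAct.mem_orbit_conjAct.mp a.2
    obtain ⟨c, hc⟩ := isConj_iff.mp hax
    rw [← hc]
    simp [conj_pow, ha2]
  · intro N _ hodd
    have hQ : Odd (Nat.card (G ⧸ N)) := by rwa [← Subgroup.index_eq_card]
    have hxN : x ∈ N := by
      rw [← QuotientGroup.eq_one_iff]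
      apply real_odd hQ (x : G ⧸ N) (g : G ⧸ N)
      rw [← QuotientGroup.mk_inv, ← QuotientGroup.mk_mul, ← QuotientGroup.mk_mul, hg,
        QuotientGroup.mk_inv]
    have htN : t ∈ N := by
      rw [← QuotientGroup.eq_one_iff]
      have hdvd : orderOf (t : G ⧸ N) ∣ 2 ^ j := by
        rw [← hj]
        exact orderOf_map_dvd (QuotientGroup.mk' N) t
      have hdvd' : orderOf (t : G ⧸ N) ∣ Nat.card (G ⧸ N) := orderOf_dvd_natCard _
      have hcop : Nat.Coprime (2 ^ j) (Nat.card (G ⧸ N)) :=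
        Nat.Coprime.pow_left j (Nat.coprime_two_left.mpr hQ)
      have : orderOf (t : G ⧸ N) ∣ 1 := by
        have := Nat.dvd_gcd hdvd hdvd'
        rwa [hcop] at this
      exact orderOf_eq_one_iff.mp (Nat.dvd_one.mp this)
    refine ⟨hxN, isConj_iff.mpr ⟨⟨t, htN⟩, ?_⟩⟩
    apply Subtype.ext
    simpa using ht

end Cfsg.Agent.S3863
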