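import Cfsg.Statements.S3864
import Cfsg.Agent.Helper64.DihedralSylow
import Cfsg.Agent.Helper2.PComplement
import Cfsg.Agent.S0111

set_option autoImplicit false
open Cfsg

namespace Cfsg.Agent.S3864

open Subgroup DihedralGroup Cfsg.Agent.Helper64

variable {G : Type*} [Group G] [Finite G]

theorem sylow_sup_eq_top {p : ℕ} [Fact p.Prime] (P : Sylow p G) (K : Subgroup G) {j : ℕ}
    (hK : K.index = p ^ j) : (P : Subgroup G) ⊔ K = ⊤ := by
  rw [← Subgroup.index_eq_one]
  have h1 : ((P : Subgroup G) ⊔ K).index ∣ (P : Subgroup G).index :=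
    Subgroup.index_dvd_of_le le_sup_left
  have h2 : ((P : Subgroup G) ⊔ K).index ∣ p ^ j := hK ▸ Subgroup.index_dvd_of_le le_sup_right
  have hcop : ((P : Subgroup G).index).Coprime (p ^ j) :=
    Nat.Coprime.pow_right j ((Nat.Prime.coprime_iff_not_dvd Fact.out).mpr P.not_dvd_index).symm
  exact Nat.eq_one_of_dvd_coprimes hcop h1 h2

/-- If a normal subgroup of `2`-power index meets the Sylow `2`-subgroup in a cyclic group, then
`G` has a normal `2`-complement. -/
theorem hasNormalPComplement_of_inf_le_zpowers (P : Sylow 2 G) (N : Subgroup G) [N.Normal] {k : ℕ}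
    (hN : N.index = 2 ^ k) (x : G) (hx : (P : Subgroup G) ⊓ N ≤ zpowers x) :
    Cfsg.HasNormalPComplement 2 G := by
  have : Fact (Nat.Prime 2) := ⟨Nat.prime_two⟩
  apply Helper53.hasNormalPComplement_of_normal_of_index_pow N k hN
  apply Helper53.hasNormalPComplement_two_of_isCyclic (Helper53.sylowInfNormal P N)
  change IsCyclic ↥((P : Subgroup G).subgroupOf N)
  let f : ↥((P : Subgroup G).subgroupOf N) →* ↥(zpowers x) :=
    { toFun := fun y => ⟨((y : N) : G), hx (Subgroup.mem_inf.mpr ⟨y.2, (y : N).2⟩)⟩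
      map_one' := rfl
      map_mul' := fun _ _ => rfl }
  have hf : Function.Injective f := by
    intro y₁ y₂ h
    have h1 : ((y₁ : N) : G) = ((y₂ : N) : G) :=
      congrArg (fun w : ↥(zpowers x) => (w : G)) h
    exact Subtype.ext (Subtype.ext h1)
  exact isCyclic_of_injective f hf

section Dih

variable {m : ℕ} [NeZero m] (P : Sylow 2 G) (e : ↥(P : Subgroup G) ≃* DihedralGroup m)

theorem inf_le_zpowers_of_index_two (M : Subgroup G) (hM2 : M.index = 2) (ha : dihA e ∈ M) :
    (P : Subgroup G) ⊓ M ≤ zpowers (dihA e) := by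
  intro x hx
  obtain ⟨hxP, hxM⟩ := Subgroup.mem_inf.mp hx
  rcases mem_cases e hxP with ⟨k, rfl⟩ | ⟨k, rfl⟩
  · exact pow_mem (mem_zpowers _) k
  · exfalso
    have hb : dihB e ∈ M := by
      have := mul_mem hxM (inv_mem (pow_mem ha k))
      simpa using this
    have hPM : (P : Subgroup G) ≤ M := by
      intro y hy
      rcases mem_cases e hy with ⟨j, rfl⟩ | ⟨j, rfl⟩
      · exact pow_mem ha j
      · exact mul_mem hb (pow_mem ha j)
    have := Subgroup.index_dvd_of_le hPM
    rw [hM2] at this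
    exact P.not_dvd_index this

theorem inf_le_zpowers_of_index_four (K : Subgroup G) [K.Normal] (hK4 : K.index = 4) :
    (P : Subgroup G) ⊓ K ≤ zpowers (dihA e) := by
  have : Fact (Nat.Prime 2) := ⟨Nat.prime_two⟩
  intro x hx
  obtain ⟨hxP, hxK⟩ := Subgroup.mem_inf.mp hx
  rcases mem_cases e hxP with ⟨k, rfl⟩ | ⟨k, rfl⟩
  · exact pow_mem (mem_zpowers _) k
  · exfalso
    have hcard : Nat.card (G ⧸ K) = 2 ^ 2 := by rw [← Subgroup.index_eq_card, hK4]; norm_num
    have hcomm : ∀ u v : G ⧸ K, u * v = v * u :=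
      (IsPGroup.isMulCommutative_of_card_eq_prime_sq hcard).is_comm.comm
    set ab : G ⧸ K := QuotientGroup.mk (dihA e) with hab
    have hab2 : ab ^ 2 = 1 := by
      have h1 : (QuotientGroup.mk (dihB e * dihA e * (dihB e)⁻¹) : G ⧸ K) = ab⁻¹ := by
        rw [dihB_conj_dihA]; rfl
      have h2 : (QuotientGroup.mk (dihB e * dihA e * (dihB e)⁻¹) : G ⧸ K) = ab := by
        rw [QuotientGroup.mk_mul, QuotientGroup.mk_mul, QuotientGroup.mk_inv,
          hcomm (QuotientGroup.mk (dihB e)) (QuotientGroup.mk (dihA e)), mul_assoc,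
          mul_inv_cancel, mul_one]
      rw [pow_two]
      nth_rewrite 1 [← h2]
      rw [h1, inv_mul_cancel]
    have hbmk : (QuotientGroup.mk (dihB e) : G ⧸ K) = (ab ^ k)⁻¹ := by
      have h1 : (QuotientGroup.mk (dihB e * dihA e ^ k) : G ⧸ K) = 1 :=
        (QuotientGroup.eq_one_iff _).mpr hxK
      rw [QuotientGroup.mk_mul, QuotientGroup.mk_pow] at h1
      exact eq_inv_of_mul_eq_one_left h1
    have htop : zpowers ab = ⊤ := by
      rw [eq_top_iff]
      rintro q -
      obtain ⟨g, rfl⟩ := QuotientGroup.mk_surjective q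
      have hg : g ∈ (P : Subgroup G) ⊔ K := by
        rw [sylow_sup_eq_top P K (j := 2) (by rw [hK4]; norm_num)]; trivial
      obtain ⟨t, ht, c, hc, rfl⟩ := Subgroup.mem_sup_of_normal_right.mp hg
      rw [QuotientGroup.mk_mul, (QuotientGroup.eq_one_iff c).mpr hc, mul_one]
      rcases mem_cases e ht with ⟨j, rfl⟩ | ⟨j, rfl⟩
      · rw [QuotientGroup.mk_pow]; exact pow_mem (mem_zpowers _) j
      · rw [QuotientGroup.mk_mul, QuotientGroup.mk_pow, hbmk]
        exact mul_mem (inv_mem (pow_mem (mem_zpowers _) k)) (pow_mem (mem_zpowers _) j)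
    have h4 : Nat.card (zpowers ab) = 2 ^ 2 := by rw [htop, Subgroup.card_top, hcard]
    rw [Nat.card_zpowers] at h4
    have h5 : orderOf ab ∣ 2 := orderOf_dvd_of_pow_eq_one hab2
    have := Nat.le_of_dvd two_pos h5
    omega

end Dih

omit [Finite G] in
/-- With a normal complement to the Sylow subgroup `P`, fusion in `P` is controlled by `P`. -/
theorem conj_in_sylow_of_complement {p : ℕ} (P : Sylow p G) (O : Subgroup G) [hOn : O.Normal]
    (hO : O.IsComplement' (P : Subgroup G)) {u v g : G} (hu : u ∈ (P : Subgroup G))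
    (hv : v ∈ (P : Subgroup G)) (h : g * u * g⁻¹ = v) :
    ∃ t ∈ (P : Subgroup G), t * u * t⁻¹ = v := by
  obtain ⟨⟨⟨o, ho⟩, ⟨t, ht⟩⟩, hot⟩ := hO.2 g
  simp only at hot
  refine ⟨t, ht, ?_⟩
  have hw : t * u * t⁻¹ ∈ (P : Subgroup G) := mul_mem (mul_mem ht hu) (inv_mem ht)
  have h1 : v * (t * u * t⁻¹)⁻¹ ∈ O := by
    have hv' : v = o * (t * u * t⁻¹) * o⁻¹ := by rw [← h, ← hot]; group
    have h2 : (t * u * t⁻¹) * o⁻¹ * (t * u * t⁻¹)⁻¹ ∈ O := hOn.conj_mem _ (inv_mem ho) _
    have h3 : v * (t * u * t⁻¹)⁻¹ = o * ((t * u * t⁻¹) * o⁻¹ * (t * u * t⁻¹)⁻¹) := by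
      rw [hv']; group
    rw [h3]; exact mul_mem ho h2
  have h2 : v * (t * u * t⁻¹)⁻¹ ∈ (P : Subgroup G) := mul_mem hv (inv_mem hw)
  have h3 : v * (t * u * t⁻¹)⁻¹ ∈ O ⊓ (P : Subgroup G) := Subgroup.mem_inf.mpr ⟨h1, h2⟩
  rw [disjoint_iff.mp hO.disjoint, Subgroup.mem_bot] at h3
  exact (mul_inv_eq_one.mp h3).symm

theorem exists_conj_mem_sylow (P : Sylow 2 G) {g : G} (hg : orderOf g = 2) :
    ∃ y : G, y * g * y⁻¹ ∈ (P : Subgroup G) := by
  have : Fact (Nat.Prime 2) := ⟨Nat.prime_two⟩
  have hpg : IsPGroup 2 (zpowers g) :=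
    IsPGroup.of_card (n := 1) (by rw [Nat.card_zpowers, hg, pow_one])
  obtain ⟨y, hy⟩ := exists_le_map_conj_of_not_dvd_index (zpowers g) hpg P P.not_dvd_index
  have := (mem_map_conj _ _ _).mp (hy (mem_zpowers g))
  exact ⟨y⁻¹, by simpa using this⟩

/-- Two distinct normal subgroups of index two meet in a subgroup of index four. -/
theorem index_inf_of_index_two {M M' : Subgroup G} [M.Normal] [M'.Normal] (hM : M.index = 2)
    (hM' : M'.index = 2) (hne : M ≠ M') : (M ⊓ M').index = 4 := by
  have hsup : M ⊔ M' = ⊤ := by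
    rw [← Subgroup.index_eq_one]
    have h1 : (M ⊔ M').index ∣ 2 := hM ▸ Subgroup.index_dvd_of_le le_sup_left
    rcases (Nat.dvd_prime Nat.prime_two).mp h1 with h | h
    · exact h
    · exfalso
      have e1 : M = M ⊔ M' := by
        apply Subgroup.eq_of_le_of_card_ge le_sup_left
        have h3 := M.card_mul_index
        have h4 := (M ⊔ M').card_mul_index
        rw [hM] at h3; rw [h] at h4
        omega
      have e2 : M' = M ⊔ M' := by
        apply Subgroup.eq_of_le_of_card_ge le_sup_right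
        have h3 := M'.card_mul_index
        have h4 := (M ⊔ M').card_mul_index
        rw [hM'] at h3; rw [h] at h4
        omega
      exact hne (e1.trans e2.symm)
  have h1 : M'.relIndex M = 2 := by
    rw [← Subgroup.relIndex_sup_right, hsup, Subgroup.relIndex_top_right, hM']
  have h2 : (M ⊓ M').relIndex M * M.index = (M ⊓ M').index :=
    Subgroup.relIndex_mul_index inf_le_left
  rw [Subgroup.inf_relIndex_left, h1, hM] at h2
  omega


omit [Finite G] in
theorem classes_eq {z b c : G} (hz : orderOf z = 2) (hb : orderOf b = 2) (hc : orderOf c = 2)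
    (hall : ∀ g : G, orderOf g = 2 → ConjClasses.mk g = ConjClasses.mk z ∨
      ConjClasses.mk g = ConjClasses.mk b ∨ ConjClasses.mk g = ConjClasses.mk c) :
    {C : ConjClasses G | ∃ g : G, ConjClasses.mk g = C ∧ orderOf g = 2} =
      {ConjClasses.mk z, ConjClasses.mk b, ConjClasses.mk c} := by
  ext C
  constructor
  · rintro ⟨g, rfl, hg⟩
    rcases hall g hg with h | h | h
    · rw [h]; exact Set.mem_insert _ _
    · rw [h]; exact Set.mem_insert_of_mem _ (Set.mem_insert _ _)
    · rw [h]; exact Set.mem_insert_of_mem _ (Set.mem_insert_of_mem _ rfl)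
  · intro hC
    rcases hC with rfl | rfl | rfl
    · exact ⟨z, rfl, hz⟩
    · exact ⟨b, rfl, hb⟩
    · exact ⟨c, rfl, hc⟩

omit [Finite G] in
theorem card_classes (S : Set (ConjClasses G)) :
    Nat.card {C : ConjClasses G // C ∈ S} = S.ncard := Nat.card_coe_set_eq S

omit [Finite G] in
theorem mk_eq_of_conj {u v g : G} (h : g * u * g⁻¹ = v) : ConjClasses.mk u = ConjClasses.mk v :=
  ConjClasses.mk_eq_mk_iff_isConj.mpr (isConj_iff.mpr ⟨g, h⟩)

omit [Finite G] in
theorem mem_of_mk_eq {M : Subgroup G} [hM : M.Normal] {u v : G}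
    (h : ConjClasses.mk u = ConjClasses.mk v) (hv : v ∈ M) : u ∈ M := by
  obtain ⟨g, hg⟩ := isConj_iff.mp (ConjClasses.mk_eq_mk_iff_isConj.mp h)
  have := hM.conj_mem v hv g⁻¹
  rw [← hg] at this
  have h2 : g⁻¹ * (g * u * g⁻¹) * g⁻¹⁻¹ = u := by group
  rwa [h2] at this


/-- Let G be a finite group whose Sylow 2-subgroups are dihedral of order 2 ^ n with n ≥ 3, and count the conjugacy classes of involutions of G. Then exactly one of the following holds: there is one class of involutions and no normal subgroup of index 2; there are two classes of involutions, a normal subgroup of index 2 and none of index 4; there are three classes of involutions and G has a normal 2-complement. -/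
theorem result {G : Type*} [Group G] [Finite G] (P : Sylow 2 G) (n : ℕ) (hn : 3 ≤ n) (hdih : Nonempty (↥(P : Subgroup G) ≃* DihedralGroup (2 ^ (n - 1)))) : (Nat.card {C : ConjClasses G // ∃ g : G, ConjClasses.mk g = C ∧ orderOf g = 2} = 1 ∧ ∀ N : Subgroup G, N.Normal → N.index ≠ 2) ∨ (Nat.card {C : ConjClasses G // ∃ g : G, ConjClasses.mk g = C ∧ orderOf g = 2} = 2 ∧ (∃ N : Subgroup G, N.Normal ∧ N.index = 2) ∧ ∀ N : Subgroup G, N.Normal → N.index ≠ 4) ∨ (Nat.card {C : ConjClasses G // ∃ g : G, ConjClasses.mk g = C ∧ orderOf g = 2} = 3 ∧ Cfsg.HasNormalPComplement 2 G) := by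
  have hp2 : Fact (Nat.Prime 2) := ⟨Nat.prime_two⟩
  obtain ⟨e⟩ := hdih
  obtain ⟨k, hk⟩ : ∃ k, n - 1 = k + 2 := ⟨n - 3, by omega⟩
  have hm2 : 2 ∣ 2 ^ (n - 1) := dvd_pow_self 2 (by omega)
  have hm4 : 4 ∣ 2 ^ (n - 1) := by rw [hk, pow_add]; exact Dvd.intro_left _ rfl
  have hne : NeZero (2 ^ (n - 1)) := ⟨by positivity⟩
  have hz2 := orderOf_dihZ e hm2
  have hb2 := orderOf_dihB e
  have hc2 := orderOf_dihB_mul_dihA e
  -- every involution is conjugate to one of three representatives
  have hall : ∀ g : G, orderOf g = 2 → ConjClasses.mk g = ConjClasses.mk (dihZ e) ∨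
      ConjClasses.mk g = ConjClasses.mk (dihB e) ∨
      ConjClasses.mk g = ConjClasses.mk (dihB e * dihA e) := by
    intro g hg
    obtain ⟨y, hy⟩ := exists_conj_mem_sylow P hg
    have hy2 : orderOf (y * g * y⁻¹) = 2 := by
      have := MulEquiv.orderOf_eq (MulAut.conj y) g
      rw [MulAut.conj_apply] at this
      rw [this, hg]
    rcases involution_cases e hm2 hy hy2 with h | ⟨t, ht, h⟩ | ⟨t, ht, h⟩
    · exact Or.inl (mk_eq_of_conj h)
    · refine Or.inr (Or.inl (mk_eq_of_conj (g := t⁻¹ * y) ?_))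
      have h1 : dihB e = t⁻¹ * (y * g * y⁻¹) * t := by rw [← h]; group
      rw [h1]; group
    · refine Or.inr (Or.inr (mk_eq_of_conj (g := t⁻¹ * y) ?_))
      have h1 : dihB e * dihA e = t⁻¹ * (y * g * y⁻¹) * t := by rw [← h]; group
      rw [h1]; group
  have hset := classes_eq hz2 hb2 hc2 hall
  have hcard : Nat.card {C : ConjClasses G // ∃ g : G, ConjClasses.mk g = C ∧ orderOf g = 2} =
      ({ConjClasses.mk (dihZ e), ConjClasses.mk (dihB e), ConjClasses.mk (dihB e * dihA e)} :
        Set (ConjClasses G)).ncard := by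
    rw [← hset]
    exact card_classes _
  rw [hcard]
  by_cases hNC : Cfsg.HasNormalPComplement 2 G
  · -- three classes
    right; right
    refine ⟨?_, hNC⟩
    obtain ⟨O, hOn, hOc⟩ := (Helper2.hasNormalPComplement_iff P).mp hNC
    have h1 : ConjClasses.mk (dihZ e) ≠ ConjClasses.mk (dihB e) := by
      intro h
      obtain ⟨g, hg⟩ := isConj_iff.mp (ConjClasses.mk_eq_mk_iff_isConj.mp h)
      obtain ⟨t, ht, htz⟩ := conj_in_sylow_of_complement P O hOc (dihZ_mem e) (dihB_mem e) hg
      rw [dihZ_comm e hm2 ht] at htz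
      exact dihZ_ne_dihB e htz
    have h2 : ConjClasses.mk (dihZ e) ≠ ConjClasses.mk (dihB e * dihA e) := by
      intro h
      obtain ⟨g, hg⟩ := isConj_iff.mp (ConjClasses.mk_eq_mk_iff_isConj.mp h)
      obtain ⟨t, ht, htz⟩ := conj_in_sylow_of_complement P O hOc (dihZ_mem e)
        (mul_mem (dihB_mem e) (dihA_mem e)) hg
      rw [dihZ_comm e hm2 ht] at htz
      exact dihZ_ne_dihB_mul_dihA e htz
    have h3 : ConjClasses.mk (dihB e) ≠ ConjClasses.mk (dihB e * dihA e) := by
      intro h
      obtain ⟨g, hg⟩ := isConj_iff.mp (ConjClasses.mk_eq_mk_iff_isConj.mp h)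
      obtain ⟨t, ht, htz⟩ := conj_in_sylow_of_complement P O hOc (dihB_mem e)
        (mul_mem (dihB_mem e) (dihA_mem e)) hg
      exact dihB_not_conj e hm2 ht htz
    exact Set.ncard_eq_three.mpr ⟨_, _, _, h1, h2, h3, rfl⟩
  · -- no normal 2-complement
    have ha : ∀ M : Subgroup G, M.Normal → M.index = 2 → dihA e ∉ M := by
      intro M hMn hM2 haM
      exact hNC (hasNormalPComplement_of_inf_le_zpowers P M (k := 1) (by rw [hM2, pow_one])
        (dihA e) (inf_le_zpowers_of_index_two P e M hM2 haM))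
    have h4 : ∀ K : Subgroup G, K.Normal → K.index ≠ 4 := by
      intro K hKn hK4
      exact hNC (hasNormalPComplement_of_inf_le_zpowers P K (k := 2) (by rw [hK4]; norm_num)
        (dihA e) (inf_le_zpowers_of_index_four P e K hK4))
    -- Thompson transfer with the cyclic maximal subgroup
    have hrel : (zpowers (dihA e)).relIndex (P : Subgroup G) = 2 := by
      have h1 := Subgroup.relIndex_mul_relIndex (⊥ : Subgroup G) (zpowers (dihA e))
        (P : Subgroup G) bot_le (zpowers_dihA_le e)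
      rw [Subgroup.relIndex_bot_left, Subgroup.relIndex_bot_left, Nat.card_zpowers,
        orderOf_dihA, Nat.card_congr e.toEquiv, DihedralGroup.nat_card] at h1
      have hpos : 0 < 2 ^ (n - 1) := by positivity
      nlinarith
    have hT : ∀ u : G, u ∈ (P : Subgroup G) → orderOf u = 2 → u ∉ zpowers (dihA e) →
        (∃ M : Subgroup G, M.Normal ∧ M.index = 2 ∧ u ∉ M) ∨
          ConjClasses.mk u = ConjClasses.mk (dihZ e) := by
      intro u huP hu2 hunot
      rcases Cfsg.Agent.S0111.result P (zpowers (dihA e)) (zpowers_dihA_le e) hrel u hu2 huP hunot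
        with h | ⟨g, hg⟩
      · exact Or.inl h
      · right
        have ho : orderOf (g * u * g⁻¹) = 2 := by
          have := MulEquiv.orderOf_eq (MulAut.conj g) u
          rw [MulAut.conj_apply] at this
          rw [this, hu2]
        exact mk_eq_of_conj (eq_dihZ_of_mem_zpowers e hm2 hg ho)
    have hTb := hT (dihB e) (dihB_mem e) hb2 (dihB_not_mem_zpowers e)
    have hTc := hT (dihB e * dihA e) (mul_mem (dihB_mem e) (dihA_mem e)) hc2
      (dihB_mul_dihA_not_mem_zpowers e)
    by_cases h2 : ∃ M : Subgroup G, M.Normal ∧ M.index = 2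
    · -- two classes
      right; left
      obtain ⟨M, hMn, hM2⟩ := h2
      refine ⟨?_, ⟨M, hMn, hM2⟩, h4⟩
      have haM := ha M hMn hM2
      have hzM : dihZ e ∈ M := by
        have h1 : dihZ e = dihA e ^ (2 ^ (n - 1) / 2) := (dihA_pow e _).symm
        obtain ⟨j, hj⟩ := hm4
        have h3 : 2 ^ (n - 1) / 2 = 2 * j := by omega
        rw [h1, h3, pow_mul]
        exact pow_mem (Subgroup.sq_mem_of_index_two hM2 _) j
      have hbc : dihB e * dihA e ∈ M ↔ ¬ dihB e ∈ M := by
        rw [Subgroup.mul_mem_iff_of_index_two hM2]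
        constructor
        · intro h hb; exact haM (h.mp hb)
        · intro h; exact ⟨fun hb => absurd hb h, fun ha' => absurd ha' haM⟩
      have huniq : ∀ M' : Subgroup G, M'.Normal → M'.index = 2 → M' = M := by
        intro M' hM'n hM'2
        by_contra hne'
        exact h4 (M' ⊓ M) inferInstance (index_inf_of_index_two hM'2 hM2 hne')
      by_cases hbM : dihB e ∈ M
      · have hcM : dihB e * dihA e ∉ M := fun h => (hbc.mp h) hbM
        have hbz : ConjClasses.mk (dihB e) = ConjClasses.mk (dihZ e) := by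
          rcases hTb with ⟨M', hM'n, hM'2, hbM'⟩ | h
          · exact absurd (huniq M' hM'n hM'2 ▸ hbM) hbM'
          · exact h
        have hcz : ConjClasses.mk (dihZ e) ≠ ConjClasses.mk (dihB e * dihA e) :=
          fun h => hcM (mem_of_mk_eq h.symm hzM)
        rw [hbz, Set.insert_eq_of_mem (Set.mem_insert _ _)]
        exact Set.ncard_pair hcz
      · have hcM : dihB e * dihA e ∈ M := hbc.mpr hbM
        have hcz : ConjClasses.mk (dihB e * dihA e) = ConjClasses.mk (dihZ e) := by
          rcases hTc with ⟨M', hM'n, hM'2, hcM'⟩ | h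
          · exact absurd (huniq M' hM'n hM'2 ▸ hcM) hcM'
          · exact h
        have hbz : ConjClasses.mk (dihZ e) ≠ ConjClasses.mk (dihB e) :=
          fun h => hbM (mem_of_mk_eq h.symm hzM)
        rw [hcz, Set.pair_comm (ConjClasses.mk (dihB e)) (ConjClasses.mk (dihZ e)),
          Set.insert_eq_of_mem (Set.mem_insert _ _)]
        exact Set.ncard_pair hbz
    · -- one class
      left
      have h2' : ∀ N : Subgroup G, N.Normal → N.index ≠ 2 := fun N hN hN2 => h2 ⟨N, hN, hN2⟩
      refine ⟨?_, h2'⟩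
      have hbz : ConjClasses.mk (dihB e) = ConjClasses.mk (dihZ e) := by
        rcases hTb with ⟨M', hM'n, hM'2, -⟩ | h
        · exact absurd hM'2 (h2' M' hM'n)
        · exact h
      have hcz : ConjClasses.mk (dihB e * dihA e) = ConjClasses.mk (dihZ e) := by
        rcases hTc with ⟨M', hM'n, hM'2, -⟩ | h
        · exact absurd hM'2 (h2' M' hM'n)
        · exact h
      rw [hbz, hcz]
      simp

end Cfsg.Agent.S3864
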